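import Groth.Agent.Lib.RelFP
import Groth.Prelude.Def_FlatCA
import Mathlib.RingTheory.LocalProperties.FinitePresentation
import Mathlib.RingTheory.Localization.Module
import Mathlib.RingTheory.Localization.Away.Basic
import Mathlib.RingTheory.RingHom.FinitePresentation

/-!
# helper72: relative finite presentation (`FlatCA.RelFinitePresentation`), algebra toolkit

* `RelFPHom ψ M`: ring-hom form; `relFinitePresentation_iff`.
* `relFPHom_iff_fpVia`: test on ANY f.p. `R`-algebra `T` surjecting onto `B`.
* `awayLift`, `fpVia_awayLift_iff`: localization at one element.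
* `RelFPHom.localization`, `fpVia_of_localizationSpan` (glueing).
-/

set_option autoImplicit false
set_option linter.style.haveILetI false
universe u

namespace Groth.Agent.Lib.H72RelFP

open Groth.Agent.Lib.RelFP

/-- Relative finite presentation, in ring-hom form. -/
def RelFPHom {R B : Type*} [CommRing R] [CommRing B] (ψ : R →+* B) (M : Type*)
    [AddCommGroup M] [Module B M] : Prop :=
  ∃ (n : ℕ) (α : MvPolynomial (Fin n) R →+* B), α.comp MvPolynomial.C = ψ ∧
    Function.Surjective α ∧ FPVia α M

theorem relFinitePresentation_iff {R S N : Type u} [CommRing R] [CommRing S] [Algebra R S]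
    [AddCommGroup N] [Module S N] :
    FlatCA.RelFinitePresentation R S N ↔ RelFPHom (algebraMap R S) N := by
  constructor
  · rintro ⟨n, φ, hφ, h⟩
    refine ⟨n, φ.toRingHom, ?_, hφ, h⟩
    ext r
    simp
  · rintro ⟨n, α, hα, hs, h⟩
    refine ⟨n, { α with commutes' := fun r => ?_ }, hs, h⟩
    rw [← hα]
    rfl

/-- **Key lemma**: relative finite presentation can be tested on any finitely presented
`R`-algebra `T` surjecting onto `B`. -/
theorem relFPHom_iff_fpVia {R T B : Type*} [CommRing R] [CommRing T] [CommRing B]
    (ψ : R →+* B) (ι : R →+* T) (hι : ι.FinitePresentation) (τ : T →+* B)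
    (hτ : Function.Surjective τ) (hc : τ.comp ι = ψ) (M : Type*) [AddCommGroup M] [Module B M] :
    RelFPHom ψ M ↔ FPVia τ M := by
  letI := ι.toAlgebra
  haveI : Algebra.FinitePresentation R T := hι
  obtain ⟨m, ρ, hρ, hker⟩ := (inferInstance : Algebra.FinitePresentation R T).out
  have hρC : ρ.toRingHom.comp MvPolynomial.C = ι := by
    ext r
    exact ρ.commutes r
  have hC : (τ.comp ρ.toRingHom).comp MvPolynomial.C = ψ := by
    rw [RingHom.comp_assoc, hρC, hc]
  have hsurj : Function.Surjective (τ.comp ρ.toRingHom) := hτ.comp hρ
  constructor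
  · rintro ⟨n, α, hα, hs, h⟩
    have h1 : FPVia (τ.comp ρ.toRingHom) M :=
      fpVia_swap α hs (τ.comp ρ.toRingHom) hsurj (by rw [hα, hC]) M h
    exact fpVia_of_comp_surjective τ ρ.toRingHom M hρ h1
  · intro h
    exact ⟨m, τ.comp ρ.toRingHom, hC, hsurj, fpVia_of_surjective τ ρ.toRingHom M hρ hker h⟩


section Loc

variable {P B B' : Type*} [CommRing P] [CommRing B] [CommRing B'] [Algebra P B] [Algebra B B']
  [Algebra P B'] [IsScalarTower P B B']

/-- The map `P[1/g̃] → B'` induced by `P → B → B'` when `B' = B[1/g]`, `g` the image of `g̃`. -/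
noncomputable def awayLift (g : P) [IsLocalization.Away (algebraMap P B g) B'] :
    Localization.Away g →+* B' :=
  IsLocalization.lift (M := Submonoid.powers g) (S := Localization.Away g)
    (g := algebraMap P B') (by
      rintro ⟨_, n, rfl⟩
      rw [map_pow, IsScalarTower.algebraMap_apply P B B']
      exact (IsLocalization.Away.algebraMap_isUnit (S := B') (algebraMap P B g)).pow n)

theorem awayLift_comp (g : P) [IsLocalization.Away (algebraMap P B g) B'] :
    (awayLift (B := B) (B' := B') g).comp (algebraMap P (Localization.Away g)) =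
      algebraMap P B' :=
  IsLocalization.lift_comp _

theorem awayLift_algebraMap (g : P) [IsLocalization.Away (algebraMap P B g) B'] (p : P) :
    awayLift (B := B) (B' := B') g (algebraMap P (Localization.Away g) p) = algebraMap P B' p :=
  IsLocalization.lift_eq _ p

theorem awayLift_surjective (hs : Function.Surjective (algebraMap P B)) (g : P)
    [IsLocalization.Away (algebraMap P B g) B'] :
    Function.Surjective (awayLift (B := B) (B' := B') g) := by
  unfold awayLift
  rw [IsLocalization.lift_surjective_iff]
  intro v
  obtain ⟨n, b, hb⟩ := IsLocalization.Away.surj (algebraMap P B g) v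
  obtain ⟨p, rfl⟩ := hs b
  refine ⟨⟨p, ⟨g ^ n, n, rfl⟩⟩, ?_⟩
  simp only
  rw [map_pow, IsScalarTower.algebraMap_apply P B B' g, IsScalarTower.algebraMap_apply P B B' p]
  exact hb

variable {M M' : Type*} [AddCommGroup M] [Module B M] [Module P M] [IsScalarTower P B M]
  [AddCommGroup M'] [Module B' M'] [Module B M'] [Module P M'] [IsScalarTower B B' M']
  [IsScalarTower P B M']

/-- Finite presentation of the localized module over `P[1/g̃]` can be read on `M' = M[1/g]` through
`P[1/g̃] → B[1/g]`. -/
theorem fpVia_awayLift_iff (g : P) [IsLocalization.Away (algebraMap P B g) B']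
    (l : M →ₗ[B] M') [IsLocalizedModule (Submonoid.powers (algebraMap P B g)) l] :
    FPVia (awayLift (B := B) (B' := B') g) M' ↔
      Module.FinitePresentation (Localization.Away g) (LocalizedModule (Submonoid.powers g) M) := by
  unfold FPVia
  letI : Module (Localization.Away g) M' := Module.compHom M' (awayLift (B := B) (B' := B') g)
  haveI : IsScalarTower P (Localization.Away g) M' := by
    refine IsScalarTower.of_algebraMap_smul fun p m => ?_
    change awayLift (B := B) (B' := B') g (algebraMap P _ p) • m = p • m
    rw [awayLift_algebraMap, IsScalarTower.algebraMap_apply P B B', algebraMap_smul,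
      algebraMap_smul]
  haveI : IsLocalizedModule (Submonoid.powers g) (l.restrictScalars P) :=
    IsLocalizedModule.restrictScalars_powers g l
  let e : LocalizedModule (Submonoid.powers g) M ≃ₗ[P] M' :=
    IsLocalizedModule.iso (Submonoid.powers g) (l.restrictScalars P)
  let e' : LocalizedModule (Submonoid.powers g) M ≃ₗ[Localization.Away g] M' :=
    e.extendScalarsOfIsLocalization (Submonoid.powers g) (Localization.Away g)
  exact ⟨fun h => Module.FinitePresentation.of_equiv e'.symm,
    fun h => Module.FinitePresentation.of_equiv e'⟩

end Loc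


theorem finitePresentation_C {R : Type*} [CommRing R] (n : ℕ) :
    (MvPolynomial.C : R →+* MvPolynomial (Fin n) R).FinitePresentation := by
  have : (MvPolynomial.C : R →+* MvPolynomial (Fin n) R) = algebraMap R (MvPolynomial (Fin n) R) :=
    rfl
  rw [this, RingHom.finitePresentation_algebraMap]
  infer_instance

theorem finitePresentation_away {P : Type*} [CommRing P] (g : P) :
    (algebraMap P (Localization.Away g)).FinitePresentation := by
  rw [RingHom.finitePresentation_algebraMap]
  exact IsLocalization.Away.finitePresentation g

/-- Glueing: `M` is finitely presented over `P` (through `α : P ↠ B`) as soon as its localizations at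
elements whose images generate the unit ideal of `B` are. -/
theorem fpVia_of_localizationSpan {P B : Type*} [CommRing P] [CommRing B] (α : P →+* B)
    (hα : Function.Surjective α) {M : Type*} [AddCommGroup M] [Module B M] (s : Set P)
    (hs : Ideal.span (α '' s) = ⊤)
    (h : ∀ g ∈ s, letI := Module.compHom M α
      Module.FinitePresentation (Localization.Away g) (LocalizedModule (Submonoid.powers g) M)) :
    FPVia α M := by
  unfold FPVia
  letI := Module.compHom M α
  refine Module.FinitePresentation.of_localizationSpan (s ∪ (RingHom.ker α : Set P)) ?_ ?_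
  · have h1 : (Ideal.span (s ∪ (RingHom.ker α : Set P))).map α = ⊤ := by
      rw [Ideal.map_span, eq_top_iff, ← hs]
      exact Ideal.span_mono (Set.image_mono Set.subset_union_left)
    have h2 := Ideal.comap_map_of_surjective α hα (Ideal.span (s ∪ (RingHom.ker α : Set P)))
    rw [h1, Ideal.comap_top] at h2
    rw [h2, eq_comm, sup_eq_left]
    intro x hx
    have hx' : x ∈ RingHom.ker α := by
      rw [Ideal.mem_comap] at hx
      exact hx
    exact Ideal.subset_span (Or.inr hx')
  · rintro ⟨g, hg | hg⟩
    · exact h g hg
    · haveI : Subsingleton (LocalizedModule.Away g M) := by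
        refine ⟨fun x y => ?_⟩
        have key : ∀ z : LocalizedModule (Submonoid.powers g) M, z = 0 := by
          intro z
          induction z using LocalizedModule.induction_on with
          | h m t =>
            rw [← LocalizedModule.zero_mk 1, LocalizedModule.mk_eq]
            refine ⟨⟨g, Submonoid.mem_powers g⟩, ?_⟩
            have hgm : g • m = 0 := by
              change α g • m = 0
              rw [(RingHom.mem_ker).mp hg, zero_smul]
            rw [smul_zero, smul_zero, one_smul]
            exact hgm
        rw [key x, key y]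
      infer_instance

/-- Relative finite presentation passes to the localization at one element. -/
theorem RelFPHom.localization {R B B' : Type*} [CommRing R] [CommRing B] [CommRing B']
    [Algebra B B'] (ψ : R →+* B) (g : B) [IsLocalization.Away g B']
    {M M' : Type*} [AddCommGroup M] [Module B M] [AddCommGroup M'] [Module B' M'] [Module B M']
    [IsScalarTower B B' M'] (l : M →ₗ[B] M') [IsLocalizedModule (Submonoid.powers g) l]
    (h : RelFPHom ψ M) : RelFPHom ((algebraMap B B').comp ψ) M' := by
  obtain ⟨n, α, hα, hs, hfp⟩ := h
  obtain ⟨g', rfl⟩ := hs g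
  letI : Algebra (MvPolynomial (Fin n) R) B := α.toAlgebra
  letI : Algebra (MvPolynomial (Fin n) R) B' := ((algebraMap B B').comp α).toAlgebra
  haveI : IsScalarTower (MvPolynomial (Fin n) R) B B' := IsScalarTower.of_algebraMap_eq fun _ => rfl
  letI : Module (MvPolynomial (Fin n) R) M := Module.compHom M α
  haveI : IsScalarTower (MvPolynomial (Fin n) R) B M :=
    IsScalarTower.of_algebraMap_smul fun _ _ => rfl
  letI : Module (MvPolynomial (Fin n) R) M' := Module.compHom M' α
  haveI : IsScalarTower (MvPolynomial (Fin n) R) B M' :=
    IsScalarTower.of_algebraMap_smul fun _ _ => rfl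
  haveI : IsLocalization.Away (algebraMap (MvPolynomial (Fin n) R) B g') B' := ‹_›
  haveI : IsLocalizedModule (Submonoid.powers (algebraMap (MvPolynomial (Fin n) R) B g')) l := ‹_›
  haveI : Module.FinitePresentation (MvPolynomial (Fin n) R) M := hfp
  have hsurj : Function.Surjective (algebraMap (MvPolynomial (Fin n) R) B) := hs
  refine (relFPHom_iff_fpVia ((algebraMap B B').comp ψ)
    ((algebraMap (MvPolynomial (Fin n) R) (Localization.Away g')).comp MvPolynomial.C)
    ((finitePresentation_away g').comp (finitePresentation_C n))
    (awayLift (B := B) (B' := B') g') (awayLift_surjective hsurj g') ?_ M').mpr ?_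
  · rw [← RingHom.comp_assoc, awayLift_comp, ← hα]
    rfl
  · exact (fpVia_awayLift_iff g' l).mpr inferInstance


/-- Enlarging the base: if `M` is finitely presented relative to `R'` and `R → R'` is of finite
presentation, then `M` is finitely presented relative to `R`. -/
theorem RelFPHom.comp_base {R R' B : Type*} [CommRing R] [CommRing R'] [CommRing B]
    (ι : R →+* R') (hι : ι.FinitePresentation) (ψ' : R' →+* B) {M : Type*} [AddCommGroup M]
    [Module B M] (h : RelFPHom ψ' M) : RelFPHom (ψ'.comp ι) M := by
  obtain ⟨n, α, hα, hs, hfp⟩ := h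
  refine (relFPHom_iff_fpVia (ψ'.comp ι) ((MvPolynomial.C : R' →+* MvPolynomial (Fin n) R').comp ι)
    ((finitePresentation_C n).comp hι) α hs ?_ M).mpr hfp
  rw [← RingHom.comp_assoc, hα]

/-- Shrinking the base: if `M` is finitely presented relative to `R` and `ψ` factors through a
finitely presented `R → R'`, then `M` is finitely presented relative to `R'`. -/
theorem RelFPHom.of_comp_base {R R' B : Type*} [CommRing R] [CommRing R'] [CommRing B]
    (ι : R →+* R') (hι : ι.FinitePresentation) (ψ' : R' →+* B) {M : Type*} [AddCommGroup M]
    [Module B M] (h : RelFPHom (ψ'.comp ι) M) : RelFPHom ψ' M := by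
  have h0 := h
  obtain ⟨n, α, hα, hs, hfp⟩ := h
  let α' : MvPolynomial (Fin n) R' →+* B := MvPolynomial.eval₂Hom ψ' (fun i => α (MvPolynomial.X i))
  have hα'C : α'.comp MvPolynomial.C = ψ' := by
    ext r
    simp [α']
  have hcomp : α'.comp (MvPolynomial.map ι) = α := by
    apply MvPolynomial.ringHom_ext
    · intro r
      simp only [RingHom.comp_apply, MvPolynomial.map_C, α', MvPolynomial.coe_eval₂Hom,
        MvPolynomial.eval₂_C]
      exact (RingHom.congr_fun hα r).symm
    · intro i
      simp [α']
  have hs' : Function.Surjective α' := by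
    intro b
    obtain ⟨p, rfl⟩ := hs b
    exact ⟨MvPolynomial.map ι p, RingHom.congr_fun hcomp p⟩
  refine ⟨n, α', hα'C, hs', ?_⟩
  refine (relFPHom_iff_fpVia (ψ'.comp ι) ((MvPolynomial.C : R' →+* MvPolynomial (Fin n) R').comp ι)
    ((finitePresentation_C n).comp hι) α' hs' ?_ M).mp h0
  rw [← RingHom.comp_assoc, hα'C]

end Groth.Agent.Lib.H72RelFP
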