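import Groth.Agent.Lib.H72RelFP
import Mathlib.LinearAlgebra.TensorProduct.Quotient
import Mathlib.RingTheory.Polynomial.Basic

/-!
# helper72: relative finite presentation and base change along a finitely presented algebra

* `isBaseChange_id_of_surjective`, `IsBaseChange.surjective_of_surjective`, `IsBaseChange.ker_eq_smul_top`:
  base change along a surjective ring map.
* `finitePresentation_of_isBaseChange_of_ker` (abstract core), `RelFPHom.baseChange`:
  `N` f.p. relative to `A` through `A → B`, `C` a f.p. `B`-algebra ⟹ `C ⊗_B N` f.p. relative to `A`.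
-/

set_option autoImplicit false
set_option linter.style.haveILetI false
universe u

namespace Groth.Agent.Lib.H72RelFP

open Groth.Agent.Lib.RelFP TensorProduct

section K

variable {T C : Type*} [CommRing T] [CommRing C] [Algebra T C]
  {X N' : Type*} [AddCommGroup X] [Module T X] [AddCommGroup N'] [Module T N'] [Module C N']
  [IsScalarTower T C N']

/-- A module over a quotient ring is the base change of itself. -/
theorem isBaseChange_id_of_surjective (hτ : Function.Surjective (algebraMap T C)) :
    IsBaseChange C (LinearMap.id : N' →ₗ[T] N') := by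
  refine IsBaseChange.of_lift_unique _ fun Q _ _ _ _ g => ?_
  refine ⟨{ toFun := g, map_add' := g.map_add, map_smul' := ?_ }, ?_, ?_⟩
  · intro c m
    obtain ⟨t, rfl⟩ := hτ c
    simp only [RingHom.id_apply]
    rw [algebraMap_smul, algebraMap_smul, map_smul]
  · ext m
    rfl
  · intro g' hg'
    ext m
    have := LinearMap.congr_fun hg' m
    simpa using this

theorem IsBaseChange.surjective_of_surjective (hτ : Function.Surjective (algebraMap T C))
    (Φ : X →ₗ[T] N') (hΦ : IsBaseChange C Φ) : Function.Surjective Φ := by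
  intro y
  refine hΦ.inductionOn y (fun y => ∃ x, Φ x = y) ⟨0, map_zero _⟩ (fun m => ⟨m, rfl⟩) ?_ ?_
  · rintro c _ ⟨x, rfl⟩
    obtain ⟨t, rfl⟩ := hτ c
    exact ⟨t • x, by rw [map_smul, algebraMap_smul]⟩
  · rintro _ _ ⟨x₁, rfl⟩ ⟨x₂, rfl⟩
    exact ⟨x₁ + x₂, map_add _ _ _⟩

theorem IsBaseChange.ker_eq_smul_top (hτ : Function.Surjective (algebraMap T C))
    (Φ : X →ₗ[T] N') (hΦ : IsBaseChange C Φ) :
    LinearMap.ker Φ = RingHom.ker (algebraMap T C) • (⊤ : Submodule T X) := by
  apply le_antisymm
  · intro x hx
    let 𝔞 : Ideal T := RingHom.ker (algebraMap T C)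
    let e : C ≃+* T ⧸ 𝔞 := (RingHom.quotientKerEquivOfSurjective hτ).symm
    letI : Module C (X ⧸ 𝔞 • (⊤ : Submodule T X)) := Module.compHom _ e.toRingHom
    have he : ∀ t : T, e (algebraMap T C t) = Ideal.Quotient.mk 𝔞 t := by
      intro t
      change (RingHom.quotientKerEquivOfSurjective hτ).symm (algebraMap T C t) = _
      rw [RingEquiv.symm_apply_eq, RingHom.quotientKerEquivOfSurjective_apply_mk]
    haveI : IsScalarTower T C (X ⧸ 𝔞 • (⊤ : Submodule T X)) := by
      refine IsScalarTower.of_algebraMap_smul fun t q => ?_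
      change e (algebraMap T C t) • q = t • q
      rw [he]
      rfl
    let Λ : N' →ₗ[C] (X ⧸ 𝔞 • (⊤ : Submodule T X)) :=
      hΦ.lift (Submodule.mkQ (𝔞 • (⊤ : Submodule T X)))
    have h1 : Λ (Φ x) = Submodule.mkQ (𝔞 • (⊤ : Submodule T X)) x := hΦ.lift_eq _ x
    rw [LinearMap.mem_ker.mp hx, map_zero] at h1
    have h2 := h1.symm
    rw [Submodule.mkQ_apply, Submodule.Quotient.mk_eq_zero] at h2
    exact h2
  · rw [Submodule.smul_le]
    intro a ha x _
    rw [LinearMap.mem_ker, map_smul, ← algebraMap_smul C a (Φ x), (RingHom.mem_ker).mp ha,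
      zero_smul]

end K


section Core

variable {P T B C : Type*} [CommRing P] [CommRing T] [CommRing B] [CommRing C]
  [Algebra P T] [Algebra P B] [Algebra B C] [Algebra T C] [Algebra P C]
  [IsScalarTower P B C] [IsScalarTower P T C]
  {N N' : Type*} [AddCommGroup N] [Module B N] [Module P N] [IsScalarTower P B N]
  [AddCommGroup N'] [Module C N'] [Module B N'] [Module T N'] [Module P N']
  [IsScalarTower B C N'] [IsScalarTower T C N'] [IsScalarTower P B N'] [IsScalarTower P T N']
  [IsScalarTower P C N']

/-- Abstract core of base change for relative finite presentation. -/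
theorem finitePresentation_of_isBaseChange_of_ker
    (hPB : Function.Surjective (algebraMap P B)) (hTC : Function.Surjective (algebraMap T C))
    (J' : Ideal T) (hJ' : J'.FG)
    (hker : RingHom.ker (algebraMap T C) =
      J' ⊔ Ideal.map (algebraMap P T) (RingHom.ker (algebraMap P B)))
    [Module.FinitePresentation P N] (θ : N →ₗ[B] N') (hθ : IsBaseChange C θ) :
    Module.FinitePresentation T N' := by
  -- `θ` is a base change over `P`
  have h1 : IsBaseChange B (LinearMap.id : N →ₗ[P] N) := isBaseChange_id_of_surjective hPB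
  have hθP : IsBaseChange C (θ.restrictScalars P) := by
    have := IsBaseChange.comp h1 hθ
    simpa using this
  -- the induced map from `T ⊗[P] N`
  have hmk : IsBaseChange T (TensorProduct.mk P T N 1) := TensorProduct.isBaseChange P N T
  let Φ : T ⊗[P] N →ₗ[T] N' := hmk.lift (θ.restrictScalars P)
  have hΦmk : (Φ.restrictScalars P).comp (TensorProduct.mk P T N 1) = θ.restrictScalars P :=
    hmk.lift_comp _
  have hΦ : IsBaseChange C Φ := by
    refine IsBaseChange.of_comp hmk ?_
    rw [hΦmk]
    exact hθP
  have hsurj : Function.Surjective Φ := IsBaseChange.surjective_of_surjective hTC Φ hΦ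
  have hkerΦ : LinearMap.ker Φ = RingHom.ker (algebraMap T C) • (⊤ : Submodule T (T ⊗[P] N)) :=
    IsBaseChange.ker_eq_smul_top hTC Φ hΦ
  have hann : Ideal.map (algebraMap P T) (RingHom.ker (algebraMap P B)) ≤
      Module.annihilator T (T ⊗[P] N) := by
    rw [Ideal.map_le_iff_le_comap]
    intro k hk
    rw [Ideal.mem_comap, Module.mem_annihilator]
    intro z
    induction z using TensorProduct.induction_on with
    | zero => rw [smul_zero]
    | tmul t y =>
      have hky : k • y = 0 := by
        rw [← algebraMap_smul B k y, (RingHom.mem_ker).mp hk, zero_smul]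
      have : (algebraMap P T k) • (t ⊗ₜ[P] y) = t ⊗ₜ[P] (k • y) := by
        rw [TensorProduct.smul_tmul', smul_eq_mul, ← TensorProduct.smul_tmul]
        congr 1
        rw [Algebra.smul_def]
      rw [this, hky, TensorProduct.tmul_zero]
    | add z₁ z₂ h₁ h₂ => rw [smul_add, h₁, h₂, add_zero]
  have hK0 : Ideal.map (algebraMap P T) (RingHom.ker (algebraMap P B)) •
      (⊤ : Submodule T (T ⊗[P] N)) = ⊥ := by
    rw [eq_bot_iff, Submodule.smul_le]
    intro a ha x _
    rw [Submodule.mem_bot]
    exact Module.mem_annihilator.mp (hann ha) x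
  have hkerfg : (LinearMap.ker Φ).FG := by
    rw [hkerΦ, hker, Submodule.sup_smul, hK0, sup_bot_eq]
    exact Submodule.FG.smul hJ' Module.Finite.fg_top
  exact Module.finitePresentation_of_surjective Φ hsurj hkerfg

end Core


/-- **Base change along a finitely presented algebra**: if `N` is finitely presented relative to `A`
(through `ψ : A → B`), `C` is a finitely presented `B`-algebra and `N' = C ⊗_B N`, then `N'` is
finitely presented relative to `A`. -/
theorem RelFPHom.baseChange {A B C : Type*} [CommRing A] [CommRing B] [CommRing C] [Algebra B C]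
    [hφ : Algebra.FinitePresentation B C] (ψ : A →+* B) {N N' : Type*} [AddCommGroup N]
    [Module B N] [AddCommGroup N'] [Module C N'] [Module B N'] [IsScalarTower B C N']
    (θ : N →ₗ[B] N') (hθ : IsBaseChange C θ) (h : RelFPHom ψ N) :
    RelFPHom ((algebraMap B C).comp ψ) N' := by
  classical
  obtain ⟨n, β, hβC, hβ, hfp⟩ := h
  obtain ⟨m, γ, hγ, hJ⟩ := hφ.out
  have hπ : Function.Surjective
      (MvPolynomial.map β : MvPolynomial (Fin m) (MvPolynomial (Fin n) A) →+* _) :=
    MvPolynomial.map_surjective β hβ
  have hτ : Function.Surjective (γ.toRingHom.comp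
      (MvPolynomial.map β : MvPolynomial (Fin m) (MvPolynomial (Fin n) A) →+* _)) :=
    hγ.comp hπ
  have hτC : ∀ p : MvPolynomial (Fin n) A, (γ.toRingHom.comp
      (MvPolynomial.map β : MvPolynomial (Fin m) (MvPolynomial (Fin n) A) →+* _))
        (MvPolynomial.C p) = algebraMap B C (β p) := by
    intro p
    change γ (MvPolynomial.map β (MvPolynomial.C p)) = _
    rw [MvPolynomial.map_C]
    exact γ.commutes (β p)
  -- reduce to `FPVia τ N'`
  refine (relFPHom_iff_fpVia ((algebraMap B C).comp ψ)
    ((MvPolynomial.C : MvPolynomial (Fin n) A →+* MvPolynomial (Fin m) (MvPolynomial (Fin n) A)).comp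
      (MvPolynomial.C : A →+* MvPolynomial (Fin n) A))
    ((finitePresentation_C m).comp (finitePresentation_C n)) _ hτ ?_ N').mpr ?_
  · ext a
    have := hτC (MvPolynomial.C a)
    rw [← hβC]
    exact this
  -- instances
  letI : Algebra (MvPolynomial (Fin n) A) B := β.toAlgebra
  letI : Algebra (MvPolynomial (Fin m) (MvPolynomial (Fin n) A)) C :=
    (γ.toRingHom.comp (MvPolynomial.map β)).toAlgebra
  letI : Algebra (MvPolynomial (Fin n) A) C := ((algebraMap B C).comp β).toAlgebra
  haveI : IsScalarTower (MvPolynomial (Fin n) A) B C := IsScalarTower.of_algebraMap_eq fun _ => rfl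
  haveI : IsScalarTower (MvPolynomial (Fin n) A) (MvPolynomial (Fin m) (MvPolynomial (Fin n) A)) C :=
    IsScalarTower.of_algebraMap_eq fun p => (hτC p).symm
  letI : Module (MvPolynomial (Fin n) A) N := Module.compHom N β
  haveI : IsScalarTower (MvPolynomial (Fin n) A) B N :=
    IsScalarTower.of_algebraMap_smul fun _ _ => rfl
  letI : Module (MvPolynomial (Fin m) (MvPolynomial (Fin n) A)) N' :=
    Module.compHom N' (γ.toRingHom.comp (MvPolynomial.map β))
  haveI : IsScalarTower (MvPolynomial (Fin m) (MvPolynomial (Fin n) A)) C N' :=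
    IsScalarTower.of_algebraMap_smul fun _ _ => rfl
  letI : Module (MvPolynomial (Fin n) A) N' := Module.compHom N' β
  haveI : IsScalarTower (MvPolynomial (Fin n) A) B N' :=
    IsScalarTower.of_algebraMap_smul fun _ _ => rfl
  haveI : IsScalarTower (MvPolynomial (Fin n) A) C N' :=
    IsScalarTower.of_algebraMap_smul fun p y => by
      change algebraMap B C (β p) • y = β p • y
      rw [algebraMap_smul]
  haveI : IsScalarTower (MvPolynomial (Fin n) A) (MvPolynomial (Fin m) (MvPolynomial (Fin n) A)) N' :=
    IsScalarTower.of_algebraMap_smul fun p y => by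
      change (γ.toRingHom.comp (MvPolynomial.map β)) (MvPolynomial.C p) • y = β p • y
      rw [hτC, algebraMap_smul]
  haveI : Module.FinitePresentation (MvPolynomial (Fin n) A) N := hfp
  -- the kernel of `τ`
  obtain ⟨sJ, hsJ⟩ := hJ
  choose lft hlft using hπ
  have hJ'fg : (Ideal.span (lft '' (sJ : Set (MvPolynomial (Fin m) B)))).FG :=
    ⟨sJ.image lft, by simp⟩
  have hJ'map : (Ideal.span (lft '' (sJ : Set (MvPolynomial (Fin m) B)))).map
      (MvPolynomial.map β) = RingHom.ker γ.toRingHom := by
    rw [← hsJ, Ideal.map_span, Set.image_image]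
    congr 1
    ext b
    simp [hlft]
  have hkerτ : RingHom.ker (algebraMap (MvPolynomial (Fin m) (MvPolynomial (Fin n) A)) C) =
      Ideal.span (lft '' (sJ : Set (MvPolynomial (Fin m) B))) ⊔
        Ideal.map (algebraMap (MvPolynomial (Fin n) A)
          (MvPolynomial (Fin m) (MvPolynomial (Fin n) A)))
          (RingHom.ker (algebraMap (MvPolynomial (Fin n) A) B)) := by
    change RingHom.ker (γ.toRingHom.comp (MvPolynomial.map β)) = _ ⊔ Ideal.map MvPolynomial.C
      (RingHom.ker β)
    rw [← RingHom.comap_ker, ← hJ'map,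
      Ideal.comap_map_of_surjective _ (MvPolynomial.map_surjective β hβ), ← MvPolynomial.ker_map]
    rfl
  exact finitePresentation_of_isBaseChange_of_ker (P := MvPolynomial (Fin n) A)
    (T := MvPolynomial (Fin m) (MvPolynomial (Fin n) A)) (B := B) (C := C) hβ hτ _ hJ'fg hkerτ θ hθ

end Groth.Agent.Lib.H72RelFP
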