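import Groth.Agent.Lib.H72RelFPScheme
import Groth.Agent.Lib.H90OXModExact
import Groth.Agent.Lib.CohFinite

/-!
# helper72: relative finite presentation and short exact sequences

* `fpVia_of_relFPHom`: read `RelFPHom` on any polynomial presentation.
* `fpVia_of_exact`, `fpVia_of_exact_of_finite` (algebra).
* `sections_shortExact`: sections of a short exact sequence of qcoh modules over an affine open.
* `isRelFP_of_shortExact` (S9747), `isRelFP_of_shortExact_of_isFiniteType` (S9748).
-/

set_option autoImplicit false
set_option linter.style.haveILetI false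
universe u

namespace Groth.Agent.Lib.H72RelFP

open AlgebraicGeometry CategoryTheory TopologicalSpace Opposite
open Groth.Agent.Lib.RelFP

/-- Relative finite presentation can be read on any polynomial presentation. -/
theorem fpVia_of_relFPHom {R B : Type*} [CommRing R] [CommRing B] (ψ : R →+* B) {n : ℕ}
    (α : MvPolynomial (Fin n) R →+* B) (hαC : α.comp MvPolynomial.C = ψ)
    (hα : Function.Surjective α) {M : Type*} [AddCommGroup M] [Module B M] :
    RelFPHom ψ M ↔ FPVia α M :=
  relFPHom_iff_fpVia ψ MvPolynomial.C (finitePresentation_C n) α hα hαC M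

section Exact

variable {P B : Type*} [CommRing P] [CommRing B] (α : P →+* B)
  {N₁ N₂ N₃ : Type*} [AddCommGroup N₁] [Module B N₁] [AddCommGroup N₂] [Module B N₂]
  [AddCommGroup N₃] [Module B N₃]

/-- Extensions: `FPVia` for the outer terms of a short exact sequence gives it for the middle. -/
theorem fpVia_of_exact (i : N₁ →ₗ[B] N₂) (p : N₂ →ₗ[B] N₃) (hi : Function.Injective i)
    (hp : Function.Surjective p) (hex : Function.Exact i p) (h₁ : FPVia α N₁) (h₃ : FPVia α N₃) :
    FPVia α N₂ := by
  unfold FPVia at *
  letI : Algebra P B := α.toAlgebra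
  letI : Module P N₁ := Module.compHom N₁ α
  letI : Module P N₂ := Module.compHom N₂ α
  letI : Module P N₃ := Module.compHom N₃ α
  haveI : IsScalarTower P B N₁ := IsScalarTower.of_algebraMap_smul fun _ _ => rfl
  haveI : IsScalarTower P B N₂ := IsScalarTower.of_algebraMap_smul fun _ _ => rfl
  haveI : IsScalarTower P B N₃ := IsScalarTower.of_algebraMap_smul fun _ _ => rfl
  haveI : Module.FinitePresentation P N₁ := h₁
  haveI : Module.FinitePresentation P N₃ := h₃
  have hker : LinearMap.ker (p.restrictScalars P) = LinearMap.range (i.restrictScalars P) := by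
    ext y
    simp only [LinearMap.mem_ker, LinearMap.mem_range, LinearMap.restrictScalars_apply]
    exact hex y
  haveI : Module.FinitePresentation P (LinearMap.range (i.restrictScalars P)) :=
    Module.FinitePresentation.of_equiv (LinearEquiv.ofInjective (i.restrictScalars P) hi)
  haveI : Module.FinitePresentation P (LinearMap.ker (p.restrictScalars P)) := by
    rw [hker]
    infer_instance
  exact Module.finitePresentation_of_ker (p.restrictScalars P) hp

/-- Quotients by finitely generated submodules. -/
theorem fpVia_of_exact_of_finite (hα : Function.Surjective α) (i : N₁ →ₗ[B] N₂) (p : N₂ →ₗ[B] N₃)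
    (hp : Function.Surjective p) (hex : Function.Exact i p) [Module.Finite B N₁]
    (h₂ : FPVia α N₂) : FPVia α N₃ := by
  unfold FPVia at *
  letI : Algebra P B := α.toAlgebra
  letI : Module P N₁ := Module.compHom N₁ α
  letI : Module P N₂ := Module.compHom N₂ α
  letI : Module P N₃ := Module.compHom N₃ α
  haveI : IsScalarTower P B N₁ := IsScalarTower.of_algebraMap_smul fun _ _ => rfl
  haveI : IsScalarTower P B N₂ := IsScalarTower.of_algebraMap_smul fun _ _ => rfl
  haveI : IsScalarTower P B N₃ := IsScalarTower.of_algebraMap_smul fun _ _ => rfl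
  haveI : Module.FinitePresentation P N₂ := h₂
  haveI : Module.Finite P B := Module.Finite.of_surjective (Algebra.linearMap P B) hα
  haveI : Module.Finite P N₁ := Module.Finite.trans B N₁
  have hker : LinearMap.ker (p.restrictScalars P) = LinearMap.range (i.restrictScalars P) := by
    ext y
    simp only [LinearMap.mem_ker, LinearMap.mem_range, LinearMap.restrictScalars_apply]
    exact hex y
  refine Module.finitePresentation_of_surjective (p.restrictScalars P) hp ?_
  rw [hker, LinearMap.range_eq_map]
  exact (Module.Finite.fg_top).map _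

end Exact

variable {X S : Scheme.{u}}

open Groth.Agent.Lib.H90OXModSections Groth.Agent.Lib.H90OXModExact in
/-- Sections of a short exact sequence of quasi-coherent modules over an affine open. -/
theorem sections_shortExact (E : ShortComplex X.Modules) (hE : E.ShortExact)
    [E.X₁.IsQuasicoherent] [E.X₂.IsQuasicoherent] [E.X₃.IsQuasicoherent] {U : X.Opens}
    (hU : IsAffineOpen U) :
    Function.Injective (appLin E.f U) ∧ Function.Surjective (appLin E.g U) ∧
      Function.Exact (appLin E.f U) (appLin E.g U) := by
  haveI := hE.mono_f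
  haveI := hE.epi_g
  refine ⟨injective_appLin_of_mono E.f U, surjective_app_of_epi E.g hU, fun y => ⟨fun hy => ?_, ?_⟩⟩
  · obtain ⟨t, ht⟩ := sections_exact_of_isAffineOpen hE.exact hU y hy
    exact ⟨t, ht⟩
  · rintro ⟨t, rfl⟩
    have h0 : E.f ≫ E.g = 0 := E.zero
    have h1 : (E.f ≫ E.g).app U t = (0 : E.X₁ ⟶ E.X₃).app U t := by rw [h0]
    exact h1


open Groth.Agent.Lib.H90OXModSections in
/-- Extensions of relatively finitely presented quasi-coherent modules (Lean form of S9747). -/
theorem isRelFP_of_shortExact (f : X ⟶ S) [LocallyOfFiniteType f] (E : ShortComplex X.Modules)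
    (hE : E.ShortExact) [E.X₁.IsQuasicoherent] [E.X₂.IsQuasicoherent] [E.X₃.IsQuasicoherent]
    (h₁ : Flatn.IsRelFP f E.X₁) (h₃ : Flatn.IsRelFP f E.X₃) : Flatn.IsRelFP f E.X₂ := by
  rw [isRelFP_iff f] at h₁ h₃ ⊢
  intro U V hU hV h
  obtain ⟨n, α, hαC, hα⟩ := exists_presentation f hU hV h
  obtain ⟨hi, hp, hex⟩ := sections_shortExact E hE hU
  rw [fpVia_of_relFPHom _ α hαC hα]
  exact fpVia_of_exact α (appLin E.f U) (appLin E.g U) hi hp hex
    ((fpVia_of_relFPHom _ α hαC hα).mp (h₁ U V hU hV h))
    ((fpVia_of_relFPHom _ α hαC hα).mp (h₃ U V hU hV h))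

open Groth.Agent.Lib.H90OXModSections in
/-- Quotient of a relatively finitely presented module by a finite type submodule
(Lean form of S9748). -/
theorem isRelFP_of_shortExact_of_isFiniteType (f : X ⟶ S) [LocallyOfFiniteType f]
    (E : ShortComplex X.Modules) (hE : E.ShortExact) [E.X₁.IsQuasicoherent]
    [E.X₂.IsQuasicoherent] [E.X₃.IsQuasicoherent] [E.X₁.IsFiniteType]
    (h₂ : Flatn.IsRelFP f E.X₂) : Flatn.IsRelFP f E.X₃ := by
  rw [isRelFP_iff f] at h₂ ⊢
  intro U V hU hV h
  obtain ⟨n, α, hαC, hα⟩ := exists_presentation f hU hV h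
  obtain ⟨hi, hp, hex⟩ := sections_shortExact E hE hU
  haveI : Module.Finite Γ(X, U) Γ(E.X₁, U) :=
    Groth.Agent.Lib.CohFinite.finite_sections_of_isAffineOpen E.X₁ hU
  rw [fpVia_of_relFPHom _ α hαC hα]
  exact fpVia_of_exact_of_finite α hα (appLin E.f U) (appLin E.g U) hp hex
    ((fpVia_of_relFPHom _ α hαC hα).mp (h₂ U V hU hV h))

end Groth.Agent.Lib.H72RelFP
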