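import Mathlib.Algebra.Module.FinitePresentation
import Mathlib.RingTheory.FinitePresentation
import Mathlib.RingTheory.IsTensorProduct
import Mathlib.RingTheory.Polynomial.Basic

/-!
# Finite presentation of modules through surjections (relative finite presentation)

For a ring hom `φ : S →+* A` and an `A`-module `M`, `FPVia φ M` says `M` is a finitely presented
`S`-module through `φ`.

* `fpVia_of_surjective`: `π : S ↠ S'` with f.g. kernel, `M` f.p. over `S'` via `φ` then `M` f.p. over `S`
  via `φ.comp π`.
* `fpVia_of_comp_surjective`: `π : S ↠ S'`, `M` f.p. over `S` via `φ.comp π` then `M` f.p. over `S'` via `φ`.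
* `fpVia_mvPolynomial_of_fpVia`: independence of the presentation.
-/

set_option autoImplicit false

namespace Groth.Agent.Lib.RelFP

variable {S S' A : Type*} [CommRing S] [CommRing S'] [CommRing A]

/-- `M` is a finitely presented `S`-module through `φ : S →+* A`. -/
def FPVia (φ : S →+* A) (M : Type*) [AddCommGroup M] [Module A M] : Prop :=
  @Module.FinitePresentation S M _ _ (Module.compHom M φ)

theorem fpVia_id (M : Type*) [AddCommGroup M] [Module A M] :
    FPVia (RingHom.id A) M ↔ Module.FinitePresentation A M := by
  unfold FPVia
  have : (Module.compHom M (RingHom.id A)) = (inferInstance : Module A M) := by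
    ext r m
    rfl
  rw [this]

section

variable {M : Type*} [AddCommGroup M] [Module S M] [Module S' M] [Algebra S S'] [IsScalarTower S S' M]

theorem fp_restrict (hπ : Function.Surjective (algebraMap S S'))
    (hker : (RingHom.ker (algebraMap S S')).FG) [Module.FinitePresentation S' M] :
    Module.FinitePresentation S M := by
  have : Module.FinitePresentation S S' := by
    refine Module.finitePresentation_of_surjective (Algebra.linearMap S S') hπ ?_
    exact hker
  exact Module.FinitePresentation.trans S M S'

theorem fp_of_restrict (hπ : Function.Surjective (algebraMap S S'))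
    [Module.FinitePresentation S M] : Module.FinitePresentation S' M := by
  have hsm : ∀ (s : S) (m : M), algebraMap S S' s • m = s • m := fun s m => by
    rw [algebraMap_smul]
  refine FinitePresentation.of_isBaseChange (LinearMap.id : M →ₗ[S] M) ?_
  refine IsBaseChange.of_lift_unique _ fun Q _ _ _ _ g => ?_
  refine ⟨{ toFun := g, map_add' := g.map_add, map_smul' := ?_ }, ?_, ?_⟩
  · intro s' m
    obtain ⟨s, rfl⟩ := hπ s'
    simp only [RingHom.id_apply]
    rw [algebraMap_smul, algebraMap_smul, map_smul]
  · ext m
    rfl
  · intro g' hg'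
    ext m
    have := LinearMap.congr_fun hg' m
    simpa using this

end

variable (φ : S' →+* A) (π : S →+* S') (M : Type*) [AddCommGroup M] [Module A M]

theorem fpVia_of_surjective (hπ : Function.Surjective π) (hker : (RingHom.ker π).FG)
    (h : FPVia φ M) : FPVia (φ.comp π) M := by
  unfold FPVia at h ⊢
  let := Module.compHom M φ
  let := Module.compHom M (φ.comp π)
  let := π.toAlgebra
  have : IsScalarTower S S' M := IsScalarTower.of_algebraMap_smul fun r m => rfl
  have : Module.FinitePresentation S' M := h
  exact fp_restrict (S := S) (S' := S') hπ hker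

theorem fpVia_of_comp_surjective (hπ : Function.Surjective π)
    (h : FPVia (φ.comp π) M) : FPVia φ M := by
  unfold FPVia at h ⊢
  let := Module.compHom M φ
  let := Module.compHom M (φ.comp π)
  let := π.toAlgebra
  have : IsScalarTower S S' M := IsScalarTower.of_algebraMap_smul fun r m => rfl
  have : Module.FinitePresentation S M := h
  exact fp_of_restrict (S := S) (S' := S') hπ

section MvPoly

variable {R T B : Type*} [CommRing R] [CommRing T] [CommRing B] {σ : Type*} [Finite σ]

/-- Independence of the presentation: if `M` is f.p. over `T` through a surjection `τ : T → B`, and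
`β : R[σ] → B` is a ring map such that `τ` lifts through `β` by `g : T → R[σ]` (with the constants of
`R[σ]` in the image of `g`), then `M` is f.p. over `R[σ]` through `β`. -/
theorem fpVia_mvPolynomial (τ : T →+* B) (hτ : Function.Surjective τ)
    (β : MvPolynomial σ R →+* B) (g : T →+* MvPolynomial σ R) (hg : β.comp g = τ)
    (ι : R →+* T) (hι : g.comp ι = MvPolynomial.C)
    (M : Type*) [AddCommGroup M] [Module B M] (h : FPVia τ M) : FPVia β M := by
  classical
  have hX : ∀ j : σ, ∃ t : T, τ t = β (MvPolynomial.X j) := fun j => hτ _
  choose f hf using hX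
  let ψ : MvPolynomial σ T →ₐ[T] T := MvPolynomial.aeval f
  have hψ : Function.Surjective ψ := fun t => ⟨MvPolynomial.C t, by simp [ψ]⟩
  have hker : (RingHom.ker ψ.toRingHom).FG :=
    Algebra.FinitePresentation.ker_fG_of_surjective ψ hψ
  have step1 : FPVia (τ.comp ψ.toRingHom) M :=
    fpVia_of_surjective τ ψ.toRingHom M hψ hker h
  let ρ : MvPolynomial σ T →+* MvPolynomial σ R := MvPolynomial.eval₂Hom g MvPolynomial.X
  have hρ : Function.Surjective ρ := by
    intro p
    refine ⟨MvPolynomial.map ι p, ?_⟩
    change MvPolynomial.eval₂ g MvPolynomial.X (MvPolynomial.map ι p) = p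
    rw [MvPolynomial.eval₂_map, hι, MvPolynomial.eval₂_eta]
  have hcomp : β.comp ρ = τ.comp ψ.toRingHom := by
    apply MvPolynomial.ringHom_ext
    · intro t
      simp only [RingHom.comp_apply, ρ, ψ, MvPolynomial.coe_eval₂Hom, MvPolynomial.eval₂_C,
        AlgHom.toRingHom_eq_coe, RingHom.coe_coe, MvPolynomial.aeval_C, Algebra.algebraMap_self,
        RingHom.id_apply]
      rw [← hg]
      rfl
    · intro j
      simp only [RingHom.comp_apply, ρ, ψ, MvPolynomial.coe_eval₂Hom, MvPolynomial.eval₂_X,
        AlgHom.toRingHom_eq_coe, RingHom.coe_coe, MvPolynomial.aeval_X]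
      rw [hf]
  refine fpVia_of_comp_surjective β ρ M hρ ?_
  rw [hcomp]
  exact step1

omit [Finite σ] in
/-- Independence of the polynomial presentation (one direction; apply twice for the equivalence). -/
theorem fpVia_swap {σ' : Type*} [Finite σ'] (α : MvPolynomial σ R →+* B)
    (hα : Function.Surjective α) (β : MvPolynomial σ' R →+* B) (hβ : Function.Surjective β)
    (hC : α.comp MvPolynomial.C = β.comp MvPolynomial.C)
    (M : Type*) [AddCommGroup M] [Module B M] (h : FPVia α M) : FPVia β M := by
  have hX : ∀ i : σ, ∃ q : MvPolynomial σ' R, β q = α (MvPolynomial.X i) := fun i => hβ _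
  choose g₀ hg₀ using hX
  let g : MvPolynomial σ R →+* MvPolynomial σ' R := MvPolynomial.eval₂Hom MvPolynomial.C g₀
  have hg : β.comp g = α := by
    apply MvPolynomial.ringHom_ext
    · intro r
      simp only [RingHom.comp_apply, g, MvPolynomial.coe_eval₂Hom, MvPolynomial.eval₂_C]
      exact (RingHom.congr_fun hC r).symm
    · intro i
      simp only [RingHom.comp_apply, g, MvPolynomial.coe_eval₂Hom, MvPolynomial.eval₂_X]
      exact hg₀ i
  refine fpVia_mvPolynomial α hα β g hg MvPolynomial.C ?_ M h
  ext r
  simp [g]

/-- Transport along a ring isomorphism. -/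
theorem fpVia_comp_equiv_iff {S S' A : Type*} [CommRing S] [CommRing S'] [CommRing A]
    (φ : S' →+* A) (e : S ≃+* S') (M : Type*) [AddCommGroup M] [Module A M] :
    FPVia (φ.comp e.toRingHom) M ↔ FPVia φ M := by
  refine ⟨fun h => fpVia_of_comp_surjective φ e.toRingHom M e.surjective h, fun h => ?_⟩
  refine fpVia_of_surjective φ e.toRingHom M e.surjective ?_ h
  have : RingHom.ker e.toRingHom = ⊥ := (RingHom.injective_iff_ker_eq_bot _).mp e.injective
  rw [this]
  exact Submodule.fg_bot

end MvPoly

end Groth.Agent.Lib.RelFP
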