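import Groth.Agent.Lib.H72RelFPExact
import Groth.Agent.Lib.H90OXModPush
import Groth.Agent.S6992
import Mathlib.AlgebraicGeometry.Morphisms.Finite

/-!
# helper72: relative finite presentation and finite pushforward

* `relFPHom_pushforward_iff` (affine pair), `isRelFP_pushforward_iff` (S9743), via helper54's S6992.
-/

set_option autoImplicit false
set_option linter.style.haveILetI false
universe u

namespace Groth.Agent.Lib.H72RelFP

open AlgebraicGeometry CategoryTheory TopologicalSpace Opposite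
open Groth.Agent.Lib.RelFP

variable {X Y S : Scheme.{u}}

/-- Finite pushforward and relative finite presentation, on a pair of affine opens. -/
theorem relFPHom_pushforward_iff (π : X ⟶ Y) (g : Y ⟶ S) [IsFinite π] [LocallyOfFiniteType g]
    (F : X.Modules) {W : Y.Opens} (hW : IsAffineOpen W) {V : S.Opens} (hV : IsAffineOpen V)
    (h : W ≤ g ⁻¹ᵁ V) :
    RelFPHom (g.appLE V W h).hom Γ((Scheme.Modules.pushforward π).obj F, W) ↔
      RelFPHom ((π ≫ g).appLE V (π ⁻¹ᵁ W) (fun _ hy => h hy)).hom Γ(F, π ⁻¹ᵁ W) := by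
  have hU : IsAffineOpen (π ⁻¹ᵁ W) := hW.preimage π
  have hUV : π ⁻¹ᵁ W ≤ (π ≫ g) ⁻¹ᵁ V := fun _ hy => h hy
  obtain ⟨n, α, hαC, hα⟩ := exists_presentation g hW hV h
  obtain ⟨k, β, hβC, hβ⟩ := exists_presentation (π ≫ g) hU hV hUV
  rw [fpVia_of_relFPHom _ α hαC hα, fpVia_of_relFPHom _ β hβC hβ]
  -- instances for S6992
  letI : Algebra Γ(S, V) Γ(Y, W) := (g.appLE V W h).hom.toAlgebra
  letI : Algebra Γ(Y, W) Γ(X, π ⁻¹ᵁ W) := (π.app W).hom.toAlgebra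
  letI : Algebra Γ(S, V) Γ(X, π ⁻¹ᵁ W) := ((π ≫ g).appLE V (π ⁻¹ᵁ W) hUV).hom.toAlgebra
  haveI : IsScalarTower Γ(S, V) Γ(Y, W) Γ(X, π ⁻¹ᵁ W) := by
    refine IsScalarTower.of_algebraMap_eq fun a => ?_
    have e := Scheme.Hom.appLE_comp_appLE π g V W (π ⁻¹ᵁ W) h le_rfl
    rw [← Scheme.Hom.app_eq_appLE] at e
    exact (congrArg (fun t : Γ(S, V) ⟶ Γ(X, π ⁻¹ᵁ W) => t.hom a) e).symm
  haveI : Algebra.FiniteType Γ(S, V) Γ(Y, W) :=
    HasRingHomProperty.appLE (P := @LocallyOfFiniteType) g ‹_› ⟨V, hV⟩ ⟨W, hW⟩ h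
  haveI : Algebra.FiniteType Γ(S, V) Γ(X, π ⁻¹ᵁ W) :=
    HasRingHomProperty.appLE (P := @LocallyOfFiniteType) (π ≫ g) inferInstance ⟨V, hV⟩
      ⟨π ⁻¹ᵁ W, hU⟩ hUV
  haveI : Module.Finite Γ(Y, W) Γ(X, π ⁻¹ᵁ W) := IsFinite.finite_app π W hW
  letI : Module Γ(Y, W) Γ(F, π ⁻¹ᵁ W) := Module.compHom _ (π.app W).hom
  haveI : IsScalarTower Γ(Y, W) Γ(X, π ⁻¹ᵁ W) Γ(F, π ⁻¹ᵁ W) :=
    IsScalarTower.of_algebraMap_smul fun _ _ => rfl
  let α' : MvPolynomial (Fin n) Γ(S, V) →ₐ[Γ(S, V)] Γ(Y, W) :=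
    { α with commutes' := fun r => RingHom.congr_fun hαC r }
  let β' : MvPolynomial (Fin k) Γ(S, V) →ₐ[Γ(S, V)] Γ(X, π ⁻¹ᵁ W) :=
    { β with commutes' := fun r => RingHom.congr_fun hβC r }
  exact Groth.Agent.S6992.result (R := Γ(S, V)) (A := Γ(Y, W)) (B := Γ(X, π ⁻¹ᵁ W))
    Γ(F, π ⁻¹ᵁ W) α' hα β' hβ


/-- Finite pushforward and relative finite presentation (Lean form of S9743). -/
theorem isRelFP_pushforward_iff (π : X ⟶ Y) (g : Y ⟶ S) [IsFinite π] [LocallyOfFiniteType g]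
    (F : X.Modules) [F.IsQuasicoherent] :
    Flatn.IsRelFP (π ≫ g) F ↔ Flatn.IsRelFP g ((Scheme.Modules.pushforward π).obj F) := by
  haveI : ((Scheme.Modules.pushforward π).obj F).IsQuasicoherent :=
    Groth.Agent.Lib.H90OXModPush.isQuasicoherent_pushforward π F
  rw [isRelFP_iff (π ≫ g) F, isRelFP_iff g]
  constructor
  · intro H W V hW hV h
    exact (relFPHom_pushforward_iff π g F hW hV h).mpr
      (H (π ⁻¹ᵁ W) V (hW.preimage π) hV (fun _ hy => h hy))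
  · intro H U V hU hV h
    refine relFPHom_of_local (π ≫ g) F hU hV h fun x hx => ?_
    obtain ⟨W, hW, hxW, hWV⟩ : ∃ W : Y.Opens, IsAffineOpen W ∧ π x ∈ W ∧ W ≤ g ⁻¹ᵁ V := by
      obtain ⟨_, ⟨W, hW, rfl⟩, hxW, hWV⟩ :=
        Y.isBasis_affineOpens.exists_subset_of_mem_open
          (show π x ∈ ((g ⁻¹ᵁ V : Y.Opens) : Set Y) from h hx) (g ⁻¹ᵁ V).isOpen
      exact ⟨W, hW, hxW, hWV⟩
    exact ⟨π ⁻¹ᵁ W, V, hW.preimage π, hV, fun _ hy => hWV hy, hxW,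
      (relFPHom_pushforward_iff π g F hW hV hWV).mp (H W V hW hV hWV)⟩

end Groth.Agent.Lib.H72RelFP
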