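import Groth.Agent.Lib.H72RelFP
import Groth.Agent.Lib.H90OXModFP
import Groth.Prelude.Def_Flatn
import Mathlib.AlgebraicGeometry.Morphisms.FiniteType

/-!
# helper72: relative finite presentation on schemes (`Flatn.RelFPOn`, `Flatn.IsRelFP`)

* `relFPOn_iff`: `Flatn.RelFPOn f F U V h ↔ RelFPHom (f.appLE V U h).hom Γ(F, U)`.
* `relFPHom_basicOpen` (localize the source), `relFPHom_target_basicOpen_iff` (localize the target),
  `relFPHom_of_cover` (glue on the source), `relFPHom_change_target`, `relFPHom_mono_source`,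
  `relFPHom_of_local` (affine communication), `isRelFP_iff` (= S9742 in hom form).
-/

set_option autoImplicit false
set_option linter.style.haveILetI false
universe u

namespace Groth.Agent.Lib.H72RelFP

open AlgebraicGeometry CategoryTheory TopologicalSpace Opposite
open Groth.Agent.Lib.RelFP Groth.Agent.Lib.H90OXModFP Groth.Agent.Lib.AssPush

variable {X S : Scheme.{u}}

/-- `RelFPOn` in ring-hom form. -/
theorem relFPOn_iff (f : X ⟶ S) (F : X.Modules) (U : X.affineOpens) (V : S.affineOpens)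
    (h : (U : X.Opens) ≤ f ⁻¹ᵁ (V : S.Opens)) :
    Flatn.RelFPOn f F U V h ↔
      RelFPHom (f.appLE (V : S.Opens) (U : X.Opens) h).hom Γ(F, (U : X.Opens)) := by
  unfold Flatn.RelFPOn
  letI := (f.appLE (V : S.Opens) (U : X.Opens) h).hom.toAlgebra
  exact relFinitePresentation_iff

/-- Transport along equalities of opens. -/
theorem relFPHom_congr (f : X ⟶ S) (F : X.Modules) {U U' : X.Opens} (e : U = U') {V V' : S.Opens}
    (e' : V = V') (h : U ≤ f ⁻¹ᵁ V) (h' : U' ≤ f ⁻¹ᵁ V') :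
    RelFPHom (f.appLE V U h).hom Γ(F, U) ↔ RelFPHom (f.appLE V' U' h').hom Γ(F, U') := by
  subst e e'
  rfl

/-- Localizing the source affine open. -/
theorem relFPHom_basicOpen (f : X ⟶ S) (F : X.Modules) [F.IsQuasicoherent] {U : X.Opens}
    (hU : IsAffineOpen U) {V : S.Opens} (h : U ≤ f ⁻¹ᵁ V) (g : Γ(X, U))
    (H : RelFPHom (f.appLE V U h).hom Γ(F, U)) :
    RelFPHom (f.appLE V (X.basicOpen g) ((X.basicOpen_le g).trans h)).hom
      Γ(F, X.basicOpen g) := by
  letI := moduleBasicOpen F g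
  haveI := isScalarTower_basicOpen F g
  haveI : IsLocalization.Away g Γ(X, X.basicOpen g) := hU.isLocalization_basicOpen g
  haveI : IsLocalizedModule (Submonoid.powers g) (resBasicOpen F g) :=
    isLocalizedModule_resBasicOpen F (isLocalizingOn_of_isQuasicoherent F hU) g
  have key := RelFPHom.localization (B' := Γ(X, X.basicOpen g)) (f.appLE V U h).hom g
    (resBasicOpen F g) H
  have e : (algebraMap Γ(X, U) Γ(X, X.basicOpen g)).comp (f.appLE V U h).hom =
      (f.appLE V (X.basicOpen g) ((X.basicOpen_le g).trans h)).hom := by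
    have := f.appLE_map h (homOfLE (X.basicOpen_le g)).op
    rw [← this]
    rfl
  rw [e] at key
  exact key

/-- Shrinking the target affine open to a basic open. -/
theorem relFPHom_target_basicOpen_iff (f : X ⟶ S) (F : X.Modules) {U : X.Opens} {V : S.Opens}
    (hV : IsAffineOpen V) (a : Γ(S, V)) (h : U ≤ f ⁻¹ᵁ (S.basicOpen a)) :
    RelFPHom (f.appLE (S.basicOpen a) U h).hom Γ(F, U) ↔
      RelFPHom (f.appLE V U (h.trans (f.preimage_mono (S.basicOpen_le a)))).hom Γ(F, U) := by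
  haveI : IsLocalization.Away a Γ(S, S.basicOpen a) := hV.isLocalization_basicOpen a
  have hι : (algebraMap Γ(S, V) Γ(S, S.basicOpen a)).FinitePresentation := by
    rw [RingHom.finitePresentation_algebraMap]
    exact IsLocalization.Away.finitePresentation a
  have e : (f.appLE (S.basicOpen a) U h).hom.comp (algebraMap Γ(S, V) Γ(S, S.basicOpen a)) =
      (f.appLE V U (h.trans (f.preimage_mono (S.basicOpen_le a)))).hom := by
    have := f.map_appLE h (homOfLE (S.basicOpen_le a)).op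
    rw [← this]
    rfl
  rw [← e]
  exact ⟨fun H => RelFPHom.comp_base _ hι _ H, fun H => RelFPHom.of_comp_base _ hι _ H⟩


/-- Finite type: a polynomial presentation of `Γ(X, U)` over `Γ(S, V)`. -/
theorem exists_presentation (f : X ⟶ S) [LocallyOfFiniteType f] {U : X.Opens}
    (hU : IsAffineOpen U) {V : S.Opens} (hV : IsAffineOpen V) (h : U ≤ f ⁻¹ᵁ V) :
    ∃ (n : ℕ) (α : MvPolynomial (Fin n) Γ(S, V) →+* Γ(X, U)),
      α.comp MvPolynomial.C = (f.appLE V U h).hom ∧ Function.Surjective α := by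
  have hft : RingHom.FiniteType (f.appLE V U h).hom :=
    HasRingHomProperty.appLE (P := @LocallyOfFiniteType) f ‹_› ⟨V, hV⟩ ⟨U, hU⟩ h
  letI := (f.appLE V U h).hom.toAlgebra
  haveI : Algebra.FiniteType Γ(S, V) Γ(X, U) := hft
  obtain ⟨n, α, hα⟩ := Algebra.FiniteType.iff_quotient_mvPolynomial''.mp
    (inferInstance : Algebra.FiniteType Γ(S, V) Γ(X, U))
  refine ⟨n, α.toRingHom, ?_, hα⟩
  ext r
  exact α.commutes r

/-- **Glueing on the source**: relative finite presentation can be checked on a cover of the affine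
open `U` by basic opens. -/
theorem relFPHom_of_cover (f : X ⟶ S) [LocallyOfFiniteType f] (F : X.Modules) [F.IsQuasicoherent]
    {U : X.Opens} (hU : IsAffineOpen U) {V : S.Opens} (hV : IsAffineOpen V) (h : U ≤ f ⁻¹ᵁ V)
    (H : ∀ x ∈ U, ∃ g : Γ(X, U), x ∈ X.basicOpen g ∧
      RelFPHom (f.appLE V (X.basicOpen g) ((X.basicOpen_le g).trans h)).hom
        Γ(F, X.basicOpen g)) :
    RelFPHom (f.appLE V U h).hom Γ(F, U) := by
  obtain ⟨n, α, hαC, hα⟩ := exists_presentation f hU hV h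
  refine ⟨n, α, hαC, hα, ?_⟩
  let s : Set (MvPolynomial (Fin n) Γ(S, V)) := {g' |
    RelFPHom (f.appLE V (X.basicOpen (α g')) ((X.basicOpen_le (α g')).trans h)).hom
      Γ(F, X.basicOpen (α g'))}
  refine fpVia_of_localizationSpan α hα s ?_ ?_
  · rw [← hU.self_le_iSup_basicOpen_iff]
    intro x hx
    obtain ⟨g, hxg, Hg⟩ := H x hx
    obtain ⟨g', rfl⟩ := hα g
    exact Opens.mem_iSup.mpr ⟨⟨α g', g', Hg, rfl⟩, hxg⟩
  · intro g' hg'
    letI : Algebra (MvPolynomial (Fin n) Γ(S, V)) Γ(X, U) := α.toAlgebra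
    letI : Algebra (MvPolynomial (Fin n) Γ(S, V)) Γ(X, X.basicOpen (α g')) :=
      ((algebraMap Γ(X, U) Γ(X, X.basicOpen (α g'))).comp α).toAlgebra
    haveI : IsScalarTower (MvPolynomial (Fin n) Γ(S, V)) Γ(X, U) Γ(X, X.basicOpen (α g')) :=
      IsScalarTower.of_algebraMap_eq fun _ => rfl
    letI : Module (MvPolynomial (Fin n) Γ(S, V)) Γ(F, U) := Module.compHom _ α
    haveI : IsScalarTower (MvPolynomial (Fin n) Γ(S, V)) Γ(X, U) Γ(F, U) :=
      IsScalarTower.of_algebraMap_smul fun _ _ => rfl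
    letI := moduleBasicOpen F (α g')
    haveI := isScalarTower_basicOpen F (α g')
    letI : Module (MvPolynomial (Fin n) Γ(S, V)) Γ(F, X.basicOpen (α g')) := Module.compHom _ α
    haveI : IsScalarTower (MvPolynomial (Fin n) Γ(S, V)) Γ(X, U) Γ(F, X.basicOpen (α g')) :=
      IsScalarTower.of_algebraMap_smul fun _ _ => rfl
    haveI : IsLocalization.Away (algebraMap (MvPolynomial (Fin n) Γ(S, V)) Γ(X, U) g')
        Γ(X, X.basicOpen (α g')) := hU.isLocalization_basicOpen (α g')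
    haveI : IsLocalizedModule
        (Submonoid.powers (algebraMap (MvPolynomial (Fin n) Γ(S, V)) Γ(X, U) g'))
        (resBasicOpen F (α g')) :=
      isLocalizedModule_resBasicOpen F (isLocalizingOn_of_isQuasicoherent F hU) (α g')
    have hsurj : Function.Surjective (algebraMap (MvPolynomial (Fin n) Γ(S, V)) Γ(X, U)) := hα
    refine (fpVia_awayLift_iff (B := Γ(X, U)) (B' := Γ(X, X.basicOpen (α g'))) g'
      (resBasicOpen F (α g'))).mp ?_
    refine (relFPHom_iff_fpVia
      (f.appLE V (X.basicOpen (α g')) ((X.basicOpen_le (α g')).trans h)).hom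
      ((algebraMap (MvPolynomial (Fin n) Γ(S, V)) (Localization.Away g')).comp MvPolynomial.C)
      ((finitePresentation_away g').comp (finitePresentation_C n))
      (awayLift (B := Γ(X, U)) (B' := Γ(X, X.basicOpen (α g'))) g')
      (awayLift_surjective hsurj g') ?_ _).mp hg'
    rw [← RingHom.comp_assoc, awayLift_comp]
    have e : (algebraMap Γ(X, U) Γ(X, X.basicOpen (α g'))).comp (f.appLE V U h).hom =
        (f.appLE V (X.basicOpen (α g')) ((X.basicOpen_le (α g')).trans h)).hom := by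
      have := f.appLE_map h (homOfLE (X.basicOpen_le (α g'))).op
      rw [← this]
      rfl
    rw [← e, ← hαC]
    rfl


/-- **Independence of the target affine open**. -/
theorem relFPHom_change_target (f : X ⟶ S) [LocallyOfFiniteType f] (F : X.Modules)
    [F.IsQuasicoherent] {U : X.Opens} (hU : IsAffineOpen U) {V V' : S.Opens}
    (hV : IsAffineOpen V) (hV' : IsAffineOpen V') (h : U ≤ f ⁻¹ᵁ V) (h' : U ≤ f ⁻¹ᵁ V')
    (H : RelFPHom (f.appLE V U h).hom Γ(F, U)) : RelFPHom (f.appLE V' U h').hom Γ(F, U) := by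
  refine relFPHom_of_cover f F hU hV' h' fun x hx => ?_
  obtain ⟨a, a', haa', hxa⟩ := exists_basicOpen_le_affine_inter hV hV' (f x) ⟨h hx, h' hx⟩
  refine ⟨f.appLE V U h a, ?_, ?_⟩
  · rw [Scheme.basicOpen_appLE]
    exact ⟨hx, hxa⟩
  · have hle : X.basicOpen (f.appLE V U h a) ≤ f ⁻¹ᵁ (S.basicOpen a) := by
      rw [Scheme.basicOpen_appLE]
      exact inf_le_right
    have hle' : X.basicOpen (f.appLE V U h a) ≤ f ⁻¹ᵁ (S.basicOpen a') := haa' ▸ hle
    have h1 := relFPHom_basicOpen f F hU h (f.appLE V U h a) H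
    have h2 := (relFPHom_target_basicOpen_iff f F hV a hle).mpr h1
    have h3 := (relFPHom_congr f F rfl haa' hle hle').mp h2
    exact (relFPHom_target_basicOpen_iff f F hV' a' hle').mp h3

/-- Monotonicity in the source affine open. -/
theorem relFPHom_mono_source (f : X ⟶ S) [LocallyOfFiniteType f] (F : X.Modules)
    [F.IsQuasicoherent] {U W : X.Opens} (hU : IsAffineOpen U) (hW : IsAffineOpen W) (hWU : W ≤ U)
    {V : S.Opens} (hV : IsAffineOpen V) (h : U ≤ f ⁻¹ᵁ V)
    (H : RelFPHom (f.appLE V U h).hom Γ(F, U)) :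
    RelFPHom (f.appLE V W (hWU.trans h)).hom Γ(F, W) := by
  refine relFPHom_of_cover f F hW hV (hWU.trans h) fun x hx => ?_
  obtain ⟨gW, gU, hg, hxg⟩ := exists_basicOpen_le_affine_inter hW hU x ⟨hx, hWU hx⟩
  refine ⟨gW, hxg, ?_⟩
  have h1 := relFPHom_basicOpen f F hU h gU H
  exact (relFPHom_congr f F hg.symm rfl _ _).mp h1

/-- **Affine communication for relative finite presentation**: if every point of the affine open
`U₀` has an affine open neighbourhood `U` (mapping into an affine open `V` of `S`) on which `F` is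
finitely presented relative to `V`, then `F` is finitely presented on `U₀` relative to any affine
`V₀ ⊇ f(U₀)`. -/
theorem relFPHom_of_local (f : X ⟶ S) [LocallyOfFiniteType f] (F : X.Modules)
    [F.IsQuasicoherent] {U₀ : X.Opens} (hU₀ : IsAffineOpen U₀) {V₀ : S.Opens}
    (hV₀ : IsAffineOpen V₀) (h₀ : U₀ ≤ f ⁻¹ᵁ V₀)
    (H : ∀ x ∈ U₀, ∃ (U : X.Opens) (V : S.Opens) (_ : IsAffineOpen U) (_ : IsAffineOpen V)
      (h : U ≤ f ⁻¹ᵁ V), x ∈ U ∧ RelFPHom (f.appLE V U h).hom Γ(F, U)) :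
    RelFPHom (f.appLE V₀ U₀ h₀).hom Γ(F, U₀) := by
  refine relFPHom_of_cover f F hU₀ hV₀ h₀ fun x hx => ?_
  obtain ⟨U, V, hU, hV, h, hxU, HU⟩ := H x hx
  obtain ⟨g₀, g, hg, hxg⟩ := exists_basicOpen_le_affine_inter hU₀ hU x ⟨hx, hxU⟩
  refine ⟨g₀, hxg, ?_⟩
  have h1 := relFPHom_basicOpen f F hU h g HU
  have h2 := (relFPHom_congr f F hg.symm rfl ((X.basicOpen_le g).trans h)
    (hg ▸ ((X.basicOpen_le g).trans h))).mp h1
  exact relFPHom_change_target f F (hU₀.basicOpen g₀) hV hV₀ _ _ h2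

/-- `Flatn.IsRelFP` in terms of all pairs of affine opens (Lean form of S9742). -/
theorem isRelFP_iff (f : X ⟶ S) [LocallyOfFiniteType f] (F : X.Modules) [F.IsQuasicoherent] :
    Flatn.IsRelFP f F ↔
      ∀ (U : X.Opens) (V : S.Opens) (_ : IsAffineOpen U) (_ : IsAffineOpen V) (h : U ≤ f ⁻¹ᵁ V),
        RelFPHom (f.appLE V U h).hom Γ(F, U) := by
  constructor
  · rintro ⟨𝒱, h𝒱, H⟩ U₀ V₀ hU₀ hV₀ h₀
    refine relFPHom_of_local f F hU₀ hV₀ h₀ fun x hx => ?_
    have hfx : f x ∈ (⨆ V ∈ 𝒱, (V : S.Opens)) := by rw [h𝒱]; trivial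
    simp only [Opens.mem_iSup] at hfx
    obtain ⟨V, hV𝒱, hfxV⟩ := hfx
    obtain ⟨𝒰, h𝒰, HU⟩ := H V hV𝒱
    have hxV : x ∈ f ⁻¹ᵁ (V : S.Opens) := hfxV
    rw [← h𝒰] at hxV
    simp only [Opens.mem_iSup] at hxV
    obtain ⟨U, hU𝒰, hxU⟩ := hxV
    have hUV : (U : X.Opens) ≤ f ⁻¹ᵁ (V : S.Opens) := by
      rw [← h𝒰]
      exact le_iSup₂ (f := fun (U : X.affineOpens) (_ : U ∈ 𝒰) => (U : X.Opens)) U hU𝒰
    exact ⟨U, V, U.2, V.2, hUV, hxU, (relFPOn_iff f F U V hUV).mp (HU U hU𝒰 hUV)⟩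
  · intro H
    refine ⟨Set.univ, ?_, fun V _ => ⟨{U | (U : X.Opens) ≤ f ⁻¹ᵁ (V : S.Opens)}, ?_, ?_⟩⟩
    · rw [eq_top_iff]
      intro y _
      obtain ⟨_, ⟨V, hV, rfl⟩, hyV, -⟩ :=
        S.isBasis_affineOpens.exists_subset_of_mem_open (Set.mem_univ y) isOpen_univ
      simp only [Opens.mem_iSup]
      exact ⟨⟨V, hV⟩, Set.mem_univ _, hyV⟩
    · apply le_antisymm
      · exact iSup₂_le fun U hU => hU
      · intro x hx
        obtain ⟨_, ⟨U, hU, rfl⟩, hxU, hUV⟩ :=
          X.isBasis_affineOpens.exists_subset_of_mem_open hx (f ⁻¹ᵁ (V : S.Opens)).isOpen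
        simp only [Opens.mem_iSup]
        exact ⟨⟨U, hU⟩, hUV, hxU⟩
    · intro U _ h
      exact (relFPOn_iff f F U V h).mpr (H U V U.2 V.2 h)

end Groth.Agent.Lib.H72RelFP
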