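import Mathlib
import Groth.Agent.Lib.H72LimRing
import Groth.Agent.Lib.SchDenseFlat68

/-!
# Schematic density of an open in a cofiltered limit of Noetherian schemes (helper72)

* `isSchematicallyDense_of_nonZeroDivisors`: an open `V` of a scheme `Y` is schematically dense as soon as every
  point has an affine open neighbourhood `W` carrying a nonzerodivisor `r ∈ Γ(Y, W)` with `D(r) ≤ V`.
* `map_mem_nonZeroDivisors_of_flat_of_ann`: for a flat ring map `φ : A → B` killing the annihilator of `x`,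
  `φ x` is a nonzerodivisor.
* limit lemmas (flat affine transitions): nonzerodivisors go up to the limit and come down to a stage.
* `isSchematicallyDense_limit_iff` (EGA IV 11.10.x in the limit setting).
-/

set_option autoImplicit false
universe u

open CategoryTheory CategoryTheory.Limits AlgebraicGeometry Opposite TopologicalSpace

namespace Groth.Agent.Lib.H72SchDenseLim

/-- Criterion for schematic density: locally there are nonzerodivisors whose nonvanishing loci lie in `V`. -/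
theorem isSchematicallyDense_of_nonZeroDivisors {Y : Scheme.{u}} (V : Y.Opens)
    (h : ∀ y : Y, ∃ W : Y.Opens, IsAffineOpen W ∧ y ∈ W ∧
      ∃ r : Γ(Y, W), r ∈ nonZeroDivisors Γ(Y, W) ∧ Y.basicOpen r ≤ V) :
    CInt.IsSchematicallyDense V := by
  intro O
  rw [injective_iff_map_eq_zero]
  intro s hs
  refine Y.IsSheaf.section_ext fun y hy => ?_
  obtain ⟨T, hT, hyT, r, hr, hrV⟩ := h y
  obtain ⟨W, hW, hyW, hWle⟩ := Opens.isBasis_iff_nbhd.mp Y.isBasis_affineOpens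
    (show y ∈ O ⊓ T from ⟨hy, hyT⟩)
  have hWO : W ≤ O := hWle.trans inf_le_left
  have hWT : W ≤ T := hWle.trans inf_le_right
  refine ⟨W, hWO, hyW, ?_⟩
  rw [map_zero]
  set φr := (Y.presheaf.map (homOfLE hWT).op).hom r with hφr
  have hφnzd : φr ∈ nonZeroDivisors Γ(Y, W) :=
    Groth.Agent.Lib.RelCartier.map_mem_nonZeroDivisors_of_flat _
      (Groth.Agent.Lib.RelCartier.flat_res hW hT hWT) r hr
  have hD : Y.basicOpen φr ≤ O ⊓ V := by
    rw [hφr, Scheme.basicOpen_res]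
    rintro z ⟨hz1, hz2⟩
    exact ⟨hWO hz1, hrV hz2⟩
  have h0 : Y.presheaf.map (homOfLE (Y.basicOpen_le φr)).op (Y.presheaf.map (homOfLE hWO).op s) = 0 := by
    have : Y.presheaf.map (homOfLE hWO).op ≫ Y.presheaf.map (homOfLE (Y.basicOpen_le φr)).op =
        Y.presheaf.map (homOfLE (inf_le_left : O ⊓ V ≤ O)).op ≫
          Y.presheaf.map (homOfLE hD).op := by
      rw [← Functor.map_comp, ← Functor.map_comp]; rfl
    rw [← CommRingCat.comp_apply, this, CommRingCat.comp_apply, hs, map_zero]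
  obtain ⟨n, hn⟩ := exists_pow_mul_eq_zero_of_res_basicOpen_eq_zero_of_isAffineOpen Y hW
    (Y.presheaf.map (homOfLE hWO).op s) φr h0
  exact (mem_nonZeroDivisors_iff_left.mp (pow_mem hφnzd n)) _ hn

open scoped TensorProduct in
/-- A flat ring map killing the annihilator of `x` sends `x` to a nonzerodivisor. -/
theorem map_mem_nonZeroDivisors_of_flat_of_ann {A B : Type*} [CommRing A] [CommRing B] (φ : A →+* B)
    (hφ : φ.Flat) (x : A) (h : ∀ a : A, x * a = 0 → φ a = 0) : φ x ∈ nonZeroDivisors B := by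
  letI := φ.toAlgebra
  haveI : Module.Flat A B := hφ
  rw [mem_nonZeroDivisors_iff_right]
  intro b hb
  -- the exact sequence `K → A → A`
  let m : A →ₗ[A] A := LinearMap.mulLeft A x
  let K : Submodule A A := LinearMap.ker m
  have hex : Function.Exact K.subtype m := LinearMap.exact_subtype_ker_map m
  have hex' : Function.Exact (K.subtype.lTensor B) (m.lTensor B) := Module.Flat.lTensor_exact B hex
  have h1 : (m.lTensor B) (b ⊗ₜ[A] (1 : A)) = 0 := by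
    rw [LinearMap.lTensor_tmul]
    change b ⊗ₜ[A] (x * 1) = 0
    rw [mul_one]
    have : b ⊗ₜ[A] x = (x • b) ⊗ₜ[A] (1 : A) := by
      rw [TensorProduct.smul_tmul, smul_eq_mul, mul_one]
    rw [this, Algebra.smul_def]
    change (φ x * b) ⊗ₜ[A] (1 : A) = 0
    rw [mul_comm, hb, TensorProduct.zero_tmul]
  obtain ⟨t, ht⟩ := (hex' _).mp h1
  have h2 : ∀ t : B ⊗[A] K, (TensorProduct.rid A B) ((K.subtype.lTensor B) t) = 0 := by
    intro t
    induction t using TensorProduct.induction_on with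
    | zero => simp
    | tmul b' k =>
      rw [LinearMap.lTensor_tmul, TensorProduct.rid_tmul]
      change (k : A) • b' = 0
      rw [Algebra.smul_def]
      change φ (k : A) * b' = 0
      have hk : x * (k : A) = 0 := k.2
      rw [h _ hk, zero_mul]
    | add a b ha hb => rw [map_add, map_add, ha, hb, add_zero]
  have h3 := h2 t
  rw [ht, TensorProduct.rid_tmul, one_smul] at h3
  exact h3


section Limit

open Groth.Agent.Lib.H72LimRing

variable {J : Type u} [Category.{u} J] (E : J ⥤ Scheme.{u}) (c : Cone E) (j₀ : J)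
  (Ω : (E.obj j₀).Opens)

theorem trans_comp {j k l : Over j₀} (φ : j ⟶ k) (ψ : k ⟶ l) (x : Γ(E.obj l.left, ΩAt E j₀ Ω l)) :
    trans E j₀ Ω (φ ≫ ψ) x = trans E j₀ Ω φ (trans E j₀ Ω ψ x) := by
  change ((E.map (φ ≫ ψ).left).appLE (ΩAt E j₀ Ω l) (ΩAt E j₀ Ω j) (ΩAt_le E j₀ Ω (φ ≫ ψ))).hom x =
    ((E.map ψ.left).appLE (ΩAt E j₀ Ω l) (ΩAt E j₀ Ω k) (ΩAt_le E j₀ Ω ψ) ≫
      (E.map φ.left).appLE (ΩAt E j₀ Ω k) (ΩAt E j₀ Ω j) (ΩAt_le E j₀ Ω φ)).hom x
  congr 2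
  rw [Scheme.Hom.appLE_comp_appLE]
  congr 1
  exact E.map_comp φ.left ψ.left

theorem toLim_trans {j k : Over j₀} (φ : j ⟶ k) (x : Γ(E.obj k.left, ΩAt E j₀ Ω k)) :
    toLim E c j₀ Ω j (trans E j₀ Ω φ x) = toLim E c j₀ Ω k x :=
  congr($(toLim_comp_trans E c j₀ Ω φ) x)

variable [∀ {i j} (φ : i ⟶ j), Flat (E.map φ)] [∀ {i j} (φ : i ⟶ j), IsAffineHom (E.map φ)]

variable {Ω} in
theorem trans_mem_nonZeroDivisors (hΩ : IsAffineOpen Ω) {j k : Over j₀} (φ : j ⟶ k)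
    (x : Γ(E.obj k.left, ΩAt E j₀ Ω k)) (hx : x ∈ nonZeroDivisors Γ(E.obj k.left, ΩAt E j₀ Ω k)) :
    trans E j₀ Ω φ x ∈ nonZeroDivisors Γ(E.obj j.left, ΩAt E j₀ Ω j) :=
  Groth.Agent.Lib.RelCartier.map_mem_nonZeroDivisors_of_flat _
    (Flat.flat_appLE (E.map φ.left) (hΩ.preimage (E.map k.hom)) (hΩ.preimage (E.map j.hom))
      (ΩAt_le E j₀ Ω φ)) x hx

variable [IsCofiltered J]

variable {Ω} in
/-- Nonzerodivisors at a stage stay nonzerodivisors in the limit (flat affine transitions). -/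
theorem toLim_mem_nonZeroDivisors (hc : IsLimit c) (hΩ : IsAffineOpen Ω) (j : Over j₀)
    (x : Γ(E.obj j.left, ΩAt E j₀ Ω j)) (hx : x ∈ nonZeroDivisors Γ(E.obj j.left, ΩAt E j₀ Ω j)) :
    toLim E c j₀ Ω j x ∈ nonZeroDivisors Γ(c.pt, ΩLim E c j₀ Ω) := by
  rw [mem_nonZeroDivisors_iff_right]
  intro y hy
  obtain ⟨k, yk, rfl⟩ := exists_toLim_eq E c j₀ Ω hc hΩ y
  obtain ⟨l, a, b, -⟩ := IsCofilteredOrEmpty.cone_objs k j
  have h1 : toLim E c j₀ Ω l (trans E j₀ Ω a yk * trans E j₀ Ω b x) = 0 := by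
    rw [map_mul, toLim_trans, toLim_trans, hy]
  obtain ⟨m, φ, hm⟩ := exists_trans_eq_zero E c j₀ Ω hc hΩ l _ h1
  rw [map_mul] at hm
  have h2 : trans E j₀ Ω φ (trans E j₀ Ω b x) ∈ nonZeroDivisors _ :=
    trans_mem_nonZeroDivisors E j₀ hΩ φ _ (trans_mem_nonZeroDivisors E j₀ hΩ b x hx)
  have h3 : trans E j₀ Ω φ (trans E j₀ Ω a yk) = 0 :=
    (mem_nonZeroDivisors_iff_right.mp h2) _ hm
  rw [← toLim_trans E c j₀ Ω a yk, ← toLim_trans E c j₀ Ω φ, h3, map_zero]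

variable {Ω} in
omit [∀ {i j} (φ : i ⟶ j), Flat (E.map φ)] in
theorem exists_trans_eq_zero_finset (hc : IsLimit c) (hΩ : IsAffineOpen Ω) (j : Over j₀)
    (s : Finset Γ(E.obj j.left, ΩAt E j₀ Ω j)) (hs : ∀ g ∈ s, toLim E c j₀ Ω j g = 0) :
    ∃ (k : Over j₀) (φ : k ⟶ j), ∀ g ∈ s, trans E j₀ Ω φ g = 0 := by
  classical
  induction s using Finset.induction_on with
  | empty => exact ⟨j, 𝟙 j, fun g hg => absurd hg (Finset.notMem_empty g)⟩
  | insert g s _ ih =>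
    obtain ⟨k₁, φ₁, h₁⟩ := ih (fun q hq => hs q (Finset.mem_insert_of_mem hq))
    obtain ⟨k₂, φ₂, h₂⟩ := exists_trans_eq_zero E c j₀ Ω hc hΩ j g (hs g (Finset.mem_insert_self g s))
    obtain ⟨l, a, b, hab⟩ := IsCofiltered.cospan φ₁ φ₂
    refine ⟨l, a ≫ φ₁, fun q hq => ?_⟩
    rcases Finset.mem_insert.mp hq with rfl | hq
    · rw [hab, trans_comp, h₂, map_zero]
    · rw [trans_comp, h₁ q hq, map_zero]

variable {Ω} in
/-- An element at a Noetherian stage which becomes a nonzerodivisor in the limit is a nonzerodivisor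
at some later stage (flat affine transitions). -/
theorem exists_trans_mem_nonZeroDivisors (hc : IsLimit c) (hΩ : IsAffineOpen Ω) (j : Over j₀)
    [IsNoetherianRing Γ(E.obj j.left, ΩAt E j₀ Ω j)]
    (x : Γ(E.obj j.left, ΩAt E j₀ Ω j))
    (hx : toLim E c j₀ Ω j x ∈ nonZeroDivisors Γ(c.pt, ΩLim E c j₀ Ω)) :
    ∃ (k : Over j₀) (φ : k ⟶ j),
      trans E j₀ Ω φ x ∈ nonZeroDivisors Γ(E.obj k.left, ΩAt E j₀ Ω k) := by
  classical
  let K : Ideal Γ(E.obj j.left, ΩAt E j₀ Ω j) :=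
    LinearMap.ker (LinearMap.mulLeft Γ(E.obj j.left, ΩAt E j₀ Ω j) x)
  obtain ⟨s, hs⟩ : K.FG := IsNoetherian.noetherian K
  have hsK : ∀ g ∈ s, x * g = 0 := fun g hg => by
    have : g ∈ K := hs ▸ Submodule.subset_span hg
    exact this
  obtain ⟨k, φ, hk⟩ := exists_trans_eq_zero_finset E c j₀ hc hΩ j s (fun g hg => by
    refine (mem_nonZeroDivisors_iff_right.mp hx) _ ?_
    rw [← map_mul, mul_comm, hsK g hg, map_zero])
  have hK0 : ∀ a ∈ Submodule.span Γ(E.obj j.left, ΩAt E j₀ Ω j)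
      (s : Set Γ(E.obj j.left, ΩAt E j₀ Ω j)), trans E j₀ Ω φ a = 0 := by
    intro a haK
    induction haK using Submodule.span_induction with
    | mem a ha' => exact hk a ha'
    | zero => exact map_zero _
    | add a b _ _ ha hb => rw [map_add, ha, hb, add_zero]
    | smul r a _ ha => rw [smul_eq_mul, map_mul, ha, mul_zero]
  refine ⟨k, φ, ?_⟩
  refine map_mem_nonZeroDivisors_of_flat_of_ann _
    (Flat.flat_appLE (E.map φ.left) (hΩ.preimage (E.map j.hom)) (hΩ.preimage (E.map k.hom))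
      (ΩAt_le E j₀ Ω φ)) x ?_
  intro a ha
  refine hK0 a ?_
  have : a ∈ K := ha
  rw [← hs] at this
  exact this


variable (U₀ : (E.obj j₀).Opens)

/-- `x` is a nonzerodivisor on `Ω_j` whose nonvanishing locus lies in the preimage of `U₀`. -/
def Good (j : Over j₀) (x : Γ(E.obj j.left, ΩAt E j₀ Ω j)) : Prop :=
  x ∈ nonZeroDivisors Γ(E.obj j.left, ΩAt E j₀ Ω j) ∧
    (E.obj j.left).basicOpen x ≤ ΩAt E j₀ U₀ j

omit [IsCofiltered J] in
variable {Ω} in
theorem good_trans (hΩ : IsAffineOpen Ω) {j k : Over j₀} (φ : j ⟶ k)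
    {x : Γ(E.obj k.left, ΩAt E j₀ Ω k)} (hx : Good E j₀ Ω U₀ k x) :
    Good E j₀ Ω U₀ j (trans E j₀ Ω φ x) := by
  refine ⟨trans_mem_nonZeroDivisors E j₀ hΩ φ x hx.1, ?_⟩
  have h1 : (E.obj j.left).basicOpen (trans E j₀ Ω φ x) =
      ΩAt E j₀ Ω j ⊓ E.map φ.left ⁻¹ᵁ ((E.obj k.left).basicOpen x) :=
    Scheme.basicOpen_appLE (E.map φ.left) (ΩAt E j₀ Ω j) (ΩAt E j₀ Ω k) (ΩAt_le E j₀ Ω φ) x
  have h2 : E.map φ.left ⁻¹ᵁ ΩAt E j₀ U₀ k = ΩAt E j₀ U₀ j := by
    rw [← Scheme.Hom.comp_preimage, ← E.map_comp, Over.w φ]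
  rw [h1, ← h2]
  exact inf_le_right.trans (Scheme.Hom.preimage_mono _ hx.2)

variable {Ω} in
/-- Step A: a schematically dense preimage in the limit yields a good nonzerodivisor at some stage. -/
theorem exists_good (hc : IsLimit c) (hΩ : IsAffineOpen Ω) [IsLocallyNoetherian c.pt]
    [∀ j, IsLocallyNoetherian (E.obj j)]
    (hU : CInt.IsSchematicallyDense (c.π.app j₀ ⁻¹ᵁ U₀)) :
    ∃ (l : Over j₀) (x : Γ(E.obj l.left, ΩAt E j₀ Ω l)), Good E j₀ Ω U₀ l x := by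
  have := isAffineHom_π_app E c hc
  have hW : IsAffineOpen (ΩLim E c j₀ Ω) := hΩ.preimage (c.π.app j₀)
  obtain ⟨α, hα, hαU⟩ := Groth.Agent.Lib.SchDenseFlat68.exists_nonZeroDivisor_basicOpen_le
    ⟨ΩLim E c j₀ Ω, hW⟩ _ hU
  obtain ⟨j, x, hx⟩ := exists_toLim_eq E c j₀ Ω hc hΩ α
  have : IsNoetherianRing Γ(E.obj j.left, ΩAt E j₀ Ω j) :=
    IsLocallyNoetherian.component_noetherian ⟨_, hΩ.preimage (E.map j.hom)⟩
  obtain ⟨k, φ, hk⟩ := exists_trans_mem_nonZeroDivisors E c j₀ hc hΩ j x (hx ▸ hα)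
  set xk := trans E j₀ Ω φ x with hxk
  have hxkα : toLim E c j₀ Ω k xk = α := by rw [hxk, toLim_trans, hx]
  -- the nonvanishing locus of `xk` pulls back into `U`
  have hΩk : c.π.app k.left ⁻¹ᵁ ΩAt E j₀ Ω k = ΩLim E c j₀ Ω := by
    rw [← Scheme.Hom.comp_preimage, c.w]
  have hVk : c.π.app k.left ⁻¹ᵁ ΩAt E j₀ U₀ k = c.π.app j₀ ⁻¹ᵁ U₀ := by
    rw [← Scheme.Hom.comp_preimage, c.w]
  have hbα : c.pt.basicOpen α =
      ΩLim E c j₀ Ω ⊓ c.π.app k.left ⁻¹ᵁ ((E.obj k.left).basicOpen xk) := by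
    rw [← hxkα]
    exact Scheme.basicOpen_appLE (c.π.app k.left) (ΩLim E c j₀ Ω) (ΩAt E j₀ Ω k)
      (ΩLim_le E c j₀ Ω k) xk
  have H : c.π.app k.left ⁻¹ᵁ ((E.obj k.left).basicOpen xk) ≤
      c.π.app k.left ⁻¹ᵁ ΩAt E j₀ U₀ k := by
    rw [hVk]
    refine le_trans ?_ hαU
    rw [hbα]
    refine le_inf ?_ le_rfl
    rw [← hΩk]
    exact Scheme.Hom.preimage_mono _ ((E.obj k.left).basicOpen_le xk)
  obtain ⟨m, ψ, hm⟩ := exists_map_preimage_le_map_preimage E c hc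
    ((hΩ.preimage (E.map k.hom)).basicOpen xk).isCompact H
  let l : Over j₀ := Over.mk (ψ ≫ k.hom)
  let ρ : l ⟶ k := Over.homMk ψ rfl
  refine ⟨l, trans E j₀ Ω ρ xk, trans_mem_nonZeroDivisors E j₀ hΩ ρ xk hk, ?_⟩
  have h1 : (E.obj l.left).basicOpen (trans E j₀ Ω ρ xk) =
      ΩAt E j₀ Ω l ⊓ E.map ρ.left ⁻¹ᵁ ((E.obj k.left).basicOpen xk) :=
    Scheme.basicOpen_appLE (E.map ρ.left) (ΩAt E j₀ Ω l) (ΩAt E j₀ Ω k) (ΩAt_le E j₀ Ω ρ) xk
  have h2 : E.map ρ.left ⁻¹ᵁ ΩAt E j₀ U₀ k = ΩAt E j₀ U₀ l := by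
    rw [← Scheme.Hom.comp_preimage, ← E.map_comp, Over.w ρ]
  rw [h1, ← h2]
  exact inf_le_right.trans hm


/-- Step C: finitely many affine opens get good nonzerodivisors at a common stage. -/
theorem exists_good_finset (hc : IsLimit c) [IsLocallyNoetherian c.pt]
    [∀ j, IsLocallyNoetherian (E.obj j)]
    (hU : CInt.IsSchematicallyDense (c.π.app j₀ ⁻¹ᵁ U₀)) (t : Finset (E.obj j₀).affineOpens) :
    ∃ l : Over j₀, ∀ T ∈ t, ∃ x : Γ(E.obj l.left, ΩAt E j₀ T.1 l), Good E j₀ T.1 U₀ l x := by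
  classical
  induction t using Finset.induction_on with
  | empty => exact ⟨Over.mk (𝟙 j₀), fun T hT => absurd hT (Finset.notMem_empty T)⟩
  | insert T t _ ih =>
    obtain ⟨l₁, h₁⟩ := ih
    obtain ⟨l₂, x₂, h₂⟩ := exists_good E c j₀ U₀ hc T.2 hU
    obtain ⟨l, a, b, -⟩ := IsCofilteredOrEmpty.cone_objs l₁ l₂
    refine ⟨l, fun T' hT' => ?_⟩
    rcases Finset.mem_insert.mp hT' with rfl | hT'
    · exact ⟨_, good_trans E j₀ U₀ T'.2 b h₂⟩
    · obtain ⟨x, hx⟩ := h₁ T' hT'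
      exact ⟨_, good_trans E j₀ U₀ T'.2 a hx⟩

/-- **Schematic density descends from the limit to a stage** (Noetherian stages, flat affine transitions). -/
theorem exists_stage_of_dense (hc : IsLimit c) [IsLocallyNoetherian c.pt]
    [∀ j, IsLocallyNoetherian (E.obj j)] [CompactSpace (E.obj j₀)]
    (hU : CInt.IsSchematicallyDense (c.π.app j₀ ⁻¹ᵁ U₀)) :
    ∃ (i : J) (g : i ⟶ j₀), CInt.IsSchematicallyDense (E.map g ⁻¹ᵁ U₀) := by
  classical
  obtain ⟨t, ht⟩ := isCompact_univ.elim_finite_subcover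
    (fun T : (E.obj j₀).affineOpens => (T.1 : Set (E.obj j₀))) (fun T => T.1.2) (by
      intro x _
      obtain ⟨V, hV, hxV, -⟩ := Opens.isBasis_iff_nbhd.mp (E.obj j₀).isBasis_affineOpens
        (show x ∈ (⊤ : (E.obj j₀).Opens) from trivial)
      exact Set.mem_iUnion.mpr ⟨⟨V, hV⟩, hxV⟩)
  obtain ⟨l, hl⟩ := exists_good_finset E c j₀ U₀ hc hU t
  refine ⟨l.left, l.hom, isSchematicallyDense_of_nonZeroDivisors _ fun y => ?_⟩
  obtain ⟨T, hTt, hyT⟩ : ∃ T ∈ t, (E.map l.hom) y ∈ T.1 := by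
    have := ht (Set.mem_univ ((E.map l.hom) y))
    simpa using this
  obtain ⟨x, hx⟩ := hl T hTt
  exact ⟨ΩAt E j₀ T.1 l, T.2.preimage (E.map l.hom), hyT, x, hx.1, hx.2⟩

/-- **Schematic density ascends from a stage to the limit** (Noetherian stage, flat affine transitions). -/
theorem dense_of_stage (hc : IsLimit c) [IsLocallyNoetherian (E.obj j₀)]
    (hU : CInt.IsSchematicallyDense U₀) :
    CInt.IsSchematicallyDense (c.π.app j₀ ⁻¹ᵁ U₀) := by
  have := isAffineHom_π_app E c hc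
  refine isSchematicallyDense_of_nonZeroDivisors _ fun y => ?_
  obtain ⟨T, hT, hyT, -⟩ := Opens.isBasis_iff_nbhd.mp (E.obj j₀).isBasis_affineOpens
    (show (c.π.app j₀) y ∈ (⊤ : (E.obj j₀).Opens) from trivial)
  obtain ⟨r, hr, hrU⟩ := Groth.Agent.Lib.SchDenseFlat68.exists_nonZeroDivisor_basicOpen_le
    ⟨T, hT⟩ _ hU
  let j : Over j₀ := Over.mk (𝟙 j₀)
  let x : Γ(E.obj j.left, ΩAt E j₀ T j) := ((E.map j.hom).appLE T (ΩAt E j₀ T j) le_rfl).hom r
  have hx : x ∈ nonZeroDivisors Γ(E.obj j.left, ΩAt E j₀ T j) :=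
    Groth.Agent.Lib.RelCartier.map_mem_nonZeroDivisors_of_flat _
      (Flat.flat_appLE (E.map j.hom) hT (hT.preimage (E.map j.hom)) le_rfl) r hr
  have hα := toLim_mem_nonZeroDivisors E c j₀ hc hT j x hx
  have hαr : toLim E c j₀ T j x = ((c.π.app j₀).appLE T (ΩLim E c j₀ T) le_rfl).hom r := by
    letI := algAt E j₀ T j
    letI := algLim E c j₀ T
    exact (toLim E c j₀ T j).commutes r
  rw [hαr] at hα
  refine ⟨ΩLim E c j₀ T, hT.preimage (c.π.app j₀), hyT, _, hα, ?_⟩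
  rw [Scheme.basicOpen_appLE]
  exact inf_le_right.trans (Scheme.Hom.preimage_mono _ hrU)

/-- **EGA IV 11.10-type limit statement**: for a cofiltered system of Noetherian schemes with affine flat
transition maps and locally Noetherian limit, the preimage of `U₀` in the limit is schematically dense iff
its preimage at some stage is. -/
theorem isSchematicallyDense_limit_iff (hc : IsLimit c) [IsLocallyNoetherian c.pt]
    [∀ j, IsLocallyNoetherian (E.obj j)] [CompactSpace (E.obj j₀)] :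
    CInt.IsSchematicallyDense (c.π.app j₀ ⁻¹ᵁ U₀) ↔
      ∃ (i : J) (g : i ⟶ j₀), CInt.IsSchematicallyDense (E.map g ⁻¹ᵁ U₀) := by
  refine ⟨exists_stage_of_dense E c j₀ U₀ hc, ?_⟩
  rintro ⟨i, g, hg⟩
  have h := dense_of_stage E c i (E.map g ⁻¹ᵁ U₀) hc hg
  have e : c.π.app i ⁻¹ᵁ (E.map g ⁻¹ᵁ U₀) = c.π.app j₀ ⁻¹ᵁ U₀ := by
    rw [← Scheme.Hom.comp_preimage, c.w]
  rw [e] at h
  exact h

end Limit

end Groth.Agent.Lib.H72SchDenseLim
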