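import Groth.Agent.Lib.H72Separating
import Mathlib.RingTheory.Artinian.Module

set_option autoImplicit false
universe u

namespace Groth.Agent.Lib.H72SeparatingArt

open TensorProduct

/-- In an Artinian module, a family of submodules with zero intersection has a finite subfamily
with zero intersection. -/
theorem exists_finset_iInf_eq_bot {A' M ι : Type*} [Ring A'] [AddCommGroup M] [Module A' M]
    [IsArtinian A' M] (L : ι → Submodule A' M) (hL : ⨅ i, L i = ⊥) :
    ∃ s : Finset ι, ⨅ i ∈ s, L i = ⊥ := by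
  classical
  obtain ⟨_, ⟨s, rfl⟩, hmin⟩ := IsArtinian.set_has_minimal
    (Set.range fun s : Finset ι => ⨅ i ∈ s, L i) ⟨_, ⟨∅, rfl⟩⟩
  refine ⟨s, ?_⟩
  rw [eq_bot_iff, ← hL]
  refine le_iInf fun j => ?_
  have h1 : (⨅ i ∈ insert j s, L i) ≤ ⨅ i ∈ s, L i := by
    refine le_iInf fun i => le_iInf fun hi => ?_
    exact iInf₂_le i (Finset.mem_insert_of_mem hi)
  have h2 : ¬ (⨅ i ∈ insert j s, L i) < ⨅ i ∈ s, L i := hmin _ ⟨insert j s, rfl⟩
  have h3 : (⨅ i ∈ insert j s, L i) = ⨅ i ∈ s, L i := by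
    rcases h1.lt_or_eq with h | h
    · exact absurd h h2
    · exact h
  rw [← h3]
  exact iInf₂_le j (Finset.mem_insert_self j s)

/-- Over an Artinian ring, flat base change preserves joint injectivity of arbitrary families. -/
theorem lTensor_family_injective_of_isArtinianRing {A' B' M ι : Type*} [CommRing A']
    [IsArtinianRing A'] [CommRing B'] [Algebra A' B'] [Module.Flat A' B']
    [AddCommGroup M] [Module A' M]
    {Mi : ι → Type*} [∀ i, AddCommGroup (Mi i)] [∀ i, Module A' (Mi i)]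
    (u : ∀ i, M →ₗ[A'] Mi i) (hu : ∀ m, (∀ i, u i m = 0) → m = 0)
    (z : B' ⊗[A'] M) (hz : ∀ i, (u i).lTensor B' z = 0) : z = 0 := by
  classical
  obtain ⟨M₀, hfin, hsub⟩ :=
    TensorProduct.exists_finite_submodule_right_of_setFinite ({z} : Set (B' ⊗[A'] M))
      (Set.finite_singleton z)
  obtain ⟨z₀, rfl⟩ := hsub (Set.mem_singleton z)
  have : IsArtinian A' M₀ := isArtinian_of_fg_of_artinian'
  let L : ι → Submodule A' M₀ := fun i => LinearMap.ker ((u i) ∘ₗ M₀.subtype)
  have hL : ⨅ i, L i = ⊥ := by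
    rw [eq_bot_iff]
    intro m hm
    rw [Submodule.mem_iInf] at hm
    rw [Submodule.mem_bot]
    apply Subtype.ext
    exact hu m fun i => hm i
  obtain ⟨s, hs⟩ := exists_finset_iInf_eq_bot L hL
  have key : z₀ = 0 := by
    refine Groth.Agent.Lib.H72Separating.lTensor_pi_injective (ι := s)
      (fun i : s => (u i) ∘ₗ M₀.subtype) ?_ z₀ ?_
    · intro m hm
      have : m ∈ ⨅ i ∈ s, L i := by
        rw [Submodule.mem_iInf]
        intro i
        rw [Submodule.mem_iInf]
        intro hi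
        exact hm ⟨i, hi⟩
      rw [hs] at this
      exact this
    · intro i
      rw [LinearMap.lTensor_comp, LinearMap.comp_apply]
      exact hz i
  rw [key, map_zero]

/-- `IsBaseChange` form. -/
theorem jointly_injective_of_isBaseChange_of_isArtinianRing {A' B' M N ι : Type*} [CommRing A']
    [IsArtinianRing A'] [CommRing B']
    [Algebra A' B'] [Module.Flat A' B']
    [AddCommGroup M] [Module A' M]
    [AddCommGroup N] [Module B' N] [Module A' N] [IsScalarTower A' B' N]
    {Mi Ni : ι → Type*} [∀ i, AddCommGroup (Mi i)] [∀ i, Module A' (Mi i)]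
    [∀ i, AddCommGroup (Ni i)] [∀ i, Module B' (Ni i)] [∀ i, Module A' (Ni i)]
    [∀ i, IsScalarTower A' B' (Ni i)]
    (τ : M →ₗ[A'] N) (hτ : IsBaseChange B' τ)
    (τi : ∀ i, Mi i →ₗ[A'] Ni i) (hτi : ∀ i, IsBaseChange B' (τi i))
    (u : ∀ i, M →ₗ[A'] Mi i) (v : ∀ i, N →ₗ[B'] Ni i)
    (hnat : ∀ i m, τi i (u i m) = v i (τ m))
    (hu : ∀ m, (∀ i, u i m = 0) → m = 0) (n : N) (hn : ∀ i, v i n = 0) : n = 0 := by
  obtain ⟨z, rfl⟩ := hτ.equiv.surjective n
  have e : ∀ i z, (hτi i).equiv ((u i).lTensor B' z) = v i (hτ.equiv z) := by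
    intro i z
    induction z using TensorProduct.induction_on with
    | zero => simp
    | tmul b m =>
      rw [LinearMap.lTensor_tmul, IsBaseChange.equiv_tmul, IsBaseChange.equiv_tmul, map_smul, hnat]
    | add x y hx hy => simp only [map_add, hx, hy]
  have hz : ∀ i, (u i).lTensor B' z = 0 := by
    intro i
    apply (hτi i).equiv.injective
    rw [e, hn i, map_zero]
  rw [lTensor_family_injective_of_isArtinianRing u hu z hz, map_zero]

end Groth.Agent.Lib.H72SeparatingArt
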