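import Mathlib
import Groth.Agent.Lib.H43QuotGrp2

/-!
# Subgroup objects under a monoidal functor, via factorisations (helper72)

Abstract part of the limit argument for closed subgroup schemes: for a monoidal functor
`F : C ⥤ C'` between cartesian monoidal categories, a group object `G₀` of `C` and
`ι₀ : H₀ ⟶ G₀` with `F.map ι₀` mono, a group structure on `F.obj H₀` making `F.map ι₀` a
homomorphism is the same as factorisations through `F.map ι₀` of the images under `F` of the unit,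
of `(ι₀ ⊗ ι₀) ≫ μ` and of `ι₀ ≫ inv`; normality is the factorisation of the image of conjugation.
-/

set_option autoImplicit false
universe v₁ v₂ u₁ u₂

open CategoryTheory CategoryTheory.Limits MonoidalCategory CartesianMonoidalCategory MonObj

namespace Groth.Agent.Lib.H72SubgrpAbs

section Pullback

variable {C : Type u₁} [Category.{v₁} C]

/-- In a pullback square with `r` mono, the projection `l` is an isomorphism iff `b` factors
through `r`. -/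
theorem isIso_iff_exists_factor {P A B Z : C} {t : P ⟶ A} {l : P ⟶ B} {r : A ⟶ Z} {b : B ⟶ Z}
    [Mono r] (sq : IsPullback t l r b) : IsIso l ↔ ∃ w : B ⟶ A, w ≫ r = b := by
  constructor
  · intro h
    refine ⟨inv l ≫ t, ?_⟩
    rw [Category.assoc, sq.w, IsIso.inv_hom_id_assoc]
  · rintro ⟨w, hw⟩
    have hmono : Mono l := ⟨fun x y hxy => by
      apply sq.hom_ext
      · rw [← cancel_mono r, Category.assoc, Category.assoc, sq.w, ← Category.assoc,
          ← Category.assoc, hxy]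
      · exact hxy⟩
    let s : B ⟶ P := sq.lift w (𝟙 B) (by rw [hw, Category.id_comp])
    have hs : s ≫ l = 𝟙 B := sq.lift_snd _ _ _
    refine ⟨s, ?_, hs⟩
    rw [← cancel_mono l, Category.assoc, hs, Category.comp_id, Category.id_comp]

end Pullback

section Grp

variable {C : Type u₁} [Category.{v₁} C] [CartesianMonoidalCategory C]
  {C' : Type u₂} [Category.{v₂} C'] [CartesianMonoidalCategory C']
  (F : C ⥤ C') [F.Monoidal] {G₀ H₀ : C} [GrpObj G₀] (ι₀ : H₀ ⟶ G₀)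

open scoped Obj
open Functor.LaxMonoidal Functor.Monoidal

/-- The unit of `G₀`, to be factored through `ι₀`. -/
abbrev uOne (G₀ : C) [GrpObj G₀] : 𝟙_ C ⟶ G₀ := η[G₀]

/-- The product of two points of `H₀`, computed in `G₀`. -/
abbrev uMul : H₀ ⊗ H₀ ⟶ G₀ := (ι₀ ⊗ₘ ι₀) ≫ μ[G₀]

/-- The inverse of a point of `H₀`, computed in `G₀`. -/
abbrev uInv : H₀ ⟶ G₀ := ι₀ ≫ ι[G₀]

/-- The conjugate of a point of `H₀` by a point of `G₀`. -/
noncomputable abbrev uConj : G₀ ⊗ H₀ ⟶ G₀ := (G₀ ◁ ι₀) ≫ GrpObj.conj G₀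

/-- From factorisations to a group structure. -/
theorem exists_grpObj_of_factor [Mono (F.map ι₀)]
    (h1 : ∃ w : F.obj (𝟙_ C) ⟶ F.obj H₀, w ≫ F.map ι₀ = F.map (uOne G₀))
    (h2 : ∃ w : F.obj (H₀ ⊗ H₀) ⟶ F.obj H₀, w ≫ F.map ι₀ = F.map (uMul ι₀))
    (h3 : ∃ w : F.obj H₀ ⟶ F.obj H₀, w ≫ F.map ι₀ = F.map (uInv ι₀)) :
    ∃ str : GrpObj (F.obj H₀), @IsMonHom C' _ _ (F.obj H₀) (F.obj G₀) str.toMonObj _ (F.map ι₀) := by
  obtain ⟨w1, hw1⟩ := h1
  obtain ⟨w2, hw2⟩ := h2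
  obtain ⟨w3, hw3⟩ := h3
  refine Groth.Agent.Lib.H43QuotGrp.exists_grpObj_of_mono (F.map ι₀) (ε F ≫ w1) ?_
    (Functor.LaxMonoidal.μ F H₀ H₀ ≫ w2) ?_ w3 ?_
  · rw [Category.assoc, hw1, Functor.obj.η_def]
  · rw [Category.assoc, hw2, Functor.obj.μ_def, Functor.map_comp, μ_natural_assoc]
  · rw [hw3, Functor.obj.ι_def, Functor.map_comp]

/-- From a group structure to factorisations. -/
theorem exists_factor_of_grpObj (str : GrpObj (F.obj H₀))
    (hι : @IsMonHom C' _ _ (F.obj H₀) (F.obj G₀) str.toMonObj _ (F.map ι₀)) :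
    (∃ w : F.obj (𝟙_ C) ⟶ F.obj H₀, w ≫ F.map ι₀ = F.map (uOne G₀)) ∧
    (∃ w : F.obj (H₀ ⊗ H₀) ⟶ F.obj H₀, w ≫ F.map ι₀ = F.map (uMul ι₀)) ∧
    (∃ w : F.obj H₀ ⟶ F.obj H₀, w ≫ F.map ι₀ = F.map (uInv ι₀)) := by
  let _ := str
  have := hι
  refine ⟨⟨(εIso F).inv ≫ η[F.obj H₀], ?_⟩, ⟨(μIso F H₀ H₀).inv ≫ μ[F.obj H₀], ?_⟩,
    ⟨ι[F.obj H₀], ?_⟩⟩
  · rw [Category.assoc, IsMonHom.one_hom, Functor.obj.η_def, ← Category.assoc]
    simp
  · rw [Category.assoc, IsMonHom.mul_hom, Functor.obj.μ_def, Functor.map_comp, μ_natural_assoc]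
    simp
  · rw [GrpObj.inv_hom, Functor.obj.ι_def, Functor.map_comp]

/-- Conjugation commutes with `F`. -/
theorem μ_map_uConj :
    Functor.LaxMonoidal.μ F G₀ H₀ ≫ F.map (uConj ι₀) =
      fst (F.obj G₀) (F.obj H₀) * (snd (F.obj G₀) (F.obj H₀) ≫ F.map ι₀) *
        (fst (F.obj G₀) (F.obj H₀))⁻¹ := by
  have h : uConj ι₀ = fst G₀ H₀ * (snd G₀ H₀ ≫ ι₀) * (fst G₀ H₀)⁻¹ := by
    have : (G₀ ◁ ι₀) = lift (fst G₀ H₀) (snd G₀ H₀ ≫ ι₀) := by
      ext <;> simp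
    rw [uConj, this, GrpObj.lift_conj_eq_mul_mul_inv]
  rw [h, Functor.map_mul, Functor.map_mul, Functor.map_inv', MonObj.comp_mul, MonObj.comp_mul,
    GrpObj.comp_inv, Functor.map_comp, ← Category.assoc, μ_fst, μ_snd]

/-- Normality as a factorisation. -/
theorem normal_iff_exists_factor :
    (∀ (T : C') (g : T ⟶ F.obj G₀) (n : T ⟶ F.obj H₀),
        ∃ n' : T ⟶ F.obj H₀, g * (n ≫ F.map ι₀) * g⁻¹ = n' ≫ F.map ι₀) ↔
      ∃ w : F.obj (G₀ ⊗ H₀) ⟶ F.obj H₀, w ≫ F.map ι₀ = F.map (uConj ι₀) := by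
  constructor
  · intro h
    obtain ⟨n', hn'⟩ := h (F.obj G₀ ⊗ F.obj H₀) (fst _ _) (snd _ _)
    refine ⟨(μIso F G₀ H₀).inv ≫ n', ?_⟩
    rw [Category.assoc, ← hn', ← μ_map_uConj, ← Category.assoc]
    simp
  · rintro ⟨w, hw⟩ T g n
    refine ⟨lift g n ≫ Functor.LaxMonoidal.μ F G₀ H₀ ≫ w, ?_⟩
    rw [Category.assoc, Category.assoc, hw, μ_map_uConj, MonObj.comp_mul, MonObj.comp_mul,
      GrpObj.comp_inv, lift_fst, ← Category.assoc, lift_snd]

end Grp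

end Groth.Agent.Lib.H72SubgrpAbs
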