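import Mathlib
import Groth.Agent.Lib.LimDescentIso
import Groth.Agent.Lib.H72SubgrpAbs

/-!
# Closed subgroup schemes descend to a finite stage of a cofiltered limit (helper72)

`exists_stage_factor`: for `ι₀ : H₀ ⟶ G₀` a finitely presented closed immersion over a qcqs stage
`S_{i₀}` and `u₀ : T₀ ⟶ G₀` with `T₀` qcqs over `S_{i₀}`, if the base change of `u₀` to the limit
factors through that of `ι₀` then so do the base changes to all sufficiently fine stages.
-/

set_option autoImplicit false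
universe u

open CategoryTheory Limits AlgebraicGeometry MonoidalCategory CartesianMonoidalCategory MonObj

namespace Groth.Agent.Lib.H72SubgrpLim

open Groth.Agent.Lib.LimPullback Groth.Agent.Lib.LimDescent

section Factor

variable {B B' : Scheme.{u}} (b : B' ⟶ B) {T₀ G₀ H₀ : Over B} (ι₀ : H₀ ⟶ G₀) (u₀ : T₀ ⟶ G₀)

/-- The closed subscheme of `T₀` where `u₀` lands in `H₀`. -/
noncomputable abbrev zMap : pullback u₀.left ι₀.left ⟶ T₀.left := pullback.fst u₀.left ι₀.left

theorem isIso_bcMap_iff [Mono ι₀.left] :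
    IsIso (bcMap (zMap ι₀ u₀) T₀.hom b) ↔
      ∃ w : (Over.pullback b).obj T₀ ⟶ (Over.pullback b).obj H₀,
        w ≫ (Over.pullback b).map ι₀ = (Over.pullback b).map u₀ := by
  have sq : IsPullback (pullback.fst (zMap ι₀ u₀ ≫ T₀.hom) b ≫ pullback.snd u₀.left ι₀.left)
      (bcMap (zMap ι₀ u₀) T₀.hom b) ι₀.left (pullback.fst T₀.hom b ≫ u₀.left) :=
    (isPullback_bcMap (zMap ι₀ u₀) T₀.hom b).paste_horiz
      (IsPullback.of_hasPullback u₀.left ι₀.left).flip
  rw [Groth.Agent.Lib.H72SubgrpAbs.isIso_iff_exists_factor sq]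
  constructor
  · rintro ⟨w', hw'⟩
    have h1 : w' ≫ H₀.hom = pullback.snd T₀.hom b ≫ b := by
      rw [← Over.w ι₀, ← Category.assoc, hw', Category.assoc, Over.w u₀, pullback.condition]
    refine ⟨Over.homMk (pullback.lift w' (pullback.snd T₀.hom b) h1) ?_, ?_⟩
    · simp only [Over.pullback_obj_left, Over.pullback_obj_hom]
      exact pullback.lift_snd _ _ _
    · ext
      apply pullback.hom_ext
      · simp only [Over.pullback_obj_left, Over.comp_left, Over.homMk_left, Over.pullback_map_left,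
          Category.assoc]
        rw [pullback.lift_fst, pullback.lift_fst, pullback.lift_fst_assoc, hw']
      · simp only [Over.pullback_obj_left, Over.comp_left, Over.homMk_left, Over.pullback_map_left,
          Category.assoc]
        rw [pullback.lift_snd, pullback.lift_snd, pullback.lift_snd]
  · rintro ⟨w, hw⟩
    refine ⟨w.left ≫ pullback.fst H₀.hom b, ?_⟩
    have := congrArg (fun x => x.left ≫ pullback.fst G₀.hom b) hw
    simp only [Over.pullback_obj_left, Over.comp_left, Over.pullback_map_left,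
      Category.assoc] at this
    rw [pullback.lift_fst, pullback.lift_fst] at this
    rw [Category.assoc]
    exact this

end Factor

section Stage

variable {I : Type u} [Category.{u} I] (D : I ⥤ Scheme.{u}) (c : Cone D)
variable [IsCofiltered I] (hc : IsLimit c) [∀ {i j} (f : i ⟶ j), IsAffineHom (D.map f)]

include hc in
theorem exists_stage_factor {i₀ : I} [CompactSpace (D.obj i₀)] [QuasiSeparatedSpace (D.obj i₀)]
    {T₀ G₀ H₀ : Over (D.obj i₀)} (ι₀ : H₀ ⟶ G₀) [IsClosedImmersion ι₀.left]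
    [LocallyOfFinitePresentation ι₀.left] [QuasiCompact T₀.hom] [QuasiSeparated T₀.hom]
    (u₀ : T₀ ⟶ G₀)
    (h : ∃ w : (Over.pullback (c.π.app i₀)).obj T₀ ⟶ (Over.pullback (c.π.app i₀)).obj H₀,
      w ≫ (Over.pullback (c.π.app i₀)).map ι₀ = (Over.pullback (c.π.app i₀)).map u₀) :
    ∃ j : Over i₀, ∀ (k : Over i₀) (_ : k ⟶ j),
      ∃ w : (Over.pullback (D.map k.hom)).obj T₀ ⟶ (Over.pullback (D.map k.hom)).obj H₀,
        w ≫ (Over.pullback (D.map k.hom)).map ι₀ = (Over.pullback (D.map k.hom)).map u₀ := by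
  have : IsClosedImmersion (zMap ι₀ u₀) := inferInstance
  have : LocallyOfFinitePresentation (zMap ι₀ u₀) := inferInstance
  have : QuasiCompact (zMap ι₀ u₀ ≫ T₀.hom) := inferInstance
  have : QuasiSeparated (zMap ι₀ u₀ ≫ T₀.hom) := inferInstance
  have h0 := (isIso_bcMap_iff (c.π.app i₀) ι₀ u₀).mpr h
  obtain ⟨j, hj⟩ := exists_isIso_stage D c hc (zMap ι₀ u₀) T₀.hom h0
  refine ⟨j, fun k b => ?_⟩
  have hk : IsIso (bcMap (zMap ι₀ u₀) T₀.hom (D.map k.hom)) :=
    (isPullback_pbMap_bcMap D (zMap ι₀ u₀) T₀.hom b).isIso_snd_of_isIso hj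
  exact (isIso_bcMap_iff (D.map k.hom) ι₀ u₀).mp hk

end Stage

end Groth.Agent.Lib.H72SubgrpLim
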