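import Mathlib
import Groth.Prelude.Def_Red
import Groth.Prelude.Def_AlgGrp
import Groth.Agent.Lib.H72SubgrpLim

/-!
# Closed subgroup schemes descend to a finite stage (helper72): assembly for S18878
-/

set_option autoImplicit false
set_option linter.style.haveILetI false
universe u

open CategoryTheory Limits AlgebraicGeometry MonoidalCategory CartesianMonoidalCategory MonObj

namespace Groth.Agent.Lib.H72SubgrpLim

open Groth.Agent.Lib.H72SubgrpAbs

theorem mono_pullback_map {B B' : Scheme.{u}} (b : B' ⟶ B) {G₀ H₀ : Over B} (ι₀ : H₀ ⟶ G₀)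
    [Mono ι₀.left] : Mono ((Over.pullback b).map ι₀) := by
  haveI : Mono ((Over.pullback b).map ι₀).left := by
    change Mono (pullback.lift (pullback.fst H₀.hom b ≫ ι₀.left) (pullback.snd H₀.hom b) _)
    refine ⟨fun x y hxy => ?_⟩
    apply pullback.hom_ext
    · have := congrArg (· ≫ pullback.fst _ _) hxy
      simp only [Category.assoc, pullback.lift_fst] at this
      rw [← Category.assoc, ← Category.assoc] at this
      exact (cancel_mono ι₀.left).mp this
    · have := congrArg (· ≫ pullback.snd _ _) hxy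
      simp only [Category.assoc, pullback.lift_snd] at this
      exact this
  exact Over.mono_of_mono_left _

theorem main
    {I : Type u} [SmallCategory I] [IsCofiltered I]
    (D : I ⥤ Scheme.{u}) (c : Limits.Cone D) (hc : Limits.IsLimit c)
    [∀ (i j : I) (a : i ⟶ j), IsAffineHom (D.map a)] (i₀ : I)
    [CompactSpace (D.obj i₀)] [QuasiSeparatedSpace (D.obj i₀)]
    (G₀ : Over (D.obj i₀)) [GrpObj G₀] [IsSeparated G₀.hom] [QuasiCompact G₀.hom]
    [LocallyOfFinitePresentation G₀.hom]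
    (H₀ : Over (D.obj i₀)) (ι₀ : H₀ ⟶ G₀) [IsClosedImmersion ι₀.left]
    [LocallyOfFinitePresentation ι₀.left]
    (hH : ∃ _ : GrpObj (Red.bc (c.π.app i₀) H₀), IsMonHom ((Over.pullback (c.π.app i₀)).map ι₀)) :
    (∃ (i : I) (a : i ⟶ i₀) (_ : GrpObj (Red.bc (D.map a) H₀)),
        IsMonHom ((Over.pullback (D.map a)).map ι₀)) ∧
    ((∃ (_ : GrpObj (Red.bc (c.π.app i₀) H₀)) (_ : IsMonHom ((Over.pullback (c.π.app i₀)).map ι₀)),
        AlgGrp.IsNormalHom ((Over.pullback (c.π.app i₀)).map ι₀)) →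
      ∃ (i : I) (a : i ⟶ i₀) (_ : GrpObj (Red.bc (D.map a) H₀))
        (_ : IsMonHom ((Over.pullback (D.map a)).map ι₀)),
        AlgGrp.IsNormalHom ((Over.pullback (D.map a)).map ι₀)) := by
  haveI : ∀ {i j : I} (a : i ⟶ j), IsAffineHom (D.map a) := fun a => inferInstance
  have hHhom : ι₀.left ≫ G₀.hom = H₀.hom := Over.w ι₀
  haveI : QuasiCompact H₀.hom := by rw [← hHhom]; infer_instance
  haveI : QuasiSeparated H₀.hom := by rw [← hHhom]; infer_instance
  haveI : QuasiCompact (𝟙_ (Over (D.obj i₀))).hom :=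
    (inferInstance : QuasiCompact (𝟙 (D.obj i₀)))
  haveI : QuasiSeparated (𝟙_ (Over (D.obj i₀))).hom :=
    (inferInstance : QuasiSeparated (𝟙 (D.obj i₀)))
  haveI : QuasiCompact (H₀ ⊗ H₀).hom := by rw [Over.tensorObj_hom]; infer_instance
  haveI : QuasiSeparated (H₀ ⊗ H₀).hom := by rw [Over.tensorObj_hom]; infer_instance
  haveI : QuasiCompact (G₀ ⊗ H₀).hom := by rw [Over.tensorObj_hom]; infer_instance
  haveI : QuasiSeparated (G₀ ⊗ H₀).hom := by rw [Over.tensorObj_hom]; infer_instance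
  have key : ∀ (str : GrpObj (Red.bc (c.π.app i₀) H₀))
      (_ : @IsMonHom _ _ _ _ _ str.toMonObj _ ((Over.pullback (c.π.app i₀)).map ι₀)),
      ∃ j : Over i₀, ∀ (k : Over i₀) (_ : k ⟶ j),
        ∃ strk : GrpObj (Red.bc (D.map k.hom) H₀),
          @IsMonHom _ _ _ _ _ strk.toMonObj _ ((Over.pullback (D.map k.hom)).map ι₀) := by
    intro str hι
    obtain ⟨f1, f2, f3⟩ := exists_factor_of_grpObj (Over.pullback (c.π.app i₀)) ι₀ str hι
    obtain ⟨j1, h1⟩ := exists_stage_factor D c hc ι₀ (uOne G₀) f1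
    obtain ⟨j2, h2⟩ := exists_stage_factor D c hc ι₀ (uMul ι₀) f2
    obtain ⟨j3, h3⟩ := exists_stage_factor D c hc ι₀ (uInv ι₀) f3
    refine ⟨IsCofiltered.min (IsCofiltered.min j1 j2) j3, fun k b => ?_⟩
    haveI := mono_pullback_map (D.map k.hom) ι₀
    exact exists_grpObj_of_factor (Over.pullback (D.map k.hom)) ι₀
      (h1 k (b ≫ IsCofiltered.minToLeft _ _ ≫ IsCofiltered.minToLeft _ _))
      (h2 k (b ≫ IsCofiltered.minToLeft _ _ ≫ IsCofiltered.minToRight _ _))
      (h3 k (b ≫ IsCofiltered.minToRight _ _))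
  refine ⟨?_, ?_⟩
  · obtain ⟨str, hι⟩ := hH
    obtain ⟨j, hj⟩ := key str hι
    obtain ⟨strj, hιj⟩ := hj j (𝟙 j)
    exact ⟨j.left, j.hom, strj, hιj⟩
  · rintro ⟨str, hι, hN⟩
    obtain ⟨j, hj⟩ := key str hι
    have f4 := (normal_iff_exists_factor (Over.pullback (c.π.app i₀)) ι₀).mp hN
    obtain ⟨j4, h4⟩ := exists_stage_factor D c hc ι₀ (uConj ι₀) f4
    obtain ⟨strk, hk⟩ := hj (IsCofiltered.min j j4) (IsCofiltered.minToLeft _ _)
    refine ⟨(IsCofiltered.min j j4).left, (IsCofiltered.min j j4).hom, strk, hk, ?_⟩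
    exact (normal_iff_exists_factor (Over.pullback (D.map (IsCofiltered.min j j4).hom)) ι₀).mpr
      (h4 _ (IsCofiltered.minToRight _ _))

end Groth.Agent.Lib.H72SubgrpLim
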