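import Groth.Agent.Lib.H72ConicCount

/-!
# helper72: counting tuples in `Fin δ → Fin 5` (`δ ≤ 8`) with prescribed sum and sum of squares

`card_sum_sq`: the number of `f : Fin δ → Fin 5` with `∑ f = s` and `∑ f² = q` is the explicit natural number
`Gk ^ δ / Bk ^ (s + 33 * q) % Bk`, which `decide +kernel` evaluates.
-/

set_option autoImplicit false

namespace Groth.Agent.Lib.H72SumSqCount

open Finset Groth.Agent.Lib.H72Kronecker Groth.Agent.Lib.H72ConicCount

theorem card_sum_sq {δ : ℕ} (hδ : δ ≤ 8) (s q : ℕ) (hs : s ≤ 32) :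
    ((univ : Finset (Fin δ → Fin 5)).filter fun f =>
      ∑ i, (f i : ℕ) = s ∧ ∑ i, (f i : ℕ) ^ 2 = q).card = Gk ^ δ / Bk ^ (s + 33 * q) % Bk := by
  have hfilter : ((univ : Finset (Fin δ → Fin 5)).filter fun f =>
      ∑ i, (f i : ℕ) = s ∧ ∑ i, (f i : ℕ) ^ 2 = q) =
      (univ : Finset (Fin δ → Fin 5)).filter fun f => ∑ i, wk (f i : ℕ) = s + 33 * q := by
    refine Finset.filter_congr fun f _ => ?_
    have hW : ∑ i, wk (f i : ℕ) = (∑ i, (f i : ℕ)) + 33 * ∑ i, (f i : ℕ) ^ 2 := by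
      simp only [wk]
      rw [Finset.sum_add_distrib, Finset.mul_sum]
    have hS := sum_le hδ f
    rw [hW]
    generalize (∑ i, (f i : ℕ) ^ 2) = Q at *
    generalize (∑ i, (f i : ℕ)) = S at *
    omega
  rw [hfilter]
  have hB : Fintype.card (Fin 5) ^ Fintype.card (Fin δ) < Bk := by
    rw [Fintype.card_fin, Fintype.card_fin]
    calc 5 ^ δ ≤ 5 ^ 8 := Nat.pow_le_pow_right (by norm_num) hδ
      _ < Bk := by norm_num [Bk]
  rw [card_filter_sum_eq (fun c : Fin 5 => wk (c : ℕ)) Bk (s + 33 * q) hB, Gk_eq, Fintype.card_fin]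

end Groth.Agent.Lib.H72SumSqCount
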