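import Mathlib
import Groth.Prelude.Def_RegImm

/-!
# Transversally regular sequences on modules (helper72)

`TR A M rs`: the module form of `RegImm.IsTransRegularSeq`: `rs` is weakly regular on the `B`-module `M`
and all `M ⧸ (rs.take j) M` are flat over `A`.
* `tr_nil`, `tr_cons` (recursive description), `tr_congr` (invariance under `B`-linear isomorphisms),
* `isTransRegularSeq_iff` (the ring case).
-/

set_option autoImplicit false
set_option linter.style.haveILetI false
universe u v

open RingTheory.Sequence

namespace Groth.Agent.Lib.H72TransReg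

variable (A : Type*) {B : Type*} [CommRing A] [CommRing B] [Algebra A B]
  (M : Type*) [AddCommGroup M] [Module B M] [Module A M] [IsScalarTower A B M]

/-- Transversally regular sequence on a module. -/
def TR (rs : List B) : Prop :=
  IsWeaklyRegular M rs ∧
    ∀ j : ℕ, j ≤ rs.length →
      Module.Flat A (M ⧸ (Ideal.ofList (rs.take j) • ⊤ : Submodule B M))

theorem tr_nil : TR A M ([] : List B) ↔ Module.Flat A M := by
  have hbot : (Ideal.ofList ([] : List B) • ⊤ : Submodule B M) = ⊥ := by
    rw [Ideal.ofList_nil, Submodule.bot_smul]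
  let e : (M ⧸ (Ideal.ofList ([] : List B) • ⊤ : Submodule B M)) ≃ₗ[B] M :=
    Submodule.quotEquivOfEqBot _ hbot
  constructor
  · intro h
    have := h.2 0 (Nat.zero_le _)
    exact (Module.Flat.equiv_iff (e.restrictScalars A)).mp this
  · intro h
    refine ⟨IsWeaklyRegular.nil B M, fun j _ => ?_⟩
    rw [List.take_nil]
    exact (Module.Flat.equiv_iff (e.restrictScalars A)).mpr h

theorem tr_cons (r : B) (rs : List B) :
    TR A M (r :: rs) ↔ Module.Flat A M ∧ IsSMulRegular M r ∧ TR A (QuotSMulTop r M) rs := by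
  have hbot : (Ideal.ofList ([] : List B) • ⊤ : Submodule B M) = ⊥ := by
    rw [Ideal.ofList_nil, Submodule.bot_smul]
  let e0 : (M ⧸ (Ideal.ofList ([] : List B) • ⊤ : Submodule B M)) ≃ₗ[B] M :=
    Submodule.quotEquivOfEqBot _ hbot
  have hstep : ∀ j : ℕ, Module.Flat A
      (M ⧸ (Ideal.ofList ((r :: rs).take (j + 1)) • ⊤ : Submodule B M)) ↔
      Module.Flat A (QuotSMulTop r M ⧸
        (Ideal.ofList (rs.take j) • ⊤ : Submodule B (QuotSMulTop r M))) := by
    intro j
    rw [List.take_succ_cons]
    exact Module.Flat.equiv_iff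
      ((Submodule.quotOfListConsSMulTopEquivQuotSMulTopInner M r (rs.take j)).restrictScalars A)
  unfold TR
  rw [isWeaklyRegular_cons_iff]
  constructor
  · rintro ⟨⟨h1, h2⟩, h3⟩
    refine ⟨?_, h1, h2, fun j hj => ?_⟩
    · have := h3 0 (Nat.zero_le _)
      rw [List.take_zero] at this
      exact (Module.Flat.equiv_iff (e0.restrictScalars A)).mp this
    · exact (hstep j).mp (h3 (j + 1) (by simpa using hj))
  · rintro ⟨h0, h1, h2, h3⟩
    refine ⟨⟨h1, h2⟩, fun j hj => ?_⟩
    cases j with
    | zero =>
      rw [List.take_zero]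
      exact (Module.Flat.equiv_iff (e0.restrictScalars A)).mpr h0
    | succ j => exact (hstep j).mpr (h3 j (by simpa using hj))

theorem tr_flat (rs : List B) (h : TR A M rs) : Module.Flat A M := by
  cases rs with
  | nil => exact (tr_nil A M).mp h
  | cons r rs => exact ((tr_cons A M r rs).mp h).1

variable {M} in
theorem tr_congr {M' : Type*} [AddCommGroup M'] [Module B M'] [Module A M']
    [IsScalarTower A B M'] (e : M ≃ₗ[B] M') (rs : List B) : TR A M rs ↔ TR A M' rs := by
  induction rs generalizing M M' with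
  | nil =>
    rw [tr_nil, tr_nil]
    exact Module.Flat.equiv_iff (e.restrictScalars A)
  | cons r rs ih =>
    rw [tr_cons, tr_cons, ih (QuotSMulTop.congr r e)]
    exact and_congr (Module.Flat.equiv_iff (e.restrictScalars A))
      (and_congr (e.isSMulRegular_congr r) Iff.rfl)

/-- The ring case is `RegImm.IsTransRegularSeq`. -/
theorem isTransRegularSeq_iff {A B : Type u} [CommRing A] [CommRing B] [Algebra A B]
    (rs : List B) : RegImm.IsTransRegularSeq A B rs ↔ TR A B rs := by
  unfold RegImm.IsTransRegularSeq TR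
  refine and_congr Iff.rfl (forall_congr' fun j => imp_congr Iff.rfl ?_)
  have hI : (Ideal.ofList (rs.take j) • ⊤ : Submodule B B) = Ideal.ofList (rs.take j) := by
    rw [smul_eq_mul, Ideal.mul_top]
  let e : (B ⧸ Ideal.ofList (rs.take j)) ≃ₗ[B]
      (B ⧸ (Ideal.ofList (rs.take j) • ⊤ : Submodule B B)) :=
    Submodule.quotEquivOfEq _ _ hI.symm
  exact Module.Flat.equiv_iff (e.restrictScalars A)

end Groth.Agent.Lib.H72TransReg
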