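import Groth.Agent.Lib.H72TransReg
import Groth.Agent.Lib.H72InjFlatAlg
import Groth.Agent.Lib.LocalFlatReg88

/-!
# Transversally regular sequences and fibres (helper72)

* `isWeaklyRegular_quot_of_tr`: a transversally regular sequence stays weakly regular modulo any ideal
  of the base (no finiteness assumption);
* `tr_iff_isWeaklyRegular_fibre`: for a local homomorphism of Noetherian local rings and a finite
  `B`-module `M` flat over `A`: `TR A M fs` iff `fs` is weakly regular on `M / 𝔪_A M`
  (EGA 0_IV 15.1.16, using helper88's `LocalFlatReg88`).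
-/

set_option autoImplicit false
set_option linter.style.haveILetI false
universe u v

open RingTheory.Sequence Function

namespace Groth.Agent.Lib.H72TransReg

open Groth.Agent.Lib.ArtinSocle88

section

variable {A : Type u} [CommRing A] {B : Type*} [CommRing B] [Algebra A B]

theorem isSMulRegular_quot_of_flat_quotSMulTop (I : Ideal A) (M : Type v) [AddCommGroup M]
    [Module B M] [Module A M] [IsScalarTower A B M] (f : B) (hreg : IsSMulRegular M f)
    [Module.Flat A (QuotSMulTop f M)] :
    IsSMulRegular (M ⧸ (I.map (algebraMap A B) • ⊤ : Submodule B M)) f := by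
  rw [isSMulRegular_quotient_iff_mem_of_smul_mem]
  let w : M →ₗ[A] M := (LinearMap.lsmul B M f).restrictScalars A
  let π₀ : M →ₗ[B] QuotSMulTop f M := Submodule.mkQ _
  let π : M →ₗ[A] QuotSMulTop f M := π₀.restrictScalars A
  have hw : Injective w := hreg
  have hπ : Surjective π := fun y => by
    obtain ⟨m, rfl⟩ := Submodule.Quotient.mk_surjective _ y
    exact ⟨m, rfl⟩
  have hex : Function.Exact w π := by
    intro m
    change π₀ m = 0 ↔ _
    rw [← LinearMap.mem_ker, Submodule.ker_mkQ, Submodule.mem_smul_pointwise_iff_exists]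
    constructor
    · rintro ⟨y, -, rfl⟩
      exact ⟨y, rfl⟩
    · rintro ⟨y, rfl⟩
      exact ⟨y, Submodule.mem_top, rfl⟩
  have h1 : Injective (w.lTensor (A ⧸ I)) :=
    Groth.Agent.Lib.H72InjFlatAlg.lTensor_injective_of_flat_coker (R := A) w π hw hex hπ
      (A ⧸ I)
  have h2 := (lTensor_quotient_injective_iff I w).mp h1
  intro m hm
  exact (mem_map_smul_top_iff (S := B) I m).mpr
    (h2 m ((mem_map_smul_top_iff (S := B) I _).mp hm))

theorem isWeaklyRegular_quot_of_tr (I : Ideal A) (fs : List B) :
    ∀ (M : Type v) [AddCommGroup M] [Module B M] [Module A M] [IsScalarTower A B M],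
      TR A M fs →
      IsWeaklyRegular (M ⧸ (I.map (algebraMap A B) • ⊤ : Submodule B M)) fs := by
  induction fs with
  | nil =>
    intro M _ _ _ _ _
    exact IsWeaklyRegular.nil B _
  | cons f fs ih =>
    intro M _ _ _ _ h
    obtain ⟨-, hreg, htr⟩ := (tr_cons A M f fs).mp h
    haveI : Module.Flat A (QuotSMulTop f M) := tr_flat A _ fs htr
    rw [isWeaklyRegular_cons_iff]
    constructor
    · exact isSMulRegular_quot_of_flat_quotSMulTop I M f hreg
    · rw [(quotSMulTopQuotEquiv f _ M).isWeaklyRegular_congr]
      exact ih (QuotSMulTop f M) htr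

end

section

variable {A : Type u} [CommRing A] [IsLocalRing A] [IsNoetherianRing A]
  {B : Type*} [CommRing B] [IsLocalRing B] [IsNoetherianRing B] [Algebra A B]
  [IsLocalHom (algebraMap A B)]

theorem tr_iff_isWeaklyRegular_fibre (M : Type v) [AddCommGroup M] [Module B M] [Module A M]
    [IsScalarTower A B M] [Module.Finite B M] [Module.Flat A M] (fs : List B) :
    TR A M fs ↔ IsWeaklyRegular
      (M ⧸ ((IsLocalRing.maximalIdeal A).map (algebraMap A B) • ⊤ : Submodule B M)) fs :=
  ⟨isWeaklyRegular_quot_of_tr _ fs M,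
    fun h => Groth.Agent.Lib.LocalFlatReg88.isWeaklyRegular_and_flat_of_fibre (A := A) fs M h⟩

end

end Groth.Agent.Lib.H72TransReg
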