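import Groth.Agent.Lib.H72TransRegSheaf
import Groth.Agent.Lib.H72InjFlatLim

/-!
# Transversally regular sequences and cofiltered limits (helper72)

* `exists_stage_eq_top`: abstract stage lemma (compactness);
* `Stable`, `canonical_of_general`, `stage_mono`, `exists_stage_forall`: from pointwise descent of a
  base-change-stable open predicate to uniform descent;
* `exists_canonical_trAt`, `exists_stage_trAt`, `forall_trAt_limit_iff_exists_stage`.
-/

set_option autoImplicit false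
set_option linter.style.haveILetI false
universe u

open CategoryTheory AlgebraicGeometry TopologicalSpace Opposite Limits

namespace Groth.Agent.Lib.H72TransReg

open Groth.Agent.Lib.LimPullback Groth.Agent.Lib.LimDescent Groth.Agent.Lib.H72InjFlat
  Groth.Agent.Lib.H72FlatModLim

section abstract

variable {J : Type u} [Category.{u} J] [IsCofiltered J] (E : J ⥤ Scheme.{u}) (cE : Cone E)
  [∀ {i j : J} (φ : i ⟶ j), IsAffineHom (E.map φ)] [∀ j, CompactSpace (E.obj j)]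

/-- **Abstract stage lemma.** Opens `G j ⊆ E j`, increasing along the transition maps, such that
every point of the limit lands in some `G j`: then some `G k` is everything. -/
theorem exists_stage_eq_top (hcE : IsLimit cE) (G : ∀ j, (E.obj j).Opens)
    (hstab : ∀ {k j : J} (m : k ⟶ j), E.map m ⁻¹ᵁ G j ≤ G k)
    (hpt : ∀ s : cE.pt, ∃ j, cE.π.app j s ∈ G j) : ∃ k, G k = ⊤ := by
  by_contra! H
  obtain ⟨s, hs⟩ := exists_mem_of_isClosed_of_nonempty E cE hcE (fun j => ((G j : Set (E.obj j)))ᶜ)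
    (fun j => (G j).2.isClosed_compl)
    (fun j => by
      rw [Set.nonempty_compl]
      intro h
      exact H j (SetLike.coe_injective (by rw [h]; rfl)))
    (fun j => (G j).2.isClosed_compl.isCompact)
    (fun {k j} m x hx hx' => hx (hstab m hx'))
  obtain ⟨j, hj⟩ := hpt s
  exact hs j hj

end abstract


section lim

variable {I : Type u} [Category.{u} I] [IsCofiltered I] (D : I ⥤ Scheme.{u}) (c : Cone D)
  [∀ {i j : I} (φ : i ⟶ j), IsAffineHom (D.map φ)]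
variable {i₀ : I} {X₀ Y₀ : Scheme.{u}} (f₀ : X₀ ⟶ Y₀) (g₀ : Y₀ ⟶ D.obj i₀)

/-- Base change stability of a pointwise predicate. -/
def Stable (P : ∀ ⦃X' T' : Scheme.{u}⦄ (_ : X' ⟶ T') (_ : X' ⟶ X₀), X' → Prop) : Prop :=
  ∀ ⦃X' T' X'' T'' : Scheme.{u}⦄ ⦃q : X' ⟶ T'⦄ ⦃q' : X'' ⟶ T''⦄ ⦃g' : X'' ⟶ X'⦄ ⦃g : T'' ⟶ T'⦄
    (_ : IsPullback g' q' q g) (_ : LocallyOfFinitePresentation q) (p : X' ⟶ X₀) (p' : X'' ⟶ X₀)
    (_ : g' ≫ p = p') (x : X''), P q p (g' x) → P q' p' x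

omit [IsCofiltered I] [∀ {i j : I} (φ : i ⟶ j), IsAffineHom (D.map φ)] in
/-- From a general stage to the canonical stage. -/
theorem canonical_of_general [LocallyOfFinitePresentation f₀]
    (P : ∀ ⦃X' T' : Scheme.{u}⦄ (_ : X' ⟶ T') (_ : X' ⟶ X₀), X' → Prop) (hP : Stable P)
    (s : ↥(pullback (f₀ ≫ g₀) (c.π.app i₀)))
    (h : ∃ (i : I) (φ : i ⟶ i₀) (Xi Yi : Scheme.{u}) (fi : Xi ⟶ Yi) (gi : Yi ⟶ D.obj i)
      (pY : Yi ⟶ Y₀) (pX : Xi ⟶ X₀) (vY : pullback g₀ (c.π.app i₀) ⟶ Yi)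
      (vX : pullback (f₀ ≫ g₀) (c.π.app i₀) ⟶ Xi),
      IsPullback pY gi g₀ (D.map φ) ∧ IsPullback pX fi f₀ pY ∧
        vY ≫ pY = pullback.fst g₀ (c.π.app i₀) ∧
        vY ≫ gi = pullback.snd g₀ (c.π.app i₀) ≫ c.π.app i ∧
        vX ≫ pX = pullback.fst (f₀ ≫ g₀) (c.π.app i₀) ∧
        vX ≫ fi = bcMap f₀ g₀ (c.π.app i₀) ≫ vY ∧ P fi pX (vX s)) :
    ∃ j : Over i₀, P (bcMap f₀ g₀ (D.map j.hom)) (pullback.fst (f₀ ≫ g₀) (D.map j.hom))
      (pbProj D c i₀ (f₀ ≫ g₀) j s) := by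
  obtain ⟨i, φ, Xi, Yi, fi, gi, pY, pX, vY, vX, hYi, hXi, e1, e2, e3, e4, hPs⟩ := h
  haveI : LocallyOfFinitePresentation fi :=
    MorphismProperty.of_isPullback (P := @LocallyOfFinitePresentation) hXi inferInstance
  refine ⟨Over.mk φ, ?_⟩
  change P (bcMap f₀ g₀ (D.map φ)) (pullback.fst (f₀ ≫ g₀) (D.map φ))
    (pbProj D c i₀ (f₀ ≫ g₀) (Over.mk φ) s)
  let b : pullback g₀ (D.map φ) ⟶ Yi :=
    hYi.lift (pullback.fst g₀ (D.map φ)) (pullback.snd g₀ (D.map φ)) pullback.condition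
  have hb1 : b ≫ pY = pullback.fst g₀ (D.map φ) := hYi.lift_fst _ _ _
  have hb2 : b ≫ gi = pullback.snd g₀ (D.map φ) := hYi.lift_snd _ _ _
  let a : pullback (f₀ ≫ g₀) (D.map φ) ⟶ Xi :=
    hXi.lift (pullback.fst (f₀ ≫ g₀) (D.map φ)) (bcMap f₀ g₀ (D.map φ) ≫ b)
      (by rw [Category.assoc, hb1, bcMap_fst])
  have ha1 : a ≫ pX = pullback.fst (f₀ ≫ g₀) (D.map φ) := hXi.lift_fst _ _ _
  have ha2 : a ≫ fi = bcMap f₀ g₀ (D.map φ) ≫ b := hXi.lift_snd _ _ _
  have sq : IsPullback a (bcMap f₀ g₀ (D.map φ)) fi b := by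
    refine IsPullback.of_right ?_ ha2 hXi
    rw [ha1, hb1]
    exact isPullback_bcMap f₀ g₀ (D.map φ)
  have hY' : pbProj D c i₀ (f₀ ≫ g₀) (Over.mk φ) ≫ bcMap f₀ g₀ (D.map φ) ≫ b =
      bcMap f₀ g₀ (c.π.app i₀) ≫ vY := by
    apply hYi.hom_ext
    · rw [Category.assoc, Category.assoc, hb1, Category.assoc, e1, bcMap_fst, bcMap_fst]
      exact pbProj_fst_assoc D c i₀ (f₀ ≫ g₀) (Over.mk φ) f₀
    · rw [Category.assoc, Category.assoc, hb2, Category.assoc, e2, bcMap_snd, bcMap_snd_assoc]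
      exact pbProj_snd D c i₀ (f₀ ≫ g₀) (Over.mk φ)
  have hav : pbProj D c i₀ (f₀ ≫ g₀) (Over.mk φ) ≫ a = vX := by
    apply hXi.hom_ext
    · rw [Category.assoc, ha1, e3]
      exact pbProj_fst D c i₀ (f₀ ≫ g₀) (Over.mk φ)
    · rw [Category.assoc, ha2, e4, hY']
  refine hP sq inferInstance pX _ ha1 _ ?_
  rw [← Scheme.Hom.comp_apply, hav]
  exact hPs


theorem stable_flat (M : X₀.Modules) [M.IsQuasicoherent] :
    Stable (X₀ := X₀) fun _ _ q p x =>
      FlatMod.IsFlatOverAt q ((Scheme.Modules.pullback p).obj M) x :=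
  fun _ _ _ _ _ _ _ _ hsq _ p p' hp x h => isFlatOverAt_pullback_comp hsq p p' hp M x h

theorem stable_good {F G : X₀.Modules} [F.IsQuasicoherent] [G.IsQuasicoherent]
    [SheafOfModules.IsFinitePresentation (R := X₀.ringCatSheaf) F]
    [SheafOfModules.IsFinitePresentation (R := X₀.ringCatSheaf) G] (u : F ⟶ G) :
    Stable (X₀ := X₀) fun _ _ q p x => Good q ((Scheme.Modules.pullback p).map u) x :=
  fun _ _ _ _ _ _ _ _ hsq hq p p' hp x h =>
    haveI := hq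
    good_pullback_comp hsq p p' hp u x h

theorem stable_trAt (rs : List Γ(X₀, ⊤)) (M : X₀.Modules) [M.IsQuasicoherent]
    [SheafOfModules.IsFinitePresentation (R := X₀.ringCatSheaf) M] :
    Stable (X₀ := X₀) fun _ _ q p x => TRAt q p rs M x :=
  fun _ _ _ _ _ _ _ _ hsq hq p p' hp x h =>
    haveI := hq
    trAt_pullback_comp hsq p p' hp rs M x h

omit [IsCofiltered I] [∀ {i j : I} (φ : i ⟶ j), IsAffineHom (D.map φ)] in
/-- A stable predicate passes to later stages. -/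
theorem stage_mono [LocallyOfFinitePresentation f₀]
    (P : ∀ ⦃X' T' : Scheme.{u}⦄ (_ : X' ⟶ T') (_ : X' ⟶ X₀), X' → Prop) (hP : Stable P)
    {j k : Over i₀} (m : k ⟶ j) (y : ↥(pullback (f₀ ≫ g₀) (D.map k.hom)))
    (h : P (bcMap f₀ g₀ (D.map j.hom)) (pullback.fst (f₀ ≫ g₀) (D.map j.hom))
      (pbMap D i₀ (f₀ ≫ g₀) m y)) :
    P (bcMap f₀ g₀ (D.map k.hom)) (pullback.fst (f₀ ≫ g₀) (D.map k.hom)) y :=
  hP (isPullback_pbMap_bcMap D f₀ g₀ m)
    (MorphismProperty.of_isPullback (P := @LocallyOfFinitePresentation)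
      (isPullback_bcMap f₀ g₀ (D.map j.hom)) inferInstance) _ _ (pbMap_fst D i₀ (f₀ ≫ g₀) m) y h

omit [IsCofiltered I] [∀ {i j : I} (φ : i ⟶ j), IsAffineHom (D.map φ)] in
/-- A stable predicate passes from a stage to the limit point. -/
theorem stage_mono_proj [LocallyOfFinitePresentation f₀]
    (P : ∀ ⦃X' T' : Scheme.{u}⦄ (_ : X' ⟶ T') (_ : X' ⟶ X₀), X' → Prop) (hP : Stable P)
    {j k : Over i₀} (m : k ⟶ j) (s : ↥(pullback (f₀ ≫ g₀) (c.π.app i₀)))
    (h : P (bcMap f₀ g₀ (D.map j.hom)) (pullback.fst (f₀ ≫ g₀) (D.map j.hom))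
      (pbProj D c i₀ (f₀ ≫ g₀) j s)) :
    P (bcMap f₀ g₀ (D.map k.hom)) (pullback.fst (f₀ ≫ g₀) (D.map k.hom))
      (pbProj D c i₀ (f₀ ≫ g₀) k s) := by
  refine stage_mono D f₀ g₀ P hP m _ ?_
  rw [← Scheme.Hom.comp_apply, pbProj_pbMap]
  exact h

/-- Pointwise descent of flatness to a canonical stage. -/
theorem exists_canonical_flat (hc : IsLimit c) [LocallyOfFinitePresentation f₀] (M : X₀.Modules)
    [M.IsQuasicoherent] [SheafOfModules.IsFinitePresentation (R := X₀.ringCatSheaf) M]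
    (s : ↥(pullback (f₀ ≫ g₀) (c.π.app i₀)))
    (h : FlatMod.IsFlatOverAt (bcMap f₀ g₀ (c.π.app i₀))
      ((Scheme.Modules.pullback (pullback.fst (f₀ ≫ g₀) (c.π.app i₀))).obj M) s) :
    ∃ j : Over i₀, FlatMod.IsFlatOverAt (bcMap f₀ g₀ (D.map j.hom))
      ((Scheme.Modules.pullback (pullback.fst (f₀ ≫ g₀) (D.map j.hom))).obj M)
      (pbProj D c i₀ (f₀ ≫ g₀) j s) :=
  canonical_of_general D c f₀ g₀ _ (stable_flat M) s
    (exists_stage_isFlatOverAt D c f₀ g₀ hc M (bcMap f₀ g₀ (c.π.app i₀))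
      (pullback.snd g₀ (c.π.app i₀)) (pullback.fst g₀ (c.π.app i₀))
      (pullback.fst (f₀ ≫ g₀) (c.π.app i₀)) (IsPullback.of_hasPullback g₀ (c.π.app i₀))
      (isPullback_bcMap f₀ g₀ (c.π.app i₀)) s h)

/-- Pointwise descent of `Good` to a canonical stage. -/
theorem exists_canonical_good (hc : IsLimit c) [LocallyOfFinitePresentation f₀]
    {F G : X₀.Modules} [F.IsQuasicoherent] [G.IsQuasicoherent]
    [SheafOfModules.IsFinitePresentation (R := X₀.ringCatSheaf) F]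
    [SheafOfModules.IsFinitePresentation (R := X₀.ringCatSheaf) G] (u : F ⟶ G)
    (s : ↥(pullback (f₀ ≫ g₀) (c.π.app i₀)))
    (h : Good (bcMap f₀ g₀ (c.π.app i₀))
      ((Scheme.Modules.pullback (pullback.fst (f₀ ≫ g₀) (c.π.app i₀))).map u) s) :
    ∃ j : Over i₀, Good (bcMap f₀ g₀ (D.map j.hom))
      ((Scheme.Modules.pullback (pullback.fst (f₀ ≫ g₀) (D.map j.hom))).map u)
      (pbProj D c i₀ (f₀ ≫ g₀) j s) :=
  canonical_of_general D c f₀ g₀ _ (stable_good u) s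
    (exists_stage_good D c f₀ g₀ hc u (bcMap f₀ g₀ (c.π.app i₀))
      (pullback.snd g₀ (c.π.app i₀)) (pullback.fst g₀ (c.π.app i₀))
      (pullback.fst (f₀ ≫ g₀) (c.π.app i₀)) (IsPullback.of_hasPullback g₀ (c.π.app i₀))
      (isPullback_bcMap f₀ g₀ (c.π.app i₀)) s h)

/-- Pointwise descent of transversal regularity to a canonical stage. -/
theorem exists_canonical_trAt (hc : IsLimit c) [LocallyOfFinitePresentation f₀]
    (rs : List Γ(X₀, ⊤)) (M : X₀.Modules)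
    [M.IsQuasicoherent] [SheafOfModules.IsFinitePresentation (R := X₀.ringCatSheaf) M]
    (s : ↥(pullback (f₀ ≫ g₀) (c.π.app i₀)))
    (h : TRAt (bcMap f₀ g₀ (c.π.app i₀)) (pullback.fst (f₀ ≫ g₀) (c.π.app i₀)) rs M s) :
    ∃ j : Over i₀, TRAt (bcMap f₀ g₀ (D.map j.hom)) (pullback.fst (f₀ ≫ g₀) (D.map j.hom)) rs M
      (pbProj D c i₀ (f₀ ≫ g₀) j s) := by
  induction rs generalizing M with
  | nil => exact exists_canonical_flat D c f₀ g₀ hc M s h
  | cons r rs ih =>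
    have hq := (qcoh_fp_cokernel_mulHom M r).1
    have hf := (qcoh_fp_cokernel_mulHom M r).2
    obtain ⟨j1, h1⟩ := exists_canonical_flat D c f₀ g₀ hc M s h.1
    obtain ⟨j2, h2⟩ := exists_canonical_good D c f₀ g₀ hc (mulHom M r) s h.2.1
    obtain ⟨j3, h3⟩ := @ih (cokernel (mulHom M r)) hq hf h.2.2
    let j12 := IsCofiltered.min j1 j2
    let j := IsCofiltered.min j12 j3
    let m12 : j ⟶ j12 := IsCofiltered.minToLeft j12 j3
    let m1 : j ⟶ j1 := m12 ≫ IsCofiltered.minToLeft j1 j2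
    let m2 : j ⟶ j2 := m12 ≫ IsCofiltered.minToRight j1 j2
    let m3 : j ⟶ j3 := IsCofiltered.minToRight j12 j3
    exact ⟨j, stage_mono_proj D c f₀ g₀ _ (stable_flat M) m1 s h1,
      stage_mono_proj D c f₀ g₀ _ (stable_good (mulHom M r)) m2 s h2,
      stage_mono_proj D c f₀ g₀ _ (@stable_trAt _ rs (cokernel (mulHom M r)) hq hf) m3 s h3⟩


/-- **From pointwise to uniform**: a stable open predicate which descends pointwise and holds at every
point of the limit holds everywhere at some stage. -/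
theorem exists_stage_forall (hc : IsLimit c) [CompactSpace X₀] [LocallyOfFinitePresentation f₀]
    (P : ∀ ⦃X' T' : Scheme.{u}⦄ (_ : X' ⟶ T') (_ : X' ⟶ X₀), X' → Prop) (hP : Stable P)
    (hopen : ∀ j : Over i₀, IsOpen {y : ↥(pullback (f₀ ≫ g₀) (D.map j.hom)) |
      P (bcMap f₀ g₀ (D.map j.hom)) (pullback.fst (f₀ ≫ g₀) (D.map j.hom)) y})
    (hpt : ∀ s : ↥(pullback (f₀ ≫ g₀) (c.π.app i₀)),
      P (bcMap f₀ g₀ (c.π.app i₀)) (pullback.fst (f₀ ≫ g₀) (c.π.app i₀)) s →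
      ∃ j : Over i₀, P (bcMap f₀ g₀ (D.map j.hom)) (pullback.fst (f₀ ≫ g₀) (D.map j.hom))
        (pbProj D c i₀ (f₀ ≫ g₀) j s))
    (h : ∀ s : ↥(pullback (f₀ ≫ g₀) (c.π.app i₀)),
      P (bcMap f₀ g₀ (c.π.app i₀)) (pullback.fst (f₀ ≫ g₀) (c.π.app i₀)) s) :
    ∃ j : Over i₀, ∀ y : ↥(pullback (f₀ ≫ g₀) (D.map j.hom)),
      P (bcMap f₀ g₀ (D.map j.hom)) (pullback.fst (f₀ ≫ g₀) (D.map j.hom)) y := by
  let G : ∀ j : Over i₀, ((pbDiagram D i₀ (f₀ ≫ g₀)).obj j).Opens := fun j => ⟨_, hopen j⟩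
  obtain ⟨k, hk⟩ := exists_stage_eq_top (pbDiagram D i₀ (f₀ ≫ g₀)) (pbCone D c i₀ (f₀ ≫ g₀))
    (isLimitPbCone hc) G
    (fun {k j} m y hy => stage_mono D f₀ g₀ P hP m y hy)
    (fun s => hpt s (h s))
  refine ⟨k, fun y => ?_⟩
  have : y ∈ G k := by rw [hk]; trivial
  exact this

/-- **Transversal regularity descends from the limit to a stage** (canonical form). -/
theorem exists_stage_trAt_canonical (hc : IsLimit c) [CompactSpace X₀]
    [LocallyOfFinitePresentation f₀] (rs : List Γ(X₀, ⊤)) (M : X₀.Modules)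
    [M.IsQuasicoherent] [SheafOfModules.IsFinitePresentation (R := X₀.ringCatSheaf) M]
    (h : ∀ s : ↥(pullback (f₀ ≫ g₀) (c.π.app i₀)),
      TRAt (bcMap f₀ g₀ (c.π.app i₀)) (pullback.fst (f₀ ≫ g₀) (c.π.app i₀)) rs M s) :
    ∃ j : Over i₀, ∀ y : ↥(pullback (f₀ ≫ g₀) (D.map j.hom)),
      TRAt (bcMap f₀ g₀ (D.map j.hom)) (pullback.fst (f₀ ≫ g₀) (D.map j.hom)) rs M y :=
  exists_stage_forall D c f₀ g₀ hc _ (stable_trAt rs M)
    (fun j =>
      haveI : LocallyOfFinitePresentation (bcMap f₀ g₀ (D.map j.hom)) :=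
        MorphismProperty.of_isPullback (P := @LocallyOfFinitePresentation)
          (isPullback_bcMap f₀ g₀ (D.map j.hom)) inferInstance
      isOpen_trAt _ _ rs M)
    (fun s hs => exists_canonical_trAt D c f₀ g₀ hc rs M s hs) h

/-- **Transversal regularity descends from the limit to a stage** (general form). -/
theorem exists_stage_trAt (hc : IsLimit c) [CompactSpace X₀]
    [LocallyOfFinitePresentation f₀] (rs : List Γ(X₀, ⊤)) (M : X₀.Modules)
    [M.IsQuasicoherent] [SheafOfModules.IsFinitePresentation (R := X₀.ringCatSheaf) M]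
    {X Y : Scheme.{u}} (f : X ⟶ Y) (g : Y ⟶ c.pt) (qY : Y ⟶ Y₀) (qX : X ⟶ X₀)
    (hY : IsPullback qY g g₀ (c.π.app i₀)) (hX : IsPullback qX f f₀ qY)
    (h : ∀ x : X, TRAt f qX rs M x) :
    ∃ (i : I) (φ : i ⟶ i₀) (Xi Yi : Scheme.{u}) (fi : Xi ⟶ Yi) (gi : Yi ⟶ D.obj i)
      (pY : Yi ⟶ Y₀) (pX : Xi ⟶ X₀),
      IsPullback pY gi g₀ (D.map φ) ∧ IsPullback pX fi f₀ pY ∧ ∀ y : Xi, TRAt fi pX rs M y := by
  obtain ⟨eX, eY, h1, h2, h3, h4⟩ := exists_arrow_iso f₀ g₀ (c.π.app i₀) f g qY qX hY hX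
  haveI : LocallyOfFinitePresentation f :=
    MorphismProperty.of_isPullback (P := @LocallyOfFinitePresentation) hX inferInstance
  have hcan : ∀ s : ↥(pullback (f₀ ≫ g₀) (c.π.app i₀)),
      TRAt (bcMap f₀ g₀ (c.π.app i₀)) (pullback.fst (f₀ ≫ g₀) (c.π.app i₀)) rs M s := by
    intro s
    have sq : IsPullback eX.inv (bcMap f₀ g₀ (c.π.app i₀)) f eY.inv := by
      refine IsPullback.of_horiz_isIso ⟨?_⟩
      rw [Iso.inv_comp_eq, ← Category.assoc, h1, Category.assoc, Iso.hom_inv_id,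
        Category.comp_id]
    refine trAt_pullback_comp sq qX _ ?_ rs M s (h _)
    rw [Iso.inv_comp_eq, h2]
  obtain ⟨j, hj⟩ := exists_stage_trAt_canonical D c f₀ g₀ hc rs M hcan
  exact ⟨j.left, j.hom, _, _, bcMap f₀ g₀ (D.map j.hom), pullback.snd _ _, pullback.fst _ _,
    pullback.fst _ _, IsPullback.of_hasPullback _ _, isPullback_bcMap f₀ g₀ _, hj⟩

end lim



section dict

variable {X₀ X' T' : Scheme.{u}}

/-- **Global dictionary for the structure sheaf**: pointwise transversal regularity everywhere is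
`RegImm.IsTransRegularSeq` on all pairs of affine charts. -/
theorem forall_trAt_structureModule_iff_forall_affine (q : X' ⟶ T') (p : X' ⟶ X₀)
    (rs : List Γ(X₀, ⊤)) :
    (∀ x : X', TRAt q p rs (Coh.structureModule X₀) x) ↔
      ∀ (U : X'.affineOpens) (V : T'.affineOpens) (e : U.1 ≤ q ⁻¹ᵁ V.1),
        @RegImm.IsTransRegularSeq Γ(T', V.1) Γ(X', U.1) _ _ (q.appLE V.1 U.1 e).hom.toAlgebra
          (rs.map (fun f => (X'.presheaf.map (homOfLE (le_top : U.1 ≤ ⊤)).op).hom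
            (p.appTop.hom f))) := by
  constructor
  · intro h U V e
    exact (forall_trAt_structureModule_iff q p rs U.2 V.2 e).mp fun x _ => h x
  · intro h x
    obtain ⟨_, ⟨V, hV, rfl⟩, hxV, -⟩ :=
      T'.isBasis_affineOpens.exists_subset_of_mem_open (Set.mem_univ (q x)) isOpen_univ
    obtain ⟨_, ⟨U, hU, rfl⟩, hxU, hUV⟩ :=
      X'.isBasis_affineOpens.exists_subset_of_mem_open (show x ∈ (q ⁻¹ᵁ V : Set X') from hxV)
        (q ⁻¹ᵁ V).isOpen
    exact (forall_trAt_structureModule_iff q p rs hU hV hUV).mpr (h ⟨U, hU⟩ ⟨V, hV⟩ hUV) x hxU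

end dict

section final

variable {I : Type u} [Category.{u} I] [IsCofiltered I] (D : I ⥤ Scheme.{u}) (c : Cone D)
  [∀ {i j : I} (φ : i ⟶ j), IsAffineHom (D.map φ)]
variable {i₀ : I} {X₀ : Scheme.{u}} (g₀ : X₀ ⟶ D.obj i₀)

set_option maxHeartbeats 1000000 in
/-- **EGA IV 11.3-type statement**: the pulled back sequence is transversally regular on `M` at the
limit iff it is so at a stage. -/
theorem forall_trAt_limit_iff_exists_stage (hc : IsLimit c) [CompactSpace X₀]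
    [LocallyOfFinitePresentation g₀] (rs : List Γ(X₀, ⊤)) (M : X₀.Modules)
    [M.IsQuasicoherent] [SheafOfModules.IsFinitePresentation (R := X₀.ringCatSheaf) M] :
    (∀ x : ↥(pullback g₀ (c.π.app i₀)),
      TRAt (pullback.snd g₀ (c.π.app i₀)) (pullback.fst g₀ (c.π.app i₀)) rs M x) ↔
    ∃ (j : I) (φ : j ⟶ i₀), ∀ y : ↥(pullback g₀ (D.map φ)),
      TRAt (pullback.snd g₀ (D.map φ)) (pullback.fst g₀ (D.map φ)) rs M y := by
  constructor
  · intro h
    obtain ⟨i, φ, Xi, Yi, fi, gi, pY, pX, hYi, hXi, hfl⟩ :=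
      exists_stage_trAt D c g₀ (𝟙 (D.obj i₀)) hc rs M (pullback.snd g₀ (c.π.app i₀)) (𝟙 c.pt)
        (c.π.app i₀) (pullback.fst g₀ (c.π.app i₀)) (IsPullback.id_vert (c.π.app i₀))
        (IsPullback.of_hasPullback g₀ (c.π.app i₀)) h
    refine ⟨i, φ, fun y => ?_⟩
    haveI : LocallyOfFinitePresentation fi :=
      MorphismProperty.of_isPullback (P := @LocallyOfFinitePresentation) hXi inferInstance
    have hgi : IsIso gi := hYi.isIso_snd_of_isIso (IsIso.id _)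
    have hw : pY = gi ≫ D.map φ := (Category.comp_id pY).symm.trans hYi.w
    have e1 : inv gi ≫ pY = D.map φ := by rw [hw, IsIso.inv_hom_id_assoc]
    have e2 : pullback.fst g₀ (D.map φ) ≫ g₀ = (pullback.snd g₀ (D.map φ) ≫ inv gi) ≫ pY := by
      rw [Category.assoc, e1]
      exact pullback.condition
    let a : pullback g₀ (D.map φ) ⟶ Xi :=
      hXi.lift (pullback.fst g₀ (D.map φ)) (pullback.snd g₀ (D.map φ) ≫ inv gi) e2
    have ha1 : a ≫ pX = pullback.fst g₀ (D.map φ) := hXi.lift_fst _ _ _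
    have ha2 : a ≫ fi = pullback.snd g₀ (D.map φ) ≫ inv gi := hXi.lift_snd _ _ _
    have sq : IsPullback a (pullback.snd g₀ (D.map φ)) fi (inv gi) := by
      refine IsPullback.of_right ?_ ha2 hXi
      rw [ha1, e1]
      exact IsPullback.of_hasPullback g₀ (D.map φ)
    exact trAt_pullback_comp sq pX (pullback.fst g₀ (D.map φ)) ha1 rs M y (hfl (a y))
  · rintro ⟨j, φ, h⟩ x
    exact trAt_pullback_comp (isPullback_pbProj D c i₀ g₀ (Over.mk φ))
      (pullback.fst g₀ (D.map φ)) (pullback.fst g₀ (c.π.app i₀))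
      (pbProj_fst D c i₀ g₀ (Over.mk φ)) rs M x (h _)

end final

end Groth.Agent.Lib.H72TransReg
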