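import Groth.Agent.Lib.H72InjFlatBC
import Groth.Agent.Lib.H72TransReg
import Groth.Agent.S4863

/-!
# Transversally regular sequences, sheaf form (helper72)

* `mulHom M r` (homothety), `pullback_map_mulHom`;
* `TRAt q p rs M x`: pointwise transversal regularity relative to `q` of the pullback along `p` of the
  sequence `rs` on `M`; `isOpen_trAt` (openness), `trAt_pullback_comp` (base change);
* `TRChart`, `forall_trAt_iff_chart` (dictionary with `TR` on sections over affine charts).
-/

set_option autoImplicit false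
set_option linter.style.haveILetI false
universe u

open CategoryTheory AlgebraicGeometry TopologicalSpace Opposite Limits

namespace Groth.Agent.Lib.H72TransReg

open Groth.Agent.Lib.H72InjFlat Groth.Agent.Lib.H72PullbackNat

variable {X : Scheme.{u}}

/-- multiplication by a global function, as an endomorphism of an `O_X`-module -/
noncomputable def mulHom (M : X.Modules) (r : Γ(X, ⊤)) : M ⟶ M :=
  ⟨PresheafOfModules.homMk (Coh.smulAb M r).hom (by
    intro U a m
    change (Coh.resTop X U r) • (a • m) = a • ((Coh.resTop X U r) • m)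
    rw [smul_smul, smul_smul]
    congr 1
    exact mul_comm (show X.presheaf.obj U from Coh.resTop X U r) (show X.presheaf.obj U from a))⟩

theorem mulHom_app (M : X.Modules) (r : Γ(X, ⊤)) (V : X.Opens) (m : Γ(M, V)) :
    (mulHom M r).app V m = (X.presheaf.map (homOfLE (le_top : V ≤ ⊤)).op).hom r • m := rfl

theorem mulHom_naturality {M N : X.Modules} (φ : M ⟶ N) (r : Γ(X, ⊤)) :
    mulHom M r ≫ φ = φ ≫ mulHom N r := by
  ext U m
  change φ.app U ((mulHom M r).app U m) = (mulHom N r).app U (φ.app U m)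
  rw [mulHom_app, mulHom_app, Scheme.Modules.Hom.app_smul]

variable {S : Scheme.{u}} (f : X ⟶ S)

theorem push_map_mulHom (M : X.Modules) (g : Γ(S, ⊤)) :
    (Scheme.Modules.pushforward f).map (mulHom M (f.appTop.hom g)) =
      mulHom ((Scheme.Modules.pushforward f).obj M) g := by
  ext V t
  let t' : Γ(M, f ⁻¹ᵁ V) := t
  change (mulHom M (f.appTop.hom g)).app (f ⁻¹ᵁ V) t' = (mulHom _ g).app V t
  rw [mulHom_app, mulHom_app]
  change _ = (f.app V).hom ((S.presheaf.map (homOfLE le_top).op).hom g) • t'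
  congr 1
  have h := f.naturality (homOfLE (le_top (a := V))).op
  exact (congr($h g)).symm

theorem pullback_map_mulHom (M : S.Modules) (g : Γ(S, ⊤)) :
    (Scheme.Modules.pullback f).map (mulHom M g) =
      mulHom ((Scheme.Modules.pullback f).obj M) (f.appTop.hom g) := by
  let adj := Scheme.Modules.pullbackPushforwardAdjunction f
  apply (adj.homEquiv M _).injective
  rw [adj.homEquiv_unit, adj.homEquiv_unit, push_map_mulHom]
  have h1 := mulHom_naturality (adj.unit.app M) g
  have h2 := adj.unit.naturality (mulHom M g)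
  exact h2.symm.trans h1


end Groth.Agent.Lib.H72TransReg

namespace Groth.Agent.Lib.H72TransReg

open Groth.Agent.Lib.H72InjFlat Groth.Agent.Lib.H72PullbackNat Groth.Agent.Lib.H72FlatModLim

variable {X₀ X' T' : Scheme.{u}}

/-- Pointwise transversal regularity of the sequence `rs` (pulled back along `p`) on the pullback of
`M`, relative to `q`. -/
noncomputable def TRAt (q : X' ⟶ T') (p : X' ⟶ X₀) : List Γ(X₀, ⊤) → X₀.Modules → X' → Prop
  | [], M, x => FlatMod.IsFlatOverAt q ((Scheme.Modules.pullback p).obj M) x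
  | r :: rs, M, x => FlatMod.IsFlatOverAt q ((Scheme.Modules.pullback p).obj M) x ∧
      Good q ((Scheme.Modules.pullback p).map (mulHom M r)) x ∧
      TRAt q p rs (cokernel (mulHom M r)) x

theorem trAt_nil (q : X' ⟶ T') (p : X' ⟶ X₀) (M : X₀.Modules) (x : X') :
    TRAt q p [] M x ↔ FlatMod.IsFlatOverAt q ((Scheme.Modules.pullback p).obj M) x := Iff.rfl

theorem trAt_cons (q : X' ⟶ T') (p : X' ⟶ X₀) (r : Γ(X₀, ⊤)) (rs : List Γ(X₀, ⊤))
    (M : X₀.Modules) (x : X') :
    TRAt q p (r :: rs) M x ↔ (FlatMod.IsFlatOverAt q ((Scheme.Modules.pullback p).obj M) x ∧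
      Good q ((Scheme.Modules.pullback p).map (mulHom M r)) x ∧
      TRAt q p rs (cokernel (mulHom M r)) x) := Iff.rfl

/-- The class of modules we work with is stable under cokernels of homotheties. -/
theorem qcoh_fp_cokernel_mulHom (M : X₀.Modules) [M.IsQuasicoherent]
    [SheafOfModules.IsFinitePresentation (R := X₀.ringCatSheaf) M] (r : Γ(X₀, ⊤)) :
    (cokernel (mulHom M r)).IsQuasicoherent ∧
      SheafOfModules.IsFinitePresentation (R := X₀.ringCatSheaf) (cokernel (mulHom M r)) :=
  ⟨Groth.Agent.Lib.H90OXModExact.isQuasicoherent_cokernel (mulHom M r),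
    isFinitePresentation_cokernel (mulHom M r)⟩

/-- The locus of transversal regularity is open. -/
theorem isOpen_trAt (q : X' ⟶ T') [LocallyOfFinitePresentation q] (p : X' ⟶ X₀)
    (rs : List Γ(X₀, ⊤)) (M : X₀.Modules) [M.IsQuasicoherent]
    [SheafOfModules.IsFinitePresentation (R := X₀.ringCatSheaf) M] :
    IsOpen {x : X' | TRAt q p rs M x} := by
  induction rs generalizing M with
  | nil =>
    haveI hqc : ((Scheme.Modules.pullback p).obj M).IsQuasicoherent :=
      Groth.Agent.Lib.H72PullbackQCoh.isQuasicoherent_pullback p M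
    haveI : Coh.IsQCoh ((Scheme.Modules.pullback p).obj M) := hqc
    exact Groth.Agent.S4863.result q _ (Groth.Agent.Lib.Fitting82.isFinitePresentation_pullback p M)
  | cons r rs ih =>
    haveI hqc : ((Scheme.Modules.pullback p).obj M).IsQuasicoherent :=
      Groth.Agent.Lib.H72PullbackQCoh.isQuasicoherent_pullback p M
    haveI : Coh.IsQCoh ((Scheme.Modules.pullback p).obj M) := hqc
    haveI hfp : SheafOfModules.IsFinitePresentation (R := X'.ringCatSheaf)
        ((Scheme.Modules.pullback p).obj M) :=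
      Groth.Agent.Lib.Fitting82.isFinitePresentation_pullback p M
    have hq := (qcoh_fp_cokernel_mulHom M r).1
    have hf := (qcoh_fp_cokernel_mulHom M r).2
    have h1 : IsOpen {x : X' | FlatMod.IsFlatOverAt q ((Scheme.Modules.pullback p).obj M) x} :=
      Groth.Agent.S4863.result q _ hfp
    have h2 : IsOpen {x : X' | Good q ((Scheme.Modules.pullback p).map (mulHom M r)) x} :=
      isOpen_good q _
    exact h1.inter (h2.inter (@ih (cokernel (mulHom M r)) hq hf))

/-- Transversal regularity is stable under base change. -/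
theorem trAt_pullback_comp {X'' T'' : Scheme.{u}} {q : X' ⟶ T'} {q' : X'' ⟶ T''} {g' : X'' ⟶ X'}
    {g : T'' ⟶ T'} (hsq : IsPullback g' q' q g) [LocallyOfFinitePresentation q] (p : X' ⟶ X₀)
    (p' : X'' ⟶ X₀) (hp : g' ≫ p = p') (rs : List Γ(X₀, ⊤)) (M : X₀.Modules) [M.IsQuasicoherent]
    [SheafOfModules.IsFinitePresentation (R := X₀.ringCatSheaf) M] (x : X'')
    (h : TRAt q p rs M (g' x)) : TRAt q' p' rs M x := by
  induction rs generalizing M with
  | nil => exact isFlatOverAt_pullback_comp hsq p p' hp M x h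
  | cons r rs ih =>
    have hq := (qcoh_fp_cokernel_mulHom M r).1
    have hf := (qcoh_fp_cokernel_mulHom M r).2
    exact ⟨isFlatOverAt_pullback_comp hsq p p' hp M x h.1,
      good_pullback_comp hsq p p' hp (mulHom M r) x h.2.1,
      @ih (cokernel (mulHom M r)) hq hf h.2.2⟩

/-- Sections of an isomorphism, as a linear equivalence. -/
noncomputable def secLinEquiv {N N' : X'.Modules} (e : N ≅ N') (U : X'.Opens) :
    Γ(N, U) ≃ₗ[Γ(X', U)] Γ(N', U) :=
  LinearEquiv.ofLinearMap (secModMap e.hom U).hom (secModMap e.inv U).hom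
    (by
      ext m
      change (e.inv.app U ≫ e.hom.app U) m = m
      rw [← Scheme.Modules.Hom.comp_app, e.inv_hom_id]
      rfl)
    (by
      ext m
      change (e.hom.app U ≫ e.inv.app U) m = m
      rw [← Scheme.Modules.Hom.comp_app, e.hom_inv_id]
      rfl)

/-- Sections of the cokernel of a homothety on an affine open. -/
noncomputable def secCokerEquiv {N : X'.Modules} [N.IsQuasicoherent] (u : N ⟶ N) {U : X'.Opens}
    (hU : IsAffineOpen U) (s : Γ(X', U)) (hu : ∀ m : Γ(N, U), u.app U m = s • m) :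
    QuotSMulTop s Γ(N, U) ≃ₗ[Γ(X', U)] Γ(cokernel u, U) :=
  (Submodule.quotEquivOfEq _ _ (by
    rw [LinearMap.exact_iff.mp (secModMap_cokernel_exact u hU)]
    ext x
    rw [Submodule.mem_smul_pointwise_iff_exists, LinearMap.mem_range]
    constructor
    · rintro ⟨m, -, rfl⟩
      exact ⟨m, hu m⟩
    · rintro ⟨m, rfl⟩
      exact ⟨m, Submodule.mem_top, (hu m).symm⟩)).trans
  ((secModMap (cokernel.π u) U).hom.quotKerEquivOfSurjective (secModMap_cokernel_surjective u hU))


/-- `TR` for the sections of a module over a pair of charts. -/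
def TRChart (q : X' ⟶ T') (N : X'.Modules) {U : X'.Opens} {V : T'.Opens} (hUV : U ≤ q ⁻¹ᵁ V)
    (ss : List Γ(X', U)) : Prop :=
  letI : Algebra Γ(T', V) Γ(X', U) := (q.appLE V U hUV).hom.toAlgebra
  letI : Module Γ(T', V) Γ(N, U) := Module.compHom _ (q.appLE V U hUV).hom
  haveI : IsScalarTower Γ(T', V) Γ(X', U) Γ(N, U) := .of_algebraMap_smul fun _ _ => rfl
  TR Γ(T', V) Γ(N, U) ss

theorem trChart_flat (q : X' ⟶ T') (N : X'.Modules) {U : X'.Opens} {V : T'.Opens}
    (hUV : U ≤ q ⁻¹ᵁ V) (ss : List Γ(X', U)) (h : TRChart q N hUV ss) :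
    @Module.Flat Γ(T', V) Γ(N, U) _ _ (Module.compHom _ (q.appLE V U hUV).hom) := by
  letI : Algebra Γ(T', V) Γ(X', U) := (q.appLE V U hUV).hom.toAlgebra
  letI : Module Γ(T', V) Γ(N, U) := Module.compHom _ (q.appLE V U hUV).hom
  haveI : IsScalarTower Γ(T', V) Γ(X', U) Γ(N, U) := .of_algebraMap_smul fun _ _ => rfl
  exact tr_flat Γ(T', V) Γ(N, U) ss h

theorem trChart_nil (q : X' ⟶ T') (N : X'.Modules) {U : X'.Opens} {V : T'.Opens}
    (hUV : U ≤ q ⁻¹ᵁ V) :
    TRChart q N hUV [] ↔
      @Module.Flat Γ(T', V) Γ(N, U) _ _ (Module.compHom _ (q.appLE V U hUV).hom) := by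
  letI : Algebra Γ(T', V) Γ(X', U) := (q.appLE V U hUV).hom.toAlgebra
  letI : Module Γ(T', V) Γ(N, U) := Module.compHom _ (q.appLE V U hUV).hom
  haveI : IsScalarTower Γ(T', V) Γ(X', U) Γ(N, U) := .of_algebraMap_smul fun _ _ => rfl
  exact tr_nil Γ(T', V) Γ(N, U)

theorem trChart_congr (q : X' ⟶ T') {N N' : X'.Modules} (e : N ≅ N') {U : X'.Opens}
    {V : T'.Opens} (hUV : U ≤ q ⁻¹ᵁ V) (ss : List Γ(X', U)) :
    TRChart q N hUV ss ↔ TRChart q N' hUV ss := by
  letI : Algebra Γ(T', V) Γ(X', U) := (q.appLE V U hUV).hom.toAlgebra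
  letI : Module Γ(T', V) Γ(N, U) := Module.compHom _ (q.appLE V U hUV).hom
  haveI : IsScalarTower Γ(T', V) Γ(X', U) Γ(N, U) := .of_algebraMap_smul fun _ _ => rfl
  letI : Module Γ(T', V) Γ(N', U) := Module.compHom _ (q.appLE V U hUV).hom
  haveI : IsScalarTower Γ(T', V) Γ(X', U) Γ(N', U) := .of_algebraMap_smul fun _ _ => rfl
  exact tr_congr Γ(T', V) (secLinEquiv e U) ss

theorem trChart_cons (q : X' ⟶ T') {N : X'.Modules} [N.IsQuasicoherent] (u : N ⟶ N)
    {U : X'.Opens} {V : T'.Opens} (hU : IsAffineOpen U) (hUV : U ≤ q ⁻¹ᵁ V) (s : Γ(X', U))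
    (hu : ∀ m : Γ(N, U), u.app U m = s • m) (ss : List Γ(X', U)) :
    TRChart q N hUV (s :: ss) ↔
      (@Module.Flat Γ(T', V) Γ(N, U) _ _ (Module.compHom _ (q.appLE V U hUV).hom) ∧
        Function.Injective (u.app U) ∧ TRChart q (cokernel u) hUV ss) := by
  letI : Algebra Γ(T', V) Γ(X', U) := (q.appLE V U hUV).hom.toAlgebra
  letI : Module Γ(T', V) Γ(N, U) := Module.compHom _ (q.appLE V U hUV).hom
  haveI : IsScalarTower Γ(T', V) Γ(X', U) Γ(N, U) := .of_algebraMap_smul fun _ _ => rfl
  letI : Module Γ(T', V) Γ(cokernel u, U) := Module.compHom _ (q.appLE V U hUV).hom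
  haveI : IsScalarTower Γ(T', V) Γ(X', U) Γ(cokernel u, U) := .of_algebraMap_smul fun _ _ => rfl
  have h1 : IsSMulRegular Γ(N, U) s ↔ Function.Injective (u.app U) := by
    have : (fun m : Γ(N, U) => s • m) = ⇑(u.app U).hom := funext fun m => (hu m).symm
    unfold IsSMulRegular
    rw [this]
  refine (tr_cons Γ(T', V) Γ(N, U) s ss).trans (and_congr Iff.rfl (and_congr h1 ?_))
  exact tr_congr Γ(T', V) (secCokerEquiv u hU s hu) ss


/-- The restriction to `U` of the pullback of a global function. -/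
noncomputable def resFn (p : X' ⟶ X₀) (U : X'.Opens) (r : Γ(X₀, ⊤)) : Γ(X', U) :=
  (X'.presheaf.map (homOfLE (le_top : U ≤ ⊤)).op).hom (p.appTop.hom r)

theorem pullback_mulHom_app (p : X' ⟶ X₀) (M : X₀.Modules) (r : Γ(X₀, ⊤)) (U : X'.Opens)
    (m : Γ((Scheme.Modules.pullback p).obj M, U)) :
    ((Scheme.Modules.pullback p).map (mulHom M r)).app U m = resFn p U r • m := by
  rw [pullback_map_mulHom, mulHom_app]
  rfl

/-- **Dictionary**: pointwise transversal regularity on an affine chart is transversal regularity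
of the module of sections. -/
theorem forall_trAt_iff_chart (q : X' ⟶ T') (p : X' ⟶ X₀) (rs : List Γ(X₀, ⊤)) (M : X₀.Modules)
    [M.IsQuasicoherent] {U : X'.Opens} {V : T'.Opens} (hU : IsAffineOpen U) (hV : IsAffineOpen V)
    (hUV : U ≤ q ⁻¹ᵁ V) :
    (∀ x : X', x ∈ U → TRAt q p rs M x) ↔
      TRChart q ((Scheme.Modules.pullback p).obj M) hUV (rs.map (resFn p U)) := by
  induction rs generalizing M with
  | nil =>
    haveI hqc : ((Scheme.Modules.pullback p).obj M).IsQuasicoherent :=
      Groth.Agent.Lib.H72PullbackQCoh.isQuasicoherent_pullback p M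
    rw [List.map_nil, trChart_nil]
    exact Groth.Agent.Lib.FlatOverSections.forall_isFlatOverAt_iff_flat_sections q _ hU hV hUV
  | cons r rs ih =>
    haveI hqc : ((Scheme.Modules.pullback p).obj M).IsQuasicoherent :=
      Groth.Agent.Lib.H72PullbackQCoh.isQuasicoherent_pullback p M
    have hq : (cokernel (mulHom M r)).IsQuasicoherent :=
      Groth.Agent.Lib.H90OXModExact.isQuasicoherent_cokernel (mulHom M r)
    rw [List.map_cons, trChart_cons q ((Scheme.Modules.pullback p).map (mulHom M r)) hU hUV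
      (resFn p U r) (pullback_mulHom_app p M r U),
      ← trChart_congr q (cokernelPullbackIso p (mulHom M r)) hUV, ← @ih (cokernel (mulHom M r)) hq,
      ← Groth.Agent.Lib.FlatOverSections.forall_isFlatOverAt_iff_flat_sections q _ hU hV hUV]
    constructor
    · intro h
      exact ⟨fun x hx => (h x hx).1,
        ((forall_good_iff_chart q _ hU hV hUV).mp fun x hx => (h x hx).2.1).1,
        fun x hx => (h x hx).2.2⟩
    · rintro ⟨h1, h2, h3⟩ x hx
      refine ⟨h1 x hx, ?_, h3 x hx⟩
      refine (forall_good_iff_chart q _ hU hV hUV).mpr ⟨h2, ?_⟩ x hx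
      refine trChart_flat q _ hUV (rs.map (resFn p U)) ?_
      rw [← trChart_congr q (cokernelPullbackIso p (mulHom M r)) hUV,
        ← @ih (cokernel (mulHom M r)) hq]
      exact h3


/-- The structure module is quasi-coherent and finitely presented. -/
theorem qcoh_fp_structureModule (X : Scheme.{u}) :
    (Coh.structureModule X).IsQuasicoherent ∧
      SheafOfModules.IsFinitePresentation (R := X.ringCatSheaf) (Coh.structureModule X) :=
  ⟨Groth.Agent.Lib.StructureModule.isQuasicoherent_structureModule X,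
    Groth.Agent.Lib.H90Invertible.isFinitePresentation_of_isInvertible
      (Groth.Agent.Lib.H90Invertible.isInvertible_structureModule X)⟩

/-- Sections of the structure module. -/
noncomputable def secUnitEquiv (U : X'.Opens) :
    Γ(X', U) ≃ₗ[Γ(X', U)] Γ(Coh.structureModule X', U) where
  toFun a := a
  invFun a := a
  map_add' _ _ := rfl
  map_smul' _ _ := rfl
  left_inv _ := rfl
  right_inv _ := rfl

/-- For the structure module, `TRChart` is `RegImm.IsTransRegularSeq`. -/
theorem trChart_structureModule_iff (q : X' ⟶ T') {U : X'.Opens} {V : T'.Opens}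
    (hUV : U ≤ q ⁻¹ᵁ V) (ss : List Γ(X', U)) :
    TRChart q (Coh.structureModule X') hUV ss ↔
      @RegImm.IsTransRegularSeq Γ(T', V) Γ(X', U) _ _ (q.appLE V U hUV).hom.toAlgebra ss := by
  letI : Algebra Γ(T', V) Γ(X', U) := (q.appLE V U hUV).hom.toAlgebra
  letI : Module Γ(T', V) Γ(Coh.structureModule X', U) := Module.compHom _ (q.appLE V U hUV).hom
  haveI : IsScalarTower Γ(T', V) Γ(X', U) Γ(Coh.structureModule X', U) :=
    .of_algebraMap_smul fun _ _ => rfl
  rw [isTransRegularSeq_iff]
  exact (tr_congr Γ(T', V) (secUnitEquiv U) ss).symm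

/-- **Dictionary for the structure sheaf.** -/
theorem forall_trAt_structureModule_iff (q : X' ⟶ T') (p : X' ⟶ X₀) (rs : List Γ(X₀, ⊤))
    {U : X'.Opens} {V : T'.Opens} (hU : IsAffineOpen U) (hV : IsAffineOpen V)
    (hUV : U ≤ q ⁻¹ᵁ V) :
    (∀ x : X', x ∈ U → TRAt q p rs (Coh.structureModule X₀) x) ↔
      @RegImm.IsTransRegularSeq Γ(T', V) Γ(X', U) _ _ (q.appLE V U hUV).hom.toAlgebra
        (rs.map (fun f => (X'.presheaf.map (homOfLE (le_top : U ≤ ⊤)).op).hom
          (p.appTop.hom f))) := by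
  haveI := (qcoh_fp_structureModule X₀).1
  rw [forall_trAt_iff_chart q p rs (Coh.structureModule X₀) hU hV hUV,
    ← trChart_congr q (Groth.Agent.Lib.ModPullback.pullbackUnitIso p) hUV,
    trChart_structureModule_iff]
  rfl

end Groth.Agent.Lib.H72TransReg
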