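import Groth.Agent.Lib.H72TransRegSheaf
import Groth.Agent.Lib.H72TransRegFibre
import Groth.Agent.Lib.ModStalkCoker
import Groth.Agent.Lib.CohFinite

/-!
# Transversally regular sequences: stalk form and fibres (helper72)

* `TRAt₀ f rs F x`: pointwise transversal regularity of global functions `rs` on `F` relative to `f`
  (no pullback); `isOpen_trAt₀`;
* `TRStalk`, `trAt₀_iff_trStalk`: dictionary with `TR` on stalks;
* `isOpen_fibre_isWeaklyRegular` (EGA IV 11.3.8-type openness, = S4866).
-/

set_option autoImplicit false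
set_option linter.style.haveILetI false
universe u

open CategoryTheory AlgebraicGeometry TopologicalSpace Opposite Limits

namespace Groth.Agent.Lib.H72TransReg

open Groth.Agent.Lib.H72InjFlat Groth.Agent.Lib.ModStalkLin Groth.Agent.Lib.ModStalkCoker

variable {X Y : Scheme.{u}}

/-- Pointwise transversal regularity (no pullback). -/
noncomputable def TRAt₀ (f : X ⟶ Y) : List Γ(X, ⊤) → X.Modules → X → Prop
  | [], F, x => FlatMod.IsFlatOverAt f F x
  | r :: rs, F, x => FlatMod.IsFlatOverAt f F x ∧ Good f (mulHom F r) x ∧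
      TRAt₀ f rs (cokernel (mulHom F r)) x

theorem isOpen_trAt₀ (f : X ⟶ Y) [LocallyOfFinitePresentation f] (rs : List Γ(X, ⊤))
    (F : X.Modules) [F.IsQuasicoherent]
    [SheafOfModules.IsFinitePresentation (R := X.ringCatSheaf) F] :
    IsOpen {x : X | TRAt₀ f rs F x} := by
  induction rs generalizing F with
  | nil =>
    haveI : Coh.IsQCoh F := ‹F.IsQuasicoherent›
    exact Groth.Agent.S4863.result f F ‹_›
  | cons r rs ih =>
    haveI : Coh.IsQCoh F := ‹F.IsQuasicoherent›
    have hq := (qcoh_fp_cokernel_mulHom F r).1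
    have hf := (qcoh_fp_cokernel_mulHom F r).2
    have h1 : IsOpen {x : X | FlatMod.IsFlatOverAt f F x} := Groth.Agent.S4863.result f F ‹_›
    have h2 : IsOpen {x : X | Good f (mulHom F r) x} := isOpen_good f _
    exact h1.inter (h2.inter (@ih (cokernel (mulHom F r)) hq hf))

/-- `TR` on the stalk at `x`, over the local ring of the base. -/
def TRStalk (f : X ⟶ Y) (N : X.Modules) (x : X) (ss : List (X.presheaf.stalk x)) : Prop :=
  letI : Algebra (Y.presheaf.stalk (f x)) (X.presheaf.stalk x) := (f.stalkMap x).hom.toAlgebra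
  letI : Module (Y.presheaf.stalk (f x)) (N.presheaf.stalk x) := FlatMod.moduleStalkOver f N x
  haveI : IsScalarTower (Y.presheaf.stalk (f x)) (X.presheaf.stalk x) (N.presheaf.stalk x) :=
    .of_algebraMap_smul fun _ _ => rfl
  TR (Y.presheaf.stalk (f x)) (N.presheaf.stalk x) ss

theorem trStalk_flat (f : X ⟶ Y) (N : X.Modules) (x : X) (ss : List (X.presheaf.stalk x))
    (h : TRStalk f N x ss) : FlatMod.IsFlatOverAt f N x := by
  letI : Algebra (Y.presheaf.stalk (f x)) (X.presheaf.stalk x) := (f.stalkMap x).hom.toAlgebra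
  letI : Module (Y.presheaf.stalk (f x)) (N.presheaf.stalk x) := FlatMod.moduleStalkOver f N x
  haveI : IsScalarTower (Y.presheaf.stalk (f x)) (X.presheaf.stalk x) (N.presheaf.stalk x) :=
    .of_algebraMap_smul fun _ _ => rfl
  exact tr_flat (Y.presheaf.stalk (f x)) (N.presheaf.stalk x) ss h

theorem trStalk_nil (f : X ⟶ Y) (N : X.Modules) (x : X) :
    TRStalk f N x [] ↔ FlatMod.IsFlatOverAt f N x := by
  letI : Algebra (Y.presheaf.stalk (f x)) (X.presheaf.stalk x) := (f.stalkMap x).hom.toAlgebra
  letI : Module (Y.presheaf.stalk (f x)) (N.presheaf.stalk x) := FlatMod.moduleStalkOver f N x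
  haveI : IsScalarTower (Y.presheaf.stalk (f x)) (X.presheaf.stalk x) (N.presheaf.stalk x) :=
    .of_algebraMap_smul fun _ _ => rfl
  exact tr_nil (Y.presheaf.stalk (f x)) (N.presheaf.stalk x)

/-- The stalk of the cokernel of a homothety. -/
noncomputable def stalkCokerEquiv {N : X.Modules} (u : N ⟶ N) (x : X) (s : X.presheaf.stalk x)
    (hu : ∀ m : N.presheaf.stalk x, stalkLin u x m = s • m) :
    QuotSMulTop s (N.presheaf.stalk x) ≃ₗ[X.presheaf.stalk x] (cokernel u).presheaf.stalk x :=
  (Submodule.quotEquivOfEq _ _ (by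
    rw [LinearMap.exact_iff.mp (stalkLin_cokernel_exact u x)]
    ext y
    rw [Submodule.mem_smul_pointwise_iff_exists, LinearMap.mem_range]
    constructor
    · rintro ⟨m, -, rfl⟩
      exact ⟨m, hu m⟩
    · rintro ⟨m, rfl⟩
      exact ⟨m, Submodule.mem_top, (hu m).symm⟩)).trans
  ((stalkLin (cokernel.π u) x).quotKerEquivOfSurjective (stalkLin_cokernel_surjective u x))

theorem trStalk_cons (f : X ⟶ Y) {N : X.Modules} (u : N ⟶ N) (x : X) (s : X.presheaf.stalk x)
    (hu : ∀ m : N.presheaf.stalk x, stalkLin u x m = s • m) (ss : List (X.presheaf.stalk x)) :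
    TRStalk f N x (s :: ss) ↔
      (FlatMod.IsFlatOverAt f N x ∧ Function.Injective (stalkLin u x) ∧
        TRStalk f (cokernel u) x ss) := by
  letI : Algebra (Y.presheaf.stalk (f x)) (X.presheaf.stalk x) := (f.stalkMap x).hom.toAlgebra
  letI : Module (Y.presheaf.stalk (f x)) (N.presheaf.stalk x) := FlatMod.moduleStalkOver f N x
  haveI : IsScalarTower (Y.presheaf.stalk (f x)) (X.presheaf.stalk x) (N.presheaf.stalk x) :=
    .of_algebraMap_smul fun _ _ => rfl
  letI : Module (Y.presheaf.stalk (f x)) ((cokernel u).presheaf.stalk x) :=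
    FlatMod.moduleStalkOver f (cokernel u) x
  haveI : IsScalarTower (Y.presheaf.stalk (f x)) (X.presheaf.stalk x)
      ((cokernel u).presheaf.stalk x) := .of_algebraMap_smul fun _ _ => rfl
  have h1 : IsSMulRegular (N.presheaf.stalk x) s ↔ Function.Injective (stalkLin u x) := by
    have : (fun m : N.presheaf.stalk x => s • m) = ⇑(stalkLin u x) := funext fun m => (hu m).symm
    unfold IsSMulRegular
    rw [this]
  refine (tr_cons (Y.presheaf.stalk (f x)) (N.presheaf.stalk x) s ss).trans
    (and_congr Iff.rfl (and_congr h1 ?_))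
  exact tr_congr (Y.presheaf.stalk (f x)) (stalkCokerEquiv u x s hu) ss

theorem stalkLin_mulHom (F : X.Modules) (r : Γ(X, ⊤)) (x : X) (m : F.presheaf.stalk x) :
    stalkLin (mulHom F r) x m = X.presheaf.germ ⊤ x trivial r • m := by
  obtain ⟨U, hxU, m', rfl⟩ := TopCat.Presheaf.exists_germ_eq F.presheaf m
  rw [stalkLin_germ, mulHom_app, Groth.Agent.Lib.QCohStalk.germ_smul]
  congr 1
  exact TopCat.Presheaf.germ_res_apply X.presheaf (homOfLE (le_top : U ≤ ⊤)) x hxU r

/-- **Stalk dictionary.** -/
theorem trAt₀_iff_trStalk (f : X ⟶ Y) (rs : List Γ(X, ⊤)) (F : X.Modules) (x : X) :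
    TRAt₀ f rs F x ↔ TRStalk f F x (rs.map fun r => X.presheaf.germ ⊤ x trivial r) := by
  induction rs generalizing F with
  | nil => exact (trStalk_nil f F x).symm
  | cons r rs ih =>
    rw [List.map_cons, trStalk_cons f (mulHom F r) x _ (stalkLin_mulHom F r x), ← ih]
    constructor
    · rintro ⟨h1, h2, h3⟩
      exact ⟨h1, h2.1, h3⟩
    · rintro ⟨h1, h2, h3⟩
      exact ⟨h1, ⟨h2, trStalk_flat f _ x _ ((ih _).mp h3)⟩, h3⟩


/-- Coherent modules on locally Noetherian schemes are finitely presented (as in helper67's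
`CurveVB67A.isFP_of_isCoh`). -/
theorem isFP_of_isCoh [IsLocallyNoetherian X] {F : X.Modules} (hF : Coh.IsCoh F) :
    CohB1.IsFP F := by
  rw [Groth.Agent.Lib.H90OXModFP.isFP_iff_forall_affine]
  refine ⟨hF.1, fun U => ?_⟩
  have : IsNoetherianRing Γ(X, U.1) := IsLocallyNoetherian.component_noetherian U
  have : Module.Finite Γ(X, U.1) Γ(F, U.1) :=
    Groth.Agent.Lib.CohFinite.finite_sections_of_isCoh F hF U.2
  exact Module.finitePresentation_of_finite _ _

theorem lfp_of_noeth (f : X ⟶ Y) [LocallyOfFiniteType f] [IsLocallyNoetherian Y] :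
    LocallyOfFinitePresentation f := by
  rw [HasRingHomProperty.iff_appLE (P := @LocallyOfFinitePresentation)]
  intro U V e
  have : IsNoetherianRing Γ(Y, U) := IsLocallyNoetherian.component_noetherian U
  exact RingHom.FinitePresentation.of_finiteType.mp (f.finiteType_appLE U.2 V.2 e)

/-- **EGA IV 11.3.8-type openness**: for `F` coherent and flat over a locally Noetherian base, the
locus where the germs of `gs` form a weakly regular sequence on the fibre `F_x / 𝔪_y F_x` is open. -/
theorem isOpen_fibre_isWeaklyRegular [IsLocallyNoetherian Y] (f : X ⟶ Y) [LocallyOfFiniteType f]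
    (F : X.Modules) (hF : Coh.IsCoh F) (hflat : FlatMod.IsFlatOver f F) (gs : List Γ(X, ⊤)) :
    IsOpen {x : X | RingTheory.Sequence.IsWeaklyRegular
      (↑(F.presheaf.stalk x) ⧸
        (Ideal.map (f.stalkMap x).hom (IsLocalRing.maximalIdeal ↑(Y.presheaf.stalk (f x))) •
          (⊤ : Submodule ↑(X.presheaf.stalk x) ↑(F.presheaf.stalk x))))
      (gs.map fun r => X.presheaf.germ ⊤ x trivial r)} := by
  haveI : IsLocallyNoetherian X := LocallyOfFiniteType.isLocallyNoetherian f
  haveI : LocallyOfFinitePresentation f := lfp_of_noeth f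
  haveI hq : F.IsQuasicoherent := hF.1
  haveI hfp : SheafOfModules.IsFinitePresentation (R := X.ringCatSheaf) F := isFP_of_isCoh hF
  have hopen := isOpen_trAt₀ f gs F
  convert hopen using 1
  ext x
  rw [Set.mem_ofPred_eq, Set.mem_ofPred_eq, trAt₀_iff_trStalk]
  letI : Algebra (Y.presheaf.stalk (f x)) (X.presheaf.stalk x) := (f.stalkMap x).hom.toAlgebra
  letI : Module (Y.presheaf.stalk (f x)) (F.presheaf.stalk x) := FlatMod.moduleStalkOver f F x
  haveI : IsScalarTower (Y.presheaf.stalk (f x)) (X.presheaf.stalk x) (F.presheaf.stalk x) :=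
    .of_algebraMap_smul fun _ _ => rfl
  haveI : IsLocalHom (algebraMap (Y.presheaf.stalk (f x)) (X.presheaf.stalk x)) :=
    inferInstanceAs (IsLocalHom (f.stalkMap x).hom)
  haveI : Module.Finite (X.presheaf.stalk x) (F.presheaf.stalk x) :=
    Groth.Agent.Lib.CohFinite.finite_stalk_of_isCoh F hF x
  haveI : Module.Flat (Y.presheaf.stalk (f x)) (F.presheaf.stalk x) := hflat x
  exact (tr_iff_isWeaklyRegular_fibre (A := Y.presheaf.stalk (f x)) (B := X.presheaf.stalk x)
    (F.presheaf.stalk x) _).symm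

end Groth.Agent.Lib.H72TransReg
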