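import Groth.Agent.Lib.H73FibDim
import Mathlib.Topology.JacobsonSpace

/-!
helper73: continuation of `H73FibDim` without quasi-compactness of `f`
(fibres of a morphism locally of finite type are Jacobson spaces).

* `exists_closed_in_fibre'`, `td_sub_le_fibre_dim'`: versions for `f` only locally of finite type.
* `exists_td_ge`: `b ≤ dim Y` (natural `b`) gives a point with `b ≤ td`.
-/

set_option autoImplicit false
universe u
open CategoryTheory AlgebraicGeometry

namespace Groth.Agent.Lib.H73FibDim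

open Groth.Agent.Lib.H30DimField

theorem exists_closed_in_fibre' {X Y : Scheme.{u}} (f : X ⟶ Y) [LocallyOfFiniteType f] (x : X) :
    ∃ c : X, ∃ hc : f c = f x, x ⤳ c ∧
      IsClosed ({⟨c, hc⟩} : Set (f ⁻¹' {f x})) := by
  haveI : JacobsonSpace (f ⁻¹' {f x}) :=
    JacobsonSpace.of_isClosedEmbedding (f.fiberHomeo (f x)).symm.isClosedEmbedding
  obtain ⟨c, hc1, hc2⟩ := nonempty_inter_closedPoints
    (Z := closure ({⟨x, rfl⟩} : Set (f ⁻¹' {f x})))
    ⟨⟨x, rfl⟩, subset_closure rfl⟩ isClosed_closure.isLocallyClosed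
  refine ⟨c.1, c.2, ?_, hc2⟩
  have : (⟨x, rfl⟩ : f ⁻¹' {f x}) ⤳ c := specializes_iff_mem_closure.mpr hc1
  exact (subtype_specializes_iff _ _).mp this

variable (k : Type u) [Field k]

variable {X Y : Scheme.{u}} [X.Over (Spec (CommRingCat.of k))] [Y.Over (Spec (CommRingCat.of k))]
  [LocallyOfFiniteType (X ↘ Spec (CommRingCat.of k))]
  [LocallyOfFiniteType (Y ↘ Spec (CommRingCat.of k))]
  (f : X ⟶ Y) [f.IsOver (Spec (CommRingCat.of k))]

/-- `trdeg_{κ(f x)} κ(x) ≤ dim f⁻¹(f x)`, `f` locally of finite type -/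
theorem td_sub_le_fibre_dim' [LocallyOfFiniteType f] (x : X) :
    (((td k X x - td k Y (f x)).toNat : ℕ) : WithBot ℕ∞) ≤
      topologicalKrullDim ↥(f ⁻¹' {f x}) := by
  have hδ := isDimFun k X
  haveI := quasiSober_fibre f (f x)
  obtain ⟨c, hc, hxc, hcl⟩ := exists_closed_in_fibre' f x
  have hfin := finite_residueFieldMap_of_isClosed_fibre f (f x) ⟨c, hc⟩ hcl
  have htd := td_eq_of_finite k f c hfin
  rw [hc] at htd
  have := le_dim_of_convex hδ (f ⁻¹' {f x}) (fibre_convex f (f x)) x c rfl hc hxc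
  rw [htd] at this
  exact this

omit [X.Over (Spec (CommRingCat.of k))] [LocallyOfFiniteType (X ↘ Spec (CommRingCat.of k))] in
/-- a natural number below the dimension is attained by `td` -/
theorem exists_td_ge [Nonempty Y] (b : ℕ) (hb : (b : WithBot ℕ∞) ≤ topologicalKrullDim Y) :
    ∃ y : Y, (b : ℤ) ≤ td k Y y := by
  by_contra hcon
  push Not at hcon
  obtain ⟨y₀⟩ := ‹Nonempty Y›
  have h0 := hcon y₀
  have h00 := td_nonneg k Y y₀
  have hb1 : 1 ≤ b := by omega
  have h1 := dim_le_of_td_le k (X := Y) (b - 1) (fun y => by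
    have := hcon y
    push_cast [hb1]
    omega)
  have h2 : (b : WithBot ℕ∞) ≤ ((b - 1 : ℕ) : WithBot ℕ∞) := hb.trans h1
  have h3 : b ≤ b - 1 := by exact_mod_cast h2
  omega

end Groth.Agent.Lib.H73FibDim
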