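import Mathlib

set_option autoImplicit false
universe u

namespace Groth.Agent.Lib.H73FrobDeg

open MvPolynomial

namespace FrobPoly

variable {σ : Type*} [Finite σ] (p : ℕ) [hp : NeZero p]

/-- exponent vectors below `p` as finsupps -/
noncomputable def toExp (e : σ → Fin p) : σ →₀ ℕ :=
  Finsupp.equivFunOnFinite.symm (fun i => (e i : ℕ))

omit hp in
@[simp] lemma toExp_apply (e : σ → Fin p) (i : σ) : toExp p e i = (e i : ℕ) := rfl

/-- division with remainder on exponent vectors -/
noncomputable def divMod : (σ → Fin p) × (σ →₀ ℕ) ≃ (σ →₀ ℕ) where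
  toFun x := p • x.2 + toExp p x.1
  invFun m := (fun i => ⟨m i % p, Nat.mod_lt _ (Nat.pos_of_ne_zero hp.out)⟩,
    Finsupp.mapRange (· / p) (Nat.zero_div p) m)
  left_inv := by
    rintro ⟨e, q⟩
    ext i
    · simp [Nat.mod_eq_of_lt (e i).isLt]
    · simp only [Finsupp.mapRange_apply, Finsupp.coe_add, Finsupp.coe_smul, Pi.add_apply,
        Pi.smul_apply, smul_eq_mul, toExp_apply]
      rw [Nat.mul_add_div (Nat.pos_of_ne_zero hp.out), Nat.div_eq_of_lt (e i).isLt, add_zero]
  right_inv := by
    intro m
    ext i
    simp [Nat.div_add_mod]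

variable (R : Type*) [CommRing R]

/-- The sum map. -/
noncomputable def Phi : ((σ → Fin p) →₀ MvPolynomial σ R) →ₗ[R] MvPolynomial σ R :=
  Finsupp.lsum R (fun e => (LinearMap.mulRight R (monomial (toExp p e) (1 : R))).comp
    (expand p (σ := σ) (R := R)).toLinearMap)

omit hp in
lemma Phi_single (e : σ → Fin p) (a : MvPolynomial σ R) :
    Phi p R (Finsupp.single e a) = expand p a * monomial (toExp p e) 1 := by
  simp [Phi]

lemma Phi_bijective : Function.Bijective (Phi (σ := σ) p R) := by
  classical
  let b : Module.Basis (Σ _ : σ → Fin p, (σ →₀ ℕ)) R ((σ → Fin p) →₀ MvPolynomial σ R) :=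
    Finsupp.basis (fun _ => basisMonomials σ R)
  let b' := basisMonomials σ R
  let β : (Σ _ : σ → Fin p, (σ →₀ ℕ)) ≃ (σ →₀ ℕ) :=
    (Equiv.sigmaEquivProd _ _).trans (divMod p)
  have : Phi (σ := σ) p R = (b.equiv b' β : _ →ₗ[R] _) := by
    apply b.ext
    rintro ⟨e, q⟩
    rw [LinearEquiv.coe_coe, Module.Basis.equiv_apply]
    simp only [b, b', Finsupp.coe_basis, coe_basisMonomials, Phi_single, expand_monomial]
    rw [monomial_mul, one_mul]
    rfl
  rw [this]
  exact (b.equiv b' β).bijective

end FrobPoly

section Integral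

variable {R S : Type*} [CommRing R] [CommRing S] [Algebra R S]

/-- An injective integral extension does not lower the dimension. -/
theorem ringKrullDim_le_of_isIntegral_of_injective [Algebra.IsIntegral R S]
    (hinj : Function.Injective (algebraMap R S)) : ringKrullDim R ≤ ringKrullDim S := by
  rw [ringKrullDim, Order.krullDim]
  refine iSup_le fun l ↦ ?_
  obtain ⟨Q, -, hQ, hQc⟩ := Ideal.exists_ideal_over_prime_of_isIntegral
    (S := S) l.head.asIdeal ⊥ (by
      rw [← RingHom.ker_eq_comap_bot, (RingHom.injective_iff_ker_eq_bot _).mp hinj]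
      exact bot_le)
  have : Q.LiesOver l.head.asIdeal := ⟨hQc.symm⟩
  obtain ⟨L, hL, -, -⟩ := Ideal.exists_ltSeries_of_hasGoingUp l Q
  rw [← hL]
  exact Order.LTSeries.length_le_krullDim L

theorem ringKrullDim_eq_of_isIntegral_of_injective [Algebra.IsIntegral R S]
    (hinj : Function.Injective (algebraMap R S)) : ringKrullDim R = ringKrullDim S :=
  le_antisymm (ringKrullDim_le_of_isIntegral_of_injective hinj)
    (Order.krullDim_le_of_strictMono
      (fun I ↦ ⟨Ideal.comap (algebraMap R S) I.asIdeal, inferInstance⟩)
      (fun I J hIJ ↦ by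
        have : I.asIdeal < J.asIdeal := hIJ
        exact Ideal.IsIntegral.comap_lt_comap (R := R) this))

end Integral

/-- A copy of a ring, to carry a second algebra structure. -/
def Copy (X : Type*) : Type _ := X

noncomputable instance (X : Type*) [CommRing X] : CommRing (Copy X) := inferInstanceAs (CommRing X)
instance (X : Type*) [CommRing X] [IsDomain X] : IsDomain (Copy X) := inferInstanceAs (IsDomain X)

section Expand

variable (s q : ℕ) [NeZero q] (k : Type*) [Field k]

/-- algebra structure by `expand q` -/
noncomputable def expandAlgebra :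
    Algebra (MvPolynomial (Fin s) k) (Copy (MvPolynomial (Fin s) k)) :=
  RingHom.toAlgebra ((expand q : MvPolynomial (Fin s) k →ₐ[k] MvPolynomial (Fin s) k) :
    MvPolynomial (Fin s) k →+* MvPolynomial (Fin s) k)

/-- the monomials with exponents `< q` -/
noncomputable def monoFam : (Fin s → Fin q) → Copy (MvPolynomial (Fin s) k) :=
  fun e => monomial (FrobPoly.toExp q e) (1 : k)

theorem linearCombination_bijective :
    letI := expandAlgebra s q k
    Function.Bijective (Finsupp.linearCombination (MvPolynomial (Fin s) k) (monoFam s q k)) := by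
  letI := expandAlgebra s q k
  have h : ∀ f : (Fin s → Fin q) →₀ MvPolynomial (Fin s) k,
      Finsupp.linearCombination (MvPolynomial (Fin s) k) (monoFam s q k) f =
      FrobPoly.Phi q k f := by
    intro f
    induction f using Finsupp.induction_linear with
    | zero => rw [map_zero, map_zero]; rfl
    | add f g hf hg => rw [map_add, map_add, hf, hg]; rfl
    | single e a =>
      rw [Finsupp.linearCombination_single, FrobPoly.Phi_single, Algebra.smul_def]
      rfl
  have h2 : (Finsupp.linearCombination (MvPolynomial (Fin s) k) (monoFam s q k) : _ → _) =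
      (FrobPoly.Phi q k : _ → _) := funext h
  rw [h2]
  exact FrobPoly.Phi_bijective q k

theorem finrank_expand : letI := expandAlgebra s q k
    Module.finrank (MvPolynomial (Fin s) k) (Copy (MvPolynomial (Fin s) k)) = q ^ s := by
  letI := expandAlgebra s q k
  let b : Module.Basis (Fin s → Fin q) (MvPolynomial (Fin s) k)
      (Copy (MvPolynomial (Fin s) k)) :=
    Module.Basis.ofRepr (LinearEquiv.ofBijective _ (linearCombination_bijective s q k)).symm
  rw [Module.finrank_eq_card_basis b]
  simp

end Expand

theorem finrank_eq_of_square (P Q A B : Type*) [CommRing P] [CommRing Q] [CommRing A] [CommRing B]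
    [IsDomain B] [Algebra P Q] [Algebra P A] [Algebra Q B] [Algebra A B] [Algebra P B]
    [IsScalarTower P Q B] [IsScalarTower P A B] [FaithfulSMul Q B] [FaithfulSMul A B]
    (h : Module.finrank P A = Module.finrank Q B) (h0 : Module.finrank P A ≠ 0) :
    Module.finrank P Q = Module.finrank A B := by
  have h1 := Module.finrank_mul_finrank' (R := P) (S := Q) B
  have h2 := Module.finrank_mul_finrank' (R := P) (S := A) B
  rw [← h2, ← h, mul_comm] at h1
  exact Nat.eq_of_mul_eq_mul_left (Nat.pos_of_ne_zero h0) h1


section Main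

open TensorProduct

theorem finrank_frob (k0 k A0 A : Type u) [Field k0] [Field k] [Algebra k0 k]
    [CommRing A0] [Algebra k0 A0] [Algebra.FiniteType k0 A0]
    [CommRing A] [IsDomain A] [Algebra k A] [Algebra k0 A] [Algebra A0 A]
    [IsScalarTower k0 k A] [IsScalarTower k0 A0 A] [Algebra.IsPushout k0 k A0 A]
    (q : ℕ) [NeZero q] (φ : A →ₐ[k] A)
    (hφ : ∀ a : A0, φ (algebraMap A0 A a) = algebraMap A0 A a ^ q) :
    Function.Injective φ ∧ ∃ s : ℕ, ringKrullDim A = s ∧
      (letI : Algebra A (Copy A) := RingHom.toAlgebra (φ : A →+* A)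
       Module.finrank A (Copy A) = q ^ s) := by
  haveI : Nontrivial A0 := (algebraMap A0 A).domain_nontrivial
  obtain ⟨s, g, hginj, hgfin⟩ := exists_finite_inj_algHom_of_fg k0 A0
  let t : Fin s → A := fun i => algebraMap A0 A (g (X i))
  let j : MvPolynomial (Fin s) k →ₐ[k] A := aeval t
  have hj : ∀ p0 : MvPolynomial (Fin s) k0,
      j (map (algebraMap k0 k) p0) = algebraMap A0 A (g p0) := by
    intro p0
    induction p0 using MvPolynomial.induction_on with
    | C c =>
      rw [map_C, ← algebraMap_eq, ← algebraMap_eq, AlgHom.commutes, AlgHom.commutes,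
        ← IsScalarTower.algebraMap_apply, ← IsScalarTower.algebraMap_apply]
    | add x y hx hy => rw [map_add, map_add, hx, hy, map_add, map_add]
    | mul_X x i hx =>
      rw [map_mul, map_mul, hx, map_X, aeval_X, map_mul, map_mul]
  -- linear independence of the monomials
  have hli0 : LinearIndependent k0 (fun m : Fin s →₀ ℕ => g (monomial m (1 : k0))) := by
    have h1 := (basisMonomials (Fin s) k0).linearIndependent
    have h2 := h1.map' g.toLinearMap (LinearMap.ker_eq_bot.mpr hginj)
    have e : (fun m : Fin s →₀ ℕ => g (monomial m (1 : k0))) =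
        g.toLinearMap ∘ (basisMonomials (Fin s) k0) := by
      funext m
      simp [coe_basisMonomials]
    rw [e]
    exact h2
  have hbc : IsBaseChange k (IsScalarTower.toAlgHom k0 A0 A).toLinearMap :=
    Algebra.IsPushout.out
  have hli : LinearIndependent k
      (fun m : Fin s →₀ ℕ => algebraMap A0 A (g (monomial m (1 : k0)))) := by
    have h1 := Module.Flat.linearIndependent_one_tmul (S := k) hli0
    have h2 := h1.map' (hbc.equiv : k ⊗[k0] A0 →ₗ[k] A)
      (LinearMap.ker_eq_bot.mpr hbc.equiv.injective)
    have e : (fun m : Fin s →₀ ℕ => algebraMap A0 A (g (monomial m (1 : k0)))) =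
        ((hbc.equiv : k ⊗[k0] A0 →ₗ[k] A) ∘ fun x => (1 : k) ⊗ₜ[k0] g (monomial x (1 : k0))) := by
      funext m
      simp [hbc.equiv_tmul]
    rw [e]
    exact h2
  have hjmono : ∀ m : Fin s →₀ ℕ, j (monomial m (1 : k)) =
      algebraMap A0 A (g (monomial m (1 : k0))) := by
    intro m
    have := hj (monomial m (1 : k0))
    rwa [map_monomial, map_one] at this
  have hjinj : Function.Injective j := by
    have hcomp : j.toLinearMap ∘ₗ ((basisMonomials (Fin s) k).repr.symm : _ →ₗ[k] _) =
        Finsupp.linearCombination k
          (fun m : Fin s →₀ ℕ => algebraMap A0 A (g (monomial m (1 : k0)))) := by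
      apply Finsupp.lhom_ext'
      intro m
      apply LinearMap.ext_ring
      simp [hjmono]
    intro x y hxy
    have hx : ∀ z, j z = Finsupp.linearCombination k
        (fun m : Fin s →₀ ℕ => algebraMap A0 A (g (monomial m (1 : k0))))
        ((basisMonomials (Fin s) k).repr z) := by
      intro z
      have hz : z = (basisMonomials (Fin s) k).repr.symm ((basisMonomials (Fin s) k).repr z) :=
        (LinearEquiv.symm_apply_apply _ _).symm
      conv_lhs => rw [hz]
      rw [← hcomp]
      rfl
    rw [hx x, hx y] at hxy
    exact (basisMonomials (Fin s) k).repr.injective (hli hxy)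
  -- `A` is finite over the polynomial ring
  letI algPA : Algebra (MvPolynomial (Fin s) k) A := RingHom.toAlgebra (j : MvPolynomial (Fin s) k →+* A)
  have halg : ∀ p : MvPolynomial (Fin s) k, algebraMap (MvPolynomial (Fin s) k) A p = j p :=
    fun _ => rfl
  have hfin : Module.Finite (MvPolynomial (Fin s) k) A := by
    letI algP0 : Algebra (MvPolynomial (Fin s) k0) A0 := RingHom.toAlgebra (g : MvPolynomial (Fin s) k0 →+* A0)
    have hfin0 : Module.Finite (MvPolynomial (Fin s) k0) A0 := hgfin
    obtain ⟨S, hS⟩ := hfin0.fg_top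
    classical
    refine ⟨⟨S.image (algebraMap A0 A), ?_⟩⟩
    rw [eq_top_iff]
    rintro x -
    induction x using hbc.inductionOn with
    | zero => exact Submodule.zero_mem _
    | tmul a =>
      change algebraMap A0 A a ∈ _
      have ha : a ∈ Submodule.span (MvPolynomial (Fin s) k0) (S : Set A0) := by
        rw [hS]; trivial
      induction ha using Submodule.span_induction with
      | mem y hy =>
        apply Submodule.subset_span
        rw [Finset.coe_image]
        exact ⟨y, hy, rfl⟩
      | zero => rw [map_zero]; exact Submodule.zero_mem _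
      | add y z _ _ hy hz => rw [map_add]; exact Submodule.add_mem _ hy hz
      | smul p y _ hy =>
        have e : algebraMap A0 A (p • y) = (map (algebraMap k0 k) p) • algebraMap A0 A y := by
          rw [Algebra.smul_def, Algebra.smul_def, map_mul, halg, hj]
          rfl
        rw [e]
        exact Submodule.smul_mem _ _ hy
    | smul c y hy =>
      have e : c • y = (C c : MvPolynomial (Fin s) k) • y := by
        rw [Algebra.smul_def, Algebra.smul_def, halg]
        congr 1
        exact (aeval_C t c).symm
      rw [e]
      exact Submodule.smul_mem _ _ hy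
    | add y z hy hz => exact Submodule.add_mem _ hy hz
  have hinjPA : Function.Injective (algebraMap (MvPolynomial (Fin s) k) A) := hjinj
  haveI : FaithfulSMul (MvPolynomial (Fin s) k) A :=
    (faithfulSMul_iff_algebraMap_injective _ _).mpr hinjPA
  haveI : Algebra.IsIntegral (MvPolynomial (Fin s) k) A := Algebra.IsIntegral.of_finite _ _
  -- dimension
  have hdim : ringKrullDim A = s := by
    rw [← ringKrullDim_eq_of_isIntegral_of_injective hinjPA,
      MvPolynomial.ringKrullDim_of_isNoetherianRing, ringKrullDim_eq_zero_of_field]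
    simp
  -- compatibility with `expand`
  have hcomm : ∀ p : MvPolynomial (Fin s) k, φ (j p) = j (expand q p) := by
    intro p
    have h1 : (φ.comp j) = j.comp (expand q) := by
      apply MvPolynomial.algHom_ext
      intro i
      simp only [AlgHom.comp_apply, expand_X, map_pow]
      rw [show j (X i) = t i from aeval_X t i]
      exact hφ _
    exact congrArg (fun f => f p) h1
  -- injectivity of φ
  have hφinj : Function.Injective φ := by
    rw [injective_iff_map_eq_zero]
    intro a ha
    by_contra hne
    have hI : RingHom.ker (φ : A →+* A) ≠ ⊥ := by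
      intro h
      have : a ∈ RingHom.ker (φ : A →+* A) := ha
      rw [h] at this
      exact hne this
    apply hI
    apply Ideal.eq_bot_of_comap_eq_bot (R := MvPolynomial (Fin s) k)
    rw [eq_bot_iff]
    intro p hp
    rw [Ideal.mem_comap, RingHom.mem_ker, halg] at hp
    have h2 : j (expand q p) = 0 := by rw [← hcomm]; exact hp
    have h3 : expand q p = 0 := hjinj (by rw [h2, map_zero])
    have h4 : p = 0 := expand_injective (NeZero.pos q) (by rw [h3, map_zero])
    exact h4
  refine ⟨hφinj, s, hdim, ?_⟩
  letI algAB : Algebra A (Copy A) := RingHom.toAlgebra (φ : A →+* A)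
  letI algPQ : Algebra (MvPolynomial (Fin s) k) (Copy (MvPolynomial (Fin s) k)) :=
    expandAlgebra s q k
  letI algQB : Algebra (Copy (MvPolynomial (Fin s) k)) (Copy A) :=
    RingHom.toAlgebra (j : MvPolynomial (Fin s) k →+* A)
  letI algPB : Algebra (MvPolynomial (Fin s) k) (Copy A) :=
    RingHom.toAlgebra ((φ : A →+* A).comp (j : MvPolynomial (Fin s) k →+* A))
  haveI : IsScalarTower (MvPolynomial (Fin s) k) (Copy (MvPolynomial (Fin s) k)) (Copy A) :=
    IsScalarTower.of_algebraMap_eq (fun p => hcomm p)
  haveI : IsScalarTower (MvPolynomial (Fin s) k) A (Copy A) :=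
    IsScalarTower.of_algebraMap_eq (fun p => rfl)
  haveI : FaithfulSMul (Copy (MvPolynomial (Fin s) k)) (Copy A) :=
    (faithfulSMul_iff_algebraMap_injective _ _).mpr hjinj
  haveI : FaithfulSMul A (Copy A) :=
    (faithfulSMul_iff_algebraMap_injective _ _).mpr hφinj
  have h0 : Module.finrank (MvPolynomial (Fin s) k) A ≠ 0 := (Module.finrank_pos).ne'
  have hsq := finrank_eq_of_square (MvPolynomial (Fin s) k) (Copy (MvPolynomial (Fin s) k)) A
    (Copy A) rfl h0
  rw [← hsq]
  exact finrank_expand s q k

end Main

end Groth.Agent.Lib.H73FrobDeg
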