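import Groth.Agent.S15748

/-!
helper73: correspondences for a Weil cohomology theory (`WeilCoh.Theory`): graphs and swaps in
products, invariance of traces and cycle classes under isomorphisms, and a flexible form of the
Lefschetz trace formula for correspondences (the engine of `Groth.Agent.S15748`).
-/

set_option autoImplicit false
universe u v
open CategoryTheory AlgebraicGeometry
open WeilCoh

namespace Groth.Agent.Lib.H73WeilCorr

open Groth.Agent.Lib.H73WeilDim Groth.Agent.Lib.WeilCohPush Groth.Agent.Lib.H73WeilLef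
  Groth.Agent.Lib.H73WeilPt

section cat

variable {k : Type u} [Field k]

theorem var_hom_ext {X Y : WeilCoh.Var k} {f g : X ⟶ Y} (h : sm f = sm g) : f = g :=
  ObjectProperty.hom_ext _ (Over.OverMorphism.ext h)

/-- morphisms to a product are determined by their components -/
theorem prod_hom_ext {X Y P Z : WeilCoh.Var k} (p : P ⟶ X) (q : P ⟶ Y) (hP : WeilCoh.IsProd p q)
    (f g : Z ⟶ P) (h1 : f ≫ p = g ≫ p) (h2 : f ≫ q = g ≫ q) : f = g := by
  apply var_hom_ext
  apply hP.hom_ext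
  · exact congrArg sm h1
  · exact congrArg sm h2

/-- morphisms to a product exist with given components -/
theorem exists_prod_lift {X Y P Z : WeilCoh.Var k} (p : P ⟶ X) (q : P ⟶ Y)
    (hP : WeilCoh.IsProd p q) (a : Z ⟶ X) (b : Z ⟶ Y) : ∃ j : Z ⟶ P, j ≫ p = a ∧ j ≫ q = b := by
  have hw : sm a ≫ X.obj.hom = sm b ≫ Y.obj.hom := by
    rw [Over.w a.hom, Over.w b.hom]
  have hl : hP.lift (sm a) (sm b) hw ≫ P.obj.hom = Z.obj.hom := by
    rw [← Over.w p.hom, ← Category.assoc]
    change (hP.lift (sm a) (sm b) hw ≫ sm p) ≫ X.obj.hom = _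
    rw [hP.lift_fst, Over.w a.hom]
  refine ⟨ObjectProperty.homMk (Over.homMk (hP.lift (sm a) (sm b) hw) hl), ?_, ?_⟩
  · apply var_hom_ext
    exact hP.lift_fst _ _ _
  · apply var_hom_ext
    exact hP.lift_snd _ _ _

/-- a swap of a product with itself is an involution -/
theorem swap_swap {X P : WeilCoh.Var k} (p q : P ⟶ X) (hP : WeilCoh.IsProd p q) (σ : P ⟶ P)
    (hσp : σ ≫ p = q) (hσq : σ ≫ q = p) : σ ≫ σ = 𝟙 P := by
  apply prod_hom_ext p q hP
  · rw [Category.assoc, hσp, hσq, Category.id_comp]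
  · rw [Category.assoc, hσq, hσp, Category.id_comp]

end cat

variable {k : Type u} [Field k] [IsAlgClosed k] {K : Type v} [Field K] [CharZero K]
  (T : WeilCoh.Theory k K)

theorem pull_pull_of_comp_eq_id {X Y : WeilCoh.Var k} (σ : X ⟶ Y) (τ : Y ⟶ X) (h : σ ≫ τ = 𝟙 X)
    (a : T.H X) : T.pull σ (T.pull τ a) = a := by
  rw [← AlgHom.comp_apply, ← T.pull_comp, h, T.pull_id]
  rfl

/-- an isomorphism maps the generic point to the generic point -/
theorem map_genericPoint_of_iso {X Y : WeilCoh.Var k} [IrreducibleSpace ↥X.obj.left]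
    [IrreducibleSpace ↥Y.obj.left] (σ : X ⟶ Y) (τ : Y ⟶ X) (h2 : τ ≫ σ = 𝟙 Y) :
    sm σ (genericPoint ↥X.obj.left) = genericPoint ↥Y.obj.left := by
  have hsurj : Function.Surjective (sm σ) := by
    intro y
    refine ⟨sm τ y, ?_⟩
    have : (sm τ ≫ sm σ) y = y := by
      rw [← sm_comp, h2, sm_id]; rfl
    exact this
  have h := (genericPoint_spec ↥X.obj.left).image (sm σ).continuous
  rw [Set.image_univ, hsurj.range_eq, closure_univ] at h
  exact h.eq (genericPoint_spec ↥Y.obj.left)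

theorem dim_eq_of_iso {X Y : WeilCoh.Var k} (σ : X ⟶ Y) (τ : Y ⟶ X) (h1 : σ ≫ τ = 𝟙 X)
    (h2 : τ ≫ σ = 𝟙 Y) : WeilCoh.dim X.obj.left = WeilCoh.dim Y.obj.left := by
  haveI : IsIso (sm σ) :=
    ⟨sm τ, by rw [← sm_comp, h1, sm_id], by rw [← sm_comp, h2, sm_id]⟩
  have hh : IsHomeomorph (sm σ) := (sm σ).homeomorph.isHomeomorph
  unfold WeilCoh.dim WeilCoh.natDim
  rw [IsHomeomorph.topologicalKrullDim_eq _ hh]

/-- the trace is invariant under isomorphisms -/
theorem tr_pull_of_iso {X Y : WeilCoh.Var k} (σ : X ⟶ Y) (τ : Y ⟶ X) (h1 : σ ≫ τ = 𝟙 X)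
    (h2 : τ ≫ σ = 𝟙 Y) (a : T.H Y) : T.tr X (T.pull σ a) = T.tr Y a := by
  haveI : IrreducibleSpace ↥X.obj.left := X.property.2.2
  haveI : IrreducibleSpace ↥Y.obj.left := Y.property.2.2
  letI : X.obj.left.Over (Spec (CommRingCat.of k)) := ⟨X.obj.hom⟩
  haveI : LocallyOfFiniteType (X.obj.left ↘ Spec (CommRingCat.of k)) := lft_of_isVar k X
  have hdim := dim_eq_of_iso σ τ h1 h2
  have ha : a ∈ ⨆ i, T.gr Y i := by
    rw [(T.decomp Y).submodule_iSup_eq_top]; trivial
  induction ha using Submodule.iSup_induction' with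
  | mem m a ha =>
    by_cases hm : m = 2 * (WeilCoh.dim Y.obj.left : ℤ)
    · subst hm
      have h := T.cl_push σ (genericPoint ↥X.obj.left) a
        (by rw [pdim_genericPoint k, hdim]; exact ha)
      rw [residueDegree_of_section (sm σ) (sm τ) (by rw [← sm_comp, h1, sm_id]),
        map_genericPoint_of_iso σ τ h2, Groth.Agent.S15443.result k K T X,
        Groth.Agent.S15443.result k K T Y, one_mul, one_mul, Nat.cast_one, one_mul] at h
      exact h
    · rw [T.tr_vanish Y m a ha hm, T.tr_vanish X m _ (T.pull_mem σ m a ha) (by omega)]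
  | zero => rw [map_zero, map_zero, map_zero]
  | add a a' _ _ ha ha' => rw [map_add, map_add, map_add, ha, ha']

/-- cycle classes are compatible with isomorphisms -/
theorem pull_cl_of_iso {X Y : WeilCoh.Var k} (σ : X ⟶ Y) (τ : Y ⟶ X) (h1 : σ ≫ τ = 𝟙 X)
    (h2 : τ ≫ σ = 𝟙 Y) (ξ : ↥X.obj.left) : T.pull σ (T.cl Y (sm σ ξ)) = T.cl X ξ := by
  haveI : IrreducibleSpace ↥X.obj.left := X.property.2.2
  haveI : IrreducibleSpace ↥Y.obj.left := Y.property.2.2
  letI : X.obj.left.Over (Spec (CommRingCat.of k)) := ⟨X.obj.hom⟩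
  haveI : LocallyOfFiniteType (X.obj.left ↘ Spec (CommRingCat.of k)) := lft_of_isVar k X
  letI : Y.obj.left.Over (Spec (CommRingCat.of k)) := ⟨Y.obj.hom⟩
  haveI : LocallyOfFiniteType (Y.obj.left ↘ Spec (CommRingCat.of k)) := lft_of_isVar k Y
  haveI : (sm σ).IsOver (Spec (CommRingCat.of k)) := ⟨Over.w σ.hom⟩
  have hdim := dim_eq_of_iso σ τ h1 h2
  have hdeg : (sm σ).residueDegree ξ = 1 :=
    residueDegree_of_section (sm σ) (sm τ) (by rw [← sm_comp, h1, sm_id]) ξ
  have h3 := pdim_map_eq_of_residueDegree_ne_zero k (sm σ) ξ (by rw [hdeg]; exact one_ne_zero)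
  have h4 := codim_add_pdim k X.obj.left ξ
  have h4' := codim_add_pdim k Y.obj.left (sm σ ξ)
  have hcodim : WeilCoh.codim Y.obj.left (sm σ ξ) = WeilCoh.codim X.obj.left ξ := by omega
  refine eq_of_forall_tr_mul T (2 * (WeilCoh.codim X.obj.left ξ : ℤ))
    (2 * (WeilCoh.pdim X.obj.left ξ : ℤ)) (by omega) _ _
    (T.pull_mem σ _ _ (hcodim ▸ T.cl_mem Y (sm σ ξ))) (T.cl_mem X ξ) fun b hb => ?_
  have hb' : b = T.pull σ (T.pull τ b) := (pull_pull_of_comp_eq_id T σ τ h1 b).symm
  have hpush := T.cl_push σ ξ (T.pull τ b) (T.pull_mem τ _ b hb)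
  rw [hdeg, Nat.cast_one, one_mul, ← hb'] at hpush
  rw [hpush]
  conv_lhs => rw [hb']
  rw [← map_mul (T.pull σ), tr_pull_of_iso T σ τ h1 h2]

/-- pull-back along an isomorphism preserves the span of the cycle classes -/
theorem pull_mem_span_cl_of_iso {X Y : WeilCoh.Var k} (σ : X ⟶ Y) (τ : Y ⟶ X) (h1 : σ ≫ τ = 𝟙 X)
    (h2 : τ ≫ σ = 𝟙 Y) (a : T.H Y) (ha : a ∈ Submodule.span K (Set.range (T.cl Y))) :
    T.pull σ a ∈ Submodule.span K (Set.range (T.cl X)) := by
  induction ha using Submodule.span_induction with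
  | mem x hx =>
    obtain ⟨ζ, rfl⟩ := hx
    have hζ : sm σ (sm τ ζ) = ζ := by
      have : (sm τ ≫ sm σ) ζ = ζ := by
        rw [← sm_comp, h2, sm_id]; rfl
      exact this
    rw [← hζ, pull_cl_of_iso T σ τ h1 h2]
    exact Submodule.subset_span ⟨_, rfl⟩
  | zero => rw [map_zero]; exact Submodule.zero_mem _
  | add x y _ _ hx hy => rw [map_add]; exact Submodule.add_mem _ hx hy
  | smul c x _ hx => rw [map_smul]; exact Submodule.smul_mem _ c hx

/-- Flexible form of the Lefschetz trace formula for correspondences: `φ` a class of degree `n`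
on `P = X × Y` whose action on `H^i(X)` is `A i` (characterised through traces), `ψ` a class on
`P' = Y × X`, `g i` endomorphisms of `H^i(X)` which are (through traces) the composite of the
actions of `φ` and of `ψ`. Then `Tr_P (φ ∪ σ^* ψ) = Σ (-1)^i tr (g i)`. -/
theorem lefschetz_corr {X Y P P' : WeilCoh.Var k}
    (p : P ⟶ X) (q : P ⟶ Y) (p' : P' ⟶ Y) (q' : P' ⟶ X) (hP' : WeilCoh.IsProd p' q')
    (σ : P ⟶ P') (hσ₁ : σ ≫ p' = q) (hσ₂ : σ ≫ q' = p) (n : ℤ) (φ : T.H P) (hφ : φ ∈ T.gr P n)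
    (ψ : T.H P')
    (A : (i : ℕ) → ↥(T.gr X (i : ℤ)) → T.H Y)
    (hA : ∀ (i : ℕ) (x : ↥(T.gr X (i : ℤ))) (c : T.H Y) (u : ℤ), c ∈ T.gr Y u →
      T.tr Y (A i x * c) = T.tr P (T.pull p (x : T.H X) * φ * T.pull q c))
    (g : (i : ℕ) → ↥(T.gr X (i : ℤ)) →ₗ[K] ↥(T.gr X (i : ℤ)))
    (hg : ∀ (i : ℕ) (x : ↥(T.gr X (i : ℤ))) (b : T.H X),
      b ∈ T.gr X (2 * (WeilCoh.dim X.obj.left : ℤ) - i) →
      T.tr X ((g i x : T.H X) * b) = T.tr P' (T.pull p' (A i x) * ψ * T.pull q' b)) :
    T.tr P (φ * T.pull σ ψ) =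
      ∑ i ∈ Finset.range (2 * WeilCoh.dim X.obj.left + 1),
        (-1 : K) ^ i * LinearMap.trace K ↥(T.gr X (i : ℤ)) (g i) := by
  classical
  -- bases and dual families
  let ι : ℕ → Type := fun r => Fin (Module.finrank K ↥(T.gr X (r : ℤ)))
  let e : (r : ℕ) → Module.Basis (ι r) K ↥(T.gr X (r : ℤ)) := fun r =>
    Module.finBasis K ↥(T.gr X (r : ℤ))
  let f : (r : ℕ) → ι r → ↥(T.gr X (2 * (WeilCoh.dim X.obj.left : ℤ) - r)) := fun r l =>
    Groth.Agent.S15450.dualFam T X (r : ℤ) (2 * (WeilCoh.dim X.obj.left : ℤ) - r) (by ring) (e r) l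
  have hef : ∀ r, ∀ i l : ι r,
      T.tr X ((f r l : T.H X) * (e r i : T.H X)) = if i = l then 1 else 0 :=
    fun r i l => Groth.Agent.S15450.dualFam_spec T X (r : ℤ) _ (by ring) (e r) i l
  -- the Künneth computation, for an arbitrary class on `P'`
  have key : ∀ ψ' : T.H P',
      ∑ i ∈ Finset.range (2 * WeilCoh.dim X.obj.left + 1), ∑ l : ι i,
        T.tr P' (T.pull p' (A i (e i l)) * ψ' * T.pull q' (f i l : T.H X)) =
        T.tr P (φ * T.pull σ ψ') := by
    intro ψ'
    refine kunneth_induction T p' q' hP' (fun ψ' =>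
      ∑ i ∈ Finset.range (2 * WeilCoh.dim X.obj.left + 1), ∑ l : ι i,
        T.tr P' (T.pull p' (A i (e i l)) * ψ' * T.pull q' (f i l : T.H X)) =
        T.tr P (φ * T.pull σ ψ')) ?_ ?_ ?_ ψ'
    · simp
    · intro x y hx hy
      simp only [map_add, mul_add, add_mul, Finset.sum_add_distrib, hx, hy]
    · intro u v c d hc hd
      have e1 : T.pull σ (T.pull p' c) = T.pull q c := by
        rw [← AlgHom.comp_apply, ← T.pull_comp, hσ₁]
      have e2 : T.pull σ (T.pull q' d) = T.pull p d := by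
        rw [← AlgHom.comp_apply, ← T.pull_comp, hσ₂]
      rw [map_mul (T.pull σ), e1, e2]
      have hterm : ∀ (i : ℕ) (l : ι i),
          T.tr P' (T.pull p' (A i (e i l)) * (T.pull p' c * T.pull q' d) *
            T.pull q' (f i l : T.H X)) =
          T.tr P (T.pull p (T.tr X (d * (f i l : T.H X)) • (e i l : T.H X)) * φ *
            T.pull q c) := by
        intro i l
        have h1 : T.pull p' (A i (e i l)) * (T.pull p' c * T.pull q' d) *
            T.pull q' (f i l : T.H X) =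
            T.pull p' (A i (e i l) * c) * T.pull q' (d * (f i l : T.H X)) := by
          simp only [map_mul, mul_assoc]
        rw [h1, tr_prod' T p' q' hP', hA i (e i l) c u hc,
          map_smul, smul_mul_assoc, smul_mul_assoc, map_smul, smul_eq_mul, mul_comm]
      simp only [hterm]
      simp only [← map_sum, ← Finset.sum_mul]
      rw [Groth.Agent.S15748.expand T ι e f hef v d hd, map_smul, smul_mul_assoc, smul_mul_assoc,
        map_smul, smul_eq_mul]
      -- now commute `p^* d` to the right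
      have hmem : φ * T.pull q c ∈ T.gr P (n + u) :=
        SetLike.mul_mem_graded hφ (T.pull_mem q u c hc)
      by_cases hdeg : v + (n + u) = 2 * (WeilCoh.dim P.obj.left : ℤ)
      · have hc' := T.gradedComm P v _ (T.pull p d) (φ * T.pull q c)
          (T.pull_mem p v d hd) hmem
        rw [mul_assoc, hc', map_smul, smul_eq_mul, ← mul_assoc, ← mul_assoc,
          Groth.Agent.S15748.sign_aux v _ ⟨(WeilCoh.dim P.obj.left : ℤ), by omega⟩, one_mul]
      · rw [mul_assoc, T.tr_vanish P _ _ (SetLike.mul_mem_graded (T.pull_mem p v d hd) hmem) hdeg,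
          mul_zero, ← mul_assoc]
        have hmem' := SetLike.mul_mem_graded hmem (T.pull_mem p v d hd)
        rw [T.tr_vanish P _ _ hmem' (by omega)]
  -- rewrite the traces
  rw [← key ψ]
  refine Finset.sum_congr rfl fun i hi => ?_
  have hi' : i ≤ 2 * WeilCoh.dim X.obj.left := by
    rw [Finset.mem_range] at hi; omega
  rw [Groth.Agent.S15748.trace_eq_sum T (i : ℤ) _ (e i) (f i) (hef i), Finset.mul_sum]
  refine Finset.sum_congr rfl fun l _ => ?_
  have hc := T.gradedComm X (2 * (WeilCoh.dim X.obj.left : ℤ) - i) (i : ℤ) (f i l : T.H X)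
    (g i (e i l) : T.H X) (f i l).2 (g i (e i l)).2
  rw [hc, map_smul, smul_eq_mul, hg i (e i l) (f i l : T.H X) (f i l).2]
  have h1 : (2 * (WeilCoh.dim X.obj.left : ℤ) - i).natAbs = 2 * WeilCoh.dim X.obj.left - i := by
    omega
  rw [h1, Int.natAbs_natCast, mul_comm (2 * WeilCoh.dim X.obj.left - i) i,
    Groth.Agent.S15450.neg_one_pow_sub i _ hi', ← mul_assoc, ← pow_add,
    Even.neg_one_pow ⟨i, rfl⟩, one_mul]

end Groth.Agent.Lib.H73WeilCorr
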