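import Groth.Agent.Lib.H73FrobDeg
import Groth.Agent.Lib.DimIneqScheme
import Groth.Agent.Lib.H8DenseDim
import Groth.Agent.Lib.DimDominant97
import Groth.Agent.Lib.ThickeningBC
import Groth.Agent.Lib.H87Japanese2
import Groth.Agent.Lib.H69SchReduced
import Groth.Agent.Lib.H73WeilCorr
import Groth.Prelude.Def_WeilCoh

set_option autoImplicit false
universe u v

namespace Groth.Agent.Lib.H73FrobSch

open AlgebraicGeometry CategoryTheory WeilCoh

section general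

variable {Y : Scheme.{u}} [IsIntegral Y]

theorem evaluation_injective (U : Y.Opens) (hη : genericPoint Y ∈ U) :
    Function.Injective (Y.evaluation U (genericPoint Y) hη).hom := by
  rw [injective_iff_map_eq_zero]
  intro s hs
  have h1 : genericPoint Y ∉ Y.basicOpen s := by
    rw [← Scheme.evaluation_eq_zero_iff_notMem_basicOpen (hx := hη)]
    exact hs
  have h2 : Y.basicOpen s = ⊥ := by
    by_contra hne
    have hne' : (Y.basicOpen s : Set Y).Nonempty := by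
      rw [Set.nonempty_iff_ne_empty]
      intro h
      exact hne (TopologicalSpace.Opens.ext h)
    apply h1
    have := (genericPoint_spec Y).mem_open_set_iff (Y.basicOpen s).2
    exact this.mpr (by simpa using hne')
  exact (AlgebraicGeometry.basicOpen_eq_bot_iff s).mp h2

theorem isFractionRing_evaluation (U : Y.Opens) (hU : IsAffineOpen U) (x : Y) (hx : x ∈ U)
    (hgen : x = genericPoint Y) :
    letI := (Y.evaluation U x hx).hom.toAlgebra
    IsFractionRing Γ(Y, U) (Y.residueField x) := by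
  subst hgen
  letI := (Y.evaluation U (genericPoint Y) hx).hom.toAlgebra
  exact Groth.Agent.Lib.H87Japanese2.isFractionRing_of_forall_exists_div
    (evaluation_injective U hx) (fun l => by
      obtain ⟨b, t, ht, h⟩ := Groth.Agent.Lib.DimIneqScheme.exists_evaluation_frac hU _ hx l
      exact ⟨b, t, fun h0 => ht (by rw [h0, map_zero]), h⟩)

/-- a point of an affine open of an integral scheme at which evaluation is injective is the
generic point -/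
theorem eq_genericPoint_of_evaluation_injective (U : Y.Opens) (hU : IsAffineOpen U) (y : Y)
    (hy : y ∈ U) (hη : genericPoint Y ∈ U)
    (hinj : Function.Injective (Y.evaluation U y hy).hom) : y = genericPoint Y := by
  have h1 : (hU.primeIdealOf ⟨y, hy⟩).asIdeal = ⊥ := by
    rw [← Groth.Agent.Lib.DimIneqScheme.ker_evaluation hU y hy]
    exact (RingHom.injective_iff_ker_eq_bot _).mp hinj
  have h2 : (hU.primeIdealOf ⟨genericPoint Y, hη⟩).asIdeal = ⊥ := by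
    rw [← Groth.Agent.Lib.DimIneqScheme.ker_evaluation hU _ hη]
    exact (RingHom.injective_iff_ker_eq_bot _).mp (evaluation_injective U hη)
  have h3 : hU.primeIdealOf ⟨y, hy⟩ = hU.primeIdealOf ⟨genericPoint Y, hη⟩ :=
    PrimeSpectrum.ext (h1.trans h2.symm)
  have h4 : (⟨y, hy⟩ : U) = ⟨genericPoint Y, hη⟩ := by
    have hinj' : Function.Injective hU.isoSpec.hom :=
      (TopCat.homeoOfIso (Scheme.forgetToTop.mapIso hU.isoSpec)).injective
    exact hinj' h3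
  exact congrArg Subtype.val h4

end general

theorem appLE_congr_hom {X Y : Scheme.{u}} {f g : X ⟶ Y} (h : f = g) (U : Y.Opens) (V : X.Opens)
    (e : V ≤ f ⁻¹ᵁ U) : f.appLE U V e = g.appLE U V (h ▸ e) := by
  subst h; rfl

section main

variable (k₀ : Type u) [Field k₀] [Finite k₀] (k : Type u) [Field k] [Algebra k₀ k]

open Groth.Agent.Lib.H73FrobDeg in
theorem frob_affine {X : Scheme.{u}} (f : X ⟶ Spec (CommRingCat.of k₀)) [LocallyOfFiniteType f]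
    (FX : X ⟶ X) (hle : ∀ U : X.Opens, U ≤ FX ⁻¹ᵁ U)
    (hFapp : ∀ (U : X.Opens) (s : Γ(X, U)), (FX.appLE U U (hle U)).hom s = s ^ Nat.card k₀)
    {Y : Scheme.{u}} [IsIntegral Y] (p : Y ⟶ Spec (CommRingCat.of k)) (π : Y ⟶ X)
    (hπ : IsPullback π p f (Spec.map (CommRingCat.ofHom (algebraMap k₀ k))))
    (Fb : Y ⟶ Y) (hFp : Fb ≫ p = p) (hF : Fb ≫ π = π ≫ FX)
    (U0 : X.Opens) (hU0 : IsAffineOpen U0) (hne : Nonempty (π ⁻¹ᵁ U0 : Y.Opens))
    (hUF : π ⁻¹ᵁ U0 ≤ Fb ⁻¹ᵁ (π ⁻¹ᵁ U0)) :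
    Function.Injective (Fb.appLE (π ⁻¹ᵁ U0) (π ⁻¹ᵁ U0) hUF).hom ∧
    ∃ s : ℕ, ringKrullDim Γ(Y, π ⁻¹ᵁ U0) = s ∧
      (letI : Algebra Γ(Y, π ⁻¹ᵁ U0) (Copy Γ(Y, π ⁻¹ᵁ U0)) :=
        RingHom.toAlgebra (Fb.appLE (π ⁻¹ᵁ U0) (π ⁻¹ᵁ U0) hUF).hom
       Module.finrank Γ(Y, π ⁻¹ᵁ U0) (Copy Γ(Y, π ⁻¹ᵁ U0)) = Nat.card k₀ ^ s) := by
  have e0 : U0 ≤ f ⁻¹ᵁ ⊤ := le_top
  have P := Groth.Agent.Lib.ThickeningBC.isPushout_appLE hπ (isAffineOpen_top _) hU0 e0
  have e1 : π ⁻¹ᵁ U0 ≤ p ⁻¹ᵁ (Spec.map (CommRingCat.ofHom (algebraMap k₀ k)) ⁻¹ᵁ ⊤) := le_top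
  let A0 := Γ(X, U0)
  let A := Γ(Y, π ⁻¹ᵁ U0)
  letI aRA0 : Algebra k₀ A0 := ((Scheme.ΓSpecIso (.of k₀)).inv ≫ f.appLE ⊤ U0 e0).hom.toAlgebra
  letI aA0A : Algebra A0 A := (π.app U0).hom.toAlgebra
  letI aR'A : Algebra k A :=
    ((Scheme.ΓSpecIso (.of k)).inv ≫ p.appLE _ (π ⁻¹ᵁ U0) e1).hom.toAlgebra
  letI aRA : Algebra k₀ A :=
    ((Scheme.ΓSpecIso (.of k₀)).inv ≫ f.appLE ⊤ U0 e0 ≫ π.app U0).hom.toAlgebra
  have t1 : IsScalarTower k₀ A0 A := .of_algebraMap_eq' rfl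
  have P' : IsPushout (CommRingCat.ofHom (algebraMap k₀ k)) (CommRingCat.ofHom (algebraMap k₀ A0))
      (CommRingCat.ofHom (algebraMap k A)) (CommRingCat.ofHom (algebraMap A0 A)) := by
    refine P.flip.of_iso (Scheme.ΓSpecIso (.of k₀)) (Scheme.ΓSpecIso (.of k)) (Iso.refl _)
      (Iso.refl _) ?_ ?_ ?_ ?_
    · exact Scheme.ΓSpecIso_naturality _
    · ext x
      simp [RingHom.algebraMap_toAlgebra]
    · ext x
      simp [RingHom.algebraMap_toAlgebra]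
    · ext x
      simp [RingHom.algebraMap_toAlgebra]
  have t2 : IsScalarTower k₀ k A := .of_algebraMap_eq' (by
    have h := congr(($P'.w).hom)
    exact h.symm)
  have po : Algebra.IsPushout k₀ k A0 A := CommRingCat.isPushout_iff_isPushout.mp P'
  have ft : Algebra.FiniteType k₀ A0 := by
    have h1 : (f.appLE ⊤ U0 e0).hom.FiniteType := f.finiteType_appLE (isAffineOpen_top _) hU0 e0
    have h2 : ((Scheme.ΓSpecIso (.of k₀)).inv).hom.FiniteType :=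
      RingHom.FiniteType.of_surjective _
        (Scheme.ΓSpecIso (.of k₀)).symm.commRingCatIsoToRingEquiv.surjective
    exact h1.comp h2
  haveI : NeZero (Nat.card k₀) := ⟨Nat.card_pos.ne'⟩
  have hc1 : p.appLE _ (π ⁻¹ᵁ U0) e1 ≫ Fb.appLE (π ⁻¹ᵁ U0) (π ⁻¹ᵁ U0) hUF =
      p.appLE _ (π ⁻¹ᵁ U0) e1 := by
    rw [Scheme.Hom.appLE_comp_appLE, appLE_congr_hom hFp]
  have hc2 : π.app U0 ≫ Fb.appLE (π ⁻¹ᵁ U0) (π ⁻¹ᵁ U0) hUF =
      FX.appLE U0 U0 (hle U0) ≫ π.app U0 := by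
    rw [Scheme.Hom.app_eq_appLE, Scheme.Hom.appLE_comp_appLE, appLE_congr_hom hF,
      Scheme.Hom.appLE_comp_appLE]
  let φ : A →ₐ[k] A :=
    { toRingHom := (Fb.appLE (π ⁻¹ᵁ U0) (π ⁻¹ᵁ U0) hUF).hom
      commutes' := fun r => by
        have := congr(($hc1).hom ((Scheme.ΓSpecIso (.of k)).inv.hom r))
        exact this }
  have hφ : ∀ a : A0, φ (algebraMap A0 A a) = algebraMap A0 A a ^ Nat.card k₀ := by
    intro a
    have := congr(($hc2).hom a)
    simp only [CommRingCat.hom_comp, RingHom.comp_apply] at this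
    rw [hFapp, map_pow] at this
    exact this
  have := Groth.Agent.Lib.H73FrobDeg.finrank_frob k₀ k A0 A (Nat.card k₀) φ hφ
  exact this

open Groth.Agent.Lib.H73FrobDeg in
theorem frob_generic_sch {X : Scheme.{u}} (f : X ⟶ Spec (CommRingCat.of k₀)) [LocallyOfFiniteType f]
    (FX : X ⟶ X) (hFb : FX.base = 𝟙 _) (hle : ∀ U : X.Opens, U ≤ FX ⁻¹ᵁ U)
    (hFapp : ∀ (U : X.Opens) (s : Γ(X, U)), (FX.appLE U U (hle U)).hom s = s ^ Nat.card k₀)
    {Y : Scheme.{u}} [IsIntegral Y] (p : Y ⟶ Spec (CommRingCat.of k)) [LocallyOfFiniteType p]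
    (π : Y ⟶ X)
    (hπ : IsPullback π p f (Spec.map (CommRingCat.ofHom (algebraMap k₀ k))))
    (Fb : Y ⟶ Y) (hFp : Fb ≫ p = p) (hF : Fb ≫ π = π ≫ FX) :
    Fb (genericPoint Y) = genericPoint Y ∧
      ∃ s : ℕ, topologicalKrullDim Y = s ∧ Fb.residueDegree (genericPoint Y) = Nat.card k₀ ^ s := by
  obtain ⟨U0, hU0, hxU0, -⟩ :=
    (TopologicalSpace.Opens.isBasis_iff_nbhd.mp X.isBasis_affineOpens)
      (TopologicalSpace.Opens.mem_top (π (genericPoint Y)))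
  have hπaff : IsAffineHom π := MorphismProperty.of_isPullback hπ.flip inferInstance
  have hU : IsAffineOpen (π ⁻¹ᵁ U0) := hU0.preimage π
  have hηU : genericPoint Y ∈ π ⁻¹ᵁ U0 := hxU0
  have hne : Nonempty (π ⁻¹ᵁ U0 : Y.Opens) := ⟨⟨_, hηU⟩⟩
  have hFXpt : ∀ x : X, FX x = x := fun x => by
    have : FX.base x = x := by rw [hFb]; rfl
    exact this
  have hUF : π ⁻¹ᵁ U0 ≤ Fb ⁻¹ᵁ (π ⁻¹ᵁ U0) := by
    intro y hy
    show π (Fb y) ∈ U0
    have h1 : π (Fb y) = FX (π y) := by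
      rw [← Scheme.Hom.comp_apply, hF, Scheme.Hom.comp_apply]
    rw [h1, hFXpt]
    exact hy
  obtain ⟨hinj, s, hs, hfin⟩ := frob_affine k₀ k f FX hle hFapp p π hπ Fb hFp hF U0 hU0 hne hUF
  -- the generic point is fixed
  have hev : ∀ r, (Y.evaluation (π ⁻¹ᵁ U0) (genericPoint Y) hηU).hom
        ((Fb.appLE (π ⁻¹ᵁ U0) (π ⁻¹ᵁ U0) hUF).hom r) =
      (Fb.residueFieldMap (genericPoint Y)).hom
        ((Y.evaluation (π ⁻¹ᵁ U0) (Fb (genericPoint Y)) (hUF hηU)).hom r) :=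
    Groth.Agent.Lib.DimIneqScheme.evaluation_appLE Fb hUF _ hηU
  have hfix : Fb (genericPoint Y) = genericPoint Y := by
    refine eq_genericPoint_of_evaluation_injective (π ⁻¹ᵁ U0) hU _ (hUF hηU) hηU ?_
    intro a b hab
    apply hinj
    apply evaluation_injective (π ⁻¹ᵁ U0) hηU
    rw [hev, hev, hab]
  refine ⟨hfix, s, ?_, ?_⟩
  · -- dimension
    letI : Y.Over (Spec (CommRingCat.of k)) := ⟨p⟩
    haveI : LocallyOfFiniteType (Y ↘ Spec (CommRingCat.of k)) := ‹LocallyOfFiniteType p›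
    have hd : Dense ((π ⁻¹ᵁ U0 : Y.Opens) : Set Y) :=
      (π ⁻¹ᵁ U0).2.dense ⟨_, hηU⟩
    rw [← Groth.Agent.Lib.H8DenseDim.dim_dense_open k Y _ (π ⁻¹ᵁ U0).2 hd]
    exact (Groth.Agent.Lib.DimDominant97.topologicalKrullDim_affineOpen _ hU).trans hs
  · -- degree
    rw [← hfin]
    unfold Scheme.Hom.residueDegree
    letI aAB : Algebra Γ(Y, π ⁻¹ᵁ U0) (Copy Γ(Y, π ⁻¹ᵁ U0)) :=
        RingHom.toAlgebra (Fb.appLE (π ⁻¹ᵁ U0) (π ⁻¹ᵁ U0) hUF).hom
    letI aKL : Algebra (Y.residueField (Fb (genericPoint Y))) (Y.residueField (genericPoint Y)) :=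
      (Fb.residueFieldMap (genericPoint Y)).hom.toAlgebra
    letI aAK : Algebra Γ(Y, π ⁻¹ᵁ U0) (Y.residueField (Fb (genericPoint Y))) :=
      (Y.evaluation (π ⁻¹ᵁ U0) (Fb (genericPoint Y)) (hUF hηU)).hom.toAlgebra
    letI aBL : Algebra (Copy Γ(Y, π ⁻¹ᵁ U0)) (Y.residueField (genericPoint Y)) :=
      RingHom.toAlgebra (Y.evaluation (π ⁻¹ᵁ U0) (genericPoint Y) hηU).hom
    letI aAL : Algebra Γ(Y, π ⁻¹ᵁ U0) (Y.residueField (genericPoint Y)) :=
      RingHom.toAlgebra ((Y.evaluation (π ⁻¹ᵁ U0) (genericPoint Y) hηU).hom.comp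
        (Fb.appLE (π ⁻¹ᵁ U0) (π ⁻¹ᵁ U0) hUF).hom)
    haveI t1 : IsScalarTower Γ(Y, π ⁻¹ᵁ U0) (Copy Γ(Y, π ⁻¹ᵁ U0))
        (Y.residueField (genericPoint Y)) := .of_algebraMap_eq' rfl
    haveI t2 : IsScalarTower Γ(Y, π ⁻¹ᵁ U0) (Y.residueField (Fb (genericPoint Y)))
        (Y.residueField (genericPoint Y)) := .of_algebraMap_eq' (RingHom.ext hev)
    haveI f1 : IsFractionRing Γ(Y, π ⁻¹ᵁ U0) (Y.residueField (Fb (genericPoint Y))) :=
      isFractionRing_evaluation (π ⁻¹ᵁ U0) hU _ (hUF hηU) hfix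
    haveI f2 : IsFractionRing (Copy Γ(Y, π ⁻¹ᵁ U0)) (Y.residueField (genericPoint Y)) :=
      isFractionRing_evaluation (π ⁻¹ᵁ U0) hU _ hηU rfl
    exact IsFractionRing.finrank_eq Γ(Y, π ⁻¹ᵁ U0) (Y.residueField (Fb (genericPoint Y)))
      (Copy Γ(Y, π ⁻¹ᵁ U0)) (Y.residueField (genericPoint Y))

end main

end Groth.Agent.Lib.H73FrobSch

namespace Groth.Agent.Lib.H73FrobSch

open AlgebraicGeometry CategoryTheory WeilCoh

section weil

variable (k₀ : Type u) [Field k₀] [Finite k₀] (k : Type u) [Field k] [IsAlgClosed k] [Algebra k₀ k]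

theorem frob_generic {X : Scheme.{u}} (f : X ⟶ Spec (CommRingCat.of k₀)) [LocallyOfFiniteType f]
    (FX : X ⟶ X) (hFb : FX.base = 𝟙 _) (hle : ∀ U : X.Opens, U ≤ FX ⁻¹ᵁ U)
    (hFapp : ∀ (U : X.Opens) (s : Γ(X, U)), (FX.appLE U U (hle U)).hom s = s ^ Nat.card k₀)
    (Xb : WeilCoh.Var k) (π : Xb.obj.left ⟶ X)
    (hπ : IsPullback π Xb.obj.hom f (Spec.map (CommRingCat.ofHom (algebraMap k₀ k))))
    (F : Xb ⟶ Xb) (hF : WeilCoh.sm F ≫ π = π ≫ FX) :
    haveI : IrreducibleSpace ↥Xb.obj.left := Xb.property.2.2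
    sm F (genericPoint ↥Xb.obj.left) = genericPoint ↥Xb.obj.left ∧
      (sm F).residueDegree (genericPoint ↥Xb.obj.left) =
        Nat.card k₀ ^ WeilCoh.dim Xb.obj.left := by
  haveI : IrreducibleSpace ↥Xb.obj.left := Xb.property.2.2
  haveI : Smooth Xb.obj.hom := Xb.property.1
  haveI : IsReduced Xb.obj.left := Groth.Agent.Lib.H69SchReduced.isReduced_of_smooth Xb.obj.hom
  haveI : IsIntegral Xb.obj.left := isIntegral_of_irreducibleSpace_of_isReduced _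
  obtain ⟨h1, s, hs, h2⟩ := frob_generic_sch k₀ k f FX hFb hle hFapp Xb.obj.hom π hπ (sm F)
    (Over.w F.hom) hF
  refine ⟨h1, ?_⟩
  rw [h2]
  congr 1
  exact (Groth.Agent.Lib.H73WeilDim.natDim_eq s hs).symm

variable (K : Type v) [Field K] [CharZero K] (T : WeilCoh.Theory k K)

/-- Key lemma: the Frobenius endomorphism multiplies the trace by `q ^ dim`. -/
theorem tr_pull_frob {X : Scheme.{u}} (f : X ⟶ Spec (CommRingCat.of k₀)) [LocallyOfFiniteType f]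
    (FX : X ⟶ X) (hFb : FX.base = 𝟙 _) (hle : ∀ U : X.Opens, U ≤ FX ⁻¹ᵁ U)
    (hFapp : ∀ (U : X.Opens) (s : Γ(X, U)), (FX.appLE U U (hle U)).hom s = s ^ Nat.card k₀)
    (Xb : WeilCoh.Var k) (π : Xb.obj.left ⟶ X)
    (hπ : IsPullback π Xb.obj.hom f (Spec.map (CommRingCat.ofHom (algebraMap k₀ k))))
    (F : Xb ⟶ Xb) (hF : WeilCoh.sm F ≫ π = π ≫ FX) (a : T.H Xb) :
    T.tr Xb (T.pull F a) = (Nat.card k₀ : K) ^ WeilCoh.dim Xb.obj.left * T.tr Xb a := by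
  haveI : IrreducibleSpace ↥Xb.obj.left := Xb.property.2.2
  letI : Xb.obj.left.Over (Spec (CommRingCat.of k)) := ⟨Xb.obj.hom⟩
  haveI : LocallyOfFiniteType (Xb.obj.left ↘ Spec (CommRingCat.of k)) :=
    Groth.Agent.Lib.H73WeilPt.lft_of_isVar k Xb
  obtain ⟨hfix, hdeg⟩ := frob_generic k₀ k f FX hFb hle hFapp Xb π hπ F hF
  have ha : a ∈ ⨆ i, T.gr Xb i := by
    rw [(T.decomp Xb).submodule_iSup_eq_top]; trivial
  induction ha using Submodule.iSup_induction' with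
  | mem m a ha =>
    by_cases hm : m = 2 * (WeilCoh.dim Xb.obj.left : ℤ)
    · subst hm
      have h := T.cl_push F (genericPoint ↥Xb.obj.left) a
        (by rw [Groth.Agent.Lib.H73WeilDim.pdim_genericPoint k]; exact ha)
      rw [hfix, hdeg, Groth.Agent.S15443.result k K T Xb, one_mul, one_mul, Nat.cast_pow] at h
      exact h
    · rw [T.tr_vanish Xb m a ha hm, T.tr_vanish Xb m _ (T.pull_mem F m a ha) hm, mul_zero]
  | zero => rw [map_zero, map_zero, mul_zero]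
  | add a a' _ _ ha ha' => rw [map_add, map_add, map_add, ha, ha', mul_add]

end weil

end Groth.Agent.Lib.H73FrobSch
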