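import Groth.Agent.Lib.H73FibDim
import Groth.Agent.S4644
import Groth.Prelude.Def_WeilCoh

/-!
helper73: the dimension functions `WeilCoh.dim`, `WeilCoh.pdim`, `WeilCoh.codim` on schemes locally of
finite type over a field, through `td k X x = trdeg_k κ(x)` (`Groth.Agent.Lib.H30DimField`).
-/

set_option autoImplicit false
universe u
open CategoryTheory AlgebraicGeometry

namespace Groth.Agent.Lib.H73WeilDim

open Groth.Agent.Lib.H30DimField Groth.Agent.Lib.H73FibDim

variable (k : Type u) [Field k]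

section one

variable (Z : Scheme.{u}) [Z.Over (Spec (CommRingCat.of k))]
  [LocallyOfFiniteType (Z ↘ Spec (CommRingCat.of k))]

theorem natDim_eq {T : Type u} [TopologicalSpace T] (n : ℕ)
    (h : topologicalKrullDim T = ((n : ℕ) : WithBot ℕ∞)) : WeilCoh.natDim T = n := by
  unfold WeilCoh.natDim
  rw [h]
  rfl

theorem pdim_eq (ξ : Z) : WeilCoh.pdim Z ξ = (td k Z ξ).toNat :=
  natDim_eq _ (Groth.Agent.S4644.dim_closure_eq (k := k) ξ)

theorem dim_eq [IrreducibleSpace Z] : WeilCoh.dim Z = (td k Z (genericPoint Z)).toNat :=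
  natDim_eq _ (krullDim_eq_td k Z)

include k in
theorem pdim_le_dim [IrreducibleSpace Z] (ξ : Z) : WeilCoh.pdim Z ξ ≤ WeilCoh.dim Z := by
  rw [pdim_eq k, dim_eq k]
  have h1 := Groth.Agent.S6462.delta_le_of_specializes (isDimFun k Z) (genericPoint_specializes ξ)
  have h2 := td_nonneg k Z ξ
  omega

include k in
theorem pdim_genericPoint [IrreducibleSpace Z] : WeilCoh.pdim Z (genericPoint Z) = WeilCoh.dim Z := by
  rw [pdim_eq k, dim_eq k]

include k in
theorem codim_add_pdim [IrreducibleSpace Z] (ξ : Z) :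
    WeilCoh.codim Z ξ + WeilCoh.pdim Z ξ = WeilCoh.dim Z := by
  unfold WeilCoh.codim
  have := pdim_le_dim k Z ξ
  omega

end one

section two

variable {Z W : Scheme.{u}} [Z.Over (Spec (CommRingCat.of k))] [W.Over (Spec (CommRingCat.of k))]
  [LocallyOfFiniteType (Z ↘ Spec (CommRingCat.of k))]
  [LocallyOfFiniteType (W ↘ Spec (CommRingCat.of k))]
  (f : Z ⟶ W) [f.IsOver (Spec (CommRingCat.of k))]

include k in
theorem pdim_map_le (z : Z) : WeilCoh.pdim W (f z) ≤ WeilCoh.pdim Z z := by
  rw [pdim_eq k, pdim_eq k]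
  have h1 := td_map_le k f z
  have h2 := td_nonneg k W (f z)
  omega

omit [LocallyOfFiniteType (Z ↘ Spec (CommRingCat.of k))]
  [LocallyOfFiniteType (W ↘ Spec (CommRingCat.of k))] in
theorem td_eq_of_residueDegree_ne_zero (z : Z) (h : f.residueDegree z ≠ 0) :
    td k Z z = td k W (f z) := by
  apply td_eq_of_finite k f z
  let _ := (f.residueFieldMap z).hom.toAlgebra
  have : Module.Finite (W.residueField (f z)) (Z.residueField z) :=
    Module.finite_of_finrank_pos (Nat.pos_of_ne_zero h)
  exact this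

include k in
theorem pdim_map_eq_of_residueDegree_ne_zero (z : Z) (h : f.residueDegree z ≠ 0) :
    WeilCoh.pdim W (f z) = WeilCoh.pdim Z z := by
  rw [pdim_eq k, pdim_eq k, td_eq_of_residueDegree_ne_zero k f z h]

end two

end Groth.Agent.Lib.H73WeilDim
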