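import Groth.Agent.Lib.H73WeilPt
import Groth.Agent.S15443

/-!
helper73: tools for the Lefschetz trace formula for a Weil cohomology theory
(`WeilCoh.Theory`): sections have residue degree one, `tr (cl (graph) * c) = tr (j^* c)`,
Künneth induction.
-/

set_option autoImplicit false
universe u v
open CategoryTheory AlgebraicGeometry
open WeilCoh

namespace Groth.Agent.Lib.H73WeilLef

open Groth.Agent.Lib.H73WeilDim Groth.Agent.Lib.WeilCohPush Groth.Agent.Lib.H30DimField
  Groth.Agent.Lib.H73WeilPt

/-- a morphism of schemes with a retraction has residue degree one everywhere -/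
theorem residueDegree_of_section {A B : Scheme.{u}} (j : A ⟶ B) (p : B ⟶ A) (h : j ≫ p = 𝟙 A)
    (x : A) : j.residueDegree x = 1 := by
  have h1 : (j ≫ p).residueFieldMap x = p.residueFieldMap (j x) ≫ j.residueFieldMap x :=
    Scheme.residueFieldMap_comp j p x
  have key : ∀ (g : A ⟶ A) (_ : g = 𝟙 A), Function.Surjective (g.residueFieldMap x).hom := by
    rintro g rfl
    rw [Scheme.residueFieldMap_id]
    exact fun a => ⟨a, rfl⟩
  have hsurj : Function.Surjective (j.residueFieldMap x).hom := by
    intro a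
    obtain ⟨b, hb⟩ : ∃ b, ((j ≫ p).residueFieldMap x).hom b = a := key _ h a
    refine ⟨(p.residueFieldMap (j x)).hom b, ?_⟩
    rw [← hb, h1]
    rfl
  unfold Scheme.Hom.residueDegree
  letI := (j.residueFieldMap x).hom.toAlgebra
  have hbij : Function.Bijective (algebraMap (B.residueField (j x)) (A.residueField x)) :=
    ⟨(j.residueFieldMap x).hom.injective, hsurj⟩
  have e : B.residueField (j x) ≃ₗ[B.residueField (j x)] A.residueField x :=
    LinearEquiv.ofBijective (Algebra.linearMap _ _) hbij
  rw [← e.finrank_eq, Module.finrank_self]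

variable {k : Type u} [Field k] [IsAlgClosed k] {K : Type v} [Field K] [CharZero K]
  (T : WeilCoh.Theory k K)

theorem sm_comp {X Y Z : WeilCoh.Var k} (f : X ⟶ Y) (g : Y ⟶ Z) : sm (f ≫ g) = sm f ≫ sm g := rfl

theorem sm_id (X : WeilCoh.Var k) : sm (𝟙 X) = 𝟙 X.obj.left := rfl

/-- `tr_P (cl (graph) * c) = tr_X (j^* c)` for a section `j` of `p : P ⟶ X` -/
theorem tr_cl_section (X P : WeilCoh.Var k) [IrreducibleSpace ↥X.obj.left] (j : X ⟶ P) (p : P ⟶ X)
    (hjp : j ≫ p = 𝟙 X) (c : T.H P) (hc : c ∈ T.gr P (2 * (WeilCoh.dim X.obj.left : ℤ))) :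
    T.tr P (T.cl P (sm j (genericPoint ↥X.obj.left)) * c) = T.tr X (T.pull j c) := by
  letI : X.obj.left.Over (Spec (CommRingCat.of k)) := ⟨X.obj.hom⟩
  haveI : LocallyOfFiniteType (X.obj.left ↘ Spec (CommRingCat.of k)) := lft_of_isVar k X
  have h1 := T.cl_push j (genericPoint ↥X.obj.left) c
    (by rw [pdim_genericPoint k]; exact hc)
  have h2 : (sm j).residueDegree (genericPoint ↥X.obj.left) = 1 :=
    residueDegree_of_section (sm j) (sm p) (by rw [← sm_comp, hjp, sm_id]) _
  rw [Groth.Agent.S15443.result k K T X, one_mul, h2, Nat.cast_one, one_mul] at h1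
  exact h1.symm

/-- the class of the graph of a section of a product has degree `2 dim X` -/
theorem cl_section_mem (X P : WeilCoh.Var k) [IrreducibleSpace ↥X.obj.left] (j : X ⟶ P)
    (p q : P ⟶ X) (hP : WeilCoh.IsProd p q) (hjp : j ≫ p = 𝟙 X) :
    T.cl P (sm j (genericPoint ↥X.obj.left)) ∈ T.gr P (2 * (WeilCoh.dim X.obj.left : ℤ)) := by
  letI : X.obj.left.Over (Spec (CommRingCat.of k)) := ⟨X.obj.hom⟩
  haveI : LocallyOfFiniteType (X.obj.left ↘ Spec (CommRingCat.of k)) := lft_of_isVar k X
  letI : P.obj.left.Over (Spec (CommRingCat.of k)) := ⟨P.obj.hom⟩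
  haveI : LocallyOfFiniteType (P.obj.left ↘ Spec (CommRingCat.of k)) := lft_of_isVar k P
  haveI : IrreducibleSpace ↥P.obj.left := P.property.2.2
  haveI : (sm j).IsOver (Spec (CommRingCat.of k)) := ⟨Over.w j.hom⟩
  have h2 : (sm j).residueDegree (genericPoint ↥X.obj.left) = 1 :=
    residueDegree_of_section (sm j) (sm p) (by rw [← sm_comp, hjp, sm_id]) _
  have h3 := pdim_map_eq_of_residueDegree_ne_zero k (sm j) (genericPoint ↥X.obj.left)
    (by rw [h2]; exact one_ne_zero)
  rw [pdim_genericPoint k] at h3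
  have h4 := codim_add_pdim k P.obj.left (sm j (genericPoint ↥X.obj.left))
  have h5 := dim_prod T p q hP
  have h6 : WeilCoh.codim P.obj.left (sm j (genericPoint ↥X.obj.left)) =
      WeilCoh.dim X.obj.left := by omega
  rw [← h6]
  exact T.cl_mem P _

/-- Künneth induction: a property of classes on a product which is additive holds as soon as it
holds for the classes `p^* a * q^* b` with `a`, `b` homogeneous -/
theorem kunneth_induction {X Y Q : WeilCoh.Var k} (p : Q ⟶ X) (q : Q ⟶ Y)
    (hQ : WeilCoh.IsProd p q) (motive : T.H Q → Prop) (h0 : motive 0)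
    (hadd : ∀ x y, motive x → motive y → motive (x + y))
    (hmul : ∀ (s t : ℤ) (a : T.H X) (b : T.H Y), a ∈ T.gr X s → b ∈ T.gr Y t →
      motive (T.pull p a * T.pull q b)) (c : T.H Q) : motive c := by
  obtain ⟨z, rfl⟩ := (T.kunneth p q hQ).2 c
  induction z using TensorProduct.induction_on with
  | zero => rw [map_zero]; exact h0
  | add x y hx hy => rw [map_add]; exact hadd _ _ hx hy
  | tmul a b =>
    have hk : kunnethMap K (T.pull p) (T.pull q) (a ⊗ₜ[K] b) = T.pull p a * T.pull q b := rfl
    rw [hk]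
    clear hk
    have ha : a ∈ ⨆ i, T.gr X i := by
      rw [(T.decomp X).submodule_iSup_eq_top]; trivial
    have hb : b ∈ ⨆ i, T.gr Y i := by
      rw [(T.decomp Y).submodule_iSup_eq_top]; trivial
    induction ha using Submodule.iSup_induction' with
    | mem s a ha =>
      induction hb using Submodule.iSup_induction' with
      | mem t b hb => exact hmul s t a b ha hb
      | zero => rw [map_zero, mul_zero]; exact h0
      | add b b' _ _ hb hb' => rw [map_add, mul_add]; exact hadd _ _ hb hb'
    | zero => rw [map_zero, zero_mul]; exact h0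
    | add a a' _ _ ha ha' => rw [map_add, add_mul]; exact hadd _ _ ha ha'

theorem eq_zero_of_mem_gr {X : WeilCoh.Var k} (i : ℤ) (a : T.H X) (ha : a ∈ T.gr X i)
    (hi : i < 0 ∨ 2 * (WeilCoh.dim X.obj.left : ℤ) < i) : a = 0 := by
  rw [T.vanish X i hi] at ha
  exact (Submodule.mem_bot K).mp ha

/-- `tr (p^* x * q^* y) = tr x * tr y` for all classes -/
theorem tr_prod' {X Y Q : WeilCoh.Var k} (p : Q ⟶ X) (q : Q ⟶ Y) (hQ : WeilCoh.IsProd p q)
    (x : T.H X) (y : T.H Y) : T.tr Q (T.pull p x * T.pull q y) = T.tr X x * T.tr Y y := by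
  have hdim := dim_prod T p q hQ
  have hx : x ∈ ⨆ i, T.gr X i := by
    rw [(T.decomp X).submodule_iSup_eq_top]; trivial
  have hy : y ∈ ⨆ i, T.gr Y i := by
    rw [(T.decomp Y).submodule_iSup_eq_top]; trivial
  induction hx using Submodule.iSup_induction' with
  | mem u x hx =>
    induction hy using Submodule.iSup_induction' with
    | mem v y hy =>
      have hmem : T.pull p x * T.pull q y ∈ T.gr Q (u + v) :=
        SetLike.mul_mem_graded (T.pull_mem p u x hx) (T.pull_mem q v y hy)
      by_cases hu : u = 2 * (WeilCoh.dim X.obj.left : ℤ)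
      · by_cases hv : v = 2 * (WeilCoh.dim Y.obj.left : ℤ)
        · subst hu hv
          exact T.tr_prod p q hQ x y hx hy
        · rw [T.tr_vanish Y v y hy hv, mul_zero]
          exact T.tr_vanish Q (u + v) _ hmem (by omega)
      · rw [T.tr_vanish X u x hx hu, zero_mul]
        by_cases huv : u + v = 2 * (WeilCoh.dim Q.obj.left : ℤ)
        · rcases lt_or_gt_of_ne hu with h | h
          · have : y = 0 := eq_zero_of_mem_gr T v y hy (Or.inr (by omega))
            rw [this, map_zero, mul_zero, map_zero]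
          · have : x = 0 := eq_zero_of_mem_gr T u x hx (Or.inr h)
            rw [this, map_zero, zero_mul, map_zero]
        · exact T.tr_vanish Q (u + v) _ hmem huv
    | zero => rw [map_zero, mul_zero, map_zero, map_zero, mul_zero]
    | add y y' _ _ hy hy' => rw [map_add, mul_add, map_add, hy, hy', map_add, mul_add]
  | zero => rw [map_zero, zero_mul, map_zero, map_zero, zero_mul]
  | add x x' _ _ hx hx' => rw [map_add, add_mul, map_add, hx, hx', map_add, add_mul]

end Groth.Agent.Lib.H73WeilLef
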