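import Groth.Prelude.Def_W4c1zetahwZeta
import Groth.Agent.Lib.H30DimField
import Groth.Agent.Lib.H43PSExp
import Mathlib

/-!
# Closed points of given degree on schemes of finite type over a finite field (helper73)

* `finite_primes`: finitely many primes of a f.g. algebra over a finite field contain all `a^N - a`.
* `card_residueField`: `#κ(x) = q^e` for a point of residue degree `e ≥ 1`.
* `finite_deg`: finitely many points of residue degree `e ≥ 1` on a scheme of finite type over a
  finite field.
* `isClosed_map_iff`, `residueDegree_comp`: closed points and residue degrees along immersions.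
* `degCount_eq_sum`, `zetaFun_eq_prod`: additivity of `Zeta.degCount` / multiplicativity of
  `Zeta.zetaFun` over a finite partition of the closed points by immersions.
-/

set_option autoImplicit false
set_option linter.style.haveILetI false
universe u
open CategoryTheory AlgebraicGeometry

namespace Groth.Agent.Lib.H73ZetaPts


/-- A finitely generated algebra over a finite field in which every element satisfies
`a ^ N = a` (`N ≥ 2`) is finite. -/
theorem finite_of_pow_eq (k : Type*) [Field k] [Finite k] (B : Type*) [CommRing B] [Algebra k B]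
    [Algebra.FiniteType k B] (N : ℕ) (hN : 2 ≤ N) (h : ∀ b : B, b ^ N = b) : Finite B := by
  haveI : Algebra.IsIntegral k B := by
    refine ⟨fun b => ⟨Polynomial.X ^ N - Polynomial.X, ?_, ?_⟩⟩
    · apply Polynomial.monic_X_pow_sub
      rw [Polynomial.degree_X]
      exact_mod_cast (by omega : 1 < N)
    · simp [h b]
  haveI : Module.Finite k B := Algebra.IsIntegral.finite
  exact Module.finite_of_finite k

/-- Finitely many primes of a finitely generated algebra over a finite field contain all
`a ^ N - a`. -/
theorem finite_primes (k : Type*) [Field k] [Finite k] (A : Type*) [CommRing A] [Algebra k A]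
    [Algebra.FiniteType k A] (N : ℕ) (hN : 2 ≤ N) :
    {p : PrimeSpectrum A | ∀ a : A, a ^ N - a ∈ p.asIdeal}.Finite := by
  set J : Ideal A := Ideal.span (Set.range fun a : A => a ^ N - a) with hJ
  haveI : Algebra.FiniteType k (A ⧸ J) :=
    Algebra.FiniteType.of_surjective (Ideal.Quotient.mkₐ k J) Ideal.Quotient.mk_surjective
  haveI : Finite (A ⧸ J) := by
    apply finite_of_pow_eq k (A ⧸ J) N hN
    intro b
    obtain ⟨a, rfl⟩ := Ideal.Quotient.mk_surjective b
    rw [← map_pow, ← sub_eq_zero, ← map_sub, Ideal.Quotient.eq_zero_iff_mem]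
    exact Ideal.subset_span ⟨a, rfl⟩
  haveI : Finite (PrimeSpectrum (A ⧸ J)) :=
    Finite.of_injective (fun p => p.asIdeal) (fun p q h => PrimeSpectrum.ext h)
  have hsub : {p : PrimeSpectrum A | ∀ a : A, a ^ N - a ∈ p.asIdeal} ⊆
      Set.range (PrimeSpectrum.comap (Ideal.Quotient.mk J)) := by
    intro p hp
    rw [_root_.range_comap_of_surjective _ _ Ideal.Quotient.mk_surjective,
      PrimeSpectrum.mem_zeroLocus, Ideal.mk_ker]
    rw [hJ, SetLike.coe_subset_coe, Ideal.span_le]
    rintro _ ⟨a, rfl⟩
    exact hp a
  exact (Set.finite_range _).subset hsub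


section pts

variable {k : Type u} [Field k] [Finite k] {X : Scheme.{u}} (f : X ⟶ Spec (CommRingCat.of k))

theorem card_residueField_base (s : Spec (CommRingCat.of k)) :
    Nat.card ((Spec (CommRingCat.of k)).residueField s) = Nat.card k :=
  (Nat.card_congr (Groth.Agent.Lib.H30DimField.baseEquiv k s).toEquiv).symm

theorem card_residueField (x : X) (e : ℕ) (he : 0 < e) (hx : EGA4loc.residueDegree f x = e) :
    Nat.card (X.residueField x) = Nat.card k ^ e := by
  letI := (f.residueFieldMap x).hom.toAlgebra
  have hx' : Module.finrank ((Spec (CommRingCat.of k)).residueField (f.base x))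
      (X.residueField x) = e := hx
  haveI hfin : Module.Finite ((Spec (CommRingCat.of k)).residueField (f.base x))
      (X.residueField x) := Module.finite_of_finrank_pos (by rw [hx']; exact he)
  rw [Module.natCard_eq_pow_finrank (K := (Spec (CommRingCat.of k)).residueField (f.base x))
    (V := X.residueField x), card_residueField_base, hx']

theorem mem_primeIdealOf_iff {U : X.Opens} (hU : IsAffineOpen U) (x : U) (a : Γ(X, U)) :
    a ∈ (hU.primeIdealOf x).asIdeal ↔ X.evaluation U x.1 x.2 a = 0 := by
  rw [hU.primeIdealOf_eq_map_closedPoint]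
  change (X.presheaf.germ U x.1 x.2).hom a ∈ IsLocalRing.maximalIdeal _ ↔ _
  rw [← IsLocalRing.residue_eq_zero_iff]
  rfl

/-- finitely many points of residue degree `e ≥ 1` in an affine open -/
theorem finite_deg_affine [LocallyOfFiniteType f] (U : X.Opens) (hU : IsAffineOpen U) (e : ℕ)
    (he : 0 < e) : {x : X | x ∈ U ∧ EGA4loc.residueDegree f x = e}.Finite := by
  classical
  have hq : 2 ≤ Nat.card k := Finite.one_lt_card
  have hN : 2 ≤ Nat.card k ^ e := le_trans hq (Nat.le_self_pow he.ne' _)
  letI alg : Algebra k Γ(X, U) :=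
    ((f.appLE ⊤ U le_top).hom.comp (Scheme.ΓSpecIso (CommRingCat.of k)).inv.hom).toAlgebra
  haveI : Algebra.FiniteType k Γ(X, U) := by
    have h1 : (f.appLE ⊤ U le_top).hom.FiniteType :=
      f.finiteType_appLE (isAffineOpen_top _) hU le_top
    have h2 : ((Scheme.ΓSpecIso (CommRingCat.of k)).inv.hom).FiniteType :=
      RingHom.FiniteType.of_surjective _
        (ConcreteCategory.bijective_of_isIso (Scheme.ΓSpecIso (CommRingCat.of k)).inv).2
    exact h1.comp h2
  have hfin := finite_primes k Γ(X, U) (Nat.card k ^ e) hN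
  refine (hfin.image hU.fromSpec.base).subset ?_
  rintro x ⟨hxU, hdeg⟩
  refine ⟨hU.primeIdealOf ⟨x, hxU⟩, ?_, hU.fromSpec_primeIdealOf ⟨x, hxU⟩⟩
  intro a
  rw [mem_primeIdealOf_iff hU ⟨x, hxU⟩, map_sub, map_pow, sub_eq_zero]
  have hcard := card_residueField f x e he hdeg
  haveI : Finite (X.residueField x) :=
    Nat.finite_of_card_ne_zero (by rw [hcard]; exact (pow_pos (by omega) e).ne')
  letI := Fintype.ofFinite (X.residueField x)
  rw [← hcard, Nat.card_eq_fintype_card]
  exact FiniteField.pow_card _

/-- finitely many points of residue degree `e ≥ 1` on a scheme of finite type over a finite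
field -/
theorem finite_deg [LocallyOfFiniteType f] [QuasiCompact f] (e : ℕ) (he : 0 < e) :
    {x : X | EGA4loc.residueDegree f x = e}.Finite := by
  haveI : CompactSpace X := QuasiCompact.compactSpace_of_compactSpace f
  let V : X → X.Opens := fun x => (X.affineCover.f (X.affineCover.idx x)).opensRange
  have hV : ∀ x, IsAffineOpen (V x) := fun x => isAffineOpen_opensRange _
  have hxV : ∀ x, x ∈ V x := fun x => X.affineCover.covers x
  obtain ⟨t, ht⟩ := isCompact_univ.elim_finite_subcover (fun x => (V x : Set X))
    (fun x => (V x).isOpen) (fun x _ => Set.mem_iUnion.mpr ⟨x, hxV x⟩)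
  have hsub : {x : X | EGA4loc.residueDegree f x = e} ⊆
      ⋃ y ∈ t, {x : X | x ∈ V y ∧ EGA4loc.residueDegree f x = e} := by
    intro x hx
    obtain ⟨y, hy⟩ := Set.mem_iUnion.mp (ht (Set.mem_univ x))
    obtain ⟨hyt, hxy⟩ := Set.mem_iUnion.mp hy
    exact Set.mem_iUnion₂.mpr ⟨y, hyt, hxy, hx⟩
  exact (t.finite_toSet.biUnion fun y _ => finite_deg_affine f (V y) (hV y) e he).subset hsub

end pts

section imm

variable {k : Type u} [Field k] {X : Scheme.{u}} (f : X ⟶ Spec (CommRingCat.of k))
  {Y : Scheme.{u}} (g : Y ⟶ X) [IsImmersion g]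

/-- along an immersion into a scheme locally of finite type over a field, closed points
correspond to closed points -/
theorem isClosed_map_iff [LocallyOfFiniteType f] (y : Y) :
    IsClosed ({g.base y} : Set X) ↔ IsClosed ({y} : Set Y) := by
  haveI : JacobsonSpace X := LocallyOfFiniteType.jacobsonSpace f
  constructor
  · intro h
    have hpre : ({y} : Set Y) = g.base ⁻¹' {g.base y} := by
      ext z
      simp only [Set.mem_singleton_iff, Set.mem_preimage]
      exact ⟨fun hz => by rw [hz], fun hz => g.isEmbedding.injective hz⟩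
    rw [hpre]
    exact h.preimage g.continuous
  · intro h
    exact g.closePoints_subset_preimage_closedPoints h

/-- residue field maps of immersions are bijective -/
theorem residueFieldMap_bijective (y : Y) : Function.Bijective (g.residueFieldMap y).hom := by
  refine ⟨(g.residueFieldMap y).hom.injective, ?_⟩
  intro c
  obtain ⟨b, rfl⟩ := IsLocalRing.residue_surjective (R := Y.presheaf.stalk y) c
  obtain ⟨a, rfl⟩ := g.stalkMap_surjective y b
  refine ⟨X.residue (g.base y) a, ?_⟩
  have := congr($(Scheme.residue_residueFieldMap g y) a)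
  rw [CommRingCat.comp_apply, CommRingCat.comp_apply] at this
  exact this

/-- residue degrees over the base do not change along an immersion -/
theorem residueDegree_comp (y : Y) :
    EGA4loc.residueDegree (g ≫ f) y = EGA4loc.residueDegree f (g.base y) := by
  unfold EGA4loc.residueDegree
  rw [Scheme.residueFieldMap_comp]
  letI a2 : Algebra ((Spec (CommRingCat.of k)).residueField (f.base (g.base y)))
      (X.residueField (g.base y)) := (f.residueFieldMap (g.base y)).hom.toAlgebra
  letI a3 : Algebra ((Spec (CommRingCat.of k)).residueField (f.base (g.base y)))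
      (Y.residueField y) := (f.residueFieldMap (g.base y) ≫ g.residueFieldMap y).hom.toAlgebra
  let φ : X.residueField (g.base y) →ₗ[(Spec (CommRingCat.of k)).residueField (f.base (g.base y))]
      Y.residueField y :=
    { toFun := (g.residueFieldMap y).hom
      map_add' := map_add _
      map_smul' := fun c a => by
        rw [Algebra.smul_def, Algebra.smul_def, map_mul]
        rfl }
  exact (LinearEquiv.ofBijective φ (residueFieldMap_bijective g y)).finrank_eq.symm

end imm

section count

open PowerSeries

variable {k : Type u} [Field k] [Finite k] {X : Scheme.{u}} (f : X ⟶ Spec (CommRingCat.of k))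
  [LocallyOfFiniteType f] [QuasiCompact f]
  {ι : Type*} [Fintype ι] (Y : ι → Scheme.{u}) (g : ∀ i, Y i ⟶ X) [∀ i, IsImmersion (g i)]
  (hpart : ∀ x : X, IsClosed ({x} : Set X) → ∃! i, x ∈ Set.range (g i).base)

include hpart in
theorem degCount_eq_sum (e : ℕ) (he : 0 < e) :
    Zeta.degCount f e = ∑ i, Zeta.degCount (g i ≫ f) e := by
  classical
  unfold Zeta.degCount
  haveI hfinX : Finite {x : X // IsClosed ({x} : Set X) ∧ EGA4loc.residueDegree f x = e} :=
    ((finite_deg f e he).subset (fun x hx => hx.2)).to_subtype
  let Φ : (Σ i, {y : Y i // IsClosed ({y} : Set (Y i)) ∧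
      EGA4loc.residueDegree (g i ≫ f) y = e}) →
      {x : X // IsClosed ({x} : Set X) ∧ EGA4loc.residueDegree f x = e} :=
    fun p => ⟨(g p.1).base p.2.1, (isClosed_map_iff f (g p.1) p.2.1).mpr p.2.2.1,
      (residueDegree_comp f (g p.1) p.2.1).symm.trans p.2.2.2⟩
  have hΦinj : Function.Injective Φ := by
    rintro ⟨i, y, hy⟩ ⟨j, y', hy'⟩ h
    have hxy : (g i).base y = (g j).base y' := congrArg Subtype.val h
    have hcl : IsClosed ({(g i).base y} : Set X) := (isClosed_map_iff f (g i) y).mpr hy.1
    obtain ⟨i0, _, huniq⟩ := hpart _ hcl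
    have hi : i = i0 := huniq i ⟨y, rfl⟩
    have hj : j = i0 := huniq j ⟨y', hxy.symm⟩
    have hij : i = j := hi.trans hj.symm
    subst hij
    have : y = y' := (g i).isEmbedding.injective hxy
    subst this
    rfl
  have hΦsurj : Function.Surjective Φ := by
    rintro ⟨x, hx, hdeg⟩
    obtain ⟨i, ⟨y, rfl⟩, _⟩ := hpart x hx
    exact ⟨⟨i, y, (isClosed_map_iff f (g i) y).mp hx,
      (residueDegree_comp f (g i) y).trans hdeg⟩, rfl⟩
  haveI hfinY : ∀ i, Finite {y : Y i // IsClosed ({y} : Set (Y i)) ∧
      EGA4loc.residueDegree (g i ≫ f) y = e} := fun i =>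
    Finite.of_injective (fun y => Φ ⟨i, y⟩) (fun y y' h => by
      have := hΦinj h
      simpa using this)
  rw [← Nat.card_sigma]
  exact (Nat.card_congr (Equiv.ofBijective Φ ⟨hΦinj, hΦsurj⟩)).symm

include hpart in
theorem nPts_eq_sum (m : ℕ) : Zeta.nPts f m = ∑ i, Zeta.nPts (g i ≫ f) m := by
  unfold Zeta.nPts
  rw [Finset.sum_comm]
  refine Finset.sum_congr rfl fun e he => ?_
  rw [degCount_eq_sum f Y g hpart e (Nat.pos_of_mem_divisors he), Finset.mul_sum]

omit [Finite k] [LocallyOfFiniteType f] [QuasiCompact f] in
theorem constantCoeff_logZeta : constantCoeff (Zeta.logZeta f) = 0 := by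
  unfold Zeta.logZeta
  rw [← coeff_zero_eq_constantCoeff_apply, coeff_mk]
  simp

include hpart in
theorem logZeta_eq_sum : Zeta.logZeta f = ∑ i, Zeta.logZeta (g i ≫ f) := by
  ext m
  rw [map_sum]
  unfold Zeta.logZeta
  simp only [coeff_mk]
  rw [nPts_eq_sum f Y g hpart m, Nat.cast_sum, Finset.sum_div]

include hpart in
/-- **Multiplicativity of the zeta function over a finite partition of the closed points by
immersions.** -/
theorem zetaFun_eq_prod : Zeta.zetaFun f = ∏ i, Zeta.zetaFun (g i ≫ f) := by
  change Groth.Agent.Lib.H43PSExp.E (Zeta.logZeta f) = _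
  rw [logZeta_eq_sum f Y g hpart,
    Groth.Agent.Lib.H43PSExp.E_sum _ _ (fun i => constantCoeff_logZeta (g i ≫ f))]
  rfl

end count

end Groth.Agent.Lib.H73ZetaPts
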