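import Mathlib
import Groth.Agent.S0306
import Groth.Agent.S0307
import Groth.Agent.S0301

set_option autoImplicit false
set_option linter.style.haveILetI false
universe u

namespace Groth.Agent.Lib.H74ArtColim

open _root_.InjHull

variable {A : Type u} [CommRing A] [IsNoetherianRing A]
variable {E : Type u} [AddCommGroup E] [Module A E]

omit [IsNoetherianRing A] in
/-- an injective endomorphism of an indecomposable injective module is bijective. -/
theorem bijective_of_injective_end (hE : IsIndecomposable A E) (hinj : Module.Injective A E)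
    (f : E →ₗ[A] E) (hf : Function.Injective f) : Function.Bijective f := by
  obtain ⟨r, hr⟩ := hinj.out f hf LinearMap.id
  have hr' : ∀ x, r (f x) = x := hr
  have hcompl : IsCompl (LinearMap.range f) (LinearMap.ker r) := by
    constructor
    · rw [Submodule.disjoint_def]
      rintro x ⟨y, rfl⟩ hx
      rw [LinearMap.mem_ker, hr'] at hx
      rw [hx, map_zero]
    · rw [codisjoint_iff, eq_top_iff]
      intro x _
      have : x = f (r x) + (x - f (r x)) := by abel
      rw [this]
      refine Submodule.add_mem_sup ⟨r x, rfl⟩ ?_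
      rw [LinearMap.mem_ker, map_sub, hr', sub_self]
  have hnt := hE.1
  rcases hE.2 _ _ hcompl with h | h
  · exfalso
    obtain ⟨x, hx⟩ := exists_ne (0 : E)
    have : f x ∈ LinearMap.range f := ⟨x, rfl⟩
    rw [h, Submodule.mem_bot] at this
    exact hx (hf (this.trans (map_zero f).symm))
  · refine ⟨hf, fun x => ⟨r x, ?_⟩⟩
    have hri : Function.Injective r := LinearMap.ker_eq_bot.mp h
    apply hri
    rw [hr']

omit [IsNoetherianRing A] in
theorem smul_bijective_of_hull (hE : IsIndecomposable A E) (hinj : Module.Injective A E)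
    (p : Ideal A) [p.IsPrime] (g : p.ResidueField →ₗ[A] E) (hg : IsInjectiveHull g)
    (s : A) (hs : s ∉ p) : Function.Bijective (fun y : E => s • y) := by
  have := bijective_of_injective_end hE hinj (LinearMap.lsmul A E s) ?_
  · exact this
  · rw [← LinearMap.ker_eq_bot]
    by_contra hne
    have h2 := hg.essential _ hne
    apply h2
    rw [eq_bot_iff]
    rintro y ⟨hy1, ⟨c, rfl⟩⟩
    rw [SetLike.mem_coe, LinearMap.mem_ker, LinearMap.lsmul_apply, ← map_smul] at hy1
    have h3 : s • c = 0 := hg.injective (hy1.trans (map_zero g).symm)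
    rw [Algebra.smul_def, mul_eq_zero] at h3
    rcases h3 with h3 | h3
    · exact absurd ((Ideal.algebraMap_residueField_eq_zero).mp h3) hs
    · rw [h3, map_zero]; exact Submodule.zero_mem _

theorem exists_pow_smul_eq_zero_of_hull (hE : IsIndecomposable A E) (hinj : Module.Injective A E)
    (p : Ideal A) [p.IsPrime] (g : p.ResidueField →ₗ[A] E) (hg : IsInjectiveHull g) (y : E) :
    ∃ k : ℕ, ∀ a ∈ p ^ k, a • y = 0 := by
  set T : Submodule A E := ⨆ n : ℕ, Submodule.torsionBySet A E ((p ^ n : Ideal A) : Set A) with hT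
  have hTinj : Module.Injective A T := Groth.Agent.S0301.result A E hinj p
  obtain ⟨ρ, hρ⟩ := hTinj.out T.subtype Subtype.val_injective (LinearMap.id : T →ₗ[A] T)
  have hρ' : ∀ x : T, ρ (x : E) = x := hρ
  have hcompl : IsCompl T (LinearMap.ker ρ) := LinearMap.isCompl_of_proj hρ'
  have hg1 : g 1 ∈ T := by
    refine Submodule.mem_iSup_of_mem 1 ?_
    rw [Submodule.mem_torsionBySet_iff]
    rintro ⟨a, ha⟩
    rw [pow_one] at ha
    change a • g 1 = 0
    rw [← map_smul, Algebra.smul_def, mul_one, (Ideal.algebraMap_residueField_eq_zero).mpr ha,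
      map_zero]
  have hg1' : g 1 ≠ 0 := fun h => one_ne_zero (hg.injective (h.trans (map_zero g).symm))
  have hTtop : T = ⊤ := by
    rcases hE.2 _ _ hcompl with h | h
    · rw [h, Submodule.mem_bot] at hg1
      exact absurd hg1 hg1'
    · rw [h] at hcompl
      exact eq_top_of_isCompl_bot hcompl
  have hy : y ∈ T := hTtop ▸ Submodule.mem_top
  have hdir : Directed (· ≤ ·) (fun n : ℕ => Submodule.torsionBySet A E ((p ^ n : Ideal A) : Set A)) := by
    refine Monotone.directed_le ?_
    intro m n hmn
    exact Submodule.torsionBySet_le_torsionBySet_of_subset (Ideal.pow_le_pow_right hmn)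
  obtain ⟨k, hk⟩ := (Submodule.mem_iSup_of_directed _ hdir).mp hy
  refine ⟨k, fun a ha => ?_⟩
  rw [Submodule.mem_torsionBySet_iff] at hk
  exact hk ⟨a, ha⟩

end Groth.Agent.Lib.H74ArtColim
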