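import Mathlib
import Groth.Agent.Lib.H74ArtColim1

set_option autoImplicit false
set_option linter.style.haveILetI false
universe u

namespace Groth.Agent.Lib.H74ArtColim

variable {A : Type u} [CommRing A]

/-- transport of a finite module structure over an algebra along an `A`-linear equivalence. -/
theorem transport {N P : Type u} [AddCommGroup N] [Module A N] [AddCommGroup P] [Module A P]
    (e : N ≃ₗ[A] P) (B : Type u) [CommRing B] [Algebra A B] [Module B P] [IsScalarTower A B P]
    [Module.Finite B P] :
    ∃ (_ : Module B N) (_ : IsScalarTower A B N), Module.Finite B N := by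
  letI : Module B N := e.toAddEquiv.module B
  haveI : IsScalarTower A B N := e.isScalarTower B
  refine ⟨inferInstance, inferInstance, ?_⟩
  exact Module.Finite.equiv (e.toAddEquiv.linearEquiv B).symm

variable {E : Type u} [AddCommGroup E] [Module A E]

/-- saturation of the span of `Y` with respect to the complement of `p`. -/
def sat (p : Ideal A) [hp : p.IsPrime] (Y : Set E) : Submodule A E where
  carrier := {x | ∃ s : A, s ∉ p ∧ s • x ∈ Submodule.span A Y}
  zero_mem' := ⟨1, fun h => hp.ne_top ((Ideal.eq_top_iff_one p).mpr h), by simp⟩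
  add_mem' := by
    rintro x y ⟨s, hs, hx⟩ ⟨t, ht, hy⟩
    refine ⟨s * t, fun h => (hp.mem_or_mem h).elim hs ht, ?_⟩
    rw [smul_add]
    refine Submodule.add_mem _ ?_ ?_
    · rw [mul_comm, mul_smul]; exact Submodule.smul_mem _ _ hx
    · rw [mul_smul]; exact Submodule.smul_mem _ _ hy
  smul_mem' := by
    rintro a x ⟨s, hs, hx⟩
    refine ⟨s, hs, ?_⟩
    rw [smul_comm]; exact Submodule.smul_mem _ _ hx

theorem mem_sat {p : Ideal A} [p.IsPrime] {Y : Set E} {x : E} :
    x ∈ sat p Y ↔ ∃ s : A, s ∉ p ∧ s • x ∈ Submodule.span A Y := Iff.rfl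

theorem subset_sat (p : Ideal A) [hp : p.IsPrime] (Y : Set E) : Y ⊆ sat p Y := fun y hy =>
  ⟨1, fun h => hp.ne_top ((Ideal.eq_top_iff_one p).mpr h), by
    rw [one_smul]; exact Submodule.subset_span hy⟩

theorem sat_mono (p : Ideal A) [p.IsPrime] {Y Y' : Set E} (h : Y ⊆ Y') : sat p Y ≤ sat p Y' := by
  rintro x ⟨s, hs, hx⟩
  exact ⟨s, hs, Submodule.span_mono h hx⟩

theorem sat_empty (p : Ideal A) [p.IsPrime]
    (h1 : ∀ s ∉ p, Function.Injective (fun y : E => s • y)) : sat p (∅ : Set E) = ⊥ := by
  rw [eq_bot_iff]
  rintro x ⟨s, hs, hx⟩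
  rw [Submodule.span_empty, Submodule.mem_bot] at hx
  rw [Submodule.mem_bot]
  apply h1 s hs
  simpa using hx


theorem exists_artinian_structure [IsNoetherianRing A] (p : Ideal A) [hp : p.IsPrime]
    (h1 : ∀ s ∉ p, Function.Bijective (fun y : E => s • y))
    (h2 : ∀ y : E, ∃ k : ℕ, ∀ a ∈ p ^ k, a • y = 0) (Y : Finset E) :
    ∃ (B : Type u) (_ : CommRing B) (_ : Algebra A B) (_ : IsArtinianRing B)
      (_ : Module B (sat p (Y : Set E))) (_ : IsScalarTower A B (sat p (Y : Set E))),
      Module.Finite B (sat p (Y : Set E)) := by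
  classical
  haveI : IsLocalizedModule p.primeCompl (LinearMap.id : E →ₗ[A] E) := by
    refine ⟨fun s => ?_, fun y => ⟨(y, 1), by simp⟩, fun h => ⟨1, by simpa using h⟩⟩
    rw [Module.End.isUnit_iff]
    exact h1 s.1 s.2
  letI : Module (Localization.AtPrime p) E :=
    IsLocalizedModule.module p.primeCompl (LinearMap.id : E →ₗ[A] E)
  haveI : IsScalarTower A (Localization.AtPrime p) E :=
    IsLocalizedModule.isScalarTower_module p.primeCompl LinearMap.id
  let N : Submodule (Localization.AtPrime p) E := Submodule.span (Localization.AtPrime p) (Y : Set E)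
  have hN : ∀ x, x ∈ sat p (Y : Set E) ↔ x ∈ N := by
    intro x
    constructor
    · rintro ⟨s, hs, hx⟩
      have hx' : s • x ∈ N :=
        Submodule.span_le_restrictScalars A (Localization.AtPrime p) (Y : Set E) hx
      have : x = (IsLocalization.mk' (Localization.AtPrime p) (1 : A) (⟨s, hs⟩ : p.primeCompl)) •
          (s • x) := by
        rw [← algebraMap_smul (Localization.AtPrime p) s x, ← mul_smul,
          IsLocalization.mk'_spec, map_one, one_smul]
      rw [this]
      exact N.smul_mem _ hx'
    · intro hx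
      induction hx using Submodule.span_induction with
      | mem y hy => exact subset_sat p _ hy
      | zero => exact Submodule.zero_mem _
      | add x y _ _ hx hy => exact Submodule.add_mem _ hx hy
      | smul c x _ hx =>
        obtain ⟨a, t, rfl⟩ := IsLocalization.exists_mk'_eq p.primeCompl c
        obtain ⟨s, hs, hsx⟩ := hx
        refine ⟨s * t.1, fun h => (hp.mem_or_mem h).elim hs t.2, ?_⟩
        have : (t.1 : A) • (IsLocalization.mk' (Localization.AtPrime p) a t • x) = a • x := by
          rw [← algebraMap_smul (Localization.AtPrime p) (t.1 : A), ← mul_smul, mul_comm,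
            IsLocalization.mk'_spec, algebraMap_smul]
        rw [mul_smul, this, smul_comm]
        exact Submodule.smul_mem _ _ hsx
  obtain ⟨k, hk⟩ : ∃ k : ℕ, ∀ y ∈ Y, ∀ a ∈ p ^ k, a • y = 0 := by
    choose k hk using h2
    exact ⟨Y.sup k, fun y hy a ha => hk y a (Ideal.pow_le_pow_right (Finset.le_sup hy) ha)⟩
  have hmk : ∀ c ∈ (IsLocalRing.maximalIdeal (Localization.AtPrime p)) ^ (k + 1), ∀ x ∈ N,
      c • x = 0 := by
    intro c hc
    have hc' : c ∈ Ideal.map (algebraMap A (Localization.AtPrime p)) (p ^ (k + 1)) := by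
      rw [Ideal.map_pow, Localization.AtPrime.map_eq_maximalIdeal]; exact hc
    suffices hY : ∀ y ∈ Y, c • y = 0 by
      intro x hx
      induction hx using Submodule.span_induction with
      | mem y hy => exact hY y hy
      | zero => exact smul_zero _
      | add x y _ _ hx hy => rw [smul_add, hx, hy, add_zero]
      | smul d x _ hx => rw [smul_comm, hx, smul_zero]
    intro y hy
    clear hc
    rw [Ideal.map] at hc'
    induction hc' using Submodule.span_induction with
    | mem c hc =>
      obtain ⟨a, ha, rfl⟩ := hc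
      rw [algebraMap_smul]
      exact hk y hy a (Ideal.pow_le_pow_right (Nat.le_succ k) ha)
    | zero => exact zero_smul _ _
    | add c d _ _ hc hd => rw [add_smul, hc, hd, add_zero]
    | smul r c _ hc => rw [smul_eq_mul, mul_smul, hc, smul_zero]
  have htors : Module.IsTorsionBySet (Localization.AtPrime p) N
      ((IsLocalRing.maximalIdeal (Localization.AtPrime p)) ^ (k + 1) : Ideal _) := by
    intro x a
    exact Subtype.ext (hmk a.1 a.2 x.1 x.2)
  letI : Module ((Localization.AtPrime p) ⧸
      (IsLocalRing.maximalIdeal (Localization.AtPrime p)) ^ (k + 1)) N := htors.module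
  haveI : IsScalarTower A ((Localization.AtPrime p) ⧸
      (IsLocalRing.maximalIdeal (Localization.AtPrime p)) ^ (k + 1)) N :=
    Module.IsTorsionBySet.isScalarTower htors
  haveI : IsScalarTower (Localization.AtPrime p) ((Localization.AtPrime p) ⧸
      (IsLocalRing.maximalIdeal (Localization.AtPrime p)) ^ (k + 1)) N :=
    Module.IsTorsionBySet.isScalarTower htors
  haveI : Module.Finite (Localization.AtPrime p) N :=
    Module.Finite.span_of_finite _ Y.finite_toSet
  haveI : Module.Finite ((Localization.AtPrime p) ⧸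
      (IsLocalRing.maximalIdeal (Localization.AtPrime p)) ^ (k + 1)) N :=
    Module.Finite.of_restrictScalars_finite (Localization.AtPrime p) _ _
  haveI : IsArtinianRing ((Localization.AtPrime p) ⧸
      (IsLocalRing.maximalIdeal (Localization.AtPrime p)) ^ (k + 1)) := by
    apply IsLocalRing.quotient_artinian_of_mem_minimalPrimes_of_isLocalRing
    refine ⟨⟨inferInstance, Ideal.pow_le_self (Nat.succ_ne_zero k)⟩, ?_⟩
    rintro q ⟨hq, hle⟩ _
    exact hq.le_of_pow_le hle
  let e : ↥(sat p (Y : Set E)) ≃ₗ[A] ↥N :=
    { toFun := fun x => ⟨x.1, (hN x.1).mp x.2⟩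
      invFun := fun x => ⟨x.1, (hN x.1).mpr x.2⟩
      map_add' := fun _ _ => rfl
      map_smul' := fun _ _ => rfl
      left_inv := fun _ => rfl
      right_inv := fun _ => rfl }
  obtain ⟨i1, i2, i3⟩ := transport e ((Localization.AtPrime p) ⧸
      (IsLocalRing.maximalIdeal (Localization.AtPrime p)) ^ (k + 1))
  exact ⟨_, inferInstance, inferInstance, inferInstance, i1, i2, i3⟩

end Groth.Agent.Lib.H74ArtColim
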