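import Mathlib
import Groth.Agent.Lib.H74ArtColim2

set_option autoImplicit false
set_option linter.style.haveILetI false
universe u

namespace Groth.Agent.Lib.H74ArtColim

variable {A : Type u} [CommRing A]

theorem finite_pi {F : Type u} [Fintype F] [DecidableEq F] (B : F → Type u) [∀ i, CommRing (B i)]
    (M : F → Type u) [∀ i, AddCommGroup (M i)] [∀ i, Module (B i) (M i)]
    [h : ∀ i, Module.Finite (B i) (M i)] : Module.Finite (∀ i, B i) (∀ i, M i) := by
  classical
  have h' : ∀ i, ∃ S : Finset (M i), Submodule.span (B i) (S : Set (M i)) = ⊤ := fun i =>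
    (h i).fg_top
  choose S hS using h'
  refine ⟨⟨Finset.univ.biUnion (fun i => (S i).image (Pi.single i)), ?_⟩⟩
  rw [eq_top_iff]
  intro x _
  have key : ∀ i (m : M i), (Pi.single i m : ∀ i, M i) ∈
      Submodule.span (∀ i, B i)
        ((Finset.univ.biUnion (fun i => (S i).image (Pi.single i)) : Finset (∀ i, M i)) :
          Set (∀ i, M i)) := by
    intro i m
    have hm : m ∈ Submodule.span (B i) (S i : Set (M i)) := by rw [hS]; exact Submodule.mem_top
    induction hm using Submodule.span_induction with
    | mem y hy =>
      apply Submodule.subset_span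
      rw [Finset.mem_coe, Finset.mem_biUnion]
      exact ⟨i, Finset.mem_univ _, Finset.mem_image_of_mem _ hy⟩
    | zero => rw [Pi.single_zero]; exact Submodule.zero_mem _
    | add y z _ _ hy hz => rw [Pi.single_add]; exact Submodule.add_mem _ hy hz
    | smul b y _ hy =>
      have : (Pi.single i (b • y) : ∀ i, M i) = (Pi.single i b : ∀ i, B i) • Pi.single i y := by
        funext j
        by_cases hj : j = i
        · subst hj; simp
        · simp [Pi.single_eq_of_ne hj]
      rw [this]
      exact Submodule.smul_mem _ _ hy
  have hx : x = ∑ i, Pi.single i (x i) := by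
    funext j
    simp [Finset.sum_apply]
  rw [hx]
  exact Submodule.sum_mem _ fun i _ => key i (x i)

theorem exists_artinian_structure_pi {F : Type u} [Fintype F] (M : F → Type u)
    [∀ i, AddCommGroup (M i)] [∀ i, Module A (M i)]
    (h : ∀ i, ∃ (B : Type u) (_ : CommRing B) (_ : Algebra A B) (_ : IsArtinianRing B)
      (_ : Module B (M i)) (_ : IsScalarTower A B (M i)), Module.Finite B (M i)) :
    ∃ (B : Type u) (_ : CommRing B) (_ : Algebra A B) (_ : IsArtinianRing B)
      (_ : Module B (∀ i, M i)) (_ : IsScalarTower A B (∀ i, M i)),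
      Module.Finite B (∀ i, M i) := by
  classical
  choose B i1 i2 i3 i4 i5 i6 using h
  letI := i1
  letI := i2
  haveI := i3
  letI := i4
  haveI := i5
  haveI := i6
  exact ⟨∀ i, B i, inferInstance, inferInstance, inferInstance, inferInstance, inferInstance,
    finite_pi B M⟩

end Groth.Agent.Lib.H74ArtColim
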