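import Mathlib
import Groth.Agent.Lib.H74ArtColim3

set_option autoImplicit false
set_option linter.style.haveILetI false
universe u

namespace Groth.Agent.Lib.H74ArtColim

open scoped DirectSum

variable {A : Type u} [CommRing A] {J : Type u} [AddCommGroup J] [Module A J]
variable {I : Type u} (C : I → Submodule A J) (p : I → Ideal A) [∀ i, (p i).IsPrime]

/-- the submodule attached to a finite set of indices and finite sets of elements. -/
def Nsub (t : Finset I × (∀ i, Finset (C i))) : Submodule A J :=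
  ⨆ i ∈ t.1, (sat (p i) ((t.2 i : Finset (C i)) : Set (C i))).map (C i).subtype

theorem Nsub_mono {t t' : Finset I × (∀ i, Finset (C i))} (h : t ≤ t') :
    Nsub C p t ≤ Nsub C p t' :=
  iSup₂_le fun i hi => le_iSup₂_of_le i (h.1 hi)
    (Submodule.map_mono (sat_mono _ (Finset.coe_subset.mpr (h.2 i))))

/-- the sum map. -/
noncomputable def Phi (t : Finset I × (∀ i, Finset (C i))) :
    (∀ i : ↥t.1, ↥(sat (p i) ((t.2 i : Finset (C i)) : Set (C i)))) →ₗ[A] J :=
  ∑ i : ↥t.1, ((C i).subtype ∘ₗ (sat (p i) ((t.2 i : Finset (C i)) : Set (C i))).subtype) ∘ₗ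
    LinearMap.proj i

theorem Phi_apply (t : Finset I × (∀ i, Finset (C i)))
    (f : ∀ i : ↥t.1, ↥(sat (p i) ((t.2 i : Finset (C i)) : Set (C i)))) :
    Phi C p t f = ∑ i : ↥t.1, ((f i : C i) : J) := by
  simp [Phi, LinearMap.sum_apply]

theorem range_Phi [DecidableEq I] (t : Finset I × (∀ i, Finset (C i))) :
    LinearMap.range (Phi C p t) = Nsub C p t := by
  apply le_antisymm
  · rintro _ ⟨f, rfl⟩
    rw [Phi_apply]
    refine Submodule.sum_mem _ fun i _ => ?_
    refine Submodule.mem_iSup_of_mem i.1 (Submodule.mem_iSup_of_mem i.2 ?_)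
    exact ⟨f i, (f i).2, rfl⟩
  · refine iSup₂_le fun i hi => ?_
    rintro _ ⟨z, hz, rfl⟩
    refine ⟨Pi.single (⟨i, hi⟩ : ↥t.1) ⟨z, hz⟩, ?_⟩
    rw [Phi_apply, Fintype.sum_eq_single (⟨i, hi⟩ : ↥t.1)]
    · simp
    · intro j hj
      rw [Pi.single_eq_of_ne hj]
      simp


section Internal

variable [DecidableEq I] (hC : DirectSum.IsInternal C)

/-- component maps of an internal direct sum. -/
noncomputable def comp (i : I) : J →ₗ[A] C i :=
  (DirectSum.component A I (fun i => C i) i) ∘ₗ
    (LinearEquiv.ofBijective (DirectSum.coeLinearMap C) hC).symm.toLinearMap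

theorem comp_same (i : I) (x : C i) : comp C hC i (x : J) = x :=
  hC.ofBijective_coeLinearMap_same x

theorem comp_ne {i j : I} (hij : i ≠ j) (x : C i) : comp C hC j (x : J) = 0 :=
  hC.ofBijective_coeLinearMap_of_ne hij x

include hC in
theorem Phi_injective (t : Finset I × (∀ i, Finset (C i))) :
    Function.Injective (Phi C p t) := by
  rw [← LinearMap.ker_eq_bot, eq_bot_iff]
  intro f hf
  rw [LinearMap.mem_ker, Phi_apply] at hf
  rw [Submodule.mem_bot]
  funext i
  have h1 := congrArg (comp C hC i.1) hf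
  rw [map_sum, map_zero, Fintype.sum_eq_single i] at h1
  · rw [comp_same] at h1
    exact Subtype.ext h1
  · intro j hj
    apply comp_ne
    intro h
    exact hj (Subtype.ext h)

/-- the structural equivalence. -/
noncomputable def equivPi (t : Finset I × (∀ i, Finset (C i))) :
    ↥(Nsub C p t) ≃ₗ[A] (∀ i : ↥t.1, ↥(sat (p i) ((t.2 i : Finset (C i)) : Set (C i)))) :=
  ((LinearEquiv.ofInjective (Phi C p t) (Phi_injective C p hC t)).trans
    (LinearEquiv.ofEq _ _ (range_Phi C p t))).symm

include hC in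
theorem exists_mem_Nsub (x : J) :
    ∃ t : Finset I × (∀ i, Finset (C i)), x ∈ Nsub C p t := by
  have hx : x ∈ iSup C := hC.submodule_iSup_eq_top ▸ Submodule.mem_top
  induction hx using Submodule.iSup_induction' with
  | mem i x hx =>
    refine ⟨({i}, fun j => {comp C hC j x}), ?_⟩
    refine Submodule.mem_iSup_of_mem i (Submodule.mem_iSup_of_mem (Finset.mem_singleton_self i) ?_)
    refine ⟨⟨x, hx⟩, subset_sat _ _ ?_, rfl⟩
    rw [Finset.coe_singleton, Set.mem_singleton_iff]
    exact (comp_same C hC i ⟨x, hx⟩).symm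
  | zero => exact ⟨(∅, fun _ => ∅), Submodule.zero_mem _⟩
  | add x y _ _ hx hy =>
    obtain ⟨t, ht⟩ := hx
    obtain ⟨t', ht'⟩ := hy
    classical
    exact ⟨(t.1 ∪ t'.1, fun i => t.2 i ∪ t'.2 i), Submodule.add_mem _
      (Nsub_mono C p ⟨Finset.subset_union_left, fun _ => Finset.subset_union_left⟩ ht)
      (Nsub_mono C p ⟨Finset.subset_union_right, fun _ => Finset.subset_union_right⟩ ht')⟩

end Internal

end Groth.Agent.Lib.H74ArtColim
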