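import Mathlib
import Groth.Agent.Lib.H74ArtColim4

set_option autoImplicit false
set_option linter.style.haveILetI false
universe u

namespace Groth.Agent.Lib.H74ArtColim

open CategoryTheory CategoryTheory.Limits

section Fam

variable {A : Type u} [CommRing A] {J : Type u} [AddCommGroup J] [Module A J]
variable {I : Type u} (C : I → Submodule A J) (p : I → Ideal A) [∀ i, (p i).IsPrime]

/-- index type. -/
abbrev Idx : Type u := Finset I × (∀ i, Finset (C i))

instance : Nonempty (Idx C) := ⟨(∅, fun _ => ∅)⟩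

instance : IsDirected (Idx C) (· ≤ ·) := by
  classical
  exact ⟨fun t t' => ⟨(t.1 ∪ t'.1, fun i => t.2 i ∪ t'.2 i),
    ⟨Finset.subset_union_left, fun _ => Finset.subset_union_left⟩,
    ⟨Finset.subset_union_right, fun _ => Finset.subset_union_right⟩⟩⟩

/-- the family of modules. -/
abbrev Gfam (t : Idx C) : Type u := ↥(Nsub C p t)

/-- transition maps. -/
noncomputable def fmap (t t' : Idx C) (h : t ≤ t') : Gfam C p t →ₗ[A] Gfam C p t' :=
  Submodule.inclusion (Nsub_mono C p h)

theorem fmap_apply (t t' : Idx C) (h : t ≤ t') (x : Gfam C p t) :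
    ((fmap C p t t' h x : Gfam C p t') : J) = (x : J) :=
  Submodule.coe_inclusion _ _

instance : DirectedSystem (Gfam C p) (fun i j h => fmap C p i j h) :=
  ⟨fun _ _ => Subtype.ext (fmap_apply C p _ _ _ _), fun _ _ _ _ _ _ => Subtype.ext (by
    rw [fmap_apply, fmap_apply, fmap_apply])⟩

variable [DecidableEq I] (hC : DirectSum.IsInternal C)

open Classical in
/-- the direct limit of the family is the whole module. -/
noncomputable def limEquiv : Module.DirectLimit (Gfam C p) (fun i j h => fmap C p i j h) ≃ₗ[A] J :=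
  LinearEquiv.ofBijective
    (Module.DirectLimit.lift A (Idx C) (Gfam C p) (fun i j h => fmap C p i j h)
      (fun t => (Nsub C p t).subtype) (fun t t' h x => fmap_apply C p t t' h x))
    ⟨Module.DirectLimit.lift_injective _ _ (fun t => Subtype.val_injective), fun x => by
      obtain ⟨t, ht⟩ := exists_mem_Nsub C p hC x
      exact ⟨Module.DirectLimit.of A (Idx C) (Gfam C p) (fun i j h => fmap C p i j h) t ⟨x, ht⟩,
        Module.DirectLimit.lift_of _ _ _⟩⟩

end Fam

theorem exists_structure_Nsub {A : Type u} [CommRing A] [IsNoetherianRing A] {J : Type u}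
    [AddCommGroup J] [Module A J] {I : Type u} (C : I → Submodule A J) (p : I → Ideal A)
    [∀ i, (p i).IsPrime] [DecidableEq I] (hC : DirectSum.IsInternal C)
    (h1 : ∀ i, ∀ s ∉ p i, Function.Bijective (fun y : C i => s • y))
    (h2 : ∀ i, ∀ y : C i, ∃ k : ℕ, ∀ a ∈ p i ^ k, a • y = 0)
    (t : Finset I × (∀ i, Finset (C i))) :
    ∃ (B : Type u) (_ : CommRing B) (_ : Algebra A B) (_ : IsArtinianRing B)
      (_ : Module B (Nsub C p t)) (_ : IsScalarTower A B (Nsub C p t)),
      Module.Finite B (Nsub C p t) := by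
  obtain ⟨B, i1, i2, i3, i4, i5, i6⟩ := exists_artinian_structure_pi (A := A) (F := ↥t.1)
     (fun i => ↥(sat (p i) ((t.2 i : Finset (C i)) : Set (C i))))
     (fun i => exists_artinian_structure (p i) (h1 i) (h2 i) (t.2 i))
  obtain ⟨j1, j2, j3⟩ := transport (equivPi C p hC t) B
  exact ⟨B, i1, i2, i3, j1, j2, j3⟩


open Classical in
theorem main_aux {A : Type u} [CommRing A] [IsNoetherianRing A] {J : Type u}
    [AddCommGroup J] [Module A J] {I : Type u} (C : I → Submodule A J) (p : I → Ideal A)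
    [∀ i, (p i).IsPrime] (hC : DirectSum.IsInternal C)
    (h1 : ∀ i, ∀ s ∉ p i, Function.Bijective (fun y : C i => s • y))
    (h2 : ∀ i, ∀ y : C i, ∃ k : ℕ, ∀ a ∈ p i ^ k, a • y = 0) :
    ∃ (ι : Type u) (_ : SmallCategory ι) (_ : IsFiltered ι) (D : ι ⥤ ModuleCat.{u} A)
      (c : Cocone D) (_ : IsColimit c), Nonempty (c.pt ≅ ModuleCat.of A J) ∧
      ∀ i : ι, ∃ (B : Type u) (_ : CommRing B) (_ : Algebra A B) (_ : IsArtinianRing B)
        (_ : Module B (D.obj i)) (_ : IsScalarTower A B (D.obj i)), Module.Finite B (D.obj i) :=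
  ⟨Idx C, Preorder.smallCategory _, isFiltered_of_directed_le_nonempty _,
    ModuleCat.directLimitDiagram (Gfam C p) (fun i j h => fmap C p i j h),
    ModuleCat.directLimitCocone (Gfam C p) (fun i j h => fmap C p i j h),
    ModuleCat.directLimitIsColimit (Gfam C p) (fun i j h => fmap C p i j h),
    ⟨(limEquiv C p hC).toModuleIso⟩, fun t => exists_structure_Nsub C p hC h1 h2 t⟩

theorem main (A : Type u) [CommRing A] [IsNoetherianRing A]
    (J : Type u) [AddCommGroup J] [Module A J] [Module.Injective A J] :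
    ∃ (ι : Type u) (_ : SmallCategory ι) (_ : IsFiltered ι) (D : ι ⥤ ModuleCat.{u} A)
      (c : Cocone D) (_ : IsColimit c), Nonempty (c.pt ≅ ModuleCat.of A J) ∧
      ∀ i : ι, ∃ (B : Type u) (_ : CommRing B) (_ : Algebra A B) (_ : IsArtinianRing B)
        (_ : Module B (D.obj i)) (_ : IsScalarTower A B (D.obj i)), Module.Finite B (D.obj i) := by
  obtain ⟨I, C, hC, hprop⟩ := Groth.Agent.S0307.result A J inferInstance
  have h306 := fun i => Groth.Agent.S0306.result A (C i) (hprop i).1 (hprop i).2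
  choose p hp g hg using h306
  haveI := hp
  have h1 : ∀ i, ∀ s ∉ p i, Function.Bijective (fun y : C i => s • y) := fun i s hs =>
    smul_bijective_of_hull (hprop i).1 (hprop i).2 (p i) (g i) (hg i) s hs
  have h2 : ∀ i, ∀ y : C i, ∃ k : ℕ, ∀ a ∈ p i ^ k, a • y = 0 := fun i y =>
    exists_pow_smul_eq_zero_of_hull (hprop i).1 (hprop i).2 (p i) (g i) (hg i) y
  exact main_aux C p hC h1 h2

end Groth.Agent.Lib.H74ArtColim
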