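import Groth.Agent.Lib.H74GrSerre2

set_option autoImplicit false
set_option linter.unusedSectionVars false
set_option linter.style.haveILetI false
universe u

namespace Groth.Agent.Lib.H74Coarse

open DirectSum GrLC

section Coarse

variable {ι κ : Type} [AddCommGroup ι] [DecidableEq ι] [AddCommGroup κ] [DecidableEq κ]
  (φ : ι →+ κ)
variable {M : Type u} [AddCommGroup M] (ℳ : ι → AddSubgroup M)

/-- The coarsened grading. -/
def coarse : κ → AddSubgroup M := fun h => ⨆ g ∈ φ ⁻¹' {h}, ℳ g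

theorem le_coarse (g : ι) : ℳ g ≤ coarse φ ℳ (φ g) :=
  le_iSup₂_of_le g (by simp) le_rfl

theorem le_coarse_of_eq {g : ι} {h : κ} (hg : φ g = h) : ℳ g ≤ coarse φ ℳ h := by
  subst hg; exact le_coarse φ ℳ g

theorem coarse_induction {h : κ} {P : M → Prop} {x : M} (hx : x ∈ coarse φ ℳ h)
    (mem : ∀ g, φ g = h → ∀ y ∈ ℳ g, P y) (zero : P 0) (add : ∀ y z, P y → P z → P (y + z)) :
    P x := by
  unfold coarse at hx
  refine AddSubgroup.iSup_induction _ (C := P) hx ?_ zero add
  intro g y hy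
  refine AddSubgroup.iSup_induction _ (C := P) hy ?_ zero add
  intro hg z hz
  exact mem g hg z hz

theorem coarse_le {h : κ} {S : AddSubgroup M} (hS : ∀ g, φ g = h → ℳ g ≤ S) :
    coarse φ ℳ h ≤ S :=
  iSup₂_le fun g hg => hS g hg

variable [Decomposition ℳ]

/-- The decomposition map of the coarsened grading. -/
noncomputable def coarseDecompose : M →+ ⨁ h, coarse φ ℳ h :=
  (DirectSum.toAddMonoid (fun g => (DirectSum.of (fun h => coarse φ ℳ h) (φ g)).comp
    (AddSubgroup.inclusion (le_coarse φ ℳ g)))).comp (decomposeAddEquiv ℳ).toAddMonoidHom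

theorem coarseDecompose_of_mem {g : ι} {m : M} (hm : m ∈ ℳ g) :
    coarseDecompose φ ℳ m = DirectSum.of (fun h => coarse φ ℳ h) (φ g)
      ⟨m, le_coarse φ ℳ g hm⟩ := by
  unfold coarseDecompose
  rw [AddMonoidHom.comp_apply]
  show DirectSum.toAddMonoid _ (decompose ℳ m) = _
  rw [decompose_of_mem ℳ hm, DirectSum.toAddMonoid_of]
  rfl

theorem coarseDecompose_of_mem_coarse {h : κ} {m : M} (hm : m ∈ coarse φ ℳ h) :
    coarseDecompose φ ℳ m = DirectSum.of (fun h => coarse φ ℳ h) h ⟨m, hm⟩ := by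
  have key : ∃ hm' : m ∈ coarse φ ℳ h,
      coarseDecompose φ ℳ m = DirectSum.of (fun h => coarse φ ℳ h) h ⟨m, hm'⟩ := by
    refine coarse_induction φ ℳ (P := fun m => ∃ hm' : m ∈ coarse φ ℳ h,
      coarseDecompose φ ℳ m = DirectSum.of (fun h => coarse φ ℳ h) h ⟨m, hm'⟩) hm ?_ ?_ ?_
    · intro g hg y hy
      subst hg
      exact ⟨le_coarse φ ℳ g hy, coarseDecompose_of_mem φ ℳ hy⟩
    · refine ⟨zero_mem _, ?_⟩
      rw [map_zero]
      have : (⟨0, zero_mem _⟩ : coarse φ ℳ h) = 0 := rfl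
      rw [this, map_zero]
    · rintro y z ⟨hy, ey⟩ ⟨hz, ez⟩
      refine ⟨add_mem hy hz, ?_⟩
      rw [map_add, ey, ez, ← map_add]
      rfl
  obtain ⟨_, e⟩ := key
  exact e

/-- The coarsened grading is a decomposition. -/
@[instance_reducible]
noncomputable def coarseDecomposition : Decomposition (coarse φ ℳ) :=
  Decomposition.ofAddHom (coarse φ ℳ) (coarseDecompose φ ℳ)
    (by
      ext m
      show DirectSum.coeAddMonoidHom (coarse φ ℳ) (coarseDecompose φ ℳ m) = m
      induction m using Decomposition.inductionOn ℳ with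
      | zero => simp
      | @homogeneous g m =>
        rw [coarseDecompose_of_mem φ ℳ m.2, DirectSum.coeAddMonoidHom_of]
      | add x y hx hy => rw [map_add, map_add, hx, hy])
    (by
      apply DirectSum.addHom_ext
      intro h x
      show coarseDecompose φ ℳ (DirectSum.coeAddMonoidHom (coarse φ ℳ)
        (DirectSum.of (fun h => coarse φ ℳ h) h x)) = DirectSum.of (fun h => coarse φ ℳ h) h x
      rw [DirectSum.coeAddMonoidHom_of, coarseDecompose_of_mem_coarse φ ℳ x.2])

end Coarse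


section Smul

variable {ι κ : Type} [AddCommGroup ι] [DecidableEq ι] [AddCommGroup κ] [DecidableEq κ]
  (φ : ι →+ κ)
variable {R : Type u} [CommRing R] (𝒜 : ι → AddSubgroup R) [GradedRing 𝒜]
  (𝒜' : κ → AddSubgroup R) [GradedRing 𝒜'] (h𝒜 : ∀ h : κ, 𝒜' h = ⨆ g ∈ φ ⁻¹' {h}, 𝒜 g)
variable {M : Type u} [AddCommGroup M] [Module R M] (ℳ : ι → AddSubgroup M)
  [SetLike.GradedSMul 𝒜 ℳ]

include h𝒜 in
/-- The coarsened grading of a graded module is graded over the coarsened ring. -/
theorem coarse_gradedSMul : SetLike.GradedSMul 𝒜' (coarse φ ℳ) where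
  smul_mem := by
    intro i j r m hr hm
    rw [vadd_eq_add]
    have hr' : r ∈ coarse φ 𝒜 i := by
      show r ∈ ⨆ g ∈ φ ⁻¹' {i}, 𝒜 g
      rw [← h𝒜]; exact hr
    refine coarse_induction φ 𝒜 (P := fun r => r • m ∈ coarse φ ℳ (i + j)) hr' ?_ ?_ ?_
    · intro g hg s hs
      refine coarse_induction φ ℳ (P := fun m => s • m ∈ coarse φ ℳ (i + j)) hm ?_ ?_ ?_
      · intro g' hg' y hy
        have := SetLike.GradedSMul.smul_mem (A := 𝒜) (B := ℳ) hs hy
        rw [vadd_eq_add] at this
        exact le_coarse_of_eq φ ℳ (by rw [map_add, hg, hg']) this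
      · rw [smul_zero]; exact zero_mem _
      · intro y z hy hz
        rw [smul_add]; exact add_mem hy hz
    · rw [zero_smul]; exact zero_mem _
    · intro y z hy hz
      rw [add_smul]; exact add_mem hy hz

end Smul

end Groth.Agent.Lib.H74Coarse
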