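import Groth.Agent.Lib.H74Coarse1

set_option autoImplicit false
set_option linter.unusedSectionVars false
set_option linter.style.haveILetI false
universe u

namespace Groth.Agent.Lib.H74Coarse

open DirectSum GrLC Groth.Agent.Lib.H87GrMod Groth.Agent.Lib.H87GrMod2 Groth.Agent.Lib.H87GrShift
  Groth.Agent.S18662 Groth.Agent.S18661 Groth.Agent.Lib.H74GrLES Groth.Agent.Lib.H74GrArt
  Groth.Agent.Lib.H74GrVan Groth.Agent.S13215

section HZero

variable {ι : Type} [AddCommGroup ι] [DecidableEq ι]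
variable {R : Type u} [CommRing R] {𝒜 : ι → AddSubgroup R} [GradedRing 𝒜]
variable {M : Type u} [AddCommGroup M] [Module R M] {ℳ : ι → AddSubgroup M}
  [Decomposition ℳ] [SetLike.GradedSMul 𝒜 ℳ]
variable {N : Type u} [AddCommGroup N] [Module R N] {𝒩 : ι → AddSubgroup N}
  [Decomposition 𝒩] [SetLike.GradedSMul 𝒜 𝒩]

theorem ε_mem_cocyc (E : StarInjRes 𝒜 ℳ) (a : HomogeneousIdeal 𝒜) (m : gam a.toIdeal M) :
    E.ε m.1 ∈ E.cocyc a 0 :=
  ⟨map_mem_gam E.ε m.2, by rw [E.exact_zero]; exact ⟨m.1, rfl⟩⟩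

/-- The canonical map `Γ_a(M) → H^0_a(M)`. -/
noncomputable def Phi (E : StarInjRes 𝒜 ℳ) (a : HomogeneousIdeal 𝒜) :
    gam a.toIdeal M →ₗ[R] E.H a 0 :=
  E.toH a 0 ∘ₗ LinearMap.codRestrict (E.cocyc a 0) (E.ε ∘ₗ (gam a.toIdeal M).subtype)
    (ε_mem_cocyc E a)

theorem Phi_apply (E : StarInjRes 𝒜 ℳ) (a : HomogeneousIdeal 𝒜) (m : gam a.toIdeal M) :
    Phi E a m = E.toH a 0 ⟨E.ε m.1, ε_mem_cocyc E a m⟩ := rfl

theorem Phi_injective (E : StarInjRes 𝒜 ℳ) (a : HomogeneousIdeal 𝒜) :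
    Function.Injective (Phi E a) := by
  rw [← LinearMap.ker_eq_bot, eq_bot_iff]
  intro m hm
  rw [LinearMap.mem_ker, Phi_apply, toH_eq_zero_iff] at hm
  have h2 : E.ε m.1 = 0 := hm
  rw [Submodule.mem_bot]
  exact Subtype.ext (E.ε_injective (show E.ε m.1 = E.ε 0 by rw [h2, map_zero]))

/-- Every class in `H^0` comes from a torsion element; homogeneous classes from homogeneous
elements. -/
theorem exists_Phi_eq (E : StarInjRes 𝒜 ℳ) (a : HomogeneousIdeal 𝒜) (z : E.cocyc a 0) :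
    ∃ m : gam a.toIdeal M, E.ε m.1 = z.1 ∧ Phi E a m = E.toH a 0 z ∧
      ∀ g, z.1 ∈ (E.X 0).gr g → m.1 ∈ ℳ g := by
  classical
  have hzker : (z : (E.X 0).carrier) ∈ LinearMap.ker (E.d 0) := z.2.2
  rw [E.exact_zero] at hzker
  obtain ⟨m, hm⟩ := hzker
  have hmgam : m ∈ gam a.toIdeal M := by
    obtain ⟨j, hj⟩ := z.2.1
    refine ⟨j, fun r hr => E.ε_injective ?_⟩
    rw [map_smul, hm, hj r hr, map_zero]
  refine ⟨⟨m, hmgam⟩, hm, ?_, ?_⟩
  · rw [Phi_apply]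
    congr 1
    exact Subtype.ext hm
  · intro g hz
    have hdec : ∀ g', g' ≠ g → (decompose ℳ m g' : M) = 0 := by
      intro g' hg'
      apply E.ε_injective
      rw [map_zero, ← decompose_map ℳ (E.X 0).gr E.ε_grHom m g', hm]
      exact decompose_of_mem_ne (E.X 0).gr hz (Ne.symm hg')
    have hsum := DirectSum.sum_support_decompose ℳ m
    show m ∈ ℳ g
    rw [← hsum]
    refine AddSubgroup.sum_mem _ fun g' _ => ?_
    by_cases hg : g' = g
    · subst hg; exact (decompose ℳ m g').2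
    · rw [hdec g' hg]; exact zero_mem _

theorem Phi_surjective (E : StarInjRes 𝒜 ℳ) (a : HomogeneousIdeal 𝒜) :
    Function.Surjective (Phi E a) := by
  intro ξ
  obtain ⟨z, rfl⟩ := toH_surjective a E 0 ξ
  obtain ⟨m, -, hm, -⟩ := exists_Phi_eq E a z
  exact ⟨m, hm⟩

theorem Phi_mem_Hcomp (E : StarInjRes 𝒜 ℳ) (a : HomogeneousIdeal 𝒜) (m : gam a.toIdeal M)
    {g : ι} (hm : m.1 ∈ ℳ g) : Phi E a m ∈ E.Hcomp a 0 g :=
  ⟨⟨E.ε m.1, ε_mem_cocyc E a m⟩, E.ε_grHom g m.1 hm, rfl⟩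

theorem exists_of_mem_Hcomp (E : StarInjRes 𝒜 ℳ) (a : HomogeneousIdeal 𝒜) {g : ι}
    {ξ : E.H a 0} (hξ : ξ ∈ E.Hcomp a 0 g) :
    ∃ m : gam a.toIdeal M, m.1 ∈ ℳ g ∧ Phi E a m = ξ := by
  obtain ⟨z, hz, rfl⟩ := hξ
  obtain ⟨m, -, hm, hgr⟩ := exists_Phi_eq E a z
  exact ⟨m, hgr g hz, hm⟩

/-- Naturality of `Phi`. -/
theorem Hmap_Phi (E : StarInjRes 𝒜 ℳ) (F : StarInjRes 𝒜 𝒩) (a : HomogeneousIdeal 𝒜)
    {f : M →ₗ[R] N} (c : CMap E F 0) (hc : ∀ m, c.φ 0 (E.ε m) = F.ε (f m))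
    (m : gam a.toIdeal M) :
    c.Hmap a 0 (Phi E a m) = Phi F a ⟨f m.1, map_mem_gam f m.2⟩ := by
  rw [Phi_apply, Phi_apply, CMap.Hmap_toH]
  congr 1
  exact Subtype.ext (hc m.1)

end HZero

section Coker

variable {R : Type u} [CommRing R]
variable {Y Z Y' Z' : Type u} [AddCommGroup Y] [Module R Y] [AddCommGroup Z] [Module R Z]
  [AddCommGroup Y'] [Module R Y'] [AddCommGroup Z'] [Module R Z']

/-- An isomorphism compatible with the kernels of two surjections induces an isomorphism of the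
targets. -/
theorem exists_equiv_of_surjective (δ : Y →ₗ[R] Z) (δ' : Y' →ₗ[R] Z')
    (hδ : Function.Surjective δ) (hδ' : Function.Surjective δ') (ψ : Y ≃ₗ[R] Y')
    (h : ∀ y, δ y = 0 ↔ δ' (ψ y) = 0) :
    ∃ ψZ : Z ≃ₗ[R] Z', ∀ y, ψZ (δ y) = δ' (ψ y) := by
  have hmap : (LinearMap.ker δ).map ψ.toLinearMap = LinearMap.ker δ' := by
    ext y'
    constructor
    · rintro ⟨y, hy, rfl⟩
      exact (h y).mp hy
    · intro hy'
      refine ⟨ψ.symm y', ?_, ψ.apply_symm_apply y'⟩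
      show δ (ψ.symm y') = 0
      rw [h, ψ.apply_symm_apply]
      exact hy'
  let e1 := (LinearMap.quotKerEquivOfSurjective δ hδ).symm
  let e2 := Submodule.Quotient.equiv (LinearMap.ker δ) (LinearMap.ker δ') ψ hmap
  let e3 := LinearMap.quotKerEquivOfSurjective δ' hδ'
  refine ⟨(e1.trans e2).trans e3, fun y => ?_⟩
  have h1 : e1 (δ y) = Submodule.Quotient.mk y := by
    rw [LinearEquiv.symm_apply_eq]
    rfl
  show e3 (e2 (e1 (δ y))) = δ' (ψ y)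
  rw [h1]
  rfl

end Coker

end Groth.Agent.Lib.H74Coarse
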