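import Groth.Agent.Lib.H74Coarse2
import Groth.Agent.S13217

set_option autoImplicit false
set_option linter.unusedSectionVars false
set_option linter.style.haveILetI false
universe u

namespace Groth.Agent.Lib.H74Coarse

open DirectSum GrLC Groth.Agent.Lib.H87GrMod Groth.Agent.Lib.H87GrMod2 Groth.Agent.Lib.H87GrShift
  Groth.Agent.S18662 Groth.Agent.S18661 Groth.Agent.Lib.H74GrLES Groth.Agent.Lib.H74GrArt
  Groth.Agent.Lib.H74GrVan Groth.Agent.S13215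

section Main

variable {ι κ : Type} [AddCommGroup ι] [DecidableEq ι] [Module.Free ℤ ι] [Module.Finite ℤ ι]
  [AddCommGroup κ] [DecidableEq κ] [Module.Free ℤ κ] [Module.Finite ℤ κ] (φ : ι →+ κ)
variable {R : Type u} [CommRing R] [IsNoetherianRing R] (𝒜 : ι → AddSubgroup R) [GradedRing 𝒜]
  (𝒜' : κ → AddSubgroup R) [GradedRing 𝒜'] (h𝒜 : ∀ h : κ, 𝒜' h = ⨆ g ∈ φ ⁻¹' {h}, 𝒜 g)
  (a : HomogeneousIdeal 𝒜) (a' : HomogeneousIdeal 𝒜') (ha : a'.toIdeal = a.toIdeal)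

/-- The coarsening statement in cohomological degree `i`. -/
def PC (i : ℕ) : Prop :=
  ∀ (M : Type u) [AddCommGroup M] [Module R M] (ℳ : ι → AddSubgroup M) [Decomposition ℳ]
    [SetLike.GradedSMul 𝒜 ℳ] (ℳ' : κ → AddSubgroup M) [Decomposition ℳ']
    [SetLike.GradedSMul 𝒜' ℳ'] (_ : ∀ h : κ, ℳ' h = ⨆ g ∈ φ ⁻¹' {h}, ℳ g)
    (E : StarInjRes 𝒜 ℳ) (E' : StarInjRes 𝒜' ℳ'),
    ∃ ψ : E.H a i ≃ₗ[R] E'.H a' i,
      IsGrHom (fun h : κ => ⨆ g ∈ φ ⁻¹' {h}, E.Hgr a i g) (E'.Hgr a' i) ψ.toLinearMap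

variable {M : Type u} [AddCommGroup M] [Module R M] (ℳ : ι → AddSubgroup M) [Decomposition ℳ]
    [SetLike.GradedSMul 𝒜 ℳ] (ℳ' : κ → AddSubgroup M) [Decomposition ℳ']
    [SetLike.GradedSMul 𝒜' ℳ'] (hℳ : ∀ h : κ, ℳ' h = ⨆ g ∈ φ ⁻¹' {h}, ℳ g)

include ha hℳ in
theorem psi_zero (E : StarInjRes 𝒜 ℳ) (E' : StarInjRes 𝒜' ℳ') :
    ∃ ψ : E.H a 0 ≃ₗ[R] E'.H a' 0,
      IsGrHom (fun h : κ => ⨆ g ∈ φ ⁻¹' {h}, E.Hgr a 0 g) (E'.Hgr a' 0) ψ.toLinearMap ∧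
      ∀ (m : M) (hm : m ∈ gam a.toIdeal M) (hm' : m ∈ gam a'.toIdeal M),
        ψ (Phi E a ⟨m, hm⟩) = Phi E' a' ⟨m, hm'⟩ := by
  let e1 : gam a.toIdeal M ≃ₗ[R] E.H a 0 :=
    LinearEquiv.ofBijective (Phi E a) ⟨Phi_injective E a, Phi_surjective E a⟩
  let e2 : gam a.toIdeal M ≃ₗ[R] gam a'.toIdeal M := LinearEquiv.ofEq _ _ (by rw [ha])
  let e3 : gam a'.toIdeal M ≃ₗ[R] E'.H a' 0 :=
    LinearEquiv.ofBijective (Phi E' a') ⟨Phi_injective E' a', Phi_surjective E' a'⟩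
  have hform : ∀ (m : M) (hm : m ∈ gam a.toIdeal M) (hm' : m ∈ gam a'.toIdeal M),
      (e1.symm.trans (e2.trans e3)) (Phi E a ⟨m, hm⟩) = Phi E' a' ⟨m, hm'⟩ := by
    intro m hm hm'
    show e3 (e2 (e1.symm (e1 ⟨m, hm⟩))) = _
    rw [e1.symm_apply_apply]
    rfl
  refine ⟨e1.symm.trans (e2.trans e3), ?_, hform⟩
  intro h ξ hξ
  refine coarse_induction φ (E.Hgr a 0)
    (P := fun ξ => (e1.symm.trans (e2.trans e3)).toLinearMap ξ ∈ E'.Hgr a' 0 h) hξ ?_ ?_ ?_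
  · intro g hg y hy
    obtain ⟨m, hmg, rfl⟩ := exists_of_mem_Hcomp E a (show y ∈ E.Hcomp a 0 g from hy)
    have hm' : m.1 ∈ gam a'.toIdeal M := by rw [ha]; exact m.2
    have hmh : m.1 ∈ ℳ' h := by
      rw [hℳ]
      exact le_coarse_of_eq φ ℳ hg hmg
    show (e1.symm.trans (e2.trans e3)) (Phi E a m) ∈ E'.Hgr a' 0 h
    have := hform m.1 m.2 hm'
    rw [this]
    exact Phi_mem_Hcomp E' a' ⟨m.1, hm'⟩ hmh
  · show (e1.symm.trans (e2.trans e3)).toLinearMap 0 ∈ E'.Hgr a' 0 h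
    rw [map_zero]; exact zero_mem _
  · intro y z hy hz
    show (e1.symm.trans (e2.trans e3)).toLinearMap (y + z) ∈ E'.Hgr a' 0 h
    rw [map_add]; exact add_mem hy hz



omit [Module.Free ℤ ι] [Module.Finite ℤ ι] [Module.Free ℤ κ] [Module.Finite ℤ κ]
  [IsNoetherianRing R] [Decomposition ℳ] [SetLike.GradedSMul 𝒜 ℳ] [Decomposition ℳ']
  [SetLike.GradedSMul 𝒜' ℳ'] [GradedRing 𝒜] [GradedRing 𝒜'] in
include hℳ in
/-- A homogeneous map stays homogeneous for the coarsened gradings. -/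
theorem isGrHom_coarse {N : Type u} [AddCommGroup N] [Module R N] (𝒩 : ι → AddSubgroup N)
    (𝒩' : κ → AddSubgroup N) (h𝒩 : ∀ h : κ, 𝒩' h = ⨆ g ∈ φ ⁻¹' {h}, 𝒩 g)
    {f : M →ₗ[R] N} (hf : IsGrHom ℳ 𝒩 f) : IsGrHom ℳ' 𝒩' f := by
  intro h m hm
  rw [hℳ] at hm
  rw [h𝒩]
  refine coarse_induction φ ℳ (P := fun m => f m ∈ coarse φ 𝒩 h) hm ?_ ?_ ?_
  · intro g hg y hy
    exact le_coarse_of_eq φ 𝒩 hg (hf g y hy)
  · rw [map_zero]; exact zero_mem _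
  · intro y z hy hz
    rw [map_add]; exact add_mem hy hz

include ha hℳ in
theorem pc_succ_aux (i : ℕ) (IH : PC φ 𝒜 𝒜' a a' i)
    (E : StarInjRes 𝒜 ℳ) (E' : StarInjRes 𝒜' ℳ')
    {I : Type u} [AddCommGroup I] [Module R I] (ℐ : ι → AddSubgroup I) [Decomposition ℐ]
    [SetLike.GradedSMul 𝒜 ℐ] (ℐ' : κ → AddSubgroup I) [Decomposition ℐ']
    [SetLike.GradedSMul 𝒜' ℐ'] (hℐ : ∀ h : κ, ℐ' h = ⨆ g ∈ φ ⁻¹' {h}, ℐ g)
    (hI : IsStarInj 𝒜 ℐ)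
    {C : Type u} [AddCommGroup C] [Module R C] (𝒞 : ι → AddSubgroup C) [Decomposition 𝒞]
    [SetLike.GradedSMul 𝒜 𝒞] (𝒞' : κ → AddSubgroup C) [Decomposition 𝒞']
    [SetLike.GradedSMul 𝒜' 𝒞'] (h𝒞 : ∀ h : κ, 𝒞' h = ⨆ g ∈ φ ⁻¹' {h}, 𝒞 g)
    {f : M →ₗ[R] I} {q : I →ₗ[R] C} (hf : IsGrHom ℳ ℐ f) (hq : IsGrHom ℐ 𝒞 q)
    (hfinj : Function.Injective f) (hex : Function.Exact f q) (hqs : Function.Surjective q)
    (A : StarInjRes 𝒜 ℐ) (B : StarInjRes 𝒜 𝒞) (F : StarInjRes 𝒜' ℐ') (G : StarInjRes 𝒜' 𝒞') :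
    ∃ ψ : E.H a (i + 1) ≃ₗ[R] E'.H a' (i + 1),
      IsGrHom (fun h : κ => ⨆ g ∈ φ ⁻¹' {h}, E.Hgr a (i + 1) g) (E'.Hgr a' (i + 1))
        ψ.toLinearMap := by
  have hf' : IsGrHom ℳ' ℐ' f := isGrHom_coarse φ ℳ ℳ' hℳ ℐ ℐ' hℐ hf
  have hq' : IsGrHom ℐ' 𝒞' q := isGrHom_coarse φ ℐ ℐ' hℐ 𝒞 𝒞' h𝒞 hq
  -- the `ι`-graded side
  obtain ⟨cf, hcf⟩ := exists_cmap E A (isGrHomDeg_zero_of hf)
  obtain ⟨cg, hcg⟩ := exists_cmap A B (isGrHomDeg_zero_of hq)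
  obtain ⟨δ, hδ, h1, h2, h3⟩ := exists_les E A B hf hq hfinj hex hqs a cf hcf cg hcg
  have hvanA : ∀ j, 1 ≤ j → Subsingleton (A.H a j) := by
    intro j hj
    haveI := Groth.Agent.S13217.result R 𝒜 a I ℐ hI j hj
    obtain ⟨e⟩ := Groth.Agent.S13224.main a A j
    exact e.injective.subsingleton
  -- the `κ`-graded side
  obtain ⟨cf', hcf'⟩ := exists_cmap E' F (isGrHomDeg_zero_of hf')
  obtain ⟨cg', hcg'⟩ := exists_cmap F G (isGrHomDeg_zero_of hq')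
  obtain ⟨δ', hδ', h1', h2', h3'⟩ := exists_les E' F G hf' hq' hfinj hex hqs a' cf' hcf' cg' hcg'
  have hvanF : ∀ j, 1 ≤ j → Subsingleton (F.H a' j) := by
    intro j hj
    haveI := Groth.Agent.S13217.result R 𝒜 a I ℐ hI j hj
    obtain ⟨e⟩ := Groth.Agent.S13224.main a' F j
    rw [ha] at e
    exact e.injective.subsingleton
  -- surjectivity of the connecting maps
  have hδs : Function.Surjective (δ i) := by
    intro η
    haveI := hvanA (i + 1) (by omega)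
    exact (h3 i η).mp (Subsingleton.elim _ _)
  have hδs' : Function.Surjective (δ' i) := by
    intro η
    haveI := hvanF (i + 1) (by omega)
    exact (h3' i η).mp (Subsingleton.elim _ _)
  -- the isomorphism for `C`, compatible with the images of `H^i(I)`
  obtain ⟨ψC, hψCgr, hcompat⟩ : ∃ ψC : B.H a i ≃ₗ[R] G.H a' i,
      IsGrHom (fun h : κ => ⨆ g ∈ φ ⁻¹' {h}, B.Hgr a i g) (G.Hgr a' i) ψC.toLinearMap ∧
      ∀ y, y ∈ LinearMap.range (cg.Hmap a i) ↔ ψC y ∈ LinearMap.range (cg'.Hmap a' i) := by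
    rcases Nat.eq_zero_or_pos i with hi | hi
    · subst hi
      obtain ⟨ψ, hψgr, hψ⟩ := psi_zero φ 𝒜 𝒜' a a' ha 𝒞 𝒞' h𝒞 B G
      refine ⟨ψ, hψgr, fun y => ?_⟩
      obtain ⟨c, rfl⟩ := Phi_surjective B a y
      have hc' : c.1 ∈ gam a'.toIdeal C := by rw [ha]; exact c.2
      rw [hψ c.1 c.2 hc']
      constructor
      · rintro ⟨x, hx⟩
        obtain ⟨u, rfl⟩ := Phi_surjective A a x
        rw [Hmap_Phi A B a cg hcg u] at hx
        have hcu := Phi_injective _ a hx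
        have hu' : u.1 ∈ gam a'.toIdeal I := by rw [ha]; exact u.2
        refine ⟨Phi F a' ⟨u.1, hu'⟩, ?_⟩
        rw [Hmap_Phi F G a' cg' hcg' ⟨u.1, hu'⟩]
        congr 1
        apply Subtype.ext
        show q u.1 = c.1
        exact congrArg Subtype.val hcu
      · rintro ⟨x, hx⟩
        obtain ⟨u, rfl⟩ := Phi_surjective F a' x
        rw [Hmap_Phi F G a' cg' hcg' u] at hx
        have hcu := Phi_injective _ a' hx
        have hu' : u.1 ∈ gam a.toIdeal I := by rw [← ha]; exact u.2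
        refine ⟨Phi A a ⟨u.1, hu'⟩, ?_⟩
        rw [Hmap_Phi A B a cg hcg ⟨u.1, hu'⟩]
        congr 1
        apply Subtype.ext
        show q u.1 = c.1
        exact congrArg Subtype.val hcu
    · obtain ⟨ψ, hψgr⟩ := IH C 𝒞 𝒞' h𝒞 B G
      refine ⟨ψ, hψgr, fun y => ?_⟩
      haveI := hvanA i hi
      haveI := hvanF i hi
      constructor
      · rintro ⟨x, rfl⟩
        rw [Subsingleton.elim x 0, map_zero, map_zero]
        exact zero_mem _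
      · rintro ⟨x, hx⟩
        rw [Subsingleton.elim x 0, map_zero] at hx
        have : y = 0 := ψ.injective (by rw [← hx, map_zero])
        rw [this]
        exact zero_mem _
  -- the induced isomorphism
  obtain ⟨ψ, hψ⟩ := exists_equiv_of_surjective (δ i) (δ' i) hδs hδs' ψC (fun y => by
    rw [h2 i y, h2' i (ψC y)]
    exact hcompat y)
  refine ⟨ψ, ?_⟩
  letI := decompositionHgr 𝒜 ℳ a E (i + 1)
  letI := decompositionHgr 𝒜 𝒞 a B i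
  have hδdeg : IsGrHomDeg (B.Hgr a i) (E.Hgr a (i + 1)) (δ i) 0 := fun g ξ hξ => by
    rw [add_zero]; exact hδ i g ξ hξ
  intro h ξ hξ
  refine coarse_induction φ (E.Hgr a (i + 1))
    (P := fun ξ => ψ.toLinearMap ξ ∈ E'.Hgr a' (i + 1) h) hξ ?_ ?_ ?_
  · intro g hg y hy
    obtain ⟨w, hw, rfl⟩ := exists_homogeneous_preimage _ _ hδdeg hy
      (LinearMap.range_eq_top.mpr hδs ▸ Submodule.mem_top)
    rw [sub_zero] at hw
    show ψ (δ i w) ∈ E'.Hgr a' (i + 1) h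
    rw [hψ w]
    apply hδ' i h
    apply hψCgr h w
    exact le_coarse_of_eq φ _ hg hw
  · show ψ.toLinearMap 0 ∈ E'.Hgr a' (i + 1) h
    rw [map_zero]; exact zero_mem _
  · intro y z hy hz
    show ψ.toLinearMap (y + z) ∈ E'.Hgr a' (i + 1) h
    rw [map_add]; exact add_mem hy hz

end Main

end Groth.Agent.Lib.H74Coarse
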