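import Groth.Agent.S5155
import Groth.Agent.S6035
import Groth.Agent.Lib.H29Matlis

set_option autoImplicit false
set_option linter.style.haveILetI false
universe u
open CategoryTheory

namespace Groth.Agent.Lib.H74Coext

section General

variable (A B : Type u) [CommRing A] [CommRing B] [Algebra A B]
  (E : Type u) [AddCommGroup E] [Module A E]

/-- The coextension `Hom_A(B,E)` as a `B`-module. -/
noncomputable abbrev H : ModuleCat.{u} B :=
  (ModuleCat.coextendScalars (algebraMap A B)).obj (ModuleCat.of A E)

variable {A B E}

/-- underlying `A`-linear map of an element of `H`. -/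
noncomputable def ofH (φ : H A B E) : B →ₗ[A] E where
  toFun b := (ModuleCat.CoextendScalars.equiv (algebraMap A B) (ModuleCat.of A E) φ) b
  map_add' x y := map_add _ x y
  map_smul' a x := by
    rw [RingHom.id_apply, Algebra.smul_def]
    exact (ModuleCat.CoextendScalars.equiv (algebraMap A B) (ModuleCat.of A E) φ).map_smul a x

noncomputable def toH (g : B →ₗ[A] E) : H A B E :=
  (ModuleCat.CoextendScalars.equiv (algebraMap A B) (ModuleCat.of A E)).symm
    { toFun := fun b => g b
      map_add' := fun x y => map_add g x y
      map_smul' := fun a x => by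
        obtain ⟨y, rfl⟩ : ∃ y : B, y = x := ⟨x, rfl⟩
        rw [RingHom.id_apply]
        show g (algebraMap A B a * y) = a • g y
        rw [← Algebra.smul_def, map_smul] }

theorem ofH_toH (g : B →ₗ[A] E) : ofH (toH g) = g := by
  ext b
  rfl

theorem toH_ofH (φ : H A B E) : toH (ofH φ) = φ := by
  apply ModuleCat.CoextendScalars.ext
  ext b
  rfl

theorem ofH_injective : Function.Injective (ofH : H A B E → (B →ₗ[A] E)) := by
  intro φ ψ h
  rw [← toH_ofH φ, ← toH_ofH ψ, h]

theorem ofH_smul (c : B) (φ : H A B E) (b : B) : ofH (c • φ) b = ofH φ (b * c) := rfl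

theorem ofH_add (φ ψ : H A B E) : ofH (φ + ψ) = ofH φ + ofH ψ := by
  ext b
  rfl

theorem ofH_zero : ofH (0 : H A B E) = 0 := by
  ext b
  rfl

theorem injective_H [Module.Injective A E] : Module.Injective B (H A B E) := by
  have h1 : Injective (ModuleCat.of A E) := Module.injective_object_of_injective_module A E
  have h2 : Injective ((ModuleCat.coextendScalars (algebraMap A B)).obj (ModuleCat.of A E)) :=
    Injective.injective_of_adjoint (ModuleCat.restrictCoextendScalarsAdj (algebraMap A B)) _
  exact Module.injective_module_of_injective_object B _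

theorem ofH_algebraMap_smul (a : A) (φ : H A B E) (b : B) :
    ofH (algebraMap A B a • φ) b = a • ofH φ b := by
  rw [ofH_smul, mul_comm, ← Algebra.smul_def, map_smul]

/-- every element of `Hom_A(B,E)` is killed by the extension of a power of `I`, if `E` is
`I`-power torsion and `B` is finite over `A`. -/
theorem exists_map_pow_smul_eq_zero [Module.Finite A B] (I : Ideal A)
    (hE : LocCoh.IsPowerTorsion I E) (φ : H A B E) :
    ∃ n : ℕ, ∀ c ∈ (I ^ n).map (algebraMap A B), c • φ = 0 := by
  classical
  obtain ⟨s, hs⟩ := (Module.Finite.fg_top : (⊤ : Submodule A B).FG)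
  choose nb hnb using fun b : B => hE (ofH φ b)
  refine ⟨s.sup nb, ?_⟩
  have hall : ∀ x : B, ∀ a ∈ I ^ (s.sup nb), a • ofH φ x = 0 := by
    intro x
    have hx : x ∈ Submodule.span A (s : Set B) := by rw [hs]; trivial
    induction hx using Submodule.span_induction with
    | mem y hy =>
      intro a ha
      exact hnb y a (Ideal.pow_le_pow_right (Finset.le_sup (f := nb) hy) ha)
    | zero => intro a _; rw [map_zero, smul_zero]
    | add y z _ _ ihy ihz =>
      intro a ha
      rw [map_add, smul_add, ihy a ha, ihz a ha, add_zero]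
    | smul r y _ ihy =>
      intro a ha
      rw [map_smul, smul_comm, ihy a ha, smul_zero]
  have hle : (I ^ (s.sup nb)).map (algebraMap A B) ≤ Ideal.torsionOf B (H A B E) φ := by
    rw [Ideal.map_le_iff_le_comap]
    intro a ha
    rw [Ideal.mem_comap, Ideal.mem_torsionOf_iff]
    apply ofH_injective
    ext b
    rw [ofH_algebraMap_smul, hall b a ha, ofH_zero]
    rfl
  intro c hc
  exact (Ideal.mem_torsionOf_iff _ _).mp (hle hc)

end General

end Groth.Agent.Lib.H74Coext
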