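import Groth.Agent.Lib.H74Coext1

set_option autoImplicit false
set_option linter.style.haveILetI false
universe u
open CategoryTheory IsLocalRing

namespace Groth.Agent.Lib.H74Coext

section Loc

variable {A B : Type u} [CommRing A] [CommRing B] [Algebra A B] [IsLocalRing A]
  [Algebra.IsIntegral A B]

/-- for a maximal ideal `n` of an integral extension `B` of local `A`, `m_A B ⊆ n`. -/
theorem algebraMap_mem_of_mem_maximalIdeal (n : Ideal B) [n.IsMaximal] {a : A}
    (ha : a ∈ maximalIdeal A) : algebraMap A B a ∈ n := by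
  have h1 : (n.comap (algebraMap A B)).IsMaximal :=
    Ideal.isMaximal_comap_of_isIntegral_of_isMaximal n
  have h2 : n.comap (algebraMap A B) = maximalIdeal A := IsLocalRing.eq_maximalIdeal h1
  have : a ∈ n.comap (algebraMap A B) := by rw [h2]; exact ha
  exact this

/-- In a Noetherian local `B` integral over local `A`, a power of `m_B` lies in `m_A^n B`. -/
theorem exists_pow_le_map [IsLocalRing B] [IsNoetherianRing B] (n : ℕ) :
    ∃ N : ℕ, maximalIdeal B ^ N ≤ (maximalIdeal A ^ n).map (algebraMap A B) := by
  set I := (maximalIdeal A ^ n).map (algebraMap A B) with hI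
  have hrad : maximalIdeal B ≤ I.radical := by
    rw [Ideal.radical_eq_sInf]
    refine le_sInf ?_
    rintro P ⟨hIP, hP⟩
    have h1 : maximalIdeal A ^ n ≤ P.comap (algebraMap A B) := Ideal.map_le_iff_le_comap.mp hIP
    have h2 : maximalIdeal A ≤ P.comap (algebraMap A B) :=
      (Ideal.IsPrime.comap (algebraMap A B)).le_of_pow_le h1
    have h3 : P.comap (algebraMap A B) = maximalIdeal A :=
      ((maximalIdeal.isMaximal A).eq_of_le (Ideal.IsPrime.comap (algebraMap A B)).ne_top h2).symm
    have h4 : P.IsMaximal := by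
      apply Ideal.isMaximal_of_isIntegral_of_isMaximal_comap (R := A) P
      rw [h3]
      exact maximalIdeal.isMaximal A
    rw [IsLocalRing.eq_maximalIdeal h4]
  obtain ⟨N, hN⟩ := Ideal.exists_radical_pow_le_of_fg I (IsNoetherian.noetherian _)
  exact ⟨N, (Ideal.pow_right_mono hrad N).trans hN⟩

end Loc

end Groth.Agent.Lib.H74Coext
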