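import Groth.Agent.Lib.H74Coext2

set_option autoImplicit false
set_option linter.style.haveILetI false
set_option linter.unusedSectionVars false
universe u
open CategoryTheory IsLocalRing

namespace Groth.Agent.Lib.H74Coext

section Soc

variable {A B : Type u} [CommRing A] [CommRing B] [Algebra A B] [IsLocalRing A]
  [IsNoetherianRing A] [Module.Finite A B]
  {E : Type u} [AddCommGroup E] [Module A E] (n : Ideal B) [n.IsMaximal]

theorem smul_quot_eq_zero {a : A} (ha : a ∈ maximalIdeal A) (x : B ⧸ n) : a • x = 0 := by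
  obtain ⟨b, rfl⟩ := Submodule.Quotient.mk_surjective n x
  rw [← algebraMap_smul B a, ← Submodule.Quotient.mk_smul, Submodule.Quotient.mk_eq_zero,
    smul_eq_mul]
  exact n.mul_mem_right _ (algebraMap_mem_of_mem_maximalIdeal n ha)

theorem isFiniteLength_quot : IsFiniteLength A (B ⧸ n) := by
  have hT : Module.IsTorsionBySet A (B ⧸ n) (maximalIdeal A : Set A) := by
    intro x a
    exact smul_quot_eq_zero n a.2 x
  letI := hT.module
  haveI : IsScalarTower A (A ⧸ maximalIdeal A) (B ⧸ n) := hT.isScalarTower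
  letI : Field (A ⧸ maximalIdeal A) := Ideal.Quotient.field _
  haveI : Module.Finite (A ⧸ maximalIdeal A) (B ⧸ n) :=
    Module.Finite.of_restrictScalars_finite A (A ⧸ maximalIdeal A) (B ⧸ n)
  haveI : IsArtinian (A ⧸ maximalIdeal A) (B ⧸ n) := isArtinian_of_fg_of_artinian' 
  haveI : IsArtinian A (B ⧸ n) :=
    isArtinian_of_surjective_algebraMap (R := A ⧸ maximalIdeal A) Ideal.Quotient.mk_surjective
  rw [isFiniteLength_iff_isNoetherian_isArtinian]
  exact ⟨inferInstance, inferInstance⟩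

/-- the `A`-linear functional on `B ⧸ n` attached to a `B`-linear map `B ⧸ n → Hom_A(B,E)`. -/
noncomputable def bar (u : (B ⧸ n) →ₗ[B] H A B E) : (B ⧸ n) →ₗ[A] E where
  toFun x := ofH (u x) 1
  map_add' x y := by rw [map_add, ofH_add]; rfl
  map_smul' a x := by
    rw [RingHom.id_apply, ← algebraMap_smul B a x, map_smul, ofH_algebraMap_smul]

theorem bar_apply (u : (B ⧸ n) →ₗ[B] H A B E) (x : B ⧸ n) : bar n u x = ofH (u x) 1 := rfl

theorem ofH_apply_eq_bar (u : (B ⧸ n) →ₗ[B] H A B E) (x : B ⧸ n) (b : B) :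
    ofH (u x) b = bar n u (b • x) := by
  rw [bar_apply, map_smul, ofH_smul, one_mul]

theorem bar_injective : Function.Injective (bar n : ((B ⧸ n) →ₗ[B] H A B E) → _) := by
  intro u v h
  refine LinearMap.ext fun x => ?_
  apply ofH_injective
  refine LinearMap.ext fun b => ?_
  rw [ofH_apply_eq_bar, ofH_apply_eq_bar, h]

theorem bar_smul (c : B) (u : (B ⧸ n) →ₗ[B] H A B E) (x : B ⧸ n) :
    bar n (c • u) x = bar n u (c • x) := by
  rw [bar_apply, LinearMap.smul_apply, ofH_smul, one_mul, ofH_apply_eq_bar]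

/-- the `B`-linear map `B ⧸ n → Hom_A(B,E)` attached to a functional. -/
noncomputable def unbar (g : (B ⧸ n) →ₗ[A] E) : (B ⧸ n) →ₗ[B] H A B E where
  toFun x := toH (g ∘ₗ (LinearMap.toSpanSingleton B (B ⧸ n) x).restrictScalars A)
  map_add' x y := by
    apply ofH_injective
    refine LinearMap.ext fun b => ?_
    rw [ofH_add, ofH_toH, LinearMap.add_apply, ofH_toH, ofH_toH]
    simp
  map_smul' c x := by
    apply ofH_injective
    refine LinearMap.ext fun b => ?_
    rw [RingHom.id_apply, ofH_smul, ofH_toH, ofH_toH]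
    simp [mul_smul]

theorem bar_unbar (g : (B ⧸ n) →ₗ[A] E) : bar n (unbar n g) = g := by
  refine LinearMap.ext fun x => ?_
  rw [bar_apply]
  show ofH (toH _) 1 = _
  rw [ofH_toH]
  simp

theorem bar_zero : bar n (0 : (B ⧸ n) →ₗ[B] H A B E) = 0 := by
  refine LinearMap.ext fun x => ?_
  rw [bar_apply, LinearMap.zero_apply, ofH_zero]
  rfl

theorem exists_smul_eq_of_ne_zero {x : B ⧸ n} (hx : x ≠ 0) (y : B ⧸ n) : ∃ b : B, b • x = y := by
  obtain ⟨b0, rfl⟩ := Submodule.Quotient.mk_surjective n x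
  obtain ⟨c, rfl⟩ := Submodule.Quotient.mk_surjective n y
  have hb0 : b0 ∉ n := fun h => hx ((Submodule.Quotient.mk_eq_zero n).mpr h)
  obtain ⟨b1, i, hi, h1⟩ := Ideal.IsMaximal.exists_inv (inferInstance : n.IsMaximal) hb0
  refine ⟨c * b1, ?_⟩
  rw [← Submodule.Quotient.mk_smul, Submodule.Quotient.eq, smul_eq_mul]
  have : c * b1 * b0 - c = -(c * i) := by
    have : b1 * b0 = 1 - i := by rw [← h1]; ring
    rw [mul_assoc, this]; ring
  rw [this]
  exact n.neg_mem (n.mul_mem_left _ hi)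

variable (f : ResidueField A →ₗ[A] E) (hf : _root_.InjHull.IsInjectiveHull f)

include hf in
theorem exists_smul_eq (u v : (B ⧸ n) →ₗ[B] H A B E) (hu : u ≠ 0) : ∃ b : B, b • u = v := by
  classical
  by_contra hno
  push Not at hno
  let θ : B →ₗ[A] ((B ⧸ n) →ₗ[A] E) :=
    { toFun := fun b => bar n (b • u)
      map_add' := fun b b' => by
        refine LinearMap.ext fun x => ?_
        rw [LinearMap.add_apply, bar_smul, bar_smul, bar_smul, add_smul, map_add]
      map_smul' := fun a b => by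
        refine LinearMap.ext fun x => ?_
        rw [RingHom.id_apply, LinearMap.smul_apply, bar_smul, bar_smul, smul_assoc, map_smul] }
  have hθ : ∀ b, θ b = bar n (b • u) := fun b => rfl
  let Y : Submodule A ((B ⧸ n) →ₗ[A] E) := LinearMap.range θ
  have hvY : bar n v ∉ Y := by
    rintro ⟨b, hb⟩
    exact hno b (bar_injective n hb)
  have hq : (Y.mkQ (bar n v)) ≠ 0 := by
    intro h
    exact hvY ((Submodule.Quotient.mk_eq_zero Y).mp h)
  obtain ⟨ξ', hξ'⟩ := Groth.Agent.Lib.H29Matlis.exists_dual_ne_zero f hf _ hq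
  obtain ⟨x, hx⟩ := (Groth.Agent.S6035.result A E f hf (B ⧸ n) (isFiniteLength_quot n)).2
    (ξ' ∘ₗ Y.mkQ)
  have hx' : ∀ d : (B ⧸ n) →ₗ[A] E, d x = ξ' (Y.mkQ d) := by
    intro d
    have := LinearMap.congr_fun hx d
    simpa using this
  have h0 : ∀ b : B, bar n u (b • x) = 0 := by
    intro b
    rw [← bar_smul, ← hθ, hx']
    have : Y.mkQ (θ b) = 0 := (Submodule.Quotient.mk_eq_zero Y).mpr ⟨b, rfl⟩
    rw [this, map_zero]
  have hxne : x ≠ 0 := by
    rintro rfl
    apply hξ'
    rw [← hx', map_zero]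
  apply hu
  apply bar_injective n
  rw [bar_zero]
  refine LinearMap.ext fun y => ?_
  obtain ⟨b, rfl⟩ := exists_smul_eq_of_ne_zero n hxne y
  rw [h0, LinearMap.zero_apply]

include hf in
theorem isSimpleModule_hom : IsSimpleModule B ((B ⧸ n) →ₗ[B] H A B E) := by
  rw [isSimpleModule_iff_toSpanSingleton_surjective]
  refine ⟨?_, fun u hu v => ?_⟩
  · letI : Field (B ⧸ n) := Ideal.Quotient.field n
    obtain ⟨g, hg⟩ := Groth.Agent.Lib.H29Matlis.exists_dual_ne_zero f hf (1 : B ⧸ n) one_ne_zero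
    refine ⟨⟨unbar n g, 0, ?_⟩⟩
    intro h
    apply hg
    rw [← bar_unbar n g, h, bar_zero, LinearMap.zero_apply]
  · obtain ⟨b, hb⟩ := exists_smul_eq n f hf u v hu
    exact ⟨b, hb⟩

end Soc

end Groth.Agent.Lib.H74Coext
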