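import Groth.Agent.Lib.H74Coext3
import Groth.Agent.Lib.H29TorsionInj

set_option autoImplicit false
set_option linter.style.haveILetI false
set_option linter.unusedSectionVars false
universe u
open CategoryTheory IsLocalRing

namespace Groth.Agent.Lib.H74Coext

section Decomp

variable {B : Type u} [CommRing B] {M : Type u} [AddCommGroup M] [Module B M]

/-- power torsion submodules at distinct maximal ideals are independent. -/
theorem iSupIndep_torsionSub :
    iSupIndep (fun n : MaximalSpectrum B => DRing.torsionSub n.asIdeal M) := by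
  rw [iSupIndep_def]
  intro n
  rw [Submodule.disjoint_def]
  intro x hxn hx
  have key : ∃ K : Ideal B, K ⊔ n.asIdeal = ⊤ ∧ ∀ c ∈ K, c • x = 0 := by
    refine Submodule.iSup_induction _
      (motive := fun y => ∃ K : Ideal B, K ⊔ n.asIdeal = ⊤ ∧ ∀ c ∈ K, c • y = 0) hx ?_ ?_ ?_
    · intro j y hy
      by_cases hj : j = n
      · rw [iSup_neg (by simpa using hj), Submodule.mem_bot] at hy
        exact ⟨⊤, by simp, fun c _ => by rw [hy, smul_zero]⟩
      · rw [iSup_pos hj] at hy
        obtain ⟨k, hk⟩ := hy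
        refine ⟨j.asIdeal ^ k, Ideal.pow_sup_eq_top ?_, hk⟩
        exact j.isMaximal.coprime_of_ne n.isMaximal
          (fun h => hj (MaximalSpectrum.ext h))
    · exact ⟨⊤, by simp, fun c _ => smul_zero c⟩
    · rintro y z ⟨K1, h1, hy⟩ ⟨K2, h2, hz⟩
      refine ⟨K1 * K2, ?_, fun c hc => ?_⟩
      · have h3 : IsCoprime (K1 * K2) n.asIdeal :=
          IsCoprime.mul_left (Ideal.isCoprime_iff_sup_eq.mpr h1) (Ideal.isCoprime_iff_sup_eq.mpr h2)
        exact Ideal.isCoprime_iff_sup_eq.mp h3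
      · have hc1 : c ∈ K1 := (Ideal.mul_le_left (I := K1) (J := K2)) hc
        have hc2 : c ∈ K2 := (Ideal.mul_le_right (I := K1) (J := K2)) hc
        rw [smul_add, hy c hc1, hz c hc2, add_zero]
  obtain ⟨K, hK, hKx⟩ := key
  obtain ⟨k, hk⟩ := hxn
  have h1 : (1 : B) ∈ K ⊔ n.asIdeal ^ k := by
    rw [Ideal.sup_pow_eq_top hK]; trivial
  obtain ⟨a, ha, b, hb, hab⟩ := Submodule.mem_sup.mp h1
  rw [← one_smul B x, ← hab, add_smul, hKx a ha, hk b hb, add_zero]

/-- an element killed by an ideal all of whose primes are maximal lies in the sum of the power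
torsion submodules at maximal ideals. -/
theorem mem_iSup_torsionSub [IsNoetherianRing B] (I : Ideal B)
    (hI : ∀ P : Ideal B, P.IsPrime → I ≤ P → P.IsMaximal) (x : M) (hx : ∀ c ∈ I, c • x = 0) :
    x ∈ ⨆ n : MaximalSpectrum B, DRing.torsionSub n.asIdeal M := by
  classical
  have hfin := I.finite_minimalPrimes_of_isNoetherianRing B
  let s := hfin.toFinset
  obtain ⟨N, hN⟩ := Ideal.exists_radical_pow_le_of_fg I (IsNoetherian.noetherian _)
  have hmax : ∀ P ∈ s, P.IsMaximal := by
    intro P hP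
    have hP' : P ∈ I.minimalPrimes := hfin.mem_toFinset.mp hP
    exact hI P hP'.1.1 hP'.1.2
  have hpair : (s : Set (Ideal B)).Pairwise fun P Q => P ^ N ⊔ Q ^ N = ⊤ := fun P hP Q hQ hne =>
    Ideal.pow_sup_pow_eq_top ((hmax P hP).coprime_of_ne (hmax Q hQ) hne)
  have h1 : (⨅ P ∈ s, P ^ N) ≤ I := by
    rw [← Ideal.prod_eq_iInf_of_pairwise_isCoprime (s := s) (J := fun P => P ^ N)
      (fun P hP Q hQ hne => Ideal.isCoprime_iff_sup_eq.mpr (hpair hP hQ hne)), Finset.prod_pow]
    refine le_trans (Ideal.pow_right_mono ?_ N) hN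
    rw [← Ideal.sInf_minimalPrimes]
    refine le_trans Ideal.prod_le_inf ?_
    exact le_sInf fun P hP => Finset.inf_le (f := fun P => P) (hfin.mem_toFinset.mpr hP)
  have h2 : x ∈ Submodule.torsionBySet B M ((⨅ P ∈ s, P ^ N : Ideal B) : Set B) :=
    (Submodule.mem_torsionBySet_iff _ _).mpr fun c => hx c (h1 c.2)
  rw [← Submodule.iSup_torsionBySet_ideal_eq_torsionBySet_iInf hpair] at h2
  refine SetLike.le_def.mp (iSup₂_le ?_) h2
  intro P hP
  refine le_trans ?_ (le_iSup _ (⟨P, hmax P hP⟩ : MaximalSpectrum B))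
  intro y hy
  exact ⟨N, fun c hc => (Submodule.mem_torsionBySet_iff _ _).mp hy ⟨c, hc⟩⟩

end Decomp

end Groth.Agent.Lib.H74Coext
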