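import Groth.Agent.Lib.H74Coext4

set_option autoImplicit false
set_option linter.style.haveILetI false
set_option linter.unusedSectionVars false
universe u
open CategoryTheory IsLocalRing

namespace Groth.Agent.Lib.H74Coext

section Hull

variable {B : Type u} [CommRing B] {M : Type u} [AddCommGroup M] [Module B M]

/-- In a module, an element killed by a power of `I` has a nonzero multiple killed by `I`. -/
theorem exists_socle_multiple' (I : Ideal B) (k : ℕ) : ∀ (x : M), x ≠ 0 →
    (∀ a ∈ I ^ k, a • x = 0) → ∃ b : B, b • x ≠ 0 ∧ ∀ a ∈ I, a • (b • x) = 0 := by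
  induction k with
  | zero =>
    intro x hx h
    exact absurd (by simpa using h 1 (by simp)) hx
  | succ k ih =>
    intro x hx h
    by_cases hn : ∀ a ∈ I ^ k, a • x = 0
    · exact ih x hx hn
    · push Not at hn
      obtain ⟨b, hb, hbx⟩ := hn
      refine ⟨b, hbx, fun a ha => ?_⟩
      rw [smul_smul]
      apply h
      rw [pow_succ']
      exact Ideal.mul_mem_mul ha hb

/-- hull criterion at a maximal ideal of a Noetherian ring. -/
theorem exists_isInjectiveHull_torsionSub [IsNoetherianRing B] (n : Ideal B) [n.IsMaximal]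
    (hinj : Module.Injective B M) (u : (B ⧸ n) →ₗ[B] M) (hu : u ≠ 0)
    (hsimple : ∀ v : (B ⧸ n) →ₗ[B] M, ∃ b : B, b • u = v) :
    ∃ g : (B ⧸ n) →ₗ[B] DRing.torsionSub n M, _root_.InjHull.IsInjectiveHull g := by
  have hS : IsSimpleModule B (B ⧸ n) :=
    isSimpleModule_iff_isCoatom.mpr (Ideal.isMaximal_def.mp inferInstance)
  have hmem : ∀ x, u x ∈ DRing.torsionSub n M := by
    intro x
    refine ⟨1, fun c hc => ?_⟩
    rw [pow_one] at hc
    rw [← map_smul]
    obtain ⟨b, rfl⟩ := Submodule.Quotient.mk_surjective n x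
    rw [← Submodule.Quotient.mk_smul, (Submodule.Quotient.mk_eq_zero n).mpr, map_zero]
    rw [smul_eq_mul]
    exact n.mul_mem_right _ hc
  let g : (B ⧸ n) →ₗ[B] DRing.torsionSub n M := u.codRestrict _ hmem
  have hg : ∀ x, ((g x : DRing.torsionSub n M) : M) = u x := fun x => rfl
  have huinj : Function.Injective u := LinearMap.injective_of_ne_zero (R := B) (M := B ⧸ n) hu
  refine ⟨g, ⟨⟨?_, ?_⟩, Groth.Agent.Lib.H29TorsionInj.injective_torsionSub n M hinj⟩⟩
  · intro x y hxy
    apply huinj
    rw [← hg, ← hg, hxy]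
  · intro N hN
    obtain ⟨x, hxN, hx0⟩ := (Submodule.ne_bot_iff N).mp hN
    obtain ⟨k, hk⟩ := x.2
    have hx0' : (x : M) ≠ 0 := fun h => hx0 (Subtype.ext h)
    obtain ⟨b, hbx, hb⟩ := exists_socle_multiple' n k (x : M) hx0' hk
    rw [Submodule.ne_bot_iff]
    refine ⟨b • x, ⟨N.smul_mem b hxN, ?_⟩, fun h => hbx (by simpa using congrArg Subtype.val h)⟩
    have hker : n ≤ LinearMap.ker (LinearMap.toSpanSingleton B M (b • (x : M))) := by
      intro a ha
      rw [LinearMap.mem_ker, LinearMap.toSpanSingleton_apply]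
      exact hb a ha
    let v : (B ⧸ n) →ₗ[B] M := n.liftQ _ hker
    have hv1 : v (Submodule.Quotient.mk 1) = b • (x : M) := by
      show (1 : B) • (b • (x : M)) = _
      rw [one_smul]
    obtain ⟨c, hc⟩ := hsimple v
    refine ⟨c • Submodule.Quotient.mk 1, ?_⟩
    apply Subtype.ext
    rw [hg, map_smul, ← LinearMap.smul_apply, hc, hv1]
    rfl

end Hull

section Main

variable (A B : Type u) [CommRing A] [IsLocalRing A] [IsNoetherianRing A] [CommRing B]
  [Algebra A B] [Module.Finite A B] (E : Type u) [AddCommGroup E] [Module A E]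
  (f : ResidueField A →ₗ[A] E) (hf : _root_.InjHull.IsInjectiveHull f)

theorem isMaximal_of_map_pow_le (k : ℕ) (P : Ideal B) [P.IsPrime]
    (hP : (maximalIdeal A ^ k).map (algebraMap A B) ≤ P) : P.IsMaximal := by
  haveI : Algebra.IsIntegral A B := Algebra.IsIntegral.of_finite A B
  have h1 : maximalIdeal A ^ k ≤ P.comap (algebraMap A B) := Ideal.map_le_iff_le_comap.mp hP
  have h2 : maximalIdeal A ≤ P.comap (algebraMap A B) :=
    (Ideal.IsPrime.comap (algebraMap A B)).le_of_pow_le h1
  have h3 : P.comap (algebraMap A B) = maximalIdeal A :=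
    ((maximalIdeal.isMaximal A).eq_of_le (Ideal.IsPrime.comap (algebraMap A B)).ne_top h2).symm
  apply Ideal.isMaximal_of_isIntegral_of_isMaximal_comap (R := A) P
  rw [h3]
  exact maximalIdeal.isMaximal A

include hf in
theorem main : ∃ J : MaximalSpectrum B → Submodule B (H A B E),
    iSupIndep J ∧ iSup J = ⊤ ∧ ∀ n : MaximalSpectrum B,
      ∃ g : (B ⧸ n.asIdeal) →ₗ[B] J n, _root_.InjHull.IsInjectiveHull g := by
  haveI : IsNoetherianRing B := IsNoetherianRing.of_finite A B
  haveI : Module.Injective A E := hf.isInjective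
  refine ⟨fun n => DRing.torsionSub n.asIdeal (H A B E), iSupIndep_torsionSub, ?_, ?_⟩
  · rw [eq_top_iff]
    intro φ _
    obtain ⟨k, hk⟩ := exists_map_pow_smul_eq_zero (maximalIdeal A)
      (Groth.Agent.S0311.result A E f hf) φ
    exact mem_iSup_torsionSub _ (fun P hP hle => isMaximal_of_map_pow_le A B k P hle) φ hk
  · intro n
    haveI := n.isMaximal
    have hs := isSimpleModule_hom n.asIdeal f hf (B := B)
    haveI : Nontrivial ((B ⧸ n.asIdeal) →ₗ[B] H A B E) := IsSimpleModule.nontrivial B _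
    obtain ⟨u, hu⟩ := exists_ne (0 : (B ⧸ n.asIdeal) →ₗ[B] H A B E)
    exact exists_isInjectiveHull_torsionSub n.asIdeal injective_H u hu
      (fun v => exists_smul_eq n.asIdeal f hf u v hu)

end Main

end Groth.Agent.Lib.H74Coext
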