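import Groth.Agent.Lib.H74Coarse1
import Groth.Agent.Lib.H74GrDim2

/-! Coarsened gradings of rings: `GradedRing (coarse φ 𝒜)`, homogeneity transfer, the two-step
lemma, and cores. -/

set_option autoImplicit false
set_option linter.unusedSectionVars false
universe u

namespace Groth.Agent.Lib.H74Core

open DirectSum Groth.Agent.Lib.H74Coarse

section Ring

variable {ι κ : Type} [AddCommGroup ι] [DecidableEq ι] [AddCommGroup κ] [DecidableEq κ]
  (φ : ι →+ κ)
variable {R : Type u} [CommRing R] (𝒜 : ι → AddSubgroup R) [GradedRing 𝒜]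

theorem coarse_gradedMonoid : SetLike.GradedMonoid (coarse φ 𝒜) where
  one_mem := le_coarse_of_eq φ 𝒜 (map_zero φ) (SetLike.GradedOne.one_mem (A := 𝒜))
  mul_mem := by
    intro i j a b ha hb
    refine coarse_induction φ 𝒜 (P := fun a => a * b ∈ coarse φ 𝒜 (i + j)) ha ?_ ?_ ?_
    · intro g hg s hs
      refine coarse_induction φ 𝒜 (P := fun b => s * b ∈ coarse φ 𝒜 (i + j)) hb ?_ ?_ ?_
      · intro g' hg' t ht
        exact le_coarse_of_eq φ 𝒜 (by rw [map_add, hg, hg'])
          (SetLike.GradedMul.mul_mem (A := 𝒜) hs ht)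
      · rw [mul_zero]; exact zero_mem _
      · intro y z hy hz; rw [mul_add]; exact add_mem hy hz
    · rw [zero_mul]; exact zero_mem _
    · intro y z hy hz; rw [add_mul]; exact add_mem hy hz

/-- The coarsened grading of a graded ring is a ring grading. -/
@[instance_reducible]
noncomputable def coarseGradedRing : GradedRing (coarse φ 𝒜) :=
  { coarse_gradedMonoid φ 𝒜, coarseDecomposition φ 𝒜 with }

end Ring

end Groth.Agent.Lib.H74Core
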