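import Groth.Agent.Lib.H74Core1

set_option autoImplicit false
set_option linter.unusedSectionVars false
universe u

namespace Groth.Agent.Lib.H74Core

open DirectSum Groth.Agent.Lib.H74Coarse

section Abstract

variable {R : Type u} [CommRing R]
variable {ι κ₁ κ₂ : Type} [AddCommGroup ι] [DecidableEq ι] [AddCommGroup κ₁] [DecidableEq κ₁]
  [AddCommGroup κ₂] [DecidableEq κ₂]
variable (𝒜 : ι → AddSubgroup R) [GradedRing 𝒜] (𝒜₁ : κ₁ → AddSubgroup R) [GradedRing 𝒜₁]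
  (𝒜₂ : κ₂ → AddSubgroup R) [GradedRing 𝒜₂]

/-- Transfer of homogeneity to a coarser grading. -/
theorem isHomogeneous_of_le (hAB : ∀ g, ∃ h, 𝒜 g ≤ 𝒜₁ h) {I : Ideal R}
    (hI : I.IsHomogeneous 𝒜) : I.IsHomogeneous 𝒜₁ := by
  obtain ⟨S, rfl⟩ := (Ideal.IsHomogeneous.iff_exists 𝒜 I).mp hI
  apply Ideal.homogeneous_span
  rintro _ ⟨x, _, rfl⟩
  obtain ⟨g, hg⟩ := x.2
  obtain ⟨h, hh⟩ := hAB g
  exact ⟨h, hh hg⟩

/-- The `𝒜₁`-core of an `𝒜₂`-homogeneous ideal is `𝒜₂`-homogeneous, when the `𝒜₂`-components of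
`𝒜₁`-homogeneous elements stay `𝒜₁`-homogeneous. -/
theorem isHomogeneous_core
    (H : ∀ h x, x ∈ 𝒜₁ h → ∀ b, (decompose 𝒜₂ x b : R) ∈ 𝒜₁ h) {q : Ideal R}
    (hq : q.IsHomogeneous 𝒜₂) : (q.homogeneousCore 𝒜₁).toIdeal.IsHomogeneous 𝒜₂ := by
  classical
  let T : Set R := {y | SetLike.IsHomogeneousElem 𝒜₂ y ∧ SetLike.IsHomogeneousElem 𝒜₁ y ∧ y ∈ q}
  have hT : (q.homogeneousCore 𝒜₁).toIdeal = Ideal.span T := by
    apply le_antisymm
    · show q.homogeneousCore' 𝒜₁ ≤ _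
      unfold Ideal.homogeneousCore'
      rw [Ideal.span_le]
      rintro _ ⟨x, hx, rfl⟩
      obtain ⟨h, hh⟩ := x.2
      rw [← DirectSum.sum_support_decompose 𝒜₂ (x : R)]
      refine Ideal.sum_mem _ (fun b _ => Ideal.subset_span ?_)
      exact ⟨⟨b, (decompose 𝒜₂ (x : R) b).2⟩, ⟨h, H h _ hh b⟩, hq b hx⟩
    · rw [Ideal.span_le]
      rintro y ⟨-, hy1, hyq⟩
      exact Ideal.mem_homogeneousCore_of_homogeneous_of_mem hy1 hyq
  rw [hT]
  apply Ideal.homogeneous_span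
  rintro y ⟨hy, -, -⟩
  exact hy

/-- Two-step lemma. -/
theorem isHomogeneous_of_two
    (F : ∀ (x : R) (g : ι), ∃ h b,
      (decompose 𝒜 x g : R) = (decompose 𝒜₂ (decompose 𝒜₁ x h : R) b : R))
    {I : Ideal R} (h1 : I.IsHomogeneous 𝒜₁) (h2 : I.IsHomogeneous 𝒜₂) : I.IsHomogeneous 𝒜 := by
  intro g x hx
  obtain ⟨h, b, e⟩ := F x g
  rw [e]
  exact h2 b (h1 h hx)

end Abstract

section Coarse

variable {ι κ κ' : Type} [AddCommGroup ι] [DecidableEq ι] [AddCommGroup κ] [DecidableEq κ]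
  [AddCommGroup κ'] [DecidableEq κ']
variable {R : Type u} [CommRing R] (𝒜 : ι → AddSubgroup R) [GradedRing 𝒜]

attribute [local instance] coarseDecomposition coarseGradedRing

theorem coe_decompose_coarse_of_mem (φ : ι →+ κ) {g : ι} {x : R} (hx : x ∈ 𝒜 g) (h : κ) :
    (decompose (coarse φ 𝒜) x h : R) = if φ g = h then x else 0 := by
  have hx' : x ∈ coarse φ 𝒜 (φ g) := le_coarse φ 𝒜 g hx
  split_ifs with hh
  · subst hh; rw [decompose_of_mem_same _ hx']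
  · rw [decompose_of_mem_ne _ hx' hh]

theorem isHomogeneous_coarse (φ : ι →+ κ) {I : Ideal R} (hI : I.IsHomogeneous 𝒜) :
    I.IsHomogeneous (coarse φ 𝒜) :=
  isHomogeneous_of_le 𝒜 (coarse φ 𝒜) (fun g => ⟨φ g, le_coarse φ 𝒜 g⟩) hI

theorem coe_decompose_coarse_mem_coarse (π : ι →+ κ) (ψ : ι →+ κ') {h : κ} {x : R}
    (hx : x ∈ coarse π 𝒜 h) (b : κ') : (decompose (coarse ψ 𝒜) x b : R) ∈ coarse π 𝒜 h := by
  refine coarse_induction π 𝒜
    (P := fun x => (decompose (coarse ψ 𝒜) x b : R) ∈ coarse π 𝒜 h) hx ?_ ?_ ?_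
  · intro g hg y hy
    rw [coe_decompose_coarse_of_mem 𝒜 ψ hy]
    split_ifs
    · exact le_coarse_of_eq π 𝒜 hg hy
    · exact zero_mem _
  · rw [decompose_zero]; exact zero_mem _
  · intro y z hy hz
    rw [decompose_add, DirectSum.add_apply, AddMemClass.coe_add]
    exact add_mem hy hz

theorem isHomogeneous_core_coarse (π : ι →+ κ) (ψ : ι →+ κ') {q : Ideal R}
    (hq : q.IsHomogeneous (coarse ψ 𝒜)) :
    (q.homogeneousCore (coarse π 𝒜)).toIdeal.IsHomogeneous (coarse ψ 𝒜) :=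
  isHomogeneous_core (coarse π 𝒜) (coarse ψ 𝒜)
    (fun _ _ hx b => coe_decompose_coarse_mem_coarse 𝒜 π ψ hx b) hq

theorem coe_decompose_two (π : ι →+ κ) (ψ : ι →+ κ')
    (hinj : ∀ g g' : ι, π g = π g' → ψ g = ψ g' → g = g') (x : R) (g : ι) :
    (decompose 𝒜 x g : R) =
      (decompose (coarse ψ 𝒜) (decompose (coarse π 𝒜) x (π g) : R) (ψ g) : R) := by
  induction x using Decomposition.inductionOn 𝒜 with
  | zero => simp
  | @homogeneous g' x =>
    rw [coe_decompose_coarse_of_mem 𝒜 π x.2]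
    by_cases h1 : π g' = π g
    · rw [if_pos h1, coe_decompose_coarse_of_mem 𝒜 ψ x.2]
      by_cases h2 : ψ g' = ψ g
      · rw [if_pos h2]
        have : g' = g := hinj g' g h1 h2
        subst this
        rw [decompose_of_mem_same 𝒜 x.2]
      · rw [if_neg h2]
        have : g' ≠ g := fun e => h2 (by rw [e])
        rw [decompose_of_mem_ne 𝒜 x.2 this]
    · rw [if_neg h1, decompose_zero, DirectSum.zero_apply, ZeroMemClass.coe_zero]
      have : g' ≠ g := fun e => h1 (by rw [e])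
      rw [decompose_of_mem_ne 𝒜 x.2 this]
  | add x y hx hy =>
    rw [decompose_add, DirectSum.add_apply, AddMemClass.coe_add, hx, hy, decompose_add,
      DirectSum.add_apply, AddMemClass.coe_add, decompose_add, DirectSum.add_apply,
      AddMemClass.coe_add]

theorem isHomogeneous_of_coarse_two (π : ι →+ κ) (ψ : ι →+ κ')
    (hinj : ∀ g g' : ι, π g = π g' → ψ g = ψ g' → g = g') {I : Ideal R}
    (h1 : I.IsHomogeneous (coarse π 𝒜)) (h2 : I.IsHomogeneous (coarse ψ 𝒜)) :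
    I.IsHomogeneous 𝒜 :=
  isHomogeneous_of_two 𝒜 (coarse π 𝒜) (coarse ψ 𝒜)
    (fun x g => ⟨π g, ψ g, coe_decompose_two 𝒜 π ψ hinj x g⟩) h1 h2

/-- The core w.r.t. `𝒜` is obtained by two successive cores. -/
theorem core_eq_core_core (π : ι →+ κ) (ψ : ι →+ κ')
    (hinj : ∀ g g' : ι, π g = π g' → ψ g = ψ g' → g = g') (p : Ideal R) :
    (p.homogeneousCore 𝒜).toIdeal =
      ((p.homogeneousCore (coarse ψ 𝒜)).toIdeal.homogeneousCore (coarse π 𝒜)).toIdeal := by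
  apply le_antisymm
  · have h0 : (p.homogeneousCore 𝒜).toIdeal.IsHomogeneous 𝒜 := (p.homogeneousCore 𝒜).isHomogeneous
    have h1 : (p.homogeneousCore 𝒜).toIdeal ≤ (p.homogeneousCore (coarse ψ 𝒜)).toIdeal := by
      have := isHomogeneous_coarse 𝒜 ψ h0
      rw [← this.toIdeal_homogeneousCore_eq_self]
      exact Ideal.homogeneousCore_mono (coarse ψ 𝒜) (Ideal.toIdeal_homogeneousCore_le 𝒜 p)
    have := isHomogeneous_coarse 𝒜 π h0
    rw [← this.toIdeal_homogeneousCore_eq_self]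
    exact Ideal.homogeneousCore_mono (coarse π 𝒜) h1
  · set q := (p.homogeneousCore (coarse ψ 𝒜)).toIdeal with hq
    have hqh : q.IsHomogeneous (coarse ψ 𝒜) := (p.homogeneousCore (coarse ψ 𝒜)).isHomogeneous
    have h1 : (q.homogeneousCore (coarse π 𝒜)).toIdeal.IsHomogeneous (coarse π 𝒜) :=
      (q.homogeneousCore (coarse π 𝒜)).isHomogeneous
    have h2 := isHomogeneous_core_coarse 𝒜 π ψ hqh
    have h3 := isHomogeneous_of_coarse_two 𝒜 π ψ hinj h1 h2
    rw [← h3.toIdeal_homogeneousCore_eq_self]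
    refine Ideal.homogeneousCore_mono 𝒜 ?_
    exact (Ideal.toIdeal_homogeneousCore_le (coarse π 𝒜) q).trans
      (Ideal.toIdeal_homogeneousCore_le (coarse ψ 𝒜) p)

end Coarse

end Groth.Agent.Lib.H74Core
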