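import Mathlib

/-!
# Torsion modules with a derivation-like operator are divisible (helper74)
-/

set_option autoImplicit false
set_option linter.unusedSectionVars false
set_option linter.style.haveILetI false

universe u

namespace Groth.Agent.Lib.H74DMod

section Div

variable {A : Type u} [CommRing A] {M : Type u} [AddCommGroup M] [Module A M]
  (a : A) (D : M →+ M) (hD : ∀ z : M, D (a • z) = z + a • D z)

include hD in
theorem smul_iterate (u : M) (hu : a • u = 0) (j : ℕ) :
    a • (D^[j + 1] u) = -((j + 1 : ℕ) : A) • D^[j] u := by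
  induction j with
  | zero =>
    have h := hD u
    rw [hu, map_zero] at h
    rw [Function.iterate_one, Function.iterate_zero, id_eq, Nat.cast_one, neg_smul, one_smul]
    exact eq_neg_of_add_eq_zero_right h.symm
  | succ j ih =>
    have h := hD (D^[j + 1] u)
    rw [ih] at h
    rw [Function.iterate_succ_apply' (f := D) (n := j + 1)]
    have h2 : D (-((j + 1 : ℕ) : A) • D^[j] u) = -((j + 1 : ℕ) : A) • D^[j + 1] u := by
      rw [neg_smul, map_neg, Nat.cast_smul_eq_nsmul, map_nsmul, ← Nat.cast_smul_eq_nsmul A,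
        neg_smul, Function.iterate_succ_apply']
    rw [h2] at h
    have h3 : a • D (D^[j + 1] u) = -((j + 1 : ℕ) : A) • D^[j + 1] u - D^[j + 1] u :=
      eq_sub_of_add_eq' h.symm
    rw [h3]
    push_cast
    module

include hD in
theorem pow_smul_iterate (u : M) (hu : a • u = 0) (j : ℕ) :
    a ^ j • (D^[j] u) = ((-1 : A) ^ j * (j.factorial : A)) • u := by
  induction j with
  | zero => simp
  | succ j ih =>
    rw [pow_succ, mul_smul, smul_iterate a D hD u hu j, smul_comm, ih, smul_smul,
      Nat.factorial_succ]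
    congr 1
    push_cast
    ring

include hD in
/-- `a` acts surjectively on `a`-power torsion elements. -/
theorem exists_smul_eq (hunit : ∀ n : ℕ, n ≠ 0 → IsUnit ((n : A))) :
    ∀ (n : ℕ) (z : M), a ^ n • z = 0 → ∃ w : M, a • w = z := by
  intro n
  induction n with
  | zero =>
    intro z hz
    rw [pow_zero, one_smul] at hz
    exact ⟨0, by rw [smul_zero, hz]⟩
  | succ n ih =>
    intro z hz
    have hu : a • (a ^ n • z) = 0 := by rw [← mul_smul, ← pow_succ']; exact hz
    have hc : IsUnit ((-1 : A) ^ (n + 1) * ((n + 1).factorial : A)) :=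
      (IsUnit.neg isUnit_one).pow _ |>.mul (hunit _ (Nat.factorial_ne_zero _))
    obtain ⟨c, hc'⟩ := hc.exists_left_inv
    let w₀ : M := c • D^[n + 1] (a ^ n • z)
    have hw₀ : a ^ (n + 1) • w₀ = a ^ n • z := by
      show a ^ (n + 1) • c • D^[n + 1] (a ^ n • z) = _
      rw [smul_comm, pow_smul_iterate a D hD _ hu (n + 1), smul_smul, hc', one_smul]
    have h1 : a ^ n • (z - a • w₀) = 0 := by
      rw [smul_sub, ← mul_smul, ← pow_succ, hw₀, sub_self]
    obtain ⟨w', hw'⟩ := ih _ h1
    refine ⟨w' + w₀, ?_⟩
    rw [smul_add, hw']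
    abel

end Div

end Groth.Agent.Lib.H74DMod
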