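import Mathlib
import Groth.Agent.Lib.InjHull
import Groth.Agent.Lib.InjDecomp
import Groth.Agent.S0301

/-!
# A divisible torsion module with injective socle layer is injective (helper74)
-/

set_option autoImplicit false
set_option linter.unusedSectionVars false
set_option linter.style.haveILetI false

universe u

open CategoryTheory

namespace Groth.Agent.Lib.H74DMod

open Groth.Agent.Lib.InjHull Groth.Agent.Lib.InjDecomp

section ClaimT

variable {A : Type u} [CommRing A] (a : A) {M K : Type u} [AddCommGroup M] [Module A M]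
  [AddCommGroup K] [Module A K] (j : M →ₗ[A] K) (hj : Function.Injective j)
  (hess : ∀ x : K, x ≠ 0 → ∃ r : A, r • x ≠ 0 ∧ r • x ∈ LinearMap.range j)
  (hinj : Module.Injective (A ⧸ Ideal.span {a}) (Submodule.torsionBy A M a))

include hj hess hinj in
/-- In an essential extension `K` of `M`, elements killed by `a` come from `M`, provided the
`a`-torsion of `M` is injective over `A/a`. -/
theorem mem_range_of_smul_eq_zero (e : K) (he : a • e = 0) : e ∈ LinearMap.range j := by
  -- the inclusion of the torsion layers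
  let ι₀ : Submodule.torsionBy A M a →ₗ[A] Submodule.torsionBy A K a :=
    (j ∘ₗ (Submodule.torsionBy A M a).subtype).codRestrict _ (fun z => by
      rw [Submodule.mem_torsionBy_iff]
      show a • j (z : M) = 0
      rw [← map_smul, (Submodule.mem_torsionBy_iff a _).mp z.2, map_zero])
  let ι : Submodule.torsionBy A M a →ₗ[A ⧸ Ideal.span {a}] Submodule.torsionBy A K a :=
    { toFun := ι₀
      map_add' := ι₀.map_add
      map_smul' := by
        intro c z
        obtain ⟨b, rfl⟩ := Ideal.Quotient.mk_surjective c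
        rw [RingHom.id_apply, Submodule.torsionBy.mk_ideal_smul, Submodule.torsionBy.mk_ideal_smul,
          map_smul] }
  have hι : Function.Injective ι := by
    intro z w hzw
    have h1 : j (z : M) = j (w : M) := congrArg (fun t : Submodule.torsionBy A K a => (t : K)) hzw
    exact Subtype.ext (hj h1)
  obtain ⟨ρ, hρ⟩ := Module.Injective.out ι hι LinearMap.id
  let e' : Submodule.torsionBy A K a := ⟨e, (Submodule.mem_torsionBy_iff a e).mpr he⟩
  suffices hd : e' - ι (ρ e') = 0 by
    have h1 : e' = ι (ρ e') := sub_eq_zero.mp hd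
    have h2 : e = j ((ρ e' : Submodule.torsionBy A M a) : M) :=
      congrArg (fun t : Submodule.torsionBy A K a => (t : K)) h1
    exact ⟨_, h2.symm⟩
  by_contra hd0
  have hρd : ρ (e' - ι (ρ e')) = 0 := by
    rw [map_sub, hρ, LinearMap.id_apply, sub_self]
  have hdK : ((e' - ι (ρ e') : Submodule.torsionBy A K a) : K) ≠ 0 := fun h => hd0 (Subtype.ext h)
  obtain ⟨r, hr0, m₀, hm₀⟩ := hess _ hdK
  have hm₀a : a • m₀ = 0 := by
    apply hj
    rw [map_smul, hm₀, map_zero, smul_comm]
    have := (Submodule.mem_torsionBy_iff a _).mp (e' - ι (ρ e')).2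
    rw [this, smul_zero]
  let m₁ : Submodule.torsionBy A M a := ⟨m₀, (Submodule.mem_torsionBy_iff a m₀).mpr hm₀a⟩
  have h3 : ι m₁ = r • (e' - ι (ρ e')) := Subtype.ext hm₀
  have h4 : ρ (ι m₁) = m₁ := hρ m₁
  have h5 : ρ (r • (e' - ι (ρ e'))) = 0 := by
    rw [← Submodule.torsionBy.mk_ideal_smul a r, map_smul, hρd, smul_zero]
  rw [h3, h5] at h4
  have h6 : m₀ = 0 := congrArg Subtype.val h4.symm
  apply hr0
  rw [← hm₀, h6, map_zero]

end ClaimT

section LemmaL

variable {A : Type u} [CommRing A] [IsNoetherianRing A] (a : A) (M : Type u) [AddCommGroup M]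
  [Module A M]
  (htors : ∀ z : M, ∃ n : ℕ, a ^ n • z = 0)
  (hdiv : ∀ z : M, ∃ w : M, a • w = z)
  (hinj : Module.Injective (A ⧸ Ideal.span {a}) (Submodule.torsionBy A M a))

include htors hdiv hinj in
/-- An `a`-power torsion, `a`-divisible module whose `a`-torsion is injective over `A/a` is
injective. -/
theorem injective_of_torsionBy_injective : Module.Injective A M := by
  classical
  -- an injective module containing `M`
  let I : ModuleCat.{u} A := Injective.under (ModuleCat.of A M)
  haveI : CategoryTheory.Injective (ModuleCat.of A I) :=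
    inferInstanceAs (CategoryTheory.Injective (Injective.under (ModuleCat.of A M)))
  have hI : Module.Injective A I := Module.injective_module_of_injective_object A I
  let ε : M →ₗ[A] I := (Injective.ι (ModuleCat.of A M)).hom
  have hε : Function.Injective ε := (ModuleCat.mono_iff_injective _).mp inferInstance
  -- its `a`-power torsion part
  let E₀ : Submodule A I :=
    ⨆ n : ℕ, Submodule.torsionBySet A I ((Ideal.span {a} ^ n : Ideal A) : Set A)
  have hE₀ : Module.Injective A E₀ := Groth.Agent.S0301.result A I hI (Ideal.span {a})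
  have hmono : Monotone fun n : ℕ =>
      Submodule.torsionBySet A I ((Ideal.span {a} ^ n : Ideal A) : Set A) := by
    intro n k hnk x hx
    rw [Submodule.mem_torsionBySet_iff] at hx ⊢
    rintro ⟨r, hr⟩
    exact hx ⟨r, Ideal.pow_le_pow_right hnk hr⟩
  have hE₀mem : ∀ x : I, x ∈ E₀ ↔ ∃ n : ℕ, a ^ n • x = 0 := by
    intro x
    rw [Submodule.mem_iSup_of_directed _ hmono.directed_le]
    constructor
    · rintro ⟨n, hn⟩
      rw [Submodule.mem_torsionBySet_iff] at hn
      exact ⟨n, hn ⟨a ^ n, Ideal.pow_mem_pow (Ideal.mem_span_singleton_self a) n⟩⟩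
    · rintro ⟨n, hn⟩
      refine ⟨n, ?_⟩
      rw [Submodule.mem_torsionBySet_iff]
      rintro ⟨r, hr⟩
      have hr' : r ∈ Ideal.span {a ^ n} := by rw [← Ideal.span_singleton_pow]; exact hr
      obtain ⟨c, rfl⟩ := Ideal.mem_span_singleton.mp hr'
      show (a ^ n * c) • x = 0
      rw [mul_comm, mul_smul, hn, smul_zero]
  let j : M →ₗ[A] E₀ := ε.codRestrict E₀ (fun z => by
    obtain ⟨n, hn⟩ := htors z
    exact (hE₀mem _).mpr ⟨n, by rw [← map_smul, hn, map_zero]⟩)
  have hj : Function.Injective j := fun z w h => hε (congrArg Subtype.val h)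
  obtain ⟨K, C, hNK, hKC⟩ := exists_essIn_isCompl hE₀ (LinearMap.range j)
  have hKinj : Module.Injective A K := injective_of_isCompl hE₀ hKC
  let j' : M →ₗ[A] K := j.codRestrict K (fun z => hNK.1 ⟨z, rfl⟩)
  have hj' : Function.Injective j' := fun z w h => hj (congrArg Subtype.val h)
  have hess : ∀ x : K, x ≠ 0 → ∃ r : A, r • x ≠ 0 ∧ r • x ∈ LinearMap.range j' := by
    intro x hx
    have hx' : (x : E₀) ≠ 0 := fun h => hx (Subtype.ext h)
    obtain ⟨r, hr0, ⟨m, hm⟩⟩ := hNK.2 x x.2 hx'
    exact ⟨r, fun h => hr0 (congrArg Subtype.val h), m, Subtype.ext hm⟩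
  have hKtors : ∀ x : K, ∃ n : ℕ, a ^ n • x = 0 := by
    intro x
    obtain ⟨n, hn⟩ := (hE₀mem ((x : E₀) : I)).mp (x : E₀).2
    exact ⟨n, Subtype.ext (Subtype.ext hn)⟩
  have hsurj : ∀ (n : ℕ) (x : K), a ^ n • x = 0 → x ∈ LinearMap.range j' := by
    intro n
    induction n with
    | zero =>
      intro x hx
      rw [pow_zero, one_smul] at hx
      rw [hx]
      exact Submodule.zero_mem _
    | succ n ih =>
      intro x hx
      have h1 : a ^ n • (a • x) = 0 := by rw [← mul_smul, ← pow_succ]; exact hx
      obtain ⟨m, hm⟩ := ih _ h1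
      obtain ⟨m', rfl⟩ := hdiv m
      have h2 : a • (x - j' m') = 0 := by rw [smul_sub, ← map_smul, hm, sub_self]
      obtain ⟨m'', hm''⟩ := mem_range_of_smul_eq_zero a j' hj' hess hinj _ h2
      exact ⟨m'' + m', by rw [map_add, hm'']; abel⟩
  have hbij : Function.Bijective j' :=
    ⟨hj', fun x => by obtain ⟨n, hn⟩ := hKtors x; exact hsurj n x hn⟩
  exact injective_of_linearEquiv (LinearEquiv.ofBijective j' hbij).symm hKinj

end LemmaL

end Groth.Agent.Lib.H74DMod
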