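import Mathlib
import Groth.Agent.Lib.H74DMod1
import Groth.Agent.Lib.H74DMod2

/-!
# Torsion modules with commuting-relation derivations are injective (helper74)
-/

set_option autoImplicit false
set_option linter.unusedSectionVars false
set_option linter.style.haveILetI false

universe u

open CategoryTheory

namespace Groth.Agent.Lib.H74DMod

/-- Every module over a ring in which `⊥` is a maximal ideal is injective. -/
theorem injective_of_bot_isMaximal (A : Type u) [CommRing A] (h : (⊥ : Ideal A).IsMaximal)
    (M : Type u) [AddCommGroup M] [Module A M] : Module.Injective A M := by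
  haveI : Nontrivial A := by
    by_contra hn
    rw [not_nontrivial_iff_subsingleton] at hn
    exact h.ne_top (Subsingleton.elim _ _)
  have hf : IsField A := Ring.isField_iff_maximal_bot.mpr h
  haveI : IsSimpleOrder (Ideal A) := Ring.isField_iff_isSimpleOrder_ideal.mp hf
  haveI : IsSimpleModule A A := { toIsSimpleOrder := inferInstanceAs (IsSimpleOrder (Ideal A)) }
  haveI : IsSemisimpleRing A := inferInstance
  exact Module.injective_of_isSemisimpleRing A M

/-- **Key theorem**: let `x₁, …, x_d` generate a maximal ideal of the Noetherian ring `A` in which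
all positive integers are invertible.  An `(x)`-power torsion module with additive operators `D_i`
such that `D_i (x_j z) = δ_{ij} z + x_j D_i z` is injective. -/
theorem injective_of_derivations : ∀ (d : ℕ) (A : Type u) [CommRing A] [IsNoetherianRing A]
    (_ : ∀ n : ℕ, n ≠ 0 → IsUnit ((n : A)))
    (x : Fin d → A) (_ : (Ideal.span (Set.range x)).IsMaximal)
    (M : Type u) [AddCommGroup M] [Module A M]
    (_ : ∀ (i : Fin d) (z : M), ∃ n : ℕ, x i ^ n • z = 0)
    (D : Fin d → M →+ M)
    (_ : ∀ (i j : Fin d) (z : M), D i (x j • z) = (if i = j then z else 0) + x j • D i z),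
    Module.Injective A M := by
  intro d
  induction d with
  | zero =>
    intro A _ _ _ x hmax M _ _ _ _ _
    have h0 : Ideal.span (Set.range x) = ⊥ := by
      rw [Ideal.span_eq_bot]
      rintro _ ⟨i, -⟩
      exact i.elim0
    rw [h0] at hmax
    exact injective_of_bot_isMaximal A hmax M
  | succ d ih =>
    intro A _ _ hunit x hmax M _ _ htors D hD
    let a : A := x (Fin.last d)
    let A' := A ⧸ Ideal.span {a}
    let π : A →+* A' := Ideal.Quotient.mk (Ideal.span {a})
    let x' : Fin d → A' := fun i => π (x i.castSucc)
    have hunit' : ∀ n : ℕ, n ≠ 0 → IsUnit ((n : A')) := by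
      intro n hn
      have := (hunit n hn).map π
      rwa [map_natCast] at this
    have hmax' : (Ideal.span (Set.range x')).IsMaximal := by
      have hker : RingHom.ker π ≤ Ideal.span (Set.range x) := by
        rw [Ideal.mk_ker, Ideal.span_le]
        rintro _ rfl
        exact Ideal.subset_span ⟨Fin.last d, rfl⟩
      have h1 := Ideal.IsMaximal.map_of_surjective_of_ker_le
        (f := π) Ideal.Quotient.mk_surjective hker
      have h2 : (Ideal.span (Set.range x)).map π = Ideal.span (Set.range x') := by
        apply le_antisymm
        · rw [Ideal.map_le_iff_le_comap, Ideal.span_le]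
          rintro _ ⟨i, rfl⟩
          show π (x i) ∈ Ideal.span (Set.range x')
          refine Fin.lastCases ?_ (fun k => ?_) i
          · have : π (x (Fin.last d)) = 0 :=
              Ideal.Quotient.eq_zero_iff_mem.mpr (Ideal.mem_span_singleton_self a)
            rw [this]
            exact Ideal.zero_mem _
          · exact Ideal.subset_span ⟨k, rfl⟩
        · rw [Ideal.span_le]
          rintro _ ⟨k, rfl⟩
          exact Ideal.mem_map_of_mem π (Ideal.subset_span ⟨k.castSucc, rfl⟩)
      rw [← h2]
      exact h1
    let M' := Submodule.torsionBy A M a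
    have hsm : ∀ (b : A) (z : M'), π b • z = b • z := fun b z =>
      Submodule.torsionBy.mk_ideal_smul a b z
    have htors' : ∀ (i : Fin d) (z : M'), ∃ n : ℕ, x' i ^ n • z = 0 := by
      intro i z
      obtain ⟨n, hn⟩ := htors i.castSucc (z : M)
      refine ⟨n, ?_⟩
      show (π (x i.castSucc)) ^ n • z = 0
      rw [← map_pow, hsm]
      exact Subtype.ext hn
    have hDmem : ∀ (i : Fin d) (z : M'), D i.castSucc (z : M) ∈ Submodule.torsionBy A M a := by
      intro i z
      rw [Submodule.mem_torsionBy_iff]
      have h1 := hD i.castSucc (Fin.last d) (z : M)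
      have hne : i.castSucc ≠ Fin.last d := Fin.castSucc_lt_last i |>.ne
      rw [if_neg hne, zero_add] at h1
      show x (Fin.last d) • D i.castSucc (z : M) = 0
      rw [← h1]
      have hz : x (Fin.last d) • (z : M) = 0 := (Submodule.mem_torsionBy_iff a _).mp z.2
      rw [hz, map_zero]
    let D' : Fin d → M' →+ M' := fun i =>
      { toFun := fun z => ⟨D i.castSucc (z : M), hDmem i z⟩
        map_zero' := Subtype.ext (map_zero _)
        map_add' := fun z w => Subtype.ext (map_add _ _ _) }
    have hD' : ∀ (i j : Fin d) (z : M'),
        D' i (x' j • z) = (if i = j then z else 0) + x' j • D' i z := by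
      intro i j z
      show D' i (π (x j.castSucc) • z) = _ + π (x j.castSucc) • D' i z
      rw [hsm, hsm]
      apply Subtype.ext
      have h1 := hD i.castSucc j.castSucc (z : M)
      show D i.castSucc (x j.castSucc • (z : M)) = _
      rw [h1]
      by_cases hij : i = j
      · subst hij
        rw [if_pos rfl, if_pos rfl]
        rfl
      · have hne : i.castSucc ≠ j.castSucc := fun h => hij (Fin.castSucc_injective d h)
        rw [if_neg hne, if_neg hij]
        rfl
    have hM' : Module.Injective A' M' := ih A' hunit' x' hmax' M' htors' D' hD'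
    have hDa : ∀ z : M, D (Fin.last d) (a • z) = z + a • D (Fin.last d) z := by
      intro z
      have := hD (Fin.last d) (Fin.last d) z
      rwa [if_pos rfl] at this
    have hdiv : ∀ z : M, ∃ w : M, a • w = z := by
      intro z
      obtain ⟨n, hn⟩ := htors (Fin.last d) z
      exact exists_smul_eq a (D (Fin.last d)) hDa hunit n z hn
    exact injective_of_torsionBy_injective a M (htors (Fin.last d)) hdiv hM'

end Groth.Agent.Lib.H74DMod
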