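import Mathlib
import Groth.Agent.Lib.InjHull
import Groth.Agent.Lib.H74Bass2
import Groth.Agent.S0302
import Groth.Agent.S0307

/-!
# Injective torsion modules over a Noetherian local ring are sums of `E` (helper74)
-/

set_option autoImplicit false
set_option linter.unusedSectionVars false
set_option linter.style.haveILetI false

universe u

open CategoryTheory IsLocalRing

namespace Groth.Agent.Lib.H74DMod

open Groth.Agent.Lib.InjHull Groth.Agent.Lib.H74Bass

section Sum

variable {A : Type u} [CommRing A] [IsLocalRing A] [IsNoetherianRing A]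
  (E : Type u) [AddCommGroup E] [Module A E] (e : ResidueField A →ₗ[A] E)
  (he : _root_.InjHull.IsInjectiveHull e)

/-- A nonzero `m`-power torsion module has a nonzero socle element. -/
theorem exists_socle_ne_zero (K : Type u) [AddCommGroup K] [Module A K] [Nontrivial K]
    (htors : LocCoh.IsPowerTorsion (maximalIdeal A) K) :
    ∃ v : K, v ≠ 0 ∧ ∀ r ∈ maximalIdeal A, r • v = 0 := by
  classical
  obtain ⟨y, hy0⟩ := exists_ne (0 : K)
  have hy' : ∃ n : ℕ, ∀ r ∈ maximalIdeal A ^ n, r • y = 0 := htors y
  have hfind := Nat.find_spec hy'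
  rcases hk : Nat.find hy' with _ | k
  · exfalso
    rw [hk, pow_zero, Ideal.one_eq_top] at hfind
    apply hy0
    have := hfind 1 Submodule.mem_top
    rwa [one_smul] at this
  · have hmin : ¬ ∀ r ∈ maximalIdeal A ^ k, r • y = 0 :=
      Nat.find_min hy' (by rw [hk]; exact Nat.lt_succ_self k)
    push Not at hmin
    obtain ⟨b, hb, hby⟩ := hmin
    refine ⟨b • y, hby, fun r hr => ?_⟩
    rw [hk] at hfind
    rw [← mul_smul, mul_comm]
    apply hfind
    rw [pow_succ]
    exact Ideal.mul_mem_mul hb hr

include he in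
/-- An indecomposable injective `m`-power torsion module is isomorphic to `E`. -/
theorem nonempty_equiv_of_indecomposable (K : Type u) [AddCommGroup K] [Module A K]
    (hK : _root_.InjHull.IsIndecomposable A K) (hKinj : Module.Injective A K)
    (htors : LocCoh.IsPowerTorsion (maximalIdeal A) K) : Nonempty (K ≃ₗ[A] E) := by
  haveI := hK.1
  obtain ⟨v, hv0, hv⟩ := exists_socle_ne_zero K htors
  have hvs : v ∈ Submodule.torsionBySet A K (maximalIdeal A : Set A) := by
    rw [Submodule.mem_torsionBySet_iff]
    rintro ⟨r, hr⟩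
    exact hv r hr
  rw [← range_evOne] at hvs
  obtain ⟨g, hg⟩ := hvs
  have hg1 : g 1 = v := hg
  have hginj : Function.Injective g := by
    rw [← LinearMap.ker_eq_bot, LinearMap.ker_eq_bot']
    intro c hc
    by_contra hc0
    apply hv0
    obtain ⟨s, hs⟩ := residue_surjective c⁻¹
    have h1 : s • c = 1 := by
      rw [Algebra.smul_def]
      show residue A s * c = 1
      rw [hs, inv_mul_cancel₀ hc0]
    rw [← hg1, ← h1, map_smul, hc, smul_zero]
  have hrange : LinearMap.range g ≠ ⊥ := by
    intro h
    apply hv0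
    have : v ∈ LinearMap.range g := ⟨1, hg1⟩
    rw [h, Submodule.mem_bot] at this
    exact this
  have hhull : _root_.InjHull.IsInjectiveHull g :=
    ⟨⟨hginj, (ess_iff (LinearMap.range g)).mpr (ess_of_indecomposable hK hKinj _ hrange)⟩, hKinj⟩
  obtain ⟨φ, -⟩ := Groth.Agent.S0302.result A (ResidueField A) K E g hhull e he
  exact ⟨φ⟩

include he in
/-- **An injective `m`-power torsion module is a direct sum of copies of `E`.** -/
theorem exists_equiv_finsupp (M : Type u) [AddCommGroup M] [Module A M]
    (hM : Module.Injective A M) (htors : LocCoh.IsPowerTorsion (maximalIdeal A) M) :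
    ∃ J : Type u, Nonempty (M ≃ₗ[A] (J →₀ E)) := by
  classical
  obtain ⟨ι, C, hint, hC⟩ := Groth.Agent.S0307.result A M hM
  have hequiv : ∀ i, Nonempty (C i ≃ₗ[A] E) := fun i =>
    nonempty_equiv_of_indecomposable E e he (C i) (hC i).1 (hC i).2 (fun z => by
      obtain ⟨n, hn⟩ := htors (z : M)
      exact ⟨n, fun r hr => Subtype.ext (hn r hr)⟩)
  let φ : ∀ i, C i ≃ₗ[A] E := fun i => (hequiv i).some
  let e1 : (DirectSum ι fun i => C i) ≃ₗ[A] M :=
    LinearEquiv.ofBijective (DirectSum.coeLinearMap C) hint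
  let e2 : (DirectSum ι fun i => C i) ≃ₗ[A] DirectSum ι fun _ => E :=
    DFinsupp.mapRange.linearEquiv φ
  let e3 : (ι →₀ E) ≃ₗ[A] DirectSum ι fun _ => E := finsuppLEquivDirectSum A E ι
  exact ⟨ι, ⟨(e1.symm.trans e2).trans e3.symm⟩⟩

end Sum

end Groth.Agent.Lib.H74DMod
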