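import Mathlib
import Groth.Prelude.Def_Wider

set_option autoImplicit false
set_option linter.style.haveILetI false
set_option linter.unusedSectionVars false
universe u

namespace Groth.Agent.Lib.H74FinLen

open CategoryTheory IsLocalRing

variable {A : Type u} [CommRing A] [IsLocalRing A] [IsNoetherianRing A]

/-- the linear map underlying a morphism of `FinLen`. -/
abbrev lin {X Y : Dual.FinLen A} (f : X ⟶ Y) : X.obj →ₗ[A] Y.obj := f.hom.hom

/-- a morphism of `FinLen` from a linear map. -/
def ofLin {X Y : Dual.FinLen A} (f : X.obj →ₗ[A] Y.obj) : X ⟶ Y :=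
  ObjectProperty.homMk (ModuleCat.ofHom f)

@[simp] theorem lin_ofLin {X Y : Dual.FinLen A} (f : X.obj →ₗ[A] Y.obj) : lin (ofLin f) = f := rfl

theorem ofLin_lin {X Y : Dual.FinLen A} (f : X ⟶ Y) : ofLin (lin f) = f := rfl

theorem lin_injective {X Y : Dual.FinLen A} {f g : X ⟶ Y} (h : lin f = lin g) : f = g := by
  ext : 2; exact h

theorem lin_comp {X Y Z : Dual.FinLen A} (f : X ⟶ Y) (g : Y ⟶ Z) :
    lin (f ≫ g) = lin g ∘ₗ lin f := rfl

theorem lin_comp_apply {X Y Z : Dual.FinLen A} (f : X ⟶ Y) (g : Y ⟶ Z) (x : X.obj) :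
    lin (f ≫ g) x = lin g (lin f x) := rfl

theorem lin_add {X Y : Dual.FinLen A} (f g : X ⟶ Y) : lin (f + g) = lin f + lin g := rfl

theorem lin_smul {X Y : Dual.FinLen A} (a : A) (f : X ⟶ Y) : lin (a • f) = a • lin f := rfl

theorem lin_zero {X Y : Dual.FinLen A} : lin (0 : X ⟶ Y) = 0 := rfl

theorem lin_id (X : Dual.FinLen A) : lin (𝟙 X) = LinearMap.id := rfl

section Functor

variable (G : Dual.FinLen A ⥤ Dual.FinLen A) [G.Additive] [G.Linear A]

/-- annihilators transfer along a linear functor. -/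
theorem smul_eq_zero_map (X : Dual.FinLen A) (a : A) (h : ∀ x : X.obj, a • x = 0)
    (y : (G.obj X).obj) : a • y = 0 := by
  have h0 : a • 𝟙 X = 0 := by
    apply lin_injective
    ext x
    exact h x
  have h1 : a • 𝟙 (G.obj X) = 0 := by
    rw [← G.map_id, ← G.map_smul, h0, G.map_zero]
  have := congrArg (fun f => lin f y) h1
  simpa [lin_smul, lin_id, lin_zero] using this

/-- annihilators are reflected by a faithful linear functor. -/
theorem smul_eq_zero_of_map [G.Faithful] (X : Dual.FinLen A) (a : A)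
    (h : ∀ y : (G.obj X).obj, a • y = 0) (x : X.obj) : a • x = 0 := by
  have h1 : a • 𝟙 (G.obj X) = 0 := by
    apply lin_injective
    ext y
    exact h y
  have h0 : a • 𝟙 X = 0 := by
    apply G.map_injective
    rw [G.map_smul, G.map_id, h1, G.map_zero]
  have := congrArg (fun f => lin f x) h0
  simpa [lin_smul, lin_id, lin_zero] using this

end Functor

end Groth.Agent.Lib.H74FinLen
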