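import Mathlib
import Groth.Agent.Lib.H74FinLen1

set_option autoImplicit false
set_option linter.style.haveILetI false
set_option linter.unusedSectionVars false
universe u

namespace Groth.Agent.Lib.H74FinLen

open CategoryTheory IsLocalRing

variable {A : Type u} [CommRing A] [IsLocalRing A] [IsNoetherianRing A]

theorem isFiniteLength_quot_pow (n : ℕ) : IsFiniteLength A (A ⧸ maximalIdeal A ^ (n + 1)) := by
  rw [isFiniteLength_iff_isNoetherian_isArtinian]
  refine ⟨inferInstance, ?_⟩
  haveI : IsArtinianRing (A ⧸ maximalIdeal A ^ (n + 1)) := by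
    apply IsLocalRing.quotient_artinian_of_mem_minimalPrimes_of_isLocalRing
    refine ⟨⟨inferInstance, Ideal.pow_le_self (Nat.succ_ne_zero n)⟩, ?_⟩
    rintro q ⟨hq, hle⟩ _
    exact hq.le_of_pow_le hle
  exact isArtinian_of_surjective_algebraMap (R := A ⧸ maximalIdeal A ^ (n + 1))
    Ideal.Quotient.mk_surjective

variable (A) in
/-- the object `A/m^(n+1)` of `FinLen A`. -/
def P (n : ℕ) : Dual.FinLen A :=
  ⟨ModuleCat.of A (A ⧸ maximalIdeal A ^ (n + 1)), isFiniteLength_quot_pow n⟩

/-- the class of `1` in `A/m^(n+1)`. -/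
def one (n : ℕ) : (P A n).obj := (Ideal.Quotient.mk (maximalIdeal A ^ (n + 1)) 1 : A ⧸ _)

theorem smul_one_eq_zero_iff (n : ℕ) (a : A) : a • one (A := A) n = 0 ↔ a ∈ maximalIdeal A ^ (n + 1) := by
  change a • (Ideal.Quotient.mk (maximalIdeal A ^ (n + 1)) 1 : A ⧸ _) = 0 ↔ _
  rw [← Ideal.Quotient.mk_eq_mk, ← Submodule.Quotient.mk_smul, Ideal.Quotient.mk_eq_mk,
    Ideal.Quotient.eq_zero_iff_mem, smul_eq_mul, mul_one]

theorem exists_smul_one (n : ℕ) (z : (P A n).obj) : ∃ a : A, z = a • one n := by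
  obtain ⟨a, rfl⟩ := Ideal.Quotient.mk_surjective (I := maximalIdeal A ^ (n + 1)) z
  refine ⟨a, ?_⟩
  have := Submodule.Quotient.mk_smul (maximalIdeal A ^ (n + 1)) a (1 : A)
  rw [smul_eq_mul, mul_one] at this
  exact this

/-- two morphisms out of `P n` agreeing on `1` are equal. -/
theorem hom_ext_one {n : ℕ} {X : Dual.FinLen A} {f g : P A n ⟶ X}
    (h : lin f (one n) = lin g (one n)) : f = g := by
  apply lin_injective
  ext z
  obtain ⟨a, rfl⟩ := exists_smul_one n z
  rw [map_smul, map_smul, h]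

/-- the morphism `A/m^(n+1) → X`, `1 ↦ x`, for `x` killed by `m^(n+1)`. -/
noncomputable def hat {X : Dual.FinLen A} (n : ℕ) (x : X.obj)
    (hx : ∀ a ∈ maximalIdeal A ^ (n + 1), a • x = 0) : P A n ⟶ X :=
  ofLin (Submodule.liftQ (maximalIdeal A ^ (n + 1)) (LinearMap.toSpanSingleton A X.obj x)
    (fun a ha => by
      rw [LinearMap.mem_ker, LinearMap.toSpanSingleton_apply]
      exact hx a ha))

theorem hat_one {X : Dual.FinLen A} (n : ℕ) (x : X.obj)
    (hx : ∀ a ∈ maximalIdeal A ^ (n + 1), a • x = 0) : lin (hat n x hx) (one n) = x := by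
  change Submodule.liftQ _ _ _ (Submodule.Quotient.mk 1) = x
  rw [Submodule.liftQ_apply, LinearMap.toSpanSingleton_apply, one_smul]

/-- every finite length module is killed by a power of the maximal ideal. -/
theorem exists_pow_kills (X : Dual.FinLen A) :
    ∃ n : ℕ, ∀ a ∈ maximalIdeal A ^ (n + 1), ∀ x : X.obj, a • x = 0 := by
  have key : ∀ (M : Type u) [AddCommGroup M] [Module A M], IsFiniteLength A M →
      ∃ n : ℕ, ∀ a ∈ maximalIdeal A ^ n, ∀ x : M, a • x = 0 := by
    intro M _ _ h
    induction h with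
    | of_subsingleton => exact ⟨0, fun a _ x => Subsingleton.elim _ _⟩
    | @of_simple_quotient M _ _ N hs _ ih =>
      obtain ⟨n, hn⟩ := ih
      refine ⟨n + 1, fun a ha x => ?_⟩
      have hmax : (Module.annihilator A (M ⧸ N)) = maximalIdeal A :=
        IsLocalRing.eq_maximalIdeal (IsSimpleModule.annihilator_isMaximal)
      have hmN : ∀ b ∈ maximalIdeal A, ∀ y : M, b • y ∈ N := by
        intro b hb y
        rw [← hmax, Module.mem_annihilator] at hb
        have := hb (Submodule.Quotient.mk y)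
        rwa [← Submodule.Quotient.mk_smul, Submodule.Quotient.mk_eq_zero] at this
      rw [pow_succ] at ha
      refine Submodule.mul_induction_on ha ?_ ?_
      · intro c hc b hb
        rw [mul_smul]
        have := hn c hc ⟨b • x, hmN b hb x⟩
        exact congrArg Subtype.val this
      · intro c d hc hd
        rw [add_smul, hc, hd, add_zero]
  obtain ⟨n, hn⟩ := key X.obj X.property
  exact ⟨n, fun a ha x => hn a (Ideal.pow_le_pow_right (Nat.le_succ n) ha) x⟩

end Groth.Agent.Lib.H74FinLen
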