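import Mathlib
import Groth.Agent.Lib.H74FinLen2

set_option autoImplicit false
set_option linter.style.haveILetI false
set_option linter.unusedSectionVars false
universe u

namespace Groth.Agent.Lib.H74FinLen

open CategoryTheory IsLocalRing

variable {A : Type u} [CommRing A] [IsLocalRing A] [IsNoetherianRing A]

/-- a nontrivial module killed by the maximal ideal has a nonzero map to the residue field. -/
theorem exists_map_ne_zero {Q : Type u} [AddCommGroup Q] [Module A Q] [Nontrivial Q]
    (hQ : ∀ a ∈ maximalIdeal A, ∀ q : Q, a • q = 0) :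
    ∃ τ : Q →ₗ[A] (A ⧸ maximalIdeal A), τ ≠ 0 := by
  have htors : Module.IsTorsionBySet A Q (maximalIdeal A : Set A) := fun q a => hQ a.1 a.2 q
  letI : Module (A ⧸ maximalIdeal A) Q := htors.module
  haveI : IsScalarTower A (A ⧸ maximalIdeal A) Q := Module.IsTorsionBySet.isScalarTower htors
  letI : Field (A ⧸ maximalIdeal A) := Ideal.Quotient.field _
  obtain ⟨q, hq⟩ := exists_ne (0 : Q)
  have := (Module.forall_dual_apply_eq_zero_iff (A ⧸ maximalIdeal A) q).not.mpr hq
  push Not at this
  obtain ⟨f, hf⟩ := this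
  refine ⟨f.restrictScalars A, fun h => hf ?_⟩
  have := LinearMap.congr_fun h q
  simpa using this

/-- criterion for an element to generate a finite module over a local ring. -/
theorem span_singleton_eq_top_of_forall {N : Type u} [AddCommGroup N] [Module A N]
    [Module.Finite A N] (x : N)
    (h : ∀ σ : N →ₗ[A] (A ⧸ maximalIdeal A), σ x = 0 → σ = 0) : Submodule.span A {x} = ⊤ := by
  set N' : Submodule A N := Submodule.span A {x} ⊔ maximalIdeal A • ⊤ with hN'
  have hN'top : N' = ⊤ := by
    by_contra hne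
    haveI : Nontrivial (N ⧸ N') := Submodule.Quotient.nontrivial_iff.mpr hne
    have hQ : ∀ a ∈ maximalIdeal A, ∀ q : N ⧸ N', a • q = 0 := by
      intro a ha q
      obtain ⟨y, rfl⟩ := Submodule.Quotient.mk_surjective _ q
      rw [← Submodule.Quotient.mk_smul, Submodule.Quotient.mk_eq_zero]
      exact Submodule.mem_sup_right (Submodule.smul_mem_smul ha Submodule.mem_top)
    obtain ⟨τ, hτ⟩ := exists_map_ne_zero hQ
    apply hτ
    have h0 := h (τ ∘ₗ N'.mkQ) (by
      rw [LinearMap.comp_apply, Submodule.mkQ_apply,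
        (Submodule.Quotient.mk_eq_zero N').mpr
          (Submodule.mem_sup_left (Submodule.mem_span_singleton_self x)), map_zero])
    ext q
    exact LinearMap.congr_fun h0 q
  rw [eq_top_iff]
  refine Submodule.le_of_le_smul_of_le_jacobson_bot (Module.Finite.fg_top)
    (IsLocalRing.maximalIdeal_le_jacobson ⊥) ?_
  rw [← hN', hN'top]


/-- a morphism of `FinLen` with surjective underlying map is an epimorphism. -/
theorem epi_of_surjective {X Y : Dual.FinLen A} (f : X ⟶ Y) (hf : Function.Surjective (lin f)) :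
    Epi f := by
  constructor
  intro Z g h hgh
  apply lin_injective
  ext y
  obtain ⟨x, rfl⟩ := hf y
  have := congrArg (fun k => lin k x) hgh
  exact this

/-- an epimorphism of `FinLen` has surjective underlying map. -/
theorem surjective_of_epi {X Y : Dual.FinLen A} (f : X ⟶ Y) [Epi f] :
    Function.Surjective (lin f) := by
  rw [← LinearMap.range_eq_top]
  let Q : Dual.FinLen A := ⟨ModuleCat.of A (Y.obj ⧸ LinearMap.range (lin f)),
    Y.property.of_surjective (f := (LinearMap.range (lin f)).mkQ) (Submodule.mkQ_surjective _)⟩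
  let q : Y ⟶ Q := ofLin (LinearMap.range (lin f)).mkQ
  have h1 : f ≫ q = f ≫ 0 := by
    apply lin_injective
    ext x
    change Submodule.Quotient.mk (lin f x) = 0
    rw [Submodule.Quotient.mk_eq_zero]
    exact ⟨x, rfl⟩
  have h2 : q = 0 := (cancel_epi f).mp h1
  rw [eq_top_iff]
  intro y _
  have := congrArg (fun k => lin k y) h2
  change Submodule.Quotient.mk y = 0 at this
  rwa [Submodule.Quotient.mk_eq_zero] at this

section Equiv

variable (G : Dual.FinLen A ⥤ Dual.FinLen A) [G.Additive] [G.Linear A] [G.Full] [G.Faithful]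

/-- the canonical projection `A/m^(n'+1) → A/m^(n+1)` for `n ≤ n'`. -/
noncomputable def proj (n n' : ℕ) (h : n ≤ n') : P A n' ⟶ P A n :=
  hat n' (one n) (fun a ha => (smul_one_eq_zero_iff n a).mpr
    (Ideal.pow_le_pow_right (Nat.succ_le_succ h) ha))

theorem proj_one (n n' : ℕ) (h : n ≤ n') : lin (proj n n' h) (one n') = one (A := A) n :=
  hat_one _ _ _

theorem one_ne_zero' (n : ℕ) : one (A := A) n ≠ 0 := by
  intro h
  have := (smul_one_eq_zero_iff (A := A) n 1).mp (by rw [one_smul]; exact h)
  exact (Ideal.ne_top_iff_one _).mp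
    (ne_top_of_le_ne_top (IsLocalRing.maximalIdeal.isMaximal A).ne_top
      (Ideal.pow_le_self (Nat.succ_ne_zero n))) this

/-- every morphism `G(P n) → G(P 0)` is a scalar multiple of `G(proj)`. -/
theorem exists_smul_eq (n : ℕ) (ρ : G.obj (P A n) ⟶ G.obj (P A 0)) :
    ∃ a : A, ρ = a • G.map (proj 0 n (Nat.zero_le n)) := by
  obtain ⟨ρ₀, rfl⟩ := G.map_surjective ρ
  obtain ⟨a, ha⟩ := exists_smul_one 0 (lin ρ₀ (one n))
  refine ⟨a, ?_⟩
  rw [← G.map_smul]
  congr 1
  apply hom_ext_one
  rw [ha, lin_smul, LinearMap.smul_apply, proj_one]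

/-- `G(A/m^(n+1))` is a cyclic module. -/
theorem exists_generator (n : ℕ) :
    ∃ v : (G.obj (P A n)).obj, ∀ y : (G.obj (P A n)).obj, ∃ a : A, y = a • v := by
  -- the map ρ₁
  set ρ₁ := G.map (proj (A := A) 0 n (Nat.zero_le n)) with hρ₁
  have hρ₁0 : ρ₁ ≠ 0 := by
    intro h
    have : proj (A := A) 0 n (Nat.zero_le n) = 0 := G.map_injective (by rw [← hρ₁, h, G.map_zero])
    have h2 := congrArg (fun k => lin k (one n)) this
    simp only [proj_one, lin_zero, LinearMap.zero_apply] at h2
    exact one_ne_zero' 0 h2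
  obtain ⟨x, hx⟩ : ∃ x, lin ρ₁ x ≠ 0 := by
    by_contra hcon
    push Not at hcon
    exact hρ₁0 (lin_injective (by ext x; exact hcon x))
  have hmK : ∀ a ∈ maximalIdeal A, ∀ k : (G.obj (P A 0)).obj, a • k = 0 := by
    intro a ha k
    refine smul_eq_zero_map G (P A 0) a (fun z => ?_) k
    obtain ⟨b, rfl⟩ := exists_smul_one 0 z
    rw [smul_comm, (smul_one_eq_zero_iff 0 a).mpr (by rwa [zero_add, pow_one]), smul_zero]
  -- the injection j : A/m → K
  let j : (A ⧸ maximalIdeal A) →ₗ[A] (G.obj (P A 0)).obj :=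
    Submodule.liftQ (maximalIdeal A) (LinearMap.toSpanSingleton A _ (lin ρ₁ x)) (fun a ha => by
      rw [LinearMap.mem_ker, LinearMap.toSpanSingleton_apply]
      exact hmK a ha _)
  have hj : Function.Injective j := by
    rw [← LinearMap.ker_eq_bot, eq_bot_iff]
    intro z hz
    obtain ⟨a, rfl⟩ := Submodule.Quotient.mk_surjective _ z
    rw [LinearMap.mem_ker] at hz
    change Submodule.liftQ _ _ _ (Submodule.Quotient.mk a) = 0 at hz
    rw [Submodule.liftQ_apply, LinearMap.toSpanSingleton_apply] at hz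
    rw [Submodule.mem_bot, Submodule.Quotient.mk_eq_zero]
    by_contra ha
    have hu : IsUnit a := by
      by_contra hnu
      exact ha ((IsLocalRing.mem_maximalIdeal a).mpr hnu)
    obtain ⟨b, hb⟩ := hu.exists_left_inv
    apply hx
    rw [← one_smul A (lin ρ₁ x), ← hb, mul_smul, hz, smul_zero]
  haveI : IsNoetherian A (G.obj (P A n)).obj :=
    (isFiniteLength_iff_isNoetherian_isArtinian.mp (G.obj (P A n)).property).1
  haveI : Module.Finite A (G.obj (P A n)).obj := inferInstance
  have hspan := span_singleton_eq_top_of_forall (A := A) x (fun σ hσ => by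
    obtain ⟨a, ha⟩ := exists_smul_eq G n (ofLin (j ∘ₗ σ))
    have h1 : lin (ofLin (j ∘ₗ σ) : G.obj (P A n) ⟶ G.obj (P A 0)) x = 0 := by
      rw [lin_ofLin, LinearMap.comp_apply, hσ, map_zero]
    rw [ha, lin_smul, LinearMap.smul_apply] at h1
    have ham : a ∈ maximalIdeal A := by
      by_contra hnm
      have hu : IsUnit a := by
        by_contra hnu
        exact hnm ((IsLocalRing.mem_maximalIdeal a).mpr hnu)
      obtain ⟨b, hb⟩ := hu.exists_left_inv
      apply hx
      rw [← one_smul A (lin ρ₁ x), ← hb, mul_smul, h1, smul_zero]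
    have h2 : ofLin (j ∘ₗ σ) = (0 : G.obj (P A n) ⟶ G.obj (P A 0)) := by
      rw [ha]
      apply lin_injective
      ext y
      rw [lin_smul, LinearMap.smul_apply, lin_zero, LinearMap.zero_apply]
      exact hmK a ham _
    ext y
    apply hj
    have := congrArg (fun k => lin k y) h2
    simp only [lin_ofLin, LinearMap.comp_apply, lin_zero, LinearMap.zero_apply] at this
    rw [this, LinearMap.zero_apply, map_zero])
  refine ⟨x, fun y => ?_⟩
  have hy : y ∈ Submodule.span A {x} := hspan ▸ Submodule.mem_top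
  obtain ⟨a, rfl⟩ := Submodule.mem_span_singleton.mp hy
  exact ⟨a, rfl⟩

end Equiv

end Groth.Agent.Lib.H74FinLen
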