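import Mathlib
import Groth.Agent.Lib.H74FinLen3

set_option autoImplicit false
set_option linter.style.haveILetI false
set_option linter.unusedSectionVars false
universe u

namespace Groth.Agent.Lib.H74FinLen

open CategoryTheory IsLocalRing

variable {A : Type u} [CommRing A] [IsLocalRing A] [IsNoetherianRing A]

section Equiv

variable (G : Dual.FinLen A ⥤ Dual.FinLen A) [G.Additive] [G.Linear A] [G.Full] [G.Faithful]

/-- the generating property. -/
def IsGen (n : ℕ) (v : (G.obj (P A n)).obj) : Prop :=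
  ∀ y : (G.obj (P A n)).obj, ∃ a : A, y = a • v

/-- the annihilator of a generator of `G(A/m^(n+1))` is `m^(n+1)`. -/
theorem smul_gen_eq_zero_iff (n : ℕ) (v : (G.obj (P A n)).obj) (hv : IsGen G n v) (a : A) :
    a • v = 0 ↔ a ∈ maximalIdeal A ^ (n + 1) := by
  constructor
  · intro h
    rw [← smul_one_eq_zero_iff]
    refine smul_eq_zero_of_map G (P A n) a (fun y => ?_) (one n)
    obtain ⟨b, rfl⟩ := hv y
    rw [smul_comm, h, smul_zero]
  · intro h
    refine smul_eq_zero_map G (P A n) a (fun z => ?_) v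
    obtain ⟨b, rfl⟩ := exists_smul_one n z
    rw [smul_comm, (smul_one_eq_zero_iff n a).mpr h, smul_zero]

theorem gen_ne_zero (n : ℕ) (v : (G.obj (P A n)).obj) (hv : IsGen G n v) : v ≠ 0 := by
  intro h
  have := (smul_gen_eq_zero_iff G n v hv 1).mp (by rw [h, smul_zero])
  exact (Ideal.ne_top_iff_one _).mp
    (ne_top_of_le_ne_top (IsLocalRing.maximalIdeal.isMaximal A).ne_top
      (Ideal.pow_le_self (Nat.succ_ne_zero n))) this

/-- a preimage of a generator under a map of cyclic modules is a generator. -/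
theorem isGen_of_map (n : ℕ) (w : (G.obj (P A (n + 1))).obj) (v : (G.obj (P A n)).obj)
    (hv : IsGen G n v)
    (hw : lin (G.map (proj n (n + 1) (Nat.le_succ n))) w = v) : IsGen G (n + 1) w := by
  obtain ⟨w', hw'⟩ := exists_generator G (n + 1)
  obtain ⟨c, hc⟩ := hw' w
  have hcu : IsUnit c := by
    by_contra hnu
    have hcm : c ∈ maximalIdeal A := (IsLocalRing.mem_maximalIdeal c).mpr hnu
    obtain ⟨b, hb⟩ := hv (lin (G.map (proj n (n + 1) (Nat.le_succ n))) w')
    have h1 : v = (c * b) • v := by
      rw [mul_smul, ← hb, ← map_smul, ← hc, hw]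
    have h2 : (1 - c * b) • v = 0 := by
      rw [sub_smul, one_smul, ← h1, sub_self]
    have hu : IsUnit (1 - c * b) := by
      by_contra hnu'
      have hm : 1 - c * b ∈ maximalIdeal A := (IsLocalRing.mem_maximalIdeal _).mpr hnu'
      have h1m : (1 : A) ∈ maximalIdeal A := by
        have := Ideal.add_mem _ hm (Ideal.mul_mem_right b _ hcm)
        simp at this
      exact (Ideal.ne_top_iff_one _).mp (IsLocalRing.maximalIdeal.isMaximal A).ne_top h1m
    obtain ⟨d, hd⟩ := hu.exists_left_inv
    apply gen_ne_zero G n v hv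
    rw [← one_smul A v, ← hd, mul_smul, h2, smul_zero]
  obtain ⟨d, hd⟩ := hcu.exists_left_inv
  intro y
  obtain ⟨a, ha⟩ := hw' y
  refine ⟨a * d, ?_⟩
  rw [ha, hc, ← mul_smul, mul_assoc, hd, mul_one]

end Equiv

section Main

variable (F : Dual.FinLen A ≌ Dual.FinLen A) [F.functor.Additive] [F.functor.Linear A]

theorem proj_surjective (n : ℕ) :
    Function.Surjective (lin (F.functor.map (proj (A := A) n (n + 1) (Nat.le_succ n)))) := by
  haveI : Epi (proj (A := A) n (n + 1) (Nat.le_succ n)) := by
    apply epi_of_surjective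
    intro z
    obtain ⟨a, rfl⟩ := exists_smul_one n z
    exact ⟨a • one (n + 1), by rw [map_smul, proj_one]⟩
  exact surjective_of_epi _

/-- a compatible system of generators. -/
theorem exists_compatible_generators :
    ∃ u : ∀ n, (F.functor.obj (P A n)).obj, (∀ n, IsGen F.functor n (u n)) ∧
      ∀ n, lin (F.functor.map (proj n (n + 1) (Nat.le_succ n))) (u (n + 1)) = u n := by
  obtain ⟨v₀, hv₀⟩ := exists_generator F.functor 0
  have step : ∀ n (v : {v : (F.functor.obj (P A n)).obj // IsGen F.functor n v}),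
      ∃ w : {w : (F.functor.obj (P A (n + 1))).obj // IsGen F.functor (n + 1) w},
        lin (F.functor.map (proj n (n + 1) (Nat.le_succ n))) w.1 = v.1 := by
    intro n v
    obtain ⟨w, hw⟩ := proj_surjective F n v.1
    exact ⟨⟨w, isGen_of_map F.functor n w v.1 v.2 hw⟩, hw⟩
  choose s hs using step
  let u : ∀ n, {v : (F.functor.obj (P A n)).obj // IsGen F.functor n v} :=
    fun n => Nat.rec ⟨v₀, hv₀⟩ (fun n v => s n v) n
  exact ⟨fun n => (u n).1, fun n => (u n).2, fun n => hs n (u n)⟩

end Main

end Groth.Agent.Lib.H74FinLen
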