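import Mathlib
import Groth.Agent.Lib.H74FinLen4

set_option autoImplicit false
set_option linter.style.haveILetI false
set_option linter.unusedSectionVars false
universe u

namespace Groth.Agent.Lib.H74FinLen

open CategoryTheory IsLocalRing

variable {A : Type u} [CommRing A] [IsLocalRing A] [IsNoetherianRing A]

section Main

variable (G : Dual.FinLen A ⥤ Dual.FinLen A) [G.Additive] [G.Linear A] [G.Full] [G.Faithful]
  (u : ∀ n, (G.obj (P A n)).obj) (hgen : ∀ n, IsGen G n (u n))
  (hcompat : ∀ n, lin (G.map (proj n (n + 1) (Nat.le_succ n))) (u (n + 1)) = u n)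

theorem proj_comp (n n' n'' : ℕ) (h : n ≤ n') (h' : n' ≤ n'') :
    proj (A := A) n' n'' h' ≫ proj n n' h = proj n n'' (h.trans h') := by
  apply hom_ext_one
  rw [lin_comp_apply, proj_one, proj_one, proj_one]

include hcompat in
theorem compat_le (n n' : ℕ) (h : n ≤ n') : lin (G.map (proj n n' h)) (u n') = u n := by
  induction n' with
  | zero =>
    obtain rfl : n = 0 := Nat.le_zero.mp h
    have : proj (A := A) 0 0 h = 𝟙 _ := by
      apply hom_ext_one
      rw [proj_one, lin_id, LinearMap.id_apply]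
    rw [this, G.map_id, lin_id, LinearMap.id_apply]
  | succ k ih =>
    rcases Nat.of_le_succ h with h1 | h1
    · rw [← proj_comp n k (k + 1) h1 (Nat.le_succ k), G.map_comp, lin_comp_apply, hcompat, ih h1]
    · subst h1
      have : proj (A := A) (k + 1) (k + 1) h = 𝟙 _ := by
        apply hom_ext_one
        rw [proj_one, lin_id, LinearMap.id_apply]
      rw [this, G.map_id, lin_id, LinearMap.id_apply]

/-- the value of the comparison map at `x`, computed at level `n`. -/
noncomputable def val {X : Dual.FinLen A} (n : ℕ) (x : X.obj)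
    (hx : ∀ a ∈ maximalIdeal A ^ (n + 1), a • x = 0) : (G.obj X).obj :=
  lin (G.map (hat n x hx)) (u n)

include hcompat in
theorem val_eq_of_le {X : Dual.FinLen A} (n n' : ℕ) (h : n ≤ n') (x : X.obj)
    (hx : ∀ a ∈ maximalIdeal A ^ (n + 1), a • x = 0)
    (hx' : ∀ a ∈ maximalIdeal A ^ (n' + 1), a • x = 0) :
    val G u n' x hx' = val G u n x hx := by
  unfold val
  have : hat n' x hx' = proj n n' h ≫ hat n x hx := by
    apply hom_ext_one
    rw [lin_comp_apply, proj_one, hat_one, hat_one]
  rw [this, G.map_comp, lin_comp_apply, compat_le G u hcompat n n' h]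

include hcompat in
theorem val_eq {X : Dual.FinLen A} (n n' : ℕ) (x : X.obj)
    (hx : ∀ a ∈ maximalIdeal A ^ (n + 1), a • x = 0)
    (hx' : ∀ a ∈ maximalIdeal A ^ (n' + 1), a • x = 0) :
    val G u n' x hx' = val G u n x hx := by
  have hmax : ∀ a ∈ maximalIdeal A ^ (max n n' + 1), a • x = 0 := fun a ha =>
    hx a (Ideal.pow_le_pow_right (Nat.succ_le_succ (le_max_left n n')) ha)
  rw [← val_eq_of_le G u hcompat n (max n n') (le_max_left _ _) x hx hmax,
    ← val_eq_of_le G u hcompat n' (max n n') (le_max_right _ _) x hx' hmax]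

theorem val_add {X : Dual.FinLen A} (n : ℕ) (x y : X.obj)
    (hx : ∀ a ∈ maximalIdeal A ^ (n + 1), a • x = 0)
    (hy : ∀ a ∈ maximalIdeal A ^ (n + 1), a • y = 0)
    (hxy : ∀ a ∈ maximalIdeal A ^ (n + 1), a • (x + y) = 0) :
    val G u n (x + y) hxy = val G u n x hx + val G u n y hy := by
  unfold val
  have : hat n (x + y) hxy = hat n x hx + hat n y hy := by
    apply hom_ext_one
    rw [lin_add, LinearMap.add_apply, hat_one, hat_one, hat_one]
  rw [this, G.map_add, lin_add, LinearMap.add_apply]

theorem val_smul {X : Dual.FinLen A} (n : ℕ) (c : A) (x : X.obj)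
    (hx : ∀ a ∈ maximalIdeal A ^ (n + 1), a • x = 0)
    (hcx : ∀ a ∈ maximalIdeal A ^ (n + 1), a • (c • x) = 0) :
    val G u n (c • x) hcx = c • val G u n x hx := by
  unfold val
  have : hat n (c • x) hcx = c • hat n x hx := by
    apply hom_ext_one
    rw [lin_smul, LinearMap.smul_apply, hat_one, hat_one]
  rw [this, G.map_smul, lin_smul, LinearMap.smul_apply]

theorem val_map {X Y : Dual.FinLen A} (f : X ⟶ Y) (n : ℕ) (x : X.obj)
    (hx : ∀ a ∈ maximalIdeal A ^ (n + 1), a • x = 0)
    (hfx : ∀ a ∈ maximalIdeal A ^ (n + 1), a • (lin f x) = 0) :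
    lin (G.map f) (val G u n x hx) = val G u n (lin f x) hfx := by
  unfold val
  have : hat n (lin f x) hfx = hat n x hx ≫ f := by
    apply hom_ext_one
    rw [lin_comp_apply, hat_one, hat_one]
  rw [this, G.map_comp, lin_comp_apply]

include hgen in
theorem val_eq_zero {X : Dual.FinLen A} (n : ℕ) (x : X.obj)
    (hx : ∀ a ∈ maximalIdeal A ^ (n + 1), a • x = 0) (h : val G u n x hx = 0) : x = 0 := by
  unfold val at h
  have h1 : G.map (hat n x hx) = 0 := by
    apply lin_injective
    ext y
    obtain ⟨a, rfl⟩ := hgen n y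
    rw [map_smul, h, smul_zero, lin_zero, LinearMap.zero_apply]
  have h2 : hat n x hx = 0 := G.map_injective (by rw [h1, G.map_zero])
  rw [← hat_one n x hx, h2, lin_zero, LinearMap.zero_apply]

include hgen in
theorem exists_val_eq {X : Dual.FinLen A} (n : ℕ)
    (hX : ∀ a ∈ maximalIdeal A ^ (n + 1), ∀ x : X.obj, a • x = 0) (y : (G.obj X).obj) :
    ∃ x : X.obj, val G u n x (fun a ha => hX a ha x) = y := by
  -- the linear map `G(P n) → G X`, `u n ↦ y`
  have hy : ∀ a ∈ maximalIdeal A ^ (n + 1), a • y = 0 := fun a ha =>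
    smul_eq_zero_map G X a (hX a ha) y
  -- build via `A/m^(n+1) ≃ G(P n)`
  let θ : (P A n).obj →ₗ[A] (G.obj (P A n)).obj :=
    Submodule.liftQ (maximalIdeal A ^ (n + 1)) (LinearMap.toSpanSingleton A _ (u n))
      (fun a ha => by
        rw [LinearMap.mem_ker, LinearMap.toSpanSingleton_apply]
        exact (smul_gen_eq_zero_iff G n (u n) (hgen n) a).mpr ha)
  have hθ1 : θ (one n) = u n := by
    change Submodule.liftQ _ _ _ (Submodule.Quotient.mk 1) = u n
    rw [Submodule.liftQ_apply, LinearMap.toSpanSingleton_apply, one_smul]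
  have hθbij : Function.Bijective θ := by
    constructor
    · rw [← LinearMap.ker_eq_bot, eq_bot_iff]
      intro z hz
      obtain ⟨a, rfl⟩ := exists_smul_one n z
      rw [LinearMap.mem_ker, map_smul, hθ1, smul_gen_eq_zero_iff G n (u n) (hgen n)] at hz
      rw [Submodule.mem_bot, (smul_one_eq_zero_iff n a).mpr hz]
    · intro w
      obtain ⟨a, rfl⟩ := hgen n w
      exact ⟨a • one n, by rw [map_smul, hθ1]⟩
  let θe := LinearEquiv.ofBijective θ hθbij
  let g : G.obj (P A n) ⟶ G.obj X := ofLin ((lin (hat n y hy)) ∘ₗ θe.symm.toLinearMap)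
  have hg : lin g (u n) = y := by
    change lin (hat n y hy) (θe.symm (u n)) = y
    have : θe.symm (u n) = one n := by
      rw [LinearEquiv.symm_apply_eq]
      exact hθ1.symm
    rw [this, hat_one]
  obtain ⟨h, hh⟩ := G.map_surjective g
  refine ⟨lin h (one n), ?_⟩
  unfold val
  have : hat n (lin h (one n)) (fun a ha => hX a ha _) = h := by
    apply hom_ext_one
    rw [hat_one]
  rw [this, hh, hg]

end Main

end Groth.Agent.Lib.H74FinLen
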