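import Mathlib
import Groth.Agent.Lib.H74FinLen5

set_option autoImplicit false
set_option linter.style.haveILetI false
set_option linter.unusedSectionVars false
universe u

namespace Groth.Agent.Lib.H74FinLen

open CategoryTheory IsLocalRing

variable {A : Type u} [CommRing A] [IsLocalRing A] [IsNoetherianRing A]

section Main

variable (G : Dual.FinLen A ⥤ Dual.FinLen A) [G.Additive] [G.Linear A] [G.Full] [G.Faithful]
  (u : ∀ n, (G.obj (P A n)).obj) (hgen : ∀ n, IsGen G n (u n))
  (hcompat : ∀ n, lin (G.map (proj n (n + 1) (Nat.le_succ n))) (u (n + 1)) = u n)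

/-- the chosen level of `X`. -/
noncomputable def lvl (X : Dual.FinLen A) : ℕ := Classical.choose (exists_pow_kills X)

theorem lvl_spec (X : Dual.FinLen A) :
    ∀ a ∈ maximalIdeal A ^ (lvl X + 1), ∀ x : X.obj, a • x = 0 :=
  Classical.choose_spec (exists_pow_kills X)

/-- the comparison map `X → G X`. -/
noncomputable def eta (X : Dual.FinLen A) : X.obj →ₗ[A] (G.obj X).obj where
  toFun x := val G u (lvl X) x (fun a ha => lvl_spec X a ha x)
  map_add' x y := val_add G u _ x y _ _ _
  map_smul' c x := val_smul G u _ c x _ _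

include hgen in
theorem eta_bijective (X : Dual.FinLen A) : Function.Bijective (eta G u X) := by
  constructor
  · rw [← LinearMap.ker_eq_bot, eq_bot_iff]
    intro x hx
    exact val_eq_zero G u hgen _ x _ hx
  · intro y
    exact exists_val_eq G u hgen (lvl X) (lvl_spec X) y

include hcompat in
theorem eta_naturality {X Y : Dual.FinLen A} (f : X ⟶ Y) (x : X.obj) :
    lin (G.map f) (eta G u X x) = eta G u Y (lin f x) := by
  change lin (G.map f) (val G u (lvl X) x _) = val G u (lvl Y) (lin f x) _
  rw [val_map G u f (lvl X) x _ (fun a ha => by rw [← map_smul, lvl_spec X a ha x, map_zero])]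
  exact val_eq G u hcompat _ _ _ _ _

include hgen hcompat in
/-- the natural isomorphism. -/
theorem nonempty_iso : Nonempty (G ≅ 𝟭 (Dual.FinLen A)) := by
  refine ⟨(NatIso.ofComponents (F := 𝟭 (Dual.FinLen A)) (G := G) (fun X =>
    ObjectProperty.isoMk _ (LinearEquiv.toModuleIso
      (LinearEquiv.ofBijective (eta G u X) (eta_bijective G u hgen X)))) ?_).symm⟩
  intro X Y f
  apply lin_injective
  ext x
  exact (eta_naturality G u hcompat f x).symm

end Main

theorem main (F : Dual.FinLen A ≌ Dual.FinLen A) [F.functor.Additive] [F.functor.Linear A] :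
    Nonempty (F.functor ≅ 𝟭 (Dual.FinLen A)) := by
  obtain ⟨u, hgen, hcompat⟩ := exists_compatible_generators F
  exact nonempty_iso F.functor u hgen hcompat

end Groth.Agent.Lib.H74FinLen
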