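import Mathlib.RingTheory.Regular.ProjectiveDimension
import Mathlib.Algebra.Category.ModuleCat.InjectiveDimension
import Mathlib.Algebra.Module.Injective

set_option autoImplicit false
universe u
open CategoryTheory Abelian IsLocalRing Pointwise

namespace Groth.Agent.Lib.H87GlDim

variable {A : Type u} [CommRing A]

/-- Baer's criterion in `Ext` form. -/
theorem injective_of_ext_one_quotient (N : ModuleCat.{u} A)
    (h : ∀ I : Ideal A, Subsingleton (Ext (ModuleCat.of A (A ⧸ I)) N 1)) : Injective N := by
  have hb : Module.Baer A N := by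
    intro I g
    let S : ShortComplex (ModuleCat.{u} A) :=
      ModuleCat.shortComplexOfCompEqZero (Submodule.subtype I) (Submodule.mkQ I)
        (by ext x; exact (Submodule.Quotient.mk_eq_zero I).mpr x.2)
    have hS : S.ShortExact := ModuleCat.shortComplex_shortExact S
      (by
        intro y
        simp only [S, ModuleCat.hom_ofHom]
        constructor
        · intro hy
          exact ⟨⟨y, (Submodule.Quotient.mk_eq_zero I).mp hy⟩, rfl⟩
        · rintro ⟨z, rfl⟩
          exact (Submodule.Quotient.mk_eq_zero I).mpr z.2)
      (Subtype.val_injective) (Submodule.mkQ_surjective I)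
    have := h I
    obtain ⟨x₂, hx₂⟩ := Ext.contravariant_sequence_exact₁ hS N (Ext.mk₀ (ModuleCat.ofHom g))
      (rfl : 1 + 0 = 1) (Subsingleton.elim _ _)
    obtain ⟨g', rfl⟩ := (Ext.mk₀_bijective _ _).2 x₂
    rw [Ext.mk₀_comp_mk₀, (Ext.mk₀_bijective _ _).1.eq_iff] at hx₂
    refine ⟨g'.hom, fun x hx => ?_⟩
    have := congrArg (fun φ => φ.hom ⟨x, hx⟩) hx₂
    simpa [S] using this
  have := Module.Baer.injective hb
  exact (Module.injective_iff_injective_object A N).mp this

theorem hasInjectiveDimensionLT_of_ext_quotient (n : ℕ) : ∀ (N : ModuleCat.{u} A)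
    (_ : ∀ I : Ideal A, Subsingleton (Ext (ModuleCat.of A (A ⧸ I)) N (n + 1))),
    HasInjectiveDimensionLT N (n + 1) := by
  induction n with
  | zero =>
    intro N h
    have := injective_of_ext_one_quotient N h
    infer_instance
  | succ n ih =>
    intro N h
    let ⟨p⟩ := EnoughInjectives.presentation N
    have hS : (ShortComplex.mk _ _ (Limits.cokernel.condition p.f)).ShortExact :=
      { exact := ShortComplex.exact_cokernel p.f }
    have hinj : Injective (ShortComplex.mk _ _ (Limits.cokernel.condition p.f)).X₂ := p.injective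
    rw [← hS.hasInjectiveDimensionLT_X₃_iff n hinj]
    apply ih
    intro I
    have := h I
    have key : ∀ x : Ext (ModuleCat.of A (A ⧸ I))
        (ShortComplex.mk _ _ (Limits.cokernel.condition p.f)).X₃ (n + 1), x = 0 := fun x => by
      obtain ⟨x₂, rfl⟩ := Ext.covariant_sequence_exact₃ _ hS x rfl (Subsingleton.elim _ _)
      rw [Ext.eq_zero_of_injective x₂, Ext.zero_comp]
    exact ⟨fun a b => by rw [key a, key b]⟩

/-- Auslander: global dimension is detected on cyclic modules. -/
theorem hasProjectiveDimensionLT_of_forall_quotient (n : ℕ)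
    (h : ∀ I : Ideal A, HasProjectiveDimensionLT (ModuleCat.of A (A ⧸ I)) (n + 1))
    (M : ModuleCat.{u} A) : HasProjectiveDimensionLT M (n + 1) := by
  apply hasProjectiveDimensionLT_of_enoughInjectives
  intro N
  have : HasInjectiveDimensionLT N (n + 1) := hasInjectiveDimensionLT_of_ext_quotient n N
    (fun I => (h I).subsingleton _ (n + 1) (n + 1) le_rfl N)
  exact HasInjectiveDimensionLT.subsingleton N (n + 1) (n + 1) le_rfl M


theorem ext_subsingleton_of_iso {X X' Y : ModuleCat.{u} A} (e : X ≅ X') (i : ℕ)
    (h : Subsingleton (Ext X' Y i)) : Subsingleton (Ext X Y i) := by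
  refine ⟨fun a b => ?_⟩
  have key : ∀ x : Ext X Y i, x = 0 := fun x => by
    have h1 : (Ext.mk₀ e.hom).comp ((Ext.mk₀ e.inv).comp x (zero_add i)) (zero_add i) = x := by
      rw [Ext.mk₀_comp_mk₀_assoc, e.hom_inv_id, Ext.mk₀_id_comp]
    rw [← h1, Subsingleton.elim ((Ext.mk₀ e.inv).comp x (zero_add i)) 0, Ext.comp_zero]
  rw [key a, key b]

theorem ext_subsingleton_of_subsingleton (X Y : ModuleCat.{u} A) [Subsingleton X] (i : ℕ) :
    Subsingleton (Ext X Y i) := by
  have hz : Limits.IsZero X := ModuleCat.isZero_of_subsingleton X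
  have := hz.hasProjectiveDimensionLT_zero
  exact HasProjectiveDimensionLT.subsingleton X 0 i (Nat.zero_le _) Y

variable [IsLocalRing A] [IsNoetherianRing A]

set_option backward.isDefEq.respectTransparency false in
theorem ext_cyclic_subsingleton (n : ℕ) (L : ModuleCat.{u} A) [Module.Finite A L]
    (hk : ∀ i, n < i → Subsingleton (Ext (ModuleCat.of A (ResidueField A)) L i)) :
    ∀ (I : Ideal A) (M : ModuleCat.{u} A) (f : A →ₗ[A] M), Function.Surjective f →
      LinearMap.ker f = I → ∀ i, n < i → Subsingleton (Ext M L i) := by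
  intro I
  induction I using IsNoetherian.induction with
  | _ I IH =>
  intro M f hf hker
  have hfin : Module.Finite A M := Module.Finite.of_surjective f hf
  by_cases htop : I = ⊤
  · -- M is zero
    have : Subsingleton M := by
      refine ⟨fun a b => ?_⟩
      obtain ⟨a', rfl⟩ := hf a
      obtain ⟨b', rfl⟩ := hf b
      have ha : a' ∈ LinearMap.ker f := by rw [hker, htop]; trivial
      have hb : b' ∈ LinearMap.ker f := by rw [hker, htop]; trivial
      rw [LinearMap.mem_ker.mp ha, LinearMap.mem_ker.mp hb]
    intro i _
    exact ext_subsingleton_of_subsingleton M L i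
  by_cases hmax : I = maximalIdeal A
  · intro i hi
    let e : (A ⧸ maximalIdeal A) ≃ₗ[A] M :=
      (Submodule.quotEquivOfEq _ _ (hker.trans hmax).symm).trans (f.quotKerEquivOfSurjective hf)
    exact ext_subsingleton_of_iso (e.symm.toModuleIso) i (hk i hi)
  -- choose x in the maximal ideal outside I
  have hlt : I < maximalIdeal A := lt_of_le_of_ne (IsLocalRing.le_maximalIdeal htop) hmax
  obtain ⟨x, hxm, hxI⟩ := Set.exists_of_ssubset hlt
  -- the quotient M / xM
  have hQ : ∀ i, n < i → Subsingleton (Ext (ModuleCat.of A (QuotSMulTop x M)) L i) := by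
    let f' : A →ₗ[A] QuotSMulTop x M := (Submodule.mkQ _).comp f
    have hf' : Function.Surjective f' := (Submodule.mkQ_surjective _).comp hf
    have hlt' : I < LinearMap.ker f' := by
      refine lt_of_le_of_ne ?_ ?_
      · intro a ha
        rw [← hker] at ha
        simp only [LinearMap.mem_ker] at ha ⊢
        simp [f', ha]
      · intro heq
        apply hxI
        change x ∈ I
        rw [heq]
        simp only [LinearMap.mem_ker, f', LinearMap.comp_apply, Submodule.mkQ_apply,
          Submodule.Quotient.mk_eq_zero]
        rw [Submodule.mem_smul_pointwise_iff_exists]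
        refine ⟨f 1, trivial, ?_⟩
        rw [← map_smul, smul_eq_mul, mul_one]
    exact IH _ hlt' (ModuleCat.of A (QuotSMulTop x M)) f' hf' rfl
  by_cases hreg : IsSMulRegular M x
  · -- Nakayama
    intro i hi
    let S := M.smulShortComplex x
    have hS : S.ShortExact := hreg.smulShortComplex_shortExact
    have zero := hQ (i + 1) (by omega)
    have exac := Ext.contravariant_sequence_exact₁' hS L i (i + 1) (add_comm 1 i)
    have epi := exac.epi_f ((@AddCommGrpCat.isZero_of_subsingleton _ zero).eq_zero_of_tgt _)
    have : S.f = x • 𝟙 M := rfl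
    simp only [S, this, AddCommGrpCat.epi_iff_surjective, AddCommGrpCat.hom_ofHom] at epi
    by_contra! ntr
    have : x ∈ (Module.annihilator A (Ext M L i)).jacobson :=
      (IsLocalRing.maximalIdeal_le_jacobson _) hxm
    absurd Submodule.top_ne_pointwise_smul_of_mem_jacobson_annihilator this
    rw [eq_comm, eq_top_iff]
    intro y hy
    rcases epi y with ⟨z, hz⟩
    simp only [ModuleCat.smulShortComplex, Ext.mk₀_smul,
      Ext.bilinearComp_apply_apply, Ext.smul_comp, Ext.mk₀_id_comp] at hz
    simpa [← hz] using Submodule.smul_mem_pointwise_smul _ _ ⊤ trivial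
  · -- x kills a nonzero element of M
    intro i hi
    obtain ⟨m₀, hm₀, hxm₀⟩ : ∃ m₀ : M, m₀ ≠ 0 ∧ x • m₀ = 0 := by
      simp only [IsSMulRegular, Function.Injective, not_forall] at hreg
      obtain ⟨a, b, hab, hne⟩ := hreg
      refine ⟨a - b, sub_ne_zero.mpr hne, ?_⟩
      rw [smul_sub, sub_eq_zero]
      exact hab
    let N : Submodule A M := x • ⊤
    let S : ShortComplex (ModuleCat.{u} A) :=
      ModuleCat.shortComplexOfCompEqZero N.subtype N.mkQ
        (by ext y; exact (Submodule.Quotient.mk_eq_zero N).mpr y.2)
    have hS : S.ShortExact := ModuleCat.shortComplex_shortExact S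
      (by
        intro y
        simp only [S, ModuleCat.hom_ofHom]
        constructor
        · intro hy
          exact ⟨⟨y, (Submodule.Quotient.mk_eq_zero N).mp hy⟩, rfl⟩
        · rintro ⟨z, rfl⟩
          exact (Submodule.Quotient.mk_eq_zero N).mpr z.2)
      (Subtype.val_injective) (Submodule.mkQ_surjective N)
    have hN : Subsingleton (Ext (ModuleCat.of A N) L i) := by
      let g : A →ₗ[A] N := LinearMap.codRestrict N ((LinearMap.lsmul A M x).comp f)
        (fun a => by
          change x • f a ∈ x • (⊤ : Submodule A M)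
          exact Submodule.smul_mem_pointwise_smul _ _ ⊤ trivial)
      have hg : Function.Surjective g := by
        rintro ⟨y, hy⟩
        have hy' : y ∈ x • (⊤ : Submodule A M) := hy
        rw [Submodule.mem_smul_pointwise_iff_exists] at hy'
        obtain ⟨b, -, rfl⟩ := hy'
        obtain ⟨a, rfl⟩ := hf b
        exact ⟨a, Subtype.ext rfl⟩
      have hlt'' : I < LinearMap.ker g := by
        obtain ⟨a₀, rfl⟩ := hf m₀
        refine lt_of_le_of_ne ?_ ?_
        · intro a ha
          rw [← hker] at ha
          rw [LinearMap.mem_ker] at ha ⊢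
          apply Subtype.ext
          change x • f a = 0
          rw [ha, smul_zero]
        · intro heq
          apply hm₀
          have : a₀ ∈ LinearMap.ker g := by
            rw [LinearMap.mem_ker]
            apply Subtype.ext
            exact hxm₀
          rw [← heq, ← hker] at this
          exact this
      exact IH _ hlt'' (ModuleCat.of A N) g hg rfl i hi
    have hQi := hQ i hi
    have key : ∀ y : Ext M L i, y = 0 := fun y => by
      obtain ⟨y₃, rfl⟩ := Ext.contravariant_sequence_exact₂ hS L y (Subsingleton.elim _ _)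
      rw [Subsingleton.elim y₃ 0, Ext.comp_zero]
    exact ⟨fun a b => by rw [key a, key b]⟩

/-- Noetherian local ring: if the residue field has projective dimension `≤ n` then so does
every module. -/
theorem hasProjectiveDimensionLT_of_residueField (n : ℕ)
    (hk : HasProjectiveDimensionLT (ModuleCat.of A (ResidueField A)) (n + 1))
    (M : ModuleCat.{u} A) : HasProjectiveDimensionLT M (n + 1) := by
  apply hasProjectiveDimensionLT_of_forall_quotient
  intro I
  apply ModuleCat.hasProjectiveDimensionLT_of_forall_finite
  intro L hL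
  exact ext_cyclic_subsingleton n L (fun i hi => hk.subsingleton _ (n + 1) i hi L) I _
    (Submodule.mkQ I) (Submodule.mkQ_surjective I) (Submodule.ker_mkQ I) (n + 1) (Nat.lt_succ_self n)

end Groth.Agent.Lib.H87GlDim
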