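import Mathlib
import Groth.Agent.Lib.H74InjDim1
import Groth.Agent.Lib.H29ExtBaseChange

/-!
# Flat base change with unramified primes preserves injective modules (helper74)
-/

set_option autoImplicit false
set_option linter.unusedSectionVars false
set_option linter.style.haveILetI false

universe u

open CategoryTheory Abelian IsLocalRing
open scoped TensorProduct

namespace Groth.Agent.Lib.H74FlatInj

open Groth.Agent.Lib.H74InjDim Groth.Agent.Lib.H26ExtLocIso Groth.Agent.Lib.H29ExtBaseChange

section

variable (A B : Type u) [CommRing A] [CommRing B] [Algebra A B] [IsNoetherianRing A]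
  [IsNoetherianRing B] [Module.Flat A B]
  (I : Type u) [AddCommGroup I] [Module A I]

theorem subsingleton_tensor_of_subsingleton (C : Type u) [CommRing C] [Algebra A C]
    (N : Type u) [AddCommGroup N] [Module A N] [Subsingleton N] : Subsingleton (C ⊗[A] N) := by
  refine ⟨fun x y => ?_⟩
  have key : ∀ z : C ⊗[A] N, z = 0 := by
    intro z
    induction z using TensorProduct.induction_on with
    | zero => rfl
    | tmul c n => rw [Subsingleton.elim n 0, TensorProduct.tmul_zero]
    | add a b ha hb => rw [ha, hb, add_zero]
  rw [key x, key y]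

/-- The local `Ext` groups of `B ⊗ I` at a prime `q` with `pB_q = qB_q`. -/
theorem subsingleton_lext (q : Ideal B) [hq : q.IsPrime]
    (h : Ideal.map (algebraMap B (Localization.AtPrime q)) ((q.comap (algebraMap A B)).map
      (algebraMap A B)) = maximalIdeal (Localization.AtPrime q))
    (n : ℕ) (hI : Subsingleton (Ext.{u} (ModuleCat.of A (A ⧸ q.comap (algebraMap A B)))
      (ModuleCat.of A I) n)) :
    Subsingleton (LExt (B ⊗[A] I) q n) := by
  let C := Localization.AtPrime q
  let p : Ideal A := q.comap (algebraMap A B)
  haveI : Module.Flat B C := IsLocalization.flat C q.primeCompl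
  haveI : Module.Flat A C := Module.Flat.trans A B C
  have hpC : p.map (algebraMap A C) = maximalIdeal C := by
    rw [← h, Ideal.map_map, ← IsScalarTower.algebraMap_eq]
  -- the two identifications
  let eK : (C ⊗[A] (A ⧸ p)) ≃ₗ[C] ResidueField C :=
    (Algebra.TensorProduct.quotIdealMapEquivTensorQuot C p).symm.toLinearEquiv ≪≫ₗ
      Submodule.quotEquivOfEq _ _ hpC
  let eI : (C ⊗[A] I) ≃ₗ[C] LocalizedModule q.primeCompl (B ⊗[A] I) :=
    (TensorProduct.AlgebraTensorModule.cancelBaseChange A B C C I).symm ≪≫ₗ
      (LocalizedModule.equivTensorProduct q.primeCompl (B ⊗[A] I)).symm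
  have h1 : Subsingleton (Ext.{u} ((tensF A C).obj (ModuleCat.of A (A ⧸ p)))
      ((tensF A C).obj (ModuleCat.of A I)) n) := by
    haveI := subsingleton_tensor_of_subsingleton A C
      (Ext.{u} (ModuleCat.of A (A ⧸ p)) (ModuleCat.of A I) n)
    exact (extBaseChangeEquiv (A := A) (B := C) (ModuleCat.of A (A ⧸ p)) (ModuleCat.of A I)
      n).symm.injective.subsingleton
  exact (extCongr (R := C)
    (X := (tensF A C).obj (ModuleCat.of A (A ⧸ p)))
    (X' := ModuleCat.of C (ResidueField C))
    (Y := (tensF A C).obj (ModuleCat.of A I))
    (Y' := ModuleCat.of C (LocalizedModule q.primeCompl (B ⊗[A] I)))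
    eK.toModuleIso eI.toModuleIso n).symm.injective.subsingleton

/-- **Flat base change with `pB_q = qB_q` at all primes preserves injective modules.** -/
theorem injective_baseChange
    (h : ∀ q : PrimeSpectrum B, Ideal.map (algebraMap B (Localization.AtPrime q.asIdeal))
      ((q.asIdeal.comap (algebraMap A B)).map (algebraMap A B)) =
        maximalIdeal (Localization.AtPrime q.asIdeal))
    [Module.Injective A I] : Module.Injective B (B ⊗[A] I) := by
  rw [Module.injective_iff_injective_object]
  have h1 : HasInjectiveDimensionLT (ModuleCat.of B (B ⊗[A] I)) (0 + 1) := by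
    apply hasInjectiveDimensionLT_of_local (B ⊗[A] I) 0
    intro q hq
    apply subsingleton_lext A B I q (h ⟨q, hq⟩) (0 + 1)
    haveI : CategoryTheory.Injective (ModuleCat.of A I) :=
      (Module.injective_iff_injective_object A I).mp inferInstance
    exact ⟨fun a b => by rw [Ext.eq_zero_of_injective a, Ext.eq_zero_of_injective b]⟩
  exact injective_iff_hasInjectiveDimensionLT_one.mpr h1

end

end Groth.Agent.Lib.H74FlatInj
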