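import Groth.Agent.S0312
import Groth.Agent.Lib.H14GorArt

set_option autoImplicit false
set_option linter.style.haveILetI false
set_option linter.unusedSectionVars false
universe u
open IsLocalRing TensorProduct

namespace Groth.Agent.Lib.H74GorFib

variable {A : Type u} [CommRing A] [IsLocalRing A] [IsNoetherianRing A] {B : Type u} [CommRing B]
  [IsLocalRing B] [IsNoetherianRing B] [Algebra A B] [IsLocalHom (algebraMap A B)]
  [Module.Flat A B] {E : Type u} [AddCommGroup E] [Module A E]

variable (A B) in
/-- the extended maximal ideal `m_A B`. -/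
abbrev mI : Ideal B := Ideal.map (algebraMap A B) (maximalIdeal A)

/-- Length count (general fibre): for an ideal `J` of `A` with `A ⧸ J` of finite length, the dual
of `B ⧸ J B` into `B ⊗ E` has the same length over `B` as `B ⧸ J B`. -/
theorem length_hom_quot
    (f : ResidueField A →ₗ[A] E) (hf : _root_.InjHull.IsInjectiveHull f)
    (J : Ideal A) (hJ : IsFiniteLength A (A ⧸ J)) :
    Module.length B ((B ⧸ J.map (algebraMap A B)) →ₗ[B] TensorProduct A B E) =
      Module.length B (B ⧸ J.map (algebraMap A B)) := by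
  have : Module.FinitePresentation A (A ⧸ J) := Module.finitePresentation_of_finite A (A ⧸ J)
  have e1 : (B ⧸ J.map (algebraMap A B)) ≃ₗ[B] TensorProduct A B (A ⧸ J) :=
    (Algebra.TensorProduct.quotIdealMapEquivTensorQuot B J).toLinearEquiv
  have hbc := Module.FinitePresentation.isBaseChange_map A (A ⧸ J) E B
  have h3 : Module.length B ((B ⧸ J.map (algebraMap A B)) →ₗ[B] TensorProduct A B E) =
      Module.length B (TensorProduct A B (A ⧸ J) →ₗ[B] TensorProduct A B E) :=
    Groth.Agent.S0312.length_arrowCongr e1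
  have h2 : Module.length B (TensorProduct A B ((A ⧸ J) →ₗ[A] E)) =
      Module.length B (TensorProduct A B (A ⧸ J) →ₗ[B] TensorProduct A B E) :=
    hbc.equiv.length_eq
  rw [h3, ← h2, e1.length_eq, IsLocalRing.length_baseChange, IsLocalRing.length_baseChange,
    Groth.Agent.S5170.result A E f hf (A ⧸ J) hJ]

/-- `Hom_B(B/m_A B, B ⊗ E) ≅ B/m_A B`. -/
theorem nonempty_hom_fibre_equiv
    (f : ResidueField A →ₗ[A] E) (hf : _root_.InjHull.IsInjectiveHull f) :
    Nonempty (((B ⧸ mI A B) →ₗ[B] TensorProduct A B E) ≃ₗ[B] (B ⧸ mI A B)) := by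
  have : Module.FinitePresentation A (A ⧸ maximalIdeal A) :=
    Module.finitePresentation_of_finite A (A ⧸ maximalIdeal A)
  have eq : (B ⧸ mI A B) ≃ₗ[B] TensorProduct A B (A ⧸ maximalIdeal A) :=
    (Algebra.TensorProduct.quotIdealMapEquivTensorQuot B (maximalIdeal A)).toLinearEquiv
  have hbc := Module.FinitePresentation.isBaseChange_map A (A ⧸ maximalIdeal A) E B
  have hs : IsSimpleModule A ((A ⧸ maximalIdeal A) →ₗ[A] E) :=
    Module.length_eq_one_iff.mp
      (Groth.Agent.S5170.length_hom_residueField f hf.toIsEssentialInj)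
  obtain ⟨m, hmax, ⟨ek⟩⟩ := isSimpleModule_iff_quot_maximal.mp hs
  obtain rfl := IsLocalRing.eq_maximalIdeal hmax
  exact ⟨(LinearEquiv.arrowCongr eq (LinearEquiv.refl B _)).trans
    (hbc.equiv.symm.trans
      ((TensorProduct.AlgebraTensorModule.congr (LinearEquiv.refl B B) ek).trans eq.symm))⟩

end Groth.Agent.Lib.H74GorFib
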