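import Groth.Agent.Lib.H74GorFib1

set_option autoImplicit false
set_option linter.style.haveILetI false
set_option linter.unusedSectionVars false
universe u
open IsLocalRing TensorProduct

namespace Groth.Agent.Lib.H74GorFib

open Groth.Agent.Lib.H14GorArt

variable {A : Type u} [CommRing A] [IsLocalRing A] [IsNoetherianRing A] {B : Type u} [CommRing B]
  [IsLocalRing B] [IsNoetherianRing B] [Algebra A B] [IsLocalHom (algebraMap A B)]
  [Module.Flat A B] {E : Type u} [AddCommGroup E] [Module A E]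

theorem mI_le : mI A B ≤ maximalIdeal B :=
  ((local_hom_TFAE (algebraMap A B)).out 0 2 rfl rfl).mp inferInstance

/-- a power of `m_B` lies in `m_A B` when the fibre is Artinian. -/
theorem exists_pow_le_mI [IsLocalRing (B ⧸ mI A B)] [IsArtinianRing (B ⧸ mI A B)] :
    ∃ N : ℕ, maximalIdeal B ^ N ≤ mI A B := by
  obtain ⟨N, hN⟩ := isNilpotent_maximalIdeal (B ⧸ mI A B)
  refine ⟨N, fun b hb => ?_⟩
  haveI : IsLocalHom (Ideal.Quotient.mk (mI A B)) :=
    IsLocalHom.of_surjective _ Ideal.Quotient.mk_surjective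
  have h1 : (maximalIdeal B).map (Ideal.Quotient.mk (mI A B)) ≤ maximalIdeal (B ⧸ mI A B) :=
    map_maximalIdeal_le _
  have h2 : Ideal.Quotient.mk (mI A B) b ∈ maximalIdeal (B ⧸ mI A B) ^ N := by
    have : Ideal.Quotient.mk (mI A B) b ∈ ((maximalIdeal B) ^ N).map (Ideal.Quotient.mk (mI A B)) :=
      Ideal.mem_map_of_mem _ hb
    rw [Ideal.map_pow] at this
    exact Ideal.pow_right_mono h1 N this
  rw [hN] at h2
  exact Ideal.Quotient.eq_zero_iff_mem.mp h2

variable (A B) in
/-- the projection `B/m_A B → B/m_B`. -/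
noncomputable abbrev prj : (B ⧸ mI A B) →ₗ[B] (B ⧸ maximalIdeal B) :=
  Submodule.mapQ (mI A B) (maximalIdeal B) LinearMap.id (by simpa using mI_le)

theorem prj_surjective : Function.Surjective (prj A B) := by
  intro x
  obtain ⟨b, rfl⟩ := Submodule.Quotient.mk_surjective _ x
  exact ⟨Submodule.Quotient.mk b, rfl⟩

theorem smul_comp_prj_eq_zero {X : Type u} [AddCommGroup X] [Module B X]
    (w : (B ⧸ maximalIdeal B) →ₗ[B] X) {b : B} (hb : b ∈ maximalIdeal B) :
    b • (w ∘ₗ prj A B) = 0 := by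
  refine LinearMap.ext fun z => ?_
  rw [LinearMap.smul_apply, LinearMap.comp_apply, ← map_smul, LinearMap.zero_apply]
  obtain ⟨c, hc⟩ := Submodule.Quotient.mk_surjective _ (prj A B z)
  rw [← hc, ← Submodule.Quotient.mk_smul, (Submodule.Quotient.mk_eq_zero _).mpr, map_zero]
  rw [smul_eq_mul]
  exact Ideal.mul_mem_right _ _ hb

theorem mem_soc_of_smul_eq_zero [IsLocalRing (B ⧸ mI A B)] (y : B ⧸ mI A B)
    (hy : ∀ b ∈ maximalIdeal B, b • y = 0) : y ∈ soc (B ⧸ mI A B) := by
  intro a ha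
  obtain ⟨b, rfl⟩ := Ideal.Quotient.mk_surjective a
  have hb : b ∈ maximalIdeal B := by
    rw [mem_maximalIdeal, mem_nonunits_iff] at ha ⊢
    exact fun hu => ha (hu.map _)
  have := hy b hb
  rwa [Algebra.smul_def] at this

variable (f : ResidueField A →ₗ[A] E) (hf : _root_.InjHull.IsInjectiveHull f)

include hf in
theorem isSimpleModule_hom_residue [IsLocalRing (B ⧸ mI A B)] [IsArtinianRing (B ⧸ mI A B)]
    (hG : LocCoh.IsGorensteinLocalRing (B ⧸ mI A B)) :
    IsSimpleModule B ((B ⧸ maximalIdeal B) →ₗ[B] TensorProduct A B E) := by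
  obtain ⟨e1⟩ := nonempty_hom_fibre_equiv (B := B) f hf
  have hs : IsSimpleModule (B ⧸ mI A B) (soc (B ⧸ mI A B)) :=
    Module.length_eq_one_iff.mp (typ_eq_one_of_gorenstein hG)
  have hsoc : ∀ w : (B ⧸ maximalIdeal B) →ₗ[B] TensorProduct A B E,
      e1 (w ∘ₗ prj A B) ∈ soc (B ⧸ mI A B) := by
    intro w
    apply mem_soc_of_smul_eq_zero
    intro b hb
    rw [← map_smul, smul_comp_prj_eq_zero w hb, map_zero]
  have hcancel : ∀ w w' : (B ⧸ maximalIdeal B) →ₗ[B] TensorProduct A B E,
      w ∘ₗ prj A B = w' ∘ₗ prj A B → w = w' := by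
    intro w w' h
    refine LinearMap.ext fun x => ?_
    obtain ⟨z, rfl⟩ := prj_surjective (A := A) x
    exact LinearMap.congr_fun h z
  rw [isSimpleModule_iff_toSpanSingleton_surjective]
  refine ⟨?_, fun u hu v => ?_⟩
  · haveI : Nontrivial (soc (B ⧸ mI A B)) := IsSimpleModule.nontrivial (B ⧸ mI A B) _
    obtain ⟨⟨s, hs1⟩, hs0⟩ := exists_ne (0 : soc (B ⧸ mI A B))
    have hs0' : s ≠ 0 := fun h => hs0 (Subtype.ext h)
    have hker : maximalIdeal B ≤ LinearMap.ker (e1.symm s ∘ₗ (mI A B).mkQ) := by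
      intro b hb
      rw [LinearMap.mem_ker, LinearMap.comp_apply, Submodule.mkQ_apply]
      have h1 : (Submodule.Quotient.mk b : B ⧸ mI A B) = b • Submodule.Quotient.mk 1 := by
        rw [← Submodule.Quotient.mk_smul, smul_eq_mul, mul_one]
      rw [h1, map_smul, ← LinearMap.smul_apply, ← map_smul]
      have h2 : b • s = 0 := by
        rw [Algebra.smul_def]
        apply hs1
        have hu : ¬ IsUnit b := hb
        rw [mem_maximalIdeal, mem_nonunits_iff]
        haveI : IsLocalHom (algebraMap B (B ⧸ mI A B)) :=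
          IsLocalHom.of_surjective _ Ideal.Quotient.mk_surjective
        exact fun h => hu (isUnit_of_map_unit (algebraMap B (B ⧸ mI A B)) b h)
      rw [h2, map_zero, LinearMap.zero_apply]
    refine ⟨⟨(maximalIdeal B).liftQ _ hker, 0, fun h => hs0' ?_⟩⟩
    have h3 : e1.symm s = 0 := by
      refine LinearMap.ext fun z => ?_
      obtain ⟨b, rfl⟩ := Submodule.Quotient.mk_surjective _ z
      have := LinearMap.congr_fun h (Submodule.Quotient.mk b)
      rw [Submodule.liftQ_apply] at this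
      exact this
    have := congrArg e1 h3
    rwa [LinearEquiv.apply_symm_apply, map_zero] at this
  · have hne : e1 (u ∘ₗ prj A B) ≠ 0 := by
      intro h
      apply hu
      apply hcancel
      rw [LinearMap.zero_comp]
      have := congrArg e1.symm h
      rwa [LinearEquiv.symm_apply_apply, map_zero] at this
    have hne' : (⟨e1 (u ∘ₗ prj A B), hsoc u⟩ : soc (B ⧸ mI A B)) ≠ 0 :=
      fun h => hne (congrArg Subtype.val h)
    obtain ⟨c, hc⟩ := IsSimpleModule.toSpanSingleton_surjective (B ⧸ mI A B) hne'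
      ⟨e1 (v ∘ₗ prj A B), hsoc v⟩
    obtain ⟨b, rfl⟩ := Ideal.Quotient.mk_surjective c
    refine ⟨b, ?_⟩
    rw [LinearMap.toSpanSingleton_apply]
    apply hcancel
    apply e1.injective
    have hc' : (Ideal.Quotient.mk (mI A B)) b * e1 (u ∘ₗ prj A B) = e1 (v ∘ₗ prj A B) := by
      have := congrArg Subtype.val hc
      rw [LinearMap.toSpanSingleton_apply] at this
      exact this
    rw [← hc']
    show e1 (b • (u ∘ₗ prj A B)) = _
    rw [map_smul, Algebra.smul_def]
    rfl

theorem exists_pow_le_map_pow [IsLocalRing (B ⧸ mI A B)] [IsArtinianRing (B ⧸ mI A B)] (n : ℕ) :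
    ∃ N : ℕ, maximalIdeal B ^ N ≤ (maximalIdeal A ^ n).map (algebraMap A B) := by
  obtain ⟨N, hN⟩ := exists_pow_le_mI (A := A) (B := B)
  refine ⟨N * n, ?_⟩
  rw [pow_mul, Ideal.map_pow]
  exact Ideal.pow_right_mono hN n

include hf in
theorem isPowerTorsion_baseChange [IsLocalRing (B ⧸ mI A B)] [IsArtinianRing (B ⧸ mI A B)] :
    LocCoh.IsPowerTorsion (maximalIdeal B) (TensorProduct A B E) := by
  intro t
  induction t using TensorProduct.induction_on with
  | zero => exact ⟨0, fun a _ => smul_zero a⟩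
  | tmul b e =>
    obtain ⟨n, hn⟩ := Groth.Agent.S0311.result A E f hf e
    obtain ⟨N, hN⟩ := exists_pow_le_map_pow (A := A) (B := B) n
    refine ⟨N, ?_⟩
    have hle : (maximalIdeal A ^ n).map (algebraMap A B) ≤
        Ideal.torsionOf B (TensorProduct A B E) (b ⊗ₜ[A] e) := by
      rw [Ideal.map_le_iff_le_comap]
      intro a ha
      rw [Ideal.mem_comap, Ideal.mem_torsionOf_iff, algebraMap_smul, ← TensorProduct.tmul_smul,
        hn a ha, TensorProduct.tmul_zero]
    intro a ha
    exact (Ideal.mem_torsionOf_iff _ _).mp (hle (hN ha))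
  | add x y hx hy =>
    obtain ⟨n1, h1⟩ := hx
    obtain ⟨n2, h2⟩ := hy
    refine ⟨max n1 n2, fun a ha => ?_⟩
    rw [smul_add, h1 a (Ideal.pow_le_pow_right (le_max_left _ _) ha),
      h2 a (Ideal.pow_le_pow_right (le_max_right _ _) ha), add_zero]

include hf in
theorem main [IsLocalRing (B ⧸ mI A B)] [IsArtinianRing (B ⧸ mI A B)]
    (hG : LocCoh.IsGorensteinLocalRing (B ⧸ mI A B)) :
    ∃ g : ResidueField B →ₗ[B] TensorProduct A B E, _root_.InjHull.IsInjectiveHull g := by
  have htors := isPowerTorsion_baseChange (B := B) f hf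
  have hs := isSimpleModule_hom_residue (B := B) f hf hG
  obtain ⟨m, hmax, ⟨e⟩⟩ := isSimpleModule_iff_quot_maximal.mp hs
  obtain rfl := IsLocalRing.eq_maximalIdeal hmax
  refine Groth.Agent.S11174.result B (TensorProduct A B E) htors ⟨e⟩
    (fun n => (maximalIdeal A ^ n).map (algebraMap A B)) ?_ ?_ ?_ ?_
  · intro i j hij
    exact Ideal.map_mono (Ideal.pow_le_pow_right hij)
  · intro n
    exact exists_pow_le_map_pow n
  · intro N
    refine ⟨N, ?_⟩
    rw [Ideal.map_pow]
    exact Ideal.pow_right_mono mI_le N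
  · intro n
    exact (length_hom_quot f hf (maximalIdeal A ^ n)
      (Groth.Agent.Lib.H29MatlisEnd.isFiniteLength_quot_pow (R := A) n)).symm

end Groth.Agent.Lib.H74GorFib
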