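import Mathlib
import Groth.Agent.Lib.CanonShift
import Groth.Agent.Lib.H74GrArt
import Groth.Agent.Lib.LocCohLocalization
import Groth.Agent.Lib.LocCohVanishing
import Groth.Agent.S13224

/-!
# Graded Grothendieck vanishing above the height of the *maximal ideal (helper74)
-/

set_option autoImplicit false
set_option linter.unusedSectionVars false
set_option linter.style.haveILetI false

universe u

open CategoryTheory GrLC DirectSum IsLocalRing

namespace Groth.Agent.Lib.H74GorInj

open Groth.Agent.Lib.H87GrMod Groth.Agent.Lib.H87GrMod2 Groth.Agent.Lib.H74GrArt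

section Van

variable {ι : Type} [AddCommGroup ι] [DecidableEq ι] [Module.Free ℤ ι] [Module.Finite ℤ ι]
variable {R : Type u} [CommRing R] [IsNoetherianRing R] {𝒜 : ι → AddSubgroup R} [GradedRing 𝒜]
variable {M : Type u} [AddCommGroup M] [Module R M] {ℳ : ι → AddSubgroup M}
  [Decomposition ℳ] [SetLike.GradedSMul 𝒜 ℳ]
  {m : HomogeneousIdeal 𝒜} (hm : IsStarLocal 𝒜 m)

include hm in
/-- A nonzero graded module over a *local ring has nonzero localization at the *maximal ideal. -/
theorem exists_mk_ne_zero {N : Type u} [AddCommGroup N] [Module R N] (𝒩 : ι → AddSubgroup N)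
    [Decomposition 𝒩] [SetLike.GradedSMul 𝒜 𝒩] (hN : Nontrivial N) :
    ∃ ξ : N, ∀ s : R, s • ξ = 0 → s ∈ m.toIdeal := by
  classical
  obtain ⟨z, hz0⟩ := exists_ne (0 : N)
  have hsupp : (decompose 𝒩 z).support.Nonempty := by
    rw [Finset.nonempty_iff_ne_empty]
    intro h
    apply hz0
    rw [DFinsupp.support_eq_empty] at h
    rw [← (decompose 𝒩).symm_apply_apply z, h]
    exact decompose_symm_zero 𝒩
  obtain ⟨g, hg⟩ := hsupp
  have hne : (decompose 𝒩 z g : N) ≠ 0 := by
    rw [DFinsupp.mem_support_iff] at hg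
    intro h
    exact hg (Subtype.ext h)
  refine ⟨(decompose 𝒩 z g : N), fun s hs => ?_⟩
  exact Groth.Agent.Lib.CanonShift.mem_of_smul_mem 𝒜 𝒩 hm (isHomogeneous_bot 𝒩)
    (decompose 𝒩 z g).2 (fun h => hne ((Submodule.mem_bot R).mp h))
    ((Submodule.mem_bot R).mpr hs)

include hm in
/-- **Graded Grothendieck vanishing**: `H^i_m(M) = 0` for `i > dim M_m`. -/
theorem subsingleton_H_of_supportDim_localized_lt [hp : m.toIdeal.IsPrime]
    (E : StarInjRes 𝒜 ℳ) (i : ℕ)
    (hi : Module.supportDim (Localization.AtPrime m.toIdeal)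
      (LocalizedModule m.toIdeal.primeCompl M) < ((i : ℕ) : WithBot ℕ∞)) :
    Subsingleton (E.H m i) := by
  by_contra hns
  rw [not_subsingleton_iff_nontrivial] at hns
  letI := decompositionHgr 𝒜 ℳ m E i
  obtain ⟨ξ, hξ⟩ := exists_mk_ne_zero hm (E.Hgr m i) hns
  obtain ⟨e⟩ := Groth.Agent.S13224.main m E i
  have h1 : LocalizedModule.mkLinearMap m.toIdeal.primeCompl (LocCoh.H m.toIdeal i M) (e ξ) ≠ 0 := by
    intro h0
    rw [IsLocalizedModule.eq_zero_iff m.toIdeal.primeCompl] at h0
    obtain ⟨s, hs⟩ := h0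
    have hs' : (s : R) • ξ = 0 := by
      apply e.injective
      rw [map_smul, map_zero]
      exact hs
    exact s.2 (hξ _ hs')
  haveI := Groth.Agent.Lib.LocCohVanishing.subsingleton_H_of_supportDim_lt
    (m.toIdeal.map (algebraMap R (Localization m.toIdeal.primeCompl)))
    (LocalizedModule m.toIdeal.primeCompl M) i hi
  haveI : Subsingleton (LocalizedModule m.toIdeal.primeCompl (LocCoh.H m.toIdeal i M)) :=
    (Groth.Agent.Lib.LocCohLocalization.localizedEquiv m.toIdeal m.toIdeal.primeCompl M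
      i).toEquiv.subsingleton
  exact h1 (Subsingleton.elim _ _)

include hm in
/-- For `M = R`: `H^i_m(R) = 0` for `i > ht m`. -/
theorem subsingleton_H_of_height_lt (E : StarInjRes 𝒜 𝒜) (n : ℕ) (hn : m.toIdeal.height = n)
    (i : ℕ) (hi : n < i) : Subsingleton (E.H m i) := by
  haveI hp : m.toIdeal.IsPrime := Groth.Agent.Lib.CanonShift.isPrime_of_isStarLocal 𝒜 hm
  apply subsingleton_H_of_supportDim_localized_lt hm E i
  refine lt_of_le_of_lt (Module.supportDim_le_ringKrullDim _ _) ?_
  rw [IsLocalization.AtPrime.ringKrullDim_eq_height m.toIdeal (Localization.AtPrime m.toIdeal), hn]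
  exact_mod_cast hi

end Van

end Groth.Agent.Lib.H74GorInj
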