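import Mathlib
import Groth.Agent.Lib.H74GorTop2
import Groth.Agent.Lib.H74InjDim2
import Groth.Agent.Lib.H29Bass
import Groth.Agent.Lib.H14GorHom
import Groth.Agent.Lib.GrCanonGor
import Groth.Agent.Lib.CanonShift
import Groth.Agent.S18636

/-!
# A `ℤ`-graded *local ring is Gorenstein if its localization at the *maximal ideal is (helper74)
-/

set_option autoImplicit false
set_option linter.unusedSectionVars false
set_option linter.style.haveILetI false

universe u

open CategoryTheory Abelian GrLC DirectSum IsLocalRing

namespace Groth.Agent.Lib.H74GorInj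

open Groth.Agent.Lib.H74GorTop Groth.Agent.Lib.H26ExtLocIso Groth.Agent.Lib.H74InjDim

section Key

variable (R : Type u) [CommRing R] (p : Ideal R) [hp : p.IsPrime]

/-- `μ^i(p, R)` is the length of `Ext^i_{R_p}(R_p/pR_p, R_p)`. -/
theorem bassNum_self_eq (i : ℕ) : bassNum p R i = Module.length (Localization.AtPrime p)
    (Ext.{u} (ModuleCat.of (Localization.AtPrime p)
      (Localization.AtPrime p ⧸ maximalIdeal (Localization.AtPrime p)))
      (ModuleCat.of (Localization.AtPrime p) (Localization.AtPrime p)) i) := by
  unfold bassNum bassNumLocal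
  exact (extCongr (R := Localization.AtPrime p)
    (Iso.refl (ModuleCat.of (Localization.AtPrime p) (ResidueField (Localization.AtPrime p))))
    (locSelfEquiv R p).toModuleIso i).length_eq

theorem bassNum_self_eq_zero_iff (i : ℕ) : bassNum p R i = 0 ↔
    Subsingleton (Ext.{u} (ModuleCat.of (Localization.AtPrime p)
      (Localization.AtPrime p ⧸ maximalIdeal (Localization.AtPrime p)))
      (ModuleCat.of (Localization.AtPrime p) (Localization.AtPrime p)) i) := by
  rw [bassNum_self_eq, Module.length_eq_zero_iff]

variable [IsNoetherianRing R]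

/-- If the Bass numbers `μ^i(p, R)` vanish for `i ≥ N₀`, then `R_p` is a Gorenstein local ring. -/
theorem isGorensteinLocalRing_of_bassNum (N₀ : ℕ) (h : ∀ i, N₀ ≤ i → bassNum p R i = 0) :
    LocCoh.IsGorensteinLocalRing (Localization.AtPrime p) where
  exists_hasInjectiveDimensionLT := ⟨N₀ + 1,
    Groth.Agent.Lib.H29Bass.hasInjectiveDimensionLT_of_ext_residueField
      (ModuleCat.of (Localization.AtPrime p) (Localization.AtPrime p)) N₀
      (fun i hi => (bassNum_self_eq_zero_iff R p i).mp (h i hi))⟩

/-- If `R_p` is a Gorenstein local ring, the Bass numbers `μ^i(p, R)` vanish for `i ≠ ht p`. -/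
theorem bassNum_eq_zero_of_gorensteinLocal
    (hG : LocCoh.IsGorensteinLocalRing (Localization.AtPrime p)) (n : ℕ) (hn : p.height = n)
    (i : ℕ) (hi : i ≠ n) : bassNum p R i = 0 := by
  haveI := hG
  have hdim : ringKrullDim (Localization.AtPrime p) = n := by
    rw [IsLocalization.AtPrime.ringKrullDim_eq_height p (Localization.AtPrime p), hn]
    rfl
  rw [bassNum_self_eq_zero_iff]
  exact Groth.Agent.Lib.H26GorDual.gorenstein_hvan (Localization.AtPrime p) n hdim _
    (Groth.Agent.Lib.H26GorDual.isFiniteLength_residue (Localization.AtPrime p)) i hi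

/-- If `R_m` is Gorenstein local and `q ≤ m`, then `R_q` is Gorenstein local. -/
theorem isGorensteinLocalRing_of_le (m : Ideal R) [hm : m.IsPrime]
    (hG : LocCoh.IsGorensteinLocalRing (Localization.AtPrime m)) (hpm : p ≤ m) :
    LocCoh.IsGorensteinLocalRing (Localization.AtPrime p) := by
  have hle : m.primeCompl ≤ p.primeCompl := fun x hx hxp => hx (hpm hxp)
  letI : Algebra (Localization.AtPrime m) (Localization.AtPrime p) :=
    IsLocalization.localizationAlgebraOfSubmonoidLe (Localization.AtPrime m)
      (Localization.AtPrime p) m.primeCompl p.primeCompl hle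
  haveI : IsScalarTower R (Localization.AtPrime m) (Localization.AtPrime p) :=
    IsLocalization.localization_isScalarTower_of_submonoid_le (Localization.AtPrime m)
      (Localization.AtPrime p) m.primeCompl p.primeCompl hle
  haveI : IsLocalization (Submonoid.map (algebraMap R (Localization.AtPrime m)) p.primeCompl)
      (Localization.AtPrime p) :=
    IsLocalization.isLocalization_of_submonoid_le (Localization.AtPrime m)
      (Localization.AtPrime p) m.primeCompl p.primeCompl hle
  have h1 : LocCoh.IsGorensteinRing (Localization.AtPrime m) :=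
    Groth.Agent.Lib.H14GorHom.isGorensteinRing_of_isGorensteinLocalRing _ hG
  have h2 : LocCoh.IsGorensteinRing (Localization.AtPrime p) :=
    Groth.Agent.Lib.H14GorHom.isGorensteinRing_of_isLocalization
      (Submonoid.map (algebraMap R (Localization.AtPrime m)) p.primeCompl)
      (Localization.AtPrime p) h1
  exact Groth.Agent.Lib.H14GorHom.isGorensteinLocalRing_of_isGorensteinRing _ h2

end Key

section Graded

variable {R : Type u} [CommRing R] [IsNoetherianRing R] (𝒜 : ℤ → AddSubgroup R) [GradedRing 𝒜]
  {m : HomogeneousIdeal 𝒜} (hm : IsStarLocal 𝒜 m)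

include hm in
/-- **A `ℤ`-graded *local ring whose localization at the *maximal ideal is Gorenstein is a
Gorenstein ring.** -/
theorem isGorensteinRing_of_localization [hp : m.toIdeal.IsPrime] (n : ℕ)
    (hn : m.toIdeal.height = n)
    (hG : LocCoh.IsGorensteinLocalRing (Localization.AtPrime m.toIdeal)) :
    LocCoh.IsGorensteinRing R := by
  have hhom : ∀ (q : Ideal R) [q.IsPrime], q.IsHomogeneous 𝒜 → ∀ i, n < i →
      bassNum q R i = 0 := by
    intro q hq hqh i hi
    have hqtop : (⟨q, hqh⟩ : HomogeneousIdeal 𝒜) ≠ ⊤ := by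
      intro h
      exact hq.ne_top (congrArg HomogeneousIdeal.toIdeal h)
    have hqm : q ≤ m.toIdeal :=
      Groth.Agent.Lib.CanonShift.le_of_isStarLocal 𝒜 hm ⟨q, hqh⟩ hqtop
    have hGq := isGorensteinLocalRing_of_le R q m.toIdeal hG hqm
    have hfin : q.height ≠ ⊤ := Ideal.height_ne_top hq.ne_top
    obtain ⟨k, hk⟩ := ENat.ne_top_iff_exists.mp hfin
    have hkn : k ≤ n := by
      have := Ideal.height_mono hqm
      rw [hn, ← hk] at this
      exact_mod_cast this
    exact bassNum_eq_zero_of_gorensteinLocal R q hGq k hk.symm i (by omega)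
  apply Groth.Agent.Lib.GrCanonGor.isGorensteinRing_of_hasInjectiveDimensionLT (n + 1)
  apply hasInjectiveDimensionLT_of_local R (n + 1)
  intro p _
  rw [← bassNum_eq_zero_iff]
  by_cases hph : p.IsHomogeneous 𝒜
  · exact hhom p hph (n + 1 + 1) (by omega)
  · haveI : (Ideal.homogeneousCore 𝒜 p).toIdeal.IsPrime :=
      Ideal.IsPrime.homogeneousCore inferInstance
    rw [(Groth.Agent.S18636.result R 𝒜 R 𝒜 p hph).2 (n + 1)]
    exact hhom _ (Ideal.homogeneousCore 𝒜 p).isHomogeneous (n + 1) (by omega)

end Graded

end Groth.Agent.Lib.H74GorInj
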