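import Mathlib
import Groth.Agent.Lib.H74GorInj1
import Groth.Agent.Lib.H74GorInj2
import Groth.Agent.Lib.H74GorTop6
import Groth.Agent.Lib.H74BassCore8

/-!
# A Cohen–Macaulay *local ring with *injective top local cohomology is Gorenstein (helper74)
-/

set_option autoImplicit false
set_option linter.unusedSectionVars false
set_option linter.style.haveILetI false

universe u

open CategoryTheory GrLC DirectSum IsLocalRing

namespace Groth.Agent.Lib.H74GorInj

open Groth.Agent.Lib.H87GrMod Groth.Agent.Lib.H87GrMod2 Groth.Agent.Lib.H87GrShift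
  Groth.Agent.Lib.H74MinRes Groth.Agent.Lib.H74InjDim Groth.Agent.Lib.H74BassCore
  Groth.Agent.Lib.GrLCMap Groth.Agent.Lib.H74GorTop Groth.Agent.Lib.H74GrArt

section Main

variable {ι : Type} [AddCommGroup ι] [DecidableEq ι] [Module.Free ℤ ι] [Module.Finite ℤ ι]
variable {R : Type u} [CommRing R] [IsNoetherianRing R] {𝒜 : ι → AddSubgroup R} [GradedRing 𝒜]
variable {M : Type u} [AddCommGroup M] [Module R M] {ℳ : ι → AddSubgroup M}
  [Decomposition ℳ] [SetLike.GradedSMul 𝒜 ℳ] (E : StarInjRes 𝒜 ℳ)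
  (hmin0 : ∀ P : Submodule R (E.X 0).carrier, P.IsHomogeneous (E.X 0).gr → P ≠ ⊥ →
    P ⊓ LinearMap.range E.ε ≠ ⊥)
  (hmin : ∀ (n : ℕ) (P : Submodule R (E.X (n + 1)).carrier), P.IsHomogeneous (E.X (n + 1)).gr →
    P ≠ ⊥ → P ⊓ LinearMap.range (E.d n) ≠ ⊥)
  {m : HomogeneousIdeal 𝒜} (hm : IsStarLocal 𝒜 m)

include hmin0 hmin hm in
/-- In a minimal *injective resolution, the Bass number at `m` vanishes if the corresponding term
has no `m`-torsion. -/
theorem bassNum_eq_zero_of_gam_eq_bot (k : ℕ) (h : gam m.toIdeal (E.X k).carrier = ⊥) :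
    haveI := Groth.Agent.Lib.CanonShift.isPrime_of_isStarLocal 𝒜 hm
    bassNum m.toIdeal M k = 0 := by
  haveI hp : m.toIdeal.IsPrime := Groth.Agent.Lib.CanonShift.isPrime_of_isStarLocal 𝒜 hm
  by_contra hne
  have h1 : bassNum m.toIdeal (K E k) 0 ≠ 0 := by
    rw [bassNum_K E hmin0 hmin m.toIdeal m.isHomogeneous k 0, zero_add]
    exact hne
  rw [Ne, bassNum_eq_zero_iff] at h1
  have hass := (not_subsingleton_lext_zero_iff (K E k) m.toIdeal).mp h1
  rw [AssociatedPrimes.mem_iff, isAssociatedPrime_iff] at hass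
  obtain ⟨-, y, hy⟩ := hass
  have hmy : ∀ r ∈ m.toIdeal, r • (y : (E.X k).carrier) = 0 := by
    intro r hr
    rw [hy, Submodule.mem_colon_singleton, Submodule.mem_bot] at hr
    exact congrArg Subtype.val hr
  have hy0 : (y : (E.X k).carrier) ≠ 0 := by
    intro h0
    have h1 : (1 : R) ∈ m.toIdeal := by
      rw [hy, Submodule.mem_colon_singleton, Submodule.mem_bot, one_smul]
      exact Subtype.ext h0
    exact hp.ne_top ((Ideal.eq_top_iff_one _).mpr h1)
  have hyg : (y : (E.X k).carrier) ∈ gam m.toIdeal (E.X k).carrier :=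
    ⟨1, fun r hr => hmy r (by rwa [pow_one] at hr)⟩
  rw [h, Submodule.mem_bot] at hyg
  exact hy0 hyg

include hmin0 hmin in
/-- If the coboundaries vanish and `H^k_m = 0`, then the `k`-th term has no `m`-torsion. -/
theorem gam_eq_bot_of_subsingleton_H (k : ℕ) (hcob : E.cobdy m k = ⊥)
    (hH : Subsingleton (E.H m k)) : gam m.toIdeal (E.X k).carrier = ⊥ := by
  by_contra hne
  have h1 := K_ess E hmin0 hmin k (gam m.toIdeal (E.X k).carrier)
    (isHomogeneous_gam 𝒜 (E.X k).gr m) hne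
  obtain ⟨y, hy, hy0⟩ := (Submodule.ne_bot_iff _).mp h1
  have hyc : y ∈ E.cocyc m k := hy
  have h2 : E.toH m k ⟨y, hyc⟩ = 0 := Subsingleton.elim _ _
  rw [Submodule.mkQ_apply, Submodule.Quotient.mk_eq_zero, Submodule.mem_comap, hcob,
    Submodule.mem_bot] at h2
  exact hy0 h2

include hmin0 hmin in
/-- If the coboundaries vanish and `H^n_m` is *injective, then `Γ_m(X_n)` consists of cocycles. -/
theorem gam_le_ker_of_starInj (n : ℕ) (hcob : E.cobdy m n = ⊥) (X : GMod.{u} 𝒜)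
    (hX : IsStarInj 𝒜 X.gr) (φ : E.H m n ≃ₗ[R] X.carrier)
    (hφ : IsGrHom (E.Hgr m n) X.gr φ.toLinearMap) :
    gam m.toIdeal (E.X n).carrier ≤ LinearMap.ker (E.d n) := by
  letI := decompositionHgr 𝒜 ℳ m E n
  have hzero : ∀ z : E.cocyc m n, E.toH m n z = 0 → z = 0 := by
    intro z hz
    rw [Submodule.mkQ_apply, Submodule.Quotient.mk_eq_zero, Submodule.mem_comap, hcob,
      Submodule.mem_bot] at hz
    exact Subtype.ext hz
  have hinj : Function.Injective (E.toH m n) := by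
    rw [← LinearMap.ker_eq_bot, LinearMap.ker_eq_bot']
    exact hzero
  let τ : E.cocyc m n ≃ₗ[R] E.H m n :=
    LinearEquiv.ofBijective (E.toH m n) ⟨hinj, Submodule.mkQ_surjective _⟩
  let j : X.carrier →ₗ[R] (E.X n).carrier :=
    (E.cocyc m n).subtype ∘ₗ τ.symm.toLinearMap ∘ₗ φ.symm.toLinearMap
  have hj : ∀ c : E.cocyc m n, j (φ (τ c)) = (c : (E.X n).carrier) := by
    intro c
    show ((τ.symm (φ.symm (φ (τ c))) : E.cocyc m n) : (E.X n).carrier) = c
    rw [LinearEquiv.symm_apply_apply, LinearEquiv.symm_apply_apply]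
  have hjmem : ∀ y, j y ∈ E.cocyc m n := fun y => (τ.symm (φ.symm y)).2
  have hjgr : IsGrHom X.gr (E.X n).gr j := by
    intro g y hy
    have h1 : φ.symm y ∈ E.Hgr m n g := by
      apply mem_of_map_mem (E.Hgr m n) X.gr hφ φ.injective
      show φ (φ.symm y) ∈ X.gr g
      rw [LinearEquiv.apply_symm_apply]
      exact hy
    obtain ⟨z, hzg, hz⟩ := h1
    have h2 : τ.symm (φ.symm y) = z := by
      rw [LinearEquiv.symm_apply_eq]
      exact hz.symm
    show ((τ.symm (φ.symm y) : E.cocyc m n) : (E.X n).carrier) ∈ (E.X n).gr g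
    rw [h2]
    exact hzg
  have hjinj : Function.Injective j := by
    intro a b hab
    have h1 : τ.symm (φ.symm a) = τ.symm (φ.symm b) := Subtype.ext hab
    exact φ.symm.injective (τ.symm.injective h1)
  obtain ⟨ρ, hρgr, hρ⟩ := hX X (E.X n) j hjgr hjinj LinearMap.id (fun _ _ h => h)
  have hρj : ∀ y, ρ (j y) = y := fun y => LinearMap.congr_fun hρ y
  intro x hx
  have hz : j (ρ x) ∈ E.cocyc m n := hjmem _
  suffices hq : x - j (ρ x) = 0 by
    rw [sub_eq_zero] at hq
    rw [hq]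
    exact hz.2
  by_contra hq0
  have hPhom : (gam m.toIdeal (E.X n).carrier ⊓ LinearMap.ker ρ).IsHomogeneous (E.X n).gr :=
    isHomogeneous_inf (E.X n).gr (isHomogeneous_gam 𝒜 (E.X n).gr m)
      (isHomogeneous_ker (E.X n).gr X.gr hρgr)
  have hqP : x - j (ρ x) ∈ gam m.toIdeal (E.X n).carrier ⊓ LinearMap.ker ρ := by
    refine ⟨Submodule.sub_mem _ hx hz.1, ?_⟩
    show x - j (ρ x) ∈ LinearMap.ker ρ
    rw [LinearMap.mem_ker, map_sub, hρj, sub_self]
  have hP0 : gam m.toIdeal (E.X n).carrier ⊓ LinearMap.ker ρ ≠ ⊥ :=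
    (Submodule.ne_bot_iff _).mpr ⟨_, hqP, hq0⟩
  have h1 := K_ess E hmin0 hmin n _ hPhom hP0
  obtain ⟨w, hw, hw0⟩ := (Submodule.ne_bot_iff _).mp h1
  have hwc : w ∈ E.cocyc m n := ⟨hw.1.1, hw.2⟩
  have h2 := hj ⟨w, hwc⟩
  have h3 : ρ w = φ (τ ⟨w, hwc⟩) := by
    have : ρ (j (φ (τ ⟨w, hwc⟩))) = ρ w := by rw [h2]
    rw [← this, hρj]
  have h4 : ρ w = 0 := hw.1.2
  rw [h4] at h3
  have h5 : τ ⟨w, hwc⟩ = 0 := φ.map_eq_zero_iff.mp h3.symm
  have h6 : (⟨w, hwc⟩ : E.cocyc m n) = 0 := τ.map_eq_zero_iff.mp h5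
  exact hw0 (congrArg Subtype.val h6)

end Main

section Final

variable {R : Type u} [CommRing R] [LocCoh.IsCohenMacaulayRing R] (𝒜 : ℤ → AddSubgroup R)
  [GradedRing 𝒜] {m : HomogeneousIdeal 𝒜} (hm : IsStarLocal 𝒜 m)

include hm in
/-- In a Cohen–Macaulay *local ring the Bass numbers `μ^i(m, R)` vanish for `i < ht m`. -/
theorem bassNum_eq_zero_of_lt_height [hp : m.toIdeal.IsPrime] (n : ℕ)
    (hn : m.toIdeal.height = n) (i : ℕ) (hi : i < n) : bassNum m.toIdeal R i = 0 := by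
  haveI hCM : LocCoh.IsCohenMacaulayLocalRing (Localization.AtPrime m.toIdeal) :=
    LocCoh.IsCohenMacaulayRing.isCohenMacaulayLocalRing_localization m.toIdeal
  have hdim : ringKrullDim (Localization.AtPrime m.toIdeal) = n := by
    rw [IsLocalization.AtPrime.ringKrullDim_eq_height m.toIdeal (Localization.AtPrime m.toIdeal), hn]
    rfl
  have hdepth : (n : ℕ∞) ≤ LocCoh.depth (Localization.AtPrime m.toIdeal)
      (Localization.AtPrime m.toIdeal) := by
    have h1 := hCM.supportDim_eq_depth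
    rw [Module.supportDim_self_eq_ringKrullDim, hdim] at h1
    have h2 : ((n : ℕ∞) : WithBot ℕ∞) = ((LocCoh.depth (Localization.AtPrime m.toIdeal)
        (Localization.AtPrime m.toIdeal) : ℕ∞) : WithBot ℕ∞) := h1
    exact le_of_eq (WithBot.coe_injective h2)
  have h3 := (natCast_le_depth_iff (Localization.AtPrime m.toIdeal)
    (Localization.AtPrime m.toIdeal) n).mp hdepth i hi
  rw [bassNum_self_eq]
  exact h3

include hm in
/-- **A Cohen–Macaulay `ℤ`-graded *local ring whose top graded local cohomology is *injective is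
Gorenstein.** -/
theorem isGorensteinRing_of_starInj_H (n : ℕ) (hn : m.toIdeal.height = n)
    (I : StarInjRes 𝒜 𝒜) (X : GMod.{u} 𝒜) (φ : I.H m n ≃ₗ[R] X.carrier)
    (hX : IsStarInj 𝒜 X.gr) (hφ : IsGrHom (I.Hgr m n) X.gr φ.toLinearMap) :
    LocCoh.IsGorensteinRing R := by
  haveI hp : m.toIdeal.IsPrime := Groth.Agent.Lib.CanonShift.isPrime_of_isStarLocal 𝒜 hm
  let E : StarInjRes 𝒜 𝒜 := minRes (𝒜 := 𝒜) 𝒜
  have hmin0 := minRes_min0 (𝒜 := 𝒜) 𝒜
  have hmin := minRes_min (𝒜 := 𝒜) 𝒜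
  -- no torsion below `n`
  have hlow : ∀ k, k < n → gam m.toIdeal (E.X k).carrier = ⊥ := fun k hk =>
    gam_eq_bot_of_bassNum_eq_zero E hmin0 hmin hm k (bassNum_eq_zero_of_lt_height 𝒜 hm n hn k hk)
  have hcob : E.cobdy m n = ⊥ := by
    rcases n with _ | k
    · rfl
    · show Submodule.map (E.d k) (gam m.toIdeal (E.X k).carrier) = ⊥
      rw [hlow k (Nat.lt_succ_self k), Submodule.map_bot]
  -- transport the *injectivity to the minimal resolution
  have hφ' : IsGrHom (E.Hgr m n) X.gr ((Hequiv E I m n).trans φ).toLinearMap := by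
    intro g x hx
    exact hφ g _ ((Hequiv_mem_iff E I m n g x).mpr hx)
  have hle := gam_le_ker_of_starInj E hmin0 hmin n hcob X hX ((Hequiv E I m n).trans φ) hφ'
  -- no torsion above `n`
  have hhigh : ∀ j, gam m.toIdeal (E.X (n + 1 + j)).carrier = ⊥ := by
    intro j
    induction j with
    | zero =>
      apply gam_eq_bot_of_subsingleton_H E hmin0 hmin (n + 1)
      · show Submodule.map (E.d n) (gam m.toIdeal (E.X n).carrier) = ⊥
        exact LinearMap.le_ker_iff_map.mp hle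
      · exact subsingleton_H_of_height_lt hm E n hn (n + 1) (Nat.lt_succ_self n)
    | succ j ih =>
      apply gam_eq_bot_of_subsingleton_H E hmin0 hmin (n + 1 + j + 1)
      · show Submodule.map (E.d (n + 1 + j)) (gam m.toIdeal (E.X (n + 1 + j)).carrier) = ⊥
        rw [ih, Submodule.map_bot]
      · exact subsingleton_H_of_height_lt hm E n hn (n + 1 + j + 1) (by omega)
  have hbass : ∀ i, n + 1 ≤ i → bassNum m.toIdeal R i = 0 := by
    intro i hi
    obtain ⟨j, rfl⟩ := Nat.exists_eq_add_of_le hi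
    exact bassNum_eq_zero_of_gam_eq_bot E hmin0 hmin hm (n + 1 + j) (hhigh j)
  exact isGorensteinRing_of_localization 𝒜 hm n hn
    (isGorensteinLocalRing_of_bassNum R m.toIdeal (n + 1) hbass)

end Final

end Groth.Agent.Lib.H74GorInj
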