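import Groth.Agent.S18661

/-!
# Graded local cohomology from *injective resolutions: induced maps, lifting, homotopy (helper74)

* `InjCx`: a complex of *injective graded modules; `StarInjRes.toInjCx`, `InjCx.shift1`.
* `exists_lift`, `exists_homotopy`: comparison theorem (source an exact resolution, target a
  complex of *injectives), for maps homogeneous of a given degree.
* `Hind`: the map induced on `E.H a i → F.H a j` by a linear map preserving cocycles and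
  coboundaries; `CMap` (chain maps between resolutions), `CMap.Hmap`, homotopy invariance
  `CMap.Hmap_eq_of_ε`, functoriality, comparison isomorphism between two resolutions.
-/

set_option autoImplicit false
universe u

namespace Groth.Agent.Lib.H74GrLES

open DirectSum GrLC Groth.Agent.Lib.H87GrMod Groth.Agent.Lib.H87GrMod2 Groth.Agent.Lib.H87GrShift
  Groth.Agent.S18662 Groth.Agent.S18661

variable {ι : Type} [AddCommGroup ι] [DecidableEq ι]
variable {R : Type u} [CommRing R] {𝒜 : ι → AddSubgroup R} [GradedRing 𝒜]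

/-- A complex of *injective graded modules (in nonnegative degrees). -/
structure InjCx (𝒜 : ι → AddSubgroup R) [GradedRing 𝒜] : Type (u + 1) where
  X : ℕ → GMod.{u} 𝒜
  d : ∀ n : ℕ, (X n).carrier →ₗ[R] (X (n + 1)).carrier
  d_grHom : ∀ n : ℕ, IsGrHom (X n).gr (X (n + 1)).gr (d n)
  d_comp_d : ∀ n x, d (n + 1) (d n x) = 0
  starInj : ∀ n : ℕ, IsStarInj 𝒜 (X n).gr

/-- Shift a complex by one to the left, negating the differential. -/
def InjCx.shift1 (Y : InjCx 𝒜) : InjCx 𝒜 where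
  X n := Y.X (n + 1)
  d n := -Y.d (n + 1)
  d_grHom n := fun g x hx => by
    rw [LinearMap.neg_apply]
    exact neg_mem (Y.d_grHom (n + 1) g x hx)
  d_comp_d n x := by
    rw [LinearMap.neg_apply, LinearMap.neg_apply, map_neg, neg_neg, Y.d_comp_d]
  starInj n := Y.starInj (n + 1)

section Comparison

variable {M : Type u} [AddCommGroup M] [Module R M] {ℳ : ι → AddSubgroup M}
  [Decomposition ℳ] [SetLike.GradedSMul 𝒜 ℳ]

/-- The complex underlying a resolution. -/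
def _root_.GrLC.StarInjRes.toInjCx (E : StarInjRes 𝒜 ℳ) : InjCx 𝒜 where
  X := E.X
  d := E.d
  d_grHom := E.d_grHom
  d_comp_d := d_comp_d E
  starInj := E.starInj

/-- Lifting a map of degree `δ` from `M` into a complex of *injectives to the resolution. -/
theorem exists_lift (E : StarInjRes 𝒜 ℳ) (Y : InjCx 𝒜) {θ : M →ₗ[R] (Y.X 0).carrier} {δ : ι}
    (hθ : IsGrHomDeg ℳ (Y.X 0).gr θ δ) (hdθ : ∀ m, Y.d 0 (θ m) = 0) :
    ∃ G : ∀ n, (E.X n).carrier →ₗ[R] (Y.X n).carrier,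
      (∀ n, IsGrHomDeg (E.X n).gr (Y.X n).gr (G n) δ) ∧
      (∀ m, G 0 (E.ε m) = θ m) ∧ (∀ n x, G (n + 1) (E.d n x) = Y.d n (G n x)) := by
  obtain ⟨G0, hG0, hG0ε⟩ := extend_deg' 𝒜 ℳ (E.X 0).gr (Y.X 0).gr (Y.starInj 0) E.ε_grHom
    E.ε_injective hθ
  have hG0ker : ∀ x ∈ LinearMap.ker (E.d 0), G0 x ∈ LinearMap.ker (Y.d 0) := by
    intro x hx
    rw [E.exact_zero] at hx
    obtain ⟨m, rfl⟩ := hx
    have := LinearMap.congr_fun hG0ε m
    rw [LinearMap.comp_apply] at this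
    rw [LinearMap.mem_ker, this]
    exact hdθ m
  obtain ⟨G, hG0', hGP, hGrel⟩ := exists_dep_seq
    (α := fun n => (E.X n).carrier →ₗ[R] (Y.X n).carrier)
    (fun n G => IsGrHomDeg (E.X n).gr (Y.X n).gr G δ ∧
      ∀ x ∈ LinearMap.ker (E.d n), G x ∈ LinearMap.ker (Y.d n))
    (fun n G G' => ∀ x, G' (E.d n x) = Y.d n (G x))
    G0 ⟨hG0, hG0ker⟩
    (by
      rintro n Gn ⟨hGn, hGnker⟩
      have hφ : IsGrHomDeg (E.X n).gr (Y.X (n + 1)).gr (Y.d n ∘ₗ Gn) δ :=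
        fun g x hx => Y.d_grHom n _ _ (hGn g x hx)
      have hker : LinearMap.ker (E.d n) ≤ LinearMap.ker (Y.d n ∘ₗ Gn) := by
        intro x hx
        rw [LinearMap.mem_ker, LinearMap.comp_apply]
        exact hGnker x hx
      obtain ⟨G', hG', hG'd⟩ := extend_through 𝒜 (E.X n).gr (E.X (n + 1)).gr (Y.X (n + 1)).gr
        (Y.starInj (n + 1)) (E.d_grHom n) hφ hker
      refine ⟨G', ⟨hG', ?_⟩, fun x => LinearMap.congr_fun hG'd x⟩
      intro x hx
      rw [E.exact_succ] at hx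
      obtain ⟨y, rfl⟩ := hx
      have := LinearMap.congr_fun hG'd y
      rw [LinearMap.comp_apply, LinearMap.comp_apply] at this
      rw [LinearMap.mem_ker, this, Y.d_comp_d])
  refine ⟨G, fun n => (hGP n).1, ?_, hGrel⟩
  intro m
  rw [hG0']
  exact LinearMap.congr_fun hG0ε m

/-- A chain map of degree `δ` from a resolution to a complex of *injectives which vanishes on `M`
is null-homotopic. -/
theorem exists_homotopy (E : StarInjRes 𝒜 ℳ) (Y : InjCx 𝒜) {δ : ι}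
    (τ : ∀ n, (E.X n).carrier →ₗ[R] (Y.X n).carrier)
    (hτdeg : ∀ n, IsGrHomDeg (E.X n).gr (Y.X n).gr (τ n) δ)
    (hτd : ∀ n x, τ (n + 1) (E.d n x) = Y.d n (τ n x))
    (hτε : ∀ m, τ 0 (E.ε m) = 0) :
    ∃ s : ∀ n, (E.X (n + 1)).carrier →ₗ[R] (Y.X n).carrier,
      (∀ x, τ 0 x = s 0 (E.d 0 x)) ∧
      (∀ n x, τ (n + 1) x = Y.d n (s n x) + s (n + 1) (E.d (n + 1) x)) := by
  have hker0 : LinearMap.ker (E.d 0) ≤ LinearMap.ker (τ 0) := by
    intro x hx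
    rw [E.exact_zero] at hx
    obtain ⟨m, rfl⟩ := hx
    exact hτε m
  obtain ⟨s0, hs0, hs0d⟩ := extend_through 𝒜 (E.X 0).gr (E.X 1).gr (Y.X 0).gr
    (Y.starInj 0) (E.d_grHom 0) (hτdeg 0) hker0
  obtain ⟨s, hs0', hsP, hsrel⟩ := exists_dep_seq
    (α := fun n => (E.X (n + 1)).carrier →ₗ[R] (Y.X n).carrier)
    (fun n s => IsGrHomDeg (E.X (n + 1)).gr (Y.X n).gr s δ ∧
      ∀ x, Y.d n (τ n x - s (E.d n x)) = 0)
    (fun n s s' => ∀ x, τ (n + 1) x = Y.d n (s x) + s' (E.d (n + 1) x))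
    s0 ⟨hs0, fun x => by
      have := LinearMap.congr_fun hs0d x
      rw [LinearMap.comp_apply] at this
      rw [this, sub_self, map_zero]⟩
    (by
      rintro n sn ⟨hsn, hsnP⟩
      have hφ : IsGrHomDeg (E.X (n + 1)).gr (Y.X (n + 1)).gr (τ (n + 1) - Y.d n ∘ₗ sn) δ := by
        intro g x hx
        rw [LinearMap.sub_apply, LinearMap.comp_apply]
        exact sub_mem (hτdeg (n + 1) g x hx) (Y.d_grHom n _ _ (hsn g x hx))
      have hker : LinearMap.ker (E.d (n + 1)) ≤ LinearMap.ker (τ (n + 1) - Y.d n ∘ₗ sn) := by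
        intro x hx
        rw [E.exact_succ] at hx
        obtain ⟨y, rfl⟩ := hx
        rw [LinearMap.mem_ker, LinearMap.sub_apply, LinearMap.comp_apply, hτd, ← map_sub]
        exact hsnP y
      obtain ⟨s', hs', hs'd⟩ := extend_through 𝒜 (E.X (n + 1)).gr (E.X (n + 2)).gr
        (Y.X (n + 1)).gr (Y.starInj (n + 1)) (E.d_grHom (n + 1)) hφ hker
      have hs'x : ∀ x, s' (E.d (n + 1) x) = τ (n + 1) x - Y.d n (sn x) := fun x => by
        have := LinearMap.congr_fun hs'd x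
        rwa [LinearMap.comp_apply, LinearMap.sub_apply, LinearMap.comp_apply] at this
      refine ⟨s', ⟨hs', fun x => ?_⟩, fun x => ?_⟩
      · rw [hs'x, sub_sub_cancel, Y.d_comp_d]
      · rw [hs'x]; abel)
  refine ⟨s, fun x => ?_, hsrel⟩
  rw [hs0']
  exact (LinearMap.congr_fun hs0d x).symm

end Comparison

section Induced

variable {M : Type u} [AddCommGroup M] [Module R M] {ℳ : ι → AddSubgroup M}
  [Decomposition ℳ] [SetLike.GradedSMul 𝒜 ℳ]
variable {N : Type u} [AddCommGroup N] [Module R N] {𝒩 : ι → AddSubgroup N}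
  [Decomposition 𝒩] [SetLike.GradedSMul 𝒜 𝒩]
variable {P : Type u} [AddCommGroup P] [Module R P] {𝒬 : ι → AddSubgroup P}
  [Decomposition 𝒬] [SetLike.GradedSMul 𝒜 𝒬]
variable (a : HomogeneousIdeal 𝒜)

/-- The map induced on graded local cohomology by a linear map preserving cocycles and
coboundaries. -/
def Hind (E : StarInjRes 𝒜 ℳ) (F : StarInjRes 𝒜 𝒩) (i j : ℕ)
    (u : (E.X i).carrier →ₗ[R] (F.X j).carrier)
    (h1 : ∀ z ∈ E.cocyc a i, u z ∈ F.cocyc a j) (h2 : ∀ z ∈ E.cobdy a i, u z ∈ F.cobdy a j) :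
    E.H a i →ₗ[R] F.H a j :=
  Submodule.mapQ _ _ (u.restrict h1) (fun z hz => h2 z hz)

theorem Hind_toH (E : StarInjRes 𝒜 ℳ) (F : StarInjRes 𝒜 𝒩) (i j : ℕ)
    (u : (E.X i).carrier →ₗ[R] (F.X j).carrier)
    (h1 : ∀ z ∈ E.cocyc a i, u z ∈ F.cocyc a j) (h2 : ∀ z ∈ E.cobdy a i, u z ∈ F.cobdy a j)
    (z : E.cocyc a i) :
    Hind a E F i j u h1 h2 (E.toH a i z) = F.toH a j ⟨u z, h1 z z.2⟩ := rfl

theorem Hind_mem_Hcomp (E : StarInjRes 𝒜 ℳ) (F : StarInjRes 𝒜 𝒩) (i j : ℕ)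
    (u : (E.X i).carrier →ₗ[R] (F.X j).carrier)
    (h1 : ∀ z ∈ E.cocyc a i, u z ∈ F.cocyc a j) (h2 : ∀ z ∈ E.cobdy a i, u z ∈ F.cobdy a j)
    {δ : ι} (hu : IsGrHomDeg (E.X i).gr (F.X j).gr u δ) {n : ι} {ξ : E.H a i}
    (hξ : ξ ∈ E.Hcomp a i n) : Hind a E F i j u h1 h2 ξ ∈ F.Hcomp a j (n + δ) := by
  obtain ⟨z, hz, rfl⟩ := hξ
  exact ⟨⟨u z, h1 z z.2⟩, hu n z hz, rfl⟩

theorem toH_surjective (E : StarInjRes 𝒜 ℳ) (i : ℕ) : Function.Surjective (E.toH a i) :=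
  Submodule.mkQ_surjective _

theorem toH_eq_zero_iff (E : StarInjRes 𝒜 ℳ) (i : ℕ) (z : E.cocyc a i) :
    E.toH a i z = 0 ↔ (z : (E.X i).carrier) ∈ E.cobdy a i :=
  Submodule.Quotient.mk_eq_zero _

theorem toH_eq_iff (E : StarInjRes 𝒜 ℳ) (i : ℕ) (z w : E.cocyc a i) :
    E.toH a i z = E.toH a i w ↔ (z : (E.X i).carrier) - w ∈ E.cobdy a i := by
  rw [← sub_eq_zero, ← map_sub, toH_eq_zero_iff]
  rfl

/-- A chain map of degree `δ` between resolutions. -/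
structure CMap (E : StarInjRes 𝒜 ℳ) (F : StarInjRes 𝒜 𝒩) (δ : ι) where
  φ : ∀ n, (E.X n).carrier →ₗ[R] (F.X n).carrier
  deg : ∀ n, IsGrHomDeg (E.X n).gr (F.X n).gr (φ n) δ
  comm : ∀ n x, φ (n + 1) (E.d n x) = F.d n (φ n x)

namespace CMap

variable {E : StarInjRes 𝒜 ℳ} {F : StarInjRes 𝒜 𝒩} {G : StarInjRes 𝒜 𝒬} {δ δ' : ι}

theorem map_cocyc (c : CMap E F δ) (i : ℕ) : ∀ z ∈ E.cocyc a i, c.φ i z ∈ F.cocyc a i := by
  rintro z ⟨hz1, hz2⟩
  refine ⟨map_mem_gam _ hz1, ?_⟩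
  have hz2' : E.d i z = 0 := hz2
  show F.d i (c.φ i z) = 0
  rw [← c.comm, hz2', map_zero]

theorem map_cobdy (c : CMap E F δ) (i : ℕ) : ∀ z ∈ E.cobdy a i, c.φ i z ∈ F.cobdy a i := by
  cases i with
  | zero =>
    intro z hz
    have hz0 : z = 0 := hz
    rw [hz0, map_zero]
    exact zero_mem _
  | succ n =>
    rintro _ ⟨γ, hγ, rfl⟩
    exact ⟨c.φ n γ, map_mem_gam _ hγ, (c.comm n γ).symm⟩

/-- The map induced on graded local cohomology by a chain map. -/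
def Hmap (c : CMap E F δ) (i : ℕ) : E.H a i →ₗ[R] F.H a i :=
  Hind a E F i i (c.φ i) (c.map_cocyc a i) (c.map_cobdy a i)

theorem Hmap_toH (c : CMap E F δ) (i : ℕ) (z : E.cocyc a i) :
    c.Hmap a i (E.toH a i z) = F.toH a i ⟨c.φ i z, c.map_cocyc a i z z.2⟩ := rfl

theorem Hmap_mem_Hcomp (c : CMap E F δ) (i : ℕ) {n : ι} {ξ : E.H a i}
    (hξ : ξ ∈ E.Hcomp a i n) : c.Hmap a i ξ ∈ F.Hcomp a i (n + δ) :=
  Hind_mem_Hcomp a E F i i _ _ _ (c.deg i) hξ

/-- Chain maps which agree on `M` induce the same map on graded local cohomology. -/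
theorem Hmap_eq_of_ε (c c' : CMap E F δ) (h : ∀ m, c.φ 0 (E.ε m) = c'.φ 0 (E.ε m)) (i : ℕ) :
    c.Hmap a i = c'.Hmap a i := by
  obtain ⟨s, hs0, hsS⟩ : ∃ s : ∀ n, (E.X (n + 1)).carrier →ₗ[R] (F.X n).carrier,
      (∀ x, c.φ 0 x - c'.φ 0 x = s 0 (E.d 0 x)) ∧
      (∀ n x, c.φ (n + 1) x - c'.φ (n + 1) x = F.d n (s n x) + s (n + 1) (E.d (n + 1) x)) :=
    exists_homotopy E F.toInjCx (fun n => c.φ n - c'.φ n)
    (fun n g x hx => sub_mem (c.deg n g x hx) (c'.deg n g x hx))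
    (fun n x => by
      show c.φ (n + 1) (E.d n x) - c'.φ (n + 1) (E.d n x) = F.d n (c.φ n x - c'.φ n x)
      rw [c.comm, c'.comm, map_sub])
    (fun m => by
      show c.φ 0 (E.ε m) - c'.φ 0 (E.ε m) = 0
      rw [h m, sub_self])
  apply LinearMap.ext
  intro ξ
  obtain ⟨z, rfl⟩ := toH_surjective a E i ξ
  rw [Hmap_toH, Hmap_toH, toH_eq_iff]
  show c.φ i z - c'.φ i z ∈ F.cobdy a i
  cases i with
  | zero =>
    have this : c.φ 0 z - c'.φ 0 z = s 0 (E.d 0 z) := hs0 z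
    have hz2 : E.d 0 z = 0 := z.2.2
    rw [this, hz2, map_zero]
    exact zero_mem _
  | succ n =>
    have this : c.φ (n + 1) z - c'.φ (n + 1) z =
        F.d n (s n z) + s (n + 1) (E.d (n + 1) z) := hsS n z
    have hz2 : E.d (n + 1) z = 0 := z.2.2
    rw [this, hz2, map_zero, add_zero]
    exact ⟨s n z, map_mem_gam _ z.2.1, rfl⟩

/-- Composition of chain maps. -/
def comp (c : CMap E F δ) (c' : CMap F G δ') (ε : ι) (hε : δ + δ' = ε) : CMap E G ε where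
  φ n := c'.φ n ∘ₗ c.φ n
  deg n := fun g x hx => by
    have := c'.deg n _ _ (c.deg n g x hx)
    rwa [add_assoc, hε] at this
  comm n x := by
    rw [LinearMap.comp_apply, LinearMap.comp_apply, c.comm, c'.comm]

theorem Hmap_comp (c : CMap E F δ) (c' : CMap F G δ') (ε : ι) (hε : δ + δ' = ε) (i : ℕ) :
    (c.comp c' ε hε).Hmap a i = c'.Hmap a i ∘ₗ c.Hmap a i := by
  apply LinearMap.ext
  intro ξ
  obtain ⟨z, rfl⟩ := toH_surjective a E i ξ
  rfl

/-- The identity chain map. -/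
def id (E : StarInjRes 𝒜 ℳ) : CMap E E 0 where
  φ n := LinearMap.id
  deg n := fun g x hx => by rw [add_zero]; exact hx
  comm n x := rfl

theorem Hmap_id (i : ℕ) : (CMap.id E).Hmap a i = LinearMap.id := by
  apply LinearMap.ext
  intro ξ
  obtain ⟨z, rfl⟩ := toH_surjective a E i ξ
  rfl

/-- Multiplication by a homogeneous element as a chain map. -/
def smul (E : StarInjRes 𝒜 ℳ) {k : ι} {x : R} (hx : x ∈ 𝒜 k) : CMap E E k where
  φ n := x • LinearMap.id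
  deg n := fun g y hy => by
    have := SetLike.GradedSMul.smul_mem (A := 𝒜) (B := (E.X n).gr) hx hy
    rw [vadd_eq_add, add_comm] at this
    exact this
  comm n y := by simp

theorem Hmap_smul {k : ι} {x : R} (hx : x ∈ 𝒜 k) (i : ℕ) (ξ : E.H a i) :
    (CMap.smul E hx).Hmap a i ξ = x • ξ := by
  obtain ⟨z, rfl⟩ := toH_surjective a E i ξ
  rfl

end CMap

/-- Existence of a chain map lifting a homogeneous map. -/
theorem exists_cmap (E : StarInjRes 𝒜 ℳ) (F : StarInjRes 𝒜 𝒩) {θ : M →ₗ[R] N} {δ : ι}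
    (hθ : IsGrHomDeg ℳ 𝒩 θ δ) :
    ∃ c : CMap E F δ, ∀ m, c.φ 0 (E.ε m) = F.ε (θ m) := by
  obtain ⟨G, hG, hGε, hGd⟩ := exists_lift E F.toInjCx (θ := F.ε ∘ₗ θ) (δ := δ)
    (fun g m hm => F.ε_grHom _ _ (hθ g m hm)) (fun m => d_comp_ε F (θ m))
  exact ⟨⟨G, hG, hGd⟩, hGε⟩

/-- Two resolutions of the same module have isomorphic graded local cohomology, compatibly with
the pieces. -/
theorem exists_Hequiv (E F : StarInjRes 𝒜 ℳ) (i : ℕ) :
    ∃ e : E.H a i ≃ₗ[R] F.H a i, (∀ n ξ, ξ ∈ E.Hcomp a i n → e ξ ∈ F.Hcomp a i n) ∧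
      (∀ n ξ, ξ ∈ F.Hcomp a i n → e.symm ξ ∈ E.Hcomp a i n) ∧
      (∀ c : CMap E F 0, (∀ m, c.φ 0 (E.ε m) = F.ε m) → c.Hmap a i = e.toLinearMap) := by
  have hid : IsGrHomDeg ℳ ℳ (LinearMap.id : M →ₗ[R] M) 0 := fun g m hm => by
    rw [add_zero]; exact hm
  obtain ⟨c, hc⟩ := exists_cmap E F hid
  obtain ⟨c', hc'⟩ := exists_cmap F E hid
  have h1 : c'.Hmap a i ∘ₗ c.Hmap a i = LinearMap.id := by
    rw [← CMap.Hmap_comp a c c' 0 (add_zero 0), ← CMap.Hmap_id (E := E) a i]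
    apply CMap.Hmap_eq_of_ε
    intro m
    show c'.φ 0 (c.φ 0 (E.ε m)) = E.ε m
    rw [hc, LinearMap.id_apply, hc', LinearMap.id_apply]
  have h2 : c.Hmap a i ∘ₗ c'.Hmap a i = LinearMap.id := by
    rw [← CMap.Hmap_comp a c' c 0 (add_zero 0), ← CMap.Hmap_id (E := F) a i]
    apply CMap.Hmap_eq_of_ε
    intro m
    show c.φ 0 (c'.φ 0 (F.ε m)) = F.ε m
    rw [hc', LinearMap.id_apply, hc, LinearMap.id_apply]
  refine ⟨LinearEquiv.ofLinearMap (c.Hmap a i) (c'.Hmap a i) h2 h1, ?_, ?_, ?_⟩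
  · intro n ξ hξ
    have := c.Hmap_mem_Hcomp a i hξ
    rwa [add_zero] at this
  · intro n ξ hξ
    have := c'.Hmap_mem_Hcomp a i hξ
    rwa [add_zero] at this
  · intro c₂ hc₂
    apply CMap.Hmap_eq_of_ε
    intro m
    rw [hc₂, hc, LinearMap.id_apply]

end Induced

end Groth.Agent.Lib.H74GrLES
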