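import Groth.Agent.Lib.H74GrLES1

/-!
# Products of graded modules and the horseshoe resolution (helper74)
-/

set_option autoImplicit false
set_option linter.unusedSectionVars false
universe u

namespace Groth.Agent.Lib.H74GrLES

open DirectSum GrLC Groth.Agent.Lib.H87GrMod Groth.Agent.Lib.H87GrMod2 Groth.Agent.Lib.H87GrShift
  Groth.Agent.S18662 Groth.Agent.S18661

variable {ι : Type} [AddCommGroup ι] [DecidableEq ι]
variable {R : Type u} [CommRing R] {𝒜 : ι → AddSubgroup R} [GradedRing 𝒜]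

section Prod

variable {X : Type u} [AddCommGroup X] [Module R X] (𝒳 : ι → AddSubgroup X) [Decomposition 𝒳]
variable {Y : Type u} [AddCommGroup Y] [Module R Y] (𝒴 : ι → AddSubgroup Y) [Decomposition 𝒴]

/-- The pieces of a product of graded modules. -/
def prodGr : ι → AddSubgroup (X × Y) := fun g => (𝒳 g).prod (𝒴 g)

omit [AddCommGroup ι] [DecidableEq ι] [Decomposition 𝒳] [Decomposition 𝒴] in
theorem mem_prodGr {g : ι} {p : X × Y} : p ∈ prodGr 𝒳 𝒴 g ↔ p.1 ∈ 𝒳 g ∧ p.2 ∈ 𝒴 g := Iff.rfl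

/-- left inclusion on pieces -/
def inlPiece (g : ι) : 𝒳 g →+ prodGr 𝒳 𝒴 g where
  toFun x := ⟨((x : X), 0), x.2, zero_mem _⟩
  map_zero' := rfl
  map_add' x y := Subtype.ext (by simp)

/-- right inclusion on pieces -/
def inrPiece (g : ι) : 𝒴 g →+ prodGr 𝒳 𝒴 g where
  toFun y := ⟨(0, (y : Y)), zero_mem _, y.2⟩
  map_zero' := rfl
  map_add' x y := Subtype.ext (by simp)

/-- The decomposition map of a product. -/
noncomputable def prodDecomp : X × Y →+ ⨁ g, prodGr 𝒳 𝒴 g :=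
  (DirectSum.map (inlPiece 𝒳 𝒴)).comp
      ((decomposeAddEquiv 𝒳).toAddMonoidHom.comp (AddMonoidHom.fst X Y)) +
    (DirectSum.map (inrPiece 𝒳 𝒴)).comp
      ((decomposeAddEquiv 𝒴).toAddMonoidHom.comp (AddMonoidHom.snd X Y))

omit [AddCommGroup ι] in
theorem prodDecomp_apply (p : X × Y) :
    prodDecomp 𝒳 𝒴 p = DirectSum.map (inlPiece 𝒳 𝒴) (decompose 𝒳 p.1) +
      DirectSum.map (inrPiece 𝒳 𝒴) (decompose 𝒴 p.2) := rfl

theorem coe_map_inl (x : X) :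
    DirectSum.coeAddMonoidHom (prodGr 𝒳 𝒴) (DirectSum.map (inlPiece 𝒳 𝒴) (decompose 𝒳 x)) =
      (x, 0) := by
  induction x using Decomposition.inductionOn 𝒳 with
  | zero => rw [decompose_zero, map_zero, map_zero]; rfl
  | @homogeneous i x =>
    rw [decompose_coe, DirectSum.map_of, DirectSum.coeAddMonoidHom_of]
    rfl
  | add x y hx hy =>
    rw [decompose_add, map_add, map_add, hx, hy]
    simp

theorem coe_map_inr (y : Y) :
    DirectSum.coeAddMonoidHom (prodGr 𝒳 𝒴) (DirectSum.map (inrPiece 𝒳 𝒴) (decompose 𝒴 y)) =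
      (0, y) := by
  induction y using Decomposition.inductionOn 𝒴 with
  | zero => rw [decompose_zero, map_zero, map_zero]; rfl
  | @homogeneous i x =>
    rw [decompose_coe, DirectSum.map_of, DirectSum.coeAddMonoidHom_of]
    rfl
  | add x y hx hy =>
    rw [decompose_add, map_add, map_add, hx, hy]
    simp

noncomputable instance prodDecomposition : Decomposition (prodGr 𝒳 𝒴) :=
  Decomposition.ofAddHom (prodGr 𝒳 𝒴) (prodDecomp 𝒳 𝒴)
    (by
      apply AddMonoidHom.ext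
      intro p
      rw [AddMonoidHom.comp_apply, prodDecomp_apply, map_add, coe_map_inl, coe_map_inr]
      simp)
    (by
      refine DirectSum.addHom_ext (fun g v => ?_)
      obtain ⟨⟨x, y⟩, hx, hy⟩ := v
      rw [AddMonoidHom.comp_apply, DirectSum.coeAddMonoidHom_of, AddMonoidHom.id_apply,
        prodDecomp_apply]
      show DirectSum.map (inlPiece 𝒳 𝒴) (decompose 𝒳 x) +
        DirectSum.map (inrPiece 𝒳 𝒴) (decompose 𝒴 y) = _
      have key : inlPiece 𝒳 𝒴 g ⟨x, hx⟩ + inrPiece 𝒳 𝒴 g ⟨y, hy⟩ =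
          (⟨(x, y), hx, hy⟩ : prodGr 𝒳 𝒴 g) := Subtype.ext (by simp [inlPiece, inrPiece])
      rw [decompose_of_mem 𝒳 hx, decompose_of_mem 𝒴 hy, DirectSum.map_of, DirectSum.map_of,
        ← map_add, key])

instance prodGradedSMul [SetLike.GradedSMul 𝒜 𝒳] [SetLike.GradedSMul 𝒜 𝒴] :
    SetLike.GradedSMul 𝒜 (prodGr 𝒳 𝒴) where
  smul_mem := by
    rintro i j r ⟨x, y⟩ hr ⟨hx, hy⟩
    exact ⟨SetLike.GradedSMul.smul_mem (A := 𝒜) (B := 𝒳) hr hx,
      SetLike.GradedSMul.smul_mem (A := 𝒜) (B := 𝒴) hr hy⟩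

theorem isStarInj_prod [SetLike.GradedSMul 𝒜 𝒳] [SetLike.GradedSMul 𝒜 𝒴]
    (hX : IsStarInj 𝒜 𝒳) (hY : IsStarInj 𝒜 𝒴) : IsStarInj 𝒜 (prodGr 𝒳 𝒴) := by
  intro A B f hf hinj g hg
  obtain ⟨h₁, hh₁, hh₁f⟩ := hX A B f hf hinj (LinearMap.fst R X Y ∘ₗ g)
    (fun k x hx => (hg k x hx).1)
  obtain ⟨h₂, hh₂, hh₂f⟩ := hY A B f hf hinj (LinearMap.snd R X Y ∘ₗ g)
    (fun k x hx => (hg k x hx).2)
  refine ⟨h₁.prod h₂, fun k x hx => ⟨hh₁ k x hx, hh₂ k x hx⟩, ?_⟩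
  apply LinearMap.ext
  intro x
  have e1 := LinearMap.congr_fun hh₁f x
  have e2 := LinearMap.congr_fun hh₂f x
  rw [LinearMap.comp_apply] at e1 e2
  exact Prod.ext e1 e2

end Prod

/-- The product of two bundled graded modules. -/
noncomputable def prodGMod (X Y : GMod.{u} 𝒜) : GMod.{u} 𝒜 :=
  GMod.of 𝒜 (X.carrier × Y.carrier) (prodGr X.gr Y.gr)

section Horseshoe

variable {M' : Type u} [AddCommGroup M'] [Module R M'] {ℳ' : ι → AddSubgroup M'}
  [Decomposition ℳ'] [SetLike.GradedSMul 𝒜 ℳ']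
variable {M : Type u} [AddCommGroup M] [Module R M] {ℳ : ι → AddSubgroup M}
  [Decomposition ℳ] [SetLike.GradedSMul 𝒜 ℳ]
variable {M'' : Type u} [AddCommGroup M''] [Module R M''] {ℳ'' : ι → AddSubgroup M''}
  [Decomposition ℳ''] [SetLike.GradedSMul 𝒜 ℳ'']

theorem isGrHom_of_deg_zero {X Y : Type u} [AddCommGroup X] [Module R X] [AddCommGroup Y]
    [Module R Y] {𝒳 : ι → AddSubgroup X} {𝒴 : ι → AddSubgroup Y} {f : X →ₗ[R] Y}
    (h : IsGrHomDeg 𝒳 𝒴 f 0) : IsGrHom 𝒳 𝒴 f := fun g x hx => by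
  have := h g x hx
  rwa [add_zero] at this

theorem isGrHomDeg_zero_of {X Y : Type u} [AddCommGroup X] [Module R X] [AddCommGroup Y]
    [Module R Y] {𝒳 : ι → AddSubgroup X} {𝒴 : ι → AddSubgroup Y} {f : X →ₗ[R] Y}
    (h : IsGrHom 𝒳 𝒴 f) : IsGrHomDeg 𝒳 𝒴 f 0 := fun g x hx => by
  rw [add_zero]; exact h g x hx

/-- The data needed to build a horseshoe resolution of `M` from resolutions of `M'` and `M''`. -/
structure HData (E' : StarInjRes 𝒜 ℳ') (E'' : StarInjRes 𝒜 ℳ'') (f : M' →ₗ[R] M)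
    (g : M →ₗ[R] M'') where
  σ : M →ₗ[R] (E'.X 0).carrier
  σ_gr : IsGrHom ℳ (E'.X 0).gr σ
  σ_f : ∀ m', σ (f m') = E'.ε m'
  τ : ∀ n, (E''.X n).carrier →ₗ[R] (E'.X (n + 1)).carrier
  τ_gr : ∀ n, IsGrHom (E''.X n).gr (E'.X (n + 1)).gr (τ n)
  τ_ε : ∀ m, τ 0 (E''.ε (g m)) = -E'.d 0 (σ m)
  τ_d : ∀ n x, τ (n + 1) (E''.d n x) = -E'.d (n + 1) (τ n x)

theorem exists_hdata (E' : StarInjRes 𝒜 ℳ') (E'' : StarInjRes 𝒜 ℳ'') {f : M' →ₗ[R] M}
    {g : M →ₗ[R] M''} (hf : IsGrHom ℳ' ℳ f) (hg : IsGrHom ℳ ℳ'' g)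
    (hfinj : Function.Injective f) (hfg : Function.Exact f g) (hgsurj : Function.Surjective g) :
    Nonempty (HData (ℳ := ℳ) E' E'' f g) := by
  obtain ⟨σ, hσ, hσf⟩ := IsStarInj.extend ℳ' ℳ (E'.X 0).gr 𝒜 (E'.starInj 0) hf hfinj E'.ε_grHom
  have hσf' : ∀ m', σ (f m') = E'.ε m' := fun m' => LinearMap.congr_fun hσf m'
  have hφ : IsGrHomDeg ℳ (E'.X 1).gr (-(E'.d 0 ∘ₗ σ)) 0 := fun k m hm => by
    rw [add_zero, LinearMap.neg_apply, LinearMap.comp_apply]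
    exact neg_mem (E'.d_grHom 0 _ _ (hσ k m hm))
  have hker : LinearMap.ker g ≤ LinearMap.ker (-(E'.d 0 ∘ₗ σ)) := by
    intro m hm
    obtain ⟨m', rfl⟩ := (hfg m).mp hm
    rw [LinearMap.mem_ker, LinearMap.neg_apply, LinearMap.comp_apply, hσf', d_comp_ε, neg_zero]
  obtain ⟨θ, hθ, hθg⟩ := extend_through 𝒜 ℳ ℳ'' (E'.X 1).gr (E'.starInj 1) hg hφ hker
  have hθg' : ∀ m, θ (g m) = -E'.d 0 (σ m) := fun m => LinearMap.congr_fun hθg m
  obtain ⟨G, hG, hGε, hGd⟩ : ∃ G : ∀ n, (E''.X n).carrier →ₗ[R] (E'.X (n + 1)).carrier,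
      (∀ n, IsGrHomDeg (E''.X n).gr (E'.X (n + 1)).gr (G n) 0) ∧
      (∀ m, G 0 (E''.ε m) = θ m) ∧ (∀ n x, G (n + 1) (E''.d n x) = -E'.d (n + 1) (G n x)) :=
    exists_lift E'' E'.toInjCx.shift1 (θ := θ) (δ := 0) hθ (fun m'' => by
      obtain ⟨m, rfl⟩ := hgsurj m''
      show -E'.d 1 (θ (g m)) = 0
      rw [hθg', map_neg, d_comp_d, neg_zero, neg_zero])
  exact ⟨⟨σ, hσ, hσf', G, fun n => isGrHom_of_deg_zero (hG n), fun m => by rw [hGε, hθg'], hGd⟩⟩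

end Horseshoe

section HorseshoeRes

variable {M' : Type u} [AddCommGroup M'] [Module R M'] {ℳ' : ι → AddSubgroup M'}
  [Decomposition ℳ'] [SetLike.GradedSMul 𝒜 ℳ']
variable {M : Type u} [AddCommGroup M] [Module R M] {ℳ : ι → AddSubgroup M}
  [Decomposition ℳ] [SetLike.GradedSMul 𝒜 ℳ]
variable {M'' : Type u} [AddCommGroup M''] [Module R M''] {ℳ'' : ι → AddSubgroup M''}
  [Decomposition ℳ''] [SetLike.GradedSMul 𝒜 ℳ'']
variable {E' : StarInjRes 𝒜 ℳ'} {E'' : StarInjRes 𝒜 ℳ''} {f : M' →ₗ[R] M} {g : M →ₗ[R] M''}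

/-- The differential of the horseshoe resolution. -/
def HData.dd (h : HData (ℳ := ℳ) E' E'' f g) (n : ℕ) :
    (E'.X n).carrier × (E''.X n).carrier →ₗ[R] (E'.X (n + 1)).carrier × (E''.X (n + 1)).carrier :=
  (E'.d n ∘ₗ LinearMap.fst R _ _ + h.τ n ∘ₗ LinearMap.snd R _ _).prod
    (E''.d n ∘ₗ LinearMap.snd R _ _)

theorem HData.dd_apply (h : HData (ℳ := ℳ) E' E'' f g) (n : ℕ)
    (p : (E'.X n).carrier × (E''.X n).carrier) :
    h.dd n p = (E'.d n p.1 + h.τ n p.2, E''.d n p.2) := rfl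

/-- The augmentation of the horseshoe resolution. -/
def HData.ee (h : HData (ℳ := ℳ) E' E'' f g) :
    M →ₗ[R] (E'.X 0).carrier × (E''.X 0).carrier :=
  h.σ.prod (E''.ε ∘ₗ g)

theorem HData.ee_apply (h : HData (ℳ := ℳ) E' E'' f g) (m : M) :
    h.ee m = (h.σ m, E''.ε (g m)) := rfl

theorem HData.dd_dd (h : HData (ℳ := ℳ) E' E'' f g) (n : ℕ)
    (p : (E'.X n).carrier × (E''.X n).carrier) : h.dd (n + 1) (h.dd n p) = 0 := by
  rw [h.dd_apply, h.dd_apply]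
  simp only [map_add, d_comp_d, h.τ_d, zero_add, add_neg_cancel]
  rfl

theorem HData.dd_ee (h : HData (ℳ := ℳ) E' E'' f g) (m : M) : h.dd 0 (h.ee m) = 0 := by
  rw [h.dd_apply, h.ee_apply]
  simp only [h.τ_ε, d_comp_ε, add_neg_cancel]
  rfl

theorem HData.ee_f (h : HData (ℳ := ℳ) E' E'' f g) (hfg : Function.Exact f g) (m' : M') :
    h.ee (f m') = (E'.ε m', 0) := by
  rw [h.ee_apply, h.σ_f, hfg.apply_apply_eq_zero, map_zero]

theorem HData.ee_injective (h : HData (ℳ := ℳ) E' E'' f g) (hfinj : Function.Injective f)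
    (hfg : Function.Exact f g) : Function.Injective h.ee := by
  rw [injective_iff_map_eq_zero]
  intro m hm
  rw [h.ee_apply, Prod.mk_eq_zero] at hm
  obtain ⟨h1, h2⟩ := hm
  have hgm : g m = 0 := E''.ε_injective (by rw [h2, map_zero])
  obtain ⟨m', rfl⟩ := (hfg m).mp hgm
  rw [h.σ_f] at h1
  have : m' = 0 := E'.ε_injective (by rw [h1, map_zero])
  rw [this, map_zero]

theorem HData.ker_dd_zero (h : HData (ℳ := ℳ) E' E'' f g) (hfg : Function.Exact f g)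
    (hgsurj : Function.Surjective g) : LinearMap.ker (h.dd 0) = LinearMap.range h.ee := by
  ext p
  constructor
  · intro hp
    obtain ⟨e', e''⟩ := p
    rw [LinearMap.mem_ker, h.dd_apply, Prod.mk_eq_zero] at hp
    obtain ⟨hp1, hp2⟩ := hp
    have he'' : e'' ∈ LinearMap.range E''.ε := by
      rw [← E''.exact_zero]; exact hp2
    obtain ⟨m'', rfl⟩ := he''
    obtain ⟨m, rfl⟩ := hgsurj m''
    simp only at hp1
    rw [h.τ_ε, ← sub_eq_add_neg, ← map_sub] at hp1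
    have he' : e' - h.σ m ∈ LinearMap.range E'.ε := by
      rw [← E'.exact_zero]; exact hp1
    obtain ⟨m', hm'⟩ := he'
    refine ⟨m + f m', ?_⟩
    rw [map_add, h.ee_f hfg, h.ee_apply, hm']
    simp
  · rintro ⟨m, rfl⟩
    exact h.dd_ee m

theorem HData.ker_dd_succ (h : HData (ℳ := ℳ) E' E'' f g) (n : ℕ) :
    LinearMap.ker (h.dd (n + 1)) = LinearMap.range (h.dd n) := by
  ext p
  constructor
  · intro hp
    obtain ⟨e', e''⟩ := p
    rw [LinearMap.mem_ker, h.dd_apply, Prod.mk_eq_zero] at hp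
    obtain ⟨hp1, hp2⟩ := hp
    have he'' : e'' ∈ LinearMap.range (E''.d n) := by
      rw [← E''.exact_succ]; exact hp2
    obtain ⟨u'', rfl⟩ := he''
    simp only at hp1
    rw [h.τ_d, ← sub_eq_add_neg, ← map_sub] at hp1
    have he' : e' - h.τ n u'' ∈ LinearMap.range (E'.d n) := by
      rw [← E'.exact_succ]; exact hp1
    obtain ⟨u', hu'⟩ := he'
    refine ⟨(u', u''), ?_⟩
    rw [h.dd_apply]
    simp only [hu', sub_add_cancel]
  · rintro ⟨q, rfl⟩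
    exact h.dd_dd n q

/-- The horseshoe resolution of `M` built from resolutions of `M'` and `M''`. -/
noncomputable def HData.res (h : HData (ℳ := ℳ) E' E'' f g) (hg : IsGrHom ℳ ℳ'' g)
    (hfinj : Function.Injective f) (hfg : Function.Exact f g)
    (hgsurj : Function.Surjective g) : StarInjRes 𝒜 ℳ where
  X n := prodGMod (E'.X n) (E''.X n)
  d n := h.dd n
  ε := h.ee
  d_grHom n := fun k p hp =>
    ⟨add_mem (E'.d_grHom n k _ hp.1) (h.τ_gr n k _ hp.2), E''.d_grHom n k _ hp.2⟩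
  ε_grHom := fun k m hm => ⟨h.σ_gr k m hm, E''.ε_grHom k _ (hg k m hm)⟩
  ε_injective := h.ee_injective hfinj hfg
  exact_zero := h.ker_dd_zero hfg hgsurj
  exact_succ := h.ker_dd_succ
  starInj n := isStarInj_prod _ _ (E'.starInj n) (E''.starInj n)

end HorseshoeRes

end Groth.Agent.Lib.H74GrLES
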