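import Groth.Agent.Lib.H74GrLES2

/-!
# The long exact sequence of graded local cohomology for the horseshoe resolution (helper74)
-/

set_option autoImplicit false
set_option linter.unusedSectionVars false
universe u

namespace Groth.Agent.Lib.H74GrLES

open DirectSum GrLC Groth.Agent.Lib.H87GrMod Groth.Agent.Lib.H87GrMod2 Groth.Agent.Lib.H87GrShift
  Groth.Agent.S18662 Groth.Agent.S18661

variable {ι : Type} [AddCommGroup ι] [DecidableEq ι]
variable {R : Type u} [CommRing R] {𝒜 : ι → AddSubgroup R} [GradedRing 𝒜]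

theorem mem_gam_prod {X Y : Type u} [AddCommGroup X] [Module R X] [AddCommGroup Y] [Module R Y]
    (I : Ideal R) (p : X × Y) : p ∈ gam I (X × Y) ↔ p.1 ∈ gam I X ∧ p.2 ∈ gam I Y := by
  constructor
  · intro hp
    exact ⟨map_mem_gam (LinearMap.fst R X Y) hp, map_mem_gam (LinearMap.snd R X Y) hp⟩
  · rintro ⟨h1, h2⟩
    have : p = LinearMap.inl R X Y p.1 + LinearMap.inr R X Y p.2 := by
      ext <;> simp
    rw [this]
    exact add_mem (map_mem_gam (LinearMap.inl R X Y) h1) (map_mem_gam (LinearMap.inr R X Y) h2)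

section LES

variable {M' : Type u} [AddCommGroup M'] [Module R M'] {ℳ' : ι → AddSubgroup M'}
  [Decomposition ℳ'] [SetLike.GradedSMul 𝒜 ℳ']
variable {M : Type u} [AddCommGroup M] [Module R M] {ℳ : ι → AddSubgroup M}
  [Decomposition ℳ] [SetLike.GradedSMul 𝒜 ℳ]
variable {M'' : Type u} [AddCommGroup M''] [Module R M''] {ℳ'' : ι → AddSubgroup M''}
  [Decomposition ℳ''] [SetLike.GradedSMul 𝒜 ℳ'']
variable {E' : StarInjRes 𝒜 ℳ'} {E'' : StarInjRes 𝒜 ℳ''} {f : M' →ₗ[R] M} {g : M →ₗ[R] M''}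
variable (h : HData (ℳ := ℳ) E' E'' f g) (hg : IsGrHom ℳ ℳ'' g)
    (hfinj : Function.Injective f) (hfg : Function.Exact f g) (hgsurj : Function.Surjective g)
variable (a : HomogeneousIdeal 𝒜)

/-- The inclusion `E' → horseshoe` as a chain map. -/
def HData.inlC : CMap E' (h.res hg hfinj hfg hgsurj) 0 where
  φ n := LinearMap.inl R (E'.X n).carrier (E''.X n).carrier
  deg n := fun k x hx => by
    rw [add_zero]
    exact ⟨hx, zero_mem _⟩
  comm n x := by
    show ((E'.d n x, 0) : (E'.X (n + 1)).carrier × (E''.X (n + 1)).carrier) = h.dd n (x, 0)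
    rw [h.dd_apply]
    simp

/-- The projection `horseshoe → E''` as a chain map. -/
def HData.sndC : CMap (h.res hg hfinj hfg hgsurj) E'' 0 where
  φ n := LinearMap.snd R (E'.X n).carrier (E''.X n).carrier
  deg n := fun k x hx => by
    rw [add_zero]
    exact hx.2
  comm n x := rfl

theorem HData.τ_cocyc (i : ℕ) : ∀ z ∈ E''.cocyc a i, h.τ i z ∈ E'.cocyc a (i + 1) := by
  rintro z ⟨hz1, hz2⟩
  refine ⟨map_mem_gam _ hz1, ?_⟩
  have hz2' : E''.d i z = 0 := hz2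
  show E'.d (i + 1) (h.τ i z) = 0
  have := h.τ_d i z
  rw [hz2', map_zero] at this
  rw [← neg_eq_zero, ← this]

theorem HData.τ_cobdy (i : ℕ) : ∀ z ∈ E''.cobdy a i, h.τ i z ∈ E'.cobdy a (i + 1) := by
  cases i with
  | zero =>
    intro z hz
    have hz0 : z = 0 := hz
    rw [hz0, map_zero]
    exact zero_mem _
  | succ n =>
    rintro _ ⟨γ, hγ, rfl⟩
    refine ⟨-h.τ n γ, neg_mem (map_mem_gam _ hγ), ?_⟩
    rw [map_neg, h.τ_d]

/-- The connecting homomorphism. -/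
def HData.δ (i : ℕ) : E''.H a i →ₗ[R] E'.H a (i + 1) :=
  Hind a E'' E' i (i + 1) (h.τ i) (h.τ_cocyc a i) (h.τ_cobdy a i)

theorem HData.δ_mem_Hcomp (i : ℕ) {n : ι} {ξ : E''.H a i} (hξ : ξ ∈ E''.Hcomp a i n) :
    h.δ a i ξ ∈ E'.Hcomp a (i + 1) n := by
  have := Hind_mem_Hcomp a E'' E' i (i + 1) (h.τ i) (h.τ_cocyc a i) (h.τ_cobdy a i)
    (isGrHomDeg_zero_of (h.τ_gr i)) hξ
  rwa [add_zero] at this

/-- Exactness at the middle term. -/
theorem HData.exact_mid (i : ℕ) (ξ : (h.res hg hfinj hfg hgsurj).H a i) :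
    (h.sndC hg hfinj hfg hgsurj).Hmap a i ξ = 0 ↔
      ξ ∈ LinearMap.range ((h.inlC hg hfinj hfg hgsurj).Hmap a i) := by
  constructor
  · intro hξ
    obtain ⟨z, rfl⟩ := toH_surjective a _ i ξ
    rw [CMap.Hmap_toH, toH_eq_zero_iff] at hξ
    obtain ⟨⟨e', e''⟩, hz⟩ := z
    have hz' := hz
    obtain ⟨hzg, hzk⟩ := hz'
    have hzg' := (mem_gam_prod _ _).mp hzg
    have hzk' : h.dd i (e', e'') = 0 := hzk
    rw [h.dd_apply, Prod.mk_eq_zero] at hzk'
    obtain ⟨hk1, hk2⟩ := hzk'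
    change e'' ∈ E''.cobdy a i at hξ
    cases i with
    | zero =>
      have he'' : e'' = 0 := hξ
      subst he''
      simp only [map_zero, add_zero] at hk1
      refine ⟨E'.toH a 0 ⟨e', hzg'.1, hk1⟩, ?_⟩
      rw [CMap.Hmap_toH]
      rfl
    | succ n =>
      obtain ⟨γ'', hγ'', rfl⟩ := hξ
      have hcoc : e' - h.τ n γ'' ∈ E'.cocyc a (n + 1) := by
        refine ⟨sub_mem hzg'.1 (map_mem_gam _ hγ''), ?_⟩
        show E'.d (n + 1) (e' - h.τ n γ'') = 0
        simp only at hk1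
        rw [h.τ_d] at hk1
        rw [map_sub, sub_eq_add_neg]
        exact hk1
      refine ⟨E'.toH a (n + 1) ⟨e' - h.τ n γ'', hcoc⟩, ?_⟩
      rw [CMap.Hmap_toH, toH_eq_iff]
      refine ⟨((0, -γ'') : (E'.X n).carrier × (E''.X n).carrier), ?_, ?_⟩
      · exact (mem_gam_prod _ _).mpr ⟨zero_mem _, neg_mem hγ''⟩
      · show h.dd n (0, -γ'') = (e' - h.τ n γ'', 0) - (e', E''.d n γ'')
        rw [h.dd_apply]
        simp only [map_zero, map_neg, zero_add]
        refine Prod.ext ?_ ?_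
        · show -(h.τ n) γ'' = (e' - h.τ n γ'') - e'
          abel
        · show -(E''.d n) γ'' = 0 - E''.d n γ''
          abel
  · rintro ⟨η, rfl⟩
    obtain ⟨z, rfl⟩ := toH_surjective a _ i η
    rw [CMap.Hmap_toH, CMap.Hmap_toH, toH_eq_zero_iff]
    exact zero_mem _

/-- Exactness at the right term. -/
theorem HData.exact_right (i : ℕ) (η : E''.H a i) :
    h.δ a i η = 0 ↔ η ∈ LinearMap.range ((h.sndC hg hfinj hfg hgsurj).Hmap a i) := by
  constructor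
  · intro hη
    obtain ⟨z, rfl⟩ := toH_surjective a _ i η
    obtain ⟨e'', he''g, he''k⟩ := z
    have hη' : h.τ i e'' ∈ E'.cobdy a (i + 1) := (toH_eq_zero_iff a E' (i + 1) _).mp hη
    obtain ⟨γ', hγ', hγ'e⟩ := hη'
    have he''k' : E''.d i e'' = 0 := he''k
    have hcoc : ((-γ', e'') : (E'.X i).carrier × (E''.X i).carrier) ∈
        (h.res hg hfinj hfg hgsurj).cocyc a i := by
      refine ⟨(mem_gam_prod _ _).mpr ⟨neg_mem hγ', he''g⟩, ?_⟩
      show h.dd i (-γ', e'') = 0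
      rw [h.dd_apply]
      simp only [map_neg, hγ'e, neg_add_cancel, he''k']
      rfl
    refine ⟨(h.res hg hfinj hfg hgsurj).toH a i ⟨_, hcoc⟩, ?_⟩
    rw [CMap.Hmap_toH]
    rfl
  · rintro ⟨ξ, rfl⟩
    obtain ⟨z, rfl⟩ := toH_surjective a _ i ξ
    obtain ⟨⟨e', e''⟩, hz⟩ := z
    have hz' := hz
    obtain ⟨hzg, hzk⟩ := hz'
    have hzg' := (mem_gam_prod _ _).mp hzg
    have hzk' : h.dd i (e', e'') = 0 := hzk
    rw [h.dd_apply, Prod.mk_eq_zero] at hzk'
    obtain ⟨hk1, hk2⟩ := hzk'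
    rw [CMap.Hmap_toH]
    show E'.toH a (i + 1) ⟨h.τ i e'', _⟩ = 0
    rw [toH_eq_zero_iff]
    refine ⟨-e', neg_mem hzg'.1, ?_⟩
    simp only at hk1
    show E'.d i (-e') = h.τ i e''
    rw [map_neg, neg_eq_iff_add_eq_zero]
    exact hk1

/-- Exactness at the left term (in degree `i + 1`). -/
theorem HData.exact_left (i : ℕ) (η : E'.H a (i + 1)) :
    (h.inlC hg hfinj hfg hgsurj).Hmap a (i + 1) η = 0 ↔ η ∈ LinearMap.range (h.δ a i) := by
  constructor
  · intro hη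
    obtain ⟨z, rfl⟩ := toH_surjective a _ (i + 1) η
    obtain ⟨e', he'g, he'k⟩ := z
    rw [CMap.Hmap_toH, toH_eq_zero_iff] at hη
    obtain ⟨⟨γ', γ''⟩, hγ, hγe⟩ := hη
    have hγ' := (mem_gam_prod _ _).mp hγ
    have hγe' : h.dd i (γ', γ'') = (e', 0) := hγe
    rw [h.dd_apply, Prod.mk.injEq] at hγe'
    obtain ⟨h1, h2⟩ := hγe'
    simp only at h1 h2
    refine ⟨E''.toH a i ⟨γ'', hγ'.2, h2⟩, ?_⟩
    show E'.toH a (i + 1) ⟨h.τ i γ'', _⟩ = _
    rw [toH_eq_iff]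
    refine ⟨-γ', neg_mem hγ'.1, ?_⟩
    show E'.d i (-γ') = h.τ i γ'' - e'
    rw [← h1, map_neg]
    abel
  · rintro ⟨ξ, rfl⟩
    obtain ⟨z, rfl⟩ := toH_surjective a _ i ξ
    obtain ⟨e'', he''g, he''k⟩ := z
    have he''k' : E''.d i e'' = 0 := he''k
    show (h.inlC hg hfinj hfg hgsurj).Hmap a (i + 1) (E'.toH a (i + 1) ⟨h.τ i e'', _⟩) = 0
    rw [CMap.Hmap_toH, toH_eq_zero_iff]
    refine ⟨((0, e'') : (E'.X i).carrier × (E''.X i).carrier),
      (mem_gam_prod _ _).mpr ⟨zero_mem _, he''g⟩, ?_⟩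
    show h.dd i (0, e'') = (h.τ i e'', 0)
    rw [h.dd_apply]
    simp [he''k']

end LES

end Groth.Agent.Lib.H74GrLES
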