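import Mathlib
import Groth.Agent.Lib.H74GrReg2
import Groth.Agent.Lib.H74GrCM

set_option autoImplicit false
set_option linter.unusedSectionVars false
set_option linter.style.haveILetI false

universe u

namespace Groth.Agent.Lib.H74GrReg

open DirectSum GrLC Groth.Agent.Lib.H74GrArt Groth.Agent.Lib.H74GrLES
  Groth.Agent.Lib.H87GrShift Groth.Agent.Lib.H87GrMod
open scoped Pointwise

section Claim

variable {R : Type u} [CommRing R] [IsNoetherianRing R] {𝒜 : ℤ → AddSubgroup R} [GradedRing 𝒜]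

/-- The statement proved by induction on the length of the regular sequence. -/
def ClaimAt (m : HomogeneousIdeal 𝒜) (t : ℕ) : Prop :=
  ∀ (M : Type u) [AddCommGroup M] [Module R M] (ℳ : ℤ → AddSubgroup M)
    [Decomposition ℳ] [SetLike.GradedSMul 𝒜 ℳ] (E : StarInjRes 𝒜 ℳ) (e : ℕ)
    (_ : ∀ i, i < e + t → Subsingleton (E.H m i))
    (f : Fin t → R) (deg : Fin t → ℤ) (_ : ∀ i, f i ∈ 𝒜 (deg i))
    (_ : ∀ i, 0 ≤ deg i ∨ f i = 0) (_ : ∀ i, f i ∈ m.toIdeal)
    (_ : RingTheory.Sequence.IsWeaklyRegular M (List.ofFn f))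
    (N : Type u) [AddCommGroup N] [Module R N] (𝒩 : ℤ → AddSubgroup N)
    [Decomposition 𝒩] [SetLike.GradedSMul 𝒜 𝒩] (π : M →ₗ[R] N) (_ : IsGrHom ℳ 𝒩 π)
    (_ : Function.Surjective π)
    (_ : LinearMap.ker π = Ideal.span (Set.range f) • (⊤ : Submodule R M))
    (F : StarInjRes 𝒜 𝒩),
    endDeg (F.Hgr m e) = endDeg (E.Hgr m (e + t)) +
      (((∑ i, deg i : ℤ) : WithTop ℤ) : WithBot (WithTop ℤ))

variable {M : Type u} [AddCommGroup M] [Module R M] {ℳ : ℤ → AddSubgroup M}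
  [Decomposition ℳ] [SetLike.GradedSMul 𝒜 ℳ]
variable {N : Type u} [AddCommGroup N] [Module R N] {𝒩 : ℤ → AddSubgroup N}
  [Decomposition 𝒩] [SetLike.GradedSMul 𝒜 𝒩]

theorem subsingleton_H_of_subsingleton [Subsingleton M] (E : StarInjRes 𝒜 ℳ)
    (a : HomogeneousIdeal 𝒜) (i : ℕ) : Subsingleton (E.H a i) := by
  apply Groth.Agent.Lib.H74GrCM.subsingleton_H_of_supportDim_lt 𝒜 a E i
  rw [Module.supportDim_eq_bot_of_subsingleton]
  exact WithBot.bot_lt_coe _

theorem claim_zero (m : HomogeneousIdeal 𝒜) : ClaimAt m 0 := by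
  intro M _ _ ℳ _ _ E e _ f deg _ _ _ _ N _ _ 𝒩 _ _ π hπ hπs hπk F
  have hinj : Function.Injective π := by
    rw [← LinearMap.ker_eq_bot, hπk]
    have : Set.range f = ∅ := Set.range_eq_empty f
    rw [this, Ideal.span_empty, Submodule.bot_smul]
  rw [endDeg_eq_of_bijective E F m hπ ⟨hinj, hπs⟩ e]
  have : (((∑ i, deg i : ℤ) : WithTop ℤ) : WithBot (WithTop ℤ)) = 0 := by
    rw [Finset.univ_eq_empty, Finset.sum_empty]
    rfl
  rw [this, add_zero]
  rfl


theorem ker_factor {M₁ : Type u} [AddCommGroup M₁] [Module R M₁] {t : ℕ} (f : Fin (t + 1) → R)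
    (q : M →ₗ[R] M₁) (hqs : Function.Surjective q)
    (hqk : LinearMap.ker q = LinearMap.range (f 0 • (LinearMap.id : M →ₗ[R] M)))
    (π : M →ₗ[R] N)
    (hπk : LinearMap.ker π = Ideal.span (Set.range f) • (⊤ : Submodule R M))
    (π₁ : M₁ →ₗ[R] N) (hπ₁ : ∀ z, π₁ (q z) = π z) :
    LinearMap.ker π₁ = Ideal.span (Set.range fun i : Fin t => f i.succ) • (⊤ : Submodule R M₁) := by
  apply le_antisymm
  · intro y hy
    obtain ⟨z, rfl⟩ := hqs y
    have hz : z ∈ Ideal.span (Set.range f) • (⊤ : Submodule R M) := by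
      rw [← hπk, LinearMap.mem_ker, ← hπ₁]
      exact hy
    have key : ∀ r ∈ Ideal.span (Set.range f), ∀ n : M,
        r • q n ∈ Ideal.span (Set.range fun i : Fin t => f i.succ) • (⊤ : Submodule R M₁) := by
      intro r hr
      refine Submodule.span_induction ?_ ?_ ?_ ?_ hr
      · rintro _ ⟨i, rfl⟩ n
        refine Fin.cases ?_ (fun j => ?_) i
        · have : f 0 • n ∈ LinearMap.ker q := by
            rw [hqk]; exact ⟨n, rfl⟩
          rw [← map_smul, LinearMap.mem_ker.mp this]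
          exact zero_mem _
        · exact Submodule.smul_mem_smul (Ideal.subset_span ⟨j, rfl⟩) Submodule.mem_top
      · intro n
        rw [zero_smul]; exact zero_mem _
      · intro a b _ _ ha hb n
        rw [add_smul]; exact add_mem (ha n) (hb n)
      · intro c a _ ha n
        rw [smul_eq_mul, mul_smul]
        exact Submodule.smul_mem _ _ (ha n)
    refine Submodule.smul_induction_on hz ?_ ?_
    · intro r hr n _
      rw [map_smul]
      exact key r hr n
    · intro a b ha hb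
      rw [map_add]; exact add_mem ha hb
  · intro y hy
    refine Submodule.smul_induction_on hy ?_ ?_
    · intro r hr n₁ _
      obtain ⟨n, rfl⟩ := hqs n₁
      rw [LinearMap.mem_ker, ← map_smul, hπ₁, ← LinearMap.mem_ker, hπk]
      refine Submodule.smul_mem_smul ?_ Submodule.mem_top
      refine Ideal.span_mono ?_ hr
      rintro _ ⟨j, rfl⟩
      exact ⟨j.succ, rfl⟩
    · intro a b ha hb
      exact add_mem ha hb

theorem claim_succ_aux (m : HomogeneousIdeal 𝒜) (t : ℕ) (ih : ClaimAt m t)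
    (E : StarInjRes 𝒜 ℳ) (e : ℕ) (hlow : ∀ i, i < e + (t + 1) → Subsingleton (E.H m i))
    (f : Fin (t + 1) → R) (deg : Fin (t + 1) → ℤ) (hfdeg : ∀ i, f i ∈ 𝒜 (deg i))
    (hdeg : ∀ i, 0 ≤ deg i ∨ f i = 0) (hfm : ∀ i, f i ∈ m.toIdeal) (hk : 0 ≤ deg 0)
    (hreg0 : IsSMulRegular M (f 0))
    (hreg' : RingTheory.Sequence.IsWeaklyRegular (QuotSMulTop (f 0) M)
      (List.ofFn fun i : Fin t => f i.succ))
    (π : M →ₗ[R] N) (hπ : IsGrHom ℳ 𝒩 π) (hπs : Function.Surjective π)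
    (hπk : LinearMap.ker π = Ideal.span (Set.range f) • (⊤ : Submodule R M))
    (F : StarInjRes 𝒜 𝒩)
    {M₁ : Type u} [AddCommGroup M₁] [Module R M₁] {ℳ₁ : ℤ → AddSubgroup M₁}
    [Decomposition ℳ₁] [SetLike.GradedSMul 𝒜 ℳ₁]
    (q : M →ₗ[R] M₁) (hq : IsGrHom ℳ ℳ₁ q) (hqs : Function.Surjective q)
    (hqk : LinearMap.ker q = LinearMap.range (f 0 • (LinearMap.id : M →ₗ[R] M)))
    (E₁ : StarInjRes 𝒜 ℳ₁) :
    endDeg (F.Hgr m e) = endDeg (E.Hgr m (e + (t + 1))) +
      (((∑ i, deg i : ℤ) : WithTop ℤ) : WithBot (WithTop ℤ)) := by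
  -- the induced map
  have hle : LinearMap.ker q ≤ LinearMap.ker π := by
    rw [hqk, hπk]
    rintro _ ⟨n, rfl⟩
    exact Submodule.smul_mem_smul (Ideal.subset_span ⟨0, rfl⟩) Submodule.mem_top
  obtain ⟨π₁, hπ₁⟩ := exists_factor q hqs π hle
  have hπ₁gr : IsGrHom ℳ₁ 𝒩 π₁ := by
    intro g y hy
    obtain ⟨z, rfl⟩ := hqs y
    have h1 : q (decompose ℳ z g : M) = q z := by
      have := decompose_map (ℳ := ℳ) (𝒩 := ℳ₁) hq z g
      rw [← this, decompose_of_mem_same ℳ₁ hy]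
    rw [← h1, hπ₁]
    exact hπ g _ (decompose ℳ z g).2
  have hπ₁s : Function.Surjective π₁ := by
    intro y
    obtain ⟨z, rfl⟩ := hπs y
    exact ⟨q z, hπ₁ z⟩
  have hπ₁k := ker_factor f q hqs hqk π hπk π₁ hπ₁
  -- regularity transfer
  have hBeq : (f 0 • (⊤ : Submodule R M)) = LinearMap.ker q := by
    rw [hqk]
    ext z
    rw [Submodule.mem_smul_pointwise_iff_exists, LinearMap.mem_range]
    constructor
    · rintro ⟨y, -, rfl⟩
      exact ⟨y, rfl⟩
    · rintro ⟨y, rfl⟩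
      exact ⟨y, Submodule.mem_top, rfl⟩
  let eqv : QuotSMulTop (f 0) M ≃ₗ[R] M₁ :=
    (Submodule.quotEquivOfEq _ _ hBeq).trans (q.quotKerEquivOfSurjective hqs)
  have hreg₁ : RingTheory.Sequence.IsWeaklyRegular M₁ (List.ofFn fun i : Fin t => f i.succ) :=
    (eqv.isWeaklyRegular_congr _).mp hreg'
  -- vanishing for M₁
  have hlow₁ : ∀ i, i < e + t → Subsingleton (E₁.H m i) := fun i hi =>
    subsingleton_of_les E E₁ m (hfdeg 0) hreg0 hq hqs hqk i (hlow i (by omega))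
      (hlow (i + 1) (by omega))
  have h1 := step E E₁ m hk (hfdeg 0) (hfm 0) hreg0 hq hqs hqk (e + t) (hlow (e + t) (by omega))
  have h2 := ih M₁ ℳ₁ E₁ e hlow₁ (fun i => f i.succ) (fun i => deg i.succ)
    (fun i => hfdeg i.succ) (fun i => hdeg i.succ) (fun i => hfm i.succ) hreg₁ N 𝒩 π₁ hπ₁gr hπ₁s
    hπ₁k F
  rw [h2, h1, Fin.sum_univ_succ, add_assoc]
  congr 1


/-- **a-invariant along a regular sequence**: if `H^i_m(M) = 0` for `i < e + t` and
`f_1, …, f_t ∈ m` is an `M`-regular sequence of homogeneous elements of degrees `d_i ≥ 0`, then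
the end of `H^e_m(M/(f)M)` is the end of `H^{e+t}_m(M)` plus `d_1 + ⋯ + d_t`. -/
theorem claim (m : HomogeneousIdeal 𝒜) (t : ℕ) : ClaimAt m t := by
  induction t with
  | zero => exact claim_zero m
  | succ t ih =>
    intro M _ _ ℳ _ _ E e hlow f deg hfdeg hdeg hfm hreg N _ _ 𝒩 _ _ π hπ hπs hπk F
    rw [List.ofFn_succ, RingTheory.Sequence.isWeaklyRegular_cons_iff] at hreg
    obtain ⟨hreg0, hreg'⟩ := hreg
    rcases hdeg 0 with hk | hf0
    · have hB := isHomogeneous_range_smul (ℳ := ℳ) (hfdeg 0)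
      obtain ⟨E₁⟩ := Groth.Agent.S13215.result R 𝒜 _
        (Groth.Agent.S13215.quotGMod 𝒜 ℳ _ hB).gr
      refine claim_succ_aux m t ih E e hlow f deg hfdeg hdeg hfm hk hreg0 hreg' π hπ hπs hπk F
        (Groth.Agent.S13215.quotMap 𝒜 ℳ _ hB) (Groth.Agent.S13215.quotMap_isGrHom 𝒜 ℳ _ hB)
        (Groth.Agent.S13215.quotMap_surjective 𝒜 ℳ _ hB) ?_ E₁
      ext z
      rw [LinearMap.mem_ker, Groth.Agent.S13215.quotMap_eq_zero_iff]
    · have hsub : Subsingleton M := by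
        refine subsingleton_of_forall_eq 0 fun z => ?_
        apply hreg0
        show f 0 • z = f 0 • 0
        rw [hf0, zero_smul, zero_smul]
      have hsubN : Subsingleton N := hπs.subsingleton
      haveI := subsingleton_H_of_subsingleton E m (e + (t + 1))
      haveI := subsingleton_H_of_subsingleton F m e
      rw [endDeg_eq_bot_of_subsingleton, endDeg_eq_bot_of_subsingleton, WithBot.bot_add]

end Claim

end Groth.Agent.Lib.H74GrReg
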