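import Groth.Agent.Lib.H74GrVan
import Groth.Agent.Lib.H74GrFin

set_option autoImplicit false
set_option linter.unusedSectionVars false
set_option linter.style.haveILetI false
universe u

namespace Groth.Agent.Lib.H74GrSerre

open DirectSum GrLC Groth.Agent.Lib.H87GrMod Groth.Agent.Lib.H87GrMod2 Groth.Agent.Lib.H87GrShift
  Groth.Agent.S18662 Groth.Agent.S18661 Groth.Agent.Lib.H74GrLES Groth.Agent.Lib.H74GrArt
  Groth.Agent.Lib.H74GrVan

section Len

variable {A : Type*} [Ring A] {X Y : Type*} [AddCommGroup X] [Module A X] [AddCommGroup Y]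
  [Module A Y]

/-- rank–nullity for lengths on a submodule. -/
theorem length_eq_ker_add_map (f : X →ₗ[A] Y) (S : Submodule A X) :
    Module.length A S = Module.length A ↥(S ⊓ LinearMap.ker f) + Module.length A ↥(S.map f) := by
  let g : S →ₗ[A] S.map f := (f.domRestrict S).codRestrict (S.map f) (fun z => ⟨z.1, z.2, rfl⟩)
  have hg : Function.Surjective g := by
    rintro ⟨y, z, hz, rfl⟩
    exact ⟨⟨z, hz⟩, rfl⟩
  let j : ↥(S ⊓ LinearMap.ker f) →ₗ[A] S := Submodule.inclusion inf_le_left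
  have hj : Function.Injective j := Submodule.inclusion_injective _
  have hex : Function.Exact j g := by
    intro z
    constructor
    · intro hz
      have hz' : f z.1 = 0 := congrArg Subtype.val hz
      exact ⟨⟨z.1, z.2, hz'⟩, rfl⟩
    · rintro ⟨w, rfl⟩
      apply Subtype.ext
      exact w.2.2
  exact Module.length_eq_add_of_exact j g hj hg hex

theorem length_map_of_injOn (f : X →ₗ[A] Y) (S : Submodule A X)
    (h : ∀ z ∈ S, f z = 0 → z = 0) : Module.length A ↥(S.map f) = Module.length A S := by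
  have h0 : S ⊓ LinearMap.ker f = ⊥ := by
    rw [eq_bot_iff]
    rintro z ⟨hz, hz'⟩
    exact h z hz hz'
  rw [length_eq_ker_add_map f S, h0]
  simp

/-- abstract four-term count. -/
theorem length_count {X' : Type*} [AddCommGroup X'] [Module A X']
    (μ : X →ₗ[A] X) (p : X →ₗ[A] Y) (δ : Y →ₗ[A] X') (μ' : X' →ₗ[A] X')
    (S T : Submodule A X) (C : Submodule A Y) (S' : Submodule A X')
    (h1 : S.map μ = T ⊓ LinearMap.ker p) (h2 : T.map p = C ⊓ LinearMap.ker δ)
    (h3 : C.map δ = S' ⊓ LinearMap.ker μ') :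
    Module.length A S + Module.length A C =
      Module.length A T + Module.length A ↥(S ⊓ LinearMap.ker μ) +
        Module.length A ↥(S' ⊓ LinearMap.ker μ') := by
  rw [length_eq_ker_add_map μ S, length_eq_ker_add_map δ C, length_eq_ker_add_map p T, h1, h2, h3]
  ring

end Len

section LESCount

variable {R : Type u} [CommRing R] {𝒜 : ℤ → AddSubgroup R} [GradedRing 𝒜]
variable {M : Type u} [AddCommGroup M] [Module R M] {ℳ : ℤ → AddSubgroup M}
  [Decomposition ℳ] [SetLike.GradedSMul 𝒜 ℳ]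
variable {N : Type u} [AddCommGroup N] [Module R N] {𝒩 : ℤ → AddSubgroup N}
  [Decomposition 𝒩] [SetLike.GradedSMul 𝒜 𝒩]

/-- multiplication by `x` as an `R_0`-linear map. -/
noncomputable def mul0 (𝒜 : ℤ → AddSubgroup R) [GradedRing 𝒜] (X : Type u) [AddCommGroup X]
    [Module R X] (x : R) : X →ₗ[deg0 𝒜] X :=
  (x • (LinearMap.id : X →ₗ[R] X)).restrictScalars (deg0 𝒜)

@[simp] theorem mul0_apply (X : Type u) [AddCommGroup X] [Module R X] (x : R) (ξ : X) :
    mul0 𝒜 X x ξ = x • ξ := rfl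

/-- the kernel of multiplication by `x` on the piece of degree `n`. -/
noncomputable def kap (E : StarInjRes 𝒜 ℳ) (a : HomogeneousIdeal 𝒜) (x : R) (i : ℕ) (n : ℤ) :
    Submodule (deg0 𝒜) (E.H a i) :=
  E.Hcomp a i n ⊓ LinearMap.ker (mul0 𝒜 (E.H a i) x)

theorem les_count (E : StarInjRes 𝒜 ℳ) (F : StarInjRes 𝒜 𝒩) {x : R} {k : ℤ}
    (hx : x ∈ 𝒜 k) (hreg : IsSMulRegular M x) {π : M →ₗ[R] N} (hπ : IsGrHom ℳ 𝒩 π)
    (hπs : Function.Surjective π)
    (hker : LinearMap.ker π = LinearMap.range (x • (LinearMap.id : M →ₗ[R] M)))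
    (a : HomogeneousIdeal 𝒜) (i : ℕ) (n : ℤ) :
    Module.length (deg0 𝒜) (E.Hcomp a i (n - k)) + Module.length (deg0 𝒜) (F.Hcomp a i n) =
      Module.length (deg0 𝒜) (E.Hcomp a i n) + Module.length (deg0 𝒜) (kap E a x i (n - k)) +
        Module.length (deg0 𝒜) (kap E a x (i + 1) (n - k)) := by
  obtain ⟨cπ, hcπ⟩ := exists_cmap E F (isGrHomDeg_zero_of hπ)
  obtain ⟨δ, hδ, h1, h2, h3⟩ := exists_les_smul E F hx hreg hπ hπs hker a cπ hcπ
  letI := decompositionHgr 𝒜 ℳ a E i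
  letI := decompositionHgr 𝒜 ℳ a E (i + 1)
  letI := decompositionHgr 𝒜 𝒩 a F i
  have hμdeg : ∀ j, IsGrHomDeg (E.Hgr a j) (E.Hgr a j)
      (x • (LinearMap.id : E.H a j →ₗ[R] E.H a j)) k := fun j g ξ hξ => by
    have := SetLike.GradedSMul.smul_mem (A := 𝒜) (B := E.Hgr a j) hx hξ
    rw [vadd_eq_add, add_comm] at this
    exact this
  have hpdeg : IsGrHomDeg (E.Hgr a i) (F.Hgr a i) (cπ.Hmap a i) 0 := fun g ξ hξ =>
    cπ.Hmap_mem_Hcomp a i hξ
  have hδdeg : IsGrHomDeg (F.Hgr a i) (E.Hgr a (i + 1)) (δ i) (-k) := fun g ξ hξ => hδ i g ξ hξ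
  refine length_count (mul0 𝒜 (E.H a i) x) ((cπ.Hmap a i).restrictScalars (deg0 𝒜))
    ((δ i).restrictScalars (deg0 𝒜)) (mul0 𝒜 (E.H a (i + 1)) x) _ _ _ _ ?_ ?_ ?_
  · ext ξ
    constructor
    · rintro ⟨η, hη, rfl⟩
      refine ⟨?_, ?_⟩
      · have := hμdeg i (n - k) η hη
        rw [sub_add_cancel] at this
        exact this
      · exact (h1 i (x • η)).mpr ⟨η, rfl⟩
    · rintro ⟨hξ, hξ0⟩
      have hξ0' : cπ.Hmap a i ξ = 0 := hξ0
      obtain ⟨η, hη⟩ := (h1 i ξ).mp hξ0'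
      have hrange : ξ ∈ LinearMap.range (x • (LinearMap.id : E.H a i →ₗ[R] E.H a i)) :=
        ⟨η, hη⟩
      obtain ⟨w, hw, hwξ⟩ := exists_homogeneous_preimage (E.Hgr a i) (E.Hgr a i) (hμdeg i)
        (show ξ ∈ E.Hgr a i n from hξ) hrange
      exact ⟨w, hw, hwξ⟩
  · ext η
    constructor
    · rintro ⟨ξ, hξ, rfl⟩
      refine ⟨?_, ?_⟩
      · have := hpdeg n ξ hξ
        rw [add_zero] at this
        exact this
      · exact (h2 i (cπ.Hmap a i ξ)).mpr ⟨ξ, rfl⟩
    · rintro ⟨hη, hη0⟩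
      have hη0' : δ i η = 0 := hη0
      have hrange := (h2 i η).mp hη0'
      obtain ⟨w, hw, hwη⟩ := exists_homogeneous_preimage (E.Hgr a i) (F.Hgr a i) hpdeg
        (show η ∈ F.Hgr a i n from hη) hrange
      rw [sub_zero] at hw
      exact ⟨w, hw, hwη⟩
  · ext ζ
    constructor
    · rintro ⟨η, hη, rfl⟩
      refine ⟨?_, ?_⟩
      · have := hδdeg n η hη
        rw [← sub_eq_add_neg] at this
        exact this
      · exact (h3 i (δ i η)).mpr ⟨η, rfl⟩
    · rintro ⟨hζ, hζ0⟩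
      have hζ0' : x • ζ = 0 := hζ0
      have hrange := (h3 i ζ).mp hζ0'
      obtain ⟨w, hw, hwζ⟩ := exists_homogeneous_preimage (F.Hgr a i) (E.Hgr a (i + 1)) hδdeg
        (show ζ ∈ E.Hgr a (i + 1) (n - k) from hζ) hrange
      have e : n - k - -k = n := by ring
      rw [e] at hw
      exact ⟨w, hw, hwζ⟩

end LESCount

end Groth.Agent.Lib.H74GrSerre
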