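import Groth.Agent.Lib.H74GrSerre1

set_option autoImplicit false
set_option linter.unusedSectionVars false
set_option linter.style.haveILetI false
universe u

namespace Groth.Agent.Lib.H74GrSerre

open DirectSum GrLC Groth.Agent.Lib.H87GrMod Groth.Agent.Lib.H87GrMod2 Groth.Agent.Lib.H87GrShift
  Groth.Agent.S18662 Groth.Agent.S18661 Groth.Agent.Lib.H74GrLES Groth.Agent.Lib.H74GrArt
  Groth.Agent.Lib.H74GrVan Groth.Agent.S13215

section Hilb

variable {R : Type u} [CommRing R] {𝒜 : ℤ → AddSubgroup R} [GradedRing 𝒜]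
variable {M : Type u} [AddCommGroup M] [Module R M] {ℳ : ℤ → AddSubgroup M}
  [Decomposition ℳ] [SetLike.GradedSMul 𝒜 ℳ]
variable {N : Type u} [AddCommGroup N] [Module R N] {𝒩 : ℤ → AddSubgroup N}
  [Decomposition 𝒩] [SetLike.GradedSMul 𝒜 𝒩]

/-- A surjective homogeneous map maps pieces onto pieces. -/
theorem map_comp_of_surjective {π : M →ₗ[R] N} (hπ : IsGrHom ℳ 𝒩 π)
    (hπs : Function.Surjective π) (n : ℤ) :
    (comp 𝒜 ℳ n).map (π.restrictScalars (deg0 𝒜)) = comp 𝒜 𝒩 n := by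
  ext y
  constructor
  · rintro ⟨m, hm, rfl⟩
    exact hπ n m hm
  · intro hy
    obtain ⟨w, hw, hwy⟩ := exists_homogeneous_preimage ℳ 𝒩 (isGrHomDeg_zero_of hπ)
      (show y ∈ 𝒩 n from hy) (LinearMap.range_eq_top.mpr hπs ▸ Submodule.mem_top)
    rw [sub_zero] at hw
    exact ⟨w, hw, hwy⟩

/-- additivity of the Hilbert function along `0 → M(-k) → M → M/xM → 0`. -/
theorem hilb_count {x : R} {k : ℤ}
    (hx : x ∈ 𝒜 k) (hreg : IsSMulRegular M x) {π : M →ₗ[R] N} (hπ : IsGrHom ℳ 𝒩 π)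
    (hπs : Function.Surjective π)
    (hker : LinearMap.ker π = LinearMap.range (x • (LinearMap.id : M →ₗ[R] M))) (n : ℤ) :
    Module.length (deg0 𝒜) (comp 𝒜 ℳ n) =
      Module.length (deg0 𝒜) (comp 𝒜 ℳ (n - k)) + Module.length (deg0 𝒜) (comp 𝒜 𝒩 n) := by
  have hμdeg : IsGrHomDeg ℳ ℳ (x • (LinearMap.id : M →ₗ[R] M)) k := fun g ξ hξ => by
    have := SetLike.GradedSMul.smul_mem (A := 𝒜) (B := ℳ) hx hξ
    rw [vadd_eq_add, add_comm] at this
    exact this
  have h1 : comp 𝒜 ℳ n ⊓ LinearMap.ker (π.restrictScalars (deg0 𝒜)) =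
      (comp 𝒜 ℳ (n - k)).map (mul0 𝒜 M x) := by
    ext m
    constructor
    · rintro ⟨hm, hm0⟩
      have hm0' : m ∈ LinearMap.ker π := hm0
      rw [hker] at hm0'
      obtain ⟨w, hw, hwm⟩ := exists_homogeneous_preimage ℳ ℳ hμdeg
        (show m ∈ ℳ n from hm) hm0'
      exact ⟨w, hw, hwm⟩
    · rintro ⟨w, hw, rfl⟩
      refine ⟨?_, ?_⟩
      · have := hμdeg (n - k) w hw
        rw [sub_add_cancel] at this
        exact this
      · show x • w ∈ LinearMap.ker π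
        rw [hker]
        exact ⟨w, rfl⟩
  rw [length_eq_ker_add_map (π.restrictScalars (deg0 𝒜)) (comp 𝒜 ℳ n), h1,
    map_comp_of_surjective hπ hπs n, length_map_of_injOn]
  intro z _ hz
  exact hreg (show x • z = x • (0 : M) by rw [smul_zero]; exact hz)

end Hilb

section HZero

variable {R : Type u} [CommRing R] {𝒜 : ℤ → AddSubgroup R} [GradedRing 𝒜]
variable {M : Type u} [AddCommGroup M] [Module R M] {ℳ : ℤ → AddSubgroup M}
  [Decomposition ℳ] [SetLike.GradedSMul 𝒜 ℳ]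

/-- The torsion part of the piece of degree `n`. -/
def gamComp (𝒜 : ℤ → AddSubgroup R) [GradedRing 𝒜] (ℳ : ℤ → AddSubgroup M)
    [SetLike.GradedSMul 𝒜 ℳ] (a : Ideal R) (n : ℤ) : Submodule (deg0 𝒜) M :=
  comp 𝒜 ℳ n ⊓ (gam a M).restrictScalars (deg0 𝒜)

/-- `H^0_a(M)_n ≅ Γ_a(M)_n`, at the level of lengths. -/
theorem length_Hcomp_zero (E : StarInjRes 𝒜 ℳ) (a : HomogeneousIdeal 𝒜) (n : ℤ) :
    Module.length (deg0 𝒜) (E.Hcomp a 0 n) =
      Module.length (deg0 𝒜) (gamComp 𝒜 ℳ a.toIdeal n) := by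
  classical
  have hmem : ∀ m : gam a.toIdeal M, E.ε m.1 ∈ E.cocyc a 0 := fun m =>
    ⟨map_mem_gam E.ε m.2, by
      rw [E.exact_zero]; exact ⟨m.1, rfl⟩⟩
  let φ₀ : gam a.toIdeal M →ₗ[R] E.cocyc a 0 :=
    LinearMap.codRestrict (E.cocyc a 0) (E.ε ∘ₗ (gam a.toIdeal M).subtype) hmem
  let Φ : gam a.toIdeal M →ₗ[R] E.H a 0 := E.toH a 0 ∘ₗ φ₀
  have hΦinj : ∀ m : gam a.toIdeal M, Φ m = 0 → m = 0 := by
    intro m hm
    have h1 : E.toH a 0 (φ₀ m) = 0 := hm
    rw [toH_eq_zero_iff] at h1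
    have h2 : E.ε m.1 = 0 := h1
    exact Subtype.ext (E.ε_injective (show E.ε m.1 = E.ε 0 by rw [h2, map_zero]))
  let S : Submodule (deg0 𝒜) (gam a.toIdeal M) :=
    (comp 𝒜 ℳ n).comap ((gam a.toIdeal M).subtype.restrictScalars (deg0 𝒜))
  have hS1 : S.map (Φ.restrictScalars (deg0 𝒜)) = E.Hcomp a 0 n := by
    ext ξ
    constructor
    · rintro ⟨m, hm, rfl⟩
      exact ⟨φ₀ m, E.ε_grHom n m.1 hm, rfl⟩
    · rintro ⟨z, hz, rfl⟩
      have hzker : (z : (E.X 0).carrier) ∈ LinearMap.ker (E.d 0) := z.2.2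
      rw [E.exact_zero] at hzker
      obtain ⟨m, hm⟩ := hzker
      have hmgam : m ∈ gam a.toIdeal M := by
        obtain ⟨j, hj⟩ := z.2.1
        refine ⟨j, fun r hr => E.ε_injective ?_⟩
        rw [map_smul, hm, hj r hr, map_zero]
      have hmn : m ∈ ℳ n := by
        have hdec : ∀ g, g ≠ n → (decompose ℳ m g : M) = 0 := by
          intro g hg
          apply E.ε_injective
          rw [map_zero, ← decompose_map ℳ (E.X 0).gr E.ε_grHom m g, hm]
          exact decompose_of_mem_ne (E.X 0).gr hz (Ne.symm hg)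
        have hsum := DirectSum.sum_support_decompose ℳ m
        rw [← hsum]
        refine AddSubgroup.sum_mem _ fun g _ => ?_
        by_cases hg : g = n
        · subst hg; exact (decompose ℳ m g).2
        · rw [hdec g hg]; exact zero_mem _
      refine ⟨⟨m, hmgam⟩, hmn, ?_⟩
      show E.toH a 0 (φ₀ ⟨m, hmgam⟩) = E.toH a 0 z
      congr 1
      exact Subtype.ext hm
  have hS2 : S.map ((gam a.toIdeal M).subtype.restrictScalars (deg0 𝒜)) =
      gamComp 𝒜 ℳ a.toIdeal n := by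
    ext m
    constructor
    · rintro ⟨w, hw, rfl⟩
      exact ⟨hw, w.2⟩
    · rintro ⟨hm, hmg⟩
      exact ⟨⟨m, hmg⟩, hm, rfl⟩
  rw [← hS1, ← hS2, length_map_of_injOn, length_map_of_injOn]
  · intro z _ hz
    exact Subtype.ext hz
  · intro z _ hz
    exact hΦinj z hz

end HZero


section Torsion

variable {R : Type u} [CommRing R] [IsNoetherianRing R] {𝒜 : ℤ → AddSubgroup R} [GradedRing 𝒜]
variable {M : Type u} [AddCommGroup M] [Module R M] {ℳ : ℤ → AddSubgroup M}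
  [Decomposition ℳ] [SetLike.GradedSMul 𝒜 ℳ]
variable {M' : Type u} [AddCommGroup M'] [Module R M'] {ℳ' : ℤ → AddSubgroup M'}
  [Decomposition ℳ'] [SetLike.GradedSMul 𝒜 ℳ']

/-- A bijective homogeneous map preserves the lengths of the pieces. -/
theorem length_comp_eq_of_bijective {f : M →ₗ[R] M'} (hf : IsGrHom ℳ ℳ' f)
    (hb : Function.Bijective f) (n : ℤ) :
    Module.length (deg0 𝒜) (comp 𝒜 ℳ n) = Module.length (deg0 𝒜) (comp 𝒜 ℳ' n) := by
  rw [← map_comp_of_surjective hf hb.2 n, length_map_of_injOn]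
  intro z _ hz
  exact hb.1 (by rw [map_zero]; exact hz)

variable (a : HomogeneousIdeal 𝒜) {q : M →ₗ[R] M'} (hq : IsGrHom ℳ ℳ' q)
  (hqs : Function.Surjective q) (hqker : LinearMap.ker q = gam a.toIdeal M)

include hqs hqker in
theorem gam_quot_eq_bot : gam a.toIdeal M' = ⊥ := by
  rw [eq_bot_iff]
  intro y hy
  obtain ⟨m, rfl⟩ := hqs y
  obtain ⟨k, hk⟩ := hy
  rw [Submodule.mem_bot]
  have hm : m ∈ gam a.toIdeal M := by
    apply mem_gam_of_pow_smul_mem (IsNoetherian.noetherian a.toIdeal) k m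
    intro r hr
    rw [← hqker, LinearMap.mem_ker, map_smul]
    exact hk r hr
  rw [← hqker] at hm
  exact hm

include hqs hqker in
theorem length_Hcomp_zero_quot (E' : StarInjRes 𝒜 ℳ') (n : ℤ) :
    Module.length (deg0 𝒜) (E'.Hcomp a 0 n) = 0 := by
  rw [length_Hcomp_zero E' a n, Module.length_eq_zero_iff]
  have h0 := gam_quot_eq_bot a hqs hqker
  refine ⟨fun x y => Subtype.ext ?_⟩
  have hx : x.1 ∈ gam a.toIdeal M' := x.2.2
  have hy : y.1 ∈ gam a.toIdeal M' := y.2.2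
  rw [h0] at hx hy
  rw [(Submodule.mem_bot R).mp hx, (Submodule.mem_bot R).mp hy]

include hq hqs hqker in
theorem length_comp_quot (n : ℤ) :
    Module.length (deg0 𝒜) (comp 𝒜 ℳ n) =
      Module.length (deg0 𝒜) (gamComp 𝒜 ℳ a.toIdeal n) +
        Module.length (deg0 𝒜) (comp 𝒜 ℳ' n) := by
  rw [length_eq_ker_add_map (q.restrictScalars (deg0 𝒜)) (comp 𝒜 ℳ n),
    map_comp_of_surjective hq hqs n]
  have : comp 𝒜 ℳ n ⊓ LinearMap.ker (q.restrictScalars (deg0 𝒜)) =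
      gamComp 𝒜 ℳ a.toIdeal n := by
    ext m
    constructor
    · rintro ⟨hm, hm0⟩
      have hm0' : m ∈ LinearMap.ker q := hm0
      rw [hqker] at hm0'
      exact ⟨hm, hm0'⟩
    · rintro ⟨hm, hmg⟩
      have hmg' : m ∈ gam a.toIdeal M := hmg
      rw [← hqker] at hmg'
      exact ⟨hm, hmg'⟩
  rw [this]

include hq hqs hqker in
theorem length_Hcomp_succ_quot (E : StarInjRes 𝒜 ℳ) (E' : StarInjRes 𝒜 ℳ') (i : ℕ) (n : ℤ) :
    Module.length (deg0 𝒜) (E.Hcomp a (i + 1) n) =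
      Module.length (deg0 𝒜) (E'.Hcomp a (i + 1) n) := by
  have hΓhom : (gam a.toIdeal M).IsHomogeneous ℳ := isHomogeneous_gam 𝒜 ℳ a
  obtain ⟨G₀, j, hjgr, hjinj, hjrange⟩ := exists_sub_ses 𝒜 ℳ (gam a.toIdeal M) hΓhom
  have hjq : Function.Exact j q := by
    intro m
    rw [← LinearMap.mem_ker, hqker, ← hjrange]
    rfl
  have hG0 : gam a.toIdeal G₀.carrier = ⊤ := by
    rw [eq_top_iff]
    intro z _
    have hjz : j z ∈ gam a.toIdeal M := by
      rw [← hjrange]; exact ⟨z, rfl⟩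
    obtain ⟨k, hk⟩ := hjz
    refine ⟨k, fun r hr => hjinj ?_⟩
    rw [map_smul, hk r hr, map_zero]
  haveI h1s := H_subsingleton_of_torsion (res G₀.gr) a hG0 (i + 1) (by omega)
  haveI h2s := H_subsingleton_of_torsion (res G₀.gr) a hG0 (i + 1 + 1) (by omega)
  obtain ⟨cf, hcf⟩ := exists_cmap (res G₀.gr) E (isGrHomDeg_zero_of hjgr)
  obtain ⟨cg, hcg⟩ := exists_cmap E E' (isGrHomDeg_zero_of hq)
  obtain ⟨δ, hδ, h1, h2, h3⟩ := exists_les (res G₀.gr) E E' hjgr hq hjinj hjq hqs a cf hcf cg hcg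
  have hbij : Function.Bijective (cg.Hmap a (i + 1)) := by
    constructor
    · rw [← LinearMap.ker_eq_bot, eq_bot_iff]
      intro ξ hξ
      obtain ⟨η, rfl⟩ := (h1 (i + 1) ξ).mp hξ
      rw [Subsingleton.elim η 0, map_zero]
      exact zero_mem _
    · intro η
      have h0 : δ (i + 1) η = 0 := Subsingleton.elim _ _
      exact (h2 (i + 1) η).mp h0
  letI := decompositionHgr 𝒜 ℳ a E (i + 1)
  letI := decompositionHgr 𝒜 ℳ' a E' (i + 1)
  have hgr : IsGrHom (E.Hgr a (i + 1)) (E'.Hgr a (i + 1)) (cg.Hmap a (i + 1)) := fun g ξ hξ => by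
    have := cg.Hmap_mem_Hcomp a (i + 1) hξ
    rw [add_zero] at this
    exact this
  have heq1 : comp 𝒜 (E.Hgr a (i + 1)) n = E.Hcomp a (i + 1) n := Submodule.ext fun x => Iff.rfl
  have heq2 : comp 𝒜 (E'.Hgr a (i + 1)) n = E'.Hcomp a (i + 1) n :=
    Submodule.ext fun x => Iff.rfl
  rw [← heq1, ← heq2]
  exact length_comp_eq_of_bijective hgr hbij n

end Torsion

end Groth.Agent.Lib.H74GrSerre
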