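import Groth.Agent.Lib.H74GrSerre2

set_option autoImplicit false
set_option linter.unusedSectionVars false
set_option linter.style.haveILetI false
universe u

namespace Groth.Agent.Lib.H74GrSerre

open DirectSum GrLC Groth.Agent.Lib.H87GrMod Groth.Agent.Lib.H87GrMod2 Groth.Agent.Lib.H87GrShift
  Groth.Agent.S18662 Groth.Agent.S18661 Groth.Agent.Lib.H74GrLES Groth.Agent.Lib.H74GrArt
  Groth.Agent.Lib.H74GrVan Groth.Agent.S13215

section TorsionBound

open Groth.Agent.S13229

variable {R : Type u} [CommRing R] [IsNoetherianRing R] (𝒜 : ℤ → AddSubgroup R) [GradedRing 𝒜]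
variable (hpos : ∀ n : ℤ, n < 0 → 𝒜 n = ⊥) (a : Ideal R)
  (ha : a = Ideal.span (⋃ n ∈ Set.Ioi (0 : ℤ), (𝒜 n : Set R)))
variable {M : Type u} [AddCommGroup M] [Module R M] [Module.Finite R M] (ℳ : ℤ → AddSubgroup M)
  [Decomposition ℳ] [SetLike.GradedSMul 𝒜 ℳ]

include hpos ha in
/-- The torsion of a finite graded module lives in bounded degrees. -/
theorem exists_gamComp_eq_bot (hΓhom : (gam a M).IsHomogeneous ℳ) :
    ∃ n₁ : ℤ, ∀ n : ℤ, n₁ ≤ n → gamComp 𝒜 ℳ a n = ⊥ := by
  classical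
  have : IsNoetherian R M := isNoetherian_of_isNoetherianRing_of_finite R M
  have hfg : (gam a M).FG := IsNoetherian.noetherian _
  obtain ⟨S, hS, hspan⟩ := Groth.Agent.S13216.exists_homogeneous_generators ℳ hΓhom hfg
  choose! deg hdeg using hS
  obtain ⟨j, hj⟩ := exists_pow_of_fg_le_gam hfg (le_refl _)
  obtain ⟨D, hD0, hD⟩ := exists_bound_pow 𝒜 hpos a ha
  obtain ⟨D₀, hD₀⟩ : ∃ D₀ : ℤ, ∀ s ∈ S, deg s ≤ D₀ := by
    obtain ⟨d, hd⟩ := (S.image deg).bddAbove
    exact ⟨d, fun s hs => hd (Finset.mem_coe.mpr (Finset.mem_image_of_mem deg hs))⟩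
  refine ⟨D₀ + j * D, fun n hn => ?_⟩
  rw [eq_bot_iff]
  rintro m ⟨hm, hmg⟩
  rw [Submodule.mem_bot]
  have hmS : m ∈ Submodule.span R (S : Set M) := by rw [hspan]; exact hmg
  obtain ⟨f, -, hsum⟩ := Submodule.mem_span_finset.mp hmS
  have key : m = ∑ s ∈ S, (decompose 𝒜 (f s) (n - deg s) : R) • s := by
    calc m = (decompose ℳ m n : M) := (decompose_of_mem_same ℳ hm).symm
      _ = (decompose ℳ (∑ s ∈ S, f s • s) n : M) := by rw [hsum]
      _ = ∑ s ∈ S, (decompose ℳ (f s • s) n : M) := by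
          rw [decompose_sum, DFinsupp.finsetSum_apply, AddSubmonoidClass.coe_finsetSum]
      _ = ∑ s ∈ S, (decompose 𝒜 (f s) (n - deg s) : R) • s :=
          Finset.sum_congr rfl fun s hs => decompose_smul_right' 𝒜 ℳ (hdeg s hs) (f s) n
  rw [key]
  refine Finset.sum_eq_zero fun s hs => ?_
  apply hj
  · apply hD j (n - deg s) _ _ (decompose 𝒜 (f s) (n - deg s)).2
    have := hD₀ s hs
    omega
  · rw [← hspan]
    exact Submodule.subset_span hs

end TorsionBound

section Numeric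

theorem toNat_count {a c t k k' : ℕ∞} (h : a + c = t + k + k') (ha : a ≠ ⊤) (hc : c ≠ ⊤) :
    (a.toNat : ℚ) + c.toNat = t.toNat + k.toNat + k'.toNat := by
  have hsum : t + k + k' ≠ ⊤ := by
    rw [← h]; intro h'; rcases ENat.add_eq_top.mp h' with h'' | h''; exacts [ha h'', hc h'']
  have ht : t ≠ ⊤ := fun h' => hsum (by rw [h']; simp)
  have hk : k ≠ ⊤ := fun h' => hsum (by rw [h']; simp)
  have hk' : k' ≠ ⊤ := fun h' => hsum (by rw [h']; simp)
  lift a to ℕ using ha
  lift c to ℕ using hc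
  lift t to ℕ using ht
  lift k to ℕ using hk
  lift k' to ℕ using hk'
  simp only [ENat.toNat_natCast]
  have : a + c = t + k + k' := by exact_mod_cast h
  exact_mod_cast this

theorem toNat_add' {a b c : ℕ∞} (h : a = b + c) (ha : a ≠ ⊤) :
    (a.toNat : ℚ) = b.toNat + c.toNat := by
  have hsum : b + c ≠ ⊤ := by rw [← h]; exact ha
  have hb : b ≠ ⊤ := fun h' => hsum (by rw [h']; simp)
  have hc : c ≠ ⊤ := fun h' => hsum (by rw [h']; simp)
  lift a to ℕ using ha
  lift b to ℕ using hb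
  lift c to ℕ using hc
  simp only [ENat.toNat_natCast]
  have : a = b + c := by exact_mod_cast h
  exact_mod_cast this

/-- telescoping alternating sum. -/
theorem alt_sum_telescope (κ : ℕ → ℚ) (D : ℕ) :
    ∑ i ∈ Finset.range D, (-1 : ℚ) ^ i * (κ i + κ (i + 1)) = κ 0 - (-1) ^ D * κ D := by
  induction D with
  | zero => simp
  | succ D ih =>
    rw [Finset.sum_range_succ, ih, pow_succ]
    ring

end Numeric

end Groth.Agent.Lib.H74GrSerre
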