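import Mathlib

set_option autoImplicit false
set_option linter.style.haveILetI false
set_option linter.unusedSectionVars false
universe u v w

namespace Groth.Agent.Lib.H74Jordan

open DirectSum

variable {k : Type u} [Field k] {Λ : Type v} [AddCommGroup Λ] [DecidableEq Λ]
  {V : Type w} [AddCommGroup V] [Module k V]
  (𝒱 : Λ → Submodule k V)

/-- a graded map of degree `δ` commutes with taking components -/
theorem decompose_map [DirectSum.Decomposition 𝒱] (B : V →ₗ[k] V) (δ : Λ)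
    (hB : ∀ (μ : Λ) (v : V), v ∈ 𝒱 μ → B v ∈ 𝒱 (μ + δ)) (v : V) (ν : Λ) :
    ((DirectSum.decompose 𝒱 (B v) (ν + δ) : 𝒱 (ν + δ)) : V) =
      B (DirectSum.decompose 𝒱 v ν : 𝒱 ν) := by
  classical
  conv_lhs => rw [← DirectSum.sum_support_decompose 𝒱 v]
  rw [map_sum, DirectSum.decompose_sum, DFinsupp.finsetSum_apply, AddSubmonoidClass.coe_finsetSum]
  by_cases hν : ν ∈ (DirectSum.decompose 𝒱 v).support
  · rw [Finset.sum_eq_single_of_mem ν hν]
    · exact DirectSum.decompose_of_mem_same 𝒱 (hB ν _ (SetLike.coe_mem _))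
    · intro ν' _ hne
      refine DirectSum.decompose_of_mem_ne 𝒱 (hB ν' _ (SetLike.coe_mem _)) ?_
      intro h
      exact hne (add_right_cancel h)
  · have h0 : (DirectSum.decompose 𝒱 v ν : 𝒱 ν) = 0 := by
      simpa [DFinsupp.mem_support_iff] using hν
    rw [h0, Submodule.coe_zero, map_zero]
    refine Finset.sum_eq_zero fun ν' hν' => ?_
    refine DirectSum.decompose_of_mem_ne 𝒱 (hB ν' _ (SetLike.coe_mem _)) ?_
    intro h
    apply hν
    rw [← add_right_cancel h]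
    exact hν'

theorem pow_hom (A : Module.End k V) (χ : Λ)
    (hhom : ∀ (μ : Λ) (v : V), v ∈ 𝒱 μ → A v ∈ 𝒱 (μ + χ)) (l : ℕ) :
    ∀ (μ : Λ) (v : V), v ∈ 𝒱 μ → (A ^ l) v ∈ 𝒱 (μ + l • χ) := by
  induction l with
  | zero => intro μ v hv; simpa using hv
  | succ l ih =>
    intro μ v hv
    rw [pow_succ', Module.End.mul_apply, succ_nsmul, ← add_assoc]
    exact hhom _ _ (ih μ v hv)

/-- homogeneous elements of the image of a graded map have homogeneous preimages -/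
theorem exists_homog_preimage [DirectSum.Decomposition 𝒱] (B : V →ₗ[k] V) (δ : Λ)
    (hB : ∀ (μ : Λ) (v : V), v ∈ 𝒱 μ → B v ∈ 𝒱 (μ + δ)) (v : V) (μ : Λ) (h : B v ∈ 𝒱 μ) :
    ∃ v' : V, v' ∈ 𝒱 (μ - δ) ∧ B v' = B v := by
  refine ⟨(DirectSum.decompose 𝒱 v (μ - δ) : 𝒱 (μ - δ)), SetLike.coe_mem _, ?_⟩
  rw [← decompose_map 𝒱 B δ hB v (μ - δ)]
  have : μ - δ + δ = μ := sub_add_cancel μ δ
  rw [← this] at h
  exact DirectSum.decompose_of_mem_same 𝒱 h

/-- the kernel of a graded map is graded -/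
theorem map_component_eq_zero [DirectSum.Decomposition 𝒱] (B : V →ₗ[k] V) (δ : Λ)
    (hB : ∀ (μ : Λ) (v : V), v ∈ 𝒱 μ → B v ∈ 𝒱 (μ + δ)) (v : V) (h : B v = 0) (ν : Λ) :
    B (DirectSum.decompose 𝒱 v ν : 𝒱 ν) = 0 := by
  rw [← decompose_map 𝒱 B δ hB v ν, h, DirectSum.decompose_zero]
  rfl

end Groth.Agent.Lib.H74Jordan
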