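import Mathlib

set_option autoImplicit false
set_option linter.style.haveILetI false
set_option linter.unusedSectionVars false
universe u v w

namespace Groth.Agent.Lib.H74Jordan

variable {k : Type u} [Field k] {V : Type w} [AddCommGroup V] [Module k V]

/-- extend a linearly independent family inside a set `H` by elements of `H` to a family
spanning `H`. -/
theorem exists_extension [FiniteDimensional k V] {ι' : Type w} (b : ι' → V)
    (hb : LinearIndependent k b) (H : Set V) (hbH : ∀ i, b i ∈ H) :
    ∃ (J : Type w) (_ : Fintype J) (g : J → V), (∀ j, g j ∈ H) ∧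
      LinearIndependent k (Sum.elim b g) ∧
      H ⊆ Submodule.span k (Set.range (Sum.elim b g)) := by
  classical
  obtain ⟨B, hBH, hsB, hHB, hB⟩ :=
    exists_linearIndepOn_id_extension hb.linearIndepOn_id (Set.range_subset_iff.mpr hbH)
  have hBfin : B.Finite := LinearIndependent.setFinite hB
  have hJfin : (B \ Set.range b).Finite := hBfin.subset Set.sdiff_subset
  let J : Type w := ↥(B \ Set.range b)
  haveI : Fintype J := hJfin.fintype
  refine ⟨J, inferInstance, fun j => j.1, fun j => hBH j.2.1, ?_, ?_⟩
  · let φ : ι' ⊕ J → B :=
      Sum.elim (fun i => ⟨b i, hsB (Set.mem_range_self i)⟩) (fun j => ⟨j.1, j.2.1⟩)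
    have hφ : Function.Injective φ := by
      rintro (i | j) (i' | j') h
      · have : b i = b i' := congrArg Subtype.val h
        rw [hb.injective this]
      · exfalso
        have : b i = j'.1 := congrArg Subtype.val h
        exact j'.2.2 ⟨i, this⟩
      · exfalso
        have : j.1 = b i' := congrArg Subtype.val h
        exact j.2.2 ⟨i', this.symm⟩
      · have : (j.1 : V) = (j'.1 : V) := congrArg (fun z : B => (z : V)) h
        rw [Subtype.ext this]
    have h1 := LinearIndependent.comp hB φ hφ
    convert h1 using 1
    funext x
    rcases x with i | j <;> rfl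
  · refine hHB.trans (Submodule.span_mono ?_)
    intro x hx
    by_cases hxb : x ∈ Set.range b
    · obtain ⟨i, rfl⟩ := hxb
      exact ⟨Sum.inl i, rfl⟩
    · exact ⟨Sum.inr ⟨x, hx, hxb⟩, rfl⟩

/-- rank-nullity for the restriction of an endomorphism to a submodule -/
theorem finrank_map_add_finrank_inf_ker [FiniteDimensional k V] (A : V →ₗ[k] V)
    (W : Submodule k V) :
    Module.finrank k (W.map A) + Module.finrank k (W ⊓ LinearMap.ker A : Submodule k V) =
      Module.finrank k W := by
  have := LinearMap.finrank_range_add_finrank_ker (A.domRestrict W)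
  rw [LinearMap.range_domRestrict, LinearMap.ker_domRestrict,
    ← Submodule.finrank_map_subtype_eq W, Submodule.map_comap_subtype] at this
  exact this

end Groth.Agent.Lib.H74Jordan
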