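import Groth.Agent.Lib.H74Jordan1
import Groth.Agent.Lib.H74Jordan2

set_option autoImplicit false
set_option linter.style.haveILetI false
set_option linter.unusedSectionVars false
universe u v w

namespace Groth.Agent.Lib.H74Jordan

open DirectSum

variable {k : Type u} [Field k] {Λ : Type v} [AddCommGroup Λ] [DecidableEq Λ]
  {V : Type w} [AddCommGroup V] [Module k V] [FiniteDimensional k V]

/-- A homogeneous Jordan system for the `A`-stable submodule `W`. -/
def HasSys (𝒱 : Λ → Submodule k V) (A : Module.End k V) (W : Submodule k V) : Prop :=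
  ∃ (ι : Type w) (_ : Fintype ι) (n : ι → ℕ) (t : ι → V),
    (∀ i, ∃ μ, t i ∈ 𝒱 μ) ∧ (∀ i, (A ^ (n i + 1)) (t i) = 0) ∧
    LinearIndependent k (fun i => (A ^ n i) (t i)) ∧
    Submodule.span k {v | ∃ i l, l ≤ n i ∧ v = (A ^ l) (t i)} = W ∧
    ∑ i, (n i + 1) = Module.finrank k W

theorem hasSys_bot (𝒱 : Λ → Submodule k V) (A : Module.End k V) : HasSys 𝒱 A ⊥ := by
  refine ⟨PEmpty, inferInstance, fun _ => 0, fun i => i.elim, fun i => i.elim, fun i => i.elim,
    linearIndependent_empty_type, ?_, ?_⟩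
  · rw [Submodule.span_eq_bot]
    rintro v ⟨i, _⟩
    exact i.elim
  · simp

theorem pow_mem_range_pow (A : Module.End k V) (j l : ℕ) (w : V)
    (hw : w ∈ LinearMap.range (A ^ j)) : (A ^ l) w ∈ LinearMap.range (A ^ j) := by
  obtain ⟨v, rfl⟩ := hw
  refine ⟨(A ^ l) v, ?_⟩
  rw [← Module.End.mul_apply, ← Module.End.mul_apply, (Commute.pow_pow_self A j l).eq]

theorem range_pow_succ_le (A : Module.End k V) (j : ℕ) :
    LinearMap.range (A ^ (j + 1)) ≤ LinearMap.range (A ^ j) := by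
  rintro _ ⟨v, rfl⟩
  exact ⟨A v, by rw [pow_succ, Module.End.mul_apply]⟩

theorem apply_pow_comm (A : Module.End k V) (l : ℕ) (v : V) : A ((A ^ l) v) = (A ^ l) (A v) := by
  rw [← Module.End.mul_apply, ← Module.End.mul_apply, ← pow_succ', pow_succ]

/-- the homogeneous elements of `range (A^j) ⊓ ker A` span it -/
theorem le_span_homog (𝒱 : Λ → Submodule k V) [DirectSum.Decomposition 𝒱] (A : Module.End k V)
    (χ : Λ) (hhom : ∀ (μ : Λ) (v : V), v ∈ 𝒱 μ → A v ∈ 𝒱 (μ + χ)) (j : ℕ) :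
    LinearMap.range (A ^ j) ⊓ LinearMap.ker A ≤
      Submodule.span k {v | v ∈ LinearMap.range (A ^ j) ⊓ LinearMap.ker A ∧ ∃ μ, v ∈ 𝒱 μ} := by
  classical
  rintro w ⟨⟨v, rfl⟩, hw2⟩
  have hw2' : A ((A ^ j) v) = 0 := hw2
  have h0 : (A ^ (j + 1)) v = 0 := by
    rw [pow_succ', Module.End.mul_apply]; exact hw2'
  have hcomp := map_component_eq_zero 𝒱 (A ^ (j + 1)) ((j + 1) • χ)
    (pow_hom 𝒱 A χ hhom (j + 1)) v h0
  have hv : (A ^ j) v = ∑ ν ∈ (DirectSum.decompose 𝒱 v).support,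
      (A ^ j) (DirectSum.decompose 𝒱 v ν : 𝒱 ν) := by
    conv_lhs => rw [← DirectSum.sum_support_decompose 𝒱 v]
    rw [map_sum]
  show (A ^ j) v ∈ _
  rw [hv]
  refine Submodule.sum_mem _ fun ν _ => Submodule.subset_span ⟨⟨⟨_, rfl⟩, ?_⟩, ?_⟩
  · show A ((A ^ j) _) = 0
    rw [← Module.End.mul_apply, ← pow_succ']
    exact hcomp ν
  · exact ⟨_, pow_hom 𝒱 A χ hhom j ν _ (SetLike.coe_mem _)⟩

theorem step (𝒱 : Λ → Submodule k V) (h𝒱 : DirectSum.IsInternal 𝒱) (A : Module.End k V)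
    (χ : Λ) (hhom : ∀ (μ : Λ) (v : V), v ∈ 𝒱 μ → A v ∈ 𝒱 (μ + χ)) (j : ℕ)
    (h : HasSys 𝒱 A (LinearMap.range (A ^ (j + 1)))) :
    HasSys 𝒱 A (LinearMap.range (A ^ j)) := by
  classical
  letI := h𝒱.chooseDecomposition
  obtain ⟨ι', _, n', t', hhomog', hnil', hbot', hspan', hcount'⟩ := h
  have ht'mem : ∀ i, t' i ∈ LinearMap.range (A ^ (j + 1)) := fun i => by
    rw [← hspan']
    exact Submodule.subset_span ⟨i, 0, Nat.zero_le _, by simp⟩
  have hlift : ∀ i, ∃ s : V, (∃ μ, s ∈ 𝒱 μ) ∧ s ∈ LinearMap.range (A ^ j) ∧ A s = t' i := by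
    intro i
    obtain ⟨v, hv⟩ := ht'mem i
    obtain ⟨μ, hμ⟩ := hhomog' i
    rw [← hv] at hμ
    obtain ⟨v', hv'mem, hv'⟩ := exists_homog_preimage 𝒱 (A ^ (j + 1)) ((j + 1) • χ)
      (pow_hom 𝒱 A χ hhom (j + 1)) v μ hμ
    refine ⟨(A ^ j) v', ⟨_, pow_hom 𝒱 A χ hhom j _ _ hv'mem⟩, ⟨v', rfl⟩, ?_⟩
    rw [← hv, ← hv', pow_succ', Module.End.mul_apply]
  choose s hshomog hsmem hAs using hlift
  set K : Submodule k V := LinearMap.range (A ^ j) ⊓ LinearMap.ker A with hK
  set H : Set V := {v | v ∈ K ∧ ∃ μ, v ∈ 𝒱 μ} with hH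
  have hKH : K ≤ Submodule.span k H := le_span_homog 𝒱 A χ hhom j
  set b : ι' → V := fun i => (A ^ n' i) (t' i) with hb
  have hbH : ∀ i, b i ∈ H := by
    intro i
    refine ⟨⟨pow_mem_range_pow A j _ _ (range_pow_succ_le A j (ht'mem i)), ?_⟩, ?_⟩
    · show A ((A ^ n' i) (t' i)) = 0
      rw [← Module.End.mul_apply, ← pow_succ']
      exact hnil' i
    · obtain ⟨μ, hμ⟩ := hhomog' i
      exact ⟨_, pow_hom 𝒱 A χ hhom (n' i) μ _ hμ⟩
  obtain ⟨J, _, g, hgH, hLI, hHspan⟩ := exists_extension b hbot' H hbH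
  let n : ι' ⊕ J → ℕ := Sum.elim (fun i => n' i + 1) (fun _ => 0)
  let t : ι' ⊕ J → V := Sum.elim s g
  have hbottoms : (fun x => (A ^ n x) (t x)) = Sum.elim b g := by
    funext x
    rcases x with i | j'
    · show (A ^ (n' i + 1)) (s i) = (A ^ n' i) (t' i)
      rw [pow_succ, Module.End.mul_apply, hAs i]
    · show (A ^ 0) (g j') = g j'
      rw [pow_zero, Module.End.one_apply]
  have htmem : ∀ x, t x ∈ LinearMap.range (A ^ j) := by
    rintro (i | j')
    · exact hsmem i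
    · exact (hgH j').1.1
  set S : Set V := {v | ∃ x l, l ≤ n x ∧ v = (A ^ l) (t x)} with hS
  have hS_le : Submodule.span k S ≤ LinearMap.range (A ^ j) := by
    rw [Submodule.span_le]
    rintro v ⟨x, l, _, rfl⟩
    exact pow_mem_range_pow A j l _ (htmem x)
  have hrange_S : Set.range (Sum.elim b g) ⊆ S := by
    rintro _ ⟨x, rfl⟩
    rcases x with i | j'
    · refine ⟨Sum.inl i, n' i + 1, le_rfl, ?_⟩
      show (A ^ n' i) (t' i) = (A ^ (n' i + 1)) (s i)
      rw [pow_succ, Module.End.mul_apply, hAs i]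
    · refine ⟨Sum.inr j', 0, le_rfl, ?_⟩
      show g j' = (A ^ 0) (g j')
      rw [pow_zero, Module.End.one_apply]
  have hK_S : K ≤ Submodule.span k S :=
    hKH.trans ((Submodule.span_le.mpr hHspan).trans (Submodule.span_mono hrange_S))
  have hKeq : K = Submodule.span k (Set.range (Sum.elim b g)) := by
    apply le_antisymm
    · exact hKH.trans (Submodule.span_le.mpr hHspan)
    · rw [Submodule.span_le]
      rintro _ ⟨x, rfl⟩
      rcases x with i | j'
      · exact (hbH i).1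
      · exact (hgH j').1
  refine ⟨ι' ⊕ J, inferInstance, n, t, ?_, ?_, ?_, ?_, ?_⟩
  · rintro (i | j')
    · exact hshomog i
    · exact (hgH j').2
  · rintro (i | j')
    · show (A ^ (n' i + 1 + 1)) (s i) = 0
      rw [pow_succ, Module.End.mul_apply, hAs i]
      exact hnil' i
    · show (A ^ (0 + 1)) (g j') = 0
      rw [zero_add, pow_one]
      exact (hgH j').1.2
  · rw [hbottoms]
    exact hLI
  · apply le_antisymm hS_le
    intro w hw
    have hAw : A w ∈ LinearMap.range (A ^ (j + 1)) := by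
      obtain ⟨v, rfl⟩ := hw
      exact ⟨v, by rw [pow_succ', Module.End.mul_apply]⟩
    rw [← hspan'] at hAw
    have hold : Submodule.span k {v | ∃ i l, l ≤ n' i ∧ v = (A ^ l) (t' i)} ≤
        (Submodule.span k S).map A := by
      rw [Submodule.span_le]
      rintro _ ⟨i, l, hl, rfl⟩
      refine ⟨(A ^ l) (s i), Submodule.subset_span ⟨Sum.inl i, l, ?_, rfl⟩, ?_⟩
      · show l ≤ n' i + 1
        omega
      · rw [apply_pow_comm, hAs i]
    obtain ⟨u, hu, hAu⟩ := hold hAw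
    have hwu : w - u ∈ K := by
      refine ⟨sub_mem hw (hS_le hu), ?_⟩
      show A (w - u) = 0
      rw [map_sub, hAu, sub_self]
    have : w = u + (w - u) := by abel
    rw [this]
    exact add_mem hu (hK_S hwu)
  · have hrn := finrank_map_add_finrank_inf_ker A (LinearMap.range (A ^ j))
    have hmap : (LinearMap.range (A ^ j)).map A = LinearMap.range (A ^ (j + 1)) := by
      rw [pow_succ', Module.End.mul_eq_comp, LinearMap.range_comp]
    rw [hmap, ← hK, hKeq, finrank_span_eq_card hLI, ← hcount', Fintype.card_sum] at hrn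
    rw [← hrn, Fintype.sum_sum_type]
    show ∑ i, (n' i + 1 + 1) + ∑ _j' : J, (0 + 1) = _
    rw [Finset.sum_add_distrib, Finset.sum_const, Finset.sum_const, Finset.card_univ,
      Finset.card_univ]
    simp only [smul_eq_mul, mul_one, zero_add]
    omega

end Groth.Agent.Lib.H74Jordan
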