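import Groth.Agent.Lib.H74Jordan3

set_option autoImplicit false
set_option linter.style.haveILetI false
set_option linter.unusedSectionVars false
universe u v w

namespace Groth.Agent.Lib.H74Jordan

open DirectSum

variable {k : Type u} [Field k] {Λ : Type v} [AddCommGroup Λ] [DecidableEq Λ]
  {V : Type w} [AddCommGroup V] [Module k V] [FiniteDimensional k V]

theorem hasSys_top (𝒱 : Λ → Submodule k V) (h𝒱 : DirectSum.IsInternal 𝒱) (A : Module.End k V)
    (hA : IsNilpotent A) (χ : Λ) (hhom : ∀ (μ : Λ) (v : V), v ∈ 𝒱 μ → A v ∈ 𝒱 (μ + χ)) :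
    HasSys 𝒱 A ⊤ := by
  obtain ⟨N, hN⟩ := hA
  have key : ∀ d j : ℕ, j + d = N → HasSys 𝒱 A (LinearMap.range (A ^ j)) := by
    intro d
    induction d with
    | zero =>
      intro j hj
      rw [add_zero] at hj
      rw [hj, hN, LinearMap.range_zero]
      exact hasSys_bot 𝒱 A
    | succ d ih =>
      intro j hj
      exact step 𝒱 h𝒱 A χ hhom j (ih (j + 1) (by omega))
  have := key N 0 (by omega)
  rwa [pow_zero, Module.End.one_eq_id, LinearMap.range_id] at this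

theorem exists_jordan_basis (𝒱 : Λ → Submodule k V) (h𝒱 : DirectSum.IsInternal 𝒱)
    (A : Module.End k V) (hA : IsNilpotent A) (χ : Λ)
    (hhom : ∀ (μ : Λ) (v : V), v ∈ 𝒱 μ → A v ∈ 𝒱 (μ + χ)) :
    ∃ (ι : Type w) (_ : Finite ι) (n : ι → ℕ) (b : Module.Basis (Σ i : ι, Fin (n i + 1)) k V),
      (∀ (i : ι) (l : Fin (n i + 1)), ∃ μ : Λ, b ⟨i, l⟩ ∈ 𝒱 μ) ∧
      (∀ i : ι, A (b ⟨i, 0⟩) = 0) ∧
      ∀ (i : ι) (l : Fin (n i)), A (b ⟨i, l.succ⟩) = b ⟨i, l.castSucc⟩ := by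
  classical
  obtain ⟨ι, _, n, t, hhomog, hnil, -, hspan, hcount⟩ := hasSys_top 𝒱 h𝒱 A hA χ hhom
  let F : (Σ i : ι, Fin (n i + 1)) → V := fun p => (A ^ (n p.1 - (p.2 : ℕ))) (t p.1)
  have hle : ⊤ ≤ Submodule.span k (Set.range F) := by
    rw [← hspan]
    apply Submodule.span_mono
    rintro _ ⟨i, l, hl, rfl⟩
    refine ⟨⟨i, ⟨n i - l, by omega⟩⟩, ?_⟩
    show (A ^ (n i - (n i - l))) (t i) = _
    rw [Nat.sub_sub_self hl]
  have hcard : Fintype.card (Σ i : ι, Fin (n i + 1)) = Module.finrank k V := by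
    rw [Fintype.card_sigma, ← finrank_top k V, ← hcount]
    simp
  refine ⟨ι, Finite.of_fintype ι, n, basisOfTopLeSpanOfCardEqFinrank F hle hcard, ?_, ?_, ?_⟩
  · intro i l
    obtain ⟨μ, hμ⟩ := hhomog i
    rw [coe_basisOfTopLeSpanOfCardEqFinrank]
    exact ⟨_, pow_hom 𝒱 A χ hhom (n i - (l : ℕ)) μ _ hμ⟩
  · intro i
    rw [coe_basisOfTopLeSpanOfCardEqFinrank]
    show A ((A ^ (n i - ((0 : Fin (n i + 1)) : ℕ))) (t i)) = 0
    rw [Fin.val_zero, Nat.sub_zero, ← Module.End.mul_apply, ← pow_succ']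
    exact hnil i
  · intro i l
    rw [coe_basisOfTopLeSpanOfCardEqFinrank]
    show A ((A ^ (n i - (l.succ : ℕ))) (t i)) = (A ^ (n i - (l.castSucc : ℕ))) (t i)
    rw [← Module.End.mul_apply, ← pow_succ', Fin.val_succ, Fin.val_castSucc]
    congr 2
    have := l.2
    omega

end Groth.Agent.Lib.H74Jordan
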