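import Groth.Agent.Lib.H74GrArt
import Groth.Agent.Lib.H87GrMod
import Groth.Agent.Lib.H87GrMod2

/-! Graded Matlis duality over a positively graded ring with `R_0` a field, part 1:
the structure of `*E(R/m)`: it lives in degrees `≤ 0`, its degree-zero part is `k·u`,
and `R_j × E_{-j} → E_0` is nondegenerate on the `E` side. -/

set_option autoImplicit false
set_option linter.unusedSectionVars false
universe u

namespace Groth.Agent.Lib.H74Matlis

open DirectSum GrLC Groth.Agent.Lib.H87GrMod Groth.Agent.Lib.H87GrMod2 Groth.Agent.Lib.H74GrArt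

section Basic

variable {R : Type u} [CommRing R] (𝒜 : ℤ → AddSubgroup R) [GradedRing 𝒜]
  (hpos : ∀ n : ℤ, n < 0 → 𝒜 n = ⊥)
  (m : HomogeneousIdeal 𝒜)
  (hmsp : m.toIdeal = Ideal.span (⋃ n ∈ Set.Ioi (0 : ℤ), (𝒜 n : Set R)))

include hmsp in
theorem mem_m_of_pos {j : ℤ} (hj : 0 < j) {r : R} (hr : r ∈ 𝒜 j) : r ∈ m.toIdeal := by
  rw [hmsp]
  exact Ideal.subset_span (Set.mem_iUnion₂.mpr ⟨j, hj, hr⟩)

include hpos hmsp in
theorem sub_decompose_zero_mem (x : R) : x - (decompose 𝒜 x 0 : R) ∈ m.toIdeal := by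
  rw [hmsp]
  exact sub_decompose_zero_mem_irr 𝒜 hpos x

include hpos hmsp in
theorem eq_zero_of_mem_m_of_mem_zero {r : R} (hr : r ∈ 𝒜 0) (hrm : r ∈ m.toIdeal) : r = 0 := by
  rw [hmsp] at hrm
  have := decompose_zero_of_mem_irr 𝒜 hpos hrm
  rwa [decompose_of_mem_same 𝒜 hr] at this

include hpos in
theorem decompose_neg_eq_zero (r : R) {j : ℤ} (hj : j < 0) : (decompose 𝒜 r j : R) = 0 := by
  have h1 : (decompose 𝒜 r j : R) ∈ 𝒜 j := (decompose 𝒜 r j).2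
  have h2 : (decompose 𝒜 r j : R) ∈ (⊥ : AddSubgroup R) := (hpos j hj) ▸ h1
  exact h2

variable {E' : Type u} [AddCommGroup E'] [Module R E'] (𝓔 : ℤ → AddSubgroup E')
  [Decomposition 𝓔] [SetLike.GradedSMul 𝒜 𝓔]
  (e : (R ⧸ m.toIdeal) →ₗ[R] E')

/-- The socle generator `u = e(1)`. -/
def u : E' := e (Ideal.Quotient.mk m.toIdeal 1)

theorem e_mk (r : R) : e (Ideal.Quotient.mk m.toIdeal r) = r • u 𝒜 m e := by
  unfold u
  rw [← map_smul]
  congr 1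
  rw [← mk_mul_eq_smul, ← map_mul, mul_one]

theorem smul_u_of_mem {r : R} (hr : r ∈ m.toIdeal) : r • u 𝒜 m e = 0 := by
  rw [← e_mk, Ideal.Quotient.eq_zero_iff_mem.mpr hr, map_zero]

include hpos hmsp in
theorem smul_u_eq (r : R) : r • u 𝒜 m e = (decompose 𝒜 r 0 : R) • u 𝒜 m e := by
  have h := smul_u_of_mem 𝒜 m e (sub_decompose_zero_mem 𝒜 hpos m hmsp r)
  rw [sub_smul, sub_eq_zero] at h
  exact h

variable (he : IsStarInjHull 𝒜 (quotGr 𝒜 m) 𝓔 e)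

include he in
theorem u_mem : u 𝒜 m e ∈ 𝓔 0 :=
  he.grHom 0 _ (one_mem_quotGr_zero 𝒜 m)

include he in
theorem smul_u_mem {r : R} (hr : r ∈ 𝒜 0) : r • u 𝒜 m e ∈ 𝓔 0 := by
  have := SetLike.GradedSMul.smul_mem (A := 𝒜) (B := 𝓔) hr (u_mem 𝒜 m 𝓔 e he)
  rwa [vadd_eq_add, zero_add] at this

include hpos hmsp he in
theorem range_e_le (y : E') (hy : y ∈ LinearMap.range e) : y ∈ 𝓔 0 := by
  obtain ⟨q, rfl⟩ := hy
  obtain ⟨r, rfl⟩ := Ideal.Quotient.mk_surjective q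
  rw [e_mk, smul_u_eq 𝒜 hpos m hmsp e]
  exact smul_u_mem 𝒜 m 𝓔 e he (decompose 𝒜 r 0).2

include hpos hmsp he in
/-- Nondegeneracy: a nonzero homogeneous element of `*E(R/m)` of degree `g` is moved into the
socle by a homogeneous scalar of degree `-g`. -/
theorem exists_smul_ne_zero {g : ℤ} {x : E'} (hx : x ∈ 𝓔 g) (hx0 : x ≠ 0) :
    ∃ r ∈ 𝒜 (-g), r • x ≠ 0 ∧ r • x ∈ LinearMap.range e := by
  have hP : (R ∙ x).IsHomogeneous 𝓔 := isHomogeneous_span_singleton 𝓔 𝒜 hx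
  have hP0 : (R ∙ x) ≠ ⊥ := by
    intro h
    apply hx0
    have : x ∈ (R ∙ x) := Submodule.mem_span_singleton_self x
    rw [h] at this
    exact this
  have hne := he.essential _ hP hP0
  obtain ⟨y, hy, hy0⟩ := Submodule.exists_mem_ne_zero_of_ne_bot hne
  obtain ⟨hy1, hy2⟩ := hy
  obtain ⟨r, rfl⟩ := Submodule.mem_span_singleton.mp hy1
  have hy3 : r • x ∈ 𝓔 0 := range_e_le 𝒜 hpos m hmsp 𝓔 e he _ hy2
  have hkey : r • x = (decompose 𝒜 r (-g) : R) • x := by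
    have h1 := decompose_smul_of_mem_right 𝓔 𝒜 hx r (-g)
    rw [neg_add_cancel, decompose_of_mem_same 𝓔 hy3] at h1
    exact h1
  refine ⟨(decompose 𝒜 r (-g) : R), (decompose 𝒜 r (-g)).2, ?_, ?_⟩
  · rw [← hkey]; exact hy0
  · rw [← hkey]; exact hy2

include hpos hmsp he in
/-- `*E(R/m)` vanishes in positive degrees. -/
theorem piece_eq_bot_of_pos {g : ℤ} (hg : 0 < g) : 𝓔 g = ⊥ := by
  rw [eq_bot_iff]
  intro x hx
  by_contra hx0
  obtain ⟨r, hr, hrx, -⟩ := exists_smul_ne_zero 𝒜 hpos m hmsp 𝓔 e he hx hx0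
  apply hrx
  have : r = 0 := by
    have h1 : 𝒜 (-g) = ⊥ := hpos (-g) (by omega)
    rw [h1] at hr
    exact hr
  rw [this, zero_smul]

end Basic

end Groth.Agent.Lib.H74Matlis
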