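import Groth.Agent.Lib.H74Matlis1

/-! Graded Matlis duality, part 2: `E_0 = k·u` and the evaluation `ε : E → k`. -/

set_option autoImplicit false
set_option linter.unusedSectionVars false
universe u

namespace Groth.Agent.Lib.H74Matlis

open DirectSum GrLC Groth.Agent.Lib.H87GrMod Groth.Agent.Lib.H87GrMod2 Groth.Agent.Lib.H74GrArt

section Eps

variable {R : Type u} [CommRing R] (𝒜 : ℤ → AddSubgroup R) [GradedRing 𝒜]
  (hpos : ∀ n : ℤ, n < 0 → 𝒜 n = ⊥) (h0 : IsField (deg0 𝒜))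
  (m : HomogeneousIdeal 𝒜)
  (hmsp : m.toIdeal = Ideal.span (⋃ n ∈ Set.Ioi (0 : ℤ), (𝒜 n : Set R)))
variable {E' : Type u} [AddCommGroup E'] [Module R E'] (𝓔 : ℤ → AddSubgroup E')
  [Decomposition 𝓔] [SetLike.GradedSMul 𝒜 𝓔]
  (e : (R ⧸ m.toIdeal) →ₗ[R] E') (he : IsStarInjHull 𝒜 (quotGr 𝒜 m) 𝓔 e)

include hpos hmsp he in
theorem smul_u_eq_zero_iff {a : R} (ha : a ∈ 𝒜 0) : a • u 𝒜 m e = 0 ↔ a = 0 := by
  constructor
  · intro h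
    rw [← e_mk] at h
    have h1 : Ideal.Quotient.mk m.toIdeal a = 0 := he.injective (by rw [h, map_zero])
    exact eq_zero_of_mem_m_of_mem_zero 𝒜 hpos m hmsp ha (Ideal.Quotient.eq_zero_iff_mem.mp h1)
  · rintro rfl; rw [zero_smul]

include hpos h0 hmsp he in
theorem exists_smul_u_eq {y : E'} (hy : y ∈ 𝓔 0) : ∃ a ∈ 𝒜 0, a • u 𝒜 m e = y := by
  by_cases hy0 : y = 0
  · exact ⟨0, zero_mem _, by rw [zero_smul, hy0]⟩
  obtain ⟨r, hr, hry, hre⟩ := exists_smul_ne_zero 𝒜 hpos m hmsp 𝓔 e he hy hy0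
  rw [neg_zero] at hr
  obtain ⟨q, hq⟩ := hre
  obtain ⟨s, rfl⟩ := Ideal.Quotient.mk_surjective q
  rw [e_mk, smul_u_eq 𝒜 hpos m hmsp e] at hq
  have hr0 : (⟨r, hr⟩ : deg0 𝒜) ≠ 0 := by
    intro h
    apply hry
    have : r = 0 := congrArg Subtype.val h
    rw [this, zero_smul]
  obtain ⟨b, hb⟩ := h0.mul_inv_cancel hr0
  have hb' : (b : R) * r = 1 := by
    have := congrArg Subtype.val hb
    rw [mul_comm] at this
    exact this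
  refine ⟨(b : R) * (decompose 𝒜 s 0 : R), ?_, ?_⟩
  · have := SetLike.GradedMul.mul_mem (A := 𝒜) b.2 (decompose 𝒜 s 0).2
    rwa [add_zero] at this
  · rw [mul_smul, hq, ← mul_smul, hb', one_smul]

/-- The `k`-linear map `a ↦ a • u` onto the socle. -/
def nu : deg0 𝒜 →ₗ[deg0 𝒜] comp 𝒜 𝓔 0 where
  toFun a := ⟨(a : R) • u 𝒜 m e, smul_u_mem 𝒜 m 𝓔 e he a.2⟩
  map_add' a b := by
    apply Subtype.ext
    show ((a + b : deg0 𝒜) : R) • u 𝒜 m e = (a : R) • u 𝒜 m e + (b : R) • u 𝒜 m e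
    rw [Subring.coe_add, add_smul]
  map_smul' a b := by
    apply Subtype.ext
    show ((a • b : deg0 𝒜) : R) • u 𝒜 m e = (a : R) • ((b : R) • u 𝒜 m e)
    rw [smul_eq_mul, Subring.coe_mul, mul_smul]

theorem coe_nu (a : deg0 𝒜) : (nu 𝒜 m 𝓔 e he a : E') = (a : R) • u 𝒜 m e := rfl

include hpos h0 hmsp in
theorem nu_bijective : Function.Bijective (nu 𝒜 m 𝓔 e he) := by
  constructor
  · rw [injective_iff_map_eq_zero]
    intro a ha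
    have h1 : (a : R) • u 𝒜 m e = 0 := congrArg Subtype.val ha
    exact Subtype.ext ((smul_u_eq_zero_iff 𝒜 hpos m hmsp 𝓔 e he a.2).mp h1)
  · intro y
    obtain ⟨a, ha, hay⟩ := exists_smul_u_eq 𝒜 hpos h0 m hmsp 𝓔 e he y.2
    exact ⟨⟨a, ha⟩, Subtype.ext hay⟩

/-- The degree-zero projection, `k`-linear. -/
def proj0 : E' →ₗ[deg0 𝒜] comp 𝒜 𝓔 0 where
  toFun y := ⟨(decompose 𝓔 y 0 : E'), (decompose 𝓔 y 0).2⟩
  map_add' y y' := by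
    apply Subtype.ext
    show (decompose 𝓔 (y + y') 0 : E') = (decompose 𝓔 y 0 : E') + (decompose 𝓔 y' 0 : E')
    rw [decompose_add, DirectSum.add_apply, AddSubgroup.coe_add]
  map_smul' a y := by
    apply Subtype.ext
    show (decompose 𝓔 ((a : R) • y) 0 : E') = (a : R) • (decompose 𝓔 y 0 : E')
    have := decompose_smul_of_mem_left 𝓔 𝒜 a.2 y 0
    rwa [add_zero] at this

/-- The evaluation `ε : *E(R/m) → k`: the coefficient of `u` in the degree-zero component. -/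
noncomputable def eps : E' →ₗ[deg0 𝒜] deg0 𝒜 :=
  (LinearEquiv.ofBijective (nu 𝒜 m 𝓔 e he)
    (nu_bijective 𝒜 hpos h0 m hmsp 𝓔 e he)).symm.toLinearMap ∘ₗ proj0 𝒜 𝓔

theorem eps_spec (y : E') :
    ((eps 𝒜 hpos h0 m hmsp 𝓔 e he y : deg0 𝒜) : R) • u 𝒜 m e = (decompose 𝓔 y 0 : E') := by
  have h := (LinearEquiv.ofBijective (nu 𝒜 m 𝓔 e he)
    (nu_bijective 𝒜 hpos h0 m hmsp 𝓔 e he)).apply_symm_apply (proj0 𝒜 𝓔 y)
  exact congrArg Subtype.val h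

theorem eps_smul_u_of_mem_zero {y : E'} (hy : y ∈ 𝓔 0) :
    ((eps 𝒜 hpos h0 m hmsp 𝓔 e he y : deg0 𝒜) : R) • u 𝒜 m e = y := by
  rw [eps_spec, decompose_of_mem_same 𝓔 hy]

theorem eps_of_mem_ne {g : ℤ} (hg : g ≠ 0) {y : E'} (hy : y ∈ 𝓔 g) :
    eps 𝒜 hpos h0 m hmsp 𝓔 e he y = 0 := by
  have h := eps_spec 𝒜 hpos h0 m hmsp 𝓔 e he y
  rw [decompose_of_mem_ne 𝓔 hy hg] at h
  exact Subtype.ext ((smul_u_eq_zero_iff 𝒜 hpos m hmsp 𝓔 e he (eps 𝒜 hpos h0 m hmsp 𝓔 e he y).2).mp h)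

theorem eq_zero_of_eps_eq_zero {y : E'} (hy : y ∈ 𝓔 0)
    (h : eps 𝒜 hpos h0 m hmsp 𝓔 e he y = 0) : y = 0 := by
  rw [← eps_smul_u_of_mem_zero 𝒜 hpos h0 m hmsp 𝓔 e he hy, h, Subring.coe_zero, zero_smul]

theorem eps_smul_u (a : deg0 𝒜) : eps 𝒜 hpos h0 m hmsp 𝓔 e he ((a : R) • u 𝒜 m e) = a := by
  have h1 : (a : R) • u 𝒜 m e ∈ 𝓔 0 := smul_u_mem 𝒜 m 𝓔 e he a.2
  have h := eps_smul_u_of_mem_zero 𝒜 hpos h0 m hmsp 𝓔 e he h1
  have h2 : ((eps 𝒜 hpos h0 m hmsp 𝓔 e he ((a : R) • u 𝒜 m e) : deg0 𝒜) : R) - (a : R) = 0 := by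
    have h3 : (((eps 𝒜 hpos h0 m hmsp 𝓔 e he ((a : R) • u 𝒜 m e) : deg0 𝒜) : R) - (a : R)) •
        u 𝒜 m e = 0 := by rw [sub_smul, h, sub_self]
    exact (smul_u_eq_zero_iff 𝒜 hpos m hmsp 𝓔 e he
      (sub_mem (eps 𝒜 hpos h0 m hmsp 𝓔 e he _).2 a.2)).mp h3
  exact Subtype.ext (sub_eq_zero.mp h2)

end Eps

end Groth.Agent.Lib.H74Matlis
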