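import Groth.Agent.Lib.H74Matlis4

/-! Graded Matlis duality, part 5: the perfect pairing `H^n_m(R)_d × C_{-d} → k` for a
*canonical module `C`. -/

set_option autoImplicit false
set_option linter.unusedSectionVars false
universe u

/-- Reflexivity of a perfect pairing over an `IsField` ring. -/
theorem Groth.Agent.Lib.H74Matlis.flip_bijective_of_isField {K : Type*} [CommRing K]
    (hK : IsField K) {V W : Type*} [AddCommGroup V] [Module K V] [AddCommGroup W] [Module K W]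
    [Module.Finite K V] (B : W →ₗ[K] V →ₗ[K] K) (hB : Function.Bijective B) :
    Function.Bijective B.flip := by
  let _ : Field K := hK.toField
  let eW : W ≃ₗ[K] Module.Dual K V := LinearEquiv.ofBijective B hB
  have hflip : B.flip = (eW.dualMap : Module.Dual K (Module.Dual K V) →ₗ[K] Module.Dual K W) ∘ₗ
      (Module.Dual.eval K V) := by
    ext v w
    rfl
  rw [hflip]
  have h1 : Function.Bijective (Module.Dual.eval K V) := Module.bijective_dual_eval K V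
  exact (eW.dualMap.bijective).comp h1

namespace Groth.Agent.Lib.H74Matlis

open DirectSum GrLC Groth.Agent.Lib.H87GrMod Groth.Agent.Lib.H87GrMod2 Groth.Agent.Lib.H74GrArt

section Pair

variable {R : Type u} [CommRing R] (𝒜 : ℤ → AddSubgroup R) [GradedRing 𝒜]
  (hpos : ∀ n : ℤ, n < 0 → 𝒜 n = ⊥) (h0 : IsField (deg0 𝒜))
  (m : HomogeneousIdeal 𝒜)
  (hmsp : m.toIdeal = Ideal.span (⋃ n ∈ Set.Ioi (0 : ℤ), (𝒜 n : Set R)))
variable {E' : Type u} [AddCommGroup E'] [Module R E'] (𝓔 : ℤ → AddSubgroup E')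
  [Decomposition 𝓔] [SetLike.GradedSMul 𝒜 𝓔]
  (e : (R ⧸ m.toIdeal) →ₗ[R] E') (he : IsStarInjHull 𝒜 (quotGr 𝒜 m) 𝓔 e)
variable {C : Type u} [AddCommGroup C] [Module R C] (𝒞 : ℤ → AddSubgroup C)
  [Decomposition 𝒞] [SetLike.GradedSMul 𝒜 𝒞]
variable (n : ℕ) (I : StarInjRes 𝒜 𝒜)
  (φ : (C →ₗ[R] E') ≃ₗ[R] I.H m n)

/-- The canonical pairing `H^n_m(R) × C → k`. -/
noncomputable def pair : I.H m n →ₗ[deg0 𝒜] C →ₗ[deg0 𝒜] deg0 𝒜 :=
  LinearMap.mk₂ (deg0 𝒜) (fun h c => eps 𝒜 hpos h0 m hmsp 𝓔 e he ((φ.symm h) c))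
    (fun h h' c => by rw [map_add, LinearMap.add_apply, map_add])
    (fun a h c => by
      have h1 : a • h = (a : R) • h := rfl
      have h2 : ∀ y : E', (a : R) • y = a • y := fun y => rfl
      rw [h1, map_smul, LinearMap.smul_apply, h2, map_smul])
    (fun h c c' => by rw [map_add, map_add])
    (fun a h c => by
      have h1 : a • c = (a : R) • c := rfl
      have h2 : ∀ y : E', (a : R) • y = a • y := fun y => rfl
      rw [h1, map_smul, h2, map_smul])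

theorem pair_apply (h : I.H m n) (c : C) :
    pair 𝒜 hpos h0 m hmsp 𝓔 e he n I φ h c = eps 𝒜 hpos h0 m hmsp 𝓔 e he ((φ.symm h) c) := rfl

theorem pair_smul (r : R) (h : I.H m n) (c : C) :
    pair 𝒜 hpos h0 m hmsp 𝓔 e he n I φ (r • h) c =
      pair 𝒜 hpos h0 m hmsp 𝓔 e he n I φ h (r • c) := by
  rw [pair_apply, pair_apply, map_smul, LinearMap.smul_apply, ← map_smul]

variable (hφ : IsGrHom (fun d => (homDeg 𝒜 𝒞 𝓔 d).toAddSubgroup) (I.Hgr m n) φ.toLinearMap)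
  [Module.Finite R C]

include hφ in
theorem pair_eq_zero_of_ne {d i : ℤ} (hid : i ≠ -d) {h : I.H m n} (hh : h ∈ I.Hgr m n d)
    {c : C} (hc : c ∈ 𝒞 i) : pair 𝒜 hpos h0 m hmsp 𝓔 e he n I φ h c = 0 := by
  rw [pair_apply]
  have hf := symm_isGrHomDeg 𝒜 𝓔 𝒞 m n I φ hφ hh
  exact eps_of_mem_ne 𝒜 hpos h0 m hmsp 𝓔 e he (by omega) (hf i c hc)

include hφ in
/-- Nondegeneracy on the `H` side. -/
theorem eq_zero_of_pair_left {d : ℤ} {h : I.H m n} (hh : h ∈ I.Hgr m n d)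
    (hz : ∀ c ∈ 𝒞 (-d), pair 𝒜 hpos h0 m hmsp 𝓔 e he n I φ h c = 0) : h = 0 := by
  have hf := symm_isGrHomDeg 𝒜 𝓔 𝒞 m n I φ hφ hh
  have := hom_eq_zero 𝒜 hpos h0 m hmsp 𝓔 e he 𝒞 hf hz
  rw [← φ.apply_symm_apply h, this, map_zero]

include hφ in
/-- Every functional on `C_{-d}` is represented by a class in `H^n_m(R)_d`. -/
theorem exists_pair_left {d : ℤ} (lf : comp 𝒜 𝒞 (-d) →ₗ[deg0 𝒜] deg0 𝒜) :
    ∃ h ∈ I.Hgr m n d, ∀ (c : C) (hc : c ∈ 𝒞 (-d)),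
      pair 𝒜 hpos h0 m hmsp 𝓔 e he n I φ h c = lf ⟨c, hc⟩ := by
  obtain ⟨f, hf, hfl⟩ := exists_hom_of_functional 𝒜 hpos h0 m hmsp 𝓔 e he 𝒞 lf
  refine ⟨φ f, hφ d f hf, fun c hc => ?_⟩
  rw [pair_apply, LinearEquiv.symm_apply_apply]
  exact hfl c hc

/-- The pairing restricted to `H_d × C_{-d}`. -/
noncomputable def pairD (d : ℤ) :
    I.Hcomp m n d →ₗ[deg0 𝒜] comp 𝒜 𝒞 (-d) →ₗ[deg0 𝒜] deg0 𝒜 :=
  (pair 𝒜 hpos h0 m hmsp 𝓔 e he n I φ).compl₁₂ (I.Hcomp m n d).subtype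
    (comp 𝒜 𝒞 (-d)).subtype

theorem pairD_apply (d : ℤ) (h : I.Hcomp m n d) (c : comp 𝒜 𝒞 (-d)) :
    pairD 𝒜 hpos h0 m hmsp 𝓔 e he 𝒞 n I φ d h c =
      pair 𝒜 hpos h0 m hmsp 𝓔 e he n I φ (h : I.H m n) (c : C) := rfl

include hφ in
theorem pairD_bijective (d : ℤ) :
    Function.Bijective (pairD 𝒜 hpos h0 m hmsp 𝓔 e he 𝒞 n I φ d) := by
  constructor
  · rw [injective_iff_map_eq_zero]
    intro h hh
    apply Subtype.ext
    refine eq_zero_of_pair_left 𝒜 hpos h0 m hmsp 𝓔 e he 𝒞 n I φ hφ (d := d) h.2 ?_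
    intro c hc
    have := LinearMap.congr_fun hh ⟨c, hc⟩
    exact this
  · intro lf
    obtain ⟨h, hh, hl⟩ := exists_pair_left 𝒜 hpos h0 m hmsp 𝓔 e he 𝒞 n I φ hφ lf
    refine ⟨⟨h, hh⟩, ?_⟩
    apply LinearMap.ext
    intro c
    exact hl c.1 c.2

include hφ in
theorem pairD_flip_bijective [IsNoetherianRing R] (d : ℤ) :
    Function.Bijective (pairD 𝒜 hpos h0 m hmsp 𝓔 e he 𝒞 n I φ d).flip := by
  have : IsNoetherian R C := isNoetherian_of_isNoetherianRing_of_finite R C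
  have : IsNoetherian (deg0 𝒜) (comp 𝒜 𝒞 (-d)) :=
    Groth.Agent.Lib.H74GrFin.isNoetherian_comp 𝒜 𝒞 (-d)
  have : Module.Finite (deg0 𝒜) (comp 𝒜 𝒞 (-d)) := Module.IsNoetherian.finite _ _
  exact flip_bijective_of_isField h0 _ (pairD_bijective 𝒜 hpos h0 m hmsp 𝓔 e he 𝒞 n I φ hφ d)

include hφ in
/-- Nondegeneracy on the `C` side. -/
theorem eq_zero_of_pair_right [IsNoetherianRing R] {d : ℤ} {c : C} (hc : c ∈ 𝒞 (-d))
    (hz : ∀ h ∈ I.Hgr m n d, pair 𝒜 hpos h0 m hmsp 𝓔 e he n I φ h c = 0) : c = 0 := by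
  have hinj := (pairD_flip_bijective 𝒜 hpos h0 m hmsp 𝓔 e he 𝒞 n I φ hφ d).1
  have h1 : (pairD 𝒜 hpos h0 m hmsp 𝓔 e he 𝒞 n I φ d).flip ⟨c, hc⟩ = 0 := by
    apply LinearMap.ext
    intro h
    exact hz h.1 h.2
  have h2 := hinj (h1.trans (map_zero _).symm)
  exact congrArg Subtype.val h2

include hφ in
/-- Every functional on `H^n_m(R)_d` is represented by an element of `C_{-d}`. -/
theorem exists_pair_right [IsNoetherianRing R] {d : ℤ}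
    (μ : I.Hcomp m n d →ₗ[deg0 𝒜] deg0 𝒜) :
    ∃ c ∈ 𝒞 (-d), ∀ (h : I.H m n) (hh : h ∈ I.Hgr m n d),
      pair 𝒜 hpos h0 m hmsp 𝓔 e he n I φ h c = μ ⟨h, hh⟩ := by
  obtain ⟨c, hc⟩ := (pairD_flip_bijective 𝒜 hpos h0 m hmsp 𝓔 e he 𝒞 n I φ hφ d).2 μ
  refine ⟨c.1, c.2, fun h hh => ?_⟩
  exact LinearMap.congr_fun hc ⟨h, hh⟩

end Pair

end Groth.Agent.Lib.H74Matlis
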