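import Groth.Agent.Lib.H74Gen7

/-!
# Depth along a finite filtration with graded pieces of constant depth (helper74)
-/

set_option autoImplicit false
set_option linter.style.haveILetI false
set_option linter.unusedSectionVars false
universe u

open IsLocalRing

namespace Groth.Agent.Lib.H74NF

open Groth.Agent.Lib.H74Gen

variable {R : Type u} [CommRing R] [IsNoetherianRing R] [IsLocalRing R]

/-- A finite chain `X 0 ⊇ X 1 ⊇ ⋯ ⊇ X K = 0` whose graded pieces `Y j` are zero or of depth `d`:
then `depth (X 0) = d` if `X 0 ≠ 0`. -/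
theorem depth_eq_of_chain (X Y : ℕ → Type u)
    [∀ j, AddCommGroup (X j)] [∀ j, Module R (X j)] [∀ j, Module.Finite R (X j)]
    [∀ j, AddCommGroup (Y j)] [∀ j, Module R (Y j)] [∀ j, Module.Finite R (Y j)]
    (i : ∀ j, X (j + 1) →ₗ[R] X j) (π : ∀ j, X j →ₗ[R] Y j)
    (hi : ∀ j, Function.Injective (i j)) (hπ : ∀ j, Function.Surjective (π j))
    (hex : ∀ j, Function.Exact (i j) (π j))
    (K : ℕ) (hK : ∀ j, K ≤ j → Subsingleton (X j)) (d : ℕ)
    (hY : ∀ j, Subsingleton (Y j) ∨ LocCoh.depth R (Y j) = d) [Nontrivial (X 0)] :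
    LocCoh.depth R (X 0) = d := by
  have hYle : ∀ j, (d : ℕ∞) ≤ LocCoh.depth R (Y j) := by
    intro j
    rcases hY j with h | h
    · rw [DepthFlat33.depth_eq_top_of_subsingleton]; exact le_top
    · rw [h]
  have lower : ∀ t j, K ≤ j + t → (d : ℕ∞) ≤ LocCoh.depth R (X j) := by
    intro t
    induction t with
    | zero =>
      intro j hj
      have := hK j (by omega)
      rw [DepthFlat33.depth_eq_top_of_subsingleton]; exact le_top
    | succ t ih =>
      intro j hj
      exact le_depth_middle (i j) (π j) (hi j) (hex j) (hπ j) d (ih (j + 1) (by omega)) (hYle j)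
  apply le_antisymm
  · by_contra hlt
    push Not at hlt
    have h0 : ((d + 1 : ℕ) : ℕ∞) ≤ LocCoh.depth R (X 0) := by
      push_cast; exact Order.add_one_le_of_lt hlt
    have upper : ∀ j, ((d + 1 : ℕ) : ℕ∞) ≤ LocCoh.depth R (X j) := by
      intro j
      induction j with
      | zero => exact h0
      | succ j ih =>
        refine H8DepthLemma.le_idealDepth_left (maximalIdeal R) (i j) (π j) (hi j) (hex j) (hπ j)
          (d + 1) ih ?_
        push_cast
        exact add_le_add_left (hYle j) 1
    classical
    have hex' : ∃ j, Subsingleton (X j) := ⟨K, hK K le_rfl⟩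
    have hne0 : Nat.find hex' ≠ 0 := by
      intro h0'
      have h1 := Nat.find_spec hex'
      rw [h0'] at h1
      exact not_subsingleton (X 0) h1
    obtain ⟨j, hj⟩ := Nat.exists_eq_succ_of_ne_zero hne0
    have hj1 : Subsingleton (X (j + 1)) := by
      have := Nat.find_spec hex'
      rwa [hj] at this
    have hj0 : ¬ Subsingleton (X j) := Nat.find_min hex' (by omega)
    have hnt : Nontrivial (X j) := not_subsingleton_iff_nontrivial.mp hj0
    have h1 : LocCoh.depth R (X j) = LocCoh.depth R (Y j) :=
      depth_eq_of_subsingleton_left (i j) (π j) (hex j) (hπ j)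
    have h2 : LocCoh.depth R (Y j) = d := by
      rcases hY j with h | h
      · exfalso
        rw [DepthFlat33.depth_eq_top_of_subsingleton (Y j)] at h1
        exact DepthRees.depth_ne_top (R := R) (X j) h1
      · exact h
    have h3 := upper j
    rw [h1, h2] at h3
    have : d + 1 ≤ d := by exact_mod_cast h3
    omega
  · exact lower K 0 (by omega)

end Groth.Agent.Lib.H74NF
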