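import Groth.Agent.Lib.H74NF1
import Groth.Agent.S2612

set_option autoImplicit false
set_option linter.style.haveILetI false
set_option linter.unusedSectionVars false
universe u

open IsLocalRing

namespace Groth.Agent.Lib.H74NF

open Groth.Agent.Lib.H74Gen

variable {R : Type u} [CommRing R] [IsNoetherianRing R] [IsLocalRing R]

/-- A nonzero finite free module has the depth of the ring. -/
theorem depth_free_eq (F : Type u) [AddCommGroup F] [Module R F] [Module.Finite R F]
    [Module.Free R F] [Nontrivial F] : LocCoh.depth R F = LocCoh.depth R R := by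
  have e : F ≃ₗ[R] (Fin (Module.finrank R F) → R) := (Module.finBasis R F).equivFun
  have hr : Module.finrank R F ≠ 0 := by
    intro h0
    rw [h0] at e
    exact not_subsingleton F e.toEquiv.subsingleton
  obtain ⟨r, hr⟩ := Nat.exists_eq_succ_of_ne_zero hr
  rw [hr] at e
  obtain ⟨n, hn⟩ := ENat.ne_top_iff_exists.mp (DepthRees.depth_ne_top (R := R) R)
  rw [DepthFlat33.depth_congr e, ← hn]
  apply le_antisymm
  · by_contra hlt
    push Not at hlt
    have h0 : ((n + 1 : ℕ) : ℕ∞) ≤ LocCoh.depth R (Fin (r + 1) → R) := by
      push_cast; exact Order.add_one_le_of_lt hlt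
    have := Groth.Agent.S2612.le_depth_of_le_depth_pi R n r hn.le h0
    rw [← hn] at this
    have : n + 1 ≤ n := by exact_mod_cast this
    omega
  · exact Groth.Agent.S2612.le_depth_pi R n hn.le _

end Groth.Agent.Lib.H74NF
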