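import Groth.Agent.Lib.H74NF2
import Groth.Agent.Lib.CodepthOpen33

set_option autoImplicit false
set_option linter.style.haveILetI false
set_option linter.unusedSectionVars false
universe u

open IsLocalRing

namespace Groth.Agent.Lib.H74NF

open Groth.Agent.Lib.H74Gen

section ringmod

variable {R : Type u} [CommRing R] (p : Ideal R) [p.IsPrime]

/-- `R_p` as a module over itself is the localized module of `R`. -/
noncomputable def locRingEquiv :
    LocalizedModule p.primeCompl R ≃ₗ[Localization.AtPrime p] Localization.AtPrime p :=
  LinearEquiv.extendScalarsOfIsLocalization p.primeCompl (Localization.AtPrime p)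
    (IsLocalizedModule.iso p.primeCompl (Algebra.linearMap R (Localization.AtPrime p)))

end ringmod

variable {A : Type u} [CommRing A] [IsNoetherianRing A] (I : Ideal A)

/-- For a finite flat `A/I`-module `P` and a prime `q ⊇ I`: `P_q = 0` or
`depth P_q = depth (A/I)_q` (over `A_q`). -/
theorem subsingleton_or_dp_eq_of_flat (q : PrimeSpectrum A) (hIq : I ≤ q.asIdeal)
    (P : Type u) [AddCommGroup P] [Module A P] [Module (A ⧸ I) P] [IsScalarTower A (A ⧸ I) P]
    [Module.Finite (A ⧸ I) P] [Module.Flat (A ⧸ I) P] :
    Subsingleton (LocalizedModule q.asIdeal.primeCompl P) ∨ dp A q P = dp A q (A ⧸ I) := by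
  have hs : Function.Surjective (algebraMap A (A ⧸ I)) := Ideal.Quotient.mk_surjective
  have hker : RingHom.ker (Ideal.Quotient.mk I) ≤ q.asIdeal := by rw [Ideal.mk_ker]; exact hIq
  set pb : Ideal (A ⧸ I) := q.asIdeal.map (Ideal.Quotient.mk I) with hpb
  have hpbprime : pb.IsPrime :=
    Ideal.map_isPrime_of_surjective Ideal.Quotient.mk_surjective hker
  have hcomap : pb.comap (algebraMap A (A ⧸ I)) = q.asIdeal := Ideal.comap_map_mk hIq
  have h1 := (CodepthOpen33.depth_supportDim_localization_eq_of_surjective hs P pb).1
  have h2 := (CodepthOpen33.depth_supportDim_localization_eq_of_surjective hs (A ⧸ I) pb).1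
  rw [DepthLoc33.depth_localization_congr P hcomap] at h1
  rw [DepthLoc33.depth_localization_congr (A ⧸ I) hcomap] at h2
  have hN : IsNoetherianRing (A ⧸ I) := inferInstance
  have hN' : IsNoetherianRing (Localization.AtPrime pb) := inferInstance
  rcases subsingleton_or_nontrivial (LocalizedModule pb.primeCompl P) with hsub | hnt
  · left
    rw [DepthFlat33.depth_eq_top_of_subsingleton] at h1
    by_contra hns
    have hnt : Nontrivial (LocalizedModule q.asIdeal.primeCompl P) :=
      not_subsingleton_iff_nontrivial.mp hns
    have : Module.Finite A P := Module.Finite.trans (A ⧸ I) P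
    exact DepthRees.depth_ne_top (R := Localization.AtPrime q.asIdeal)
      (LocalizedModule q.asIdeal.primeCompl P) h1.symm
  · right
    have hfree : Module.Free (Localization.AtPrime pb) (LocalizedModule pb.primeCompl P) :=
      Module.free_of_flat_of_isLocalRing
    have h3 := depth_free_eq (R := Localization.AtPrime pb) (LocalizedModule pb.primeCompl P)
    have h4 := DepthFlat33.depth_congr (locRingEquiv pb)
    show LocCoh.depth _ _ = LocCoh.depth _ _
    rw [← h1, ← h2, h3, h4]

end Groth.Agent.Lib.H74NF
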