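import Groth.Agent.Lib.H74NF3

set_option autoImplicit false
set_option linter.style.haveILetI false
set_option linter.unusedSectionVars false
universe u

open IsLocalRing

namespace Groth.Agent.Lib.H74NF

open Groth.Agent.Lib.H74Gen Groth.Agent.S2612

variable {A : Type u} [CommRing A] [IsNoetherianRing A] (I : Ideal A)
  (M : Type u) [AddCommGroup M] [Module A M] [Module.Finite A M]

theorem le_of_pow_eq_bot (K : ℕ) (hK : I ^ K = ⊥) (q : PrimeSpectrum A) : I ≤ q.asIdeal := by
  intro a ha
  refine q.2.mem_of_pow_mem K ?_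
  have : a ^ K ∈ I ^ K := Ideal.pow_mem_pow ha K
  rw [hK] at this
  rw [(Submodule.mem_bot A).mp this]
  exact zero_mem _

theorem mem_support_quotient (q : PrimeSpectrum A) (hIq : I ≤ q.asIdeal) :
    q ∈ Module.support A (A ⧸ I) := (mem_support_quotient_iff' I q).mpr hIq

/-- localization of a linear equivalence -/
noncomputable def locEquiv {M M' : Type u} [AddCommGroup M] [Module A M] [AddCommGroup M']
    [Module A M'] (e : M ≃ₗ[A] M') (q : Ideal A) [q.IsPrime] :
    LocalizedModule q.primeCompl M ≃ₗ[Localization.AtPrime q] LocalizedModule q.primeCompl M' :=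
  LinearEquiv.ofBijective (locMap q e.toLinearMap)
    ⟨locMap_injective _ _ e.injective, locMap_surjective _ _ e.surjective⟩

/-- `depth M_q = depth (A/I)_q` for `M` normally flat along the nilpotent ideal `I`, `M_q ≠ 0`. -/
theorem dp_eq_of_isNormallyFlat (hI : IsNilpotent I) (hM : EGA4.IsNormallyFlat I M)
    (q : PrimeSpectrum A) [Nontrivial (LocalizedModule q.asIdeal.primeCompl M)] :
    dp A q M = dp A q (A ⧸ I) := by
  obtain ⟨K, hK⟩ := hI
  have hK' : I ^ K = ⊥ := hK
  have hIq : I ≤ q.asIdeal := le_of_pow_eq_bot I K hK' q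
  have hnt' : Nontrivial (LocalizedModule q.asIdeal.primeCompl (A ⧸ I)) :=
    Module.mem_support_iff.mp (mem_support_quotient I q hIq)
  obtain ⟨d, hd⟩ := ENat.ne_top_iff_exists.mp (DepthRees.depth_ne_top
      (R := Localization.AtPrime q.asIdeal) (LocalizedModule q.asIdeal.primeCompl (A ⧸ I)))
  have hfin : ∀ j, Module.Finite (A ⧸ I) (N I M j) := fun j =>
    Module.Finite.of_restrictScalars_finite A _ _
  have hflat : ∀ j, Module.Flat (A ⧸ I) (N I M j) := hM
  have hnt0 : Nontrivial (LocalizedModule q.asIdeal.primeCompl ↥(S I M 0)) :=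
    (locEquiv (S0Equiv I M) q.asIdeal).toEquiv.nontrivial
  have key := depth_eq_of_chain (R := Localization.AtPrime q.asIdeal)
    (fun j => LocalizedModule q.asIdeal.primeCompl ↥(S I M j))
    (fun j => LocalizedModule q.asIdeal.primeCompl (N I M j))
    (fun j => locMap q.asIdeal (Submodule.inclusion (S_succ_le I M j)))
    (fun j => locMap q.asIdeal (Submodule.mkQ (I • (⊤ : Submodule A ↥(S I M j)))))
    (fun j => locMap_injective _ _ (Submodule.inclusion_injective (S_succ_le I M j)))
    (fun j => locMap_surjective _ _ (Submodule.mkQ_surjective _))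
    (fun j => locMap_exact _ _ _ (exact_seq I M j)) K ?_ d ?_
  · have h1 := DepthFlat33.depth_congr (locEquiv (S0Equiv I M) q.asIdeal)
    show LocCoh.depth _ _ = LocCoh.depth _ _
    rw [← h1, ← hd]
    exact key
  · intro j hj
    have h1 : S I M j = ⊥ := by
      have : I ^ j ≤ I ^ K := Ideal.pow_le_pow_right hj
      rw [hK', le_bot_iff] at this
      show I ^ j • (⊤ : Submodule A M) = ⊥
      rw [this, Submodule.bot_smul]
    have : Subsingleton ↥(S I M j) := by rw [h1]; infer_instance
    show Subsingleton (LocalizedModule q.asIdeal.primeCompl ↥(S I M j))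
    infer_instance
  · intro j
    have := hfin j
    have := hflat j
    rcases subsingleton_or_dp_eq_of_flat I q hIq (N I M j) with h | h
    · left; exact h
    · right
      show LocCoh.depth _ _ = _
      rw [hd]
      exact h

end Groth.Agent.Lib.H74NF
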