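import Groth.Agent.Lib.H74NF4
import Groth.Agent.Lib.H74SkTensor3

set_option autoImplicit false
set_option linter.style.haveILetI false
set_option linter.unusedSectionVars false
universe u

open IsLocalRing

namespace Groth.Agent.Lib.H74NF

open Groth.Agent.Lib.H74Gen Groth.Agent.S2612

variable {A : Type u} [CommRing A] [IsNoetherianRing A]

theorem height_congr {X : Type u} [Preorder X] (S T : Set X) (h : S = T) (x : X) (hx : x ∈ S)
    (hx' : x ∈ T) : Order.height (⟨x, hx⟩ : S) = Order.height (⟨x, hx'⟩ : T) := by
  subst h; rfl

/-- modules with the same support have the same local dimensions -/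
theorem dm_eq_of_support_eq (M M' : Type u) [AddCommGroup M] [Module A M] [Module.Finite A M]
    [AddCommGroup M'] [Module A M'] [Module.Finite A M']
    (h : Module.support A M = Module.support A M') (q : PrimeSpectrum A) :
    dm A q M = dm A q M' := by
  by_cases hq : q ∈ Module.support A M
  · have hq' : q ∈ Module.support A M' := h ▸ hq
    rw [dm_eq_height q hq, dm_eq_height q hq', height_congr _ _ h q hq hq']
  · have hq' : q ∉ Module.support A M' := h ▸ hq
    have h1 : Subsingleton (LocalizedModule q.asIdeal.primeCompl M) :=
      Module.notMem_support_iff.mp hq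
    have h2 : Subsingleton (LocalizedModule q.asIdeal.primeCompl M') :=
      Module.notMem_support_iff.mp hq'
    unfold dm
    rw [Module.supportDim_eq_bot_of_subsingleton, Module.supportDim_eq_bot_of_subsingleton]

end Groth.Agent.Lib.H74NF
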