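import Mathlib

set_option autoImplicit false
set_option linter.style.haveILetI false
set_option linter.unusedSectionVars false
universe u

open TensorProduct

namespace Groth.Agent.Lib.H74SemiLoc

variable {A B : Type u} [CommRing A] [CommRing B] [Algebra A B]

/-- `B/JB` is flat over `A/J` if `B` is flat over `A`. -/
theorem flat_quotient [Module.Flat A B] (J : Ideal A) :
    Module.Flat (A ⧸ J) (B ⧸ J.map (algebraMap A B)) := by
  have e1 : (B ⧸ J.map (algebraMap A B)) ≃ₗ[A] B ⊗[A] (A ⧸ J) :=
    (Algebra.TensorProduct.quotIdealMapEquivTensorQuot B J).toLinearEquiv.restrictScalars A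
  have e2 : (B ⧸ J.map (algebraMap A B)) ≃ₗ[A] (A ⧸ J) ⊗[A] B :=
    e1.trans (TensorProduct.comm A B (A ⧸ J))
  have hsurj : Function.Surjective (algebraMap A (A ⧸ J)) := Ideal.Quotient.mk_surjective
  have e3 : (B ⧸ J.map (algebraMap A B)) ≃ₗ[A ⧸ J] (A ⧸ J) ⊗[A] B :=
    e2.extendScalarsOfSurjective hsurj
  exact Module.Flat.of_linearEquiv e3

/-- Abstract form: a flat map of Noetherian rings inducing a bijection on maximal ideals
`m ↦ mB` preserves the dimension. -/
theorem ringKrullDim_eq_of_flat_of_maximal [IsNoetherianRing A] [IsNoetherianRing B] [Module.Flat A B]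
    (H1 : ∀ m : Ideal A, m.IsMaximal → (m.map (algebraMap A B)).IsMaximal)
    (H2 : ∀ n : Ideal B, n.IsMaximal → (n.comap (algebraMap A B)).IsMaximal) :
    ringKrullDim B = ringKrullDim A := by
  have hgd : Algebra.HasGoingDown A B := inferInstance
  -- for a maximal `m`, `ht (mB) = ht m`
  have key : ∀ m : Ideal A, m.IsMaximal →
      (m.map (algebraMap A B)).height = m.height := by
    intro m hm
    have hn := H1 m hm
    have hlo : (m.map (algebraMap A B)).LiesOver m := by
      refine ⟨?_⟩
      have h1 : m ≤ (m.map (algebraMap A B)).comap (algebraMap A B) := Ideal.le_comap_map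
      have h2 : (m.map (algebraMap A B)).comap (algebraMap A B) ≠ ⊤ :=
        (Ideal.IsPrime.comap (algebraMap A B)).ne_top
      exact hm.eq_of_le h2 h1
    have h := Ideal.height_eq_height_add_of_liesOver_of_hasGoingDown m (m.map (algebraMap A B))
    have hnt : Nontrivial (B ⧸ m.map (algebraMap A B)) :=
      Ideal.Quotient.nontrivial_iff.mpr hn.ne_top
    rw [Ideal.map_quotient_self, Ideal.height_bot, add_zero] at h
    exact h
  apply le_antisymm
  · rw [ringKrullDim_le_iff_isMaximal_height_le]
    intro n hn
    have hm := H2 n hn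
    have hle : (n.comap (algebraMap A B)).map (algebraMap A B) ≤ n := Ideal.map_comap_le
    have heq : (n.comap (algebraMap A B)).map (algebraMap A B) = n :=
      (H1 _ hm).eq_of_le hn.ne_top hle
    rw [← heq, key _ hm]
    exact Ideal.height_le_ringKrullDim_of_ne_top hm.ne_top
  · rw [ringKrullDim_le_iff_isMaximal_height_le]
    intro m hm
    rw [← key m hm]
    exact Ideal.height_le_ringKrullDim_of_ne_top (H1 m hm).ne_top

end Groth.Agent.Lib.H74SemiLoc
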