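import Groth.Agent.Lib.H74SemiLoc1

set_option autoImplicit false
set_option linter.style.haveILetI false
set_option linter.unusedSectionVars false
universe u

open TensorProduct

namespace Groth.Agent.Lib.H74SemiLoc

variable {A B : Type u} [CommRing A] [CommRing B] [Algebra A B]

theorem algebraMap_comp_mk (J : Ideal A) :
    (algebraMap (A ⧸ J) (B ⧸ J.map (algebraMap A B))).comp (Ideal.Quotient.mk J) =
      (Ideal.Quotient.mk (J.map (algebraMap A B))).comp (algebraMap A B) :=
  RingHom.ext fun _ => rfl

/-- Relative form. -/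
theorem ringKrullDim_quotient_eq_of_flat_of_maximal [IsNoetherianRing A] [IsNoetherianRing B]
    [Module.Flat A B]
    (H1 : ∀ m : Ideal A, m.IsMaximal → (m.map (algebraMap A B)).IsMaximal)
    (H2 : ∀ n : Ideal B, n.IsMaximal → (n.comap (algebraMap A B)).IsMaximal) (J : Ideal A) :
    ringKrullDim (B ⧸ J.map (algebraMap A B)) = ringKrullDim (A ⧸ J) := by
  have hfl := flat_quotient (B := B) J
  apply ringKrullDim_eq_of_flat_of_maximal
  · intro m' hm'
    have hm : (m'.comap (Ideal.Quotient.mk J)).IsMaximal :=
      Ideal.comap_isMaximal_of_surjective _ Ideal.Quotient.mk_surjective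
    have hJm : J ≤ m'.comap (Ideal.Quotient.mk J) := by
      conv_lhs => rw [← Ideal.mk_ker (I := J), RingHom.ker_eq_comap_bot]
      exact Ideal.comap_mono bot_le
    have h1 : m' = (m'.comap (Ideal.Quotient.mk J)).map (Ideal.Quotient.mk J) :=
      (Ideal.map_comap_of_surjective _ Ideal.Quotient.mk_surjective _).symm
    rw [h1, Ideal.map_map, algebraMap_comp_mk, ← Ideal.map_map]
    have hmB := H1 _ hm
    refine Ideal.IsMaximal.map_of_surjective_of_ker_le Ideal.Quotient.mk_surjective ?_
    rw [Ideal.mk_ker]
    exact Ideal.map_mono hJm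
  · intro n' hn'
    have hn : (n'.comap (Ideal.Quotient.mk (J.map (algebraMap A B)))).IsMaximal :=
      Ideal.comap_isMaximal_of_surjective _ Ideal.Quotient.mk_surjective
    have hm := H2 _ hn
    rw [Ideal.comap_comap, ← algebraMap_comp_mk, ← Ideal.comap_comap] at hm
    set m' := n'.comap (algebraMap (A ⧸ J) (B ⧸ J.map (algebraMap A B))) with hm'
    have hJm : J ≤ m'.comap (Ideal.Quotient.mk J) := by
      conv_lhs => rw [← Ideal.mk_ker (I := J), RingHom.ker_eq_comap_bot]
      exact Ideal.comap_mono bot_le
    have h1 : m' = (m'.comap (Ideal.Quotient.mk J)).map (Ideal.Quotient.mk J) :=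
      (Ideal.map_comap_of_surjective _ Ideal.Quotient.mk_surjective _).symm
    rw [h1]
    refine Ideal.IsMaximal.map_of_surjective_of_ker_le Ideal.Quotient.mk_surjective ?_
    rw [Ideal.mk_ker]
    exact hJm

end Groth.Agent.Lib.H74SemiLoc
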