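import Groth.Agent.Lib.H74SemiLoc2
import Groth.Agent.Lib.AdicNoeth
import Groth.Agent.Lib.SupportBaseChange

set_option autoImplicit false
set_option linter.style.haveILetI false
set_option linter.unusedSectionVars false
universe u

open TensorProduct

namespace Groth.Agent.Lib.H74SemiLoc

variable {A : Type u} [CommRing A] [IsNoetherianRing A] (I : Ideal A)

theorem isMaximal_map_cpl (hI : ∀ m : Ideal A, m.IsMaximal → I ≤ m) (m : Ideal A)
    (hm : m.IsMaximal) : (m.map (algebraMap A (AdicCompletion I A))).IsMaximal :=
  AdicCompletion.isMaximal_map_of_le I m (hI m hm) (Ideal.fg_of_isNoetherianRing I)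

theorem isMaximal_comap_cpl (n : Ideal (AdicCompletion I A)) (hn : n.IsMaximal) :
    (n.comap (algebraMap A (AdicCompletion I A))).IsMaximal := by
  have hfg : I.FG := Ideal.fg_of_isNoetherianRing I
  have hc := AdicCompletion.isAdicComplete_self I hfg
  have hle : I.map (algebraMap A (AdicCompletion I A)) ≤ n :=
    (IsAdicComplete.le_jacobson_bot _).trans (sInf_le ⟨bot_le, hn⟩)
  have hker : RingHom.ker (AdicCompletion.evalOneₐ I).toRingHom ≤ n := by
    rw [AdicCompletion.ker_evalOneₐ_eq_map I hfg]; exact hle
  have hsurj : Function.Surjective (AdicCompletion.evalOneₐ I).toRingHom :=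
    AdicCompletion.evalOneₐ_surjective I
  have h1 : (n.map (AdicCompletion.evalOneₐ I).toRingHom).IsMaximal :=
    Ideal.IsMaximal.map_of_surjective_of_ker_le hsurj hker
  have h2 : n = (n.map (AdicCompletion.evalOneₐ I).toRingHom).comap
      (AdicCompletion.evalOneₐ I).toRingHom := by
    rw [Ideal.comap_map_of_surjective' _ hsurj, eq_comm, sup_eq_left]
    exact hker
  rw [h2, Ideal.comap_comap, AdicCompletion.evalOneₐ_comp_algebraMap_eq_mk]
  exact Ideal.comap_isMaximal_of_surjective _ Ideal.Quotient.mk_surjective

/-- Dimension of `Â/JÂ`. -/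
theorem ringKrullDim_cpl_quotient (hI : ∀ m : Ideal A, m.IsMaximal → I ≤ m) (J : Ideal A) :
    ringKrullDim (AdicCompletion I A ⧸ J.map (algebraMap A (AdicCompletion I A))) =
      ringKrullDim (A ⧸ J) := by
  have hN : IsNoetherianRing (AdicCompletion I A) :=
    Groth.Agent.Lib.AdicNoeth.isNoetherianRing_adicCompletion I
  have hfl : Module.Flat A (AdicCompletion I A) := AdicCompletion.flat_of_isNoetherian I
  exact ringKrullDim_quotient_eq_of_flat_of_maximal (isMaximal_map_cpl I hI)
    (isMaximal_comap_cpl I) J

/-- Dimension of `M̂`. -/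
theorem supportDim_cpl (hI : ∀ m : Ideal A, m.IsMaximal → I ≤ m)
    (M : Type u) [AddCommGroup M] [Module A M] [Module.Finite A M] :
    Module.supportDim (AdicCompletion I A) (AdicCompletion I M) = Module.supportDim A M := by
  have hN : IsNoetherianRing (AdicCompletion I A) :=
    Groth.Agent.Lib.AdicNoeth.isNoetherianRing_adicCompletion I
  rw [← Module.supportDim_eq_of_equiv
    (AdicCompletion.ofTensorProductEquivOfFiniteNoetherian I M)]
  rw [Module.supportDim_eq_ringKrullDim_quotient_annihilator (R := A)]
  unfold Module.supportDim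
  rw [Groth.Agent.Lib.SupportBaseChange.support_baseChange, Module.support_eq_zeroLocus,
    PrimeSpectrum.preimage_comap_zeroLocus]
  have h1 : PrimeSpectrum.zeroLocus
      ((algebraMap A (AdicCompletion I A)) '' (Module.annihilator A M : Set A)) =
      PrimeSpectrum.zeroLocus
        (((Module.annihilator A M).map (algebraMap A (AdicCompletion I A)) :
          Ideal (AdicCompletion I A)) : Set (AdicCompletion I A)) := by
    rw [Ideal.map, PrimeSpectrum.zeroLocus_span]
  rw [h1, ← ringKrullDim_quotient]
  exact ringKrullDim_cpl_quotient I hI _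

end Groth.Agent.Lib.H74SemiLoc
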