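import Mathlib

set_option autoImplicit false
set_option linter.unusedSectionVars false
set_option linter.style.haveILetI false

universe u

namespace Groth.Agent.Lib.H74Semigroup

open MvPolynomial

section Homog

variable {k : Type u} [Field k]

/-- evaluation of a bivariate polynomial as a sum over its support -/
theorem aeval_two {L : Type*} [CommRing L] [Algebra k L] (G : MvPolynomial (Fin 2) k) (a b : L) :
    aeval ![a, b] G = ∑ d ∈ G.support, algebraMap k L (G.coeff d) * (a ^ d 0 * b ^ d 1) := by
  rw [aeval_def, eval₂_eq']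
  refine Finset.sum_congr rfl fun d _ => ?_
  rw [Fin.prod_univ_two]
  rfl

theorem degree_two {G : MvPolynomial (Fin 2) k} {e : ℕ} (hG : G.IsHomogeneous e)
    {d : Fin 2 →₀ ℕ} (hd : d ∈ G.support) : d 0 + d 1 = e := by
  have h1 : d.degree = e := by
    by_contra hne
    exact (mem_support_iff.mp hd) (hG.coeff_eq_zero hne)
  rw [Finsupp.degree_eq_sum, Fin.sum_univ_two] at h1
  exact h1

/-- Dehomogenisation: `G(a, b) = b^e G(a/b, 1)`. -/
theorem aeval_homogeneous {L : Type*} [Field L] [Algebra k L] {G : MvPolynomial (Fin 2) k} {e : ℕ}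
    (hG : G.IsHomogeneous e) (a b : L) (hb : b ≠ 0) :
    aeval ![a, b] G = b ^ e * aeval ![a / b, 1] G := by
  rw [aeval_two, aeval_two, Finset.mul_sum]
  refine Finset.sum_congr rfl fun d hd => ?_
  have hde := degree_two hG hd
  rw [← hde, one_pow, mul_one, div_pow, pow_add]
  field_simp

/-- The dehomogenisation of a nonzero homogeneous bivariate polynomial is nonzero. -/
theorem dehomog_ne_zero [Infinite k] {G : MvPolynomial (Fin 2) k} {e : ℕ}
    (hG : G.IsHomogeneous e) (hG0 : G ≠ 0) :
    aeval ![(Polynomial.X : Polynomial k), 1] G ≠ 0 := by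
  intro hg
  apply hG0
  have hX : (X 1 : MvPolynomial (Fin 2) k) ≠ 0 := X_ne_zero 1
  have h2 : G * X 1 = 0 := by
    apply MvPolynomial.funext
    intro v
    rw [map_zero, map_mul, eval_X]
    by_cases hb : v 1 = 0
    · rw [hb, mul_zero]
    · have hv : v = ![v 0, v 1] := by
        funext i
        fin_cases i <;> rfl
      have h3 : eval v G = aeval ![v 0, v 1] G := by
        rw [← hv]
        rfl
      rw [h3, aeval_homogeneous hG (v 0) (v 1) hb]
      have h4 : aeval ![v 0 / v 1, (1 : k)] G =
          Polynomial.aeval (v 0 / v 1) (aeval ![(Polynomial.X : Polynomial k), 1] G) := by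
        have := comp_aeval_apply (f := ![(Polynomial.X : Polynomial k), 1])
          (Polynomial.aeval (R := k) (v 0 / v 1)) G
        have hfun : (fun i => Polynomial.aeval (v 0 / v 1) (![(Polynomial.X : Polynomial k), 1] i)) =
            ![v 0 / v 1, 1] := by
          funext i
          fin_cases i <;> simp
        rw [this, hfun]
      rw [h4, hg, map_zero, mul_zero, zero_mul]
  rcases mul_eq_zero.mp h2 with h | h
  · exact h
  · exact absurd h hX

end Homog

end Groth.Agent.Lib.H74Semigroup
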