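import Mathlib
import Groth.Agent.Lib.H74Semigroup1
import Groth.Agent.S2680

set_option autoImplicit false
set_option linter.unusedSectionVars false
set_option linter.style.haveILetI false

universe u

namespace Groth.Agent.Lib.H74Semigroup

open MvPolynomial DirectSum

section KL

variable {k : Type u} [Field k] {R : Type u} [CommRing R] [Algebra k R]
  (𝒜 : ℤ → Submodule k R) [GradedAlgebra 𝒜]

theorem aeval_mem {G : MvPolynomial (Fin 2) k} {e : ℕ} (hG : G.IsHomogeneous e) {n : ℤ} {x y : R}
    (hx : x ∈ 𝒜 n) (hy : y ∈ 𝒜 n) : aeval ![x, y] G ∈ 𝒜 (e • n) := by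
  rw [aeval_two]
  refine Submodule.sum_mem _ fun d hd => ?_
  have hde := degree_two hG hd
  rw [← Algebra.smul_def]
  refine Submodule.smul_mem _ _ ?_
  have h1 : x ^ d 0 ∈ 𝒜 (d 0 • n) := SetLike.pow_mem_graded _ hx
  have h2 : y ^ d 1 ∈ 𝒜 (d 1 • n) := SetLike.pow_mem_graded _ hy
  have h3 := SetLike.mul_mem_graded h1 h2
  rw [← add_smul, hde] at h3
  exact h3

/-- Elements in pairwise distinct degrees summing to zero vanish. -/
theorem eq_zero_of_sum_eq_zero {n : ℤ} (hn : n ≠ 0) (s : Finset ℕ) (a : ℕ → R)
    (ha : ∀ e ∈ s, a e ∈ 𝒜 (e • n)) (hsum : ∑ e ∈ s, a e = 0) : ∀ e ∈ s, a e = 0 := by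
  intro e₀ he₀
  have h1 : (decompose 𝒜 (∑ e ∈ s, a e) (e₀ • n) : R) = a e₀ := by
    rw [decompose_sum, DFinsupp.finsetSum_apply, AddSubmonoidClass.coe_finsetSum,
      Finset.sum_eq_single e₀]
    · exact decompose_of_mem_same 𝒜 (ha e₀ he₀)
    · intro e he hne
      apply decompose_of_mem_ne 𝒜 (ha e he)
      intro heq
      apply hne
      have : (e : ℤ) * n = (e₀ : ℤ) * n := by simpa using heq
      exact_mod_cast mul_right_cancel₀ hn this
    · intro h
      exact absurd he₀ h
  rw [hsum, decompose_zero] at h1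
  exact h1.symm


/-- An element of a field extension algebraic over an algebraically closed field lies in it. -/
theorem mem_range_of_isAlgebraic [IsAlgClosed k] {K : Type*} [Field K] [Algebra k K] {u : K}
    (hu : IsAlgebraic k u) : u ∈ (algebraMap k K).range := by
  have hint : IsIntegral k u := hu.isIntegral
  exact minpoly.mem_range_of_degree_eq_one k u
    (IsAlgClosed.degree_eq_one_of_irreducible k (minpoly.irreducible hint))

/-- There is a nonzero homogeneous relation between two homogeneous elements of the same nonzero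
degree in a one-dimensional domain of finite type. -/
theorem exists_homogeneous_relation [IsDomain R] [Algebra.FiniteType k R]
    (hdim : ringKrullDim R = 1) {n : ℤ} (hn : n ≠ 0) {x y : R} (hx : x ∈ 𝒜 n) (hy : y ∈ 𝒜 n) :
    ∃ (e : ℕ) (G : MvPolynomial (Fin 2) k), G.IsHomogeneous e ∧ G ≠ 0 ∧ aeval ![x, y] G = 0 := by
  obtain ⟨N, htr, hdimN, -⟩ := Groth.Agent.S2680.result k R
  have hN : N = 1 := by
    rw [hdim] at hdimN
    exact_mod_cast hdimN.symm
  subst hN
  have hnot : ¬ AlgebraicIndependent k ![x, y] := by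
    intro hai
    have h1 := (hai.map' (f := IsScalarTower.toAlgHom k R (FractionRing R))
      (IsFractionRing.injective R (FractionRing R))).lift_cardinalMk_le_trdeg
    rw [htr] at h1
    simp at h1
  obtain ⟨F, hF, hF0⟩ : ∃ F : MvPolynomial (Fin 2) k, aeval ![x, y] F = 0 ∧ F ≠ 0 := by
    by_contra hcon
    push Not at hcon
    apply hnot
    exact (injective_iff_map_eq_zero _).mpr hcon
  have hsum := sum_homogeneousComponent F
  have hz : ∀ e ∈ Finset.range (F.totalDegree + 1),
      aeval ![x, y] (homogeneousComponent e F) = 0 := by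
    apply eq_zero_of_sum_eq_zero 𝒜 hn
    · intro e _
      exact aeval_mem 𝒜 (homogeneousComponent_isHomogeneous e F) hx hy
    · rw [← map_sum, hsum, hF]
  obtain ⟨e, he, hne⟩ : ∃ e ∈ Finset.range (F.totalDegree + 1), homogeneousComponent e F ≠ 0 := by
    by_contra hcon
    push Not at hcon
    apply hF0
    rw [← hsum]
    exact Finset.sum_eq_zero hcon
  exact ⟨e, homogeneousComponent e F, homogeneousComponent_isHomogeneous e F, hne, hz e he⟩

/-- **Key lemma**: homogeneous pieces of nonzero degree are at most one-dimensional. -/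
theorem exists_smul_eq [IsAlgClosed k] [IsDomain R] [Algebra.FiniteType k R]
    (hdim : ringKrullDim R = 1) {n : ℤ} (hn : n ≠ 0) {x y : R} (hx : x ∈ 𝒜 n) (hy : y ∈ 𝒜 n)
    (hy0 : y ≠ 0) : ∃ c : k, x = c • y := by
  obtain ⟨e, G, hG, hG0, hGxy⟩ := exists_homogeneous_relation 𝒜 hdim hn hx hy
  let K := FractionRing R
  have hinj := IsFractionRing.injective R K
  have hy' : algebraMap R K y ≠ 0 := fun h => hy0 (hinj (by rw [h, map_zero]))
  -- the relation in K
  have h1 : aeval ![algebraMap R K x, algebraMap R K y] G = 0 := by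
    have := comp_aeval_apply (f := ![x, y]) (IsScalarTower.toAlgHom k R K) G
    have hfun : (fun i => IsScalarTower.toAlgHom k R K (![x, y] i)) =
        ![algebraMap R K x, algebraMap R K y] := by
      funext i
      fin_cases i <;> rfl
    rw [hfun, hGxy, map_zero] at this
    exact this.symm
  rw [aeval_homogeneous hG _ _ hy'] at h1
  have h2 : aeval ![algebraMap R K x / algebraMap R K y, (1 : K)] G = 0 := by
    rcases mul_eq_zero.mp h1 with h | h
    · exact absurd (pow_eq_zero_iff (n := e) (by
        rintro rfl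
        -- e = 0: G is a nonzero constant, impossible
        rw [pow_zero] at h
        exact one_ne_zero h) |>.mp h) hy'
    · exact h
  haveI : Infinite k := IsAlgClosed.instInfinite
  have hg0 := dehomog_ne_zero hG hG0
  have h3 : Polynomial.aeval (algebraMap R K x / algebraMap R K y)
      (aeval ![(Polynomial.X : Polynomial k), 1] G) = 0 := by
    have := comp_aeval_apply (f := ![(Polynomial.X : Polynomial k), 1])
      (Polynomial.aeval (R := k) (algebraMap R K x / algebraMap R K y)) G
    have hfun : (fun i => Polynomial.aeval (algebraMap R K x / algebraMap R K y)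
        (![(Polynomial.X : Polynomial k), 1] i)) =
        ![algebraMap R K x / algebraMap R K y, 1] := by
      funext i
      fin_cases i <;> simp
    rw [this, hfun]
    exact h2
  have halg : IsAlgebraic k (algebraMap R K x / algebraMap R K y) := ⟨_, hg0, h3⟩
  obtain ⟨c, hc⟩ := mem_range_of_isAlgebraic halg
  refine ⟨c, hinj ?_⟩
  rw [Algebra.smul_def, map_mul, ← IsScalarTower.algebraMap_apply, hc, div_mul_cancel₀ _ hy']

end KL

end Groth.Agent.Lib.H74Semigroup
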