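import Mathlib
import Groth.Agent.Lib.H74Semigroup2

set_option autoImplicit false
set_option linter.unusedSectionVars false
set_option linter.style.haveILetI false

universe u

namespace Groth.Agent.Lib.H74Semigroup

open DirectSum

section Structure

variable {k : Type u} [Field k] [IsAlgClosed k] {R : Type u} [CommRing R] [IsDomain R]
  [Algebra k R] (𝒜 : ℤ → Submodule k R) [GradedAlgebra 𝒜]

/-- Elements in pairwise distinct degrees summing to zero vanish (general index). -/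
theorem eq_zero_of_sum_eq_zero' {ι : Type*} [DecidableEq ι] (s : Finset ι) (deg : ι → ℤ)
    (hdeg : Set.InjOn deg s) (a : ι → R) (ha : ∀ e ∈ s, a e ∈ 𝒜 (deg e))
    (hsum : ∑ e ∈ s, a e = 0) : ∀ e ∈ s, a e = 0 := by
  intro e₀ he₀
  have h1 : (decompose 𝒜 (∑ e ∈ s, a e) (deg e₀) : R) = a e₀ := by
    rw [decompose_sum, DFinsupp.finsetSum_apply, AddSubmonoidClass.coe_finsetSum,
      Finset.sum_eq_single e₀]
    · exact decompose_of_mem_same 𝒜 (ha e₀ he₀)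
    · intro e he hne
      apply decompose_of_mem_ne 𝒜 (ha e he)
      intro heq
      exact hne (hdeg he he₀ heq)
    · intro h
      exact absurd he₀ h
  rw [hsum, decompose_zero] at h1
  exact h1.symm

variable (h0 : 𝒜 0 = Submodule.span k {(1 : R)}) [Algebra.FiniteType k R]
  (hdim : ringKrullDim R = 1)

include h0 hdim in
/-- All homogeneous pieces are at most one-dimensional. -/
theorem exists_smul_eq' {n : ℤ} {x y : R} (hx : x ∈ 𝒜 n) (hy : y ∈ 𝒜 n) (hy0 : y ≠ 0) :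
    ∃ c : k, x = c • y := by
  by_cases hn : n = 0
  · subst hn
    rw [h0, Submodule.mem_span_singleton] at hx hy
    obtain ⟨a, rfl⟩ := hx
    obtain ⟨b, rfl⟩ := hy
    have hb : b ≠ 0 := by
      rintro rfl
      exact hy0 (zero_smul _ _)
    refine ⟨a / b, ?_⟩
    rw [smul_smul, div_mul_cancel₀ _ hb]
  · exact exists_smul_eq 𝒜 hdim hn hx hy hy0

/-- The submonoid of degrees of nonzero pieces. -/
def theH : AddSubmonoid ℕ where
  carrier := {h | 𝒜 (h : ℤ) ≠ ⊥}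
  zero_mem' := by
    intro hbot
    have h1 : (1 : R) ∈ 𝒜 0 := SetLike.GradedOne.one_mem
    have h1' : (1 : R) ∈ 𝒜 ((0 : ℕ) : ℤ) := by simpa using h1
    rw [hbot] at h1'
    exact one_ne_zero ((Submodule.mem_bot k).mp h1')
  add_mem' := by
    intro a b ha hb hbot
    obtain ⟨x, hx, hx0⟩ := Submodule.exists_mem_ne_zero_of_ne_bot ha
    obtain ⟨y, hy, hy0⟩ := Submodule.exists_mem_ne_zero_of_ne_bot hb
    have hxy : x * y ∈ 𝒜 ((a : ℤ) + (b : ℤ)) := SetLike.mul_mem_graded hx hy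
    have hxy' : x * y ∈ 𝒜 ((a + b : ℕ) : ℤ) := by
      rw [Nat.cast_add]
      exact hxy
    rw [hbot] at hxy'
    exact mul_ne_zero hx0 hy0 ((Submodule.mem_bot k).mp hxy')

theorem mem_theH {h : ℕ} : h ∈ theH 𝒜 ↔ 𝒜 (h : ℤ) ≠ ⊥ := Iff.rfl

/-- The subgroup of `ℤ` of differences of degrees of nonzero pieces. -/
def theG : AddSubgroup ℤ where
  carrier := {g | ∃ i j : ℤ, 𝒜 i ≠ ⊥ ∧ 𝒜 j ≠ ⊥ ∧ g = i - j}
  zero_mem' := by
    have h1 : 𝒜 0 ≠ ⊥ := by
      intro hbot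
      have h1 : (1 : R) ∈ 𝒜 0 := SetLike.GradedOne.one_mem
      rw [hbot] at h1
      exact one_ne_zero ((Submodule.mem_bot k).mp h1)
    exact ⟨0, 0, h1, h1, by ring⟩
  add_mem' := by
    rintro _ _ ⟨i, j, hi, hj, rfl⟩ ⟨i', j', hi', hj', rfl⟩
    have key : ∀ a b : ℤ, 𝒜 a ≠ ⊥ → 𝒜 b ≠ ⊥ → 𝒜 (a + b) ≠ ⊥ := by
      intro a b ha hb hbot
      obtain ⟨x, hx, hx0⟩ := Submodule.exists_mem_ne_zero_of_ne_bot ha
      obtain ⟨y, hy, hy0⟩ := Submodule.exists_mem_ne_zero_of_ne_bot hb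
      have hxy : x * y ∈ 𝒜 (a + b) := SetLike.mul_mem_graded hx hy
      rw [hbot] at hxy
      exact mul_ne_zero hx0 hy0 ((Submodule.mem_bot k).mp hxy)
    exact ⟨i + i', j + j', key i i' hi hi', key j j' hj hj', by ring⟩
  neg_mem' := by
    rintro _ ⟨i, j, hi, hj, rfl⟩
    exact ⟨j, i, hj, hi, by ring⟩

/-- Bezout data: nonzero homogeneous `a, b` whose degree difference generates all degrees. -/
theorem exists_bezout : ∃ (i j : ℤ) (a b : R), a ∈ 𝒜 i ∧ b ∈ 𝒜 j ∧ a ≠ 0 ∧ b ≠ 0 ∧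
    (i = j → a = b) ∧ ∀ h : ℕ, h ∈ theH 𝒜 → ∃ m : ℤ, (h : ℤ) = m * (i - j) := by
  obtain ⟨d, hd⟩ := Int.subgroup_cyclic (theG 𝒜)
  have hdG : d ∈ theG 𝒜 := by
    rw [hd]
    exact AddSubgroup.subset_closure (Set.mem_singleton d)
  obtain ⟨i, j, hi, hj, hdij⟩ := hdG
  obtain ⟨a, ha, ha0⟩ := Submodule.exists_mem_ne_zero_of_ne_bot hi
  obtain ⟨b, hb, hb0⟩ := Submodule.exists_mem_ne_zero_of_ne_bot hj
  have hgen : ∀ h : ℕ, h ∈ theH 𝒜 → ∃ m : ℤ, (h : ℤ) = m * (i - j) := by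
    intro h hh
    have h0' : 𝒜 0 ≠ ⊥ := by
      have := (theH 𝒜).zero_mem
      rw [mem_theH] at this
      simpa using this
    have hmem : (h : ℤ) ∈ theG 𝒜 := ⟨h, 0, hh, h0', by ring⟩
    rw [hd, AddSubgroup.mem_closure_singleton] at hmem
    obtain ⟨m, hm⟩ := hmem
    refine ⟨m, ?_⟩
    rw [← hm, hdij, smul_eq_mul]
  by_cases hij : i = j
  · subst hij
    exact ⟨i, i, a, a, ha, ha, ha0, ha0, fun _ => rfl, hgen⟩
  · exact ⟨i, j, a, b, ha, hb, ha0, hb0, fun h => absurd h hij, hgen⟩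

end Structure

end Groth.Agent.Lib.H74Semigroup
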