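import Mathlib
import Groth.Agent.Lib.H74Semigroup3

set_option autoImplicit false
set_option linter.unusedSectionVars false
set_option linter.style.haveILetI false

universe u

namespace Groth.Agent.Lib.H74Semigroup

open DirectSum

section Gen

variable {k : Type u} [Field k] [IsAlgClosed k] {R : Type u} [CommRing R] [IsDomain R]
  [Algebra k R] (𝒜 : ℤ → Submodule k R) [GradedAlgebra 𝒜]

/-- The homogeneous fraction `a / b`. -/
noncomputable def frac (a b : R) : FractionRing R :=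
  algebraMap R (FractionRing R) a / algebraMap R (FractionRing R) b

/-- `t` is the generator of degree `h` normalised by the fraction `a / b`. -/
def IsGen (i j : ℤ) (a b : R) (h : ℕ) (t : R) : Prop :=
  t ∈ 𝒜 (h : ℤ) ∧ ∃ m : ℤ, (h : ℤ) = m * (i - j) ∧
    algebraMap R (FractionRing R) t = frac a b ^ m

variable {i j : ℤ} {a b : R} (ha0 : a ≠ 0) (hb0 : b ≠ 0) (hab : i = j → a = b)

include ha0 hb0 in
theorem frac_ne_zero : frac a b ≠ 0 := by
  have hinj := IsFractionRing.injective R (FractionRing R)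
  unfold frac
  apply div_ne_zero
  · exact fun h => ha0 (hinj (by rw [h, map_zero]))
  · exact fun h => hb0 (hinj (by rw [h, map_zero]))

include ha0 hab in
theorem zpow_congr {m m' : ℤ} (h : m * (i - j) = m' * (i - j)) : frac a b ^ m = frac a b ^ m' := by
  by_cases hij : i = j
  · have : frac a b = 1 := by
      unfold frac
      rw [← hab hij]
      apply div_self
      exact fun h => ha0 (IsFractionRing.injective R (FractionRing R) (by rw [h, map_zero]))
    rw [this, one_zpow, one_zpow]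
  · have : m = m' := mul_right_cancel₀ (sub_ne_zero.mpr hij) h
    rw [this]

include ha0 hab in
theorem isGen_unique {h : ℕ} {t t' : R} (ht : IsGen 𝒜 i j a b h t) (ht' : IsGen 𝒜 i j a b h t') :
    t = t' := by
  obtain ⟨-, m, hm, hmt⟩ := ht
  obtain ⟨-, m', hm', hmt'⟩ := ht'
  apply IsFractionRing.injective R (FractionRing R)
  rw [hmt, hmt']
  exact zpow_congr ha0 hab (hm.symm.trans hm')

include ha0 hb0 in
theorem isGen_mul {h h' : ℕ} {t t' : R} (ht : IsGen 𝒜 i j a b h t)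
    (ht' : IsGen 𝒜 i j a b h' t') : IsGen 𝒜 i j a b (h + h') (t * t') := by
  obtain ⟨h1, m, hm, hmt⟩ := ht
  obtain ⟨h1', m', hm', hmt'⟩ := ht'
  refine ⟨?_, m + m', ?_, ?_⟩
  · rw [Nat.cast_add]
    exact SetLike.mul_mem_graded h1 h1'
  · rw [Nat.cast_add, hm, hm']; ring
  · rw [map_mul, hmt, hmt', zpow_add₀ (frac_ne_zero ha0 hb0)]

theorem isGen_zero : IsGen 𝒜 i j a b 0 1 := by
  refine ⟨?_, 0, by simp, by simp⟩
  simpa using (SetLike.GradedOne.one_mem : (1 : R) ∈ 𝒜 0)

include ha0 hb0 in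
theorem isGen_ne_zero {h : ℕ} {t : R} (ht : IsGen 𝒜 i j a b h t) : t ≠ 0 := by
  obtain ⟨-, m, -, hmt⟩ := ht
  rintro rfl
  rw [map_zero] at hmt
  exact zpow_ne_zero m (frac_ne_zero ha0 hb0) hmt.symm


variable (h0 : 𝒜 0 = Submodule.span k {(1 : R)}) [Algebra.FiniteType k R]
  (hdim : ringKrullDim R = 1)

theorem algebraMap_smul' (c : k) (z : R) :
    algebraMap R (FractionRing R) (c • z) = c • algebraMap R (FractionRing R) z :=
  map_smul (IsScalarTower.toAlgHom k R (FractionRing R)) c z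

include h0 hdim ha0 hb0 in
theorem exists_isGen (ha : a ∈ 𝒜 i) (hb : b ∈ 𝒜 j) {h : ℕ} (hh : h ∈ theH 𝒜)
    (hm : ∃ m : ℤ, (h : ℤ) = m * (i - j)) : ∃ t : R, IsGen 𝒜 i j a b h t := by
  have hinj := IsFractionRing.injective R (FractionRing R)
  have ha' : algebraMap R (FractionRing R) a ≠ 0 := fun h => ha0 (hinj (by rw [h, map_zero]))
  have hb' : algebraMap R (FractionRing R) b ≠ 0 := fun h => hb0 (hinj (by rw [h, map_zero]))
  obtain ⟨z, hz, hz0⟩ := Submodule.exists_mem_ne_zero_of_ne_bot hh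
  have hz' : algebraMap R (FractionRing R) z ≠ 0 := fun h => hz0 (hinj (by rw [h, map_zero]))
  obtain ⟨m, hm⟩ := hm
  obtain ⟨μ, rfl | rfl⟩ := Int.eq_nat_or_neg m
  · -- `m = μ ≥ 0`
    have h1 : a ^ μ ∈ 𝒜 (μ • i) := SetLike.pow_mem_graded μ ha
    have h2 : z * b ^ μ ∈ 𝒜 ((h : ℤ) + μ • j) :=
      SetLike.mul_mem_graded hz (SetLike.pow_mem_graded μ hb)
    have hdeg : (h : ℤ) + μ • j = μ • i := by
      rw [nsmul_eq_mul, nsmul_eq_mul, hm]; ring
    rw [hdeg] at h2
    obtain ⟨c, hc⟩ := exists_smul_eq' 𝒜 h0 hdim h1 h2 (mul_ne_zero hz0 (pow_ne_zero _ hb0))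
    refine ⟨c • z, Submodule.smul_mem _ _ hz, (μ : ℤ), hm, ?_⟩
    have hc' := congrArg (algebraMap R (FractionRing R)) hc
    rw [algebraMap_smul', map_mul, map_pow, map_pow] at hc'
    rw [algebraMap_smul', zpow_natCast]
    unfold frac
    rw [div_pow, hc', smul_div_assoc, mul_div_assoc, div_self (pow_ne_zero _ hb'), mul_one]
  · -- `m = -μ`
    have h1 : b ^ μ ∈ 𝒜 (μ • j) := SetLike.pow_mem_graded μ hb
    have h2 : z * a ^ μ ∈ 𝒜 ((h : ℤ) + μ • i) :=
      SetLike.mul_mem_graded hz (SetLike.pow_mem_graded μ ha)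
    have hdeg : (h : ℤ) + μ • i = μ • j := by
      rw [nsmul_eq_mul, nsmul_eq_mul, hm]; ring
    rw [hdeg] at h2
    obtain ⟨c, hc⟩ := exists_smul_eq' 𝒜 h0 hdim h1 h2 (mul_ne_zero hz0 (pow_ne_zero _ ha0))
    refine ⟨c • z, Submodule.smul_mem _ _ hz, -(μ : ℤ), hm, ?_⟩
    have hc' := congrArg (algebraMap R (FractionRing R)) hc
    rw [algebraMap_smul', map_mul, map_pow, map_pow] at hc'
    rw [algebraMap_smul', zpow_neg, zpow_natCast]
    unfold frac
    rw [div_pow, inv_div, hc', smul_div_assoc, mul_div_assoc, div_self (pow_ne_zero _ ha'), mul_one]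

end Gen

end Groth.Agent.Lib.H74Semigroup
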