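import Mathlib
import Groth.Agent.Lib.H74Semigroup4

set_option autoImplicit false
set_option linter.unusedSectionVars false
set_option linter.style.haveILetI false

universe u

namespace Groth.Agent.Lib.H74Semigroup

open DirectSum

section Iso

variable {k : Type u} [Field k] [IsAlgClosed k] {R : Type u} [CommRing R] [IsDomain R]
  [Algebra k R] (𝒜 : ℤ → Submodule k R) [GradedAlgebra 𝒜]
  (hpos : ∀ n : ℤ, n < 0 → 𝒜 n = ⊥)
  (h0 : 𝒜 0 = Submodule.span k {(1 : R)}) [Algebra.FiniteType k R]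
  (hdim : ringKrullDim R = 1)

include hpos h0 hdim in
theorem exists_ringEquiv : Nonempty (R ≃+* AddMonoidAlgebra k (theH 𝒜)) := by
  classical
  obtain ⟨i, j, a, b, ha, hb, ha0, hb0, hab, hgen⟩ := exists_bezout 𝒜
  have hex : ∀ h : theH 𝒜, ∃ t, IsGen 𝒜 i j a b (h : ℕ) t := fun h =>
    exists_isGen 𝒜 ha0 hb0 h0 hdim ha hb h.2 (hgen h h.2)
  choose t ht using hex
  have ht0 : ∀ h, t h ≠ 0 := fun h => isGen_ne_zero 𝒜 ha0 hb0 (ht h)
  let F : Multiplicative (theH 𝒜) →* R :=
    { toFun := fun h => t h.toAdd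
      map_one' := isGen_unique 𝒜 ha0 hab (ht 0) (isGen_zero 𝒜)
      map_mul' := fun x y => isGen_unique 𝒜 ha0 hab (ht (x.toAdd + y.toAdd))
        (isGen_mul 𝒜 ha0 hb0 (ht x.toAdd) (ht y.toAdd)) }
  let Φ : AddMonoidAlgebra k (theH 𝒜) →ₐ[k] R := AddMonoidAlgebra.lift k R (theH 𝒜) F
  have hΦs : ∀ (h : theH 𝒜) (c : k), Φ (AddMonoidAlgebra.single h c) = c • t h := fun h c =>
    AddMonoidAlgebra.lift_single F h c
  have hinj : Function.Injective Φ := by
    rw [injective_iff_map_eq_zero]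
    intro f hf
    rw [AddMonoidAlgebra.lift_apply] at hf
    have key := eq_zero_of_sum_eq_zero' 𝒜 f.coeff.support (fun h : theH 𝒜 => ((h : ℕ) : ℤ))
      (fun x _ y _ hxy => Subtype.ext (by
        have hxy' : ((x : ℕ) : ℤ) = ((y : ℕ) : ℤ) := hxy
        exact_mod_cast hxy'))
      (fun h => f.coeff h • t h) (fun h _ => Submodule.smul_mem _ _ (ht h).1) hf
    rw [← AddMonoidAlgebra.coeff_eq_zero]
    ext h
    by_contra hne
    have hmem : h ∈ f.coeff.support := Finsupp.mem_support_iff.mpr hne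
    rcases smul_eq_zero.mp (key h hmem) with h1 | h1
    · exact hne h1
    · exact ht0 h h1
  have hsurj : Function.Surjective Φ := by
    intro r
    rw [← sum_support_decompose 𝒜 r]
    have hrange : ∀ n : ℤ, (decompose 𝒜 r n : R) ∈ Φ.range := by
      intro n
      by_cases hz : (decompose 𝒜 r n : R) = 0
      · rw [hz]; exact zero_mem _
      · have hn0 : 0 ≤ n := by
          by_contra hneg
          have : (decompose 𝒜 r n : R) ∈ (⊥ : Submodule k R) :=
            hpos n (by omega) ▸ (decompose 𝒜 r n).2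
          exact hz ((Submodule.mem_bot k).mp this)
        obtain ⟨h, rfl⟩ := Int.eq_ofNat_of_zero_le hn0
        have hh : h ∈ theH 𝒜 := by
          intro hbot
          have : (decompose 𝒜 r (h : ℤ) : R) ∈ (⊥ : Submodule k R) :=
            hbot ▸ (decompose 𝒜 r (h : ℤ)).2
          exact hz ((Submodule.mem_bot k).mp this)
        obtain ⟨c, hc⟩ := exists_smul_eq' 𝒜 h0 hdim (decompose 𝒜 r (h : ℤ)).2 (ht ⟨h, hh⟩).1
          (ht0 ⟨h, hh⟩)
        exact ⟨AddMonoidAlgebra.single ⟨h, hh⟩ c, by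
          show Φ (AddMonoidAlgebra.single ⟨h, hh⟩ c) = _
          rw [hΦs, hc]⟩
    have := Subalgebra.sum_mem Φ.range (fun n _ => hrange n)
      (t := (decompose 𝒜 r).support)
    exact this
  exact ⟨(RingEquiv.ofBijective Φ ⟨hinj, hsurj⟩).symm⟩


include hpos h0 hdim in
theorem exists_ringEquiv_polynomial
    (hstd : Ideal.span (⋃ n ∈ Set.Ioi (0 : ℤ), (𝒜 n : Set R)) =
      Ideal.span ((𝒜 1 : Submodule k R) : Set R)) : Nonempty (R ≃+* Polynomial k) := by
  obtain ⟨e₁⟩ := exists_ringEquiv 𝒜 hpos h0 hdim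
  have h1 : (1 : ℕ) ∈ theH 𝒜 := by
    intro hbot
    have hbot' : 𝒜 1 = ⊥ := by simpa using hbot
    have hirr : Ideal.span (⋃ n ∈ Set.Ioi (0 : ℤ), (𝒜 n : Set R)) = ⊥ := by
      rw [hstd, hbot']
      simp
    have hvan : ∀ n : ℤ, n ≠ 0 → ∀ x ∈ 𝒜 n, x = 0 := by
      intro n hn x hx
      rcases lt_or_gt_of_ne hn with hlt | hgt
      · have : x ∈ (⊥ : Submodule k R) := hpos n hlt ▸ hx
        exact (Submodule.mem_bot k).mp this
      · have : x ∈ Ideal.span (⋃ n ∈ Set.Ioi (0 : ℤ), (𝒜 n : Set R)) :=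
          Ideal.subset_span (Set.mem_iUnion₂.mpr ⟨n, hgt, hx⟩)
        rw [hirr] at this
        exact this
    have hsurj : Function.Surjective (algebraMap k R) := by
      classical
      intro r
      have hr : r = (decompose 𝒜 r 0 : R) := by
        conv_lhs => rw [← sum_support_decompose 𝒜 r]
        rw [Finset.sum_eq_single (0 : ℤ)]
        · intro n _ hn
          exact hvan n hn _ (decompose 𝒜 r n).2
        · intro h
          rw [DFinsupp.notMem_support_iff] at h
          rw [h]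
          rfl
      have hmem : (decompose 𝒜 r 0 : R) ∈ Submodule.span k {(1 : R)} := h0 ▸ (decompose 𝒜 r 0).2
      obtain ⟨c, hc⟩ := Submodule.mem_span_singleton.mp hmem
      refine ⟨c, ?_⟩
      rw [hr, ← hc, Algebra.algebraMap_eq_smul_one]
    have := ringKrullDim_le_of_surjective (algebraMap k R) hsurj
    rw [hdim, ringKrullDim_eq_zero_of_field] at this
    exact absurd this (by norm_num)
  have hall : ∀ n : ℕ, n ∈ theH 𝒜 := by
    intro n
    have := (theH 𝒜).nsmul_mem h1 n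
    simpa using this
  let e₂ : theH 𝒜 ≃+ ℕ :=
    AddEquiv.ofBijective (theH 𝒜).subtype
      ⟨Subtype.coe_injective, fun n => ⟨⟨n, hall n⟩, rfl⟩⟩
  exact ⟨e₁.trans ((AddMonoidAlgebra.domCongr k k e₂).toRingEquiv.trans
    (Polynomial.toFinsuppIso k).symm)⟩

end Iso

end Groth.Agent.Lib.H74Semigroup
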