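import Groth.Agent.Lib.H74SkTensor5
import Groth.Agent.Lib.H56SerreFlat

set_option autoImplicit false
set_option linter.style.haveILetI false
set_option linter.unusedSectionVars false
universe u

open TensorProduct IsLocalRing

namespace Groth.Agent.Lib.H74SkTensor

variable (A B : Type u) [CommRing A] [CommRing B] [Algebra A B]
  (E : Type u) [AddCommGroup E] [Module A E]
  (F : Type u) [AddCommGroup F] [Module B F] [Module A F] [IsScalarTower A B F]

/-- Below a prime `q` of the support of `F` and over a prime `t ≤ q ∩ A` there is a prime `q'`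
of the support of `F` with `q' ∩ A = t` whose fibre module has dimension and depth `0`. -/
theorem exists_le_fibre_dim_zero [IsNoetherianRing A] [IsNoetherianRing B]
    [Module.Finite B F] [Module.Flat A F] (q : Ideal B) [q.IsPrime]
    (hq : (⟨q, inferInstance⟩ : PrimeSpectrum B) ∈ Module.support B F)
    (t : Ideal A) [t.IsPrime] (htp : t ≤ q.comap (algebraMap A B)) :
    ∃ (q' : Ideal B) (_ : q'.IsPrime), q' ≤ q ∧
      (⟨q', inferInstance⟩ : PrimeSpectrum B) ∈ Module.support B F ∧
      q'.comap (algebraMap A B) = t ∧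
      Module.supportDim (Localization.AtPrime q') (EGA4.FibLocMod A B q' F) = 0 ∧
      LocCoh.depth (Localization.AtPrime q') (EGA4.FibLocMod A B q' F) = 0 := by
  haveI : Module.Finite B (F ⊗[A] (A ⧸ t)) := DepthFlat33.finite_tensor (A ⧸ t) F
  have hqX : (⟨q, inferInstance⟩ : PrimeSpectrum B) ∈ Module.support B (F ⊗[A] (A ⧸ t)) :=
    (mem_support_tensor_quotient_iff A B F t _).mpr ⟨hq, htp⟩
  obtain ⟨q', hq'prime, hq'q, hq'X, hdim0⟩ :=
    exists_le_supportDim_eq_zero (F ⊗[A] (A ⧸ t)) q hqX
  have hq'F := ((mem_support_tensor_quotient_iff A B F t _).mp hq'X).1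
  have htq' : t ≤ pp A B q' := ((mem_support_tensor_quotient_iff A B F t _).mp hq'X).2
  have hG := supportDim_loc_tensor A B (A ⧸ t) F q'
  rw [hdim0] at hG
  obtain ⟨ha, hb⟩ := withBot_add_eq_zero hG.symm
  have hmemt : ∀ (P : Ideal A) [P.IsPrime], t ≤ P →
      (⟨P, inferInstance⟩ : PrimeSpectrum A) ∈ Module.support A (A ⧸ t) := by
    intro P _ hP
    rw [Module.mem_support_iff_of_finite, Ideal.annihilator_quotient]
    exact hP
  have hle : pp A B q' ≤ t :=
    le_of_supportDim_eq_zero (A ⧸ t) (pp A B q') t (hmemt _ htq') (hmemt t le_rfl) htq' ha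
  have heq : pp A B q' = t := le_antisymm hle htq'
  haveI : Nontrivial (EGA4.FibLocMod A B q' F) := by
    rw [← Module.supportDim_ne_bot_iff_nontrivial (Localization.AtPrime q'), hb]
    exact WithBot.zero_ne_bot
  have hd := DepthRees.depth_le_supportDim (R := Localization.AtPrime q')
    (EGA4.FibLocMod A B q' F)
  rw [hb] at hd
  have hd0 : LocCoh.depth (Localization.AtPrime q') (EGA4.FibLocMod A B q' F) = 0 := by
    have : LocCoh.depth (Localization.AtPrime q') (EGA4.FibLocMod A B q' F) ≤ 0 := by
      exact_mod_cast hd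
    exact le_antisymm this zero_le
  exact ⟨q', hq'prime, hq'q, hq'F, heq, hb, hd0⟩

section self

variable [IsNoetherianRing A] [IsNoetherianRing B] [Module.Flat A B] (q : Ideal B) [q.IsPrime]

/-- `ht q = ht (q ∩ A) + dim (B_q / p B_q)` for flat `A → B`. -/
theorem height_eq_add :
    ((q.height : ℕ∞) : WithBot ℕ∞) = (((pp A B q).height : ℕ∞) : WithBot ℕ∞) +
      Module.supportDim (Localization.AtPrime q) (EGA4.FibLocMod A B q B) := by
  have h := supportDim_loc_tensor A B A B q
  rw [H56SerreFlat.supportDim_localizedModule_self A (pp A B q),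
    IsLocalization.AtPrime.ringKrullDim_eq_height (pp A B q)] at h
  rw [← h, ← IsLocalization.AtPrime.ringKrullDim_eq_height q (Localization.AtPrime q),
    ← H56SerreFlat.supportDim_localizedModule_self B q]
  let e : B ⊗[A] A ≃ₗ[B] B := TensorProduct.AlgebraTensorModule.rid A B B
  let eq : LocalizedModule q.primeCompl (B ⊗[A] A) ≃ₗ[Localization.AtPrime q]
      LocalizedModule q.primeCompl B :=
    (IsLocalizedModule.linearEquiv q.primeCompl (LocalizedModule.mkLinearMap q.primeCompl (B ⊗[A] A))
      ((LocalizedModule.mkLinearMap q.primeCompl B) ∘ₗ e.toLinearMap)).extendScalarsOfIsLocalization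
        q.primeCompl (Localization.AtPrime q)
  exact (Module.supportDim_eq_of_equiv eq).symm

end self

end Groth.Agent.Lib.H74SkTensor
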