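import Groth.Agent.Lib.H74SkTensor6
import Groth.Agent.Lib.H8CM10

set_option autoImplicit false
set_option linter.style.haveILetI false
set_option linter.unusedSectionVars false
universe u

open TensorProduct IsLocalRing

namespace Groth.Agent.Lib.H74SkTensor

variable (A B : Type u) [CommRing A] [CommRing B] [Algebra A B]

theorem depth_congr_ideal (G : Type u) [AddCommGroup G] [Module A G] {t t' : Ideal A} [t.IsPrime]
    [t'.IsPrime] (h : t = t') :
    LocCoh.depth (Localization.AtPrime t) (LocalizedModule t.primeCompl G) =
      LocCoh.depth (Localization.AtPrime t') (LocalizedModule t'.primeCompl G) := by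
  subst h
  rfl

theorem height_congr_ideal {t t' : Ideal A} (h : t = t') : t.height = t'.height := by
  subst h
  rfl

section

variable [IsNoetherianRing A] [IsNoetherianRing B] [Module.Flat A B]

theorem mem_support_self (q : Ideal B) [q.IsPrime] :
    (⟨q, inferInstance⟩ : PrimeSpectrum B) ∈ Module.support B B := by
  rw [Module.mem_support_iff_of_finite]
  intro x hx
  have := Module.mem_annihilator.mp hx 1
  rw [smul_eq_mul, mul_one] at this
  rw [this]
  exact zero_mem _

theorem height_under_le (q : Ideal B) [q.IsPrime] : (pp A B q).height ≤ q.height := by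
  have h := height_eq_add A B q
  cases hd : Module.supportDim (Localization.AtPrime q) (EGA4.FibLocMod A B q B) with
  | bot =>
    rw [hd, WithBot.add_bot] at h
    exact absurd h WithBot.coe_ne_bot
  | coe d =>
    rw [hd, ← WithBot.coe_add, WithBot.coe_inj] at h
    rw [h]
    exact le_self_add

/-- `ht (IB) = ht I` and `depth_{IB} (B ⊗ G) = depth_I G` for flat `A → B` whose image contains
`V(I)`. -/
theorem height_depth_map_eq (I : Ideal A)
    (hI : ∀ p : PrimeSpectrum A, I ≤ p.asIdeal →
      ∃ q : PrimeSpectrum B, q.asIdeal.comap (algebraMap A B) = p.asIdeal)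
    (G : Type u) [AddCommGroup G] [Module A G] [Module.Finite A G] :
    (I.map (algebraMap A B)).height = I.height ∧
    LocCoh.idealDepth (I.map (algebraMap A B)) (B ⊗[A] G) = LocCoh.idealDepth I G := by
  -- a good prime of `B` over each prime containing `I`
  have key : ∀ p : PrimeSpectrum A, I ≤ p.asIdeal →
      ∃ (q' : Ideal B) (_ : q'.IsPrime), q'.comap (algebraMap A B) = p.asIdeal ∧
        Module.supportDim (Localization.AtPrime q') (EGA4.FibLocMod A B q' B) = 0 ∧
        LocCoh.depth (Localization.AtPrime q') (EGA4.FibLocMod A B q' B) = 0 := by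
    intro p hp
    obtain ⟨q₀, hq₀⟩ := hI p hp
    obtain ⟨q', hq', -, -, h1, h2, h3⟩ := exists_le_fibre_dim_zero A B B q₀.asIdeal
      (mem_support_self B q₀.asIdeal) p.asIdeal hq₀.ge
    exact ⟨q', hq', h1, h2, h3⟩
  constructor
  · apply le_antisymm
    · rw [Ideal.height_eq_inf_minimalPrimes I]
      refine le_iInf₂ fun p hp => ?_
      haveI : p.IsPrime := hp.1.1
      obtain ⟨q', hq', h1, h2, -⟩ := key ⟨p, inferInstance⟩ hp.1.2
      have h := height_eq_add A B q'
      rw [h2, add_zero, WithBot.coe_inj] at h
      have hle : I.map (algebraMap A B) ≤ q' := by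
        rw [Ideal.map_le_iff_le_comap, h1]
        exact hp.1.2
      calc (I.map (algebraMap A B)).height ≤ q'.height := Ideal.height_mono hle
        _ = (pp A B q').height := h
        _ = p.height := height_congr_ideal A h1
    · rw [Ideal.height_eq_inf_minimalPrimes (I.map (algebraMap A B))]
      refine le_iInf₂ fun q hq => ?_
      haveI : q.IsPrime := hq.1.1
      have hle : I ≤ pp A B q := Ideal.map_le_iff_le_comap.mp hq.1.2
      exact (Ideal.height_mono hle).trans (height_under_le A B q)
  · haveI : Module.Finite B (B ⊗[A] G) := DepthFlat33.finite_tensor G B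
    rw [H8CM.idealDepth_eq_iInf_depth_localizedModule, H8CM.idealDepth_eq_iInf_depth_localizedModule]
    apply le_antisymm
    · refine le_iInf₂ fun p hp => ?_
      obtain ⟨q', hq', h1, -, h3⟩ := key p hp
      have hle : I.map (algebraMap A B) ≤ q' := by
        rw [Ideal.map_le_iff_le_comap, h1]
        exact hp
      refine (iInf₂_le (⟨q', hq'⟩ : PrimeSpectrum B) hle).trans ?_
      show LocCoh.depth (Localization.AtPrime q') (LocalizedModule q'.primeCompl (B ⊗[A] G)) ≤ _
      rw [depth_loc_tensor A B G B q', h3, add_zero, depth_congr_ideal A G h1]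
    · refine le_iInf₂ fun q hq => ?_
      have hle : I ≤ pp A B q.asIdeal := Ideal.map_le_iff_le_comap.mp hq
      refine (iInf₂_le (⟨pp A B q.asIdeal, inferInstance⟩ : PrimeSpectrum A) hle).trans ?_
      rw [depth_loc_tensor A B G B q.asIdeal]
      exact le_self_add

end

end Groth.Agent.Lib.H74SkTensor
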