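import Groth.Agent.Lib.H74SkTensor7
import Groth.Agent.Lib.H8DepthLemma

set_option autoImplicit false
set_option linter.style.haveILetI false
set_option linter.unusedSectionVars false
universe u

open TensorProduct IsLocalRing

namespace Groth.Agent.Lib.H74SkTensor

variable (A B : Type u) [CommRing A] [CommRing B] [Algebra A B]
  (F : Type u) [AddCommGroup F] [Module B F] [Module A F] [IsScalarTower A B F]

section

variable (q : Ideal B) [q.IsPrime]

/-- The extension of `q` to the fibre local ring is its maximal ideal. -/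
theorem map_fibLocRing_eq :
    q.map (algebraMap B (EGA4.FibLocRing A B q)) = maximalIdeal (EGA4.FibLocRing A B q) := by
  rw [IsScalarTower.algebraMap_eq B (Localization.AtPrime q) (EGA4.FibLocRing A B q),
    ← Ideal.map_map, Localization.AtPrime.map_eq_maximalIdeal]
  apply IsLocalRing.eq_maximalIdeal
  apply Ideal.IsMaximal.map_of_surjective_of_ker_le Ideal.Quotient.mk_surjective
  rw [Ideal.mk_ker]
  exact fibIdeal_le A B q

variable [IsNoetherianRing A] [IsNoetherianRing B] [Module.Finite B F] [Module.Flat A F]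

/-- `depth F_q ≥ depth (F_q / p F_q)` for `F` flat over `A`. -/
theorem depth_fib_le :
    LocCoh.idealDepth (q.map (algebraMap B (EGA4.FibLocRing A B q))) (EGA4.FibLocMod A B q F) ≤
      LocCoh.depth (Localization.AtPrime q) (LocalizedModule q.primeCompl F) := by
  rw [map_fibLocRing_eq]
  change LocCoh.depth (EGA4.FibLocRing A B q) (EGA4.FibLocMod A B q F) ≤ _
  rw [← depth_fib_eq]
  have h := depth_loc_tensor A B A F q
  let e : F ⊗[A] A ≃ₗ[B] F := TensorProduct.AlgebraTensorModule.rid A B F
  let eq : LocalizedModule q.primeCompl (F ⊗[A] A) ≃ₗ[Localization.AtPrime q]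
      LocalizedModule q.primeCompl F :=
    (IsLocalizedModule.linearEquiv q.primeCompl (LocalizedModule.mkLinearMap q.primeCompl (F ⊗[A] A))
      ((LocalizedModule.mkLinearMap q.primeCompl F) ∘ₗ e.toLinearMap)).extendScalarsOfIsLocalization
        q.primeCompl (Localization.AtPrime q)
  rw [← DepthFlat33.depth_congr eq, h]
  exact le_add_self

end

/-- If all fibre modules of `F` at the primes containing `J` have depth `≥ n`, then
`depth_J F ≥ n`. -/
theorem le_idealDepth_of_fibre [IsNoetherianRing A] [IsNoetherianRing B] [Module.Finite B F]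
    [Module.Flat A F] (J : Ideal B) (n : ℕ∞)
    (h : ∀ q : PrimeSpectrum B, J ≤ q.asIdeal →
      n ≤ LocCoh.idealDepth (q.asIdeal.map (algebraMap B (EGA4.FibLocRing A B q.asIdeal)))
        (EGA4.FibLocMod A B q.asIdeal F)) :
    n ≤ LocCoh.idealDepth J F := by
  rw [H8CM.idealDepth_eq_iInf_depth_localizedModule]
  refine le_iInf₂ fun q hq => (h q hq).trans (depth_fib_le A B F q.asIdeal)

/-- Four-term sequence `0 → F → E⁰ → E¹`: `depth_J F ≥ 2` from fibrewise depths of `E⁰, E¹`. -/
theorem two_le_idealDepth_of_fourTerm [IsNoetherianRing A] [IsNoetherianRing B] (J : Ideal B)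
    (F E0 E1 : Type u) [AddCommGroup F] [Module B F] [Module.Finite B F]
    [AddCommGroup E0] [Module B E0] [Module A E0] [IsScalarTower A B E0] [Module.Finite B E0]
    [Module.Flat A E0]
    [AddCommGroup E1] [Module B E1] [Module A E1] [IsScalarTower A B E1] [Module.Finite B E1]
    [Module.Flat A E1]
    (f : F →ₗ[B] E0) (u : E0 →ₗ[B] E1)
    (hf : Function.Injective f) (hfu : Function.Exact f u)
    (h0 : ∀ q : PrimeSpectrum B, J ≤ q.asIdeal →
      2 ≤ LocCoh.idealDepth (q.asIdeal.map (algebraMap B (EGA4.FibLocRing A B q.asIdeal)))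
        (EGA4.FibLocMod A B q.asIdeal E0))
    (h1 : ∀ q : PrimeSpectrum B, J ≤ q.asIdeal →
      1 ≤ LocCoh.idealDepth (q.asIdeal.map (algebraMap B (EGA4.FibLocRing A B q.asIdeal)))
        (EGA4.FibLocMod A B q.asIdeal E1)) :
    2 ≤ LocCoh.idealDepth J F := by
  have hE0 : ((2 : ℕ) : ℕ∞) ≤ LocCoh.idealDepth J E0 := le_idealDepth_of_fibre A B E0 J 2 h0
  have hE1 : ((1 : ℕ) : ℕ∞) ≤ LocCoh.idealDepth J E1 := by
    have := le_idealDepth_of_fibre A B E1 J 1 h1
    simpa using this
  -- the image `K` of `u`
  have hK : ((1 : ℕ) : ℕ∞) ≤ LocCoh.idealDepth J (LinearMap.range u) := by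
    refine H8DepthLemma.le_idealDepth_left J (LinearMap.range u).subtype (LinearMap.range u).mkQ
      (Submodule.subtype_injective _) ?_ (Submodule.mkQ_surjective _) 1 hE1 ?_
    · rw [LinearMap.exact_iff, Submodule.ker_mkQ, Submodule.range_subtype]
    · exact le_add_self
  have h2 : ((2 : ℕ) : ℕ∞) ≤ LocCoh.idealDepth J F := by
    refine H8DepthLemma.le_idealDepth_left J f u.rangeRestrict hf ?_
      (LinearMap.surjective_rangeRestrict u) 2 hE0 ?_
    · intro y
      rw [← hfu y]
      constructor
      · intro h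
        have := congrArg Subtype.val h
        simpa using this
      · intro h
        apply Subtype.ext
        simpa using h
    · have : ((1 : ℕ) : ℕ∞) + 1 ≤ LocCoh.idealDepth J (LinearMap.range u) + 1 :=
        add_le_add_left hK 1
      simpa [one_add_one_eq_two] using this
  simpa using h2

end Groth.Agent.Lib.H74SkTensor
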