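import Groth.Agent.Lib.H74SkTensor8
import Groth.Agent.Lib.CMFlat33
import Groth.Agent.Lib.CMRingEquiv96

set_option autoImplicit false
set_option linter.style.haveILetI false
set_option linter.unusedSectionVars false
universe u

open TensorProduct IsLocalRing

namespace Groth.Agent.Lib.H74SkTensor

variable (A B : Type u) [CommRing A] [CommRing B] [Algebra A B]
  [IsNoetherianRing A] [IsNoetherianRing B] [Module.Flat A B]

/-- `depth B_q ≥ depth (B_q / p B_q)` (ring form) for flat `A → B`. -/
theorem depth_fibRing_le (q : Ideal B) [q.IsPrime] :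
    LocCoh.idealDepth (q.map (algebraMap B (EGA4.FibLocRing A B q))) (EGA4.FibLocRing A B q) ≤
      LocCoh.depth (Localization.AtPrime q) (LocalizedModule q.primeCompl B) := by
  rw [map_fibLocRing_eq, H56SerreFlat.depth_localizedModule_self]
  change LocCoh.depth (EGA4.FibLocRing A B q) (EGA4.FibLocRing A B q) ≤ _
  have hflat : (algebraMap (Localization.AtPrime (pp A B q)) (Localization.AtPrime q)).Flat :=
    RingHom.flat_algebraMap_iff.mpr inferInstance
  haveI hlq : IsLocalRing (Localization.AtPrime q ⧸
      Ideal.map (algebraMap (Localization.AtPrime (pp A B q)) (Localization.AtPrime q))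
        (maximalIdeal (Localization.AtPrime (pp A B q)))) :=
    CMFlat33.isLocalRing_quotient_map _
  have h := CMFlat33.depth_eq_add' (algebraMap (Localization.AtPrime (pp A B q))
    (Localization.AtPrime q)) hflat
  let e : (Localization.AtPrime q ⧸
      Ideal.map (algebraMap (Localization.AtPrime (pp A B q)) (Localization.AtPrime q))
        (maximalIdeal (Localization.AtPrime (pp A B q)))) ≃+* EGA4.FibLocRing A B q :=
    Ideal.quotEquivOfEq (map_maximalIdeal_eq A B q)
  rw [CMRingEquiv96.depth_eq e] at h
  rw [h]
  exact le_add_self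

/-- If all fibre local rings at primes containing `J` have depth `≥ n`, then `depth_J B ≥ n`. -/
theorem le_idealDepth_self_of_fibre (J : Ideal B) (n : ℕ∞)
    (h : ∀ q : PrimeSpectrum B, J ≤ q.asIdeal →
      n ≤ LocCoh.idealDepth (q.asIdeal.map (algebraMap B (EGA4.FibLocRing A B q.asIdeal)))
        (EGA4.FibLocRing A B q.asIdeal)) :
    n ≤ LocCoh.idealDepth J B := by
  rw [H8CM.idealDepth_eq_iInf_depth_localizedModule]
  refine le_iInf₂ fun q hq => (h q hq).trans (depth_fibRing_le A B q.asIdeal)

end Groth.Agent.Lib.H74SkTensor
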