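import Mathlib
import Groth.Prelude.Def_EGA4b
import Groth.Agent.Lib.FibreDimDepth33
import Groth.Agent.Lib.SmoothRegular
import Groth.Agent.Lib.CMAscent33
import Groth.Agent.Lib.H87Serre2
import Groth.Agent.S2608
import Groth.Agent.S2609

/-!
# Serre's conditions and codepth along smooth ring maps (helper74)

For a smooth map `A → B` of Noetherian rings and a prime `r` of `B` over `p`:
`(S_n)`, `(R_n)` at `r` iff at `p`, and `A_p`, `B_r` have the same codepth.
-/

set_option autoImplicit false
set_option linter.style.haveILetI false
set_option linter.unusedSectionVars false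
universe u

open TensorProduct IsLocalRing

namespace Groth.Agent.Lib.H74SmoothSk

variable {A B : Type u} [CommRing A] [CommRing B] [Algebra A B]

section fibre

variable [Algebra.Smooth A B]

/-- The fibre rings of a smooth map are regular. -/
theorem isRegularRing_fiber (p : Ideal A) [p.IsPrime] : IsRegularRing (p.Fiber B) :=
  SmoothRegular.isRegularRing_of_smooth p.ResidueField (p.Fiber B)

/-- The fibre rings of a smooth map are Cohen–Macaulay. -/
theorem isCMRing_fiber (p : Ideal A) [p.IsPrime] : LocCoh.IsCohenMacaulayRing (p.Fiber B) := by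
  haveI := isRegularRing_fiber (B := B) p
  exact CMAscent33.isCohenMacaulayRing_of_isRegularRing _

theorem isRegularLocalRing_quot_of_fiber (p : Ideal A) [p.IsPrime] (Q : Ideal (p.Fiber B))
    [Q.IsPrime] (r : Ideal B) [r.IsPrime]
    (hr : Q.comap (Algebra.TensorProduct.includeRight
      (R := A) (A := p.ResidueField) (B := B)) = r) :
    IsRegularLocalRing (Localization.AtPrime r ⧸
      (p.map (algebraMap A B)).map (algebraMap B (Localization.AtPrime r))) := by
  subst hr
  haveI := isRegularRing_fiber (B := B) p
  have e : Localization.AtPrime Q ≃+*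
      (Localization.AtPrime (Q.comap (Algebra.TensorProduct.includeRight
        (R := A) (A := p.ResidueField) (B := B))) ⧸
      (p.map (algebraMap A B)).map (algebraMap B (Localization.AtPrime
        (Q.comap (Algebra.TensorProduct.includeRight
          (R := A) (A := p.ResidueField) (B := B)))))) :=
    (Ideal.Fiber.algEquivAux₂ p Q).toRingEquiv
  exact @IsRegularLocalRing.of_ringEquiv (Localization.AtPrime Q) _ inferInstance _ _ e

/-- The fibre local rings of a smooth map are regular. -/
theorem isRegularLocalRing_fibLocRing (r : Ideal B) [r.IsPrime] :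
    IsRegularLocalRing (EGA4.FibLocRing A B r) := by
  haveI : r.LiesOver (r.comap (algebraMap A B)) := ⟨rfl⟩
  obtain ⟨Q, hQ, hQr⟩ := H56SkFibre.exists_fiber_prime (r.comap (algebraMap A B)) r
  have h1 := isRegularLocalRing_quot_of_fiber (r.comap (algebraMap A B)) Q r hQr
  have hI : ((r.comap (algebraMap A B)).map (algebraMap A B)).map
      (algebraMap B (Localization.AtPrime r)) =
      (r.comap (algebraMap A B)).map (algebraMap A (Localization.AtPrime r)) := by
    rw [Ideal.map_map, ← IsScalarTower.algebraMap_eq]
  exact IsRegularLocalRing.of_ringEquiv (Ideal.quotEquivOfEq hI)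

theorem hasRk_fibLocRing (k : ℕ) (r : Ideal B) [r.IsPrime] :
    LocCoh.HasRk k (EGA4.FibLocRing A B r) := by
  haveI := isRegularLocalRing_fibLocRing (A := A) r
  haveI : IsRegularRing (EGA4.FibLocRing A B r) :=
    H87Serre2.isRegularRing_of_isRegularLocalRing
  intro P _ _
  infer_instance

end fibre

section main

variable [IsNoetherianRing A] [IsNoetherianRing B] [Algebra.Smooth A B]

theorem hasRkAt_iff (k : ℕ) (r : Ideal B) [r.IsPrime] :
    EGA4.HasRkAt k A (r.comap (algebraMap A B)) ↔ EGA4.HasRkAt k B r := by
  haveI : Module.Flat A B := Algebra.Smooth.flat A B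
  exact ⟨fun h => Groth.Agent.S2609.result k A B (fun q _ => hasRk_fibLocRing k q) r h,
    fun h => Groth.Agent.S2608.result k A B r h⟩

theorem hasSkAt_iff (n : ℕ) (r : Ideal B) [r.IsPrime] :
    EGA4.HasSkAt n A A (r.comap (algebraMap A B)) ↔ EGA4.HasSkAt n B B r := by
  haveI : Module.Flat A B := Algebra.Smooth.flat A B
  exact FibreDimDepth33.hasSkAt_iff_of_fibre (fun p _ => isCMRing_fiber p) n r

theorem codepth_eq (r : Ideal B) [r.IsPrime] :
    ringKrullDim (Localization.AtPrime (r.comap (algebraMap A B))) +
      ((LocCoh.depth (Localization.AtPrime r) (Localization.AtPrime r) : ℕ∞) : WithBot ℕ∞) =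
    ringKrullDim (Localization.AtPrime r) +
      ((LocCoh.depth (Localization.AtPrime (r.comap (algebraMap A B)))
        (Localization.AtPrime (r.comap (algebraMap A B))) : ℕ∞) : WithBot ℕ∞) := by
  haveI : Module.Flat A B := Algebra.Smooth.flat A B
  exact FibreDimDepth33.codepth_eq_of_fibre (fun p _ => isCMRing_fiber p) r

end main

end Groth.Agent.Lib.H74SmoothSk
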