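import Groth.Agent.Lib.H74SmoothSk1
import Groth.Agent.Lib.SyntLocal33

set_option autoImplicit false
set_option linter.style.haveILetI false
set_option linter.unusedSectionVars false
universe u

open CategoryTheory CategoryTheory.Limits AlgebraicGeometry TopologicalSpace IsLocalRing

namespace Groth.Agent.Lib.H74SmoothSk

section Rk

theorem hasRk_of_ringEquiv {R R' : Type u} [CommRing R] [CommRing R'] (e : R ≃+* R') (k : ℕ)
    (h : LocCoh.HasRk k R) : LocCoh.HasRk k R' := by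
  intro P hP hht
  haveI : (P.comap e).IsPrime := Ideal.comap_isPrime _ _
  have h1 : (P.comap e).height ≤ k := by
    rw [RingEquiv.height_comap]
    exact hht
  haveI h2 := h (P.comap e) h1
  exact IsRegularLocalRing.of_ringEquiv <| IsLocalization.ringEquivOfRingEquiv
    (Localization.AtPrime (P.comap e)) (Localization.AtPrime P) e (e.map_primeCompl_comap_eq P)

theorem hasRk_iff_of_ringEquiv {R R' : Type u} [CommRing R] [CommRing R'] (e : R ≃+* R') (k : ℕ) :
    LocCoh.HasRk k R ↔ LocCoh.HasRk k R' :=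
  ⟨hasRk_of_ringEquiv e k, hasRk_of_ringEquiv e.symm k⟩

end Rk

section Ring

variable {A B : Type u} [CommRing A] [CommRing B] [Algebra A B]
  [IsNoetherianRing A] [IsNoetherianRing B] [Algebra.Smooth A B]

theorem hasSk_localization_iff (k : ℕ) (r : Ideal B) [r.IsPrime] (p : Ideal A) [p.IsPrime]
    (hp : r.comap (algebraMap A B) = p) :
    LocCoh.HasSk k (Localization.AtPrime p) (Localization.AtPrime p) ↔
      LocCoh.HasSk k (Localization.AtPrime r) (Localization.AtPrime r) := by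
  subst hp
  have key := hasSkAt_iff (A := A) k r
  unfold EGA4.HasSkAt at key
  rw [FibreDimDepth33.hasSk_congr (H56SerreFlat.selfEquiv A (r.comap (algebraMap A B))) k,
    FibreDimDepth33.hasSk_congr (H56SerreFlat.selfEquiv B r) k]
  exact key

theorem hasRk_localization_iff (k : ℕ) (r : Ideal B) [r.IsPrime] (p : Ideal A) [p.IsPrime]
    (hp : r.comap (algebraMap A B) = p) :
    LocCoh.HasRk k (Localization.AtPrime p) ↔ LocCoh.HasRk k (Localization.AtPrime r) := by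
  subst hp
  exact hasRkAt_iff (A := A) k r

theorem codepth_localization_eq (r : Ideal B) [r.IsPrime] (p : Ideal A) [p.IsPrime]
    (hp : r.comap (algebraMap A B) = p) :
    ringKrullDim (Localization.AtPrime p) +
      ((LocCoh.depth (Localization.AtPrime r) (Localization.AtPrime r) : ℕ∞) : WithBot ℕ∞) =
    ringKrullDim (Localization.AtPrime r) +
      ((LocCoh.depth (Localization.AtPrime p) (Localization.AtPrime p) : ℕ∞) : WithBot ℕ∞) := by
  subst hp
  exact codepth_eq (A := A) r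

end Ring

section Scheme

variable {X Y : Scheme.{u}}

/-- Smoothness near `x` gives affine charts with a smooth ring map. -/
theorem exists_affine_smooth (f : X ⟶ Y) (x : X)
    (hx : ∃ U : X.Opens, x ∈ U ∧ Smooth (U.ι ≫ f)) :
    ∃ (V : Y.affineOpens) (W : X.affineOpens) (e : W.1 ≤ f ⁻¹ᵁ V.1), x ∈ W.1 ∧
      (f.appLE V.1 W.1 e).hom.Smooth := by
  obtain ⟨U, hxU, hsm⟩ := hx
  let x' : U.toScheme := ⟨x, hxU⟩
  obtain ⟨_, ⟨V, hV, rfl⟩, hfxV, -⟩ :=
    Y.isBasis_affineOpens.exists_subset_of_mem_open (Set.mem_univ (f x)) isOpen_univ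
  have hx'V : x' ∈ (U.ι ≫ f) ⁻¹ᵁ V := hfxV
  obtain ⟨_, ⟨W', hW', rfl⟩, hx'W', hW'V⟩ :=
    U.toScheme.isBasis_affineOpens.exists_subset_of_mem_open hx'V ((U.ι ≫ f) ⁻¹ᵁ V).isOpen
  have hW : IsAffineOpen (U.ι ''ᵁ W') := hW'.image_of_isOpenImmersion U.ι
  have e₁ : U.ι ''ᵁ W' ≤ f ⁻¹ᵁ V := by
    rintro _ ⟨y, hy, rfl⟩
    exact hW'V hy
  refine ⟨⟨V, hV⟩, ⟨U.ι ''ᵁ W', hW⟩, e₁, ⟨x', hx'W', rfl⟩, ?_⟩
  have h1 := hsm.smooth_appLE hV hW' hW'V
  have h2 := Scheme.Hom.appLE_comp_appLE U.ι f V (U.ι ''ᵁ W') W' e₁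
    (by intro y hy; exact ⟨y, hy, rfl⟩)
  have h3 := Scheme.Opens.ι_appLE U (U.ι ''ᵁ W') W' (by intro y hy; exact ⟨y, hy, rfl⟩)
  rw [h3] at h2
  have h4 : f.appLE V (U.ι ''ᵁ W') e₁ = (U.ι ≫ f).appLE V W' hW'V := by
    rw [← h2]
    have : X.presheaf.map (homOfLE (le_refl (U.ι ''ᵁ W'))).op = 𝟙 _ := by
      rw [show homOfLE (le_refl (U.ι ''ᵁ W')) = 𝟙 _ from Subsingleton.elim _ _, op_id,
        X.presheaf.map_id]
    exact ((congrArg (fun t => f.appLE V (U.ι ''ᵁ W') e₁ ≫ t) this).trans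
      (Category.comp_id _)).symm
  show (f.appLE V (U.ι ''ᵁ W') e₁).hom.Smooth
  rw [h4]
  exact h1

/-- `(S_n)`, `(R_n)` and codepth at a point where `f` is smooth. -/
theorem stalk_of_smooth_nbhd [IsLocallyNoetherian Y] (f : X ⟶ Y) [LocallyOfFiniteType f] (x : X)
    (hx : ∃ U : X.Opens, x ∈ U ∧ Smooth (U.ι ≫ f)) :
    (∀ n : ℕ, (LocCoh.HasSk n (X.presheaf.stalk x) (X.presheaf.stalk x) ↔
        LocCoh.HasSk n (Y.presheaf.stalk (f x)) (Y.presheaf.stalk (f x))) ∧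
      (LocCoh.HasRk n (X.presheaf.stalk x) ↔ LocCoh.HasRk n (Y.presheaf.stalk (f x)))) ∧
    ringKrullDim (X.presheaf.stalk x) +
        ((LocCoh.depth (Y.presheaf.stalk (f x)) (Y.presheaf.stalk (f x)) : ℕ∞) : WithBot ℕ∞) =
      ringKrullDim (Y.presheaf.stalk (f x)) +
        ((LocCoh.depth (X.presheaf.stalk x) (X.presheaf.stalk x) : ℕ∞) : WithBot ℕ∞) := by
  have : IsLocallyNoetherian X := LocallyOfFiniteType.isLocallyNoetherian f
  obtain ⟨V, U, e, hxU, hsm⟩ := exists_affine_smooth f x hx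
  let alg : Algebra Γ(Y, V.1) Γ(X, U.1) := (f.appLE V.1 U.1 e).hom.toAlgebra
  have hsm' : Algebra.Smooth Γ(Y, V.1) Γ(X, U.1) := hsm
  have hNS : IsNoetherianRing Γ(Y, V.1) := IsLocallyNoetherian.component_noetherian V
  have hNX : IsNoetherianRing Γ(X, U.1) := IsLocallyNoetherian.component_noetherian U
  have hcomap : (U.2.primeIdealOf ⟨x, hxU⟩).asIdeal.comap (algebraMap Γ(Y, V.1) Γ(X, U.1)) =
      (V.2.primeIdealOf ⟨f x, e hxU⟩).asIdeal :=
    congr($(IsAffineOpen.comap_primeIdealOf_appLE V.1 V.2 U.1 U.2 e hxU).1)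
  let aS := Y.presheaf.algebra_section_stalk ⟨f x, e hxU⟩
  have lS := V.2.isLocalization_stalk ⟨f x, e hxU⟩
  let aX := X.presheaf.algebra_section_stalk ⟨x, hxU⟩
  have lX := U.2.isLocalization_stalk ⟨x, hxU⟩
  let eS : Y.presheaf.stalk (f x) ≃+*
      Localization.AtPrime (V.2.primeIdealOf ⟨f x, e hxU⟩).asIdeal :=
    (IsLocalization.algEquiv (V.2.primeIdealOf ⟨f x, e hxU⟩).asIdeal.primeCompl
      (Y.presheaf.stalk (f x))
      (Localization.AtPrime (V.2.primeIdealOf ⟨f x, e hxU⟩).asIdeal)).toRingEquiv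
  let eX : X.presheaf.stalk x ≃+* Localization.AtPrime (U.2.primeIdealOf ⟨x, hxU⟩).asIdeal :=
    (IsLocalization.algEquiv (U.2.primeIdealOf ⟨x, hxU⟩).asIdeal.primeCompl
      (X.presheaf.stalk x)
      (Localization.AtPrime (U.2.primeIdealOf ⟨x, hxU⟩).asIdeal)).toRingEquiv
  refine ⟨fun n => ⟨?_, ?_⟩, ?_⟩
  · rw [SyntLocal33.hasSk_self_iff_of_ringEquiv eS n, SyntLocal33.hasSk_self_iff_of_ringEquiv eX n]
    exact (hasSk_localization_iff n _ _ hcomap).symm
  · rw [hasRk_iff_of_ringEquiv eS n, hasRk_iff_of_ringEquiv eX n]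
    exact (hasRk_localization_iff n _ _ hcomap).symm
  · rw [ringKrullDim_eq_of_ringEquiv eS, ringKrullDim_eq_of_ringEquiv eX,
      CMRingEquiv96.depth_eq eS, CMRingEquiv96.depth_eq eX]
    exact (codepth_localization_eq _ _ hcomap).symm

end Scheme

end Groth.Agent.Lib.H74SmoothSk
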