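import Mathlib
import Groth.Agent.Lib.H74GrReg3

/-!
# Socles of graded local cohomology along a regular sequence (helper74)
-/

set_option autoImplicit false
set_option linter.unusedSectionVars false
set_option linter.style.haveILetI false

universe u

namespace Groth.Agent.Lib.H74Soc

open DirectSum GrLC Groth.Agent.Lib.H74GrArt Groth.Agent.Lib.H74GrLES
  Groth.Agent.Lib.H87GrShift Groth.Agent.Lib.H87GrMod Groth.Agent.Lib.H74GrReg
open scoped Pointwise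

section Soc

variable {R : Type u} [CommRing R] {𝒜 : ℤ → AddSubgroup R} [GradedRing 𝒜]
variable {M : Type u} [AddCommGroup M] [Module R M] {ℳ : ℤ → AddSubgroup M}
  [Decomposition ℳ] [SetLike.GradedSMul 𝒜 ℳ]
variable {N : Type u} [AddCommGroup N] [Module R N] {𝒩 : ℤ → AddSubgroup N}
  [Decomposition 𝒩] [SetLike.GradedSMul 𝒜 𝒩]

/-- The degree-`j` piece of the socle of `H^i_m(M)`. -/
def socComp (E : StarInjRes 𝒜 ℳ) (m : HomogeneousIdeal 𝒜) (i : ℕ) (j : ℤ) :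
    Submodule (deg0 𝒜) (E.H m i) where
  carrier := {h | h ∈ E.Hcomp m i j ∧ ∀ a ∈ m.toIdeal, a • h = 0}
  zero_mem' := ⟨zero_mem _, fun a _ => smul_zero a⟩
  add_mem' := by
    rintro h h' ⟨h1, h2⟩ ⟨h1', h2'⟩
    exact ⟨add_mem h1 h1', fun a ha => by rw [smul_add, h2 a ha, h2' a ha, add_zero]⟩
  smul_mem' := by
    rintro c h ⟨h1, h2⟩
    refine ⟨(E.Hcomp m i j).smul_mem c h1, fun a ha => ?_⟩
    have hc : c • h = (c : R) • h := rfl
    rw [hc, smul_comm, h2 a ha, smul_zero]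

theorem mem_socComp (E : StarInjRes 𝒜 ℳ) (m : HomogeneousIdeal 𝒜) (i : ℕ) (j : ℤ) (h : E.H m i) :
    h ∈ socComp E m i j ↔ h ∈ E.Hcomp m i j ∧ ∀ a ∈ m.toIdeal, a • h = 0 := Iff.rfl

/-- **Socle step**: if `H^e(M) = 0` and `x ∈ m` is a homogeneous `M`-regular element of degree
`k`, then the connecting map identifies `Soc(H^e(M/xM))_j` with `Soc(H^{e+1}(M))_{j-k}`. -/
theorem soc_step (E : StarInjRes 𝒜 ℳ) (F : StarInjRes 𝒜 𝒩) (m : HomogeneousIdeal 𝒜) {x : R}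
    {k : ℤ} (hx : x ∈ 𝒜 k) (hxm : x ∈ m.toIdeal) (hreg : IsSMulRegular M x)
    {π : M →ₗ[R] N} (hπ : IsGrHom ℳ 𝒩 π) (hπs : Function.Surjective π)
    (hker : LinearMap.ker π = LinearMap.range (x • (LinearMap.id : M →ₗ[R] M)))
    (e : ℕ) (hlow : Subsingleton (E.H m e)) (j : ℤ) :
    Nonempty (socComp F m e j ≃ₗ[deg0 𝒜] socComp E m (e + 1) (j + -k)) := by
  obtain ⟨cπ, hcπ⟩ := exists_cmap E F (isGrHomDeg_zero_of hπ)
  obtain ⟨δ, hδ, -, h2, h3⟩ := exists_les_smul E F hx hreg hπ hπs hker m cπ hcπ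
  have hinj : ∀ η : F.H m e, δ e η = 0 → η = 0 := by
    intro η hη
    obtain ⟨ξ, rfl⟩ := (h2 e η).mp hη
    rw [Subsingleton.elim ξ 0, map_zero]
  let Φ : socComp F m e j →ₗ[deg0 𝒜] socComp E m (e + 1) (j + -k) :=
    { toFun := fun h => ⟨δ e h.1, hδ e j h.1 h.2.1, fun a ha => by
        rw [← map_smul, h.2.2 a ha, map_zero]⟩
      map_add' := fun h h' => Subtype.ext (map_add (δ e) h.1 h'.1)
      map_smul' := fun c h => Subtype.ext (by
        show δ e ((c : R) • h.1) = (c : R) • δ e h.1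
        rw [map_smul]) }
  refine ⟨LinearEquiv.ofBijective Φ ⟨?_, ?_⟩⟩
  · intro h h' hh
    apply Subtype.ext
    have h1 : δ e h.1 = δ e h'.1 := congrArg Subtype.val hh
    have h2' : δ e (h.1 - h'.1) = 0 := by rw [map_sub, h1, sub_self]
    exact sub_eq_zero.mp (hinj _ h2')
  · rintro ⟨h', hh', hkill⟩
    have hxh' : x • h' = 0 := hkill x hxm
    obtain ⟨η, rfl⟩ := (h3 e h').mp hxh'
    letI := decompositionHgr 𝒜 ℳ m E (e + 1)
    letI := decompositionHgr 𝒜 𝒩 m F e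
    have hdeg : IsGrHomDeg (F.Hgr m e) (E.Hgr m (e + 1)) (δ e) (-k) := fun g ξ hξ => hδ e g ξ hξ
    have key := decompose_map_deg (F.Hgr m e) (E.Hgr m (e + 1)) hdeg η j
    have hh'' : δ e η ∈ E.Hgr m (e + 1) (j + -k) := hh'
    rw [decompose_of_mem_same _ hh''] at key
    set η' : F.H m e := (decompose (F.Hgr m e) η j : F.H m e) with hη'
    have hη'mem : η' ∈ F.Hcomp m e j := (decompose (F.Hgr m e) η j).2
    refine ⟨⟨η', hη'mem, fun a ha => ?_⟩, Subtype.ext key.symm⟩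
    apply hinj
    rw [map_smul, ← key, hkill a ha]

/-- A graded bijection induces isomorphisms of the socle pieces. -/
theorem soc_equiv_of_bijective (E : StarInjRes 𝒜 ℳ) (F : StarInjRes 𝒜 𝒩) (m : HomogeneousIdeal 𝒜)
    {π : M →ₗ[R] N} (hπ : IsGrHom ℳ 𝒩 π) (hbij : Function.Bijective π) (e : ℕ) (j : ℤ) :
    Nonempty (socComp F m e j ≃ₗ[deg0 𝒜] socComp E m e j) := by
  let φ : M ≃ₗ[R] N := LinearEquiv.ofBijective π hbij
  have hφ : ∀ z, φ z = π z := fun z => rfl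
  have hinv : IsGrHom 𝒩 ℳ φ.symm.toLinearMap := by
    intro g y hy
    obtain ⟨z, rfl⟩ := hbij.2 y
    have h1 : π (decompose ℳ z g : M) = π z := by
      have := decompose_map (ℳ := ℳ) (𝒩 := 𝒩) hπ z g
      rw [← this, decompose_of_mem_same 𝒩 hy]
    have h2 : (decompose ℳ z g : M) = z := hbij.1 h1
    show φ.symm (π z) ∈ ℳ g
    rw [← hφ, LinearEquiv.symm_apply_apply, ← h2]
    exact (decompose ℳ z g).2
  obtain ⟨c, hc⟩ := exists_cmap E F (isGrHomDeg_zero_of hπ)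
  obtain ⟨c', hc'⟩ := exists_cmap F E (isGrHomDeg_zero_of hinv)
  have hcc' : ∀ i, c'.Hmap m i ∘ₗ c.Hmap m i = LinearMap.id := by
    intro i
    rw [← CMap.Hmap_comp m c c' 0 (add_zero 0), ← CMap.Hmap_id (E := E) m i]
    apply CMap.Hmap_eq_of_ε
    intro z
    show c'.φ 0 (c.φ 0 (E.ε z)) = E.ε z
    rw [hc, hc']
    show E.ε (φ.symm (π z)) = E.ε z
    rw [← hφ, LinearEquiv.symm_apply_apply]
  have hc'c : ∀ i, c.Hmap m i ∘ₗ c'.Hmap m i = LinearMap.id := by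
    intro i
    rw [← CMap.Hmap_comp m c' c 0 (add_zero 0), ← CMap.Hmap_id (E := F) m i]
    apply CMap.Hmap_eq_of_ε
    intro z
    show c.φ 0 (c'.φ 0 (F.ε z)) = F.ε z
    rw [hc', hc]
    show F.ε (π (φ.symm z)) = F.ε z
    rw [← hφ, LinearEquiv.apply_symm_apply]
  have hmem' : ∀ h : F.H m e, h ∈ socComp F m e j → c'.Hmap m e h ∈ socComp E m e j := by
    rintro h ⟨h1, h2⟩
    have h3 := CMap.Hmap_mem_Hcomp m c' e h1
    rw [add_zero] at h3
    exact ⟨h3, fun a ha => by rw [← map_smul, h2 a ha, map_zero]⟩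
  have hmem : ∀ h : E.H m e, h ∈ socComp E m e j → c.Hmap m e h ∈ socComp F m e j := by
    rintro h ⟨h1, h2⟩
    have h3 := CMap.Hmap_mem_Hcomp m c e h1
    rw [add_zero] at h3
    exact ⟨h3, fun a ha => by rw [← map_smul, h2 a ha, map_zero]⟩
  refine ⟨{ toFun := fun h => ⟨c'.Hmap m e h.1, hmem' h.1 h.2⟩
            invFun := fun h => ⟨c.Hmap m e h.1, hmem h.1 h.2⟩
            map_add' := fun h h' => Subtype.ext (map_add _ h.1 h'.1)
            map_smul' := fun a h => Subtype.ext (by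
              show c'.Hmap m e ((a : R) • h.1) = (a : R) • c'.Hmap m e h.1
              rw [map_smul])
            left_inv := fun h => Subtype.ext (LinearMap.congr_fun (hc'c e) h.1)
            right_inv := fun h => Subtype.ext (LinearMap.congr_fun (hcc' e) h.1) }⟩

end Soc

section Claim

variable {R : Type u} [CommRing R] [IsNoetherianRing R] {𝒜 : ℤ → AddSubgroup R} [GradedRing 𝒜]

/-- The statement proved by induction on the length of the regular sequence. -/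
def SocClaimAt (m : HomogeneousIdeal 𝒜) (t : ℕ) : Prop :=
  ∀ (M : Type u) [AddCommGroup M] [Module R M] (ℳ : ℤ → AddSubgroup M)
    [Decomposition ℳ] [SetLike.GradedSMul 𝒜 ℳ] (E : StarInjRes 𝒜 ℳ) (e : ℕ)
    (_ : ∀ i, i < e + t → Subsingleton (E.H m i))
    (f : Fin t → R) (deg : Fin t → ℤ) (_ : ∀ i, f i ∈ 𝒜 (deg i))
    (_ : ∀ i, f i ∈ m.toIdeal)
    (_ : RingTheory.Sequence.IsWeaklyRegular M (List.ofFn f))
    (N : Type u) [AddCommGroup N] [Module R N] (𝒩 : ℤ → AddSubgroup N)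
    [Decomposition 𝒩] [SetLike.GradedSMul 𝒜 𝒩] (π : M →ₗ[R] N) (_ : IsGrHom ℳ 𝒩 π)
    (_ : Function.Surjective π)
    (_ : LinearMap.ker π = Ideal.span (Set.range f) • (⊤ : Submodule R M))
    (F : StarInjRes 𝒜 𝒩) (j j' : ℤ) (_ : j' = j + -(∑ i, deg i)),
    Nonempty (socComp F m e j ≃ₗ[deg0 𝒜] socComp E m (e + t) j')

variable {M : Type u} [AddCommGroup M] [Module R M] {ℳ : ℤ → AddSubgroup M}
  [Decomposition ℳ] [SetLike.GradedSMul 𝒜 ℳ]
variable {N : Type u} [AddCommGroup N] [Module R N] {𝒩 : ℤ → AddSubgroup N}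
  [Decomposition 𝒩] [SetLike.GradedSMul 𝒜 𝒩]

theorem soc_claim_zero (m : HomogeneousIdeal 𝒜) : SocClaimAt m 0 := by
  intro M _ _ ℳ _ _ E e _ f deg _ _ _ N _ _ 𝒩 _ _ π hπ hπs hπk F j j' hj
  have hinj : Function.Injective π := by
    rw [← LinearMap.ker_eq_bot, hπk]
    have : Set.range f = ∅ := Set.range_eq_empty f
    rw [this, Ideal.span_empty, Submodule.bot_smul]
  have hjj : j' = j := by
    rw [hj, Finset.univ_eq_empty, Finset.sum_empty, neg_zero, add_zero]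
  subst hjj
  exact soc_equiv_of_bijective E F m hπ ⟨hinj, hπs⟩ e j'

theorem soc_claim_succ_aux (m : HomogeneousIdeal 𝒜) (t : ℕ) (ih : SocClaimAt m t)
    (E : StarInjRes 𝒜 ℳ) (e : ℕ) (hlow : ∀ i, i < e + (t + 1) → Subsingleton (E.H m i))
    (f : Fin (t + 1) → R) (deg : Fin (t + 1) → ℤ) (hfdeg : ∀ i, f i ∈ 𝒜 (deg i))
    (hfm : ∀ i, f i ∈ m.toIdeal)
    (hreg0 : IsSMulRegular M (f 0))
    (hreg' : RingTheory.Sequence.IsWeaklyRegular (QuotSMulTop (f 0) M)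
      (List.ofFn fun i : Fin t => f i.succ))
    (π : M →ₗ[R] N) (hπ : IsGrHom ℳ 𝒩 π) (hπs : Function.Surjective π)
    (hπk : LinearMap.ker π = Ideal.span (Set.range f) • (⊤ : Submodule R M))
    (F : StarInjRes 𝒜 𝒩)
    {M₁ : Type u} [AddCommGroup M₁] [Module R M₁] {ℳ₁ : ℤ → AddSubgroup M₁}
    [Decomposition ℳ₁] [SetLike.GradedSMul 𝒜 ℳ₁]
    (q : M →ₗ[R] M₁) (hq : IsGrHom ℳ ℳ₁ q) (hqs : Function.Surjective q)
    (hqk : LinearMap.ker q = LinearMap.range (f 0 • (LinearMap.id : M →ₗ[R] M)))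
    (E₁ : StarInjRes 𝒜 ℳ₁) (j j' : ℤ) (hj : j' = j + -(∑ i, deg i)) :
    Nonempty (socComp F m e j ≃ₗ[deg0 𝒜] socComp E m (e + (t + 1)) j') := by
  have hle : LinearMap.ker q ≤ LinearMap.ker π := by
    rw [hqk, hπk]
    rintro _ ⟨n, rfl⟩
    exact Submodule.smul_mem_smul (Ideal.subset_span ⟨0, rfl⟩) Submodule.mem_top
  obtain ⟨π₁, hπ₁⟩ := exists_factor q hqs π hle
  have hπ₁gr : IsGrHom ℳ₁ 𝒩 π₁ := by
    intro g y hy
    obtain ⟨z, rfl⟩ := hqs y
    have h1 : q (decompose ℳ z g : M) = q z := by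
      have := decompose_map (ℳ := ℳ) (𝒩 := ℳ₁) hq z g
      rw [← this, decompose_of_mem_same ℳ₁ hy]
    rw [← h1, hπ₁]
    exact hπ g _ (decompose ℳ z g).2
  have hπ₁s : Function.Surjective π₁ := by
    intro y
    obtain ⟨z, rfl⟩ := hπs y
    exact ⟨q z, hπ₁ z⟩
  have hπ₁k := ker_factor f q hqs hqk π hπk π₁ hπ₁
  have hBeq : (f 0 • (⊤ : Submodule R M)) = LinearMap.ker q := by
    rw [hqk]
    ext z
    rw [Submodule.mem_smul_pointwise_iff_exists, LinearMap.mem_range]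
    constructor
    · rintro ⟨y, -, rfl⟩
      exact ⟨y, rfl⟩
    · rintro ⟨y, rfl⟩
      exact ⟨y, Submodule.mem_top, rfl⟩
  let eqv : QuotSMulTop (f 0) M ≃ₗ[R] M₁ :=
    (Submodule.quotEquivOfEq _ _ hBeq).trans (q.quotKerEquivOfSurjective hqs)
  have hreg₁ : RingTheory.Sequence.IsWeaklyRegular M₁ (List.ofFn fun i : Fin t => f i.succ) :=
    (eqv.isWeaklyRegular_congr _).mp hreg'
  have hlow₁ : ∀ i, i < e + t → Subsingleton (E₁.H m i) := fun i hi =>
    subsingleton_of_les E E₁ m (hfdeg 0) hreg0 hq hqs hqk i (hlow i (by omega))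
      (hlow (i + 1) (by omega))
  obtain ⟨e2⟩ := ih M₁ ℳ₁ E₁ e hlow₁ (fun i => f i.succ) (fun i => deg i.succ)
    (fun i => hfdeg i.succ) (fun i => hfm i.succ) hreg₁ N 𝒩 π₁ hπ₁gr hπ₁s
    hπ₁k F j (j + -(∑ i : Fin t, deg i.succ)) rfl
  obtain ⟨e1⟩ := soc_step E E₁ m (hfdeg 0) (hfm 0) hreg0 hq hqs hqk (e + t)
    (hlow (e + t) (by omega)) (j + -(∑ i : Fin t, deg i.succ))
  have hidx : j + -(∑ i : Fin t, deg i.succ) + -deg 0 = j' := by
    rw [hj, Fin.sum_univ_succ]; ring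
  rw [hidx] at e1
  exact ⟨e2.trans e1⟩

/-- **Socles along a regular sequence**: if `H^i_m(M) = 0` for `i < e + t` and `f_1, …, f_t ∈ m`
is an `M`-regular sequence of homogeneous elements of degrees `d_i`, then
`Soc(H^e_m(M/(f)M))_j ≅ Soc(H^{e+t}_m(M))_{j - d_1 - ⋯ - d_t}`. -/
theorem soc_claim (m : HomogeneousIdeal 𝒜) (t : ℕ) : SocClaimAt m t := by
  induction t with
  | zero => exact soc_claim_zero m
  | succ t ih =>
    intro M _ _ ℳ _ _ E e hlow f deg hfdeg hfm hreg N _ _ 𝒩 _ _ π hπ hπs hπk F j j' hj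
    rw [List.ofFn_succ, RingTheory.Sequence.isWeaklyRegular_cons_iff] at hreg
    obtain ⟨hreg0, hreg'⟩ := hreg
    have hB := isHomogeneous_range_smul (ℳ := ℳ) (hfdeg 0)
    obtain ⟨E₁⟩ := Groth.Agent.S13215.result R 𝒜 _
      (Groth.Agent.S13215.quotGMod 𝒜 ℳ _ hB).gr
    refine soc_claim_succ_aux m t ih E e hlow f deg hfdeg hfm hreg0 hreg' π hπ hπs hπk F
      (Groth.Agent.S13215.quotMap 𝒜 ℳ _ hB) (Groth.Agent.S13215.quotMap_isGrHom 𝒜 ℳ _ hB)
      (Groth.Agent.S13215.quotMap_surjective 𝒜 ℳ _ hB) ?_ E₁ j j' hj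
    ext z
    rw [LinearMap.mem_ker, Groth.Agent.S13215.quotMap_eq_zero_iff]

end Claim

end Groth.Agent.Lib.H74Soc
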