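import Mathlib
import Groth.Agent.Lib.H74Soc1
import Groth.Agent.Lib.H74GrSerre2
import Groth.Agent.Lib.H74Matlis1

/-!
# Socles of graded local cohomology, part 2: the base case `R/m` (helper74)
-/

set_option autoImplicit false
set_option linter.unusedSectionVars false
set_option linter.style.haveILetI false

universe u

namespace Groth.Agent.Lib.H74Soc

open DirectSum GrLC Groth.Agent.Lib.H74GrArt Groth.Agent.Lib.H74GrLES
  Groth.Agent.Lib.H87GrShift Groth.Agent.Lib.H87GrMod Groth.Agent.Lib.H74GrReg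
  Groth.Agent.Lib.H74GrSerre Groth.Agent.Lib.H74Matlis
open scoped Pointwise

theorem isSimpleModule_self_of_isField {K : Type*} [CommRing K] (hK : IsField K) :
    IsSimpleModule K K := by
  letI := hK.toField
  infer_instance

theorem exists_functional_of_notMem {K : Type*} [CommRing K] (hK : IsField K)
    {V : Type*} [AddCommGroup V] [Module K V] (W : Submodule K V) {c : V} (hc : c ∉ W) :
    ∃ lf : V →ₗ[K] K, (∀ w ∈ W, lf w = 0) ∧ lf c ≠ 0 := by
  letI := hK.toField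
  obtain ⟨f, hf, hW⟩ := Submodule.exists_dual_map_eq_bot_of_notMem hc inferInstance
  refine ⟨f, fun w hw => ?_, hf⟩
  have : f w ∈ W.map f := ⟨w, hw, rfl⟩
  rw [hW] at this
  exact (Submodule.mem_bot K).mp this

section Base

variable {R : Type u} [CommRing R] {𝒜 : ℤ → AddSubgroup R} [GradedRing 𝒜]
  (hpos : ∀ n : ℤ, n < 0 → 𝒜 n = ⊥) (h0 : IsField (deg0 𝒜))
  (m : HomogeneousIdeal 𝒜)
  (hmsp : m.toIdeal = Ideal.span (⋃ n ∈ Set.Ioi (0 : ℤ), (𝒜 n : Set R)))
variable {N : Type u} [AddCommGroup N] [Module R N] {𝒩 : ℤ → AddSubgroup N}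
  [Decomposition 𝒩] [SetLike.GradedSMul 𝒜 𝒩]
  {π : R →ₗ[R] N} (hπ : IsGrHom 𝒜 𝒩 π) (hπs : Function.Surjective π)
  (hker : ∀ r : R, π r = 0 ↔ r ∈ m.toIdeal)
  (F : StarInjRes 𝒜 𝒩)

include hπs hker in
theorem smul_eq_zero_of_mem_base {a : R} (ha : a ∈ m.toIdeal) (y : N) : a • y = 0 := by
  obtain ⟨r, rfl⟩ := hπs y
  rw [← map_smul, hker]
  exact m.toIdeal.mul_mem_right r ha

include hπs hker in
theorem smul_H_zero_eq_zero {a : R} (ha : a ∈ m.toIdeal) (η : F.H m 0) : a • η = 0 := by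
  obtain ⟨z, rfl⟩ := toH_surjective m F 0 η
  rw [← map_smul]
  have hz : (z : (F.X 0).carrier) ∈ LinearMap.range F.ε := by
    rw [← F.exact_zero]; exact z.2.2
  obtain ⟨n, hn⟩ := hz
  have : a • z = 0 := by
    apply Subtype.ext
    show a • (z : (F.X 0).carrier) = 0
    rw [← hn, ← map_smul, smul_eq_zero_of_mem_base m hπs hker ha n, map_zero]
  rw [this, map_zero]

include hπs hker in
theorem socComp_zero_eq (j : ℤ) : socComp F m 0 j = F.Hcomp m 0 j := by
  ext η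
  rw [mem_socComp]
  exact ⟨fun h => h.1, fun h => ⟨h, fun a ha => smul_H_zero_eq_zero m hπs hker F ha η⟩⟩

include hπs hker in
theorem gam_base_eq_top : gam m.toIdeal N = ⊤ := by
  rw [eq_top_iff]
  intro y _
  refine ⟨1, fun r hr => ?_⟩
  rw [pow_one] at hr
  exact smul_eq_zero_of_mem_base m hπs hker hr y

include hpos hmsp hπ hπs hker in
theorem comp_base_eq_bot {j : ℤ} (hj : j ≠ 0) : comp 𝒜 𝒩 j = ⊥ := by
  rw [← map_comp_of_surjective (𝒜 := 𝒜) (ℳ := 𝒜) hπ hπs j, Submodule.eq_bot_iff]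
  rintro _ ⟨r, hr, rfl⟩
  have hr' : r ∈ 𝒜 j := hr
  show π r = 0
  rcases lt_or_gt_of_ne hj with hlt | hgt
  · have : r ∈ (⊥ : AddSubgroup R) := hpos j hlt ▸ hr'
    have h0 : r = 0 := this
    rw [h0, map_zero]
  · rw [hker]
    exact mem_m_of_pos 𝒜 m hmsp hgt hr'

/-- `R_0 ≅ (R_0 as a piece of R)`. -/
def deg0EquivComp : deg0 𝒜 ≃ₗ[deg0 𝒜] comp 𝒜 𝒜 0 where
  toFun a := ⟨a.1, a.2⟩
  invFun a := ⟨a.1, a.2⟩
  map_add' _ _ := rfl
  map_smul' _ _ := rfl
  left_inv _ := rfl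
  right_inv _ := rfl

include hpos h0 hmsp hπ hπs hker in
theorem length_comp_base_zero : Module.length (deg0 𝒜) (comp 𝒜 𝒩 0) = 1 := by
  rw [← map_comp_of_surjective (𝒜 := 𝒜) (ℳ := 𝒜) hπ hπs 0, length_map_of_injOn]
  · rw [← (deg0EquivComp (𝒜 := 𝒜)).length_eq]
    have := isSimpleModule_self_of_isField h0
    exact Module.length_eq_one _ _
  · intro r hr hr0
    have hr0' : π r = 0 := hr0
    rw [hker] at hr0'
    exact eq_zero_of_mem_m_of_mem_zero 𝒜 hpos m hmsp hr hr0'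

include hpos h0 hmsp hπ hπs hker in
/-- The socle of `H^0_m(R/m)`: one-dimensional, in degree `0`. -/
theorem length_socComp_base (j : ℤ) :
    Module.length (deg0 𝒜) (socComp F m 0 j) = if j = 0 then 1 else 0 := by
  rw [socComp_zero_eq m hπs hker F j, length_Hcomp_zero]
  have hg : gamComp 𝒜 𝒩 m.toIdeal j = comp 𝒜 𝒩 j := by
    unfold gamComp
    rw [gam_base_eq_top m hπs hker]
    simp
  rw [hg]
  split_ifs with hj
  · subst hj
    exact length_comp_base_zero hpos h0 m hmsp hπ hπs hker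
  · rw [comp_base_eq_bot hpos m hmsp hπ hπs hker hj]
    exact Module.length_eq_zero

end Base

end Groth.Agent.Lib.H74Soc
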