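import Mathlib
import Groth.Agent.Lib.H74Soc2
import Groth.Agent.Lib.H74GrCM
import Groth.Agent.Lib.H74Matlis5
import Groth.Agent.Lib.GrLCMap

set_option autoImplicit false
set_option linter.unusedSectionVars false
set_option linter.style.haveILetI false

universe u

namespace Groth.Agent.Lib.H74Soc

open DirectSum GrLC Groth.Agent.Lib.H74GrArt Groth.Agent.Lib.H74GrLES
  Groth.Agent.Lib.H87GrShift Groth.Agent.Lib.H87GrMod Groth.Agent.Lib.H74GrReg
  Groth.Agent.Lib.H74GrSerre Groth.Agent.Lib.H74Matlis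
open scoped Pointwise

section Top

variable {R : Type u} [CommRing R] [IsNoetherianRing R] {𝒜 : ℤ → AddSubgroup R} [GradedRing 𝒜]
  (hpos : ∀ n : ℤ, n < 0 → 𝒜 n = ⊥) (h0 : IsField (deg0 𝒜))
  (m : HomogeneousIdeal 𝒜)
  (hmsp : m.toIdeal = Ideal.span (⋃ n ∈ Set.Ioi (0 : ℤ), (𝒜 n : Set R)))
  {N : ℕ} (f : Fin N → R) (deg : Fin N → ℤ) (hfdeg : ∀ i, f i ∈ 𝒜 (deg i))
  (hspan : Ideal.span (Set.range f) = m.toIdeal)
  (hreg : RingTheory.Sequence.IsWeaklyRegular R (List.ofFn f))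
  (I : StarInjRes 𝒜 𝒜)

include hpos h0 hmsp in
theorem m_ne_top [Nontrivial R] : m.toIdeal ≠ ⊤ := by
  intro h
  have h1 : (1 : R) ∈ m.toIdeal := h ▸ Submodule.mem_top
  have := eq_zero_of_mem_m_of_mem_zero 𝒜 hpos m hmsp SetLike.GradedOne.one_mem h1
  exact one_ne_zero this

include hpos h0 hmsp hspan hreg in
theorem subsingleton_H_of_lt [Nontrivial R] (i : ℕ) (hi : i < N) : Subsingleton (I.H m i) := by
  have hne := m_ne_top hpos h0 m hmsp
  have hIM : m.toIdeal • (⊤ : Submodule R R) ≠ ⊤ := by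
    rw [Ideal.smul_top_eq_map]
    simpa using hne
  refine Groth.Agent.Lib.H74GrCM.subsingleton_H_of_lt_idealDepth 𝒜 m I hIM N ?_ i hi
  unfold LocCoh.idealDepth
  rw [if_neg hIM]
  refine le_iSup₂_of_le (List.ofFn f) ⟨hreg, ?_⟩ (by simp)
  intro r hr
  rw [List.mem_ofFn] at hr
  obtain ⟨i, rfl⟩ := hr
  rw [← hspan]
  exact Ideal.subset_span ⟨i, rfl⟩

include hpos h0 hmsp hfdeg hspan hreg in
/-- The socle of `H^N_m(R)` is one-dimensional, in degree `-Σ deg f_i`. -/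
theorem length_socComp_top [Nontrivial R] (j' : ℤ) :
    Module.length (deg0 𝒜) (socComp I m N j') = if j' = -(∑ i, deg i) then 1 else 0 := by
  have hB : (m.toIdeal : Submodule R R).IsHomogeneous 𝒜 := m.isHomogeneous
  obtain ⟨F⟩ := Groth.Agent.S13215.result R 𝒜 _
    (Groth.Agent.S13215.quotGMod 𝒜 𝒜 _ hB).gr
  have hfm : ∀ i, f i ∈ m.toIdeal := fun i => by
    rw [← hspan]; exact Ideal.subset_span ⟨i, rfl⟩
  have hlow : ∀ i, i < 0 + N → Subsingleton (I.H m i) := fun i hi =>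
    subsingleton_H_of_lt hpos h0 m hmsp f hspan hreg I i (by omega)
  have hπk : LinearMap.ker (Groth.Agent.S13215.quotMap 𝒜 𝒜 _ hB) =
      Ideal.span (Set.range f) • (⊤ : Submodule R R) := by
    ext z
    rw [LinearMap.mem_ker, Groth.Agent.S13215.quotMap_eq_zero_iff, hspan]
    simp
  obtain ⟨e⟩ := soc_claim m N R 𝒜 I 0 hlow f deg hfdeg hfm hreg _ _
    (Groth.Agent.S13215.quotMap 𝒜 𝒜 _ hB) (Groth.Agent.S13215.quotMap_isGrHom 𝒜 𝒜 _ hB)
    (Groth.Agent.S13215.quotMap_surjective 𝒜 𝒜 _ hB) hπk F (j' + ∑ i, deg i) j' (by ring)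
  have hlen : Module.length (deg0 𝒜) (socComp I m (0 + N) j') =
      if j' = -(∑ i, deg i) then 1 else 0 := by
    rw [← e.length_eq, length_socComp_base hpos h0 m hmsp
      (Groth.Agent.S13215.quotMap_isGrHom 𝒜 𝒜 _ hB)
      (Groth.Agent.S13215.quotMap_surjective 𝒜 𝒜 _ hB)
      (fun r => Groth.Agent.S13215.quotMap_eq_zero_iff 𝒜 𝒜 _ hB r) F]
    have : j' + ∑ i, deg i = 0 ↔ j' = -(∑ i, deg i) := by
      constructor <;> intro h <;> linarith
    simp only [this]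
  have hN : 0 + N = N := Nat.zero_add N
  rw [hN] at hlen
  exact hlen

end Top


section Reach

variable {R : Type u} [CommRing R] {𝒜 : ℤ → AddSubgroup R} [GradedRing 𝒜]
  (m : HomogeneousIdeal 𝒜)
  (hmsp : m.toIdeal = Ideal.span (⋃ n ∈ Set.Ioi (0 : ℤ), (𝒜 n : Set R)))
variable {M : Type u} [AddCommGroup M] [Module R M] {ℳ : ℤ → AddSubgroup M}
  [Decomposition ℳ] [SetLike.GradedSMul 𝒜 ℳ] (E : StarInjRes 𝒜 ℳ) (i : ℕ)

include hmsp in
theorem smul_eq_zero_of_forall_pos {X : Type*} [AddCommGroup X] [Module R X] (h : X)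
    (hk : ∀ d : ℤ, 0 < d → ∀ a ∈ 𝒜 d, a • h = 0) : ∀ a ∈ m.toIdeal, a • h = 0 := by
  have hle : m.toIdeal ≤ LinearMap.ker (LinearMap.toSpanSingleton R X h) := by
    rw [hmsp, Ideal.span_le]
    intro a ha
    obtain ⟨d, hd, had⟩ := Set.mem_iUnion₂.mp ha
    show LinearMap.toSpanSingleton R X h a = 0
    rw [LinearMap.toSpanSingleton_apply]
    exact hk d hd a had
  intro a ha
  have := hle ha
  rwa [LinearMap.mem_ker, LinearMap.toSpanSingleton_apply] at this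

include hmsp in
theorem exists_smul_mem_socComp_aux (n : ℕ) : ∀ (j : ℤ) (h : E.H m i), h ∈ E.Hcomp m i j → h ≠ 0 →
    (∀ r ∈ m.toIdeal ^ n, r • h = 0) →
    ∃ d : ℤ, ∃ r ∈ 𝒜 d, r • h ≠ 0 ∧ r • h ∈ socComp E m i (j + d) := by
  induction n with
  | zero =>
    intro j h _ hne hk
    exfalso
    apply hne
    have h1 : (1 : R) ∈ m.toIdeal ^ 0 := by rw [pow_zero, Ideal.one_eq_top]; trivial
    have := hk 1 h1
    rwa [one_smul] at this
  | succ n ih =>
    intro j h hh hne hk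
    by_cases hs : ∀ a ∈ m.toIdeal, a • h = 0
    · refine ⟨0, 1, SetLike.GradedOne.one_mem, by rwa [one_smul], ?_⟩
      rw [one_smul, add_zero]
      exact ⟨hh, hs⟩
    · have hs' : ¬ ∀ d : ℤ, 0 < d → ∀ a ∈ 𝒜 d, a • h = 0 := fun hc =>
        hs (smul_eq_zero_of_forall_pos m hmsp h hc)
      push Not at hs'
      obtain ⟨d₁, hd₁, a, ha, hah⟩ := hs'
      have ham : a ∈ m.toIdeal := mem_m_of_pos 𝒜 m hmsp hd₁ ha
      have hah' : a • h ∈ E.Hcomp m i (j + d₁) :=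
        Groth.Agent.Lib.GrLCMap.smul_mem_Hcomp E m ha i hh
      obtain ⟨d', r', hr', hne', hsoc⟩ := ih (j + d₁) (a • h) hah' hah (fun r hr => by
        rw [← mul_smul]
        apply hk
        rw [pow_succ]
        exact Ideal.mul_mem_mul hr ham)
      refine ⟨d' + d₁, r' * a, SetLike.GradedMul.mul_mem hr' ha, by rwa [mul_smul], ?_⟩
      rw [mul_smul]
      have hidx : j + d₁ + d' = j + (d' + d₁) := by ring
      rw [← hidx]
      exact hsoc

include hmsp in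
/-- Every nonzero homogeneous class of graded local cohomology has a nonzero homogeneous multiple
in the socle. -/
theorem exists_smul_mem_socComp {j : ℤ} {h : E.H m i} (hh : h ∈ E.Hcomp m i j) (hne : h ≠ 0) :
    ∃ d : ℤ, ∃ r ∈ 𝒜 d, r • h ≠ 0 ∧ r • h ∈ socComp E m i (j + d) := by
  obtain ⟨z, rfl⟩ := toH_surjective m E i h
  obtain ⟨n, hn⟩ := z.2.1
  refine exists_smul_mem_socComp_aux m hmsp E i n j _ hh hne (fun r hr => ?_)
  rw [← map_smul]
  have : r • z = 0 := Subtype.ext (hn r hr)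
  rw [this, map_zero]

end Reach

section Final

variable {R : Type u} [CommRing R] [IsNoetherianRing R] [IsDomain R]
  {𝒜 : ℤ → AddSubgroup R} [GradedRing 𝒜]
  (hpos : ∀ n : ℤ, n < 0 → 𝒜 n = ⊥) (h0 : IsField (deg0 𝒜))
  (m : HomogeneousIdeal 𝒜)
  (hmsp : m.toIdeal = Ideal.span (⋃ n ∈ Set.Ioi (0 : ℤ), (𝒜 n : Set R)))
  {N : ℕ} (hdim : ringKrullDim R = N)
  (f : Fin N → R) (deg : Fin N → ℤ) (hfdeg : ∀ i, f i ∈ 𝒜 (deg i))
  (hspan : Ideal.span (Set.range f) = m.toIdeal)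
  (hreg : RingTheory.Sequence.IsWeaklyRegular R (List.ofFn f))
  (I : StarInjRes 𝒜 𝒜)

include hpos h0 hmsp hfdeg hspan hreg in
theorem eq_zero_of_mem_socComp_of_ne {j : ℤ} (hj : j ≠ -(∑ i, deg i)) {h : I.H m N}
    (hh : h ∈ socComp I m N j) : h = 0 := by
  have hlen := length_socComp_top hpos h0 m hmsp f deg hfdeg hspan hreg I j
  rw [if_neg hj, Module.length_eq_zero_iff] at hlen
  have := Subsingleton.elim (⟨h, hh⟩ : socComp I m N j) 0
  exact congrArg Subtype.val this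

include hpos h0 hmsp hfdeg hspan hreg in
/-- Every nonzero class in `H^N_m(R)_j` has a nonzero multiple in the socle `H^N_m(R)_{-δ}`. -/
theorem exists_smul_ne_zero_top {j : ℤ} {h : I.H m N} (hh : h ∈ I.Hcomp m N j) (hne : h ≠ 0) :
    ∃ r ∈ 𝒜 (-(∑ i, deg i) - j), r • h ≠ 0 ∧ r • h ∈ socComp I m N (-(∑ i, deg i)) := by
  obtain ⟨d, r, hr, hne', hsoc⟩ := exists_smul_mem_socComp m hmsp I N hh hne
  have hjd : j + d = -(∑ i, deg i) := by
    by_contra hcon
    exact hne' (eq_zero_of_mem_socComp_of_ne hpos h0 m hmsp f deg hfdeg hspan hreg I hcon hsoc)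
  have hd : d = -(∑ i, deg i) - j := by linarith
  subst hd
  rw [hjd] at hsoc
  exact ⟨r, hr, hne', hsoc⟩

include hpos h0 hmsp hfdeg hspan hreg in
theorem mem_socComp_of_mem_Hcomp {h : I.H m N} (hh : h ∈ I.Hcomp m N (-(∑ i, deg i))) :
    h ∈ socComp I m N (-(∑ i, deg i)) := by
  refine ⟨hh, smul_eq_zero_of_forall_pos m hmsp h (fun d hd a ha => ?_)⟩
  by_contra hne
  have hah : a • h ∈ I.Hcomp m N (-(∑ i, deg i) + d) :=
    Groth.Agent.Lib.GrLCMap.smul_mem_Hcomp I m ha N hh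
  obtain ⟨r, hr, hne', -⟩ :=
    exists_smul_ne_zero_top hpos h0 m hmsp f deg hfdeg hspan hreg I hah hne
  have hneg : -(∑ i, deg i) - (-(∑ i, deg i) + d) < 0 := by linarith
  have : r ∈ (⊥ : AddSubgroup R) := hpos _ hneg ▸ hr
  have hr0 : r = 0 := this
  exact hne' (by rw [hr0, zero_smul])

include hdim in
/-- `H^N_m(R)` is divisible by nonzero homogeneous elements. -/
theorem exists_smul_eq_top {d : ℤ} {r : R} (hr : r ∈ 𝒜 d) (hr0 : r ≠ 0) (ξ : I.H m N) :
    ∃ η : I.H m N, r • η = ξ := by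
  have hB := isHomogeneous_range_smul (ℳ := 𝒜) hr
  obtain ⟨F⟩ := Groth.Agent.S13215.result R 𝒜 _
    (Groth.Agent.S13215.quotGMod 𝒜 𝒜 _ hB).gr
  have hπ := Groth.Agent.S13215.quotMap_isGrHom 𝒜 𝒜 _ hB
  have hπs := Groth.Agent.S13215.quotMap_surjective 𝒜 𝒜 _ hB
  have hker : LinearMap.ker (Groth.Agent.S13215.quotMap 𝒜 𝒜 _ hB) =
      LinearMap.range (r • (LinearMap.id : R →ₗ[R] R)) := by
    ext z
    rw [LinearMap.mem_ker, Groth.Agent.S13215.quotMap_eq_zero_iff]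
  have hreg' : IsSMulRegular R r := (IsRegular.of_ne_zero hr0).left.isSMulRegular
  obtain ⟨cπ, hcπ⟩ := exists_cmap I F (isGrHomDeg_zero_of hπ)
  obtain ⟨-, -, h1, -, -⟩ := exists_les_smul I F hr hreg' hπ hπs hker m cπ hcπ
  have hsub : Subsingleton (F.H m N) := by
    refine Groth.Agent.Lib.H74GrCM.subsingleton_H_of_supportDim_lt 𝒜 m F N ?_
    have hkerI : LinearMap.ker (Groth.Agent.S13215.quotMap 𝒜 𝒜 _ hB) = Ideal.span {r} := by
      rw [hker]
      ext z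
      rw [LinearMap.mem_range, Ideal.mem_span_singleton']
      constructor
      · rintro ⟨y, rfl⟩
        exact ⟨y, mul_comm _ _⟩
      · rintro ⟨y, rfl⟩
        exact ⟨y, mul_comm _ _⟩
    let eqv : (R ⧸ Ideal.span {r}) ≃ₗ[R] (Groth.Agent.S13215.quotGMod 𝒜 𝒜 _ hB).carrier :=
      (Submodule.quotEquivOfEq _ _ hkerI.symm).trans
        ((Groth.Agent.S13215.quotMap 𝒜 𝒜 _ hB).quotKerEquivOfSurjective hπs)
    rw [← Module.supportDim_eq_of_equiv eqv, Module.supportDim_quotient_eq_ringKrullDim]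
    have h2 := ringKrullDim_quotient_succ_le_of_nonZeroDivisor
      (mem_nonZeroDivisors_of_ne_zero hr0)
    rw [hdim] at h2
    generalize ringKrullDim (R ⧸ Ideal.span {r}) = x at h2
    induction x using WithBot.recBotCoe with
    | bot => exact WithBot.bot_lt_coe _
    | coe a =>
      have h3 : a + 1 ≤ (N : ℕ∞) := by exact_mod_cast h2
      have h4 : a < (N : ℕ∞) := by
        have hat : a ≠ ⊤ := by
          rintro rfl
          simp at h3
        exact lt_of_lt_of_le (ENat.lt_add_one_iff hat |>.mpr le_rfl) h3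
      exact_mod_cast h4
  exact (h1 N ξ).mp (Subsingleton.elim _ _)

end Final

end Groth.Agent.Lib.H74Soc
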