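import Mathlib
import Groth.Agent.Lib.H74Soc3

/-!
# The canonical module of a graded ring `k[f_1..f_N]`-like ring is `R(-Σ deg f_i)` (helper74)
-/

set_option autoImplicit false
set_option linter.unusedSectionVars false
set_option linter.style.haveILetI false

universe u

namespace Groth.Agent.Lib.H74Soc

open DirectSum GrLC Groth.Agent.Lib.H74GrArt Groth.Agent.Lib.H74GrLES
  Groth.Agent.Lib.H87GrShift Groth.Agent.Lib.H87GrMod Groth.Agent.Lib.H74GrReg
  Groth.Agent.Lib.H74GrSerre Groth.Agent.Lib.H74Matlis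
open scoped Pointwise

section Main

variable {R : Type u} [CommRing R] [IsNoetherianRing R] [IsDomain R]
  {𝒜 : ℤ → AddSubgroup R} [GradedRing 𝒜]
  (hpos : ∀ n : ℤ, n < 0 → 𝒜 n = ⊥) (h0 : IsField (deg0 𝒜))
  (m : HomogeneousIdeal 𝒜)
  (hmsp : m.toIdeal = Ideal.span (⋃ n ∈ Set.Ioi (0 : ℤ), (𝒜 n : Set R)))
  {N : ℕ} (hdim : ringKrullDim R = N)
  (f : Fin N → R) (deg : Fin N → ℤ) (hfdeg : ∀ i, f i ∈ 𝒜 (deg i))
  (hspan : Ideal.span (Set.range f) = m.toIdeal)
  (hreg : RingTheory.Sequence.IsWeaklyRegular R (List.ofFn f))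
  (I : StarInjRes 𝒜 𝒜)
variable {E' : Type u} [AddCommGroup E'] [Module R E'] (𝓔 : ℤ → AddSubgroup E')
  [Decomposition 𝓔] [SetLike.GradedSMul 𝒜 𝓔]
  (e : (R ⧸ m.toIdeal) →ₗ[R] E') (he : IsStarInjHull 𝒜 (quotGr 𝒜 m) 𝓔 e)
variable {C : Type u} [AddCommGroup C] [Module R C] (𝒞 : ℤ → AddSubgroup C)
  [Decomposition 𝒞] [SetLike.GradedSMul 𝒜 𝒞]

include hpos h0 hmsp hdim hfdeg hspan hreg he in
/-- If the `*`maximal ideal of the graded domain `R` (with `R_0` a field) is generated by a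
homogeneous regular sequence `f_1, …, f_N`, `N = dim R`, then the `*`canonical module of `R` is
`R(-Σ deg f_i)`. -/
theorem exists_bijective_of_isStarCanonical (hC : IsStarCanonical 𝒜 𝒞 𝓔 m N I) :
    ∃ g : R →ₗ[R] C, Function.Bijective g ∧ IsGrHomDeg 𝒜 𝒞 g (∑ i, deg i) := by
  classical
  obtain ⟨hfin, φ, hφ⟩ := hC
  have hlen := length_socComp_top hpos h0 m hmsp f deg hfdeg hspan hreg I (-(∑ i, deg i))
  rw [if_pos rfl] at hlen
  have hsimple : IsSimpleModule (deg0 𝒜) (socComp I m N (-(∑ i, deg i))) :=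
    Module.length_eq_one_iff.mp hlen
  have hnt : Nontrivial (socComp I m N (-(∑ i, deg i))) := IsSimpleModule.nontrivial (deg0 𝒜) _
  obtain ⟨h₀, hh₀⟩ := exists_ne (0 : socComp I m N (-(∑ i, deg i)))
  have hh₀H : h₀.1 ∈ I.Hgr m N (-(∑ i, deg i)) := h₀.2.1
  have hh₀' : h₀.1 ≠ 0 := fun hc => hh₀ (Subtype.ext hc)
  -- the dual element
  obtain ⟨c₀, hc₀, hP⟩ : ∃ c₀ ∈ 𝒞 (-(-(∑ i, deg i))),
      pair 𝒜 hpos h0 m hmsp 𝓔 e he N I φ h₀.1 c₀ ≠ 0 := by
    by_contra hcon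
    push Not at hcon
    exact hh₀' (eq_zero_of_pair_left 𝒜 hpos h0 m hmsp 𝓔 e he 𝒞 N I φ hφ hh₀H hcon)
  rw [neg_neg] at hc₀
  have hdeg : IsGrHomDeg 𝒜 𝒞 (LinearMap.toSpanSingleton R C c₀) (∑ i, deg i) := by
    intro g r hr
    have := SetLike.GradedSMul.smul_mem (A := 𝒜) (B := 𝒞) hr hc₀
    rw [vadd_eq_add] at this
    rw [LinearMap.toSpanSingleton_apply]
    exact this
  refine ⟨LinearMap.toSpanSingleton R C c₀, ⟨?_, ?_⟩, hdeg⟩
  · -- injectivity
    rw [injective_iff_map_eq_zero]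
    intro r hr
    rw [LinearMap.toSpanSingleton_apply] at hr
    by_contra hr0
    have hex : ∃ g, (decompose 𝒜 r g : R) ≠ 0 := by
      by_contra hall
      push Not at hall
      apply hr0
      rw [← sum_support_decompose 𝒜 r]
      exact Finset.sum_eq_zero (fun g _ => hall g)
    obtain ⟨g, hg⟩ := hex
    have hg0 : (decompose 𝒜 r g : R) • c₀ = 0 := by
      rw [← decompose_smul_of_mem_right 𝒞 𝒜 hc₀ r g, hr, decompose_zero]
      rfl
    obtain ⟨η, hη⟩ := exists_smul_eq_top m hdim I (decompose 𝒜 r g).2 hg h₀.1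
    apply hP
    rw [← hη, pair_smul, hg0, map_zero]
  · -- surjectivity
    have key : ∀ (d : ℤ) (c : C), c ∈ 𝒞 (-d) →
        c ∈ LinearMap.range (LinearMap.toSpanSingleton R C c₀) := by
      intro d c hc
      by_contra hcon
      let W : Submodule (deg0 𝒜) (comp 𝒜 𝒞 (-d)) :=
        ((LinearMap.range (LinearMap.toSpanSingleton R C c₀)).restrictScalars (deg0 𝒜)).comap
          (comp 𝒜 𝒞 (-d)).subtype
      have hcW : (⟨c, hc⟩ : comp 𝒜 𝒞 (-d)) ∉ W := hcon
      obtain ⟨lf, hlfW, hlfc⟩ := exists_functional_of_notMem h0 W hcW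
      obtain ⟨h, hh, hl⟩ := exists_pair_left 𝒜 hpos h0 m hmsp 𝓔 e he 𝒞 N I φ hφ lf
      have hne : h ≠ 0 := by
        rintro rfl
        apply hlfc
        rw [← hl c hc, map_zero, LinearMap.zero_apply]
      obtain ⟨r, hr, hrne, hrsoc⟩ :=
        exists_smul_ne_zero_top hpos h0 m hmsp f deg hfdeg hspan hreg I hh hne
      have hrc : r • c₀ ∈ 𝒞 (-d) := by
        have := SetLike.GradedSMul.smul_mem (A := 𝒜) (B := 𝒞) hr hc₀
        rw [vadd_eq_add] at this
        have hidx : -(∑ i, deg i) - d + ∑ i, deg i = -d := by ring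
        rwa [hidx] at this
      have hrcW : (⟨r • c₀, hrc⟩ : comp 𝒜 𝒞 (-d)) ∈ W :=
        ⟨r, LinearMap.toSpanSingleton_apply R C c₀ r⟩
      have h1 : pair 𝒜 hpos h0 m hmsp 𝓔 e he N I φ (r • h) c₀ = 0 := by
        rw [pair_smul, hl (r • c₀) hrc]
        exact hlfW _ hrcW
      obtain ⟨a, ha⟩ := IsSimpleModule.toSpanSingleton_surjective (deg0 𝒜) hh₀ ⟨r • h, hrsoc⟩
      have ha' : r • h = a • h₀.1 := by
        have := congrArg Subtype.val ha
        rw [LinearMap.toSpanSingleton_apply] at this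
        exact this.symm
      have ha0 : a ≠ 0 := by
        rintro rfl
        apply hrne
        rw [ha', zero_smul]
      rw [ha', map_smul, LinearMap.smul_apply, smul_eq_mul] at h1
      rcases mul_eq_zero.mp h1 with h2 | h2
      · exact ha0 h2
      · exact hP h2
    intro c
    rw [← LinearMap.mem_range, ← sum_support_decompose 𝒞 c]
    refine Submodule.sum_mem _ (fun i _ => ?_)
    refine key (-i) _ ?_
    rw [neg_neg]
    exact (decompose 𝒞 c i).2

end Main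

end Groth.Agent.Lib.H74Soc
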