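import Groth.Agent.S2101
import Mathlib.RingTheory.Regular.Flat
import Mathlib.RingTheory.MvPolynomial.Ideal

/-!
# The variables of a polynomial ring form a regular sequence

Namespace `Groth.Agent.Lib.MvPolyRegular` (Mathlib + helper1's `S2101.isWeaklyRegular_ofFn_iff`).

* `isWeaklyRegular_X` : `X 0, …, X (n-1)` is a weakly regular sequence in `MvPolynomial (Fin n) C`.
* `shiftEquiv a` : the automorphism `X i ↦ X i - C (a i)`.
* `isWeaklyRegular_X_sub_C` : so is `X i - C (a i)`.
* `ofList_X_sub_C` : they generate the kernel of evaluation at `a`.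
-/

set_option autoImplicit false

namespace Groth.Agent.Lib.MvPolyRegular

open MvPolynomial RingTheory.Sequence

variable (C : Type*) [CommRing C] (n : ℕ)

theorem isWeaklyRegular_X :
    IsWeaklyRegular (MvPolynomial (Fin n) C)
      (List.ofFn (fun i : Fin n => (X i : MvPolynomial (Fin n) C))) := by
  classical
  rw [Groth.Agent.S2101.isWeaklyRegular_ofFn_iff]
  intro i a ha
  rw [MvPolynomial.mem_ideal_span_X_image] at ha ⊢
  intro m hm
  have hm' : Finsupp.single i 1 + m ∈ (X i * a).support := by
    rw [MvPolynomial.mem_support_iff, MvPolynomial.coeff_X_mul]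
    exact MvPolynomial.mem_support_iff.1 hm
  obtain ⟨j, hj, hne⟩ := ha _ hm'
  refine ⟨j, hj, ?_⟩
  have hji : j ≠ i := by
    intro h
    subst h
    exact lt_irrefl j (show j < j from hj)
  intro h0
  apply hne
  simp [h0, hji.symm]

variable {C n}

/-- the automorphism `X i ↦ X i - C (a i)` of the polynomial ring -/
noncomputable def shiftEquiv (a : Fin n → C) :
    MvPolynomial (Fin n) C ≃ₐ[C] MvPolynomial (Fin n) C :=
  AlgEquiv.ofAlgHom (aeval fun i => X i - MvPolynomial.C (a i))
    (aeval fun i => X i + MvPolynomial.C (a i))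
    (by ext i; simp) (by ext i; simp)

@[simp]
lemma shiftEquiv_X (a : Fin n → C) (i : Fin n) :
    shiftEquiv a (X i) = X i - MvPolynomial.C (a i) := by
  simp [shiftEquiv]

theorem isWeaklyRegular_X_sub_C (a : Fin n → C) :
    IsWeaklyRegular (MvPolynomial (Fin n) C)
      (List.ofFn (fun i : Fin n => (X i - MvPolynomial.C (a i) : MvPolynomial (Fin n) C))) := by
  have h := isWeaklyRegular_X C n
  refine ((shiftEquiv a).toAddEquiv.isWeaklyRegular_congr ?_).1 h
  refine List.forall₂_of_length_eq_of_get (by simp) ?_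
  intro i h₁ h₂ x
  simp only [List.get_eq_getElem, List.getElem_ofFn, smul_eq_mul]
  show shiftEquiv a (X _ * x) = _
  rw [map_mul, shiftEquiv_X]
  rfl

end Groth.Agent.Lib.MvPolyRegular
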