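import Mathlib
import Groth.Agent.Lib.H74Soc4
import Groth.Agent.Lib.GrLCBridge
import Groth.Agent.Lib.MvPolyRegular

/-!
# The canonical module of a weighted polynomial ring (helper74)
-/

set_option autoImplicit false
set_option linter.unusedSectionVars false
set_option linter.style.haveILetI false

universe u
attribute [local instance] MvPolynomial.weightedGradedAlgebra

namespace Groth.Agent.Lib.H74Soc

open DirectSum GrLC MvPolynomial Groth.Agent.Lib.GrLCBridge

section Weighted

variable (k : Type u) [Field k] (N : ℕ) (w : Fin N → ℤ) (hw : ∀ i, 0 < w i)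

include hw in
theorem weight_nonneg (d : Fin N →₀ ℕ) : 0 ≤ Finsupp.weight w d := by
  rw [Finsupp.weight_eq_sum]
  exact Finset.sum_nonneg (fun i _ => smul_nonneg (Nat.zero_le _) (hw i).le)

include hw in
theorem eq_zero_of_weight_eq_zero {d : Fin N →₀ ℕ} (hd : Finsupp.weight w d = 0) : d = 0 := by
  rw [Finsupp.weight_eq_sum] at hd
  have h1 := (Finset.sum_eq_zero_iff_of_nonneg
    (fun i _ => smul_nonneg (Nat.zero_le (d i)) (hw i).le)).mp hd
  ext i
  have h2 := h1 i (Finset.mem_univ i)
  rw [smul_eq_zero] at h2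
  rcases h2 with h2 | h2
  · simpa using h2
  · exact absurd h2 (hw i).ne'

include hw in
theorem weighted_neg_eq_bot (n : ℤ) (hn : n < 0) :
    asGr (weightedHomogeneousSubmodule k w) n = ⊥ := by
  rw [AddSubgroup.eq_bot_iff_forall]
  intro p hp
  have hp' : IsWeightedHomogeneous w p n := hp
  ext d
  rw [coeff_zero]
  by_contra hne
  have := hp' hne
  linarith [weight_nonneg N w hw d]

include hw in
theorem eq_C_of_mem_zero {p : MvPolynomial (Fin N) k}
    (hp : p ∈ weightedHomogeneousSubmodule k w 0) : p = C (coeff 0 p) := by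
  classical
  have hp' : IsWeightedHomogeneous w p 0 := hp
  ext d
  rw [coeff_C]
  split_ifs with hd
  · rw [← hd]
  · by_contra hne
    exact hd (eq_zero_of_weight_eq_zero N w hw (hp' hne)).symm

include hw in
theorem isField_deg0_weighted :
    IsField (deg0 (asGr (weightedHomogeneousSubmodule k w))) where
  exists_pair_ne := ⟨0, 1, zero_ne_one⟩
  mul_comm := mul_comm
  mul_inv_cancel := by
    intro a ha
    have ha1 : a.1 = C (coeff 0 a.1) := eq_C_of_mem_zero k N w hw a.2
    have hc : coeff 0 a.1 ≠ 0 := by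
      intro hc
      apply ha
      apply Subtype.ext
      rw [ha1, hc, map_zero]
      rfl
    refine ⟨⟨C (coeff 0 a.1)⁻¹, isWeightedHomogeneous_C w _⟩, ?_⟩
    apply Subtype.ext
    show a.1 * C (coeff 0 a.1)⁻¹ = 1
    rw [ha1, coeff_C, if_pos rfl, ← C_mul, mul_inv_cancel₀ hc, C_1]

theorem X_mem_weighted (i : Fin N) :
    (X i : MvPolynomial (Fin N) k) ∈ asGr (weightedHomogeneousSubmodule k w) (w i) :=
  isWeightedHomogeneous_X k w i

include hw in
theorem span_range_X_eq (m : Ideal (MvPolynomial (Fin N) k))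
    (hmsp : m = Ideal.span (⋃ n ∈ Set.Ioi (0 : ℤ),
      (weightedHomogeneousSubmodule k w n : Set (MvPolynomial (Fin N) k)))) :
    Ideal.span (Set.range (fun i : Fin N => (X i : MvPolynomial (Fin N) k))) = m := by
  rw [hmsp]
  apply le_antisymm
  · rw [Ideal.span_le]
    rintro _ ⟨i, rfl⟩
    exact Ideal.subset_span (Set.mem_iUnion₂.mpr ⟨w i, hw i, isWeightedHomogeneous_X k w i⟩)
  · rw [Ideal.span_le]
    intro p hp
    obtain ⟨n, hn, hpn⟩ := Set.mem_iUnion₂.mp hp
    have hp' : IsWeightedHomogeneous w p n := hpn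
    rw [← Set.image_univ]
    show p ∈ Ideal.span _
    rw [mem_ideal_span_X_image]
    intro d hd
    have hd' : coeff d p ≠ 0 := mem_support_iff.mp hd
    have hwd := hp' hd'
    have hd0 : d ≠ 0 := by
      rintro rfl
      rw [map_zero] at hwd
      have : (0 : ℤ) < n := hn
      omega
    obtain ⟨i, hi⟩ := Finsupp.ne_iff.mp hd0
    exact ⟨i, Set.mem_univ i, by simpa using hi⟩

theorem ringKrullDim_mvPolynomial_fin : ringKrullDim (MvPolynomial (Fin N) k) = N := by
  rw [MvPolynomial.ringKrullDim_of_isNoetherianRing, ringKrullDim_eq_zero_of_field]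
  simp

include hw in
/-- **The canonical module of the weighted polynomial ring** is `R(-Σ w_i)`. -/
theorem exists_bijective_weighted
    (m : HomogeneousIdeal (weightedHomogeneousSubmodule k w))
    (hmsp : m.toIdeal = Ideal.span (⋃ n ∈ Set.Ioi (0 : ℤ),
      (weightedHomogeneousSubmodule k w n : Set (MvPolynomial (Fin N) k))))
    (I : StarInjRes (weightedHomogeneousSubmodule k w) (weightedHomogeneousSubmodule k w))
    (E' : Type u) [AddCommGroup E'] [Module (MvPolynomial (Fin N) k) E'] (𝓔 : ℤ → AddSubgroup E')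
    [Decomposition 𝓔] [SetLike.GradedSMul (weightedHomogeneousSubmodule k w) 𝓔]
    (e : (MvPolynomial (Fin N) k ⧸ m.toIdeal) →ₗ[MvPolynomial (Fin N) k] E')
    (he : IsStarInjHull (weightedHomogeneousSubmodule k w)
      (quotGr (weightedHomogeneousSubmodule k w) m) 𝓔 e)
    (C : Type u) [AddCommGroup C] [Module (MvPolynomial (Fin N) k) C] (𝒞 : ℤ → AddSubgroup C)
    [Decomposition 𝒞] [SetLike.GradedSMul (weightedHomogeneousSubmodule k w) 𝒞]
    (hC : IsStarCanonical (weightedHomogeneousSubmodule k w) 𝒞 𝓔 m N I) :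
    ∃ f : MvPolynomial (Fin N) k →ₗ[MvPolynomial (Fin N) k] C, Function.Bijective f ∧
      IsGrHomDeg (weightedHomogeneousSubmodule k w) 𝒞 f (∑ i, w i) := by
  have he' : IsStarInjHull (asGr (weightedHomogeneousSubmodule k w))
      (quotGr (asGr (weightedHomogeneousSubmodule k w)) (toSIdeal m)) 𝓔 e :=
    ⟨⟨he.injective, he.grHom, he.essential⟩,
      isStarInj_asGr (weightedHomogeneousSubmodule k w) 𝓔 he.starInj⟩
  have hC' : IsStarCanonical (asGr (weightedHomogeneousSubmodule k w)) 𝒞 𝓔 (toSIdeal m) N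
      (toSRes I) := by
    obtain ⟨hfin, φ, hφ⟩ := hC
    exact ⟨hfin, φ, fun g f hf => hφ g f hf⟩
  obtain ⟨g, hg, hdeg⟩ := exists_bijective_of_isStarCanonical
    (weighted_neg_eq_bot k N w hw) (isField_deg0_weighted k N w hw) (toSIdeal m) hmsp
    (ringKrullDim_mvPolynomial_fin k N) (fun i : Fin N => (X i : MvPolynomial (Fin N) k)) w
    (X_mem_weighted k N w) (span_range_X_eq k N w hw m.toIdeal hmsp)
    (Groth.Agent.Lib.MvPolyRegular.isWeaklyRegular_X k N) (toSRes I) 𝓔 e he' 𝒞 hC'
  exact ⟨g, hg, fun i r hr => hdeg i r hr⟩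

end Weighted

end Groth.Agent.Lib.H74Soc
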