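import Mathlib

/-!
# Partial systems of parameters inside an ideal (semi-local rings) (helper74)
-/

set_option autoImplicit false
set_option linter.style.haveILetI false
set_option linter.unusedSectionVars false
universe u

namespace Groth.Agent.Lib.H74Sop

variable {A : Type u} [CommRing A]

/-- all primes containing `J` have coheight at most `d` -/
def Dim (J : Ideal A) (d : ℕ) : Prop :=
  ∀ Q : PrimeSpectrum A, J ≤ Q.asIdeal → Order.coheight Q ≤ (d : ℕ∞)

/-- `y` avoids all the non-maximal minimal primes of `J` -/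
def Avoids (J : Ideal A) (y : A) : Prop :=
  ∀ P ∈ J.minimalPrimes, ¬ P.IsMaximal → y ∉ P

theorem coheight_eq_zero_of_isMaximal (Q : PrimeSpectrum A) (hQ : Q.asIdeal.IsMaximal) :
    Order.coheight Q = 0 := by
  rw [Order.coheight_eq_zero]
  intro Q' hQQ'
  have : Q.asIdeal = Q'.asIdeal := hQ.eq_of_le Q'.2.ne_top hQQ'
  exact le_of_eq (PrimeSpectrum.ext this).symm

theorem isMaximal_of_coheight_eq_zero (Q : PrimeSpectrum A) (hQ : Order.coheight Q = 0) :
    Q.asIdeal.IsMaximal := by
  rw [Order.coheight_eq_zero] at hQ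
  obtain ⟨m, hm, hQm⟩ := Ideal.exists_le_maximal Q.asIdeal Q.2.ne_top
  have h := @hQ ⟨m, hm.isPrime⟩ hQm
  have : m = Q.asIdeal := le_antisymm h hQm
  rw [← this]; exact hm

theorem dim_step (J : Ideal A) (d : ℕ) (y : A) (hJ : Dim J (d + 1)) (hy : Avoids J y) :
    Dim (J ⊔ Ideal.span {y}) d := by
  intro Q hQ
  have hJQ : J ≤ Q.asIdeal := le_sup_left.trans hQ
  have hyQ : y ∈ Q.asIdeal := hQ (Ideal.mem_sup_right (Ideal.mem_span_singleton_self y))
  obtain ⟨P, hP, hPQ⟩ := Ideal.exists_minimalPrimes_le hJQ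
  have hPprime : P.IsPrime := hP.1.1
  by_cases hmax : P.IsMaximal
  · have : P = Q.asIdeal := hmax.eq_of_le Q.2.ne_top hPQ
    rw [coheight_eq_zero_of_isMaximal Q (this ▸ hmax)]
    exact zero_le
  · have hyP := hy P hP hmax
    have hlt : (⟨P, hPprime⟩ : PrimeSpectrum A) < Q := by
      refine lt_of_le_of_ne hPQ fun h => hyP ?_
      have : P = Q.asIdeal := congrArg PrimeSpectrum.asIdeal h
      rw [this]; exact hyQ
    have h1 := Order.coheight_add_one_le hlt
    have h2 := hJ ⟨P, hPprime⟩ hP.1.2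
    have h3 : Order.coheight Q + 1 ≤ ((d : ℕ∞) + 1) := h1.trans (by exact_mod_cast h2)
    exact (ENat.add_le_add_iff_right (by simp)).mp h3

end Groth.Agent.Lib.H74Sop
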