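import Groth.Agent.Lib.H74Sop1

set_option autoImplicit false
set_option linter.style.haveILetI false
set_option linter.unusedSectionVars false
universe u

namespace Groth.Agent.Lib.H74Sop

variable {A : Type u} [CommRing A]

/-- in a semi-local ring, a prime containing the Jacobson radical is maximal -/
theorem isMaximal_of_jacobson_le [Finite (MaximalSpectrum A)] (P : Ideal A) [hP : P.IsPrime]
    (h : Ring.jacobson A ≤ P) : P.IsMaximal := by
  classical
  have := Fintype.ofFinite (MaximalSpectrum A)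
  have h1 : (Finset.univ : Finset (MaximalSpectrum A)).inf (fun m => m.asIdeal) ≤
      Ring.jacobson A := by
    rw [Ring.jacobson_eq_sInf_isMaximal]
    refine le_sInf fun I hI => ?_
    exact Finset.inf_le (f := fun m : MaximalSpectrum A => m.asIdeal)
      (Finset.mem_univ (⟨I, hI⟩ : MaximalSpectrum A))
  obtain ⟨m, -, hm⟩ := (Ideal.IsPrime.inf_le' hP).mp (h1.trans h)
  have : m.asIdeal = P := m.2.eq_of_le hP.ne_top hm
  rw [← this]; exact m.2

/-- prime avoidance for the non-maximal minimal primes of `J` -/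
theorem exists_avoid [IsNoetherianRing A] (J 𝔟 : Ideal A)
    (h𝔟 : ∀ P ∈ J.minimalPrimes, ¬ P.IsMaximal → ¬ 𝔟 ≤ P) : ∃ y ∈ 𝔟, Avoids J y := by
  classical
  have hfin : (J.minimalPrimes).Finite := Ideal.finite_minimalPrimes_of_isNoetherianRing A J
  set s : Finset (Ideal A) := hfin.toFinset.filter (fun P => ¬ P.IsMaximal) with hs
  have hnot : ¬ ((𝔟 : Set A) ⊆ ⋃ p ∈ (↑s : Set (Ideal A)), ((fun p => p) p : Ideal A)) := by
    intro hsub
    rw [Ideal.subset_union_prime ⊥ ⊥ (fun p hp _ _ => by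
      rw [hs, Finset.mem_filter, Set.Finite.mem_toFinset] at hp
      exact hp.1.1.1)] at hsub
    obtain ⟨p, hp, hbp⟩ := hsub
    rw [hs, Finset.mem_filter, Set.Finite.mem_toFinset] at hp
    exact h𝔟 p hp.1 hp.2 hbp
  obtain ⟨y, hy𝔟, hyn⟩ := Set.not_subset.mp hnot
  refine ⟨y, hy𝔟, fun P hP hmax hyP => hyn ?_⟩
  simp only [Set.mem_iUnion]
  refine ⟨P, ?_, hyP⟩
  rw [hs, Finset.mem_coe, Finset.mem_filter, Set.Finite.mem_toFinset]
  exact ⟨hP, hmax⟩

end Groth.Agent.Lib.H74Sop
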