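import Groth.Agent.Lib.H74Sop2
import Groth.Agent.Lib.FiniteLengthSupport

set_option autoImplicit false
set_option linter.style.haveILetI false
set_option linter.unusedSectionVars false
universe u

namespace Groth.Agent.Lib.H74Sop

variable {A : Type u} [CommRing A] [IsNoetherianRing A]

/-- Krull's height theorem for lists. -/
theorem height_le_length (xs : List A) (P : Ideal A) (hP : P ∈ (Ideal.ofList xs).minimalPrimes) :
    P.height ≤ (xs.length : ℕ∞) := by
  classical
  have h1 : Ideal.ofList xs = Ideal.span (xs.toFinset : Set A) := by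
    rw [List.coe_toFinset]
  rw [h1] at hP
  refine (Ideal.height_le_card_of_mem_minimalPrimes_span_finset hP).trans ?_
  exact_mod_cast List.toFinset_card_le xs

/-- completing to a system of parameters -/
theorem exists_list_of_dim [Finite (MaximalSpectrum A)] (d : ℕ) :
    ∀ J : Ideal A, Dim J d → ∃ ys : List A, (∀ y ∈ ys, y ∈ Ring.jacobson A) ∧ ys.length = d ∧
      Dim (J ⊔ Ideal.ofList ys) 0 := by
  induction d with
  | zero =>
    intro J hJ
    refine ⟨[], by simp, rfl, ?_⟩
    rw [Ideal.ofList_nil, sup_bot_eq]
    exact hJ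
  | succ d ih =>
    intro J hJ
    obtain ⟨y, hyr, hy⟩ := exists_avoid J (Ring.jacobson A) (fun P hP hmax hle =>
      hmax (@isMaximal_of_jacobson_le A _ _ P hP.1.1 hle))
    obtain ⟨ys, hys, hlen, hdim⟩ := ih _ (dim_step J d y hJ hy)
    refine ⟨y :: ys, ?_, by simp [hlen], ?_⟩
    · intro z hz
      rcases List.mem_cons.mp hz with rfl | hz
      · exact hyr
      · exact hys z hz
    · rw [Ideal.ofList_cons, ← sup_assoc]
      exact hdim

/-- `A/J` has finite length when all primes over `J` are maximal. -/
theorem isFiniteLength_of_dim_zero (J : Ideal A) (hJ : Dim J 0) : IsFiniteLength A (A ⧸ J) := by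
  apply FiniteLengthSupport.isFiniteLength_of_support_isMaximal
  intro p hp
  rw [FiniteLengthSupport.mem_support_quotient_iff] at hp
  have h := hJ p hp
  have h0 : Order.coheight p = 0 := le_antisymm (by exact_mod_cast h) zero_le
  exact isMaximal_of_coheight_eq_zero p h0

end Groth.Agent.Lib.H74Sop
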