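import Groth.Agent.Lib.H74Sop3

set_option autoImplicit false
set_option linter.style.haveILetI false
set_option linter.unusedSectionVars false
universe u

namespace Groth.Agent.Lib.H74Sop

variable {A : Type u} [CommRing A] [IsNoetherianRing A]

/-- the inductive construction -/
theorem exists_xs [Finite (MaximalSpectrum A)] (a : Ideal A) (h n : ℕ) (hh : a.height = h)
    (hn : Dim (⊥ : Ideal A) n) (hhn : h ≤ n) (𝔭 : Ideal A) [h𝔭p : 𝔭.IsPrime]
    (h𝔭 : 𝔭.height = h) :
    ∀ i, i ≤ h → ∃ xs : List A, xs.length = i ∧ (∀ x ∈ xs, x ∈ a) ∧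
      (∀ x ∈ xs, x ∈ Ring.jacobson A) ∧ Dim (Ideal.ofList xs) (n - i) ∧
      ∀ Q : Ideal A, Q.IsPrime → Ideal.ofList xs ≤ Q → Q ≤ 𝔭 → (i : ℕ∞) ≤ Q.height := by
  intro i
  induction i with
  | zero =>
    intro _
    refine ⟨[], rfl, by simp, by simp, ?_, fun Q _ _ _ => by simp⟩
    rw [Ideal.ofList_nil]; exact hn
  | succ i ih =>
    intro hi
    obtain ⟨xs, hlen, hxa, hxr, hdim, hht⟩ := ih (by omega)
    set J := Ideal.ofList xs with hJ
    have hPht : ∀ P ∈ J.minimalPrimes, P.height ≤ (i : ℕ∞) := by
      intro P hP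
      have := height_le_length xs P hP
      rwa [hlen] at this
    obtain ⟨x, hx, hxav⟩ := exists_avoid J (a ⊓ Ring.jacobson A) (by
      intro P hP hmax hle
      have hPprime : P.IsPrime := hP.1.1
      have h1 : a * Ring.jacobson A ≤ P := Ideal.mul_le_inf.trans hle
      rcases (Ideal.IsPrime.mul_le hPprime).mp h1 with h2 | h2
      · have h3 : a.height ≤ P.height := Ideal.height_mono h2
        rw [hh] at h3
        have h4 := h3.trans (hPht P hP)
        have : h ≤ i := by exact_mod_cast h4
        omega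
      · exact hmax (isMaximal_of_jacobson_le P h2))
    refine ⟨xs ++ [x], by simp [hlen], ?_, ?_, ?_, ?_⟩
    · intro z hz
      rcases List.mem_append.mp hz with hz | hz
      · exact hxa z hz
      · rw [List.mem_singleton] at hz; rw [hz]; exact hx.1
    · intro z hz
      rcases List.mem_append.mp hz with hz | hz
      · exact hxr z hz
      · rw [List.mem_singleton] at hz; rw [hz]; exact hx.2
    · rw [Ideal.ofList_append, Ideal.ofList_singleton]
      have : n - i = (n - (i + 1)) + 1 := by omega
      rw [this] at hdim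
      exact dim_step J _ x hdim hxav
    · intro Q hQ hxsQ hQ𝔭
      rw [Ideal.ofList_append, Ideal.ofList_singleton] at hxsQ
      have hJQ : J ≤ Q := le_sup_left.trans hxsQ
      have hxQ : x ∈ Q := hxsQ (Ideal.mem_sup_right (Ideal.mem_span_singleton_self x))
      obtain ⟨P, hP, hPQ⟩ := Ideal.exists_minimalPrimes_le hJQ
      have hPprime : P.IsPrime := hP.1.1
      have h1 : (i : ℕ∞) ≤ P.height := hht P hPprime hP.1.2 (hPQ.trans hQ𝔭)
      have hnmax : ¬ P.IsMaximal := by
        intro hmax
        have h2 : P = 𝔭 := hmax.eq_of_le h𝔭p.ne_top (hPQ.trans hQ𝔭)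
        have h3 := hPht P hP
        rw [h2, h𝔭] at h3
        have : h ≤ i := by exact_mod_cast h3
        omega
      have hxP := hxav P hP hnmax
      have hlt : P < Q := lt_of_le_of_ne hPQ fun h => hxP (h ▸ hxQ)
      have h2 := Ideal.height_add_one_le_of_lt_of_isPrime hlt
      push_cast
      exact (add_le_add_left h1 1).trans h2

end Groth.Agent.Lib.H74Sop
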