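import Groth.Agent.Lib.H74Sop4

set_option autoImplicit false
set_option linter.style.haveILetI false
set_option linter.unusedSectionVars false
universe u

namespace Groth.Agent.Lib.H74Sop

variable {A : Type u} [CommRing A] [IsNoetherianRing A]

/-- a semi-local Noetherian ring has finite dimension -/
theorem exists_nat_ringKrullDim [Finite (MaximalSpectrum A)] [Nontrivial A] :
    ∃ n : ℕ, ringKrullDim A = (n : WithBot ℕ∞) := by
  obtain ⟨N, hN⟩ := (Set.finite_range
    (fun m : MaximalSpectrum A => m.asIdeal.height.toNat)).bddAbove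
  have hle : ringKrullDim A ≤ (N : WithBot ℕ∞) := by
    rw [ringKrullDim_le_iff_isMaximal_height_le]
    intro m hm
    have hfin : m.height ≠ ⊤ := Ideal.height_ne_top hm.ne_top
    have h1 : m.height = (m.height.toNat : ℕ∞) := (ENat.natCast_toNat hfin).symm
    have h2 : m.height.toNat ≤ N := hN ⟨⟨m, hm⟩, rfl⟩
    rw [h1]
    exact_mod_cast h2
  have h0 : 0 ≤ ringKrullDim A := ringKrullDim_nonneg_of_nontrivial
  cases hd : ringKrullDim A with
  | bot => rw [hd] at h0; simp at h0
  | coe d =>
    rw [hd] at hle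
    have hle' : d ≤ (N : ℕ∞) := by exact_mod_cast hle
    have hdfin : d ≠ ⊤ := ne_top_of_le_ne_top (ENat.natCast_ne_top N) hle'
    refine ⟨d.toNat, ?_⟩
    have : ((d.toNat : ℕ∞) : WithBot ℕ∞) = (d : WithBot ℕ∞) := by rw [ENat.natCast_toNat hdfin]
    rw [← this]; rfl

end Groth.Agent.Lib.H74Sop
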