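import Groth.Agent.Lib.H74Sop5

set_option autoImplicit false
set_option linter.style.haveILetI false
set_option linter.unusedSectionVars false
universe u

namespace Groth.Agent.Lib.H74Sop

variable {A : Type u} [CommRing A] [IsNoetherianRing A]

theorem main [Finite (MaximalSpectrum A)] (a : Ideal A) (ha : a ≠ ⊤) (h : ℕ)
    (hh : a.height = h) (hpos : 0 < h) :
    ∃ x : Fin h → A, (∀ i, x i ∈ a) ∧ (∀ i, x i ∈ Ring.jacobson A) ∧
      (∃ ys : List A, (∀ y ∈ ys, y ∈ Ring.jacobson A) ∧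
        (((h + ys.length : ℕ) : ℕ∞) : WithBot ℕ∞) = ringKrullDim A ∧
        IsFiniteLength A (A ⧸ (Ideal.span (Set.range x) ⊔ Ideal.ofList ys))) ∧
      (a.map (Ideal.Quotient.mk (Ideal.span (Set.range x)))).height = 0 := by
  have hnt : Nontrivial A := by
    by_contra hns
    rw [not_nontrivial_iff_subsingleton] at hns
    exact ha (Subsingleton.elim _ _)
  obtain ⟨n, hn⟩ := exists_nat_ringKrullDim (A := A)
  have hdim : Dim (⊥ : Ideal A) n := by
    intro Q _
    have h1 : ((Order.coheight Q : ℕ∞) : WithBot ℕ∞) ≤ ringKrullDim A :=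
      Order.coheight_le_krullDim Q
    rw [hn] at h1
    exact_mod_cast h1
  have hhn : h ≤ n := by
    have h1 := Ideal.height_le_ringKrullDim_of_ne_top ha
    rw [hh, hn] at h1
    exact_mod_cast h1
  obtain ⟨𝔭, h𝔭p, ha𝔭, h𝔭⟩ := Ideal.exists_isPrime_height_eq hh
  obtain ⟨xs, hlen, hxa, hxr, hxdim, hxht⟩ := exists_xs a h n hh hdim hhn 𝔭 h𝔭 h le_rfl
  set J := Ideal.ofList xs with hJ
  have hJa : J ≤ a := by
    rw [hJ, Ideal.ofList, Ideal.span_le]
    exact fun x hx => hxa x hx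
  -- `𝔭` is minimal over `J`
  have h𝔭min : 𝔭 ∈ J.minimalPrimes := by
    refine ⟨⟨h𝔭p, hJa.trans ha𝔭⟩, ?_⟩
    rintro Q ⟨hQ, hJQ⟩ hQ𝔭
    by_contra hnle
    have hlt : Q < 𝔭 := lt_of_le_of_ne hQ𝔭 fun h => hnle (h ▸ le_rfl)
    have h1 := Ideal.height_add_one_le_of_lt_of_isPrime hlt
    have h2 := hxht Q hQ hJQ hQ𝔭
    rw [h𝔭] at h1
    have h3 : (h : ℕ∞) + 1 ≤ h := (add_le_add_left h2 1).trans h1
    have : h + 1 ≤ h := by exact_mod_cast h3
    omega
  obtain ⟨ys, hys, hylen, hydim⟩ := exists_list_of_dim (n - h) J hxdim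
  subst hlen
  have hrange : Ideal.span (Set.range (fun i : Fin xs.length => xs.get i)) = J := by
    rw [hJ, Ideal.ofList, Set.range_list_get]
  refine ⟨fun i => xs.get i, fun i => hxa _ (List.get_mem _ _), fun i => hxr _ (List.get_mem _ _),
    ⟨ys, hys, ?_, ?_⟩, ?_⟩
  · rw [hn, hylen]
    have : xs.length + (n - xs.length) = n := by omega
    rw [this]
    rfl
  · rw [hrange]
    exact isFiniteLength_of_dim_zero _ hydim
  · rw [hrange]
    have hker : RingHom.ker (Ideal.Quotient.mk J) ≤ 𝔭 := by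
      rw [Ideal.mk_ker]; exact h𝔭min.1.2
    have hprime : (𝔭.map (Ideal.Quotient.mk J)).IsPrime :=
      Ideal.map_isPrime_of_surjective Ideal.Quotient.mk_surjective hker
    have hmin : 𝔭.map (Ideal.Quotient.mk J) ∈ minimalPrimes (A ⧸ J) := by
      have h1 := Ideal.minimalPrimes_map_of_surjective (f := Ideal.Quotient.mk J)
        Ideal.Quotient.mk_surjective J
      rw [Ideal.mk_ker, sup_idem, Ideal.map_quotient_self] at h1
      show 𝔭.map (Ideal.Quotient.mk J) ∈ (⊥ : Ideal (A ⧸ J)).minimalPrimes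
      rw [h1]
      exact ⟨𝔭, h𝔭min, rfl⟩
    have h0 : (𝔭.map (Ideal.Quotient.mk J)).height = 0 := Ideal.height_eq_zero_iff.mpr hmin
    have hle : (a.map (Ideal.Quotient.mk J)).height ≤ (𝔭.map (Ideal.Quotient.mk J)).height :=
      Ideal.height_mono (Ideal.map_mono ha𝔭)
    rw [h0] at hle
    exact le_antisymm hle zero_le

end Groth.Agent.Lib.H74Sop
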