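import Groth.Agent.Lib.H74Gen3

/-!
# Kollár's tetrachotomy for Noetherian local rings (helper74)
-/

set_option autoImplicit false
set_option linter.style.haveILetI false
set_option linter.unusedSectionVars false
universe u

open IsLocalRing

namespace Groth.Agent.Lib.H74Tetra

open Groth.Agent.Lib.H74Gen

section gamAss

variable {A : Type u} [CommRing A] [IsNoetherianRing A] (p : Ideal A) [p.IsPrime]
  (M : Type u) [AddCommGroup M] [Module A M] [Module.Finite A M]

/-- `p` is not an associated prime of `M / Γ_p(M)`. -/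
theorem notMem_associatedPrimes_quot_gam : p ∉ associatedPrimes A (M ⧸ gam p M) := by
  intro hass
  have hnoeth : IsNoetherian A M := isNoetherian_of_isNoetherianRing_of_finite A M
  obtain ⟨x, hx⟩ := (isAssociatedPrime_iff.mp hass).2
  obtain ⟨m, rfl⟩ := Submodule.mkQ_surjective _ x
  obtain ⟨K, hK⟩ := exists_pow_smul_gam_eq_bot p M
  have hm : m ∈ gam p M := by
    refine ⟨K + 1, fun a ha => ?_⟩
    rw [pow_succ] at ha
    refine Submodule.mul_induction_on ha (fun b hb c hc => ?_) (fun b c hb hc => ?_)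
    · have h1 : c • m ∈ gam p M := by
        have : c ∈ Submodule.colon (⊥ : Submodule A (M ⧸ gam p M)) {(gam p M).mkQ m} :=
          (SetLike.ext_iff.mp hx c).mp hc
        rw [Submodule.mem_colon_singleton, Submodule.mem_bot, ← map_smul] at this
        exact (Submodule.Quotient.mk_eq_zero _).mp this
      have h2 : b • (c • m) ∈ p ^ K • gam p M := Submodule.smul_mem_smul hb h1
      rw [hK, Submodule.mem_bot] at h2
      rw [mul_smul]; exact h2
    · rw [add_smul, hb, hc, add_zero]
  have h1 : (gam p M).mkQ m = 0 := (Submodule.Quotient.mk_eq_zero _).mpr hm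
  have h2 : (1 : A) ∈ p := (SetLike.ext_iff.mp hx 1).mpr (by
    rw [Submodule.mem_colon_singleton, h1, smul_zero]
    exact (Submodule.mem_bot _).mpr rfl)
  exact (Ideal.ne_top_iff_one p).mp (Ideal.IsPrime.ne_top inferInstance) h2

end gamAss

section caseA

variable {R : Type u} [CommRing R] [IsLocalRing R] [IsNoetherianRing R]

/-- Depth zero case: `R' = R / Γ_m(R)`. -/
theorem caseA (h1 : ¬ IsArtinianRing R) (h0 : LocCoh.depth R R = 0) :
    ∃ (R' : Type u) (_ : CommRing R') (_ : Algebra R R'), Nontrivial R' ∧ Module.Finite R R' ∧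
      ¬ Function.Bijective (algebraMap R R') ∧
      (∃ n : ℕ, (∀ x : R, algebraMap R R' x = 0 → ∀ a ∈ maximalIdeal R ^ n, a * x = 0) ∧
        (∀ y : R', ∀ a ∈ maximalIdeal R ^ n, a • y ∈ Set.range (algebraMap R R'))) ∧
      maximalIdeal R ∉ associatedPrimes R R' := by
  set I : Ideal R := gam (maximalIdeal R) R with hI
  have hnoeth : IsNoetherian R R := inferInstance
  obtain ⟨K, hK⟩ := exists_pow_smul_gam_eq_bot (maximalIdeal R) R
  have hkill : ∀ x ∈ I, ∀ a ∈ maximalIdeal R ^ K, a * x = 0 := by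
    intro x hx a ha
    have : a • x ∈ maximalIdeal R ^ K • gam (maximalIdeal R) R := Submodule.smul_mem_smul ha hx
    rw [hK, Submodule.mem_bot] at this
    exact this
  have hItop : I ≠ ⊤ := by
    intro htop
    apply h1
    rw [isArtinianRing_iff_isNilpotent_maximalIdeal]
    refine ⟨K, ?_⟩
    rw [Ideal.zero_eq_bot, eq_bot_iff]
    intro a ha
    have := hkill 1 (by rw [htop]; trivial) a ha
    rw [mul_one] at this
    rw [this]; exact Ideal.zero_mem _
  have hass : maximalIdeal R ∈ associatedPrimes R R := (DepthFlat33.depth_eq_zero_iff R).mp h0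
  obtain ⟨x, hx⟩ := (isAssociatedPrime_iff.mp hass).2
  have hxI : x ∈ I := by
    refine ⟨1, fun a ha => ?_⟩
    rw [pow_one, hx, Submodule.mem_colon_singleton, Submodule.mem_bot] at ha
    exact ha
  have hx0 : x ≠ 0 := by
    rintro rfl
    have : (1 : R) ∈ maximalIdeal R := (SetLike.ext_iff.mp hx 1).mpr (by
      rw [Submodule.mem_colon_singleton, smul_zero]; exact (Submodule.mem_bot _).mpr rfl)
    exact (Ideal.ne_top_iff_one _).mp (Ideal.IsPrime.ne_top inferInstance) this
  refine ⟨R ⧸ I, inferInstance, inferInstance, Ideal.Quotient.nontrivial_iff.mpr hItop, inferInstance,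
    ?_, ⟨K, ?_, ?_⟩, ?_⟩
  · intro hbij
    apply hx0
    apply hbij.1
    rw [map_zero, Ideal.Quotient.algebraMap_eq]
    exact Ideal.Quotient.eq_zero_iff_mem.mpr hxI
  · intro z hz a ha
    rw [Ideal.Quotient.algebraMap_eq] at hz
    exact hkill z (Ideal.Quotient.eq_zero_iff_mem.mp hz) a ha
  · intro y a _
    obtain ⟨z, hz⟩ := Ideal.Quotient.mk_surjective (a • y)
    exact ⟨z, hz⟩
  · exact notMem_associatedPrimes_quot_gam (maximalIdeal R) R

end caseA


section caseB

variable {R : Type u} [CommRing R] [IsLocalRing R] [IsNoetherianRing R]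

/-- If `x b = a y` with `a ∈ m`, `b` a unit, and `m = (xR : y)`, then `m = (a)`. -/
theorem maximalIdeal_eq_span_of_unit (x y : R) (hx : IsSMulRegular R x)
    (hy : ∀ a : R, a ∈ maximalIdeal R ↔ ∃ b, x * b = a * y)
    (a b : R) (ha : a ∈ maximalIdeal R) (hab : x * b = a * y) (hb : b ∉ maximalIdeal R) :
    maximalIdeal R = Ideal.span {a} := by
  have hbu : IsUnit b := IsLocalRing.notMem_maximalIdeal.mp hb
  apply le_antisymm
  · intro c hc
    obtain ⟨d, hd⟩ := (hy c).mp hc
    have h1 : x • (b * c) = x • (d * a) := by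
      rw [smul_eq_mul, smul_eq_mul, ← mul_assoc, hab, ← mul_assoc, hd]
      ring
    have h2 : b * c = d * a := hx h1
    obtain ⟨u, rfl⟩ := hbu
    rw [Ideal.mem_span_singleton']
    refine ⟨↑u⁻¹ * d, ?_⟩
    rw [mul_assoc, ← h2, ← mul_assoc, Units.inv_mul, one_mul]
  · rw [Ideal.span_le, Set.singleton_subset_iff]
    exact ha

theorem isRegular_dim_one_of_principal (h1 : ¬ IsArtinianRing R) (a : R)
    (hm : maximalIdeal R = Ideal.span {a}) : IsRegularLocalRing R ∧ ringKrullDim R = 1 := by
  have h2 : (maximalIdeal R).spanFinrank ≤ 1 := by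
    rw [hm]
    have := Submodule.spanFinrank_span_le_ncard_of_finite (R := R) (Set.finite_singleton a)
    rwa [Set.ncard_singleton] at this
  have h3 : (1 : WithBot ℕ∞) ≤ ringKrullDim R := by
    by_contra hlt
    apply h1
    rw [isArtinianRing_iff_krullDimLE_zero, Ring.krullDimLE_iff]
    rw [not_le] at hlt
    exact Order.le_of_lt_succ hlt
  have h4 : ((maximalIdeal R).spanFinrank : WithBot ℕ∞) ≤ 1 := by exact_mod_cast h2
  have hreg : IsRegularLocalRing R :=
    IsRegularLocalRing.of_spanFinrank_maximalIdeal_le R (h4.trans h3)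
  refine ⟨hreg, le_antisymm ?_ h3⟩
  rw [← hreg.spanFinrank_maximalIdeal]
  exact h4

end caseB


section caseB2

variable {R : Type u} [CommRing R] [IsLocalRing R] [IsNoetherianRing R]
  (x y : R) (hx : IsSMulRegular R x)
  (hy : ∀ a : R, a ∈ maximalIdeal R ↔ ∃ b, x * b = a * y)
  (hB2 : ∀ a ∈ maximalIdeal R, ∀ b, x * b = a * y → b ∈ maximalIdeal R)

/-- "multiplication by `y/x`" on the maximal ideal -/
noncomputable def phi : ↥(maximalIdeal R) →ₗ[R] ↥(maximalIdeal R) where
  toFun a := ⟨Classical.choose ((hy a.1).mp a.2),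
    hB2 a.1 a.2 _ (Classical.choose_spec ((hy a.1).mp a.2))⟩
  map_add' a a' := by
    apply Subtype.ext
    apply hx
    change x * _ = x * (_ + _)
    rw [mul_add, Classical.choose_spec ((hy (a + a').1).mp (a + a').2),
      Classical.choose_spec ((hy a.1).mp a.2), Classical.choose_spec ((hy a'.1).mp a'.2)]
    change (a.1 + a'.1) * y = _
    ring
  map_smul' r a := by
    apply Subtype.ext
    apply hx
    change x * _ = x * (r * _)
    rw [Classical.choose_spec ((hy (r • a).1).mp (r • a).2), ← mul_assoc, mul_comm x r, mul_assoc,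
      Classical.choose_spec ((hy a.1).mp a.2)]
    change (r * a.1) * y = _
    ring

theorem phi_spec (a : ↥(maximalIdeal R)) : x * (phi x y hx hy hB2 a).1 = a.1 * y :=
  Classical.choose_spec ((hy a.1).mp a.2)

/-- For `ψ ∈ End_R(m)` and `a ∈ m`: `a • ψ` is multiplication by `ψ(a)`. -/
theorem smul_end_eq (ψ : Module.End R ↥(maximalIdeal R)) (a : ↥(maximalIdeal R)) :
    a.1 • ψ = algebraMap R (Module.End R ↥(maximalIdeal R)) (ψ a).1 := by
  ext c
  rw [LinearMap.smul_apply, Module.algebraMap_end_apply]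
  change a.1 * (ψ c).1 = (ψ a).1 * c.1
  have h1 : ψ (a.1 • c) = ψ (c.1 • a) := by
    congr 1
    apply Subtype.ext
    change a.1 * c.1 = c.1 * a.1
    ring
  rw [map_smul, map_smul] at h1
  have h2 := congrArg Subtype.val h1
  change a.1 * (ψ c).1 = c.1 * (ψ a).1 at h2
  rw [h2]; ring

include hx in
theorem end_eq_zero_of_smul (ψ : Module.End R ↥(maximalIdeal R))
    (h : x • ψ = 0) : ψ = 0 := by
  ext c
  have h1 : (x • ψ) c = 0 := by rw [h]; rfl
  rw [LinearMap.smul_apply] at h1
  have h2 := congrArg Subtype.val h1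
  change x * (ψ c).1 = 0 at h2
  have : (ψ c).1 = 0 := hx (by
    show x • (ψ c).1 = x • (0 : R)
    rw [smul_eq_mul, h2, smul_zero])
  simpa using this

include hx hy hB2 in
/-- Depth one case. -/
theorem caseB2 (hxm : x ∈ maximalIdeal R) (hyx : ¬ ∃ b, x * b = y) :
    ∃ (R' : Type u) (_ : CommRing R') (_ : Algebra R R'), Nontrivial R' ∧ Module.Finite R R' ∧
      ¬ Function.Bijective (algebraMap R R') ∧
      (∃ n : ℕ, (∀ z : R, algebraMap R R' z = 0 → ∀ a ∈ maximalIdeal R ^ n, a * z = 0) ∧
        (∀ w : R', ∀ a ∈ maximalIdeal R ^ n, a • w ∈ Set.range (algebraMap R R'))) ∧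
      maximalIdeal R ∉ associatedPrimes R R' := by
  set φ := phi x y hx hy hB2 with hφ
  set E := Module.End R ↥(maximalIdeal R) with hE
  set ev : Polynomial R →ₐ[R] E := Polynomial.aeval φ with hev
  set ι := Ideal.kerLiftAlg ev with hι
  have hιinj : Function.Injective ι := Ideal.kerLiftAlg_injective ev
  set x' : ↥(maximalIdeal R) := ⟨x, hxm⟩ with hx'
  have hx0 : x ≠ 0 := by
    rintro rfl
    apply hyx
    have : (1 : R) = 0 := hx (by
      show (0 : R) • (1 : R) = (0 : R) • (0 : R)
      simp)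
    exact ⟨0, by rw [mul_zero, ← mul_one y, this, mul_zero]⟩
  have hφx : (φ x').1 = y := by
    have := phi_spec x y hx hy hB2 x'
    exact hx (by
      show x • (φ x').1 = x • y
      rw [smul_eq_mul, smul_eq_mul, this])
  have hzero : ∀ w : Polynomial R ⧸ RingHom.ker ev, x • w = 0 → w = 0 := by
    intro w hw
    apply hιinj
    rw [map_zero]
    apply end_eq_zero_of_smul x hx
    rw [← map_smul, hw, map_zero]
  refine ⟨Polynomial R ⧸ RingHom.ker ev, inferInstance, inferInstance, ?_, ?_, ?_, ⟨1, ?_, ?_⟩, ?_⟩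
  · rw [Ideal.Quotient.nontrivial_iff]
    intro htop
    have h1 : (1 : Polynomial R) ∈ RingHom.ker ev := by rw [htop]; trivial
    rw [RingHom.mem_ker, map_one] at h1
    have h2 : (1 : E) x' = 0 := by rw [h1]; rfl
    apply hx0
    exact congrArg Subtype.val h2
  · exact Module.Finite.of_injective ι.toLinearMap hιinj
  · intro hbij
    obtain ⟨r, hr⟩ := hbij.2 (Ideal.Quotient.mk _ Polynomial.X)
    have h1 := congrArg ι hr
    rw [AlgHom.commutes, hι, Ideal.kerLiftAlg_mk, hev, Polynomial.aeval_X] at h1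
    have h2 : ((algebraMap R E r) x').1 = (φ x').1 := congrArg (fun ψ : E => (ψ x').1) h1
    rw [Module.algebraMap_end_apply] at h2
    apply hyx
    refine ⟨r, ?_⟩
    rw [← hφx, ← h2]
    change x * r = r * x
    ring
  · intro z hz a _
    have h1 := congrArg ι hz
    rw [AlgHom.commutes, map_zero] at h1
    have h2 : ((algebraMap R E z) x').1 = ((0 : E) x').1 := congrArg (fun ψ : E => (ψ x').1) h1
    rw [Module.algebraMap_end_apply] at h2
    change z * x = 0 at h2
    have : z = 0 := hx (by
      show x • z = x • (0 : R)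
      rw [smul_eq_mul, mul_comm, h2, smul_zero])
    rw [this, mul_zero]
  · intro w a ha
    rw [pow_one] at ha
    refine ⟨((ι w) ⟨a, ha⟩).1, ?_⟩
    apply hιinj
    rw [AlgHom.commutes, map_smul]
    exact (smul_end_eq (ι w) ⟨a, ha⟩).symm
  · intro hass
    obtain ⟨w, hw⟩ := (isAssociatedPrime_iff.mp hass).2
    have h1 : x • w = 0 := by
      have : x ∈ Submodule.colon (⊥ : Submodule R (Polynomial R ⧸ RingHom.ker ev)) {w} :=
        (SetLike.ext_iff.mp hw x).mp hxm
      rwa [Submodule.mem_colon_singleton, Submodule.mem_bot] at this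
    have h2 : w = 0 := hzero w h1
    have h3 : (1 : R) ∈ maximalIdeal R := (SetLike.ext_iff.mp hw 1).mpr (by
      rw [Submodule.mem_colon_singleton, h2, smul_zero]; exact (Submodule.mem_bot _).mpr rfl)
    exact (Ideal.ne_top_iff_one _).mp (Ideal.IsPrime.ne_top inferInstance) h3

end caseB2

end Groth.Agent.Lib.H74Tetra
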