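import Groth.Agent.Lib.GrLCFree
import Groth.Agent.Lib.GrLCVan
import Groth.Agent.Lib.H74GrArt
import Groth.Agent.Lib.H74GrVan

set_option autoImplicit false
set_option linter.unusedSectionVars false
universe u

namespace Groth.Agent.Lib.H74TopDual

open DirectSum GrLC Groth.Agent.Lib.GrLCMap Groth.Agent.Lib.GrLCLES Groth.Agent.Lib.GrLCFree

variable {ι : Type} [AddCommGroup ι] [DecidableEq ι]
variable {R : Type u} [CommRing R] {𝒜 : ι → AddSubgroup R} [GradedRing 𝒜]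
variable {M : Type u} [AddCommGroup M] [Module R M] {ℳ : ι → AddSubgroup M}
  [Decomposition ℳ] [SetLike.GradedSMul 𝒜 ℳ]
variable {N : Type u} [AddCommGroup N] [Module R N] {𝒩 : ι → AddSubgroup N}
  [Decomposition 𝒩] [SetLike.GradedSMul 𝒜 𝒩]

section Additive

theorem isLift_add {E : StarInjRes 𝒜 ℳ} {E' : StarInjRes 𝒜 𝒩} {f f' : M →ₗ[R] N} {δ : ι}
    {φ ψ : ∀ n, (E.X n).carrier →ₗ[R] (E'.X n).carrier}
    (hφ : IsLift E E' f δ φ) (hψ : IsLift E E' f' δ ψ) :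
    IsLift E E' (f + f') δ (fun n => φ n + ψ n) where
  comm n x := by
    rw [LinearMap.add_apply, LinearMap.add_apply, hφ.comm, hψ.comm, map_add]
  deg n := fun g x hx => by
    rw [LinearMap.add_apply]
    exact add_mem (hφ.deg n g x hx) (hψ.deg n g x hx)
  aug m := by
    rw [LinearMap.add_apply, hφ.aug, hψ.aug, LinearMap.add_apply, map_add]

theorem isGrHomDeg_add {f f' : M →ₗ[R] N} {δ : ι} (hf : IsGrHomDeg ℳ 𝒩 f δ)
    (hf' : IsGrHomDeg ℳ 𝒩 f' δ) : IsGrHomDeg ℳ 𝒩 (f + f') δ := fun g x hx => by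
  rw [LinearMap.add_apply]
  exact add_mem (hf g x hx) (hf' g x hx)

theorem isGrHomDeg_zero (δ : ι) : IsGrHomDeg ℳ 𝒩 (0 : M →ₗ[R] N) δ := fun _ _ _ => zero_mem _

theorem isGrHomDeg_sum {κ : Type*} (s : Finset κ) (f : κ → (M →ₗ[R] N)) {δ : ι}
    (hf : ∀ j ∈ s, IsGrHomDeg ℳ 𝒩 (f j) δ) : IsGrHomDeg ℳ 𝒩 (∑ j ∈ s, f j) δ := fun g x hx => by
  rw [LinearMap.sum_apply]
  exact sum_mem (fun j hj => hf j hj g x hx)

/-- `Hmap` only depends on the map. -/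
theorem Hmap_congr (E : StarInjRes 𝒜 ℳ) (E' : StarInjRes 𝒜 𝒩) (a : HomogeneousIdeal 𝒜)
    {f f' : M →ₗ[R] N} {δ δ' : ι} (hf : IsGrHomDeg ℳ 𝒩 f δ) (hf' : IsGrHomDeg ℳ 𝒩 f' δ')
    (h : f = f') (hδ : δ = δ') (i : ℕ) : Hmap E E' a hf i = Hmap E E' a hf' i := by
  subst h hδ
  rfl

theorem Hmap_add (E : StarInjRes 𝒜 ℳ) (E' : StarInjRes 𝒜 𝒩) (a : HomogeneousIdeal 𝒜)
    {f f' : M →ₗ[R] N} {δ : ι} (hf : IsGrHomDeg ℳ 𝒩 f δ) (hf' : IsGrHomDeg ℳ 𝒩 f' δ)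
    (hff' : IsGrHomDeg ℳ 𝒩 (f + f') δ) (i : ℕ) (x : E.H a i) :
    Hmap E E' a hff' i x = Hmap E E' a hf i x + Hmap E E' a hf' i x := by
  have hφ := Classical.choose_spec (exists_isLift E E' hf)
  have hψ := Classical.choose_spec (exists_isLift E E' hf')
  rw [Hmap_eq E E' a hff' (isLift_add hφ hψ), Hmap_eq E E' a hf hφ, Hmap_eq E E' a hf' hψ]
  obtain ⟨z, rfl⟩ := toH_surjective E a i x
  rw [HmapOf_toH, HmapOf_toH, HmapOf_toH, ← map_add]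
  congr 1

theorem Hmap_sum {κ : Type*} [DecidableEq κ] (E : StarInjRes 𝒜 ℳ) (E' : StarInjRes 𝒜 𝒩)
    (a : HomogeneousIdeal 𝒜) (s : Finset κ) (f : κ → (M →ₗ[R] N)) {δ : ι}
    (hf : ∀ j, IsGrHomDeg ℳ 𝒩 (f j) δ) (hs : IsGrHomDeg ℳ 𝒩 (∑ j ∈ s, f j) δ) (i : ℕ)
    (x : E.H a i) :
    Hmap E E' a hs i x = ∑ j ∈ s, Hmap E E' a (hf j) i x := by
  induction s using Finset.induction_on with
  | empty =>
    have h0 : (∑ j ∈ (∅ : Finset κ), f j) = 0 := Finset.sum_empty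
    rw [Hmap_congr E E' a hs (isGrHomDeg_zero δ) h0 rfl i, Hmap_zero E E' a δ _ i x]
    exact Finset.sum_empty.symm
  | insert j s hj ih =>
    have h1 : (∑ l ∈ insert j s, f l) = f j + ∑ l ∈ s, f l := Finset.sum_insert hj
    have hs' : IsGrHomDeg ℳ 𝒩 (∑ l ∈ s, f l) δ := isGrHomDeg_sum s f (fun l _ => hf l)
    rw [Hmap_congr E E' a hs (isGrHomDeg_add (hf j) hs') h1 rfl i,
      Hmap_add E E' a (hf j) hs', ih hs', Finset.sum_insert hj]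

end Additive

end Groth.Agent.Lib.H74TopDual
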