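import Groth.Agent.Lib.GrLCFree
import Groth.Agent.Lib.GrLCVan
import Groth.Agent.Lib.H74GrArt
import Groth.Agent.Lib.H74GrVan
import Groth.Agent.Lib.H74TopDual1

set_option autoImplicit false
set_option linter.unusedSectionVars false
universe u

namespace Groth.Agent.Lib.H74TopDual

open DirectSum GrLC Groth.Agent.Lib.GrLCMap Groth.Agent.Lib.GrLCLES Groth.Agent.Lib.GrLCFree
  Groth.Agent.Lib.GrLCVan Groth.Agent.S18661 Groth.Agent.S13215

variable {ι : Type} [AddCommGroup ι] [DecidableEq ι]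
variable {R : Type u} [CommRing R] {𝒜 : ι → AddSubgroup R} [GradedRing 𝒜]
variable {M : Type u} [AddCommGroup M] [Module R M] {ℳ : ι → AddSubgroup M}
  [Decomposition ℳ] [SetLike.GradedSMul 𝒜 ℳ]

section Act

/-- `r ↦ r • x` is homogeneous of degree `deg x`. -/
theorem isGrHomDeg_mu {x : M} {j : ι} (hx : x ∈ ℳ j) :
    IsGrHomDeg 𝒜 ℳ (LinearMap.toSpanSingleton R M x) j := fun g r hr => by
  rw [LinearMap.toSpanSingleton_apply]
  have := SetLike.GradedSMul.smul_mem (A := 𝒜) (B := ℳ) hr hx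
  rwa [vadd_eq_add] at this

/-- The map `H^i_a(R) → H^i_a(M)` induced by `r ↦ r • x` for a homogeneous element `x`. -/
noncomputable def act (ER : StarInjRes 𝒜 𝒜) (EM : StarInjRes 𝒜 ℳ) (a : HomogeneousIdeal 𝒜)
    (i : ℕ) {x : M} {j : ι} (hx : x ∈ ℳ j) : ER.H a i →ₗ[R] EM.H a i :=
  Hmap ER EM a (isGrHomDeg_mu hx) i

theorem act_mem (ER : StarInjRes 𝒜 𝒜) (EM : StarInjRes 𝒜 ℳ) (a : HomogeneousIdeal 𝒜)
    (i : ℕ) {x : M} {j : ι} (hx : x ∈ ℳ j) {g : ι} {h : ER.H a i} (hh : h ∈ ER.Hcomp a i g) :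
    act ER EM a i hx h ∈ EM.Hcomp a i (g + j) :=
  Hmap_mem ER EM a (isGrHomDeg_mu hx) i hh

theorem act_congr (ER : StarInjRes 𝒜 𝒜) (EM : StarInjRes 𝒜 ℳ) (a : HomogeneousIdeal 𝒜)
    (i : ℕ) {x x' : M} {j j' : ι} (hx : x ∈ ℳ j) (hx' : x' ∈ ℳ j') (h : x = x') (hj : j = j') :
    act ER EM a i hx = act ER EM a i hx' := by
  subst h hj
  rfl

end Act

section Free

variable {t : ℕ} (deg : Fin t → ι)

theorem isGrHomDeg_single (b : Fin t) :
    IsGrHomDeg 𝒜 (freeGr 𝒜 deg) (LinearMap.single R (fun _ => R) b) (deg b) := fun _ _ hr =>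
  single_mem_freeGr 𝒜 deg b hr

theorem isGrHomDeg_proj (b : Fin t) :
    IsGrHomDeg (freeGr 𝒜 deg) 𝒜 (LinearMap.proj b : (Fin t → R) →ₗ[R] R) (-deg b) :=
  fun e v hv => by
    rw [LinearMap.proj_apply, ← sub_eq_add_neg]
    exact hv b

theorem isGrHomDeg_lc {m : Fin t → M} (hm : ∀ b, m b ∈ ℳ (deg b)) :
    IsGrHomDeg (freeGr 𝒜 deg) ℳ (Fintype.linearCombination R m) 0 := fun e v hv => by
  rw [Fintype.linearCombination_apply, add_zero]
  refine sum_mem (fun b _ => ?_)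
  have := SetLike.GradedSMul.smul_mem (A := 𝒜) (B := ℳ) (hv b) (hm b)
  rwa [vadd_eq_add, sub_add_cancel] at this

theorem lc_surjective {m : Fin t → M} (hspan : Submodule.span R (Set.range m) = ⊤) :
    Function.Surjective (Fintype.linearCombination R m) := by
  rw [← LinearMap.range_eq_top, Fintype.range_linearCombination, hspan]

theorem sum_single_comp_proj :
    (∑ b : Fin t, (LinearMap.single R (fun _ => R) b) ∘ₗ (LinearMap.proj b : (Fin t → R) →ₗ[R] R)) =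
      LinearMap.id := by
  apply LinearMap.ext
  intro v
  rw [LinearMap.sum_apply]
  simp only [LinearMap.comp_apply, LinearMap.proj_apply, LinearMap.id_apply]
  exact Finset.univ_sum_single v

theorem lc_comp_single (m : Fin t → M) (b : Fin t) :
    (Fintype.linearCombination R m) ∘ₗ (LinearMap.single R (fun _ => R) b) =
      LinearMap.toSpanSingleton R M (m b) := by
  apply LinearMap.ext
  intro r
  rw [LinearMap.comp_apply, Fintype.linearCombination_apply, LinearMap.toSpanSingleton_apply]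
  rw [Finset.sum_eq_single b]
  · simp
  · intro b' _ hb'
    simp [Pi.single_eq_of_ne hb']
  · intro h
    exact absurd (Finset.mem_univ b) h

end Free

section Span

/-- Vanishing of graded local cohomology in degree `n + 1`, for all graded modules. -/
def TopVan (a : HomogeneousIdeal 𝒜) (n : ℕ) : Prop :=
  ∀ (Y : GMod.{u} 𝒜) (E : StarInjRes 𝒜 Y.gr), Subsingleton (E.H a (n + 1))

variable {t : ℕ} (deg : Fin t → ι)

/-- Right exactness of `H^n_a` at a graded free cover. -/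
theorem Hmap_lc_surjective {a : HomogeneousIdeal 𝒜} {n : ℕ} (hv : TopVan a n)
    {m : Fin t → M} (hm : ∀ b, m b ∈ ℳ (deg b))
    (hspan : Submodule.span R (Set.range m) = ⊤)
    (EF : StarInjRes 𝒜 (freeGr 𝒜 deg)) (EM : StarInjRes 𝒜 ℳ) :
    Function.Surjective (Hmap EF EM a (isGrHomDeg_lc deg hm) n) := by
  have hπ0 : IsGrHom (freeGr 𝒜 deg) ℳ (Fintype.linearCombination R m) :=
    (isGrHomDeg_zero_iff _ _ _).mp (isGrHomDeg_lc deg hm)
  have hZ : (LinearMap.ker (Fintype.linearCombination R m)).IsHomogeneous (freeGr 𝒜 deg) :=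
    Groth.Agent.Lib.H87GrMod.isHomogeneous_ker (freeGr 𝒜 deg) ℳ hπ0
  let ZG : GMod.{u} 𝒜 := subG (𝒜 := 𝒜) (freeGr 𝒜 deg) _ hZ
  let EZ : StarInjRes 𝒜 ZG.gr := Groth.Agent.S13215.res ZG.gr
  have hf : IsGrHomDeg ZG.gr (freeGr 𝒜 deg)
      (sqVal (LinearMap.ker (Fintype.linearCombination R m))) 0 :=
    (isGrHomDeg_zero_iff _ _ _).mpr (sqVal_isGrHom (𝒜 := 𝒜) (freeGr 𝒜 deg) _ hZ)
  obtain ⟨cn, -, -, -, h2, -⟩ := exists_les EZ EF EM a hf (isGrHomDeg_lc deg hm)
    (sqVal_injective _) (lc_surjective hspan) (range_sqVal _).symm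
  have : Subsingleton (EZ.H a (n + 1)) := hv ZG EZ
  rw [← LinearMap.range_eq_top, ← h2 n, LinearMap.ker_eq_top]
  apply LinearMap.ext
  intro x
  exact Subsingleton.elim _ _

theorem isGrHomDeg_single_comp_proj (b : Fin t) :
    IsGrHomDeg (freeGr 𝒜 deg) (freeGr 𝒜 deg)
      ((LinearMap.single R (fun _ => R) b) ∘ₗ (LinearMap.proj b : (Fin t → R) →ₗ[R] R)) 0 :=
  isGrHomDeg_congr_deg (isGrHomDeg_comp (isGrHomDeg_proj deg b) (isGrHomDeg_single deg b))
    (neg_add_cancel (deg b))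

/-- Every class in `H^n_a(F)` for a graded free module `F` is the sum of its coordinates. -/
theorem eq_sum_single_proj (a : HomogeneousIdeal 𝒜) (n : ℕ) (ER : StarInjRes 𝒜 𝒜)
    (EF : StarInjRes 𝒜 (freeGr 𝒜 deg)) (ξ : EF.H a n) :
    ξ = ∑ b, Hmap ER EF a (isGrHomDeg_single deg b) n
      (Hmap EF ER a (isGrHomDeg_proj deg b) n ξ) := by
  have hsum : IsGrHomDeg (freeGr 𝒜 deg) (freeGr 𝒜 deg)
      (∑ b : Fin t, (LinearMap.single R (fun _ => R) b) ∘ₗ
        (LinearMap.proj b : (Fin t → R) →ₗ[R] R)) 0 :=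
    isGrHomDeg_sum _ _ (fun b _ => isGrHomDeg_single_comp_proj deg b)
  calc ξ = Hmap EF EF a isGrHomDeg_id n ξ := (Hmap_id EF a isGrHomDeg_id n ξ).symm
    _ = Hmap EF EF a hsum n ξ := by
        rw [Hmap_congr EF EF a isGrHomDeg_id hsum (sum_single_comp_proj).symm rfl n]
    _ = ∑ b, Hmap EF EF a (isGrHomDeg_single_comp_proj deg b) n ξ :=
        Hmap_sum EF EF a Finset.univ _ (fun b => isGrHomDeg_single_comp_proj deg b) hsum n ξ
    _ = _ := by
        refine Finset.sum_congr rfl (fun b _ => ?_)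
        exact Hmap_comp EF ER EF a (isGrHomDeg_proj deg b) (isGrHomDeg_single deg b)
          (isGrHomDeg_single_comp_proj deg b) rfl (neg_add_cancel (deg b)).symm n ξ

/-- The classes `x_b · h` span `H^n_a(M)`, compatibly with degrees. -/
theorem exists_rep {a : HomogeneousIdeal 𝒜} {n : ℕ} (hv : TopVan a n)
    {m : Fin t → M} (hm : ∀ b, m b ∈ ℳ (deg b))
    (hspan : Submodule.span R (Set.range m) = ⊤)
    (ER : StarInjRes 𝒜 𝒜) (EM : StarInjRes 𝒜 ℳ) {g : ι} {ξ : EM.H a n}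
    (hξ : ξ ∈ EM.Hcomp a n g) :
    ∃ h : Fin t → ER.H a n, (∀ b, h b ∈ ER.Hcomp a n (g - deg b)) ∧
      ξ = ∑ b, act ER EM a n (hm b) (h b) := by
  let EF : StarInjRes 𝒜 (freeGr 𝒜 deg) := Groth.Agent.S13215.res (freeGr 𝒜 deg)
  let _ := Groth.Agent.Lib.H74GrArt.decompositionHgr 𝒜 (freeGr 𝒜 deg) a EF n
  let _ := Groth.Agent.Lib.H74GrArt.decompositionHgr 𝒜 ℳ a EM n
  have hsurj := Hmap_lc_surjective deg hv hm hspan EF EM
  have hπdeg : IsGrHomDeg (EF.Hgr a n) (EM.Hgr a n) (Hmap EF EM a (isGrHomDeg_lc deg hm) n) 0 :=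
    fun e x hx => Hmap_mem EF EM a (isGrHomDeg_lc deg hm) n hx
  obtain ⟨ξF, hξF, rfl⟩ := Groth.Agent.Lib.H74GrVan.exists_homogeneous_preimage
    (EF.Hgr a n) (EM.Hgr a n) hπdeg (show ξ ∈ EM.Hgr a n g from hξ)
    (by rw [LinearMap.range_eq_top.mpr hsurj]; exact Submodule.mem_top)
  refine ⟨fun b => Hmap EF ER a (isGrHomDeg_proj deg b) n ξF, fun b => ?_, ?_⟩
  · have h1 := Hmap_mem EF ER a (isGrHomDeg_proj deg b) n
      (show ξF ∈ EF.Hcomp a n (g - 0) from hξF)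
    rwa [sub_zero, ← sub_eq_add_neg] at h1
  · conv_lhs => rw [eq_sum_single_proj deg a n ER EF ξF]
    rw [map_sum]
    refine Finset.sum_congr rfl (fun b _ => ?_)
    have hc : IsGrHomDeg 𝒜 ℳ ((Fintype.linearCombination R m) ∘ₗ
        (LinearMap.single R (fun _ => R) b)) (deg b) := by
      rw [lc_comp_single]
      exact isGrHomDeg_mu (hm b)
    rw [← Hmap_comp ER EF EM a (isGrHomDeg_single deg b) (isGrHomDeg_lc deg hm) hc rfl
      (add_zero _).symm n]
    unfold act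
    rw [Hmap_congr ER EM a hc (isGrHomDeg_mu (hm b)) (lc_comp_single m b) rfl n]

end Span

end Groth.Agent.Lib.H74TopDual
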