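import Groth.Agent.Lib.H74TopDual2

set_option autoImplicit false
set_option linter.unusedSectionVars false
universe u

namespace Groth.Agent.Lib.H74TopDual

open DirectSum GrLC Groth.Agent.Lib.GrLCMap Groth.Agent.Lib.GrLCLES Groth.Agent.Lib.GrLCFree
  Groth.Agent.Lib.GrLCVan Groth.Agent.S18661 Groth.Agent.S13215

variable {ι : Type} [AddCommGroup ι] [DecidableEq ι]
variable {R : Type u} [CommRing R] {𝒜 : ι → AddSubgroup R} [GradedRing 𝒜]
variable {M : Type u} [AddCommGroup M] [Module R M] {ℳ : ι → AddSubgroup M}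
  [Decomposition ℳ] [SetLike.GradedSMul 𝒜 ℳ]

section Desc

variable {t : ℕ} (deg : Fin t → ι)

/-- Ungraded form of `exists_rep`. -/
theorem exists_rep' {a : HomogeneousIdeal 𝒜} {n : ℕ} (hv : TopVan a n)
    {m : Fin t → M} (hm : ∀ b, m b ∈ ℳ (deg b))
    (hspan : Submodule.span R (Set.range m) = ⊤)
    (ER : StarInjRes 𝒜 𝒜) (EM : StarInjRes 𝒜 ℳ) (ξ : EM.H a n) :
    ∃ h : Fin t → ER.H a n, ξ = ∑ b, act ER EM a n (hm b) (h b) := by
  let _ := Groth.Agent.Lib.H74GrArt.decompositionHgr 𝒜 ℳ a EM n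
  induction ξ using Decomposition.inductionOn (EM.Hgr a n) with
  | zero => exact ⟨fun _ => 0, by simp⟩
  | @homogeneous g ξ =>
    obtain ⟨h, -, hh⟩ := exists_rep deg hv hm hspan ER EM (show (ξ : EM.H a n) ∈ EM.Hcomp a n g from ξ.2)
    exact ⟨h, hh⟩
  | add ξ ξ' ih ih' =>
    obtain ⟨h, hh⟩ := ih
    obtain ⟨h', hh'⟩ := ih'
    refine ⟨fun b => h b + h' b, ?_⟩
    rw [hh, hh', ← Finset.sum_add_distrib]
    refine Finset.sum_congr rfl (fun b _ => ?_)
    rw [map_add]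

/-- `pr_{b'} ∘ in_b` on cohomology. -/
theorem Hmap_proj_single (a : HomogeneousIdeal 𝒜) (n : ℕ) (ER : StarInjRes 𝒜 𝒜)
    (EF : StarInjRes 𝒜 (freeGr 𝒜 deg)) (b b' : Fin t) (h : ER.H a n) :
    Hmap EF ER a (isGrHomDeg_proj deg b') n (Hmap ER EF a (isGrHomDeg_single deg b) n h) =
      if b' = b then h else 0 := by
  have hc : IsGrHomDeg 𝒜 𝒜 ((LinearMap.proj b' : (Fin t → R) →ₗ[R] R) ∘ₗ
      (LinearMap.single R (fun _ => R) b)) (deg b + -deg b') :=
    isGrHomDeg_comp (isGrHomDeg_single deg b) (isGrHomDeg_proj deg b')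
  rw [← Hmap_comp ER EF ER a (isGrHomDeg_single deg b) (isGrHomDeg_proj deg b') hc rfl rfl n]
  split_ifs with hbb
  · subst hbb
    have h1 : ((LinearMap.proj b' : (Fin t → R) →ₗ[R] R) ∘ₗ
        (LinearMap.single R (fun _ => R) b')) = LinearMap.id := by
      apply LinearMap.ext
      intro r
      simp
    rw [Hmap_congr ER ER a hc isGrHomDeg_id h1 (add_neg_cancel _) n]
    exact Hmap_id ER a isGrHomDeg_id n h
  · have h1 : ((LinearMap.proj b' : (Fin t → R) →ₗ[R] R) ∘ₗ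
        (LinearMap.single R (fun _ => R) b)) = 0 := by
      apply LinearMap.ext
      intro r
      simp [Pi.single_eq_of_ne hbb]
    rw [Hmap_congr ER ER a hc (isGrHomDeg_zero _) h1 rfl n]
    exact Hmap_zero ER ER a _ _ n h

/-- Finite homogeneous generating family indexed by `Fin`. -/
theorem exists_fin_gens (X : GMod.{u} 𝒜) [Module.Finite R X.carrier] :
    ∃ (s : ℕ) (dg : Fin s → ι) (x : Fin s → X.carrier), (∀ j, x j ∈ X.gr (dg j)) ∧
      Submodule.span R (Set.range x) = ⊤ := by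
  classical
  obtain ⟨S, hS, hspan⟩ := Groth.Agent.S13216.exists_homogeneous_generators X.gr
    (Groth.Agent.S13215.isHomogeneous_top (R := R) X.gr) Module.Finite.fg_top
  let e : Fin S.card ≃ S := S.equivFin.symm
  choose dg hdg using fun j : Fin S.card => hS (e j : S) (e j).2
  refine ⟨S.card, dg, fun j => (e j : S), hdg, ?_⟩
  rw [← hspan]
  congr 1
  ext x
  constructor
  · rintro ⟨j, rfl⟩
    exact (e j).2
  · intro hx
    exact ⟨e.symm ⟨x, hx⟩, by show ((e (e.symm ⟨x, hx⟩) : S) : X.carrier) = x; rw [Equiv.apply_symm_apply]⟩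

theorem exists_desc_aux [IsNoetherianRing R] {a : HomogeneousIdeal 𝒜} {n : ℕ} (hv : TopVan a n)
    {m : Fin t → M} (hm : ∀ b, m b ∈ ℳ (deg b))
    (hspan : Submodule.span R (Set.range m) = ⊤)
    (ER : StarInjRes 𝒜 𝒜) (EM : StarInjRes 𝒜 ℳ)
    (ZG : GMod.{u} 𝒜) (jz : ZG.carrier →ₗ[R] (Fin t → R))
    (hf : IsGrHomDeg ZG.gr (freeGr 𝒜 deg) jz 0) (hjinj : Function.Injective jz)
    (hjr : LinearMap.ker (Fintype.linearCombination R m) = LinearMap.range jz)
    {G : Type*} [AddCommGroup G] (lam : Fin t → (ER.H a n →+ G))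
    (hrel : ∀ r : Fin t → R, ∑ b, r b • m b = 0 → ∀ h : ER.H a n, ∑ b, lam b (r b • h) = 0) :
    ∃ Λ : EM.H a n →+ G, ∀ b h, Λ (act ER EM a n (hm b) h) = lam b h := by
  classical
  let EF : StarInjRes 𝒜 (freeGr 𝒜 deg) := Groth.Agent.S13215.res (freeGr 𝒜 deg)
  let EZ : StarInjRes 𝒜 ZG.gr := Groth.Agent.S13215.res ZG.gr
  obtain ⟨cn, -, -, h1, -, -⟩ := exists_les EZ EF EM a hf (isGrHomDeg_lc deg hm)
    hjinj (lc_surjective hspan) hjr
  have hsurj := Hmap_lc_surjective deg hv hm hspan EF EM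
  -- the functional on `H^n(F)`
  let Λ0 : EF.H a n →+ G :=
    ∑ b, (lam b).comp (Hmap EF ER a (isGrHomDeg_proj deg b) n).toAddMonoidHom
  have hΛ0 : ∀ ξ, Λ0 ξ = ∑ b, lam b (Hmap EF ER a (isGrHomDeg_proj deg b) n ξ) := by
    intro ξ
    show (∑ b, (lam b).comp (Hmap EF ER a (isGrHomDeg_proj deg b) n).toAddMonoidHom) ξ = _
    rw [AddMonoidHom.finsetSum_apply]
    rfl
  -- generators of the relation module
  have : IsNoetherian R ZG.carrier := isNoetherian_of_injective jz hjinj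
  obtain ⟨s, dg, zq, hzq, hzspan⟩ := exists_fin_gens ZG
  -- `Λ0` kills the image of `H^n(Z)`
  have hkill : ∀ ζ : EZ.H a n, Λ0 (Hmap EZ EF a hf n ζ) = 0 := by
    intro ζ
    obtain ⟨h', rfl⟩ := exists_rep' dg hv hzq hzspan ER EZ ζ
    rw [map_sum, map_sum]
    refine Finset.sum_eq_zero (fun j _ => ?_)
    rw [hΛ0]
    have key : ∀ b, Hmap EF ER a (isGrHomDeg_proj deg b) n
        (Hmap EZ EF a hf n (act ER EZ a n (hzq j) (h' j))) = (jz (zq j)) b • h' j := by
      intro b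
      have hr : (jz (zq j)) b ∈ 𝒜 (dg j - deg b) := by
        have := hf (dg j) (zq j) (hzq j)
        rw [add_zero] at this
        exact this b
      have hc1 : IsGrHomDeg 𝒜 (freeGr 𝒜 deg)
          (jz ∘ₗ (LinearMap.toSpanSingleton R ZG.carrier (zq j))) (dg j + 0) :=
        isGrHomDeg_comp (isGrHomDeg_mu (hzq j)) hf
      have hc2 : IsGrHomDeg 𝒜 𝒜 ((LinearMap.proj b : (Fin t → R) →ₗ[R] R) ∘ₗ
          (jz ∘ₗ (LinearMap.toSpanSingleton R ZG.carrier (zq j)))) (dg j + 0 + -deg b) :=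
        isGrHomDeg_comp hc1 (isGrHomDeg_proj deg b)
      unfold act
      rw [← Hmap_comp ER EZ EF a (isGrHomDeg_mu (hzq j)) hf hc1 rfl rfl n,
        ← Hmap_comp ER EF ER a hc1 (isGrHomDeg_proj deg b) hc2 rfl rfl n]
      have h3 : ((LinearMap.proj b : (Fin t → R) →ₗ[R] R) ∘ₗ
          (jz ∘ₗ (LinearMap.toSpanSingleton R ZG.carrier (zq j)))) =
          LinearMap.lsmul R R ((jz (zq j)) b) := by
        apply LinearMap.ext
        intro r
        rw [LinearMap.comp_apply, LinearMap.comp_apply, LinearMap.toSpanSingleton_apply, map_smul,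
          LinearMap.proj_apply, Pi.smul_apply, LinearMap.lsmul_apply, smul_eq_mul,
          smul_eq_mul, mul_comm]
      have h4 : IsGrHomDeg 𝒜 𝒜 (LinearMap.lsmul R R ((jz (zq j)) b)) (dg j - deg b) :=
        Groth.Agent.Lib.H87GrShift.isGrHomDeg_lsmul 𝒜 𝒜 hr
      rw [Hmap_congr ER ER a hc2 h4 h3 (by rw [add_zero, sub_eq_add_neg]) n]
      exact Hmap_smul ER a hr h4 n (h' j)
    simp_rw [key]
    apply hrel
    have : jz (zq j) ∈ LinearMap.ker (Fintype.linearCombination R m) := by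
      rw [hjr]
      exact ⟨_, rfl⟩
    rwa [LinearMap.mem_ker, Fintype.linearCombination_apply] at this
  -- descend
  have hker : (Hmap EF EM a (isGrHomDeg_lc deg hm) n).toAddMonoidHom.ker ≤ Λ0.ker := by
    intro x hx
    have hx' : x ∈ LinearMap.ker (Hmap EF EM a (isGrHomDeg_lc deg hm) n) := hx
    rw [h1 n] at hx'
    obtain ⟨ζ, rfl⟩ := hx'
    exact hkill ζ
  let Λ : EM.H a n →+ G :=
    (Hmap EF EM a (isGrHomDeg_lc deg hm) n).toAddMonoidHom.liftOfRightInverse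
      (Function.surjInv hsurj) (Function.rightInverse_surjInv hsurj) ⟨Λ0, hker⟩
  have hΛ : ∀ ξ, Λ (Hmap EF EM a (isGrHomDeg_lc deg hm) n ξ) = Λ0 ξ := fun ξ =>
    AddMonoidHom.liftOfRightInverse_comp_apply _ _ _ ⟨Λ0, hker⟩ ξ
  refine ⟨Λ, fun b h => ?_⟩
  have hc : IsGrHomDeg 𝒜 ℳ ((Fintype.linearCombination R m) ∘ₗ
      (LinearMap.single R (fun _ => R) b)) (deg b) := by
    rw [lc_comp_single]
    exact isGrHomDeg_mu (hm b)
  have h5 : act ER EM a n (hm b) h = Hmap EF EM a (isGrHomDeg_lc deg hm) n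
      (Hmap ER EF a (isGrHomDeg_single deg b) n h) := by
    unfold act
    rw [← Hmap_comp ER EF EM a (isGrHomDeg_single deg b) (isGrHomDeg_lc deg hm) hc rfl
      (add_zero _).symm n]
    rw [Hmap_congr ER EM a hc (isGrHomDeg_mu (hm b)) (lc_comp_single m b) rfl n]
  rw [h5, hΛ, hΛ0]
  simp_rw [Hmap_proj_single]
  rw [Finset.sum_eq_single b]
  · rw [if_pos rfl]
  · intro b' _ hb'
    rw [if_neg hb', map_zero]
  · intro hb
    exact absurd (Finset.mem_univ b) hb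

/-- Universal property of `H^n_a(M)` as the quotient of `H^n_a(R)^t` by the relations. -/
theorem exists_desc [IsNoetherianRing R] {a : HomogeneousIdeal 𝒜} {n : ℕ} (hv : TopVan a n)
    {m : Fin t → M} (hm : ∀ b, m b ∈ ℳ (deg b))
    (hspan : Submodule.span R (Set.range m) = ⊤)
    (ER : StarInjRes 𝒜 𝒜) (EM : StarInjRes 𝒜 ℳ)
    {G : Type*} [AddCommGroup G] (lam : Fin t → (ER.H a n →+ G))
    (hrel : ∀ r : Fin t → R, ∑ b, r b • m b = 0 → ∀ h : ER.H a n, ∑ b, lam b (r b • h) = 0) :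
    ∃ Λ : EM.H a n →+ G, ∀ b h, Λ (act ER EM a n (hm b) h) = lam b h := by
  have hπ0 : IsGrHom (freeGr 𝒜 deg) ℳ (Fintype.linearCombination R m) :=
    (isGrHomDeg_zero_iff _ _ _).mp (isGrHomDeg_lc deg hm)
  have hZ : (LinearMap.ker (Fintype.linearCombination R m)).IsHomogeneous (freeGr 𝒜 deg) :=
    Groth.Agent.Lib.H87GrMod.isHomogeneous_ker (freeGr 𝒜 deg) ℳ hπ0
  exact exists_desc_aux deg hv hm hspan ER EM (subG (𝒜 := 𝒜) (freeGr 𝒜 deg) _ hZ)
    (sqVal (LinearMap.ker (Fintype.linearCombination R m)))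
    ((isGrHomDeg_zero_iff _ _ _).mpr (sqVal_isGrHom (𝒜 := 𝒜) (freeGr 𝒜 deg) _ hZ))
    (sqVal_injective _) (range_sqVal _).symm lam hrel

end Desc

end Groth.Agent.Lib.H74TopDual
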