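import Groth.Agent.Lib.H74TopDual3
import Groth.Agent.S13224
import Groth.Agent.Lib.LocCohVanishing

set_option autoImplicit false
set_option linter.unusedSectionVars false
universe u

namespace Groth.Agent.Lib.H74TopDual

open DirectSum GrLC Groth.Agent.Lib.GrLCMap Groth.Agent.Lib.GrLCLES Groth.Agent.Lib.GrLCFree
  Groth.Agent.Lib.GrLCVan Groth.Agent.S18661 Groth.Agent.S13215

variable {ι : Type} [AddCommGroup ι] [DecidableEq ι]
variable {R : Type u} [CommRing R] {𝒜 : ι → AddSubgroup R} [GradedRing 𝒜]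
variable {M : Type u} [AddCommGroup M] [Module R M] {ℳ : ι → AddSubgroup M}
  [Decomposition ℳ] [SetLike.GradedSMul 𝒜 ℳ]

section ActLinear

variable (ER : StarInjRes 𝒜 𝒜) (EM : StarInjRes 𝒜 ℳ) (a : HomogeneousIdeal 𝒜) (i : ℕ)

theorem act_add {x y : M} {j : ι} (hx : x ∈ ℳ j) (hy : y ∈ ℳ j) (hxy : x + y ∈ ℳ j) :
    act ER EM a i hxy = act ER EM a i hx + act ER EM a i hy := by
  apply LinearMap.ext
  intro h
  unfold act
  have e : LinearMap.toSpanSingleton R M (x + y) =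
      LinearMap.toSpanSingleton R M x + LinearMap.toSpanSingleton R M y := by
    apply LinearMap.ext
    intro r
    simp [LinearMap.toSpanSingleton_apply, smul_add]
  rw [Hmap_congr ER EM a (isGrHomDeg_mu hxy)
    (isGrHomDeg_add (isGrHomDeg_mu hx) (isGrHomDeg_mu hy)) e rfl i, LinearMap.add_apply]
  exact Hmap_add ER EM a _ _ _ i h

theorem act_zero {j : ι} (h0 : (0 : M) ∈ ℳ j) : act ER EM a i h0 = 0 := by
  apply LinearMap.ext
  intro h
  unfold act
  have e : LinearMap.toSpanSingleton R M (0 : M) = 0 := by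
    apply LinearMap.ext
    intro r
    simp
  rw [Hmap_congr ER EM a (isGrHomDeg_mu h0) (isGrHomDeg_zero j) e rfl i]
  exact Hmap_zero ER EM a j _ i h

theorem act_smul {x : M} {j g : ι} {r : R} (hr : r ∈ 𝒜 g) (hx : x ∈ ℳ j)
    (hrx : r • x ∈ ℳ (g + j)) (h : ER.H a i) :
    act ER EM a i hrx h = r • act ER EM a i hx h := by
  unfold act
  have hl : IsGrHomDeg 𝒜 𝒜 (LinearMap.lsmul R R r) g :=
    Groth.Agent.Lib.H87GrShift.isGrHomDeg_lsmul 𝒜 𝒜 hr
  have e : LinearMap.toSpanSingleton R M (r • x) =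
      (LinearMap.toSpanSingleton R M x) ∘ₗ (LinearMap.lsmul R R r) := by
    apply LinearMap.ext
    intro s
    simp [LinearMap.toSpanSingleton_apply, mul_smul, mul_comm r s]
  rw [Hmap_comp ER ER EM a hl (isGrHomDeg_mu hx) (isGrHomDeg_mu hrx) e rfl i h,
    Hmap_smul ER a hr hl i h, map_smul]

/-- The additive map `M_j → Hom(H^i_a(R), H^i_a(M))`. -/
noncomputable def actPiece (j : ι) : ℳ j →+ (ER.H a i →ₗ[R] EM.H a i) where
  toFun x := act ER EM a i x.2
  map_zero' := act_zero ER EM a i _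
  map_add' x y := act_add ER EM a i x.2 y.2 _

/-- The action `M → Hom(H^i_a(R), H^i_a(M))`, additive version. -/
noncomputable def ActAdd : M →+ (ER.H a i →ₗ[R] EM.H a i) :=
  (DirectSum.toAddMonoid (actPiece ER EM a i)).comp (decomposeAddEquiv ℳ).toAddMonoidHom

theorem ActAdd_of_mem {x : M} {j : ι} (hx : x ∈ ℳ j) : ActAdd ER EM a i x = act ER EM a i hx := by
  unfold ActAdd
  rw [AddMonoidHom.comp_apply]
  have : (decomposeAddEquiv ℳ).toAddMonoidHom x = DirectSum.of (fun e => ℳ e) j ⟨x, hx⟩ :=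
    DirectSum.decompose_of_mem ℳ hx
  rw [this, DirectSum.toAddMonoid_of]
  rfl

theorem ActAdd_smul (r : R) (x : M) : ActAdd ER EM a i (r • x) = r • ActAdd ER EM a i x := by
  induction r using Decomposition.inductionOn 𝒜 with
  | zero => simp
  | @homogeneous g r =>
    induction x using Decomposition.inductionOn ℳ with
    | zero => simp
    | @homogeneous j x =>
      have hrx : (r : R) • (x : M) ∈ ℳ (g + j) := by
        have := SetLike.GradedSMul.smul_mem (A := 𝒜) (B := ℳ) r.2 x.2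
        rwa [vadd_eq_add] at this
      rw [ActAdd_of_mem ER EM a i hrx, ActAdd_of_mem ER EM a i x.2]
      apply LinearMap.ext
      intro h
      rw [LinearMap.smul_apply]
      exact act_smul ER EM a i r.2 x.2 hrx h
    | add x y hx hy => rw [smul_add, map_add, hx, hy, map_add, smul_add]
  | add r s hr hs => rw [add_smul, map_add, hr, hs, add_smul]

/-- The action `M → Hom(H^i_a(R), H^i_a(M))` as an `R`-bilinear map. -/
noncomputable def Act : M →ₗ[R] (ER.H a i →ₗ[R] EM.H a i) where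
  toFun := ActAdd ER EM a i
  map_add' := map_add _
  map_smul' := ActAdd_smul ER EM a i

theorem Act_of_mem {x : M} {j : ι} (hx : x ∈ ℳ j) : Act ER EM a i x = act ER EM a i hx :=
  ActAdd_of_mem ER EM a i hx

theorem Act_mem {x : M} {j : ι} (hx : x ∈ ℳ j) {g : ι} {h : ER.H a i}
    (hh : h ∈ ER.Hcomp a i g) : Act ER EM a i x h ∈ EM.Hcomp a i (g + j) := by
  rw [Act_of_mem ER EM a i hx]
  exact act_mem ER EM a i hx hh

end ActLinear

section Final

variable {t : ℕ} (deg : Fin t → ι)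

/-- Finite homogeneous generating family indexed by `Fin`, unbundled. -/
theorem exists_fin_gens' (𝒜 : ι → AddSubgroup R) [GradedRing 𝒜] (ℳ : ι → AddSubgroup M)
    [Decomposition ℳ] [SetLike.GradedSMul 𝒜 ℳ] [Module.Finite R M] :
    ∃ (s : ℕ) (dg : Fin s → ι) (x : Fin s → M), (∀ j, x j ∈ ℳ (dg j)) ∧
      Submodule.span R (Set.range x) = ⊤ := by
  have : Module.Finite R (GMod.of 𝒜 M ℳ).carrier := ‹Module.Finite R M›
  exact exists_fin_gens (GMod.of 𝒜 M ℳ)

/-- The classes `Act x_b h` span `H^n_a(M)`, compatibly with degrees. -/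
theorem exists_rep_Act {a : HomogeneousIdeal 𝒜} {n : ℕ} (hv : TopVan a n)
    {m : Fin t → M} (hm : ∀ b, m b ∈ ℳ (deg b))
    (hspan : Submodule.span R (Set.range m) = ⊤)
    (ER : StarInjRes 𝒜 𝒜) (EM : StarInjRes 𝒜 ℳ) {g : ι} {ξ : EM.H a n}
    (hξ : ξ ∈ EM.Hcomp a n g) :
    ∃ h : Fin t → ER.H a n, (∀ b, h b ∈ ER.Hcomp a n (g - deg b)) ∧
      ξ = ∑ b, Act ER EM a n (m b) (h b) := by
  obtain ⟨h, hh, hξ'⟩ := exists_rep deg hv hm hspan ER EM hξ
  refine ⟨h, hh, ?_⟩
  rw [hξ']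
  exact Finset.sum_congr rfl (fun b _ => by rw [Act_of_mem ER EM a n (hm b)])

theorem exists_rep_Act' {a : HomogeneousIdeal 𝒜} {n : ℕ} (hv : TopVan a n)
    {m : Fin t → M} (hm : ∀ b, m b ∈ ℳ (deg b))
    (hspan : Submodule.span R (Set.range m) = ⊤)
    (ER : StarInjRes 𝒜 𝒜) (EM : StarInjRes 𝒜 ℳ) (ξ : EM.H a n) :
    ∃ h : Fin t → ER.H a n, ξ = ∑ b, Act ER EM a n (m b) (h b) := by
  obtain ⟨h, hξ'⟩ := exists_rep' deg hv hm hspan ER EM ξ
  refine ⟨h, ?_⟩
  rw [hξ']
  exact Finset.sum_congr rfl (fun b _ => by rw [Act_of_mem ER EM a n (hm b)])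

/-- Universal property of `H^n_a(M)`, in terms of `Act`. -/
theorem exists_desc_Act [IsNoetherianRing R] {a : HomogeneousIdeal 𝒜} {n : ℕ} (hv : TopVan a n)
    {m : Fin t → M} (hm : ∀ b, m b ∈ ℳ (deg b))
    (hspan : Submodule.span R (Set.range m) = ⊤)
    (ER : StarInjRes 𝒜 𝒜) (EM : StarInjRes 𝒜 ℳ)
    {G : Type*} [AddCommGroup G] (lam : Fin t → (ER.H a n →+ G))
    (hrel : ∀ r : Fin t → R, ∑ b, r b • m b = 0 → ∀ h : ER.H a n, ∑ b, lam b (r b • h) = 0) :
    ∃ Λ : EM.H a n →+ G, ∀ b h, Λ (Act ER EM a n (m b) h) = lam b h := by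
  obtain ⟨Λ, hΛ⟩ := exists_desc deg hv hm hspan ER EM lam hrel
  refine ⟨Λ, fun b h => ?_⟩
  rw [Act_of_mem ER EM a n (hm b)]
  exact hΛ b h

end Final

section Dim

/-- Top vanishing from the Krull dimension. -/
theorem topVan_of_dim {ι : Type} [AddCommGroup ι] [DecidableEq ι] [Module.Free ℤ ι]
    [Module.Finite ℤ ι] {R : Type u} [CommRing R] [IsNoetherianRing R]
    {𝒜 : ι → AddSubgroup R} [GradedRing 𝒜] (a : HomogeneousIdeal 𝒜) (n : ℕ)
    (hn : ringKrullDim R ≤ n) : TopVan a n := by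
  intro Y E
  obtain ⟨e⟩ := Groth.Agent.S13224.main a E (n + 1)
  have hlt : Module.supportDim R Y.carrier < (((n + 1 : ℕ) : ℕ∞) : WithBot ℕ∞) := by
    refine lt_of_le_of_lt (Module.supportDim_le_ringKrullDim R Y.carrier) (lt_of_le_of_lt hn ?_)
    exact_mod_cast Nat.lt_succ_self n
  have := Groth.Agent.Lib.LocCohVanishing.subsingleton_H_of_supportDim_lt a.toIdeal
    Y.carrier (n + 1) hlt
  exact e.toEquiv.subsingleton

end Dim

end Groth.Agent.Lib.H74TopDual
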