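import Groth.Prelude.Def_GrSeg
import Groth.Prelude.Def_GrLC
import Groth.Agent.Lib.H2GrDualShift

/-! Abstract dual side of graded top local duality: from an "action" `A : M → Hom(H, N)` with
the spanning and descent properties, the graded dual of `N` is `Hom_R(M, K)`, `K` the graded dual
of `H`. -/

set_option autoImplicit false
set_option linter.unusedSectionVars false
universe u

namespace Groth.Agent.Lib.H74TopDual
open DirectSum Groth.Agent.Lib.H2GrDual Groth.Agent.Lib.H2GrDualShift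

section Abstract

variable {k : Type u} [Field k] {R : Type u} [CommRing R] [Algebra k R]
  {H : Type u} [AddCommGroup H] [Module R H] [Module k H] [IsScalarTower k R H]
  (ℋ : ℤ → AddSubgroup H) [Decomposition ℋ]
  {N : Type u} [AddCommGroup N] [Module R N] [Module k N] [IsScalarTower k R N]
  (𝒩 : ℤ → AddSubgroup N) [Decomposition 𝒩]
  {K : Type u} [AddCommGroup K] [Module R K] [Module k K] [IsScalarTower k R K]
  (𝒦 : ℤ → AddSubgroup K) [Decomposition 𝒦]
  (βK : K →ₗ[k] H →ₗ[k] k)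
  {M : Type u} [AddCommGroup M] [Module R M]
  (ℳ : ℤ → AddSubgroup M) [Decomposition ℳ]
  {D : Type u} [AddCommGroup D] [Module R D] [Module k D] [IsScalarTower k R D]
  (𝒟 : ℤ → AddSubgroup D) [Decomposition 𝒟]
  (βD : D →ₗ[k] N →ₗ[k] k)
  (A : M →ₗ[R] (H →ₗ[R] N))

/-- For homogeneous `x`, the map `d ↦ (y ↦ βD d (A x y))` is represented by a homomorphism
`D → K` of degree `deg x`. -/
theorem exists_kappa (hK : GrSeg.IsGDual R ℋ 𝒦 βK) (hD : GrSeg.IsGDual R 𝒩 𝒟 βD)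
    (hAmem : ∀ {x : M} {j : ℤ} (_ : x ∈ ℳ j) {g : ℤ} {h : H} (_ : h ∈ ℋ g), A x h ∈ 𝒩 (g + j))
    {x : M} {j : ℤ} (hx : x ∈ ℳ j) :
    ∃ κ : D →ₗ[R] K, (∀ (p : ℤ) (d : D), d ∈ 𝒟 p → κ d ∈ 𝒦 (p + j)) ∧
      ∀ (d : D) (y : H), βK (κ d) y = βD d (A x y) := by
  let Φ : D →ₗ[k] H →ₗ[k] k := βD.compl₂ ((A x).restrictScalars k)
  have hΦ : ∀ d y, Φ d y = βD d (A x y) := fun d y => rfl
  refine exists_hom_of_pairing_shift ℋ 𝒦 βK 𝒟 Φ j hK ?_ ?_
  · intro r d y
    rw [hΦ, hΦ, hD.map_smul, (A x).map_smul]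
  · intro p d hd q hq y hy
    rw [hΦ]
    refine hD.vanish p d hd (q + j) ?_ _ (hAmem hx hy)
    intro h
    apply hq
    omega

theorem exists_rep_pair (hK : GrSeg.IsGDual R ℋ 𝒦 βK) (hD : GrSeg.IsGDual R 𝒩 𝒟 βD)
    (hAmem : ∀ {x : M} {j : ℤ} (_ : x ∈ ℳ j) {g : ℤ} {h : H} (_ : h ∈ ℋ g), A x h ∈ 𝒩 (g + j))
    (d : D) (x : M) : ∃ κ : K, ∀ y : H, βK κ y = βD d (A x y) := by
  induction x using Decomposition.inductionOn ℳ with
  | zero => exact ⟨0, fun y => by simp⟩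
  | @homogeneous j x =>
    obtain ⟨κ, -, hκ⟩ := exists_kappa ℋ 𝒩 𝒦 βK ℳ 𝒟 βD A hK hD hAmem x.2
    exact ⟨κ d, hκ d⟩
  | add x x' hx hx' =>
    obtain ⟨κ, hκ⟩ := hx
    obtain ⟨κ', hκ'⟩ := hx'
    exact ⟨κ + κ', fun y => by
      rw [map_add, LinearMap.add_apply, hκ, hκ', map_add, LinearMap.add_apply, map_add]⟩

theorem sepK (hK : GrSeg.IsGDual R ℋ 𝒦 βK) (κ κ' : K) (h : ∀ y : H, βK κ y = βK κ' y) :
    κ = κ' := by
  rw [← sub_eq_zero]
  apply eq_zero_of_forall_left ℋ 𝒦 βK hK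
  intro y
  rw [map_sub, LinearMap.sub_apply, h y, sub_self]

/-- The comparison map `ε : D → Hom_R(M, K)`. -/
theorem exists_eps (hK : GrSeg.IsGDual R ℋ 𝒦 βK) (hD : GrSeg.IsGDual R 𝒩 𝒟 βD)
    (hAmem : ∀ {x : M} {j : ℤ} (_ : x ∈ ℳ j) {g : ℤ} {h : H} (_ : h ∈ ℋ g), A x h ∈ 𝒩 (g + j)) :
    ∃ ε : D →ₗ[R] (M →ₗ[R] K), (∀ (d : D) (x : M) (y : H), βK (ε d x) y = βD d (A x y)) ∧
      ∀ (p : ℤ) (d : D), d ∈ 𝒟 p → ∀ (j : ℤ) (x : M), x ∈ ℳ j → ε d x ∈ 𝒦 (j + p) := by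
  have hrep := exists_rep_pair ℋ 𝒩 𝒦 βK ℳ 𝒟 βD A hK hD hAmem
  choose e0 he0 using hrep
  have sep := sepK ℋ 𝒦 βK hK
  let e1 : D → (M →ₗ[R] K) := fun d =>
    { toFun := e0 d
      map_add' := by
        intro x x'
        apply sep
        intro y
        rw [he0, A.map_add, LinearMap.add_apply, (βD d).map_add, βK.map_add, LinearMap.add_apply,
          he0, he0]
      map_smul' := by
        intro r x
        apply sep
        intro y
        rw [RingHom.id_apply, he0, hK.map_smul, he0, A.map_smul, LinearMap.smul_apply,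
          (A x).map_smul] }
  have he1 : ∀ d x, e1 d x = e0 d x := fun d x => rfl
  let ε : D →ₗ[R] (M →ₗ[R] K) :=
    { toFun := e1
      map_add' := by
        intro d d'
        ext x
        apply sep
        intro y
        rw [LinearMap.add_apply, he1, he1, he1, he0, βD.map_add, LinearMap.add_apply, βK.map_add,
          LinearMap.add_apply, he0, he0]
      map_smul' := by
        intro r d
        ext x
        apply sep
        intro y
        rw [RingHom.id_apply, LinearMap.smul_apply, he1, he1, he0, hK.map_smul, he0,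
          hD.map_smul, (A x).map_smul] }
  have hε : ∀ d x, ε d x = e0 d x := fun d x => rfl
  refine ⟨ε, fun d x y => by rw [hε, he0], ?_⟩
  intro p d hd j x hx
  obtain ⟨κ, hκ, hκ'⟩ := exists_kappa ℋ 𝒩 𝒦 βK ℳ 𝒟 βD A hK hD hAmem hx
  have : ε d x = κ d := by
    apply sep
    intro y
    rw [hε, he0, hκ']
  rw [this, add_comm]
  exact hκ p d hd

/-- **Abstract graded top duality.** -/
theorem exists_equiv_abstract (𝒜 : ℤ → Submodule k R) [GradedAlgebra 𝒜]
    [SetLike.GradedSMul 𝒜 ℳ] [SetLike.GradedSMul 𝒜 𝒦]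
    (hK : GrSeg.IsGDual R ℋ 𝒦 βK) (hD : GrSeg.IsGDual R 𝒩 𝒟 βD)
    (hAmem : ∀ {x : M} {j : ℤ} (_ : x ∈ ℳ j) {g : ℤ} {h : H} (_ : h ∈ ℋ g), A x h ∈ 𝒩 (g + j))
    {s : ℕ} (dg : Fin s → ℤ) (m : Fin s → M) (hspan : Submodule.span R (Set.range m) = ⊤)
    (hS : ∀ (g : ℤ) (ξ : N), ξ ∈ 𝒩 g →
      ∃ h : Fin s → H, (∀ b, h b ∈ ℋ (g - dg b)) ∧ ξ = ∑ b, A (m b) (h b))
    (hS' : ∀ ξ : N, ∃ h : Fin s → H, ξ = ∑ b, A (m b) (h b))
    (hU : ∀ lam : Fin s → (H →+ k),
      (∀ r : Fin s → R, ∑ b, r b • m b = 0 → ∀ h : H, ∑ b, lam b (r b • h) = 0) →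
      ∃ Λ : N →+ k, ∀ b h, Λ (A (m b) h) = lam b h) :
    ∃ ε : D ≃ₗ[R] (M →ₗ[R] K),
      GrLC.IsGrHom 𝒟 (fun d : ℤ => (GrLC.homDeg 𝒜 ℳ 𝒦 d).toAddSubgroup) ε.toLinearMap := by
  classical
  obtain ⟨ε, hε, hεmem⟩ := exists_eps ℋ 𝒩 𝒦 βK ℳ 𝒟 βD A hK hD hAmem
  have sep := sepK ℋ 𝒦 βK hK
  have hinj : Function.Injective ε := by
    rw [injective_iff_map_eq_zero]
    intro d hd
    apply eq_zero_of_forall_left 𝒩 𝒟 βD hD
    intro ξ
    obtain ⟨h, rfl⟩ := hS' ξ
    rw [map_sum]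
    refine Finset.sum_eq_zero (fun b _ => ?_)
    rw [← hε, hd, LinearMap.zero_apply, map_zero, LinearMap.zero_apply]
  have hsurj : Function.Surjective ε := by
    intro f
    let lam : Fin s → (H →+ k) := fun b => (βK (f (m b))).toAddMonoidHom
    have hlam : ∀ b h, lam b h = βK (f (m b)) h := fun b h => rfl
    have hrel : ∀ r : Fin s → R, ∑ b, r b • m b = 0 → ∀ h : H, ∑ b, lam b (r b • h) = 0 := by
      intro r hr h
      have : ∑ b, lam b (r b • h) = βK (f (∑ b, r b • m b)) h := by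
        rw [map_sum, map_sum, LinearMap.sum_apply]
        refine Finset.sum_congr rfl (fun b _ => ?_)
        rw [hlam, ← hK.map_smul, f.map_smul]
      rw [this, hr, map_zero, map_zero, LinearMap.zero_apply]
    obtain ⟨Λ, hΛ⟩ := hU lam hrel
    have hAk : ∀ (c : k) (x : M) (y : H), A x (c • y) = c • A x y := by
      intro c x y
      rw [← algebraMap_smul R c y, (A x).map_smul, algebraMap_smul]
    have hΛk : ∀ (c : k) (ξ : N), Λ (c • ξ) = c • Λ ξ := by
      intro c ξ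
      obtain ⟨h, rfl⟩ := hS' ξ
      rw [Finset.smul_sum, map_sum, map_sum, Finset.smul_sum]
      refine Finset.sum_congr rfl (fun b _ => ?_)
      rw [← hAk, hΛ, hΛ, hlam, hlam, (βK (f (m b))).map_smul]
    let Λl : N →ₗ[k] k :=
      { toFun := Λ
        map_add' := Λ.map_add
        map_smul' := fun c ξ => by rw [RingHom.id_apply]; exact hΛk c ξ }
    have hΛl : ∀ ξ, Λl ξ = Λ ξ := fun ξ => rfl
    let G0 : Finset ℤ := Finset.univ.biUnion
      (fun b : Fin s => ((decompose 𝒦 (f (m b))).support).image (fun q => dg b - q))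
    have hvan : ∀ g, g ∉ G0 → ∀ ξ ∈ 𝒩 g, Λ ξ = 0 := by
      intro g hg ξ hξ
      obtain ⟨h, hh, rfl⟩ := hS g ξ hξ
      rw [map_sum]
      refine Finset.sum_eq_zero (fun b _ => ?_)
      rw [hΛ, hlam, beta_eq_right ℋ 𝒦 βK hK (hh b)]
      have : (decompose 𝒦 (f (m b))) (-(g - dg b)) = 0 := by
        by_contra hne
        apply hg
        rw [Finset.mem_biUnion]
        refine ⟨b, Finset.mem_univ _, ?_⟩
        rw [Finset.mem_image]
        refine ⟨-(g - dg b), ?_, by ring⟩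
        rw [DFinsupp.mem_support_iff]
        exact hne
      rw [this, ZeroMemClass.coe_zero, map_zero, LinearMap.zero_apply]
    choose dsel hdsel hdsel' using fun g : ℤ => hD.exists_eq (-g) Λl
    have hd : ∀ ξ, βD (∑ g ∈ G0, dsel g) ξ = Λ ξ := by
      intro ξ
      induction ξ using Decomposition.inductionOn 𝒩 with
      | zero => simp
      | @homogeneous g' ξ =>
        rw [map_sum, LinearMap.sum_apply]
        by_cases hg' : g' ∈ G0
        · rw [Finset.sum_eq_single g']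
          · rw [hdsel' g' ξ (by rw [neg_neg]; exact ξ.2), hΛl]
          · intro g _ hne
            exact hD.vanish (-g) (dsel g) (hdsel g) g'
              (by rw [neg_neg]; exact fun h => hne h.symm) ξ ξ.2
          · intro h; exact absurd hg' h
        · rw [hvan g' hg' ξ ξ.2]
          refine Finset.sum_eq_zero (fun g hg => ?_)
          refine hD.vanish (-g) (dsel g) (hdsel g) g' ?_ ξ ξ.2
          rw [neg_neg]; rintro rfl; exact hg' hg
      | add ξ ξ' h h' => rw [map_add, map_add, h, h']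
    refine ⟨∑ g ∈ G0, dsel g, ?_⟩
    apply LinearMap.ext_on_range hspan
    intro b
    apply sep
    intro y
    rw [hε, hd, hΛ, hlam]
  refine ⟨LinearEquiv.ofBijective ε ⟨hinj, hsurj⟩, ?_⟩
  intro p d hd
  show ε d ∈ (GrLC.homDeg 𝒜 ℳ 𝒦 p).toAddSubgroup
  intro g x hx
  exact hεmem p d hd g x hx

end Abstract

end Groth.Agent.Lib.H74TopDual
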