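import Mathlib
import Groth.Agent.Lib.H77FibreExact

/-!
# Absolute irreducibility of a polynomial spreads out (helper77)

Stacks, Lemma 0556-type statement.  Let `A` be a domain with fraction field `K`, and let
`P ∈ A[x₁, …, xₙ]` be a polynomial whose image in `K̄[x₁, …, xₙ]` is irreducible.  Then there is
a nonzero `f ∈ A` such that for every ring homomorphism `φ : A → L` to a field with `φ f ≠ 0` the
image of `P` in `L[x₁, …, xₙ]` is irreducible.

* `exists_algHom_algebraicClosure`: Nullstellensatz: a nontrivial algebra of finite type over a field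
  `K` has a `K̄`-point.
* `exists_forall_irreducible_map`: the main statement.
-/

set_option autoImplicit false
set_option linter.style.haveILetI false
universe u v

open MvPolynomial TensorProduct

namespace Groth.Agent.Lib.H77AbsIrrPoly

/-- Nullstellensatz: a nontrivial algebra of finite type over a field has a point with values in
the algebraic closure. -/
theorem exists_algHom_algebraicClosure (K : Type u) [Field K] (E : Type v) [CommRing E]
    [Algebra K E] [Algebra.FiniteType K E] [Nontrivial E] :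
    Nonempty (E →ₐ[K] AlgebraicClosure K) := by
  obtain ⟨m, hm⟩ := Ideal.exists_maximal E
  letI : Field (E ⧸ m) := Ideal.Quotient.field m
  haveI : Algebra.FiniteType K (E ⧸ m) :=
    Algebra.FiniteType.of_surjective (Ideal.Quotient.mkₐ K m) (Ideal.Quotient.mkₐ_surjective K m)
  haveI : Module.Finite K (E ⧸ m) := finite_of_finite_type_of_isJacobsonRing K (E ⧸ m)
  haveI : Algebra.IsAlgebraic K (E ⧸ m) := Algebra.IsAlgebraic.of_finite K (E ⧸ m)
  exact ⟨(IsAlgClosed.lift : (E ⧸ m) →ₐ[K] AlgebraicClosure K).comp (Ideal.Quotient.mkₐ K m)⟩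

/-- A nontrivial-after-localisation algebra of finite type over a domain has a point with values
in the algebraic closure of the fraction field. -/
theorem exists_algHom_of_forall_ne_zero (A : Type u) [CommRing A] [IsDomain A] (E : Type v)
    [CommRing E] [Algebra A E] [Algebra.FiniteType A E]
    (h : ∀ f : A, f ≠ 0 → algebraMap A E f ≠ 0) :
    Nonempty (E →ₐ[A] AlgebraicClosure (FractionRing A)) := by
  let K := FractionRing A
  haveI : Nontrivial (K ⊗[A] E) := by
    refine ⟨⟨1, 0, fun h10 => ?_⟩⟩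
    have h1 : (1 : K) ⊗ₜ[A] (1 : E) = 0 := by
      rw [← Algebra.TensorProduct.one_def]; exact h10
    obtain ⟨r, hr, hr1⟩ :=
      Groth.Agent.Lib.H77FibreExact.exists_smul_eq_zero_of_one_tmul_eq_zero (1 : E) h1
    exact h r hr (by rw [Algebra.algebraMap_eq_smul_one]; exact hr1)
  obtain ⟨ψ⟩ := exists_algHom_algebraicClosure K (K ⊗[A] E)
  exact ⟨(ψ.restrictScalars A).comp (Algebra.TensorProduct.includeRight : E →ₐ[A] K ⊗[A] E)⟩

section Factor

variable {A : Type u} [CommRing A] {τ : Type v}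

/-- index type of the parameters: coefficients of the two factors and an inverse. -/
abbrev Idx (J : Finset (τ →₀ ℕ)) : Type v := (↥J ⊕ ↥J) ⊕ Unit

/-- the parameter ring -/
abbrev Par (A : Type u) [CommRing A] (J : Finset (τ →₀ ℕ)) : Type (max u v) :=
  MvPolynomial (Idx J) A

/-- the first generic factor -/
noncomputable def G₁ (A : Type u) [CommRing A] (J : Finset (τ →₀ ℕ)) : MvPolynomial τ (Par A J) :=
  ∑ m ∈ J.attach, monomial m.1 (X (Sum.inl (Sum.inl m)) : Par A J)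

/-- the second generic factor -/
noncomputable def G₂ (A : Type u) [CommRing A] (J : Finset (τ →₀ ℕ)) : MvPolynomial τ (Par A J) :=
  ∑ m ∈ J.attach, monomial m.1 (X (Sum.inl (Sum.inr m)) : Par A J)

/-- the ideal of relations: `P = G₁ G₂` and the coefficients at `m₁`, `m₂` are invertible. -/
noncomputable def Rel (P : MvPolynomial τ A) (J : Finset (τ →₀ ℕ)) (m₁ m₂ : ↥J) : Ideal (Par A J) :=
  Ideal.span (Set.range (fun m : τ →₀ ℕ =>
    coeff m (map (algebraMap A (Par A J)) P - G₁ A J * G₂ A J))) ⊔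
  Ideal.span {(X (Sum.inr ()) : Par A J) * X (Sum.inl (Sum.inl m₁)) * X (Sum.inl (Sum.inr m₂)) - 1}

lemma map_G₁ {S : Type*} [CommRing S] (J : Finset (τ →₀ ℕ)) (ψ : Par A J →+* S) :
    map ψ (G₁ A J) = ∑ m ∈ J.attach, monomial m.1 (ψ (X (Sum.inl (Sum.inl m)))) := by
  simp [G₁, map_sum, map_monomial]

lemma map_G₂ {S : Type*} [CommRing S] (J : Finset (τ →₀ ℕ)) (ψ : Par A J →+* S) :
    map ψ (G₂ A J) = ∑ m ∈ J.attach, monomial m.1 (ψ (X (Sum.inl (Sum.inr m)))) := by
  simp [G₂, map_sum, map_monomial]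

lemma coeff_sum_attach {S : Type*} [CommRing S] (J : Finset (τ →₀ ℕ)) (c : ↥J → S) (m₀ : ↥J) :
    coeff m₀.1 (∑ m ∈ J.attach, monomial m.1 (c m)) = c m₀ := by
  classical
  rw [coeff_sum]
  rw [Finset.sum_eq_single m₀]
  · simp
  · intro b _ hb
    rw [coeff_monomial, if_neg]
    exact fun h => hb (Subtype.ext h)
  · intro h
    exact absurd (Finset.mem_attach _ _) h

lemma sum_attach_eq {S : Type*} [CommRing S] (J : Finset (τ →₀ ℕ)) (Q : MvPolynomial τ S)
    (hQ : Q.support ⊆ J) :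
    ∑ m ∈ J.attach, monomial m.1 (coeff m.1 Q) = Q := by
  classical
  rw [Finset.sum_attach J (fun m => monomial m (coeff m Q))]
  conv_rhs => rw [Q.as_sum]
  symm
  apply Finset.sum_subset hQ
  intro m _ hm
  rw [notMem_support_iff.mp hm, monomial_zero]

/-- A point of the relation algebra gives a factorisation. -/
theorem factor_of_algHom {L : Type*} [CommRing L] [Nontrivial L] [Algebra A L]
    (P : MvPolynomial τ A)
    (J : Finset (τ →₀ ℕ)) (m₁ m₂ : ↥J) (ψ : Par A J →ₐ[A] L)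
    (hψ : ∀ x ∈ Rel P J m₁ m₂, ψ x = 0) :
    ∃ Q₁ Q₂ : MvPolynomial τ L, map (algebraMap A L) P = Q₁ * Q₂ ∧
      coeff m₁.1 Q₁ ≠ 0 ∧ coeff m₂.1 Q₂ ≠ 0 := by
  have h1 : ψ (X (Sum.inr ())) * ψ (X (Sum.inl (Sum.inl m₁))) *
      ψ (X (Sum.inl (Sum.inr m₂))) = 1 := by
    have := hψ _ (Ideal.mem_sup_right (Ideal.subset_span
      (Set.mem_singleton ((X (Sum.inr ()) : Par A J) * X (Sum.inl (Sum.inl m₁)) *
        X (Sum.inl (Sum.inr m₂)) - 1))))
    rw [map_sub, map_mul, map_mul, map_one, sub_eq_zero] at this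
    exact this
  refine ⟨map ψ.toRingHom (G₁ A J), map ψ.toRingHom (G₂ A J), ?_, ?_, ?_⟩
  · have h0 : map ψ.toRingHom (map (algebraMap A (Par A J)) P - G₁ A J * G₂ A J) = 0 := by
      ext m
      rw [coeff_map, coeff_zero]
      exact hψ _ (Ideal.mem_sup_left (Ideal.subset_span ⟨m, rfl⟩))
    rw [map_sub, map_mul, sub_eq_zero, MvPolynomial.map_map] at h0
    rw [← h0]
    have : ψ.toRingHom.comp (algebraMap A (Par A J)) = algebraMap A L := ψ.comp_algebraMap
    rw [this]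
  · rw [map_G₁, coeff_sum_attach J (fun m => ψ.toRingHom (X (Sum.inl (Sum.inl m)))) m₁]
    intro h0
    have h0' : ψ (X (Sum.inl (Sum.inl m₁))) = 0 := h0
    rw [h0', mul_zero, zero_mul] at h1
    exact zero_ne_one h1
  · rw [map_G₂, coeff_sum_attach J (fun m => ψ.toRingHom (X (Sum.inl (Sum.inr m)))) m₂]
    intro h0
    have h0' : ψ (X (Sum.inl (Sum.inr m₂))) = 0 := h0
    rw [h0', mul_zero] at h1
    exact zero_ne_one h1

/-- A factorisation with supports in `J` and nonzero coefficients at `m₁`, `m₂` gives a point of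
the relation algebra. -/
theorem algHom_of_factor {L : Type*} [Field L] [Algebra A L] (P : MvPolynomial τ A)
    (J : Finset (τ →₀ ℕ)) (m₁ m₂ : ↥J) (Q₁ Q₂ : MvPolynomial τ L)
    (hP : map (algebraMap A L) P = Q₁ * Q₂) (h₁ : Q₁.support ⊆ J) (h₂ : Q₂.support ⊆ J)
    (hm₁ : coeff m₁.1 Q₁ ≠ 0) (hm₂ : coeff m₂.1 Q₂ ≠ 0) :
    ∃ ψ : Par A J →ₐ[A] L, ∀ x ∈ Rel P J m₁ m₂, ψ x = 0 := by
  let val : Idx J → L := Sum.elim (Sum.elim (fun m => coeff m.1 Q₁) (fun m => coeff m.1 Q₂))
    (fun _ => (coeff m₁.1 Q₁ * coeff m₂.1 Q₂)⁻¹)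
  let ψ : Par A J →ₐ[A] L := aeval val
  have hG₁ : map ψ.toRingHom (G₁ A J) = Q₁ := by
    rw [map_G₁]
    have : ∀ m : ↥J, ψ.toRingHom (X (Sum.inl (Sum.inl m))) = coeff m.1 Q₁ := by
      intro m
      simp [ψ, val]
    simp_rw [this]
    exact sum_attach_eq J Q₁ h₁
  have hG₂ : map ψ.toRingHom (G₂ A J) = Q₂ := by
    rw [map_G₂]
    have : ∀ m : ↥J, ψ.toRingHom (X (Sum.inl (Sum.inr m))) = coeff m.1 Q₂ := by
      intro m
      simp [ψ, val]
    simp_rw [this]
    exact sum_attach_eq J Q₂ h₂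
  refine ⟨ψ, fun x hx => ?_⟩
  have hle : Rel P J m₁ m₂ ≤ RingHom.ker ψ.toRingHom := by
    unfold Rel
    rw [sup_le_iff, Ideal.span_le, Ideal.span_le]
    constructor
    · rintro _ ⟨m, rfl⟩
      change ψ.toRingHom _ = 0
      rw [← coeff_map, map_sub, map_mul, hG₁, hG₂, MvPolynomial.map_map]
      have : ψ.toRingHom.comp (algebraMap A (Par A J)) = algebraMap A L := ψ.comp_algebraMap
      rw [this, hP, sub_self, coeff_zero]
    · intro x hx
      rw [Set.mem_singleton_iff] at hx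
      subst hx
      change ψ _ = 0
      rw [map_sub, map_mul, map_mul, map_one]
      have e1 : ψ (X (Sum.inr ())) = (coeff m₁.1 Q₁ * coeff m₂.1 Q₂)⁻¹ := by simp [ψ, val]
      have e2 : ψ (X (Sum.inl (Sum.inl m₁))) = coeff m₁.1 Q₁ := by simp [ψ, val]
      have e3 : ψ (X (Sum.inl (Sum.inr m₂))) = coeff m₂.1 Q₂ := by simp [ψ, val]
      rw [e1, e2, e3, mul_assoc, inv_mul_cancel₀ (mul_ne_zero hm₁ hm₂), sub_self]
  exact hle hx

end Factor

section Main

variable {A : Type u} [CommRing A] [IsDomain A] {τ : Type v} [Finite τ]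

/-- the finite set of exponents of total degree at most `D` -/
noncomputable def expSet (τ : Type v) [Finite τ] (D : ℕ) : Finset (τ →₀ ℕ) :=
  (Finsupp.finite_of_degree_le (σ := τ) D).toFinset

lemma mem_expSet {D : ℕ} {m : τ →₀ ℕ} : m ∈ expSet τ D ↔ (m.sum fun _ e => e) ≤ D := by
  unfold expSet
  rw [Set.Finite.mem_toFinset, Set.mem_ofPred_eq]
  rfl

lemma support_subset_expSet {S : Type*} [CommSemiring S] {D : ℕ} (Q : MvPolynomial τ S)
    (hQ : Q.totalDegree ≤ D) : Q.support ⊆ expSet τ D := by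
  intro m hm
  rw [mem_expSet]
  exact (le_totalDegree hm).trans hQ

omit [Finite τ] in
/-- a nonzero non-unit polynomial over a field has a nonconstant monomial -/
lemma exists_ne_zero_mem_support {L : Type*} [Field L] {Q : MvPolynomial τ L} (hQ0 : Q ≠ 0)
    (hQ : ¬ IsUnit Q) : ∃ m ∈ Q.support, m ≠ 0 := by
  classical
  by_contra hcon
  push Not at hcon
  apply hQ
  have hC : Q = C (coeff 0 Q) := by
    ext m
    rw [coeff_C]
    split_ifs with h
    · rw [h]
    · by_contra hne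
      exact h (hcon m (mem_support_iff.mpr hne)).symm
  have h0 : coeff 0 Q ≠ 0 := by
    intro h
    rw [h, C_0] at hC
    exact hQ0 hC
  rw [hC]
  exact (isUnit_iff_ne_zero.mpr h0).map C

omit [Finite τ] in
/-- a polynomial over a field with a nonzero nonconstant monomial is not a unit -/
lemma not_isUnit_of_coeff_ne_zero {L : Type*} [Field L] {Q : MvPolynomial τ L} {m : τ →₀ ℕ}
    (hm : m ≠ 0) (hc : coeff m Q ≠ 0) : ¬ IsUnit Q := by
  classical
  intro hu
  obtain ⟨r, _, hr⟩ := isUnit_iff_eq_C_of_isReduced.mp hu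
  rw [hr, coeff_C, if_neg (Ne.symm hm)] at hc
  exact hc rfl

omit [Finite τ] in
/-- for fixed `m₁ m₂ ≠ 0`, the relation algebra is killed by a nonzero element of `A`. -/
theorem exists_ne_zero_mem_rel (P : MvPolynomial τ A)
    (hirr : Irreducible (map (algebraMap A (AlgebraicClosure (FractionRing A))) P))
    (J : Finset (τ →₀ ℕ)) (m₁ m₂ : ↥J) (h₁ : m₁.1 ≠ 0) (h₂ : m₂.1 ≠ 0) :
    ∃ f : A, f ≠ 0 ∧ algebraMap A (Par A J) f ∈ Rel P J m₁ m₂ := by
  by_contra hcon
  push Not at hcon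
  let E := Par A J ⧸ Rel P J m₁ m₂
  have hE : ∀ f : A, f ≠ 0 → algebraMap A E f ≠ 0 := by
    intro f hf h0
    apply hcon f hf
    have : Ideal.Quotient.mk (Rel P J m₁ m₂) (algebraMap A (Par A J) f) = 0 := h0
    exact Ideal.Quotient.eq_zero_iff_mem.mp this
  obtain ⟨ψ⟩ := exists_algHom_of_forall_ne_zero A E hE
  let ψ' : Par A J →ₐ[A] AlgebraicClosure (FractionRing A) :=
    ψ.comp (Ideal.Quotient.mkₐ A (Rel P J m₁ m₂))
  have hψ' : ∀ x ∈ Rel P J m₁ m₂, ψ' x = 0 := by
    intro x hx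
    change ψ (Ideal.Quotient.mk _ x) = 0
    rw [Ideal.Quotient.eq_zero_iff_mem.mpr hx, map_zero]
  obtain ⟨Q₁, Q₂, hP, hc₁, hc₂⟩ := factor_of_algHom P J m₁ m₂ ψ' hψ'
  rcases hirr.isUnit_or_isUnit hP with hu | hu
  · exact not_isUnit_of_coeff_ne_zero h₁ hc₁ hu
  · exact not_isUnit_of_coeff_ne_zero h₂ hc₂ hu

/-- **Absolute irreducibility spreads out** (Stacks 0556-type lemma). -/
theorem exists_forall_irreducible_map (P : MvPolynomial τ A)
    (hirr : Irreducible (map (algebraMap A (AlgebraicClosure (FractionRing A))) P)) :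
    ∃ f : A, f ≠ 0 ∧ ∀ (L : Type u) [Field L] (φ : A →+* L), φ f ≠ 0 →
      Irreducible (map φ P) := by
  classical
  let Kbar := AlgebraicClosure (FractionRing A)
  -- a nonconstant monomial of `P`
  have hP0 : map (algebraMap A Kbar) P ≠ 0 := hirr.ne_zero
  obtain ⟨m₀, hm₀, hm₀0⟩ := exists_ne_zero_mem_support hP0 hirr.not_isUnit
  have hc₀ : coeff m₀ P ≠ 0 := by
    intro h
    rw [mem_support_iff, coeff_map, h, map_zero] at hm₀
    exact hm₀ rfl
  set D := P.totalDegree with hD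
  let J := expSet τ D
  have hchoice : ∀ p : ↥J × ↥J, ∃ f : A, f ≠ 0 ∧
      (p.1.1 ≠ 0 → p.2.1 ≠ 0 → algebraMap A (Par A J) f ∈ Rel P J p.1 p.2) := by
    intro p
    by_cases h₁ : p.1.1 = 0
    · exact ⟨1, one_ne_zero, fun h => absurd h₁ h⟩
    by_cases h₂ : p.2.1 = 0
    · exact ⟨1, one_ne_zero, fun _ h => absurd h₂ h⟩
    obtain ⟨f, hf, hfr⟩ := exists_ne_zero_mem_rel P hirr J p.1 p.2 h₁ h₂
    exact ⟨f, hf, fun _ _ => hfr⟩
  choose F hF0 hFrel using hchoice
  refine ⟨coeff m₀ P * ∏ p : ↥J × ↥J, F p, mul_ne_zero hc₀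
    (Finset.prod_ne_zero_iff.mpr fun p _ => hF0 p), ?_⟩
  intro L _ φ hφ
  rw [map_mul, map_prod] at hφ
  have hφ₀ : φ (coeff m₀ P) ≠ 0 := left_ne_zero_of_mul hφ
  have hφF : ∀ p : ↥J × ↥J, φ (F p) ≠ 0 := fun p =>
    Finset.prod_ne_zero_iff.mp (right_ne_zero_of_mul hφ) p (Finset.mem_univ p)
  letI : Algebra A L := φ.toAlgebra
  have hmapne : coeff m₀ (map φ P) ≠ 0 := by rw [coeff_map]; exact hφ₀
  have hmap0 : map φ P ≠ 0 := fun h => hmapne (by rw [h, coeff_zero])
  refine ⟨not_isUnit_of_coeff_ne_zero hm₀0 hmapne, fun a b hab => ?_⟩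
  by_contra hcon
  push Not at hcon
  obtain ⟨hua, hub⟩ := hcon
  have ha0 : a ≠ 0 := fun h => hmap0 (by rw [hab, h, zero_mul])
  have hb0 : b ≠ 0 := fun h => hmap0 (by rw [hab, h, mul_zero])
  obtain ⟨m₁, hm₁, hm₁0⟩ := exists_ne_zero_mem_support ha0 hua
  obtain ⟨m₂, hm₂, hm₂0⟩ := exists_ne_zero_mem_support hb0 hub
  have hdeg : a.totalDegree + b.totalDegree ≤ D := by
    rw [← totalDegree_mul_of_isDomain ha0 hb0, ← hab]
    exact Finset.sup_mono (support_map_subset φ P)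
  have hsa : a.support ⊆ J := support_subset_expSet a (by omega)
  have hsb : b.support ⊆ J := support_subset_expSet b (by omega)
  obtain ⟨ψ, hψ⟩ := algHom_of_factor (L := L) P J ⟨m₁, hsa hm₁⟩ ⟨m₂, hsb hm₂⟩ a b hab hsa hsb
    (mem_support_iff.mp hm₁) (mem_support_iff.mp hm₂)
  have hrel := hFrel (⟨m₁, hsa hm₁⟩, ⟨m₂, hsb hm₂⟩) hm₁0 hm₂0
  have h0 := hψ _ hrel
  rw [AlgHom.commutes] at h0
  exact hφF _ h0

end Main

end Groth.Agent.Lib.H77AbsIrrPoly
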