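import Groth.Agent.Lib.H69RedInduced
import Groth.Agent.Lib.H77TopDecomp

/-!
# From "constant near the generic point" to "constant near `y` in the closure of `y`" (helper77)

`exists_subset_closure_of_irreducible`: let `F f y` be an invariant of a morphism `f : X ⟶ Y` and a
point `y` of `Y` which is compatible with arbitrary base change.  If for all `f` of finite type with
irreducible target `F f` is constant on a neighbourhood of the generic point, then for all `f` of
finite type and all `y : Y`, `F f` is constant on a subset of `closure {y}` which is open in it and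
contains `y`.
-/

set_option autoImplicit false
set_option linter.style.haveILetI false
universe u
open CategoryTheory Limits AlgebraicGeometry TopologicalSpace

namespace Groth.Agent.Lib.H77ClosurePoint

open Groth.Agent.Lib.H69RedInduced Groth.Agent.Lib.H77TopDecomp

theorem exists_subset_closure_of_irreducible {α : Type*}
    (F : ∀ ⦃X Y : Scheme.{u}⦄, (X ⟶ Y) → Y → α)
    (hbc : ∀ ⦃X Y X' Y' : Scheme.{u}⦄ (f : X ⟶ Y) (g : Y' ⟶ Y) (f' : X' ⟶ Y') (g' : X' ⟶ X),
      IsPullback g' f' f g → ∀ y' : Y', F f' y' = F f (g y'))
    (main : ∀ ⦃X Y : Scheme.{u}⦄ (f : X ⟶ Y) [IrreducibleSpace Y] [LocallyOfFiniteType f]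
      [QuasiCompact f], ∃ V : Y.Opens, genericPoint Y ∈ V ∧ ∀ y ∈ V, F f y = F f (genericPoint Y))
    {X Y : Scheme.{u}} (f : X ⟶ Y) [LocallyOfFiniteType f] [QuasiCompact f] (y : Y) :
    ∃ V : Set Y, V ⊆ closure {y} ∧ y ∈ V ∧
      IsOpen (Subtype.val ⁻¹' V : Set (closure ({y} : Set Y))) ∧ ∀ y' ∈ V, F f y' = F f y := by
  let W : Closeds Y := ⟨closure {y}, isClosed_closure⟩
  let Z := redSub W
  let c : Z ⟶ Y := redSubι W
  have hr : Set.range c = closure {y} := range_redSubι W
  have hemb : Topology.IsClosedEmbedding c := c.isClosedEmbedding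
  haveI : IrreducibleSpace Z := by
    rw [irreducibleSpace_def]
    apply isIrreducible_of_image hemb.isInducing
    change IsIrreducible (c '' Set.univ)
    rw [Set.image_univ, hr]
    exact isIrreducible_singleton.closure
  -- the generic point of `Z` maps to `y`
  have hζ : c (genericPoint Z) = y := by
    have h1 : IsGenericPoint (c (genericPoint Z)) (closure {y}) := by
      have h2 := hemb.closure_image_eq {genericPoint Z}
      rw [(genericPoint_spec Z).def, Set.image_univ, hr, Set.image_singleton] at h2
      exact h2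
    exact h1.eq (isGenericPoint_closure)
  let f' := pullback.snd f c
  have hiff : ∀ z : Z, F f' z = F f (c z) := fun z =>
    hbc f c f' (pullback.fst f c) (IsPullback.of_hasPullback f c) z
  obtain ⟨V', hζV', hV'⟩ := main f'
  refine ⟨c '' (V' : Set Z), ?_, ⟨genericPoint Z, hζV', hζ⟩, ?_, ?_⟩
  · rw [← hr]
    exact Set.image_subset_range _ _
  · obtain ⟨O, hO, hOV'⟩ := hemb.isInducing.isOpen_iff.mp V'.isOpen
    have : (Subtype.val ⁻¹' (c '' (V' : Set Z)) : Set (closure ({y} : Set Y))) =
        Subtype.val ⁻¹' O := by
      ext s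
      constructor
      · rintro ⟨z, hz, hzs⟩
        have h3 : z ∈ c ⁻¹' O := by rw [hOV']; exact hz
        change (s : Y) ∈ O
        rw [← hzs]
        exact h3
      · intro hs
        have h4 : (s : Y) ∈ Set.range c := by rw [hr]; exact s.2
        obtain ⟨z, hz⟩ := h4
        refine ⟨z, ?_, hz⟩
        rw [← hOV']
        change c z ∈ O
        rw [hz]
        exact hs
    rw [this]
    exact hO.preimage continuous_subtype_val
  · rintro _ ⟨z, hz, rfl⟩
    rw [← hiff z, hV' z hz, hiff, hζ]

end Groth.Agent.Lib.H77ClosurePoint
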