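import Mathlib
import Groth.Agent.Lib.H77FibDim
import Groth.Agent.Lib.H77FibDimAlg
import Groth.Agent.Lib.H77FibreLocal

/-!
Scheme layer for "the dimension of the fibres is constant near the generic point".
-/

namespace Groth.Agent.Lib.H77FibDimSch

open TensorProduct Groth.Agent.Lib.H77FibDim Groth.Agent.Lib.H77FibDimAlg

universe u

set_option linter.style.haveILetI false

section Spectrum

variable {R A : Type u} [CommRing R] [CommRing A] [Algebra R A]

/-- `fibDim` for `Spec A → Spec R` is the Krull dimension of the fibre ring. -/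
theorem fibDim_comap_eq (q : PrimeSpectrum R) :
    fibDim (PrimeSpectrum.comap (algebraMap R A)) q =
      ringKrullDim (q.asIdeal.ResidueField ⊗[R] A) := by
  unfold fibDim
  rw [← PrimeSpectrum.topologicalKrullDim_eq_ringKrullDim]
  exact (PrimeSpectrum.preimageHomeomorphFiber R A q).isHomeomorph.topologicalKrullDim_eq

/-- Affine source and target, base a domain. -/
theorem exists_forall_fibDim_comap [IsDomain R] [Algebra.FiniteType R A] :
    ∃ (g : R) (d : WithBot ℕ∞), g ≠ 0 ∧ ∀ q : PrimeSpectrum R, g ∉ q.asIdeal →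
      fibDim (PrimeSpectrum.comap (algebraMap R A)) q = d := by
  obtain ⟨g, d, hg, hgq⟩ := exists_forall_ringKrullDim_fiber_eq (R := R) (A := A)
  refine ⟨g, d, hg, fun q hq => ?_⟩
  rw [fibDim_comap_eq]
  exact hgq q.asIdeal hq

end Spectrum

section Scheme

open AlgebraicGeometry CategoryTheory Limits Groth.Agent.Lib.H77FibreLocal

/-- affine source and target, base a domain -/
theorem exists_spec_domain {R A : CommRingCat.{u}} [IsDomain R] (φ : R ⟶ A)
    (hφ : φ.hom.FiniteType) :
    ∃ (g : R) (d : WithBot ℕ∞), g ≠ 0 ∧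
      ∀ y : Spec R, y ∈ PrimeSpectrum.basicOpen g → fibDim (Spec.map φ) y = d := by
  letI := φ.hom.toAlgebra
  haveI : Algebra.FiniteType R A := hφ
  obtain ⟨g, d, hg, hgq⟩ := exists_forall_fibDim_comap (R := R) (A := A)
  exact ⟨g, d, hg, fun y hy => hgq y hy⟩

/-- affine target, a domain -/
theorem exists_affine_base_domain (R : CommRingCat.{u}) [IsDomain R] {X : Scheme.{u}}
    (f : X ⟶ Spec R) [LocallyOfFiniteType f] [QuasiCompact f] :
    ∃ (g : R) (d : WithBot ℕ∞), g ≠ 0 ∧
      ∀ y : Spec R, y ∈ PrimeSpectrum.basicOpen g → fibDim f y = d := by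
  classical
  have hcomp : ∀ i : X.affineOpenCover.I₀,
      (⇑(X.affineOpenCover.f i ≫ f) : _ → _) = ⇑f ∘ ⇑(X.affineOpenCover.f i) := by
    intro i
    funext x
    exact Scheme.Hom.comp_apply _ _ x
  have key : ∀ i : X.affineOpenCover.I₀, ∃ (g : R) (d : WithBot ℕ∞), g ≠ 0 ∧
      ∀ y : Spec R, y ∈ PrimeSpectrum.basicOpen g →
        fibDim (⇑f ∘ ⇑(X.affineOpenCover.f i)) y = d := by
    intro i
    haveI : IsOpenImmersion (X.affineOpenCover.f i) := X.affineOpenCover.openCover.map_prop i
    haveI : LocallyOfFiniteType (X.affineOpenCover.f i ≫ f) := inferInstance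
    obtain ⟨φ, hφ⟩ := Spec.map_surjective (X.affineOpenCover.f i ≫ f)
    have hft : φ.hom.FiniteType := by
      rw [← HasRingHomProperty.Spec_iff (P := @LocallyOfFiniteType), hφ]
      infer_instance
    rw [← hcomp, ← hφ]
    exact exists_spec_domain φ hft
  choose g d hg1 hg2 using key
  haveI : CompactSpace X := QuasiCompact.compactSpace_of_compactSpace f
  obtain ⟨t, ht⟩ := isCompact_univ.elim_finite_subcover
    (fun i : X.affineOpenCover.I₀ => Set.range (X.affineOpenCover.f i))
    (fun i => (X.affineOpenCover.openCover.map_prop i).base_open.isOpen_range)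
    (fun x _ => by
      obtain ⟨i, y, hy⟩ := X.affineOpenCover.openCover.exists_eq x
      exact Set.mem_iUnion.mpr ⟨i, y, hy⟩)
  refine ⟨∏ i ∈ t, g i, ⨆ i : t, d i.1, Finset.prod_ne_zero_iff.mpr fun i _ => hg1 i,
    fun y hy => ?_⟩
  rw [fibDim_eq_iSup_of_cover (ι := t) (U := fun i => Spec (X.affineOpenCover.X i.1))
    (fun i => ⇑(X.affineOpenCover.f i.1))
    (fun i => (X.affineOpenCover.openCover.map_prop i.1).base_open) ?_ f y]
  · congr 1
    funext i
    apply hg2 i.1 y
    obtain ⟨P, hP⟩ : ∃ P : PrimeSpectrum R, P = y := ⟨_, rfl⟩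
    rw [← hP] at hy ⊢
    intro hmem
    exact hy ((Ideal.IsPrime.prod_mem_iff).mpr ⟨i.1, i.2, hmem⟩)
  · intro x
    have hxt := ht (Set.mem_univ x)
    simp only [Set.mem_iUnion] at hxt
    obtain ⟨i, hit, hx⟩ := hxt
    exact ⟨⟨i, hit⟩, hx⟩

/-- affine target with irreducible spectrum -/
theorem exists_affine_base (R : CommRingCat.{u}) [IrreducibleSpace (Spec R)] {X : Scheme.{u}}
    (f : X ⟶ Spec R) [LocallyOfFiniteType f] [QuasiCompact f] :
    ∃ (g : R) (d : WithBot ℕ∞), g ∉ (genericPoint (Spec R) : PrimeSpectrum R).asIdeal ∧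
      ∀ y : Spec R, y ∈ PrimeSpectrum.basicOpen g → fibDim f y = d := by
  set η : PrimeSpectrum R := genericPoint (Spec R) with hη
  let 𝔭 : Ideal R := η.asIdeal
  let R' : CommRingCat.{u} := CommRingCat.of (R ⧸ 𝔭)
  let ψ : R ⟶ R' := CommRingCat.ofHom (Ideal.Quotient.mk 𝔭)
  haveI : IsDomain R' := Ideal.Quotient.isDomain 𝔭
  let c : Spec R' ⟶ Spec R := Spec.map ψ
  haveI : IsClosedImmersion c :=
    IsClosedImmersion.spec_of_surjective ψ Ideal.Quotient.mk_surjective
  have hcsurj : Function.Surjective c := by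
    intro y
    obtain ⟨y₀, hy₀⟩ : ∃ y₀ : PrimeSpectrum R, y₀ = y := ⟨y, rfl⟩
    have : y₀ ∈ Set.range (PrimeSpectrum.comap (Ideal.Quotient.mk 𝔭)) := by
      rw [_root_.range_comap_of_surjective _ _ Ideal.Quotient.mk_surjective]
      rw [PrimeSpectrum.mem_zeroLocus]
      intro x hx
      have hx' : x ∈ 𝔭 := by
        have : x ∈ RingHom.ker (Ideal.Quotient.mk 𝔭) := hx
        rwa [Ideal.mk_ker] at this
      exact genericPoint_asIdeal_le R y₀ hx'
    obtain ⟨y', hy'⟩ := this
    exact ⟨y', hy'.trans hy₀⟩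
  let f' := pullback.snd f c
  let c' := pullback.fst f c
  have hcomm : ∀ z, f (c' z) = c (f' z) := fun z => by
    have := pullback.condition (f := f) (g := c)
    exact congr($(this) z)
  have hiff : ∀ y' : Spec R', fibDim f' y' = fibDim f (c y') := fun y' =>
    fibDim_eq_of_isInducing f' f c' c c'.isEmbedding.isInducing hcomm c.isEmbedding.injective
      (by rw [Scheme.Pullback.range_fst]) y'
  obtain ⟨g', d, hg', hgy⟩ := exists_affine_base_domain R' f'
  obtain ⟨g, rfl⟩ := Ideal.Quotient.mk_surjective g'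
  refine ⟨g, d, fun hmem => hg' (Ideal.Quotient.eq_zero_iff_mem.mpr hmem), fun y hy => ?_⟩
  obtain ⟨y', rfl⟩ := hcsurj y
  exact (hiff y').symm.trans (hgy y' hy)

/-- **The dimension of the fibres is constant near the generic point** (topological form). -/
theorem exists_opens_forall_fibDim {X Y : Scheme.{u}} (f : X ⟶ Y) [IrreducibleSpace Y]
    [LocallyOfFiniteType f] [QuasiCompact f] :
    ∃ (V : Y.Opens) (d : WithBot ℕ∞), genericPoint Y ∈ V ∧ ∀ y ∈ V, fibDim f y = d := by
  obtain ⟨i, η', hη'⟩ := Y.affineOpenCover.openCover.exists_eq (genericPoint Y)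
  let R : CommRingCat.{u} := Y.affineOpenCover.X i
  let j : Spec R ⟶ Y := Y.affineOpenCover.f i
  haveI : IsOpenImmersion j := Y.affineOpenCover.openCover.map_prop i
  haveI : Nonempty (Spec R) := ⟨η'⟩
  haveI : IrreducibleSpace (Spec R) := irreducibleSpace_of_isOpenImmersion j
  have hgen : j (genericPoint (Spec R)) = genericPoint Y :=
    genericPoint_eq_of_isOpenImmersion j
  let f' := pullback.snd f j
  let j' := pullback.fst f j
  have hcomm : ∀ z, f (j' z) = j (f' z) := fun z => by
    have := pullback.condition (f := f) (g := j)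
    exact congr($(this) z)
  have hiff : ∀ y' : Spec R, fibDim f' y' = fibDim f (j y') := fun y' =>
    fibDim_eq_of_isInducing f' f j' j j'.isOpenEmbedding.isInducing hcomm
      j.isOpenEmbedding.injective (by rw [Scheme.Pullback.range_fst]) y'
  obtain ⟨g, d, hg, hgy⟩ := exists_affine_base R f'
  refine ⟨j ''ᵁ PrimeSpectrum.basicOpen g, d, ⟨genericPoint (Spec R), hg, hgen⟩, ?_⟩
  rintro y ⟨y', hy', rfl⟩
  exact (hiff y').symm.trans (hgy y' hy')

/-- The dimension of the scheme theoretic fibre is `fibDim`. -/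
theorem topologicalKrullDim_fiber_eq {X Y : Scheme.{u}} (f : X ⟶ Y) (y : Y) :
    topologicalKrullDim (f.fiber y) = fibDim f y :=
  dim_eq_fibDim f y (f.fiberι y) (f.fiberι y).isEmbedding.isInducing (Scheme.Hom.range_fiberι f y)

/-- **The dimension of the fibres is constant near the generic point.** -/
theorem exists_opens_forall_topologicalKrullDim_fiber_eq {X Y : Scheme.{u}} (f : X ⟶ Y)
    [IrreducibleSpace Y] [LocallyOfFiniteType f] [QuasiCompact f] :
    ∃ V : Y.Opens, genericPoint Y ∈ V ∧ ∀ y ∈ V,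
      topologicalKrullDim (f.fiber y) = topologicalKrullDim (f.fiber (genericPoint Y)) := by
  obtain ⟨V, d, hηV, hV⟩ := exists_opens_forall_fibDim f
  refine ⟨V, hηV, fun y hy => ?_⟩
  rw [topologicalKrullDim_fiber_eq, topologicalKrullDim_fiber_eq, hV y hy, hV _ hηV]

end Scheme

end Groth.Agent.Lib.H77FibDimSch
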