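import Groth.Prelude.Def_EGA4Misc
import Groth.Agent.Lib.H77FibDimSch
import Groth.Agent.Lib.H77DimFieldExt

/-!
# "The dimension is `n`" as a constructible property of algebraic schemes (helper77)

`dimEqProp n` is the relation on composable pairs `X ⟶ Y ⟶ T` saying that `Y` has Krull
dimension `n`; it is a constructible (hence ind-constructible) relation on morphisms of algebraic
schemes in the sense of `ConsProp.IsConsMor`: it is invariant under extension of the base field
(`H77DimFieldExt`) and constant on a neighbourhood of the generic point (`H77FibDimSch`).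
-/

set_option autoImplicit false
universe u

open CategoryTheory Limits AlgebraicGeometry

namespace Groth.Agent.Lib.H77DimCons

/-- The middle scheme of `X ⟶ Y ⟶ T` has dimension `n`. -/
def dimEqProp (n : WithBot ℕ∞) : ∀ ⦃X Y T : Scheme.{u}⦄, (X ⟶ Y) → (Y ⟶ T) → Prop :=
  fun _ Y _ _ _ => topologicalKrullDim ↥Y = n

theorem mem_locusMor_dimEqProp_iff (n : WithBot ℕ∞) {X Y S : Scheme.{u}} (f : X ⟶ Y) (g : Y ⟶ S)
    (s : S) : s ∈ ConsProp.locusMor (dimEqProp n) f g ↔ topologicalKrullDim ↥(g.fiber s) = n :=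
  Iff.rfl

theorem isFieldStableMor_dimEqProp (n : WithBot ℕ∞) :
    ConsProp.IsFieldStableMor (dimEqProp.{u} n) := by
  intro X X' Y Y' T T' f g f' g' eX eY h _ _ _ _ _ _ _ _ hY _
  have := Groth.Agent.Lib.H77DimFieldExt.dim_eq_of_isPullback_field g g' eY h hY
  change topologicalKrullDim ↥Y = n ↔ topologicalKrullDim ↥Y' = n
  rw [this]

theorem isConsMor_dimEqProp (n : WithBot ℕ∞) : ConsProp.IsConsMor (dimEqProp.{u} n) := by
  refine ⟨isFieldStableMor_dimEqProp n, ?_⟩
  intro X Y S f g _ _ _ _ _ _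
  obtain ⟨V, hηV, hV⟩ :=
    Groth.Agent.Lib.H77FibDimSch.exists_opens_forall_topologicalKrullDim_fiber_eq g
  by_cases hd : topologicalKrullDim (g.fiber (genericPoint S)) = n
  · left
    refine ⟨genericPoint S, mem_interior.mpr ⟨V, ?_, V.isOpen, hηV⟩⟩
    intro s hs
    change topologicalKrullDim (g.fiber s) = n
    rw [hV s hs]
    exact hd
  · right
    refine ⟨genericPoint S, mem_interior.mpr ⟨V, ?_, V.isOpen, hηV⟩⟩
    intro s hs
    change ¬ topologicalKrullDim (g.fiber s) = n
    rw [hV s hs]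
    exact hd

theorem isIndConsMor_dimEqProp (n : WithBot ℕ∞) : ConsProp.IsIndConsMor (dimEqProp.{u} n) := by
  refine ⟨isFieldStableMor_dimEqProp n, ?_⟩
  intro X Y S f g _ _ _ _ _ _ hgen
  obtain ⟨V, hηV, hV⟩ :=
    Groth.Agent.Lib.H77FibDimSch.exists_opens_forall_topologicalKrullDim_fiber_eq g
  refine ⟨genericPoint S, mem_interior.mpr ⟨V, ?_, V.isOpen, hηV⟩⟩
  intro s hs
  change topologicalKrullDim (g.fiber s) = n
  rw [hV s hs]
  exact hgen

end Groth.Agent.Lib.H77DimCons
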