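import Mathlib.RingTheory.Flat.FaithfullyFlat.Basic
import Mathlib.RingTheory.LocalRing.ResidueField.Ideal
import Mathlib.RingTheory.Spectrum.Prime.Topology
import Mathlib.LinearAlgebra.TensorProduct.Tower
import Mathlib.LinearAlgebra.TensorProduct.RightExactness
import Mathlib.Algebra.Exact.Basic

/-!
# The fibrewise exactness locus: formal properties (helper77)

For `R`-linear maps `u : F → G`, `v : G → H`, `exLocus u v ⊆ Spec R` is the set of primes `p` such
that `κ(p) ⊗ F → κ(p) ⊗ G → κ(p) ⊗ H` is exact.

* `exact_baseChange_iff_of_ladder`: invariance under a ladder (surjective, bijective, injective).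
* `exact_baseChange_cover_iff`: replacing `G` by a cover `π : G' → G` and `u` by any map with
  range `π⁻¹(range u)`.
* `exact_baseChange_baseChange_iff`: for `k → R`, `K₀ → K` fields over `k → R`.
* `exLocus_baseChange`: `exLocus (R ⊗ u₀) (R ⊗ v₀) = (Spec R → Spec k)⁻¹ (exLocus u₀ v₀)`.
-/

set_option autoImplicit false
set_option linter.style.haveILetI false
universe u

open TensorProduct Function

namespace Groth.Agent.Lib.H77ExLocus

section Basic

variable {R : Type*} [CommRing R]
  {F G H : Type*} [AddCommGroup F] [Module R F] [AddCommGroup G] [Module R G]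
  [AddCommGroup H] [Module R H]

/-- The set of primes at which the fibre sequence is exact. -/
def exLocus (u : F →ₗ[R] G) (v : G →ₗ[R] H) : Set (PrimeSpectrum R) :=
  {p | Function.Exact (u.baseChange p.asIdeal.ResidueField)
    (v.baseChange p.asIdeal.ResidueField)}

variable (K : Type*) [CommRing K] [Algebra R K]

theorem baseChange_surjective {u : F →ₗ[R] G} (hu : Surjective u) :
    Surjective (u.baseChange K) := by
  rw [LinearMap.baseChange_eq_ltensor]
  exact LinearMap.lTensor_surjective K hu

theorem range_baseChange (u : F →ₗ[R] G) :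
    LinearMap.range (u.baseChange K) = (LinearMap.range u).baseChange K := by
  have h : u = (LinearMap.range u).subtype ∘ₗ u.rangeRestrict :=
    (LinearMap.subtype_comp_codRestrict _ _ _).symm
  conv_lhs => rw [h, LinearMap.baseChange_comp]
  rw [LinearMap.range_comp_of_range_eq_top]
  · rfl
  · exact LinearMap.range_eq_top.mpr (baseChange_surjective K u.surjective_rangeRestrict)

theorem ker_baseChange_of_surjective {π : G →ₗ[R] H} (hπ : Surjective π) :
    LinearMap.ker (π.baseChange K) = (LinearMap.ker π).baseChange K := by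
  have hex : Function.Exact (LinearMap.ker π).subtype π := by
    intro x
    simp
  have h2 := lTensor_exact K hex hπ
  ext y
  rw [LinearMap.mem_ker]
  have h3 := h2 y
  rw [← LinearMap.baseChange_eq_ltensor, ← LinearMap.baseChange_eq_ltensor] at h3
  rw [h3]
  rfl

variable {F' G' H' : Type*} [AddCommGroup F'] [Module R F'] [AddCommGroup G'] [Module R G']
  [AddCommGroup H'] [Module R H']

/-- Invariance of exactness after base change along a ladder whose left vertical map is
surjective and whose other vertical maps are isomorphisms. -/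
theorem exact_baseChange_iff_of_ladder (u : F →ₗ[R] G) (v : G →ₗ[R] H) (u' : F' →ₗ[R] G')
    (v' : G' →ₗ[R] H') (τ₁ : F →ₗ[R] F') (τ₂ : G ≃ₗ[R] G') (τ₃ : H ≃ₗ[R] H')
    (h₁ : u' ∘ₗ τ₁ = τ₂.toLinearMap ∘ₗ u) (h₂ : v' ∘ₗ τ₂.toLinearMap = τ₃.toLinearMap ∘ₗ v)
    (hτ₁ : Surjective τ₁) :
    Function.Exact (u.baseChange K) (v.baseChange K) ↔
      Function.Exact (u'.baseChange K) (v'.baseChange K) := by
  refine LinearMap.exact_iff_of_surjective_of_bijective_of_injective _ _ _ _ (τ₁.baseChange K)
    (τ₂.toLinearMap.baseChange K) (τ₃.toLinearMap.baseChange K) ?_ ?_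
    (baseChange_surjective K hτ₁) ?_ ?_
  · rw [← LinearMap.baseChange_comp, ← LinearMap.baseChange_comp, h₁]
  · rw [← LinearMap.baseChange_comp, ← LinearMap.baseChange_comp, h₂]
  · exact (τ₂.baseChange R K G G').bijective
  · exact (τ₃.baseChange R K H H').injective

/-- Replacing `G` by a cover `π : G' → G` and `u` by a map `ũ` with range `π⁻¹(range u)` does not
change exactness after base change. -/
theorem exact_baseChange_cover_iff (u : F →ₗ[R] G) (v : G →ₗ[R] H) (π : G' →ₗ[R] G)
    (hπ : Surjective π) (ũ : F' →ₗ[R] G')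
    (hũ : LinearMap.range ũ = (LinearMap.range u).comap π) :
    Function.Exact (ũ.baseChange K) ((v ∘ₗ π).baseChange K) ↔
      Function.Exact (u.baseChange K) (v.baseChange K) := by
  have hπK : Surjective (π.baseChange K) := baseChange_surjective K hπ
  have key : LinearMap.range (ũ.baseChange K) =
      (LinearMap.range (u.baseChange K)).comap (π.baseChange K) := by
    rw [range_baseChange, range_baseChange, hũ]
    apply le_antisymm
    · rintro y ⟨z, rfl⟩
      rw [Submodule.mem_comap]
      induction z with
      | zero => simp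
      | add z₁ z₂ h₁ h₂ => rw [map_add, map_add]; exact Submodule.add_mem _ h₁ h₂
      | tmul a m =>
        rw [LinearMap.baseChange_tmul, LinearMap.baseChange_tmul]
        exact Submodule.tmul_mem_baseChange_of_mem a m.2
    · intro y hy
      rw [Submodule.mem_comap] at hy
      obtain ⟨w, hw⟩ := hy
      -- lift `w`
      have hlift : ∀ w : K ⊗[R] (LinearMap.range u), ∃ y' ∈ ((LinearMap.range u).comap π).baseChange K,
          (π.baseChange K) y' = ((LinearMap.range u).subtype.baseChange K) w := by
        intro w
        induction w with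
        | zero => exact ⟨0, Submodule.zero_mem _, by simp⟩
        | add w₁ w₂ h₁ h₂ =>
          obtain ⟨y₁, hy₁, e₁⟩ := h₁
          obtain ⟨y₂, hy₂, e₂⟩ := h₂
          exact ⟨y₁ + y₂, Submodule.add_mem _ hy₁ hy₂, by rw [map_add, map_add, e₁, e₂]⟩
        | tmul a g =>
          obtain ⟨m, hm⟩ := hπ g.1
          refine ⟨a ⊗ₜ[R] m, Submodule.tmul_mem_baseChange_of_mem a ?_, ?_⟩
          · rw [Submodule.mem_comap, hm]; exact g.2
          · rw [LinearMap.baseChange_tmul, LinearMap.baseChange_tmul, hm]; rfl
      obtain ⟨y', hy', e'⟩ := hlift w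
      have h1 : y - y' ∈ LinearMap.ker (π.baseChange K) := by
        rw [LinearMap.mem_ker, map_sub, e', hw, sub_self]
      rw [ker_baseChange_of_surjective K hπ] at h1
      have h2 : LinearMap.ker π ≤ (LinearMap.range u).comap π := by
        intro m hm
        rw [Submodule.mem_comap, LinearMap.mem_ker.mp hm]
        exact Submodule.zero_mem _
      have h3 := Submodule.baseChange_mono K h2 h1
      have : y = (y - y') + y' := by abel
      rw [this]
      exact Submodule.add_mem _ h3 hy'
  rw [LinearMap.exact_iff, LinearMap.exact_iff, LinearMap.baseChange_comp, LinearMap.ker_comp, key]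
  exact (Submodule.comap_injective_of_surjective hπK).eq_iff

end Basic

section Transfer

variable {k : Type*} [CommRing k]
  {F₀ G₀ H₀ : Type*} [AddCommGroup F₀] [Module k F₀] [AddCommGroup G₀] [Module k G₀]
  [AddCommGroup H₀] [Module k H₀] (u₀ : F₀ →ₗ[k] G₀) (v₀ : G₀ →ₗ[k] H₀)

open TensorProduct.AlgebraTensorModule in
/-- Base change in two steps. -/
theorem exact_baseChange_baseChange_iff (A K : Type*) [CommRing A] [Algebra k A] [CommRing K]
    [Algebra k K] [Algebra A K] [IsScalarTower k A K] :
    Function.Exact ((u₀.baseChange A).baseChange K) ((v₀.baseChange A).baseChange K) ↔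
      Function.Exact (u₀.baseChange K) (v₀.baseChange K) := by
  rw [LinearMap.baseChange_baseChange, LinearMap.baseChange_baseChange]
  symm
  refine Function.Exact.iff_of_ladder_linearEquiv (e₁ := cancelBaseChange k A K K F₀)
    (e₂ := cancelBaseChange k A K K G₀) (e₃ := cancelBaseChange k A K K H₀) ?_ ?_
  · ext x
    simp
  · ext x
    simp

/-- Field extensions do not change exactness. -/
theorem exact_baseChange_field_iff (K₀ K : Type*) [Field K₀] [Algebra k K₀] [Field K]
    [Algebra k K] [Algebra K₀ K] [IsScalarTower k K₀ K] :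
    Function.Exact (u₀.baseChange K) (v₀.baseChange K) ↔
      Function.Exact (u₀.baseChange K₀) (v₀.baseChange K₀) := by
  rw [← exact_baseChange_baseChange_iff u₀ v₀ K₀ K]
  rw [LinearMap.baseChange_eq_ltensor, LinearMap.baseChange_eq_ltensor]
  exact Module.FaithfullyFlat.lTensor_exact_iff_exact K₀ K _ _

variable {R : Type*} [CommRing R] [Algebra k R]

/-- **Compatibility of the exactness locus with base change.** -/
theorem exLocus_baseChange :
    exLocus (u₀.baseChange R) (v₀.baseChange R) =
      (PrimeSpectrum.comap (algebraMap k R)) ⁻¹' exLocus u₀ v₀ := by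
  ext p
  let p₀ : PrimeSpectrum k := PrimeSpectrum.comap (algebraMap k R) p
  change Function.Exact _ _ ↔ Function.Exact (u₀.baseChange p₀.asIdeal.ResidueField)
    (v₀.baseChange p₀.asIdeal.ResidueField)
  have hp₀ : p₀.asIdeal = Ideal.comap (algebraMap k R) p.asIdeal := rfl
  letI alg : Algebra p₀.asIdeal.ResidueField p.asIdeal.ResidueField :=
    (Ideal.ResidueField.map p₀.asIdeal p.asIdeal (algebraMap k R) hp₀).toAlgebra
  haveI : IsScalarTower k p₀.asIdeal.ResidueField p.asIdeal.ResidueField := by
    refine IsScalarTower.of_algebraMap_eq (fun r => ?_)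
    change _ = Ideal.ResidueField.map p₀.asIdeal p.asIdeal (algebraMap k R) hp₀
      (algebraMap k p₀.asIdeal.ResidueField r)
    rw [Ideal.ResidueField.map_algebraMap, IsScalarTower.algebraMap_apply k R]
  rw [exact_baseChange_baseChange_iff u₀ v₀ R p.asIdeal.ResidueField]
  exact exact_baseChange_field_iff u₀ v₀ p₀.asIdeal.ResidueField p.asIdeal.ResidueField

end Transfer

end Groth.Agent.Lib.H77ExLocus
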