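import Groth.Agent.Lib.H77ExLocusNoeth
import Groth.Agent.Lib.FlatLimModel88
import Groth.Agent.Lib.CritFibD88
import Mathlib.RingTheory.Spectrum.Prime.ConstructibleSet

/-!
# The fibrewise exactness locus is constructible (EGA IV 9.4.2, affine form) (helper77)

`isConstructible_exLocus`: `R` any ring, `B` a finitely presented `R`-algebra, `u : F → G`,
`v : G → H` maps of finitely presented `B`-modules; the set of primes `p` of `R` at which
`κ(p) ⊗ F → κ(p) ⊗ G → κ(p) ⊗ H` is exact is constructible.

The proof descends the data to a finitely generated `ℤ`-subalgebra (using helper88's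
`FlatLimModel88.modelEquiv` and `CritFibD88.exists_tower_model_data`) and uses the Noetherian case.
-/

set_option autoImplicit false
set_option linter.style.haveILetI false
set_option linter.unusedSectionVars false
universe u

open TensorProduct Function

namespace Groth.Agent.Lib.H77ExLocus

open Groth.Agent.Lib.FlatLimModel88 Groth.Agent.Lib.CritFibD88 Groth.Agent.Lib.FlatLimStage88
open scoped Groth.Agent.Lib.FlatLimStage88

/-- Preimages of constructible sets under `Spec R → Spec k` are constructible. -/
theorem isConstructible_preimage_comap {k R : Type*} [CommRing k] [CommRing R] (φ : k →+* R)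
    {s : Set (PrimeSpectrum k)} (hs : Topology.IsConstructible s) :
    Topology.IsConstructible (PrimeSpectrum.comap φ ⁻¹' s) := by
  obtain ⟨S, rfl⟩ := PrimeSpectrum.exists_constructibleSetData_iff.mpr hs
  rw [← PrimeSpectrum.ConstructibleSetData.toSet_map]
  exact (S.map φ).isConstructible_toSet

/-- A Noetherian model of a finitely presented algebra together with lifts of a finite family of
elements. -/
theorem exists_model_data {R B : Type u} [CommRing R] [CommRing B] [Algebra R B]
    [Algebra.FinitePresentation R B] {T : Type*} [Finite T] (z : T → B) :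
    ∃ (k : Type u) (_ : CommRing k) (_ : Algebra k R) (B₀ : Type u) (_ : CommRing B₀)
      (_ : Algebra k B₀) (e : R ⊗[k] B₀ ≃ₐ[R] B) (z₀ : T → B₀),
      Algebra.FiniteType ℤ k ∧ Algebra.FiniteType k B₀ ∧ ∀ t, iota0 e (z₀ t) = z t := by
  obtain ⟨N, ⟨eT⟩⟩ := Finite.exists_equiv_fin T
  let zz : Fin 1 → Fin N → B := fun _ i => z (eT.symm i)
  obtain ⟨k, _, _, B₀, _, _, C₀, _, _, _, _, eB, eC, ub, hk, hB₀, hC₀, hub, -⟩ :=
    exists_tower_model_data (R := R) (B := B) (C := B) zz
  refine ⟨k, _, _, C₀, _, _, eC, fun t => ub 0 (eT t), hk, hC₀, fun t => ?_⟩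
  rw [hub]
  simp [zz]

section ModelMap

variable {k R S₀ S : Type u} [CommRing k] [CommRing R] [Algebra k R] [CommRing S₀] [Algebra k S₀]
  [CommRing S] [Algebra R S] (e : R ⊗[k] S₀ ≃ₐ[R] S)
  {M : Type u} [AddCommGroup M] [Module S M] [Module R M] [IsScalarTower R S M]
  [Module k M] [IsScalarTower k R M]
  {N : Type u} [AddCommGroup N] [Module S N] [Module R N] [IsScalarTower R S N]
  [Module k N] [IsScalarTower k R N]
  {n m n' m' : ℕ}

/-- The map between two models induced by a matrix carrying relations to relations. -/
noncomputable def modelMap (ub : Fin m → Fin n → S₀) (ub' : Fin m' → Fin n' → S₀)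
    (t₀ : Fin n → Fin n' → S₀)
    (ht₀ : ∀ j, Fintype.linearCombination S₀ t₀ (ub j) ∈ Submodule.span S₀ (Set.range ub')) :
    Model0 ub →ₗ[S₀] Model0 ub' :=
  Submodule.mapQ _ _ (Fintype.linearCombination S₀ t₀)
    (Submodule.span_le.mpr (by rintro _ ⟨j, rfl⟩; exact ht₀ j))

theorem modelMap_mk (ub : Fin m → Fin n → S₀) (ub' : Fin m' → Fin n' → S₀)
    (t₀ : Fin n → Fin n' → S₀)
    (ht₀ : ∀ j, Fintype.linearCombination S₀ t₀ (ub j) ∈ Submodule.span S₀ (Set.range ub'))
    (w : Fin n → S₀) :
    modelMap ub ub' t₀ ht₀ (Submodule.Quotient.mk w) =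
      Submodule.Quotient.mk (Fintype.linearCombination S₀ t₀ w) := rfl

theorem modelEquiv_tmul (f : (Fin n → S) →ₗ[S] M) {ub : Fin m → Fin n → S₀}
    (u : Fin m → Fin n → S) (hub : ∀ j i, iota0 e (ub j i) = u j i)
    (hu : LinearMap.ker f = Submodule.span S (Set.range u)) (hf : Surjective f) (r : R)
    (w : Fin n → S₀) :
    modelEquiv e f u hub hu hf (r ⊗ₜ[k] (Submodule.Quotient.mk w : Model0 ub)) =
      r • f (fun i => iota0 e (w i)) :=
  Psi_tmul e f u hub hu r w

/-- Compatibility of `modelEquiv` with maps given by matrices. -/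
theorem modelEquiv_comp_baseChange (f : (Fin n → S) →ₗ[S] M) {ub : Fin m → Fin n → S₀}
    (u : Fin m → Fin n → S) (hub : ∀ j i, iota0 e (ub j i) = u j i)
    (hu : LinearMap.ker f = Submodule.span S (Set.range u)) (hf : Surjective f)
    (f' : (Fin n' → S) →ₗ[S] N) {ub' : Fin m' → Fin n' → S₀}
    (u' : Fin m' → Fin n' → S) (hub' : ∀ j i, iota0 e (ub' j i) = u' j i)
    (hu' : LinearMap.ker f' = Submodule.span S (Set.range u')) (hf' : Surjective f')
    (t₀ : Fin n → Fin n' → S₀)
    (ht₀ : ∀ j, Fintype.linearCombination S₀ t₀ (ub j) ∈ Submodule.span S₀ (Set.range ub'))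
    (t : M →ₗ[S] N) (ht : ∀ i, t (f (Pi.single i 1)) = f' (fun l => iota0 e (t₀ i l)))
    (y : R ⊗[k] Model0 ub) :
    modelEquiv e f' u' hub' hu' hf'
        ((((modelMap ub ub' t₀ ht₀).restrictScalars k).baseChange R) y) =
      t (modelEquiv e f u hub hu hf y) := by
  induction y with
  | zero => simp
  | add y₁ y₂ h₁ h₂ => rw [map_add, map_add, map_add, map_add, h₁, h₂]
  | tmul r x =>
    obtain ⟨w, rfl⟩ := Submodule.Quotient.mk_surjective _ x
    rw [LinearMap.baseChange_tmul]
    change modelEquiv e f' u' hub' hu' hf'
      (r ⊗ₜ[k] (Submodule.Quotient.mk (Fintype.linearCombination S₀ t₀ w) : Model0 ub')) = _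
    rw [modelEquiv_tmul, modelEquiv_tmul, LinearMap.map_smul_of_tower]
    congr 1
    have hw : (fun i => iota0 e (w i)) = ∑ i, iota0 e (w i) • (Pi.single i (1 : S) : Fin n → S) :=
      (sum_smul_single _).symm
    rw [hw, map_sum, map_sum]
    simp only [map_smul, ht]
    have h2 : ∑ x, iota0 e (w x) • f' (fun l => iota0 e (t₀ x l)) =
        f' (∑ x, iota0 e (w x) • fun l => iota0 e (t₀ x l)) := by
      rw [map_sum]
      simp only [map_smul]
    rw [h2]
    congr 1
    funext l
    rw [Fintype.linearCombination_apply, Finset.sum_apply, Finset.sum_apply, map_sum]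
    refine Finset.sum_congr rfl (fun i _ => ?_)
    rw [Pi.smul_apply, Pi.smul_apply, smul_eq_mul, smul_eq_mul, map_mul]

end ModelMap

section Main

variable {R B : Type u} [CommRing R] [CommRing B] [Algebra R B]
  {F G H : Type u} [AddCommGroup F] [Module B F] [Module R F] [IsScalarTower R B F]
  [AddCommGroup G] [Module B G] [Module R G] [IsScalarTower R B G]
  [AddCommGroup H] [Module B H] [Module R H] [IsScalarTower R B H]

/-- Reduction to the case where `F` and `G` are finite free. -/
theorem exists_free_cover [Module.Finite B F] [Module.FinitePresentation B G] (u : F →ₗ[B] G)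
    (v : G →ₗ[B] H) :
    ∃ (a b : ℕ) (x : Fin a → Fin b → B) (g : Fin b → G),
      exLocus ((Fintype.linearCombination B x).restrictScalars R)
        ((v ∘ₗ Fintype.linearCombination B g).restrictScalars R) =
      exLocus (u.restrictScalars R) (v.restrictScalars R) := by
  obtain ⟨b, g, hg⟩ := Module.Finite.exists_fin (R := B) (M := G)
  have hπ : Surjective (Fintype.linearCombination B g) := by
    rw [← LinearMap.range_eq_top, Fintype.range_linearCombination, hg]
  have hN : ((LinearMap.range u).comap (Fintype.linearCombination B g)).FG := by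
    refine Submodule.fg_of_fg_map_of_fg_inf_ker (Fintype.linearCombination B g) ?_ ?_
    · rw [Submodule.map_comap_eq_of_surjective hπ, LinearMap.range_eq_map]
      exact Module.Finite.fg_top.map u
    · have : (LinearMap.range u).comap (Fintype.linearCombination B g) ⊓
          LinearMap.ker (Fintype.linearCombination B g) =
          LinearMap.ker (Fintype.linearCombination B g) := by
        rw [inf_eq_right]
        intro m hm
        rw [Submodule.mem_comap, LinearMap.mem_ker.mp hm]
        exact Submodule.zero_mem _
      rw [this]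
      exact Module.FinitePresentation.fg_ker _ hπ
  obtain ⟨a, x, hx⟩ := Submodule.fg_iff_exists_fin_generating_family.mp hN
  refine ⟨a, b, x, g, ?_⟩
  ext p
  refine exact_baseChange_cover_iff _ (u.restrictScalars R) (v.restrictScalars R)
    ((Fintype.linearCombination B g).restrictScalars R) hπ
    ((Fintype.linearCombination B x).restrictScalars R) ?_
  ext y
  have h1 : y ∈ LinearMap.range (Fintype.linearCombination B x) ↔
      y ∈ (LinearMap.range u).comap (Fintype.linearCombination B g) := by
    rw [Fintype.range_linearCombination, hx]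
  exact h1

/-- The case where `F` and `G` are finite free. -/
theorem isConstructible_exLocus_free [Algebra.FinitePresentation R B]
    [Module.FinitePresentation B H] {a b : ℕ} (x : Fin a → Fin b → B) (h : Fin b → H) :
    Topology.IsConstructible (exLocus ((Fintype.linearCombination B x).restrictScalars R)
      ((Fintype.linearCombination B h).restrictScalars R)) := by
  classical
  obtain ⟨c, c', fH, gH, hfH, hex⟩ := Module.FinitePresentation.exists_fin' B H
  let A : Fin c' → Fin c → B := fun j => gH (Pi.single j 1)
  have hA : LinearMap.ker fH = Submodule.span B (Set.range A) := by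
    rw [hex.linearMap_ker_eq, LinearMap.range_eq_map, ← (Pi.basisFun B (Fin c')).span_eq,
      Submodule.map_span, ← Set.range_comp]
    congr 2
    funext j
    simp [A]
  choose y hy using fun j => hfH (h j)
  let T := (Fin a × Fin b) ⊕ ((Fin b × Fin c) ⊕ (Fin c' × Fin c))
  let z : T → B := Sum.elim (fun q => x q.1 q.2)
    (Sum.elim (fun q => y q.1 q.2) (fun q => A q.1 q.2))
  obtain ⟨k, _, _, B₀, _, _, e, z₀, hk, hB₀, hz₀⟩ := exists_model_data (R := R) z
  letI : Algebra k B := ((algebraMap R B).comp (algebraMap k R)).toAlgebra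
  haveI : IsScalarTower k R B := IsScalarTower.of_algebraMap_eq' rfl
  letI : Module k H := Module.compHom H (algebraMap k R)
  haveI : IsScalarTower k R H := IsScalarTower.of_algebraMap_smul (fun r x => rfl)
  haveI : IsNoetherianRing k := Algebra.FiniteType.isNoetherianRing ℤ k
  let x₀ : Fin a → Fin b → B₀ := fun i j => z₀ (Sum.inl (i, j))
  let y₀ : Fin b → Fin c → B₀ := fun j l => z₀ (Sum.inr (Sum.inl (j, l)))
  let A₀ : Fin c' → Fin c → B₀ := fun j l => z₀ (Sum.inr (Sum.inr (j, l)))
  have hx₀ : ∀ i j, iota0 e (x₀ i j) = x i j := fun i j => hz₀ (Sum.inl (i, j))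
  have hy₀ : ∀ j l, iota0 e (y₀ j l) = y j l := fun j l => hz₀ (Sum.inr (Sum.inl (j, l)))
  have hA₀ : ∀ j l, iota0 e (A₀ j l) = A j l := fun j l => hz₀ (Sum.inr (Sum.inr (j, l)))
  let ea : Fin 0 → Fin a → B₀ := fun j => j.elim0
  let eb : Fin 0 → Fin b → B₀ := fun j => j.elim0
  let ua : Fin 0 → Fin a → B := fun j => j.elim0
  let ub : Fin 0 → Fin b → B := fun j => j.elim0
  have hua : LinearMap.ker (LinearMap.id : (Fin a → B) →ₗ[B] (Fin a → B)) =
      Submodule.span B (Set.range ua) := by simp
  have hub : LinearMap.ker (LinearMap.id : (Fin b → B) →ₗ[B] (Fin b → B)) =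
      Submodule.span B (Set.range ub) := by simp
  let u₀ : Model0 ea →ₗ[B₀] Model0 eb := modelMap ea eb x₀ (fun j => j.elim0)
  let v₀ : Model0 eb →ₗ[B₀] Model0 A₀ := modelMap eb A₀ y₀ (fun j => j.elim0)
  let τF := modelEquiv e (LinearMap.id : (Fin a → B) →ₗ[B] (Fin a → B)) ua (ub := ea)
    (fun j => j.elim0) hua surjective_id
  let τG := modelEquiv e (LinearMap.id : (Fin b → B) →ₗ[B] (Fin b → B)) ub (ub := eb)
    (fun j => j.elim0) hub surjective_id
  let τH := modelEquiv e fH A hA₀ hA hfH
  have h₁ : ((Fintype.linearCombination B x).restrictScalars R) ∘ₗ τF.toLinearMap =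
      τG.toLinearMap ∘ₗ ((u₀.restrictScalars k).baseChange R) := by
    refine LinearMap.ext fun y' => ?_
    refine (modelEquiv_comp_baseChange e LinearMap.id ua (fun j => j.elim0) hua surjective_id
      LinearMap.id ub (fun j => j.elim0) hub surjective_id x₀ (fun j => j.elim0)
      (Fintype.linearCombination B x) (fun i => ?_) y').symm
    rw [LinearMap.id_apply, LinearMap.id_apply, Fintype.linearCombination_apply_single, one_smul]
    funext l
    exact (hx₀ i l).symm
  have h₂ : ((Fintype.linearCombination B h).restrictScalars R) ∘ₗ τG.toLinearMap =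
      τH.toLinearMap ∘ₗ ((v₀.restrictScalars k).baseChange R) := by
    refine LinearMap.ext fun y' => ?_
    refine (modelEquiv_comp_baseChange e LinearMap.id ub (fun j => j.elim0) hub surjective_id
      fH A hA₀ hA hfH y₀ (fun j => j.elim0)
      (Fintype.linearCombination B h) (fun j => ?_) y').symm
    rw [LinearMap.id_apply, Fintype.linearCombination_apply_single, one_smul, ← hy j]
    congr 1
    funext l
    exact (hy₀ j l).symm
  have hE1 : exLocus ((Fintype.linearCombination B x).restrictScalars R)
      ((Fintype.linearCombination B h).restrictScalars R) =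
      exLocus ((u₀.restrictScalars k).baseChange R) ((v₀.restrictScalars k).baseChange R) := by
    ext p
    exact (exact_baseChange_iff_of_ladder _ ((u₀.restrictScalars k).baseChange R)
      ((v₀.restrictScalars k).baseChange R) ((Fintype.linearCombination B x).restrictScalars R)
      ((Fintype.linearCombination B h).restrictScalars R) τF.toLinearMap τG τH h₁ h₂
      τF.surjective).symm
  rw [hE1, exLocus_baseChange]
  exact isConstructible_preimage_comap _ (isConstructible_exLocus_of_isNoetherianRing u₀ v₀)

/-- **EGA IV 9.4.2 (affine form)**: the fibrewise exactness locus of a sequence of finitely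
presented modules over a finitely presented algebra is constructible. -/
theorem isConstructible_exLocus [Algebra.FinitePresentation R B] [Module.Finite B F]
    [Module.FinitePresentation B G] [Module.FinitePresentation B H] (u : F →ₗ[B] G)
    (v : G →ₗ[B] H) :
    Topology.IsConstructible (exLocus (u.restrictScalars R) (v.restrictScalars R)) := by
  obtain ⟨a, b, x, g, hE⟩ := exists_free_cover (R := R) u v
  rw [← hE]
  have hv : v ∘ₗ Fintype.linearCombination B g = Fintype.linearCombination B (fun j => v (g j)) := by
    refine LinearMap.ext fun w => ?_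
    rw [LinearMap.comp_apply, Fintype.linearCombination_apply, Fintype.linearCombination_apply,
      map_sum]
    simp only [map_smul]
  rw [hv]
  exact isConstructible_exLocus_free x (fun j => v (g j))

end Main

end Groth.Agent.Lib.H77ExLocus
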