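import Groth.Agent.Lib.H77FibClosure
import Groth.Agent.Lib.H77FibSeparated
import Groth.Agent.Lib.ConsGenericPt

/-!
# Fibrewise closedness / local closedness of constructible sets near the generic point (helper77)

EGA IV 9.5.4-type statements over an integral Noetherian base `Y`, for `f : X ⟶ Y` of finite type and
`C ⊆ X` constructible:

* `exists_opens_constructible_inter_fiber`: near `η` either all fibres miss `C` or all meet `C`;
* `exists_opens_fiber_closed_constructible`: near `η` either all `C ∩ X_y` are closed in `X_y` or none;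
* `exists_opens_locallyClosed`: near `η` either no `C ∩ X_y` is locally closed in `X_y`, or there is
  an open `O ⊆ X` such that over a neighbourhood of `η`, `C ⊆ O` and `C` is closed in `O`.
-/

set_option autoImplicit false
set_option linter.style.haveILetI false
universe u
open CategoryTheory Limits AlgebraicGeometry TopologicalSpace Topology

namespace Groth.Agent.Lib.H77FibClosure

open Groth.Agent.Lib.H77FibSeparated

variable {X Y : Scheme.{u}} (f : X ⟶ Y) [IsIntegral Y] [IsNoetherian Y] [LocallyOfFiniteType f]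
  [QuasiCompact f]

omit [IsIntegral Y] in
include f in
theorem noetherianSpace_of_finiteType : NoetherianSpace X := by
  haveI : IsLocallyNoetherian X := LocallyOfFiniteType.isLocallyNoetherian f
  haveI : CompactSpace X := QuasiCompact.compactSpace_of_compactSpace f
  haveI : IsNoetherian X := {}
  infer_instance

/-- Near the generic point, either all fibres miss the constructible set `D` or all meet it. -/
theorem exists_opens_constructible_inter_fiber (D : Set X) (hD : IsConstructible D) :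
    ∃ V : Y.Opens, genericPoint Y ∈ V ∧
      ((∀ y ∈ V, D ∩ f ⁻¹' {y} = ∅) ∨ (∀ y ∈ V, (D ∩ f ⁻¹' {y}).Nonempty)) := by
  haveI : LocallyOfFinitePresentation f := inferInstance
  have hE : IsConstructible (f '' D) := f.isConstructible_image hD
  rcases Groth.Agent.Lib.ConsGenericPt.mem_interior_or_of_isConstructible
    (genericPoint_spec Y) hE with h | h
  · refine ⟨⟨interior (f '' D), isOpen_interior⟩, h, Or.inr fun y hy => ?_⟩
    obtain ⟨x, hxD, hxy⟩ := interior_subset hy
    exact ⟨x, hxD, hxy⟩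
  · refine ⟨⟨interior (f '' D)ᶜ, isOpen_interior⟩, h, Or.inl fun y hy => ?_⟩
    rw [Set.eq_empty_iff_forall_notMem]
    rintro x ⟨hxD, hxy⟩
    exact interior_subset hy ⟨x, hxD, hxy⟩

/-- Near the generic point, either all the fibres `C ∩ X_y` of a constructible set are closed in
`X_y`, or none of them is. -/
theorem exists_opens_fiber_closed_constructible (C : Set X) (hC : IsConstructible C) :
    ∃ V : Y.Opens, genericPoint Y ∈ V ∧
      ((∀ y ∈ V, closure (C ∩ f ⁻¹' {y}) ∩ f ⁻¹' {y} ⊆ C) ∨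
        (∀ y ∈ V, ¬ closure (C ∩ f ⁻¹' {y}) ∩ f ⁻¹' {y} ⊆ C)) := by
  haveI := noetherianSpace_of_finiteType f
  obtain ⟨V₁, hη₁, h₁⟩ := exists_opens_closure_constructible f C hC
  have hD : IsConstructible (closure C \ C) :=
    (Groth.Agent.Lib.ConstrTop.isConstructible_of_isClosed isClosed_closure).sdiff hC
  obtain ⟨V₂, hη₂, h₂⟩ := exists_opens_constructible_inter_fiber f _ hD
  refine ⟨V₁ ⊓ V₂, ⟨hη₁, hη₂⟩, ?_⟩
  rcases h₂ with h₂ | h₂
  · left
    rintro y ⟨-, hy₂⟩ x ⟨hxc, hxy⟩
    by_contra hxC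
    exact (Set.eq_empty_iff_forall_notMem.mp (h₂ y hy₂) x)
      ⟨⟨closure_mono Set.inter_subset_left hxc, hxC⟩, hxy⟩
  · right
    rintro y ⟨hy₁, hy₂⟩ hsub
    obtain ⟨x, ⟨hxc, hxC⟩, hxy⟩ := h₂ y hy₂
    exact hxC (hsub ⟨h₁ y hy₁ ⟨hxc, hxy⟩, hxy⟩)

/-- Local closedness in the fibres near the generic point. -/
theorem exists_opens_locallyClosed (C : Set X) (hC : IsConstructible C) :
    ∃ V : Y.Opens, genericPoint Y ∈ V ∧
      ((∀ y ∈ V, ∀ {F : Type u} [TopologicalSpace F] (ι : F → X), IsInducing ι →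
          Set.range ι = f ⁻¹' {y} → ¬ IsLocallyClosed (ι ⁻¹' C)) ∨
        (∃ O : Set X, IsOpen O ∧ C ∩ f ⁻¹' (V : Set Y) ⊆ O ∧ closure C ∩ O ⊆ C)) := by
  haveI := noetherianSpace_of_finiteType f
  obtain ⟨V₁, hη₁, h₁⟩ := exists_opens_closure_constructible f C hC
  have hD : IsConstructible (closure C \ C) :=
    (Groth.Agent.Lib.ConstrTop.isConstructible_of_isClosed isClosed_closure).sdiff hC
  obtain ⟨V₂, hη₂, h₂⟩ := exists_opens_fiber_closed_constructible f _ hD
  obtain ⟨V₃, hη₃, h₃⟩ := exists_opens_closure_constructible f _ hD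
  rcases h₂ with h₂ | h₂
  · refine ⟨V₂ ⊓ V₃, ⟨hη₂, hη₃⟩, Or.inr ⟨(closure (closure C \ C))ᶜ,
      isClosed_closure.isOpen_compl, ?_, ?_⟩⟩
    · rintro x ⟨hxC, hy₂, hy₃⟩ hxD
      have h4 : x ∈ closure ((closure C \ C) ∩ f ⁻¹' {f x}) := h₃ _ hy₃ ⟨hxD, rfl⟩
      exact (h₂ _ hy₂ ⟨h4, rfl⟩).2 hxC
    · rintro x ⟨hxc, hxO⟩
      by_contra hxC
      exact hxO (subset_closure ⟨hxc, hxC⟩)
  · refine ⟨V₁ ⊓ V₂, ⟨hη₁, hη₂⟩, Or.inl ?_⟩
    rintro y ⟨hy₁, hy₂⟩ F _ ι hι hr hlc
    apply h₂ y hy₂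
    have h5 : IsClosed (closure (ι ⁻¹' C) \ ι ⁻¹' C) := by
      have := hlc.isOpen_coborder
      rwa [coborder, isOpen_compl_iff] at this
    have h6 : closure (ι ⁻¹' C) \ ι ⁻¹' C = ι ⁻¹' (closure C \ C) := by
      rw [hι.closure_eq_preimage_closure_image, Set.image_preimage_eq_inter_range, hr]
      ext t
      have ht : ι t ∈ f ⁻¹' {y} := hr ▸ Set.mem_range_self t
      constructor
      · rintro ⟨h7, h8⟩
        exact ⟨closure_mono Set.inter_subset_left h7, h8⟩
      · rintro ⟨h7, h8⟩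
        exact ⟨h₁ y hy₁ ⟨h7, ht⟩, h8⟩
    rw [h6, isClosed_preimage_iff_of_isInducing ι hι, hr] at h5
    exact h5

end Groth.Agent.Lib.H77FibClosure
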