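import Groth.Agent.Lib.ConsLocusGen
import Groth.Agent.Lib.H77FibClosure2

/-!
# Constructibility of subsets of the source by Noetherian induction on the base (helper77)

* `isConstructible_of_forall_irreducible_base`: a subset `E ⊆ X` is constructible as soon as for
  every irreducible closed `Z ⊆ S` there is a nonempty open `V ∩ Z` of `Z` with `E ∩ f⁻¹(V ∩ Z)`
  constructible (`S` a Noetherian space).
* `isConstructible_of_forall_integral_base`: scheme version, in terms of the base changes of `f` to
  the integral closed subschemes of `S`.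
-/

set_option autoImplicit false
set_option linter.style.haveILetI false
universe u
open CategoryTheory Limits AlgebraicGeometry TopologicalSpace Topology

namespace Groth.Agent.Lib.H77XLocus

/-- Noetherian induction on the base. -/
theorem isConstructible_of_forall_irreducible_base {X S : Type*} [TopologicalSpace X]
    [TopologicalSpace S] [NoetherianSpace S] (f : X → S) (E : Set X)
    (h : ∀ Z : Set S, IsClosed Z → IsIrreducible Z → ∃ V : Set S, IsOpen V ∧ (V ∩ Z).Nonempty ∧
      IsConstructible (E ∩ f ⁻¹' (V ∩ Z))) : IsConstructible E := by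
  have key : ∀ Z : Closeds S, IsConstructible (E ∩ f ⁻¹' (Z : Set S)) := by
    intro Z
    apply wellFounded_lt.induction Z; clear Z
    intro s H
    rcases eq_or_ne s ⊥ with rfl | h₀
    · simp
    · by_cases h₁ : IsPreirreducible (s : Set S)
      · replace h₁ : IsIrreducible (s : Set S) := ⟨Closeds.coe_nonempty.2 h₀, h₁⟩
        obtain ⟨V, hV, hne, hc⟩ := h s s.isClosed h₁
        let s' : Closeds S := ⟨(s : Set S) \ V, s.isClosed.sdiff hV⟩
        have hlt : s' < s := by
          refine lt_of_le_of_ne (fun x hx => hx.1) ?_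
          intro heq
          obtain ⟨x, hxV, hxs⟩ := hne
          have : x ∈ (s' : Set S) := by rw [heq]; exact hxs
          exact this.2 hxV
        have h2 := H s' hlt
        have e : E ∩ f ⁻¹' (s : Set S) = (E ∩ f ⁻¹' (V ∩ s)) ∪ (E ∩ f ⁻¹' (s' : Set S)) := by
          ext x
          simp only [Set.mem_inter_iff, Set.mem_preimage, Set.mem_union, s', Closeds.coe_mk,
            Set.mem_diff]
          tauto
        rw [e]
        exact hc.union h2
      · simp only [isPreirreducible_iff_isClosed_union_isClosed, not_forall, not_or] at h₁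
        obtain ⟨z₁, z₂, hz₁, hz₂, h', hz₁', hz₂'⟩ := h₁
        lift z₁ to Closeds S using hz₁
        lift z₂ to Closeds S using hz₂
        have h3 := H (s ⊓ z₁) (inf_lt_left.2 hz₁')
        have h4 := H (s ⊓ z₂) (inf_lt_left.2 hz₂')
        have e : E ∩ f ⁻¹' (s : Set S) =
            (E ∩ f ⁻¹' ((s ⊓ z₁ : Closeds S) : Set S)) ∪
              (E ∩ f ⁻¹' ((s ⊓ z₂ : Closeds S) : Set S)) := by
          ext x
          simp only [Set.mem_inter_iff, Set.mem_preimage, Set.mem_union, Closeds.coe_inf]
          constructor
          · rintro ⟨hx, hxs⟩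
            rcases h' hxs with h5 | h5
            · exact Or.inl ⟨hx, hxs, h5⟩
            · exact Or.inr ⟨hx, hxs, h5⟩
          · rintro (⟨hx, hxs, -⟩ | ⟨hx, hxs, -⟩) <;> exact ⟨hx, hxs⟩
        rw [e]
        exact h3.union h4
  have := key ⊤
  simpa using this

open Groth.Agent.Lib.ConsLocusGen in
/-- Scheme version: `E ⊆ X` is constructible if for every integral closed subscheme `j : Z ⟶ S`
there is a nonempty open `V ⊆ Z` such that the trace of `E` on `X ×_S V` is constructible in
`X ×_S Z`. -/
theorem isConstructible_of_forall_integral_base {X S : Scheme.{u}} [IsNoetherian S] (f : X ⟶ S)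
    [LocallyOfFiniteType f] [QuasiCompact f] (E : Set X)
    (H : ∀ (Z : Scheme.{u}) [IsIntegral Z] [IsNoetherian Z] (j : Z ⟶ S) [IsClosedImmersion j],
      ∃ V : Z.Opens, (V : Set Z).Nonempty ∧
        IsConstructible ((pullback.fst f j) ⁻¹' E ∩ (pullback.snd f j) ⁻¹' (V : Set Z))) :
    IsConstructible E := by
  haveI := Groth.Agent.Lib.H77FibClosure.noetherianSpace_of_finiteType f
  haveI : IsLocallyNoetherian X := LocallyOfFiniteType.isLocallyNoetherian f
  refine isConstructible_of_forall_irreducible_base f E (fun Zc hZc hZi => ?_)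
  have hcl : closure ({hZi.genericPoint} : Set S) = Zc := hZi.closure_genericPoint hZc
  refine with_redClosure hZi.genericPoint (fun Z _ _ j _ hrange _ => ?_)
  rw [hcl] at hrange
  obtain ⟨V, hVne, hC⟩ := H Z j
  obtain ⟨V', hV', hV'V⟩ := j.isEmbedding.isInducing.isOpen_iff.mp V.isOpen
  refine ⟨V', hV', ?_, ?_⟩
  · obtain ⟨z, hz⟩ := hVne
    refine ⟨j z, ?_, hrange ▸ ⟨z, rfl⟩⟩
    have : z ∈ j ⁻¹' V' := by rw [hV'V]; exact hz
    exact this
  · have e : E ∩ f ⁻¹' (V' ∩ Zc) =
        (pullback.fst f j) '' ((pullback.fst f j) ⁻¹' E ∩ (pullback.snd f j) ⁻¹' (V : Set Z)) := by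
      ext x
      constructor
      · rintro ⟨hxE, hxV', hxZ⟩
        rw [← hrange] at hxZ
        obtain ⟨z, hz⟩ := hxZ
        obtain ⟨x', hx'1, hx'2⟩ := Scheme.Pullback.exists_preimage_pullback (f := f) (g := j) x z
          hz.symm
        refine ⟨x', ⟨?_, ?_⟩, hx'1⟩
        · change pullback.fst f j x' ∈ E
          rw [hx'1]; exact hxE
        · change pullback.snd f j x' ∈ (V : Set Z)
          rw [hx'2]
          have : z ∈ j ⁻¹' V' := by
            change j z ∈ V'
            rw [hz]; exact hxV'
          rw [hV'V] at this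
          exact this
      · rintro ⟨x', ⟨hx'E, hx'V⟩, rfl⟩
        have hw : f (pullback.fst f j x') = j (pullback.snd f j x') :=
          congr($(pullback.condition (f := f) (g := j)) x')
        refine ⟨hx'E, ?_, ?_⟩
        · change f (pullback.fst f j x') ∈ V'
          rw [hw]
          have : pullback.snd f j x' ∈ j ⁻¹' V' := by rw [hV'V]; exact hx'V
          exact this
        · change f (pullback.fst f j x') ∈ Zc
          rw [hw, ← hrange]
          exact ⟨_, rfl⟩
    rw [e]
    haveI : LocallyOfFinitePresentation (pullback.fst f j) := inferInstance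
    exact (pullback.fst f j).isConstructible_image hC

end Groth.Agent.Lib.H77XLocus
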