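import Groth.Agent.Lib.H77ExLocus
import Groth.Agent.Lib.H77FibreExact
import Groth.Agent.Lib.H77GenFreeMain
import Groth.Agent.Lib.FlatLimStage88
import Groth.Agent.Lib.H77XLocus
import Groth.Agent.Lib.ConstrTop

/-!
# The fibrewise exactness locus over a Noetherian base is constructible (helper77)

* `exists_forall_one_tmul_ne_zero`: a non-torsion element of a generically free module stays
  nonzero in the fibres over a nonempty open set.
* `exists_forall_fibre_not_exact`: generic non-exactness spreads out (EGA IV 9.4.2, negative part).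
* `isConstructible_exLocus_of_isNoetherianRing`.
-/

set_option autoImplicit false
set_option linter.style.haveILetI false
universe u

open TensorProduct Function

namespace Groth.Agent.Lib.H77ExLocus

open Groth.Agent.Lib.H77GenFree Groth.Agent.Lib.H77FibreExact

section NonVanishing

variable {R : Type*} [CommRing R] [IsDomain R] {M : Type*} [AddCommGroup M] [Module R M]

/-- A non-torsion element of a generically free module is nonzero in all fibres over a nonempty
open subset. -/
theorem exists_forall_one_tmul_ne_zero (hM : GenFree R M) (x : M)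
    (hx : ∀ r : R, r ≠ 0 → r • x ≠ 0) :
    ∃ g : R, g ≠ 0 ∧ ∀ (p : Ideal R) [p.IsPrime], g ∉ p →
      (1 : p.ResidueField) ⊗ₜ[R] x ≠ 0 := by
  classical
  obtain ⟨f, hf, s, hb⟩ := hM
  obtain ⟨k, hk⟩ := hb.span x
  obtain ⟨c, hc⟩ := Finsupp.mem_span_range_iff_exists_finsupp.mp hk
  rw [← Finsupp.linearCombination_apply] at hc
  have hc0 : c ≠ 0 := by
    rintro rfl
    rw [map_zero] at hc
    exact hx (f ^ k) (pow_ne_zero k hf) hc.symm
  obtain ⟨i₀, hi₀⟩ : ∃ i, c i ≠ 0 := by
    by_contra h
    push Not at h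
    exact hc0 (Finsupp.ext h)
  refine ⟨f * c i₀, mul_ne_zero hf hi₀, fun p _ hgp h0 => ?_⟩
  have hfp : f ∉ p := fun h => hgp (p.mul_mem_right _ h)
  have hcp : c i₀ ∉ p := fun h => hgp (p.mul_mem_left _ h)
  obtain ⟨t, ht, hth⟩ := exists_smul_mem_of_one_tmul_eq_zero p x h0
  have key : ∀ y ∈ p • (⊤ : Submodule R M), ∃ (N : ℕ) (l : s →₀ R), (∀ i, l i ∈ p) ∧
      f ^ N • y = Finsupp.linearCombination R (fun x : s => (x : M)) l := by
    intro y hy
    refine Submodule.smul_induction_on hy (fun a ha m _ => ?_) (fun y₁ y₂ h₁ h₂ => ?_)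
    · obtain ⟨N, hN⟩ := hb.span m
      obtain ⟨l, hl⟩ := Finsupp.mem_span_range_iff_exists_finsupp.mp hN
      rw [← Finsupp.linearCombination_apply] at hl
      refine ⟨N, a • l, fun i => ?_, ?_⟩
      · rw [Finsupp.smul_apply, smul_eq_mul]
        exact p.mul_mem_right _ ha
      · rw [map_smul, hl, smul_comm]
    · obtain ⟨N₁, l₁, hl₁, e₁⟩ := h₁
      obtain ⟨N₂, l₂, hl₂, e₂⟩ := h₂
      refine ⟨N₁ + N₂, f ^ N₂ • l₁ + f ^ N₁ • l₂, fun i => ?_, ?_⟩
      · rw [Finsupp.add_apply, Finsupp.smul_apply, Finsupp.smul_apply, smul_eq_mul, smul_eq_mul]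
        exact p.add_mem (p.mul_mem_left _ (hl₁ i)) (p.mul_mem_left _ (hl₂ i))
      · rw [map_add, map_smul, map_smul, ← e₁, ← e₂, smul_add, smul_smul, smul_smul, pow_add]
        congr 2
        rw [mul_comm]
  obtain ⟨N, l, hl, e⟩ := key _ hth
  have h1 : Finsupp.linearCombination R (fun x : s => (x : M)) (f ^ k • l - (t * f ^ N) • c) = 0 := by
    rw [map_sub, map_smul, map_smul, ← e, hc, sub_eq_zero, smul_smul, smul_smul, smul_smul]
    congr 1
    ring
  have h3 := hb.indep _ ⟨0, by rw [pow_zero, one_smul]; exact h1⟩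
  have h4 : f ^ k * l i₀ = t * f ^ N * c i₀ := by
    have := DFunLike.congr_fun h3 i₀
    simpa [sub_eq_zero] using this
  have h5 : t * f ^ N * c i₀ ∈ p := h4 ▸ p.mul_mem_left _ (hl i₀)
  rcases (‹p.IsPrime›).mem_or_mem h5 with h | h
  · rcases (‹p.IsPrime›).mem_or_mem h with h | h
    · exact ht h
    · exact hfp ((‹p.IsPrime›).mem_of_pow_mem _ h)
  · exact hcp h

end NonVanishing

section Dichotomy

variable {R B : Type u} [CommRing R] [IsDomain R] [CommRing B] [Algebra R B]
  [Algebra.FiniteType R B]
  {F G H : Type u} [AddCommGroup F] [Module B F] [Module R F] [IsScalarTower R B F]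
  [AddCommGroup G] [Module B G] [Module R G] [IsScalarTower R B G] [Module.Finite B G]
  [AddCommGroup H] [Module B H] [Module R H] [IsScalarTower R B H] [Module.Finite B H]

omit [IsDomain R] [Algebra.FiniteType R B] [Module.Finite B G] [Module.Finite B H] in
/-- In a module over a field, `1 ⊗ x = 0` as soon as `1 ⊗ r • x = 0` for some `r` that is
invertible in the field. -/
theorem one_tmul_eq_zero_of_smul {κ : Type*} [Field κ] [Algebra R κ] {M : Type*} [AddCommGroup M]
    [Module R M] {r : R} (hr : algebraMap R κ r ≠ 0) {x : M}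
    (h : (1 : κ) ⊗ₜ[R] (r • x) = 0) : (1 : κ) ⊗ₜ[R] x = 0 := by
  rw [← algebraMap_smul_one_tmul] at h
  exact (smul_eq_zero.mp h).resolve_left hr

/-- **Generic non-exactness spreads out** (EGA IV 9.4.2, negative part). -/
theorem exists_forall_fibre_not_exact (u : F →ₗ[B] G) (v : G →ₗ[B] H)
    (hgen : ¬ Function.Exact ((u.restrictScalars R).baseChange (FractionRing R))
      ((v.restrictScalars R).baseChange (FractionRing R))) :
    ∃ f : R, f ≠ 0 ∧ ∀ p : PrimeSpectrum R, f ∉ p.asIdeal →
      ¬ Function.Exact ((u.restrictScalars R).baseChange p.asIdeal.ResidueField)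
        ((v.restrictScalars R).baseChange p.asIdeal.ResidueField) := by
  classical
  have hK : ∀ r : R, r ≠ 0 → algebraMap R (FractionRing R) r ≠ 0 := fun r hr =>
    (map_ne_zero_iff _ (IsFractionRing.injective R (FractionRing R))).mpr hr
  have hκ : ∀ (p : PrimeSpectrum R) (r : R), r ∉ p.asIdeal →
      algebraMap R p.asIdeal.ResidueField r ≠ 0 := fun p r hr h0 =>
    hr (Ideal.algebraMap_residueField_eq_zero.mp h0)
  by_cases hcomp : ∀ y : F, (1 : FractionRing R) ⊗ₜ[R] (v (u y)) = 0
  · -- the generic sequence is a complex, so the kernel is too big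
    have hzero : ∀ w, ((v.restrictScalars R).baseChange (FractionRing R))
        (((u.restrictScalars R).baseChange (FractionRing R)) w) = 0 := by
      intro w
      induction w with
      | zero => simp
      | add w₁ w₂ h₁ h₂ => rw [map_add, map_add, h₁, h₂, add_zero]
      | tmul a y =>
        rw [LinearMap.baseChange_tmul, LinearMap.baseChange_tmul]
        change a ⊗ₜ[R] (v (u y)) = 0
        have : a ⊗ₜ[R] (v (u y)) = a • ((1 : FractionRing R) ⊗ₜ[R] (v (u y))) := by
          rw [TensorProduct.smul_tmul', smul_eq_mul, mul_one]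
        rw [this, hcomp, smul_zero]
    obtain ⟨z, hz1, hz2⟩ : ∃ z, ((v.restrictScalars R).baseChange (FractionRing R)) z = 0 ∧
        z ∉ LinearMap.range ((u.restrictScalars R).baseChange (FractionRing R)) := by
      by_contra hcon
      push Not at hcon
      apply hgen
      intro z
      constructor
      · intro hz
        exact hcon z hz
      · rintro ⟨w, rfl⟩
        exact hzero w
    obtain ⟨s, hs, g, hg⟩ := exists_smul_eq_one_tmul_fractionRing z
    have hvg : (1 : FractionRing R) ⊗ₜ[R] (v g) = 0 := by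
      have h1 : ((v.restrictScalars R).baseChange (FractionRing R))
          ((1 : FractionRing R) ⊗ₜ[R] g) = (1 : FractionRing R) ⊗ₜ[R] (v g) :=
        LinearMap.baseChange_tmul _ _ _
      rw [← h1, ← hg, ← algebraMap_smul (FractionRing R) s z, map_smul, hz1, smul_zero]
    obtain ⟨r, hr, hrv⟩ := exists_smul_eq_zero_of_one_tmul_eq_zero _ hvg
    -- the class of `g` in the cokernel of `u` is not torsion
    have hnt : ∀ r' : R, r' ≠ 0 →
        r' • (Submodule.Quotient.mk g : G ⧸ LinearMap.range u) ≠ 0 := by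
      intro r' hr' h0
      rw [← Submodule.Quotient.mk_smul, Submodule.Quotient.mk_eq_zero] at h0
      obtain ⟨y, hy⟩ := h0
      apply hz2
      have h1 : algebraMap R (FractionRing R) (r' * s) • z =
          ((u.restrictScalars R).baseChange (FractionRing R)) ((1 : FractionRing R) ⊗ₜ[R] y) := by
        rw [LinearMap.baseChange_tmul, algebraMap_smul, mul_smul, hg]
        change r' • ((1 : FractionRing R) ⊗ₜ[R] g) = (1 : FractionRing R) ⊗ₜ[R] (u y)
        rw [hy, TensorProduct.tmul_smul]
      have h2 : z = (algebraMap R (FractionRing R) (r' * s))⁻¹ •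
          (algebraMap R (FractionRing R) (r' * s) • z) := by
        rw [smul_smul, inv_mul_cancel₀ (hK _ (mul_ne_zero hr' hs)), one_smul]
      rw [h2, h1]
      exact Submodule.smul_mem _ _ (LinearMap.mem_range_self _ _)
    obtain ⟨g₂, hg₂, hN⟩ := exists_forall_one_tmul_ne_zero
      (genFree_of_finiteType (R := R) B (G ⧸ LinearMap.range u)) _ hnt
    refine ⟨g₂ * r, mul_ne_zero hg₂ hr, fun p hp hex => ?_⟩
    have hg₂p : g₂ ∉ p.asIdeal := fun h => hp (p.asIdeal.mul_mem_right _ h)
    have hrp : r ∉ p.asIdeal := fun h => hp (p.asIdeal.mul_mem_left _ h)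
    have h1 : ((v.restrictScalars R).baseChange p.asIdeal.ResidueField)
        ((1 : p.asIdeal.ResidueField) ⊗ₜ[R] g) = 0 := by
      rw [LinearMap.baseChange_tmul]
      change (1 : p.asIdeal.ResidueField) ⊗ₜ[R] (v g) = 0
      apply one_tmul_eq_zero_of_smul (hκ p r hrp)
      rw [hrv, TensorProduct.tmul_zero]
    obtain ⟨w, hw⟩ := (hex _).mp h1
    let q : G →ₗ[R] G ⧸ LinearMap.range u := (LinearMap.range u).mkQ.restrictScalars R
    have hq : q ∘ₗ (u.restrictScalars R) = 0 := by
      ext y
      change (Submodule.Quotient.mk (u y) : G ⧸ LinearMap.range u) = 0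
      rw [Submodule.Quotient.mk_eq_zero]
      exact LinearMap.mem_range_self _ _
    have h2 : (q.baseChange p.asIdeal.ResidueField)
        (((u.restrictScalars R).baseChange p.asIdeal.ResidueField) w) = 0 := by
      rw [← LinearMap.comp_apply, ← LinearMap.baseChange_comp, hq, LinearMap.baseChange_zero,
        LinearMap.zero_apply]
    rw [hw, LinearMap.baseChange_tmul] at h2
    exact hN p.asIdeal hg₂p h2
  · -- the generic sequence is not a complex
    push Not at hcomp
    obtain ⟨y, hy⟩ := hcomp
    have hnt : ∀ r' : R, r' ≠ 0 → r' • v (u y) ≠ 0 := by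
      intro r' hr' h0
      apply hy
      apply one_tmul_eq_zero_of_smul (hK r' hr')
      rw [h0, TensorProduct.tmul_zero]
    obtain ⟨g₁, hg₁, hN⟩ := exists_forall_one_tmul_ne_zero
      (genFree_of_finiteType (R := R) B H) _ hnt
    refine ⟨g₁, hg₁, fun p hp hex => ?_⟩
    have h1 := hex.apply_apply_eq_zero ((1 : p.asIdeal.ResidueField) ⊗ₜ[R] y)
    rw [LinearMap.baseChange_tmul, LinearMap.baseChange_tmul] at h1
    exact hN p.asIdeal hp h1

/-- The dichotomy near the generic point. -/
theorem exists_forall_fibre_exact_or (u : F →ₗ[B] G) (v : G →ₗ[B] H) :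
    ∃ f : R, f ≠ 0 ∧
      ((∀ p : PrimeSpectrum R, f ∉ p.asIdeal →
        Function.Exact ((u.restrictScalars R).baseChange p.asIdeal.ResidueField)
          ((v.restrictScalars R).baseChange p.asIdeal.ResidueField)) ∨
      (∀ p : PrimeSpectrum R, f ∉ p.asIdeal →
        ¬ Function.Exact ((u.restrictScalars R).baseChange p.asIdeal.ResidueField)
          ((v.restrictScalars R).baseChange p.asIdeal.ResidueField))) := by
  by_cases hgen : Function.Exact ((u.restrictScalars R).baseChange (FractionRing R))
      ((v.restrictScalars R).baseChange (FractionRing R))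
  · obtain ⟨f, hf, h⟩ := exists_forall_fibre_exact u v hgen
    exact ⟨f, hf, Or.inl h⟩
  · obtain ⟨f, hf, h⟩ := exists_forall_fibre_not_exact u v hgen
    exact ⟨f, hf, Or.inr h⟩

end Dichotomy

section Noeth

open Groth.Agent.Lib.FlatLimStage88 Groth.Agent.Lib.H77XLocus
open scoped Groth.Agent.Lib.FlatLimStage88

variable {R B : Type u} [CommRing R] [CommRing B] [Algebra R B]
  [Algebra.FiniteType R B]
  {F G H : Type u} [AddCommGroup F] [Module B F] [Module R F] [IsScalarTower R B F]
  [AddCommGroup G] [Module B G] [Module R G] [IsScalarTower R B G] [Module.Finite B G]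
  [AddCommGroup H] [Module B H] [Module R H] [IsScalarTower R B H] [Module.Finite B H]

omit [Algebra.FiniteType R B] [Module.Finite B G] [Module.Finite B H] in
theorem stageMap_restrictScalars (A : Type*) [CommRing A] [Algebra R A] (u : F →ₗ[B] G) :
    (stageMap R A u).restrictScalars A = (u.restrictScalars R).baseChange A := by
  ext y
  rfl

/-- The dichotomy along an irreducible closed subset `V(q)`. -/
theorem exists_forall_mem_exLocus_iff (u : F →ₗ[B] G) (v : G →ₗ[B] H) (q : Ideal R)
    [q.IsPrime] :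
    ∃ f : R, f ∉ q ∧
      ((∀ p : PrimeSpectrum R, q ≤ p.asIdeal → f ∉ p.asIdeal →
        p ∈ exLocus (u.restrictScalars R) (v.restrictScalars R)) ∨
      (∀ p : PrimeSpectrum R, q ≤ p.asIdeal → f ∉ p.asIdeal →
        p ∉ exLocus (u.restrictScalars R) (v.restrictScalars R))) := by
  obtain ⟨f', hf', h⟩ := exists_forall_fibre_exact_or (R := R ⧸ q) (B := (R ⧸ q) ⊗[R] B)
    (stageMap R (R ⧸ q) u) (stageMap R (R ⧸ q) v)
  rw [stageMap_restrictScalars, stageMap_restrictScalars] at h
  obtain ⟨f, rfl⟩ := Ideal.Quotient.mk_surjective f'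
  have hfq : f ∉ q := fun hfq => hf' (Ideal.Quotient.eq_zero_iff_mem.mpr hfq)
  have hE := exLocus_baseChange (R := R ⧸ q) (u.restrictScalars R) (v.restrictScalars R)
  have hlift : ∀ p : PrimeSpectrum R, q ≤ p.asIdeal → ∃ p' : PrimeSpectrum (R ⧸ q),
      PrimeSpectrum.comap (algebraMap R (R ⧸ q)) p' = p := by
    intro p hp
    have : p ∈ Set.range (PrimeSpectrum.comap (Ideal.Quotient.mk q)) := by
      rw [_root_.range_comap_of_surjective _ _ Ideal.Quotient.mk_surjective,
        Ideal.mk_ker]
      exact hp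
    exact this
  have hmem : ∀ (p' : PrimeSpectrum (R ⧸ q)), Ideal.Quotient.mk q f ∉ p'.asIdeal ↔
      f ∉ (PrimeSpectrum.comap (algebraMap R (R ⧸ q)) p').asIdeal := fun p' => Iff.rfl
  refine ⟨f, hfq, ?_⟩
  rcases h with h | h
  · left
    intro p hqp hfp
    obtain ⟨p', rfl⟩ := hlift p hqp
    have : p' ∈ exLocus ((u.restrictScalars R).baseChange (R ⧸ q))
        ((v.restrictScalars R).baseChange (R ⧸ q)) := h p' ((hmem p').mpr hfp)
    rw [hE] at this
    exact this
  · right
    intro p hqp hfp hpE
    obtain ⟨p', rfl⟩ := hlift p hqp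
    have : p' ∈ exLocus ((u.restrictScalars R).baseChange (R ⧸ q))
        ((v.restrictScalars R).baseChange (R ⧸ q)) := by
      rw [hE]
      exact hpE
    exact h p' ((hmem p').mpr hfp) this

/-- **EGA IV 9.4.2 over a Noetherian base**: the fibrewise exactness locus is constructible. -/
theorem isConstructible_exLocus_of_isNoetherianRing [IsNoetherianRing R] (u : F →ₗ[B] G)
    (v : G →ₗ[B] H) :
    Topology.IsConstructible (exLocus (u.restrictScalars R) (v.restrictScalars R)) := by
  refine isConstructible_of_forall_irreducible_base (id : PrimeSpectrum R → PrimeSpectrum R) _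
    (fun Z hZc hZi => ?_)
  obtain ⟨q, hq, hZ⟩ : ∃ q : Ideal R, q.IsPrime ∧ Z = PrimeSpectrum.zeroLocus (q : Set R) := by
    refine ⟨PrimeSpectrum.vanishingIdeal Z,
      PrimeSpectrum.isIrreducible_iff_vanishingIdeal_isPrime.mp hZi, ?_⟩
    rw [PrimeSpectrum.zeroLocus_vanishingIdeal_eq_closure, hZc.closure_eq]
  obtain ⟨f, hfq, h⟩ := exists_forall_mem_exLocus_iff u v q
  refine ⟨(PrimeSpectrum.basicOpen f : Set (PrimeSpectrum R)), (PrimeSpectrum.basicOpen f).isOpen,
    ⟨⟨q, hq⟩, hfq, ?_⟩, ?_⟩
  · rw [hZ]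
    exact fun x hx => hx
  · have hVZ : Topology.IsConstructible ((PrimeSpectrum.basicOpen f : Set (PrimeSpectrum R)) ∩ Z) :=
      (Groth.Agent.Lib.ConstrTop.isConstructible_of_isOpen (PrimeSpectrum.basicOpen f).isOpen).inter
        (Groth.Agent.Lib.ConstrTop.isConstructible_of_isClosed hZc)
    rcases h with h | h
    · have e : exLocus (u.restrictScalars R) (v.restrictScalars R) ∩
          id ⁻¹' ((PrimeSpectrum.basicOpen f : Set (PrimeSpectrum R)) ∩ Z) =
          (PrimeSpectrum.basicOpen f : Set (PrimeSpectrum R)) ∩ Z := by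
        ext p
        constructor
        · exact fun hp => hp.2
        · rintro ⟨hp1, hp2⟩
          refine ⟨h p ?_ hp1, hp1, hp2⟩
          rw [hZ] at hp2
          exact hp2
      rw [e]
      exact hVZ
    · have e : exLocus (u.restrictScalars R) (v.restrictScalars R) ∩
          id ⁻¹' ((PrimeSpectrum.basicOpen f : Set (PrimeSpectrum R)) ∩ Z) = ∅ := by
        ext p
        simp only [Set.mem_inter_iff, Set.mem_preimage, id, Set.mem_empty_iff_false, iff_false]
        rintro ⟨hpE, hp1, hp2⟩
        rw [hZ] at hp2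
        exact h p hp2 hp1 hpE
      rw [e]
      exact Topology.IsConstructible.empty

end Noeth

end Groth.Agent.Lib.H77ExLocus
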