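import Groth.Agent.Lib.H77GeomCount
import Groth.Agent.Lib.H77FibNDSch

/-!
# Closure commutes with passage to the fibres near the generic point (helper77)

EGA IV 9.5.3: for `f : X ⟶ Y` of finite type with `Y` irreducible (generic point `η`), `X` a
Noetherian space and `C ⊆ X` constructible, there is an open neighbourhood `V` of `η` such that for
all `y ∈ V` the closure of `C ∩ X_y` in `X_y` is `closure C ∩ X_y`.

Everything is formulated with the topological fibres `f ⁻¹' {y} ⊆ X`: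
`closure C ∩ f ⁻¹' {y} ⊆ closure (C ∩ f ⁻¹' {y})`.

* `exists_specializes_mem_of_dense`: in a Noetherian quasi-sober space every point is a
  specialisation of a point of a given dense open.
* `fibND_compl_of_dense`: the complement of a dense open is nowhere dense in the generic fibre.
* `exists_opens_closure_locallyClosed`, `exists_opens_closure_constructible`: EGA IV 9.5.3.
* `exists_opens_fiber_closed_iff`: for `C` locally closed, near `η` the fibre `C ∩ X_y` is closed in
  `X_y` iff `(closure C \ C) ∩ X_y = ∅`.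
* `exists_opens_forall_open_inter_eq_empty`: an open missing the generic fibre misses the fibres over an
  open neighbourhood of `η`.
-/

set_option autoImplicit false
set_option linter.style.haveILetI false
universe u
open CategoryTheory Limits AlgebraicGeometry TopologicalSpace

namespace Groth.Agent.Lib.H77FibClosure

open Groth.Agent.Lib.H77FibND Groth.Agent.Lib.H69RedInduced

/-- In a Noetherian quasi-sober space, every point is a specialisation of a point of any given
dense open subset. -/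
theorem exists_specializes_mem_of_dense {T : Type*} [TopologicalSpace T] [NoetherianSpace T]
    [QuasiSober T] (U : Set T) (hU : IsOpen U) (hd : Dense U) (w : T) :
    ∃ ζ : T, ζ ⤳ w ∧ ζ ∈ U := by
  have hirr : IsIrreducible (irreducibleComponent w) := isIrreducible_irreducibleComponent
  have hcl : IsClosed (irreducibleComponent w) := isClosed_irreducibleComponent
  obtain ⟨ζ, hζ⟩ := QuasiSober.sober hirr hcl
  have hw : w ∈ irreducibleComponent w := mem_irreducibleComponent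
  refine ⟨ζ, hζ.specializes hw, ?_⟩
  obtain ⟨O, hO, hOne, hOsub⟩ :=
    NoetherianSpace.exists_isOpen_nonempty_subset_irreducibleComponent (irreducibleComponent w)
      (irreducibleComponent_mem_irreducibleComponents w)
  obtain ⟨c, hcO, hcU⟩ := hd.inter_open_nonempty O hO hOne
  have h1 : ζ ⤳ c := hζ.specializes (hOsub hcO)
  exact h1.mem_open hU hcU

variable {X Y : Scheme.{u}} (f : X ⟶ Y) [IrreducibleSpace Y]

/-- The complement of a dense open subset of a Noetherian scheme is nowhere dense in the generic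
fibre. -/
theorem fibND_compl_of_dense [NoetherianSpace X] (U : Set X) (hU : IsOpen U) (hd : Dense U) :
    FibND f Uᶜ (genericPoint Y) := by
  rintro W hW ⟨w, hwW, hwη⟩
  obtain ⟨ζ, hζw, hζU⟩ := exists_specializes_mem_of_dense U hU hd w
  refine ⟨ζ, ⟨hζw.mem_open hW hwW, ?_⟩, fun h => h hζU⟩
  have h1 : f ζ ⤳ f w := hζw.map f.continuous
  have h2 : genericPoint Y ⤳ f ζ := genericPoint_specializes _
  rw [Set.mem_preimage, Set.mem_singleton_iff] at hwη ⊢
  rw [hwη] at h1
  exact (h1.antisymm h2).eq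

variable [LocallyOfFiniteType f] [QuasiCompact f]

/-- EGA IV 9.5.3 for locally closed subsets. -/
theorem exists_opens_closure_locallyClosed [NoetherianSpace X] (U F : Set X) (hU : IsOpen U)
    (hF : IsClosed F) :
    ∃ V : Y.Opens, genericPoint Y ∈ V ∧
      ∀ y ∈ V, closure (U ∩ F) ∩ f ⁻¹' {y} ⊆ closure (U ∩ F ∩ f ⁻¹' {y}) := by
  let A : Closeds X := ⟨closure (U ∩ F), isClosed_closure⟩
  let i := redSubι A
  have hr : Set.range i = closure (U ∩ F) := range_redSubι A
  haveI : NoetherianSpace (redSub A) := i.isEmbedding.isInducing.noetherianSpace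
  have hd : Dense (i ⁻¹' U) := by
    intro t
    rw [mem_closure_iff]
    intro W' hW' htW'
    obtain ⟨W, hW, rfl⟩ := i.isEmbedding.isInducing.isOpen_iff.mp hW'
    have h1 : i t ∈ closure (U ∩ F) := hr ▸ Set.mem_range_self t
    obtain ⟨c, hcW, hcUF⟩ := mem_closure_iff.mp h1 W hW htW'
    obtain ⟨t', rfl⟩ : c ∈ Set.range i := hr ▸ subset_closure hcUF
    exact ⟨t', hcW, hcUF.1⟩
  have hUo : IsOpen (i ⁻¹' U) := hU.preimage i.continuous
  have h0 : FibND (i ≫ f) (i ⁻¹' U)ᶜ (genericPoint Y) := fibND_compl_of_dense (i ≫ f) _ hUo hd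
  obtain ⟨V, hηV, hV⟩ := Groth.Agent.Lib.H77FibNDSch.exists_opens_forall_fibND (i ≫ f)
    (i ⁻¹' U)ᶜ hUo.isClosed_compl h0
  refine ⟨V, hηV, ?_⟩
  rintro y hy x ⟨hxT, hxy⟩
  rw [mem_closure_iff]
  intro W hW hxW
  obtain ⟨t, rfl⟩ : x ∈ Set.range i := hr ▸ hxT
  obtain ⟨t', ⟨ht'W, ht'y⟩, ht'U⟩ := hV y hy (i ⁻¹' W) (hW.preimage i.continuous)
    ⟨t, hxW, by simpa using hxy⟩
  refine ⟨i t', ht'W, ⟨not_not.mp ht'U, ?_⟩, by simpa using ht'y⟩
  exact (closure_minimal Set.inter_subset_right hF) (hr ▸ Set.mem_range_self t')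

/-- **EGA IV 9.5.3**: closure commutes with passage to fibres near the generic point. -/
theorem exists_opens_closure_constructible [NoetherianSpace X] (C : Set X)
    (hC : Topology.IsConstructible C) :
    ∃ V : Y.Opens, genericPoint Y ∈ V ∧
      ∀ y ∈ V, closure C ∩ f ⁻¹' {y} ⊆ closure (C ∩ f ⁻¹' {y}) := by
  induction C, hC using BooleanSubalgebra.closure_sdiff_sup_induction with
  | isSublattice =>
    exact ⟨fun s hs t ht ↦ ⟨hs.1.union ht.1, hs.2.union ht.2⟩,
      fun s hs t ht ↦ ⟨hs.1.inter ht.1, hs.2.inter_isOpen ht.2 ht.1⟩⟩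
  | bot_mem => exact ⟨isOpen_empty, .empty⟩
  | top_mem => exact ⟨isOpen_univ, .univ⟩
  | sdiff U hU V hV =>
    have := exists_opens_closure_locallyClosed f U Vᶜ hU.1 hV.1.isClosed_compl
    simpa only [Set.sdiff_eq] using this
  | sup s _ t _ hs' ht' =>
    obtain ⟨V₁, hη₁, h₁⟩ := hs'
    obtain ⟨V₂, hη₂, h₂⟩ := ht'
    refine ⟨V₁ ⊓ V₂, ⟨hη₁, hη₂⟩, ?_⟩
    rintro y ⟨hy₁, hy₂⟩ x ⟨hx, hxy⟩
    change x ∈ closure (s ∪ t) at hx
    rw [closure_union] at hx
    rcases hx with hx | hx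
    · exact closure_mono (Set.inter_subset_inter_left _ Set.subset_union_left) (h₁ y hy₁ ⟨hx, hxy⟩)
    · exact closure_mono (Set.inter_subset_inter_left _ Set.subset_union_right) (h₂ y hy₂ ⟨hx, hxy⟩)

omit [QuasiCompact f] in
/-- An open subset missing the generic fibre misses the fibres over an open neighbourhood of the
generic point. -/
theorem exists_opens_forall_open_inter_eq_empty [QuasiCompact f] (O : Set X) (hO : IsOpen O)
    (h : O ∩ f ⁻¹' {genericPoint Y} = ∅) :
    ∃ V : Y.Opens, genericPoint Y ∈ V ∧ ∀ y ∈ V, O ∩ f ⁻¹' {y} = ∅ := by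
  obtain ⟨V, hηV, hV⟩ := Groth.Agent.Lib.H77GenClosure.exists_opens_preimage_subset_closure f
  refine ⟨V, hηV, fun y hy => ?_⟩
  rw [Set.eq_empty_iff_forall_notMem]
  rintro x ⟨hxO, hxy⟩
  have h1 : x ∈ f ⁻¹' (V : Set Y) := by
    rw [Set.mem_preimage, Set.mem_singleton_iff.mp hxy]
    exact hy
  have h2 : f ⁻¹' {genericPoint Y} ⊆ Oᶜ := by
    intro z hz hzO
    exact (Set.eq_empty_iff_forall_notMem.mp h z) ⟨hzO, hz⟩
  exact (hO.isClosed_compl.closure_subset_iff.mpr h2) (hV h1) hxO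

/-- For a constructible set `C`, near the generic point the fibre `X_y` is contained in the closure of
`C ∩ X_y` iff it is contained in the closure of `C`; and the latter condition holds on a
neighbourhood of `η` or fails on a neighbourhood of `η`. -/
theorem exists_opens_fiber_subset_closure [NoetherianSpace X] (C : Set X)
    (hC : Topology.IsConstructible C) :
    ∃ V : Y.Opens, genericPoint Y ∈ V ∧
      ((∀ y ∈ V, f ⁻¹' {y} ⊆ closure (C ∩ f ⁻¹' {y})) ∨
        (∀ y ∈ V, ¬ f ⁻¹' {y} ⊆ closure (C ∩ f ⁻¹' {y}))) := by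
  obtain ⟨V₁, hη₁, h₁⟩ := exists_opens_closure_constructible f C hC
  by_cases h : (closure C)ᶜ ∩ f ⁻¹' {genericPoint Y} = ∅
  · obtain ⟨V₂, hη₂, h₂⟩ := exists_opens_forall_open_inter_eq_empty f _
      isClosed_closure.isOpen_compl h
    refine ⟨V₁ ⊓ V₂, ⟨hη₁, hη₂⟩, Or.inl ?_⟩
    rintro y ⟨hy₁, hy₂⟩ x hx
    refine h₁ y hy₁ ⟨?_, hx⟩
    by_contra hxc
    exact (Set.eq_empty_iff_forall_notMem.mp (h₂ y hy₂) x) ⟨hxc, hx⟩
  · obtain ⟨x, hxc, hxη⟩ := Set.nonempty_iff_ne_empty.mpr h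
    let O : X.Opens := ⟨(closure C)ᶜ, isClosed_closure.isOpen_compl⟩
    have h0 : genericPoint Y ∈ f '' (O : Set X) := ⟨x, hxc, hxη⟩
    obtain ⟨V₂, hη₂, h₂⟩ := Groth.Agent.Lib.H77GenImageOpen.exists_opens_subset_image_open f O h0
    refine ⟨V₂, hη₂, Or.inr ?_⟩
    intro y hy hsub
    obtain ⟨z, hzO, hzy⟩ := h₂ hy
    exact hzO (closure_mono Set.inter_subset_left (hsub hzy))

/-- For a locally closed set `C = U ∩ F`, near the generic point: either all the fibres `C ∩ X_y`
are closed in `X_y`, or none of them is. -/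
theorem exists_opens_fiber_closed [NoetherianSpace X] (U F : Set X) (hU : IsOpen U)
    (hF : IsClosed F) :
    ∃ V : Y.Opens, genericPoint Y ∈ V ∧
      ((∀ y ∈ V, closure (U ∩ F ∩ f ⁻¹' {y}) ∩ f ⁻¹' {y} ⊆ U ∩ F) ∨
        (∀ y ∈ V, ¬ closure (U ∩ F ∩ f ⁻¹' {y}) ∩ f ⁻¹' {y} ⊆ U ∩ F)) := by
  obtain ⟨V₁, hη₁, h₁⟩ := exists_opens_closure_locallyClosed f U F hU hF
  -- the boundary `D = closure C \ U`
  let D : Closeds X := ⟨closure (U ∩ F) ∩ Uᶜ, isClosed_closure.inter hU.isClosed_compl⟩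
  have hclF : closure (U ∩ F) ⊆ F := closure_minimal Set.inter_subset_right hF
  by_cases h : (D : Set X) ∩ f ⁻¹' {genericPoint Y} = ∅
  · obtain ⟨V₂, hη₂, h₂⟩ := Groth.Agent.Lib.H77GeomCount.exists_opens_forall_inter_eq_empty f D h
    refine ⟨V₂, hη₂, Or.inl ?_⟩
    rintro y hy x ⟨hxc, hxy⟩
    have hx1 : x ∈ closure (U ∩ F) := closure_mono Set.inter_subset_left hxc
    refine ⟨?_, hclF hx1⟩
    by_contra hxU
    exact (Set.eq_empty_iff_forall_notMem.mp (h₂ y hy) x) ⟨⟨hx1, hxU⟩, hxy⟩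
  · obtain ⟨x, hxD, hxη⟩ := Set.nonempty_iff_ne_empty.mpr h
    have h0 : genericPoint Y ∈ f '' (D : Set X) := ⟨x, hxD, hxη⟩
    obtain ⟨V₂, hη₂, h₂⟩ :=
      Groth.Agent.Lib.H77GenImageSch.exists_opens_subset_image f (D : Set X) D.isClosed h0
    refine ⟨V₁ ⊓ V₂, ⟨hη₁, hη₂⟩, Or.inr ?_⟩
    rintro y ⟨hy₁, hy₂⟩ hsub
    obtain ⟨z, ⟨hzc, hzU⟩, hzy⟩ := h₂ hy₂
    exact hzU (hsub ⟨h₁ y hy₁ ⟨hzc, hzy⟩, hzy⟩).1

end Groth.Agent.Lib.H77FibClosure
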