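import Groth.Agent.Lib.H77FibClosure
import Groth.Agent.Lib.ConsLocusMorMain
import Groth.Agent.Lib.LimDescentImm
import Groth.Prelude.Def_EGA4Misc

/-!
# Fibrewise dominance is a constructible property (helper77)

EGA IV 9.6.1: for `f : X ⟶ Y` a morphism of `S`-schemes of finite presentation, the set of `s ∈ S`
such that `f_s : X_s ⟶ Y_s` is dominant is locally constructible.
-/

set_option autoImplicit false
set_option linter.style.haveILetI false
universe u
open CategoryTheory Limits AlgebraicGeometry TopologicalSpace Topology

namespace Groth.Agent.Lib.H77FibDominant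

open Groth.Agent.Lib.H77FibClosure Groth.Agent.Lib.LimDescent

/-- Density of the preimage of a set under an inducing map, in terms of the ambient space. -/
theorem dense_preimage_iff_of_isInducing {F Z : Type*} [TopologicalSpace F] [TopologicalSpace Z]
    (ι : F → Z) (hι : IsInducing ι) (R : Set Z) :
    Dense (ι ⁻¹' R) ↔ Set.range ι ⊆ closure (R ∩ Set.range ι) := by
  rw [hι.dense_iff, Set.image_preimage_eq_inter_range]
  constructor
  · rintro h _ ⟨t, rfl⟩
    exact h t
  · intro h t
    exact h ⟨t, rfl⟩

/-- The fibre map `f_s` is dominant iff the fibre of `g` at `s` is in the closure of its intersection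
with the range of `f`. -/
theorem isDominant_fiberMap_iff {X Y S : Scheme.{u}} (f : X ⟶ Y) (g : Y ⟶ S) (s : S) :
    IsDominant (MoreMor.fiberMap f g s) ↔
      g ⁻¹' {s} ⊆ closure (Set.range f ∩ g ⁻¹' {s}) := by
  have sq : IsPullback ((f ≫ g).fiberι s) (MoreMor.fiberMap f g s) f (g.fiberι s) :=
    isPullback_bcMap f g (S.fromSpecResidueField s)
  have hr : Set.range (MoreMor.fiberMap f g s) = (g.fiberι s) ⁻¹' Set.range f :=
    Groth.Agent.Lib.LimDescent.range_eq_preimage_of_isPullback sq
  rw [isDominant_iff, DenseRange, hr,
    dense_preimage_iff_of_isInducing _ (g.fiberι s).isEmbedding.isInducing,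
    Scheme.Hom.range_fiberι]

/-- Field-stability of dominance. -/
theorem isFieldStableMor_isDominant :
    ConsProp.IsFieldStableMor (fun (_ _ _ : Scheme.{u}) f _ => IsDominant f) := by
  intro X X' Y Y' T T' f g f' g' eX eY h _ _ _ _ _ _ _ _ hY hX
  have hr : Set.range f' = eY ⁻¹' Set.range f :=
    Groth.Agent.Lib.LimDescent.range_eq_preimage_of_isPullback hX
  haveI : UniversallyOpen h := inferInstance
  haveI : UniversallyOpen eY := MorphismProperty.of_isPullback hY.flip ‹UniversallyOpen h›
  haveI : Surjective h := by
    obtain ⟨t'⟩ : Nonempty T' := inferInstance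
    exact ⟨fun t => ⟨t', Subsingleton.elim _ _⟩⟩
  haveI : Surjective eY := MorphismProperty.of_isPullback hY.flip ‹Surjective h›
  change IsDominant f ↔ IsDominant f'
  rw [isDominant_iff, isDominant_iff, DenseRange, DenseRange, hr]
  constructor
  · intro hd
    exact hd.preimage eY.isOpenMap
  · intro hd
    have := eY.surjective.denseRange.dense_image eY.continuous hd
    rwa [Set.image_preimage_eq _ eY.surjective] at this

/-- **EGA IV 9.6.1**: dominance of the fibre maps is a constructible property. -/
theorem isConsMor_isDominant :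
    ConsProp.IsConsMor (fun (_ _ _ : Scheme.{u}) f _ => IsDominant f) := by
  refine ⟨isFieldStableMor_isDominant, ?_⟩
  intro X Y S f g _ _ _ _ _ _
  haveI : IsLocallyNoetherian Y := LocallyOfFiniteType.isLocallyNoetherian g
  haveI : CompactSpace Y := QuasiCompact.compactSpace_of_compactSpace g
  haveI : IsNoetherian Y := {}
  haveI : NoetherianSpace Y := inferInstance
  haveI : LocallyOfFiniteType f := locallyOfFiniteType_of_comp f g
  haveI : LocallyOfFinitePresentation f := inferInstance
  haveI : QuasiCompact f := QuasiCompact.of_comp f g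
  have hC : IsConstructible (Set.range f) := by
    have h1 := Scheme.Hom.isLocallyConstructible_image f IsLocallyConstructible.univ
    rw [Set.image_univ] at h1
    exact h1.isConstructible
  have hloc : ∀ s : S, s ∈ ConsProp.locusMor (fun (_ _ _ : Scheme.{u}) f _ => IsDominant f) f g ↔
      g ⁻¹' {s} ⊆ closure (Set.range f ∩ g ⁻¹' {s}) := fun s => isDominant_fiberMap_iff f g s
  obtain ⟨V, hηV, hV⟩ := exists_opens_fiber_subset_closure g (Set.range f) hC
  rcases hV with hV | hV
  · left
    refine ⟨genericPoint S, mem_interior.mpr ⟨V, ?_, V.isOpen, hηV⟩⟩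
    intro s hs
    exact (hloc s).mpr (hV s hs)
  · right
    refine ⟨genericPoint S, mem_interior.mpr ⟨V, ?_, V.isOpen, hηV⟩⟩
    intro s hs hmem
    exact hV s hs ((hloc s).mp hmem)

/-- The set of `s` such that `f_s` is dominant is locally constructible. -/
theorem isLocallyConstructible_setOf_isDominant {X Y S : Scheme.{u}} (f : X ⟶ Y) (g : Y ⟶ S)
    [LocallyOfFinitePresentation g] [QuasiCompact g] [QuasiSeparated g]
    [LocallyOfFinitePresentation (f ≫ g)] [QuasiCompact (f ≫ g)] [QuasiSeparated (f ≫ g)] :
    IsLocallyConstructible {s : S | IsDominant (MoreMor.fiberMap f g s)} :=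
  Groth.Agent.Lib.ConsLocusMor.isLocallyConstructible_locusMor isConsMor_isDominant f g

end Groth.Agent.Lib.H77FibDominant
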