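import Groth.Agent.Lib.H77FibreExact
import Groth.Agent.Lib.H77GenFreeMain

/-!
# Non-vanishing in the fibres near the generic point (helper77)

`R` a domain, `B` a finite type `R`-algebra, `M` a finite `B`-module.

* `exists_forall_one_tmul_ne_zero`: if `1 ⊗ x ≠ 0` in `κ(0) ⊗ M` then `1 ⊗ x ≠ 0` in `κ(p) ⊗ M`
  for all `p` in a nonempty basic open of `Spec R`.
* `exists_forall_not_injective`: if `κ(0) ⊗ B → κ(0) ⊗ C` is not injective, then neither is
  `κ(p) ⊗ B → κ(p) ⊗ C` for `p` in a nonempty basic open.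
-/

set_option autoImplicit false

namespace Groth.Agent.Lib.H77FibIsoAlg

open TensorProduct Function Groth.Agent.Lib.H77GenFree Groth.Agent.Lib.H77FibreExact

universe u

variable {R B : Type u} [CommRing R] [IsDomain R] [CommRing B] [Algebra R B]
  [Algebra.FiniteType R B]

theorem exists_forall_one_tmul_ne_zero {M : Type u} [AddCommGroup M] [Module B M] [Module R M]
    [IsScalarTower R B M] [Module.Finite B M] (x : M)
    (hx : (1 : (⊥ : Ideal R).ResidueField) ⊗ₜ[R] x ≠ 0) :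
    ∃ f : R, f ≠ 0 ∧ ∀ p : PrimeSpectrum R, f ∉ p.asIdeal →
      (1 : p.asIdeal.ResidueField) ⊗ₜ[R] x ≠ 0 := by
  classical
  obtain ⟨f₁, hf₁, s, hs⟩ := genFree_of_finiteType (R := R) B M
  obtain ⟨k, hk⟩ := hs.span x
  obtain ⟨c, hc⟩ := Finsupp.mem_span_range_iff_exists_finsupp.mp hk
  rw [← Finsupp.linearCombination_apply] at hc
  have hc0 : c ≠ 0 := by
    rintro rfl
    rw [map_zero] at hc
    apply hx
    have h1 : algebraMap R (⊥ : Ideal R).ResidueField (f₁ ^ k) •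
        ((1 : (⊥ : Ideal R).ResidueField) ⊗ₜ[R] x) = 0 := by
      rw [algebraMap_smul_one_tmul, ← hc, TensorProduct.tmul_zero]
    rcases smul_eq_zero.mp h1 with h | h
    · exfalso
      have h2 := Ideal.algebraMap_residueField_eq_zero.mp h
      exact pow_ne_zero k hf₁ (by simpa using h2)
    · exact h
  obtain ⟨i, hi⟩ : ∃ i, c i ≠ 0 := by
    by_contra h
    push Not at h
    exact hc0 (Finsupp.ext h)
  refine ⟨f₁ * c i, mul_ne_zero hf₁ hi, fun p hfp h0 => ?_⟩
  obtain ⟨t, ht, hth⟩ := exists_smul_mem_of_one_tmul_eq_zero p.asIdeal x h0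
  have key : ∀ y ∈ p.asIdeal • (⊤ : Submodule R M), ∃ (K : ℕ) (d : s →₀ R),
      (∀ j, d j ∈ p.asIdeal) ∧
        f₁ ^ K • y = Finsupp.linearCombination R (fun z : s => (z : M)) d := by
    intro y hy
    refine Submodule.smul_induction_on hy (fun a ha m _ => ?_) (fun y₁ y₂ h₁ h₂ => ?_)
    · obtain ⟨k', hk'⟩ := hs.span m
      obtain ⟨c', hc'⟩ := Finsupp.mem_span_range_iff_exists_finsupp.mp hk'
      rw [← Finsupp.linearCombination_apply] at hc'
      refine ⟨k', a • c', fun j => ?_, ?_⟩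
      · rw [Finsupp.smul_apply, smul_eq_mul]
        exact Ideal.mul_mem_right _ _ ha
      · rw [map_smul, hc', smul_comm]
    · obtain ⟨K₁, d₁, hd₁, e₁⟩ := h₁
      obtain ⟨K₂, d₂, hd₂, e₂⟩ := h₂
      refine ⟨K₁ + K₂, f₁ ^ K₂ • d₁ + f₁ ^ K₁ • d₂, fun j => ?_, ?_⟩
      · simp only [Finsupp.add_apply, Finsupp.smul_apply, smul_eq_mul]
        exact Ideal.add_mem _ (Ideal.mul_mem_left _ _ (hd₁ j)) (Ideal.mul_mem_left _ _ (hd₂ j))
      · rw [map_add, map_smul, map_smul, ← e₁, ← e₂, smul_add, smul_smul, smul_smul, pow_add,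
          mul_comm (f₁ ^ K₁) (f₁ ^ K₂)]
  obtain ⟨K, d, hd, e⟩ := key _ hth
  have h2 : Finsupp.linearCombination R (fun z : s => (z : M)) ((f₁ ^ K * t) • c - f₁ ^ k • d) =
      0 := by
    rw [map_sub, map_smul, map_smul, hc, ← e, smul_smul, smul_smul, smul_smul, sub_eq_zero]
    congr 1
    ring
  have h3 := hs.indep _ ⟨0, by rw [pow_zero, one_smul, h2]⟩
  have h4 : f₁ ^ K * t * c i = f₁ ^ k * d i := by
    have h5 := DFunLike.congr_fun h3 i
    simpa [sub_eq_zero] using h5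
  have h5 : f₁ ^ K * t * c i ∈ p.asIdeal := by
    rw [h4]
    exact Ideal.mul_mem_left _ _ (hd i)
  rcases p.2.mem_or_mem h5 with h | h
  · rcases p.2.mem_or_mem h with h | h
    · exact hfp (Ideal.mul_mem_right _ _ (p.2.mem_of_pow_mem _ h))
    · exact ht h
  · exact hfp (Ideal.mul_mem_left _ _ h)

theorem exists_forall_not_injective {C : Type u} [CommRing C] [Algebra R C] (ψ : B →ₐ[R] C)
    (h : ¬ Injective (Algebra.TensorProduct.map
      (AlgHom.id (⊥ : Ideal R).ResidueField (⊥ : Ideal R).ResidueField) ψ)) :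
    ∃ f : R, f ≠ 0 ∧ ∀ p : PrimeSpectrum R, f ∉ p.asIdeal →
      ¬ Injective (Algebra.TensorProduct.map
        (AlgHom.id p.asIdeal.ResidueField p.asIdeal.ResidueField) ψ) := by
  rw [injective_iff_map_eq_zero] at h
  push Not at h
  obtain ⟨z, hz, hz0⟩ := h
  obtain ⟨s, hs, b, hb⟩ := exists_smul_eq_one_tmul (⊥ : Ideal R) z
  have hsne : algebraMap R (⊥ : Ideal R).ResidueField s ≠ 0 := fun h =>
    hs (Ideal.algebraMap_residueField_eq_zero.mp h)
  have hb0 : (1 : (⊥ : Ideal R).ResidueField) ⊗ₜ[R] b ≠ 0 := by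
    rw [← hb]
    exact smul_ne_zero hsne hz0
  have hψb : (1 : (⊥ : Ideal R).ResidueField) ⊗ₜ[R] (ψ b) = 0 := by
    have h1 := congrArg (Algebra.TensorProduct.map
      (AlgHom.id (⊥ : Ideal R).ResidueField (⊥ : Ideal R).ResidueField) ψ) hb
    rw [map_smul, hz, smul_zero, Algebra.TensorProduct.map_tmul] at h1
    simpa using h1.symm
  obtain ⟨t, ht, hth⟩ := exists_smul_mem_of_one_tmul_eq_zero (⊥ : Ideal R) (ψ b) hψb
  have ht0 : t • ψ b = 0 := by simpa [Submodule.bot_smul] using hth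
  have htne : algebraMap R (⊥ : Ideal R).ResidueField t ≠ 0 := fun h =>
    ht (Ideal.algebraMap_residueField_eq_zero.mp h)
  have hb' : (1 : (⊥ : Ideal R).ResidueField) ⊗ₜ[R] (t • b) ≠ 0 := by
    rw [← algebraMap_smul_one_tmul]
    exact smul_ne_zero htne hb0
  have hψb' : ψ (t • b) = 0 := by rw [map_smul]; exact ht0
  obtain ⟨f, hf, H⟩ := exists_forall_one_tmul_ne_zero (R := R) (B := B) (M := B) (t • b) hb'
  refine ⟨f, hf, fun p hp hinj => H p hp (hinj ?_)⟩
  rw [Algebra.TensorProduct.map_tmul, hψb', TensorProduct.tmul_zero, map_zero]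

end Groth.Agent.Lib.H77FibIsoAlg
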