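import Groth.Agent.Lib.H77FibIsoAlg
import Groth.Agent.Lib.LimDescentRebase
import Mathlib.AlgebraicGeometry.Fiber
import Mathlib.AlgebraicGeometry.Morphisms.IsIso
import Mathlib.AlgebraicGeometry.Morphisms.ClosedImmersion

/-!
# Fibre maps of pairs: open covers of the middle scheme, and the affine dictionary (helper77)

* `isBC_restrict`: for `j : U ⟶ Y`, the fibre map of the pair `(f|_U, j ≫ g)` is a base change of the
  fibre map of `(f, g)`.
* `bcMap_iff_of_openCover`: a property local on the target holds for the base change of `f`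
  iff it holds for the base changes of all `f|_{U_i}`.
* `isBC_SpecMap`: for `R → B → C` and a prime `p` of `R`, `Spec (κ(p) ⊗ C) ⟶ Spec (κ(p) ⊗ B)` is the
  fibre map over `p`.
* `isIso_bcMap_Spec_iff`.
-/

set_option autoImplicit false
set_option linter.style.haveILetI false
universe u
open CategoryTheory Limits AlgebraicGeometry TensorProduct

namespace Groth.Agent.Lib.H77FibIsoSpec

open Groth.Agent.Lib.LimDescent

section Cat

variable {C : Type*} [Category C] {P X Y Z Y' : C} {fst : P ⟶ X} {snd : P ⟶ Y} {f : X ⟶ Z}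
  {g : Y ⟶ Z}

/-- Replace the lower left corner of a pullback square by an isomorphic object. -/
theorem isPullback_comp_iso (h : IsPullback fst snd f g) (e : Y' ≅ Y) :
    IsPullback fst (snd ≫ e.inv) f (e.hom ≫ g) := by
  have sq : IsPullback (𝟙 P) (snd ≫ e.inv) snd e.hom := IsPullback.of_horiz_isIso ⟨by simp⟩
  have := sq.paste_horiz h
  rwa [Category.id_comp] at this

end Cat

section Cover

variable {X Y S T U : Scheme.{u}} (f : X ⟶ Y) (g : Y ⟶ S) (b : T ⟶ S) (j : U ⟶ Y)

/-- The fibre map of the restricted pair `(f|_U, j ≫ g)` is the base change of the fibre map of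
`(f, g)` along `U_T ⟶ Y_T`. -/
theorem isBC_restrict :
    IsBC (pullback.snd f j) (j ≫ g) b
      (pullback.snd (bcMap f g b) (pullback.fst (pullback.fst g b) j)) := by
  set ιY := pullback.fst g b with hιY
  set F := bcMap f g b with hF
  set v := pullback.fst ιY j with hv
  set pY := pullback.snd ιY j with hpY
  have hY : IsPullback pY (v ≫ pullback.snd g b) (j ≫ g) b :=
    (IsPullback.of_hasPullback ιY j).flip.paste_vert (IsPullback.of_hasPullback g b)
  have big : IsPullback (pullback.fst F v ≫ pullback.fst (f ≫ g) b) (pullback.snd F v) f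
      (v ≫ ιY) := (IsPullback.of_hasPullback F v).paste_horiz (isPullback_bcMap f g b)
  have hc : v ≫ ιY = pY ≫ j := pullback.condition
  rw [hc] at big
  have right : IsPullback (pullback.fst f j) (pullback.snd f j) f j := IsPullback.of_hasPullback f j
  let pX : pullback F v ⟶ pullback f j :=
    right.lift (pullback.fst F v ≫ pullback.fst (f ≫ g) b) (pullback.snd F v ≫ pY)
      (by simpa only [Category.assoc] using big.w)
  have hX : IsPullback pX (pullback.snd F v) (pullback.snd f j) pY := by
    refine IsPullback.of_right ?_ (right.lift_snd _ _ _) right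
    rw [right.lift_fst]
    exact big
  exact ⟨pY, _, pX, hY, hX⟩

/-- A property of morphisms which is local on the target holds for the fibre map of `(f, g)` iff it
holds for the fibre maps of all restrictions to an open cover of `Y`. -/
theorem bcMap_iff_of_openCover (Q : MorphismProperty Scheme.{u}) [IsZariskiLocalAtTarget Q]
    (𝒰 : Y.OpenCover) :
    Q (bcMap f g b) ↔ ∀ i, Q (bcMap (pullback.snd f (𝒰.f i)) (𝒰.f i ≫ g) b) := by
  rw [IsZariskiLocalAtTarget.iff_of_openCover (P := Q) (𝒰.pullback₁ (pullback.fst g b))]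
  refine forall_congr' fun i => ?_
  exact (isBC_restrict f g b (𝒰.f i)).iff Q

end Cover

section Spec

variable (R B C : Type u) [CommRing R] [CommRing B] [CommRing C] [Algebra R B] [Algebra R C]
  (ψ : B →ₐ[R] C) (p : PrimeSpectrum R)

/-- The map `κ(p) ⊗ B → κ(p) ⊗ C`. -/
noncomputable abbrev fibMap :
    p.asIdeal.ResidueField ⊗[R] B →ₐ[p.asIdeal.ResidueField] p.asIdeal.ResidueField ⊗[R] C :=
  Algebra.TensorProduct.map (AlgHom.id _ _) ψ

theorem isBC_SpecMap :
    IsBC (Spec.map (CommRingCat.ofHom ψ.toRingHom)) (Spec.map (CommRingCat.ofHom (algebraMap R B)))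
      ((Spec (.of R)).fromSpecResidueField p)
      (Spec.map (CommRingCat.ofHom (fibMap R B C ψ p).toRingHom)) := by
  let κ := p.asIdeal.ResidueField
  have PO1 := CommRingCat.isPushout_tensorProduct R κ B
  have PO2 := CommRingCat.isPushout_tensorProduct R κ C
  have PO3 : IsPushout (CommRingCat.ofHom ψ.toRingHom)
      (CommRingCat.ofHom (S := κ ⊗[R] B) Algebra.TensorProduct.includeRight.toRingHom)
      (CommRingCat.ofHom (S := κ ⊗[R] C) Algebra.TensorProduct.includeRight.toRingHom)
      (CommRingCat.ofHom (fibMap R B C ψ p).toRingHom) := by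
    refine IsPushout.of_left ?_ ?_ PO1.flip
    · have e1 : CommRingCat.ofHom (algebraMap R B) ≫ CommRingCat.ofHom ψ.toRingHom =
          CommRingCat.ofHom (algebraMap R C) := by
        ext r
        exact ψ.commutes r
      have e2 : CommRingCat.ofHom (S := κ ⊗[R] B) Algebra.TensorProduct.includeLeftRingHom ≫
          CommRingCat.ofHom (fibMap R B C ψ p).toRingHom =
          CommRingCat.ofHom (S := κ ⊗[R] C) Algebra.TensorProduct.includeLeftRingHom := by
        ext a
        simp [fibMap]
      rw [e1, e2]
      exact PO2.flip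
    · ext x
      simp [fibMap]
  have hY' := (isPullback_SpecMap_of_isPushout _ _ _ _ PO1).flip
  have hX := isPullback_SpecMap_of_isPushout _ _ _ _ PO3
  let e := Scheme.Spec.residueFieldIso (.of R) p
  have hb : Spec.map e.inv ≫ Spec.map (CommRingCat.ofHom (algebraMap R κ)) =
      (Spec (.of R)).fromSpecResidueField p :=
    Scheme.Spec.map_residueFieldIso_inv_eq_fromSpecResidueField _ _
  have hY := isPullback_comp_iso hY' (Scheme.Spec.mapIso e.symm.op)
  refine ⟨_, Spec.map (CommRingCat.ofHom (S := κ ⊗[R] B) Algebra.TensorProduct.includeLeftRingHom) ≫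
    (Scheme.Spec.mapIso e.symm.op).inv, _, ?_, hX⟩
  rw [← hb]
  exact hY

theorem isIso_bcMap_Spec_iff :
    IsIso (bcMap (Spec.map (CommRingCat.ofHom ψ.toRingHom))
      (Spec.map (CommRingCat.ofHom (algebraMap R B))) ((Spec (.of R)).fromSpecResidueField p)) ↔
      Function.Bijective (fibMap R B C ψ p) := by
  have H := (isBC_SpecMap R B C ψ p).iff (MorphismProperty.isomorphisms Scheme.{u})
  refine Iff.trans H.symm ?_
  exact isIso_SpecMap_iff

end Spec

end Groth.Agent.Lib.H77FibIsoSpec
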