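import Groth.Agent.Lib.H77FibFinite
import Groth.Agent.Lib.H77FibIsoSpec
import Groth.Agent.Lib.LocProper85b
import Groth.Agent.Lib.H86FiniteCover
import Groth.Agent.Lib.H90DevAtom
import Groth.Agent.Lib.FpqcDescent

/-!
# Fibrewise properness is a constructible property (EGA IV 9.6.1 (vii)) (helper77)

For `f : X ⟶ Y` a morphism of `S`-schemes of finite presentation, the set of `s ∈ S` such that
`f_s : X_s ⟶ Y_s` is proper is locally constructible.

Strategy: the separated locus is constructible; if it contains the generic point we may assume `f`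
separated. Properness is local on `Y` and can be tested on the irreducible components of `X`, so we
may assume `Y` affine and `X` integral. By Chow's lemma (helper90/helper85) there are a proper
surjective `π : X' ⟶ X`, an immersion `φ : X' ⟶ P` and a proper `p : P ⟶ Y` with `φ ≫ p = π ≫ f`.
Then `f_s` is proper iff `φ_s` is a closed immersion, and we conclude by the constructibility of
fibrewise closed immersions (`H77FibFinite`).
-/

set_option autoImplicit false
set_option linter.style.haveILetI false
universe u
open CategoryTheory Limits AlgebraicGeometry TopologicalSpace Topology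

namespace Groth.Agent.Lib.H77FibProper

open Groth.Agent.Lib.LimDescent Groth.Agent.Lib.H77ConsMorTools Groth.Agent.Lib.H77FibIsoSpec
  Groth.Agent.Lib.SpreadPair Groth.Agent.Lib.H77FibFinite Groth.Agent.Lib.H77FibSeparated

/-- The dichotomy is stable under finite intersections. -/
theorem dich_iInter {S : Type*} [TopologicalSpace S] [IrreducibleSpace S] [QuasiSober S]
    {ι : Type*} [Finite ι] (E : ι → Set S) (h : ∀ i, Dich (E i)) : Dich (⋂ i, E i) := by
  rw [dich_iff]
  by_cases h1 : ∃ i, genericPoint S ∈ interior (E i)ᶜ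
  · obtain ⟨i, hi⟩ := h1
    right
    exact interior_mono (Set.compl_subset_compl.mpr (Set.iInter_subset E i)) hi
  · left
    push Not at h1
    rw [interior_iInter_of_finite, Set.mem_iInter]
    intro i
    have := (dich_iff (E i)).mp (h i)
    exact this.resolve_right (h1 i)

/-- The fibre map of a composite `(π ≫ f, g)` is the composite of the fibre maps. -/
theorem isBC_comp_bcMap {W X Y S T : Scheme.{u}} (π : W ⟶ X) (f : X ⟶ Y) (g : Y ⟶ S)
    (b : T ⟶ S) : IsBC (π ≫ f) g b (bcMap π (f ≫ g) b ≫ bcMap f g b) :=
  ⟨pullback.fst g b, pullback.snd g b, pullback.fst (π ≫ f ≫ g) b,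
    IsPullback.of_hasPullback g b,
    (isPullback_bcMap π (f ≫ g) b).paste_vert (isPullback_bcMap f g b)⟩

/-- Given a Chow datum `φ ≫ p = π ≫ f`, a base change of `f` is proper iff the corresponding base
change of `φ` is a closed immersion. -/
theorem isProper_bcMap_iff_of_chow {X Y S T X' P : Scheme.{u}} (f : X ⟶ Y) (g : Y ⟶ S)
    (b : T ⟶ S) [IsSeparated f] [LocallyOfFiniteType f] (π : X' ⟶ X) (φ : X' ⟶ P) (p : P ⟶ Y)
    [IsProper p] [IsImmersion φ] [IsProper π] [Surjective π] (hcomm : φ ≫ p = π ≫ f) :
    IsProper (bcMap f g b) ↔ IsClosedImmersion (bcMap φ (p ≫ g) b) := by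
  haveI : IsProper (bcMap π (f ≫ g) b) :=
    MorphismProperty.of_isPullback (isPullback_bcMap π (f ≫ g) b) ‹IsProper π›
  haveI : Surjective (bcMap π (f ≫ g) b) :=
    MorphismProperty.of_isPullback (isPullback_bcMap π (f ≫ g) b) ‹Surjective π›
  haveI : IsSeparated (bcMap f g b) :=
    MorphismProperty.of_isPullback (isPullback_bcMap f g b) ‹IsSeparated f›
  haveI : LocallyOfFiniteType (bcMap f g b) :=
    MorphismProperty.of_isPullback (isPullback_bcMap f g b) ‹LocallyOfFiniteType f›
  haveI : IsImmersion (bcMap φ (p ≫ g) b) :=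
    MorphismProperty.of_isPullback (isPullback_bcMap φ (p ≫ g) b) ‹IsImmersion φ›
  haveI : IsProper (bcMap p g b) :=
    MorphismProperty.of_isPullback (isPullback_bcMap p g b) ‹IsProper p›
  have H1 : IsBC (π ≫ f) g b (bcMap π (f ≫ g) b ≫ bcMap f g b) := isBC_comp_bcMap π f g b
  have H2 : IsBC (φ ≫ p) g b (bcMap φ (p ≫ g) b ≫ bcMap p g b) := isBC_comp_bcMap φ p g b
  rw [hcomm] at H2
  have h12 : IsProper (bcMap π (f ≫ g) b ≫ bcMap f g b) ↔
      IsProper (bcMap φ (p ≫ g) b ≫ bcMap p g b) := IsBC.iff_of_isBC @IsProper H1 H2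
  have h1 : IsProper (bcMap f g b) ↔ IsProper (bcMap π (f ≫ g) b ≫ bcMap f g b) := by
    constructor
    · intro h
      infer_instance
    · intro h
      haveI : UniversallyClosed (bcMap f g b) :=
        UniversallyClosed.of_comp_surjective (bcMap π (f ≫ g) b) (bcMap f g b)
      exact { }
  have h2 : IsProper (bcMap φ (p ≫ g) b ≫ bcMap p g b) ↔
      IsClosedImmersion (bcMap φ (p ≫ g) b) := by
    constructor
    · intro h
      haveI : IsProper (bcMap φ (p ≫ g) b) :=
        IsProper.of_comp (bcMap φ (p ≫ g) b) (bcMap p g b)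
      apply IsClosedImmersion.of_isPreimmersion
      rw [← Set.image_univ]
      exact (bcMap φ (p ≫ g) b).isClosedMap _ isClosed_univ
    · intro h
      infer_instance
  exact h1.trans (h12.trans h2)

/-- Chow's lemma over an affine base (not necessarily a spectrum). -/
theorem exists_chow_pair {X Y : Scheme.{u}} [IsAffine Y] [IsIntegral X] (f : X ⟶ Y)
    [IsSeparated f] [LocallyOfFiniteType f] [QuasiCompact f] :
    ∃ (X' P : Scheme.{u}) (π : X' ⟶ X) (φ : X' ⟶ P) (p : P ⟶ Y),
      IsProper p ∧ IsImmersion φ ∧ φ ≫ p = π ≫ f ∧ IsProper π ∧ Surjective π := by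
  obtain ⟨X', P, π, φ, p₁, hp₁, hφ, hcomm, hπ, hπs, -, -⟩ :=
    Groth.Agent.Lib.LocProper85.exists_chow_compactification Γ(Y, ⊤) X (f ≫ Y.isoSpec.hom)
  refine ⟨X', P, π, φ, p₁ ≫ Y.isoSpec.inv, inferInstance, hφ, ?_, hπ, ⟨hπs⟩⟩
  rw [reassoc_of% hcomm, Iso.hom_inv_id, Category.comp_id]

section Dich

variable {X Y S : Scheme.{u}} (f : X ⟶ Y) (g : Y ⟶ S) [IsIntegral S] [IsNoetherian S]
  [LocallyOfFiniteType g] [QuasiCompact g] [LocallyOfFiniteType (f ≫ g)] [QuasiCompact (f ≫ g)]

/-- The dichotomy for fibrewise properness: `Y` affine, `X` integral, `f` separated. -/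
theorem dich_isProper_of_isIntegral [IsAffine Y] [IsIntegral X] [IsSeparated f] :
    Dich (ConsProp.locusMor (fun (_ _ _ : Scheme.{u}) f _ => IsProper f) f g) := by
  haveI : IsLocallyNoetherian Y := LocallyOfFiniteType.isLocallyNoetherian g
  haveI : CompactSpace Y := QuasiCompact.compactSpace_of_compactSpace g
  haveI : IsNoetherian Y := {}
  haveI : LocallyOfFiniteType f := locallyOfFiniteType_of_comp f g
  haveI : QuasiCompact f := QuasiCompact.of_comp f g
  obtain ⟨X', P, π, φ, p, hp, hφ, hcomm, hπ, hπs⟩ := exists_chow_pair f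
  have he : ConsProp.locusMor (fun (_ _ _ : Scheme.{u}) f _ => IsProper f) f g =
      ConsProp.locusMor (fun (_ _ _ : Scheme.{u}) f _ => IsClosedImmersion f) φ (p ≫ g) := by
    ext s
    exact isProper_bcMap_iff_of_chow f g (S.fromSpecResidueField s) π φ p hcomm
  rw [he]
  haveI : LocallyOfFiniteType (p ≫ g) := inferInstance
  haveI : QuasiCompact (p ≫ g) := inferInstance
  haveI : LocallyOfFiniteType (φ ≫ p ≫ g) := by rw [reassoc_of% hcomm]; infer_instance
  haveI : QuasiCompact (φ ≫ p ≫ g) := by rw [reassoc_of% hcomm]; infer_instance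
  exact isConsMor_isClosedImmersion.2 φ (p ≫ g)

/-- The dichotomy for fibrewise properness: `Y` affine, `f` separated. -/
theorem dich_isProper_of_isAffine [IsAffine Y] [IsSeparated f] :
    Dich (ConsProp.locusMor (fun (_ _ _ : Scheme.{u}) f _ => IsProper f) f g) := by
  classical
  haveI : IsLocallyNoetherian X := LocallyOfFiniteType.isLocallyNoetherian (f ≫ g)
  haveI : CompactSpace X := QuasiCompact.compactSpace_of_compactSpace (f ≫ g)
  haveI : IsNoetherian X := {}
  haveI : LocallyOfFiniteType f := locallyOfFiniteType_of_comp f g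
  have hfin : (irreducibleComponents X).Finite :=
    TopologicalSpace.NoetherianSpace.finite_irreducibleComponents
  haveI : Finite ↥(irreducibleComponents X) := hfin.to_subtype
  let Zc : ↥(irreducibleComponents X) → Closeds X := fun Z =>
    ⟨Z.1, isClosed_of_mem_irreducibleComponents Z.1 Z.2⟩
  let I : ↥(irreducibleComponents X) → X.IdealSheafData := fun Z =>
    Scheme.IdealSheafData.vanishingIdeal (Zc Z)
  have hint : ∀ Z, IsIntegral (I Z).subscheme := fun Z =>
    Groth.Agent.Lib.H90DevAtom.isIntegral_subscheme (Zc Z) Z.2.1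
  have hrange : ∀ Z, Set.range (I Z).subschemeι = Z.1 := fun Z => by
    rw [Scheme.IdealSheafData.range_subschemeι, Scheme.IdealSheafData.coe_support_vanishingIdeal]
    rfl
  have he : ConsProp.locusMor (fun (_ _ _ : Scheme.{u}) f _ => IsProper f) f g =
      ⋂ Z, ConsProp.locusMor (fun (_ _ _ : Scheme.{u}) f _ => IsProper f)
        ((I Z).subschemeι ≫ f) g := by
    ext s
    simp only [Set.mem_iInter]
    change IsProper (bcMap f g (S.fromSpecResidueField s)) ↔
      ∀ Z, IsProper (bcMap ((I Z).subschemeι ≫ f) g (S.fromSpecResidueField s))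
    set b := S.fromSpecResidueField s with hb
    constructor
    · intro h Z
      have H := isBC_comp_bcMap (I Z).subschemeι f g b
      rw [← H.iff @IsProper]
      haveI : IsClosedImmersion (bcMap (I Z).subschemeι (f ≫ g) b) :=
        MorphismProperty.of_isPullback (isPullback_bcMap (I Z).subschemeι (f ≫ g) b)
          (inferInstance : IsClosedImmersion (I Z).subschemeι)
      infer_instance
    · intro h
      haveI : IsSeparated (bcMap f g b) :=
        MorphismProperty.of_isPullback (isPullback_bcMap f g b) ‹IsSeparated f›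
      haveI : LocallyOfFiniteType (bcMap f g b) :=
        MorphismProperty.of_isPullback (isPullback_bcMap f g b) ‹LocallyOfFiniteType f›
      haveI huc : UniversallyClosed (bcMap f g b) := by
        refine Groth.Agent.Lib.H86Coprod.universallyClosed_of_finite_cover (bcMap f g b)
          (fun Z : ↥(irreducibleComponents X) => pullback ((I Z).subschemeι ≫ f ≫ g) b)
          (fun Z => bcMap (I Z).subschemeι (f ≫ g) b) ?_ ?_
        · intro x'
          let x := pullback.fst (f ≫ g) b x'
          let Z : ↥(irreducibleComponents X) :=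
            ⟨irreducibleComponent x, irreducibleComponent_mem_irreducibleComponents x⟩
          refine ⟨Z, ?_⟩
          rw [range_eq_preimage_of_isPullback (isPullback_bcMap (I Z).subschemeι (f ≫ g) b),
            hrange Z]
          exact mem_irreducibleComponent
        · intro Z
          have H := isBC_comp_bcMap (I Z).subschemeι f g b
          have : IsProper (bcMap (I Z).subschemeι (f ≫ g) b ≫ bcMap f g b) :=
            (H.iff @IsProper).mpr (h Z)
          infer_instance
      exact { }
  rw [he]
  refine dich_iInter _ fun Z => ?_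
  haveI := hint Z
  haveI : LocallyOfFiniteType (((I Z).subschemeι ≫ f) ≫ g) := by
    rw [Category.assoc]; infer_instance
  haveI : QuasiCompact (((I Z).subschemeι ≫ f) ≫ g) := by
    rw [Category.assoc]; infer_instance
  exact dich_isProper_of_isIntegral ((I Z).subschemeι ≫ f) g

/-- The dichotomy for fibrewise properness: `f` separated. -/
theorem dich_isProper_of_isSeparated [IsSeparated f] :
    Dich (ConsProp.locusMor (fun (_ _ _ : Scheme.{u}) f _ => IsProper f) f g) := by
  haveI : IsLocallyNoetherian Y := LocallyOfFiniteType.isLocallyNoetherian g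
  haveI : CompactSpace Y := QuasiCompact.compactSpace_of_compactSpace g
  haveI : IsNoetherian Y := {}
  let 𝒰 := Y.affineCover.finiteSubcover
  haveI : Finite 𝒰.I₀ := Finite.of_fintype _
  have he : ConsProp.locusMor (fun (_ _ _ : Scheme.{u}) f _ => IsProper f) f g =
      ⋂ i, ConsProp.locusMor (fun (_ _ _ : Scheme.{u}) f _ => IsProper f)
        (pullback.snd f (𝒰.f i)) (𝒰.f i ≫ g) := by
    ext s
    simp only [Set.mem_iInter]
    exact bcMap_iff_of_openCover f g (S.fromSpecResidueField s) @IsProper 𝒰
  rw [he]
  refine dich_iInter _ fun i => ?_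
  haveI : IsAffine (𝒰.X i) := inferInstanceAs (IsAffine (Y.affineCover.X _))
  haveI : IsOpenImmersion (𝒰.f i) := 𝒰.map_prop i
  haveI : QuasiCompact (𝒰.f i) := inferInstance
  haveI : LocallyOfFiniteType (𝒰.f i ≫ g) := inferInstance
  haveI : QuasiCompact (𝒰.f i ≫ g) := inferInstance
  have hc : pullback.snd f (𝒰.f i) ≫ 𝒰.f i ≫ g = pullback.fst f (𝒰.f i) ≫ f ≫ g := by
    rw [← Category.assoc, ← pullback.condition, Category.assoc]
  haveI : LocallyOfFiniteType (pullback.snd f (𝒰.f i) ≫ 𝒰.f i ≫ g) := by
    rw [hc]; infer_instance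
  haveI : QuasiCompact (pullback.snd f (𝒰.f i) ≫ 𝒰.f i ≫ g) := by
    rw [hc]; infer_instance
  exact dich_isProper_of_isAffine (pullback.snd f (𝒰.f i)) (𝒰.f i ≫ g)

end Dich

/-- **EGA IV 9.6.1**: properness of the fibre maps is a constructible property. -/
theorem isConsMor_isProper :
    ConsProp.IsConsMor (fun (_ _ _ : Scheme.{u}) f _ => IsProper f) := by
  have hFS : ConsProp.IsFieldStableMor (fun (_ _ _ : Scheme.{u}) f _ => IsProper f) :=
    Groth.Agent.Lib.ConsPropInst.isFieldStableMor_of_descends @IsProper
  refine ⟨hFS, ?_⟩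
  intro X Y S f g _ _ _ _ _ _
  change Dich (ConsProp.locusMor (fun (_ _ _ : Scheme.{u}) f _ => IsProper f) f g)
  have dS : Dich (ConsProp.locusMor (fun (_ _ _ : Scheme.{u}) f _ => IsSeparated f) f g) :=
    isConsMor_isSeparated.2 f g
  rw [dich_iff] at dS
  rcases dS with h | h
  · have hη' : genericPoint S ∈
        ConsProp.locusMor (fun (_ _ _ : Scheme.{u}) f _ => IsSeparated f) f g :=
      interior_subset h
    have hη : IsSeparated (bcMap f g (S.fromSpecResidueField (genericPoint S))) := hη'
    obtain ⟨W, hW, q, hqft, hqqc, hqη, hQW⟩ :=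
      exists_integral_model @IsSeparated
        Groth.Agent.Lib.ConsPairGeom.descends_isSeparated f g hη
    haveI : IsLocallyNoetherian W := LocallyOfFiniteType.isLocallyNoetherian q
    haveI : CompactSpace W := QuasiCompact.compactSpace_of_compactSpace q
    haveI : IsNoetherian W := {}
    haveI : IsSeparated (bcMap f g q) := hQW
    haveI : LocallyOfFiniteType (pullback.snd g q) := inferInstance
    haveI : QuasiCompact (pullback.snd g q) := inferInstance
    haveI : LocallyOfFiniteType (bcMap f g q ≫ pullback.snd g q) := by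
      rw [bcMap_snd]; infer_instance
    haveI : QuasiCompact (bcMap f g q ≫ pullback.snd g q) := by
      rw [bcMap_snd]; infer_instance
    have key := dich_isProper_of_isSeparated (bcMap f g q) (pullback.snd g q)
    exact dich_of_baseChange hFS hqη (IsPullback.of_hasPullback g q) (isPullback_bcMap f g q) key
  · refine Dich.of_subset_of_compl h (fun s hs => ?_)
    have hs' : IsProper (MoreMor.fiberMap f g s) := hs
    change IsSeparated (MoreMor.fiberMap f g s)
    infer_instance

/-- The set of `s` such that `f_s` is proper is locally constructible. -/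
theorem isLocallyConstructible_setOf_isProper {X Y S : Scheme.{u}} (f : X ⟶ Y) (g : Y ⟶ S)
    [LocallyOfFinitePresentation g] [QuasiCompact g] [QuasiSeparated g]
    [LocallyOfFinitePresentation (f ≫ g)] [QuasiCompact (f ≫ g)] [QuasiSeparated (f ≫ g)] :
    IsLocallyConstructible {s : S | IsProper (MoreMor.fiberMap f g s)} :=
  Groth.Agent.Lib.ConsLocusMor.isLocallyConstructible_locusMor isConsMor_isProper f g

end Groth.Agent.Lib.H77FibProper
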