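import Groth.Agent.Lib.H77XLocus
import Groth.Agent.Lib.H80SmoothFiber2
import Groth.Agent.Lib.SmoothLocusBC
import Groth.Agent.Lib.SmoothFibreRelSch
import Groth.Agent.Lib.H77GenFlatRedSch
import Groth.Agent.Lib.DescFPMain
import Groth.Agent.Lib.DescFPModel
import Groth.Agent.Lib.FGSubalgLimitU
import Groth.Agent.Lib.ConsTop2

/-!
# The set of points at which the fibre is smooth is locally constructible (EGA IV 9.9.4) (helper77)

For `f : X ⟶ S` locally of finite presentation, the set `fibSmoothSet f` of `x ∈ X` such that the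
fibre `X_{f x} → Spec κ(f x)` is smooth at `x` is locally constructible in `X`.
-/

set_option autoImplicit false
set_option linter.style.haveILetI false
universe u
open CategoryTheory Limits AlgebraicGeometry TopologicalSpace Topology
open scoped Set.Notation

namespace Groth.Agent.Lib.H77FibSmoothPt

/-- The set of points at which the fibre through the point is smooth over the residue field. -/
def fibSmoothSet {X S : Scheme.{u}} (f : X ⟶ S) : Set X :=
  {x | ((f.fiberToSpecResidueField (f x)).stalkMap (f.asFiber x)).hom.FormallySmooth}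

theorem fiberι_injective {X S : Scheme.{u}} (f : X ⟶ S) (s : S) :
    Function.Injective (f.fiberι s) := by
  intro p q hpq
  apply (f.fiberHomeo s).injective
  apply Subtype.ext
  rw [Scheme.Hom.fiberHomeo_apply, Scheme.Hom.fiberHomeo_apply]
  exact hpq

theorem mem_fibSmoothSet_iff {X S : Scheme.{u}} (f : X ⟶ S) {x : X} {s : S} (p : f.fiber s)
    (hp : f.fiberι s p = x) :
    x ∈ fibSmoothSet f ↔ ((f.fiberToSpecResidueField s).stalkMap p).hom.FormallySmooth := by
  have hs : f x = s := by
    rw [← hp]; exact Groth.Agent.Lib.SmoothFibreRelSch.fiberι_apply f s p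
  subst hs
  have : p = f.asFiber x := by
    apply fiberι_injective f (f x)
    rw [hp, f.fiberι_asFiber]
  subst this
  rfl

instance lfp_fiberToSpecResidueField {X S : Scheme.{u}} (f : X ⟶ S)
    [LocallyOfFinitePresentation f] (s : S) :
    LocallyOfFinitePresentation (f.fiberToSpecResidueField s) :=
  MorphismProperty.of_isPullback (IsPullback.of_hasPullback f (S.fromSpecResidueField s)) ‹_›

open Groth.Agent.Lib.SmoothLocusBC in
/-- Compatibility with arbitrary base change. -/
theorem mem_fibSmoothSet_iff_of_isPullback {X S X' S' : Scheme.{u}} {g' : X' ⟶ X} {f' : X' ⟶ S'}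
    {f : X ⟶ S} {g : S' ⟶ S} (sq : IsPullback g' f' f g) [LocallyOfFinitePresentation f]
    (x' : X') : x' ∈ fibSmoothSet f' ↔ g' x' ∈ fibSmoothSet f := by
  let m : f'.fiber (f' x') ⟶ f.fiber (g (f' x')) :=
    pullback.map f' (S'.fromSpecResidueField (f' x')) f (S.fromSpecResidueField (g (f' x')))
    g' (Spec.map (g.residueFieldMap (f' x'))) g sq.w.symm (by simp)
  have sq2 : IsPullback m (f'.fiberToSpecResidueField (f' x'))
      (f.fiberToSpecResidueField (g (f' x'))) (Spec.map (g.residueFieldMap (f' x'))) :=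
    isPullback_fiberToSpecResidueField_of_isPullback sq (f' x')
  have hm1 : m ≫ f.fiberι (g (f' x')) = f'.fiberι (f' x') ≫ g' := pullback.lift_fst _ _ _
  have h1 : f.fiberι (g (f' x')) (m (f'.asFiber x')) = g' x' := by
    have := congr($hm1 (f'.asFiber x'))
    rw [Scheme.Hom.comp_apply, Scheme.Hom.comp_apply, f'.fiberι_asFiber] at this
    exact this
  rw [mem_fibSmoothSet_iff f (m (f'.asFiber x')) h1]
  haveI : Flat (Spec.map (g.residueFieldMap (f' x'))) := by
    rw [Flat.SpecMap_iff]
    exact RingHom.Flat.of_isField (Field.toIsField _) _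
  constructor
  · intro h
    exact formallySmooth_stalkMap_of_isPullback_of_flat sq2 (f'.asFiber x') h
  · intro h
    exact formallySmooth_stalkMap_snd_of_isPullback sq2 (f'.asFiber x') h

theorem preimage_fibSmoothSet_of_isPullback {X S X' S' : Scheme.{u}} {g' : X' ⟶ X} {f' : X' ⟶ S'}
    {f : X ⟶ S} {g : S' ⟶ S} (sq : IsPullback g' f' f g) [LocallyOfFinitePresentation f] :
    g' ⁻¹' fibSmoothSet f = fibSmoothSet f' := by
  ext x'
  exact (mem_fibSmoothSet_iff_of_isPullback sq x').symm

open Groth.Agent.Lib.SmoothLocusBC Groth.Agent.Lib.H80SmoothFiber in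
/-- At points where `f` is flat, smoothness of the fibre is smoothness of `f`. -/
theorem mem_fibSmoothSet_iff_of_flat {X S : Scheme.{u}} (f : X ⟶ S)
    [LocallyOfFinitePresentation f] (x : X) (hflat : (f.stalkMap x).hom.Flat) :
    x ∈ fibSmoothSet f ↔ x ∈ f.smoothLocus := by
  have hx : f.fiberι (f x) (f.asFiber x) = x := f.fiberι_asFiber x
  constructor
  · intro h
    have hflat' : ∀ x' : X, x' = x → (f.stalkMap x').hom.Flat := by
      rintro _ rfl; exact hflat
    have := mem_smoothLocus_of_flat_of_fiber f (f x) (f.asFiber x) (hflat' _ hx) h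
    rw [hx] at this
    exact this
  · intro h
    have h' : ∀ x' : X, x' = x → (f.stalkMap x').hom.FormallySmooth := by
      rintro _ rfl; exact h
    exact formallySmooth_stalkMap_snd_of_isPullback
      (IsPullback.of_hasPullback f (S.fromSpecResidueField (f x))) (f.asFiber x) (h' _ hx)

/-- Compatibility with open immersions into the source. -/
theorem preimage_fibSmoothSet_of_isOpenImmersion {W X S : Scheme.{u}} (j : W ⟶ X)
    [IsOpenImmersion j] (f : X ⟶ S) [LocallyOfFinitePresentation f] :
    j ⁻¹' fibSmoothSet f = fibSmoothSet (j ≫ f) := by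
  ext w
  let s : S := (j ≫ f) w
  let p : (j ≫ f).fiber s := (j ≫ f).asFiber w
  let k : (j ≫ f).fiber s ⟶ f.fiber s :=
    pullback.map (j ≫ f) (S.fromSpecResidueField s) f (S.fromSpecResidueField s) j (𝟙 _) (𝟙 _)
      (by simp) (by simp)
  have hk1 : k ≫ f.fiberι s = (j ≫ f).fiberι s ≫ j := pullback.lift_fst _ _ _
  have hk2 : k ≫ f.fiberToSpecResidueField s = (j ≫ f).fiberToSpecResidueField s := by
    have : k ≫ f.fiberToSpecResidueField s = (j ≫ f).fiberToSpecResidueField s ≫ 𝟙 _ :=
      pullback.lift_snd _ _ _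
    rw [this, Category.comp_id]
  have sqk : IsPullback k ((j ≫ f).fiberι s) (f.fiberι s) j := by
    refine IsPullback.of_right (h₁₂ := f.fiberToSpecResidueField s)
      (v₁₃ := S.fromSpecResidueField s) (h₂₂ := f) ?_ hk1
      (IsPullback.of_hasPullback f (S.fromSpecResidueField s)).flip
    rw [hk2]
    exact (IsPullback.of_hasPullback (j ≫ f) (S.fromSpecResidueField s)).flip
  haveI : IsOpenImmersion k := MorphismProperty.of_isPullback sqk.flip ‹_›
  have h1 : f.fiberι s (k p) = j w := by
    have := congr($hk1 p)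
    rw [Scheme.Hom.comp_apply, Scheme.Hom.comp_apply, (j ≫ f).fiberι_asFiber] at this
    exact this
  change j w ∈ fibSmoothSet f ↔ _
  rw [mem_fibSmoothSet_iff f (k p) h1]
  have h2 := Scheme.Hom.preimage_smoothLocus_eq k (f.fiberToSpecResidueField s)
  have h3 : p ∈ k ⁻¹ᵁ (f.fiberToSpecResidueField s).smoothLocus ↔
      p ∈ (k ≫ f.fiberToSpecResidueField s).smoothLocus := by rw [h2]
  rw [Scheme.Hom.mem_smoothLocus] at h3
  have h4 : ∀ (φ ψ : (j ≫ f).fiber s ⟶ Spec (S.residueField s)), φ = ψ →
      ((φ.stalkMap p).hom.FormallySmooth ↔ (ψ.stalkMap p).hom.FormallySmooth) := by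
    rintro φ _ rfl; rfl
  exact h3.trans (h4 _ _ hk2)

open Groth.Agent.Lib.H77XLocus in
/-- Noetherian base. -/
theorem isConstructible_fibSmoothSet_of_isNoetherian {X S : Scheme.{u}} [IsNoetherian S]
    (f : X ⟶ S) [LocallyOfFiniteType f] [QuasiCompact f] :
    IsConstructible (fibSmoothSet f) := by
  haveI : LocallyOfFinitePresentation f := inferInstance
  refine isConstructible_of_forall_integral_base f _ (fun Z _ _ j _ => ?_)
  have sq : IsPullback (pullback.fst f j) (pullback.snd f j) f j := IsPullback.of_hasPullback f j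
  rw [preimage_fibSmoothSet_of_isPullback sq]
  obtain ⟨U, hUd, hUflat, -⟩ :=
    Groth.Agent.Lib.H77GenFlatRedSch.exists_dense_open_flat_lfp (pullback.snd f j)
  refine ⟨U, hUd.nonempty, ?_⟩
  have e : fibSmoothSet (pullback.snd f j) ∩ (pullback.snd f j) ⁻¹' (U : Set Z) =
      ((pullback.snd f j).smoothLocus : Set _) ∩ (pullback.snd f j) ⁻¹' (U : Set Z) := by
    ext x
    simp only [Set.mem_inter_iff, Set.mem_preimage]
    refine and_congr_left (fun hx => ?_)
    apply mem_fibSmoothSet_iff_of_flat
    have := Flat.stalkMap (pullback.snd f j ∣_ U) ⟨x, hx⟩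
    exact (RingHom.Flat.respectsIso.arrow_mk_iso_iff
      (morphismRestrictStalkMap (pullback.snd f j) U ⟨x, hx⟩)).mp this
  rw [e]
  haveI := Groth.Agent.Lib.H77FibClosure.noetherianSpace_of_finiteType (pullback.snd f j)
  exact (Groth.Agent.Lib.ConstrTop.isConstructible_of_isOpen
      (pullback.snd f j).smoothLocus.isOpen).inter
    (Groth.Agent.Lib.ConstrTop.isConstructible_of_isOpen
      (U.isOpen.preimage (pullback.snd f j).continuous))

open Groth.Agent.Lib.LimPullback Groth.Agent.Lib.LimDescent Groth.Agent.Lib.DescFP in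
/-- Base a cofiltered limit of Noetherian schemes with affine transition maps. -/
theorem isConstructible_fibSmoothSet_of_isLimit {I : Type u} [Category.{u} I]
    [IsCofiltered I] (D : I ⥤ Scheme.{u}) (c : Cone D) (hc : IsLimit c)
    [∀ {i j} (f : i ⟶ j), IsAffineHom (D.map f)] [∀ i, IsNoetherian (D.obj i)]
    {X : Scheme.{u}} (f : X ⟶ c.pt) [LocallyOfFinitePresentation f] [QuasiCompact f]
    [QuasiSeparated f] : IsConstructible (fibSmoothSet f) := by
  obtain ⟨i, Xi, fi, gX, hfi, hXic, hXiq, sq⟩ := hasModel_of_fp D c hc f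
  rw [← preimage_fibSmoothSet_of_isPullback sq]
  haveI : QuasiCompact fi := inferInstance
  haveI : LocallyOfFiniteType fi := inferInstance
  exact gX.isConstructible_preimage (isConstructible_fibSmoothSet_of_isNoetherian fi)

open Groth.Agent.Lib.FGSubalgLimitU in
/-- Base `Spec A`. -/
theorem isConstructible_fibSmoothSet_Spec (A : Type u) [CommRing A] {X : Scheme.{u}}
    (f : X ⟶ Spec (CommRingCat.of A)) [LocallyOfFinitePresentation f] [QuasiCompact f]
    [QuasiSeparated f] : IsConstructible (fibSmoothSet f) := by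
  haveI : ∀ {i j : (FGSub ℤ A)ᵒᵖ} (φ : i ⟶ j), IsAffineHom ((D ℤ A).map φ) :=
    fun φ => inferInstance
  haveI : ∀ i, IsNoetherian ((D ℤ A).obj i) := fun i => inferInstance
  have key : ∀ (f' : X ⟶ (cone ℤ A).pt) [LocallyOfFinitePresentation f'] [QuasiCompact f']
      [QuasiSeparated f'], IsConstructible (fibSmoothSet f') := by
    intro f' _ _ _
    exact isConstructible_fibSmoothSet_of_isLimit (D ℤ A) (cone ℤ A) (isLimitCone ℤ A) f'
  exact @key f ‹_› ‹_› ‹_›

/-- `f` of finite presentation (quasi-compact and quasi-separated), arbitrary base. -/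
theorem isLocallyConstructible_fibSmoothSet_of_fp {X Y : Scheme.{u}} (f : X ⟶ Y)
    [LocallyOfFinitePresentation f] [QuasiCompact f] [QuasiSeparated f] :
    IsLocallyConstructible (fibSmoothSet f) := by
  intro x
  obtain ⟨U, hU, hxU, -⟩ := exists_isAffineOpen_mem_and_subset (x := f x) (U := ⊤) trivial
  refine ⟨(f ⁻¹ᵁ U : Set X), (f ⁻¹ᵁ U).isOpen.mem_nhds hxU, (f ⁻¹ᵁ U).isOpen, ?_⟩
  let j := hU.fromSpec
  have hC := isConstructible_fibSmoothSet_Spec Γ(Y, U) (pullback.snd f j)
  rw [← preimage_fibSmoothSet_of_isPullback (IsPullback.of_hasPullback f j)] at hC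
  let e : (f ⁻¹ᵁ U).toScheme ⟶ pullback f j :=
    pullback.lift (f ⁻¹ᵁ U).ι ((f ∣_ U) ≫ hU.isoSpec.hom) (by
      rw [Category.assoc, hU.isoSpec_hom_fromSpec, morphismRestrict_ι])
  have he : e ≫ pullback.fst f j = (f ⁻¹ᵁ U).ι := pullback.lift_fst _ _ _
  have h2 := e.isConstructible_preimage hC
  have h3 : e ⁻¹' ((pullback.fst f j) ⁻¹' fibSmoothSet f) =
      (Subtype.val ⁻¹' fibSmoothSet f : Set ↥(f ⁻¹ᵁ U : Set X)) := by
    ext w
    change pullback.fst f j (e w) ∈ fibSmoothSet f ↔ (f ⁻¹ᵁ U).ι w ∈ fibSmoothSet f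
    rw [← Scheme.Hom.comp_apply, he]
  rw [h3] at h2
  exact h2

open Groth.Agent.Lib.SmoothFibreRelSch in
/-- **EGA IV 9.9.4 (smooth case)**: for `f` locally of finite presentation, the set of points at which the
fibre is smooth over the residue field is locally constructible. -/
theorem isLocallyConstructible_fibSmoothSet {X S : Scheme.{u}} (f : X ⟶ S)
    [LocallyOfFinitePresentation f] : IsLocallyConstructible (fibSmoothSet f) := by
  have H : ∀ x : X, ∃ W : X.Opens, x ∈ W ∧
      IsLocallyConstructible ((W : Set X) ↓∩ fibSmoothSet f) := by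
    intro x
    obtain ⟨_, ⟨U, hU, rfl⟩, hxU, -⟩ :=
      S.isBasis_affineOpens.exists_subset_of_mem_open (Set.mem_univ (f x)) isOpen_univ
    obtain ⟨_, ⟨W, hW, rfl⟩, hxW, hWU⟩ :=
      X.isBasis_affineOpens.exists_subset_of_mem_open hxU (U.2.preimage f.continuous)
    refine ⟨W, hxW, ?_⟩
    change X.Opens at W
    change S.Opens at U
    let h : W.toScheme ⟶ U.toScheme := f.resLE U W hWU
    have hh : h ≫ U.ι = W.ι ≫ f := Scheme.Hom.resLE_comp_ι f hWU
    haveI : IsAffine W.toScheme := hW
    haveI : IsAffine U.toScheme := hU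
    haveI : LocallyOfFinitePresentation (h ≫ U.ι) := by rw [hh]; infer_instance
    haveI : LocallyOfFinitePresentation h := locallyOfFinitePresentation_of_comp h U.ι ‹_› inferInstance
    have h1 := isLocallyConstructible_fibSmoothSet_of_fp h
    have sq : IsPullback (𝟙 W.toScheme) h (h ≫ U.ι) U.ι := by
      have t1 : IsPullback (𝟙 W.toScheme) h h (𝟙 U.toScheme) := IsPullback.of_horiz_isIso ⟨by simp⟩
      have t2 : IsPullback (𝟙 U.toScheme) (𝟙 U.toScheme) U.ι U.ι := IsKernelPair.id_of_mono U.ι
      have := t1.paste_vert t2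
      rwa [Category.comp_id] at this
    have h2 : fibSmoothSet h = fibSmoothSet (h ≫ U.ι) := by
      rw [← preimage_fibSmoothSet_of_isPullback sq]
      ext w
      simp
    have h3 : fibSmoothSet (W.ι ≫ f) = fibSmoothSet (h ≫ U.ι) := by rw [hh]
    rw [h2, ← h3, ← preimage_fibSmoothSet_of_isOpenImmersion W.ι f] at h1
    exact h1
  choose W hxW hW using H
  refine IsLocallyConstructible.of_isOpenCover (U := W) ?_ hW
  refine IsOpenCover.mk (eq_top_iff.mpr fun x _ => ?_)
  exact Opens.mem_iSup.mpr ⟨x, hxW x⟩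

end Groth.Agent.Lib.H77FibSmoothPt
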