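import Groth.Agent.Lib.ConsLocusGen
import Groth.Agent.Lib.H77ConsMorTools
import Groth.Agent.Lib.LimConstructible
import Groth.Agent.Lib.DescFPMain
import Groth.Agent.Lib.FGSubalgLimitU
import Groth.Agent.Lib.LimDescentGen
import Groth.Agent.Lib.ConsTop2
import Mathlib.AlgebraicGeometry.Fiber
import Mathlib.Topology.Maps.OpenQuotient

/-!
# Topological properties of the traces of constructible sets on the fibres (helper77)

For a morphism `f : X ⟶ S`, subsets `Z, Z' ⊆ X` and a property `𝒬 A A'` of pairs of subsets of a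
topological space, `locus 𝒬 f Z Z'` is the set of `s ∈ S` such that `𝒬` holds for the traces of
`Z, Z'` on the fibre `f⁻¹(s)`.

* `fibMap`, `isOpenQuotientMap_fibMap`: for a cartesian square, the map `f'⁻¹(s') → f⁻¹(π s')` is
  continuous, open and surjective.
* `locus_eq_preimage`: if `𝒬` is invariant under open quotient maps, the locus commutes with base
  change.
-/

set_option autoImplicit false
set_option linter.style.haveILetI false
universe u
open CategoryTheory Limits AlgebraicGeometry TopologicalSpace Topology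

namespace Groth.Agent.Lib.H77FibTop

section FibMap

variable {X X' S S' : Scheme.{u}} {g' : X' ⟶ X} {f' : X' ⟶ S'} {f : X ⟶ S} {π : S' ⟶ S}

/-- The comparison map of topological fibres of a commutative square. -/
def fibMap (sq : CommSq g' f' f π) (s' : S') : ↥(f' ⁻¹' {s'}) → ↥(f ⁻¹' {π s'}) :=
  fun x => ⟨g' x.1, by
    have h := x.2
    simp only [Set.mem_preimage, Set.mem_singleton_iff] at h ⊢
    rw [← Scheme.Hom.comp_apply, sq.w, Scheme.Hom.comp_apply, h]⟩

@[simp]
theorem fibMap_coe (sq : CommSq g' f' f π) (s' : S') (x : ↥(f' ⁻¹' {s'})) :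
    (fibMap sq s' x : X) = g' x.1 := rfl

/-- For a cartesian square, the comparison map of topological fibres is an open quotient map. -/
theorem isOpenQuotientMap_fibMap (sq : IsPullback g' f' f π) (s' : S') :
    IsOpenQuotientMap (fibMap sq.toCommSq s') := by
  let m : f'.fiber s' ⟶ f.fiber (π s') :=
    pullback.map _ _ _ _ g' (Spec.map (π.residueFieldMap s')) π sq.w.symm (by simp)
  have hm : IsPullback m (f'.fiberToSpecResidueField s') (f.fiberToSpecResidueField (π s'))
      (Spec.map (π.residueFieldMap s')) := isPullback_fiberToSpecResidueField_of_isPullback sq s'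
  haveI : UniversallyOpen (Spec.map (π.residueFieldMap s')) := inferInstance
  haveI : Surjective (Spec.map (π.residueFieldMap s')) := by
    constructor
    intro y
    obtain ⟨z⟩ := (inferInstance : Nonempty ↥(Spec (S'.residueField s')))
    exact ⟨z, Subsingleton.elim _ _⟩
  haveI : UniversallyOpen m := MorphismProperty.of_isPullback hm.flip inferInstance
  haveI : Surjective m := MorphismProperty.of_isPullback hm.flip inferInstance
  have hmι : m ≫ f.fiberι (π s') = f'.fiberι s' ≫ g' := pullback.lift_fst _ _ _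
  have hm' : IsOpenQuotientMap m := ⟨m.surjective, m.continuous, m.isOpenMap⟩
  have e : fibMap sq.toCommSq s' = (f.fiberHomeo (π s')) ∘ m ∘ (f'.fiberHomeo s').symm := by
    funext x
    apply Subtype.ext
    rw [fibMap_coe, Function.comp_apply, Function.comp_apply, Scheme.Hom.fiberHomeo_apply,
      ← Scheme.Hom.comp_apply, hmι, Scheme.Hom.comp_apply, Scheme.Hom.fiberι_fiberHomeo_symm]
  rw [e]
  exact ((f.fiberHomeo (π s')).isOpenQuotientMap).comp
    (hm'.comp ((f'.fiberHomeo s').symm.isOpenQuotientMap))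

end FibMap

section Locus

variable (𝒬 : ∀ (F : Type u) [TopologicalSpace F], Set F → Set F → Prop)

/-- The set of `s` such that `𝒬` holds for the traces of `Z`, `Z'` on the fibre `f⁻¹(s)`. -/
def locus {X S : Scheme.{u}} (f : X ⟶ S) (Z Z' : Set X) : Set S :=
  {s | 𝒬 ↥(f ⁻¹' {s}) (Subtype.val ⁻¹' Z) (Subtype.val ⁻¹' Z')}

/-- Invariance of `𝒬` under open quotient maps. -/
def Inv : Prop :=
  ∀ {F F' : Type u} [TopologicalSpace F] [TopologicalSpace F'] (φ : F' → F),
    IsOpenQuotientMap φ → ∀ A A' : Set F, 𝒬 F' (φ ⁻¹' A) (φ ⁻¹' A') ↔ 𝒬 F A A'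

variable {𝒬}

theorem locus_eq_preimage (h𝒬 : Inv 𝒬) {X X' S S' : Scheme.{u}} {g' : X' ⟶ X} {f' : X' ⟶ S'}
    {f : X ⟶ S} {π : S' ⟶ S} (sq : IsPullback g' f' f π) (Z Z' : Set X) :
    locus 𝒬 f' (g' ⁻¹' Z) (g' ⁻¹' Z') = π ⁻¹' locus 𝒬 f Z Z' := by
  ext s'
  exact h𝒬 (fibMap sq.toCommSq s') (isOpenQuotientMap_fibMap sq s') (Subtype.val ⁻¹' Z)
    (Subtype.val ⁻¹' Z')

end Locus

section Main

open Groth.Agent.Lib.H77ConsMorTools Groth.Agent.Lib.ConsLocusGen

variable (𝒬 : ∀ (F : Type u) [TopologicalSpace F], Set F → Set F → Prop)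

/-- The generic dichotomy over integral Noetherian bases. -/
def HasDich : Prop :=
  ∀ ⦃X S : Scheme.{u}⦄ (f : X ⟶ S) [IsIntegral S] [IsNoetherian S] [LocallyOfFiniteType f]
    [QuasiCompact f] (Z Z' : Set X), IsConstructible Z → IsConstructible Z' →
    Dich (locus 𝒬 f Z Z')

variable {𝒬}

/-- Noetherian base. -/
theorem isConstructible_locus_of_isNoetherian (h𝒬 : Inv 𝒬) (hd : HasDich 𝒬) {X S : Scheme.{u}}
    [IsNoetherian S] (f : X ⟶ S) [LocallyOfFiniteType f] [QuasiCompact f] (Z Z' : Set X)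
    (hZ : IsConstructible Z) (hZ' : IsConstructible Z') : IsConstructible (locus 𝒬 f Z Z') := by
  refine isConstructible_of_forall_integral _ (fun T _ _ i _ => ?_)
  have sq : IsPullback (pullback.fst f i) (pullback.snd f i) f i := IsPullback.of_hasPullback f i
  rw [← locus_eq_preimage h𝒬 sq Z Z']
  exact hd (pullback.snd f i) _ _ ((pullback.fst f i).isConstructible_preimage hZ)
    ((pullback.fst f i).isConstructible_preimage hZ')

open Groth.Agent.Lib.LimPullback Groth.Agent.Lib.LimDescent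
  Groth.Agent.Lib.DescFP Groth.Agent.Lib.LimConstructible in
/-- Base a cofiltered limit of Noetherian schemes with affine transition maps: Noetherian
approximation. -/
theorem isConstructible_locus_of_isLimit (h𝒬 : Inv 𝒬) (hd : HasDich 𝒬)
    {I : Type u} [Category.{u} I] [IsCofiltered I] (D : I ⥤ Scheme.{u}) (c : Cone D)
    (hc : IsLimit c) [∀ {i j} (f : i ⟶ j), IsAffineHom (D.map f)]
    [∀ i, IsNoetherian (D.obj i)]
    {X : Scheme.{u}} (f : X ⟶ c.pt) [LocallyOfFinitePresentation f]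
    [QuasiCompact f] [QuasiSeparated f] (Z Z' : Set X) (hZ : IsConstructible Z)
    (hZ' : IsConstructible Z') : IsConstructible (locus 𝒬 f Z Z') := by
  obtain ⟨i, Xi, fi, g, hfi, hXic, hXiq, sq⟩ := hasModel_of_fp D c hc f
  let e := sq.isoPullback
  have hcX : IsLimit (pbCone D c i fi) := isLimitPbCone hc
  have hZ₁ : IsConstructible (e.inv ⁻¹' Z) := e.inv.isConstructible_preimage hZ
  have hZ₁' : IsConstructible (e.inv ⁻¹' Z') := e.inv.isConstructible_preimage hZ'
  obtain ⟨j, aj, Zj, hZj, hZje⟩ := exists_isConstructible_preimage_eq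
    (pbDiagram D i fi) (pbCone D c i fi) hcX (baseIdx i) (e.inv ⁻¹' Z) hZ₁
  obtain ⟨j', aj', Zj', hZj', hZje'⟩ := exists_isConstructible_preimage_eq
    (pbDiagram D i fi) (pbCone D c i fi) hcX (baseIdx i) (e.inv ⁻¹' Z') hZ₁'
  let k := IsCofiltered.min j j'
  let a : k ⟶ j := IsCofiltered.minToLeft j j'
  let a' : k ⟶ j' := IsCofiltered.minToRight j j'
  let Zk : Set ↥(pullback fi (D.map k.hom)) := (pbMap D i fi a) ⁻¹' Zj
  let Zk' : Set ↥(pullback fi (D.map k.hom)) := (pbMap D i fi a') ⁻¹' Zj'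
  have hZk : IsConstructible Zk := (pbMap D i fi a).isConstructible_preimage hZj
  have hZk' : IsConstructible Zk' := (pbMap D i fi a').isConstructible_preimage hZj'
  let p : X ⟶ pullback fi (D.map k.hom) := e.hom ≫ pbProj D c i fi k
  have sqk : IsPullback p f (pullback.snd fi (D.map k.hom)) (c.π.app k.left) := by
    have h1 := isPullback_pbProj D c i fi k
    refine IsPullback.of_iso h1 e.symm (Iso.refl _) (Iso.refl _) (Iso.refl _) ?_ ?_ ?_ ?_
    · simp [p]
    · simp [e]
    · simp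
    · simp
  have key : ∀ {j : Over i} (a : k ⟶ j) (Zj : Set ↥((pbDiagram D i fi).obj j)) (Z : Set X),
      ((pbCone D c i fi).π.app j) ⁻¹' Zj = e.inv ⁻¹' Z →
      p ⁻¹' ((pbMap D i fi a) ⁻¹' Zj) = Z := by
    intro j a Zj Z h
    have h2 : p ≫ pbMap D i fi a = e.hom ≫ pbProj D c i fi j := by
      rw [Category.assoc, pbProj_pbMap]
    ext x
    have hx : (pbMap D i fi a) (p x) = (pbProj D c i fi j) (e.hom x) := by
      rw [← Scheme.Hom.comp_apply, h2, Scheme.Hom.comp_apply]
    have hx' : e.inv (e.hom x) = x := Scheme.hom_inv_apply e x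
    have h3 : e.hom x ∈ ((pbCone D c i fi).π.app j) ⁻¹' Zj ↔ e.hom x ∈ e.inv ⁻¹' Z :=
      Set.ext_iff.mp h (e.hom x)
    change (pbProj D c i fi j) (e.hom x) ∈ Zj ↔ e.inv (e.hom x) ∈ Z at h3
    change (pbMap D i fi a) (p x) ∈ Zj ↔ x ∈ Z
    rw [hx']  at h3
    rw [← h3]
    exact hx ▸ Iff.rfl
  have e1 : p ⁻¹' Zk = Z := key a Zj Z hZje
  have e1' : p ⁻¹' Zk' = Z' := key a' Zj' Z' hZje'
  rw [← e1, ← e1', locus_eq_preimage h𝒬 sqk]
  refine (c.π.app k.left).isConstructible_preimage ?_
  haveI : CompactSpace ↥(pullback fi (D.map k.hom)) := compactSpace_pb D i fi k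
  exact isConstructible_locus_of_isNoetherian h𝒬 hd (pullback.snd fi (D.map k.hom)) Zk Zk'
    hZk hZk'

open Groth.Agent.Lib.FGSubalgLimitU in
/-- Base `Spec A`. -/
theorem isConstructible_locus_Spec (h𝒬 : Inv 𝒬) (hd : HasDich 𝒬) (A : Type u) [CommRing A]
    {X : Scheme.{u}} (f : X ⟶ Spec (CommRingCat.of A)) [LocallyOfFinitePresentation f]
    [QuasiCompact f] [QuasiSeparated f] (Z Z' : Set X) (hZ : IsConstructible Z)
    (hZ' : IsConstructible Z') : IsConstructible (locus 𝒬 f Z Z') := by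
  haveI : ∀ {i j : (FGSub ℤ A)ᵒᵖ} (φ : i ⟶ j), IsAffineHom ((D ℤ A).map φ) :=
    fun φ => inferInstance
  haveI : ∀ i, CompactSpace ((D ℤ A).obj i) := fun i =>
    (inferInstance : CompactSpace (Spec (CommRingCat.of i.unop.1)))
  haveI : ∀ i, QuasiSeparatedSpace ((D ℤ A).obj i) := fun i =>
    (inferInstance : QuasiSeparatedSpace (Spec (CommRingCat.of i.unop.1)))
  haveI : ∀ i, IsNoetherian ((D ℤ A).obj i) := fun i => inferInstance
  have key : ∀ (f' : X ⟶ (cone ℤ A).pt) [LocallyOfFinitePresentation f'] [QuasiCompact f']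
      [QuasiSeparated f'], IsConstructible (locus 𝒬 f' Z Z') := by
    intro f' _ _ _
    exact isConstructible_locus_of_isLimit h𝒬 hd (D ℤ A) (cone ℤ A) (isLimitCone ℤ A) f' Z Z' hZ hZ'
  exact @key f ‹_› ‹_› ‹_›

/-- **General base**: the locus is locally constructible. -/
theorem isLocallyConstructible_locus (h𝒬 : Inv 𝒬) (hd : HasDich 𝒬) {X S : Scheme.{u}} (f : X ⟶ S)
    [LocallyOfFinitePresentation f] [QuasiCompact f] [QuasiSeparated f] (Z Z' : Set X)
    (hZ : IsLocallyConstructible Z) (hZ' : IsLocallyConstructible Z') :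
    IsLocallyConstructible (locus 𝒬 f Z Z') := by
  refine isLocallyConstructible_of_affine _ (fun U hU => ?_)
  have e1 : U.ι ⁻¹' locus 𝒬 f Z Z' = hU.isoSpec.hom ⁻¹' (hU.fromSpec ⁻¹' locus 𝒬 f Z Z') := by
    ext x
    change U.ι x ∈ locus 𝒬 f Z Z' ↔ hU.fromSpec (hU.isoSpec.hom x) ∈ locus 𝒬 f Z Z'
    rw [← Scheme.Hom.comp_apply, hU.isoSpec_hom_fromSpec]
  rw [e1]
  refine hU.isoSpec.hom.isConstructible_preimage ?_
  have sq : IsPullback (pullback.fst f hU.fromSpec) (pullback.snd f hU.fromSpec) f hU.fromSpec :=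
    IsPullback.of_hasPullback f hU.fromSpec
  rw [← locus_eq_preimage h𝒬 sq Z Z']
  haveI : CompactSpace ↥(pullback f hU.fromSpec) :=
    QuasiCompact.compactSpace_of_compactSpace (pullback.snd f hU.fromSpec)
  haveI : QuasiSeparatedSpace ↥(pullback f hU.fromSpec) :=
    quasiSeparatedSpace_of_quasiSeparated (pullback.snd f hU.fromSpec)
  have hZc : IsConstructible ((pullback.fst f hU.fromSpec) ⁻¹' Z) :=
    (Groth.Agent.Lib.ConsTop.isLocallyConstructible_preimage _ hZ).isConstructible
  have hZc' : IsConstructible ((pullback.fst f hU.fromSpec) ⁻¹' Z') :=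
    (Groth.Agent.Lib.ConsTop.isLocallyConstructible_preimage _ hZ').isConstructible
  exact isConstructible_locus_Spec h𝒬 hd Γ(S, U) (pullback.snd f hU.fromSpec) _ _ hZc hZc'

end Main

end Groth.Agent.Lib.H77FibTop
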