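import Groth.Agent.Lib.H77FibTop
import Groth.Agent.Lib.H77FibClosure2
import Groth.Agent.Lib.H77FibImmersion

/-!
# Constructibility of fibrewise closedness / openness / local closedness / density (helper77)

EGA IV 9.5.3 / 9.5.4: for `f : X ⟶ S` of finite presentation and `Z, Z' ⊆ X` locally constructible,
the sets of `s ∈ S` such that `Z ∩ X_s` is closed (resp. open, locally closed) in `X_s`, resp. such
that `Z ∩ X_s` is dense in `Z' ∩ X_s`, are locally constructible.
-/

set_option autoImplicit false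
set_option linter.style.haveILetI false
universe u
open CategoryTheory Limits AlgebraicGeometry TopologicalSpace Topology

namespace Groth.Agent.Lib.H77FibTopCons

open Groth.Agent.Lib.H77FibTop Groth.Agent.Lib.H77ConsMorTools Groth.Agent.Lib.H77FibClosure
  Groth.Agent.Lib.H77FibSeparated

/-- Closedness of the first set. -/
def QClosed : ∀ (F : Type u) [TopologicalSpace F], Set F → Set F → Prop := fun _ _ A _ => IsClosed A

/-- Local closedness of the first set. -/
def QLC : ∀ (F : Type u) [TopologicalSpace F], Set F → Set F → Prop :=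
  fun _ _ A _ => IsLocallyClosed A

/-- The second set is contained in the closure of the first set. -/
def QDense : ∀ (F : Type u) [TopologicalSpace F], Set F → Set F → Prop :=
  fun _ _ A A' => A' ⊆ closure A

theorem inv_QClosed : Inv QClosed := fun _ hφ _ _ => hφ.isQuotientMap.isClosed_preimage

theorem inv_QLC : Inv QLC := fun φ hφ A _ =>
  ⟨fun h => Groth.Agent.Lib.H77FibImmersion.isLocallyClosed_of_preimage φ hφ.continuous
    hφ.isOpenMap hφ.surjective A h, fun h => h.preimage hφ.continuous⟩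

theorem inv_QDense : Inv QDense := by
  intro F F' _ _ φ hφ A A'
  change φ ⁻¹' A' ⊆ closure (φ ⁻¹' A) ↔ A' ⊆ closure A
  rw [← hφ.isOpenMap.preimage_closure_eq_closure_preimage hφ.continuous]
  exact hφ.surjective.preimage_subset_preimage_iff

theorem dich_of_opens {S : Scheme.{u}} [IsIntegral S] (E : Set S) (V : S.Opens)
    (hη : genericPoint S ∈ V) (h : (∀ y ∈ V, y ∈ E) ∨ (∀ y ∈ V, y ∉ E)) : Dich E := by
  rw [dich_iff]
  rcases h with h | h
  · exact Or.inl (mem_interior.mpr ⟨V, fun y hy => h y hy, V.isOpen, hη⟩)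
  · exact Or.inr (mem_interior.mpr ⟨V, fun y hy => h y hy, V.isOpen, hη⟩)

variable {X S : Scheme.{u}} (f : X ⟶ S)

theorem mem_locus_QClosed_iff (Z Z' : Set X) (s : S) :
    s ∈ locus QClosed f Z Z' ↔ closure (Z ∩ f ⁻¹' {s}) ∩ f ⁻¹' {s} ⊆ Z := by
  change IsClosed (Subtype.val ⁻¹' Z : Set ↥(f ⁻¹' {s})) ↔ _
  rw [isClosed_preimage_iff_of_isInducing Subtype.val IsInducing.subtypeVal, Subtype.range_val]

theorem mem_locus_QDense_iff (Z Z' : Set X) (s : S) :
    s ∈ locus QDense f Z Z' ↔ Z' ∩ f ⁻¹' {s} ⊆ closure (Z ∩ f ⁻¹' {s}) := by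
  change (Subtype.val ⁻¹' Z' : Set ↥(f ⁻¹' {s})) ⊆ closure (Subtype.val ⁻¹' Z) ↔ _
  rw [IsInducing.subtypeVal.closure_eq_preimage_closure_image, Subtype.image_preimage_coe,
    Set.inter_comm Z]
  constructor
  · rintro h x ⟨hx, hxs⟩
    exact h (a := ⟨x, hxs⟩) hx
  · rintro h ⟨x, hxs⟩ hx
    exact h ⟨hx, hxs⟩

theorem hasDich_QClosed : HasDich QClosed := by
  intro X S f _ _ _ _ Z Z' hZ _
  obtain ⟨V, hη, h⟩ := exists_opens_fiber_closed_constructible f Z hZ
  refine dich_of_opens _ V hη ?_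
  rcases h with h | h
  · exact Or.inl fun y hy => (mem_locus_QClosed_iff f Z Z' y).mpr (h y hy)
  · exact Or.inr fun y hy hc => h y hy ((mem_locus_QClosed_iff f Z Z' y).mp hc)

theorem hasDich_QLC : HasDich QLC := by
  intro X S f _ _ _ _ Z Z' hZ _
  obtain ⟨V, hη, h⟩ := exists_opens_locallyClosed f Z hZ
  refine dich_of_opens _ V hη ?_
  rcases h with h | ⟨O, hO, h1, h2⟩
  · refine Or.inr fun y hy hc => ?_
    exact h y hy (F := ↥(f ⁻¹' {y})) Subtype.val IsInducing.subtypeVal Subtype.range_val hc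
  · refine Or.inl fun y hy => ?_
    change IsLocallyClosed (Subtype.val ⁻¹' Z : Set ↥(f ⁻¹' {y}))
    have e : (Subtype.val ⁻¹' Z : Set ↥(f ⁻¹' {y})) =
        Subtype.val ⁻¹' O ∩ Subtype.val ⁻¹' (closure Z) := by
      ext ⟨x, hx⟩
      simp only [Set.mem_preimage, Set.mem_inter_iff]
      constructor
      · intro hxZ
        refine ⟨h1 ⟨hxZ, ?_⟩, subset_closure hxZ⟩
        have : f x = y := hx
        change f x ∈ (V : Set S)
        rw [this]
        exact hy
      · rintro ⟨hxO, hxc⟩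
        exact h2 ⟨hxc, hxO⟩
    rw [e]
    exact ((hO.preimage continuous_subtype_val).isLocallyClosed).inter
      ((isClosed_closure.preimage continuous_subtype_val).isLocallyClosed)

theorem hasDich_QDense : HasDich QDense := by
  intro X S f _ _ _ _ Z Z' hZ hZ'
  haveI := noetherianSpace_of_finiteType f
  obtain ⟨V₁, hη₁, h₁⟩ := exists_opens_closure_constructible f Z hZ
  have hD : IsConstructible (Z' \ closure Z) :=
    hZ'.sdiff (Groth.Agent.Lib.ConstrTop.isConstructible_of_isClosed isClosed_closure)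
  obtain ⟨V₂, hη₂, h₂⟩ := exists_opens_constructible_inter_fiber f _ hD
  refine dich_of_opens _ (V₁ ⊓ V₂) ⟨hη₁, hη₂⟩ ?_
  rcases h₂ with h₂ | h₂
  · refine Or.inl ?_
    rintro y ⟨hy₁, hy₂⟩
    rw [mem_locus_QDense_iff]
    rintro x ⟨hx, hxy⟩
    refine h₁ y hy₁ ⟨?_, hxy⟩
    by_contra hxc
    exact (Set.eq_empty_iff_forall_notMem.mp (h₂ y hy₂) x) ⟨⟨hx, hxc⟩, hxy⟩
  · refine Or.inr ?_
    rintro y ⟨hy₁, hy₂⟩ hc
    rw [mem_locus_QDense_iff] at hc
    obtain ⟨x, ⟨hx, hxc⟩, hxy⟩ := h₂ y hy₂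
    exact hxc (closure_mono Set.inter_subset_left (hc ⟨hx, hxy⟩))

variable [LocallyOfFinitePresentation f] [QuasiCompact f] [QuasiSeparated f]

/-- **EGA IV 9.5.3**: fibrewise density is locally constructible on the base. -/
theorem isLocallyConstructible_setOf_fibre_dense (Z Z' : Set X) (hZ : IsLocallyConstructible Z)
    (hZ' : IsLocallyConstructible Z') :
    IsLocallyConstructible {s : S | Z' ∩ f ⁻¹' {s} ⊆ closure (Z ∩ f ⁻¹' {s})} := by
  have e : {s : S | Z' ∩ f ⁻¹' {s} ⊆ closure (Z ∩ f ⁻¹' {s})} = locus QDense f Z Z' := by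
    ext s
    exact (mem_locus_QDense_iff f Z Z' s).symm
  rw [e]
  exact isLocallyConstructible_locus inv_QDense hasDich_QDense f Z Z' hZ hZ'

/-- **EGA IV 9.5.4**: fibrewise closedness is locally constructible on the base. -/
theorem isLocallyConstructible_setOf_fibre_isClosed (Z : Set X) (hZ : IsLocallyConstructible Z) :
    IsLocallyConstructible {s : S | IsClosed (Subtype.val ⁻¹' Z : Set ↥(f ⁻¹' {s}))} :=
  isLocallyConstructible_locus inv_QClosed hasDich_QClosed f Z Z hZ hZ

/-- **EGA IV 9.5.4**: fibrewise openness is locally constructible on the base. -/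
theorem isLocallyConstructible_setOf_fibre_isOpen (Z : Set X) (hZ : IsLocallyConstructible Z) :
    IsLocallyConstructible {s : S | IsOpen (Subtype.val ⁻¹' Z : Set ↥(f ⁻¹' {s}))} := by
  have e : {s : S | IsOpen (Subtype.val ⁻¹' Z : Set ↥(f ⁻¹' {s}))} =
      {s : S | IsClosed (Subtype.val ⁻¹' Zᶜ : Set ↥(f ⁻¹' {s}))} := by
    ext s
    simp only [Set.mem_setOf_eq, Set.preimage_compl, isClosed_compl_iff]
  rw [e]
  exact isLocallyConstructible_setOf_fibre_isClosed f Zᶜ
    (Groth.Agent.Lib.ConsTop.isLocallyConstructible_compl hZ)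

/-- **EGA IV 9.5.4**: fibrewise local closedness is locally constructible on the base. -/
theorem isLocallyConstructible_setOf_fibre_isLocallyClosed (Z : Set X)
    (hZ : IsLocallyConstructible Z) :
    IsLocallyConstructible {s : S | IsLocallyClosed (Subtype.val ⁻¹' Z : Set ↥(f ⁻¹' {s}))} :=
  isLocallyConstructible_locus inv_QLC hasDich_QLC f Z Z hZ hZ

end Groth.Agent.Lib.H77FibTopCons
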