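import Groth.Agent.S4649
import Groth.Agent.Lib.GeomFibBC13
import Groth.Agent.Lib.H77GeomRedCons
import Groth.Agent.Lib.H77GeomCountCons

/-!
# Fibres which are geometrically pointwise integral (helper77)

* `card_eq_of_isPullback`: base change along an extension of a separably closed field does not
  change the number of irreducible / connected components;
* `forall_geomPtIntegral_iff`: the fibre `X_s` is geometrically pointwise integral iff it is
  geometrically reduced and its geometric numbers of irreducible and connected components agree;
* `isLocallyConstructible_geomPtIntegralFiber` (EGA IV 9.7.7-type statement).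
-/

set_option autoImplicit false
set_option linter.style.haveILetI false
universe u
open CategoryTheory Limits AlgebraicGeometry Topology

namespace Groth.Agent.Lib.H77GPIFib

open Groth.Agent.Lib.H77GeomRedSch

/-- base change along an extension `k → K` with `k` separably closed preserves the number of
irreducible components and the number of connected components -/
theorem card_eq_of_isPullback {k K : Type u} [Field k] [Field K] [IsSepClosed k] (φ : k →+* K)
    {X X' : Scheme.{u}} {a : X ⟶ Spec (CommRingCat.of k)} {b : X' ⟶ Spec (CommRingCat.of K)}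
    {p : X' ⟶ X} (hp : IsPullback p b a (Spec.map (CommRingCat.ofHom φ))) :
    (irreducibleComponents ↥X').encard = (irreducibleComponents ↥X).encard ∧
      ENat.card (_root_.ConnectedComponents ↥X') = ENat.card (_root_.ConnectedComponents ↥X) := by
  have h3 : UniversallyOpen (Spec.map (CommRingCat.ofHom φ)) := inferInstance
  have h4 : UniversallyOpen p := MorphismProperty.of_isPullback hp.flip h3
  constructor
  · have h1 : GeometricallyIrreducible (Spec.map (CommRingCat.ofHom φ)) :=
      Groth.Agent.Lib.H71SepClosedGeom.geometricallyIrreducible_of_irreducibleSpace _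
    have h2 : GeometricallyIrreducible p := MorphismProperty.of_isPullback hp.flip h1
    exact Set.encard_congr (p.irreducibleComponentsEquiv p.isOpenMap)
  · have h1 : GeometricallyConnected (Spec.map (CommRingCat.ofHom φ)) :=
      Groth.Agent.Lib.H71SepClosedGeom.geometricallyConnected_of_connectedSpace _
    have h2 : GeometricallyConnected p := MorphismProperty.of_isPullback hp.flip h1
    exact ENat.card_congr (p.connectedComponentsHomeomorph p.isOpenMap).toEquiv

/-- for a scheme of finite type over a field: the numbers of irreducible and connected components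
of the base change to an algebraic closure agree iff they agree over a separable closure -/
theorem natCard_eq_iff {k : Type u} [Field k] {X : Scheme.{u}}
    (f : X ⟶ Spec (CommRingCat.of k)) [LocallyOfFiniteType f] [QuasiCompact f] :
    Nat.card ↥(irreducibleComponents ↥(FBase.bc f (AlgebraicClosure k))) =
        Nat.card (_root_.ConnectedComponents ↥(FBase.bc f (AlgebraicClosure k))) ↔
      (irreducibleComponents ↥(pullback f (Spec.map (CommRingCat.ofHom
          (algebraMap k (SeparableClosure k)))))).encard =
        ENat.card (_root_.ConnectedComponents ↥(pullback f (Spec.map (CommRingCat.ofHom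
          (algebraMap k (SeparableClosure k)))))) := by
  set Ω := AlgebraicClosure k
  set ks := SeparableClosure k
  set q := Spec.map (CommRingCat.ofHom (algebraMap k Ω)) with hq
  set qs := Spec.map (CommRingCat.ofHom (algebraMap k ks)) with hqs
  let φ : ks →+* Ω := algebraMap ks Ω
  have hφ : φ.comp (algebraMap k ks) = algebraMap k Ω := by
    ext x
    exact (IsScalarTower.algebraMap_apply k ks Ω x).symm
  -- Noetherianity of the base change to `Ω`
  haveI hlft : LocallyOfFiniteType (pullback.snd f q) :=
    MorphismProperty.pullback_snd _ _ inferInstance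
  haveI hlN : IsLocallyNoetherian (pullback f q) :=
    LocallyOfFiniteType.isLocallyNoetherian (pullback.snd f q)
  haveI hcomp : CompactSpace ↥(pullback f q) := inferInstance
  haveI hN : IsNoetherian (pullback f q) := {}
  haveI hNS : TopologicalSpace.NoetherianSpace ↥(FBase.bc f Ω) :=
    inferInstanceAs (TopologicalSpace.NoetherianSpace ↥(pullback f q))
  haveI hfin1 : Finite ↥(irreducibleComponents ↥(FBase.bc f Ω)) :=
    (TopologicalSpace.NoetherianSpace.finite_irreducibleComponents).to_subtype
  haveI hfin2 : Finite (_root_.ConnectedComponents ↥(FBase.bc f Ω)) :=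
    Finite.of_surjective Groth.Agent.Lib.H71IrrConnCard.toConn
      Groth.Agent.Lib.H71IrrConnCard.toConn_surjective
  -- the pullback square
  have hA := IsPullback.of_hasPullback f q
  have hC := IsPullback.of_hasPullback f qs
  have hbot : q = Spec.map (CommRingCat.ofHom φ) ≫ qs := by
    rw [hq, hqs, ← Spec.map_comp]
    congr 1
  have hw : pullback.fst f q ≫ f = (pullback.snd f q ≫ Spec.map (CommRingCat.ofHom φ)) ≫ qs := by
    rw [Category.assoc, ← hbot]
    exact hA.w
  have hsq : IsPullback (hC.lift _ _ hw) (pullback.snd f q) (pullback.snd f qs)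
      (Spec.map (CommRingCat.ofHom φ)) := by
    refine IsPullback.of_right ?_ (hC.lift_snd _ _ hw) hC
    exact Groth.Agent.Lib.GeomFibBC13.isPullback_congr (hC.lift_fst _ _ hw) hbot.symm hA
  obtain ⟨e1, e2⟩ := card_eq_of_isPullback φ hsq
  rw [← e1, ← e2]
  change _ ↔ (irreducibleComponents ↥(FBase.bc f Ω)).encard =
    ENat.card (_root_.ConnectedComponents ↥(FBase.bc f Ω))
  rw [Set.encard, ENat.card_eq_coe_natCard, ENat.card_eq_coe_natCard, Nat.cast_inj]

/-- the fibre is geometrically pointwise integral iff it is geometrically reduced and the numbers of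
geometric irreducible and geometric connected components agree -/
theorem forall_geomPtIntegral_iff {X S : Scheme.{u}} (f : X ⟶ S) [LocallyOfFiniteType f]
    [QuasiCompact f] (s : S) :
    (∀ x : ↥(f.fiber s), FBase.IsGeomPtIntegralAt (f.fiberToSpecResidueField s) x) ↔
      GRF f s ∧ MoreMor.nGeomIrredComp f s = MoreMor.nGeomConnComp f s := by
  haveI : LocallyOfFiniteType (f.fiberToSpecResidueField s) :=
    MorphismProperty.pullback_snd _ _ inferInstance
  haveI : QuasiCompact (f.fiberToSpecResidueField s) :=
    MorphismProperty.pullback_snd _ _ inferInstance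
  have h := Groth.Agent.S4649.result (k := ↑(S.residueField s))
    (Ω := AlgebraicClosure ↑(S.residueField s)) (f.fiberToSpecResidueField s)
  have h' := natCard_eq_iff (k := ↑(S.residueField s)) (f.fiberToSpecResidueField s)
  exact h.trans (and_congr Iff.rfl h')

/-- the locus of points whose fibre is geometrically pointwise integral is locally constructible -/
theorem isLocallyConstructible_geomPtIntegralFiber {X S : Scheme.{u}} (f : X ⟶ S)
    [LocallyOfFinitePresentation f] [QuasiCompact f] [QuasiSeparated f] :
    IsLocallyConstructible {s : S |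
      ∀ x : ↥(f.fiber s), FBase.IsGeomPtIntegralAt (f.fiberToSpecResidueField s) x} := by
  have h1 : IsLocallyConstructible {y : S | GRF f y} :=
    Groth.Agent.Lib.H77GeomRedCons.isLocallyConstructible_geomRedFiber f
  have h2 : IsLocallyConstructible
      {y : S | (MoreMor.nGeomIrredComp f y = MoreMor.nGeomConnComp f y) = True} :=
    Groth.Agent.Lib.H77GeomCountCons.isLocallyConstructible_of_invariant
      (fun _ _ f y => (MoreMor.nGeomIrredComp f y = MoreMor.nGeomConnComp f y : Prop))
      (fun _ _ _ _ _ _ _ _ hc y' => by
        rw [Groth.Agent.Lib.GeomFibBC13.nGeomIrredComp_eq hc y',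
          Groth.Agent.Lib.GeomFibBC13.nGeomConnComp_eq hc y'])
      (fun _ Y f _ _ _ => by
        obtain ⟨V₁, h1, hV₁⟩ := Groth.Agent.Lib.H77GeomCountMain.exists_opens_nGeomIrredComp_eq f
        obtain ⟨V₂, h2, hV₂⟩ := Groth.Agent.Lib.H77GeomCountMain.exists_opens_nGeomConnComp_eq f
        refine ⟨V₁ ⊓ V₂, ⟨h1, h2⟩, fun y hy => ?_⟩
        rw [hV₁ y hy.1, hV₂ y hy.2]) f True
  have e : {s : S | ∀ x : ↥(f.fiber s),
        FBase.IsGeomPtIntegralAt (f.fiberToSpecResidueField s) x} =
      {y : S | GRF f y} ∩
        {y : S | (MoreMor.nGeomIrredComp f y = MoreMor.nGeomConnComp f y) = True} := by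
    ext s
    simp only [Set.mem_ofPred_eq, Set.mem_inter_iff, eq_iff_iff, iff_true]
    exact forall_geomPtIntegral_iff f s
  rw [e]
  exact h1.inter h2

end Groth.Agent.Lib.H77GPIFib
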