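import Mathlib
import Groth.Agent.Lib.H77GenFreeMain
import Groth.Agent.Lib.H77FibreLocal

/-!
For a finite type morphism `f : X ⟶ Y` with `Y` irreducible with generic point `η`, there is a
nonempty open `V ⊆ Y` with `f⁻¹(V) ⊆ closure (f⁻¹{η})`: near the generic point everything is in
the closure of the generic fibre (torsion is killed by a single element, by generic freeness).
-/

namespace Groth.Agent.Lib.H77GenClosure

open Groth.Agent.Lib.H77GenFree

universe u

set_option linter.style.haveILetI false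

section Algebra

variable {R A : Type u} [CommRing R] [CommRing A] [Algebra R A] [Algebra.FiniteType R A]

/-- **Uniform torsion bound**: there is `g ∉ 𝔭` such that any `a` with `t a ∈ 𝔭A` for some
`t ∉ 𝔭` satisfies `g ^ k a ∈ 𝔭A` for some `k`. -/
theorem exists_notMem_forall_pow_smul_mem (𝔭 : Ideal R) [𝔭.IsPrime] :
    ∃ g : R, g ∉ 𝔭 ∧ ∀ (a : A) (t : R), t ∉ 𝔭 → t • a ∈ 𝔭.map (algebraMap R A) →
      ∃ k : ℕ, g ^ k • a ∈ 𝔭.map (algebraMap R A) := by
  let R' := R ⧸ 𝔭
  let A' := A ⧸ 𝔭.map (algebraMap R A)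
  haveI : Algebra.FiniteType R' A' := Algebra.FiniteType.of_restrictScalars_finiteType R R' A'
  obtain ⟨g', hg', s, hs⟩ := genFree_of_finiteType (R := R') A' A'
  obtain ⟨g, rfl⟩ := Ideal.Quotient.mk_surjective g'
  have hg : g ∉ 𝔭 := fun hh => hg' (Ideal.Quotient.eq_zero_iff_mem.mpr hh)
  refine ⟨g, hg, fun a t ht hta => ?_⟩
  let a' : A' := Ideal.Quotient.mk _ a
  obtain ⟨k, hk⟩ := hs.span a'
  obtain ⟨l, hl⟩ := (Finsupp.mem_span_range_iff_exists_finsupp).mp hk
  have ht' : Ideal.Quotient.mk 𝔭 t ≠ 0 := fun hh => ht (Ideal.Quotient.eq_zero_iff_mem.mp hh)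
  have h1 : Ideal.Quotient.mk 𝔭 t • a' = 0 := by
    have : Ideal.Quotient.mk (𝔭.map (algebraMap R A)) (t • a) = 0 :=
      Ideal.Quotient.eq_zero_iff_mem.mpr hta
    rw [Algebra.smul_def, map_mul] at this
    rw [Algebra.smul_def]
    exact this
  have h2 : Finsupp.linearCombination R' (fun x : s => (x : A')) (Ideal.Quotient.mk 𝔭 t • l) = 0 := by
    rw [map_smul, Finsupp.linearCombination_apply, hl, smul_comm, h1, smul_zero]
  have h3 := hs.indep _ ⟨0, by rw [pow_zero, one_smul]; exact h2⟩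
  have h4 : l = 0 := by
    ext j
    have := DFunLike.congr_fun h3 j
    simpa [ht'] using this
  refine ⟨k, ?_⟩
  rw [h4] at hl
  have h5 : Ideal.Quotient.mk 𝔭 g ^ k • a' = 0 := by rw [← hl]; simp
  rw [← Ideal.Quotient.eq_zero_iff_mem, Algebra.smul_def, map_mul]
  rw [← map_pow, Algebra.smul_def] at h5
  exact h5

/-- Points of `Spec A` over `V(𝔭) ∩ D(g)` lie in the closure of the fibre over `𝔭`. -/
theorem exists_notMem_forall_mem_closure_fiber (𝔭 : PrimeSpectrum R) :
    ∃ g : R, g ∉ 𝔭.asIdeal ∧ ∀ x : PrimeSpectrum A,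
      𝔭.asIdeal ≤ (PrimeSpectrum.comap (algebraMap R A) x).asIdeal →
      g ∉ (PrimeSpectrum.comap (algebraMap R A) x).asIdeal →
        x ∈ closure (PrimeSpectrum.comap (algebraMap R A) ⁻¹' {𝔭}) := by
  obtain ⟨g, hg, hgA⟩ := exists_notMem_forall_pow_smul_mem (A := A) 𝔭.asIdeal
  refine ⟨g, hg, fun x h𝔭x hgx => ?_⟩
  rw [(PrimeSpectrum.isTopologicalBasis_basic_opens).mem_closure_iff]
  rintro _ ⟨a, rfl⟩ hxa
  let J : Ideal A := 𝔭.asIdeal.map (algebraMap R A)
  let M : Submonoid A := Submonoid.powers a ⊔ 𝔭.asIdeal.primeCompl.map (algebraMap R A)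
  have hJx : J ≤ x.asIdeal := by
    rw [Ideal.map_le_iff_le_comap]
    exact h𝔭x
  have hd : Disjoint (J : Set A) M := by
    rw [Set.disjoint_left]
    intro z hzJ hzM
    obtain ⟨b, hb, c, hc, rfl⟩ := Submonoid.mem_sup.mp hzM
    obtain ⟨n, rfl⟩ := hb
    obtain ⟨t, ht, rfl⟩ := hc
    have h1 : t • a ^ n ∈ J := by
      rw [Algebra.smul_def, mul_comm]
      exact hzJ
    obtain ⟨k, hk⟩ := hgA (a ^ n) t ht h1
    have h2 : g ^ k • a ^ n ∈ x.asIdeal := hJx hk
    rw [Algebra.smul_def] at h2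
    rcases x.isPrime.mem_or_mem h2 with h3 | h3
    · rw [map_pow] at h3
      exact hgx (x.isPrime.mem_of_pow_mem k h3)
    · exact hxa (x.isPrime.mem_of_pow_mem n h3)
  obtain ⟨Q, hQ, hJQ, hQM⟩ := Ideal.exists_le_prime_disjoint J M hd
  refine ⟨⟨Q, hQ⟩, ?_, ?_⟩
  · intro h
    exact Set.disjoint_left.mp hQM h (Submonoid.mem_sup_left (Submonoid.mem_powers a))
  · rw [Set.mem_preimage, Set.mem_singleton_iff]
    ext r
    constructor
    · intro hr
      by_contra hr𝔭
      exact Set.disjoint_left.mp hQM hr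
        (Submonoid.mem_sup_right (Submonoid.mem_map_of_mem _ hr𝔭))
    · intro hr
      exact hJQ (Ideal.mem_map_of_mem _ hr)

end Algebra


section Scheme

open AlgebraicGeometry CategoryTheory Limits Groth.Agent.Lib.H77FibreLocal

/-- affine source and target -/
theorem exists_basicOpen_spec {R A : CommRingCat.{u}} (φ : R ⟶ A) (hφ : φ.hom.FiniteType)
    (η : PrimeSpectrum R) (hη : ∀ y : PrimeSpectrum R, η.asIdeal ≤ y.asIdeal) :
    ∃ g : R, g ∉ η.asIdeal ∧ ∀ x : Spec A, (Spec.map φ) x ∈ PrimeSpectrum.basicOpen g →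
      x ∈ closure ((Spec.map φ) ⁻¹' {η}) := by
  letI := φ.hom.toAlgebra
  haveI : Algebra.FiniteType R A := hφ
  obtain ⟨g, hg, hgx⟩ := exists_notMem_forall_mem_closure_fiber (A := A) η
  refine ⟨g, hg, fun x hx => ?_⟩
  exact hgx x (hη _) hx

/-- affine target -/
theorem exists_basicOpen_affine_base (R : CommRingCat.{u}) [IrreducibleSpace (Spec R)]
    {X : Scheme.{u}} (f : X ⟶ Spec R) [LocallyOfFiniteType f] [QuasiCompact f] :
    ∃ g : R, g ∉ (genericPoint (Spec R) : PrimeSpectrum R).asIdeal ∧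
      ∀ x : X, f x ∈ PrimeSpectrum.basicOpen g →
        x ∈ closure (f ⁻¹' {genericPoint (Spec R)}) := by
  classical
  set η : PrimeSpectrum R := genericPoint (Spec R) with hη
  have key : ∀ i : X.affineOpenCover.I₀, ∃ g : R, g ∉ η.asIdeal ∧
      ∀ x : Spec (X.affineOpenCover.X i),
        (X.affineOpenCover.f i ≫ f) x ∈ PrimeSpectrum.basicOpen g →
        x ∈ closure ((X.affineOpenCover.f i ≫ f) ⁻¹' {η}) := by
    intro i
    haveI : IsOpenImmersion (X.affineOpenCover.f i) := X.affineOpenCover.openCover.map_prop i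
    haveI : LocallyOfFiniteType (X.affineOpenCover.f i ≫ f) := inferInstance
    obtain ⟨φ, hφ⟩ := Spec.map_surjective (X.affineOpenCover.f i ≫ f)
    have hft : φ.hom.FiniteType := by
      rw [← HasRingHomProperty.Spec_iff (P := @LocallyOfFiniteType), hφ]
      infer_instance
    rw [← hφ]
    exact exists_basicOpen_spec φ hft η (genericPoint_asIdeal_le R)
  choose g hg1 hg2 using key
  haveI : CompactSpace X := QuasiCompact.compactSpace_of_compactSpace f
  obtain ⟨t, ht⟩ := isCompact_univ.elim_finite_subcover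
    (fun i : X.affineOpenCover.I₀ => Set.range (X.affineOpenCover.f i))
    (fun i => (X.affineOpenCover.openCover.map_prop i).base_open.isOpen_range)
    (fun x _ => by
      obtain ⟨i, y, hy⟩ := X.affineOpenCover.openCover.exists_eq x
      exact Set.mem_iUnion.mpr ⟨i, y, hy⟩)
  refine ⟨∏ i ∈ t, g i, ?_, fun x hx => ?_⟩
  · rw [Ideal.IsPrime.prod_mem_iff]
    rintro ⟨i, -, hi⟩
    exact hg1 i hi
  · have hxt := ht (Set.mem_univ x)
    simp only [Set.mem_iUnion] at hxt
    obtain ⟨i, hit, xi, rfl⟩ := hxt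
    have h1 : (X.affineOpenCover.f i ≫ f) xi ∈ PrimeSpectrum.basicOpen (g i) := by
      have hx' : (X.affineOpenCover.f i ≫ f) xi ∈ PrimeSpectrum.basicOpen (∏ j ∈ t, g j) := hx
      obtain ⟨P, hP⟩ : ∃ P : PrimeSpectrum R, P = (X.affineOpenCover.f i ≫ f) xi := ⟨_, rfl⟩
      rw [← hP] at hx' ⊢
      intro hmem
      exact hx' ((Ideal.IsPrime.prod_mem_iff).mpr ⟨i, hit, hmem⟩)
    have h3 := hg2 i xi h1
    have h4 : X.affineOpenCover.f i xi ∈
        closure (X.affineOpenCover.f i '' ((X.affineOpenCover.f i ≫ f) ⁻¹' {η})) :=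
      image_closure_subset_closure_image (X.affineOpenCover.f i).continuous
        (Set.mem_image_of_mem _ h3)
    refine closure_mono ?_ h4
    rintro _ ⟨z, hz, rfl⟩
    exact hz

/-- **Near the generic point everything lies in the closure of the generic fibre.** -/
theorem exists_opens_preimage_subset_closure {X Y : Scheme.{u}} (f : X ⟶ Y) [IrreducibleSpace Y]
    [LocallyOfFiniteType f] [QuasiCompact f] :
    ∃ V : Y.Opens, genericPoint Y ∈ V ∧
      f ⁻¹' (V : Set Y) ⊆ closure (f ⁻¹' {genericPoint Y}) := by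
  obtain ⟨i, η', hη'⟩ := Y.affineOpenCover.openCover.exists_eq (genericPoint Y)
  let R : CommRingCat.{u} := Y.affineOpenCover.X i
  let j : Spec R ⟶ Y := Y.affineOpenCover.f i
  haveI : IsOpenImmersion j := Y.affineOpenCover.openCover.map_prop i
  haveI : Nonempty (Spec R) := ⟨η'⟩
  haveI : IrreducibleSpace (Spec R) := irreducibleSpace_of_isOpenImmersion j
  have hgen : j (genericPoint (Spec R)) = genericPoint Y :=
    genericPoint_eq_of_isOpenImmersion j
  let f' := pullback.snd f j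
  let j' := pullback.fst f j
  obtain ⟨g, hg, hgx⟩ := exists_basicOpen_affine_base R f'
  refine ⟨j ''ᵁ PrimeSpectrum.basicOpen g, ⟨genericPoint (Spec R), hg, hgen⟩, ?_⟩
  rintro x ⟨y', hy', hxy⟩
  have hxr : x ∈ Set.range j' := by
    rw [Scheme.Pullback.range_fst]
    exact ⟨y', hxy⟩
  obtain ⟨x', rfl⟩ := hxr
  have hcomm : ∀ z, f (j' z) = j (f' z) := fun z => by
    have := pullback.condition (f := f) (g := j)
    exact congr($(this) z)
  have h1 : f' x' = y' := by
    apply j.isOpenEmbedding.injective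
    exact (hcomm x').symm.trans hxy.symm
  have h2 := hgx x' (h1 ▸ hy')
  have h3 : j' x' ∈ closure (j' '' (f' ⁻¹' {genericPoint (Spec R)})) :=
    image_closure_subset_closure_image j'.continuous (Set.mem_image_of_mem _ h2)
  refine closure_mono ?_ h3
  rintro _ ⟨z, hz, rfl⟩
  rw [Set.mem_preimage, Set.mem_singleton_iff] at hz ⊢
  rw [hcomm, hz, hgen]

end Scheme

end Groth.Agent.Lib.H77GenClosure
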