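import Groth.Agent.Lib.H77GenFreeRedMain
import Mathlib.RingTheory.Ideal.Maps

/-!
# Generic finite generation over reduced rings ("generic Hilbert basis theorem") (helper77)

`LocFG f N`: the submodule `N` is finitely generated up to powers of `f`.
`DenseFG N`: for every `g ≠ 0` there is `h` with `g * h ≠ 0` and `LocFG (g * h) N`.

Main results (`R` reduced): every ideal of `R[X_1..X_n]` and every submodule of `R[X_1..X_n]^m` is
`DenseFG` (Stacks 051Z, finite presentation part).
-/

namespace Groth.Agent.Lib.H77GenFreeRed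

open Function MvPolynomial

universe u

section Basic

variable {R : Type*} [CommRing R] {P : Type*} [CommRing P] [Algebra R P]
  {F : Type*} [AddCommGroup F] [Module P F] [Module R F] [IsScalarTower R P F]

/-- `N` is finitely generated up to powers of `f`. -/
def LocFG (f : R) (N : Submodule P F) : Prop :=
  ∃ G : Finset F, (G : Set F) ⊆ N ∧ ∀ x ∈ N, ∃ k : ℕ, f ^ k • x ∈ Submodule.span P (G : Set F)

/-- Dense finite generation. -/
def DenseFG (N : Submodule P F) : Prop :=
  ∀ g : R, g ≠ 0 → ∃ h : R, g * h ≠ 0 ∧ LocFG (g * h) N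

lemma LocFG.mul_right {f : R} {N : Submodule P F} (h : LocFG f N) (g : R) : LocFG (f * g) N := by
  obtain ⟨G, hG, hx⟩ := h
  refine ⟨G, hG, fun x hxN => ?_⟩
  obtain ⟨k, hk⟩ := hx x hxN
  refine ⟨k, ?_⟩
  rw [mul_pow, mul_comm, mul_smul]
  exact Submodule.smul_of_tower_mem _ _ hk

lemma LocFG.congr {f f' : R} (hff' : f = f') {N : Submodule P F} (h : LocFG f N) : LocFG f' N :=
  hff' ▸ h

lemma LocFG.of_torsion {f : R} {N : Submodule P F} (h : ∀ x ∈ N, ∃ k : ℕ, f ^ k • x = 0) :
    LocFG f N := by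
  refine ⟨∅, by simp, fun x hx => ?_⟩
  obtain ⟨k, hk⟩ := h x hx
  exact ⟨k, by rw [hk]; exact Submodule.zero_mem _⟩

lemma LocFG.map {F' : Type*} [AddCommGroup F'] [Module P F'] [Module R F'] [IsScalarTower R P F']
    {f : R} {N : Submodule P F} (h : LocFG f N) (φ : F →ₗ[P] F') : LocFG f (N.map φ) := by
  classical
  obtain ⟨G, hG, hx⟩ := h
  refine ⟨G.image φ, ?_, ?_⟩
  · intro y hy
    rw [Finset.coe_image] at hy
    obtain ⟨x, hxG, rfl⟩ := hy
    exact Submodule.mem_map_of_mem (hG hxG)
  · rintro _ ⟨x, hxN, rfl⟩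
    obtain ⟨k, hk⟩ := hx x hxN
    refine ⟨k, ?_⟩
    have h1 : f ^ k • φ x = φ (f ^ k • x) := by
      rw [← algebraMap_smul P (f ^ k) x, map_smul, algebraMap_smul]
    rw [h1, Finset.coe_image, ← Submodule.map_span]
    exact Submodule.mem_map_of_mem hk

/-- Extension lemma for `LocFG`. -/
lemma LocFG.of_exact {F' : Type*} [AddCommGroup F'] [Module P F'] [Module R F']
    [IsScalarTower R P F'] {f : R} {N : Submodule P F} (φ : F →ₗ[P] F')
    (h₁ : LocFG f (N ⊓ LinearMap.ker φ)) (h₂ : LocFG f (N.map φ)) : LocFG f N := by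
  classical
  obtain ⟨G₁, hG₁, hx₁⟩ := h₁
  obtain ⟨G₂, hG₂, hx₂⟩ := h₂
  have hlift : ∀ y : F', ∃ x : F, y ∈ N.map φ → (x ∈ N ∧ φ x = y) := by
    intro y
    by_cases hy : y ∈ N.map φ
    · obtain ⟨x, hx, rfl⟩ := hy
      exact ⟨x, fun _ => ⟨hx, rfl⟩⟩
    · exact ⟨0, fun h => absurd h hy⟩
  choose ℓ hℓ using hlift
  refine ⟨G₁ ∪ G₂.image ℓ, ?_, ?_⟩
  · intro x hx
    rw [Finset.coe_union, Finset.coe_image] at hx
    rcases hx with hx | ⟨y, hy, rfl⟩
    · exact (hG₁ hx).1
    · exact (hℓ y (hG₂ hy)).1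
  · intro x hxN
    obtain ⟨k, hk⟩ := hx₂ (φ x) (Submodule.mem_map_of_mem hxN)
    have hspan : Submodule.span P (G₂ : Set F') =
        (Submodule.span P ((G₂.image ℓ : Finset F) : Set F)).map φ := by
      rw [Submodule.map_span, Finset.coe_image, Set.image_image]
      congr 1
      ext y
      simp only [Set.mem_image, Finset.mem_coe]
      constructor
      · intro hy
        exact ⟨y, hy, (hℓ y (hG₂ hy)).2⟩
      · rintro ⟨z, hz, rfl⟩
        rwa [(hℓ z (hG₂ hz)).2]
    rw [hspan] at hk
    obtain ⟨w, hw, hwx⟩ := hk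
    have hwN : w ∈ N := by
      refine Submodule.span_le.mpr ?_ hw
      intro z hz
      rw [Finset.coe_image] at hz
      obtain ⟨y, hy, rfl⟩ := hz
      exact (hℓ y (hG₂ hy)).1
    have hfx : f ^ k • φ x = φ (f ^ k • x) := by
      rw [← algebraMap_smul P (f ^ k) x, map_smul, algebraMap_smul]
    have hz : f ^ k • x - w ∈ N ⊓ LinearMap.ker φ := by
      refine ⟨N.sub_mem (N.smul_of_tower_mem _ hxN) hwN, ?_⟩
      change f ^ k • x - w ∈ LinearMap.ker φ
      rw [LinearMap.mem_ker, map_sub, ← hfx, hwx, sub_self]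
    obtain ⟨j, hj⟩ := hx₁ _ hz
    refine ⟨j + k, ?_⟩
    have e : f ^ (j + k) • x = f ^ j • (f ^ k • x - w) + f ^ j • w := by
      rw [smul_sub, sub_add_cancel, smul_smul, pow_add]
    rw [e, Finset.coe_union]
    refine Submodule.add_mem _ (Submodule.span_mono Set.subset_union_left hj) ?_
    exact Submodule.smul_of_tower_mem _ _ (Submodule.span_mono Set.subset_union_right hw)

/-- The linear map `β ↦ (0, β)`. -/
def consZero (P : Type*) [CommRing P] (m : ℕ) : (Fin m → P) →ₗ[P] (Fin (m + 1) → P) where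
  toFun β := Fin.cons 0 β
  map_add' a b := by
    ext i
    refine Fin.cases ?_ (fun j => ?_) i <;> simp
  map_smul' a b := by
    ext i
    refine Fin.cases ?_ (fun j => ?_) i <;> simp

omit [Algebra R P] in
lemma consZero_tail {m : ℕ} (x : Fin (m + 1) → P) (hx : x 0 = 0) :
    consZero P m (Fin.tail x) = x := by
  ext i
  refine Fin.cases ?_ (fun j => ?_) i
  · simp [consZero, hx]
  · simp [consZero, Fin.tail]

/-- From ideals to submodules of finite free modules. -/
theorem denseFG_pi (hP : ∀ J : Ideal P, DenseFG (R := R) J) :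
    ∀ (m : ℕ) (N : Submodule P (Fin m → P)), DenseFG (R := R) N := by
  intro m
  induction m with
  | zero =>
    intro N g hg
    refine ⟨1, by rwa [mul_one], LocFG.of_torsion fun x _ => ⟨0, Subsingleton.elim _ _⟩⟩
  | succ m ih =>
    intro N g hg
    let φ : (Fin (m + 1) → P) →ₗ[P] P := LinearMap.proj 0
    obtain ⟨h₁, hh₁, hL₁⟩ := hP (N.map φ) g hg
    obtain ⟨h₂, hh₂, hL₂⟩ := ih (N.comap (consZero P m)) (g * h₁) hh₁
    refine ⟨h₁ * h₂, by rwa [← mul_assoc], ?_⟩
    rw [← mul_assoc]
    refine LocFG.of_exact φ ?_ (hL₁.mul_right h₂)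
    have e : N ⊓ LinearMap.ker φ = (N.comap (consZero P m)).map (consZero P m) := by
      ext x
      constructor
      · rintro ⟨hxN, hxk⟩
        have hx0 : x 0 = 0 := hxk
        refine ⟨Fin.tail x, ?_, consZero_tail x hx0⟩
        change consZero P m (Fin.tail x) ∈ N
        rw [consZero_tail x hx0]
        exact hxN
      · rintro ⟨β, hβ, rfl⟩
        refine ⟨hβ, ?_⟩
        change (consZero P m β) 0 = 0
        simp [consZero]
    rw [e]
    exact hL₂.map _

end Basic

section Step

variable {R : Type u} [CommRing R] {n : ℕ}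

/-- `R[X_0..X_n]` as an algebra over `R[X_1..X_n]` (via `rename Fin.succ`). Local instance only. -/
noncomputable abbrev succAlg (R : Type u) [CommRing R] (n : ℕ) :
    Algebra (MvPolynomial (Fin n) R) (MvPolynomial (Fin (n + 1)) R) :=
  (rename Fin.succ : MvPolynomial (Fin n) R →ₐ[R] MvPolynomial (Fin (n + 1)) R).toRingHom.toAlgebra

attribute [local instance] succAlg

instance : IsScalarTower R (MvPolynomial (Fin n) R) (MvPolynomial (Fin (n + 1)) R) :=
  IsScalarTower.of_algebraMap_eq fun r => by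
    change C r = rename Fin.succ (C r)
    rw [rename_C]

lemma succAlg_smul_def (β : MvPolynomial (Fin n) R) (p : MvPolynomial (Fin (n + 1)) R) :
    β • p = rename Fin.succ β * p := rfl

/-- Core step: an ideal of `R[X_0..X_n]` containing a polynomial whose leading coefficient in `X_0`
is a constant `c` is densely finitely generated after inverting `c`, provided submodules of finite
free modules over `R[X_1..X_n]` are. -/
theorem exists_locFG_of_leadingCoeff
    (hmod : ∀ (r : ℕ) (N : Submodule (MvPolynomial (Fin n) R) (Fin r → MvPolynomial (Fin n) R)),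
      DenseFG (R := R) N)
    (J : Ideal (MvPolynomial (Fin (n + 1)) R)) (q : MvPolynomial (Fin (n + 1)) R) (hq : q ∈ J)
    (c : R) (hlead : (finSuccEquiv R n q).leadingCoeff = C c) (g : R) (hg : g ≠ 0) :
    ∃ h : R, g * h ≠ 0 ∧ LocFG (g * h * c) J := by
  classical
  let I : Ideal (MvPolynomial (Fin (n + 1)) R) := Ideal.span {q}
  let ρ : MvPolynomial (Fin (n + 1)) R →ₐ[R] (MvPolynomial (Fin (n + 1)) R ⧸ I) :=
    Ideal.Quotient.mkₐ R I
  have hρ : Surjective ρ := Ideal.Quotient.mkₐ_surjective R I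
  have hρq : ρ q = 0 := Ideal.Quotient.eq_zero_iff_mem.mpr (Ideal.subset_span rfl)
  obtain ⟨M', hfg, hM'⟩ :=
    Groth.Agent.Lib.H77GenFree.exists_submodule_of_leadingCoeff ρ hρ q hρq c hlead
  set t : Fin n → (MvPolynomial (Fin (n + 1)) R ⧸ I) := fun i => ρ (X i.succ) with ht
  set B := Algebra.adjoin R (Set.range t) with hB
  obtain ⟨r, m, hm⟩ := Submodule.fg_iff_exists_fin_generating_family.mp hfg
  choose mt hmt using fun i => hρ (m i)
  let ψ : (Fin r → MvPolynomial (Fin n) R) →ₗ[MvPolynomial (Fin n) R] MvPolynomial (Fin (n + 1)) R :=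
    Fintype.linearCombination (MvPolynomial (Fin n) R) mt
  have hψ : ∀ β, ψ β = ∑ i, rename Fin.succ (β i) * mt i := fun β => by
    simp [ψ, Fintype.linearCombination_apply, succAlg_smul_def]
  have hρι : ∀ β : MvPolynomial (Fin n) R, ρ (rename Fin.succ β) = aeval t β := by
    intro β
    have : (ρ.comp (rename Fin.succ)) = aeval t := by
      apply MvPolynomial.algHom_ext
      intro i
      simp [t]
    exact DFunLike.congr_fun this β
  -- division with remainder
  have hdiv : ∀ p : MvPolynomial (Fin (n + 1)) R, ∃ (k : ℕ) (β : Fin r → MvPolynomial (Fin n) R)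
      (a : MvPolynomial (Fin (n + 1)) R), c ^ k • p = ψ β + a * q := by
    intro p
    obtain ⟨k, hk⟩ := hM' (ρ p)
    rw [← hm] at hk
    obtain ⟨b, hb⟩ := (Submodule.mem_span_range_iff_exists_fun B).mp hk
    have hbB : ∀ i, ∃ β : MvPolynomial (Fin n) R, aeval t β = (b i : MvPolynomial (Fin (n + 1)) R ⧸ I) := by
      intro i
      have : (b i : MvPolynomial (Fin (n + 1)) R ⧸ I) ∈ (aeval t : MvPolynomial (Fin n) R →ₐ[R] _).range := by
        rw [← Algebra.adjoin_range_eq_range_aeval]
        exact (b i).2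
      exact this
    choose β hβ using hbB
    have h1 : ρ (c ^ k • p - ψ β) = 0 := by
      rw [map_sub, map_smul, ← hb, hψ, map_sum, sub_eq_zero]
      refine Finset.sum_congr rfl fun i _ => ?_
      rw [map_mul, hρι, hβ, hmt]
      rfl
    have h2 : c ^ k • p - ψ β ∈ I := Ideal.Quotient.eq_zero_iff_mem.mp h1
    obtain ⟨a, ha⟩ := Ideal.mem_span_singleton'.mp h2
    exact ⟨k, β, a, by rw [ha]; abel⟩
  -- the module of remainders landing in `J`
  let N₀ : Submodule (MvPolynomial (Fin n) R) (Fin r → MvPolynomial (Fin n) R) :=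
    (J.restrictScalars (MvPolynomial (Fin n) R)).comap ψ
  obtain ⟨h, hgh, G₀, hG₀, hx₀⟩ := hmod r N₀ g hg
  refine ⟨h, hgh, insert q (G₀.image ψ), ?_, ?_⟩
  · intro x hx
    rw [Finset.coe_insert, Finset.coe_image] at hx
    rcases hx with rfl | ⟨β, hβ, rfl⟩
    · exact hq
    · exact hG₀ hβ
  · intro x hxJ
    obtain ⟨k, β, a, hk⟩ := hdiv x
    have hβN : β ∈ N₀ := by
      change ψ β ∈ J
      have : ψ β = c ^ k • x - a * q := by rw [hk]; abel
      rw [this]
      exact J.sub_mem (Submodule.smul_of_tower_mem _ _ hxJ) (J.mul_mem_left _ hq)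
    obtain ⟨j, hj⟩ := hx₀ β hβN
    have hψj : (g * h) ^ j • ψ β ∈
        Submodule.span (MvPolynomial (Fin (n + 1)) R) ((G₀.image ψ : Finset _) : Set _) := by
      have h1 : (g * h) ^ j • ψ β = ψ ((g * h) ^ j • β) := by
        rw [← algebraMap_smul (MvPolynomial (Fin n) R) ((g * h) ^ j) β, map_smul, algebraMap_smul]
      rw [h1]
      have h2 := Submodule.mem_map_of_mem (f := ψ) hj
      rw [Submodule.map_span] at h2
      rw [Finset.coe_image]
      exact Submodule.span_le_restrictScalars (MvPolynomial (Fin n) R)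
        (MvPolynomial (Fin (n + 1)) R) _ h2
    refine ⟨j + k, ?_⟩
    have e : (g * h * c) ^ (j + k) • x =
        ((g * h) ^ k * c ^ j) • ((g * h) ^ j • ψ β + ((g * h) ^ j • a) * q) := by
      rw [smul_mul_assoc, ← smul_add, ← hk, smul_smul, smul_smul]
      congr 1
      ring
    rw [e, Finset.coe_insert]
    refine Submodule.smul_of_tower_mem _ _ (Submodule.add_mem _ ?_ ?_)
    · exact Submodule.span_mono (Set.subset_insert _ _) hψj
    · exact Ideal.mul_mem_left _ _ (Submodule.subset_span (Set.mem_insert _ _))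

end Step

section Main

variable {R : Type u} [CommRing R]

/-- Transport of `LocFG` for ideals along an algebra automorphism. -/
lemma LocFG.of_algEquiv {P : Type*} [CommRing P] [Algebra R P] (T : P ≃ₐ[R] P) {f : R}
    {J : Ideal P} (h : LocFG f (J.comap T.symm.toRingEquiv.toRingHom)) : LocFG f J := by
  classical
  obtain ⟨G, hG, hx⟩ := h
  refine ⟨G.image T.symm, ?_, ?_⟩
  · intro y hy
    rw [Finset.coe_image] at hy
    obtain ⟨x, hxG, rfl⟩ := hy
    exact hG hxG
  · intro x hxJ
    have hTx : T x ∈ J.comap T.symm.toRingEquiv.toRingHom := by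
      change T.symm (T x) ∈ J
      rwa [T.symm_apply_apply]
    obtain ⟨k, hk⟩ := hx _ hTx
    refine ⟨k, ?_⟩
    have h1 : f ^ k • x = T.symm (f ^ k • T x) := by
      rw [map_smul, T.symm_apply_apply]
    rw [h1, Finset.coe_image]
    have h2 := Ideal.mem_map_of_mem T.symm.toRingEquiv.toRingHom hk
    rw [Ideal.map_span] at h2
    exact h2

variable [IsReduced R]

/-- **Generic Hilbert basis theorem over a reduced ring**: every ideal of `R[X_1..X_n]` is finitely
generated over a dense family of basic opens of `Spec R`. -/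
theorem denseFG_ideal : ∀ (n : ℕ) (J : Ideal (MvPolynomial (Fin n) R)), DenseFG (R := R) J := by
  intro n
  induction n with
  | zero =>
    intro J g hg
    by_cases hcase : ∀ q ∈ J, ∃ k : ℕ, g ^ k • q = 0
    · exact ⟨1, by rwa [mul_one], LocFG.of_torsion (by rwa [mul_one])⟩
    · push Not at hcase
      obtain ⟨q₀, hq₀J, hq₀⟩ := hcase
      set c₀ := coeff 0 q₀ with hc₀
      have hq₀C : q₀ = C c₀ := MvPolynomial.eq_C_of_isEmpty q₀
      have hgc : g * c₀ ≠ 0 := by
        have := hq₀ 1
        rw [pow_one, hq₀C, MvPolynomial.smul_eq_C_mul, ← C_mul] at this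
        intro h0
        exact this (by rw [h0, C_0])
      refine ⟨c₀, hgc, {q₀}, by simpa using hq₀J, fun x _ => ⟨1, ?_⟩⟩
      rw [pow_one, Finset.coe_singleton]
      refine Ideal.mem_span_singleton'.mpr ⟨g • x, ?_⟩
      rw [hq₀C, MvPolynomial.smul_eq_C_mul, MvPolynomial.smul_eq_C_mul, C_mul]
      ring
  | succ n ih =>
    intro J g hg
    by_cases hcase : ∀ q ∈ J, ∃ k : ℕ, g ^ k • q = 0
    · exact ⟨1, by rwa [mul_one], LocFG.of_torsion (by rwa [mul_one])⟩
    · push Not at hcase
      obtain ⟨q₀, hq₀J, hq₀⟩ := hcase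
      obtain ⟨K, hK⟩ := exists_pow_smul_good g q₀
      set q := g ^ K • q₀ with hqdef
      have hq : q ≠ 0 := hq₀ K
      have hqJ : q ∈ J := Submodule.smul_of_tower_mem _ _ hq₀J
      obtain ⟨T, v, hv, hlead⟩ := Groth.Agent.Lib.H77NagataGen.exists_algEquiv_leadingCoeff q hq
      set c := coeff v q with hc
      have hc0 : c ≠ 0 := mem_support_iff.mp hv
      have hgc : g * c ≠ 0 := by simpa using hK v hc0 1
      have hTq : T q ∈ J.comap T.symm.toRingEquiv.toRingHom := by
        change T.symm (T q) ∈ J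
        rwa [T.symm_apply_apply]
      obtain ⟨h, hh, hL⟩ := exists_locFG_of_leadingCoeff (denseFG_pi ih) _ (T q) hTq c hlead
        (g * c) hgc
      have hfin : g * (c * h * c) ≠ 0 := by
        have h1 : g * h * c ≠ 0 := by
          have : g * h * c = g * c * h := by ring
          rwa [this]
        have h2 := mul_mul_self_ne_zero h1
        have : g * (c * h * c) = g * h * c * c := by ring
        rwa [this]
      refine ⟨c * h * c, hfin, ?_⟩
      exact (LocFG.of_algEquiv T hL).congr (by ring)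

/-- Every submodule of a finite free module over `R[X_1..X_n]` (`R` reduced) is finitely generated
over a dense family of basic opens of `Spec R`. -/
theorem denseFG_submodule (n m : ℕ)
    (N : Submodule (MvPolynomial (Fin n) R) (Fin m → MvPolynomial (Fin n) R)) :
    DenseFG (R := R) N :=
  denseFG_pi (denseFG_ideal n) m N

end Main

end Groth.Agent.Lib.H77GenFreeRed
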