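import Groth.Agent.Lib.H77GenFP
import Mathlib.Algebra.Module.FinitePresentation
import Mathlib.Algebra.Module.LocalizedModule.Submodule
import Mathlib.RingTheory.Localization.BaseChange
import Mathlib.RingTheory.Localization.Module

/-!
Generic finite presentation of finite modules over finite type algebras over a domain
(Stacks 051T, module part).
-/

namespace Groth.Agent.Lib.H77GenFree

open Function TensorProduct

universe u w v

variable {R : Type u} [CommRing R] [IsDomain R]

section GFGMod

attribute [local instance] Algebra.TensorProduct.rightAlgebra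

/-- Submodules of finite modules over a finite type algebra over a domain are finitely generated
up to `R`-torsion. -/
theorem exists_finset_forall_smul_mem_span_of_finite (S : Type w) [CommRing S] [Algebra R S]
    [Algebra.FiniteType R S] (F : Type v) [AddCommGroup F] [Module S F] [Module R F]
    [IsScalarTower R S F] [Module.Finite S F] (N : Submodule S F) :
    ∃ T : Finset F, (T : Set F) ⊆ N ∧
      ∀ x ∈ N, ∃ r : R, r ≠ 0 ∧ r • x ∈ Submodule.span S (T : Set F) := by
  classical
  let K := FractionRing R
  let SK := K ⊗[R] S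
  let W : Submonoid S := Algebra.algebraMapSubmonoid S (nonZeroDivisors R)
  have : IsLocalization W SK := IsLocalization.tensorRight K (nonZeroDivisors R)
  have : IsNoetherianRing SK := Algebra.FiniteType.isNoetherianRing K SK
  let F' := SK ⊗[S] F
  let g : F →ₗ[S] F' := TensorProduct.mk S SK F 1
  have : IsLocalizedModule W g := inferInstance
  have : Module.Finite SK F' := Module.Finite.base_change S SK F
  have : IsNoetherian SK F' := isNoetherian_of_isNoetherianRing_of_finite SK F'
  have hN' : (Submodule.span SK (g '' N)).FG := IsNoetherian.noetherian _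
  obtain ⟨t, htN, hspan⟩ := (Submodule.fg_span_iff_fg_span_finset_subset _).mp hN'
  obtain ⟨T, hTN, rfl⟩ := Finset.subset_set_image_iff.mp htN
  refine ⟨T, hTN, fun x hx => ?_⟩
  have h1 : g x ∈ (Submodule.span S (T : Set F)).localized' SK W g := by
    rw [Submodule.localized'_span, ← Finset.coe_image, ← hspan]
    exact Submodule.subset_span ⟨x, hx, rfl⟩
  obtain ⟨m, hm, s, hms⟩ := (Submodule.mem_localized' SK W g _ _).mp h1
  have h2 : g m = g ((s : S) • x) := by
    rw [map_smul, ← hms, ← Submonoid.smul_def, IsLocalizedModule.mk'_cancel']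
  obtain ⟨w', hw'⟩ := IsLocalizedModule.exists_of_eq (S := W) h2
  obtain ⟨r, hr, hrw⟩ : ∃ r ∈ nonZeroDivisors R, algebraMap R S r = (w' : S) * (s : S) :=
    W.mul_mem w'.2 s.2
  refine ⟨r, nonZeroDivisors.ne_zero hr, ?_⟩
  rw [← algebraMap_smul S r x, hrw, mul_smul]
  have : (w' : S) • ((s : S) • x) = (w' : S) • m := hw'.symm
  rw [this]
  exact Submodule.smul_mem _ _ hm

end GFGMod

section FPMod

/-- A finite module over a finite type algebra over a domain becomes finitely presented after
inverting a nonzero element of the base (and stays so after inverting more). -/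
theorem exists_finitePresentation_localizedModule (S : Type w) [CommRing S] [Algebra R S]
    [Algebra.FiniteType R S] (M : Type v) [AddCommGroup M] [Module S M] [Module R M]
    [IsScalarTower R S M] [Module.Finite S M] :
    ∃ f₀ : R, f₀ ≠ 0 ∧ ∀ h : R, h ≠ 0 →
      Module.FinitePresentation (Localization.Away (algebraMap R S (f₀ * h)))
        (LocalizedModule (Submonoid.powers (algebraMap R S (f₀ * h))) M) := by
  classical
  obtain ⟨a, v, hv⟩ := Module.Finite.exists_fin (R := S) (M := M)
  let ρ : (Fin a → S) →ₗ[S] M := Fintype.linearCombination S v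
  have hρ : Surjective ρ := by
    rw [← LinearMap.range_eq_top, Fintype.range_linearCombination, hv]
  obtain ⟨T, hTN, hT⟩ := exists_finset_forall_smul_mem_span_of_finite (R := R) S (Fin a → S)
    (LinearMap.ker ρ)
  let N₀ : Submodule S (Fin a → S) := Submodule.span S (T : Set (Fin a → S))
  have hN₀ : N₀ ≤ LinearMap.ker ρ := Submodule.span_le.mpr hTN
  let ρ' : ((Fin a → S) ⧸ N₀) →ₗ[S] M := N₀.liftQ ρ hN₀
  have hρ' : Surjective ρ' := by
    intro m
    obtain ⟨x, rfl⟩ := hρ m
    exact ⟨N₀.mkQ x, rfl⟩
  have hfp : Module.FinitePresentation S ((Fin a → S) ⧸ N₀) :=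
    Module.finitePresentation_of_free_of_surjective N₀.mkQ N₀.mkQ_surjective
      (by rw [Submodule.ker_mkQ]; exact ⟨T, rfl⟩)
  obtain ⟨f₀, hf₀, s, hs⟩ := genFree_of_finiteType (R := R) S ((Fin a → S) ⧸ N₀)
  have hker : ∀ y : (Fin a → S) ⧸ N₀, ρ' y = 0 → ∃ k : ℕ, f₀ ^ k • y = 0 := by
    intro y hy
    obtain ⟨x, rfl⟩ := N₀.mkQ_surjective y
    have hx : x ∈ LinearMap.ker ρ := hy
    obtain ⟨r, hr, hrx⟩ := hT x hx
    have h0 : r • N₀.mkQ x = 0 := by
      rw [← algebraMap_smul S r, ← map_smul, algebraMap_smul]
      exact (Submodule.Quotient.mk_eq_zero N₀).mpr hrx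
    exact hs.exists_pow_smul_eq_zero hr h0
  refine ⟨f₀, hf₀, fun h hh => ?_⟩
  set φ : S := algebraMap R S (f₀ * h) with hφ
  let L := LocalizedModule.map (Submonoid.powers φ) ρ'
  have hLs : Surjective L := LocalizedModule.map_surjective _ _ hρ'
  have hLi : Injective L := by
    rw [injective_iff_map_eq_zero]
    intro z hz
    induction z using LocalizedModule.induction_on with
    | h y t =>
      rw [LocalizedModule.map_mk, ← LocalizedModule.zero_mk t, LocalizedModule.mk_eq] at hz
      obtain ⟨c, hc⟩ := hz
      simp only [smul_zero] at hc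
      have h1 : ρ' ((c : S) • (t : S) • y) = 0 := by
        rw [map_smul, map_smul]
        exact hc
      obtain ⟨k, hk⟩ := hker _ h1
      have hφk : ∀ z : (Fin a → S) ⧸ N₀, φ ^ k • z = h ^ k • (f₀ ^ k • z) := by
        intro z
        rw [hφ, ← map_pow, algebraMap_smul, mul_pow, mul_comm, mul_smul]
      have h2 : (φ ^ k * ((c : S) * (t : S))) • y = 0 := by
        rw [mul_smul, mul_smul, hφk, hk, smul_zero]
      rw [← LocalizedModule.zero_mk t, LocalizedModule.mk_eq]
      refine ⟨⟨φ ^ k, k, rfl⟩ * c, ?_⟩
      simp only [smul_zero]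
      rw [Submonoid.smul_def, Submonoid.smul_def, smul_smul, Submonoid.coe_mul, mul_assoc]
      exact h2
  exact Module.FinitePresentation.of_equiv (LinearEquiv.ofBijective L ⟨hLi, hLs⟩)

end FPMod

end Groth.Agent.Lib.H77GenFree
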