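import Groth.Agent.Lib.H77GenFlatAlg
import Groth.Agent.Lib.QCohStalk
import Groth.Agent.Lib.H72FlatBaseChange
import Groth.Agent.Lib.H90OXModAffineFT
import Mathlib.AlgebraicGeometry.Morphisms.FiniteType
import Mathlib.AlgebraicGeometry.Morphisms.QuasiCompact
import Mathlib.AlgebraicGeometry.Properties

/-!
# Generic flatness for quasi-coherent modules of finite type over an integral base (helper77)

`exists_open_isFlatOverAt`: `Y` integral, `u : X ⟶ Y` quasi-compact and locally of finite type, `F`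
quasi-coherent of finite type on `X`: there is a nonempty open `U ⊆ Y` such that `F` is flat over
`Y` at every point of `u⁻¹(U)`. No Noetherian hypotheses.
-/

set_option autoImplicit false
set_option linter.style.haveILetI false
universe u

open CategoryTheory AlgebraicGeometry TopologicalSpace Opposite

namespace Groth.Agent.Lib.H77GenFlatSch

open Groth.Agent.Lib.H77GenFree Groth.Agent.Lib.QCohStalk

variable {X Y : Scheme.{u}}

/-- Generic freeness for the sections of a quasi-coherent module of finite type over an affine open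
of `X` lying over an integral affine open of `Y`. -/
theorem exists_isGenBasis_sections (u : X ⟶ Y) [LocallyOfFiniteType u] (F : X.Modules)
    [F.IsQuasicoherent] (hF : SheafOfModules.IsFiniteType (R := X.ringCatSheaf) F)
    {V : Y.Opens} (hV : IsAffineOpen V) [IsDomain Γ(Y, V)] {W : X.Opens} (hW : IsAffineOpen W)
    (e : W ≤ u ⁻¹ᵁ V) :
    letI := Module.compHom Γ(F, W) (u.appLE V W e).hom
    ∃ f : Γ(Y, V), f ≠ 0 ∧ ∃ s : Set Γ(F, W),
      IsGenBasis Γ(Y, V) Γ(F, W) f (fun x : s => (x : Γ(F, W))) := by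
  letI := Module.compHom Γ(F, W) (u.appLE V W e).hom
  letI : Algebra Γ(Y, V) Γ(X, W) := (u.appLE V W e).hom.toAlgebra
  haveI : Algebra.FiniteType Γ(Y, V) Γ(X, W) := u.finiteType_appLE hV hW e
  haveI : Module.Finite Γ(X, W) Γ(F, W) :=
    (Groth.Agent.Lib.H90OXModAffineFT.isFiniteType_iff_forall_affine F).mp hF ⟨W, hW⟩
  haveI : IsScalarTower Γ(Y, V) Γ(X, W) Γ(F, W) := IsScalarTower.of_algebraMap_smul fun _ _ => rfl
  obtain ⟨f, hf, s, hs⟩ := genFree_of_finiteType (R := Γ(Y, V)) Γ(X, W) Γ(F, W)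
  exact ⟨f, hf, s, hs⟩

/-- Flatness at a point from a generic basis of the sections over an affine neighbourhood. -/
theorem isFlatOverAt_of_isGenBasis (u : X ⟶ Y) (F : X.Modules) [F.IsQuasicoherent]
    {V : Y.Opens} (hV : IsAffineOpen V) {W : X.Opens} (hW : IsAffineOpen W)
    (e : W ≤ u ⁻¹ᵁ V) {f : Γ(Y, V)} {ι : Type*} {b : ι → Γ(F, W)}
    (hb : letI := Module.compHom Γ(F, W) (u.appLE V W e).hom
      IsGenBasis Γ(Y, V) Γ(F, W) f b)
    (x : X) (hx : x ∈ W) (hfx : u.base x ∈ Y.basicOpen f) :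
    FlatMod.IsFlatOverAt u F x := by
  rw [Groth.Agent.Lib.H72FlatBaseChange.isFlatOverAt_iff_flat_sections u F e hV x hx]
  letI := Module.compHom Γ(F, W) (u.appLE V W e).hom
  letI : Algebra Γ(Y, V) Γ(X, W) := (u.appLE V W e).hom.toAlgebra
  haveI : IsScalarTower Γ(Y, V) Γ(X, W) Γ(F, W) := IsScalarTower.of_algebraMap_smul fun _ _ => rfl
  letI := moduleSectionStalk F (⟨x, hx⟩ : W)
  letI modR : Module Γ(Y, V) (F.presheaf.stalk x) :=
    Module.compHom _ ((X.presheaf.germ W x hx).hom.comp (u.appLE V W e).hom)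
  haveI : IsScalarTower Γ(Y, V) Γ(X, W) (F.presheaf.stalk x) :=
    IsScalarTower.of_algebraMap_smul fun _ _ => rfl
  haveI := isLocalizedModule_germ F hW (⟨x, hx⟩ : W)
  refine Groth.Agent.Lib.H77GenFlatAlg.flat_of_isGenBasis (R := Γ(Y, V)) (A := Γ(X, W)) hb
    (hW.primeIdealOf ⟨x, hx⟩).asIdeal.primeCompl (germLinear F (⟨x, hx⟩ : W)) ?_
  -- the image of `f` is a unit at `x`
  have hxb : x ∈ X.basicOpen (u.appLE V W e f) := by
    rw [Scheme.basicOpen_appLE]
    exact ⟨hx, hfx⟩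
  have hunit : IsUnit (X.presheaf.germ W x hx (u.appLE V W e f)) :=
    (X.mem_basicOpen _ _ hx).mp hxb
  letI : Algebra Γ(X, W) (X.presheaf.stalk x) :=
    TopCat.Presheaf.algebra_section_stalk X.presheaf (⟨x, hx⟩ : W)
  have := hW.isLocalization_stalk (⟨x, hx⟩ : W)
  exact (IsLocalization.AtPrime.isUnit_to_map_iff (X.presheaf.stalk x)
    (hW.primeIdealOf ⟨x, hx⟩).asIdeal (u.appLE V W e f)).mp hunit

/-- **Generic flatness** over an integral base, without Noetherian hypotheses. -/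
theorem exists_open_isFlatOverAt (u : X ⟶ Y) [IsIntegral Y] [LocallyOfFiniteType u]
    [QuasiCompact u] (F : X.Modules) [F.IsQuasicoherent]
    (hF : SheafOfModules.IsFiniteType (R := X.ringCatSheaf) F) :
    ∃ U : Y.Opens, (U : Set Y).Nonempty ∧ ∀ x : X, u.base x ∈ U → FlatMod.IsFlatOverAt u F x := by
  classical
  obtain ⟨y⟩ : Nonempty Y := inferInstance
  obtain ⟨_, ⟨V, hV, rfl⟩, hyV, -⟩ :=
    Y.isBasis_affineOpens.exists_subset_of_mem_open (Set.mem_univ y) isOpen_univ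
  haveI : Nonempty V := ⟨⟨y, hyV⟩⟩
  haveI : IsDomain Γ(Y, V) := inferInstance
  have hc : IsCompact (u ⁻¹ᵁ V : Set X) :=
    QuasiCompact.isCompact_preimage (f := u) _ V.isOpen hV.isCompact
  obtain ⟨s, hs, hsU⟩ :=
    isCompact_and_isOpen_iff_finite_and_eq_biUnion_affineOpens.mp ⟨hc, (u ⁻¹ᵁ V).isOpen⟩
  have hle : ∀ W ∈ s, (W : X.Opens) ≤ u ⁻¹ᵁ V := by
    intro W hW x hx
    have : x ∈ (u ⁻¹ᵁ V : Set X) := by
      rw [hsU]
      exact Set.mem_biUnion hW hx
    exact this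
  -- generic bases on each member of the cover
  have key : ∀ W : s, ∃ f : Γ(Y, V), f ≠ 0 ∧ ∀ x : X, x ∈ (W.1 : X.Opens) →
      u.base x ∈ Y.basicOpen f → FlatMod.IsFlatOverAt u F x := by
    intro W
    obtain ⟨f, hf, t, ht⟩ := exists_isGenBasis_sections u F hF hV W.1.2 (hle W.1 W.2)
    exact ⟨f, hf, fun x hx hfx =>
      isFlatOverAt_of_isGenBasis u F hV W.1.2 (hle W.1 W.2) ht x hx hfx⟩
  choose f hf hflat using key
  haveI : Fintype s := hs.fintype
  let g : Γ(Y, V) := ∏ W : s, f W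
  have hg : g ≠ 0 := Finset.prod_ne_zero_iff.mpr fun W _ => hf W
  refine ⟨Y.basicOpen g, ?_, ?_⟩
  · by_contra hne
    rw [Set.not_nonempty_iff_eq_empty] at hne
    have : Y.basicOpen g = ⊥ := by
      ext1
      simpa using hne
    exact hg ((basicOpen_eq_bot_iff g).mp this)
  · intro x hx
    have hxV : u.base x ∈ V := Y.basicOpen_le g hx
    have hx' : x ∈ (u ⁻¹ᵁ V : Set X) := hxV
    rw [hsU] at hx'
    obtain ⟨W, hWs, hxW⟩ := Set.mem_iUnion₂.mp hx'
    refine hflat ⟨W, hWs⟩ x hxW ?_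
    have hdvd : f ⟨W, hWs⟩ ∣ g := Finset.dvd_prod_of_mem _ (Finset.mem_univ _)
    obtain ⟨c, hc⟩ := hdvd
    have : Y.basicOpen g ≤ Y.basicOpen (f ⟨W, hWs⟩) := by
      rw [hc, Scheme.basicOpen_mul]
      exact inf_le_left
    exact this hx

end Groth.Agent.Lib.H77GenFlatSch
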