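import Mathlib.LinearAlgebra.Basis.Basic
import Mathlib.LinearAlgebra.Finsupp.LinearCombination
import Mathlib.LinearAlgebra.FreeModule.Basic
import Mathlib.Algebra.Exact.Basic
import Mathlib.RingTheory.Finiteness.Basic
import Mathlib.LinearAlgebra.Finsupp.SumProd
import Mathlib.LinearAlgebra.Isomorphisms

/-!
Generic freeness, elementwise formulation.

`IsGenBasis R M f b`: the family `b : ι → M` becomes a basis of `M_f` over `R_f`:
* every `m` has some `f ^ k • m` in the `R`-span of `b`;
* a linear combination of `b` killed by a power of `f` has zero coefficients.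

`GenFree R M`: there is a nonzero `f` and a subset of `M` which is an `IsGenBasis` for `f`.
-/

namespace Groth.Agent.Lib.H77GenFree

open Function

variable (R : Type*) [CommRing R] (M : Type*) [AddCommGroup M] [Module R M]

/-- The family `b` becomes an `R_f`-basis of `M_f`. -/
structure IsGenBasis (f : R) {ι : Type*} (b : ι → M) : Prop where
  span : ∀ m : M, ∃ k : ℕ, f ^ k • m ∈ Submodule.span R (Set.range b)
  indep : ∀ l : ι →₀ R, (∃ k : ℕ, f ^ k • Finsupp.linearCombination R b l = 0) → l = 0

/-- `M` is generically free over `R`. -/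
def GenFree : Prop :=
  ∃ (f : R) (_ : f ≠ 0) (s : Set M), IsGenBasis R M f (fun x : s => (x : M))

variable {R M}

lemma IsGenBasis.injective [Nontrivial R] {f : R} {ι : Type*} {b : ι → M}
    (h : IsGenBasis R M f b) : Injective b := by
  intro i j hij
  by_contra hne
  have := h.indep (Finsupp.single i 1 - Finsupp.single j 1) ⟨0, by simp [hij]⟩
  have h1 := DFunLike.congr_fun this i
  simp [hne] at h1

/-- Reindexing along an equivalence. -/
lemma IsGenBasis.reindex {f : R} {ι κ : Type*} {b : ι → M} (h : IsGenBasis R M f b)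
    (e : κ ≃ ι) : IsGenBasis R M f (b ∘ e) where
  span m := by
    obtain ⟨k, hk⟩ := h.span m
    refine ⟨k, ?_⟩
    rwa [Set.range_comp, e.range_eq_univ, Set.image_univ]
  indep l := by
    rintro ⟨k, hk⟩
    have h1 : Finsupp.linearCombination R (b ∘ e) l =
        Finsupp.linearCombination R b (Finsupp.equivMapDomain e l) := by
      rw [Finsupp.equivMapDomain_eq_mapDomain, Finsupp.linearCombination_mapDomain]
    rw [h1] at hk
    have h2 := h.indep _ ⟨k, hk⟩
    ext i
    have := DFunLike.congr_fun h2 (e i)
    simpa [Finsupp.equivMapDomain_apply] using this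

/-- A generic basis given by any family yields `GenFree`. -/
lemma IsGenBasis.genFree [Nontrivial R] {f : R} (hf : f ≠ 0) {ι : Type*} {b : ι → M}
    (h : IsGenBasis R M f b) : GenFree R M := by
  refine ⟨f, hf, Set.range b, ?_⟩
  have := h.reindex (Equiv.ofInjective b h.injective).symm
  convert this using 1
  ext ⟨x, hx⟩
  simp [Equiv.apply_ofInjective_symm]

/-- A basis is a generic basis for `f = 1`. -/
lemma IsGenBasis.of_basis {ι : Type*} (b : Module.Basis ι R M) : IsGenBasis R M 1 b where
  span m := ⟨0, by simp [b.span_eq]⟩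
  indep l := by
    rintro ⟨k, hk⟩
    simp only [one_pow, one_smul] at hk
    exact linearIndependent_iff.mp b.linearIndependent l hk

lemma GenFree.of_free [Nontrivial R] [Module.Free R M] : GenFree R M :=
  (IsGenBasis.of_basis (Module.Free.chooseBasis R M)).genFree one_ne_zero

/-- A module killed by `q` has the empty generic basis for `q`. -/
lemma IsGenBasis.of_smul_eq_zero (q : R) (h : ∀ m : M, q • m = 0) :
    IsGenBasis R M q (fun x : PEmpty.{1} => (x.elim : M)) where
  span m := ⟨1, by simp [h m]⟩
  indep l := fun _ => Subsingleton.elim _ _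

lemma GenFree.of_smul_eq_zero [Nontrivial R] {q : R} (hq : q ≠ 0) (h : ∀ m : M, q • m = 0) :
    GenFree R M :=
  (IsGenBasis.of_smul_eq_zero q h).genFree hq

lemma GenFree.of_subsingleton [Nontrivial R] [Subsingleton M] : GenFree R M :=
  GenFree.of_smul_eq_zero one_ne_zero fun _ => Subsingleton.elim _ _

/-- Transport along a linear equivalence. -/
lemma IsGenBasis.map {N : Type*} [AddCommGroup N] [Module R N] {f : R} {ι : Type*} {b : ι → M}
    (h : IsGenBasis R M f b) (e : M ≃ₗ[R] N) : IsGenBasis R N f (e ∘ b) where
  span n := by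
    obtain ⟨k, hk⟩ := h.span (e.symm n)
    refine ⟨k, ?_⟩
    have := Submodule.mem_map_of_mem (f := e.toLinearMap) hk
    rw [Submodule.map_span, ← Set.range_comp] at this
    simpa using this
  indep l := by
    rintro ⟨k, hk⟩
    apply h.indep l ⟨k, ?_⟩
    apply e.injective
    rw [map_zero, map_smul, ← hk]
    congr 1
    simp [Finsupp.linearCombination_apply, Finsupp.sum, map_sum]

lemma GenFree.of_linearEquiv [Nontrivial R] {N : Type*} [AddCommGroup N] [Module R N]
    (h : GenFree R M) (e : M ≃ₗ[R] N) : GenFree R N := by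
  obtain ⟨f, hf, s, hs⟩ := h
  exact (hs.map e).genFree hf

lemma linearCombination_sumElim {α β : Type*} (b₁ : α → M) (b₂ : β → M) (l : α ⊕ β →₀ R) :
    Finsupp.linearCombination R (Sum.elim b₁ b₂) l =
      Finsupp.linearCombination R b₁ (Finsupp.sumFinsuppLEquivProdFinsupp R l).1 +
        Finsupp.linearCombination R b₂ (Finsupp.sumFinsuppLEquivProdFinsupp R l).2 := by
  have : Finsupp.linearCombination R (Sum.elim b₁ b₂) =
      ((Finsupp.linearCombination R b₁).coprod (Finsupp.linearCombination R b₂)) ∘ₗ
        (Finsupp.sumFinsuppLEquivProdFinsupp R).toLinearMap := by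
    ext (_ | _) <;> simp
  rw [this]
  simp [LinearMap.coprod_apply]

section Domain

variable [IsDomain R]

/-- If every element of `M` is moved into the submodule `M'` by a power of `c`, a generic basis of
`M'` for `f` is a generic basis of `M` for `f * c`. -/
lemma IsGenBasis.of_submodule {M' : Submodule R M} {c : R} (hc : c ≠ 0)
    (hM' : ∀ m : M, ∃ k : ℕ, c ^ k • m ∈ M') {f : R} {ι : Type*} {b : ι → M'}
    (h : IsGenBasis R M' f b) : IsGenBasis R M (f * c) (fun i => (b i : M)) where
  span m := by
    obtain ⟨k, hk⟩ := hM' m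
    obtain ⟨j, hj⟩ := h.span ⟨_, hk⟩
    refine ⟨j + k, ?_⟩
    have h1 := Submodule.mem_map_of_mem (f := M'.subtype) hj
    rw [Submodule.map_span, ← Set.range_comp] at h1
    have h2 : (f * c) ^ (j + k) • m = (f ^ k * c ^ j) • (M'.subtype (f ^ j • ⟨c ^ k • m, hk⟩)) := by
      simp only [map_smul, Submodule.subtype_apply, smul_smul]
      congr 1
      ring
    rw [h2]
    exact Submodule.smul_mem _ _ h1
  indep l := by
    rintro ⟨k, hk⟩
    have h1 : Finsupp.linearCombination R (fun i => (b i : M)) l =
        M'.subtype (Finsupp.linearCombination R b l) := by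
      simp [Finsupp.linearCombination_apply, Finsupp.sum, map_sum]
    have h2 : f ^ k • Finsupp.linearCombination R b (c ^ k • l) = 0 := by
      apply M'.subtype_injective
      rw [map_zero, map_smul, map_smul, map_smul, ← h1, smul_smul, ← mul_pow]
      exact hk
    have h3 := h.indep _ ⟨k, h2⟩
    ext i
    have h4 := DFunLike.congr_fun h3 i
    simp only [Finsupp.smul_apply, smul_eq_mul, Finsupp.zero_apply, mul_eq_zero] at h4
    rcases h4 with h4 | h4
    · exact absurd (eq_zero_of_pow_eq_zero h4) hc
    · exact h4

/-- Extension lemma: an extension of generically free modules is generically free. -/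
lemma GenFree.of_exact {M' M'' : Type*} [AddCommGroup M'] [Module R M'] [AddCommGroup M'']
    [Module R M''] (i : M' →ₗ[R] M) (g : M →ₗ[R] M'') (hi : Injective i) (hg : Surjective g)
    (hex : Function.Exact i g) (h' : GenFree R M') (h'' : GenFree R M'') : GenFree R M := by
  obtain ⟨f', hf', s', hs'⟩ := h'
  obtain ⟨f'', hf'', s'', hs''⟩ := h''
  let σ : M'' → M := Function.surjInv hg
  have hσ : ∀ x, g (σ x) = x := Function.surjInv_eq hg
  let b₁ : s' → M := fun x => i x
  let b₂ : s'' → M := fun y => σ y
  have hb₁ : ∀ l : s' →₀ R, Finsupp.linearCombination R b₁ l =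
      i (Finsupp.linearCombination R (fun x : s' => (x : M')) l) := by
    intro l
    simp [b₁, Finsupp.linearCombination_apply, Finsupp.sum, map_sum]
  have hb₂ : ∀ l : s'' →₀ R, g (Finsupp.linearCombination R b₂ l) =
      Finsupp.linearCombination R (fun y : s'' => (y : M'')) l := by
    intro l
    simp [b₂, hσ, Finsupp.linearCombination_apply, Finsupp.sum, map_sum]
  have hgi : ∀ x, g (i x) = 0 := fun x => hex.apply_apply_eq_zero x
  refine IsGenBasis.genFree (mul_ne_zero hf' hf'') (b := Sum.elim b₁ b₂) ⟨?_, ?_⟩
  · intro m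
    obtain ⟨k, hk⟩ := hs''.span (g m)
    obtain ⟨l'', hl''⟩ := Finsupp.mem_span_range_iff_exists_finsupp.mp hk
    rw [← Finsupp.linearCombination_apply] at hl''
    have h0 : g (f'' ^ k • m - Finsupp.linearCombination R b₂ l'') = 0 := by
      rw [map_sub, map_smul, hb₂, hl'', sub_self]
    obtain ⟨m', hm'⟩ := (hex _).mp h0
    obtain ⟨j, hj⟩ := hs'.span m'
    obtain ⟨l', hl'⟩ := Finsupp.mem_span_range_iff_exists_finsupp.mp hj
    rw [← Finsupp.linearCombination_apply] at hl'
    refine ⟨j + k, ?_⟩
    have h1 : (f' * f'') ^ (j + k) • m =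
        (f' ^ k * f'' ^ j) • (Finsupp.linearCombination R b₁ l' +
          f' ^ j • Finsupp.linearCombination R b₂ l'') := by
      rw [hb₁, hl', map_smul, hm', smul_sub, sub_add_cancel, smul_smul, smul_smul]
      congr 1
      ring
    rw [h1]
    refine Submodule.smul_mem _ _ (Submodule.add_mem _ ?_ (Submodule.smul_mem _ _ ?_))
    · rw [← Finsupp.range_linearCombination]
      refine ⟨Finsupp.mapDomain Sum.inl l', ?_⟩
      rw [Finsupp.linearCombination_mapDomain]
      rfl
    · rw [← Finsupp.range_linearCombination]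
      refine ⟨Finsupp.mapDomain Sum.inr l'', ?_⟩
      rw [Finsupp.linearCombination_mapDomain]
      rfl
  · intro l
    rintro ⟨k, hk⟩
    rw [linearCombination_sumElim] at hk
    set l₁ := (Finsupp.sumFinsuppLEquivProdFinsupp R l).1 with hl₁
    set l₂ := (Finsupp.sumFinsuppLEquivProdFinsupp R l).2 with hl₂
    -- apply g
    have h1 : f'' ^ k • Finsupp.linearCombination R (fun y : s'' => (y : M'')) (f' ^ k • l₂) = 0 := by
      have := congrArg g hk
      rw [map_smul, map_add, hb₂, hb₁, hgi, zero_add, map_zero, mul_pow, mul_smul] at this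
      rw [map_smul, smul_comm]
      exact this
    have h2 := hs''.indep _ ⟨k, h1⟩
    have hl₂0 : l₂ = 0 := by
      ext y
      have h3 := DFunLike.congr_fun h2 y
      simp only [Finsupp.smul_apply, smul_eq_mul, Finsupp.zero_apply, mul_eq_zero] at h3
      rcases h3 with h3 | h3
      · exact absurd (eq_zero_of_pow_eq_zero h3) hf'
      · exact h3
    rw [hl₂0, map_zero, add_zero, hb₁, ← map_smul] at hk
    have h4 : (f' * f'') ^ k • Finsupp.linearCombination R (fun x : s' => (x : M')) l₁ = 0 :=
      hi (by rw [hk, map_zero])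
    have h5 : f' ^ k • Finsupp.linearCombination R (fun x : s' => (x : M')) (f'' ^ k • l₁) = 0 := by
      rw [map_smul, smul_smul, ← mul_pow]
      exact h4
    have h6 := hs'.indep _ ⟨k, h5⟩
    have hl₁0 : l₁ = 0 := by
      ext x
      have h3 := DFunLike.congr_fun h6 x
      simp only [Finsupp.smul_apply, smul_eq_mul, Finsupp.zero_apply, mul_eq_zero] at h3
      rcases h3 with h3 | h3
      · exact absurd (eq_zero_of_pow_eq_zero h3) hf''
      · exact h3
    have : Finsupp.sumFinsuppLEquivProdFinsupp R l = 0 := Prod.ext hl₁0 hl₂0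
    exact (LinearEquiv.map_eq_zero_iff _).mp this

section Finite

universe v

variable {A : Type*} [CommRing A] [Algebra R A]

private lemma genFree_of_span_range (hA : ∀ J : Ideal A, GenFree R (A ⧸ J)) :
    ∀ (k : ℕ) (M : Type v) [AddCommGroup M] [Module R M] [Module A M] [IsScalarTower R A M]
      (v : Fin k → M), Submodule.span A (Set.range v) = ⊤ → GenFree R M := by
  intro k
  induction k with
  | zero =>
    intro M _ _ _ _ v hv
    have : Subsingleton M := by
      rw [Set.range_eq_empty, Submodule.span_empty] at hv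
      exact (Submodule.subsingleton_iff A).mp (subsingleton_of_bot_eq_top hv)
    exact GenFree.of_subsingleton
  | succ k ih =>
    intro M _ _ _ _ v hv
    let M₀ : Submodule A M := Submodule.span A (Set.range (Fin.tail v))
    have h₀ : GenFree R M₀ := by
      refine ih M₀ (fun i => ⟨v i.succ, Submodule.subset_span ⟨i, rfl⟩⟩) ?_
      rw [eq_top_iff]
      rintro ⟨x, hx⟩ -
      have : Set.range (fun i : Fin k => (⟨v i.succ, Submodule.subset_span ⟨i, rfl⟩⟩ : M₀)) =
          (M₀.subtype) ⁻¹' (Set.range (Fin.tail v)) := by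
        ext ⟨y, hy⟩
        simp [Fin.tail]
      rw [this]
      exact (Submodule.span_span_coe_preimage (R := A) (s := Set.range (Fin.tail v))).ge
        Submodule.mem_top
    let g : A →ₗ[A] M ⧸ M₀ := LinearMap.toSpanSingleton A _ (M₀.mkQ (v 0))
    have hg : Surjective g := by
      intro y
      obtain ⟨x, rfl⟩ := M₀.mkQ_surjective y
      have hx : x ∈ Submodule.span A (Set.range v) := hv ▸ Submodule.mem_top
      rw [Fin.range_fin_succ, Submodule.span_insert, Submodule.mem_sup] at hx
      obtain ⟨y, hy, z, hz, rfl⟩ := hx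
      obtain ⟨a, rfl⟩ := Submodule.mem_span_singleton.mp hy
      refine ⟨a, ?_⟩
      simp only [g, LinearMap.toSpanSingleton_apply, map_add, map_smul]
      rw [Submodule.mkQ_apply _ z, (Submodule.Quotient.mk_eq_zero M₀).mpr hz, add_zero]
    let J : Ideal A := LinearMap.ker g
    let e : (A ⧸ J) ≃ₗ[A] M ⧸ M₀ := g.quotKerEquivOfSurjective hg
    have h₁ : GenFree R (M ⧸ M₀) := (hA J).of_linearEquiv (e.restrictScalars R)
    exact GenFree.of_exact (M₀.subtype.restrictScalars R) (M₀.mkQ.restrictScalars R)
      M₀.subtype_injective M₀.mkQ_surjective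
      (fun x => by
        simp only [LinearMap.coe_restrictScalars, Submodule.mkQ_apply, Submodule.subtype_apply,
          Set.mem_range, Subtype.exists, exists_prop, exists_eq_right]
        exact Submodule.Quotient.mk_eq_zero M₀) h₀ h₁

/-- A finite module over an `R`-algebra all of whose quotients are generically free over `R`
is generically free over `R`. -/
theorem GenFree.of_finite_of_quotients (hA : ∀ J : Ideal A, GenFree R (A ⧸ J))
    (M : Type v) [AddCommGroup M] [Module R M] [Module A M] [IsScalarTower R A M]
    [Module.Finite A M] : GenFree R M := by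
  obtain ⟨k, v, hv⟩ := Module.Finite.exists_fin (R := A) (M := M)
  exact genFree_of_span_range hA k M v hv

end Finite

end Domain

end Groth.Agent.Lib.H77GenFree
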