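import Groth.Agent.Lib.H77GenFP
import Mathlib.RingTheory.Noetherian.Basic
import Mathlib.RingTheory.FiniteType

/-!
Generic freeness of cokernels (Stacks 051S): `R` a Noetherian domain, `R → A → B` of finite type,
`M` a finite `A`-module, `N` a finite `B`-module, `u : M → N` an `A`-linear map. Then the cokernel
of `u` is generically free over `R`.
-/

namespace Groth.Agent.Lib.H77GenFree

open Function

universe u

section Filtration

variable {R : Type*} [CommRing R] {Q : Type*} [AddCommGroup Q] [Module R Q]

/-- A generic basis from an exhaustive `ℕ`-filtration whose graded pieces have generic bases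
(for the same `f`), stated elementwise. -/
theorem IsGenBasis.of_filtration (f : R) (G : ℕ → Submodule R Q) (hmono : Monotone G)
    (h0 : G 0 = ⊥) (hex : ∀ q : Q, ∃ k, q ∈ G k) {ι : ℕ → Type*} (c : ∀ k, ι k → Q)
    (hc : ∀ k i, c k i ∈ G (k + 1))
    (hspan : ∀ k, ∀ x ∈ G (k + 1), ∃ a : ℕ,
      f ^ a • x ∈ Submodule.span R (Set.range (c k)) ⊔ G k)
    (hindep : ∀ k (l : ι k →₀ R),
      (∃ a : ℕ, f ^ a • Finsupp.linearCombination R (c k) l ∈ G k) → l = 0) :
    IsGenBasis R Q f (fun p : Σ k, ι k => c p.1 p.2) := by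
  classical
  set T : Submodule R Q := Submodule.span R (Set.range (fun p : Σ k, ι k => c p.1 p.2)) with hT
  have hcT : ∀ k, Submodule.span R (Set.range (c k)) ≤ T := by
    intro k
    refine Submodule.span_mono ?_
    rintro _ ⟨i, rfl⟩
    exact ⟨⟨k, i⟩, rfl⟩
  refine ⟨fun m => ?_, fun l => ?_⟩
  · have key : ∀ k, ∀ x ∈ G k, ∃ a : ℕ, f ^ a • x ∈ T := by
      intro k
      induction k with
      | zero =>
        intro x hx
        rw [h0, Submodule.mem_bot] at hx
        exact ⟨0, by rw [hx, smul_zero]; exact T.zero_mem⟩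
      | succ k ih =>
        intro x hx
        obtain ⟨a, ha⟩ := hspan k x hx
        obtain ⟨s, hs, g, hg, hsg⟩ := Submodule.mem_sup.mp ha
        obtain ⟨b, hb⟩ := ih g hg
        refine ⟨b + a, ?_⟩
        rw [pow_add, mul_smul, ← hsg, smul_add]
        exact T.add_mem (T.smul_mem _ (hcT k hs)) hb
    obtain ⟨k, hk⟩ := hex m
    exact key k m hk
  · rintro ⟨a, ha⟩
    have hsum : Finsupp.linearCombination R (fun p : Σ k, ι k => c p.1 p.2) l =
        ∑ k ∈ l.splitSupport, Finsupp.linearCombination R (c k) (l.split k) := by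
      rw [Finsupp.linearCombination_apply, Finsupp.sigma_sum]
      refine Finset.sum_congr rfl fun k _ => ?_
      rw [Finsupp.linearCombination_apply]
    by_contra hl
    have hne : l.splitSupport.Nonempty := by
      rw [Finset.nonempty_iff_ne_empty]
      intro hempty
      apply hl
      ext ⟨k, i⟩
      have : k ∉ l.splitSupport := by rw [hempty]; exact Finset.notMem_empty _
      rw [Finsupp.mem_splitSupport_iff_nonzero, not_not] at this
      have h2 := DFunLike.congr_fun this i
      simpa [Finsupp.split_apply] using h2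
    set K := l.splitSupport.max' hne with hK
    have hKmem : K ∈ l.splitSupport := Finset.max'_mem _ _
    have hlow : ∀ k ∈ l.splitSupport.erase K,
        Finsupp.linearCombination R (c k) (l.split k) ∈ G K := by
      intro k hk
      have hkK : k < K := lt_of_le_of_ne (Finset.le_max' _ _ (Finset.mem_of_mem_erase hk))
        (Finset.ne_of_mem_erase hk)
      have : Finsupp.linearCombination R (c k) (l.split k) ∈ G (k + 1) := by
        rw [Finsupp.linearCombination_apply]
        exact Submodule.sum_mem _ fun i _ => Submodule.smul_mem _ _ (hc k i)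
      exact hmono hkK this
    have hsplit : f ^ a • Finsupp.linearCombination R (c K) (l.split K) ∈ G K := by
      rw [hsum, ← Finset.add_sum_erase _ _ hKmem, smul_add] at ha
      have h1 : f ^ a • Finsupp.linearCombination R (c K) (l.split K) =
          - (f ^ a • ∑ k ∈ l.splitSupport.erase K,
            Finsupp.linearCombination R (c k) (l.split k)) := eq_neg_of_add_eq_zero_left ha
      rw [h1]
      exact (G K).neg_mem ((G K).smul_mem _ ((G K).sum_mem hlow))
    have := hindep K (l.split K) ⟨a, hsplit⟩
    rw [Finsupp.mem_splitSupport_iff_nonzero] at hKmem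
    exact hKmem this

end Filtration

section OneGen

variable {A : Type*} [CommRing A] {N : Type*} [AddCommGroup N] [Module A N]

/-- The filtration `M' ⊆ M' + βM' ⊆ M' + βM' + β²M' ⊆ ...`. -/
def filt (β : N →ₗ[A] N) (M' : Submodule A N) : ℕ → Submodule A N
  | 0 => M'
  | k + 1 => filt β M' k ⊔ M'.map (β ^ (k + 1))

lemma filt_mono (β : N →ₗ[A] N) (M' : Submodule A N) : Monotone (filt β M') :=
  monotone_nat_of_le_succ fun _ => le_sup_left

lemma map_pow_le_filt (β : N →ₗ[A] N) (M' : Submodule A N) (k : ℕ) :
    M'.map (β ^ k) ≤ filt β M' k := by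
  cases k with
  | zero =>
    intro x hx
    obtain ⟨m, hm, rfl⟩ := hx
    simpa [filt] using hm
  | succ k => exact le_sup_right

lemma map_filt_le (β : N →ₗ[A] N) (M' : Submodule A N) (k : ℕ) :
    (filt β M' k).map β ≤ filt β M' (k + 1) := by
  induction k with
  | zero =>
    intro x hx
    obtain ⟨m, hm, rfl⟩ := hx
    exact le_sup_right (a := filt β M' 0) ⟨m, hm, by simp⟩
  | succ k ih =>
    show (filt β M' k ⊔ M'.map (β ^ (k + 1))).map β ≤ _
    rw [Submodule.map_sup]
    refine sup_le (ih.trans le_sup_left) ?_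
    intro x hx
    obtain ⟨y, ⟨m, hm, rfl⟩, rfl⟩ := hx
    refine le_sup_right (a := filt β M' (k + 1)) ⟨m, hm, ?_⟩
    rw [pow_succ' β (k + 1)]
    rfl

variable {R : Type*} [CommRing R] [IsDomain R] [Algebra R A] [Algebra.FiniteType R A]
  [IsNoetherianRing A] [Module R N] [IsScalarTower R A N]

/-- One-generator step: if `N = ⋃ₖ (M' + βM' + ... + βᵏM')` for a finitely generated
`A`-submodule `M'` and an `A`-linear endomorphism `β`, then `N / M'` is generically free
over `R`. -/
theorem genFree_of_oneGen (β : N →ₗ[A] N) (M' : Submodule A N) (hM' : M'.FG)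
    (hN : ∀ x : N, ∃ k, x ∈ filt β M' k) {Q : Type*} [AddCommGroup Q] [Module R Q]
    (π : N →ₗ[R] Q) (hπ : Surjective π) (hker : ∀ x, π x = 0 ↔ x ∈ M') : GenFree R Q := by
  classical
  have hnoeth : IsNoetherian A M' := isNoetherian_of_fg_of_noetherian M' hM'
  have hfin : Module.Finite A M' := Module.Finite.iff_fg.mpr hM'
  let K : ℕ → Submodule A M' := fun k => (filt β M' k).comap ((β ^ (k + 1)).comp M'.subtype)
  have hKmem : ∀ k (m : M'), m ∈ K k ↔ (β ^ (k + 1)) (m : N) ∈ filt β M' k := fun k m => Iff.rfl
  have hKmono : Monotone K := by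
    refine monotone_nat_of_le_succ fun k m hm => ?_
    rw [hKmem] at hm ⊢
    have h1 : β ((β ^ (k + 1)) (m : N)) ∈ filt β M' (k + 1) :=
      map_filt_le β M' k ⟨_, hm, rfl⟩
    rwa [pow_succ' β (k + 1)]
  obtain ⟨k₀, hk₀⟩ := monotone_stabilizes_iff_noetherian.mpr hnoeth ⟨K, hKmono⟩
  have hgf : ∀ k, GenFree R (M' ⧸ K k) := fun k => genFree_of_finiteType A (↥M' ⧸ K k)
  choose fk hfk sk hsk using hgf
  let f : R := ∏ k ∈ Finset.range (k₀ + 1), fk k
  have hf : f ≠ 0 := Finset.prod_ne_zero_iff.mpr fun k _ => hfk k
  let j : ℕ → ℕ := fun k => min k k₀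
  have hKj : ∀ k, K k = K (j k) := by
    intro k
    by_cases h : k ≤ k₀
    · simp only [j, min_eq_left h]
    · push Not at h
      simp only [j, min_eq_right h.le]
      exact (hk₀ k h.le).symm
  have hb : ∀ k, IsGenBasis R (M' ⧸ K (j k)) f (fun x : sk (j k) => (x : M' ⧸ K (j k))) := by
    intro k
    have hmem : j k ∈ Finset.range (k₀ + 1) :=
      Finset.mem_range.mpr (Nat.lt_succ_of_le (min_le_right k k₀))
    obtain ⟨g, hg⟩ := Finset.dvd_prod_of_mem fk hmem
    have hg0 : g ≠ 0 := by
      rintro rfl
      exact hf (by rw [show f = fk (j k) * 0 from hg, mul_zero])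
    rw [show f = fk (j k) * g from hg]
    exact (hsk (j k)).mul_right hg0
  let lift : ∀ k, sk (j k) → M' := fun k x => Function.surjInv (K (j k)).mkQ_surjective x
  have hlift : ∀ k (x : sk (j k)), (K (j k)).mkQ (lift k x) = x :=
    fun k x => Function.surjInv_eq _ _
  let G : ℕ → Submodule R Q := fun k => ((filt β M' k).restrictScalars R).map π
  have hGmem : ∀ k q, q ∈ G k ↔ ∃ y ∈ filt β M' k, π y = q := fun k q => Iff.rfl
  let c : ∀ k, sk (j k) → Q := fun k x => π ((β ^ (k + 1)) (lift k x : N))
  -- `β ^ n` is `R`-linear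
  have hβR : ∀ (n : ℕ) (r : R) (y : N), (β ^ n) (r • y) = r • (β ^ n) y :=
    fun n r y => LinearMap.map_smul_of_tower _ r y
  -- elements whose image lies in `G k` are in `filt k`
  have hGfilt : ∀ k (z : N), π z ∈ G k → z ∈ filt β M' k := by
    intro k z hz
    obtain ⟨y, hy, hyz⟩ := (hGmem k _).mp hz
    have h1 : z - y ∈ M' := (hker _).mp (by rw [map_sub, hyz, sub_self])
    have h2 : z - y ∈ filt β M' k := filt_mono β M' (Nat.zero_le k) h1
    have := (filt β M' k).add_mem h2 hy
    rwa [sub_add_cancel] at this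
  -- linear combinations of the `c k`
  have hcomb : ∀ k (l : sk (j k) →₀ R), Finsupp.linearCombination R (c k) l =
      π ((β ^ (k + 1)) ((Finsupp.linearCombination R (lift k) l : M') : N)) := by
    intro k l
    simp only [Finsupp.linearCombination_apply, Finsupp.sum, c]
    rw [Submodule.coe_sum, map_sum, map_sum]
    refine Finset.sum_congr rfl fun x _ => ?_
    rw [Submodule.coe_smul_of_tower, hβR, map_smul]
  have hmk : ∀ k (l : sk (j k) →₀ R), (K (j k)).mkQ (Finsupp.linearCombination R (lift k) l) =
      Finsupp.linearCombination R (fun x : sk (j k) => (x : M' ⧸ K (j k))) l := by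
    intro k l
    simp only [Finsupp.linearCombination_apply, Finsupp.sum]
    rw [map_sum]
    refine Finset.sum_congr rfl fun x _ => ?_
    rw [← hlift k x]
    exact LinearMap.map_smul_of_tower _ _ _
  refine IsGenBasis.genFree hf (b := fun p : Σ k, sk (j k) => c p.1 p.2)
    (IsGenBasis.of_filtration f G ?_ ?_ ?_ c ?_ ?_ ?_)
  · intro a b hab q hq
    obtain ⟨y, hy, rfl⟩ := (hGmem a q).mp hq
    exact (hGmem b _).mpr ⟨y, filt_mono β M' hab hy, rfl⟩
  · rw [eq_bot_iff]
    intro q hq
    obtain ⟨y, hy, rfl⟩ := (hGmem 0 q).mp hq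
    exact (Submodule.mem_bot R).mpr ((hker y).mpr hy)
  · intro q
    obtain ⟨y, rfl⟩ := hπ q
    obtain ⟨k, hk⟩ := hN y
    exact ⟨k, (hGmem k _).mpr ⟨y, hk, rfl⟩⟩
  · intro k x
    refine (hGmem (k + 1) _).mpr ⟨_, ?_, rfl⟩
    exact map_pow_le_filt β M' (k + 1) ⟨_, (lift k x).2, rfl⟩
  · intro k x hx
    obtain ⟨y, hy, rfl⟩ := (hGmem (k + 1) x).mp hx
    obtain ⟨y₀, hy₀, z, hz, rfl⟩ := Submodule.mem_sup.mp (show y ∈ filt β M' k ⊔ _ from hy)
    obtain ⟨m, hm, rfl⟩ := hz
    obtain ⟨a, ha⟩ := (hb k).span ((K (j k)).mkQ ⟨m, hm⟩)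
    obtain ⟨l, hl⟩ := Finsupp.mem_span_range_iff_exists_finsupp.mp ha
    rw [← Finsupp.linearCombination_apply, ← hmk k l] at hl
    -- the difference lies in `K k`
    set d : M' := f ^ a • (⟨m, hm⟩ : M') - Finsupp.linearCombination R (lift k) l with hd
    have hdK : d ∈ K k := by
      rw [hKj k, ← Submodule.Quotient.mk_eq_zero, ← Submodule.mkQ_apply, hd, map_sub, hl]
      rw [LinearMap.map_smul_of_tower, sub_self]
    have hdfilt : (β ^ (k + 1)) (d : N) ∈ filt β M' k := (hKmem k d).mp hdK
    refine ⟨a, ?_⟩
    have e1 : f ^ a • π (y₀ + (β ^ (k + 1)) m) =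
        Finsupp.linearCombination R (c k) l + π (f ^ a • y₀ + (β ^ (k + 1)) (d : N)) := by
      rw [hcomb k l, ← map_smul, ← map_add]
      congr 1
      rw [hd, Submodule.coe_sub, map_sub, Submodule.coe_smul_of_tower, hβR, smul_add]
      abel
    rw [e1]
    refine Submodule.add_mem _ (Submodule.mem_sup_left ?_) (Submodule.mem_sup_right ?_)
    · rw [← Finsupp.range_linearCombination]
      exact ⟨l, rfl⟩
    · refine (hGmem k _).mpr ⟨_, ?_, rfl⟩
      refine (filt β M' k).add_mem ?_ hdfilt
      rw [← algebraMap_smul A (f ^ a) y₀]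
      exact (filt β M' k).smul_mem _ hy₀
  · intro k l
    rintro ⟨a, ha⟩
    rw [hcomb k l, ← map_smul, ← hβR, ← Submodule.coe_smul_of_tower] at ha
    have h1 := hGfilt k _ ha
    have h2 : f ^ a • Finsupp.linearCombination R (lift k) l ∈ K (j k) :=
      (SetLike.ext_iff.mp (hKj k) _).mp ((hKmem k _).mpr h1)
    apply (hb k).indep l ⟨a, ?_⟩
    rw [← hmk k l, ← LinearMap.map_smul_of_tower, Submodule.mkQ_apply,
      Submodule.Quotient.mk_eq_zero]
    exact h2

end OneGen

section Coker

variable {R : Type u} [CommRing R] [IsDomain R]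

/-- A quotient of a finite module over a finite type algebra by an `A`-submodule, presented as
the target of a surjective `R`-linear map, is generically free. -/
lemma genFree_of_surjective_of_ker {A : Type*} [CommRing A] [Algebra R A] [Algebra.FiniteType R A]
    {Y : Type*} [AddCommGroup Y] [Module A Y] [Module R Y] [IsScalarTower R A Y]
    [Module.Finite A Y] (P : Submodule A Y) {X : Type*} [AddCommGroup X] [Module R X]
    (p : Y →ₗ[R] X) (hp : Surjective p) (hk : ∀ y, p y = 0 ↔ y ∈ P) : GenFree R X := by
  have h := genFree_of_finiteType (R := R) A (Y ⧸ P)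
  let g₀ : (Y ⧸ P.restrictScalars R) →ₗ[R] X :=
    (P.restrictScalars R).liftQ p (fun y hy => (hk y).mpr hy)
  let g : (Y ⧸ P) →ₗ[R] X :=
    g₀.comp (Submodule.Quotient.restrictScalarsEquiv R P).symm.toLinearMap
  have hgmk : ∀ y : Y, g (Submodule.Quotient.mk y) = p y := by
    intro y
    simp only [g, LinearMap.comp_apply, LinearEquiv.coe_coe,
      Submodule.Quotient.restrictScalarsEquiv_symm_mk]
    rfl
  have hbij : Bijective g := by
    constructor
    · rw [injective_iff_map_eq_zero]
      intro x hx
      obtain ⟨y, rfl⟩ := Submodule.Quotient.mk_surjective P x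
      rw [hgmk] at hx
      exact (Submodule.Quotient.mk_eq_zero P).mpr ((hk y).mp hx)
    · intro x
      obtain ⟨y, rfl⟩ := hp x
      exact ⟨Submodule.Quotient.mk y, hgmk y⟩
  exact h.of_linearEquiv (LinearEquiv.ofBijective g hbij)

private lemma adjoin_range_comp_eq_top' {A B B' : Type*} [CommRing A] [CommRing B] [Algebra A B]
    [CommRing B'] [Algebra A B'] {ι : Type*} (s : ι → B) (hs : Algebra.adjoin A (Set.range s) = ⊤)
    (f : B →ₐ[A] B') (hf : Surjective f) : Algebra.adjoin A (Set.range (f ∘ s)) = ⊤ := by
  rw [Set.range_comp, Algebra.adjoin_image, hs, Algebra.map_top, AlgHom.range_eq_top]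
  exact hf

variable [IsNoetherianRing R]

/-- Induction on the number of generators of `B` over `A`. -/
private theorem genFree_coker_aux : ∀ (n : ℕ) (A B : Type u) [CommRing A] [CommRing B]
    [Algebra R A] [Algebra A B] [Algebra R B] [IsScalarTower R A B] [Algebra.FiniteType R A]
    (s : Fin n → B) (_ : Algebra.adjoin A (Set.range s) = ⊤)
    (N : Type u) [AddCommGroup N] [Module B N] [Module A N] [Module R N] [IsScalarTower A B N]
    [IsScalarTower R A N] [Module.Finite B N] (M' : Submodule A N) (_ : M'.FG)
    (Q : Type u) [AddCommGroup Q] [Module R Q] (π : N →ₗ[R] Q) (_ : Surjective π)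
    (_ : ∀ x, π x = 0 ↔ x ∈ M'), GenFree R Q := by
  intro n
  induction n with
  | zero =>
    intro A B _ _ _ _ _ _ _ s hs N _ _ _ _ _ _ _ M' hM' Q _ _ π hπ hker
    have hsurj : Surjective (algebraMap A B) := by
      rw [Algebra.surjective_algebraMap_iff, ← hs, Set.range_eq_empty, Algebra.adjoin_empty]
    have : Module.Finite A B := Module.Finite.of_surjective (Algebra.linearMap A B) hsurj
    have : Module.Finite A N := Module.Finite.trans B N
    exact genFree_of_surjective_of_ker M' π hπ hker
  | succ n ih =>
    intro A B _ _ _ _ _ _ _ s hs N _ _ _ _ _ _ _ M' hM' Q _ _ π hπ hker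
    classical
    have hRBN : IsScalarTower R B N := ⟨fun r b x => by
      have h1 : r • b = (r • (1 : A)) • b := by rw [smul_assoc, one_smul]
      rw [h1, smul_assoc, smul_assoc, one_smul]⟩
    let s' : Fin n → B := fun i => s i.succ
    let b : B := s 0
    let A' : Subalgebra A B := Algebra.adjoin A (Set.range s')
    have hb : Algebra.adjoin A' {b} = ⊤ := by
      have h1 : Set.range s = Set.range s' ∪ {b} := by
        ext x
        constructor
        · rintro ⟨i, rfl⟩
          refine Fin.cases ?_ (fun i => ?_) i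
          · exact Or.inr rfl
          · exact Or.inl ⟨i, rfl⟩
        · rintro (⟨i, rfl⟩ | hx)
          · exact ⟨i.succ, rfl⟩
          · exact ⟨0, hx.symm⟩
      have h2 := Algebra.adjoin_union_eq_adjoin_adjoin A (Set.range s') {b}
      rw [← h1, hs] at h2
      apply Subalgebra.restrictScalars_injective A
      rw [← h2]
      rfl
    have hfgA' : Algebra.FiniteType A A' :=
      (Subalgebra.fg_iff_finiteType A').mp
        (Subalgebra.fg_def.mpr ⟨Set.range s', Set.finite_range s', rfl⟩)
    have hftA' : Algebra.FiniteType R A' :=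
      Algebra.FiniteType.trans (R := R) (S := A) (A := A') inferInstance hfgA'
    have hnA' : IsNoetherianRing A' := Algebra.FiniteType.isNoetherianRing R A'
    -- generators
    obtain ⟨t, ht⟩ := (Module.Finite.fg_top : (⊤ : Submodule B N).FG)
    obtain ⟨t₀, ht₀⟩ := hM'
    let Mp : Submodule A' N := Submodule.span A' ((t₀ ∪ t : Finset N) : Set N)
    have hMpfg : Mp.FG := Submodule.fg_span (Finset.finite_toSet _)
    have hM'Mp : ∀ x ∈ M', x ∈ Mp := by
      intro x hx
      rw [← ht₀] at hx
      have h1 : Submodule.span A (t₀ : Set N) ≤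
          (Submodule.span A' ((t₀ ∪ t : Finset N) : Set N)).restrictScalars A :=
        (Submodule.span_mono (by simp)).trans (Submodule.span_le_restrictScalars A A' _)
      exact h1 hx
    have htMp : ∀ x ∈ t, x ∈ Mp := fun x hx =>
      Submodule.subset_span (by simp [hx])
    -- multiplication by `b`
    let β : N →ₗ[A'] N :=
      { toFun := fun x => b • x
        map_add' := smul_add b
        map_smul' := fun a x => by
          simp only [RingHom.id_apply, Subalgebra.smul_def]
          rw [smul_smul, smul_smul, mul_comm] }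
    have hN : ∀ x : N, ∃ k, x ∈ filt β Mp k := by
      let U : Submodule B N :=
        { carrier := {x | ∃ k, x ∈ filt β Mp k}
          add_mem' := by
            rintro x y ⟨k₁, h₁⟩ ⟨k₂, h₂⟩
            exact ⟨max k₁ k₂, (filt β Mp _).add_mem (filt_mono β Mp (le_max_left _ _) h₁)
              (filt_mono β Mp (le_max_right _ _) h₂)⟩
          zero_mem' := ⟨0, Submodule.zero_mem _⟩
          smul_mem' := by
            intro c
            have hc : c ∈ Algebra.adjoin A' {b} := by rw [hb]; trivial
            induction hc using Algebra.adjoin_induction with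
            | mem c hc =>
              rintro x ⟨k, hk⟩
              rw [Set.mem_singleton_iff] at hc
              subst hc
              exact ⟨k + 1, map_filt_le β Mp k ⟨x, hk, rfl⟩⟩
            | algebraMap a =>
              rintro x ⟨k, hk⟩
              refine ⟨k, ?_⟩
              rw [algebraMap_smul]
              exact (filt β Mp k).smul_mem a hk
            | add c₁ c₂ _ _ h₁ h₂ =>
              rintro x hx
              obtain ⟨k₁, h₁⟩ := h₁ hx
              obtain ⟨k₂, h₂⟩ := h₂ hx
              refine ⟨max k₁ k₂, ?_⟩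
              rw [add_smul]
              exact (filt β Mp _).add_mem (filt_mono β Mp (le_max_left _ _) h₁)
                (filt_mono β Mp (le_max_right _ _) h₂)
            | mul c₁ c₂ _ _ h₁ h₂ =>
              rintro x hx
              rw [mul_smul]
              exact h₁ (h₂ hx) }
      have hU : (⊤ : Submodule B N) ≤ U := by
        rw [← ht, Submodule.span_le]
        intro x hx
        exact ⟨0, htMp x hx⟩
      intro x
      exact hU trivial
    -- the first piece
    let Q₁ : Submodule R Q := (Mp.restrictScalars R).map π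
    have hQ₁mem : ∀ q, q ∈ Q₁ ↔ ∃ y ∈ Mp, π y = q := fun q => Iff.rfl
    -- (b) the quotient `Q ⧸ Q₁`
    have hB : GenFree R (Q ⧸ Q₁) := by
      refine genFree_of_oneGen (A := A') β Mp hMpfg hN (Q₁.mkQ.comp π)
        (Q₁.mkQ_surjective.comp hπ) (fun x => ?_)
      rw [LinearMap.comp_apply, Submodule.mkQ_apply, Submodule.Quotient.mk_eq_zero, hQ₁mem]
      constructor
      · rintro ⟨y, hy, hyx⟩
        have h1 : x - y ∈ M' := (hker _).mp (by rw [map_sub, hyx, sub_self])
        have := Mp.add_mem (hM'Mp _ h1) hy
        rwa [sub_add_cancel] at this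
      · intro hx
        exact ⟨x, hx, rfl⟩
    -- (a) the submodule `Q₁`
    have hA : GenFree R Q₁ := by
      let s'' : Fin n → A' := fun i => ⟨s' i, Algebra.subset_adjoin ⟨i, rfl⟩⟩
      have hs'' : Algebra.adjoin A (Set.range s'') = ⊤ := by
        have : Set.range s'' = ((↑) : A' → B) ⁻¹' (Set.range s') := by
          ext ⟨x, hx⟩
          simp [s'', Subtype.ext_iff]
        rw [this]
        exact Algebra.adjoin_adjoin_coe_preimage
      have : Module.Finite A' Mp := Module.Finite.of_fg hMpfg
      let M'' : Submodule A Mp :=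
        { carrier := {x | (x : N) ∈ M'}
          add_mem' := fun {x y} hx hy => by
            simpa using M'.add_mem hx hy
          zero_mem' := by simp
          smul_mem' := fun a x hx => by
            show ((a • x : Mp) : N) ∈ M'
            rw [Submodule.coe_smul_of_tower]
            exact M'.smul_mem a hx }
      have hM''fg : M''.FG := by
        let incl : Mp →ₗ[A] N :=
          { toFun := fun x => (x : N)
            map_add' := fun _ _ => rfl
            map_smul' := fun a x => Submodule.coe_smul_of_tower a x }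
        refine Submodule.fg_of_fg_map_injective incl Subtype.val_injective ?_
        have : M''.map incl = M' := by
          ext x
          constructor
          · rintro ⟨y, hy, rfl⟩
            exact hy
          · intro hx
            exact ⟨⟨x, hM'Mp x hx⟩, hx, rfl⟩
        rw [this]
        exact ⟨t₀, ht₀⟩
      let π' : Mp →ₗ[R] Q₁ :=
        { toFun := fun x => ⟨π (x : N), (hQ₁mem _).mpr ⟨x, x.2, rfl⟩⟩
          map_add' := fun x y => by
            apply Subtype.ext
            simp
          map_smul' := fun r x => by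
            apply Subtype.ext
            simp [Submodule.coe_smul_of_tower] }
      have hπ' : Surjective π' := by
        rintro ⟨q, hq⟩
        obtain ⟨y, hy, rfl⟩ := (hQ₁mem q).mp hq
        exact ⟨⟨y, hy⟩, rfl⟩
      have hker' : ∀ x : Mp, π' x = 0 ↔ x ∈ M'' := by
        intro x
        rw [Subtype.ext_iff]
        exact hker (x : N)
      exact ih A A' s'' hs'' Mp M'' hM''fg Q₁ π' hπ' hker'
    exact GenFree.of_exact Q₁.subtype Q₁.mkQ Q₁.injective_subtype Q₁.mkQ_surjective
      (LinearMap.exact_subtype_mkQ Q₁) hA hB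

/-- **Generic freeness of cokernels** (Stacks 051S). -/
theorem genFree_coker {A B : Type u} [CommRing A] [CommRing B] [Algebra R A] [Algebra A B]
    [Algebra R B] [IsScalarTower R A B] [Algebra.FiniteType R A] [Algebra.FiniteType A B]
    {M N : Type u} [AddCommGroup M] [Module A M] [Module.Finite A M]
    [AddCommGroup N] [Module B N] [Module A N] [Module R N] [IsScalarTower A B N]
    [IsScalarTower R A N] [Module.Finite B N] (u : M →ₗ[A] N) :
    GenFree R (N ⧸ (LinearMap.range u).restrictScalars R) := by
  obtain ⟨n, f, hf⟩ := Algebra.FiniteType.iff_quotient_mvPolynomial''.mp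
    (inferInstance : Algebra.FiniteType A B)
  have hs : Algebra.adjoin A (Set.range (fun i : Fin n => f (MvPolynomial.X i))) = ⊤ :=
    adjoin_range_comp_eq_top' (MvPolynomial.X : Fin n → MvPolynomial (Fin n) A)
      MvPolynomial.adjoin_range_X f hf
  have hfg : (LinearMap.range u).FG := by
    rw [LinearMap.range_eq_map]
    exact Module.Finite.fg_top.map u
  refine genFree_coker_aux n A B _ hs N (LinearMap.range u) hfg _
    ((LinearMap.range u).restrictScalars R).mkQ (Submodule.mkQ_surjective _) (fun x => ?_)
  rw [Submodule.mkQ_apply, Submodule.Quotient.mk_eq_zero, Submodule.restrictScalars_mem]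

end Coker

end Groth.Agent.Lib.H77GenFree
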