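import Mathlib.LinearAlgebra.Basis.Basic
import Mathlib.LinearAlgebra.Finsupp.LinearCombination
import Mathlib.LinearAlgebra.FreeModule.Basic
import Mathlib.Algebra.Exact.Basic
import Mathlib.RingTheory.Finiteness.Basic
import Mathlib.LinearAlgebra.Finsupp.SumProd
import Mathlib.LinearAlgebra.Isomorphisms
import Mathlib.RingTheory.Nilpotent.Basic

/-!
# Generic freeness over reduced rings, elementwise formulation (helper77)

`IsLocBasis R M f b`: the family `b : ι → M` becomes a basis of `M_f` over `R_f` (valid over any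
commutative ring `R`):
* every `m` has some `f ^ k • m` in the `R`-span of `b`;
* a linear combination of `b` killed by a power of `f` has coefficients killed by a power of `f`.

`DenseFree R M`: for every `g ≠ 0` there is `h` with `g * h ≠ 0` and a subset of `M` which is an
`IsLocBasis` for `g * h` ("`M` is free over a dense family of basic opens of `Spec R`", `R` reduced).
-/

namespace Groth.Agent.Lib.H77GenFreeRed

open Function

variable (R : Type*) [CommRing R] (M : Type*) [AddCommGroup M] [Module R M]

/-- The family `b` becomes an `R_f`-basis of `M_f`. -/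
structure IsLocBasis (f : R) {ι : Type*} (b : ι → M) : Prop where
  span : ∀ m : M, ∃ k : ℕ, f ^ k • m ∈ Submodule.span R (Set.range b)
  indep : ∀ l : ι →₀ R, (∃ k : ℕ, f ^ k • Finsupp.linearCombination R b l = 0) →
    ∃ k : ℕ, f ^ k • l = 0

/-- `M` is free over a dense family of basic opens of `Spec R`. -/
def DenseFree : Prop :=
  ∀ g : R, g ≠ 0 → ∃ h : R, g * h ≠ 0 ∧ ∃ s : Set M, IsLocBasis R M (g * h) (fun x : s => (x : M))

variable {R M}

lemma IsLocBasis.injective {f : R} (hf : ¬ IsNilpotent f) {ι : Type*} {b : ι → M}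
    (h : IsLocBasis R M f b) : Injective b := by
  intro i j hij
  by_contra hne
  obtain ⟨k, hk⟩ := h.indep (Finsupp.single i 1 - Finsupp.single j 1) ⟨0, by simp [hij]⟩
  have h1 := DFunLike.congr_fun hk i
  simp [hne] at h1
  exact hf ⟨k, h1⟩

/-- Reindexing along an equivalence. -/
lemma IsLocBasis.reindex {f : R} {ι κ : Type*} {b : ι → M} (h : IsLocBasis R M f b)
    (e : κ ≃ ι) : IsLocBasis R M f (b ∘ e) where
  span m := by
    obtain ⟨k, hk⟩ := h.span m
    refine ⟨k, ?_⟩
    rwa [Set.range_comp, e.range_eq_univ, Set.image_univ]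
  indep l := by
    rintro ⟨k, hk⟩
    have h1 : Finsupp.linearCombination R (b ∘ e) l =
        Finsupp.linearCombination R b (Finsupp.equivMapDomain e l) := by
      rw [Finsupp.equivMapDomain_eq_mapDomain, Finsupp.linearCombination_mapDomain]
    rw [h1] at hk
    obtain ⟨j, hj⟩ := h.indep _ ⟨k, hk⟩
    refine ⟨j, ?_⟩
    ext i
    have := DFunLike.congr_fun hj (e i)
    simpa [Finsupp.equivMapDomain_apply] using this

/-- A local basis given by any family yields one indexed by a subset. -/
lemma IsLocBasis.exists_set {f : R} (hf : ¬ IsNilpotent f) {ι : Type*} {b : ι → M}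
    (h : IsLocBasis R M f b) : ∃ s : Set M, IsLocBasis R M f (fun x : s => (x : M)) := by
  refine ⟨Set.range b, ?_⟩
  have := h.reindex (Equiv.ofInjective b (h.injective hf)).symm
  convert this using 1
  ext ⟨x, hx⟩
  simp [Equiv.apply_ofInjective_symm]

/-- A basis is a local basis for every `f`. -/
lemma IsLocBasis.of_basis {ι : Type*} (b : Module.Basis ι R M) (f : R) : IsLocBasis R M f b where
  span m := ⟨0, by simp [b.span_eq]⟩
  indep l := by
    rintro ⟨k, hk⟩
    refine ⟨k, ?_⟩
    rw [← map_smul] at hk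
    exact linearIndependent_iff.mp b.linearIndependent _ hk

/-- A module all of whose elements are killed by powers of `f` has the empty local basis. -/
lemma IsLocBasis.of_torsion (f : R) (h : ∀ m : M, ∃ k : ℕ, f ^ k • m = 0) :
    IsLocBasis R M f (fun x : PEmpty.{1} => (x.elim : M)) where
  span m := by
    obtain ⟨k, hk⟩ := h m
    exact ⟨k, by simp [hk]⟩
  indep l := fun _ => ⟨0, Subsingleton.elim _ _⟩

/-- Transport along a linear equivalence. -/
lemma IsLocBasis.map {N : Type*} [AddCommGroup N] [Module R N] {f : R} {ι : Type*} {b : ι → M}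
    (h : IsLocBasis R M f b) (e : M ≃ₗ[R] N) : IsLocBasis R N f (e ∘ b) where
  span n := by
    obtain ⟨k, hk⟩ := h.span (e.symm n)
    refine ⟨k, ?_⟩
    have := Submodule.mem_map_of_mem (f := e.toLinearMap) hk
    rw [Submodule.map_span, ← Set.range_comp] at this
    simpa using this
  indep l := by
    rintro ⟨k, hk⟩
    apply h.indep l ⟨k, ?_⟩
    apply e.injective
    rw [map_zero, map_smul, ← hk]
    congr 1
    simp [Finsupp.linearCombination_apply, Finsupp.sum, map_sum]

/-- A local basis for `f` is a local basis for `f * g`. -/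
lemma IsLocBasis.mul_right {f : R} {ι : Type*} {b : ι → M} (h : IsLocBasis R M f b) (g : R) :
    IsLocBasis R M (f * g) b where
  span m := by
    obtain ⟨k, hk⟩ := h.span m
    refine ⟨k, ?_⟩
    rw [mul_pow, mul_comm, mul_smul]
    exact Submodule.smul_mem _ _ hk
  indep l := by
    rintro ⟨k, hk⟩
    have h1 : f ^ k • Finsupp.linearCombination R b (g ^ k • l) = 0 := by
      rw [map_smul, smul_smul, ← mul_pow]
      exact hk
    obtain ⟨j, hj⟩ := h.indep _ ⟨k, h1⟩
    refine ⟨j + k, ?_⟩
    have : (f * g) ^ (j + k) • l = (f ^ k * g ^ j) • (f ^ j • g ^ k • l) := by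
      rw [smul_smul, smul_smul]
      congr 1
      ring
    rw [this, hj, smul_zero]

lemma IsLocBasis.congr {f f' : R} (hff' : f = f') {ι : Type*} {b : ι → M}
    (h : IsLocBasis R M f b) : IsLocBasis R M f' b := hff' ▸ h

lemma linearCombination_sumElim {α β : Type*} (b₁ : α → M) (b₂ : β → M) (l : α ⊕ β →₀ R) :
    Finsupp.linearCombination R (Sum.elim b₁ b₂) l =
      Finsupp.linearCombination R b₁ (Finsupp.sumFinsuppLEquivProdFinsupp R l).1 +
        Finsupp.linearCombination R b₂ (Finsupp.sumFinsuppLEquivProdFinsupp R l).2 := by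
  have : Finsupp.linearCombination R (Sum.elim b₁ b₂) =
      ((Finsupp.linearCombination R b₁).coprod (Finsupp.linearCombination R b₂)) ∘ₗ
        (Finsupp.sumFinsuppLEquivProdFinsupp R).toLinearMap := by
    ext (_ | _) <;> simp
  rw [this]
  simp [LinearMap.coprod_apply]

/-- If every element of `M` is moved into the submodule `M'` by a power of `c`, a local basis of
`M'` for `f` is a local basis of `M` for `f * c`. -/
lemma IsLocBasis.of_submodule {M' : Submodule R M} {c : R}
    (hM' : ∀ m : M, ∃ k : ℕ, c ^ k • m ∈ M') {f : R} {ι : Type*} {b : ι → M'}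
    (h : IsLocBasis R M' f b) : IsLocBasis R M (f * c) (fun i => (b i : M)) where
  span m := by
    obtain ⟨k, hk⟩ := hM' m
    obtain ⟨j, hj⟩ := h.span ⟨_, hk⟩
    refine ⟨j + k, ?_⟩
    have h1 := Submodule.mem_map_of_mem (f := M'.subtype) hj
    rw [Submodule.map_span, ← Set.range_comp] at h1
    have h2 : (f * c) ^ (j + k) • m = (f ^ k * c ^ j) • (M'.subtype (f ^ j • ⟨c ^ k • m, hk⟩)) := by
      simp only [map_smul, Submodule.subtype_apply, smul_smul]
      congr 1
      ring
    rw [h2]
    exact Submodule.smul_mem _ _ h1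
  indep l := by
    rintro ⟨k, hk⟩
    have h1 : Finsupp.linearCombination R (fun i => (b i : M)) l =
        M'.subtype (Finsupp.linearCombination R b l) := by
      simp [Finsupp.linearCombination_apply, Finsupp.sum, map_sum]
    have h2 : f ^ k • Finsupp.linearCombination R b (c ^ k • l) = 0 := by
      apply M'.subtype_injective
      rw [map_zero, map_smul, map_smul, map_smul, ← h1, smul_smul, ← mul_pow]
      exact hk
    obtain ⟨j, hj⟩ := h.indep _ ⟨k, h2⟩
    refine ⟨j + k, ?_⟩
    have : (f * c) ^ (j + k) • l = (f ^ k * c ^ j) • (f ^ j • c ^ k • l) := by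
      rw [smul_smul, smul_smul]
      congr 1
      ring
    rw [this, hj, smul_zero]

/-- Extension lemma: local bases (for the same `f`) of a submodule and a quotient give a local
basis of the module. -/
lemma IsLocBasis.of_exact {M' M'' : Type*} [AddCommGroup M'] [Module R M'] [AddCommGroup M'']
    [Module R M''] (i : M' →ₗ[R] M) (g : M →ₗ[R] M'') (hi : Injective i) (hg : Surjective g)
    (hex : Function.Exact i g) {f : R} {ι' ι'' : Type*} {b' : ι' → M'} {b'' : ι'' → M''}
    (hs' : IsLocBasis R M' f b') (hs'' : IsLocBasis R M'' f b'') :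
    IsLocBasis R M f (Sum.elim (fun x => i (b' x)) (fun y => Function.surjInv hg (b'' y))) := by
  let σ : M'' → M := Function.surjInv hg
  have hσ : ∀ x, g (σ x) = x := Function.surjInv_eq hg
  let b₁ : ι' → M := fun x => i (b' x)
  let b₂ : ι'' → M := fun y => σ (b'' y)
  have hb₁ : ∀ l : ι' →₀ R, Finsupp.linearCombination R b₁ l =
      i (Finsupp.linearCombination R b' l) := by
    intro l
    simp [b₁, Finsupp.linearCombination_apply, Finsupp.sum, map_sum]
  have hb₂ : ∀ l : ι'' →₀ R, g (Finsupp.linearCombination R b₂ l) =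
      Finsupp.linearCombination R b'' l := by
    intro l
    simp [b₂, hσ, Finsupp.linearCombination_apply, Finsupp.sum, map_sum]
  have hgi : ∀ x, g (i x) = 0 := fun x => hex.apply_apply_eq_zero x
  change IsLocBasis R M f (Sum.elim b₁ b₂)
  refine ⟨?_, ?_⟩
  · intro m
    obtain ⟨k, hk⟩ := hs''.span (g m)
    obtain ⟨l'', hl''⟩ := Finsupp.mem_span_range_iff_exists_finsupp.mp hk
    rw [← Finsupp.linearCombination_apply] at hl''
    have h0 : g (f ^ k • m - Finsupp.linearCombination R b₂ l'') = 0 := by
      rw [map_sub, map_smul, hb₂, hl'', sub_self]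
    obtain ⟨m', hm'⟩ := (hex _).mp h0
    obtain ⟨j, hj⟩ := hs'.span m'
    obtain ⟨l', hl'⟩ := Finsupp.mem_span_range_iff_exists_finsupp.mp hj
    rw [← Finsupp.linearCombination_apply] at hl'
    refine ⟨j + k, ?_⟩
    have h1 : f ^ (j + k) • m =
        Finsupp.linearCombination R b₁ l' + f ^ j • Finsupp.linearCombination R b₂ l'' := by
      rw [hb₁, hl', map_smul, hm', smul_sub, sub_add_cancel, smul_smul, pow_add]
    rw [h1]
    refine Submodule.add_mem _ ?_ (Submodule.smul_mem _ _ ?_)
    · rw [← Finsupp.range_linearCombination]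
      refine ⟨Finsupp.mapDomain Sum.inl l', ?_⟩
      rw [Finsupp.linearCombination_mapDomain]
      rfl
    · rw [← Finsupp.range_linearCombination]
      refine ⟨Finsupp.mapDomain Sum.inr l'', ?_⟩
      rw [Finsupp.linearCombination_mapDomain]
      rfl
  · intro l
    rintro ⟨k, hk⟩
    rw [linearCombination_sumElim] at hk
    set l₁ := (Finsupp.sumFinsuppLEquivProdFinsupp R l).1 with hl₁
    set l₂ := (Finsupp.sumFinsuppLEquivProdFinsupp R l).2 with hl₂
    -- apply g
    have h1 : f ^ k • Finsupp.linearCombination R b'' l₂ = 0 := by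
      have := congrArg g hk
      rw [map_smul, map_add, hb₂, hb₁, hgi, zero_add, map_zero] at this
      exact this
    obtain ⟨j, hj⟩ := hs''.indep _ ⟨k, h1⟩
    have h3 : f ^ (j + k) • Finsupp.linearCombination R b₁ l₁ = 0 := by
      have := congrArg (fun x => f ^ j • x) hk
      simp only [smul_zero, smul_add] at this
      rw [smul_comm (f ^ j) (f ^ k) (Finsupp.linearCombination R b₂ l₂), ← map_smul _ (f ^ j) l₂, hj,
        map_zero, smul_zero, add_zero, smul_smul, ← pow_add] at this
      exact this
    rw [hb₁, ← map_smul] at h3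
    have h4 : f ^ (j + k) • Finsupp.linearCombination R b' l₁ = 0 :=
      hi (by rw [h3, map_zero])
    obtain ⟨j', hj'⟩ := hs'.indep _ ⟨j + k, h4⟩
    refine ⟨j + j', ?_⟩
    apply (Finsupp.sumFinsuppLEquivProdFinsupp R).injective
    rw [map_smul, map_zero]
    refine Prod.ext ?_ ?_
    · change f ^ (j + j') • l₁ = 0
      rw [pow_add, mul_smul, hj', smul_zero]
    · change f ^ (j + j') • l₂ = 0
      rw [pow_add, mul_comm, mul_smul, hj, smul_zero]

section Dense

variable [IsReduced R]

omit [IsReduced R] in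
lemma DenseFree.mk' (h : ∀ g : R, g ≠ 0 → ∃ h : R, g * h ≠ 0 ∧ ¬ IsNilpotent (g * h) ∧
    ∃ (ι : Type*) (b : ι → M), IsLocBasis R M (g * h) b) : DenseFree R M := by
  intro g hg
  obtain ⟨h', h1, h2, ι, b, hb⟩ := h g hg
  exact ⟨h', h1, hb.exists_set h2⟩

lemma not_isNilpotent_of_ne_zero {x : R} (hx : x ≠ 0) : ¬ IsNilpotent x :=
  fun h => hx (IsReduced.eq_zero x h)

/-- In a reduced ring, if `x * c ≠ 0` then `x * c * c ≠ 0`. -/
lemma mul_mul_self_ne_zero {x c : R} (h : x * c ≠ 0) : x * c * c ≠ 0 := by
  intro h0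
  apply not_isNilpotent_of_ne_zero h
  refine ⟨2, ?_⟩
  have : (x * c) ^ 2 = (x * c * c) * x := by ring
  rw [this, h0, zero_mul]

lemma DenseFree.of_forall {ι : Type*} (b : ι → M) (h : ∀ f : R, IsLocBasis R M f b) :
    DenseFree R M := by
  intro g hg
  refine ⟨1, by rwa [mul_one], ?_⟩
  exact (h (g * 1)).exists_set (not_isNilpotent_of_ne_zero (by rwa [mul_one]))

lemma DenseFree.of_free [Module.Free R M] : DenseFree R M :=
  DenseFree.of_forall _ fun f => IsLocBasis.of_basis (Module.Free.chooseBasis R M) f

lemma DenseFree.of_subsingleton [Subsingleton M] : DenseFree R M :=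
  DenseFree.of_forall _ fun f => IsLocBasis.of_torsion f fun m => ⟨0, Subsingleton.elim _ _⟩

lemma DenseFree.of_linearEquiv {N : Type*} [AddCommGroup N] [Module R N]
    (h : DenseFree R M) (e : M ≃ₗ[R] N) : DenseFree R N := by
  intro g hg
  obtain ⟨h', h1, s, hs⟩ := h g hg
  exact ⟨h', h1, (hs.map e).exists_set (not_isNilpotent_of_ne_zero h1)⟩

/-- Extension lemma for `DenseFree` (sequential localization). -/
lemma DenseFree.of_exact {M' M'' : Type*} [AddCommGroup M'] [Module R M'] [AddCommGroup M'']
    [Module R M''] (i : M' →ₗ[R] M) (g : M →ₗ[R] M'') (hi : Injective i) (hg : Surjective g)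
    (hex : Function.Exact i g) (h' : DenseFree R M') (h'' : DenseFree R M'') : DenseFree R M := by
  intro a ha
  obtain ⟨h₁, hh₁, s₁, hs₁⟩ := h' a ha
  obtain ⟨h₂, hh₂, s₂, hs₂⟩ := h'' (a * h₁) hh₁
  refine ⟨h₁ * h₂, by rwa [← mul_assoc], ?_⟩
  have hb := IsLocBasis.of_exact i g hi hg hex (hs₁.mul_right h₂) hs₂
  rw [← mul_assoc]
  exact hb.exists_set (not_isNilpotent_of_ne_zero hh₂)

section Finite

universe v

variable {A : Type*} [CommRing A] [Algebra R A]

private lemma denseFree_of_span_range (hA : ∀ J : Ideal A, DenseFree R (A ⧸ J)) :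
    ∀ (k : ℕ) (M : Type v) [AddCommGroup M] [Module R M] [Module A M] [IsScalarTower R A M]
      (v : Fin k → M), Submodule.span A (Set.range v) = ⊤ → DenseFree R M := by
  intro k
  induction k with
  | zero =>
    intro M _ _ _ _ v hv
    have : Subsingleton M := by
      rw [Set.range_eq_empty, Submodule.span_empty] at hv
      exact (Submodule.subsingleton_iff A).mp (subsingleton_of_bot_eq_top hv)
    exact DenseFree.of_subsingleton
  | succ k ih =>
    intro M _ _ _ _ v hv
    let M₀ : Submodule A M := Submodule.span A (Set.range (Fin.tail v))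
    have h₀ : DenseFree R M₀ := by
      refine ih M₀ (fun i => ⟨v i.succ, Submodule.subset_span ⟨i, rfl⟩⟩) ?_
      rw [eq_top_iff]
      rintro ⟨x, hx⟩ -
      have : Set.range (fun i : Fin k => (⟨v i.succ, Submodule.subset_span ⟨i, rfl⟩⟩ : M₀)) =
          (M₀.subtype) ⁻¹' (Set.range (Fin.tail v)) := by
        ext ⟨y, hy⟩
        simp [Fin.tail]
      rw [this]
      exact (Submodule.span_span_coe_preimage (R := A) (s := Set.range (Fin.tail v))).ge
        Submodule.mem_top
    let g : A →ₗ[A] M ⧸ M₀ := LinearMap.toSpanSingleton A _ (M₀.mkQ (v 0))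
    have hg : Surjective g := by
      intro y
      obtain ⟨x, rfl⟩ := M₀.mkQ_surjective y
      have hx : x ∈ Submodule.span A (Set.range v) := hv ▸ Submodule.mem_top
      rw [Fin.range_fin_succ, Submodule.span_insert, Submodule.mem_sup] at hx
      obtain ⟨y, hy, z, hz, rfl⟩ := hx
      obtain ⟨a, rfl⟩ := Submodule.mem_span_singleton.mp hy
      refine ⟨a, ?_⟩
      simp only [g, LinearMap.toSpanSingleton_apply, map_add, map_smul]
      rw [Submodule.mkQ_apply _ z, (Submodule.Quotient.mk_eq_zero M₀).mpr hz, add_zero]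
    let J : Ideal A := LinearMap.ker g
    let e : (A ⧸ J) ≃ₗ[A] M ⧸ M₀ := g.quotKerEquivOfSurjective hg
    have h₁ : DenseFree R (M ⧸ M₀) := (hA J).of_linearEquiv (e.restrictScalars R)
    exact DenseFree.of_exact (M₀.subtype.restrictScalars R) (M₀.mkQ.restrictScalars R)
      M₀.subtype_injective M₀.mkQ_surjective
      (fun x => by
        simp only [LinearMap.coe_restrictScalars, Submodule.mkQ_apply, Submodule.subtype_apply,
          Set.mem_range, Subtype.exists, exists_prop, exists_eq_right]
        exact Submodule.Quotient.mk_eq_zero M₀) h₀ h₁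

/-- A finite module over an `R`-algebra all of whose quotients are densely free over `R`
is densely free over `R`. -/
theorem DenseFree.of_finite_of_quotients (hA : ∀ J : Ideal A, DenseFree R (A ⧸ J))
    (M : Type v) [AddCommGroup M] [Module R M] [Module A M] [IsScalarTower R A M]
    [Module.Finite A M] : DenseFree R M := by
  obtain ⟨k, v, hv⟩ := Module.Finite.exists_fin (R := A) (M := M)
  exact denseFree_of_span_range hA k M v hv

end Finite

end Dense

end Groth.Agent.Lib.H77GenFreeRed
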