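import Groth.Agent.Lib.H77GenFGRed
import Groth.Agent.Lib.H77GenFP
import Mathlib.Algebra.Module.FinitePresentation
import Mathlib.RingTheory.Localization.BaseChange
import Mathlib.RingTheory.Localization.Module
import Mathlib.RingTheory.Localization.Away.Basic
import Mathlib.RingTheory.RingHom.FinitePresentation
import Mathlib.RingTheory.RingHom.Flat

/-!
# Generic freeness over reduced rings: conclusions in terms of localizations (helper77)

* `isLocalizedModule_comp_of_torsion`: if `φ : M → N` has `S`-torsion kernel and cokernel, a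
  localization of `N` is a localization of `M`.
* `IsLocBasis.free_of_isLocalizedModule`: a local basis for `f` gives freeness of any localization
  away from `f`.
* `flat_finitePresentation_awayMap`: flatness and finite presentation of `R_f → S_f`.
* `finitePresentation_localizedModule_of_locFG`: finite presentation of `M_f` over `S_f`.
* `exists_goodData`: Stacks 051Z in elementwise form.
-/

namespace Groth.Agent.Lib.H77GenFreeRed

open Function

section Loc

variable {R : Type*} [CommRing R] (S : Submonoid R)
  {M N Nf : Type*} [AddCommGroup M] [Module R M] [AddCommGroup N] [Module R N]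
  [AddCommGroup Nf] [Module R Nf]

/-- If `φ : M → N` has `S`-torsion kernel and cokernel, then a localization of `N` at `S` is also a
localization of `M` at `S`. -/
theorem isLocalizedModule_comp_of_torsion (φ : M →ₗ[R] N) (g : N →ₗ[R] Nf) [IsLocalizedModule S g]
    (hker : ∀ m, φ m = 0 → ∃ s : S, s • m = 0) (hcoker : ∀ n, ∃ s : S, ∃ m, φ m = s • n) :
    IsLocalizedModule S (g ∘ₗ φ) where
  map_units := IsLocalizedModule.map_units g
  surj y := by
    obtain ⟨⟨n, s⟩, hy⟩ := IsLocalizedModule.surj S g y
    obtain ⟨t, m, hm⟩ := hcoker n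
    refine ⟨⟨m, t * s⟩, ?_⟩
    simp only [LinearMap.coe_comp, comp_apply, Submonoid.smul_def, Submonoid.coe_mul] at hy hm ⊢
    rw [hm, mul_smul, hy, map_smul]
  exists_of_eq {x₁ x₂} h := by
    simp only [LinearMap.coe_comp, comp_apply] at h
    obtain ⟨c, hc⟩ := IsLocalizedModule.exists_of_eq (S := S) h
    have h1 : φ ((c : R) • (x₁ - x₂)) = 0 := by
      simp only [Submonoid.smul_def] at hc
      rw [map_smul, map_sub, smul_sub, hc, sub_self]
    obtain ⟨s, hs⟩ := hker _ h1
    refine ⟨s * c, ?_⟩
    simp only [Submonoid.smul_def, Submonoid.coe_mul] at hs ⊢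
    rw [← sub_eq_zero, ← smul_sub, mul_smul]
    exact hs

end Loc

section Free

variable {R : Type*} [CommRing R] {M : Type*} [AddCommGroup M] [Module R M]

/-- A local basis becomes a basis of any localization of `M` away from `f`. -/
theorem IsLocBasis.free_of_isLocalizedModule {f : R} {ι : Type*} {b : ι → M}
    (h : IsLocBasis R M f b)
    (Rf : Type*) [CommRing Rf] [Algebra R Rf] [IsLocalization.Away f Rf]
    {Mf : Type*} [AddCommGroup Mf] [Module R Mf] [Module Rf Mf] [IsScalarTower R Rf Mf]
    (g : M →ₗ[R] Mf) [IsLocalizedModule (Submonoid.powers f) g] : Module.Free Rf Mf := by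
  let φ : (ι →₀ R) →ₗ[R] M := Finsupp.linearCombination R b
  have hloc : IsLocalizedModule (Submonoid.powers f) (g ∘ₗ φ) := by
    refine isLocalizedModule_comp_of_torsion _ φ g ?_ ?_
    · intro l hl
      obtain ⟨k, hk⟩ := h.indep l ⟨0, by simpa using hl⟩
      exact ⟨⟨f ^ k, k, rfl⟩, hk⟩
    · intro m
      obtain ⟨k, hk⟩ := h.span m
      obtain ⟨l, hl⟩ := Finsupp.mem_span_range_iff_exists_finsupp.mp hk
      exact ⟨⟨f ^ k, k, rfl⟩, l, hl⟩
  let e : (ι →₀ Rf) ≃ₗ[R] Mf :=
    IsLocalizedModule.linearEquiv (Submonoid.powers f)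
      (Finsupp.mapRange.linearMap (α := ι) (Algebra.linearMap R Rf)) (g ∘ₗ φ)
  exact Module.Free.of_equiv (e.extendScalarsOfIsLocalization (Submonoid.powers f) Rf)

/-- A local basis gives freeness of `M_f` over `R_f`. -/
theorem IsLocBasis.free_localizedModule {f : R} {ι : Type*} {b : ι → M}
    (h : IsLocBasis R M f b) :
    Module.Free (Localization.Away f) (LocalizedModule (Submonoid.powers f) M) :=
  h.free_of_isLocalizedModule (Localization.Away f)
    (LocalizedModule.mkLinearMap (Submonoid.powers f) M)

end Free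

section Alg

open TensorProduct

universe u w

variable {R : Type u} [CommRing R] {S : Type w} [CommRing S] [Algebra R S]

/-- If `S` has a local basis for `f` and a presentation which is finite up to powers of `f`, then
`R_f → S_f` is flat and of finite presentation (for arbitrary models of the localizations). -/
theorem flat_finitePresentation_awayMap {f : R} {ι : Type*} {b : ι → S}
    (hb : IsLocBasis R S f b) {n : ℕ} {π : MvPolynomial (Fin n) R →ₐ[R] S}
    {G : Finset (MvPolynomial (Fin n) R)} (hp : Groth.Agent.Lib.H77GenFree.IsGenPres π G f)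
    (Rf : Type*) [CommRing Rf] [Algebra R Rf] [IsLocalization.Away f Rf]
    (Sf : Type*) [CommRing Sf] [Algebra S Sf] [IsLocalization.Away (algebraMap R S f) Sf] :
    (IsLocalization.Away.map Rf Sf (algebraMap R S) f).Flat ∧
      (IsLocalization.Away.map Rf Sf (algebraMap R S) f).FinitePresentation := by
  let : Algebra R Sf := ((algebraMap S Sf).comp (algebraMap R S)).toAlgebra
  have : IsScalarTower R S Sf := IsScalarTower.of_algebraMap_eq (fun x => rfl)
  let : Algebra Rf Sf := (IsLocalization.Away.map Rf Sf (algebraMap R S) f).toAlgebra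
  have : IsScalarTower R Rf Sf := IsScalarTower.of_algebraMap_eq (fun x => by
    change _ = IsLocalization.Away.map Rf Sf (algebraMap R S) f (algebraMap R Rf x)
    rw [IsLocalization.Away.map, IsLocalization.map_eq]
    rfl)
  have : IsLocalization (Algebra.algebraMapSubmonoid S (Submonoid.powers f)) Sf := by
    rw [Algebra.algebraMapSubmonoid_powers]
    infer_instance
  constructor
  · have hfree : Module.Free Rf Sf :=
      hb.free_of_isLocalizedModule Rf (IsScalarTower.toAlgHom R S Sf).toLinearMap
    change Module.Flat Rf Sf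
    infer_instance
  · have hpo : Algebra.IsPushout R Rf S Sf :=
      (Algebra.isPushout_of_isLocalization (Submonoid.powers f) Rf S Sf).symm
    have hfp : Algebra.FinitePresentation Rf (Rf ⊗[R] S) := hp.finitePresentation_tensor Rf
    change Algebra.FinitePresentation Rf Sf
    exact Algebra.FinitePresentation.equiv (Algebra.IsPushout.equiv R Rf S Sf)

end Alg

section Mod

variable {R : Type*} [CommRing R] {S : Type*} [CommRing S] [Algebra R S]
  {M : Type*} [AddCommGroup M] [Module S M]

/-- If the kernel of a surjection `S^a → M` is finitely generated up to powers of `f`, then `M_f`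
is a finitely presented `S_f`-module. -/
theorem finitePresentation_localizedModule_of_locFG {a : ℕ} (ρ : (Fin a → S) →ₗ[S] M)
    (hρ : Surjective ρ) {f : R} (hL : LocFG f (LinearMap.ker ρ)) :
    Module.FinitePresentation (Localization.Away (algebraMap R S f))
      (LocalizedModule (Submonoid.powers (algebraMap R S f)) M) := by
  classical
  obtain ⟨T, hTN, hT⟩ := hL
  let N₀ : Submodule S (Fin a → S) := Submodule.span S (T : Set (Fin a → S))
  have hN₀ : N₀ ≤ LinearMap.ker ρ := Submodule.span_le.mpr hTN
  let ρ' : ((Fin a → S) ⧸ N₀) →ₗ[S] M := N₀.liftQ ρ hN₀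
  have hfp : Module.FinitePresentation S ((Fin a → S) ⧸ N₀) :=
    Module.finitePresentation_of_free_of_surjective N₀.mkQ N₀.mkQ_surjective
      (by rw [Submodule.ker_mkQ]; exact ⟨T, rfl⟩)
  set φ : S := algebraMap R S f with hφ
  let g := LocalizedModule.mkLinearMap (Submonoid.powers φ) M
  have hloc : IsLocalizedModule (Submonoid.powers φ) (g ∘ₗ ρ') := by
    refine isLocalizedModule_comp_of_torsion _ ρ' g ?_ ?_
    · intro y hy
      obtain ⟨x, rfl⟩ := N₀.mkQ_surjective y
      have hx : x ∈ LinearMap.ker ρ := hy
      obtain ⟨k, hk⟩ := hT x hx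
      refine ⟨⟨φ ^ k, k, rfl⟩, ?_⟩
      change φ ^ k • N₀.mkQ x = 0
      rw [← map_smul, hφ, ← map_pow, algebraMap_smul]
      exact (Submodule.Quotient.mk_eq_zero N₀).mpr hk
    · intro m
      obtain ⟨x, rfl⟩ := hρ m
      exact ⟨1, N₀.mkQ x, by simp [ρ']⟩
  let e := (IsLocalizedModule.iso (Submonoid.powers φ) (g ∘ₗ ρ')).extendScalarsOfIsLocalization
    (Submonoid.powers φ) (Localization.Away φ)
  exact Module.FinitePresentation.of_equiv e

end Mod

section FT

open MvPolynomial

universe u w v

variable {R : Type u} [CommRing R]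

/-- Good data for an algebra at `f`: a local basis and a presentation finite up to powers of `f`. -/
def GoodAlg (R : Type u) [CommRing R] (S : Type w) [CommRing S] [Algebra R S] (f : R) : Prop :=
  (∃ s : Set S, IsLocBasis R S f (fun x : s => (x : S))) ∧
    ∃ (n : ℕ) (π : MvPolynomial (Fin n) R →ₐ[R] S) (G : Finset (MvPolynomial (Fin n) R)),
      Groth.Agent.Lib.H77GenFree.IsGenPres π G f

/-- Good data for a module at `f`: a local basis over `R` and a presentation over `S` finite up to
powers of `f`. -/
def GoodMod (R : Type u) [CommRing R] (S : Type w) [CommRing S] [Algebra R S]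
    (M : Type v) [AddCommGroup M] [Module S M] [Module R M] (f : R) : Prop :=
  (∃ s : Set M, IsLocBasis R M f (fun x : s => (x : M))) ∧
    ∃ (a : ℕ) (ρ : (Fin a → S) →ₗ[S] M), Surjective ρ ∧ LocFG f (LinearMap.ker ρ)

lemma GoodAlg.mul_right {S : Type w} [CommRing S] [Algebra R S] {f : R} (h : GoodAlg R S f)
    (g : R) : GoodAlg R S (f * g) := by
  obtain ⟨⟨s, hs⟩, n, π, G, hp⟩ := h
  exact ⟨⟨s, hs.mul_right g⟩, n, π, G, hp.mul_right g⟩

lemma GoodAlg.congr {S : Type w} [CommRing S] [Algebra R S] {f f' : R} (h : GoodAlg R S f)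
    (e : f = f') : GoodAlg R S f' := e ▸ h

lemma GoodMod.mul_right {S : Type w} [CommRing S] [Algebra R S] {M : Type v} [AddCommGroup M]
    [Module S M] [Module R M] {f : R} (h : GoodMod R S M f)
    (g : R) : GoodMod R S M (f * g) := by
  obtain ⟨⟨s, hs⟩, a, ρ, hρ, hL⟩ := h
  exact ⟨⟨s, hs.mul_right g⟩, a, ρ, hρ, hL.mul_right g⟩

lemma GoodMod.congr {S : Type w} [CommRing S] [Algebra R S] {M : Type v} [AddCommGroup M]
    [Module S M] [Module R M] {f f' : R} (h : GoodMod R S M f)
    (e : f = f') : GoodMod R S M f' := e ▸ h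

variable [IsReduced R]

/-- Ideals of a finite type algebra over a reduced ring are finitely generated over a dense family
of basic opens of the base. -/
theorem denseFG_ideal_of_finiteType (S : Type w) [CommRing S] [Algebra R S]
    [Algebra.FiniteType R S] (J : Ideal S) : DenseFG (R := R) J := by
  classical
  obtain ⟨n, π, hπ⟩ := Algebra.FiniteType.iff_quotient_mvPolynomial''.mp
    (inferInstance : Algebra.FiniteType R S)
  intro g hg
  obtain ⟨h, hh, G, hG, hx⟩ := denseFG_ideal n (J.comap π.toRingHom) g hg
  refine ⟨h, hh, G.image π, ?_, ?_⟩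
  · intro y hy
    rw [Finset.coe_image] at hy
    obtain ⟨x, hxG, rfl⟩ := hy
    exact hG hxG
  · intro y hy
    obtain ⟨p, rfl⟩ := hπ y
    obtain ⟨k, hk⟩ := hx p hy
    refine ⟨k, ?_⟩
    have h2 := Ideal.mem_map_of_mem π.toRingHom hk
    rw [Ideal.map_span] at h2
    rw [Finset.coe_image, ← map_smul]
    exact h2

/-- Submodules of finite free modules over a finite type algebra over a reduced ring are finitely
generated over a dense family of basic opens of the base. -/
theorem denseFG_submodule_of_finiteType (S : Type w) [CommRing S] [Algebra R S]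
    [Algebra.FiniteType R S] (m : ℕ) (N : Submodule S (Fin m → S)) : DenseFG (R := R) N :=
  denseFG_pi (denseFG_ideal_of_finiteType S) m N

/-- **Generic freeness and finite presentation of a finite type algebra over a reduced ring.** -/
theorem exists_goodAlg (S : Type w) [CommRing S] [Algebra R S] [Algebra.FiniteType R S]
    {g : R} (hg : g ≠ 0) : ∃ h : R, g * h ≠ 0 ∧ GoodAlg R S (g * h) := by
  obtain ⟨h₁, hh₁, s, hs⟩ := denseFree_of_finiteType (R := R) S S g hg
  obtain ⟨n, π, hπ⟩ := Algebra.FiniteType.iff_quotient_mvPolynomial''.mp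
    (inferInstance : Algebra.FiniteType R S)
  obtain ⟨h₂, hh₂, G, hG, hx⟩ := denseFG_ideal n (RingHom.ker π.toRingHom) (g * h₁) hh₁
  refine ⟨h₁ * h₂, by rwa [← mul_assoc], ⟨s, (hs.mul_right h₂).congr (mul_assoc _ _ _)⟩,
    n, π, G, ⟨hπ, hG, fun i hi => ?_⟩⟩
  rw [← mul_assoc]
  exact hx i hi

/-- **Generic freeness and finite presentation of a finite module over a finite type algebra over a
reduced ring.** -/
theorem exists_goodMod (S : Type w) [CommRing S] [Algebra R S] [Algebra.FiniteType R S]
    (M : Type v) [AddCommGroup M] [Module S M] [Module R M] [IsScalarTower R S M]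
    [Module.Finite S M] {g : R} (hg : g ≠ 0) : ∃ h : R, g * h ≠ 0 ∧ GoodMod R S M (g * h) := by
  obtain ⟨h₁, hh₁, s, hs⟩ := denseFree_of_finiteType (R := R) S M g hg
  obtain ⟨a, v, hv⟩ := Module.Finite.exists_fin (R := S) (M := M)
  let ρ : (Fin a → S) →ₗ[S] M := Fintype.linearCombination S v
  have hρ : Surjective ρ := by
    rw [← LinearMap.range_eq_top, Fintype.range_linearCombination, hv]
  obtain ⟨h₂, hh₂, hL⟩ := denseFG_submodule_of_finiteType (R := R) S a (LinearMap.ker ρ)
    (g * h₁) hh₁
  exact ⟨h₁ * h₂, by rwa [← mul_assoc], ⟨s, (hs.mul_right h₂).congr (mul_assoc _ _ _)⟩,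
    a, ρ, hρ, hL.congr (mul_assoc _ _ _)⟩

end FT

end Groth.Agent.Lib.H77GenFreeRed
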