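import Mathlib.RingTheory.NoetherNormalization

/-!
# Nagata's change of variables over an arbitrary commutative ring (helper77)

For a nonzero polynomial `f` in `n + 1` variables over a commutative ring `R` there is an
`R`-algebra automorphism `T` of the polynomial ring such that `T f`, seen as a polynomial in `X 0`
with coefficients in the remaining variables, has leading coefficient `C (coeff v f)` for some
monomial `v` in the support of `f` (Stacks 00OX, adapted from
`Mathlib/RingTheory/NoetherNormalization.lean` which treats fields).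
-/

namespace Groth.Agent.Lib.H77NagataGen

open Polynomial MvPolynomial Ideal Nat RingHom List

variable {R : Type*} [CommRing R] {n : ℕ} (f : MvPolynomial (Fin (n + 1)) R)
variable (v w : Fin (n + 1) →₀ ℕ)

local notation3 "up" => 2 + f.totalDegree

variable {f v} in
lemma lt_up (vlt : ∀ i, v i < up) : ∀ l ∈ ofFn v, l < up := by
  grind

local notation3 "r" => fun (i : Fin (n + 1)) ↦ up ^ i.1

/-- The algebra map sending `X_i` to `X_i + c • X_0 ^ r_i` for `i ≠ 0` and `X_0` to `X_0`. -/
noncomputable abbrev T1 (c : R) :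
    MvPolynomial (Fin (n + 1)) R →ₐ[R] MvPolynomial (Fin (n + 1)) R :=
  aeval fun i ↦ if i = 0 then X 0 else X i + c • X 0 ^ r i

lemma t1_comp_t1_neg (c : R) : (T1 f c).comp (T1 f (-c)) = AlgHom.id _ _ := by
  rw [comp_aeval, ← MvPolynomial.aeval_X_left]
  ext i v
  cases i using Fin.cases <;> simp

/-- The algebra automorphism `T f`. -/
noncomputable abbrev T := AlgEquiv.ofAlgHom (T1 f 1) (T1 f (-1))
  (t1_comp_t1_neg f 1) (by simpa using t1_comp_t1_neg f (-1))

lemma sum_r_mul_ne (vlt : ∀ i, v i < up) (wlt : ∀ i, w i < up) (ne : v ≠ w) :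
    ∑ x : Fin (n + 1), r x * v x ≠ ∑ x : Fin (n + 1), r x * w x := by
  intro h
  refine ne <| Finsupp.ext <| congrFun <| ofFn_inj.mp ?_
  apply ofDigits_inj_of_len_eq (Nat.lt_add_right f.totalDegree one_lt_two)
    (by simp) (lt_up vlt) (lt_up wlt)
  simpa only [ofDigits_eq_sum_mapIdx, mapIdx_eq_ofFn, get_ofFn, length_ofFn,
    Fin.val_cast, mul_comm, sum_ofFn] using! h

/-- The monic polynomial in `X_0` attached to the monomial `v`. -/
noncomputable def mon : Polynomial (MvPolynomial (Fin n) R) :=
  Polynomial.X ^ v 0 * ∏ i : Fin n, (Polynomial.C (X (R := R) i) + Polynomial.X ^ r i.succ) ^ v i.succ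

lemma finSuccEquiv_T_monomial (a : R) :
    finSuccEquiv R n (T f (monomial v a)) = Polynomial.C (MvPolynomial.C a) * mon f v := by
  rw [monomial_eq, Finsupp.prod_pow v fun a ↦ X a]
  simp only [mon, Fin.prod_univ_succ, map_mul, map_prod, map_pow,
    AlgEquiv.ofAlgHom_apply, MvPolynomial.aeval_C, MvPolynomial.aeval_X, if_pos, Fin.succ_ne_zero,
    ite_false, one_smul, map_add, finSuccEquiv_X_zero, finSuccEquiv_X_succ, algebraMap_eq]
  rw [finSuccEquiv_apply, eval₂Hom_C]
  rfl

lemma monic_factor (i : Fin n) :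
    (Polynomial.C (X (R := R) i) + Polynomial.X ^ r i.succ :
      Polynomial (MvPolynomial (Fin n) R)).Monic := by
  rw [add_comm]
  exact Polynomial.monic_X_pow_add_C _ (pow_ne_zero _ (by omega))

lemma natDegree_factor [Nontrivial R] (i : Fin n) :
    (Polynomial.C (X (R := R) i) + Polynomial.X ^ r i.succ :
      Polynomial (MvPolynomial (Fin n) R)).natDegree = r i.succ := by
  rw [add_comm]
  exact Polynomial.natDegree_X_pow_add_C

lemma monic_mon : (mon f v).Monic := by
  unfold mon
  exact (Polynomial.monic_X_pow _).mul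
    (Polynomial.monic_prod_of_monic _ _ fun i _ => (monic_factor f i).pow _)

lemma natDegree_mon [Nontrivial R] : (mon f v).natDegree = ∑ i : Fin (n + 1), r i * v i := by
  unfold mon
  rw [(Polynomial.monic_X_pow _).natDegree_mul
    (Polynomial.monic_prod_of_monic _ _ fun i _ => (monic_factor f i).pow _),
    Polynomial.natDegree_X_pow,
    Polynomial.natDegree_prod_of_monic _ _ fun i _ => (monic_factor f i).pow _,
    Fin.sum_univ_succ]
  simp only [Fin.val_zero, pow_zero, one_mul]
  congr 1
  refine Finset.sum_congr rfl fun i _ => ?_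
  rw [(monic_factor f i).natDegree_pow, natDegree_factor, mul_comm]

lemma lt_up_of_mem_support {w : Fin (n + 1) →₀ ℕ} (hw : w ∈ f.support) (i : Fin (n + 1)) :
    w i < up :=
  lt_of_le_of_lt ((monomial_le_degreeOf i hw).trans (degreeOf_le_totalDegree f i)) (by lia)

/-- **Nagata's trick over any commutative ring**: after the automorphism `T f`, the leading
coefficient of `f` in `X 0` is the constant `C (coeff v f)` for some `v` in the support. -/
theorem T_leadingCoeff (fne : f ≠ 0) :
    ∃ v ∈ f.support,
      (finSuccEquiv R n (T f f)).leadingCoeff = MvPolynomial.C (coeff v f) := by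
  classical
  have : Nontrivial R := by
    by_contra h
    rw [not_nontrivial_iff_subsingleton] at h
    exact fne (Subsingleton.elim _ _)
  obtain ⟨v, vin, vs⟩ := Finset.exists_max_image f.support
    (fun v ↦ ∑ i : Fin (n + 1), r i * v i) (support_nonempty.mpr fne)
  refine ⟨v, vin, ?_⟩
  set h := fun w ↦ (MvPolynomial.monomial w) (coeff w f) with hh
  have hterm : ∀ w, finSuccEquiv R n (T f (h w)) =
      Polynomial.C (MvPolynomial.C (coeff w f)) * mon f w := fun w => finSuccEquiv_T_monomial f w _
  have hdeg_le : ∀ w, (finSuccEquiv R n (T f (h w))).natDegree ≤ ∑ i : Fin (n + 1), r i * w i := by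
    intro w
    rw [hterm]
    exact (Polynomial.natDegree_C_mul_le _ _).trans (natDegree_mon f w).le
  have hcv : (MvPolynomial.C (coeff v f) : MvPolynomial (Fin n) R) ≠ 0 := by
    rw [Ne, MvPolynomial.C_eq_zero]
    exact mem_support_iff.mp vin
  have hdeg_v : (finSuccEquiv R n (T f (h v))).natDegree = ∑ i : Fin (n + 1), r i * v i := by
    rw [hterm, Polynomial.natDegree_C_mul_of_mul_ne_zero, natDegree_mon]
    rw [(monic_mon f v).leadingCoeff, mul_one]
    exact hcv
  have hlead_v : (finSuccEquiv R n (T f (h v))).leadingCoeff = MvPolynomial.C (coeff v f) := by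
    rw [hterm, Polynomial.leadingCoeff_mul_monic (monic_mon f v), Polynomial.leadingCoeff_C]
  have hlt : ∀ x ∈ f.support \ {v}, (finSuccEquiv R n ((T f) (h x))).degree <
      (finSuccEquiv R n ((T f) (h v))).degree := by
    intro x hx
    obtain ⟨h1, h2⟩ := Finset.mem_sdiff.mp hx
    have hne : x ≠ v := by simpa using h2
    apply Polynomial.degree_lt_degree
    rw [hdeg_v]
    refine lt_of_le_of_lt (hdeg_le x) (lt_of_le_of_ne (vs x h1) ?_)
    exact sum_r_mul_ne f x v (lt_up_of_mem_support f h1) (lt_up_of_mem_support f vin) hne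
  have hne0 : finSuccEquiv R n ((T f) (h v)) ≠ 0 := by
    intro h0
    rw [h0, Polynomial.leadingCoeff_zero] at hlead_v
    exact hcv hlead_v.symm
  have hsum : (finSuccEquiv R n ((T f) (h v + ∑ x ∈ f.support \ {v}, h x))).leadingCoeff =
      (finSuccEquiv R n ((T f) (h v))).leadingCoeff := by
    simp only [map_add, map_sum]
    rw [add_comm]
    apply Polynomial.leadingCoeff_add_of_degree_lt <|
      (lt_of_le_of_lt <| Polynomial.degree_sum_le _ _) ?_
    exact (Finset.sup_lt_iff <| Ne.bot_lt (fun x ↦ hne0 <| Polynomial.degree_eq_bot.mp x)).mpr hlt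
  have key : (T f) f = (T f) (h v + ∑ x ∈ f.support \ {v}, h x) := by
    congr 1
    rw [← Finset.sum_eq_add_sum_sdiff_singleton_of_mem vin h]
    exact f.support_sum_monomial_coeff.symm
  rw [key, hsum, hlead_v]

/-- Nagata's change of variables over any commutative ring. -/
theorem exists_algEquiv_leadingCoeff (fne : f ≠ 0) :
    ∃ (T : MvPolynomial (Fin (n + 1)) R ≃ₐ[R] MvPolynomial (Fin (n + 1)) R)
      (v : Fin (n + 1) →₀ ℕ), v ∈ f.support ∧
      (finSuccEquiv R n (T f)).leadingCoeff = MvPolynomial.C (coeff v f) := by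
  obtain ⟨v, hv, h⟩ := T_leadingCoeff f fne
  exact ⟨T f, v, hv, h⟩

end Groth.Agent.Lib.H77NagataGen
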