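import Groth.Agent.Lib.H77GenFreeRed
import Groth.Agent.Lib.H77NagataGen
import Groth.Agent.Lib.H77GenFreeMain
import Mathlib.RingTheory.MvPolynomial.Basic

/-!
# Generic freeness over a reduced ring (Stacks 051Z, freeness part) (helper77)

`denseFree_of_finiteType`: `R` reduced, `A` a finite type `R`-algebra, `M` a finite `A`-module:
for every `g ≠ 0` in `R` there is `h` with `g * h ≠ 0` such that `M` has a local basis for `g * h`
(i.e. `M_{gh}` is free over `R_{gh}`).
-/

namespace Groth.Agent.Lib.H77GenFreeRed

open Function MvPolynomial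

universe u w v

variable {R : Type u} [CommRing R]

section Normalize

variable {σ : Type*}

/-- Multiply `q` by a power of `g` so that every nonzero coefficient `c` of the result satisfies
`g ^ j * c ≠ 0` for all `j`. -/
lemma exists_pow_smul_good (g : R) (q : MvPolynomial σ R) :
    ∃ K : ℕ, ∀ v : σ →₀ ℕ, coeff v (g ^ K • q) ≠ 0 → ∀ j : ℕ, g ^ j * coeff v (g ^ K • q) ≠ 0 := by
  classical
  let kf : (σ →₀ ℕ) → ℕ := fun v =>
    if h : ∃ k : ℕ, g ^ k * coeff v q = 0 then h.choose else 0
  refine ⟨q.support.sup kf, fun v hv j hj => ?_⟩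
  rw [coeff_smul, smul_eq_mul] at hv hj
  have hvs : v ∈ q.support := by
    rw [mem_support_iff]
    intro h0
    rw [h0, mul_zero] at hv
    exact hv rfl
  by_cases h : ∃ k : ℕ, g ^ k * coeff v q = 0
  · have h1 : g ^ (kf v) * coeff v q = 0 := by
      simp only [kf, dif_pos h]
      exact h.choose_spec
    have h2 : kf v ≤ q.support.sup kf := Finset.le_sup hvs
    apply hv
    rw [← Nat.sub_add_cancel h2, pow_add, mul_assoc, h1, mul_zero]
  · apply h
    exact ⟨j + q.support.sup kf, by rw [pow_add, mul_assoc]; exact hj⟩

end Normalize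

variable [IsReduced R]

section Main

omit [IsReduced R] in
private lemma adjoin_range_comp_eq_top {A A' : Type*} [CommRing A] [Algebra R A] [CommRing A']
    [Algebra R A'] {ι : Type*} (s : ι → A) (hs : Algebra.adjoin R (Set.range s) = ⊤)
    (f : A →ₐ[R] A') (hf : Surjective f) : Algebra.adjoin R (Set.range (f ∘ s)) = ⊤ := by
  rw [Set.range_comp, Algebra.adjoin_image, hs, Algebra.map_top, AlgHom.range_eq_top]
  exact hf

omit [IsReduced R] in
/-- Surjective image of a free module with torsion kernel: local basis. -/
private lemma isLocBasis_of_surjective_of_torsion_ker {F A : Type*} [AddCommGroup F] [Module R F]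
    [AddCommGroup A] [Module R A] {ι : Type*} (b : Module.Basis ι R F) (π : F →ₗ[R] A)
    (hπ : Surjective π) (g : R) (hker : ∀ q : F, π q = 0 → ∃ k : ℕ, g ^ k • q = 0) :
    IsLocBasis R A g (π ∘ b) where
  span a := by
    obtain ⟨p, rfl⟩ := hπ a
    refine ⟨0, ?_⟩
    rw [pow_zero, one_smul, Set.range_comp, ← Submodule.map_span, b.span_eq]
    exact Submodule.mem_map_of_mem Submodule.mem_top
  indep l := by
    rintro ⟨k, hk⟩
    have h1 : Finsupp.linearCombination R (π ∘ b) l = π (Finsupp.linearCombination R b l) := by
      simp [Finsupp.linearCombination_apply, Finsupp.sum, map_sum]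
    rw [h1, ← map_smul] at hk
    obtain ⟨k', hk'⟩ := hker _ hk
    refine ⟨k' + k, ?_⟩
    rw [smul_smul, ← pow_add, ← map_smul] at hk'
    exact linearIndependent_iff.mp b.linearIndependent _ hk'

/-- Generic freeness of finite type algebras over a reduced ring, by induction on the number of
generators. -/
private theorem denseFree_algebra : ∀ (n : ℕ) (A : Type w) [CommRing A] [Algebra R A]
    (s : Fin n → A), Algebra.adjoin R (Set.range s) = ⊤ → DenseFree R A := by
  intro n
  induction n with
  | zero =>
    intro A _ _ s hs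
    have hsurj : Surjective (algebraMap R A) := by
      rw [Algebra.surjective_algebraMap_iff, ← hs, Set.range_eq_empty, Algebra.adjoin_empty]
    intro g hg
    by_cases hcase : ∀ q : R, algebraMap R A q = 0 → ∃ k : ℕ, g ^ k • q = 0
    · have hb := isLocBasis_of_surjective_of_torsion_ker (Module.Basis.singleton Unit R)
        (Algebra.linearMap R A) hsurj g hcase
      rw [← mul_one g] at hb
      exact ⟨1, by rwa [mul_one], hb.exists_set (not_isNilpotent_of_ne_zero (by rwa [mul_one]))⟩
    · push Not at hcase
      obtain ⟨q, hq0, hq⟩ := hcase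
      have hgq : g * q ≠ 0 := by simpa using hq 1
      have hb : IsLocBasis R A (g * q) (fun x : PEmpty.{1} => (x.elim : A)) := by
        refine IsLocBasis.of_torsion (g * q) fun a => ⟨1, ?_⟩
        rw [pow_one, mul_smul, Algebra.smul_def q a, hq0, zero_mul, smul_zero]
      exact ⟨q, hgq, hb.exists_set (not_isNilpotent_of_ne_zero hgq)⟩
  | succ n ih =>
    intro A _ _ s hs
    let π : MvPolynomial (Fin (n + 1)) R →ₐ[R] A := aeval s
    have hπ : Surjective π := by
      rw [← AlgHom.range_eq_top, ← Algebra.adjoin_range_eq_range_aeval, hs]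
    intro g hg
    by_cases hcase : ∀ q : MvPolynomial (Fin (n + 1)) R, π q = 0 → ∃ k : ℕ, g ^ k • q = 0
    · have hb := isLocBasis_of_surjective_of_torsion_ker
        (MvPolynomial.basisMonomials (Fin (n + 1)) R) π.toLinearMap hπ g hcase
      rw [← mul_one g] at hb
      exact ⟨1, by rwa [mul_one], hb.exists_set (not_isNilpotent_of_ne_zero (by rwa [mul_one]))⟩
    · push Not at hcase
      obtain ⟨q₀, hq₀0, hq₀⟩ := hcase
      obtain ⟨K, hK⟩ := exists_pow_smul_good g q₀
      set q := g ^ K • q₀ with hqdef
      have hq : q ≠ 0 := hq₀ K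
      have hq0 : π q = 0 := by rw [hqdef, map_smul, hq₀0, smul_zero]
      obtain ⟨T, v, hv, hlead⟩ := Groth.Agent.Lib.H77NagataGen.exists_algEquiv_leadingCoeff q hq
      set c := coeff v q with hc
      have hc0 : c ≠ 0 := mem_support_iff.mp hv
      have hgc : g * c ≠ 0 := by simpa using hK v hc0 1
      let ρ : MvPolynomial (Fin (n + 1)) R →ₐ[R] A := π.comp T.symm.toAlgHom
      have hρ : Surjective ρ := hπ.comp T.symm.surjective
      have hρq : ρ (T q) = 0 := by simp [ρ, hq0]
      set t : Fin n → A := fun i => ρ (X i.succ) with ht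
      set B := Algebra.adjoin R (Set.range t) with hB
      obtain ⟨M', hfg, hM'⟩ : ∃ M' : Submodule B A, M'.FG ∧ ∀ a : A, ∃ k : ℕ, c ^ k • a ∈ M' :=
        Groth.Agent.Lib.H77GenFree.exists_submodule_of_leadingCoeff ρ hρ (T q) hρq c hlead
      -- `B` is generated by `n` elements
      let t' : Fin n → B := fun i => ⟨t i, Algebra.subset_adjoin ⟨i, rfl⟩⟩
      have ht' : Algebra.adjoin R (Set.range t') = ⊤ := by
        have : Set.range t' = ((↑) : B → A) ⁻¹' (Set.range t) := by
          ext ⟨x, hx⟩
          simp [t', Subtype.ext_iff]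
        rw [this]
        exact Algebra.adjoin_adjoin_coe_preimage
      have hBq : ∀ J : Ideal B, DenseFree R (B ⧸ J) := fun J =>
        ih (B ⧸ J) ((Ideal.Quotient.mkₐ R J) ∘ t')
          (adjoin_range_comp_eq_top t' ht' _ (Ideal.Quotient.mkₐ_surjective R J))
      have : Module.Finite B M' := Module.Finite.of_fg hfg
      have hM'free : DenseFree R M' := DenseFree.of_finite_of_quotients hBq M'
      have hM'free' : DenseFree R (M'.restrictScalars R) :=
        hM'free.of_linearEquiv ((Submodule.restrictScalarsEquiv R B A M').symm.restrictScalars R)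
      obtain ⟨h, hh, S, hS⟩ := hM'free' (g * c) hgc
      have hfin : g * (c * h * c) ≠ 0 := by
        have h1 : g * h * c ≠ 0 := by
          have : g * h * c = g * c * h := by ring
          rwa [this]
        have h2 := mul_mul_self_ne_zero h1
        have : g * (c * h * c) = g * h * c * c := by ring
        rwa [this]
      have hb := IsLocBasis.of_submodule (M' := M'.restrictScalars R) (c := c)
        (fun m => by simpa using hM' m) hS
      have hb' := hb.congr (show g * c * h * c = g * (c * h * c) by ring)
      exact ⟨c * h * c, hfin, hb'.exists_set (not_isNilpotent_of_ne_zero hfin)⟩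

/-- **Generic freeness over a reduced ring**, elementwise form: a finite module over a finite type
algebra over a reduced ring `R` is free over a dense family of basic opens of `Spec R`. -/
theorem denseFree_of_finiteType (A : Type w) [CommRing A] [Algebra R A] [Algebra.FiniteType R A]
    (M : Type v) [AddCommGroup M] [Module R M] [Module A M] [IsScalarTower R A M]
    [Module.Finite A M] : DenseFree R M := by
  obtain ⟨n, f, hf⟩ := Algebra.FiniteType.iff_quotient_mvPolynomial''.mp
    (inferInstance : Algebra.FiniteType R A)
  have hs : Algebra.adjoin R (Set.range (fun i : Fin n => f (X i))) = ⊤ := by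
    have : Set.range (fun i : Fin n => f (X i)) = Set.range (f ∘ X) := rfl
    rw [this]
    refine adjoin_range_comp_eq_top (X : Fin n → MvPolynomial (Fin n) R) ?_ f hf
    exact MvPolynomial.adjoin_range_X
  refine DenseFree.of_finite_of_quotients (A := A) (fun J => ?_) M
  exact denseFree_algebra n (A ⧸ J) ((Ideal.Quotient.mkₐ R J) ∘ fun i : Fin n => f (X i))
    (adjoin_range_comp_eq_top _ hs _ (Ideal.Quotient.mkₐ_surjective R J))

end Main

end Groth.Agent.Lib.H77GenFreeRed
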