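import Mathlib
import Groth.Agent.Lib.H77GenImage
import Groth.Agent.Lib.H77GenClosure

/-!
Scheme versions of the generic image / generic closure lemmas, and versions for closed subsets.
-/

namespace Groth.Agent.Lib.H77GenImageSch

open AlgebraicGeometry CategoryTheory Limits Groth.Agent.Lib.H77FibreLocal

universe u

set_option linter.style.haveILetI false

/-- affine source and target: if the generic point is in the image, so is a basic open. -/
theorem exists_basicOpen_subset_range_spec {R A : CommRingCat.{u}} (φ : R ⟶ A)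
    (hφ : φ.hom.FiniteType) (η : PrimeSpectrum R)
    (hη : ∀ y : PrimeSpectrum R, η.asIdeal ≤ y.asIdeal) (h : η ∈ Set.range (Spec.map φ)) :
    ∃ g : R, g ∉ η.asIdeal ∧
      (PrimeSpectrum.basicOpen g : Set (PrimeSpectrum R)) ⊆ Set.range (Spec.map φ) := by
  letI := φ.hom.toAlgebra
  haveI : Algebra.FiniteType R A := hφ
  obtain ⟨x₀, hx₀⟩ := h
  obtain ⟨x₀', rfl⟩ : ∃ x₀' : PrimeSpectrum A, x₀' = x₀ := ⟨x₀, rfl⟩
  have hx₀' : x₀'.asIdeal.comap (algebraMap R A) = η.asIdeal := by
    rw [← hx₀]; rfl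
  obtain ⟨g, hg, hgP⟩ := Groth.Agent.Lib.H77GenImage.exists_not_mem_forall_exists_prime
    η.asIdeal (η.asIdeal.map (algebraMap R A)) le_rfl (1 : A) x₀'
    (by rw [Ideal.map_le_iff_le_comap, ← hx₀']) (fun h1 => x₀'.isPrime.ne_top
      ((Ideal.eq_top_iff_one _).mpr h1)) hx₀'
  refine ⟨g, hg, fun P hP => ?_⟩
  obtain ⟨Q, -, -, hQ⟩ := hgP P (hη P) hP
  exact ⟨Q, hQ⟩

/-- affine target -/
theorem exists_basicOpen_subset_range_affine_base (R : CommRingCat.{u})
    [IrreducibleSpace (Spec R)] {X : Scheme.{u}} (f : X ⟶ Spec R) [LocallyOfFiniteType f]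
    (h : genericPoint (Spec R) ∈ Set.range f) :
    ∃ g : R, g ∉ (genericPoint (Spec R) : PrimeSpectrum R).asIdeal ∧
      (PrimeSpectrum.basicOpen g : Set (PrimeSpectrum R)) ⊆ Set.range f := by
  obtain ⟨x₀, hx₀⟩ := h
  obtain ⟨i, xi, rfl⟩ := X.affineOpenCover.openCover.exists_eq x₀
  haveI : IsOpenImmersion (X.affineOpenCover.f i) := X.affineOpenCover.openCover.map_prop i
  haveI : LocallyOfFiniteType (X.affineOpenCover.f i ≫ f) := inferInstance
  obtain ⟨φ, hφ⟩ := Spec.map_surjective (X.affineOpenCover.f i ≫ f)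
  have hft : φ.hom.FiniteType := by
    rw [← HasRingHomProperty.Spec_iff (P := @LocallyOfFiniteType), hφ]
    infer_instance
  obtain ⟨g, hg, hgr⟩ := exists_basicOpen_subset_range_spec φ hft (genericPoint (Spec R))
    (genericPoint_asIdeal_le R) ⟨xi, by rw [hφ]; exact hx₀⟩
  refine ⟨g, hg, hgr.trans ?_⟩
  rw [hφ]
  rintro _ ⟨z, rfl⟩
  exact ⟨X.affineOpenCover.f i z, rfl⟩

/-- **Generic image**: a morphism locally of finite type to an irreducible scheme whose image
contains the generic point has image containing a nonempty open. -/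
theorem exists_opens_subset_range {X Y : Scheme.{u}} (f : X ⟶ Y) [IrreducibleSpace Y]
    [LocallyOfFiniteType f] (h : genericPoint Y ∈ Set.range f) :
    ∃ V : Y.Opens, genericPoint Y ∈ V ∧ (V : Set Y) ⊆ Set.range f := by
  obtain ⟨i, η', hη'⟩ := Y.affineOpenCover.openCover.exists_eq (genericPoint Y)
  let R : CommRingCat.{u} := Y.affineOpenCover.X i
  let j : Spec R ⟶ Y := Y.affineOpenCover.f i
  haveI : IsOpenImmersion j := Y.affineOpenCover.openCover.map_prop i
  haveI : Nonempty (Spec R) := ⟨η'⟩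
  haveI : IrreducibleSpace (Spec R) := irreducibleSpace_of_isOpenImmersion j
  have hgen : j (genericPoint (Spec R)) = genericPoint Y :=
    genericPoint_eq_of_isOpenImmersion j
  let f' := pullback.snd f j
  have hcomm : ∀ z, f (pullback.fst f j z) = j (f' z) := fun z => by
    have := pullback.condition (f := f) (g := j)
    exact congr($(this) z)
  have h' : genericPoint (Spec R) ∈ Set.range f' := by
    rw [Scheme.Pullback.range_snd, Set.mem_preimage]
    rw [hgen]
    exact h
  obtain ⟨g, hg, hgr⟩ := exists_basicOpen_subset_range_affine_base R f' h'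
  refine ⟨j ''ᵁ PrimeSpectrum.basicOpen g, ⟨genericPoint (Spec R), hg, hgen⟩, ?_⟩
  rintro _ ⟨y', hy', rfl⟩
  obtain ⟨z, hz⟩ := hgr hy'
  exact ⟨pullback.fst f j z, (hcomm z).trans (congrArg j hz)⟩

/-- Closed subset version of the generic image lemma. -/
theorem exists_opens_subset_image {X Y : Scheme.{u}} (f : X ⟶ Y) [IrreducibleSpace Y]
    [LocallyOfFiniteType f] (T : Set X) (hT : IsClosed T) (h : genericPoint Y ∈ f '' T) :
    ∃ V : Y.Opens, genericPoint Y ∈ V ∧ (V : Set Y) ⊆ f '' T := by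
  let I := Scheme.IdealSheafData.vanishingIdeal ⟨T, hT⟩
  have hr : Set.range I.subschemeι = T := by
    rw [Scheme.IdealSheafData.range_subschemeι, Scheme.IdealSheafData.coe_support_vanishingIdeal]
    rfl
  have hrange : Set.range (I.subschemeι ≫ f) = f '' T := by
    rw [Scheme.Hom.comp_base, TopCat.coe_comp, Set.range_comp, hr]
  have := exists_opens_subset_range (I.subschemeι ≫ f) (hrange ▸ h)
  rwa [hrange] at this

/-- Closed subset version of the generic closure lemma. -/
theorem exists_opens_inter_preimage_subset_closure {X Y : Scheme.{u}} (f : X ⟶ Y)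
    [IrreducibleSpace Y] [LocallyOfFiniteType f] [QuasiCompact f] (T : Set X) (hT : IsClosed T) :
    ∃ V : Y.Opens, genericPoint Y ∈ V ∧
      T ∩ f ⁻¹' (V : Set Y) ⊆ closure (T ∩ f ⁻¹' {genericPoint Y}) := by
  let I := Scheme.IdealSheafData.vanishingIdeal ⟨T, hT⟩
  have hr : Set.range I.subschemeι = T := by
    rw [Scheme.IdealSheafData.range_subschemeι, Scheme.IdealSheafData.coe_support_vanishingIdeal]
    rfl
  obtain ⟨V, hηV, hV⟩ :=
    Groth.Agent.Lib.H77GenClosure.exists_opens_preimage_subset_closure (I.subschemeι ≫ f)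
  refine ⟨V, hηV, ?_⟩
  rintro x ⟨hxT, hxV⟩
  rw [← hr] at hxT
  obtain ⟨t, rfl⟩ := hxT
  have h1 : t ∈ (I.subschemeι ≫ f) ⁻¹' (V : Set Y) := hxV
  have h2 := hV h1
  have h3 : I.subschemeι t ∈ closure (I.subschemeι '' ((I.subschemeι ≫ f) ⁻¹' {genericPoint Y})) :=
    image_closure_subset_closure_image I.subschemeι.continuous (Set.mem_image_of_mem _ h2)
  refine closure_mono ?_ h3
  rintro _ ⟨z, hz, rfl⟩
  exact ⟨hr ▸ Set.mem_range_self z, hz⟩

end Groth.Agent.Lib.H77GenImageSch
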