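import Mathlib
import Groth.Agent.Lib.H77GenImageSch

/-!
Open subset version of the generic image lemma.
-/

namespace Groth.Agent.Lib.H77GenImageOpen

open AlgebraicGeometry CategoryTheory Limits

universe u

/-- Open subset version of the generic image lemma: if the generic point of `Y` lies in the image of
an open subset `U` of `X`, then `f '' U` contains an open neighbourhood of the generic point. -/
theorem exists_opens_subset_image_open {X Y : Scheme.{u}} (f : X ⟶ Y) [IrreducibleSpace Y]
    [LocallyOfFiniteType f] (U : X.Opens) (h : genericPoint Y ∈ f '' (U : Set X)) :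
    ∃ V : Y.Opens, genericPoint Y ∈ V ∧ (V : Set Y) ⊆ f '' (U : Set X) := by
  have hrange : Set.range (U.ι ≫ f) = f '' (U : Set X) := by
    rw [Scheme.Hom.comp_base, TopCat.coe_comp, Set.range_comp, Scheme.Opens.range_ι]
  rw [← hrange] at h ⊢
  exact Groth.Agent.Lib.H77GenImageSch.exists_opens_subset_range (U.ι ≫ f) h

end Groth.Agent.Lib.H77GenImageOpen
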