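import Groth.Prelude.Def_EGA4Misc
import Groth.Agent.Lib.H77GeomCountMain
import Groth.Agent.Lib.ConsLocusMorMain

/-!
# "Geometrically connected" is an ind-constructible property of algebraic schemes (helper77)

* `geomConnProp`: the relation on composable pairs `X ⟶ Y ⟶ T` saying that `Y ⟶ T` is geometrically
  connected; `isFieldStableMor_geomConnProp`, `isIndConsMor_geomConnProp`.
-/

set_option autoImplicit false
set_option linter.style.haveILetI false
universe u
open CategoryTheory Limits AlgebraicGeometry Topology

namespace Groth.Agent.Lib.H77GeomConnCons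

open Groth.Agent.Lib.H77GeomFiberMap Groth.Agent.Lib.H77GeomCountMain

/-- `Y ⟶ T` is geometrically connected. -/
def geomConnProp : ∀ ⦃X Y T : Scheme.{u}⦄, (X ⟶ Y) → (Y ⟶ T) → Prop :=
  fun _ _ _ _ g => GeometricallyConnected g

theorem geometricallyConnected_iff_geomConnFiber_of_subsingleton {Y T : Scheme.{u}} (g : Y ⟶ T)
    [Subsingleton T] (t : T) : GeometricallyConnected g ↔ GCF g t := by
  rw [GeometricallyConnected.iff_geometricallyConnected_fiber]
  constructor
  · intro h
    exact h t
  · intro h t'
    rw [Subsingleton.elim t' t]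
    exact h

theorem isFieldStableMor_geomConnProp : ConsProp.IsFieldStableMor geomConnProp.{u} := by
  intro X X' Y Y' T T' f g f' g' eX eY h _ _ _ _ _ _ _ _ hY _
  change GeometricallyConnected g ↔ GeometricallyConnected g'
  obtain ⟨t'⟩ : Nonempty T' := inferInstance
  rw [geometricallyConnected_iff_geomConnFiber_of_subsingleton g (h t'),
    geometricallyConnected_iff_geomConnFiber_of_subsingleton g' t']
  exact (geomConnFiber_iff_of_isPullback g h g' eY hY t').symm

theorem isIndConsMor_geomConnProp : ConsProp.IsIndConsMor geomConnProp.{u} := by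
  refine ⟨isFieldStableMor_geomConnProp, ?_⟩
  intro X Y S f g _ _ _ _ _ _ hgen
  obtain ⟨V, hηV, hV⟩ := exists_opens_forall_geomConnFiber g hgen
  exact ⟨genericPoint S, mem_interior.mpr ⟨V, fun s hs => hV s hs, V.isOpen, hηV⟩⟩

end Groth.Agent.Lib.H77GeomConnCons
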