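import Groth.Agent.Lib.H77FibrePropLocal

/-!
# Spreading out fibre properties: reduction to a base with separably closed function field (helper77)

`core_of_coreSC`: let `Q f y` be a property of a morphism `f : X ⟶ Y` and a point `y` of `Y` which is
invariant under arbitrary base change.  To prove "`Q` at the generic point of `Spec R` (`R` a domain)
implies `Q` on a nonempty principal open" for all `f` of finite type, it suffices to do so when the
residue field of the generic point of `Spec R` is separably closed.  (Base change to the integral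
closure of `R` in a separable closure of its fraction field, which is integral, hence surjective
on spectra.)
-/

set_option autoImplicit false
set_option linter.style.haveILetI false
universe u
open CategoryTheory Limits AlgebraicGeometry

namespace Groth.Agent.Lib.H77SepClosedBase

theorem isSepClosed_of_ringEquiv {k k' : Type*} [Field k] [Field k'] (e : k ≃+* k')
    [IsSepClosed k] : IsSepClosed k' := by
  refine ⟨fun p hp => ?_⟩
  have h1 : (p.map (e.symm : k' →+* k)).Separable := hp.map
  have h2 := IsSepClosed.splits_domain (f := (e : k →+* k')) _ h1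
  rw [Polynomial.map_map] at h2
  have h3 : (e : k →+* k').comp (e.symm : k' →+* k) = RingHom.id k' := by
    ext x; simp
  rwa [h3, Polynomial.map_id] at h2

/-- The generic point of the spectrum of a domain. -/
theorem genericPoint_spec_of_isDomain (R : CommRingCat.{u}) [IsDomain R] :
    genericPoint (Spec R) = (⟨⊥, Ideal.isPrime_bot⟩ : PrimeSpectrum R) := by
  apply (genericPoint_spec (Spec R)).eq
  change closure {(⟨⊥, Ideal.isPrime_bot⟩ : PrimeSpectrum R)} = Set.univ
  rw [PrimeSpectrum.closure_singleton]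
  simp

theorem isSepClosed_residueField_of_eq_bot (A : Type u) [CommRing A] [IsDomain A] (Ω : Type u)
    [Field Ω] [IsSepClosed Ω] [Algebra A Ω] [IsFractionRing A Ω] (p : Ideal A) [p.IsPrime]
    (hp : p = ⊥) : IsSepClosed p.ResidueField := by
  subst hp
  haveI : IsFractionRing A (⊥ : Ideal A).ResidueField := inferInstance
  let e2 : (⊥ : Ideal A).ResidueField ≃ₐ[A] Ω :=
    IsLocalization.algEquiv (nonZeroDivisors A) _ _
  exact isSepClosed_of_ringEquiv e2.toRingEquiv.symm

/-- If `Ω` is a separably closed fraction field of the domain `A`, the residue field of the generic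
point of `Spec A` is separably closed. -/
theorem isSepClosed_residueField_bot (A : CommRingCat.{u}) [IsDomain A] (Ω : Type u) [Field Ω]
    [IsSepClosed Ω] [Algebra A Ω] [IsFractionRing A Ω] (η : Spec A)
    (hη : η = (⟨⊥, Ideal.isPrime_bot⟩ : PrimeSpectrum A)) :
    IsSepClosed ((Spec A).residueField η) := by
  let e1 := (Scheme.Spec.residueFieldIso A η).commRingCatIsoToRingEquiv
  have hp : (PrimeSpectrum.asIdeal η) = ⊥ := by rw [hη]
  haveI : (PrimeSpectrum.asIdeal η).IsPrime := PrimeSpectrum.isPrime η
  haveI := isSepClosed_residueField_of_eq_bot A Ω (PrimeSpectrum.asIdeal η) hp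
  exact isSepClosed_of_ringEquiv e1.symm

variable (Q : ∀ ⦃X Y : Scheme.{u}⦄, (X ⟶ Y) → Y → Prop)
  (hbc : ∀ ⦃X Y X' Y' : Scheme.{u}⦄ (f : X ⟶ Y) (g : Y' ⟶ Y) (f' : X' ⟶ Y') (g' : X' ⟶ X),
      IsPullback g' f' f g → ∀ y' : Y', Q f' y' ↔ Q f (g y'))
  (coreSC : ∀ (R : CommRingCat.{u}) [IsDomain R] {X : Scheme.{u}} (f : X ⟶ Spec R)
      [LocallyOfFiniteType f] [QuasiCompact f],
      ∀ η : Spec R, η = (⟨⊥, Ideal.isPrime_bot⟩ : PrimeSpectrum R) →
      IsSepClosed ((Spec R).residueField η) → Q f η →
      ∃ g : R, g ≠ 0 ∧ ∀ y : Spec R, y ∈ PrimeSpectrum.basicOpen g → Q f y)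

include hbc coreSC in
theorem core_of_coreSC (R : CommRingCat.{u}) [IsDomain R] {X : Scheme.{u}} (f : X ⟶ Spec R)
    [LocallyOfFiniteType f] [QuasiCompact f]
    (h : Q f (⟨⊥, Ideal.isPrime_bot⟩ : PrimeSpectrum R)) :
    ∃ g : R, g ≠ 0 ∧ ∀ y : Spec R, y ∈ PrimeSpectrum.basicOpen g → Q f y := by
  let K := FractionRing R
  let Ω := SeparableClosure K
  letI : Algebra R Ω := ((algebraMap K Ω).comp (algebraMap R K)).toAlgebra
  haveI : IsScalarTower R K Ω := IsScalarTower.of_algebraMap_eq (fun _ => rfl)
  haveI : Algebra.IsAlgebraic R Ω :=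
    (IsFractionRing.comap_isAlgebraic_iff (A := R) (K := K) (C := Ω)).mpr inferInstance
  have hinjΩ : Function.Injective (algebraMap R Ω) := by
    rw [IsScalarTower.algebraMap_eq R K Ω]
    exact (algebraMap K Ω).injective.comp (IsFractionRing.injective R K)
  let S : Subalgebra R Ω := integralClosure R Ω
  haveI hfr : IsFractionRing S Ω :=
    integralClosure.isFractionRing_of_algebraic (A := R) (L := Ω)
      (fun x hx => hinjΩ (hx.trans (map_zero _).symm))
  let R' : CommRingCat.{u} := CommRingCat.of S
  haveI : IsDomain R' := inferInstanceAs (IsDomain S)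
  haveI : Algebra.IsIntegral R S := inferInstance
  have hinjS : Function.Injective (algebraMap R S) := by
    intro a b hab
    apply hinjΩ
    have := congrArg (algebraMap S Ω) hab
    rwa [← IsScalarTower.algebraMap_apply, ← IsScalarTower.algebraMap_apply] at this
  let ψ : R ⟶ R' := CommRingCat.ofHom (algebraMap R S)
  let c : Spec R' ⟶ Spec R := Spec.map ψ
  let f' := pullback.snd f c
  let c' := pullback.fst f c
  have hiff : ∀ y' : Spec R', Q f' y' ↔ Q f (c y') := fun y' =>
    hbc f c f' c' (IsPullback.of_hasPullback f c) y'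
  let η' : Spec R' := (⟨⊥, Ideal.isPrime_bot⟩ : PrimeSpectrum R')
  have hbot : c η' = (⟨⊥, Ideal.isPrime_bot⟩ : PrimeSpectrum R) := by
    apply PrimeSpectrum.ext
    change Ideal.comap (algebraMap R S) ⊥ = ⊥
    rw [← RingHom.ker_eq_comap_bot]
    exact (RingHom.injective_iff_ker_eq_bot _).mp hinjS
  -- the generic residue field of `Spec R'` is separably closed
  have hsc : IsSepClosed ((Spec R').residueField η') := by
    haveI : IsFractionRing R' Ω := hfr
    exact isSepClosed_residueField_bot R' Ω η' rfl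
  obtain ⟨g', hg', hgy⟩ := coreSC R' f' η' rfl hsc ((hiff η').mpr (hbot ▸ h))
  -- descend the open
  have halg : IsAlgebraic R (g' : S) := (Algebra.IsIntegral.isIntegral (R := R) g').isAlgebraic
  obtain ⟨a, ha, hdvd⟩ := halg.exists_nonzero_dvd (mem_nonZeroDivisors_of_ne_zero hg')
  refine ⟨a, ha, fun y hy => ?_⟩
  obtain ⟨P, hP⟩ : ∃ P : PrimeSpectrum R, P = y := ⟨_, rfl⟩
  rw [← hP] at hy ⊢
  obtain ⟨Q', hQ'prime, hQ'⟩ := Ideal.exists_ideal_over_prime_of_isIntegral_of_isDomain
    (S := S) P.asIdeal (by
      rw [(RingHom.injective_iff_ker_eq_bot _).mp hinjS]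
      exact bot_le)
  let y' : PrimeSpectrum R' := ⟨Q', hQ'prime⟩
  have hcy' : c y' = P := PrimeSpectrum.ext hQ'
  rw [← hcy']
  apply (hiff y').mp
  apply hgy y'
  intro hmem
  apply hy
  have h1 : algebraMap R S a ∈ Q' := by
    obtain ⟨b, hb⟩ := hdvd
    rw [hb]
    exact Q'.mul_mem_right _ hmem
  have h2 : a ∈ Ideal.comap (algebraMap R S) Q' := h1
  rw [hQ'] at h2
  exact h2

end Groth.Agent.Lib.H77SepClosedBase
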