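import Groth.Agent.Lib.H77GeomDecomp
import Groth.Agent.Lib.H77SepClosedBase
import Groth.Agent.Lib.H77GenImageOpen
import Groth.Agent.Lib.H69RedInduced
import Groth.Agent.Lib.GeomFibBC13

/-!
# Spreading out decompositions of the generic fibre (helper77)

Spreading lemmas for `f : X ⟶ Y` of finite type with `Y` irreducible (`η` its generic point):

* `exists_opens_cover`: closed sets covering the generic fibre cover the fibres over an open;
* `exists_opens_forall_nonempty_diff`: a locally closed set meeting the generic fibre meets the fibres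
  over an open;
* `exists_opens_forall_inter_eq_empty`: a closed set missing the generic fibre misses the fibres over
  an open;
* `exists_irrDecomp_fiber`, `exists_connDecomp_fiber`: closed subsets of `X` cutting out the
  irreducible (connected) components of a given fibre.
-/

set_option autoImplicit false
set_option linter.style.haveILetI false
universe u
open CategoryTheory Limits AlgebraicGeometry TopologicalSpace

namespace Groth.Agent.Lib.H77GeomCount

open Groth.Agent.Lib.H77GeomIrrSch Groth.Agent.Lib.H77GeomFiberMap Groth.Agent.Lib.H77TopDecomp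
  Groth.Agent.Lib.H77GeomDecomp Groth.Agent.Lib.H69RedInduced

variable {X Y : Scheme.{u}} (f : X ⟶ Y) [LocallyOfFiniteType f] [QuasiCompact f]

theorem noetherianSpace_fiber (y : Y) : NoetherianSpace (f.fiber y) := by
  haveI hft : LocallyOfFiniteType (f.fiberToSpecResidueField y) :=
    show LocallyOfFiniteType (pullback.snd _ _) from inferInstance
  haveI : IsLocallyNoetherian (f.fiber y) :=
    LocallyOfFiniteType.isLocallyNoetherian (f.fiberToSpecResidueField y)
  haveI : IsNoetherian (f.fiber y) := {}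
  infer_instance

omit [LocallyOfFiniteType f] [QuasiCompact f] in
/-- finite intersections of open neighbourhoods -/
theorem exists_opens_forall_finite {ι : Type*} [Finite ι] (η : Y) (P : ι → Y → Prop)
    (h : ∀ k, ∃ V : Y.Opens, η ∈ V ∧ ∀ y ∈ V, P k y) :
    ∃ V : Y.Opens, η ∈ V ∧ ∀ y ∈ V, ∀ k, P k y := by
  choose V hηV hV using h
  refine ⟨⟨⋂ k, (V k : Set Y), isOpen_iInter_of_finite fun k => (V k).isOpen⟩,
    Set.mem_iInter.mpr hηV, fun y hy k => hV k y (Set.mem_iInter.mp hy k)⟩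

section Decomp

/-- Closed subsets of `X` cutting out the irreducible components of the fibre over `y`. -/
theorem exists_irrDecomp_fiber (y : Y) :
    ∃ (n : ℕ) (T : Fin n → Closeds X), f ⁻¹' {y} ⊆ ⋃ k, (T k : Set X) ∧
      (∀ k, IsIrreducible ((T k : Set X) ∩ f ⁻¹' {y})) ∧
      (∀ k l, k ≠ l → ¬ ((T k : Set X) ∩ f ⁻¹' {y} ⊆ (T l : Set X))) ∧
      (ConnectedSpace (f.fiber y) → 0 < n ∧ ∀ A : Set (Fin n), A.Nonempty → Aᶜ.Nonempty →
        ∃ k ∈ A, ∃ l ∈ Aᶜ, ((T k : Set X) ∩ (T l : Set X) ∩ f ⁻¹' {y}).Nonempty) := by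
  haveI := noetherianSpace_fiber f y
  obtain ⟨n, T, hcl, hcov, hirr, hne, hconn⟩ :=
    exists_irrDecomp (f.fiberι y) (f.fiberι y).isEmbedding
  rw [Scheme.Hom.range_fiberι] at hcov hirr hne hconn
  exact ⟨n, fun k => ⟨T k, hcl k⟩, hcov, hirr, hne, hconn⟩

/-- Closed subsets of `X` cutting out the connected components of the fibre over `y`. -/
theorem exists_connDecomp_fiber (y : Y) :
    ∃ (m : ℕ) (S : Fin m → Closeds X), f ⁻¹' {y} ⊆ ⋃ a, (S a : Set X) ∧
      (∀ a, _root_.IsConnected ((S a : Set X) ∩ f ⁻¹' {y})) ∧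
      (∀ a b, a ≠ b → (S a : Set X) ∩ (S b : Set X) ∩ f ⁻¹' {y} = ∅) := by
  haveI := noetherianSpace_fiber f y
  obtain ⟨m, S, hcl, hcov, hconn, hdisj⟩ :=
    exists_connDecomp (f.fiberι y) (f.fiberι y).isEmbedding
  rw [Scheme.Hom.range_fiberι] at hcov hconn hdisj
  exact ⟨m, fun a => ⟨S a, hcl a⟩, hcov, hconn, hdisj⟩

end Decomp

section Spread

variable [IrreducibleSpace Y]

/-- Closed sets covering the generic fibre cover the fibres over an open. -/
theorem exists_opens_cover {n : ℕ} (T : Fin n → Closeds X)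
    (h : f ⁻¹' {genericPoint Y} ⊆ ⋃ k, (T k : Set X)) :
    ∃ V : Y.Opens, genericPoint Y ∈ V ∧ ∀ y ∈ V, f ⁻¹' {y} ⊆ ⋃ k, (T k : Set X) := by
  obtain ⟨V, hηV, hV⟩ := Groth.Agent.Lib.H77GenClosure.exists_opens_preimage_subset_closure f
  refine ⟨V, hηV, fun y hy x hx => ?_⟩
  have hcl : IsClosed (⋃ k, (T k : Set X)) := isClosed_iUnion_of_finite fun k => (T k).isClosed
  have h1 : x ∈ f ⁻¹' (V : Set Y) := by
    rw [Set.mem_preimage, Set.mem_singleton_iff.mp hx]
    exact hy
  exact (hcl.closure_subset_iff.mpr h) (hV h1)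

omit [QuasiCompact f] in
/-- A locally closed set meeting the generic fibre meets the fibres over an open. -/
theorem exists_opens_forall_nonempty_diff (A B : Closeds X)
    (h : (((A : Set X) \ (B : Set X)) ∩ f ⁻¹' {genericPoint Y}).Nonempty) :
    ∃ V : Y.Opens, genericPoint Y ∈ V ∧
      ∀ y ∈ V, (((A : Set X) \ (B : Set X)) ∩ f ⁻¹' {y}).Nonempty := by
  obtain ⟨x, ⟨hxA, hxB⟩, hxη⟩ := h
  let i := redSubι A
  have hr : Set.range i = (A : Set X) := range_redSubι A
  let U : (redSub A).Opens := i ⁻¹ᵁ ⟨(B : Set X)ᶜ, B.isClosed.isOpen_compl⟩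
  obtain ⟨t, rfl⟩ : x ∈ Set.range i := hr ▸ hxA
  have h0 : genericPoint Y ∈ (i ≫ f) '' (U : Set (redSub A)) :=
    ⟨t, hxB, by simpa using hxη⟩
  obtain ⟨V, hηV, hV⟩ :=
    Groth.Agent.Lib.H77GenImageOpen.exists_opens_subset_image_open (i ≫ f) U h0
  refine ⟨V, hηV, fun y hy => ?_⟩
  obtain ⟨t', ht'U, ht'y⟩ := hV hy
  refine ⟨i t', ⟨hr ▸ Set.mem_range_self t', ht'U⟩, ?_⟩
  simpa using ht'y

/-- A closed set missing the generic fibre misses the fibres over an open. -/
theorem exists_opens_forall_inter_eq_empty (A : Closeds X)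
    (h : (A : Set X) ∩ f ⁻¹' {genericPoint Y} = ∅) :
    ∃ V : Y.Opens, genericPoint Y ∈ V ∧ ∀ y ∈ V, (A : Set X) ∩ f ⁻¹' {y} = ∅ := by
  obtain ⟨V, hηV, hV⟩ :=
    Groth.Agent.Lib.H77GenImageSch.exists_opens_inter_preimage_subset_closure f (A : Set X)
      A.isClosed
  rw [h, closure_empty] at hV
  refine ⟨V, hηV, fun y hy => ?_⟩
  rw [Set.eq_empty_iff_forall_notMem]
  rintro x ⟨hxA, hxy⟩
  have : x ∈ (A : Set X) ∩ f ⁻¹' (V : Set Y) := by
    refine ⟨hxA, ?_⟩
    rw [Set.mem_preimage, Set.mem_singleton_iff.mp hxy]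
    exact hy
  exact hV this

end Spread

end Groth.Agent.Lib.H77GeomCount
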