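import Groth.Agent.Lib.H77GeomFiberMap
import Groth.Agent.Lib.H77TopDecomp

/-!
# Counting components of geometric fibres from a decomposition of the source (helper77)

Let `f : X ⟶ Y`, `y : Y` and morphisms `i k : T k ⟶ X` (`k : Fin n`) with closed ranges covering the
fibre `f ⁻¹' {y}`.

* `nGeomIrredComp_eq_of_decomp`: if the fibres of the `T k` at `y` are geometrically irreducible and
  no `T k ∩ f⁻¹{y}` is contained in another `T l`, the geometric fibre of `f` at `y` has exactly `n`
  irreducible components;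
* `geomConnFiber_of_decomp`: if the fibres of the `T k` at `y` are geometrically connected and the
  intersection graph satisfies the cut condition, the fibre of `f` at `y` is geometrically connected;
* `nGeomConnComp_eq_of_decomp`: if the fibres of the `T k` at `y` are geometrically connected and
  pairwise disjoint, the geometric fibre of `f` at `y` has exactly `n` connected components.

Also: `geomIrrFiber_of_isIrreducible`, `geomConnFiber_of_isConnected`: over a point with separably
closed residue field, an irreducible (connected) fibre is geometrically irreducible (connected).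
-/

set_option autoImplicit false
set_option linter.style.haveILetI false
universe u
open CategoryTheory Limits AlgebraicGeometry

namespace Groth.Agent.Lib.H77GeomDecomp

open Groth.Agent.Lib.H77GeomIrrSch Groth.Agent.Lib.H77GeomFiberMap Groth.Agent.Lib.H77TopDecomp

variable {X Y : Scheme.{u}}

section Fibre

variable {T : Scheme.{u}} (i : T ⟶ X) (f : X ⟶ Y) (y : Y)

/-- the embedding of the fibre of `i ≫ f` into `X` -/
theorem isInducing_fiberι_comp [IsClosedImmersion i] :
    Topology.IsInducing (fun z : (i ≫ f).fiber y => i ((i ≫ f).fiberι y z)) :=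
  i.isEmbedding.isInducing.comp ((i ≫ f).fiberι y).isEmbedding.isInducing

theorem range_fiberι_comp :
    Set.range (fun z : (i ≫ f).fiber y => i ((i ≫ f).fiberι y z)) = Set.range i ∩ f ⁻¹' {y} := by
  have h1 : Set.range ((i ≫ f).fiberι y) = (i ≫ f) ⁻¹' {y} := Scheme.Hom.range_fiberι _ y
  ext x
  constructor
  · rintro ⟨z, rfl⟩
    refine ⟨⟨_, rfl⟩, ?_⟩
    have : (i ≫ f).fiberι y z ∈ (i ≫ f) ⁻¹' {y} := h1 ▸ Set.mem_range_self z
    simpa using this
  · rintro ⟨⟨t, rfl⟩, hty⟩
    have : t ∈ Set.range ((i ≫ f).fiberι y) := by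
      rw [h1]
      simpa using hty
    obtain ⟨z, rfl⟩ := this
    exact ⟨z, rfl⟩

theorem irreducibleSpace_fiber_of_isIrreducible [IsClosedImmersion i]
    (h : IsIrreducible (Set.range i ∩ f ⁻¹' {y})) : IrreducibleSpace ((i ≫ f).fiber y) := by
  rw [irreducibleSpace_def]
  apply isIrreducible_of_image (isInducing_fiberι_comp i f y)
  change IsIrreducible ((fun z : (i ≫ f).fiber y => i ((i ≫ f).fiberι y z)) '' Set.univ)
  rw [Set.image_univ, range_fiberι_comp]
  exact h

theorem connectedSpace_fiber_of_isConnected [IsClosedImmersion i]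
    (h : _root_.IsConnected (Set.range i ∩ f ⁻¹' {y})) : ConnectedSpace ((i ≫ f).fiber y) := by
  rw [connectedSpace_iff_univ]
  have h2 : _root_.IsConnected ((fun z : (i ≫ f).fiber y => i ((i ≫ f).fiberι y z)) '' Set.univ) := by
    rw [Set.image_univ, range_fiberι_comp]
    exact h
  exact ⟨Set.image_nonempty.mp h2.1, (isInducing_fiberι_comp i f y).isPreconnected_image.mp h2.2⟩

/-- Over a point with separably closed residue field, irreducible fibres are geometrically
irreducible. -/
theorem geomIrrFiber_of_irreducibleSpace (g : X ⟶ Y) (y : Y) [IsSepClosed (Y.residueField y)]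
    [IrreducibleSpace (g.fiber y)] : GIF g y :=
  @Groth.Agent.Lib.H71SepClosedGeom.geometricallyIrreducible_of_irreducibleSpace
    (Y.residueField y) _ _ _ (g.fiberToSpecResidueField y) _

/-- Over a point with separably closed residue field, connected fibres are geometrically
connected. -/
theorem geomConnFiber_of_connectedSpace (g : X ⟶ Y) (y : Y) [IsSepClosed (Y.residueField y)]
    [ConnectedSpace (g.fiber y)] : GCF g y :=
  @Groth.Agent.Lib.H71SepClosedGeom.geometricallyConnected_of_connectedSpace
    (Y.residueField y) _ _ _ (g.fiberToSpecResidueField y) _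

theorem geomIrrFiber_of_isIrreducible [IsClosedImmersion i] [IsSepClosed (Y.residueField y)]
    (h : IsIrreducible (Set.range i ∩ f ⁻¹' {y})) : GIF (i ≫ f) y := by
  haveI := irreducibleSpace_fiber_of_isIrreducible i f y h
  exact geomIrrFiber_of_irreducibleSpace (i ≫ f) y

theorem geomConnFiber_of_isConnected [IsClosedImmersion i] [IsSepClosed (Y.residueField y)]
    (h : _root_.IsConnected (Set.range i ∩ f ⁻¹' {y})) : GCF (i ≫ f) y := by
  haveI := connectedSpace_fiber_of_isConnected i f y h
  exact geomConnFiber_of_connectedSpace (i ≫ f) y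

end Fibre

section Count

variable {n : ℕ} {T : Fin n → Scheme.{u}} (i : ∀ k, T k ⟶ X) (f : X ⟶ Y) (y : Y)

/-- the pieces of the geometric fibre -/
def piece (k : Fin n) : Set (MoreMor.geomFiber f y) := (geomFiberπ f y) ⁻¹' Set.range (i k)

theorem piece_eq_range (k : Fin n) : piece i f y k = Set.range (geomFiberMap (i k) f y) :=
  (range_geomFiberMap (i k) f y).symm

theorem isClosed_piece (hcl : ∀ k, IsClosed (Set.range (i k))) (k : Fin n) :
    IsClosed (piece i f y k) :=
  (hcl k).preimage (geomFiberπ f y).continuous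

theorem iUnion_piece (hcov : f ⁻¹' {y} ⊆ ⋃ k, Set.range (i k)) : ⋃ k, piece i f y k = Set.univ := by
  rw [Set.eq_univ_iff_forall]
  intro z
  have hz : geomFiberπ f y z ∈ f ⁻¹' {y} := by
    rw [← range_geomFiberπ]
    exact Set.mem_range_self z
  obtain ⟨k, hk⟩ := Set.mem_iUnion.mp (hcov hz)
  exact Set.mem_iUnion.mpr ⟨k, hk⟩

theorem isIrreducible_piece (k : Fin n) (h : GIF (i k ≫ f) y) : IsIrreducible (piece i f y k) := by
  haveI : IrreducibleSpace (MoreMor.geomFiber (i k ≫ f) y) :=
    (geomIrrFiber_iff_irreducibleSpace_geomFiber _ y).mp h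
  rw [piece_eq_range, ← Set.image_univ]
  exact (IrreducibleSpace.isIrreducible_univ _).image _
    (geomFiberMap (i k) f y).continuous.continuousOn

theorem isConnected_piece (k : Fin n) (h : GCF (i k ≫ f) y) : _root_.IsConnected (piece i f y k) := by
  haveI : ConnectedSpace (MoreMor.geomFiber (i k ≫ f) y) :=
    (geomConnFiber_iff_connectedSpace_geomFiber _ y).mp h
  rw [piece_eq_range, ← Set.image_univ]
  exact isConnected_univ.image _ (geomFiberMap (i k) f y).continuous.continuousOn

theorem exists_mem_geomFiber {x : X} (hx : x ∈ f ⁻¹' {y}) : ∃ z, geomFiberπ f y z = x := by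
  rw [← range_geomFiberπ] at hx
  exact hx

theorem inter_piece_nonempty {k l : Fin n}
    (h : (Set.range (i k) ∩ Set.range (i l) ∩ f ⁻¹' {y}).Nonempty) :
    (piece i f y k ∩ piece i f y l).Nonempty := by
  obtain ⟨x, ⟨hxk, hxl⟩, hxy⟩ := h
  obtain ⟨z, rfl⟩ := exists_mem_geomFiber f y hxy
  exact ⟨z, hxk, hxl⟩

theorem inter_piece_eq_empty {k l : Fin n}
    (h : Set.range (i k) ∩ Set.range (i l) ∩ f ⁻¹' {y} = ∅) :
    Disjoint (piece i f y k) (piece i f y l) := by
  rw [Set.disjoint_left]
  intro z hzk hzl
  have hz : geomFiberπ f y z ∈ f ⁻¹' {y} := by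
    rw [← range_geomFiberπ]
    exact Set.mem_range_self z
  have : geomFiberπ f y z ∈ Set.range (i k) ∩ Set.range (i l) ∩ f ⁻¹' {y} := ⟨⟨hzk, hzl⟩, hz⟩
  rw [h] at this
  exact this

/-- **Counting irreducible components of a geometric fibre.** -/
theorem nGeomIrredComp_eq_of_decomp (hcl : ∀ k, IsClosed (Set.range (i k)))
    (hcov : f ⁻¹' {y} ⊆ ⋃ k, Set.range (i k)) (hirr : ∀ k, GIF (i k ≫ f) y)
    (hne : ∀ k l, k ≠ l → ¬ (Set.range (i k) ∩ f ⁻¹' {y} ⊆ Set.range (i l))) :
    MoreMor.nGeomIrredComp f y = n := by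
  unfold MoreMor.nGeomIrredComp
  refine encard_irreducibleComponents_eq (piece i f y) (isClosed_piece i f y hcl)
    (fun k => isIrreducible_piece i f y k (hirr k)) (iUnion_piece i f y hcov) ?_
  intro k l hkl hsub
  apply hne k l hkl
  rintro x ⟨hxk, hxy⟩
  obtain ⟨z, rfl⟩ := exists_mem_geomFiber f y hxy
  exact hsub hxk

/-- **Geometric connectedness of a fibre from a decomposition.** -/
theorem geomConnFiber_of_decomp (hn : 0 < n)
    (hcov : f ⁻¹' {y} ⊆ ⋃ k, Set.range (i k)) (hconn : ∀ k, GCF (i k ≫ f) y)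
    (hcut : ∀ A : Set (Fin n), A.Nonempty → Aᶜ.Nonempty → ∃ k ∈ A, ∃ l ∈ Aᶜ,
      (Set.range (i k) ∩ Set.range (i l) ∩ f ⁻¹' {y}).Nonempty) : GCF f y := by
  rw [geomConnFiber_iff_connectedSpace_geomFiber]
  refine connectedSpace_of_cover (piece i f y) hn
    (fun k => isConnected_piece i f y k (hconn k)) (iUnion_piece i f y hcov) ?_
  intro A hA hA'
  obtain ⟨k, hk, l, hl, h⟩ := hcut A hA hA'
  exact ⟨k, hk, l, hl, inter_piece_nonempty i f y h⟩

/-- **Counting connected components of a geometric fibre.** -/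
theorem nGeomConnComp_eq_of_decomp (hcl : ∀ k, IsClosed (Set.range (i k)))
    (hcov : f ⁻¹' {y} ⊆ ⋃ k, Set.range (i k)) (hconn : ∀ k, GCF (i k ≫ f) y)
    (hdisj : ∀ k l, k ≠ l → Set.range (i k) ∩ Set.range (i l) ∩ f ⁻¹' {y} = ∅) :
    MoreMor.nGeomConnComp f y = n := by
  unfold MoreMor.nGeomConnComp
  exact card_connectedComponents_eq (piece i f y) (isClosed_piece i f y hcl)
    (fun k => isConnected_piece i f y k (hconn k))
    (fun k l hkl => inter_piece_eq_empty i f y (hdisj k l hkl)) (iUnion_piece i f y hcov)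

end Count

end Groth.Agent.Lib.H77GeomDecomp
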