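import Groth.Prelude.Def_MoreMor
import Groth.Agent.Lib.H77GeomIrrSch
import Groth.Agent.Lib.H71SepClosedGeom
import Groth.Agent.S9765

/-!
# The geometric fibre `MoreMor.geomFiber f y` and maps between geometric fibres (helper77)

* `geomFiberπ f y : MoreMor.geomFiber f y ⟶ X`, with range `f ⁻¹' {y}`;
* `geomFiberMap i f y : MoreMor.geomFiber (i ≫ f) y ⟶ MoreMor.geomFiber f y` for `i : T ⟶ X`, with range the preimage
  of the range of `i`;
* `geomIrrFiber_iff_irreducibleSpace_geomFiber`, `geomConnFiber_iff_connectedSpace_geomFiber`: the fibre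
  at `y` is geometrically irreducible (connected) iff `MoreMor.geomFiber f y` is irreducible (connected).
-/

set_option autoImplicit false
set_option linter.style.haveILetI false
universe u
open CategoryTheory Limits AlgebraicGeometry

namespace Groth.Agent.Lib.H77GeomFiberMap

open Groth.Agent.Lib.H77GeomIrrSch

/-- The fibre of `f` at `y` is geometrically connected. -/
abbrev GCF {X Y : Scheme.{u}} (f : X ⟶ Y) (y : Y) : Prop :=
  GeometricallyConnected (f.fiberToSpecResidueField y)

theorem geomConnFiber_iff_of_isPullback {X Y X' Y' : Scheme.{u}} (f : X ⟶ Y) (g : Y' ⟶ Y)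
    (f' : X' ⟶ Y') (g' : X' ⟶ X) (hc : IsPullback g' f' f g) (y' : Y') :
    GCF f' y' ↔ GCF f (g y') := by
  have := Groth.Agent.S9765.result f g f' g' hc
  exact Set.ext_iff.mp this y'

variable {X Y : Scheme.{u}}

/-- the structure map `Spec κ(y)^sep ⟶ Spec κ(y)` -/
noncomputable abbrev sepMap (Y : Scheme.{u}) (y : Y) :
    Spec (CommRingCat.of (SeparableClosure (Y.residueField y))) ⟶ Spec (Y.residueField y) :=
  Spec.map (CommRingCat.ofHom
    (algebraMap (Y.residueField y) (SeparableClosure (Y.residueField y))))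

/-- the projection of the geometric fibre to the fibre -/
noncomputable def geomFiberFst (f : X ⟶ Y) (y : Y) : MoreMor.geomFiber f y ⟶ f.fiber y :=
  pullback.fst (f.fiberToSpecResidueField y) (sepMap Y y)

/-- the projection of the geometric fibre to the source -/
noncomputable def geomFiberπ (f : X ⟶ Y) (y : Y) : MoreMor.geomFiber f y ⟶ X :=
  geomFiberFst f y ≫ f.fiberι y

instance (f : X ⟶ Y) (y : Y) : Surjective (geomFiberFst f y) := by
  haveI : Surjective (sepMap Y y) :=
    Groth.Agent.Lib.H71SepClosedGeom.surjective_SpecMap (k := Y.residueField y)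
      (SeparableClosure (Y.residueField y))
  have h : Surjective (pullback.fst (f.fiberToSpecResidueField y) (sepMap Y y)) := inferInstance
  exact h

theorem range_geomFiberπ (f : X ⟶ Y) (y : Y) : Set.range (geomFiberπ f y) = f ⁻¹' {y} := by
  unfold geomFiberπ
  rw [Scheme.Hom.comp_base, TopCat.coe_comp, Set.range_comp,
    Set.range_eq_univ.mpr (geomFiberFst f y).surjective, Set.image_univ,
    Scheme.Hom.range_fiberι]

/-- the map of geometric fibres induced by `i : T ⟶ X` -/
noncomputable def geomFiberMap {T : Scheme.{u}} (i : T ⟶ X) (f : X ⟶ Y) (y : Y) :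
    MoreMor.geomFiber (i ≫ f) y ⟶ MoreMor.geomFiber f y :=
  pullback.map ((i ≫ f).fiberToSpecResidueField y) (sepMap Y y)
    (f.fiberToSpecResidueField y) (sepMap Y y) (fiberMap i f y) (𝟙 _) (𝟙 _)
    (by rw [Category.comp_id, fiberMap_toSpec]) (by simp)

theorem geomFiberMap_fst {T : Scheme.{u}} (i : T ⟶ X) (f : X ⟶ Y) (y : Y) :
    geomFiberMap i f y ≫ geomFiberFst f y = geomFiberFst (i ≫ f) y ≫ fiberMap i f y :=
  pullback.lift_fst _ _ _

theorem geomFiberMap_π {T : Scheme.{u}} (i : T ⟶ X) (f : X ⟶ Y) (y : Y) :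
    geomFiberMap i f y ≫ geomFiberπ f y = geomFiberπ (i ≫ f) y ≫ i := by
  unfold geomFiberπ
  rw [← Category.assoc, geomFiberMap_fst, Category.assoc, fiberMap_fiberι, Category.assoc]

theorem range_geomFiberMap {T : Scheme.{u}} (i : T ⟶ X) (f : X ⟶ Y) (y : Y) :
    Set.range (geomFiberMap i f y) = (geomFiberπ f y) ⁻¹' Set.range i := by
  have h1 := Scheme.Pullback.range_map ((i ≫ f).fiberToSpecResidueField y) (sepMap Y y)
    (f.fiberToSpecResidueField y) (sepMap Y y) (fiberMap i f y) (𝟙 _) (𝟙 _)
    (by rw [Category.comp_id, fiberMap_toSpec]) (by simp)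
  have h2 : Set.range ⇑(𝟙 (Spec (CommRingCat.of (SeparableClosure (Y.residueField y)))) :
      Spec (CommRingCat.of (SeparableClosure (Y.residueField y))) ⟶ _) = Set.univ := by
    ext z; simp
  rw [h2, Set.preimage_univ, Set.inter_univ, range_fiberMap] at h1
  exact h1

theorem geomIrrFiber_iff_irreducibleSpace_geomFiber (f : X ⟶ Y) (y : Y) :
    GIF f y ↔ IrreducibleSpace (MoreMor.geomFiber f y) := by
  constructor
  · intro h
    exact pullback_of_geometrically (h.geometrically_irreducibleSpace)
      (SeparableClosure (Y.residueField y)) (sepMap Y y)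
  · intro h
    exact @Groth.Agent.Lib.H71SepClosedGeom.geometricallyIrreducible_of_irreducibleSpace_pullback
      (Y.residueField y) _ (SeparableClosure (Y.residueField y)) _ _ _ _
      (f.fiberToSpecResidueField y) h

theorem geomConnFiber_iff_connectedSpace_geomFiber (f : X ⟶ Y) (y : Y) :
    GCF f y ↔ ConnectedSpace (MoreMor.geomFiber f y) := by
  constructor
  · intro h
    exact pullback_of_geometrically (h.geometrically_connectedSpace)
      (SeparableClosure (Y.residueField y)) (sepMap Y y)
  · intro h
    exact @Groth.Agent.Lib.H71SepClosedGeom.geometricallyConnected_of_connectedSpace_pullback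
      (Y.residueField y) _ (SeparableClosure (Y.residueField y)) _ _ _ _
      (f.fiberToSpecResidueField y) h

end Groth.Agent.Lib.H77GeomFiberMap
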