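import Mathlib

/-!
# Rings with irreducible spectrum (helper77)

`IrrRing S`: the nilradical of `S` is prime, i.e. `Spec S` is irreducible.  Ring-level lemmas:

* `irrRing_iff_irreducibleSpace`, `irrRing_iff`;
* `IrrRing.of_isDomain`, `IrrRing.isDomain` (reduced case);
* `IrrRing.of_injective`: descends along injective ring homomorphisms;
* `irrRing_iff_of_pow_mem_range`: invariant under ring maps with nil kernel such that every element
  of the target has a positive power in the range (universal homeomorphisms);
* `irrRing_iff_of_isLocalization_away`: invariant under inverting a nonzerodivisor.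
-/

set_option autoImplicit false
universe u v

namespace Groth.Agent.Lib.H77IrrRing

/-- The spectrum of `S` is irreducible: the nilradical is a prime ideal. -/
def IrrRing (S : Type*) [CommRing S] : Prop := (nilradical S).IsPrime

variable {S : Type u} {S' : Type v} [CommRing S] [CommRing S']

theorem irrRing_iff_irreducibleSpace (S : Type u) [CommRing S] :
    IrrRing S ↔ IrreducibleSpace (PrimeSpectrum S) := by
  rw [irreducibleSpace_def]
  have : (⊤ : Set (PrimeSpectrum S)) = PrimeSpectrum.zeroLocus ((⊥ : Ideal S) : Set S) := by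
    simp
  rw [this, PrimeSpectrum.isIrreducible_zeroLocus_iff]
  rfl

theorem irrRing_iff (S : Type u) [CommRing S] :
    IrrRing S ↔ Nontrivial S ∧ ∀ a b : S, IsNilpotent (a * b) → IsNilpotent a ∨ IsNilpotent b := by
  unfold IrrRing
  rw [Ideal.isPrime_iff]
  constructor
  · rintro ⟨hne, hmul⟩
    refine ⟨?_, fun a b hab => ?_⟩
    · by_contra hS
      rw [not_nontrivial_iff_subsingleton] at hS
      exact hne (Ideal.eq_top_of_isUnit_mem _ (Submodule.zero_mem _) (by
        rw [Subsingleton.elim (0 : S) 1]; exact isUnit_one))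
    · have := @hmul a b (mem_nilradical.mpr hab)
      simpa only [mem_nilradical] using this
  · rintro ⟨hS, hmul⟩
    refine ⟨fun htop => ?_, fun {a b} hab => ?_⟩
    · have h1 : (1 : S) ∈ nilradical S := by rw [htop]; exact Submodule.mem_top
      have := mem_nilradical.mp h1
      exact not_isNilpotent_one this
    · have := hmul a b (mem_nilradical.mp hab)
      simpa only [mem_nilradical] using this

theorem IrrRing.nontrivial (h : IrrRing S) : Nontrivial S := ((irrRing_iff S).mp h).1

theorem IrrRing.of_isDomain [IsDomain S] : IrrRing S := by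
  unfold IrrRing
  rw [nilradical_eq_zero]
  exact Ideal.isPrime_bot

theorem IrrRing.isDomain [IsReduced S] (h : IrrRing S) : IsDomain S := by
  unfold IrrRing at h
  rw [nilradical_eq_zero] at h
  have h' : (⊥ : Ideal S).IsPrime := h
  exact IsDomain.of_bot_isPrime S

theorem IrrRing.of_injective (f : S →+* S') (hf : Function.Injective f) (h : IrrRing S') :
    IrrRing S := by
  rw [irrRing_iff] at h ⊢
  obtain ⟨hS', hmul⟩ := h
  refine ⟨f.domain_nontrivial, fun a b hab => ?_⟩
  have h1 : IsNilpotent (f a * f b) := by rw [← map_mul]; exact hab.map f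
  rcases hmul _ _ h1 with h2 | h2
  · exact Or.inl ((IsNilpotent.map_iff hf).mp h2)
  · exact Or.inr ((IsNilpotent.map_iff hf).mp h2)

lemma isNilpotent_of_map_of_ker_le (f : S →+* S') (hker : RingHom.ker f ≤ nilradical S) {a : S}
    (h : IsNilpotent (f a)) : IsNilpotent a := by
  obtain ⟨k, hk⟩ := h
  rw [← map_pow] at hk
  have : a ^ k ∈ nilradical S := hker hk
  rw [mem_nilradical] at this
  exact IsNilpotent.of_pow this

/-- nil kernel suffices for descending -/
theorem IrrRing.of_ker_le (f : S →+* S') (hker : RingHom.ker f ≤ nilradical S) (h : IrrRing S') :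
    IrrRing S := by
  rw [irrRing_iff] at h ⊢
  obtain ⟨hS', hmul⟩ := h
  refine ⟨f.domain_nontrivial, fun a b hab => ?_⟩
  have h1 : IsNilpotent (f a * f b) := by rw [← map_mul]; exact hab.map f
  rcases hmul _ _ h1 with h2 | h2
  · exact Or.inl (isNilpotent_of_map_of_ker_le f hker h2)
  · exact Or.inr (isNilpotent_of_map_of_ker_le f hker h2)

theorem irrRing_iff_of_pow_mem_range (f : S →+* S') (hker : RingHom.ker f ≤ nilradical S)
    (hpow : ∀ x : S', ∃ n > 0, x ^ n ∈ f.range) : IrrRing S ↔ IrrRing S' := by
  refine ⟨fun h => ?_, IrrRing.of_ker_le f hker⟩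
  rw [irrRing_iff] at h ⊢
  obtain ⟨hS, hmul⟩ := h
  refine ⟨?_, fun a b hab => ?_⟩
  · by_contra hS'
    rw [not_nontrivial_iff_subsingleton] at hS'
    have h1 : (1 : S) ∈ RingHom.ker f := by
      rw [RingHom.mem_ker]; exact Subsingleton.elim _ _
    have := mem_nilradical.mp (hker h1)
    exact not_isNilpotent_one this
  · obtain ⟨n, hn, a', ha'⟩ := hpow a
    obtain ⟨m, hm, b', hb'⟩ := hpow b
    have h1 : IsNilpotent (f (a' * b')) := by
      rw [map_mul, ha', hb']
      have : a ^ n * b ^ m = (a * b) * (a ^ (n - 1) * b ^ (m - 1)) := by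
        conv_lhs => rw [← Nat.sub_add_cancel hn, ← Nat.sub_add_cancel hm, pow_succ, pow_succ]
        ring
      rw [this]
      exact (Commute.all _ _).isNilpotent_mul_right hab
    rcases hmul _ _ (isNilpotent_of_map_of_ker_le f hker h1) with h2 | h2
    · left
      have : IsNilpotent (a ^ n) := by rw [← ha']; exact h2.map f
      exact IsNilpotent.of_pow this
    · right
      have : IsNilpotent (b ^ m) := by rw [← hb']; exact h2.map f
      exact IsNilpotent.of_pow this

theorem irrRing_iff_of_isLocalization_away {w : S} (hw : w ∈ nonZeroDivisors S) (S' : Type v)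
    [CommRing S'] [Algebra S S'] [IsLocalization.Away w S'] : IrrRing S ↔ IrrRing S' := by
  have hinj : Function.Injective (algebraMap S S') :=
    IsLocalization.injective S' (M := Submonoid.powers w)
      ((Submonoid.powers_le (P := nonZeroDivisors S)).mpr hw)
  refine ⟨fun h => ?_, IrrRing.of_injective (algebraMap S S') hinj⟩
  rw [irrRing_iff] at h ⊢
  obtain ⟨hS, hmul⟩ := h
  refine ⟨hinj.nontrivial, fun x y hxy => ?_⟩
  obtain ⟨a, s, rfl⟩ := IsLocalization.exists_mk'_eq (Submonoid.powers w) x
  obtain ⟨b, t, rfl⟩ := IsLocalization.exists_mk'_eq (Submonoid.powers w) y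
  have hu : ∀ (c : S) (r : Submonoid.powers w),
      IsNilpotent (IsLocalization.mk' S' c r) ↔ IsNilpotent c := by
    intro c r
    constructor
    · intro h
      have h1 : IsNilpotent (IsLocalization.mk' S' c r * algebraMap S S' r) :=
        (Commute.all _ _).isNilpotent_mul_right h
      rw [IsLocalization.mk'_spec] at h1
      exact (IsNilpotent.map_iff hinj).mp h1
    · intro h
      have h1 : IsNilpotent (algebraMap S S' c) := h.map _
      rw [← IsLocalization.mk'_spec S' c r] at h1
      have hunit : IsUnit (algebraMap S S' r) := IsLocalization.map_units S' r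
      obtain ⟨u, hu⟩ := hunit
      have h2 : IsNilpotent (IsLocalization.mk' S' c r * algebraMap S S' r * ↑u⁻¹) :=
        (Commute.all _ _).isNilpotent_mul_right h1
      rw [← hu, mul_assoc, Units.mul_inv, mul_one] at h2
      exact h2
  rw [← IsLocalization.mk'_mul, hu] at hxy
  rw [hu, hu]
  exact hmul a b hxy

end Groth.Agent.Lib.H77IrrRing
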