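import Mathlib
import Groth.Agent.Lib.H77IrrRing

/-!
# Irreducibility of `Spec (L ⊗[A] B)` under localisation and purely inseparable maps (helper77)

* `IsFrobExp A q`: `q = 1`, or `q = p ^ n` with `p` prime and `p = 0` in `A`; then `x ↦ x ^ q` is
  additive on every `A`-algebra (`IsFrobExp.add_pow`);
* `irrRing_tensor_away_iff`: if `1 ⊗ v` is a nonzerodivisor of `L ⊗[A] B`, then `Spec (L ⊗[A] B)` is
  irreducible iff `Spec (L ⊗[A] B_v)` is;
* `irrRing_tensor_iff_of_pow_mem_range`: if `φ : B₁ →ₐ[A] B₂` is injective and every `q`-th power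
  lies in its range, then `Spec (L ⊗[A] B₁)` is irreducible iff `Spec (L ⊗[A] B₂)` is;
* `forall_pow_mem_range_of_adjoin`: it suffices to check the power condition on generators.
-/

set_option autoImplicit false
set_option linter.style.haveILetI false
universe u v w

open TensorProduct

namespace Groth.Agent.Lib.H77GeomIrrTensor

open Groth.Agent.Lib.H77IrrRing

/-- `q` is `1` or a power of a prime which vanishes in `A`. -/
def IsFrobExp (A : Type*) [CommRing A] (q : ℕ) : Prop :=
  q = 1 ∨ ∃ p n : ℕ, p.Prime ∧ (p : A) = 0 ∧ q = p ^ n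

namespace IsFrobExp

variable {A : Type u} [CommRing A] {q : ℕ}

lemma pos (hq : IsFrobExp A q) : 0 < q := by
  rcases hq with rfl | ⟨p, n, hp, _, rfl⟩
  · exact Nat.one_pos
  · exact pow_pos hp.pos n

lemma add_pow (hq : IsFrobExp A q) {R : Type v} [CommRing R] [Algebra A R] (x y : R) :
    (x + y) ^ q = x ^ q + y ^ q := by
  rcases hq with rfl | ⟨p, n, hp, h0, rfl⟩
  · simp
  · have h0' : (p : R) = 0 := by
      have := congrArg (algebraMap A R) h0
      simpa using this
    rw [add_pow_prime_pow_eq hp, h0']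
    simp

lemma zero_pow' (hq : IsFrobExp A q) {R : Type v} [CommRing R] : (0 : R) ^ q = 0 :=
  zero_pow hq.pos.ne'

end IsFrobExp

section Away

variable {A : Type u} {B : Type v} [CommRing A] [CommRing B] [Algebra A B]

/-- **Step L**: inverting an element which is a nonzerodivisor on `L ⊗[A] B`. -/
theorem irrRing_tensor_away_iff (L : Type w) [CommRing L] [Algebra A L] (v : B)
    (Bv : Type v) [CommRing Bv] [Algebra A Bv] [Algebra B Bv] [IsScalarTower A B Bv]
    [IsLocalization.Away v Bv]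
    (hv : (1 : L) ⊗ₜ[A] v ∈ nonZeroDivisors (L ⊗[A] B)) :
    IrrRing (L ⊗[A] B) ↔ IrrRing (L ⊗[A] Bv) := by
  letI : Algebra (L ⊗[A] B) (L ⊗[A] Bv) :=
    (Algebra.TensorProduct.map (AlgHom.id A L) (IsScalarTower.toAlgHom A B Bv)).toAlgebra
  haveI : IsScalarTower L (L ⊗[A] B) (L ⊗[A] Bv) :=
    .of_algebraMap_eq <| by intro; simp [RingHom.algebraMap_toAlgebra]
  haveI h1 := IsLocalization.tensorProduct_tensorProduct_right A L (Submonoid.powers v) Bv
    (by ext; simp [RingHom.algebraMap_toAlgebra])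
  haveI : IsLocalization.Away ((1 : L) ⊗ₜ[A] v) (L ⊗[A] Bv) := by
    have : (Submonoid.powers v).map (Algebra.TensorProduct.includeRight (R := A) (A := L)) =
        Submonoid.powers ((1 : L) ⊗ₜ[A] v) := by
      rw [Submonoid.map_powers]
      rfl
    rw [this] at h1
    exact h1
  exact irrRing_iff_of_isLocalization_away hv (L ⊗[A] Bv)

end Away

section PI

variable {A : Type u} [CommRing A] {B₁ : Type v} {B₂ : Type v} [CommRing B₁] [CommRing B₂]
  [Algebra A B₁] [Algebra A B₂]

/-- It suffices to check the power condition on algebra generators. -/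
theorem forall_pow_mem_range_of_adjoin (φ : B₁ →ₐ[A] B₂) {q : ℕ} (hq : IsFrobExp A q)
    (s : Set B₂) (hs : Algebra.adjoin A s = ⊤) (h : ∀ x ∈ s, x ^ q ∈ φ.range) :
    ∀ x : B₂, x ^ q ∈ φ.range := by
  intro x
  have hx : x ∈ Algebra.adjoin A s := by rw [hs]; exact Algebra.mem_top
  induction hx using Algebra.adjoin_induction with
  | mem x hx => exact h x hx
  | algebraMap r =>
    rw [← map_pow]
    exact φ.range.algebraMap_mem _
  | add x y _ _ hx hy =>
    rw [hq.add_pow]
    exact φ.range.add_mem hx hy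
  | mul x y _ _ hx hy =>
    rw [mul_pow]
    exact φ.range.mul_mem hx hy

variable (φ : B₁ →ₐ[A] B₂) (hφ : Function.Injective φ) {q : ℕ} (hq : IsFrobExp A q)
  (hpow : ∀ x : B₂, x ^ q ∈ φ.range) (L : Type w) [CommRing L] [Algebra A L]

include hq hpow in
lemma pow_mem_range_tensor (z : L ⊗[A] B₂) :
    z ^ q ∈ (Algebra.TensorProduct.map (AlgHom.id A L) φ).range := by
  induction z with
  | zero =>
    rw [hq.zero_pow']
    exact Subalgebra.zero_mem _
  | tmul l x =>
    obtain ⟨y, hy⟩ := hpow x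
    refine ⟨(l ^ q) ⊗ₜ[A] y, ?_⟩
    rw [Algebra.TensorProduct.tmul_pow, ← hy]
    simp
  | add z w hz hw =>
    rw [hq.add_pow]
    exact Subalgebra.add_mem _ hz hw

include hφ hq hpow in
/-- the "inverse Frobenius" `L ⊗ B₂ → L ⊗ B₁` -/
lemma exists_addHom_frob :
    ∃ Ψ : L ⊗[A] B₂ →+ L ⊗[A] B₁, ∀ z : L ⊗[A] B₁,
      Ψ (Algebra.TensorProduct.map (AlgHom.id A L) φ z) = z ^ q := by
  classical
  choose ψ hψ0 using hpow
  have hψ : ∀ x : B₂, φ (ψ x) = x ^ q := hψ0
  have hψ_add : ∀ x y : B₂, ψ (x + y) = ψ x + ψ y := by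
    intro x y
    apply hφ
    rw [map_add, hψ, hψ, hψ, hq.add_pow]
  have hψ_zero : ψ 0 = 0 := by
    apply hφ
    rw [hψ, map_zero, hq.zero_pow']
  have hψ_smul : ∀ (r : A) (x : B₂), ψ (r • x) = r ^ q • ψ x := by
    intro r x
    apply hφ
    rw [hψ, map_smul, hψ, smul_pow]
  have hψ_map : ∀ x : B₁, ψ (φ x) = x ^ q := by
    intro x
    apply hφ
    rw [hψ, map_pow]
  let ψ' : B₂ →+ B₁ := ⟨⟨ψ, hψ_zero⟩, hψ_add⟩
  let f : L →+ B₂ →+ L ⊗[A] B₁ :=
    { toFun := fun l =>
        { toFun := fun x => (l ^ q) ⊗ₜ[A] ψ x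
          map_zero' := by rw [hψ_zero, tmul_zero]
          map_add' := fun x y => by rw [hψ_add, tmul_add] }
      map_zero' := by
        ext x
        simp [hq.zero_pow']
      map_add' := fun l l' => by
        ext x
        simp [hq.add_pow, add_tmul] }
  have hf : ∀ (r : A) (l : L) (x : B₂), f (r • l) x = f l (r • x) := by
    intro r l x
    change ((r • l) ^ q) ⊗ₜ[A] ψ x = (l ^ q) ⊗ₜ[A] ψ (r • x)
    rw [hψ_smul, smul_pow, TensorProduct.smul_tmul]
  refine ⟨TensorProduct.liftAddHom f hf, fun z => ?_⟩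
  induction z with
  | zero => simp [hq.zero_pow']
  | tmul l x =>
    rw [Algebra.TensorProduct.map_tmul, TensorProduct.liftAddHom_tmul]
    change (l ^ q) ⊗ₜ[A] ψ (φ x) = _
    rw [hψ_map, Algebra.TensorProduct.tmul_pow]
  | add z w hz hw =>
    rw [map_add, map_add, hz, hw, hq.add_pow]

include hφ hq hpow in
/-- **Step P**: a purely inseparable injective map induces a homeomorphism on all fibres. -/
theorem irrRing_tensor_iff_of_pow_mem_range :
    IrrRing (L ⊗[A] B₁) ↔ IrrRing (L ⊗[A] B₂) := by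
  refine irrRing_iff_of_pow_mem_range
    (Algebra.TensorProduct.map (AlgHom.id A L) φ).toRingHom ?_ ?_
  · intro z hz
    obtain ⟨Ψ, hΨ⟩ := exists_addHom_frob φ hφ hq hpow L
    have h1 : z ^ q = 0 := by
      rw [← hΨ z]
      have : (Algebra.TensorProduct.map (AlgHom.id A L) φ) z = 0 := hz
      rw [this, map_zero]
    exact mem_nilradical.mpr ⟨q, h1⟩
  · intro z
    exact ⟨q, hq.pos, pow_mem_range_tensor φ hq hpow L z⟩

end PI

end Groth.Agent.Lib.H77GeomIrrTensor
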