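import Mathlib
import Groth.Agent.Lib.H77GeomIrrTensor
import Groth.Agent.Lib.H77FibNDAlg

/-!
# Comparing irreducibility of the geometric fibres of two algebras (helper77)

* `one_tmul_mem_nonZeroDivisors`: a nonzerodivisor on `κ(q) ⊗ B` stays a nonzerodivisor on
  `L ⊗ B` for every field `L` over `κ(q)`;
* `exists_forall_tensor_nzd`: spreading out of nonzerodivisors, for arbitrary fields over the base;
* `exists_forall_irrRing_iff`: if `ι : C → B` is an injective map of finite type algebras over the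
  domain `A`, both domains, and `B` is "purely inseparable over `C` after inverting `v`", then for
  all fields `L` over a nonempty open of `Spec A`: `Spec (L ⊗ C)` irreducible iff `Spec (L ⊗ B)`
  irreducible.
-/

set_option autoImplicit false
set_option linter.style.haveILetI false
universe u

open TensorProduct

namespace Groth.Agent.Lib.H77GeomIrrCompare

open Groth.Agent.Lib.H77IrrRing Groth.Agent.Lib.H77GeomIrrTensor

section NZD

variable {R : Type u} {B : Type u} [CommRing R] [CommRing B] [Algebra R B]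

theorem one_tmul_mem_nonZeroDivisors (L : Type u) [Field L] [Algebra R L] (b : B)
    (q : PrimeSpectrum R) (hq : RingHom.ker (algebraMap R L) = q.asIdeal)
    (h : ∀ z : q.asIdeal.ResidueField ⊗[R] B,
      ((1 : q.asIdeal.ResidueField) ⊗ₜ[R] b) * z = 0 → z = 0) :
    (1 : L) ⊗ₜ[R] b ∈ nonZeroDivisors (L ⊗[R] B) := by
  let κ := q.asIdeal.ResidueField
  let ψ : κ →ₐ[R] L := Ideal.ResidueField.liftₐ q.asIdeal (Algebra.ofId R L)
    (by
      intro x hx
      rw [← hq] at hx
      exact hx)
    (by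
      intro x hx
      have hx' : x ∉ RingHom.ker (algebraMap R L) := by rw [hq]; exact hx
      have : algebraMap R L x ≠ 0 := hx'
      exact isUnit_iff_ne_zero.2 this)
  letI : Algebra κ L := ψ.toRingHom.toAlgebra
  haveI : IsScalarTower R κ L := IsScalarTower.of_algebraMap_eq (fun r => (ψ.commutes r).symm)
  let e := Algebra.TensorProduct.cancelBaseChange R κ L L B
  let μ : (κ ⊗[R] B) →ₗ[κ] (κ ⊗[R] B) := LinearMap.mulLeft κ ((1 : κ) ⊗ₜ[R] b)
  have hμ : Function.Injective μ := by
    rw [injective_iff_map_eq_zero]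
    intro z hz
    exact h z hz
  have hμL : Function.Injective (μ.lTensor L) :=
    Module.Flat.lTensor_preserves_injective_linearMap μ hμ
  have hmul : ∀ w : L ⊗[κ] (κ ⊗[R] B),
      μ.lTensor L w = ((1 : L) ⊗ₜ[κ] ((1 : κ) ⊗ₜ[R] b)) * w := by
    intro w
    induction w with
    | zero => simp
    | tmul l x => simp [μ]
    | add x y hx hy => rw [map_add, hx, hy, mul_add]
  rw [mem_nonZeroDivisors_iff_left]
  intro z hz
  have h1 : μ.lTensor L (e.symm z) = 0 := by
    rw [hmul]
    apply e.injective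
    rw [map_mul, AlgEquiv.apply_symm_apply, Algebra.TensorProduct.cancelBaseChange_tmul, one_smul,
      map_zero]
    exact hz
  have h2 : e.symm z = 0 := hμL (by rw [h1, map_zero])
  have := congrArg e h2
  rwa [AlgEquiv.apply_symm_apply, map_zero] at this

variable [IsDomain R] [Algebra.FiniteType R B]

/-- Nonzerodivisors on the generic fibre spread out, for arbitrary fields over the base. -/
theorem exists_forall_tensor_nzd (b : B)
    (hb : ∀ x : B, b * x = 0 → ∃ r : R, r ≠ 0 ∧ r • x = 0) :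
    ∃ g : R, g ≠ 0 ∧ ∀ (L : Type u) [Field L] [Algebra R L], algebraMap R L g ≠ 0 →
      (1 : L) ⊗ₜ[R] b ∈ nonZeroDivisors (L ⊗[R] B) := by
  obtain ⟨g, hg, hgq⟩ := Groth.Agent.Lib.H77FibNDAlg.exists_forall_fibre_nzd b hb
  refine ⟨g, hg, fun L _ _ hgL => ?_⟩
  let q : PrimeSpectrum R := ⟨RingHom.ker (algebraMap R L), RingHom.ker_isPrime _⟩
  exact one_tmul_mem_nonZeroDivisors L b q rfl (hgq q (fun hmem => hgL hmem))

end NZD

section Compare

variable {A : Type u} [CommRing A] [IsDomain A] {C B : Type u} [CommRing C] [CommRing B]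
  [IsDomain B] [Algebra A C] [Algebra A B] [Algebra.FiniteType A C] [Algebra.FiniteType A B]

/-- **Comparison**: `ι : C → B` injective, `B` a domain, `v ∈ C` with `ι v ≠ 0`, and every `b ∈ B`
has `(ι v)^k b^q ∈ ι C`.  Then over a nonempty open of `Spec A` the geometric fibres of `C` are
irreducible iff those of `B` are. -/
theorem exists_forall_irrRing_iff (ι : C →ₐ[A] B) (hι : Function.Injective ι) (v : C)
    (hv : ι v ≠ 0) {q : ℕ} (hq : IsFrobExp A q)
    (hpow : ∀ b : B, ∃ (k : ℕ) (c : C), ι v ^ k * b ^ q = ι c) :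
    ∃ g : A, g ≠ 0 ∧ ∀ (L : Type u) [Field L] [Algebra A L], algebraMap A L g ≠ 0 →
      (IrrRing (L ⊗[A] C) ↔ IrrRing (L ⊗[A] B)) := by
  have hvB : ∀ x : B, ι v * x = 0 → ∃ r : A, r ≠ 0 ∧ r • x = 0 := by
    intro x hx
    rcases mul_eq_zero.mp hx with h | h
    · exact absurd h hv
    · exact ⟨1, one_ne_zero, by rw [h, smul_zero]⟩
  have hvC : ∀ x : C, v * x = 0 → ∃ r : A, r ≠ 0 ∧ r • x = 0 := by
    intro x hx
    have h1 : ι v * ι x = 0 := by rw [← map_mul, hx, map_zero]
    rcases mul_eq_zero.mp h1 with h | h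
    · exact absurd h hv
    · exact ⟨1, one_ne_zero, by rw [one_smul]; exact hι (h.trans (map_zero ι).symm)⟩
  obtain ⟨g₁, hg₁, hC⟩ := exists_forall_tensor_nzd (R := A) v hvC
  obtain ⟨g₂, hg₂, hB⟩ := exists_forall_tensor_nzd (R := A) (ι v) hvB
  refine ⟨g₁ * g₂, mul_ne_zero hg₁ hg₂, fun L _ _ hgL => ?_⟩
  rw [map_mul] at hgL
  have h1 := hC L (left_ne_zero_of_mul hgL)
  have h2 := hB L (right_ne_zero_of_mul hgL)
  let Cv := Localization.Away v
  let Bv := Localization.Away (ι v)
  let φ : Cv →ₐ[A] Bv := Localization.awayMapₐ ι v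
  have hφ : Function.Injective φ := IsLocalization.Away.mapₐ_injective_of_injective v hι
  have hφpow : ∀ z : Bv, z ^ q ∈ φ.range := by
    intro z
    obtain ⟨b, s, rfl⟩ := IsLocalization.exists_mk'_eq (Submonoid.powers (ι v)) z
    obtain ⟨m, hm⟩ := s.2
    obtain ⟨k, c, hkc⟩ := hpow b
    have hmem : ι.toRingHom (v ^ (m * q + k)) ∈ Submonoid.powers (ι v) :=
      ⟨m * q + k, by simp⟩
    refine ⟨IsLocalization.mk' Cv c (⟨v ^ (m * q + k), m * q + k, rfl⟩ : Submonoid.powers v), ?_⟩
    change IsLocalization.Away.map Cv Bv ι.toRingHom v _ = _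
    rw [IsLocalization.Away.map, IsLocalization.map_mk', ← IsLocalization.mk'_pow]
    apply IsLocalization.mk'_eq_of_eq
    change ι.toRingHom (v ^ (m * q + k)) * b ^ q = ((s ^ q : Submonoid.powers (ι v)) : B) * ι c
    rw [SubmonoidClass.coe_pow, ← hm, ← hkc]
    simp only [AlgHom.toRingHom_eq_coe, RingHom.coe_coe, map_pow]
    ring
  rw [irrRing_tensor_away_iff L v Cv h1, irrRing_tensor_away_iff L (ι v) Bv h2]
  exact irrRing_tensor_iff_of_pow_mem_range φ hφ hq hφpow L

end Compare

end Groth.Agent.Lib.H77GeomIrrCompare
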