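import Mathlib
import Groth.Agent.Lib.H77GeomIrrCompare
import Groth.Agent.Lib.H77AbsIrrPoly

/-!
# Hypersurface models and geometric irreducibility of nearby fibres (helper77)

Let `A` be a domain and `B` a domain of finite type over `A`.  A `HyperData A B` consists of
algebraically independent `t₁, …, t_d ∈ B`, an element `θ ∈ B` with monic "minimal polynomial"
`P ∈ A[t][T]` which is separable over `Frac A[t]`, such that `B` is purely inseparable over
`A[t][θ]` after inverting a nonzero `v ∈ A[t]`.

`exists_forall_irrRing_of_hyperData`: if such data exist and `Spec (K̄ ⊗[A] B)` is irreducible, then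
`Spec (L ⊗[A] B)` is irreducible for all fields `L` over a nonempty open of `Spec A`.
-/

set_option autoImplicit false
set_option linter.style.haveILetI false
universe u v w

open MvPolynomial TensorProduct

namespace Groth.Agent.Lib.H77GeomIrrHyper

open Groth.Agent.Lib.H77IrrRing Groth.Agent.Lib.H77GeomIrrTensor

section OptionEquiv

variable {A : Type u} [CommRing A] {σ : Type v}

/-- naturality of `optionEquivLeft` in the coefficient ring -/
lemma optionEquivLeft_map {L : Type w} [CommRing L] (φ : A →+* L)
    (G : MvPolynomial (Option σ) A) :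
    optionEquivLeft L σ (map φ G) = (optionEquivLeft A σ G).map (map φ) := by
  let f₁ : MvPolynomial (Option σ) A →+* Polynomial (MvPolynomial σ L) :=
    ((optionEquivLeft L σ : MvPolynomial (Option σ) L →+* Polynomial (MvPolynomial σ L))).comp
      (map φ)
  let f₂ : MvPolynomial (Option σ) A →+* Polynomial (MvPolynomial σ L) :=
    (Polynomial.mapRingHom (map φ)).comp
      (optionEquivLeft A σ : MvPolynomial (Option σ) A →+* Polynomial (MvPolynomial σ A))
  have h : f₁ = f₂ := by
    apply MvPolynomial.ringHom_ext
    · intro a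
      simp [f₁, f₂]
    · intro i
      cases i <;> simp [f₁, f₂]
  exact RingHom.congr_fun h G

/-- evaluating through `optionEquivLeft` -/
lemma aeval_optionElim {B : Type w} [CommRing B] [Algebra A B] (t : σ → B) (θ : B)
    (G : MvPolynomial (Option σ) A) :
    aeval (fun o : Option σ => o.elim θ t) G =
      Polynomial.eval₂ (aeval t : MvPolynomial σ A →ₐ[A] B).toRingHom θ
        (optionEquivLeft A σ G) := by
  let f₁ : MvPolynomial (Option σ) A →+* B :=
    (aeval (fun o : Option σ => o.elim θ t) : MvPolynomial (Option σ) A →ₐ[A] B).toRingHom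
  let f₂ : MvPolynomial (Option σ) A →+* B :=
    (Polynomial.eval₂RingHom (aeval t : MvPolynomial σ A →ₐ[A] B).toRingHom θ).comp
      (optionEquivLeft A σ : MvPolynomial (Option σ) A →+* Polynomial (MvPolynomial σ A))
  have h : f₁ = f₂ := by
    apply MvPolynomial.ringHom_ext
    · intro a
      simp [f₁, f₂]
    · intro i
      cases i <;> simp [f₁, f₂]
  exact RingHom.congr_fun h G

end OptionEquiv

section Squarefree

/-- A monic polynomial over a domain which is separable over the fraction field is squarefree. -/
theorem squarefree_of_monic_of_separable {R : Type u} [CommRing R] [IsDomain R]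
    (P : Polynomial R) (hP : P.Monic)
    (hsep : (P.map (algebraMap R (FractionRing R))).Separable) : Squarefree P := by
  intro x hx
  have hinj : Function.Injective (algebraMap R (FractionRing R)) :=
    IsFractionRing.injective R (FractionRing R)
  have h1 : x.map (algebraMap R (FractionRing R)) * x.map (algebraMap R (FractionRing R)) ∣
      P.map (algebraMap R (FractionRing R)) := by
    rw [← Polynomial.map_mul]
    exact Polynomial.map_dvd _ hx
  have h2 : IsUnit (x.map (algebraMap R (FractionRing R))) := hsep.squarefree _ h1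
  have h3 : x.natDegree = 0 := by
    rw [← Polynomial.natDegree_map_eq_of_injective hinj]
    exact Polynomial.natDegree_eq_zero_of_isUnit h2
  obtain ⟨x₀, rfl⟩ := Polynomial.natDegree_eq_zero.mp h3
  obtain ⟨h, hh⟩ := hx
  have hlc : (1 : R) = x₀ * x₀ * h.leadingCoeff := by
    have := congrArg Polynomial.leadingCoeff hh
    rw [hP.leadingCoeff, Polynomial.leadingCoeff_mul, Polynomial.leadingCoeff_mul,
      Polynomial.leadingCoeff_C] at this
    exact this
  have hu : IsUnit x₀ := IsUnit.of_mul_eq_one (x₀ * h.leadingCoeff) (by rw [hlc]; ring)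
  exact hu.map Polynomial.C

end Squarefree

section Hyper

/-- Hypersurface model data for a domain `B` of finite type over `A`. -/
structure HyperData (A B : Type u) [CommRing A] [CommRing B] [Algebra A B] where
  /-- the relative dimension -/
  d : ℕ
  /-- a transcendence basis -/
  t : Fin d → B
  /-- a primitive element of the separable part -/
  θ : B
  /-- its minimal polynomial -/
  P : Polynomial (MvPolynomial (Fin d) A)
  /-- the inseparability exponent -/
  q : ℕ
  /-- a denominator -/
  v : MvPolynomial (Fin d) A
  hq : IsFrobExp A q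
  monic : P.Monic
  root : Polynomial.eval₂ (aeval t : MvPolynomial (Fin d) A →ₐ[A] B).toRingHom θ P = 0
  dvd : ∀ G : Polynomial (MvPolynomial (Fin d) A),
    Polynomial.eval₂ (aeval t : MvPolynomial (Fin d) A →ₐ[A] B).toRingHom θ G = 0 → P ∣ G
  sep : (P.map (algebraMap (MvPolynomial (Fin d) A)
    (FractionRing (MvPolynomial (Fin d) A)))).Separable
  hv : aeval t v ≠ 0
  pow : ∀ b : B, ∃ (k : ℕ) (c : Polynomial (MvPolynomial (Fin d) A)),
    (aeval t v) ^ k * b ^ q =
      Polynomial.eval₂ (aeval t : MvPolynomial (Fin d) A →ₐ[A] B).toRingHom θ c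

variable {A B : Type u} [CommRing A] [CommRing B] [Algebra A B]

/-- the flattened polynomial -/
noncomputable def HyperData.Pt (H : HyperData A B) : MvPolynomial (Option (Fin H.d)) A :=
  (optionEquivLeft A (Fin H.d)).symm H.P

/-- the constant family consisting of the flattened polynomial -/
noncomputable def HyperData.vfam (H : HyperData A B) : Unit → MvPolynomial (Option (Fin H.d)) A :=
  fun _ => H.Pt

/-- the hypersurface ring -/
abbrev HyperData.C (H : HyperData A B) : Type u :=
  MvPolynomial (Option (Fin H.d)) A ⧸ Ideal.span (Set.range H.vfam)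

/-- evaluation -/
noncomputable def HyperData.ev (H : HyperData A B) : MvPolynomial (Option (Fin H.d)) A →ₐ[A] B :=
  aeval (fun o : Option (Fin H.d) => o.elim H.θ H.t)

lemma HyperData.ev_apply (H : HyperData A B) (G : MvPolynomial (Option (Fin H.d)) A) :
    H.ev G = Polynomial.eval₂ (aeval H.t : MvPolynomial (Fin H.d) A →ₐ[A] B).toRingHom H.θ
      (optionEquivLeft A (Fin H.d) G) :=
  aeval_optionElim H.t H.θ G

lemma HyperData.ev_symm (H : HyperData A B) (G : Polynomial (MvPolynomial (Fin H.d) A)) :
    H.ev ((optionEquivLeft A (Fin H.d)).symm G) =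
      Polynomial.eval₂ (aeval H.t : MvPolynomial (Fin H.d) A →ₐ[A] B).toRingHom H.θ G := by
  rw [H.ev_apply, AlgEquiv.apply_symm_apply]

lemma HyperData.ev_Pt (H : HyperData A B) : H.ev H.Pt = 0 := by
  rw [HyperData.Pt, H.ev_symm, H.root]

lemma HyperData.ev_eq_zero_of_mem (H : HyperData A B) :
    ∀ x ∈ Ideal.span (Set.range H.vfam), H.ev x = 0 := by
  intro x hx
  have hle : Ideal.span (Set.range H.vfam) ≤ RingHom.ker H.ev.toRingHom := by
    rw [Ideal.span_le]
    rintro _ ⟨_, rfl⟩
    exact H.ev_Pt
  exact hle hx

/-- the map from the hypersurface ring to `B` -/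
noncomputable def HyperData.ι (H : HyperData A B) : H.C →ₐ[A] B :=
  Ideal.Quotient.liftₐ (Ideal.span (Set.range H.vfam)) H.ev H.ev_eq_zero_of_mem

lemma HyperData.ι_mk (H : HyperData A B) (G : MvPolynomial (Option (Fin H.d)) A) :
    H.ι (Ideal.Quotient.mk _ G) = H.ev G := rfl

lemma HyperData.ι_injective (H : HyperData A B) : Function.Injective H.ι := by
  rw [injective_iff_map_eq_zero]
  intro x hx
  obtain ⟨G, rfl⟩ := Ideal.Quotient.mk_surjective x
  rw [H.ι_mk, H.ev_apply] at hx
  have h1 := H.dvd _ hx
  have h2 : H.Pt ∣ G := by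
    have := map_dvd (optionEquivLeft A (Fin H.d)).symm h1
    rwa [AlgEquiv.symm_apply_apply] at this
  rw [Ideal.Quotient.eq_zero_iff_mem]
  obtain ⟨c, rfl⟩ := h2
  exact Ideal.mul_mem_right _ _ (Ideal.subset_span ⟨(), rfl⟩)

/-- the denominator in the hypersurface ring -/
noncomputable def HyperData.vC (H : HyperData A B) : H.C :=
  Ideal.Quotient.mk _ (rename some H.v)

lemma HyperData.ι_vC (H : HyperData A B) : H.ι H.vC = aeval H.t H.v := by
  rw [HyperData.vC, H.ι_mk, HyperData.ev, aeval_rename]
  rfl

section TensorIso

variable (H : HyperData A B) (L : Type u) [Field L] [Algebra A L]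

/-- the presentation of the hypersurface ring -/
noncomputable def HyperData.pres : Algebra.Presentation A H.C (Option (Fin H.d)) Unit :=
  Algebra.Presentation.naive (v := H.vfam)

lemma HyperData.ker_baseChange :
    (H.pres.baseChange L).ker = Ideal.span {map (algebraMap A L) H.Pt} := by
  rw [← (H.pres.baseChange L).span_range_relation_eq_ker]
  congr 1
  ext x
  simp only [Set.mem_range, Set.mem_singleton_iff]
  constructor
  · rintro ⟨_, rfl⟩
    rfl
  · rintro rfl
    exact ⟨(), rfl⟩

/-- `L ⊗ C ≃ L[τ]/(P̃)` -/
lemma HyperData.irrRing_tensor_iff :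
    IrrRing (L ⊗[A] H.C) ↔ IrrRing ((H.pres.baseChange L).Ring ⧸ (H.pres.baseChange L).ker) := by
  let e := (H.pres.baseChange L).quotientEquiv
  constructor
  · exact IrrRing.of_injective e.toRingEquiv.toRingHom e.injective
  · exact IrrRing.of_injective e.symm.toRingEquiv.toRingHom e.symm.injective

lemma HyperData.irrRing_tensor_of_irreducible
    (hirr : Irreducible (map (algebraMap A L) H.Pt)) : IrrRing (L ⊗[A] H.C) := by
  rw [H.irrRing_tensor_iff L]
  have hprime : ((H.pres.baseChange L).ker).IsPrime := by
    rw [H.ker_baseChange L]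
    exact Ideal.isPrime_span_singleton_of_prime hirr.prime
  haveI := hprime
  haveI : IsDomain ((H.pres.baseChange L).Ring ⧸ (H.pres.baseChange L).ker) :=
    Ideal.Quotient.isDomain _
  exact IrrRing.of_isDomain

lemma HyperData.optionEquivLeft_map_Pt :
    optionEquivLeft L (Fin H.d) (map (algebraMap A L) H.Pt) =
      H.P.map (map (algebraMap A L)) := by
  rw [optionEquivLeft_map, HyperData.Pt, AlgEquiv.apply_symm_apply]

/-- the induced map on fraction fields -/
noncomputable def fracMap {R₀ R₁ : Type u} [CommRing R₀] [IsDomain R₀] [CommRing R₁]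
    [IsDomain R₁] (f : R₀ →+* R₁) (hf : Function.Injective f) :
    FractionRing R₀ →+* FractionRing R₁ :=
  IsFractionRing.lift (g := (algebraMap R₁ (FractionRing R₁)).comp f)
    ((IsFractionRing.injective R₁ (FractionRing R₁)).comp hf)

lemma fracMap_algebraMap {R₀ R₁ : Type u} [CommRing R₀] [IsDomain R₀] [CommRing R₁]
    [IsDomain R₁] (f : R₀ →+* R₁) (hf : Function.Injective f) (x : R₀) :
    fracMap f hf (algebraMap R₀ (FractionRing R₀) x) = algebraMap R₁ (FractionRing R₁) (f x) := by
  unfold fracMap
  rw [IsFractionRing.lift_algebraMap]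
  rfl

/-- separability is preserved by an injective extension of the base domain -/
lemma separable_map_of_injective {R₀ R₁ : Type u} [CommRing R₀] [IsDomain R₀] [CommRing R₁]
    [IsDomain R₁] (f : R₀ →+* R₁) (hf : Function.Injective f) (P : Polynomial R₀)
    (hsep : (P.map (algebraMap R₀ (FractionRing R₀))).Separable) :
    ((P.map f).map (algebraMap R₁ (FractionRing R₁))).Separable := by
  have hj : (fracMap f hf).comp (algebraMap R₀ (FractionRing R₀)) =
      (algebraMap R₁ (FractionRing R₁)).comp f :=
    RingHom.ext fun x => fracMap_algebraMap f hf x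
  have h1 : (P.map f).map (algebraMap R₁ (FractionRing R₁)) =
      (P.map (algebraMap R₀ (FractionRing R₀))).map (fracMap f hf) := by
    rw [Polynomial.map_map, Polynomial.map_map, hj]
  rw [h1]
  exact hsep.map

/-- separability of `P` after extension of the coefficient field -/
lemma HyperData.separable_map [IsDomain A] (hinj : Function.Injective (algebraMap A L)) :
    ((H.P.map (map (algebraMap A L))).map (algebraMap (MvPolynomial (Fin H.d) L)
      (FractionRing (MvPolynomial (Fin H.d) L)))).Separable :=
  separable_map_of_injective (map (algebraMap A L)) (map_injective _ hinj) H.P H.sep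

lemma HyperData.irreducible_of_irrRing_tensor [IsDomain A]
    (hinj : Function.Injective (algebraMap A L)) (h : IrrRing (L ⊗[A] H.C)) :
    Irreducible (map (algebraMap A L) H.Pt) := by
  rw [H.irrRing_tensor_iff L] at h
  have hmonic : (H.P.map (map (algebraMap A L))).Monic := H.monic.map _
  have hsqP : Squarefree (H.P.map (map (algebraMap A L))) :=
    squarefree_of_monic_of_separable _ hmonic (H.separable_map L hinj)
  have hsq : Squarefree (map (algebraMap A L) H.Pt) := by
    intro y hy
    have h1 : optionEquivLeft L (Fin H.d) y * optionEquivLeft L (Fin H.d) y ∣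
        H.P.map (map (algebraMap A L)) := by
      rw [← H.optionEquivLeft_map_Pt L, ← map_mul]
      exact map_dvd _ hy
    have h2 := hsqP _ h1
    have h3 := h2.map (optionEquivLeft L (Fin H.d)).symm
    rwa [AlgEquiv.symm_apply_apply] at h3
  have hne : map (algebraMap A L) H.Pt ≠ 0 := by
    intro h0
    have := H.optionEquivLeft_map_Pt L
    rw [h0, map_zero] at this
    exact hmonic.ne_zero this.symm
  have hrad : ((H.pres.baseChange L).ker).IsRadical := by
    rw [H.ker_baseChange L]
    exact isRadical_iff_span_singleton.mp hsq.isRadical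
  haveI : IsReduced ((H.pres.baseChange L).Ring ⧸ (H.pres.baseChange L).ker) :=
    (Ideal.isRadical_iff_quotient_reduced _).mp hrad
  haveI := h.isDomain
  have hprime : ((H.pres.baseChange L).ker).IsPrime :=
    (Ideal.Quotient.isDomain_iff_prime _).mp inferInstance
  rw [H.ker_baseChange L, Ideal.span_singleton_prime hne] at hprime
  exact hprime.irreducible

end TensorIso

section Main

variable [IsDomain A] [IsDomain B] [Algebra.FiniteType A B]

/-- **Geometric irreducibility spreads out, given a hypersurface model.** -/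
theorem exists_forall_irrRing_of_hyperData (H : HyperData A B)
    (hgen : IrrRing (AlgebraicClosure (FractionRing A) ⊗[A] B)) :
    ∃ g : A, g ≠ 0 ∧ ∀ (L : Type u) [Field L] [Algebra A L], algebraMap A L g ≠ 0 →
      IrrRing (L ⊗[A] B) := by
  haveI : Algebra.FiniteType A H.C :=
    Algebra.FiniteType.of_surjective (Ideal.Quotient.mkₐ A _) (Ideal.Quotient.mkₐ_surjective A _)
  have hvι : H.ι H.vC ≠ 0 := by rw [H.ι_vC]; exact H.hv
  have hpow : ∀ b : B, ∃ (k : ℕ) (c : H.C), H.ι H.vC ^ k * b ^ H.q = H.ι c := by
    intro b
    obtain ⟨k, c, hc⟩ := H.pow b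
    refine ⟨k, Ideal.Quotient.mk _ ((optionEquivLeft A (Fin H.d)).symm c), ?_⟩
    rw [H.ι_mk, H.ev_symm, H.ι_vC, hc]
  obtain ⟨g₁, hg₁, hcmp⟩ := Groth.Agent.Lib.H77GeomIrrCompare.exists_forall_irrRing_iff
    H.ι H.ι_injective H.vC hvι H.hq hpow
  let Kbar := AlgebraicClosure (FractionRing A)
  have hinj : Function.Injective (algebraMap A Kbar) := by
    rw [IsScalarTower.algebraMap_eq A (FractionRing A) Kbar]
    exact (algebraMap (FractionRing A) Kbar).injective.comp
      (IsFractionRing.injective A (FractionRing A))
  have hgenC : IrrRing (Kbar ⊗[A] H.C) :=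
    (hcmp Kbar (fun h0 => hg₁ (hinj (h0.trans (map_zero _).symm)))).mpr hgen
  have hirr : Irreducible (map (algebraMap A Kbar) H.Pt) :=
    H.irreducible_of_irrRing_tensor Kbar hinj hgenC
  obtain ⟨f, hf, hfL⟩ := Groth.Agent.Lib.H77AbsIrrPoly.exists_forall_irreducible_map H.Pt hirr
  refine ⟨g₁ * f, mul_ne_zero hg₁ hf, fun L _ _ hgL => ?_⟩
  rw [map_mul] at hgL
  have h1 := hfL L (algebraMap A L) (right_ne_zero_of_mul hgL)
  exact (hcmp L (left_ne_zero_of_mul hgL)).mp (H.irrRing_tensor_of_irreducible L h1)

end Main

end Hyper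

end Groth.Agent.Lib.H77GeomIrrHyper
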