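import Mathlib
import Groth.Agent.Lib.H77GeomIrrHyper

/-!
# Existence of hypersurface models (helper77)

Field theory behind `HyperData`: for a domain `B` of finite type over a domain `A` (with `A ⊆ B`)
there exist a transcendence basis `t` inside `B`, an element `θ ∈ B` separable over `Frac A[t]`
with monic minimal polynomial over `A[t]`, and an exponent `q` (a power of the characteristic
exponent) such that all `q`-th powers of elements of `B` lie in `A[t][θ]` up to a denominator in
`A[t]`.
-/

set_option autoImplicit false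
set_option linter.style.haveILetI false
universe u v

open Polynomial IntermediateField

namespace Groth.Agent.Lib.H77GeomIrrField

section FieldA

variable {F : Type u} {E : Type v} [Field F] [Field E] [Algebra F E]

/-- some `q^n`-th power of an algebraic element is separable -/
theorem exists_pow_isSeparable (q : ℕ) [ExpChar F q] {x : E} (hx : IsIntegral F x) :
    ∃ n : ℕ, IsSeparable F (x ^ q ^ n) := by
  obtain ⟨g, hsep, n, hexp⟩ := (minpoly.irreducible hx).hasSeparableContraction q
  refine ⟨n, ?_⟩
  have h0 : aeval (x ^ q ^ n) g = 0 := by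
    rw [← expand_aeval, hexp, minpoly.aeval]
  exact hsep.of_dvd (minpoly.dvd F _ h0)

/-- powers of separable elements to a common exponent -/
theorem exists_pow_isSeparable_finset (q : ℕ) [ExpChar F q] [Algebra.IsAlgebraic F E]
    (s : Finset E) : ∃ n : ℕ, ∀ x ∈ s, IsSeparable F (x ^ q ^ n) := by
  classical
  induction s using Finset.induction_on with
  | empty => exact ⟨0, by simp⟩
  | insert a s _ ih =>
    obtain ⟨n₁, h₁⟩ := ih
    obtain ⟨n₂, h₂⟩ := exists_pow_isSeparable q (Algebra.IsIntegral.isIntegral (R := F) a)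
    refine ⟨n₁ + n₂, fun x hx => ?_⟩
    rw [Finset.mem_insert] at hx
    have key : ∀ (y : E) (k m : ℕ), IsSeparable F (y ^ q ^ k) → IsSeparable F (y ^ q ^ (k + m)) := by
      intro y k m hy
      rw [pow_add, pow_mul]
      have : y ^ q ^ k ∈ separableClosure F E := mem_separableClosure_iff.mpr hy
      exact mem_separableClosure_iff.mp (pow_mem this _)
    rcases hx with rfl | hx
    · rw [add_comm]
      exact key _ _ _ h₂
    · exact key _ _ _ (h₁ x hx)

/-- A finitely generated algebraic extension becomes, after raising the generators to a `q^n`-th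
power, contained in a simple separable extension. -/
theorem exists_primitive_separable (q : ℕ) [ExpChar F q] [Algebra.IsAlgebraic F E]
    (s : Finset E) :
    ∃ (n : ℕ) (θ : E), IsSeparable F θ ∧ ∀ x ∈ s, x ^ q ^ n ∈ F⟮θ⟯ := by
  classical
  obtain ⟨n, hn⟩ := exists_pow_isSeparable_finset (F := F) q s
  let S : Set E := (fun x => x ^ q ^ n) '' (s : Set E)
  have hSsep : ∀ y ∈ S, IsSeparable F y := by
    rintro _ ⟨x, hx, rfl⟩
    exact hn x hx
  let K : IntermediateField F E := IntermediateField.adjoin F S
  haveI : FiniteDimensional F K :=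
    IntermediateField.finiteDimensional_adjoin (S := S) (fun y _ => Algebra.IsIntegral.isIntegral y)
  haveI : Algebra.IsSeparable F K :=
    (IntermediateField.isSeparable_adjoin_iff_isSeparable F E).mpr hSsep
  obtain ⟨α, hα⟩ := Field.exists_primitive_element F K
  refine ⟨n, (α : E), ?_, fun x hx => ?_⟩
  · have h1 : IsSeparable F α := Algebra.IsSeparable.isSeparable F α
    have h2 : minpoly F (α : E) = minpoly F α :=
      (minpoly.algebraMap_eq (algebraMap K E).injective α)
    change (minpoly F (α : E)).Separable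
    rw [h2]
    exact h1
  · have hK : K = F⟮(α : E)⟯ := by
      have h1 : (F⟮α⟯ : IntermediateField F K).map K.val = F⟮(α : E)⟯ := by
        rw [IntermediateField.adjoin_map]
        simp
      rw [hα] at h1
      rw [← h1, ← AlgHom.fieldRange_eq_map, IntermediateField.fieldRange_val]
    rw [← hK]
    exact IntermediateField.subset_adjoin F S ⟨x, hx, rfl⟩

/-- scaling by a nonzero element of the base field does not change the simple extension -/
theorem adjoin_simple_smul_eq {c : F} (hc : c ≠ 0) (x : E) :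
    F⟮algebraMap F E c * x⟯ = F⟮x⟯ := by
  apply le_antisymm
  · rw [IntermediateField.adjoin_simple_le_iff]
    exact mul_mem (F⟮x⟯.algebraMap_mem c) (IntermediateField.mem_adjoin_simple_self F x)
  · rw [IntermediateField.adjoin_simple_le_iff]
    have h1 : x = algebraMap F E c⁻¹ * (algebraMap F E c * x) := by
      rw [← mul_assoc, ← map_mul, inv_mul_cancel₀ hc, map_one, one_mul]
    have h2 : algebraMap F E c⁻¹ * (algebraMap F E c * x) ∈ F⟮algebraMap F E c * x⟯ :=
      mul_mem (F⟮algebraMap F E c * x⟯.algebraMap_mem c⁻¹)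
        (IntermediateField.mem_adjoin_simple_self F _)
    rwa [← h1] at h2

theorem natDegree_minpoly_smul_eq {c : F} (hc : c ≠ 0) {x : E} (hx : IsIntegral F x) :
    (minpoly F (algebraMap F E c * x)).natDegree = (minpoly F x).natDegree := by
  have hx' : IsIntegral F (algebraMap F E c * x) := isIntegral_algebraMap.mul hx
  rw [← IntermediateField.adjoin.finrank hx, ← IntermediateField.adjoin.finrank hx',
    adjoin_simple_smul_eq hc x]

end FieldA

section FracB

variable {R₀ : Type u} [CommRing R₀] [IsDomain R₀] {F : Type u} [Field F] [Algebra R₀ F]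
  [IsFractionRing R₀ F] {E : Type u} [Field E] [Algebra R₀ E] [Algebra F E]
  [IsScalarTower R₀ F E]

lemma algebraMap_injective_E (R₀ F E : Type*) [CommRing R₀] [Field F] [Algebra R₀ F]
    [IsFractionRing R₀ F] [Field E] [Algebra R₀ E] [Algebra F E] [IsScalarTower R₀ F E] :
    Function.Injective (algebraMap R₀ E) := by
  rw [IsScalarTower.algebraMap_eq R₀ F E]
  exact (algebraMap F E).injective.comp (IsFractionRing.injective R₀ F)

/-- **B1**: a multiple of an integral element is a root of a monic polynomial over `R₀` of the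
degree of its minimal polynomial. -/
theorem exists_monic_of_isIntegral {θ₀ : E} (hθ₀ : IsIntegral F θ₀) :
    ∃ (c : R₀) (P : R₀[X]), c ≠ 0 ∧ P.Monic ∧ P.natDegree = (minpoly F θ₀).natDegree ∧
      aeval (algebraMap R₀ E c * θ₀) P = 0 := by
  let p₀ := minpoly F θ₀
  obtain ⟨b, hb, hmap⟩ := IsLocalization.integerNormalization_spec (nonZeroDivisors R₀) p₀
  set P₁ := IsLocalization.integerNormalization (nonZeroDivisors R₀) p₀ with hP₁
  have hb0 : algebraMap R₀ F b ≠ 0 := by
    intro h
    exact nonZeroDivisors.ne_zero hb ((IsFractionRing.injective R₀ F) (h.trans (map_zero _).symm))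
  have hdeg : P₁.natDegree = p₀.natDegree := by
    rw [← Polynomial.natDegree_map_eq_of_injective (IsFractionRing.injective R₀ F) P₁, hmap,
      ← IsScalarTower.algebraMap_smul F b p₀, Polynomial.natDegree_smul _ hb0]
  have hp₀ : p₀ ≠ 0 := minpoly.ne_zero hθ₀
  have hP₁0 : P₁ ≠ 0 := by
    intro h
    have : P₁.map (algebraMap R₀ F) = 0 := by rw [h, Polynomial.map_zero]
    rw [hmap, ← IsScalarTower.algebraMap_smul F b p₀, smul_eq_zero] at this
    rcases this with h1 | h1
    · exact hb0 h1
    · exact hp₀ h1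
  have hroot : aeval θ₀ P₁ = 0 :=
    IsLocalization.integerNormalization_aeval_eq_zero (nonZeroDivisors R₀) p₀ (minpoly.aeval F θ₀)
  refine ⟨P₁.leadingCoeff, P₁.integralNormalization, leadingCoeff_ne_zero.mpr hP₁0,
    monic_integralNormalization hP₁0, ?_, ?_⟩
  · rw [natDegree_integralNormalization, hdeg]
  · exact integralNormalization_aeval_eq_zero hroot
      (fun x hx => algebraMap_injective_E R₀ F E (hx.trans (map_zero _).symm))

omit [IsDomain R₀] [IsFractionRing R₀ F] in
/-- **B3**: a monic polynomial over `R₀` of the right degree is the minimal polynomial. -/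
theorem map_eq_minpoly {θ : E} (hθ : IsIntegral F θ) {P : R₀[X]} (hP : P.Monic)
    (hroot : aeval θ P = 0) (hdeg : P.natDegree = (minpoly F θ).natDegree) :
    P.map (algebraMap R₀ F) = minpoly F θ := by
  have h1 : minpoly F θ ∣ P.map (algebraMap R₀ F) := by
    apply minpoly.dvd
    rw [aeval_map_algebraMap]
    exact hroot
  refine Polynomial.eq_of_monic_of_dvd_of_natDegree_le (minpoly.monic hθ) (hP.map _) h1 ?_
  rw [hP.natDegree_map, hdeg]

omit [IsDomain R₀] in
/-- **B5**: divisibility over `R₀` by the monic minimal polynomial. -/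
theorem dvd_of_aeval_eq_zero {θ : E} {P : R₀[X]} (hP : P.Monic)
    (hmin : P.map (algebraMap R₀ F) = minpoly F θ) {G : R₀[X]} (hG : aeval θ G = 0) : P ∣ G := by
  have h1 : minpoly F θ ∣ G.map (algebraMap R₀ F) := by
    apply minpoly.dvd
    rw [aeval_map_algebraMap]
    exact hG
  rw [← hmin] at h1
  have h2 : (G %ₘ P).map (algebraMap R₀ F) = 0 := by
    rw [Polynomial.map_modByMonic _ hP]
    exact (Polynomial.modByMonic_eq_zero_iff_dvd (hP.map _)).mpr h1
  have h3 : G %ₘ P = 0 := by
    apply Polynomial.map_injective _ (IsFractionRing.injective R₀ F)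
    rw [h2, Polynomial.map_zero]
  exact (Polynomial.modByMonic_eq_zero_iff_dvd hP).mp h3

/-- **B6**: clearing denominators of an element of a simple algebraic extension. -/
theorem exists_smul_eq_aeval {θ : E} (hθ : IsIntegral F θ) {x : E} (hx : x ∈ F⟮θ⟯) :
    ∃ (v : R₀) (c : R₀[X]), v ≠ 0 ∧ algebraMap R₀ E v * x = aeval θ c := by
  have h1 : x ∈ (F⟮θ⟯).toSubalgebra := hx
  rw [IntermediateField.adjoin_simple_toSubalgebra_of_isAlgebraic hθ.isAlgebraic,
    Algebra.adjoin_singleton_eq_range_aeval] at h1
  obtain ⟨G, rfl⟩ := h1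
  obtain ⟨b, hb, hmap⟩ := IsLocalization.integerNormalization_spec (nonZeroDivisors R₀) G
  refine ⟨b, IsLocalization.integerNormalization (nonZeroDivisors R₀) G,
    nonZeroDivisors.ne_zero hb, ?_⟩
  have h2 : aeval θ (IsLocalization.integerNormalization (nonZeroDivisors R₀) G) =
      aeval θ ((IsLocalization.integerNormalization (nonZeroDivisors R₀) G).map
        (algebraMap R₀ F)) := (aeval_map_algebraMap F θ _).symm
  rw [h2, hmap, ← IsScalarTower.algebraMap_smul F b G, map_smul, Algebra.smul_def,
    ← IsScalarTower.algebraMap_apply]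
  rfl

end FracB

section Gen

open Groth.Agent.Lib.H77GeomIrrTensor

variable {A : Type u} [CommRing A] {R₀ : Type u} [CommRing R₀] [Algebra A R₀] {B : Type u}
  [CommRing B] [Algebra A B] [Algebra R₀ B] [IsScalarTower A R₀ B]

/-- **C2**: the power condition on generators implies it for all elements. -/
theorem forall_exists_pow_mul_eq_aeval {q : ℕ} (hq : IsFrobExp A q) (β : B) (V : R₀)
    (s : Set B) (hs : Algebra.adjoin A s = ⊤)
    (h : ∀ x ∈ s, ∃ c : R₀[X], algebraMap R₀ B V * x ^ q = aeval β c) :
    ∀ b : B, ∃ (k : ℕ) (c : R₀[X]), algebraMap R₀ B V ^ k * b ^ q = aeval β c := by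
  intro b
  have hb : b ∈ Algebra.adjoin A s := by rw [hs]; exact Algebra.mem_top
  induction hb using Algebra.adjoin_induction with
  | mem x hx =>
    obtain ⟨c, hc⟩ := h x hx
    exact ⟨1, c, by rw [pow_one, hc]⟩
  | algebraMap r =>
    refine ⟨0, C (algebraMap A R₀ (r ^ q)), ?_⟩
    rw [pow_zero, one_mul, aeval_C, ← IsScalarTower.algebraMap_apply, map_pow]
  | add x y _ _ hx hy =>
    obtain ⟨k₁, c₁, h₁⟩ := hx
    obtain ⟨k₂, c₂, h₂⟩ := hy
    refine ⟨k₁ + k₂, C (V ^ k₂) * c₁ + C (V ^ k₁) * c₂, ?_⟩
    rw [hq.add_pow, map_add, map_mul, map_mul, aeval_C, aeval_C, ← h₁, ← h₂, map_pow, map_pow,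
      pow_add]
    ring
  | mul x y _ _ hx hy =>
    obtain ⟨k₁, c₁, h₁⟩ := hx
    obtain ⟨k₂, c₂, h₂⟩ := hy
    refine ⟨k₁ + k₂, c₁ * c₂, ?_⟩
    rw [map_mul, ← h₁, ← h₂, mul_pow, pow_add]
    ring

end Gen

section TrBasis

variable {A B : Type u} [CommRing A] [CommRing B] [IsDomain B] [Algebra A B] [FaithfulSMul A B]

/-- **C1**: a transcendence basis indexed by `Fin d` chosen among finitely many generators. -/
theorem exists_transcendenceBasis_fin (s : Finset B) (hs : Algebra.adjoin A (s : Set B) = ⊤) :
    ∃ (d : ℕ) (t : Fin d → B), AlgebraicIndependent A t ∧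
      ∀ b : B, IsAlgebraic (Algebra.adjoin A (Set.range t)) b := by
  haveI : Nontrivial A := by
    by_contra hA
    rw [not_nontrivial_iff_subsingleton] at hA
    have h01 : (0 : B) = 1 := by
      rw [← map_zero (algebraMap A B), ← map_one (algebraMap A B), Subsingleton.elim (0 : A) 1]
    exact zero_ne_one h01
  haveI : Algebra.IsAlgebraic (Algebra.adjoin A (s : Set B)) B :=
    ⟨fun b => isAlgebraic_algebraMap (⟨b, hs ▸ Algebra.mem_top⟩ : Algebra.adjoin A (s : Set B))⟩
  obtain ⟨u, hus, hu⟩ := exists_isTranscendenceBasis_subset (R := A) (s : Set B)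
  haveI : Finite ↥u := (s.finite_toSet.subset hus).to_subtype
  let e := Finite.equivFin ↥u
  refine ⟨Nat.card ↥u, fun i => ((e.symm i : ↥u) : B), ?_, ?_⟩
  · exact hu.1.comp e.symm e.symm.injective
  · have hr : Set.range (fun i => ((e.symm i : ↥u) : B)) = Set.range ((↑) : ↥u → B) := by
      ext x
      constructor
      · rintro ⟨i, rfl⟩
        exact ⟨e.symm i, rfl⟩
      · rintro ⟨y, rfl⟩
        exact ⟨e y, congrArg Subtype.val (Equiv.symm_apply_apply e y)⟩
    rw [hr]
    intro b
    exact hu.isAlgebraic.isAlgebraic b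

end TrBasis

section Core

variable {R₀ B : Type u} [CommRing R₀] [IsDomain R₀] [CommRing B] [IsDomain B] [Algebra R₀ B]
  [FaithfulSMul R₀ B] [Algebra.IsAlgebraic R₀ B]

/-- **D**: the hypersurface model of an algebraic extension of domains, with respect to finitely
many elements of `B`. -/
theorem exists_model (s : Finset B) :
    ∃ (n : ℕ) (β : B) (P : R₀[X]) (V : R₀), P.Monic ∧ aeval β P = 0 ∧
      (∀ G : R₀[X], aeval β G = 0 → P ∣ G) ∧
      (P.map (algebraMap R₀ (FractionRing R₀))).Separable ∧ V ≠ 0 ∧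
      ∀ x ∈ s, ∃ c : R₀[X],
        algebraMap R₀ B V * x ^ (ringExpChar (FractionRing R₀)) ^ n = aeval β c := by
  classical
  let E := FractionRing B
  let F := FractionRing R₀
  haveI : FaithfulSMul R₀ E := inferInstance
  letI : Algebra F E := FractionRing.liftAlgebra R₀ E
  haveI : IsScalarTower R₀ F E := FractionRing.isScalarTower_liftAlgebra R₀ E
  haveI : IsScalarTower R₀ B E := inferInstance
  haveI : Algebra.IsAlgebraic R₀ E := (IsFractionRing.isAlgebraic_iff' R₀ B E).mp inferInstance
  haveI : Algebra.IsAlgebraic F E :=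
    IsFractionRing.comap_isAlgebraic_iff.mp (inferInstance : Algebra.IsAlgebraic R₀ E)
  have hBE : Function.Injective (algebraMap B E) := IsFractionRing.injective B E
  have hR₀E : Function.Injective (algebraMap R₀ E) := algebraMap_injective_E R₀ F E
  let p := ringExpChar F
  haveI : ExpChar F p := ringExpChar.expChar F
  obtain ⟨n, θ₀, hsep, hpow⟩ :=
    exists_primitive_separable (F := F) (E := E) p (s.image (algebraMap B E))
  have hθ₀ : IsIntegral F θ₀ := Algebra.IsIntegral.isIntegral θ₀
  obtain ⟨c, P₂, hc, hP₂m, hP₂deg, hP₂root⟩ := exists_monic_of_isIntegral (R₀ := R₀) hθ₀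
  -- move into `B`
  obtain ⟨r, β, hr, hβ⟩ : ∃ (r : R₀) (β : B), r ≠ 0 ∧
      algebraMap B E β = algebraMap R₀ E r * (algebraMap R₀ E c * θ₀) := by
    obtain ⟨b₁, b₂, hb₂, hb⟩ := IsFractionRing.div_surjective (A := B) (algebraMap R₀ E c * θ₀)
    obtain ⟨r, hr, b₃, hb₃⟩ := (Algebra.IsAlgebraic.isAlgebraic (R := R₀) b₂).exists_nonzero_dvd hb₂
    refine ⟨r, b₁ * b₃, hr, ?_⟩
    have hb₂0 : algebraMap B E b₂ ≠ 0 := fun h =>
      nonZeroDivisors.ne_zero hb₂ (hBE (h.trans (map_zero _).symm))
    rw [← hb, IsScalarTower.algebraMap_apply R₀ B E, hb₃, map_mul, map_mul, mul_div_assoc',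
      eq_div_iff hb₂0]
    ring
  obtain ⟨θ, hθdef⟩ : ∃ θ : E, θ = algebraMap B E β := ⟨_, rfl⟩
  rw [← hθdef] at hβ
  have hrc : algebraMap R₀ F (r * c) ≠ 0 := by
    intro h
    exact mul_ne_zero hr hc ((IsFractionRing.injective R₀ F) (h.trans (map_zero _).symm))
  have hθeq : θ = algebraMap F E (algebraMap R₀ F (r * c)) * θ₀ := by
    rw [hβ, ← IsScalarTower.algebraMap_apply, map_mul, mul_assoc]
  have hθint : IsIntegral F θ := Algebra.IsIntegral.isIntegral θ
  let P := scaleRoots P₂ r
  have hPm : P.Monic := (monic_scaleRoots_iff r).mpr hP₂m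
  have hProot : aeval θ P = 0 := by
    rw [hβ]
    exact scaleRoots_aeval_eq_zero hP₂root
  have hPdeg : P.natDegree = (minpoly F θ).natDegree := by
    rw [natDegree_scaleRoots, hP₂deg, hθeq, natDegree_minpoly_smul_eq hrc hθ₀]
  have hmin : P.map (algebraMap R₀ F) = minpoly F θ := map_eq_minpoly hθint hPm hProot hPdeg
  have hadj : F⟮θ⟯ = F⟮θ₀⟯ := by rw [hθeq]; exact adjoin_simple_smul_eq hrc θ₀
  have hθsep : IsSeparable F θ := by
    have h1 : θ₀ ∈ separableClosure F E := mem_separableClosure_iff.mpr hsep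
    have h2 : θ ∈ separableClosure F E := by
      rw [hθeq]
      exact mul_mem ((separableClosure F E).algebraMap_mem _) h1
    exact mem_separableClosure_iff.mp h2
  have haeval : ∀ G : R₀[X], aeval θ G = algebraMap B E (aeval β G) := by
    intro G
    rw [hθdef, aeval_algebraMap_apply]
  -- denominators
  have hden : ∀ x ∈ s, ∃ (v : R₀) (cx : R₀[X]), v ≠ 0 ∧
      algebraMap R₀ E v * (algebraMap B E x) ^ p ^ n = aeval θ cx := by
    intro x hx
    have h1 : (algebraMap B E x) ^ p ^ n ∈ F⟮θ⟯ := by
      rw [hadj]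
      exact hpow _ (Finset.mem_image_of_mem _ hx)
    exact exists_smul_eq_aeval hθint h1
  choose! v cx hv hvc using hden
  refine ⟨n, β, P, ∏ x ∈ s, v x, hPm, ?_, ?_, ?_, ?_, ?_⟩
  · apply hBE
    rw [← haeval, hProot, map_zero]
  · intro G hG
    apply dvd_of_aeval_eq_zero (F := F) (θ := θ) hPm hmin
    rw [haeval, hG, map_zero]
  · rw [hmin]
    exact hθsep
  · exact Finset.prod_ne_zero_iff.mpr hv
  · intro x hx
    refine ⟨C (∏ y ∈ s.erase x, v y) * cx x, ?_⟩
    apply hBE
    rw [map_mul, map_pow, ← IsScalarTower.algebraMap_apply, ← haeval, map_mul, aeval_C,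
      ← hvc x hx, ← Finset.mul_prod_erase s v hx, map_mul]
    ring

end Core

section Final

open Groth.Agent.Lib.H77GeomIrrHyper Groth.Agent.Lib.H77GeomIrrTensor MvPolynomial

variable {A B : Type u} [CommRing A] [IsDomain A] [CommRing B] [IsDomain B] [Algebra A B]
  [Algebra.FiniteType A B]

/-- the exponential characteristic gives a Frobenius exponent -/
lemma isFrobExp_of_expChar {R₀ : Type u} [CommRing R₀] [IsDomain R₀] [Algebra A R₀]
    (hinj : Function.Injective (algebraMap A R₀)) (n : ℕ) :
    IsFrobExp A ((ringExpChar (FractionRing R₀)) ^ n) := by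
  let F := FractionRing R₀
  obtain ⟨p, hp⟩ : ∃ p : ℕ, p = ringExpChar F := ⟨_, rfl⟩
  haveI hE : ExpChar F p := hp ▸ ringExpChar.expChar F
  rw [← hp]
  rcases hE with _ | ⟨hprime⟩
  · left
    simp
  · right
    refine ⟨p, n, hprime, ?_, rfl⟩
    have h0 : ((p : ℕ) : F) = 0 := CharP.cast_eq_zero F p
    have hAF : Function.Injective ((algebraMap R₀ F).comp (algebraMap A R₀)) :=
      (IsFractionRing.injective R₀ F).comp hinj
    apply hAF
    rw [map_natCast, map_zero]
    exact h0

/-- **Existence of hypersurface models.** -/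
theorem exists_hyperData (hinj : Function.Injective (algebraMap A B)) :
    Nonempty (HyperData A B) := by
  haveI : FaithfulSMul A B := (faithfulSMul_iff_algebraMap_injective A B).mpr hinj
  obtain ⟨s, hs⟩ := (Algebra.FiniteType.out : (⊤ : Subalgebra A B).FG)
  obtain ⟨d, t, ht, halg⟩ := exists_transcendenceBasis_fin (A := A) s hs
  let R₀ := MvPolynomial (Fin d) A
  let a : R₀ →ₐ[A] B := aeval t
  have ha_inj : Function.Injective a := ht
  letI algR₀B : Algebra R₀ B := a.toRingHom.toAlgebra
  haveI : IsScalarTower A R₀ B := IsScalarTower.of_algebraMap_eq (fun r => (a.commutes r).symm)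
  haveI : FaithfulSMul R₀ B := (faithfulSMul_iff_algebraMap_injective R₀ B).mpr ha_inj
  haveI : Algebra.IsAlgebraic R₀ B := by
    refine ⟨fun b => ?_⟩
    have h1 := halg b
    rw [Algebra.adjoin_range_eq_range_aeval] at h1
    exact IsAlgebraic.of_ringHom_of_comp_eq (f := a.rangeRestrict.toRingHom) (g := RingHom.id B)
      h1 a.rangeRestrict_surjective Function.injective_id rfl
  obtain ⟨n, β, P, V, hPm, hroot, hdvd, hsep, hV, hgen⟩ := exists_model (R₀ := R₀) (B := B) s
  have hAR₀ : Function.Injective (algebraMap A R₀) := MvPolynomial.C_injective (Fin d) A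
  have hq : IsFrobExp A ((ringExpChar (FractionRing R₀)) ^ n) := isFrobExp_of_expChar hAR₀ n
  have haev : ∀ G : Polynomial R₀, Polynomial.aeval β G =
      Polynomial.eval₂ (aeval t : MvPolynomial (Fin d) A →ₐ[A] B).toRingHom β G := fun G => rfl
  have hpow := forall_exists_pow_mul_eq_aeval (A := A) (R₀ := R₀) hq β V (s : Set B) hs hgen
  exact ⟨{ d := d
           t := t
           θ := β
           P := P
           q := (ringExpChar (FractionRing R₀)) ^ n
           v := V
           hq := hq
           monic := hPm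
           root := hroot
           dvd := hdvd
           sep := hsep
           hv := fun h => hV (ha_inj (h.trans (map_zero a).symm))
           pow := hpow }⟩

end Final

end Groth.Agent.Lib.H77GeomIrrField
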