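import Mathlib
import Groth.Agent.Lib.H77GeomIrrField
import Groth.Agent.Lib.H77GenFreeMain
import Groth.Agent.Lib.H77FibreExact

/-!
# Geometric irreducibility of the fibres of a finite type algebra near the generic point (helper77)

`exists_forall_irrRing`: let `A` be a domain and `B` an `A`-algebra of finite type such that
`Spec (L ⊗[A] B)` is irreducible for every field `L` containing `A`.  Then there is a nonzero
`g ∈ A` such that `Spec (L ⊗[A] B)` is irreducible for every field `L` over `A` in which `g ≠ 0`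
(EGA IV 9.7.7, Stacks 0559, ring form).
-/

set_option autoImplicit false
set_option linter.style.haveILetI false
universe u

open TensorProduct

namespace Groth.Agent.Lib.H77GeomIrrAlg

open Groth.Agent.Lib.H77IrrRing Groth.Agent.Lib.H77GenFree

variable {A B : Type u} [CommRing A] [IsDomain A] [CommRing B] [Algebra A B]
  [Algebra.FiniteType A B]

/-- the domain case -/
theorem exists_forall_irrRing_of_isDomain [IsDomain B]
    (hinj : Function.Injective (algebraMap A B))
    (hgen : IrrRing (AlgebraicClosure (FractionRing A) ⊗[A] B)) :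
    ∃ g : A, g ≠ 0 ∧ ∀ (L : Type u) [Field L] [Algebra A L], algebraMap A L g ≠ 0 →
      IrrRing (L ⊗[A] B) := by
  obtain ⟨H⟩ := Groth.Agent.Lib.H77GeomIrrField.exists_hyperData hinj
  exact Groth.Agent.Lib.H77GeomIrrHyper.exists_forall_irrRing_of_hyperData H hgen

/-- torsion elements are killed by powers of a single nonzero element -/
theorem exists_forall_pow_smul_eq_zero :
    ∃ f : A, f ≠ 0 ∧ ∀ y : B, (∃ r : A, r ≠ 0 ∧ r • y = 0) → ∃ k : ℕ, f ^ k • y = 0 := by
  obtain ⟨f, hf, s, hs⟩ := genFree_of_finiteType (R := A) B B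
  refine ⟨f, hf, fun y ⟨r, hr, hry⟩ => ?_⟩
  obtain ⟨k, hk⟩ := hs.span y
  rw [← Finsupp.range_linearCombination, LinearMap.mem_range] at hk
  obtain ⟨l, hl⟩ := hk
  refine ⟨k, ?_⟩
  have h1 : Finsupp.linearCombination A (fun x : s => (x : B)) (r • l) = 0 := by
    rw [map_smul, hl, smul_comm, hry, smul_zero]
  have h2 : r • l = 0 := hs.indep (r • l) ⟨0, by rw [pow_zero, one_smul, h1]⟩
  have h3 : l = 0 := (smul_eq_zero.mp h2).resolve_left hr
  rw [← hl, h3, map_zero]

/-- **Geometric irreducibility of fibres spreads out** (ring form). -/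
theorem exists_forall_irrRing
    (H : ∀ (L : Type u) [Field L] [Algebra A L], Function.Injective (algebraMap A L) →
      IrrRing (L ⊗[A] B)) :
    ∃ g : A, g ≠ 0 ∧ ∀ (L : Type u) [Field L] [Algebra A L], algebraMap A L g ≠ 0 →
      IrrRing (L ⊗[A] B) := by
  let K := FractionRing A
  have hK : IrrRing (K ⊗[A] B) := H K (IsFractionRing.injective A K)
  let incl : B →ₐ[A] K ⊗[A] B := Algebra.TensorProduct.includeRight
  let N' : Ideal B := (nilradical (K ⊗[A] B)).comap incl.toRingHom
  haveI hNprime : N'.IsPrime := by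
    haveI : (nilradical (K ⊗[A] B)).IsPrime := hK
    exact Ideal.comap_isPrime _ _
  let B' := B ⧸ N'
  let π : B →ₐ[A] B' := Ideal.Quotient.mkₐ A N'
  have hπ : Function.Surjective π := Ideal.Quotient.mkₐ_surjective A N'
  haveI : Algebra.FiniteType A B' := Algebra.FiniteType.of_surjective π hπ
  haveI : IsDomain B' := Ideal.Quotient.isDomain N'
  have hmemN : ∀ x : B, x ∈ N' ↔ IsNilpotent ((1 : K) ⊗ₜ[A] x) := by
    intro x
    change incl x ∈ nilradical (K ⊗[A] B) ↔ _
    rw [mem_nilradical]
    rfl
  have hinj' : Function.Injective (algebraMap A B') := by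
    rw [injective_iff_map_eq_zero]
    intro a ha
    by_contra ha0
    have h1 : algebraMap A B a ∈ N' := by
      have : Ideal.Quotient.mk N' (algebraMap A B a) = 0 := ha
      exact Ideal.Quotient.eq_zero_iff_mem.mp this
    rw [hmemN] at h1
    have h2 : (1 : K) ⊗ₜ[A] (algebraMap A B a) = algebraMap K (K ⊗[A] B) (algebraMap A K a) := by
      rw [Algebra.TensorProduct.algebraMap_apply, Algebra.algebraMap_self, RingHom.id_apply,
        Algebra.algebraMap_eq_smul_one, Algebra.algebraMap_eq_smul_one (A := K),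
        TensorProduct.smul_tmul]
    rw [h2] at h1
    have hunit : IsUnit (algebraMap A K a) :=
      isUnit_iff_ne_zero.2 (fun h => ha0 ((IsFractionRing.injective A K) (h.trans (map_zero _).symm)))
    have h3 : IsUnit (algebraMap K (K ⊗[A] B) (algebraMap A K a)) := hunit.map _
    haveI := hK.nontrivial
    exact h3.not_isNilpotent h1
  obtain ⟨f, hf, hftors⟩ := exists_forall_pow_smul_eq_zero (A := A) (B := B)
  -- comparison of the fibres of `B` and `B'`
  have hcmp : ∀ (L : Type u) [Field L] [Algebra A L], algebraMap A L f ≠ 0 →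
      (IrrRing (L ⊗[A] B) ↔ IrrRing (L ⊗[A] B')) := by
    intro L _ _ hfL
    refine irrRing_iff_of_pow_mem_range
      (Algebra.TensorProduct.map (AlgHom.id A L) π).toRingHom ?_ ?_
    · change RingHom.ker (Algebra.TensorProduct.map (AlgHom.id A L) π) ≤ _
      rw [Algebra.TensorProduct.lTensor_ker _ hπ, Ideal.map_le_iff_le_comap]
      intro x hx
      have hx' : x ∈ N' := by
        have : π x = 0 := hx
        exact Ideal.Quotient.eq_zero_iff_mem.mp this
      rw [hmemN] at hx'
      obtain ⟨m, hm⟩ := hx'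
      rw [Algebra.TensorProduct.tmul_pow, one_pow] at hm
      obtain ⟨r, hr, hrx⟩ :=
        Groth.Agent.Lib.H77FibreExact.exists_smul_eq_zero_of_one_tmul_eq_zero (x ^ m) hm
      obtain ⟨k, hk⟩ := hftors (x ^ m) ⟨r, hr, hrx⟩
      rw [Ideal.mem_comap, mem_nilradical]
      refine ⟨m, ?_⟩
      change ((1 : L) ⊗ₜ[A] x) ^ m = 0
      rw [Algebra.TensorProduct.tmul_pow, one_pow]
      have h1 : (algebraMap A L (f ^ k)) • ((1 : L) ⊗ₜ[A] (x ^ m)) = 0 := by
        rw [Groth.Agent.Lib.H77FibreExact.algebraMap_smul_one_tmul, hk, TensorProduct.tmul_zero]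
      have h2 : algebraMap A L (f ^ k) ≠ 0 := by rw [map_pow]; exact pow_ne_zero _ hfL
      exact (smul_eq_zero.mp h1).resolve_left h2
    · intro z
      obtain ⟨w, hw⟩ := Algebra.TensorProduct.map_surjective (AlgHom.id A L) π
        Function.surjective_id hπ z
      exact ⟨1, Nat.one_pos, w, by rw [pow_one]; exact hw⟩
  let Kbar := AlgebraicClosure K
  have hKbar : Function.Injective (algebraMap A Kbar) := by
    rw [IsScalarTower.algebraMap_eq A K Kbar]
    exact (algebraMap K Kbar).injective.comp (IsFractionRing.injective A K)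
  have hgen' : IrrRing (Kbar ⊗[A] B') :=
    (hcmp Kbar (fun h0 => hf (hKbar (h0.trans (map_zero _).symm)))).mp (H Kbar hKbar)
  obtain ⟨g', hg', hg'L⟩ := exists_forall_irrRing_of_isDomain hinj' hgen'
  refine ⟨g' * f, mul_ne_zero hg' hf, fun L _ _ hgL => ?_⟩
  rw [map_mul] at hgL
  exact (hcmp L (right_ne_zero_of_mul hgL)).mpr (hg'L L (left_ne_zero_of_mul hgL))

end Groth.Agent.Lib.H77GeomIrrAlg
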