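import Groth.Prelude.Def_EGA4Misc
import Groth.Agent.Lib.H77GeomIrrSch
import Groth.Agent.Lib.ConsLocusMorMain

/-!
# "Geometrically irreducible" is an ind-constructible property of algebraic schemes (helper77)

* `geomIrrProp`: the relation on composable pairs `X ⟶ Y ⟶ T` saying that `Y ⟶ T` is geometrically
  irreducible; `isFieldStableMor_geomIrrProp`, `isIndConsMor_geomIrrProp`.
-/

set_option autoImplicit false
set_option linter.style.haveILetI false
universe u
open CategoryTheory Limits AlgebraicGeometry Topology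

namespace Groth.Agent.Lib.H77GeomIrrCons

open Groth.Agent.Lib.H77GeomIrrSch

/-- `Y ⟶ T` is geometrically irreducible. -/
def geomIrrProp : ∀ ⦃X Y T : Scheme.{u}⦄, (X ⟶ Y) → (Y ⟶ T) → Prop :=
  fun _ _ _ _ g => GeometricallyIrreducible g

theorem geometricallyIrreducible_iff_geomIrrFiber_of_subsingleton {Y T : Scheme.{u}} (g : Y ⟶ T)
    [Subsingleton T] (t : T) : GeometricallyIrreducible g ↔ GIF g t := by
  rw [GeometricallyIrreducible.iff_geometricallyIrreducible_fiber]
  constructor
  · intro h
    exact h t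
  · intro h t'
    rw [Subsingleton.elim t' t]
    exact h

theorem mem_locusMor_geomIrrProp_iff {X Y S : Scheme.{u}} (f : X ⟶ Y) (g : Y ⟶ S) (s : S) :
    s ∈ ConsProp.locusMor geomIrrProp f g ↔ GIF g s := Iff.rfl

theorem isFieldStableMor_geomIrrProp : ConsProp.IsFieldStableMor geomIrrProp.{u} := by
  intro X X' Y Y' T T' f g f' g' eX eY h _ _ _ _ _ _ _ _ hY _
  change GeometricallyIrreducible g ↔ GeometricallyIrreducible g'
  obtain ⟨t'⟩ : Nonempty T' := inferInstance
  rw [geometricallyIrreducible_iff_geomIrrFiber_of_subsingleton g (h t'),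
    geometricallyIrreducible_iff_geomIrrFiber_of_subsingleton g' t']
  exact (geomIrrFiber_iff_of_isPullback g h g' eY hY t').symm

theorem isIndConsMor_geomIrrProp : ConsProp.IsIndConsMor geomIrrProp.{u} := by
  refine ⟨isFieldStableMor_geomIrrProp, ?_⟩
  intro X Y S f g _ _ _ _ _ _ hgen
  obtain ⟨V, hηV, hV⟩ := exists_opens_forall_geomIrrFiber g hgen
  exact ⟨genericPoint S, mem_interior.mpr ⟨V, fun s hs => hV s hs, V.isOpen, hηV⟩⟩

end Groth.Agent.Lib.H77GeomIrrCons
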