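import Groth.Agent.S9735
import Groth.Agent.Lib.H71GeomRedAt6
import Groth.Agent.Lib.GeomReducedProd
import Groth.Agent.Lib.GeomReducedFibres
import Groth.Agent.Lib.H77FibreLocal

/-!
# Geometric reducedness of fibres: scheme/ring dictionary (helper77)

* `geometricallyReduced_SpecMap_iff`: `Spec B ⟶ Spec k` is geometrically reduced iff `B` is a
  geometrically reduced `k`-algebra.
* `geomRedFiber_spec_iff`: the fibre of `Spec A ⟶ Spec R` at `y` is geometrically reduced iff
  `κ(y) ⊗ A` is geometrically reduced over `κ(y)`.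
* `geometricallyReduced_of_openCover`, `geomRedFiber_iff_of_openCover`: locality on the source.
* `geomRedFiber_iff_of_isPullback`: invariance under base change (helper4's S9735).
* `isGeometricallyReduced_of_algHom`: `K₁ ⊗ A` geometrically reduced over `K₁` implies the same for
  `K₂ ⊗ A` over `K₂` when `K₁ → K₂` is a morphism of fields over `R`.
-/

set_option autoImplicit false
set_option linter.style.haveILetI false
universe u
open CategoryTheory Limits AlgebraicGeometry TensorProduct

namespace Groth.Agent.Lib.H77GeomRedSch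

/-- The fibre of `f` at `y` is geometrically reduced. -/
abbrev GRF {X Y : Scheme.{u}} (f : X ⟶ Y) (y : Y) : Prop :=
  GeometricallyReduced (f.fiberToSpecResidueField y)

theorem geometricallyReduced_SpecMap_iff (k B : Type u) [Field k] [CommRing B] [Algebra k B] :
    GeometricallyReduced (Spec.map (CommRingCat.ofHom (algebraMap k B))) ↔
      Algebra.IsGeometricallyReduced k B := by
  constructor
  · intro h
    rw [Algebra.isGeometricallyReduced_field_iff]
    let K := AlgebraicClosure k
    have h1 : IsReduced (pullback (Spec.map (CommRingCat.ofHom (algebraMap k B)))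
        (Spec.map (CommRingCat.ofHom (algebraMap k K)))) :=
      pullback_of_geometrically (GeometricallyReduced.geometrically_isReduced) K _
    have h2 : IsReduced (Spec (CommRingCat.of (B ⊗[k] K))) :=
      isReduced_of_isOpenImmersion (pullbackSpecIso k B K).inv
    have h3 : _root_.IsReduced (B ⊗[k] K) := (affine_isReduced_iff _).mp h2
    exact isReduced_of_injective (Algebra.TensorProduct.comm k K B).toRingHom
      (Algebra.TensorProduct.comm k K B).injective
  · intro h
    exact Groth.Agent.Lib.H71GeomRedAt.geometricallyReduced_SpecMap k B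

theorem geomRedFiber_spec_iff {R A : CommRingCat.{u}} (φ : R ⟶ A) (y : PrimeSpectrum R) :
    letI := φ.hom.toAlgebra
    GRF (Spec.map φ) y ↔
      Algebra.IsGeometricallyReduced y.asIdeal.ResidueField (y.asIdeal.Fiber A) := by
  letI := φ.hom.toAlgebra
  haveI : MorphismProperty.RespectsIso @GeometricallyReduced.{u} :=
    MorphismProperty.IsStableUnderBaseChange.respectsIso
  rw [← geometricallyReduced_SpecMap_iff]
  exact MorphismProperty.arrow_mk_iso_iff (P := @GeometricallyReduced)
    (Spec.fiberToSpecResidueFieldIso R A y)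

/-- Geometric reducedness is local on the source. -/
theorem geometricallyReduced_of_openCover {X Y : Scheme.{u}} (𝒰 : X.OpenCover) (f : X ⟶ Y)
    (h : ∀ i, GeometricallyReduced (𝒰.f i ≫ f)) : GeometricallyReduced f := by
  refine ⟨geometrically_iff_of_isClosedUnderIsomorphisms.mpr fun K _ y => ?_⟩
  let 𝒱 := Scheme.Pullback.openCoverOfLeft 𝒰 f y
  have : ∀ i, IsReduced (𝒱.X i) := fun i =>
    pullback_of_geometrically ((h i).geometrically_isReduced) K y
  exact IsReduced.of_openCover _ 𝒱

theorem geomRedFiber_iff_of_openCover {X Y : Scheme.{u}} (𝒰 : X.OpenCover) (f : X ⟶ Y) (y : Y) :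
    GRF f y ↔ ∀ i, GRF (𝒰.f i ≫ f) y := by
  constructor
  · intro h i
    haveI : GeometricallyReduced (f.fiberToSpecResidueField y) := h
    haveI : GeometricallyReduced (pullback.snd f (Y.fromSpecResidueField y)) := h
    change GeometricallyReduced (pullback.snd (𝒰.f i ≫ f) (Y.fromSpecResidueField y))
    rw [← pullbackRightPullbackFstIso_inv_snd_snd]
    haveI : IsOpenImmersion (𝒰.f i) := 𝒰.map_prop i
    haveI : GeometricallyReduced (pullback.snd (𝒰.f i)
        (pullback.fst f (Y.fromSpecResidueField y)) ≫
          pullback.snd f (Y.fromSpecResidueField y)) :=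
      Groth.Agent.Lib.GeomReducedProd.geometricallyReduced_comp_of_isOpenImmersion _ _
    exact Groth.Agent.Lib.GeomReducedProd.geometricallyReduced_comp_of_isOpenImmersion _ _
  · intro h
    let 𝒱 := Groth.Agent.Lib.H77FibreLocal.fiberOpenCover f 𝒰 y
    apply geometricallyReduced_of_openCover 𝒱
    intro i
    have e : 𝒱.f i ≫ f.fiberToSpecResidueField y = (𝒰.f i ≫ f).fiberToSpecResidueField y := by
      change pullback.map (𝒰.f i ≫ f) (Y.fromSpecResidueField y) f (Y.fromSpecResidueField y)
        (𝒰.f i) (𝟙 _) (𝟙 _) (by simp) (by simp) ≫ pullback.snd f (Y.fromSpecResidueField y) =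
          pullback.snd (𝒰.f i ≫ f) (Y.fromSpecResidueField y)
      exact (pullback.lift_snd _ _ _).trans (Category.comp_id _)
    rw [e]
    exact h i

theorem geomRedFiber_iff_of_isPullback {X Y X' Y' : Scheme.{u}} (f : X ⟶ Y) (g : Y' ⟶ Y)
    (f' : X' ⟶ Y') (g' : X' ⟶ X) (hc : IsPullback g' f' f g) (y' : Y') :
    GRF f' y' ↔ GRF f (g y') := by
  have := Groth.Agent.S9735.result f g f' g' hc
  exact Set.ext_iff.mp this y'

section Transfer

variable {R : Type u} [CommRing R] (K₁ K₂ : Type u) [Field K₁] [Field K₂] [Algebra R K₁]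
  [Algebra R K₂] (A : Type u) [CommRing A] [Algebra R A]

theorem isGeometricallyReduced_of_algHom (φ : K₁ →ₐ[R] K₂)
    [h : Algebra.IsGeometricallyReduced K₁ (K₁ ⊗[R] A)] :
    Algebra.IsGeometricallyReduced K₂ (K₂ ⊗[R] A) := by
  rw [Algebra.isGeometricallyReduced_field_iff]
  let L := AlgebraicClosure K₂
  letI : Algebra K₁ L := ((algebraMap K₂ L).comp φ.toRingHom).toAlgebra
  haveI : IsScalarTower R K₁ L := IsScalarTower.of_algebraMap_eq (fun r => by
    rw [RingHom.algebraMap_toAlgebra]
    change _ = algebraMap K₂ L (φ (algebraMap R K₁ r))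
    rw [φ.commutes, ← IsScalarTower.algebraMap_apply])
  have h1 : IsReduced (L ⊗[K₁] (K₁ ⊗[R] A)) :=
    Groth.Agent.Lib.GeomReducedFibres.isReduced_tensorProduct_of_isGeometricallyReduced
      K₁ (K₁ ⊗[R] A) L
  have h2 : IsReduced (L ⊗[R] A) :=
    isReduced_of_injective (Algebra.TensorProduct.cancelBaseChange R K₁ L L A).symm
      (Algebra.TensorProduct.cancelBaseChange R K₁ L L A).symm.injective
  exact isReduced_of_injective (Algebra.TensorProduct.cancelBaseChange R K₂ L L A)
    (Algebra.TensorProduct.cancelBaseChange R K₂ L L A).injective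

end Transfer

end Groth.Agent.Lib.H77GeomRedSch
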