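import Groth.Agent.Lib.H71GenericSmoothRing

/-!
# Geometrically reduced finite type algebras over a field: a smooth dense principal open (helper77)

`exists_nzd_smooth_away`: a geometrically reduced algebra `A` of finite type over a field `k`
contains a nonzerodivisor `h` such that `A[1/h]` is smooth over `k`.
-/

set_option autoImplicit false
set_option linter.style.haveILetI false
universe u
open TensorProduct

namespace Groth.Agent.Lib.H77GeomRedSmooth

theorem exists_nzd_smooth_away (k A : Type u) [Field k] [CommRing A] [Algebra k A]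
    [Algebra.FiniteType k A] [Algebra.IsGeometricallyReduced k A] :
    ∃ h : A, h ∈ nonZeroDivisors A ∧ Algebra.Smooth k (Localization.Away h) := by
  classical
  haveI : IsNoetherianRing A := Algebra.FiniteType.isNoetherianRing k A
  haveI : Algebra.FinitePresentation k A :=
    Algebra.FinitePresentation.of_finiteType.mp inferInstance
  haveI : IsReduced A := Algebra.isReduced_of_isGeometricallyReduced k
  have hmin : ∀ (p : Ideal A) [p.IsPrime], p ∈ minimalPrimes A →
      Algebra.IsGeometricallyReduced k (Localization.AtPrime p) := by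
    intro p _ _
    exact Groth.Agent.Lib.H71PowerSeriesGeomRed.isGeometricallyReduced_of_isLocalization k A
      (Localization.AtPrime p) p.primeCompl
  obtain ⟨U, hUd, hUs⟩ := (Groth.Agent.Lib.H71GenericSmoothRing.exists_dense_smooth_iff k A).mpr hmin
  -- the closed complement
  let Z : Set (PrimeSpectrum A) := (U : Set (PrimeSpectrum A))ᶜ
  have hZc : IsClosed Z := U.isOpen.isClosed_compl
  let J : Ideal A := PrimeSpectrum.vanishingIdeal Z
  have hJZ : PrimeSpectrum.zeroLocus (J : Set A) = Z := by
    rw [PrimeSpectrum.zeroLocus_vanishingIdeal_eq_closure, hZc.closure_eq]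
  -- minimal primes lie in `U`
  have hminU : ∀ p ∈ minimalPrimes A, ¬ J ≤ p := by
    intro p hp hJp
    haveI : p.IsPrime := hp.1.1
    have hmem : (⟨p, inferInstance⟩ : PrimeSpectrum A) ∈ (U : Set (PrimeSpectrum A)) := by
      apply Groth.Agent.Lib.H71GenericSmoothRing.mem_of_dense_of_maximal_point_top
        (U : Set (PrimeSpectrum A)) U.isOpen hUd
      intro y hy
      have hle : y ≤ ⟨p, inferInstance⟩ := (PrimeSpectrum.le_iff_specializes _ _).mpr hy
      have hle' : y.asIdeal ≤ p := hle
      have : p ≤ y.asIdeal := hp.2 ⟨y.isPrime, bot_le⟩ hle'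
      exact PrimeSpectrum.ext (le_antisymm hle' this)
    have : (⟨p, inferInstance⟩ : PrimeSpectrum A) ∈ Z := by
      rw [← hJZ, PrimeSpectrum.mem_zeroLocus]
      exact hJp
    exact this hmem
  -- prime avoidance
  have hfin : (minimalPrimes A).Finite := minimalPrimes.finite_of_isNoetherianRing A
  have hnot : ¬ ((J : Set A) ⊆ ⋃ p ∈ (↑hfin.toFinset : Set (Ideal A)), (p : Set A)) := by
    intro hsub
    obtain ⟨p, hp, hJp⟩ := (Ideal.subset_union_prime (s := hfin.toFinset) (f := fun p => p) ⊥ ⊥
      (fun p hp _ _ => ((hfin.mem_toFinset).mp hp).1.1)).mp hsub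
    exact hminU p ((hfin.mem_toFinset).mp hp) hJp
  rw [Set.not_subset] at hnot
  obtain ⟨h, hhJ, hh⟩ := hnot
  have hh' : ∀ p ∈ minimalPrimes A, h ∉ p := by
    intro p hp hhp
    apply hh
    simp only [Set.mem_iUnion]
    exact ⟨p, Finset.mem_coe.mpr ((hfin.mem_toFinset).mpr hp), hhp⟩
  refine ⟨h, ?_, ?_⟩
  · rw [mem_nonZeroDivisors_iff_right]
    intro x hx
    by_contra hx0
    have hxnil : ¬ IsNilpotent x := fun hn => hx0 (hn.eq_zero)
    have : x ∉ nilradical A := hxnil
    rw [nilradical_eq_sInf, Ideal.mem_sInf] at this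
    push Not at this
    obtain ⟨P, hP, hxP⟩ := this
    haveI : P.IsPrime := hP
    obtain ⟨p, hp, hpP⟩ := Ideal.exists_minimalPrimes_le (I := ⊥) (J := P) bot_le
    have hxp : x ∉ p := fun hh => hxP (hpP hh)
    haveI : p.IsPrime := hp.1.1
    have : x * h ∈ p := by rw [hx]; exact p.zero_mem
    rcases Ideal.IsPrime.mem_or_mem inferInstance this with h1 | h1
    · exact hxp h1
    · exact hh' p hp h1
  · rw [← Algebra.basicOpen_subset_smoothLocus_iff_smooth]
    intro P hP
    have hPU : P ∈ (U : Set (PrimeSpectrum A)) := by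
      by_contra hcon
      have : P ∈ Z := hcon
      rw [← hJZ, PrimeSpectrum.mem_zeroLocus] at this
      exact hP (this hhJ)
    exact hUs P hPU

end Groth.Agent.Lib.H77GeomRedSmooth
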