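import Mathlib
import Groth.Agent.Lib.H77GrGenFlat
import Groth.Agent.Lib.H77GenFP

/-!
Generic flatness of the graded pieces of `A₁ ⊗ M₀` for the `J₀`-adic filtration, where
`A₁ = (A₀ ⧸ q)_h` (algebraic core of EGA IV 11.3-type stratifications).
-/

namespace Groth.Agent.Lib.H77GrStrat

open Polynomial TensorProduct Groth.Agent.Lib.H77GenFree Groth.Agent.Lib.H77GrGenFlat

universe u

section Loc

variable {A₀ : Type*} [CommRing A₀] (q : Ideal A₀) (h : A₀)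
  (A₁ : Type*) [CommRing A₁] [Algebra A₀ A₁] [Algebra (A₀ ⧸ q) A₁] [IsScalarTower A₀ (A₀ ⧸ q) A₁]
  [IsLocalization.Away (Ideal.Quotient.mk q h) A₁]
  {X : Type*} [AddCommGroup X] [Module A₀ X]

include q h in
/-- Elements of `A₁ = (A₀ ⧸ q)_h` are fractions with numerators from `A₀`. -/
theorem exists_pow_mul_eq_algebraMap (a₁ : A₁) :
    ∃ (k : ℕ) (a : A₀), algebraMap A₀ A₁ h ^ k * a₁ = algebraMap A₀ A₁ a := by
  obtain ⟨⟨r, ⟨_, k, rfl⟩⟩, hr⟩ := IsLocalization.surj (Submonoid.powers (Ideal.Quotient.mk q h)) a₁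
  obtain ⟨a, rfl⟩ := Ideal.Quotient.mk_surjective r
  refine ⟨k, a, ?_⟩
  simp only at hr
  rw [mul_comm, IsScalarTower.algebraMap_apply A₀ (A₀ ⧸ q) A₁, IsScalarTower.algebraMap_apply A₀ (A₀ ⧸ q) A₁ a,
    ← map_pow]
  exact hr

include q in
theorem algebraMap_eq_zero_of_mem {a : A₀} (ha : a ∈ q) : algebraMap A₀ A₁ a = 0 := by
  rw [IsScalarTower.algebraMap_apply A₀ (A₀ ⧸ q) A₁, Ideal.Quotient.algebraMap_eq,
    Ideal.Quotient.eq_zero_iff_mem.mpr ha, map_zero]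

include q h in
/-- Every element of `A₁ ⊗ X` is, up to a power of `h`, of the form `1 ⊗ x`. -/
theorem exists_pow_smul_eq_one_tmul (s : A₁ ⊗[A₀] X) :
    ∃ (k : ℕ) (x : X), algebraMap A₀ A₁ h ^ k • s = (1 : A₁) ⊗ₜ[A₀] x := by
  induction s with
  | zero => exact ⟨0, 0, by simp⟩
  | tmul c m =>
    obtain ⟨k, a, hk⟩ := exists_pow_mul_eq_algebraMap q h A₁ c
    refine ⟨k, a • m, ?_⟩
    rw [TensorProduct.smul_tmul', smul_eq_mul, hk, ← TensorProduct.smul_tmul, Algebra.smul_def,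
      mul_one]
  | add s t hs ht =>
    obtain ⟨k₁, x₁, h₁⟩ := hs
    obtain ⟨k₂, x₂, h₂⟩ := ht
    refine ⟨k₁ + k₂, h ^ k₂ • x₁ + h ^ k₁ • x₂, ?_⟩
    have e1 : algebraMap A₀ A₁ h ^ (k₁ + k₂) • s = algebraMap A₀ A₁ h ^ k₂ • (1 : A₁) ⊗ₜ[A₀] x₁ := by
      rw [pow_add, mul_comm, mul_smul, h₁]
    have e2 : algebraMap A₀ A₁ h ^ (k₁ + k₂) • t = algebraMap A₀ A₁ h ^ k₁ • (1 : A₁) ⊗ₜ[A₀] x₂ := by
      rw [pow_add, mul_smul, h₂]
    rw [smul_add, e1, e2, TensorProduct.tmul_add, ← map_pow, ← map_pow]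
    congr 1
    · rw [TensorProduct.smul_tmul', smul_eq_mul, mul_one, ← TensorProduct.smul_tmul,
        Algebra.smul_def, mul_one]
    · rw [TensorProduct.smul_tmul', smul_eq_mul, mul_one, ← TensorProduct.smul_tmul,
        Algebra.smul_def, mul_one]

include q h in
/-- If `1 ⊗ z = 0` in `A₁ ⊗ X` then some power of `h` maps `z` into `q X`. -/
theorem exists_pow_smul_mem_of_one_tmul_eq_zero (z : X) (h0 : (1 : A₁) ⊗ₜ[A₀] z = 0) :
    ∃ k : ℕ, h ^ k • z ∈ q • (⊤ : Submodule A₀ X) := by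
  let N := X ⧸ (q • (⊤ : Submodule A₀ X))
  let ψ : A₁ ⊗[A₀] X →ₗ[A₀] A₁ ⊗[A₀ ⧸ q] N :=
    TensorProduct.lift (LinearMap.mk₂ A₀
      (fun c x => c ⊗ₜ[A₀ ⧸ q] (Submodule.mkQ (q • (⊤ : Submodule A₀ X)) x))
      (fun c₁ c₂ x => TensorProduct.add_tmul _ _ _)
      (fun r c x => by rw [TensorProduct.smul_tmul'])
      (fun c x₁ x₂ => by rw [map_add, TensorProduct.tmul_add])
      (fun r c x => by rw [map_smul, TensorProduct.tmul_smul]))
  have h1 : ψ ((1 : A₁) ⊗ₜ[A₀] z) =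
      TensorProduct.mk (A₀ ⧸ q) A₁ N 1 (Submodule.mkQ _ z) := rfl
  rw [h0, map_zero] at h1
  obtain ⟨⟨_, k, rfl⟩, hk⟩ := (IsLocalizedModule.eq_zero_iff
    (Submonoid.powers (Ideal.Quotient.mk q h)) (TensorProduct.mk (A₀ ⧸ q) A₁ N 1)).mp h1.symm
  refine ⟨k, ?_⟩
  have h2 : (Ideal.Quotient.mk q h) ^ k • (Submodule.mkQ (q • (⊤ : Submodule A₀ X)) z) = 0 := hk
  rw [← Submodule.Quotient.mk_eq_zero, Submodule.Quotient.mk_smul]
  rw [← map_pow] at h2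
  rw [← h2]
  exact (algebraMap_smul (A₀ ⧸ q) (h ^ k) (Submodule.mkQ (q • (⊤ : Submodule A₀ X)) z)).symm

end Loc

section Core

variable (A₀ : Type u) [CommRing A₀] (B₀ : Type u) [CommRing B₀] [Algebra A₀ B₀] (J₀ : Ideal B₀)
  (M₀ : Type u) [AddCommGroup M₀] [Module B₀ M₀] [Module A₀ M₀] [IsScalarTower A₀ B₀ M₀]
  (q : Ideal A₀)

/-- `q M₀` as a `B₀`-submodule. -/
def qSub : Submodule B₀ M₀ := (q.map (algebraMap A₀ B₀)) • (⊤ : Submodule B₀ M₀)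

theorem qSub_restrictScalars :
    (qSub A₀ B₀ M₀ q).restrictScalars A₀ = q • (⊤ : Submodule A₀ M₀) := by
  rw [qSub, Ideal.smul_restrictScalars, Submodule.restrictScalars_top]

variable {B₀}

/-- The filtration `n ↦ J₀ ^ (n + 1) M₀ + q M₀`. -/
def fil' : J₀.Filtration M₀ where
  N n := J₀ ^ (n + 1) • (⊤ : Submodule B₀ M₀) ⊔ qSub A₀ B₀ M₀ q
  mono n := by
    refine sup_le_sup_right ?_ _
    exact Submodule.smul_mono_left (Ideal.pow_le_pow_right (Nat.le_succ _))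
  smul_le n := by
    rw [Submodule.smul_sup]
    refine sup_le_sup ?_ Submodule.smul_le_right
    rw [← mul_smul, ← pow_succ']

/-- The `ℛ`-submodule of the Rees module given by `fil'`. -/
noncomputable def reesSub : Submodule (reesAlgebra J₀) ↥(reesMod J₀ M₀) :=
  Submodule.comap (reesMod J₀ M₀).subtype (fil' A₀ J₀ M₀ q).submodule

theorem mem_reesSub (m : ↥(reesMod J₀ M₀)) :
    m ∈ reesSub A₀ J₀ M₀ q ↔
      ∀ n, (m : PolynomialModule B₀ M₀).coeff n ∈ (fil' A₀ J₀ M₀ q).N n := by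
  rw [reesSub, Submodule.mem_comap, Ideal.Filtration.mem_submodule]
  rfl

/-- The graded module `⨁ Jⁿ M₀ / (Jⁿ⁺¹ M₀ + q M₀ ∩ Jⁿ M₀)`. -/
abbrev G₀ : Type u := ↥(reesMod J₀ M₀) ⧸ reesSub A₀ J₀ M₀ q

/-- `Jⁿ M₀` as an `A₀`-submodule. -/
abbrev P (n : ℕ) : Submodule A₀ M₀ := (J₀ ^ n • (⊤ : Submodule B₀ M₀)).restrictScalars A₀

/-- The kernel defining the pieces. -/
def K (n : ℕ) : Submodule A₀ ↥(P A₀ J₀ M₀ n) :=
  Submodule.comap (P A₀ J₀ M₀ n).subtype (((fil' A₀ J₀ M₀ q).N n).restrictScalars A₀)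

theorem mem_K (n : ℕ) (x : ↥(P A₀ J₀ M₀ n)) :
    x ∈ K A₀ J₀ M₀ q n ↔ (x : M₀) ∈ (fil' A₀ J₀ M₀ q).N n := Iff.rfl

/-- `A₀`-linear inclusion of `Jⁿ M₀` into the Rees module. -/
noncomputable def incl (n : ℕ) : ↥(P A₀ J₀ M₀ n) →ₗ[A₀] ↥(reesMod J₀ M₀) :=
  (pieceIncl J₀ M₀ n).restrictScalars A₀

/-- `A₀`-linear projection of the Rees module to `Jⁿ M₀`. -/
noncomputable def proj (n : ℕ) : ↥(reesMod J₀ M₀) →ₗ[A₀] ↥(P A₀ J₀ M₀ n) :=
  (pieceProj J₀ M₀ n).restrictScalars A₀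

theorem incl_coeff (n : ℕ) (x : ↥(P A₀ J₀ M₀ n)) (i : ℕ) :
    ((incl A₀ J₀ M₀ n x : ↥(reesMod J₀ M₀)) : PolynomialModule B₀ M₀).coeff i =
      if n = i then (x : M₀) else 0 := by
  change (PolynomialModule.single B₀ n (x : M₀)).coeff i = _
  rw [PolynomialModule.coeff_single, Finsupp.single_apply]

theorem proj_coe (n : ℕ) (m : ↥(reesMod J₀ M₀)) :
    ((proj A₀ J₀ M₀ n m : ↥(P A₀ J₀ M₀ n)) : M₀) = (m : PolynomialModule B₀ M₀).coeff n := rfl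

theorem proj_incl (n : ℕ) (x : ↥(P A₀ J₀ M₀ n)) : proj A₀ J₀ M₀ n (incl A₀ J₀ M₀ n x) = x :=
  pieceProj_pieceIncl J₀ M₀ n x

/-- The piece `Jⁿ M₀ / (Jⁿ⁺¹ M₀ + q M₀ ∩ Jⁿ M₀)`. -/
abbrev Q (n : ℕ) : Type u := ↥(P A₀ J₀ M₀ n) ⧸ K A₀ J₀ M₀ q n

/-- The inclusion of a piece into the graded module. -/
noncomputable def inclQ (n : ℕ) : Q A₀ J₀ M₀ q n →ₗ[A₀] G₀ A₀ J₀ M₀ q :=
  Submodule.liftQ _ ((reesSub A₀ J₀ M₀ q).mkQ.restrictScalars A₀ ∘ₗ incl A₀ J₀ M₀ n) (by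
    intro x hx
    rw [LinearMap.mem_ker, LinearMap.comp_apply, LinearMap.restrictScalars_apply,
      Submodule.mkQ_apply, Submodule.Quotient.mk_eq_zero, mem_reesSub]
    intro i
    rw [incl_coeff]
    split_ifs with h
    · subst h; exact hx
    · exact zero_mem _)

/-- The projection of the graded module onto a piece. -/
noncomputable def projQ (n : ℕ) : G₀ A₀ J₀ M₀ q →ₗ[A₀] Q A₀ J₀ M₀ q n :=
  (Submodule.liftQ ((reesSub A₀ J₀ M₀ q).restrictScalars A₀)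
    ((K A₀ J₀ M₀ q n).mkQ ∘ₗ proj A₀ J₀ M₀ n) (by
      intro m hm
      rw [LinearMap.mem_ker, LinearMap.comp_apply, Submodule.mkQ_apply,
        Submodule.Quotient.mk_eq_zero, mem_K, proj_coe]
      exact (mem_reesSub A₀ J₀ M₀ q m).mp hm n)) ∘ₗ
    (Submodule.Quotient.restrictScalarsEquiv A₀ (reesSub A₀ J₀ M₀ q)).symm.toLinearMap

theorem projQ_inclQ (n : ℕ) (x : Q A₀ J₀ M₀ q n) :
    projQ A₀ J₀ M₀ q n (inclQ A₀ J₀ M₀ q n x) = x := by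
  obtain ⟨x, rfl⟩ := Submodule.Quotient.mk_surjective _ x
  change (K A₀ J₀ M₀ q n).mkQ (proj A₀ J₀ M₀ n (incl A₀ J₀ M₀ n x)) = _
  rw [proj_incl]
  rfl

/-- Generic freeness of the graded module `G₀ ⧸ q G₀` over `A₀ ⧸ q`. -/
theorem genFree_G₀ [IsNoetherianRing B₀] [Algebra.FiniteType A₀ B₀] [Module.Finite B₀ M₀]
    [q.IsPrime] :
    GenFree (A₀ ⧸ q) (G₀ A₀ J₀ M₀ q ⧸ (q • (⊤ : Submodule A₀ (G₀ A₀ J₀ M₀ q)))) := by
  haveI : Algebra.FiniteType B₀ ↥(reesAlgebra J₀) :=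
    (Subalgebra.fg_iff_finiteType _).mp (reesAlgebra.fg (IsNoetherian.noetherian J₀))
  haveI : Algebra.FiniteType A₀ ↥(reesAlgebra J₀) := Algebra.FiniteType.trans (S := B₀) ‹_› ‹_›
  haveI : Module.Finite ↥(reesAlgebra J₀) ↥(reesMod J₀ M₀) := by
    rw [Module.Finite.iff_fg]
    rw [Ideal.Filtration.submodule_fg_iff_stable _ (fun i => IsNoetherian.noetherian _)]
    exact Ideal.stableFiltration_stable J₀ ⊤
  exact genFree_quotient_smul_top q ↥(reesAlgebra J₀) (G₀ A₀ J₀ M₀ q)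

section Tensor

variable (A₁ : Type u) [CommRing A₁] [Algebra A₀ A₁]

/-- The image of `A₁ ⊗ Jⁿ M₀` in `A₁ ⊗ M₀`. -/
abbrev T (n : ℕ) : Submodule A₁ (A₁ ⊗[A₀] M₀) :=
  LinearMap.range (LinearMap.baseChange A₁ (P A₀ J₀ M₀ n).subtype)

/-- The graded piece `Tₙ / Tₙ₊₁`, as the image of `Tₙ` in `(A₁ ⊗ M₀) ⧸ Tₙ₊₁`. -/
abbrev W (n : ℕ) : Submodule A₁ ((A₁ ⊗[A₀] M₀) ⧸ T A₀ J₀ M₀ A₁ (n + 1)) :=
  Submodule.map (T A₀ J₀ M₀ A₁ (n + 1)).mkQ (T A₀ J₀ M₀ A₁ n)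

theorem one_tmul_mem_T (n : ℕ) {x : M₀} (hx : x ∈ P A₀ J₀ M₀ n) :
    (1 : A₁) ⊗ₜ[A₀] x ∈ T A₀ J₀ M₀ A₁ n :=
  ⟨(1 : A₁) ⊗ₜ[A₀] (⟨x, hx⟩ : ↥(P A₀ J₀ M₀ n)), by simp⟩

/-- The natural map `Jⁿ M₀ → Tₙ / Tₙ₊₁`. -/
noncomputable def toW (n : ℕ) : ↥(P A₀ J₀ M₀ n) →ₗ[A₀] ↥(W A₀ J₀ M₀ A₁ n) where
  toFun x := ⟨(T A₀ J₀ M₀ A₁ (n + 1)).mkQ ((1 : A₁) ⊗ₜ[A₀] (x : M₀)),
    Submodule.mem_map_of_mem (one_tmul_mem_T A₀ J₀ M₀ A₁ n x.2)⟩
  map_add' x y := by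
    ext : 1
    simp [TensorProduct.tmul_add]
  map_smul' a x := by
    ext : 1
    simp [TensorProduct.tmul_smul]

theorem toW_coe (n : ℕ) (x : ↥(P A₀ J₀ M₀ n)) :
    ((toW A₀ J₀ M₀ A₁ n x : ↥(W A₀ J₀ M₀ A₁ n)) : (A₁ ⊗[A₀] M₀) ⧸ T A₀ J₀ M₀ A₁ (n + 1)) =
      (T A₀ J₀ M₀ A₁ (n + 1)).mkQ ((1 : A₁) ⊗ₜ[A₀] (x : M₀)) := rfl

theorem one_tmul_eq_zero_of_mem_smul_top [Algebra (A₀ ⧸ q) A₁] [IsScalarTower A₀ (A₀ ⧸ q) A₁]
    {z : M₀} (hz : z ∈ q • (⊤ : Submodule A₀ M₀)) : (1 : A₁) ⊗ₜ[A₀] z = 0 := by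
  refine Submodule.smul_induction_on hz (fun a ha m _ => ?_) (fun x y hx hy => ?_)
  · rw [TensorProduct.tmul_smul, TensorProduct.smul_tmul', Algebra.smul_def, mul_one,
      algebraMap_eq_zero_of_mem q A₁ ha, TensorProduct.zero_tmul]
  · rw [TensorProduct.tmul_add, hx, hy, add_zero]

theorem K_le_ker_toW [Algebra (A₀ ⧸ q) A₁] [IsScalarTower A₀ (A₀ ⧸ q) A₁] (n : ℕ) :
    K A₀ J₀ M₀ q n ≤ LinearMap.ker (toW A₀ J₀ M₀ A₁ n) := by
  intro x hx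
  rw [mem_K] at hx
  obtain ⟨y, hy, z, hz, hyz⟩ := Submodule.mem_sup.mp hx
  have hz' : z ∈ q • (⊤ : Submodule A₀ M₀) := by
    rw [← qSub_restrictScalars A₀ B₀ M₀ q]; exact hz
  rw [LinearMap.mem_ker]
  ext : 1
  rw [toW_coe, ← hyz, TensorProduct.tmul_add, one_tmul_eq_zero_of_mem_smul_top A₀ M₀ q A₁ hz',
    add_zero]
  simp only [Submodule.mkQ_apply, ZeroMemClass.coe_zero, Submodule.Quotient.mk_eq_zero]
  exact one_tmul_mem_T A₀ J₀ M₀ A₁ (n + 1) hy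

/-- The natural map from the piece to `Tₙ / Tₙ₊₁`. -/
noncomputable def toWQ [Algebra (A₀ ⧸ q) A₁] [IsScalarTower A₀ (A₀ ⧸ q) A₁] (n : ℕ) :
    Q A₀ J₀ M₀ q n →ₗ[A₀] ↥(W A₀ J₀ M₀ A₁ n) :=
  Submodule.liftQ _ (toW A₀ J₀ M₀ A₁ n) (K_le_ker_toW A₀ J₀ M₀ q A₁ n)

theorem smul_top_le_ker_toWQ [Algebra (A₀ ⧸ q) A₁] [IsScalarTower A₀ (A₀ ⧸ q) A₁] (n : ℕ) :
    q • (⊤ : Submodule A₀ (Q A₀ J₀ M₀ q n)) ≤ LinearMap.ker (toWQ A₀ J₀ M₀ q A₁ n) := by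
  rw [Submodule.smul_le]
  intro a ha x _
  rw [LinearMap.mem_ker, map_smul, ← algebraMap_smul A₁ a, algebraMap_eq_zero_of_mem q A₁ ha,
    zero_smul]

/-- The natural map from the piece modulo `q` to `Tₙ / Tₙ₊₁`. -/
noncomputable def toWQ' [Algebra (A₀ ⧸ q) A₁] [IsScalarTower A₀ (A₀ ⧸ q) A₁] (n : ℕ) :
    (Q A₀ J₀ M₀ q n ⧸ (q • (⊤ : Submodule A₀ (Q A₀ J₀ M₀ q n)))) →ₗ[A₀] ↥(W A₀ J₀ M₀ A₁ n) :=
  Submodule.liftQ _ (toWQ A₀ J₀ M₀ q A₁ n) (smul_top_le_ker_toWQ A₀ J₀ M₀ q A₁ n)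

theorem toWQ'_mk [Algebra (A₀ ⧸ q) A₁] [IsScalarTower A₀ (A₀ ⧸ q) A₁] (n : ℕ)
    (x : ↥(P A₀ J₀ M₀ n)) :
    toWQ' A₀ J₀ M₀ q A₁ n (Submodule.Quotient.mk (Submodule.Quotient.mk x)) =
      toW A₀ J₀ M₀ A₁ n x := rfl

end Tensor

/-- Flatness of `Tₙ / Tₙ₊₁` over `A₁ = (A₀ ⧸ q)_h` from a generic basis of the graded module. -/
theorem flat_W_of_isGenBasis (h : A₀) {ι : Type*}
    {b : ι → G₀ A₀ J₀ M₀ q ⧸ (q • (⊤ : Submodule A₀ (G₀ A₀ J₀ M₀ q)))}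
    (hb : IsGenBasis (A₀ ⧸ q) _ (Ideal.Quotient.mk q h) b)
    (A₁ : Type u) [CommRing A₁] [Algebra A₀ A₁] [Algebra (A₀ ⧸ q) A₁]
    [IsScalarTower A₀ (A₀ ⧸ q) A₁] [IsLocalization.Away (Ideal.Quotient.mk q h) A₁] (n : ℕ) :
    Module.Flat A₁ ↥(W A₀ J₀ M₀ A₁ n) := by
  have hunit : algebraMap (A₀ ⧸ q) A₁ (Ideal.Quotient.mk q h) = algebraMap A₀ A₁ h := by
    rw [IsScalarTower.algebraMap_apply A₀ (A₀ ⧸ q) A₁]; rfl
  refine flat_of_retract_isGenBasis hb (quotMap q (inclQ A₀ J₀ M₀ q n))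
    (quotMap q (projQ A₀ J₀ M₀ q n)) ?_ A₁ ↥(W A₀ J₀ M₀ A₁ n)
    (toWQ' A₀ J₀ M₀ q A₁ n).toAddMonoidHom ?_ ?_ ?_
  · intro x
    rw [quotMap_quotMap]
    have : projQ A₀ J₀ M₀ q n ∘ₗ inclQ A₀ J₀ M₀ q n = LinearMap.id :=
      LinearMap.ext fun y => projQ_inclQ A₀ J₀ M₀ q n y
    rw [this, quotMap_id]
  · intro a x
    obtain ⟨a, rfl⟩ := Ideal.Quotient.mk_surjective a
    change toWQ' A₀ J₀ M₀ q A₁ n (Ideal.Quotient.mk q a • x) = _ • toWQ' A₀ J₀ M₀ q A₁ n x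
    have h1 : Ideal.Quotient.mk q a • x = a • x := algebraMap_smul (A₀ ⧸ q) a x
    rw [h1, map_smul, ← algebraMap_smul A₁ a, IsScalarTower.algebraMap_apply A₀ (A₀ ⧸ q) A₁]
    rfl
  · rintro ⟨y, t, ⟨s, rfl⟩, rfl⟩
    obtain ⟨k, x, hk⟩ := exists_pow_smul_eq_one_tmul q h A₁ s
    refine ⟨k, Submodule.Quotient.mk (Submodule.Quotient.mk x), ?_⟩
    change _ = toWQ' A₀ J₀ M₀ q A₁ n (Submodule.Quotient.mk (Submodule.Quotient.mk x))
    rw [toWQ'_mk, hunit]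
    ext : 1
    rw [toW_coe]
    simp only [SetLike.val_smul]
    rw [← map_smul, ← map_smul, hk]
    simp
  · intro x hx
    obtain ⟨x, rfl⟩ := Submodule.Quotient.mk_surjective _ x
    obtain ⟨x, rfl⟩ := Submodule.Quotient.mk_surjective _ x
    change toWQ' A₀ J₀ M₀ q A₁ n (Submodule.Quotient.mk (Submodule.Quotient.mk x)) = 0 at hx
    rw [toWQ'_mk] at hx
    have h1 := congrArg Subtype.val hx
    rw [toW_coe] at h1
    simp only [Submodule.mkQ_apply, ZeroMemClass.coe_zero, Submodule.Quotient.mk_eq_zero] at h1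
    obtain ⟨s, hs⟩ := h1
    obtain ⟨k, y, hk⟩ := exists_pow_smul_eq_one_tmul q h A₁ s
    have h2 : (1 : A₁) ⊗ₜ[A₀] (h ^ k • (x : M₀) - (y : M₀)) = 0 := by
      rw [TensorProduct.tmul_sub, sub_eq_zero]
      have h3 := congrArg (LinearMap.baseChange A₁ (P A₀ J₀ M₀ (n + 1)).subtype) hk
      rw [map_smul, hs] at h3
      simp only [LinearMap.baseChange_tmul, Submodule.subtype_apply] at h3
      rw [← h3, ← map_pow, TensorProduct.tmul_smul, ← algebraMap_smul A₁ (h ^ k)]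
    obtain ⟨k', hk'⟩ := exists_pow_smul_mem_of_one_tmul_eq_zero q h A₁ _ h2
    refine ⟨k' + k, ?_⟩
    rw [← map_pow]
    have h4 : Ideal.Quotient.mk q (h ^ (k' + k)) •
        (Submodule.Quotient.mk (Submodule.Quotient.mk x) :
          Q A₀ J₀ M₀ q n ⧸ (q • (⊤ : Submodule A₀ (Q A₀ J₀ M₀ q n)))) =
        Submodule.Quotient.mk (Submodule.Quotient.mk (h ^ (k' + k) • x)) :=
      algebraMap_smul (A₀ ⧸ q) (h ^ (k' + k)) _
    rw [h4]
    have h5 : (Submodule.Quotient.mk (h ^ (k' + k) • x) : Q A₀ J₀ M₀ q n) = 0 := by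
      rw [Submodule.Quotient.mk_eq_zero, mem_K]
      have h6 : ((h ^ (k' + k) • x : ↥(P A₀ J₀ M₀ n)) : M₀) =
          h ^ k' • (y : M₀) + h ^ k' • (h ^ k • (x : M₀) - (y : M₀)) := by
        rw [smul_sub, add_sub_cancel, pow_add, mul_smul]
        rfl
      rw [h6]
      refine Submodule.add_mem_sup ?_ ?_
      · exact (P A₀ J₀ M₀ (n + 1)).smul_mem (h ^ k') y.2
      · have h7 := hk'
        rw [← qSub_restrictScalars A₀ B₀ M₀ q] at h7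
        exact h7
    rw [h5]
    rfl


/-- **Generic flatness of the graded pieces** of `A₁ ⊗ M₀`, `A₁ = (A₀ ⧸ q)_{fg}`. -/
theorem exists_forall_flat_W [IsNoetherianRing A₀] [Algebra.FiniteType A₀ B₀]
    [Module.Finite B₀ M₀] [q.IsPrime] :
    ∃ f : A₀, f ∉ q ∧ ∀ g : A₀, g ∉ q → ∀ (A₁ : Type u) [CommRing A₁] [Algebra A₀ A₁]
      [Algebra (A₀ ⧸ q) A₁] [IsScalarTower A₀ (A₀ ⧸ q) A₁]
      [IsLocalization.Away (Ideal.Quotient.mk q (f * g)) A₁] (n : ℕ),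
      Module.Flat A₁ ↥(W A₀ J₀ M₀ A₁ n) := by
  haveI : IsNoetherianRing B₀ := Algebra.FiniteType.isNoetherianRing A₀ B₀
  obtain ⟨f', hf', s, hs⟩ := genFree_G₀ A₀ J₀ M₀ q
  obtain ⟨f, rfl⟩ := Ideal.Quotient.mk_surjective f'
  refine ⟨f, fun hf => hf' (Ideal.Quotient.eq_zero_iff_mem.mpr hf), ?_⟩
  intro g hg A₁ _ _ _ _ _ n
  have hg' : Ideal.Quotient.mk q g ≠ 0 := fun h0 => hg (Ideal.Quotient.eq_zero_iff_mem.mp h0)
  have hb := hs.mul_right hg'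
  rw [← map_mul] at hb
  exact flat_W_of_isGenBasis A₀ J₀ M₀ q (f * g) hb A₁ n

end Core

open AlgebraicGeometry CategoryTheory

section Aux
variable {A₀ : Type u} [CommRing A₀]

/-- The ring of a stratum `V(q) ∩ D(h)`. -/
abbrev Str (x : Ideal A₀ × A₀) : Type u := Localization.Away (Ideal.Quotient.mk x.1 x.2)

/-- The underlying set of a stratum. -/
def rng (x : Ideal A₀ × A₀) : Set (PrimeSpectrum A₀) :=
  PrimeSpectrum.zeroLocus (x.1 : Set A₀) ∩ (PrimeSpectrum.basicOpen x.2 : Set (PrimeSpectrum A₀))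

theorem range_specMap (x : Ideal A₀ × A₀) :
    Set.range (Spec.map (CommRingCat.ofHom (algebraMap A₀ (Str x)))) = rng x := by
  have h1 : (algebraMap A₀ (Str x)) =
      (algebraMap (A₀ ⧸ x.1) (Str x)).comp (Ideal.Quotient.mk x.1) :=
    IsScalarTower.algebraMap_eq A₀ (A₀ ⧸ x.1) (Str x)
  change Set.range (PrimeSpectrum.comap (algebraMap A₀ (Str x))) = _
  have h2 : Set.range (PrimeSpectrum.comap (algebraMap (A₀ ⧸ x.1) (Str x))) =
      PrimeSpectrum.basicOpen (Ideal.Quotient.mk x.1 x.2) :=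
    PrimeSpectrum.localization_away_comap_range (Str x) (Ideal.Quotient.mk x.1 x.2)
  have h3 : Set.range (PrimeSpectrum.comap (Ideal.Quotient.mk x.1)) =
      PrimeSpectrum.zeroLocus (x.1 : Set A₀) := by
    rw [range_comap_of_surjective _ _ Ideal.Quotient.mk_surjective, Ideal.mk_ker]
  ext P
  constructor
  · rintro ⟨P₁, rfl⟩
    rw [h1, PrimeSpectrum.comap_comp_apply]
    have h4 : PrimeSpectrum.comap (algebraMap (A₀ ⧸ x.1) (Str x)) P₁ ∈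
        (PrimeSpectrum.basicOpen (Ideal.Quotient.mk x.1 x.2) : Set _) := by
      rw [← h2]; exact ⟨P₁, rfl⟩
    refine ⟨?_, ?_⟩
    · rw [← h3]; exact ⟨_, rfl⟩
    · exact h4
  · rintro ⟨hP1, hP2⟩
    rw [← h3] at hP1
    obtain ⟨P', rfl⟩ := hP1
    have h4 : P' ∈ (PrimeSpectrum.basicOpen (Ideal.Quotient.mk x.1 x.2) : Set _) := hP2
    rw [← h2] at h4
    obtain ⟨P₁, rfl⟩ := h4
    exact ⟨P₁, by rw [h1, PrimeSpectrum.comap_comp_apply]⟩

theorem isImmersion_specMap (x : Ideal A₀ × A₀) :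
    IsImmersion (Spec.map (CommRingCat.ofHom (algebraMap A₀ (Str x)))) := by
  have h1 : CommRingCat.ofHom (algebraMap A₀ (Str x)) =
      CommRingCat.ofHom (Ideal.Quotient.mk x.1) ≫
        CommRingCat.ofHom (algebraMap (A₀ ⧸ x.1) (Str x)) := by
    ext a
    exact IsScalarTower.algebraMap_apply A₀ (A₀ ⧸ x.1) (Str x) a
  rw [h1, Spec.map_comp]
  haveI : IsClosedImmersion (Spec.map (CommRingCat.ofHom (Ideal.Quotient.mk x.1))) :=
    IsClosedImmersion.spec_of_surjective _ Ideal.Quotient.mk_surjective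
  haveI : IsOpenImmersion (Spec.map (CommRingCat.ofHom (algebraMap (A₀ ⧸ x.1) (Str x)))) :=
    IsOpenImmersion.of_isLocalization (Ideal.Quotient.mk x.1 x.2)
  infer_instance

end Aux

section Strat

variable {A₀ : Type u} [CommRing A₀] [IsNoetherianRing A₀]
    {B₀ : Type u} [CommRing B₀] [Algebra A₀ B₀] [Algebra.FiniteType A₀ B₀] (J₀ : Ideal B₀)
    (M₀ : Type u) [AddCommGroup M₀] [Module B₀ M₀] [Module A₀ M₀] [IsScalarTower A₀ B₀ M₀]
    [Module.Finite B₀ M₀]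

/-- The invariant of the Noetherian induction. -/
def Inv (I : Ideal A₀) (L : List (Ideal A₀ × A₀)) : Prop :=
  (∀ x ∈ L, ∀ n, Module.Flat (Str x) ↥(W A₀ J₀ M₀ (Str x) n)) ∧
  L.Pairwise (fun x y => Disjoint (rng x) (rng y)) ∧
  (⋃ x ∈ L, rng x) = PrimeSpectrum.zeroLocus (I : Set A₀) ∧
  ∀ (L₁ : List (Ideal A₀ × A₀)) (y : Ideal A₀ × A₀) (L₂ : List (Ideal A₀ × A₀)),
    L = L₁ ++ y :: L₂ → ∃ U : Set (PrimeSpectrum A₀), IsOpen U ∧
      U ∩ (rng y ∪ ⋃ z ∈ L₂, rng z) = rng y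

theorem exists_inv (I : Ideal A₀) : ∃ L, Inv J₀ M₀ I L := by
  refine IsNoetherian.induction (P := fun I : Submodule A₀ A₀ => ∃ L, Inv J₀ M₀ I L) ?_ I
  intro (I : Ideal A₀) ih
  by_cases hI : I = ⊤
  · subst hI
    refine ⟨[], ?_, List.Pairwise.nil, ?_, ?_⟩
    · intro x hx; simp at hx
    · simp
    · intro L₁ y L₂ h
      simp at h
  · -- a minimal prime over I
    obtain ⟨m, hm, hIm⟩ := Ideal.exists_le_maximal I hI
    obtain ⟨q, hq, -⟩ := Ideal.exists_minimalPrimes_le hIm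
    haveI : q.IsPrime := hq.1.1
    have hIq : I ≤ q := hq.1.2
    have hfin : (I.minimalPrimes).Finite := Ideal.finite_minimalPrimes_of_isNoetherianRing A₀ I
    -- g in all other minimal primes, not in q
    obtain ⟨g, hg, hgq⟩ : ∃ g : A₀, (∀ q' ∈ I.minimalPrimes, q' ≠ q → g ∈ q') ∧ g ∉ q := by
      classical
      let s := hfin.toFinset.erase q
      have h1 : ¬ (s.inf id ≤ q) := by
        intro h
        obtain ⟨q', hq's, hq'q⟩ := (Ideal.IsPrime.inf_le' ‹q.IsPrime›).mp h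
        rw [Finset.mem_erase, Set.Finite.mem_toFinset] at hq's
        exact hq's.1 (le_antisymm hq'q (hq.2 hq's.2.1 hq'q))
      obtain ⟨g, hg, hgq⟩ := SetLike.not_le_iff_exists.mp h1
      refine ⟨g, fun q' hq' hne => ?_, hgq⟩
      have := (Submodule.mem_finsetInf.mp hg) q' (by
        rw [Finset.mem_erase, Set.Finite.mem_toFinset]; exact ⟨hne, hq'⟩)
      exact this
    obtain ⟨f, hf, hflat⟩ := exists_forall_flat_W A₀ J₀ M₀ q
    have hh : f * g ∉ q := fun h => (‹q.IsPrime›.mem_or_mem h).elim hf hgq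
    set h := f * g with hdef
    -- the key set equality
    have hkey : PrimeSpectrum.zeroLocus (I : Set A₀) ∩ (PrimeSpectrum.basicOpen h : Set _) =
        rng (q, h) := by
      ext Pt
      simp only [rng, Set.mem_inter_iff, PrimeSpectrum.mem_zeroLocus, SetLike.coe_subset_coe,
        SetLike.mem_coe, PrimeSpectrum.mem_basicOpen]
      constructor
      · rintro ⟨h1, h2⟩
        refine ⟨?_, h2⟩
        obtain ⟨q', hq', hq'P⟩ := Ideal.exists_minimalPrimes_le h1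
        by_cases hne : q' = q
        · rw [← hne]; exact hq'P
        · exfalso
          apply h2
          rw [hdef]
          exact Ideal.mul_mem_left _ _ (hq'P (hg q' hq' hne))
      · rintro ⟨h1, h2⟩
        exact ⟨hIq.trans h1, h2⟩
    have hlt : I < I ⊔ Ideal.span {h} := by
      refine lt_of_le_of_ne le_sup_left fun heq => hh (hIq ?_)
      rw [heq]
      exact Ideal.mem_sup_right (Ideal.subset_span rfl)
    obtain ⟨L', hL'1, hL'2, hL'3, hL'4⟩ := ih _ hlt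
    have hz : PrimeSpectrum.zeroLocus ((I ⊔ Ideal.span {h} : Ideal A₀) : Set A₀) =
        PrimeSpectrum.zeroLocus (I : Set A₀) ∩ (PrimeSpectrum.basicOpen h : Set _)ᶜ := by
      rw [PrimeSpectrum.zeroLocus_sup, PrimeSpectrum.zeroLocus_span,
        PrimeSpectrum.basicOpen_eq_zeroLocus_compl, compl_compl]
    refine ⟨(q, h) :: L', ?_, ?_, ?_, ?_⟩
    · intro x hx n
      rcases List.mem_cons.mp hx with rfl | hx
      · exact hflat g hgq (Str (q, h)) n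
      · exact hL'1 x hx n
    · refine List.Pairwise.cons ?_ hL'2
      intro y hy
      have h1 : rng y ⊆ (PrimeSpectrum.basicOpen h : Set _)ᶜ := by
        have : rng y ⊆ ⋃ x ∈ L', rng x := Set.subset_biUnion_of_mem (u := rng) hy
        rw [hL'3, hz] at this
        exact this.trans Set.inter_subset_right
      have h2 : rng (q, h) ⊆ (PrimeSpectrum.basicOpen h : Set _) := Set.inter_subset_right
      exact Set.disjoint_of_subset h2 h1 disjoint_compl_right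
    · have h1 : (⋃ x ∈ (q, h) :: L', rng x) = rng (q, h) ∪ ⋃ x ∈ L', rng x := by
        ext Pt
        simp only [List.mem_cons, Set.mem_iUnion, Set.mem_union, exists_prop]
        constructor
        · rintro ⟨x, rfl | hx, hPt⟩
          · exact Or.inl hPt
          · exact Or.inr ⟨x, hx, hPt⟩
        · rintro (hPt | ⟨x, hx, hPt⟩)
          · exact ⟨_, Or.inl rfl, hPt⟩
          · exact ⟨x, Or.inr hx, hPt⟩
      rw [h1, hL'3, hz, ← hkey]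
      ext Pt
      simp only [Set.mem_inter_iff, Set.mem_union, Set.mem_compl_iff]
      tauto
    · intro L₁ y L₂ hL
      rcases L₁ with _ | ⟨x₁, L₁⟩
      · simp only [List.nil_append, List.cons.injEq] at hL
        obtain ⟨rfl, rfl⟩ := hL
        refine ⟨PrimeSpectrum.basicOpen h, (PrimeSpectrum.basicOpen h).isOpen, ?_⟩
        rw [hL'3, hz, ← hkey]
        ext Pt
        simp only [Set.mem_inter_iff, Set.mem_union, Set.mem_compl_iff]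
        tauto
      · simp only [List.cons_append, List.cons.injEq] at hL
        exact hL'4 L₁ y L₂ hL.2

theorem iUnion_ge_eq (L : List (Ideal A₀ × A₀)) (i : Fin L.length) :
    (⋃ j : Fin L.length, ⋃ (_ : i ≤ j), rng (L.get j)) =
      rng (L.get i) ∪ ⋃ z ∈ L.drop (i + 1), rng z := by
  ext Pt
  simp only [Set.mem_iUnion, Set.mem_union, exists_prop]
  constructor
  · rintro ⟨j, hij, hPt⟩
    rcases eq_or_lt_of_le hij with rfl | hlt
    · exact Or.inl hPt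
    · refine Or.inr ⟨L.get j, ?_, hPt⟩
      rw [List.mem_iff_getElem]
      have hlt' : (i : ℕ) < j := hlt
      refine ⟨(j : ℕ) - (i + 1), ?_, ?_⟩
      · rw [List.length_drop]; omega
      · rw [List.getElem_drop, List.get_eq_getElem]
        congr 1
        omega
  · rintro (hPt | ⟨z, hz, hPt⟩)
    · exact ⟨i, le_rfl, hPt⟩
    · rw [List.mem_iff_getElem] at hz
      obtain ⟨k, hk, rfl⟩ := hz
      rw [List.length_drop] at hk
      refine ⟨⟨i + 1 + k, by omega⟩, ?_, ?_⟩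
      · rw [Fin.le_def]; simp; omega
      · rw [List.getElem_drop] at hPt
        exact hPt

end Strat
end Groth.Agent.Lib.H77GrStrat
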