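import Mathlib

/-!
Counting irreducible components via disjoint open sets; irreducible components with generic points.
-/

namespace Groth.Agent.Lib.H77IrredCompCount

open Topology

/-- `n` pairwise disjoint nonempty open subsets force at least `n` irreducible components. -/
theorem le_encard_irreducibleComponents {W : Type*} [TopologicalSpace W] (n : ℕ)
    (U : Fin n → Set W) (hop : ∀ k, IsOpen (U k)) (hne : ∀ k, (U k).Nonempty)
    (hdisj : ∀ k l, k ≠ l → Disjoint (U k) (U l)) :
    (n : ℕ∞) ≤ (irreducibleComponents W).encard := by
  choose x hx using hne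
  let g : Fin n → Set W := fun k => irreducibleComponent (x k)
  have hg : Function.Injective g := by
    intro k l hkl
    by_contra hne'
    have hC : IsPreirreducible (irreducibleComponent (x k)) :=
      isIrreducible_irreducibleComponent.isPreirreducible
    have h1 : (irreducibleComponent (x k) ∩ U k).Nonempty := ⟨x k, mem_irreducibleComponent, hx k⟩
    have h2 : (irreducibleComponent (x k) ∩ U l).Nonempty :=
      ⟨x l, by change x l ∈ g k; rw [hkl]; exact mem_irreducibleComponent, hx l⟩
    obtain ⟨z, -, hzk, hzl⟩ := hC (U k) (U l) (hop k) (hop l) h1 h2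
    exact Set.disjoint_left.mp (hdisj k l hne') hzk hzl
  have h3 : Set.range g ⊆ irreducibleComponents W := by
    rintro _ ⟨k, rfl⟩
    exact irreducibleComponent_mem_irreducibleComponents (x k)
  calc (n : ℕ∞) = ENat.card (Fin n) := by simp
    _ ≤ (Set.range g).encard := hg.encard_range
    _ ≤ (irreducibleComponents W).encard := Set.encard_le_encard h3

/-- A quasi-sober space with exactly `n` irreducible components: the components are closed, cover,
and have generic points not lying in the other components. -/
theorem exists_components_genericPoints {W : Type*} [TopologicalSpace W] [QuasiSober W] (n : ℕ)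
    (h : (irreducibleComponents W).encard = n) :
    ∃ (Z : Fin n → Set W) (ξ : Fin n → W), (∀ k, IsClosed (Z k)) ∧ (⋃ k, Z k = Set.univ) ∧
      (∀ k, ξ k ∈ Z k) ∧ ∀ k l, k ≠ l → ξ k ∉ Z l := by
  have hfin : (irreducibleComponents W).Finite := Set.finite_of_encard_eq_coe h
  let _ : Fintype (irreducibleComponents W) := hfin.fintype
  have hcard : Fintype.card (irreducibleComponents W) = n := by
    have h1 := Set.encard_eq_coe_toFinset_card (irreducibleComponents W)
    rw [h, Set.toFinset_card] at h1
    exact_mod_cast h1.symm
  let e : irreducibleComponents W ≃ Fin n := Fintype.equivFinOfCardEq hcard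
  have hgen : ∀ k : Fin n, ∃ ξ : W, IsGenericPoint ξ (e.symm k : Set W) := fun k =>
    QuasiSober.sober (α := W) (S := ((e.symm k : irreducibleComponents W) : Set W)) (e.symm k).2.1
      (isClosed_of_mem_irreducibleComponents _ (e.symm k).2)
  choose ξ hξ using hgen
  refine ⟨fun k => (e.symm k : Set W), ξ,
    fun k => isClosed_of_mem_irreducibleComponents _ (e.symm k).2, ?_, fun k => ?_,
    fun k l hkl hmem => ?_⟩
  · rw [Set.eq_univ_iff_forall]
    intro x
    have hx : x ∈ ⋃₀ irreducibleComponents W := by
      rw [sUnion_irreducibleComponents]; exact Set.mem_univ x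
    obtain ⟨Z, hZ, hxZ⟩ := hx
    refine Set.mem_iUnion.mpr ⟨e ⟨Z, hZ⟩, ?_⟩
    simpa using hxZ
  · exact (hξ k).mem
  · have h1 : (e.symm k : Set W) ⊆ (e.symm l : Set W) := by
      rw [← (hξ k).def]
      exact (isClosed_of_mem_irreducibleComponents _ (e.symm l).2).closure_subset_iff.mpr
        (Set.singleton_subset_iff.mpr hmem)
    have h2 : (e.symm l : Set W) ⊆ (e.symm k : Set W) := (e.symm k).2.2 (e.symm l).2.1 h1
    have h3 : e.symm k = e.symm l := Subtype.ext (Set.Subset.antisymm h1 h2)
    exact hkl (e.symm.injective h3)

end Groth.Agent.Lib.H77IrredCompCount
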