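import Groth.Agent.Lib.H30FlatDim
import Groth.Agent.Lib.H30IrrFib
import Groth.Agent.Lib.H86RelDimZero

/-!
# Dimension count for morphisms of irreducible schemes of finite type over a field (helper77)

`k` a field, `g : X ⟶ Y` a `k`-morphism of irreducible schemes locally of finite type over `k`,
`ξ` the generic point of `X`.

* `td_generic_eq_add` : `dim X = td(g ξ) + trdeg κ(ξ)/κ(g ξ)`.
* `quasiFiniteAt_genericPoint_of_dominant` : if `g ξ` is the generic point of `Y` and
  `dim X = dim Y` then `g` is quasi-finite at `ξ`.
* `map_genericPoint_of_quasiFiniteAt` : if `g` is quasi-finite at `ξ` and `dim X = dim Y` then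
  `g ξ` is the generic point of `Y`.
-/

set_option autoImplicit false
set_option linter.unusedSectionVars false
universe u
open CategoryTheory AlgebraicGeometry

namespace Groth.Agent.Lib.H77IsogDim

open Groth.Agent.Lib.H30DimField Groth.Agent.Lib.H30DimRel Groth.Agent.Lib.H30FlatDim
  Groth.Agent.Lib.H30IrrFib

variable (k : Type u) [Field k] (X Y : Scheme.{u}) [X.Over (Spec (CommRingCat.of k))]
  [Y.Over (Spec (CommRingCat.of k))] [LocallyOfFiniteType (X ↘ (Spec (CommRingCat.of k)))]
  [LocallyOfFiniteType (Y ↘ (Spec (CommRingCat.of k)))]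
  [IrreducibleSpace X] [IrreducibleSpace Y]
  (g : X ⟶ Y) (hg : g ≫ (Y ↘ (Spec (CommRingCat.of k))) = X ↘ (Spec (CommRingCat.of k)))

/-- `td` of the generic point, as a natural number, is the dimension. -/
theorem td_genericPoint_eq (n : ℕ) (h : topologicalKrullDim X = n) :
    td k X (genericPoint X) = n := by
  rw [krullDim_eq_td k X] at h
  have h1 : (td k X (genericPoint X)).toNat = n := by exact_mod_cast h
  rw [← h1, Int.toNat_of_nonneg (td_nonneg k X _)]

include hg in
/-- If `g` maps the generic point to the generic point and `dim X = dim Y` then `g` is quasi-finite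
at the generic point. -/
theorem quasiFiniteAt_genericPoint_of_dominant (hgen : g (genericPoint X) = genericPoint Y)
    (hdim : topologicalKrullDim X = topologicalKrullDim Y) :
    haveI := lft_of_over k X Y g hg
    g.QuasiFiniteAt (genericPoint X) := by
  haveI := lft_of_over k X Y g hg
  have hadd := td_eq_add k X Y g hg (genericPoint X)
  rw [hgen] at hadd
  have hX := krullDim_eq_td k X
  have hY := krullDim_eq_td k Y
  rw [hX, hY] at hdim
  have h1 : (td k X (genericPoint X)).toNat = (td k Y (genericPoint Y)).toNat := by
    exact_mod_cast hdim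
  have h2 : td k X (genericPoint X) = td k Y (genericPoint Y) := by
    rw [← Int.toNat_of_nonneg (td_nonneg k X _), ← Int.toNat_of_nonneg (td_nonneg k Y _), h1]
  have hrt : rt g (genericPoint X) = 0 := by
    have : (rt g (genericPoint X) : ℤ) = 0 := by omega
    exact_mod_cast this
  rw [← Groth.Agent.Lib.H86RelDimZero.fibreDimAt_eq_zero_iff,
    fibreDimAt_of_maximal g (genericPoint X)
      (fun ξ hξ => (hξ.antisymm (genericPoint_specializes ξ)).eq), hrt]
  rfl

include hg in
/-- If `g` is quasi-finite at the generic point and `dim X = dim Y < ∞` then `g` maps the generic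
point to the generic point. -/
theorem map_genericPoint_of_quasiFiniteAt
    (hqf : haveI := lft_of_over k X Y g hg; g.QuasiFiniteAt (genericPoint X))
    (hdim : topologicalKrullDim X = topologicalKrullDim Y) :
    g (genericPoint X) = genericPoint Y := by
  haveI := lft_of_over k X Y g hg
  have hadd := td_eq_add k X Y g hg (genericPoint X)
  have hrt : rt g (genericPoint X) = 0 := by
    rw [← Groth.Agent.Lib.H86RelDimZero.fibreDimAt_eq_zero_iff,
      fibreDimAt_of_maximal g (genericPoint X)
        (fun ξ hξ => (hξ.antisymm (genericPoint_specializes ξ)).eq)] at hqf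
    exact_mod_cast hqf
  rw [hrt] at hadd
  have hX := krullDim_eq_td k X
  have hY := krullDim_eq_td k Y
  rw [hX, hY] at hdim
  have h1 : (td k X (genericPoint X)).toNat = (td k Y (genericPoint Y)).toNat := by
    exact_mod_cast hdim
  have h2 : td k X (genericPoint X) = td k Y (genericPoint Y) := by
    rw [← Int.toNat_of_nonneg (td_nonneg k X _), ← Int.toNat_of_nonneg (td_nonneg k Y _), h1]
  by_contra hne
  have hδ := isDimFun k Y
  have := (hδ (genericPoint Y) (g (genericPoint X)) (genericPoint_specializes _)
    (fun h => hne h.symm)).1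
  omega

end Groth.Agent.Lib.H77IsogDim
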