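import Groth.Agent.Lib.H77IsogDim
import Groth.Agent.Lib.H71HomLocus
import Groth.Agent.Lib.GrpTopId45

/-!
# Quasi-finiteness versus surjectivity for homomorphisms of group schemes (helper77)

* `lqf_of_quasiFiniteAt` : over a field, a homomorphism of group schemes which is quasi-finite at
  one point is locally quasi-finite (homogeneity, helper71's `lqf_locus`).
* `lqf_of_surjective_field`, `surjective_of_lqf_field` : over a field, for irreducible group schemes
  of the same dimension, a homomorphism is locally quasi-finite iff it is surjective (the source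
  proper and the target separated for `⇒`).
* `lqf_of_forall_fibre`, `surjective_of_forall_fibre` : fibrewise criteria over a base.
-/

set_option autoImplicit false
set_option linter.unusedSectionVars false
set_option linter.style.haveILetI false
universe u
open CategoryTheory CategoryTheory.Limits MonoidalCategory CartesianMonoidalCategory MonObj GrpObj
  AlgebraicGeometry

namespace Groth.Agent.Lib.H77IsogFib

section Field

variable {k : Type u} [Field k] {G H : Over (Spec (CommRingCat.of k))} [GrpObj G] [GrpObj H]
  (u : G ⟶ H) [IsMonHom u]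

/-- A connected group scheme over a field is irreducible (helper45), for a bundled `Over`. -/
theorem irreducibleSpace_of_connectedSpace (G : Over (Spec (CommRingCat.of k))) [GrpObj G]
    [ConnectedSpace G.left] : IrreducibleSpace G.left := by
  letI : GrpObj (Over.mk G.hom) := ‹GrpObj G›
  exact Groth.Agent.Lib.GrpTopId45.irreducibleSpace_of_connectedSpace G.hom

/-- Over a field, a homomorphism quasi-finite at one point is locally quasi-finite. -/
theorem lqf_of_quasiFiniteAt [LocallyOfFiniteType u.left] (x₀ : G.left)
    (hx₀ : u.left.QuasiFiniteAt x₀) : LocallyQuasiFinite u.left := by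
  have hloc := (Groth.Agent.Lib.H71HomLocus.lqf_locus (Spec (CommRingCat.of k)) G H u).2
  have hξ : x₀ ∈ {x : G.left | ∃ W : G.left.Opens, x ∈ W ∧
      LocallyQuasiFinite (W.ι ≫ u.left)} :=
    ⟨u.left.quasiFiniteLocus, hx₀, inferInstance⟩
  have hall : ∀ x : G.left, u.left.QuasiFiniteAt x := by
    intro x
    have hx : x ∈ {x : G.left | ∃ W : G.left.Opens, x ∈ W ∧
        LocallyQuasiFinite (W.ι ≫ u.left)} := by
      rw [hloc] at hξ ⊢
      rw [Set.mem_preimage] at hξ ⊢
      rwa [Subsingleton.elim (G.hom.base x) (G.hom.base x₀)]
    obtain ⟨W, hxW, hW⟩ := hx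
    have h1 : (W.ι ≫ u.left).QuasiFiniteAt ⟨x, hxW⟩ := (W.ι ≫ u.left).quasiFiniteAt _
    rw [Scheme.Hom.quasiFiniteAt_comp_iff_of_isOpenImmersion] at h1
    exact h1
  rw [← Scheme.Hom.quasiFiniteLocus_eq_top_iff]
  ext x
  exact ⟨fun _ => trivial, fun _ => hall x⟩

variable [LocallyOfFiniteType G.hom] [LocallyOfFiniteType H.hom]
  [IrreducibleSpace G.left] [IrreducibleSpace H.left]
  (hdim : topologicalKrullDim G.left = topologicalKrullDim H.left)

include hdim in
/-- Surjective homomorphisms of irreducible group schemes of the same dimension are locally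
quasi-finite. -/
theorem lqf_of_surjective_field [Surjective u.left] : LocallyQuasiFinite u.left := by
  letI : G.left.Over (Spec (CommRingCat.of k)) := ⟨G.hom⟩
  letI : H.left.Over (Spec (CommRingCat.of k)) := ⟨H.hom⟩
  have hlX : LocallyOfFiniteType (G.left ↘ (Spec (CommRingCat.of k))) :=
    inferInstanceAs (LocallyOfFiniteType G.hom)
  have hlY : LocallyOfFiniteType (H.left ↘ (Spec (CommRingCat.of k))) :=
    inferInstanceAs (LocallyOfFiniteType H.hom)
  have hg : u.left ≫ (H.left ↘ (Spec (CommRingCat.of k))) = G.left ↘ (Spec (CommRingCat.of k)) :=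
    Over.w u
  have hlft : LocallyOfFiniteType u.left :=
    Groth.Agent.Lib.H30FlatDim.lft_of_over k G.left H.left u.left hg
  have hgen : u.left (genericPoint G.left) = genericPoint H.left := by
    have h1 : IsGenericPoint (u.left (genericPoint G.left)) (closure (u.left '' ⊤)) :=
      (genericPoint_spec G.left).image u.left.continuous
    have h2 : closure (u.left '' ⊤) = ⊤ := by
      rw [Set.top_eq_univ, Set.image_univ, (inferInstance : Surjective u.left).surj.range_eq,
        closure_univ]
      rfl
    rw [h2] at h1
    exact ((genericPoint_spec H.left).eq h1).symm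
  have hqf : u.left.QuasiFiniteAt (genericPoint G.left) :=
    Groth.Agent.Lib.H77IsogDim.quasiFiniteAt_genericPoint_of_dominant k G.left H.left u.left hg
      hgen hdim
  exact lqf_of_quasiFiniteAt u _ hqf

include hdim in
/-- Locally quasi-finite homomorphisms from a proper irreducible group scheme to a separated
irreducible group scheme of the same dimension are surjective. -/
theorem surjective_of_lqf_field [IsProper G.hom] [IsSeparated H.hom] [LocallyQuasiFinite u.left] :
    Surjective u.left := by
  letI : G.left.Over (Spec (CommRingCat.of k)) := ⟨G.hom⟩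
  letI : H.left.Over (Spec (CommRingCat.of k)) := ⟨H.hom⟩
  have hlX : LocallyOfFiniteType (G.left ↘ (Spec (CommRingCat.of k))) :=
    inferInstanceAs (LocallyOfFiniteType G.hom)
  have hlY : LocallyOfFiniteType (H.left ↘ (Spec (CommRingCat.of k))) :=
    inferInstanceAs (LocallyOfFiniteType H.hom)
  have hg : u.left ≫ (H.left ↘ (Spec (CommRingCat.of k))) = G.left ↘ (Spec (CommRingCat.of k)) :=
    Over.w u
  have hlft : LocallyOfFiniteType u.left :=
    Groth.Agent.Lib.H30FlatDim.lft_of_over k G.left H.left u.left hg
  have hgen : u.left (genericPoint G.left) = genericPoint H.left :=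
    Groth.Agent.Lib.H77IsogDim.map_genericPoint_of_quasiFiniteAt k G.left H.left u.left hg
      (u.left.quasiFiniteAt _) hdim
  have hprop : IsProper u.left := by
    have : IsProper (u.left ≫ H.hom) := by rw [Over.w u]; infer_instance
    exact IsProper.of_comp u.left H.hom
  constructor
  intro y
  have hcl : IsClosed (Set.range u.left) := u.left.isClosedMap.isClosed_range
  have h1 : genericPoint H.left ∈ Set.range u.left := ⟨_, hgen⟩
  have h2 : y ∈ closure ({genericPoint H.left} : Set H.left) :=
    (genericPoint_specializes y).mem_closure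
  exact (hcl.closure_subset_iff.mpr (Set.singleton_subset_iff.mpr h1)) h2

end Field

section Relative

open Groth.Agent.Lib.H71HomLocus

variable {S : Scheme.{u}} {G H : Over S} [GrpObj G] [GrpObj H] (u : G ⟶ H) [IsMonHom u]

/-- A homomorphism all of whose fibres are locally quasi-finite is locally quasi-finite. -/
theorem lqf_of_forall_fibre [LocallyOfFiniteType u.left]
    (h : ∀ s : S, LocallyQuasiFinite (fibHom u s).left) : LocallyQuasiFinite u.left := by
  have hloc := (lqf_locus S G H u).2
  rw [← Scheme.Hom.quasiFiniteLocus_eq_top_iff]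
  ext x
  refine ⟨fun _ => trivial, fun _ => ?_⟩
  have hx : x ∈ {x : G.left | ∃ W : G.left.Opens, x ∈ W ∧
      LocallyQuasiFinite (W.ι ≫ u.left)} := by
    rw [hloc]
    exact h _
  obtain ⟨W, hxW, hW⟩ := hx
  have h1 : (W.ι ≫ u.left).QuasiFiniteAt ⟨x, hxW⟩ := (W.ι ≫ u.left).quasiFiniteAt _
  rw [Scheme.Hom.quasiFiniteAt_comp_iff_of_isOpenImmersion] at h1
  exact h1

/-- A morphism over `S` all of whose fibres are surjective is surjective. -/
theorem surjective_of_forall_fibre (h : ∀ s : S, Surjective (fibHom u s).left) :
    Surjective u.left := by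
  constructor
  intro y
  obtain ⟨p, hp⟩ := exists_point_over (G := H) y
  obtain ⟨q, hq⟩ := (h (H.hom.base y)).surj p
  refine ⟨(pullback.fst G.hom (S.fromSpecResidueField (H.hom.base y))).base q, ?_⟩
  have hsq := (isPullback_fibHom u (H.hom.base y)).w
  have : u.left.base ((pullback.fst G.hom (S.fromSpecResidueField (H.hom.base y))).base q) =
      (pullback.fst H.hom (S.fromSpecResidueField (H.hom.base y))).base
        ((fibHom u (H.hom.base y)).left.base q) := by
    rw [← Scheme.Hom.comp_apply, ← Scheme.Hom.comp_apply, hsq]
  rw [this, hq, hp]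

end Relative

end Groth.Agent.Lib.H77IsogFib
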