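import Mathlib
import Groth.Agent.Lib.H77GenImage

/-!
Closed points of constructible sets and of their images, for finite type maps of Jacobson rings
(Stacks 00GB-type statements).
-/

namespace Groth.Agent.Lib.H77JacobsonImage

open PrimeSpectrum

universe u

set_option linter.style.haveILetI false

/-- In a Jacobson ring, a prime `z` not containing `f` is contained in a maximal ideal not
containing `f`. -/
theorem exists_isMaximal_ge_notMem {S : Type*} [CommRing S] [IsJacobsonRing S]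
    (z : Ideal S) [hz : z.IsPrime] (f : S) (hf : f ∉ z) :
    ∃ m : Ideal S, m.IsMaximal ∧ z ≤ m ∧ f ∉ m := by
  have h1 : z.jacobson = z := IsJacobsonRing.out inferInstance hz.isRadical
  rw [← h1, Ideal.jacobson, Ideal.mem_sInf] at hf
  push Not at hf
  obtain ⟨m, ⟨hzm, hm⟩, hfm⟩ := hf
  exact ⟨m, hm, hzm, hfm⟩

/-- A point of a constructible subset of `Spec S`, `S` Jacobson, specializes to a closed point of
`Spec S` lying in the subset. -/
theorem exists_isMaximal_mem_of_isConstructible {S : Type*} [CommRing S] [IsJacobsonRing S]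
    (E : Set (PrimeSpectrum S)) (hE : Topology.IsConstructible E) (z : PrimeSpectrum S)
    (hz : z ∈ E) : ∃ m : PrimeSpectrum S, m ∈ E ∧ m.asIdeal.IsMaximal ∧ z.asIdeal ≤ m.asIdeal := by
  obtain ⟨D, rfl⟩ := PrimeSpectrum.exists_constructibleSetData_iff.mpr hE
  simp only [PrimeSpectrum.ConstructibleSetData.toSet, Set.mem_iUnion] at hz
  obtain ⟨C, hCD, hzC⟩ := hz
  have hfz : C.f ∉ z.asIdeal := fun h => hzC.2 (by
    simpa [PrimeSpectrum.mem_zeroLocus] using h)
  obtain ⟨m, hm, hzm, hfm⟩ := exists_isMaximal_ge_notMem z.asIdeal C.f hfz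
  refine ⟨⟨m, hm.isPrime⟩, ?_, hm, hzm⟩
  simp only [PrimeSpectrum.ConstructibleSetData.toSet, Set.mem_iUnion]
  refine ⟨C, hCD, ?_, fun h => hfm ?_⟩
  · rw [PrimeSpectrum.mem_zeroLocus]
    exact (hzC.1).trans hzm
  · simpa [PrimeSpectrum.mem_zeroLocus] using h

/-- A point of a constructible subset `E` of `Spec S`, `S` Jacobson, which is closed in `E` is a
closed point. -/
theorem isMaximal_of_closure_inter_eq {S : Type*} [CommRing S] [IsJacobsonRing S]
    (E : Set (PrimeSpectrum S)) (hE : Topology.IsConstructible E) (y : PrimeSpectrum S)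
    (hy : y ∈ E) (hcl : closure {y} ∩ E = {y}) : y.asIdeal.IsMaximal := by
  obtain ⟨m, hmE, hm, hym⟩ := exists_isMaximal_mem_of_isConstructible E hE y hy
  have h1 : m ∈ closure {y} ∩ E := by
    refine ⟨?_, hmE⟩
    rw [PrimeSpectrum.closure_singleton, PrimeSpectrum.mem_zeroLocus]
    exact hym
  rw [hcl, Set.mem_singleton_iff] at h1
  rwa [← h1]

/-- Maximal ideals contract to maximal ideals along finite type maps from a Jacobson ring. -/
theorem isMaximal_comap_of_finiteType {R S : Type*} [CommRing R] [CommRing S] [Algebra R S]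
    [IsJacobsonRing R] [Algebra.FiniteType R S] (Q : Ideal S) [hQ : Q.IsMaximal] :
    (Q.comap (algebraMap R S)).IsMaximal := by
  letI : Field (S ⧸ Q) := Ideal.Quotient.field Q
  haveI : Algebra.FiniteType R (S ⧸ Q) := inferInstance
  haveI : Module.Finite R (S ⧸ Q) := finite_of_finite_type_of_isJacobsonRing R (S ⧸ Q)
  have hker : RingHom.ker (algebraMap R (S ⧸ Q)) = Q.comap (algebraMap R S) := by
    ext r
    rw [RingHom.mem_ker, Ideal.mem_comap, IsScalarTower.algebraMap_apply R S (S ⧸ Q),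
      Ideal.Quotient.algebraMap_eq, Ideal.Quotient.eq_zero_iff_mem]
  rw [← hker]
  haveI : Algebra.IsIntegral R (S ⧸ Q) := inferInstance
  haveI : (⊥ : Ideal (S ⧸ Q)).IsMaximal := Ideal.bot_isMaximal
  have := Ideal.isMaximal_comap_of_isIntegral_of_isMaximal (R := R) (⊥ : Ideal (S ⧸ Q))
  rwa [← RingHom.ker_eq_comap_bot] at this


/-- One basic constructible piece: if `ξ` is not in its image, then the image avoids
`V(ξ) ∩ D(g)` for some `g ∉ ξ`. -/
theorem exists_notMem_forall_mem_basic {R S : Type*} [CommRing R] [CommRing S] [Algebra R S]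
    (C : PrimeSpectrum.BasicConstructibleSetData S) (ξ : PrimeSpectrum R)
    (hξ : ξ ∉ PrimeSpectrum.comap (algebraMap R S) '' C.toSet) :
    ∃ g : R, g ∉ ξ.asIdeal ∧ ∀ Q ∈ C.toSet,
      ξ.asIdeal ≤ (PrimeSpectrum.comap (algebraMap R S) Q).asIdeal →
        g ∈ (PrimeSpectrum.comap (algebraMap R S) Q).asIdeal := by
  classical
  let J : Ideal S := Ideal.span (Set.range C.g) ⊔ ξ.asIdeal.map (algebraMap R S)
  let M : Submonoid S := Submonoid.powers C.f ⊔ ξ.asIdeal.primeCompl.map (algebraMap R S)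
  by_cases hd : Disjoint (J : Set S) M
  · exfalso
    obtain ⟨Q, hQ, hJQ, hQM⟩ := Ideal.exists_le_prime_disjoint J M hd
    apply hξ
    refine ⟨⟨Q, hQ⟩, ⟨?_, ?_⟩, ?_⟩
    · rw [PrimeSpectrum.mem_zeroLocus, ← Ideal.span_le]
      exact le_sup_left.trans hJQ
    · intro h
      have h1 : C.f ∈ Q := by simpa [PrimeSpectrum.mem_zeroLocus] using h
      exact Set.disjoint_left.mp hQM h1
        (Submonoid.mem_sup_left (Submonoid.mem_powers C.f))
    · ext r
      constructor
      · intro hr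
        by_contra hrξ
        have h1 : algebraMap R S r ∈ M :=
          Submonoid.mem_sup_right (Submonoid.mem_map_of_mem _ hrξ)
        exact Set.disjoint_left.mp hQM hr h1
      · intro hr
        exact hJQ (le_sup_right (a := Ideal.span (Set.range C.g))
          (Ideal.mem_map_of_mem _ hr))
  · rw [Set.not_disjoint_iff] at hd
    obtain ⟨x, hxJ, hxM⟩ := hd
    obtain ⟨a, ha, b, hb, rfl⟩ := Submonoid.mem_sup.mp hxM
    obtain ⟨n, rfl⟩ := ha
    obtain ⟨g, hg, rfl⟩ := hb
    refine ⟨g, hg, fun Q hQ hξQ => ?_⟩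
    have hJQ : J ≤ Q.asIdeal := by
      refine sup_le ?_ ?_
      · rw [Ideal.span_le]
        exact hQ.1
      · rw [Ideal.map_le_iff_le_comap]
        exact hξQ
    have h1 := hJQ hxJ
    rcases Q.isPrime.mem_or_mem h1 with h2 | h2
    · exfalso
      apply hQ.2
      have := Q.isPrime.mem_of_pow_mem n h2
      simpa [PrimeSpectrum.mem_zeroLocus] using this
    · exact h2

/-- If `ξ` is not in the image of the constructible set `E`, then the image avoids `V(ξ) ∩ D(g)`
for some `g ∉ ξ`. -/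
theorem exists_notMem_forall_mem_of_notMem_image {R S : Type*} [CommRing R] [CommRing S]
    [Algebra R S] (E : Set (PrimeSpectrum S)) (hE : Topology.IsConstructible E)
    (ξ : PrimeSpectrum R) (hξ : ξ ∉ PrimeSpectrum.comap (algebraMap R S) '' E) :
    ∃ g : R, g ∉ ξ.asIdeal ∧ ∀ P ∈ PrimeSpectrum.comap (algebraMap R S) '' E,
      ξ.asIdeal ≤ P.asIdeal → g ∈ P.asIdeal := by
  classical
  obtain ⟨D, rfl⟩ := PrimeSpectrum.exists_constructibleSetData_iff.mpr hE
  have key : ∀ C ∈ D, ∃ g : R, g ∉ ξ.asIdeal ∧ ∀ Q ∈ C.toSet,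
      ξ.asIdeal ≤ (PrimeSpectrum.comap (algebraMap R S) Q).asIdeal →
        g ∈ (PrimeSpectrum.comap (algebraMap R S) Q).asIdeal := by
    intro C hC
    apply exists_notMem_forall_mem_basic C ξ
    rintro ⟨Q, hQ, rfl⟩
    apply hξ
    refine ⟨Q, ?_, rfl⟩
    simp only [PrimeSpectrum.ConstructibleSetData.toSet, Set.mem_iUnion]
    exact ⟨C, hC, hQ⟩
  choose! g hg1 hg2 using key
  refine ⟨∏ C ∈ D, g C, ?_, ?_⟩
  · rw [Ideal.IsPrime.prod_mem_iff]
    rintro ⟨C, hC, h⟩
    exact hg1 C hC h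
  · rintro P ⟨Q, hQ, rfl⟩ hξP
    simp only [PrimeSpectrum.ConstructibleSetData.toSet, Set.mem_iUnion] at hQ
    obtain ⟨C, hC, hQC⟩ := hQ
    rw [Ideal.IsPrime.prod_mem_iff]
    exact ⟨C, hC, hg2 C hC Q hQC hξP⟩

section Jacobson

variable {R S : Type u} [CommRing R] [CommRing S] [Algebra R S] [IsJacobsonRing R]
  [IsJacobsonRing S] [Algebra.FiniteType R S]

/-- Stacks 00GB (1): `f(E)₀ = f(E₀) = (Spec R)₀ ∩ f(E)`. -/
theorem closedPoints_image (E : Set (PrimeSpectrum S)) (hE : Topology.IsConstructible E) :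
    {x | x ∈ PrimeSpectrum.comap (algebraMap R S) '' E ∧
        closure {x} ∩ PrimeSpectrum.comap (algebraMap R S) '' E = {x}} =
        PrimeSpectrum.comap (algebraMap R S) '' {y | y ∈ E ∧ closure {y} ∩ E = {y}} ∧
      PrimeSpectrum.comap (algebraMap R S) '' {y | y ∈ E ∧ closure {y} ∩ E = {y}} =
        {x | IsClosed ({x} : Set (PrimeSpectrum R))} ∩
          PrimeSpectrum.comap (algebraMap R S) '' E := by
  -- `B ⊆ C`
  have hBC : PrimeSpectrum.comap (algebraMap R S) '' {y | y ∈ E ∧ closure {y} ∩ E = {y}} ⊆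
      {x | IsClosed ({x} : Set (PrimeSpectrum R))} ∩
        PrimeSpectrum.comap (algebraMap R S) '' E := by
    rintro _ ⟨y, ⟨hyE, hycl⟩, rfl⟩
    refine ⟨?_, y, hyE, rfl⟩
    have hmax : y.asIdeal.IsMaximal := isMaximal_of_closure_inter_eq E hE y hyE hycl
    rw [Set.mem_ofPred_eq, PrimeSpectrum.isClosed_singleton_iff_isMaximal]
    exact isMaximal_comap_of_finiteType (R := R) y.asIdeal
  -- `C ⊆ A`
  have hCA : {x | IsClosed ({x} : Set (PrimeSpectrum R))} ∩
        PrimeSpectrum.comap (algebraMap R S) '' E ⊆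
      {x | x ∈ PrimeSpectrum.comap (algebraMap R S) '' E ∧
        closure {x} ∩ PrimeSpectrum.comap (algebraMap R S) '' E = {x}} := by
    rintro x ⟨hxcl, hxE⟩
    refine ⟨hxE, ?_⟩
    rw [IsClosed.closure_eq hxcl]
    exact Set.inter_eq_left.mpr (Set.singleton_subset_iff.mpr hxE)
  -- `A ⊆ B`
  have hAB : {x | x ∈ PrimeSpectrum.comap (algebraMap R S) '' E ∧
        closure {x} ∩ PrimeSpectrum.comap (algebraMap R S) '' E = {x}} ⊆
      PrimeSpectrum.comap (algebraMap R S) '' {y | y ∈ E ∧ closure {y} ∩ E = {y}} := by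
    rintro x ⟨⟨y₀, hy₀E, rfl⟩, hxcl⟩
    obtain ⟨m, hmE, hm, hym⟩ := exists_isMaximal_mem_of_isConstructible E hE y₀ hy₀E
    have h1 : PrimeSpectrum.comap (algebraMap R S) m ∈
        closure {PrimeSpectrum.comap (algebraMap R S) y₀} ∩
          PrimeSpectrum.comap (algebraMap R S) '' E := by
      refine ⟨?_, m, hmE, rfl⟩
      rw [PrimeSpectrum.closure_singleton, PrimeSpectrum.mem_zeroLocus]
      exact Ideal.comap_mono hym
    rw [hxcl, Set.mem_singleton_iff] at h1
    refine ⟨m, ⟨hmE, ?_⟩, h1⟩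
    have hmcl : IsClosed ({m} : Set (PrimeSpectrum S)) :=
      (PrimeSpectrum.isClosed_singleton_iff_isMaximal m).mpr hm
    rw [IsClosed.closure_eq hmcl]
    exact Set.inter_eq_left.mpr (Set.singleton_subset_iff.mpr hmE)
  exact ⟨Set.Subset.antisymm hAB (hBC.trans hCA), Set.Subset.antisymm hBC (hCA.trans hAB)⟩

/-- Stacks 00GB (2): `ξ ∈ f(E)` iff `cl{ξ} ∩ f(E₀)` is dense in `cl{ξ}`. -/
theorem mem_image_iff_dense (E : Set (PrimeSpectrum S)) (hE : Topology.IsConstructible E)
    (ξ : PrimeSpectrum R) :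
    ξ ∈ PrimeSpectrum.comap (algebraMap R S) '' E ↔
      closure ({ξ} : Set (PrimeSpectrum R)) ⊆ closure (closure {ξ} ∩
        PrimeSpectrum.comap (algebraMap R S) '' {y | y ∈ E ∧ closure {y} ∩ E = {y}}) := by
  constructor
  · intro hξ
    obtain ⟨g, hg, hgP⟩ :=
      Groth.Agent.Lib.H77GenImage.exists_basicOpen_inter_closure_subset_image E hE ξ hξ
    apply closure_minimal _ isClosed_closure
    rw [Set.singleton_subset_iff, (PrimeSpectrum.isTopologicalBasis_basic_opens).mem_closure_iff]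
    rintro _ ⟨h, rfl⟩ hξh
    have hgh : g * h ∉ ξ.asIdeal := fun hh =>
      (ξ.isPrime.mem_or_mem hh).elim hg hξh
    obtain ⟨m, hm, hξm, hghm⟩ := exists_isMaximal_ge_notMem ξ.asIdeal (g * h) hgh
    refine ⟨⟨m, hm.isPrime⟩, fun hh => hghm (Ideal.mul_mem_left _ _ hh), ?_, ?_⟩
    · rw [PrimeSpectrum.closure_singleton, PrimeSpectrum.mem_zeroLocus]
      exact hξm
    · rw [(closedPoints_image (R := R) E hE).2]
      refine ⟨?_, hgP _ hξm fun hh => hghm (Ideal.mul_mem_right _ _ hh)⟩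
      rw [Set.mem_ofPred_eq, PrimeSpectrum.isClosed_singleton_iff_isMaximal]
      exact hm
  · intro hcl
    by_contra hξ
    obtain ⟨g, hg, hgP⟩ := exists_notMem_forall_mem_of_notMem_image E hE ξ hξ
    have h1 : closure {ξ} ∩
        PrimeSpectrum.comap (algebraMap R S) '' {y | y ∈ E ∧ closure {y} ∩ E = {y}} ⊆
        PrimeSpectrum.zeroLocus {g} := by
      rintro P ⟨hP1, y, ⟨hyE, -⟩, rfl⟩
      rw [PrimeSpectrum.closure_singleton, PrimeSpectrum.mem_zeroLocus] at hP1
      rw [PrimeSpectrum.mem_zeroLocus, Set.singleton_subset_iff]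
      exact hgP _ ⟨y, hyE, rfl⟩ hP1
    have h2 := hcl.trans (closure_minimal h1 (PrimeSpectrum.isClosed_zeroLocus _))
    have h3 : ξ ∈ PrimeSpectrum.zeroLocus {g} := h2 (subset_closure rfl)
    rw [PrimeSpectrum.mem_zeroLocus, Set.singleton_subset_iff] at h3
    exact hg h3

end Jacobson

end Groth.Agent.Lib.H77JacobsonImage
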