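import Groth.Agent.S5891
import Groth.Agent.Lib.DescFPSpread
import Groth.Agent.Lib.ConsPairGeomInst

/-!
# Noetherian approximation preserving an ind-constructible property of the fibres (helper77)

`exists_fg_model`: let `f : X ⟶ S` be a morphism of finite presentation between affine schemes and
`P` an ind-constructible relation on morphisms of algebraic schemes (`ConsProp.IsIndConsMor`) that
holds on every fibre of `(𝟙 X, f)`.  Then `f` is the base change of a finitely presented morphism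
`f₀ : X₀ ⟶ S₀` of affine schemes, `S₀` the spectrum of a finitely generated `ℤ`-subalgebra of
`Γ(S, ⊤)`, such that `P` holds on every fibre of `(a, f₀)` for some isomorphism `a : X₁ ⟶ X₀`.
-/

set_option autoImplicit false
set_option linter.style.haveILetI false
universe u

open CategoryTheory Limits AlgebraicGeometry

namespace Groth.Agent.Lib.H77NoethApprox

open Groth.Agent.Lib.SpreadPair Groth.Agent.Lib.FGSubalgLimitU Groth.Agent.Lib.DescFP
  Groth.Agent.Lib.ConsPairGeom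

theorem exists_fg_model {P : ∀ ⦃X Y T : Scheme.{u}⦄, (X ⟶ Y) → (Y ⟶ T) → Prop}
    (hP : ConsProp.IsIndConsMor P)
    {X S : Scheme.{u}} (f : X ⟶ S) [IsAffine X] [IsAffine S] [LocallyOfFinitePresentation f]
    (h : ∀ s : S, s ∈ ConsProp.locusMor P (𝟙 X) f) :
    ∃ (X₁ X₀ S₀ : Scheme.{u}) (a : X₁ ⟶ X₀) (f₀ : X₀ ⟶ S₀) (g : S ⟶ S₀) (g' : X ⟶ X₀),
      IsIso a ∧ IsAffine X₀ ∧ IsAffine S₀ ∧ IsPullback g' f f₀ g ∧
      Algebra.FiniteType ℤ Γ(S₀, ⊤) ∧ LocallyOfFinitePresentation f₀ ∧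
      ∀ s₀ : S₀, s₀ ∈ ConsProp.locusMor P a f₀ := by
  let e : S ≅ (cone ℤ Γ(S, ⊤)).pt := S.isoSpec
  let c : Cone (D ℤ Γ(S, ⊤)) := (cone ℤ Γ(S, ⊤)).extend e.hom
  have hc : IsLimit c := IsLimit.extendIso e.hom (isLimitCone ℤ Γ(S, ⊤))
  haveI : ∀ {i j : (FGSub ℤ Γ(S, ⊤))ᵒᵖ} (φ : i ⟶ j), IsAffineHom ((D ℤ Γ(S, ⊤)).map φ) :=
    fun φ => inferInstance
  haveI : ∀ (i j : (FGSub ℤ Γ(S, ⊤))ᵒᵖ) (φ : i ⟶ j), IsAffineHom ((D ℤ Γ(S, ⊤)).map φ) :=
    fun _ _ φ => inferInstance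
  haveI : ∀ i, CompactSpace ((D ℤ Γ(S, ⊤)).obj i) := fun i =>
    (inferInstance : CompactSpace (Spec (CommRingCat.of i.unop.1)))
  haveI : ∀ i, QuasiSeparatedSpace ((D ℤ Γ(S, ⊤)).obj i) := fun i =>
    (inferInstance : QuasiSeparatedSpace (Spec (CommRingCat.of i.unop.1)))
  haveI : ∀ i, IsAffine ((D ℤ Γ(S, ⊤)).obj i) := fun i =>
    (inferInstance : IsAffine (Spec (CommRingCat.of i.unop.1)))
  have hfaff : IsAffineHom f := inferInstance
  haveI i1 : LocallyOfFinitePresentation (Y := c.pt) f := ‹LocallyOfFinitePresentation f›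
  haveI i2 : QuasiCompact (Y := c.pt) f := inferInstance
  haveI i3 : QuasiSeparated (Y := c.pt) f := inferInstance
  haveI : MorphismProperty.RespectsIso @IsAffineHom.{u} :=
    MorphismProperty.IsStableUnderBaseChange.respectsIso
  obtain ⟨j, Xj, fj, g, h1, h2, h3, h4, sq⟩ :=
    exists_model_with_prop (D ℤ Γ(S, ⊤)) c hc @IsAffineHom descends_isAffineHom
      (X := X) (f : X ⟶ c.pt) hfaff
  haveI := h2
  haveI := h3
  haveI := h4
  haveI : QuasiCompact fj := quasiCompact_of_compactSpace fj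
  haveI : QuasiSeparated fj := inferInstance
  haveI : LocallyOfFinitePresentation (𝟙 Xj ≫ fj) := inferInstance
  haveI : QuasiCompact (𝟙 Xj ≫ fj) := inferInstance
  haveI : QuasiSeparated (𝟙 Xj ≫ fj) := inferInstance
  have hX : IsPullback g (𝟙 X) (𝟙 Xj) g := IsPullback.of_vert_isIso ⟨by simp⟩
  obtain ⟨k, φ, Xk, Yk, fk, gk, pY, pX, hYk, hXk, hk⟩ :=
    (Groth.Agent.S5891.result hP (D ℤ Γ(S, ⊤)) c hc j (𝟙 Xj) fj (𝟙 X) f g g sq hX).mp h
  -- `fk` is an isomorphism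
  have hfk : IsIso fk := by
    have : IsIso (𝟙 Xj) := inferInstance
    exact MorphismProperty.of_isPullback (P := MorphismProperty.isomorphisms Scheme.{u}) hXk
      (MorphismProperty.isomorphisms.infer_property (𝟙 Xj))
  -- `gk` is affine
  have hgk : IsAffineHom gk := MorphismProperty.of_isPullback hYk h1
  haveI : IsAffine Yk := isAffine_of_isAffineHom gk
  -- the map `X ⟶ Yk`
  have hw : g ≫ fj = (f ≫ c.π.app k) ≫ (D ℤ Γ(S, ⊤)).map φ := by
    rw [sq.w, Category.assoc, c.w φ]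
  let g' : X ⟶ Yk := hYk.lift g (f ≫ c.π.app k) hw
  have hg'1 : g' ≫ pY = g := hYk.lift_fst _ _ _
  have hg'2 : g' ≫ gk = f ≫ c.π.app k := hYk.lift_snd _ _ _
  have hbig : IsPullback (g' ≫ pY) f fj (c.π.app k ≫ (D ℤ Γ(S, ⊤)).map φ) := by
    rw [hg'1, c.w φ]
    exact sq
  have hleft : IsPullback g' f gk (c.π.app k) := IsPullback.of_right hbig hg'2 hYk
  refine ⟨Xk, Yk, (D ℤ Γ(S, ⊤)).obj k, fk, gk, c.π.app k, g', hfk, inferInstance, inferInstance,
    hleft, ?_, MorphismProperty.of_isPullback hYk h2, hk⟩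
  have hft : Algebra.FiniteType ℤ k.unop.1 := (Subalgebra.fg_iff_finiteType _).mp k.unop.2
  exact Algebra.FiniteType.equiv hft
    (Scheme.ΓSpecIso (CommRingCat.of k.unop.1)).symm.commRingCatIsoToRingEquiv.toIntAlgEquiv

end Groth.Agent.Lib.H77NoethApprox
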