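import Mathlib.RingTheory.Kaehler.Basic
import Mathlib.RingTheory.Extension.Basic

/-!
# Pure algebra behind `Ω_{Spec A / Spec R} = tilde Ω[A⁄R]`

Given a ring `B'` surjecting onto `A'` with kernel `I'`, and ring isomorphisms `α : A ≃ A'`,
`β : A ⊗[R] A ≃ B'` identifying `B' → A'` with the multiplication map, the `A'`-module
`A' ⊗[B'] I'`, regarded as an `A`-module through `α`, is `Ω[A⁄R]`.
-/

set_option autoImplicit false
universe u
open TensorProduct

namespace Groth.Agent.Lib.H77OmegaAlg

section Transport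

variable {B B' : Type*} [CommRing B] [CommRing B']

/-- Transport of the cotangent module along a ring homomorphism. -/
noncomputable def cotMap (β : B →+* B') (I : Ideal B) (I' : Ideal B') (h : I ≤ I'.comap β) :
    I.Cotangent →ₗ[ℤ] I'.Cotangent :=
  Ideal.mapCotangent I I' β.toIntAlgHom h

@[simp]
lemma cotMap_toCotangent (β : B →+* B') (I : Ideal B) (I' : Ideal B') (h : I ≤ I'.comap β)
    (x : I) : cotMap β I I' h (I.toCotangent x) = I'.toCotangent ⟨β x, h x.2⟩ := rfl

lemma cotMap_smul (β : B →+* B') (I : Ideal B) (I' : Ideal B') (h : I ≤ I'.comap β)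
    (b : B) (x : I.Cotangent) : cotMap β I I' h (b • x) = β b • cotMap β I I' h x := by
  obtain ⟨x, rfl⟩ := I.toCotangent_surjective x
  rw [← map_smul, cotMap_toCotangent, cotMap_toCotangent, ← map_smul]
  congr 1
  ext
  simp

/-- Transport of the cotangent module along a ring isomorphism. -/
noncomputable def cotEquiv (β : B ≃+* B') (I : Ideal B) (I' : Ideal B')
    (h : I = I'.comap (β : B →+* B')) : I.Cotangent ≃+ I'.Cotangent where
  toFun := cotMap (β : B →+* B') I I' h.le
  invFun := cotMap (β.symm : B' →+* B) I' I (by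
    intro x hx
    rw [h, Ideal.mem_comap, Ideal.mem_comap]
    simpa using hx)
  left_inv x := by
    obtain ⟨x, rfl⟩ := I.toCotangent_surjective x
    simp
  right_inv x := by
    obtain ⟨x, rfl⟩ := I'.toCotangent_surjective x
    simp
  map_add' := map_add _

lemma cotEquiv_symm_smul (β : B ≃+* B') (I : Ideal B) (I' : Ideal B')
    (h : I = I'.comap (β : B →+* B')) (b : B') (x : I'.Cotangent) :
    (cotEquiv β I I' h).symm (b • x) = β.symm b • (cotEquiv β I I' h).symm x :=
  cotMap_smul (β.symm : B' →+* B) I' I _ b x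

end Transport

section Main

variable (R A : Type u) [CommRing R] [CommRing A] [Algebra R A]
variable (A' B' : Type u) [CommRing A'] [CommRing B'] [Algebra B' A']

/-- **Pure algebra core.** -/
theorem nonempty_equiv_kaehler (α : A ≃+* A') (β : A ⊗[R] A ≃+* B')
    (hcomm : ∀ x, algebraMap B' A' (β x) = α (Algebra.TensorProduct.lmul' R x)) :
    letI : Module A (A' ⊗[B'] (RingHom.ker (algebraMap B' A'))) :=
      Module.compHom _ (α : A →+* A')
    Nonempty ((A' ⊗[B'] (RingHom.ker (algebraMap B' A'))) ≃ₗ[A] Ω[A⁄R]) := by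
  let _ : Module A (A' ⊗[B'] (RingHom.ker (algebraMap B' A'))) :=
    Module.compHom _ (α : A →+* A')
  have hsurj : Function.Surjective (algebraMap B' A') := by
    intro a'
    obtain ⟨a, rfl⟩ := α.surjective a'
    refine ⟨β (a ⊗ₜ 1), ?_⟩
    rw [hcomm]
    simp
  -- the extension `B' → A'`
  let P : Algebra.Extension B' A' :=
    { Ring := B'
      σ := Function.surjInv hsurj
      algebraMap_σ := Function.surjInv_eq hsurj }
  let e1 : A' ⊗[B'] (RingHom.ker (algebraMap B' A')) ≃ₗ[A'] P.Cotangent := P.cotangentEquiv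
  have hI : KaehlerDifferential.ideal R A =
      (RingHom.ker (algebraMap B' A')).comap (β : A ⊗[R] A →+* B') := by
    ext x
    simp only [Ideal.mem_comap, RingHom.mem_ker, RingEquiv.coe_toRingHom]
    rw [hcomm]
    simp
  let e2 := cotEquiv β (KaehlerDifferential.ideal R A) (RingHom.ker (algebraMap B' A')) hI
  -- the composite additive equivalence
  let e : (A' ⊗[B'] (RingHom.ker (algebraMap B' A'))) ≃+ Ω[A⁄R] :=
    (e1.toAddEquiv.trans P.cotangentEquivCotangentKer.toAddEquiv).trans e2.symm
  refine ⟨{ e with map_smul' := ?_ }⟩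
  intro a x
  change e2.symm (Algebra.Extension.Cotangent.val (e1 ((α a) • x))) =
    a • e2.symm (Algebra.Extension.Cotangent.val (e1 x))
  rw [map_smul, Algebra.Extension.Cotangent.val_smul]
  change e2.symm (Function.surjInv hsurj (α a) • _) = _
  rw [cotEquiv_symm_smul]
  set ω := e2.symm (Algebra.Extension.Cotangent.val (e1 x)) with hω
  have hmem : β.symm (Function.surjInv hsurj (α a)) - algebraMap A (A ⊗[R] A) a ∈
      KaehlerDifferential.ideal R A := by
    rw [hI, Ideal.mem_comap, RingHom.mem_ker, map_sub]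
    simp only [RingEquiv.coe_toRingHom, RingEquiv.apply_symm_apply]
    rw [map_sub, Function.surjInv_eq hsurj, hcomm]
    simp [Algebra.TensorProduct.algebraMap_apply]
  have h0 := Ideal.Cotangent.smul_eq_zero_of_mem hmem (show (KaehlerDifferential.ideal R A).Cotangent from ω)
  rw [sub_smul, sub_eq_zero] at h0
  rw [← algebraMap_smul (A ⊗[R] A) a ω]
  exact h0

/-- Variant of `nonempty_equiv_kaehler` with `α` a bijective ring homomorphism. -/
theorem nonempty_equiv_kaehler' (α : A →+* A') (hα : Function.Bijective α) (β : A ⊗[R] A ≃+* B')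
    (hcomm : ∀ x, algebraMap B' A' (β x) = α (Algebra.TensorProduct.lmul' R x)) :
    letI : Module A (A' ⊗[B'] (RingHom.ker (algebraMap B' A'))) := Module.compHom _ α
    Nonempty ((A' ⊗[B'] (RingHom.ker (algebraMap B' A'))) ≃ₗ[A] Ω[A⁄R]) :=
  nonempty_equiv_kaehler R A A' B' (RingEquiv.ofBijective α hα) β hcomm

end Main

end Groth.Agent.Lib.H77OmegaAlg
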