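import Groth.Agent.Lib.H77QCohKernel
import Groth.Agent.Lib.H77OmegaAlg
import Groth.Agent.Lib.PullbackAffine
import Groth.Agent.Lib.IdealMod2
import Groth.Agent.Lib.OXModTensorQCoh
import Groth.Prelude.Def_Omega2

/-!
# The conormal module `Omega.conormal i = i^*(ideal of i)` for a morphism of affine schemes

* `idealSectionsEquiv` : `Γ(idealMod i.ker, ⊤) ≃ₗ ker (i.appTop)` for `P` affine
* `conormalSectionsEquiv` : `Γ(conormal i, ⊤) ≃ₗ Γ(X,⊤) ⊗[Γ(P,⊤)] ker (i.appTop)` (`X`, `P` affine)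
* `nonempty_iso_tilde_of_sections` : qcoh `N` on `Spec A` with `Γ(N,⊤) ≃ₗ[A] M` is `≅ tilde M`
* `nonempty_conormal_iso_tilde` : conormal of `i : Spec A ⟶ P` is `tilde M` given an `A`-linear
  equivalence of `Γ(Spec A,⊤) ⊗[Γ(P,⊤)] ker (i.appTop)` with `M`.
-/

set_option autoImplicit false
universe u
open CategoryTheory CategoryTheory.Limits AlgebraicGeometry TopologicalSpace Opposite TensorProduct

namespace Groth.Agent.Lib.H77OmegaAffine

open Groth.Agent.Lib.H77QCohKernel Groth.Agent.Lib.PullbackAffine Groth.Agent.Lib.IdealMod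
  Groth.Agent.Lib.H90OXModAffine Groth.Agent.Lib.OXModTensorQCoh

variable {X P : Scheme.{u}} (i : X ⟶ P) [QuasiCompact i] [IsAffine P]

lemma idealFn_mem_ker (s : Γ(ClSub.idealMod i.ker, ⊤)) :
    idealFn i.ker ⊤ s ∈ RingHom.ker i.appTop.hom := by
  have h := idealFn_mem i.ker ⟨⊤, isAffineOpen_top P⟩ s
  rw [Scheme.Hom.ker_apply] at h
  exact h

/-- sections of the ideal module over the affine `P` form the kernel of `i.appTop`. -/
noncomputable def idealSectionsEquiv :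
    Γ(ClSub.idealMod i.ker, ⊤) ≃ₗ[Γ(P, ⊤)] (RingHom.ker i.appTop.hom) :=
  LinearEquiv.ofBijective
    { toFun := fun s => ⟨idealFn i.ker ⊤ s, idealFn_mem_ker i s⟩
      map_add' := fun s t => Subtype.ext (idealFn_add i.ker s t)
      map_smul' := fun a s => Subtype.ext (idealFn_smul i.ker a s) }
    ⟨fun s t h => idealFn_injective i.ker ⊤ (congrArg Subtype.val h), fun ⟨f, hf⟩ => by
      have hf' : f ∈ i.ker.ideal ⟨⊤, isAffineOpen_top P⟩ := by
        rw [Scheme.Hom.ker_apply]; exact hf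
      obtain ⟨t, ht⟩ := exists_idealFn_eq i.ker ⟨⊤, isAffineOpen_top P⟩ hf'
      exact ⟨t, Subtype.ext ht⟩⟩

end Groth.Agent.Lib.H77OmegaAffine

namespace Groth.Agent.Lib.H77OmegaAffine

open Groth.Agent.Lib.H77QCohKernel Groth.Agent.Lib.PullbackAffine Groth.Agent.Lib.IdealMod
  Groth.Agent.Lib.H90OXModAffine Groth.Agent.Lib.OXModTensorQCoh

variable {X P : Scheme.{u}} (i : X ⟶ P)

lemma appLE_top_top (e : (⊤ : X.Opens) ≤ i ⁻¹ᵁ ⊤) : i.appLE ⊤ ⊤ e = i.appTop := by
  rw [Scheme.Hom.appLE]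
  have : X.presheaf.map (homOfLE e).op = 𝟙 _ := X.presheaf.map_id _
  rw [this]
  exact Category.comp_id _

variable [QuasiCompact i] [IsAffine P] [IsAffine X]

/-- Global sections of the conormal module of `i : X ⟶ P` (both affine) -/
noncomputable def conormalSectionsEquiv :
    letI := i.appTop.hom.toAlgebra
    Γ(Omega.conormal i, ⊤) ≃ₗ[Γ(X, ⊤)] (Γ(X, ⊤) ⊗[Γ(P, ⊤)] (RingHom.ker i.appTop.hom)) := by
  letI := i.appTop.hom.toAlgebra
  have e : (⊤ : X.Opens) ≤ i ⁻¹ᵁ ⊤ := le_top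
  have h := sectionsPullbackEquiv i (ClSub.idealMod i.ker) (isAffineOpen_top X) (isAffineOpen_top P) e
  rw [appLE_top_top] at h
  exact h ≪≫ₗ TensorProduct.AlgebraTensorModule.congr (LinearEquiv.refl Γ(X, ⊤) Γ(X, ⊤))
    (idealSectionsEquiv i)

end Groth.Agent.Lib.H77OmegaAffine

namespace Groth.Agent.Lib.H77OmegaAffine

open Groth.Agent.Lib.H77QCohKernel Groth.Agent.Lib.PullbackAffine Groth.Agent.Lib.IdealMod
  Groth.Agent.Lib.H90OXModAffine Groth.Agent.Lib.OXModTensorQCoh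

variable {A : CommRingCat.{u}}

/-- A quasi-coherent module on `Spec A` whose global sections are `A`-linearly equivalent to `M`
is isomorphic to `tilde M`. -/
theorem nonempty_iso_tilde_of_sections (N : (Spec A).Modules) [N.IsQuasicoherent]
    (M : ModuleCat.{u} A) (E : Γ(N, ⊤) ≃ₗ[A] M) : Nonempty (N ≅ tilde M) := by
  have e1 : ΓSpec N ≅ M := LinearEquiv.toModuleIso (X₁ := ΓSpec N) (X₂ := M) E
  exact ⟨(tildeΓIso N).symm ≪≫ (tilde.functor A).mapIso e1⟩

lemma smul_top_eq (N : (Spec A).Modules) (a : A) (x : Γ(N, ⊤)) :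
    a • x = ((Scheme.ΓSpecIso A).inv a : Γ(Spec A, ⊤)) • x := by
  rw [Scheme.Modules.smul_Spec_def]
  have : (Spec A).presheaf.map (⊤ : (Spec A).Opens).leTop.op = 𝟙 _ := (Spec A).presheaf.map_id _
  rw [this]
  rfl

variable {P : Scheme.{u}} [IsAffine P] (i : Spec A ⟶ P) [QuasiCompact i]

set_option maxRecDepth 8000 in
theorem nonempty_conormal_iso_tilde (M : ModuleCat.{u} A)
    (E : letI := i.appTop.hom.toAlgebra
      letI : Module A (Γ(Spec A, ⊤) ⊗[Γ(P, ⊤)] (RingHom.ker i.appTop.hom)) :=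
        Module.compHom _ (Scheme.ΓSpecIso A).inv.hom
      (Γ(Spec A, ⊤) ⊗[Γ(P, ⊤)] (RingHom.ker i.appTop.hom)) ≃ₗ[A] M) :
    Nonempty (Omega.conormal i ≅ tilde M) := by
  letI := i.appTop.hom.toAlgebra
  letI : Module A (Γ(Spec A, ⊤) ⊗[Γ(P, ⊤)] (RingHom.ker i.appTop.hom)) :=
    Module.compHom _ (Scheme.ΓSpecIso A).inv.hom
  haveI : (Omega.conormal i).IsQuasicoherent := by
    unfold Omega.conormal
    infer_instance
  refine nonempty_iso_tilde_of_sections (Omega.conormal i) M ?_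
  refine { (conormalSectionsEquiv i).toAddEquiv.trans E.toAddEquiv with map_smul' := ?_ }
  intro a x
  have h1 : a • x = ((Scheme.ΓSpecIso A).inv a : Γ(Spec A, ⊤)) • x := smul_top_eq _ a x
  rw [h1]
  simp only [AddEquiv.toEquiv_eq_coe, Equiv.toFun_as_coe, EquivLike.coe_coe, AddEquiv.coe_trans,
    LinearEquiv.coe_toAddEquiv, Function.comp_apply, RingHom.id_apply]
  have h2 : conormalSectionsEquiv i (((Scheme.ΓSpecIso A).inv a : Γ(Spec A, ⊤)) • x) =
      ((Scheme.ΓSpecIso A).inv a : Γ(Spec A, ⊤)) • conormalSectionsEquiv i x :=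
    (conormalSectionsEquiv i).map_smul ((Scheme.ΓSpecIso A).inv a : Γ(Spec A, ⊤)) x
  have h3 : E (((Scheme.ΓSpecIso A).inv a : Γ(Spec A, ⊤)) • conormalSectionsEquiv i x) =
      a • E (conormalSectionsEquiv i x) := E.map_smul a (conormalSectionsEquiv i x)
  exact (congrArg E h2).trans h3

end Groth.Agent.Lib.H77OmegaAffine
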