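import Groth.Agent.Lib.H77OmegaStalk
import Groth.Agent.Lib.H90OXModAffineFT

/-!
# `Omega.sheaf f` is of finite type for `f` locally of finite type (and quasi-separated)
-/

set_option autoImplicit false
universe u
open CategoryTheory CategoryTheory.Limits AlgebraicGeometry TopologicalSpace Opposite

namespace Groth.Agent.Lib.H77OmegaFT

open Groth.Agent.Lib.H77OmegaSections Groth.Agent.Lib.H77OmegaStalk

variable {X S : Scheme.{u}} (f : X ⟶ S) [LocallyOfFiniteType f] [QuasiSeparated f]

/-- sections of `Ω_{X/S}` over an affine `V` mapping into an affine `U` are a finite module -/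
theorem finite_sections_omega {U : S.Opens} {V : X.Opens} (hU : IsAffineOpen U)
    (hV : IsAffineOpen V) (e : V ≤ f ⁻¹ᵁ U) : Module.Finite Γ(X, V) Γ(Omega.sheaf f, V) := by
  letI := (f.appLE U V e).hom.toAlgebra
  obtain ⟨E⟩ := nonempty_sections_equiv_kaehler f hU hV e
  have hft : Algebra.FiniteType Γ(S, U) Γ(X, V) := f.finiteType_appLE hU hV e
  have : Module.Finite Γ(X, V) Ω[Γ(X, V)⁄Γ(S, U)] := inferInstance
  exact Module.Finite.equiv E.symm

instance isFiniteType_omega : (Omega.sheaf f).IsFiniteType := by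
  let ι := {V : X.Opens // IsAffineOpen V ∧ ∃ U : S.Opens, IsAffineOpen U ∧ V ≤ f ⁻¹ᵁ U}
  refine Groth.Agent.Lib.H90OXModAffineFT.isFiniteType_of_affine_cover (Omega.sheaf f)
    (fun i : ι => i.1) ?_ (fun i => i.2.1) ?_
  · apply le_antisymm le_top
    intro x _
    obtain ⟨U, V, hU, hV, e, hxV⟩ := exists_affine_charts f x
    exact Opens.mem_iSup.mpr ⟨⟨V, hV, U, hU, e⟩, hxV⟩
  · rintro ⟨V, hV, U, hU, e⟩
    exact finite_sections_omega f hU hV e

end Groth.Agent.Lib.H77OmegaFT
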