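import Groth.Agent.Lib.H77OmegaSections
import Groth.Agent.Lib.QCohStalk
import Mathlib.RingTheory.Etale.Kaehler
import Mathlib.RingTheory.Unramified.LocalRing
import Mathlib.AlgebraicGeometry.Morphisms.FiniteType

/-!
# Stalks of `Omega.sheaf f`

* `isQuasicoherent_omega` : `Omega.sheaf f` is quasi-coherent (`f` quasi-separated)
* `subsingleton_stalk_iff` : vanishing of the stalk at `x ∈ V` in terms of `Ω[Γ(X,V)⁄Γ(S,U)]`
* `essFiniteType_stalkMap` : `O_{S,f x} → O_{X,x}` is essentially of finite type (`f` l.f.t.)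
* `subsingleton_stalk_iff_formallyUnramified` : `(Ω_{X/S})_x = 0 ↔ O_{S,f x} → O_{X,x}` formally
  unramified (`f` locally of finite type, quasi-separated)
-/

set_option autoImplicit false
universe u
open CategoryTheory CategoryTheory.Limits AlgebraicGeometry TopologicalSpace Opposite TensorProduct
open IsLocalRing

namespace Groth.Agent.Lib.H77OmegaStalk

open Groth.Agent.Lib.H77OmegaSections Groth.Agent.Lib.QCohStalk

section Algebra

variable {A B R' S' : Type u} [CommRing A] [CommRing B] [CommRing R'] [CommRing S']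
    [Algebra A B] [Algebra A R'] [Algebra R' S'] [Algebra B S'] [Algebra A S']
    [IsScalarTower A B S'] [IsScalarTower A R' S']
    (p : Ideal A) [p.IsPrime] [IsLocalization.AtPrime R' p]
    (q : Ideal B) [q.IsPrime] [IsLocalization.AtPrime S' q]

include p q in
theorem alg_ess [Algebra.FiniteType A B] : Algebra.EssFiniteType R' S' := by
  have h1 : Algebra.EssFiniteType B S' := Algebra.EssFiniteType.of_isLocalization S' q.primeCompl
  have h2 : Algebra.EssFiniteType A S' := Algebra.EssFiniteType.comp A B S'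
  exact Algebra.EssFiniteType.of_comp A R' S'

include p in
theorem alg_core :
    (∀ ω : Ω[B⁄A], ∃ r ∈ q.primeCompl, r • ω = 0) ↔ Algebra.FormallyUnramified R' S' := by
  rw [← IsLocalizedModule.subsingleton_iff q.primeCompl (KaehlerDifferential.map A A B S')]
  have hAR : Algebra.FormallyUnramified A R' :=
    Algebra.FormallyUnramified.of_isLocalization p.primeCompl
  constructor
  · intro h
    have : Algebra.FormallyUnramified A S' := ⟨h⟩
    exact Algebra.FormallyUnramified.of_restrictScalars A R' S'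
  · intro h
    have : Algebra.FormallyUnramified A S' := Algebra.FormallyUnramified.comp A R' S'
    exact this.subsingleton_kaehlerDifferential

end Algebra

variable {X S : Scheme.{u}} (f : X ⟶ S)

section

variable [QuasiSeparated f]

instance isQuasicoherent_omega : (Omega.sheaf f).IsQuasicoherent := by
  unfold Omega.sheaf Omega.conormal
  infer_instance

variable {U : S.Opens} {V : X.Opens} (hU : IsAffineOpen U) (hV : IsAffineOpen V)
  (e : V ≤ f ⁻¹ᵁ U) (x : V)

include hU in
/-- The stalk of `Ω_{X/S}` at `x ∈ V` vanishes iff every Kähler differential of `Γ(X,V)/Γ(S,U)` is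
killed by a function not vanishing at `x`. -/
theorem subsingleton_stalk_iff :
    letI := (f.appLE U V e).hom.toAlgebra
    Subsingleton ((Omega.sheaf f).presheaf.stalk (x : X)) ↔
      ∀ ω : Ω[Γ(X, V)⁄Γ(S, U)], ∃ r ∈ (hV.primeIdealOf x).asIdeal.primeCompl, r • ω = 0 := by
  letI := (f.appLE U V e).hom.toAlgebra
  letI := moduleSectionStalk (Omega.sheaf f) x
  have h1 := isLocalizedModule_germ (Omega.sheaf f) hV x
  rw [IsLocalizedModule.subsingleton_iff (hV.primeIdealOf x).asIdeal.primeCompl
    (germLinear (Omega.sheaf f) x)]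
  obtain ⟨E⟩ := nonempty_sections_equiv_kaehler f hU hV e
  constructor
  · intro h ω
    obtain ⟨r, hr, h0⟩ := h (E.symm ω)
    refine ⟨r, hr, ?_⟩
    rw [← map_smul] at h0
    simpa using congrArg E h0
  · intro h m
    obtain ⟨r, hr, h0⟩ := h (E m)
    refine ⟨r, hr, ?_⟩
    rw [← map_smul] at h0
    exact E.injective (h0.trans (map_zero E).symm)

end

/-- existence of affine charts around `x` and `f x`. -/
lemma exists_affine_charts (x : X) :
    ∃ (U : S.Opens) (V : X.Opens), IsAffineOpen U ∧ IsAffineOpen V ∧ V ≤ f ⁻¹ᵁ U ∧ x ∈ V := by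
  obtain ⟨_, ⟨U, hU, rfl⟩, hxU, -⟩ := S.isBasis_affineOpens.exists_subset_of_mem_open
    (Set.mem_univ (f.base x)) isOpen_univ
  obtain ⟨_, ⟨V, hV, rfl⟩, hxV, hVW⟩ := X.isBasis_affineOpens.exists_subset_of_mem_open
    (show x ∈ (f ⁻¹ᵁ U : X.Opens) from hxU) (f ⁻¹ᵁ U).2
  exact ⟨U, V, hU, hV, hVW, hxV⟩

section Main

variable {X S : Scheme.{u}} (f : X ⟶ S) [LocallyOfFiniteType f] [QuasiSeparated f] (x : X)

/-- `O_{S,f x} → O_{X,x}` is essentially of finite type and `(Ω_{X/S})_x = 0` iff it is formally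
unramified. -/
theorem stalk_main :
    letI := (f.stalkMap x).hom.toAlgebra
    Algebra.EssFiniteType (S.presheaf.stalk (f.base x)) (X.presheaf.stalk x) ∧
    (Subsingleton ((Omega.sheaf f).presheaf.stalk x) ↔
      Algebra.FormallyUnramified (S.presheaf.stalk (f.base x)) (X.presheaf.stalk x)) := by
  obtain ⟨U, V, hU, hV, e, hxV⟩ := exists_affine_charts f x
  let xV : V := ⟨x, hxV⟩
  have hsU : f.base x ∈ U := e hxV
  let sU : U := ⟨f.base x, hsU⟩
  letI iAB : Algebra Γ(S, U) Γ(X, V) := (f.appLE U V e).hom.toAlgebra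
  letI iBS : Algebra Γ(X, V) (X.presheaf.stalk (xV : X)) := X.presheaf.algebra_section_stalk xV
  letI iAR : Algebra Γ(S, U) (S.presheaf.stalk (sU : S)) := S.presheaf.algebra_section_stalk sU
  letI iRS : Algebra (S.presheaf.stalk (sU : S)) (X.presheaf.stalk (xV : X)) :=
    (f.stalkMap x).hom.toAlgebra
  letI iAS : Algebra Γ(S, U) (X.presheaf.stalk (xV : X)) :=
    ((algebraMap Γ(X, V) (X.presheaf.stalk (xV : X))).comp (algebraMap Γ(S, U) Γ(X, V))).toAlgebra
  have t1 : IsScalarTower Γ(S, U) Γ(X, V) (X.presheaf.stalk (xV : X)) :=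
    IsScalarTower.of_algebraMap_eq' rfl
  have t2 : IsScalarTower Γ(S, U) (S.presheaf.stalk (sU : S)) (X.presheaf.stalk (xV : X)) := by
    refine IsScalarTower.of_algebraMap_eq fun a => ?_
    change X.presheaf.germ V x hxV (f.appLE U V e a) =
      f.stalkMap x (S.presheaf.germ U (f.base x) hsU a)
    rw [Scheme.Hom.germ_stalkMap_apply f U x hsU a, Scheme.Hom.appLE]
    exact TopCat.Presheaf.germ_res_apply X.presheaf (homOfLE e) x hxV _
  have hft : Algebra.FiniteType Γ(S, U) Γ(X, V) := f.finiteType_appLE hU hV e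
  have lp := hU.isLocalization_stalk sU
  have lq := hV.isLocalization_stalk xV
  refine ⟨alg_ess (hU.primeIdealOf sU).asIdeal (hV.primeIdealOf xV).asIdeal, ?_⟩
  rw [subsingleton_stalk_iff f hU hV e xV]
  exact alg_core (hU.primeIdealOf sU).asIdeal (hV.primeIdealOf xV).asIdeal

end Main

end Groth.Agent.Lib.H77OmegaStalk
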