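import Groth.Agent.Lib.H77SectionComp
import Groth.Agent.Lib.H77ClosurePoint

/-!
# Section components over a locally closed neighbourhood of a point in its closure (helper77)

`exists_subset_closure_sectionComponents_isClopen`: EGA IV 15.6.x-type statement: for `f` of finite
type with a section `s` and `y : Y` there is `V ⊆ closure {y}` open in the closure, containing `y`,
such that the section components are open and closed in `f ⁻¹' V`.
-/

set_option autoImplicit false
set_option linter.style.haveILetI false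
universe u
open CategoryTheory Limits AlgebraicGeometry TopologicalSpace

namespace Groth.Agent.Lib.H77SectionCompClosure

open Groth.Agent.Lib.H69RedInduced Groth.Agent.Lib.H77TopDecomp Groth.Agent.Lib.H77SectionComp

/-- relative clopen-ness from ambient closed sets -/
theorem isClopen_preimage_val {X : Type*} [TopologicalSpace X] (W E D₁ D₂ : Set X)
    (hD₁ : IsClosed D₁) (hD₂ : IsClosed D₂) (h₁ : E ∩ W = D₁ ∩ W) (h₂ : W \ E = D₂ ∩ W) :
    IsClopen (Subtype.val ⁻¹' E : Set W) := by
  have e₁ : (Subtype.val ⁻¹' E : Set W) = Subtype.val ⁻¹' D₁ := by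
    ext w
    constructor
    · intro hw
      have : (w : X) ∈ E ∩ W := ⟨hw, w.2⟩
      rw [h₁] at this
      exact this.1
    · intro hw
      have : (w : X) ∈ D₁ ∩ W := ⟨hw, w.2⟩
      rw [← h₁] at this
      exact this.1
  have e₂ : (Subtype.val ⁻¹' E : Set W)ᶜ = Subtype.val ⁻¹' D₂ := by
    ext w
    constructor
    · intro hw
      have : (w : X) ∈ W \ E := ⟨w.2, hw⟩
      rw [h₂] at this
      exact this.1
    · intro hw
      have : (w : X) ∈ D₂ ∩ W := ⟨hw, w.2⟩
      rw [← h₂] at this
      exact this.2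
  refine ⟨?_, ?_⟩
  · rw [e₁]
    exact hD₁.preimage continuous_subtype_val
  · rw [← isClosed_compl_iff, e₂]
    exact hD₂.preimage continuous_subtype_val

theorem exists_subset_closure_sectionComponents_isClopen {X Y : Scheme.{u}} (f : X ⟶ Y)
    (s : Y ⟶ X) (hs : s ≫ f = 𝟙 Y) [LocallyOfFiniteType f] [QuasiCompact f] (y : Y) :
    ∃ V : Set Y, V ⊆ closure {y} ∧ y ∈ V ∧
      IsOpen (Subtype.val ⁻¹' V : Set (closure ({y} : Set Y))) ∧
      IsClopen (Subtype.val ⁻¹' MoreMor.sectionComponents f s : Set (f ⁻¹' V)) := by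
  let W : Closeds Y := ⟨closure {y}, isClosed_closure⟩
  let Z := redSub W
  let c : Z ⟶ Y := redSubι W
  have hr : Set.range c = closure {y} := range_redSubι W
  have hemb : Topology.IsClosedEmbedding c := c.isClosedEmbedding
  haveI : IrreducibleSpace Z := by
    rw [irreducibleSpace_def]
    apply isIrreducible_of_image hemb.isInducing
    change IsIrreducible (c '' Set.univ)
    rw [Set.image_univ, hr]
    exact isIrreducible_singleton.closure
  have hζ : c (genericPoint Z) = y := by
    have h1 : IsGenericPoint (c (genericPoint Z)) (closure {y}) := by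
      have h2 := hemb.closure_image_eq {genericPoint Z}
      rw [(genericPoint_spec Z).def, Set.image_univ, hr, Set.image_singleton] at h2
      exact h2
    exact h1.eq (isGenericPoint_closure)
  let f' := pullback.snd f c
  let g' := pullback.fst f c
  have hc : IsPullback g' f' f c := IsPullback.of_hasPullback f c
  have hw : (c ≫ s) ≫ f = 𝟙 Z ≫ c := by
    rw [Category.assoc, hs, Category.comp_id, Category.id_comp]
  let s' : Z ⟶ pullback f c := pullback.lift (c ≫ s) (𝟙 Z) hw
  have hs' : s' ≫ f' = 𝟙 Z := pullback.lift_snd _ _ _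
  have hs'g : s' ≫ g' = c ≫ s := pullback.lift_fst _ _ _
  have hE : MoreMor.sectionComponents f' s' = g' ⁻¹' MoreMor.sectionComponents f s :=
    Groth.Agent.Lib.H71SectionComp.sectionComponents_baseChange f s hs f' g' c hc s' hs' hs'g
  obtain ⟨V', hζV', C₁, C₂, hC₁, hC₂, h₁, h₂⟩ := exists_opens_sectionComponents f' s' hs'
  -- `g'` is a closed embedding with range `f ⁻¹' (closure {y})`
  have hg'emb : Topology.IsClosedEmbedding g' := g'.isClosedEmbedding
  have hg'r : Set.range g' = f ⁻¹' Set.range c := Scheme.Pullback.range_fst f c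
  have hfg : ∀ a : ↥(pullback f c), f (g' a) = c (f' a) := by
    intro a
    rw [← Scheme.Hom.comp_apply g' f, hc.w, Scheme.Hom.comp_apply]
  have hpre : f ⁻¹' (c '' (V' : Set Z)) = g' '' (f' ⁻¹' (V' : Set Z)) := by
    ext x
    constructor
    · rintro ⟨z, hz, hzx⟩
      have hx : x ∈ Set.range g' := by
        rw [hg'r]
        exact ⟨z, hzx⟩
      obtain ⟨x', rfl⟩ := hx
      refine ⟨x', ?_, rfl⟩
      have : c (f' x') = c z := (hfg x').symm.trans hzx.symm
      rw [Set.mem_preimage, hemb.injective this]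
      exact hz
    · rintro ⟨x', hx', rfl⟩
      exact ⟨f' x', hx', (hfg x').symm⟩
  refine ⟨c '' (V' : Set Z), ?_, ⟨genericPoint Z, hζV', hζ⟩, ?_, ?_⟩
  · rw [← hr]
    exact Set.image_subset_range _ _
  · obtain ⟨O, hO, hOV'⟩ := hemb.isInducing.isOpen_iff.mp V'.isOpen
    have : (Subtype.val ⁻¹' (c '' (V' : Set Z)) : Set (closure ({y} : Set Y))) =
        Subtype.val ⁻¹' O := by
      ext t
      constructor
      · rintro ⟨z, hz, hzt⟩
        have h3 : z ∈ c ⁻¹' O := by rw [hOV']; exact hz
        change (t : Y) ∈ O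
        rw [← hzt]
        exact h3
      · intro ht
        have h4 : (t : Y) ∈ Set.range c := by rw [hr]; exact t.2
        obtain ⟨z, hz⟩ := h4
        refine ⟨z, ?_, hz⟩
        rw [← hOV']
        change c z ∈ O
        rw [hz]
        exact ht
    rw [this]
    exact hO.preimage continuous_subtype_val
  · refine isClopen_preimage_val _ _ (g' '' C₁) (g' '' C₂) (hg'emb.isClosedMap _ hC₁)
      (hg'emb.isClosedMap _ hC₂) ?_ ?_
    · rw [hpre, ← Set.image_inter hg'emb.injective, ← h₁, hE]
      ext x
      constructor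
      · rintro ⟨hxE, x', hx', rfl⟩
        exact ⟨x', ⟨hxE, hx'⟩, rfl⟩
      · rintro ⟨x', ⟨hxE, hx'⟩, rfl⟩
        exact ⟨hxE, x', hx', rfl⟩
    · rw [hpre, ← Set.image_inter hg'emb.injective, ← h₂, hE]
      ext x
      constructor
      · rintro ⟨⟨x', hx', rfl⟩, hxE⟩
        exact ⟨x', ⟨hx', hxE⟩, rfl⟩
      · rintro ⟨x', ⟨hx', hxE⟩, rfl⟩
        exact ⟨⟨x', hx', rfl⟩, hxE⟩

end Groth.Agent.Lib.H77SectionCompClosure
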