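import Mathlib.RingTheory.FinitePresentation
import Mathlib.RingTheory.Localization.AtPrime.Basic
import Mathlib.RingTheory.Localization.Away.Basic
import Mathlib.RingTheory.Localization.Away.AdjoinRoot
import Mathlib.RingTheory.Localization.Integer
import Mathlib.RingTheory.Localization.LocalizationLocalization
import Mathlib.RingTheory.Ideal.Quotient.Operations

/-!
Ring-level spreading out for finitely presented algebras.

`B` is an `R`-algebra, `M` a submonoid of `B` and `L` a localization of `B` at `M`.
* `toL`   : the canonical map `B_g → L` for `g ∈ M`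
* `trans` : the canonical map `B_g → B_{g h}`
* `exists_lift` : an `R`-algebra map from a finitely presented `R`-algebra to `L` factors
  through some `B_g`
* `exists_trans_comp_eq` : two maps from a finite type `R`-algebra to `B_g` which agree in `L`
  agree in some `B_{g h}`
-/

namespace Groth.Agent.Lib.H77SpreadIso

universe u v w

variable {R : Type*} [CommRing R] {B : Type*} [CommRing B] [Algebra R B]
  (M : Submonoid B) (L : Type*) [CommRing L] [Algebra R L] [Algebra B L]
  [IsScalarTower R B L] [IsLocalization M L]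

/-- The canonical map `B_g → L` for `g ∈ M`. -/
noncomputable def toL (g : B) (hg : g ∈ M) : Localization.Away g →ₐ[R] L :=
  IsLocalization.Away.liftAlgHom (A := R) (S := Localization.Away g) g
    (f := IsScalarTower.toAlgHom R B L) (IsLocalization.map_units L ⟨g, hg⟩)

@[simp]
lemma toL_algebraMap (g : B) (hg : g ∈ M) (b : B) :
    toL (R := R) M L g hg (algebraMap B (Localization.Away g) b) = algebraMap B L b := by
  simp [toL]

/-- The canonical map `B_g → B_{g h}`. -/
noncomputable def trans (g h : B) : Localization.Away g →ₐ[R] Localization.Away (g * h) :=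
  IsLocalization.Away.liftAlgHom (A := R) (S := Localization.Away g) g
    (f := IsScalarTower.toAlgHom R B (Localization.Away (g * h)))
    (IsLocalization.Away.isUnit_of_dvd (g * h) (dvd_mul_right g h))

@[simp]
lemma trans_algebraMap (g h : B) (b : B) :
    trans (R := R) g h (algebraMap B (Localization.Away g) b) =
      algebraMap B (Localization.Away (g * h)) b := by
  simp [trans]

lemma toL_comp_trans (g h : B) (hg : g ∈ M) (hgh : g * h ∈ M) :
    (toL (R := R) M L (g * h) hgh).comp (trans g h) = toL M L g hg := by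
  apply IsLocalization.algHom_ext (Submonoid.powers g)
  ext b
  simp [Algebra.algHom]

lemma toL_trans (g h : B) (hg : g ∈ M) (hgh : g * h ∈ M) (x : Localization.Away g) :
    toL (R := R) M L (g * h) hgh (trans (R := R) g h x) = toL (R := R) M L g hg x :=
  DFunLike.congr_fun (toL_comp_trans M L g h hg hgh) x

/-- Two elements of `B_g` with the same image in `L` become equal after multiplying
with the image of some `t ∈ M`. -/
lemma exists_mul_eq_of_toL_eq (g : B) (hg : g ∈ M) (x y : Localization.Away g)
    (h : toL (R := R) M L g hg x = toL (R := R) M L g hg y) :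
    ∃ t ∈ M, algebraMap B (Localization.Away g) t * x = algebraMap B (Localization.Away g) t * y := by
  let _ : Algebra (Localization.Away g) L := (toL (R := R) M L g hg).toRingHom.toAlgebra
  have : IsScalarTower B (Localization.Away g) L :=
    IsScalarTower.of_algebraMap_eq fun b => (toL_algebraMap (R := R) M L g hg b).symm
  have : IsLocalization (M.map (algebraMap B (Localization.Away g))) L :=
    IsLocalization.isLocalization_of_submonoid_le (Localization.Away g) L (Submonoid.powers g) M
      (Submonoid.powers_le.mpr hg)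
  obtain ⟨⟨_, t, ht, rfl⟩, hc⟩ :=
    (IsLocalization.eq_iff_exists (M.map (algebraMap B (Localization.Away g))) L).mp h
  exact ⟨t, ht, hc⟩

/-- Uniqueness: two maps from a finite type algebra to `B_g` which agree in `L` agree in
some `B_{g t}`, `t ∈ M`. -/
theorem exists_trans_comp_eq {A : Type*} [CommRing A] [Algebra R A] [Algebra.FiniteType R A]
    (g : B) (hg : g ∈ M) (γ₁ γ₂ : A →ₐ[R] Localization.Away g)
    (h : (toL (R := R) M L g hg).comp γ₁ = (toL (R := R) M L g hg).comp γ₂) :
    ∃ t ∈ M, (trans (R := R) g t).comp γ₁ = (trans (R := R) g t).comp γ₂ := by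
  classical
  obtain ⟨s, hs⟩ := Algebra.FiniteType.out (R := R) (A := A)
  have key : ∀ a : A, ∃ t ∈ M, algebraMap B (Localization.Away g) t * γ₁ a =
      algebraMap B (Localization.Away g) t * γ₂ a := fun a =>
    exists_mul_eq_of_toL_eq M L g hg _ _ (DFunLike.congr_fun h a)
  choose t ht htt using key
  refine ⟨∏ a ∈ s, t a, prod_mem (fun a _ => ht a), ?_⟩
  apply AlgHom.ext_of_adjoin_eq_top hs
  intro a ha
  have hu : IsUnit (algebraMap B (Localization.Away (g * ∏ a ∈ s, t a)) (t a)) :=
    IsLocalization.Away.isUnit_of_dvd (g * ∏ a ∈ s, t a)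
      (Dvd.dvd.mul_left (Finset.dvd_prod_of_mem t ha) g)
  have := congrArg (trans (R := R) g (∏ a ∈ s, t a)) (htt a)
  simp only [map_mul, trans_algebraMap] at this
  exact hu.mul_left_cancel this

/-- Existence: a map from a finitely presented algebra to `L` factors through some `B_g`. -/
theorem exists_lift {A : Type*} [CommRing A] [Algebra R A] [Algebra.FinitePresentation R A]
    (ψ : A →ₐ[R] L) :
    ∃ (g : B) (hg : g ∈ M) (ψ' : A →ₐ[R] Localization.Away g),
      (toL (R := R) M L g hg).comp ψ' = ψ := by
  classical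
  obtain ⟨n, π, hπ, s, hs⟩ := Algebra.FinitePresentation.out (R := R) (A := A)
  obtain ⟨m, hm⟩ := IsLocalization.exist_integer_multiples_of_finite M
    (fun i : Fin n => ψ (π (MvPolynomial.X i)))
  choose b hb using hm
  let x : Fin n → Localization.Away (m : B) := fun i =>
    IsLocalization.mk' _ (b i) (⟨(m : B), Submonoid.mem_powers _⟩ : Submonoid.powers (m : B))
  let φ₀ : MvPolynomial (Fin n) R →ₐ[R] Localization.Away (m : B) := MvPolynomial.aeval x
  have hφ₀ : (toL (R := R) M L m m.2).comp φ₀ = ψ.comp π := by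
    apply MvPolynomial.algHom_ext
    intro i
    simp only [AlgHom.comp_apply, φ₀, MvPolynomial.aeval_X]
    have hu : IsUnit (algebraMap B L m) := IsLocalization.map_units L m
    apply hu.mul_left_cancel
    rw [← toL_algebraMap (R := R) M L m m.2 (m : B), ← map_mul]
    have : algebraMap B (Localization.Away (m : B)) m * x i =
        algebraMap B (Localization.Away (m : B)) (b i) := by
      simp only [x]
      rw [mul_comm]
      exact IsLocalization.mk'_spec _ _ _
    rw [this, toL_algebraMap, toL_algebraMap, hb i, Algebra.smul_def]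
  have key : ∀ r : MvPolynomial (Fin n) R, ∃ t ∈ M, r ∈ s →
      algebraMap B (Localization.Away (m : B)) t * φ₀ r = 0 := by
    intro r
    by_cases hr : r ∈ s
    · have h0 : toL (R := R) M L m m.2 (φ₀ r) = toL (R := R) M L m m.2 0 := by
        rw [map_zero, ← AlgHom.comp_apply, hφ₀, AlgHom.comp_apply]
        have : r ∈ RingHom.ker π.toRingHom := hs ▸ Ideal.subset_span hr
        have h1 : π r = 0 := by simpa using this
        rw [h1, map_zero]
      obtain ⟨t, ht, h⟩ := exists_mul_eq_of_toL_eq M L m m.2 _ _ h0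
      exact ⟨t, ht, fun _ => by simpa using h⟩
    · exact ⟨1, M.one_mem, fun h => absurd h hr⟩
  choose t ht htt using key
  let T : B := ∏ r ∈ s, t r
  have hT : T ∈ M := prod_mem (fun r _ => ht r)
  have hgM : (m : B) * T ∈ M := M.mul_mem m.2 hT
  let φ₁ : MvPolynomial (Fin n) R →ₐ[R] Localization.Away ((m : B) * T) :=
    (trans (R := R) (m : B) T).comp φ₀
  have hker : RingHom.ker π.toRingHom ≤ RingHom.ker φ₁.toRingHom := by
    rw [← hs, Ideal.span_le]
    intro r hr
    have hu : IsUnit (algebraMap B (Localization.Away ((m : B) * T)) (t r)) :=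
      IsLocalization.Away.isUnit_of_dvd ((m : B) * T)
        (Dvd.dvd.mul_left (Finset.dvd_prod_of_mem t hr) _)
    have := congrArg (trans (R := R) (m : B) T) (htt r hr)
    simp only [map_mul, trans_algebraMap, map_zero] at this
    have h0 : trans (R := R) (m : B) T (φ₀ r) = 0 := (hu.mul_right_eq_zero).mp this
    simpa [φ₁] using h0
  refine ⟨(m : B) * T, hgM, AlgHom.liftOfSurjective π hπ φ₁ hker, ?_⟩
  apply AlgHom.cancel_right hπ |>.mp
  rw [AlgHom.comp_assoc, AlgHom.liftOfSurjective_comp, ← hφ₀]
  simp only [φ₁]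
  rw [← AlgHom.comp_assoc, toL_comp_trans M L (m : B) T m.2 hgM]

section Main

variable {S : Type*} {S' : Type*} [CommRing S] [CommRing S'] [Algebra R S] [Algebra R S']
  [Algebra.FinitePresentation R S] [Algebra.FinitePresentation R S']
  (N : Submonoid S) (N' : Submonoid S')
  (K : Type*) [CommRing K] [Algebra R K] [Algebra S K] [Algebra S' K]
  [IsScalarTower R S K] [IsScalarTower R S' K] [IsLocalization N K] [IsLocalization N' K]

instance finitePresentation_away (g : S) : Algebra.FinitePresentation R (Localization.Away g) :=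
  haveI := IsLocalization.Away.finitePresentation (S := Localization.Away g) g
  Algebra.FinitePresentation.trans R S (Localization.Away g)

/-- If `K` is at the same time a localization of the finitely presented `R`-algebras `S` and `S'`
(the submonoid `N` of `S` being saturated), then `S_g ≅ S'_{g'}` as `R`-algebras for suitable `g`, `g'`,
compatibly with the maps to `K`. -/
theorem exists_away_algEquiv
    (hN : ∀ s : S, IsUnit (algebraMap S K s) → s ∈ N) :
    ∃ (g : S) (hg : g ∈ N) (g' : S') (hg' : g' ∈ N')
      (e : Localization.Away g ≃ₐ[R] Localization.Away g'),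
      (toL (R := R) N' K g' hg').comp e.toAlgHom = toL (R := R) N K g hg := by
  classical
  -- Step 1
  obtain ⟨g'₁, hg'₁, α₁, hα₁⟩ := exists_lift (R := R) N' K (IsScalarTower.toAlgHom R S K)
  -- Step 2
  obtain ⟨g₁, hg₁, β₁, hβ₁⟩ := exists_lift (R := R) N K (toL (R := R) N' K g'₁ hg'₁)
  -- Step 3
  obtain ⟨h, hh, hβα⟩ := exists_trans_comp_eq (R := R) N K g₁ hg₁ (β₁.comp α₁)
    (IsScalarTower.toAlgHom R S (Localization.Away g₁)) (by
      rw [← AlgHom.comp_assoc, hβ₁, hα₁]
      ext s
      simp)
  have hg₂ : g₁ * h ∈ N := N.mul_mem hg₁ hh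
  set g₂ := g₁ * h with hg₂def
  let β₂ : Localization.Away g'₁ →ₐ[R] Localization.Away g₂ := (trans (R := R) g₁ h).comp β₁
  have F1 : ∀ s : S, β₂ (α₁ s) = algebraMap S (Localization.Away g₂) s := by
    intro s
    have := DFunLike.congr_fun hβα s
    simpa [β₂] using this
  have F2 : ∀ z, toL (R := R) N K g₂ hg₂ (β₂ z) = toL (R := R) N' K g'₁ hg'₁ z := by
    intro z
    simp only [β₂, AlgHom.comp_apply]
    rw [toL_trans N K g₁ h hg₁ hg₂, ← AlgHom.comp_apply, hβ₁]
  -- Step 4
  obtain ⟨g'₂, hg'₂, α₂, hα₂⟩ := exists_lift (R := R) N' K (toL (R := R) N K g₂ hg₂)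
  -- Step 5
  obtain ⟨h', hh', hαβ⟩ := exists_trans_comp_eq (R := R) N' K g'₂ hg'₂
    ((α₂.comp β₂).comp (IsScalarTower.toAlgHom R S' (Localization.Away g'₁)))
    (IsScalarTower.toAlgHom R S' (Localization.Away g'₂)) (by
      rw [← AlgHom.comp_assoc, ← AlgHom.comp_assoc, hα₂]
      ext s
      simp [F2])
  have hg'₃ : g'₂ * h' ∈ N' := N'.mul_mem hg'₂ hh'
  set g'₃ := g'₂ * h' with hg'₃def
  let α₃ : Localization.Away g₂ →ₐ[R] Localization.Away g'₃ := (trans (R := R) g'₂ h').comp α₂
  have F3 : ∀ s' : S', α₃ (β₂ (algebraMap S' (Localization.Away g'₁) s')) =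
      algebraMap S' (Localization.Away g'₃) s' := by
    intro s'
    have := DFunLike.congr_fun hαβ s'
    simpa [α₃] using this
  have F4 : ∀ z, toL (R := R) N' K g'₃ hg'₃ (α₃ z) = toL (R := R) N K g₂ hg₂ z := by
    intro z
    simp only [α₃, AlgHom.comp_apply]
    rw [toL_trans N' K g'₂ h' hg'₂ hg'₃, ← AlgHom.comp_apply, hα₂]
  -- Step 6
  obtain ⟨n, c, hc⟩ := IsLocalization.Away.surj (S := Localization.Away g₂) g₂
    (β₂ (algebraMap S' (Localization.Away g'₁) g'₃))
  have hcN : c ∈ N := by
    apply hN
    have := congrArg (toL (R := R) N K g₂ hg₂) hc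
    rw [map_mul, map_pow, F2, toL_algebraMap, toL_algebraMap, toL_algebraMap] at this
    rw [← this]
    exact (IsLocalization.map_units K ⟨g'₃, hg'₃⟩).mul ((IsLocalization.map_units K ⟨g₂, hg₂⟩).pow n)
  have hg₃ : g₂ * c ∈ N := N.mul_mem hg₂ hcN
  set g₃ := g₂ * c with hg₃def
  let τ : S' →ₐ[R] Localization.Away g₃ :=
    (trans (R := R) g₂ c).comp (β₂.comp (IsScalarTower.toAlgHom R S' (Localization.Away g'₁)))
  have hτ : IsUnit (τ g'₃) := by
    have := congrArg (trans (R := R) g₂ c) hc
    rw [map_mul, map_pow, trans_algebraMap, trans_algebraMap] at this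
    have hu : IsUnit (algebraMap S (Localization.Away g₃) c) :=
      IsLocalization.Away.isUnit_of_dvd g₃ (dvd_mul_left c g₂)
    rw [← this] at hu
    exact isUnit_of_mul_isUnit_left hu
  let β₃ : Localization.Away g'₃ →ₐ[R] Localization.Away g₃ :=
    IsLocalization.Away.liftAlgHom (A := R) (S := Localization.Away g'₃) g'₃ (f := τ) hτ
  let σ : S →ₐ[R] Localization.Away g'₃ :=
    α₃.comp (IsScalarTower.toAlgHom R S (Localization.Away g₂))
  have hσ : IsUnit (σ g₃) := by
    have hu₂ : IsUnit (α₃ (algebraMap S (Localization.Away g₂) g₂)) :=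
      (IsLocalization.Away.algebraMap_isUnit (S := Localization.Away g₂) g₂).map α₃
    have := congrArg α₃ hc
    rw [map_mul, map_pow, F3] at this
    have hu₃ : IsUnit (α₃ (algebraMap S (Localization.Away g₂) c)) := by
      rw [← this]
      exact (IsLocalization.Away.algebraMap_isUnit (S := Localization.Away g'₃) g'₃).mul (hu₂.pow n)
    simp only [σ, AlgHom.comp_apply, IsScalarTower.coe_toAlgHom', hg₃def, map_mul]
    exact hu₂.mul hu₃
  let α₄ : Localization.Away g₃ →ₐ[R] Localization.Away g'₃ :=
    IsLocalization.Away.liftAlgHom (A := R) (S := Localization.Away g₃) g₃ (f := σ) hσ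
  have hα₄ : ∀ s : S, α₄ (algebraMap S (Localization.Away g₃) s) = σ s := by
    intro s
    simp [α₄]
  have hβ₃ : ∀ s' : S', β₃ (algebraMap S' (Localization.Away g'₃) s') = τ s' := by
    intro s'
    simp [β₃]
  -- auxiliary identities
  have hρ : ∀ z : Localization.Away g'₁, β₃ (α₃ (β₂ z)) = trans (R := R) g₂ c (β₂ z) := by
    intro z
    have : ((β₃.comp α₃).comp β₂) = (trans (R := R) g₂ c).comp β₂ := by
      apply IsLocalization.algHom_ext (Submonoid.powers g'₁)
      ext s'
      simp only [AlgHom.comp_apply, Algebra.algHom, F3, hβ₃, τ, IsScalarTower.coe_toAlgHom']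
    exact DFunLike.congr_fun this z
  have hα₄t : ∀ z : Localization.Away g₂, α₄ (trans (R := R) g₂ c z) = α₃ z := by
    intro z
    have : α₄.comp (trans (R := R) g₂ c) = α₃ := by
      apply IsLocalization.algHom_ext (Submonoid.powers g₂)
      ext s
      simp only [AlgHom.comp_apply, Algebra.algHom, IsScalarTower.coe_toAlgHom']
      rw [trans_algebraMap, hα₄]
      simp only [σ, AlgHom.comp_apply, IsScalarTower.coe_toAlgHom']
    exact DFunLike.congr_fun this z
  have h1 : β₃.comp α₄ = AlgHom.id R _ := by
    apply IsLocalization.algHom_ext (Submonoid.powers g₃)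
    ext s
    simp only [AlgHom.comp_apply, Algebra.algHom, hα₄, σ, IsScalarTower.coe_toAlgHom',
      AlgHom.id_apply]
    rw [← F1 s, hρ, F1, trans_algebraMap]
  have h2 : α₄.comp β₃ = AlgHom.id R _ := by
    apply IsLocalization.algHom_ext (Submonoid.powers g'₃)
    ext s'
    simp only [AlgHom.comp_apply, Algebra.algHom, hβ₃, τ, IsScalarTower.coe_toAlgHom',
      AlgHom.id_apply]
    rw [hα₄t, F3]
  refine ⟨g₃, hg₃, g'₃, hg'₃, AlgEquiv.ofAlgHom α₄ β₃ h2 h1, ?_⟩
  apply IsLocalization.algHom_ext (Submonoid.powers g₃)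
  ext s
  simp only [AlgHom.comp_apply, Algebra.algHom, IsScalarTower.coe_toAlgHom']
  change toL (R := R) N' K g'₃ hg'₃ (α₄ (algebraMap S (Localization.Away g₃) s)) = _
  rw [hα₄]
  simp only [σ, AlgHom.comp_apply, IsScalarTower.coe_toAlgHom', F4, toL_algebraMap]

end Main

end Groth.Agent.Lib.H77SpreadIso
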