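import Groth.Agent.Lib.StabRel45
import Groth.Agent.Lib.GrpReduced38
import Mathlib.AlgebraicGeometry.Fiber
import Mathlib.AlgebraicGeometry.Morphisms.FormallyUnramified
import Mathlib.AlgebraicGeometry.Morphisms.Etale
import Mathlib.AlgebraicGeometry.Morphisms.UniversallyInjective
import Mathlib.RingTheory.Unramified.Field

/-!
# Fibres of the stabilizer group scheme over a field (helper45)

`k` a field, `G` a group scheme acting on `X`, both locally of finite type over `k`, and
`π : St ⟶ X` the stabilizer (`Lib/StabRel45`).

* `isReduced_fiber_of_charZero`: in characteristic zero every fibre of `π` is reduced (Cartier's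
  theorem of helper38 applied to the fibre, a group scheme over `κ(x)`).
* `isReduced_fiber_of_etale`: the same if `G` is étale over `k` and `X` is separated.
* `isIso_fiberToSpecResidueField`: if `π` is universally injective and the fibre over `x` is reduced
  then the fibre is `Spec κ(x)`.
-/

set_option autoImplicit false
set_option linter.unusedSectionVars false
universe u
open CategoryTheory CategoryTheory.Limits MonoidalCategory CartesianMonoidalCategory MonObj GrpObj
  AlgebraicGeometry Opposite

namespace Groth.Agent.Lib.StabFibre45
open Groth.Agent.Lib.StabRel45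

section general

/-- A scheme formally unramified and locally of finite type over a field is reduced. -/
theorem isReduced_of_formallyUnramified {Z : Scheme.{u}} {K : Type u} [Field K]
    (q : Z ⟶ Spec (CommRingCat.of K)) [FormallyUnramified q] [LocallyOfFiniteType q] :
    IsReduced Z := by
  have : ∀ i, IsReduced (Z.affineCover.X i) := by
    intro i
    have h0 : FormallyUnramified (Z.affineCover.f i) := inferInstance
    have h1 : FormallyUnramified (Z.affineCover.f i ≫ q) :=
      MorphismProperty.comp_mem _ _ _ h0 ‹_›
    have h2 : LocallyOfFiniteType (Z.affineCover.f i ≫ q) := inferInstance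
    let e := (Z.affineCover.X i).isoSpec
    let φ : CommRingCat.of K ⟶ Γ(Z.affineCover.X i, ⊤) :=
      Spec.preimage (e.inv ≫ Z.affineCover.f i ≫ q)
    have hφ : Spec.map φ = e.inv ≫ Z.affineCover.f i ≫ q := Spec.map_preimage _
    have h1' : FormallyUnramified (Spec.map φ) := by
      rw [hφ]
      have h00 : FormallyUnramified e.inv := inferInstance
      exact MorphismProperty.comp_mem _ _ _ h00 h1
    have h2' : LocallyOfFiniteType (Spec.map φ) := by rw [hφ]; infer_instance
    rw [HasRingHomProperty.Spec_iff (P := @FormallyUnramified)] at h1'
    rw [HasRingHomProperty.Spec_iff (P := @LocallyOfFiniteType)] at h2'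
    let _ : Algebra K Γ(Z.affineCover.X i, ⊤) := φ.hom.toAlgebra
    have h3 : Algebra.FormallyUnramified K Γ(Z.affineCover.X i, ⊤) := h1'
    have h4 : Algebra.FiniteType K Γ(Z.affineCover.X i, ⊤) := h2'
    have h5 : _root_.IsReduced Γ(Z.affineCover.X i, ⊤) :=
      Algebra.FormallyUnramified.isReduced_of_field K _
    exact isReduced_of_isAffine_isReduced _
  exact IsReduced.of_openCover Z Z.affineCover

/-- A reduced scheme over a field `K`, injective over `Spec K` and with a section, is `Spec K`. -/
theorem isIso_of_isReduced_of_section {Z : Scheme.{u}} {K : Type u} [Field K]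
    (q : Z ⟶ Spec (CommRingCat.of K)) [IsReduced Z] (hinj : Function.Injective q)
    (s : Spec (CommRingCat.of K) ⟶ Z) (hs : s ≫ q = 𝟙 _) : IsIso q := by
  have hsub : Subsingleton Z := hinj.subsingleton
  have hcl : IsClosedImmersion s := isClosedImmersion_of_comp_eq_id q s hs
  have hsurj : Surjective s := ⟨fun z => ⟨IsLocalRing.closedPoint K, Subsingleton.elim _ _⟩⟩
  have hiso : IsIso s := isIso_of_isClosedImmersion_of_surjective s
  have : q = inv s := by
    rw [← cancel_epi s, hs, IsIso.hom_inv_id]
  rw [this]
  infer_instance

end general

variable {k : Type u} [Field k] {G X : Over (Spec (CommRingCat.of k))} [GrpObj G]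
  [LocallyOfFiniteType G.hom] [LocallyOfFiniteType X.hom] (a : AlgGrp.Action G X)

theorem lft_Psi : LocallyOfFiniteType (Psi a) := by
  have h1 : LocallyOfFiniteType (G ⊗ X).hom := by
    have : (G ⊗ X).hom = pullback.fst G.hom X.hom ≫ G.hom := rfl
    rw [this]; infer_instance
  have h2 : Psi a ≫ (X ⊗ X).hom = (G ⊗ X).hom := Over.w (GIT.psi a (𝟙 X))
  rw [← h2] at h1
  exact locallyOfFiniteType_of_comp (Psi a) (X ⊗ X).hom

theorem lft_stab : LocallyOfFiniteType (pullback.snd (Psi a) (Dg (X := X))) := by
  have := lft_Psi a
  infer_instance

/-- **Cartier**: in characteristic zero the fibres of the stabilizer are reduced. -/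
theorem isReduced_fiber_of_charZero [CharZero k] (x : X.left) :
    IsReduced ((pullback.snd (Psi a) (Dg (X := X))).fiber x) := by
  let L : Type u := X.left.residueField x
  have hlft := lft_stab a
  let φ : CommRingCat.of k ⟶ X.left.residueField x :=
    Spec.preimage (X.left.fromSpecResidueField x ≫ X.hom)
  have hchar : CharZero L := charZero_of_injective_ringHom (f := φ.hom) φ.hom.injective
  let _ : GrpObj (Over.mk (pullback.snd (Psi a) (Dg (X := X)))) := stabGrpObj a
  let H : Over (Spec (CommRingCat.of L)) :=
    Over.mk ((pullback.snd (Psi a) (Dg (X := X))).fiberToSpecResidueField x)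
  let _ : GrpObj H := Over.grpObjMkPullbackSnd (f := pullback.snd (Psi a) (Dg (X := X)))
    (g := X.left.fromSpecResidueField x)
  have hH : LocallyOfFiniteType H.hom :=
    inferInstanceAs (LocallyOfFiniteType (pullback.snd (pullback.snd (Psi a) (Dg (X := X)))
      (X.left.fromSpecResidueField x)))
  exact Groth.Agent.Lib.GrpReduced38.isReduced_of_charZero H

/-- If `G` is étale and `X` separated, the fibres of the stabilizer are reduced. -/
theorem isReduced_fiber_of_etale [Etale G.hom] [IsSeparated X.hom] (x : X.left) :
    IsReduced ((pullback.snd (Psi a) (Dg (X := X))).fiber x) := by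
  have hlft := lft_stab a
  have hΔ : IsClosedImmersion (Dg (X := X)) :=
    inferInstanceAs (IsClosedImmersion (pullback.diagonal X.hom))
  have h1 : IsClosedImmersion (pullback.fst (Psi a) (Dg (X := X))) := inferInstance
  have h2 : Etale (snd G X).left := inferInstanceAs (Etale (pullback.snd G.hom X.hom))
  have h3 : FormallyUnramified (pullback.snd (Psi a) (Dg (X := X))) := by
    rw [← fst_snd a]
    have h10 : FormallyUnramified (pullback.fst (Psi a) (Dg (X := X))) := inferInstance
    have h20 : FormallyUnramified (snd G X).left := inferInstance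
    exact MorphismProperty.comp_mem _ _ _ h10 h20
  let L : Type u := X.left.residueField x
  let q : (pullback.snd (Psi a) (Dg (X := X))).fiber x ⟶ Spec (CommRingCat.of L) :=
    (pullback.snd (Psi a) (Dg (X := X))).fiberToSpecResidueField x
  have h4 : FormallyUnramified q :=
    MorphismProperty.of_isPullback (P := @FormallyUnramified)
      (IsPullback.of_hasPullback (pullback.snd (Psi a) (Dg (X := X)))
        (X.left.fromSpecResidueField x)) h3
  have h5 : LocallyOfFiniteType q :=
    inferInstanceAs (LocallyOfFiniteType (pullback.snd (pullback.snd (Psi a) (Dg (X := X)))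
      (X.left.fromSpecResidueField x)))
  exact isReduced_of_formallyUnramified q

/-- A reduced fibre of a universally injective stabilizer is trivial. -/
theorem isIso_fiberToSpecResidueField
    [UniversallyInjective (pullback.snd (Psi a) (Dg (X := X)))] (x : X.left)
    [IsReduced ((pullback.snd (Psi a) (Dg (X := X))).fiber x)] :
    IsIso ((pullback.snd (Psi a) (Dg (X := X))).fiberToSpecResidueField x) := by
  let L : Type u := X.left.residueField x
  let _ : GrpObj (Over.mk (pullback.snd (Psi a) (Dg (X := X)))) := stabGrpObj a
  let H : Over (Spec (CommRingCat.of L)) :=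
    Over.mk ((pullback.snd (Psi a) (Dg (X := X))).fiberToSpecResidueField x)
  let _ : GrpObj H := Over.grpObjMkPullbackSnd (f := pullback.snd (Psi a) (Dg (X := X)))
    (g := X.left.fromSpecResidueField x)
  have hui : UniversallyInjective H.hom :=
    MorphismProperty.of_isPullback (P := @UniversallyInjective)
      (IsPullback.of_hasPullback (pullback.snd (Psi a) (Dg (X := X)))
        (X.left.fromSpecResidueField x)) ‹_›
  have hred : IsReduced H.left := ‹_›
  have hs : η[H].left ≫ H.hom = 𝟙 _ := Over.w η[H]
  exact isIso_of_isReduced_of_section H.hom H.hom.injective η[H].left hs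

end Groth.Agent.Lib.StabFibre45
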