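import Groth.Agent.Lib.StabRel45
import Groth.Agent.Lib.StabFibre45
import Groth.Agent.Lib.H71GrpDim
import Groth.Prelude.Def_GLinSh

/-!
# The stabiliser of a point is the fibre of the relative stabiliser (helper77)

For an action `a` of `G` on `X` over `S` and a `T`-point `f : T ⟶ X`, the stabiliser
`GLinSh.stab a f` (fibre of the orbit map `ψ_f` over `(f, 1)`) is the base change along `f` of the
relative stabiliser `St ⟶ X` of helper45 (`Lib/StabRel45`): `isPullback_stab`.
Consequently (`isClosed_le_dim_stab`) the stabiliser dimension is upper semicontinuous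
(helper71's `H71GrpDim.isClosed_le_dim_fiber` applied to the group scheme `St ⟶ X`).
-/

set_option autoImplicit false
universe u
open CategoryTheory CategoryTheory.Limits MonoidalCategory CartesianMonoidalCategory MonObj GrpObj
  AlgebraicGeometry Opposite

namespace Groth.Agent.Lib.H77StabFibre
open Groth.Agent.Lib.StabRel45

variable {S : Scheme.{u}} {G X : Over S} [GrpObj G] (a : AlgGrp.Action G X) {T : Over S} (f : T ⟶ X)

omit [GrpObj G] in
/-- `Y × T = (Y × X) ×_X T`. -/
lemma isPullback_whiskerLeft_snd (Y : Over S) :
    IsPullback (Y ◁ f).left (snd Y T).left (snd Y X).left f.left := by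
  have hbig : IsPullback (fst Y T).left (snd Y T).left Y.hom T.hom := IsPullback.of_hasPullback _ _
  have hright : IsPullback (fst Y X).left (snd Y X).left Y.hom X.hom :=
    IsPullback.of_hasPullback _ _
  have e1 : (Y ◁ f).left ≫ (fst Y X).left = (fst Y T).left := by
    rw [← Over.comp_left, whiskerLeft_fst]
  have e2 : f.left ≫ X.hom = T.hom := Over.w f
  have comm : (Y ◁ f).left ≫ (snd Y X).left = (snd Y T).left ≫ f.left := by
    rw [← Over.comp_left, ← Over.comp_left, whiskerLeft_snd]
  refine IsPullback.of_right ?_ comm hright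
  rw [e1, e2]
  exact hbig

lemma psi_snd : (GIT.psi a f).left ≫ (snd X T).left = (snd G T).left := by
  rw [← Over.comp_left]
  unfold GIT.psi
  rw [lift_snd]

lemma whiskerLeft_psi : (G ◁ f) ≫ GIT.psi a (𝟙 X) = GIT.psi a f ≫ (X ◁ f) := by
  unfold GIT.psi
  apply CartesianMonoidalCategory.hom_ext
  · simp only [Category.assoc, lift_fst, whiskerLeft_fst, whiskerLeft_id, Category.id_comp]
  · simp only [Category.assoc, lift_snd, whiskerLeft_snd, lift_snd_assoc]

/-- The square `G × T ⟶ G × X`, `X × T ⟶ X × X` over the orbit maps is cartesian. -/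
lemma isPullback_psi :
    IsPullback (G ◁ f).left (GIT.psi a f).left (Psi a) (X ◁ f).left := by
  have comm : (G ◁ f).left ≫ Psi a = (GIT.psi a f).left ≫ (X ◁ f).left := by
    rw [← Over.comp_left, ← Over.comp_left, whiskerLeft_psi]
  refine IsPullback.of_bot ?_ comm (isPullback_whiskerLeft_snd f X)
  rw [psi_snd, Psi_snd]
  exact isPullback_whiskerLeft_snd f G

omit [GrpObj G] in
lemma graph_whiskerLeft : (lift f (𝟙 T)).left ≫ (X ◁ f).left = f.left ≫ Dg (X := X) := by
  rw [← Over.comp_left, ← Over.comp_left]
  congr 1
  apply CartesianMonoidalCategory.hom_ext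
  · simp only [Category.assoc, lift_fst, whiskerLeft_fst, comp_lift, Category.comp_id]
  · simp only [Category.assoc, lift_snd, whiskerLeft_snd, comp_lift, Category.comp_id,
      Category.id_comp, lift_snd_assoc]

/-- The projection of the stabiliser of `f` to `G × T`. -/
noncomputable def stabFst : GLinSh.stab a f ⟶ (G ⊗ T).left :=
  pullback.fst (GIT.psi a f).left (lift f (𝟙 T)).left

lemma stabFst_cond :
    stabFst a f ≫ (GIT.psi a f).left = GLinSh.stabTo a f ≫ (lift f (𝟙 T)).left :=
  pullback.condition

lemma isPullback_stabFst :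
    IsPullback (stabFst a f) (GLinSh.stabTo a f) (GIT.psi a f).left (lift f (𝟙 T)).left :=
  IsPullback.of_hasPullback _ _

/-- The comparison map from the stabiliser of `f` to the relative stabiliser. -/
noncomputable def toSt : GLinSh.stab a f ⟶ (stab a).left :=
  pullback.lift (stabFst a f ≫ (G ◁ f).left) (GLinSh.stabTo a f ≫ f.left) (by
      have comm : (G ◁ f).left ≫ Psi a = (GIT.psi a f).left ≫ (X ◁ f).left := by
        rw [← Over.comp_left, ← Over.comp_left, whiskerLeft_psi]
      rw [Category.assoc, comm, reassoc_of% (stabFst_cond a f), graph_whiskerLeft,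
        Category.assoc])

lemma toSt_fst : toSt a f ≫ pullback.fst (Psi a) (Dg (X := X)) =
    stabFst a f ≫ (G ◁ f).left :=
  pullback.lift_fst _ _ _

lemma toSt_snd : toSt a f ≫ pullback.snd (Psi a) (Dg (X := X)) = GLinSh.stabTo a f ≫ f.left :=
  pullback.lift_snd _ _ _

/-- **The stabiliser of the point `f` is the base change along `f` of the relative stabiliser.** -/
theorem isPullback_stab :
    IsPullback (toSt a f) (GLinSh.stabTo a f) (pullback.snd (Psi a) (Dg (X := X))) f.left := by
  have h43 := (isPullback_stabFst a f).paste_horiz (isPullback_psi a f)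
  have h5 : IsPullback (pullback.fst (Psi a) (Dg (X := X))) (pullback.snd (Psi a) (Dg (X := X)))
      (Psi a) (Dg (X := X)) := IsPullback.of_hasPullback _ _
  refine IsPullback.of_right ?_ (toSt_snd a f) h5
  rw [toSt_fst, ← graph_whiskerLeft]
  exact h43

/-- The stabiliser of `f` as the scheme-theoretic pullback. -/
noncomputable def stabIso :
    GLinSh.stab a f ≅ pullback (pullback.snd (Psi a) (Dg (X := X))) f.left :=
  (isPullback_stab a f).isoPullback

theorem topologicalKrullDim_stab :
    topologicalKrullDim (GLinSh.stab a f) =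
      topologicalKrullDim ↥(pullback (pullback.snd (Psi a) (Dg (X := X))) f.left) :=
  (Scheme.homeoOfIso (stabIso a f)).isHomeomorph.topologicalKrullDim_eq

end Groth.Agent.Lib.H77StabFibre
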