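import Groth.Prelude.Def_AlgSt4

/-!
# helper78: field-valued points of categories fibred in groupoids over `Sch/S`
(namespace `Groth.Agent.Lib.H78AlgStPoints`)

* `exists_common`: two field-valued points mapping to a common one are dominated by a common one
  (amalgamation of fields + strongly cartesian morphisms).
* `rel_equivalence`: `AlgSt.FPt.Rel` is an equivalence relation for categories fibred in groupoids.
* `mk_eq_mk_iff`: equality in `AlgSt.Points` is `FPt.Rel`.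
-/

set_option autoImplicit false
universe w v u
open CategoryTheory AlgebraicGeometry
open AlgSt

namespace Groth.Agent.Lib.H78AlgStPoints

variable {S : Scheme.{u}} {𝒳 : BasedCategory.{v, w} (Over S)}

/-- Two field-valued points with morphisms to a common third one are dominated by a common field-valued point,
compatibly. -/
theorem exists_common (h𝒳 : FibCat.IsFibGrpd 𝒳.p) (r r' q : FPt 𝒳) (b : r.obj ⟶ q.obj)
    (c : r'.obj ⟶ q.obj) :
    ∃ (y : FPt 𝒳) (χ₁ : y.obj ⟶ r.obj) (χ₂ : y.obj ⟶ r'.obj), χ₁ ≫ b = χ₂ ≫ c := by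
  let eR : 𝒳.p.obj r.obj ≅ Over.mk r.str := eqToIso r.lies
  let eR' : 𝒳.p.obj r'.obj ≅ Over.mk r'.str := eqToIso r'.lies
  let eQ : 𝒳.p.obj q.obj ≅ Over.mk q.str := eqToIso q.lies
  let β : Over.mk r.str ⟶ Over.mk q.str := eR.inv ≫ 𝒳.p.map b ≫ eQ.hom
  let γ : Over.mk r'.str ⟶ Over.mk q.str := eR'.inv ≫ 𝒳.p.map c ≫ eQ.hom
  obtain ⟨Ω, _, i₁, i₂, hi⟩ :=
    AlgSp.FieldPt.exists_amalgamation (Spec.preimage β.left).hom (Spec.preimage γ.left).hom
  have hL : Spec.map (CommRingCat.ofHom i₁) ≫ β.left = Spec.map (CommRingCat.ofHom i₂) ≫ γ.left := by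
    conv_lhs => rw [← Spec.map_preimage β.left]
    conv_rhs => rw [← Spec.map_preimage γ.left]
    rw [← Spec.map_comp, ← Spec.map_comp]
    congr 1
    exact CommRingCat.hom_ext hi
  let w : Spec (CommRingCat.of Ω) ⟶ S := Spec.map (CommRingCat.ofHom i₁) ≫ r.str
  let d₁ : Over.mk w ⟶ Over.mk r.str := Over.homMk (Spec.map (CommRingCat.ofHom i₁)) rfl
  have e₁ : β.left ≫ q.str = r.str := Over.w β
  have e₂ : γ.left ≫ q.str = r'.str := Over.w γ
  have hw : Spec.map (CommRingCat.ofHom i₂) ≫ r'.str = w := by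
    change _ = Spec.map (CommRingCat.ofHom i₁) ≫ r.str
    rw [← e₁, ← e₂, ← Category.assoc, ← Category.assoc, hL]
  let d₂ : Over.mk w ⟶ Over.mk r'.str := Over.homMk (Spec.map (CommRingCat.ofHom i₂)) hw
  have hd : d₁ ≫ β = d₂ ≫ γ := Over.OverMorphism.ext (by simpa [d₁, d₂] using hL)
  let g₁ : Over.mk w ⟶ 𝒳.p.obj r.obj := d₁ ≫ eR.inv
  let g₂ : Over.mk w ⟶ 𝒳.p.obj r'.obj := d₂ ≫ eR'.inv
  have hg : g₁ ≫ 𝒳.p.map b = g₂ ≫ 𝒳.p.map c := by
    rw [← cancel_mono eQ.hom]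
    simpa [g₁, g₂, β, γ] using hd
  obtain ⟨y, ψ, hψ⟩ := h𝒳.exists_lift (g₁ ≫ 𝒳.p.map b)
  have := h𝒳.isStronglyCartesian b
  have := h𝒳.isStronglyCartesian c
  let χ₁ : y ⟶ r.obj := Functor.IsStronglyCartesian.map 𝒳.p (𝒳.p.map b) b
    (g := g₁) (f' := g₁ ≫ 𝒳.p.map b) rfl ψ
  let χ₂ : y ⟶ r'.obj := Functor.IsStronglyCartesian.map 𝒳.p (𝒳.p.map c) c
    (g := g₂) (f' := g₁ ≫ 𝒳.p.map b) hg ψ
  refine ⟨⟨Ω, w, y, IsHomLift.domain_eq 𝒳.p (g₁ ≫ 𝒳.p.map b) ψ⟩, χ₁, χ₂, ?_⟩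
  rw [Functor.IsStronglyCartesian.fac, Functor.IsStronglyCartesian.fac]

/-- For a category fibred in groupoids, the relation on field-valued points is an equivalence relation. -/
theorem rel_equivalence (h𝒳 : FibCat.IsFibGrpd 𝒳.p) : _root_.Equivalence (@AlgSt.FPt.Rel S 𝒳) where
  refl p := ⟨p, 𝟙 _, 𝟙 _, trivial⟩
  symm := by
    rintro p q ⟨r, a, b, -⟩
    exact ⟨r, b, a, trivial⟩
  trans := by
    rintro p q s ⟨r, a, b, -⟩ ⟨r', c, d, -⟩
    obtain ⟨y, χ₁, χ₂, -⟩ := exists_common h𝒳 r r' q b c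
    exact ⟨y, χ₁ ≫ a, χ₂ ≫ d, trivial⟩

/-- Equality of points is the relation on field-valued points. -/
theorem mk_eq_mk_iff (h𝒳 : FibCat.IsFibGrpd 𝒳.p) {p q : FPt 𝒳} :
    Points.mk p = Points.mk q ↔ FPt.Rel p q := by
  constructor
  · intro h
    have := Quot.eqvGen_exact h
    exact (rel_equivalence h𝒳).eqvGen_iff.1 this
  · exact Points.sound

end Groth.Agent.Lib.H78AlgStPoints
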