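import Groth.Agent.Lib.H78SepCover
import Groth.Agent.Lib.H78Atlas
import Groth.Agent.S2327
import Groth.Prelude.Def_LCI2

/-!
# helper78: a scheme covered by affine opens `X_s` is separated (namespace `Groth.Agent.Lib.H78AmpleSep`)

* `exists_mul_pow`: for two sections `s, t` of the same module with `X_s` affine, every function on
  `X_s ∩ X_t` is `b| * d| ^ k` with `b` a function on `X_s` and `d` one on `X_t`.
* `isSeparated_of_genLocus_cover`: if every point lies in an affine `X_s`, `s` a section of a positive power of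
  the invertible module `L`, then `X` is separated (EGA II 4.5.x).
* `isSeparated_of_isAmple`, `isSeparated_of_isRelAmple`.
-/

set_option autoImplicit false
universe u
open CategoryTheory CategoryTheory.Limits AlgebraicGeometry MonoidalCategory Opposite TopologicalSpace
open Groth.Agent.Lib.H90Invertible Groth.Agent.Lib.StructureModule Groth.Agent.Lib.H78TensorGen
open Groth.Agent.Lib.H78SecCoord Groth.Agent.Lib.H78Atlas

namespace Groth.Agent.Lib.H78AmpleSep

variable {X : Scheme.{u}} {P : X.Modules}

/-- for two sections `s, t` of the same module with `X_s` affine, every function on `X_s ∩ X_t` is of the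
form `b| * d| ^ k`, `b` a function on `X_s` and `d` a function on `X_t` -/
theorem exists_mul_pow (s t : Coh.structureModule X ⟶ P) (hs : IsAffineOpen (CohB1.genLocus P s))
    (z : Γ(X, CohB1.genLocus P s ⊓ CohB1.genLocus P t)) :
    ∃ (b : Γ(X, CohB1.genLocus P s)) (d : Γ(X, CohB1.genLocus P t)) (k : ℕ),
      z = rf inf_le_left b * rf inf_le_right d ^ k := by
  have hσ := isGen_genLocus s
  have hτ := isGen_genLocus t
  obtain ⟨c, hcdef⟩ : ∃ c : Γ(X, CohB1.genLocus P s), c = coord hσ le_rfl (rs P le_top (sec t)) := ⟨_, rfl⟩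
  obtain ⟨d, hddef⟩ : ∃ d : Γ(X, CohB1.genLocus P t), d = coord hτ le_rfl (rs P le_top (sec s)) := ⟨_, rfl⟩
  have hc : CohB1.genLocus P s ⊓ CohB1.genLocus P t = X.basicOpen c := by
    rw [hcdef, ← genLocus_inf_eq hσ t, inf_comm]
  -- `c| * d| = 1` on the intersection
  have hcd : rf (inf_le_left : CohB1.genLocus P s ⊓ CohB1.genLocus P t ≤ _) c *
      rf (inf_le_right : CohB1.genLocus P s ⊓ CohB1.genLocus P t ≤ _) d = 1 := by
    have e1 := congrArg (rs P (inf_le_left : CohB1.genLocus P s ⊓ CohB1.genLocus P t ≤ _))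
      (coord_spec hσ le_rfl (rs P le_top (sec t)))
    have e2 := congrArg (rs P (inf_le_right : CohB1.genLocus P s ⊓ CohB1.genLocus P t ≤ _))
      (coord_spec hτ le_rfl (rs P le_top (sec s)))
    rw [← hcdef] at e1
    rw [← hddef] at e2
    simp only [rs_smul, rs_rs] at e1 e2
    apply (hσ _ inf_le_left).1
    change (_ * _) • rs P _ (rs P _ _) = (1 : Γ(X, _)) • rs P _ (rs P _ _)
    simp only [rs_rs]
    rw [one_smul, mul_comm, mul_smul, e1, e2]
  letI alg : Algebra Γ(X, CohB1.genLocus P s) Γ(X, CohB1.genLocus P s ⊓ CohB1.genLocus P t) :=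
    (X.presheaf.map (homOfLE (inf_le_left : CohB1.genLocus P s ⊓ CohB1.genLocus P t ≤ _)).op).hom.toAlgebra
  haveI : IsLocalization.Away c Γ(X, CohB1.genLocus P s ⊓ CohB1.genLocus P t) :=
    hs.isLocalization_of_eq_basicOpen c (homOfLE inf_le_left) hc
  obtain ⟨n, a, hna⟩ := IsLocalization.Away.surj c z
  refine ⟨a, d, n, ?_⟩
  have h1 : algebraMap Γ(X, CohB1.genLocus P s) Γ(X, CohB1.genLocus P s ⊓ CohB1.genLocus P t) c =
      rf inf_le_left c := rfl
  have h2 : algebraMap Γ(X, CohB1.genLocus P s) Γ(X, CohB1.genLocus P s ⊓ CohB1.genLocus P t) a =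
      rf inf_le_left a := rfl
  rw [h1, h2] at hna
  rw [← hna, mul_assoc, ← mul_pow, hcd, one_pow, mul_one]

/-- transported form of `exists_mul_pow`, as membership in a subring closure -/
theorem mem_closure_of_eq {U U' : X.Opens} (s t : Coh.structureModule X ⟶ P)
    (hU : CohB1.genLocus P s = U) (hU' : CohB1.genLocus P t = U') (hs : IsAffineOpen U)
    (z : Γ(X, U ⊓ U')) :
    z ∈ Subring.closure
      (Set.range (X.presheaf.map (homOfLE (inf_le_left : U ⊓ U' ≤ U)).op).hom ∪
        Set.range (X.presheaf.map (homOfLE (inf_le_right : U ⊓ U' ≤ U')).op).hom) := by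
  subst hU hU'
  obtain ⟨b, d, k, rfl⟩ := exists_mul_pow s t hs z
  apply Subring.mul_mem
  · apply Subring.subset_closure
    exact Or.inl ⟨b, rfl⟩
  · apply Subring.pow_mem
    apply Subring.subset_closure
    exact Or.inr ⟨d, rfl⟩

/-- **a scheme covered by affine opens `X_s`, `s` sections of positive powers of an invertible module, is
separated** -/
theorem isSeparated_of_genLocus_cover {L : X.Modules} (hL : PicF.IsInvertible L)
    (h : ∀ x : X, ∃ (n : ℕ) (s : Coh.structureModule X ⟶ CohB1.tensorPow L (n + 1)),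
      x ∈ CohB1.genLocus _ s ∧ IsAffineOpen (CohB1.genLocus _ s)) :
    X.IsSeparated := by
  choose n s hx haff using h
  obtain ⟨V, hxV, -, ⟨A⟩⟩ := exists_atlas hL
  have hV := iSup_eq_top_of_mem hxV
  refine ⟨H78SepCover.isSeparated_of_cover (terminal.from X)
    (fun x : X => CohB1.genLocus _ (s x)) ?_ haff (fun x y => ?_) (fun x y z => ?_)⟩
  · exact iSup_eq_top_of_mem hx
  · exact isAffineOpen_genLocus_inf (isInvertible_tensorPow hL _) (s x) (haff y)
  · obtain ⟨s', hs'⟩ := Groth.Agent.S2327.transfer hV (A.pow (n x + 1))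
      (A.pow ((n x + 1) * (n y + 1))) (n y + 1) (Nat.succ_pos _) (by
        intro i j
        rw [Atlas.pow_trans, Atlas.pow_trans, ← pow_mul]) (s x)
    obtain ⟨t', ht'⟩ := Groth.Agent.S2327.transfer hV (A.pow (n y + 1))
      (A.pow ((n x + 1) * (n y + 1))) (n x + 1) (Nat.succ_pos _) (by
        intro i j
        rw [Atlas.pow_trans, Atlas.pow_trans, ← pow_mul, mul_comm]) (s y)
    exact mem_closure_of_eq s' t' hs' ht' (haff x) z

/-- a scheme carrying an ample invertible module is separated -/
theorem isSeparated_of_isAmple {L : X.Modules} (hL : CohB1.IsAmple L) : X.IsSeparated :=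
  isSeparated_of_genLocus_cover hL.1 hL.2.2

/-- a morphism carrying a relatively ample module is separated -/
theorem isSeparated_of_isRelAmple {S : Scheme.{u}} (f : X ⟶ S) {L : X.Modules}
    (hL : RelAmple.IsRelAmple f L) : IsSeparated f :=
  (HasAffineProperty.iff_of_iSup_eq_top (P := @IsSeparated) _ (iSup_affineOpens_eq_top S)).2
    (fun V => isSeparated_of_isAmple (hL.2 V))

end Groth.Agent.Lib.H78AmpleSep
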