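import Groth.Agent.Lib.H78LocalAmple
import Groth.Agent.Lib.H78AmpleSep
import Groth.Agent.Lib.H78PullSec
import Groth.Agent.Lib.H90InvertiblePullback
import Groth.Agent.Lib.H78QAffine
import Groth.Prelude.Def_MoreMor
import Groth.Prelude.Def_Mor2

/-!
# helper78: ample families of invertible modules (namespace `Groth.Agent.Lib.H78AmpleFamily`)

* `quasiSeparatedSpace_of_hasAmpleFamily`, `isInvertible_of_isRelAmple`.
* `hasAmpleFamily_of_isRelAmple` (= S1499): if `Y` has an ample family and `L` is `f`-ample for `f : X ⟶ Y`, then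
  `X` has an ample family.
* `isRelAmple_structureModule_of_isQuasiAffine`, `hasAmpleFamily_of_isQuasiAffine` (= S7184).
-/

set_option autoImplicit false
universe u
open CategoryTheory CategoryTheory.Limits AlgebraicGeometry MonoidalCategory Opposite TopologicalSpace
open Groth.Agent.Lib.H90Invertible Groth.Agent.Lib.StructureModule Groth.Agent.Lib.H78TensorGen
open Groth.Agent.Lib.H78SecCoord Groth.Agent.Lib.H78Atlas Groth.Agent.Lib.H78Restrict
open Groth.Agent.Lib.H78KeyLemma Groth.Agent.Lib.H78GenOn Groth.Agent.Lib.H78SecTwist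

namespace Groth.Agent.Lib.H78AmpleFamily

variable {X Y : Scheme.{u}}

/-- a scheme with an ample family of invertible modules is quasi-separated -/
theorem quasiSeparatedSpace_of_hasAmpleFamily (h : MoreMor.HasAmpleFamily X) : QuasiSeparatedSpace X := by
  obtain ⟨-, h3⟩ := h
  choose L n s hL hn hx haff using h3
  refine Scheme.quasiSeparatedSpace_of_isOpenCover (fun x => CohB1.genLocus _ (s x)) ?_ haff (fun i j => ?_)
  · exact top_le_iff.1 (fun x _ => Opens.mem_iSup.2 ⟨x, hx x⟩)
  · have := isAffineOpen_genLocus_inf (isInvertible_tensorPow (hL i) (n i)) (s i) (haff j)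
    exact this.isCompact

/-- a relatively ample module is invertible -/
theorem isInvertible_of_isRelAmple (f : X ⟶ Y) {L : X.Modules} (hL : RelAmple.IsRelAmple f L) :
    PicF.IsInvertible L := by
  refine isInvertible_of_isOpenCover (fun V : Y.affineOpens => f ⁻¹ᵁ V.1) ?_ (fun V => (hL.2 V).1)
  rw [← Scheme.Hom.preimage_iSup, iSup_affineOpens_eq_top, Scheme.Hom.preimage_top]

/-- **S1499**: a relatively ample module over a base with an ample family gives an ample family -/
theorem hasAmpleFamily_of_isRelAmple (f : X ⟶ Y) (hY : MoreMor.HasAmpleFamily Y) {L : X.Modules}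
    (hL : RelAmple.IsRelAmple f L) : MoreMor.HasAmpleFamily X := by
  haveI : CompactSpace Y := hY.1
  haveI : QuasiCompact f := hL.1
  haveI : CompactSpace X := QuasiCompact.compactSpace_of_compactSpace f
  haveI : QuasiSeparatedSpace Y := quasiSeparatedSpace_of_hasAmpleFamily hY
  haveI : IsSeparated f := H78AmpleSep.isSeparated_of_isRelAmple f hL
  haveI : QuasiSeparatedSpace X := quasiSeparatedSpace_of_quasiSeparated f
  have hLinv := isInvertible_of_isRelAmple f hL
  refine ⟨inferInstance, fun x => ?_⟩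
  obtain ⟨N, n, t, hN, hn, hy, haff⟩ := hY.2 (f x)
  obtain ⟨σ, hσ⟩ := Groth.Agent.Lib.H78PullSec.exists_pull_sec f hN n t
  have hQ : PicF.IsInvertible (CohB1.tensorPow ((Scheme.Modules.pullback f).obj N) n) :=
    isInvertible_tensorPow (isInvertible_pullback f hN) n
  obtain ⟨a, k, ζ, hxζ, haffζ, -⟩ := H78LocalAmple.exists_global_sec hLinv hQ σ _ hσ
    (hL.2 ⟨_, haff⟩) x hy
  have hR : PicF.IsInvertible (CohB1.tensorMod (CohB1.tensorMod (CohB1.tensorPow L (a + 1))
      (CohB1.tensorPow (CohB1.tensorPow ((Scheme.Modules.pullback f).obj N) n) k))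
      (CohB1.tensorPow ((Scheme.Modules.pullback f).obj N) n)) :=
    isInvertible_tensorMod (isInvertible_tensorMod (isInvertible_tensorPow hLinv _)
      (isInvertible_tensorPow hQ k)) hQ
  obtain ⟨V, hxV, -, ⟨B⟩⟩ := exists_atlas hR
  have hV := iSup_eq_top_of_mem hxV
  obtain ⟨s, hs⟩ := Groth.Agent.S2327.transfer hV B (B.pow 1) 1 one_pos (by
    intro i j
    rw [Atlas.pow_trans]) (ofSection ζ)
  exact ⟨_, 1, s, hR, le_refl 1, hs ▸ hxζ, hs ▸ haffζ⟩

/-- the structure sheaf is ample relative to a quasi-affine morphism -/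
theorem isRelAmple_structureModule_of_isQuasiAffine (f : X ⟶ Y) (hf : Mor2.IsQuasiAffine f) :
    RelAmple.IsRelAmple f (Coh.structureModule X) := by
  refine ⟨hf.1, fun V => ?_⟩
  haveI := hf.2 V.1 V.2
  exact Groth.Agent.Lib.H78QAffine.isAmple_of_isQuasiAffine
    (isInvertible_restrict _ (isInvertible_structureModule X))

/-- **S7184**: ample families pull back along affine and quasi-affine morphisms -/
theorem hasAmpleFamily_of_isQuasiAffine (f : X ⟶ Y) (hf : IsAffineHom f ∨ Mor2.IsQuasiAffine f)
    (hY : MoreMor.HasAmpleFamily Y) : MoreMor.HasAmpleFamily X := by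
  refine hasAmpleFamily_of_isRelAmple f hY (isRelAmple_structureModule_of_isQuasiAffine f ?_)
  rcases hf with hf | hf
  · refine ⟨inferInstance, fun V hV => ?_⟩
    haveI : IsAffine (f ⁻¹ᵁ V : Scheme.{u}) := hV.preimage f
    infer_instance
  · exact hf

end Groth.Agent.Lib.H78AmpleFamily
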