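import Groth.Agent.Lib.H78AmpleTwist

set_option autoImplicit false
universe u
open CategoryTheory CategoryTheory.Limits AlgebraicGeometry MonoidalCategory Opposite TopologicalSpace
open Groth.Agent.Lib.H90Invertible Groth.Agent.Lib.StructureModule Groth.Agent.Lib.H78TensorGen
open Groth.Agent.Lib.H78SecCoord Groth.Agent.Lib.H78Atlas Groth.Agent.Lib.H78KeyLemma Groth.Agent.Lib.H78AtlasOps
open Groth.Agent.Lib.H78KeyLemma2 Groth.Agent.Lib.H78AmpleBasis Groth.Agent.Lib.H78SecAdd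
open Groth.Agent.Lib.H78GlobGen Groth.Agent.Lib.H78GlobGen2

namespace Groth.Agent.Lib.H78AmpleTwist2

variable {X : Scheme.{u}}

/-- for `L` ample and `E` invertible, sections of `E ⊗ L^N` generating at all points of a given finite set
exist for all large `N` -/
theorem exists_sec_twist_finset [CompactSpace X] {L E : X.Modules} (hL : CohB1.IsAmple L)
    (hE : PicF.IsInvertible E) :
    ∀ (k : ℕ) (Z : Finset X), Z.card = k → ∃ N₀ : ℕ, ∀ N, N₀ ≤ N →
      ∃ σ : Γ(CohB1.tensorMod E (CohB1.tensorPow L N), ⊤),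
        (Z : Set X) ⊆ CohB1.genLocus _ (ofSection σ) := by
  classical
  obtain ⟨n₁, hn₁⟩ := isGloballyGenerated_twist hL E (isCoh_of_isInvertible hE)
  obtain ⟨V, hxV, -, ⟨A⟩, ⟨A'⟩⟩ := exists_atlas₂ hL.1 hE
  have hV := iSup_eq_top_of_mem hxV
  intro k
  induction k with
  | zero =>
    intro Z hZ
    rw [Finset.card_eq_zero] at hZ
    subst hZ
    exact ⟨0, fun N _ => ⟨0, by simp⟩⟩
  | succ k ih =>
    intro Z hZ
    have hne : Z.Nonempty := by
      rw [← Finset.card_pos, hZ]; exact Nat.succ_pos k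
    obtain ⟨z, hzZ, hzmax⟩ := Z.exists_maximalFor (fun z : X => closure ({z} : Set X)) hne
    have hz' : ∀ z' ∈ Z, z ∈ closure ({z'} : Set X) → z' = z := by
      intro z' hz'Z hzz'
      have h1 : closure ({z} : Set X) ≤ closure ({z'} : Set X) :=
        closure_minimal (Set.singleton_subset_iff.2 hzz') isClosed_closure
      have h2 := hzmax hz'Z h1
      exact (inseparable_iff_closure_eq.2 (le_antisymm h2 h1)).eq
    obtain ⟨N₀', hN₀'⟩ := ih (Z.erase z) (by rw [Finset.card_erase_of_mem hzZ, hZ]; rfl)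
    have hCclosed : IsClosed (⋃ y ∈ (Z.erase z : Set X), closure ({y} : Set X)) :=
      (Z.erase z).finite_toSet.isClosed_biUnion (fun _ _ => isClosed_closure)
    have hzC : z ∉ ⋃ y ∈ (Z.erase z : Set X), closure ({y} : Set X) := by
      intro hz
      obtain ⟨y, hy, hzy⟩ := Set.mem_iUnion₂.1 hz
      have hy' := Finset.mem_erase.1 (Finset.mem_coe.1 hy)
      exact hy'.1 (hz' y hy'.2 hzy)
    -- a section of a power of `L` generating at `z` but at no other point of `Z`
    obtain ⟨m, ℓ, hzℓ, hℓU, -⟩ := exists_sec_nbhd_affine hL z ⟨_, hCclosed.isOpen_compl⟩ hzC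
    have hℓZ : ∀ y ∈ Z.erase z, y ∉ CohB1.genLocus _ ℓ := by
      intro y hy hyℓ
      exact (hℓU hyℓ) (Set.mem_iUnion₂.2 ⟨y, Finset.mem_coe.2 hy, subset_closure rfl⟩)
    refine ⟨max N₀' (n₁ + (m + 1)), fun N hN => ?_⟩
    obtain ⟨σ', hσ'⟩ := hN₀' N ((le_max_left _ _).trans hN)
    by_cases hzσ' : z ∈ CohB1.genLocus _ (ofSection σ')
    · refine ⟨σ', fun y hy => ?_⟩
      by_cases hyz : y = z
      · rw [hyz]; exact hzσ'
      · exact hσ' (Finset.mem_coe.2 (Finset.mem_erase.2 ⟨hyz, Finset.mem_coe.1 hy⟩))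
    obtain ⟨N', hN'⟩ : ∃ N', N = N' + (m + 1) := ⟨N - (m + 1), by
      have := (le_max_right _ _).trans hN
      omega⟩
    have hN'₁ : n₁ ≤ N' := by
      have := (le_max_right _ _).trans hN
      omega
    have hinv' : PicF.IsInvertible (CohB1.tensorMod E (CohB1.tensorPow L N')) :=
      isInvertible_tensorMod hE (isInvertible_tensorPow hL.1 N')
    obtain ⟨ρ, hρ⟩ := isBpf_of_isGloballyGenerated hinv' (hn₁ N' hN'₁) z
    obtain ⟨τ, -, hτ⟩ := exists_sec_mul hV (A'.tmul (A.pow N')) (A.pow (m + 1)) (A'.tmul (A.pow N)) 1 1 (by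
      intro i j
      rw [Atlas.tmul_trans, Atlas.tmul_trans, Atlas.pow_trans, Atlas.pow_trans, Atlas.pow_trans, pow_one,
        pow_one, hN', pow_add]
      ring) ρ (sec ℓ)
    have hτ' := hτ one_pos one_pos
    rw [ofSection_sec] at hτ'
    have hP := isInvertible_tensorMod hE (isInvertible_tensorPow hL.1 N)
    refine ⟨σ' + τ, fun y hy => ?_⟩
    by_cases hyz : y = z
    · rw [hyz, add_comm]
      refine mem_genLocus_add hP _ _ ?_ hzσ'
      rw [hτ']; exact ⟨hρ, hzℓ⟩
    · have hy' : y ∈ Z.erase z := Finset.mem_erase.2 ⟨hyz, Finset.mem_coe.1 hy⟩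
      refine mem_genLocus_add hP _ _ (hσ' (Finset.mem_coe.2 hy')) ?_
      rw [hτ']
      exact fun h => hℓZ y hy' h.2

end Groth.Agent.Lib.H78AmpleTwist2
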