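import Groth.Agent.S2327
import Mathlib.AlgebraicGeometry.Noetherian

/-!
# helper78: base loci and stable base loci (namespace `Groth.Agent.Lib.H78BaseLocus`)

* `Bs L m`: the base locus of `L^m`; `SB L`: the stable base locus.
* `Bs_mul_subset`, `isClosed_Bs`, `Bs_pow`, `exists_Bs_eq_SB` (Noetherian spaces), `SB_pow`.
-/

set_option autoImplicit false
universe u
open CategoryTheory CategoryTheory.Limits AlgebraicGeometry Opposite TopologicalSpace
open Groth.Agent.Lib.H90Invertible Groth.Agent.Lib.H78TensorGen Groth.Agent.Lib.H78SecCoord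
  Groth.Agent.Lib.H78Atlas Groth.Agent.Lib.H78AtlasOps

namespace Groth.Agent.Lib.H78BaseLocus

variable {X : Scheme.{u}}

/-- the base locus of `L^m` -/
def Bs (L : X.Modules) (m : ℕ) : Set X :=
  {x : X | ∀ s : Coh.structureModule X ⟶ CohB1.tensorPow L m, x ∉ CohB1.genLocus (CohB1.tensorPow L m) s}

/-- the stable base locus -/
def SB (L : X.Modules) : Set X :=
  {x : X | ∀ m : ℕ, 0 < m → ∀ s : Coh.structureModule X ⟶ CohB1.tensorPow L m,
    x ∉ CohB1.genLocus (CohB1.tensorPow L m) s}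

lemma SB_eq_iInter (L : X.Modules) : SB L = ⋂ (m : ℕ) (_ : 0 < m), Bs L m := by
  ext x
  simp only [SB, Bs, Set.mem_ofPred_eq, Set.mem_iInter]

lemma SB_subset_Bs (L : X.Modules) {m : ℕ} (hm : 0 < m) : SB L ⊆ Bs L m :=
  fun _ hx => hx m hm

lemma isClosed_Bs (L : X.Modules) (m : ℕ) : IsClosed (Bs L m) := by
  have : Bs L m = (⋃ s : Coh.structureModule X ⟶ CohB1.tensorPow L m,
      (CohB1.genLocus (CohB1.tensorPow L m) s : Set X))ᶜ := by
    ext x
    simp only [Bs, Set.mem_ofPred_eq, Set.mem_compl_iff, Set.mem_iUnion, SetLike.mem_coe, not_exists]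
  rw [this, isClosed_compl_iff]
  exact isOpen_iUnion (fun s => (CohB1.genLocus _ s).2)

lemma Bs_mul_subset {L : X.Modules} (hL : PicF.IsInvertible L) (a b : ℕ) (hb : 0 < b) :
    Bs L (a * b) ⊆ Bs L a := by
  intro x hx s hxs
  obtain ⟨V, hxV, -, ⟨A⟩⟩ := exists_atlas hL
  have hV := iSup_eq_top_of_mem hxV
  obtain ⟨t, ht⟩ := Groth.Agent.S2327.transfer hV (A.pow a) (A.pow (a * b)) b hb (by
    intro i j
    rw [Atlas.pow_trans, Atlas.pow_trans, pow_mul]) s
  exact hx t (by rw [ht]; exact hxs)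

/-- base loci of powers of `L^p` -/
lemma Bs_pow {L : X.Modules} (hL : PicF.IsInvertible L) (p m : ℕ) :
    Bs (CohB1.tensorPow L p) m = Bs L (p * m) := by
  obtain ⟨V, hxV, -, ⟨A⟩⟩ := exists_atlas hL
  have hV := iSup_eq_top_of_mem hxV
  ext x
  constructor
  · intro hx s hxs
    obtain ⟨t, ht⟩ := Groth.Agent.S2327.transfer hV (A.pow (p * m)) ((A.pow p).pow m) 1 one_pos (by
      intro i j
      rw [Atlas.pow_trans, Atlas.pow_trans, Atlas.pow_trans, pow_one, pow_mul]) s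
    exact hx t (by rw [ht]; exact hxs)
  · intro hx s hxs
    obtain ⟨t, ht⟩ := Groth.Agent.S2327.transfer hV ((A.pow p).pow m) (A.pow (p * m)) 1 one_pos (by
      intro i j
      rw [Atlas.pow_trans, Atlas.pow_trans, Atlas.pow_trans, pow_one, pow_mul]) s
    exact hx t (by rw [ht]; exact hxs)

/-- on a Noetherian space the stable base locus is one of the base loci -/
theorem exists_Bs_eq_SB [NoetherianSpace X] {L : X.Modules} (hL : PicF.IsInvertible L) :
    ∃ n₀ : ℕ, 0 < n₀ ∧ Bs L n₀ = SB L := by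
  let 𝒮 : Set (Closeds X) := {C | ∃ m : ℕ, 0 < m ∧ (C : Set X) = Bs L m}
  have hne : 𝒮.Nonempty := ⟨⟨Bs L 1, isClosed_Bs L 1⟩, 1, one_pos, rfl⟩
  obtain ⟨C, ⟨m₀, hm₀, hC⟩, hmin⟩ := WellFounded.has_min (wellFounded_lt (α := Closeds X)) 𝒮 hne
  refine ⟨m₀, hm₀, le_antisymm ?_ (SB_subset_Bs L hm₀)⟩
  intro x hx m hm
  have h1 : Bs L (m₀ * m) ⊆ Bs L m₀ := Bs_mul_subset hL m₀ m hm
  have h2 : Bs L (m₀ * m) ⊆ Bs L m := by
    rw [Nat.mul_comm]
    exact Bs_mul_subset hL m m₀ hm₀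
  have h3 : Bs L (m₀ * m) = Bs L m₀ := by
    by_contra hne'
    have hlt : (⟨Bs L (m₀ * m), isClosed_Bs L _⟩ : Closeds X) < C := by
      refine lt_of_le_of_ne ?_ ?_
      · intro y hy
        change y ∈ (C : Set X)
        rw [hC]
        exact h1 hy
      · intro heq
        apply hne'
        have := congrArg (fun D : Closeds X => (D : Set X)) heq
        simp only [Closeds.coe_mk] at this
        rw [this, hC]
    exact hmin _ ⟨m₀ * m, Nat.mul_pos hm₀ hm, rfl⟩ hlt
  exact h2 (h3 ▸ hx)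

lemma SB_pow {L : X.Modules} (hL : PicF.IsInvertible L) (p : ℕ) (hp : 0 < p) :
    SB (CohB1.tensorPow L p) = SB L := by
  ext x
  constructor
  · intro hx m hm s hxs
    have h1 : x ∈ Bs (CohB1.tensorPow L p) m := hx m hm
    rw [Bs_pow hL] at h1
    have h2 : x ∈ Bs L m := by
      rw [Nat.mul_comm] at h1
      exact Bs_mul_subset hL m p hp h1
    exact h2 s hxs
  · intro hx m hm
    have h1 : x ∈ Bs L (p * m) := hx (p * m) (Nat.mul_pos hp hm)
    rw [← Bs_pow hL] at h1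
    exact h1

end Groth.Agent.Lib.H78BaseLocus
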