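import Groth.Agent.Lib.H78AmpleLocal
import Groth.Agent.Lib.H78RelAmple

/-!
# helper78: ampleness on a disjoint union of two opens (namespace `Groth.Agent.Lib.H78Clopen`)

* `exists_idempotent`: complementary opens `U₁, U₂` are `D(e)`, `D(1 - e)` for a global function `e`.
* `isAmple_of_isCompl`: `M|U₁`, `M|U₂` ample ⇒ `M` ample.
-/

set_option autoImplicit false
universe u
open CategoryTheory CategoryTheory.Limits AlgebraicGeometry Opposite TopologicalSpace
open Groth.Agent.Lib.H90Invertible Groth.Agent.Lib.H78Atlas Groth.Agent.Lib.H78TensorGen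
open Groth.Agent.Lib.H78SecCoord Groth.Agent.Lib.StructureModule

namespace Groth.Agent.Lib.H78Clopen

variable {Z : Scheme.{u}}

theorem exists_idempotent (U₁ U₂ : Z.Opens) (hsup : U₁ ⊔ U₂ = ⊤) (hinf : U₁ ⊓ U₂ = ⊥) :
    ∃ e : Γ(Z, ⊤), Z.basicOpen e = U₁ ∧ Z.basicOpen (1 - e) = U₂ := by
  let U : Bool → Z.Opens := fun b => cond b U₁ U₂
  let sf : ∀ b, Γ(Coh.structureModule Z, U b) := fun b =>
    match b with
    | true => toSec U₁ 1
    | false => toSec U₂ 0
  have hbot : ∀ (W : Z.Opens) (hW : W = ⊥) (s t : Γ(Coh.structureModule Z, W)), s = t := by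
    intro W hW s t
    refine sec_ext _ s t (fun x hx => ?_)
    rw [hW] at hx
    exact hx.elim
  obtain ⟨s, hs⟩ := sec_glue (Coh.structureModule Z) (V := ⊤) U (fun _ => le_top) (by
      intro x _
      have hx : x ∈ U₁ ⊔ U₂ := by rw [hsup]; trivial
      rcases hx with hx | hx
      · exact Opens.mem_iSup.2 ⟨true, hx⟩
      · exact Opens.mem_iSup.2 ⟨false, hx⟩) sf (by
      intro i j
      cases i <;> cases j
      · rfl
      · exact hbot _ (by change U₂ ⊓ U₁ = ⊥; rw [inf_comm]; exact hinf) _ _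
      · exact hbot _ hinf _ _
      · rfl)
  have h1 : Z.presheaf.map (homOfLE (le_top : U₁ ≤ ⊤)).op (Groth.Agent.Lib.H78AmpleUnit.ofSec ⊤ s) = 1 :=
    hs true
  have h2 : Z.presheaf.map (homOfLE (le_top : U₂ ≤ ⊤)).op (Groth.Agent.Lib.H78AmpleUnit.ofSec ⊤ s) = 0 :=
    hs false
  obtain ⟨e, he⟩ : ∃ e : Γ(Z, ⊤), e = Groth.Agent.Lib.H78AmpleUnit.ofSec ⊤ s := ⟨_, rfl⟩
  rw [← he] at h1 h2
  have a1 : U₁ ⊓ Z.basicOpen e = U₁ := by
    rw [← Scheme.basicOpen_res, h1, Scheme.basicOpen_of_isUnit _ isUnit_one]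
  have a2 : U₂ ⊓ Z.basicOpen e = ⊥ := by
    rw [← Scheme.basicOpen_res, h2, Scheme.basicOpen_zero]
  have b1 : U₁ ⊓ Z.basicOpen (1 - e) = ⊥ := by
    rw [← Scheme.basicOpen_res, map_sub, map_one, h1, sub_self, Scheme.basicOpen_zero]
  have b2 : U₂ ⊓ Z.basicOpen (1 - e) = U₂ := by
    rw [← Scheme.basicOpen_res, map_sub, map_one, h2, sub_zero, Scheme.basicOpen_of_isUnit _ isUnit_one]
  refine ⟨e, ?_, ?_⟩
  · apply le_antisymm
    · intro x hx
      have hx' : x ∈ U₁ ⊔ U₂ := by rw [hsup]; trivial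
      rcases hx' with h | h
      · exact h
      · have : x ∈ U₂ ⊓ Z.basicOpen e := ⟨h, hx⟩
        rw [a2] at this
        exact this.elim
    · rw [← a1]; exact inf_le_right
  · apply le_antisymm
    · intro x hx
      have hx' : x ∈ U₁ ⊔ U₂ := by rw [hsup]; trivial
      rcases hx' with h | h
      · have : x ∈ U₁ ⊓ Z.basicOpen (1 - e) := ⟨h, hx⟩
        rw [b1] at this
        exact this.elim
      · exact h
    · rw [← b2]; exact inf_le_right

/-- ampleness can be checked on the two members of a clopen decomposition -/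
theorem isAmple_of_isCompl [CompactSpace Z] {M : Z.Modules} (hM : PicF.IsInvertible M)
    (U₁ U₂ : Z.Opens) (hsup : U₁ ⊔ U₂ = ⊤) (hinf : U₁ ⊓ U₂ = ⊥)
    (h₁ : CohB1.IsAmple (M.restrict U₁.ι)) (h₂ : CohB1.IsAmple (M.restrict U₂.ι)) :
    CohB1.IsAmple M := by
  obtain ⟨e, he1, he2⟩ := exists_idempotent U₁ U₂ hsup hinf
  refine Groth.Agent.Lib.H78AmpleLocal.isAmple_of_basicOpen_cover hM
    (fun b : Bool => cond b e (1 - e)) (fun x => ?_) (fun b => ?_)
  · have hx : x ∈ U₁ ⊔ U₂ := by rw [hsup]; trivial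
    rcases hx with h | h
    · exact ⟨true, by change x ∈ Z.basicOpen e; rw [he1]; exact h⟩
    · exact ⟨false, by change x ∈ Z.basicOpen (1 - e); rw [he2]; exact h⟩
  · cases b
    · change CohB1.IsAmple (M.restrict (Z.basicOpen (1 - e)).ι)
      rw [he2]; exact h₂
    · change CohB1.IsAmple (M.restrict (Z.basicOpen e).ι)
      rw [he1]; exact h₁

end Groth.Agent.Lib.H78Clopen
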