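/-
helper78: cohomology is invariant under isomorphisms of schemes (invertible coefficients).
* `isIso_unitToPush`: for an isomorphism `j`, `O_P ⟶ j_* O_Z` is an isomorphism.
* `subsingleton_HH_pullback_of_isIso`: `j : Z ≅ P`, `L` invertible on `P`, `H^q(P, L) = 0 ⇒ H^q(Z, j^*L) = 0`.
-/
import Groth.Agent.Lib.SerreVanClosed
import Groth.Agent.Lib.IdealMod2

set_option autoImplicit false
universe u
open CategoryTheory CategoryTheory.Limits AlgebraicGeometry Opposite TopologicalSpace CohB1
open Groth.Agent.Lib.OXModTensor Groth.Agent.Lib.CohLES Groth.Agent.Lib.H90Invertible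

namespace Groth.Agent.Lib.H78CohIso

theorem isIso_unitToPush {Z P : Scheme.{u}} (j : Z ⟶ P) [IsIso j] : IsIso (ClSub.unitToPush j) := by
  refine Groth.Agent.Lib.IdealMod.isIso_of_bijective_on_basis (ClSub.unitToPush j)
    (fun U : P.Opens => U) ?_ (fun U => ?_)
  · rw [Set.range_id']
    exact Opens.isBasis_iff_nbhd.2 (fun {U x} hx => ⟨U, trivial, hx, le_rfl⟩)
  · have h : IsIso (j.app U) := inferInstance
    exact (ConcreteCategory.isIso_iff_bijective (j.app U)).1 h

theorem subsingleton_HH_pullback_of_isIso {Z P : Scheme.{u}} (j : Z ⟶ P) [IsIso j]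
    (L : P.Modules) (hL : PicF.IsInvertible L) (q : ℕ) [h : Subsingleton (Coh.HH P L q)] :
    Subsingleton (Coh.HH Z ((Scheme.Modules.pullback j).obj L) q) := by
  haveI := isIso_unitToPush j
  haveI : (Coh.structureModule Z).IsQuasicoherent :=
    (Groth.Agent.Lib.CohFinAmple.isCoh_structureModule Z).1
  haveI : Subsingleton (Coh.HH P (tensorMod ((Scheme.Modules.pushforward j).obj (Coh.structureModule Z)) L) q) :=
    subsingleton_of_iso (tensorModIso (asIso (ClSub.unitToPush j)).symm (Iso.refl L) ≪≫ leftUnitor L) q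
  haveI := Groth.Agent.Lib.SerreVanClosed.subsingleton_HH_pullback_twist j (Coh.structureModule Z) L hL q
  exact subsingleton_of_iso (leftUnitor ((Scheme.Modules.pullback j).obj L)).symm q

end Groth.Agent.Lib.H78CohIso
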