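import Groth.Agent.Lib.H78Dual

/-!
# helper78: contraction of a global section of `F ⊗ Q` against the dual of an invertible `Q`
(namespace `Groth.Agent.Lib.H78Contract`)

* `contr_indep`: the local formula `δ ↦ δ(e) • z` (for `ξ = z ⊗ e`) does not depend on the generator `e`.
* `exists_contraction`: for invertible `Q` and a global section `ξ` of `F ⊗ Q` there is a morphism
  `Φ : RefHull.dual Q ⟶ F` with `Φ(δ) = δ(e) • z` on every open `W` with a generator `e` of `Q` and `ξ|_W = z ⊗ e`.
* `exists_dual_gen`: over an open with a generator `e` of `Q` there is `γ ∈ Γ(dual Q, W)` with `γ(e) = 1`.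
-/

set_option autoImplicit false
universe u
open CategoryTheory CategoryTheory.Limits AlgebraicGeometry MonoidalCategory Opposite TopologicalSpace
open Groth.Agent.Lib.H90Invertible Groth.Agent.Lib.StructureModule Groth.Agent.Lib.H78TensorGen
open Groth.Agent.Lib.H4TensorPair Groth.Agent.Lib.H78Dual

namespace Groth.Agent.Lib.H78Contract

variable {X : Scheme.{u}} {Q F : X.Modules}

/-- a section of the structure module as a function -/
noncomputable def ofS (W : X.Opens) (s : Γ(Coh.structureModule X, W)) : Γ(X, W) := s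

lemma ofS_smul (W : X.Opens) (u : Γ(X, W)) (s : Γ(Coh.structureModule X, W)) :
    ofS W (u • s) = u * ofS W s := rfl

lemma ofS_add (W : X.Opens) (s t : Γ(Coh.structureModule X, W)) : ofS W (s + t) = ofS W s + ofS W t := rfl

lemma ofS_toSec (W : X.Opens) (a : Γ(X, W)) : ofS W (toSec W a) = a := rfl

lemma ofS_rs {V W : X.Opens} (h : W ≤ V) (s : Γ(Coh.structureModule X, V)) :
    ofS W (rs _ h s) = X.presheaf.map (homOfLE h).op (ofS V s) := rfl

lemma pair_smul_right {L N : X.Modules} {U : X.Opens} (r : Γ(X, U)) (f : Γ(RefHull.homSh L N, U)) (s : Γ(L, U)) :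
    pair f (r • s) = r • pair f s := (evPairing L N).smul_right U r f s

lemma pair_smul_left {L N : X.Modules} {U : X.Opens} (r : Γ(X, U)) (f : Γ(RefHull.homSh L N, U)) (s : Γ(L, U)) :
    pair (r • f) s = r • pair f s := (evPairing L N).smul_left U r f s

lemma pair_add_left {L N : X.Modules} {U : X.Opens} (f f' : Γ(RefHull.homSh L N, U)) (s : Γ(L, U)) :
    pair (f + f') s = pair f s + pair f' s := (evPairing L N).add_left U f f' s

lemma pair_rs {L N : X.Modules} {U V : X.Opens} (h : V ≤ U) (f : Γ(RefHull.homSh L N, U)) (s : Γ(L, U)) :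
    rs N h (pair f s) = pair (rs _ h f) (rs L h s) := (evPairing L N).map h f s

/-- independence of the generator in the local contraction formula -/
lemma contr_indep {W : X.Opens} {e e' : Γ(Q, W)} (he' : IsGen Q W e')
    {z z' : Γ(F, W)} (h : tmul z e = tmul z' e') (δ : Γ(RefHull.dual Q, W)) :
    ofS W (pair δ e) • z = ofS W (pair δ e') • z' := by
  obtain ⟨u, hu⟩ := (he' W le_rfl).2 e
  have hu' : u • e' = e := by
    have : u • rs Q le_rfl e' = e := hu
    rwa [rs_self] at this
  subst hu'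
  have h1 : tmul (u • z) e' = tmul z' e' := by rw [smul_tmul, ← tmul_smul]; exact h
  have h2 : u • z = z' := by
    refine (tmul_gen_bijective F he' le_rfl).1 ?_
    change tmul (u • z) (rs Q le_rfl e') = tmul z' (rs Q le_rfl e')
    rw [rs_self]; exact h1
  rw [pair_smul_right, ofS_smul, ← h2, mul_comm, mul_smul]

/-- the index type of all local generators of `Q` -/
abbrev GenIdx (Q : X.Modules) : Type u := {p : Σ V : X.Opens, Γ(Q, V) // IsGen Q p.1 p.2}

/-- the open of a local generator -/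
abbrev genOpen (Q : X.Modules) (i : GenIdx Q) : X.Opens := i.1.1

lemma iSup_genOpen (hQ : PicF.IsInvertible Q) : ⨆ i, genOpen Q i = ⊤ := by
  refine top_le_iff.1 (fun x _ => ?_)
  obtain ⟨V, hxV, e, he⟩ := (isInvertible_iff_exists_isGen Q).1 hQ x
  exact Opens.mem_iSup.2 ⟨⟨⟨V, e⟩, he⟩, hxV⟩

/-- **contraction**: a global section `ξ` of `F ⊗ Q`, `Q` invertible, defines `Φ : Q^∨ ⟶ F`, locally
`δ ↦ δ(e) • z` where `ξ = z ⊗ e` -/
theorem exists_contraction (hQ : PicF.IsInvertible Q) (F : X.Modules)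
    (ξ : Γ(CohB1.tensorMod F Q, ⊤)) :
    ∃ Φ : RefHull.dual Q ⟶ F, ∀ (W : X.Opens) (e : Γ(Q, W)) (_ : IsGen Q W e) (z : Γ(F, W))
      (_ : tmul z e = rs _ le_top ξ) (δ : Γ(RefHull.dual Q, W)),
      Φ.app W δ = ofS W (pair δ e) • z := by
  -- chosen generators and coordinates on small opens
  have hgen : ∀ (W : X.Opens) (hW : ∃ i, W ≤ genOpen Q i),
      ∃ (e : Γ(Q, W)) (z : Γ(F, W)), IsGen Q W e ∧ tmul z e = rs _ le_top ξ := by
    intro W hW
    obtain ⟨i, hi⟩ := hW
    obtain ⟨z, hz⟩ := (tmul_gen_bijective F i.2 hi).2 (rs _ le_top ξ)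
    exact ⟨rs Q hi i.1.2, z, i.2.mono hi, hz⟩
  choose e z he hz using hgen
  obtain ⟨Φ, hΦ⟩ := H90OXModLocal.exists_hom_of_small (M := RefHull.dual Q) (N := F)
    (U := genOpen Q) (iSup_genOpen hQ)
    (fun W hW => AddCommGrpCat.ofHom (AddMonoidHom.mk' (fun δ : Γ(RefHull.dual Q, W) =>
      ofS W (pair δ (e W hW)) • z W hW) (fun δ δ' => by
        have h := pair_add_left δ δ' (e W hW)
        exact (congrArg (fun t => ofS W t • z W hW) h).trans (by rw [ofS_add, add_smul]; rfl))))
    (by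
      intro W W' hW hW' h δ
      change rs F h (ofS W (pair δ (e W hW)) • z W hW) =
        ofS W' (pair (rs _ h δ) (e W' hW')) • z W' hW'
      have h1 : rs F h (ofS W (pair δ (e W hW)) • z W hW) =
          X.presheaf.map (homOfLE h).op (ofS W (pair δ (e W hW))) • rs F h (z W hW) :=
        F.map_smul (homOfLE h) _ _
      rw [h1, ← ofS_rs, pair_rs]
      refine contr_indep (he W' hW') ?_ _
      rw [← tmul_rs, hz, hz, rs_rs])
    (by
      intro W hW r δ
      change ofS W (pair (r • δ) (e W hW)) • z W hW = r • (ofS W (pair δ (e W hW)) • z W hW)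
      rw [pair_smul_left, ofS_smul, mul_smul])
  refine ⟨Φ, fun W e' he' z' hz' δ => ?_⟩
  have hW : ∃ i, W ≤ genOpen Q i := ⟨⟨⟨W, e'⟩, he'⟩, le_rfl⟩
  have h1 := hΦ W hW
  have h2 : Φ.app W δ = ofS W (pair δ (e W hW)) • z W hW := by
    rw [h1]; rfl
  rw [h2]
  exact contr_indep he' ((hz W hW).trans hz'.symm) δ

/-- the dual generator: over an open with a generator `e` of `Q` there is `γ` with `γ(e) = 1` -/
theorem exists_dual_gen {W : X.Opens} {e : Γ(Q, W)} (he : IsGen Q W e) :
    ∃ γ : Γ(RefHull.dual Q, W), pair γ e = toSec W 1 :=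
  ⟨delta he (toSec W 1), pair_delta he _⟩

/-- the contraction reaches `a • z` -/
theorem contraction_surj {Φ : RefHull.dual Q ⟶ F} {W : X.Opens} {e : Γ(Q, W)} (he : IsGen Q W e)
    {z : Γ(F, W)}
    (hΦ : ∀ δ : Γ(RefHull.dual Q, W), Φ.app W δ = ofS W (pair δ e) • z) :
    ∃ δ : Γ(RefHull.dual Q, W), Φ.app W δ = z := by
  obtain ⟨γ, hγ⟩ := exists_dual_gen he
  refine ⟨γ, ?_⟩
  rw [hΦ, hγ, ofS_toSec, one_smul]

end Groth.Agent.Lib.H78Contract
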