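import Groth.Agent.Lib.H78PullAmple
import Groth.Agent.S9815

/-!
# helper78: relative ampleness of pullbacks (namespace `Groth.Agent.Lib.H78PullAmple`)

* `isRelAmple_comp_pullback`: criterion for `g^*L` to be ample relative to `g ≫ f`.
* `isRelAmple_comp_pullback_of_isEmbedding`: `j` quasi-compact topological embedding.
-/

set_option autoImplicit false
universe u
open CategoryTheory CategoryTheory.Limits AlgebraicGeometry Opposite TopologicalSpace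
open Groth.Agent.Lib.H90Invertible

namespace Groth.Agent.Lib.H78PullAmple

/-- criterion for `g^*L` to be ample relative to `g ≫ f` -/
theorem isRelAmple_comp_pullback {X X' Y : Scheme.{u}} (f : X ⟶ Y) (g : X' ⟶ X)
    [QuasiCompact (g ≫ f)] (L : X.Modules)
    (h : ∀ V : Y.affineOpens, CohB1.IsAmple ((Scheme.Modules.pullback
      (g.resLE (f ⁻¹ᵁ V.1) ((g ≫ f) ⁻¹ᵁ V.1) (le_of_eq rfl))).obj (L.restrict (f ⁻¹ᵁ V.1).ι))) :
    RelAmple.IsRelAmple (g ≫ f) ((Scheme.Modules.pullback g).obj L) :=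
  ⟨inferInstance, fun V => Groth.Agent.Lib.H78AmpleUnit.isAmple_of_iso
    (resLEPullbackIso g (f ⁻¹ᵁ V.1) ((g ≫ f) ⁻¹ᵁ V.1) (le_of_eq rfl) L).symm (h V)⟩

theorem isRelAmple_comp_pullback_of_isEmbedding {X X' Y : Scheme.{u}} (f : X ⟶ Y) [QuasiCompact f]
    (j : X' ⟶ X) [QuasiCompact j] (hj : Topology.IsEmbedding j.base) (L : X.Modules)
    (hL : RelAmple.IsRelAmple f L) :
    RelAmple.IsRelAmple (j ≫ f) ((Scheme.Modules.pullback j).obj L) := by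
  refine isRelAmple_comp_pullback f j L (fun V => ?_)
  haveI : CompactSpace ↥(((j ≫ f) ⁻¹ᵁ V.1 : X'.Opens) : Scheme.{u}) :=
    isCompact_iff_compactSpace.1 (QuasiCompact.isCompact_preimage (f := j ≫ f) _ V.1.2 V.2.isCompact)
  refine Groth.Agent.S9815.result _ ?_ _ (hL.2 V)
  have h1 : Topology.IsEmbedding
      ((f ⁻¹ᵁ V.1).ι.base ∘ (j.resLE (f ⁻¹ᵁ V.1) ((j ≫ f) ⁻¹ᵁ V.1) (le_of_eq rfl)).base) := by
    have h2 : (f ⁻¹ᵁ V.1).ι.base ∘ (j.resLE (f ⁻¹ᵁ V.1) ((j ≫ f) ⁻¹ᵁ V.1) (le_of_eq rfl)).base =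
        j.base ∘ ((j ≫ f) ⁻¹ᵁ V.1).ι.base := by
      funext z
      have h3 := Scheme.Hom.resLE_comp_ι j (le_of_eq rfl : (j ≫ f) ⁻¹ᵁ V.1 ≤ j ⁻¹ᵁ (f ⁻¹ᵁ V.1))
      have h4 := congrArg (fun φ : _ ⟶ X => φ z) h3
      simp only [Scheme.Hom.comp_apply] at h4
      exact h4
    rw [h2]
    exact hj.comp ((j ≫ f) ⁻¹ᵁ V.1).ι.isOpenEmbedding.isEmbedding
  exact Topology.IsEmbedding.of_comp (Scheme.Hom.continuous _) (Scheme.Hom.continuous _) h1

end Groth.Agent.Lib.H78PullAmple
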