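import Groth.Agent.Lib.H78Clopen
import Groth.Agent.S2359

/-!
# helper78: relative ampleness on a disjoint union (namespace `Groth.Agent.Lib.H78Coprod`)

* `isAmple_of_isCompl'`: version of `isAmple_of_isCompl` without the invertibility hypothesis.
* `quasiCompact_inl`, `quasiCompact_inr`, `quasiCompact_desc`.
* `isRelAmple_coprod_iff` (= S4385).
-/

set_option autoImplicit false
universe u
open CategoryTheory CategoryTheory.Limits AlgebraicGeometry Opposite TopologicalSpace
open Groth.Agent.Lib.H90Invertible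

namespace Groth.Agent.Lib.H78Coprod

theorem isAmple_of_isCompl' {Z : Scheme.{u}} [CompactSpace Z] {M : Z.Modules}
    (U₁ U₂ : Z.Opens) (hsup : U₁ ⊔ U₂ = ⊤) (hinf : U₁ ⊓ U₂ = ⊥)
    (h₁ : CohB1.IsAmple (M.restrict U₁.ι)) (h₂ : CohB1.IsAmple (M.restrict U₂.ι)) :
    CohB1.IsAmple M := by
  have hM : PicF.IsInvertible M := by
    refine isInvertible_of_isOpenCover (fun b : Bool => cond b U₁ U₂) ?_ (fun b => ?_)
    · refine top_le_iff.1 (fun x _ => ?_)
      have hx : x ∈ U₁ ⊔ U₂ := by rw [hsup]; trivial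
      rcases hx with h | h
      · exact Opens.mem_iSup.2 ⟨true, h⟩
      · exact Opens.mem_iSup.2 ⟨false, h⟩
    · cases b
      · exact h₂.1
      · exact h₁.1
  exact Groth.Agent.Lib.H78Clopen.isAmple_of_isCompl hM U₁ U₂ hsup hinf h₁ h₂

variable {X X' Y : Scheme.{u}}

lemma isClosedEmbedding_inl : Topology.IsClosedEmbedding (coprod.inl : X ⟶ X ⨿ X') := by
  refine ⟨(coprod.inl : X ⟶ X ⨿ X').isOpenEmbedding.isEmbedding, ?_⟩
  have h := isCompl_range_inl_inr X X'
  rw [← isOpen_compl_iff, h.compl_eq]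
  exact (coprod.inr : X' ⟶ X ⨿ X').isOpenEmbedding.isOpen_range

lemma isClosedEmbedding_inr : Topology.IsClosedEmbedding (coprod.inr : X' ⟶ X ⨿ X') := by
  refine ⟨(coprod.inr : X' ⟶ X ⨿ X').isOpenEmbedding.isEmbedding, ?_⟩
  have h := isCompl_range_inl_inr X X'
  rw [← isOpen_compl_iff, h.symm.compl_eq]
  exact (coprod.inl : X ⟶ X ⨿ X').isOpenEmbedding.isOpen_range

instance quasiCompact_inl : QuasiCompact (coprod.inl : X ⟶ X ⨿ X') :=
  ⟨fun _ _ hK => isClosedEmbedding_inl.isCompact_preimage hK⟩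

instance quasiCompact_inr : QuasiCompact (coprod.inr : X' ⟶ X ⨿ X') :=
  ⟨fun _ _ hK => isClosedEmbedding_inr.isCompact_preimage hK⟩

lemma desc_preimage (f : X ⟶ Y) (f' : X' ⟶ Y) (K : Set Y) :
    (coprod.desc f f') ⁻¹' K =
      (coprod.inl : X ⟶ X ⨿ X') '' (f ⁻¹' K) ∪ (coprod.inr : X' ⟶ X ⨿ X') '' (f' ⁻¹' K) := by
  have h1 : ∀ x, (coprod.desc f f') ((coprod.inl : X ⟶ X ⨿ X') x) = f x := fun x => by
    rw [← Scheme.Hom.comp_apply, coprod.inl_desc]
  have h2 : ∀ x, (coprod.desc f f') ((coprod.inr : X' ⟶ X ⨿ X') x) = f' x := fun x => by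
    rw [← Scheme.Hom.comp_apply, coprod.inr_desc]
  ext z
  constructor
  · intro hz
    have hz' : z ∈ Set.range (coprod.inl : X ⟶ X ⨿ X') ∪ Set.range (coprod.inr : X' ⟶ X ⨿ X') := by
      have := (isCompl_range_inl_inr X X').sup_eq_top
      change Set.range _ ∪ Set.range _ = Set.univ at this
      rw [this]; trivial
    rcases hz' with ⟨x, rfl⟩ | ⟨x, rfl⟩
    · left; exact ⟨x, by change f x ∈ K; rw [← h1]; exact hz, rfl⟩
    · right; exact ⟨x, by change f' x ∈ K; rw [← h2]; exact hz, rfl⟩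
  · rintro (⟨x, hx, rfl⟩ | ⟨x, hx, rfl⟩)
    · change _ ∈ K; rw [h1]; exact hx
    · change _ ∈ K; rw [h2]; exact hx

theorem quasiCompact_desc (f : X ⟶ Y) (f' : X' ⟶ Y) [QuasiCompact f] [QuasiCompact f'] :
    QuasiCompact (coprod.desc f f') := by
  refine ⟨fun K hK hKc => ?_⟩
  rw [desc_preimage]
  exact ((QuasiCompact.isCompact_preimage (f := f) K hK hKc).image (Scheme.Hom.continuous _)).union
    ((QuasiCompact.isCompact_preimage (f := f') K hK hKc).image (Scheme.Hom.continuous _))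

/-- ampleness of `L''` restricted to `inl(U)` from ampleness of `inl^* L''` restricted to `U` -/
lemma isAmple_restrict_comp_of_pullback {A B : Scheme.{u}} (j : A ⟶ B) [IsOpenImmersion j]
    (M : B.Modules) (U : A.Opens)
    (h : CohB1.IsAmple (((Scheme.Modules.pullback j).obj M).restrict U.ι)) :
    CohB1.IsAmple (M.restrict (U.ι ≫ j)) := by
  rw [← Groth.Agent.Lib.H78RelAmple.isAmple_restrict_restrict_iff]
  exact Groth.Agent.Lib.H78AmpleUnit.isAmple_of_iso
    ((Scheme.Modules.restrictFunctor U.ι).mapIso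
      ((Scheme.Modules.restrictFunctorIsoPullback j).app M).symm) h

theorem isRelAmple_coprod_iff (f : X ⟶ Y) (f' : X' ⟶ Y) [QuasiCompact f] [QuasiCompact f']
    (L'' : (X ⨿ X').Modules) :
    RelAmple.IsRelAmple (coprod.desc f f') L'' ↔
      RelAmple.IsRelAmple f ((Scheme.Modules.pullback (coprod.inl : X ⟶ X ⨿ X')).obj L'') ∧
        RelAmple.IsRelAmple f' ((Scheme.Modules.pullback (coprod.inr : X' ⟶ X ⨿ X')).obj L'') := by
  haveI := quasiCompact_desc f f'
  constructor
  · intro h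
    constructor
    · have h1 := Groth.Agent.S2359.result (coprod.desc f f') (coprod.inl : X ⟶ X ⨿ X')
        isClosedEmbedding_inl.isEmbedding L'' h
      rwa [coprod.inl_desc] at h1
    · have h1 := Groth.Agent.S2359.result (coprod.desc f f') (coprod.inr : X' ⟶ X ⨿ X')
        isClosedEmbedding_inr.isEmbedding L'' h
      rwa [coprod.inr_desc] at h1
  · rintro ⟨h₁, h₂⟩
    refine ⟨inferInstance, fun V => ?_⟩
    suffices H : ∀ T : (X ⨿ X').Opens, T = (coprod.desc f f') ⁻¹ᵁ V.1 →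
        CohB1.IsAmple (L''.restrict T.ι) from H _ rfl
    intro T hT
    haveI : CompactSpace ↥(T : Scheme.{u}) := by
      rw [hT]
      exact isCompact_iff_compactSpace.1
        (QuasiCompact.isCompact_preimage (f := coprod.desc f f') _ V.1.2 V.2.isCompact)
    have hc := isCompl_opensRange_inl_inr X X'
    refine isAmple_of_isCompl' (T.ι ⁻¹ᵁ (coprod.inl : X ⟶ X ⨿ X').opensRange)
      (T.ι ⁻¹ᵁ (coprod.inr : X' ⟶ X ⨿ X').opensRange) ?_ ?_ ?_ ?_
    · ext z
      have hz : T.ι z ∈ (coprod.inl : X ⟶ X ⨿ X').opensRange ⊔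
          (coprod.inr : X' ⟶ X ⨿ X').opensRange := by rw [hc.sup_eq_top]; trivial
      simp only [Opens.coe_sup, Set.mem_union, SetLike.mem_coe, Opens.coe_top, Set.mem_univ, iff_true]
      exact hz
    · ext z
      simp only [Opens.coe_inf, Set.mem_inter_iff, SetLike.mem_coe, Opens.coe_bot,
        Set.mem_empty_iff_false, iff_false]
      rintro ⟨h1, h2⟩
      have : T.ι z ∈ (coprod.inl : X ⟶ X ⨿ X').opensRange ⊓
          (coprod.inr : X' ⟶ X ⨿ X').opensRange := ⟨h1, h2⟩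
      rw [hc.inf_eq_bot] at this
      exact this
    · -- the `inl` part
      rw [Groth.Agent.Lib.H78RelAmple.isAmple_restrict_restrict_iff]
      haveI : CompactSpace ↥((T.ι ⁻¹ᵁ (coprod.inl : X ⟶ X ⨿ X').opensRange : Scheme.Opens _) :
          Scheme.{u}) := by
        refine isCompact_iff_compactSpace.1 (IsClosed.isCompact ?_)
        have : IsClosed (Set.range (coprod.inl : X ⟶ X ⨿ X')) := isClosedEmbedding_inl.isClosed_range
        exact this.preimage (Scheme.Hom.continuous _)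
      refine Groth.Agent.Lib.H78RelAmple.isAmple_restrict_of_range_subset _
        ((f ⁻¹ᵁ V.1).ι ≫ (coprod.inl : X ⟶ X ⨿ X')) ?_
        (isAmple_restrict_comp_of_pullback _ L'' _ (h₁.2 V))
      rintro _ ⟨z, rfl⟩
      have hz1 : T.ι ((Scheme.Opens.ι _) z) ∈ (coprod.inl : X ⟶ X ⨿ X').opensRange := z.2
      obtain ⟨x, hx⟩ := hz1
      have hz2 : T.ι ((Scheme.Opens.ι _) z) ∈ T := (Scheme.Opens.ι _ z).2
      rw [← hx] at hz2
      rw [hT] at hz2
      have hz3 : (coprod.inl ≫ coprod.desc f f') x ∈ V.1 := hz2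
      rw [coprod.inl_desc] at hz3
      refine ⟨⟨x, hz3⟩, ?_⟩
      rw [Scheme.Hom.comp_apply, Scheme.Hom.comp_apply]
      exact hx
    · -- the `inr` part
      rw [Groth.Agent.Lib.H78RelAmple.isAmple_restrict_restrict_iff]
      haveI : CompactSpace ↥((T.ι ⁻¹ᵁ (coprod.inr : X' ⟶ X ⨿ X').opensRange : Scheme.Opens _) :
          Scheme.{u}) := by
        refine isCompact_iff_compactSpace.1 (IsClosed.isCompact ?_)
        have : IsClosed (Set.range (coprod.inr : X' ⟶ X ⨿ X')) := isClosedEmbedding_inr.isClosed_range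
        exact this.preimage (Scheme.Hom.continuous _)
      refine Groth.Agent.Lib.H78RelAmple.isAmple_restrict_of_range_subset _
        ((f' ⁻¹ᵁ V.1).ι ≫ (coprod.inr : X' ⟶ X ⨿ X')) ?_
        (isAmple_restrict_comp_of_pullback _ L'' _ (h₂.2 V))
      rintro _ ⟨z, rfl⟩
      have hz1 : T.ι ((Scheme.Opens.ι _) z) ∈ (coprod.inr : X' ⟶ X ⨿ X').opensRange := z.2
      obtain ⟨x, hx⟩ := hz1
      have hz2 : T.ι ((Scheme.Opens.ι _) z) ∈ T := (Scheme.Opens.ι _ z).2
      rw [← hx] at hz2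
      rw [hT] at hz2
      have hz3 : (coprod.inr ≫ coprod.desc f f') x ∈ V.1 := hz2
      rw [coprod.inr_desc] at hz3
      refine ⟨⟨x, hz3⟩, ?_⟩
      rw [Scheme.Hom.comp_apply, Scheme.Hom.comp_apply]
      exact hx

end Groth.Agent.Lib.H78Coprod
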