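/-
helper78: sections of invertible modules of non-positive degree on reduced connected proper curves.
* `eq_zero_of_genLocus_eq_bot`: on a reduced scheme, a section of an invertible module generating nowhere is zero.
* `h0_subsingleton_or_trivial` (= S7641).
-/
import Groth.Agent.Lib.H78PullSec2
import Groth.Agent.Lib.H78SecAdd
import Groth.Agent.Lib.DegCurve54b
import Groth.Agent.Lib.PullInverse
import Groth.Agent.Lib.H90DevAtom
import Groth.Agent.Lib.H4TwistGamma
import Groth.Agent.Lib.ModPullback
import Groth.Agent.S0002

set_option autoImplicit false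
universe u

open CategoryTheory CategoryTheory.Limits AlgebraicGeometry Opposite TopologicalSpace CohB1
open Groth.Agent.Lib.H90Invertible Groth.Agent.Lib.StructureModule Groth.Agent.Lib.H78TensorGen
open Groth.Agent.Lib.H78SecCoord Groth.Agent.Lib.H78Atlas

namespace Groth.Agent.Lib.H78CurveH0

variable {X : Scheme.{u}}

/-- On a reduced scheme, a section of an invertible module which generates nowhere is zero. -/
theorem eq_zero_of_genLocus_eq_bot [IsReduced X] {P : X.Modules} (hP : PicF.IsInvertible P)
    (s : Coh.structureModule X ⟶ P) (h : CohB1.genLocus P s = ⊥) : s = 0 := by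
  obtain ⟨V, hxV, -, ⟨A⟩⟩ := exists_atlas hP
  have hV := iSup_eq_top_of_mem hxV
  have hs : sec s = sec (0 : Coh.structureModule X ⟶ P) := by
    refine A.ext_co hV (fun i => ?_)
    have h1 := A.genLocus_inf (sec s) i
    rw [ofSection_sec, h, bot_inf_eq] at h1
    have h2 : A.co (sec s) i = 0 := (basicOpen_eq_bot_iff _).1 h1.symm
    have h0 : sec (0 : Coh.structureModule X ⟶ P) = 0 := by
      change (0 : Coh.structureModule X ⟶ P).app ⊤ _ = 0
      rw [Scheme.Modules.Hom.zero_app]
      rfl
    rw [h2, h0, Groth.Agent.Lib.H78SecAdd.co_zero]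
  rw [← ofSection_sec s, hs, ofSection_sec]


lemma sec_zero {P : X.Modules} : sec (0 : Coh.structureModule X ⟶ P) = 0 := by
  change (0 : Coh.structureModule X ⟶ P).app ⊤ _ = 0
  rw [Scheme.Modules.Hom.zero_app]
  rfl

lemma genLocus_zero' {P : X.Modules} (hP : PicF.IsInvertible P) :
    CohB1.genLocus P (0 : Coh.structureModule X ⟶ P) = ⊥ := by
  have h := Groth.Agent.Lib.H78SecAdd.genLocus_zero hP
  rwa [← sec_zero (P := P), ofSection_sec] at h

/-- **S7641**: on a reduced connected proper scheme over a field all of whose irreducible components are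
curves, an invertible module of non-positive degree on every component has no sections or is trivial. -/
theorem h0_subsingleton_or_trivial (k : Type u) [Field k] (X : Scheme.{u}) [X.Over (Spec (CommRingCat.of k))]
    [IsProper (X ↘ (Spec (CommRingCat.of k)))]
    [IsReduced X] [ConnectedSpace X] [IsNoetherian X]
    (hdim : ∀ (C : Set X), C ∈ irreducibleComponents (X : Type u) → topologicalKrullDim C = 1)
    (L : X.Modules) (hL : PicF.IsInvertible L)
    (hdeg : ∀ (C : Set X) (hC : C ∈ irreducibleComponents (X : Type u)),
      @Curv2.deg k _ (X.irreducibleComponentIdeal C hC).radical.subscheme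
        ⟨(X.irreducibleComponentIdeal C hC).radical.subschemeι ≫ (X ↘ (Spec (CommRingCat.of k)))⟩
        ((Scheme.Modules.pullback (X.irreducibleComponentIdeal C hC).radical.subschemeι).obj L) 1 ≤ 0) :
    Subsingleton (Coh.HH X L 0) ∨ Nonempty (L ≅ Coh.structureModule X) := by
  classical
  have H : Groth.Agent.Lib.ProperFinHyp.Hyp.{u} :=
    fun A _ _ X _ _ M hM n => Groth.Agent.S0002.result A X M hM n
  by_cases hsub : Subsingleton (Coh.HH X L 0)
  · exact Or.inl hsub
  right
  -- a nonzero section
  obtain ⟨s, hs⟩ : ∃ s : Coh.structureModule X ⟶ L, s ≠ 0 := by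
    by_contra hcon
    push Not at hcon
    apply hsub
    refine ⟨fun a b => ?_⟩
    apply (Groth.Agent.Lib.H4Twist.h0Equiv L).injective
    have h1 : ∀ σ : Γ(L, ⊤), σ = 0 := fun σ => by
      rw [← sec_ofSection σ, hcon (ofSection σ), sec_zero]
    rw [h1 (Groth.Agent.Lib.H4Twist.h0Equiv L a), h1 (Groth.Agent.Lib.H4Twist.h0Equiv L b)]
  -- the dichotomy on each component
  have key : ∀ (C : Set X), C ∈ irreducibleComponents (X : Type u) →
      C ⊆ (CohB1.genLocus L s : Set X) ∨ Disjoint C (CohB1.genLocus L s : Set X) := by
    intro C hC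
    set I := (X.irreducibleComponentIdeal C hC).radical with hI
    have hrad : I.radical = I := by
      rw [← Scheme.IdealSheafData.vanishingIdeal_support, Scheme.IdealSheafData.support_radical,
        Scheme.IdealSheafData.vanishingIdeal_support]
    have hsupp : (I.support : Set X) = C := rfl
    letI : I.subscheme.Over (Spec (CommRingCat.of k)) :=
      ⟨I.subschemeι ≫ (X ↘ (Spec (CommRingCat.of k)))⟩
    haveI : IsIntegral I.subscheme := by
      have h1 := Groth.Agent.Lib.H90DevAtom.isIntegral_subscheme I.support (hsupp ▸ hC.1)
      rw [Scheme.IdealSheafData.vanishingIdeal_support, hrad] at h1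
      exact h1
    haveI : IsProper (I.subscheme ↘ (Spec (CommRingCat.of k))) := by
      change IsProper (I.subschemeι ≫ (X ↘ (Spec (CommRingCat.of k))))
      infer_instance
    have hL' : PicF.IsInvertible ((Scheme.Modules.pullback I.subschemeι).obj L) :=
      Groth.Agent.Lib.H90Invertible.isInvertible_pullback I.subschemeι hL
    have hdimZ : topologicalKrullDim I.subscheme = 1 := by
      have hdimeq : topologicalKrullDim I.subscheme = topologicalKrullDim (I.support : Set X) := rfl
      rw [hdimeq, hsupp]
      exact hdim C hC
    have hrange : Set.range I.subschemeι = C := by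
      rw [Scheme.IdealSheafData.range_subschemeι, hsupp]
    let e : Coh.structureModule I.subscheme ≅ (Scheme.Modules.pullback I.subschemeι).obj (Coh.structureModule X) := Groth.Agent.Lib.ModPullback.pullbackUnitIso I.subschemeι
    let t : Coh.structureModule I.subscheme ⟶ (Scheme.Modules.pullback I.subschemeι).obj L :=
      e.hom ≫ (Scheme.Modules.pullback I.subschemeι).map s
    have hgl : CohB1.genLocus _ t = I.subschemeι ⁻¹ᵁ CohB1.genLocus L s :=
      Groth.Agent.Lib.H78PullSec.genLocus_pullback_map I.subschemeι L hL s e
    by_cases ht : t = 0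
    · right
      rw [Set.disjoint_left]
      intro x hxC hxg
      rw [← hrange] at hxC
      obtain ⟨z, rfl⟩ := hxC
      have hz : z ∈ CohB1.genLocus _ t := by rw [hgl]; exact hxg
      rw [ht, genLocus_zero' hL'] at hz
      exact hz
    · left
      intro x hxC
      rw [← hrange] at hxC
      obtain ⟨z, rfl⟩ := hxC
      have hz : z ∈ CohB1.genLocus _ t := by
        by_contra hz
        have := Groth.Agent.Lib.DegCurve54b.deg_pos H k I.subscheme hdimZ hL' t ht z hz
        exact absurd (hdeg C hC) (not_le.mpr this)
      rw [hgl] at hz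
      exact hz
  -- the generating locus is clopen
  have hfin : (irreducibleComponents (X : Type u)).Finite :=
    NoetherianSpace.finite_irreducibleComponents
  have hcl : IsClosed (CohB1.genLocus L s : Set X) := by
    have h1 : (CohB1.genLocus L s : Set X) =
        ⋃ C ∈ {C ∈ irreducibleComponents (X : Type u) | C ⊆ (CohB1.genLocus L s : Set X)}, C := by
      apply Set.Subset.antisymm
      · intro x hx
        have hxC : x ∈ irreducibleComponent x := mem_irreducibleComponent
        have hC := irreducibleComponent_mem_irreducibleComponents x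
        rcases key _ hC with h | h
        · exact Set.mem_biUnion (⟨hC, h⟩ : irreducibleComponent x ∈ {C ∈ irreducibleComponents (X : Type u) |
            C ⊆ (CohB1.genLocus L s : Set X)}) hxC
        · exact absurd hx (Set.disjoint_left.1 h hxC)
      · intro x hx
        obtain ⟨C, hC, hxC⟩ := Set.mem_iUnion₂.1 hx
        exact hC.2 hxC
    rw [h1]
    exact (hfin.subset (fun C hC => hC.1)).isClosed_biUnion
      (fun C hC => isClosed_of_mem_irreducibleComponents C hC.1)
  have hclopen : IsClopen (CohB1.genLocus L s : Set X) := ⟨hcl, (CohB1.genLocus L s).2⟩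
  rcases isClopen_iff.1 hclopen with h | h
  · exfalso
    apply hs
    apply eq_zero_of_genLocus_eq_bot hL s
    exact Opens.ext h
  · have htop : CohB1.genLocus L s = ⊤ := Opens.ext h
    haveI := Groth.Agent.Lib.PullInverse.isIso_of_genLocus_eq_top s htop
    exact ⟨(asIso s).symm⟩

end Groth.Agent.Lib.H78CurveH0
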