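import Groth.Agent.Lib.H78PullAmple3
import Groth.Agent.Lib.H78AtlasOps

/-!
# helper78: ampleness of external tensor products (namespace `Groth.Agent.Lib.H78ExtTensor`)

* `exists_affine_sec`: an ample module has sections with affine `X_s` inside any open neighbourhood.
* `isAmple_tensor_pullbacks`: `a : Z ⟶ X`, `b : Z ⟶ Y`, `L`, `N` ample, `Z` quasi-compact and
  `a⁻¹U' ⊓ b⁻¹V'` affine for small affine `U'`, `V'` ⇒ `a^*L ⊗ b^*N` ample.
* `isAmple_extTensor` (= S9816): `p^*L ⊗ q^*N` ample on `X ×_S Y` for `S` quasi-separated.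
-/

set_option autoImplicit false
universe u
open CategoryTheory CategoryTheory.Limits AlgebraicGeometry Opposite TopologicalSpace
open Groth.Agent.Lib.H90Invertible Groth.Agent.Lib.H78Atlas Groth.Agent.Lib.H78KeyLemma
open Groth.Agent.Lib.H78TensorGen Groth.Agent.Lib.H78SecCoord Groth.Agent.Lib.H78AtlasOps

namespace Groth.Agent.Lib.H78ExtTensor

/-- an ample module has sections `s` with `x ∈ X_s ⊆ U`, `X_s` affine -/
theorem exists_affine_sec {X : Scheme.{u}} {L : X.Modules} (hL : CohB1.IsAmple L) (x : X)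
    (U : X.Opens) (hxU : x ∈ U) :
    ∃ (n : ℕ) (s : Coh.structureModule X ⟶ CohB1.tensorPow L (n + 1)),
      x ∈ CohB1.genLocus _ s ∧ CohB1.genLocus _ s ≤ U ∧ IsAffineOpen (CohB1.genLocus _ s) := by
  haveI : CompactSpace X := hL.2.1
  obtain ⟨U₀, hU₀, hxU₀, hU₀U⟩ := Opens.isBasis_iff_nbhd.1 X.isBasis_affineOpens hxU
  obtain ⟨n, s, hxs, hsU⟩ := (Groth.Agent.Lib.H78AmpleBasis.isAmple_iff_nbhd hL.1).1 hL x U₀ hxU₀
  refine ⟨n, s, hxs, hsU.trans hU₀U, ?_⟩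
  have := isAffineOpen_genLocus_inf (isInvertible_tensorPow hL.1 (n + 1)) s hU₀
  rwa [inf_eq_left.2 hsU] at this

theorem isAmple_tensor_pullbacks {X Y Z : Scheme.{u}} [CompactSpace Z] (a : Z ⟶ X) (b : Z ⟶ Y)
    {L : X.Modules} {N : Y.Modules} (hL : CohB1.IsAmple L) (hN : CohB1.IsAmple N)
    (h : ∀ z : Z, ∃ (U : X.Opens) (V : Y.Opens), a z ∈ U ∧ b z ∈ V ∧
      ∀ (U' : X.Opens) (V' : Y.Opens), IsAffineOpen U' → IsAffineOpen V' → U' ≤ U → V' ≤ V →
        IsAffineOpen (a ⁻¹ᵁ U' ⊓ b ⁻¹ᵁ V')) :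
    CohB1.IsAmple (CohB1.tensorMod ((Scheme.Modules.pullback a).obj L)
      ((Scheme.Modules.pullback b).obj N)) := by
  have h1 := isInvertible_pullback a hL.1
  have h2 := isInvertible_pullback b hN.1
  refine ⟨isInvertible_tensorMod h1 h2, inferInstance, fun z => ?_⟩
  obtain ⟨U, V, hzU, hzV, haff⟩ := h z
  obtain ⟨n, s, hxs, hsU, hsaff⟩ := exists_affine_sec hL (a z) U hzU
  obtain ⟨m, t, hyt, htV, htaff⟩ := exists_affine_sec hN (b z) V hzV
  obtain ⟨s', hs'⟩ := Groth.Agent.Lib.H78PullSec.exists_pull_sec a hL.1 (n + 1) s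
  obtain ⟨t', ht'⟩ := Groth.Agent.Lib.H78PullSec.exists_pull_sec b hN.1 (m + 1) t
  obtain ⟨W, hxW, -, ⟨A₁⟩, ⟨A₂⟩⟩ := exists_atlas₂ h1 h2
  have hW := iSup_eq_top_of_mem hxW
  obtain ⟨k, hk⟩ : ∃ k, k + 1 = (n + 1) * (m + 1) := ⟨(n + 1) * (m + 1) - 1, by
    have : 0 < (n + 1) * (m + 1) := Nat.mul_pos (Nat.succ_pos n) (Nat.succ_pos m)
    omega⟩
  obtain ⟨τ, -, hτ⟩ := exists_sec_mul hW (A₁.pow (n + 1)) (A₂.pow (m + 1))
    ((A₁.tmul A₂).pow (k + 1)) (m + 1) (n + 1) (by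
      intro i j
      rw [Atlas.pow_trans, Atlas.pow_trans, Atlas.pow_trans, Atlas.tmul_trans, mul_pow, ← pow_mul,
        ← pow_mul, hk, Nat.mul_comm (m + 1) (n + 1)]) (sec s') (sec t')
  have hτ' := hτ (Nat.succ_pos m) (Nat.succ_pos n)
  rw [ofSection_sec, ofSection_sec, hs', ht'] at hτ'
  refine ⟨k, ofSection τ, ?_, ?_⟩
  · rw [hτ']; exact ⟨hxs, hyt⟩
  · rw [hτ']; exact haff _ _ hsaff htaff hsU htV

/-- **S9816**: the external tensor product of ample modules over a quasi-separated base is ample -/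
theorem isAmple_extTensor {X Y S : Scheme.{u}} [QuasiSeparatedSpace S]
    (f : X ⟶ S) (g : Y ⟶ S) (L : X.Modules) (N : Y.Modules) (hL : CohB1.IsAmple L)
    (hN : CohB1.IsAmple N) :
    CohB1.IsAmple (CohB1.tensorMod ((Scheme.Modules.pullback (pullback.fst f g)).obj L)
      ((Scheme.Modules.pullback (pullback.snd f g)).obj N)) := by
  haveI : CompactSpace X := hL.2.1
  haveI : CompactSpace Y := hN.2.1
  haveI : QuasiCompact f := inferInstance
  refine isAmple_tensor_pullbacks (pullback.fst f g) (pullback.snd f g) hL hN (fun z => ?_)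
  obtain ⟨W, hW, hzW, -⟩ := Opens.isBasis_iff_nbhd.1 S.isBasis_affineOpens
    (show f (pullback.fst f g z) ∈ (⊤ : S.Opens) from trivial)
  refine ⟨f ⁻¹ᵁ W, g ⁻¹ᵁ W, hzW, ?_, fun U' V' hU' hV' hU'W hV'W =>
    Groth.Agent.Lib.H78PullAmple.isAffineOpen_pullback_inf hU' hV' hW hU'W hV'W⟩
  change g (pullback.snd f g z) ∈ W
  rw [← Scheme.Hom.comp_apply, ← pullback.condition, Scheme.Hom.comp_apply]
  exact hzW

end Groth.Agent.Lib.H78ExtTensor
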