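import Groth.Agent.Lib.H78ExtTensor
import Groth.Agent.Lib.OXModRestrict

/-!
# helper78: relative ampleness of external tensor products (namespace `Groth.Agent.Lib.H78ExtTensor`)

* `isAmple_restrict_tensor_pullbacks`: `(a^*L ⊗ b^*N)|_T` is ample when `L|_U`, `N|_V` are ample, `T ⊆ a⁻¹U ⊓ b⁻¹V`
  quasi-compact and `a⁻¹U' ⊓ b⁻¹V'` affine for affine `U' ⊆ U`, `V' ⊆ V`.
* `isRelAmple_extTensor` (= S4428).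
-/

set_option autoImplicit false
universe u
open CategoryTheory CategoryTheory.Limits AlgebraicGeometry Opposite TopologicalSpace
open Groth.Agent.Lib.H90Invertible Groth.Agent.Lib.H78Atlas Groth.Agent.Lib.H78KeyLemma
open Groth.Agent.Lib.H78TensorGen Groth.Agent.Lib.H78SecCoord Groth.Agent.Lib.H78AtlasOps
open Groth.Agent.Lib.H78PullAmple

namespace Groth.Agent.Lib.H78ExtTensor

lemma ι_image_resLE_preimage {X Z : Scheme.{u}} (a : Z ⟶ X) (U : X.Opens) (T : Z.Opens)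
    (e : T ≤ a ⁻¹ᵁ U) (O : U.toScheme.Opens) :
    T.ι ''ᵁ ((a.resLE U T e) ⁻¹ᵁ O) = T ⊓ a ⁻¹ᵁ (U.ι ''ᵁ O) := by
  rw [Scheme.Hom.resLE_preimage, Scheme.Hom.image_preimage_eq_opensRange_inf, Scheme.Opens.opensRange_ι]

theorem isAmple_restrict_tensor_pullbacks {X Y Z : Scheme.{u}} (a : Z ⟶ X) (b : Z ⟶ Y)
    (L : X.Modules) (N : Y.Modules) (U : X.Opens) (V : Y.Opens) (T : Z.Opens)
    [CompactSpace ↥(T : Scheme.{u})]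
    (hTU : T ≤ a ⁻¹ᵁ U) (hTV : T ≤ b ⁻¹ᵁ V)
    (hL : CohB1.IsAmple (L.restrict U.ι)) (hN : CohB1.IsAmple (N.restrict V.ι))
    (haff : ∀ (U' : X.Opens) (V' : Y.Opens), IsAffineOpen U' → IsAffineOpen V' → U' ≤ U → V' ≤ V →
      IsAffineOpen (T ⊓ (a ⁻¹ᵁ U' ⊓ b ⁻¹ᵁ V'))) :
    CohB1.IsAmple ((CohB1.tensorMod ((Scheme.Modules.pullback a).obj L)
      ((Scheme.Modules.pullback b).obj N)).restrict T.ι) := by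
  have key := isAmple_tensor_pullbacks (a.resLE U T hTU) (b.resLE V T hTV) hL hN (fun z => by
    refine ⟨⊤, ⊤, trivial, trivial, fun U' V' hU' hV' _ _ => ?_⟩
    rw [← T.ι.isAffineOpen_iff_of_isOpenImmersion]
    have h1 : T.ι ''ᵁ ((a.resLE U T hTU) ⁻¹ᵁ U' ⊓ (b.resLE V T hTV) ⁻¹ᵁ V') =
        T ⊓ (a ⁻¹ᵁ (U.ι ''ᵁ U') ⊓ b ⁻¹ᵁ (V.ι ''ᵁ V')) := by
      have h2 : T.ι ''ᵁ ((a.resLE U T hTU) ⁻¹ᵁ U' ⊓ (b.resLE V T hTV) ⁻¹ᵁ V') =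
          T.ι ''ᵁ ((a.resLE U T hTU) ⁻¹ᵁ U') ⊓ T.ι ''ᵁ ((b.resLE V T hTV) ⁻¹ᵁ V') := by
        ext x
        simp only [Opens.coe_inf, SetLike.mem_coe]
        constructor
        · rintro ⟨y, ⟨hy1, hy2⟩, rfl⟩
          exact ⟨⟨y, hy1, rfl⟩, ⟨y, hy2, rfl⟩⟩
        · rintro ⟨⟨y, hy1, rfl⟩, ⟨y', hy2, hyy'⟩⟩
          have : y' = y := T.ι.isOpenEmbedding.injective hyy'
          subst this
          exact ⟨y', ⟨hy1, hy2⟩, rfl⟩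
      rw [h2, ι_image_resLE_preimage, ι_image_resLE_preimage]
      ext x
      simp only [Opens.coe_inf, Set.mem_inter_iff, SetLike.mem_coe]
      tauto
    rw [h1]
    exact haff _ _ (hU'.image_of_isOpenImmersion U.ι) (hV'.image_of_isOpenImmersion V.ι)
      (U.ι_image_le U') (V.ι_image_le V'))
  refine Groth.Agent.Lib.H78AmpleUnit.isAmple_of_iso ?_ key
  exact (Groth.Agent.Lib.H78AmpleUnit.tensorModIso (resLEPullbackIso a U T hTU L)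
    (resLEPullbackIso b V T hTV N)).symm ≪≫
    (Groth.Agent.Lib.OXModRestrict.restrictTensorIso T.ι _ _).symm

/-- **S4428**: relative ampleness of the external tensor product -/
theorem isRelAmple_extTensor {X₁ X₂ Y₁ Y₂ S : Scheme.{u}} (a₁ : Y₁ ⟶ S) (a₂ : Y₂ ⟶ S)
    (f₁ : X₁ ⟶ Y₁) (f₂ : X₂ ⟶ Y₂) [QuasiCompact f₁] [QuasiCompact f₂] (L₁ : X₁.Modules)
    (L₂ : X₂.Modules) (hL₁ : RelAmple.IsRelAmple f₁ L₁) (hL₂ : RelAmple.IsRelAmple f₂ L₂) :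
    RelAmple.IsRelAmple
      (pullback.map (f₁ ≫ a₁) (f₂ ≫ a₂) a₁ a₂ f₁ f₂ (𝟙 S) (Category.comp_id (f₁ ≫ a₁))
        (Category.comp_id (f₂ ≫ a₂)))
      (CohB1.tensorMod ((Scheme.Modules.pullback (pullback.fst (f₁ ≫ a₁) (f₂ ≫ a₂))).obj L₁)
        ((Scheme.Modules.pullback (pullback.snd (f₁ ≫ a₁) (f₂ ≫ a₂))).obj L₂)) := by
  obtain ⟨F, hF⟩ : ∃ F, F = pullback.map (f₁ ≫ a₁) (f₂ ≫ a₂) a₁ a₂ f₁ f₂ (𝟙 S)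
    (Category.comp_id (f₁ ≫ a₁)) (Category.comp_id (f₂ ≫ a₂)) := ⟨_, rfl⟩
  rw [← hF]
  haveI : QuasiCompact F := by
    rw [hF]
    exact MorphismProperty.pullbackMap (P := @QuasiCompact) inferInstance inferInstance rfl rfl
  have hF1 : F ≫ pullback.fst a₁ a₂ = pullback.fst (f₁ ≫ a₁) (f₂ ≫ a₂) ≫ f₁ := by
    rw [hF]; exact pullback.lift_fst _ _ _
  have hF2 : F ≫ pullback.snd a₁ a₂ = pullback.snd (f₁ ≫ a₁) (f₂ ≫ a₂) ≫ f₂ := by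
    rw [hF]; exact pullback.lift_snd _ _ _
  refine Groth.Agent.Lib.H78RelAmple.isRelAmple_of_local F _
    {D | IsAffineOpen D ∧ ∃ (W : S.Opens) (V₁ : Y₁.Opens) (V₂ : Y₂.Opens), IsAffineOpen W ∧
      IsAffineOpen V₁ ∧ IsAffineOpen V₂ ∧ V₁ ≤ a₁ ⁻¹ᵁ W ∧ V₂ ≤ a₂ ⁻¹ᵁ W ∧
      D ≤ pullback.fst a₁ a₂ ⁻¹ᵁ V₁ ⊓ pullback.snd a₁ a₂ ⁻¹ᵁ V₂} ?_ ?_
  · rintro D ⟨hD, W, V₁, V₂, hW, hV₁, hV₂, h1, h2, hDV⟩
    have hD₀ : IsAffineOpen (pullback.fst a₁ a₂ ⁻¹ᵁ V₁ ⊓ pullback.snd a₁ a₂ ⁻¹ᵁ V₂) :=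
      isAffineOpen_pullback_inf hV₁ hV₂ hW h1 h2
    haveI : CompactSpace ↥((F ⁻¹ᵁ D : Scheme.Opens _) : Scheme.{u}) :=
      isCompact_iff_compactSpace.1 (QuasiCompact.isCompact_preimage (f := F) _ D.2 hD.isCompact)
    haveI : CompactSpace ↥((F ⁻¹ᵁ (pullback.fst a₁ a₂ ⁻¹ᵁ V₁ ⊓ pullback.snd a₁ a₂ ⁻¹ᵁ V₂) :
        Scheme.Opens _) : Scheme.{u}) :=
      isCompact_iff_compactSpace.1 (QuasiCompact.isCompact_preimage (f := F) _ (Opens.isOpen _)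
        hD₀.isCompact)
    have hT1 : F ⁻¹ᵁ (pullback.fst a₁ a₂ ⁻¹ᵁ V₁ ⊓ pullback.snd a₁ a₂ ⁻¹ᵁ V₂) ≤
        pullback.fst (f₁ ≫ a₁) (f₂ ≫ a₂) ⁻¹ᵁ (f₁ ⁻¹ᵁ V₁) := by
      intro z hz
      have hz1 : (F ≫ pullback.fst a₁ a₂) z ∈ V₁ := hz.1
      rw [hF1] at hz1
      exact hz1
    have hT2 : F ⁻¹ᵁ (pullback.fst a₁ a₂ ⁻¹ᵁ V₁ ⊓ pullback.snd a₁ a₂ ⁻¹ᵁ V₂) ≤
        pullback.snd (f₁ ≫ a₁) (f₂ ≫ a₂) ⁻¹ᵁ (f₂ ⁻¹ᵁ V₂) := by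
      intro z hz
      have hz2 : (F ≫ pullback.snd a₁ a₂) z ∈ V₂ := hz.2
      rw [hF2] at hz2
      exact hz2
    have key := isAmple_restrict_tensor_pullbacks (pullback.fst (f₁ ≫ a₁) (f₂ ≫ a₂))
      (pullback.snd (f₁ ≫ a₁) (f₂ ≫ a₂)) L₁ L₂ (f₁ ⁻¹ᵁ V₁) (f₂ ⁻¹ᵁ V₂)
      (F ⁻¹ᵁ (pullback.fst a₁ a₂ ⁻¹ᵁ V₁ ⊓ pullback.snd a₁ a₂ ⁻¹ᵁ V₂)) hT1 hT2
      (hL₁.2 ⟨V₁, hV₁⟩) (hL₂.2 ⟨V₂, hV₂⟩) (fun U' V' hU' hV' hU'V hV'V => by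
        have h3 : F ⁻¹ᵁ (pullback.fst a₁ a₂ ⁻¹ᵁ V₁ ⊓ pullback.snd a₁ a₂ ⁻¹ᵁ V₂) ⊓
            (pullback.fst (f₁ ≫ a₁) (f₂ ≫ a₂) ⁻¹ᵁ U' ⊓ pullback.snd (f₁ ≫ a₁) (f₂ ≫ a₂) ⁻¹ᵁ V') =
            pullback.fst (f₁ ≫ a₁) (f₂ ≫ a₂) ⁻¹ᵁ U' ⊓ pullback.snd (f₁ ≫ a₁) (f₂ ≫ a₂) ⁻¹ᵁ V' := by
          refine inf_eq_right.2 ?_
          intro z hz
          constructor
          · change (F ≫ pullback.fst a₁ a₂) z ∈ V₁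
            rw [hF1]
            exact hU'V hz.1
          · change (F ≫ pullback.snd a₁ a₂) z ∈ V₂
            rw [hF2]
            exact hV'V hz.2
        rw [h3]
        exact isAffineOpen_pullback_inf hU' hV' hW
          (hU'V.trans (fun x hx => h1 hx)) (hV'V.trans (fun x hx => h2 hx)))
    refine Groth.Agent.Lib.H78RelAmple.isAmple_restrict_of_range_subset (F ⁻¹ᵁ D).ι
      (F ⁻¹ᵁ (pullback.fst a₁ a₂ ⁻¹ᵁ V₁ ⊓ pullback.snd a₁ a₂ ⁻¹ᵁ V₂)).ι ?_ key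
    rw [Scheme.Opens.range_ι, Scheme.Opens.range_ι]
    intro z hz
    exact hDV hz
  · intro V hV y hy
    obtain ⟨W, hW, hyW, -⟩ := Opens.isBasis_iff_nbhd.1 S.isBasis_affineOpens
      (show a₁ (pullback.fst a₁ a₂ y) ∈ (⊤ : S.Opens) from trivial)
    have hyW' : a₂ (pullback.snd a₁ a₂ y) ∈ W := by
      rw [← Scheme.Hom.comp_apply, ← pullback.condition, Scheme.Hom.comp_apply]
      exact hyW
    obtain ⟨V₁, hV₁, hyV₁, hV₁W⟩ := Opens.isBasis_iff_nbhd.1 Y₁.isBasis_affineOpens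
      (show pullback.fst a₁ a₂ y ∈ a₁ ⁻¹ᵁ W from hyW)
    obtain ⟨V₂, hV₂, hyV₂, hV₂W⟩ := Opens.isBasis_iff_nbhd.1 Y₂.isBasis_affineOpens
      (show pullback.snd a₁ a₂ y ∈ a₂ ⁻¹ᵁ W from hyW')
    obtain ⟨h, hle, hyh⟩ := hV.exists_basicOpen_le
      (V := pullback.fst a₁ a₂ ⁻¹ᵁ V₁ ⊓ pullback.snd a₁ a₂ ⁻¹ᵁ V₂) ⟨y, ⟨hyV₁, hyV₂⟩⟩ hy
    exact ⟨h, hyh, hV.basicOpen h, W, V₁, V₂, hW, hV₁, hV₂, hV₁W, hV₂W, hle⟩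

end Groth.Agent.Lib.H78ExtTensor
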