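/-
# helper78: finitely many generating sections of a globally generated invertible module on a quasi-compact scheme
-/
import Groth.Agent.Lib.H78GlobGen
import Groth.Agent.Lib.H4GenBy

set_option autoImplicit false
universe u
open CategoryTheory CategoryTheory.Limits AlgebraicGeometry TopologicalSpace Opposite
open Groth.Agent.Lib.H90Invertible Groth.Agent.Lib.H78TensorGen Groth.Agent.Lib.H78SecCoord

namespace Groth.Agent.Lib.H78FinGen

variable {X : Scheme.{u}}

/-- a globally generated invertible module on a quasi-compact scheme is generated by finitely many global sections -/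
theorem exists_fin_generatedBy [CompactSpace X] {M : X.Modules} (hM : PicF.IsInvertible M)
    (hg : Curv2.IsGloballyGenerated M) :
    ∃ (m : ℕ) (s : Fin m → Γ(M, ⊤)), ProjUP.GeneratedBy M s := by
  have h1 := Groth.Agent.Lib.H78GlobGen.exists_sec_mem_genLocus hM hg
  choose τ hτ using h1
  obtain ⟨t, ht⟩ := isCompact_univ.elim_finite_subcover
    (fun y => (CohB1.genLocus M (ofSection (τ y)) : Set X))
    (fun y => (CohB1.genLocus M (ofSection (τ y))).2) (fun x _ => Set.mem_iUnion.2 ⟨x, hτ x⟩)
  obtain ⟨m, ⟨em⟩⟩ := Finite.exists_equiv_fin t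
  refine ⟨m, fun k => τ (em.symm k).1, ?_⟩
  apply Groth.Agent.Lib.H4Twist.generatedBy_of_isGen
  intro x
  obtain ⟨y, hy, hxy⟩ := Set.mem_iUnion₂.1 (ht (Set.mem_univ x))
  refine ⟨em ⟨y, hy⟩, CohB1.genLocus M (ofSection (τ y)), hxy, ?_⟩
  rw [em.symm_apply_apply]
  have h := isGen_genLocus (ofSection (τ y))
  rw [sec_ofSection] at h
  exact h

end Groth.Agent.Lib.H78FinGen
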