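/-
helper78: ampleness from a finite list of ideal sheaves with product zero.
* `Van L F`: `H^p(X, F ⊗ L^n) = 0` for `n ≫ 0`, `p > 0`.
* `van_of_shortExact`, `van_idealMod_of_van_mul`, `van_idealMod_of_list`
* `isAmple_of_list_prod_eq_bot`: `X` proper over Noetherian `R`, `l` a nonempty list of ideal sheaves with
  `l.prod = ⊥` and `L|V(I)` ample for all `I ∈ l` ⇒ `L` ample.
-/
import Groth.Agent.Lib.H78IdealDev

set_option autoImplicit false
universe u

open CategoryTheory CategoryTheory.Limits AlgebraicGeometry Opposite TopologicalSpace CohB1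
open Groth.Agent.Lib.IdealMod Groth.Agent.Lib.OXModTensor Groth.Agent.Lib.CohLES
open Groth.Agent.Lib.H90Invertible Groth.Agent.Lib.H78IdealProd Groth.Agent.Lib.H78IdealDev

namespace Groth.Agent.Lib.H78IdealChain

variable {X : Scheme.{u}}

/-- `H^p(X, F ⊗ L^n) = 0` for `n ≫ 0` and all `p > 0`. -/
def Van (L F : X.Modules) : Prop :=
  ∃ n₀ : ℕ, ∀ n, n₀ ≤ n → ∀ p : ℕ, 0 < p → Subsingleton (Coh.HH X (tensorMod F (tensorPow L n)) p)

theorem van_of_shortExact {L : X.Modules} (hL : PicF.IsInvertible L) {S : ShortComplex X.Modules}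
    (hS : S.ShortExact) (h1 : Van L S.X₁) (h3 : Van L S.X₃) : Van L S.X₂ := by
  obtain ⟨n₁, h₁⟩ := h1
  obtain ⟨n₂, h₂⟩ := h3
  refine ⟨max n₁ n₂, fun n hn p hp => ?_⟩
  obtain ⟨P', -, ⟨e'⟩⟩ := Groth.Agent.Lib.H78Dual.exists_tensor_inverse
    (Groth.Agent.Lib.H78TensorGen.isInvertible_tensorPow hL n)
  have e'' : CohB1.tensorMod (tensorPow L n) P' ≅ Coh.structureModule X := braiding _ P' ≪≫ e'
  have hT := Groth.Agent.Lib.TwistEquiv.shortExact_map_tensorRight e'' hS
  haveI : Subsingleton (Coh.HH X (S.map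
      (Groth.Agent.Lib.TwistEquiv.tensorRightFunctor (tensorPow L n))).X₁ p) :=
    h₁ n (le_trans (le_max_left _ _) hn) p hp
  haveI : Subsingleton (Coh.HH X (S.map
      (Groth.Agent.Lib.TwistEquiv.tensorRightFunctor (tensorPow L n))).X₃ p) :=
    h₂ n (le_trans (le_max_right _ _) hn) p hp
  exact Groth.Agent.Lib.CohLES.subsingleton_mid hT p

variable (R : Type u) [CommRing R] [IsNoetherianRing R] (f : X ⟶ Spec (CommRingCat.of R)) [IsProper f]
  {L : X.Modules} (hL : PicF.IsInvertible L)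

include f hL in
theorem van_of_killed [IsLocallyNoetherian X] (I : X.IdealSheafData)
    (hI : CohB1.IsAmple ((Scheme.Modules.pullback I.subschemeι).obj L)) (F : X.Modules)
    (hF : Coh.IsCoh F) (hk : ClSub.KilledByIdeal I F) : Van L F :=
  vanishing_of_killed R I (I.subschemeι ≫ f) L hL hI F hF hk

include f hL in
theorem van_idealMod_of_van_mul (I : X.IdealSheafData)
    (hI : CohB1.IsAmple ((Scheme.Modules.pullback I.subschemeι).obj L)) (𝔟 : X.IdealSheafData)
    (h : Van L (ClSub.idealMod (I * 𝔟))) : Van L (ClSub.idealMod 𝔟) := by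
  haveI : IsLocallyNoetherian X := LocallyOfFiniteType.isLocallyNoetherian f
  have hle : I * 𝔟 ≤ 𝔟 := fun U => (Ideal.mul_le_right : I.ideal U * 𝔟.ideal U ≤ 𝔟.ideal U)
  have hS : (ShortComplex.mk (idealModMap hle) (cokernel.π (idealModMap hle))
      (cokernel.condition (idealModMap hle))).ShortExact :=
    ShortComplex.ShortExact.mk' (ShortComplex.exact_of_g_is_cokernel _ (cokernelIsCokernel _))
      inferInstance inferInstance
  have hk2 : ClSub.KilledByIdeal I (cokernel (idealModMap hle)) := killedByIdeal_cokernel I 𝔟 hle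
  have hcO := Groth.Agent.Lib.CohFinAmple.isCoh_structureModule X
  have hc1 : Coh.IsCoh (ClSub.idealMod (I * 𝔟)) :=
    Groth.Agent.Lib.H90DevFilt.isCoh_of_mono (ClSub.idealModι _) hcO
  have hc0 : Coh.IsCoh (ClSub.idealMod 𝔟) :=
    Groth.Agent.Lib.H90DevFilt.isCoh_of_mono (ClSub.idealModι _) hcO
  haveI := hc1.1
  have hc2 : Coh.IsCoh (cokernel (idealModMap hle)) :=
    Groth.Agent.Lib.H90OXModExact.isCoh_cokernel _ hc0
  have h3 : Van L (cokernel (idealModMap hle)) := van_of_killed R f hL I hI _ hc2 hk2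
  have h2 := van_of_shortExact hL hS h h3
  exact h2

include f hL in
theorem van_idealMod_of_list (l : List X.IdealSheafData)
    (hl : ∀ I ∈ l, CohB1.IsAmple ((Scheme.Modules.pullback I.subschemeι).obj L))
    (𝔞 : X.IdealSheafData) (h : Van L (ClSub.idealMod (l.prod * 𝔞))) : Van L (ClSub.idealMod 𝔞) := by
  induction l with
  | nil =>
    rw [List.prod_nil, one_mul] at h
    exact h
  | cons I l ih =>
    rw [List.prod_cons, mul_assoc] at h
    exact ih (fun I' hI' => hl I' (List.mem_cons_of_mem _ hI'))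
      (van_idealMod_of_van_mul R f hL I (hl I List.mem_cons_self) _ h)

include f hL in
/-- **Ampleness from a finite list of ideal sheaves with zero product.** -/
theorem isAmple_of_list_prod_eq_bot (l : List X.IdealSheafData)
    (hl : ∀ I ∈ l, CohB1.IsAmple ((Scheme.Modules.pullback I.subschemeι).obj L))
    (I₀ : X.IdealSheafData) (hI₀ : I₀ ∈ l) (hprod : l.prod = ⊥) : CohB1.IsAmple L := by
  haveI : IsLocallyNoetherian X := LocallyOfFiniteType.isLocallyNoetherian f
  haveI : CompactSpace X := QuasiCompact.compactSpace_of_compactSpace f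
  refine isAmple_of_H1_idealMod X L hL (fun 𝔞 => ?_)
  have hcO := Groth.Agent.Lib.CohFinAmple.isCoh_structureModule X
  have h0 : Van L (ClSub.idealMod (l.prod * 𝔞)) := by
    have hb : l.prod * 𝔞 = ⊥ := by rw [hprod]; exact zero_mul 𝔞
    rw [hb]
    refine van_of_killed R f hL I₀ (hl I₀ hI₀) _
      (Groth.Agent.Lib.H90DevFilt.isCoh_of_mono (ClSub.idealModι _) hcO)
      (killedByIdeal_idealMod_of_mul_eq_bot (mul_zero I₀))
  obtain ⟨n₀, h⟩ := van_idealMod_of_list R f hL l hl 𝔞 h0
  exact ⟨n₀, h (n₀ + 1) (Nat.le_succ _) 1 one_pos⟩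

end Groth.Agent.Lib.H78IdealChain
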