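import Groth.Agent.Lib.H78SecTwist2
import Groth.Agent.Lib.H78AmpleUnit
import Groth.Prelude.Def_ClSub2

/-!
# helper78: sections of invertible modules on integral schemes (namespace `Groth.Agent.Lib.H78Integral`)

* `co_ne_zero`: on an integral scheme, the local coordinates of a nonzero section of an invertible module are nonzero.
* `nonempty_iso_of_inverse_of_sections`: if `Γ(X, O_X)` is a field, `L ⊗ M ≅ O_X` and both `L` and `M` have nonzero
  sections, then `L ≅ O_X`.
-/

set_option autoImplicit false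
universe u
open CategoryTheory CategoryTheory.Limits AlgebraicGeometry MonoidalCategory Opposite TopologicalSpace
open Groth.Agent.Lib.H90Invertible Groth.Agent.Lib.StructureModule Groth.Agent.Lib.H78TensorGen
open Groth.Agent.Lib.H78SecCoord Groth.Agent.Lib.H78Atlas Groth.Agent.Lib.H78SecTwist

namespace Groth.Agent.Lib.H78Integral

variable {X : Scheme.{u}}

/-- on an integral scheme, the local coordinates of a nonzero section are nonzero -/
theorem co_ne_zero [IsIntegral X] {L : X.Modules} {V : X → X.Opens} (hxV : ∀ x, x ∈ V x) (A : Atlas L V)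
    (s : Coh.structureModule X ⟶ L) (hs : s ≠ 0) (x : X) : A.co (sec s) x ≠ 0 := by
  intro h0
  apply hs
  have hV := iSup_eq_top_of_mem hxV
  have hall : ∀ y, A.co (sec s) y = 0 := by
    intro y
    have hc := A.co_compat (sec s) y x
    rw [h0] at hc
    haveI hne : Nonempty ↥((V y ⊓ V x : X.Opens) : Scheme.{u}) := by
      obtain ⟨z, hz⟩ := (PreirreducibleSpace.isPreirreducible_univ (X := X)) (V y) (V x) (V y).2 (V x).2
        ⟨y, trivial, hxV y⟩ ⟨x, trivial, hxV x⟩
      exact ⟨⟨z, hz.2⟩⟩
    have hinj := map_injective_of_isIntegral (X := X) (homOfLE (inf_le_left : V y ⊓ V x ≤ V y))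
    apply hinj
    have : rf (inf_le_right : V y ⊓ V x ≤ V x) (0 : Γ(X, V x)) = 0 := map_zero _
    rw [this, zero_mul] at hc
    rw [map_zero]
    exact hc
  have h1 : sec s = 0 := by
    refine A.ext_co hV (fun y => ?_)
    rw [hall y]
    symm
    change coord (A.gen y) le_rfl (rs L le_top (0 : Γ(L, ⊤))) = 0
    rw [Groth.Agent.Lib.H78KeyLemma.rs_zero, coord_zero]
  rw [← ofSection_sec s, h1, ← ofSection_sec (0 : Coh.structureModule X ⟶ L)]
  congr 1

/-- if `Γ(X, O_X)` is a field, `L ⊗ M ≅ O_X` and both `L` and `M` have nonzero sections, then `L ≅ O_X` -/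
theorem nonempty_iso_of_inverse_of_sections [IsIntegral X] (hF : IsField Γ(X, ⊤)) {L M : X.Modules}
    (hL : PicF.IsInvertible L) (hM : PicF.IsInvertible M)
    (e : CohB1.tensorMod L M ≅ Coh.structureModule X)
    (s : Coh.structureModule X ⟶ L) (hs : s ≠ 0) (t : Coh.structureModule X ⟶ M) (ht : t ≠ 0) :
    Nonempty (L ≅ Coh.structureModule X) := by
  obtain ⟨V, hxV, -, ⟨A⟩, ⟨A'⟩⟩ := exists_atlas₂ hL hM
  have hV := iSup_eq_top_of_mem hxV
  -- the product section and its generating locus
  have hloc : CohB1.genLocus _ (ofSection (tmul (sec s) (sec t))) =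
      CohB1.genLocus L s ⊓ CohB1.genLocus M t := by
    rw [genLocus_ofSection_tmul hL hM, ofSection_sec, ofSection_sec]
  have hloc2 : CohB1.genLocus _ (ofSection (tmul (sec s) (sec t))) =
      X.basicOpen (H78AmpleUnit.fn (ofSection (tmul (sec s) (sec t)) ≫ e.hom)) := by
    rw [← H78AmpleUnit.genLocus_eq, H78AmpleUnit.genLocus_comp_iso]
  -- the function is nonzero
  have hne : H78AmpleUnit.fn (ofSection (tmul (sec s) (sec t)) ≫ e.hom) ≠ 0 := by
    intro h0
    obtain ⟨x⟩ : Nonempty X := inferInstance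
    have h1 : CohB1.genLocus _ (ofSection (tmul (sec s) (sec t))) ⊓ V x = ⊥ := by
      rw [hloc2, h0, Scheme.basicOpen_zero, bot_inf_eq]
    rw [(A.tmul A').genLocus_inf, co_tmul, basicOpen_eq_bot_iff] at h1
    haveI : Nonempty ↥((V x : X.Opens) : Scheme.{u}) := ⟨⟨x, hxV x⟩⟩
    rcases mul_eq_zero.1 h1 with h2 | h2
    · exact co_ne_zero hxV A s hs x h2
    · exact co_ne_zero hxV A' t ht x h2
  have hu : IsUnit (H78AmpleUnit.fn (ofSection (tmul (sec s) (sec t)) ≫ e.hom)) := by
    letI := hF.toField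
    exact IsUnit.mk0 _ hne
  have htop : CohB1.genLocus L s = ⊤ := by
    have h1 : CohB1.genLocus L s ⊓ CohB1.genLocus M t = ⊤ := by
      rw [← hloc, hloc2, Scheme.basicOpen_of_isUnit _ hu]
    exact top_le_iff.1 (h1 ▸ inf_le_left)
  rw [nonempty_iso_structureModule_iff]
  have hg := isGen_genLocus s
  refine ⟨sec s, ?_⟩
  have h2 := hg.mono (le_of_eq htop.symm : (⊤ : X.Opens) ≤ CohB1.genLocus L s)
  change IsGen L ⊤ (rs L _ (rs L _ _)) at h2
  rw [rs_rs, rs_self] at h2
  exact h2

end Groth.Agent.Lib.H78Integral
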