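import Groth.Agent.Lib.H78SecTwist

/-!
# helper78: generating locus of a tensor product of sections (namespace `Groth.Agent.Lib.H78SecTwist`)

* `co_tmul`, `genLocus_ofSection_tmul`, `sec_tmulHom`, `genLocus_tmulHom` (= S15745).
-/

set_option autoImplicit false
universe u
open CategoryTheory CategoryTheory.Limits AlgebraicGeometry MonoidalCategory Opposite TopologicalSpace
open Groth.Agent.Lib.H90Invertible Groth.Agent.Lib.StructureModule Groth.Agent.Lib.H78TensorGen
open Groth.Agent.Lib.H78SecCoord Groth.Agent.Lib.H78Atlas Groth.Agent.Lib.H78KeyLemma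

namespace Groth.Agent.Lib.H78SecTwist

variable {X : Scheme.{u}}

lemma co_tmul {P P' : X.Modules} {ι : Type*} {V : ι → X.Opens} (A : Atlas P V) (A' : Atlas P' V)
    (σ : Γ(P, ⊤)) (σ' : Γ(P', ⊤)) (i : ι) :
    (A.tmul A').co (tmul σ σ') i = A.co σ i * A'.co σ' i := by
  symm
  refine Atlas.co_unique (A.tmul A') (tmul σ σ') i ?_
  change _ • tmul (A.E i) (A'.E i) = _
  rw [tmul_rs, ← A.co_spec σ i, ← A'.co_spec σ' i, smul_tmul, tmul_smul, mul_smul]

theorem genLocus_ofSection_tmul {P P' : X.Modules} (hP : PicF.IsInvertible P)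
    (hP' : PicF.IsInvertible P') (σ : Γ(P, ⊤)) (σ' : Γ(P', ⊤)) :
    CohB1.genLocus _ (ofSection (tmul σ σ')) =
      CohB1.genLocus P (ofSection σ) ⊓ CohB1.genLocus P' (ofSection σ') := by
  obtain ⟨V, hxV, -, ⟨A⟩, ⟨A'⟩⟩ := exists_atlas₂ hP hP'
  refine opens_eq_of_cover (iSup_eq_top_of_mem hxV) (fun i => ?_)
  rw [(A.tmul A').genLocus_inf, co_tmul, Scheme.basicOpen_mul, ← A.genLocus_inf, ← A'.genLocus_inf]
  ext x
  simp only [Opens.coe_inf, Set.mem_inter_iff, SetLike.mem_coe]
  tauto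

lemma sec_tmulHom {M N : X.Modules} (a : Coh.structureModule X ⟶ M) (b : Coh.structureModule X ⟶ N) :
    sec (SecTwist.tmulHom a b) = tmul (sec a) (sec b) := by
  have h := SecTwist.val_tmulHom a b ⊤
  rw [val_eq, val_eq, val_eq, tmul_eq, rs_self, rs_self, rs_self] at h
  exact h

/-- **S15745** -/
theorem genLocus_tmulHom {L L' : X.Modules} (hL : PicF.IsInvertible L) (hL' : PicF.IsInvertible L')
    (f : Coh.structureModule X ⟶ L) (g : Coh.structureModule X ⟶ L') :
    CohB1.genLocus (CohB1.tensorMod L L') (SecTwist.tmulHom f g) =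
      CohB1.genLocus L f ⊓ CohB1.genLocus L' g := by
  rw [← ofSection_sec (SecTwist.tmulHom f g), sec_tmulHom, genLocus_ofSection_tmul hL hL',
    ofSection_sec, ofSection_sec]

end Groth.Agent.Lib.H78SecTwist
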