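/-
helper78: powers of sections of invertible modules.
* `eq_zero_of_epow_eq_zero`: on a reduced scheme, a section of an invertible module with a vanishing tensor power
  vanishes.
* `genLocus_epow`: `genLocus (σ^{d+1}) = genLocus σ`.
* `genLocus_eq_top_of_iso_unit`: a nonzero section of a module isomorphic to `O_X` generates everywhere if
  `Γ(X, O_X)` is a field.
* `nonempty_iso_of_tensorPow_trivial` (S14809).
-/
import Groth.Agent.Lib.H78SecTwist2
import Groth.Agent.Lib.H78AmpleUnit
import Groth.Agent.Lib.PullInverse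

set_option autoImplicit false
universe u
open CategoryTheory CategoryTheory.Limits AlgebraicGeometry MonoidalCategory Opposite TopologicalSpace
open Groth.Agent.Lib.H90Invertible Groth.Agent.Lib.StructureModule Groth.Agent.Lib.H78TensorGen
open Groth.Agent.Lib.H78SecCoord

namespace Groth.Agent.Lib.H78PowSec

variable {X : Scheme.{u}} {L : X.Modules}

/-- On a reduced scheme, a section of an invertible module one of whose tensor powers vanishes is zero. -/
theorem eq_zero_of_epow_eq_zero [IsReduced X] (hL : PicF.IsInvertible L) (σ : Γ(L, ⊤)) (d : ℕ)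
    (h : epow σ d = 0) : σ = 0 := by
  have key : ∀ x : X, ∃ U : X.Opens, x ∈ U ∧ rs L (le_top : U ≤ ⊤) σ = 0 := by
    intro x
    obtain ⟨U, hxU, e, he⟩ := (isInvertible_iff_exists_isGen L).1 hL x
    refine ⟨U, hxU, ?_⟩
    have h1 : coord he le_rfl (rs L le_top σ) • rs L le_rfl e = rs L le_top σ := coord_spec he le_rfl _
    rw [rs_self] at h1
    have h2 : rs (CohB1.tensorPow L d) (le_top : U ≤ ⊤) (epow σ d) = 0 := by rw [h]; exact map_zero _
    rw [epow_rs, ← h1, epow_smul] at h2
    have h3 : (coord he le_rfl (rs L le_top σ)) ^ d = 0 := by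
      have hg := isGen_epow he d
      have h4 := (hg U le_rfl).1
      apply h4
      change _ • rs _ le_rfl (epow e d) = (0 : Γ(X, U)) • rs _ le_rfl (epow e d)
      rw [rs_self, zero_smul]
      exact h2
    haveI : _root_.IsReduced Γ(X, U) := IsReduced.component_reduced U
    have h5 : coord he le_rfl (rs L le_top σ) = 0 := IsReduced.eq_zero _ ⟨d, h3⟩
    rw [← h1, h5, zero_smul]
  refine sec_ext L σ 0 (fun x _ => ?_)
  obtain ⟨U, hxU, hU⟩ := key x
  exact ⟨U, le_top, hxU, hU.trans (map_zero _).symm⟩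

theorem genLocus_epow_zero (σ : Γ(L, ⊤)) :
    CohB1.genLocus (CohB1.tensorPow L 0) (ofSection (epow σ 0)) = ⊤ := by
  refine top_le_iff.1 (fun x _ => ?_)
  refine (mem_genLocus_iff _ x).2 ⟨⊤, trivial, ?_⟩
  rw [sec_ofSection, rs_self]
  exact isGen_one ⊤

theorem genLocus_epow (hL : PicF.IsInvertible L) (σ : Γ(L, ⊤)) :
    ∀ d : ℕ, CohB1.genLocus (CohB1.tensorPow L (d + 1)) (ofSection (epow σ (d + 1))) =
      CohB1.genLocus L (ofSection σ)
  | 0 => by
    rw [epow_succ]
    have h := Groth.Agent.Lib.H78SecTwist.genLocus_ofSection_tmul (isInvertible_tensorPow hL 0) hL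
      (epow σ 0) σ
    exact h.trans (by rw [genLocus_epow_zero, top_inf_eq])
  | d + 1 => by
    rw [epow_succ]
    have h := Groth.Agent.Lib.H78SecTwist.genLocus_ofSection_tmul (isInvertible_tensorPow hL (d + 1)) hL
      (epow σ (d + 1)) σ
    exact h.trans (by rw [genLocus_epow hL σ d, inf_idem])

theorem eq_zero_of_fn_eq_zero (ψ : Coh.structureModule X ⟶ Coh.structureModule X)
    (h : Groth.Agent.Lib.H78AmpleUnit.fn ψ = 0) : ψ = 0 := by
  apply Scheme.Modules.hom_ext
  intro U
  ext a
  obtain ⟨b, rfl⟩ := Groth.Agent.Lib.H78AmpleUnit.toSec_surjective U a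
  have h1 := Groth.Agent.Lib.H78AmpleUnit.app_toSec ψ U b
  rw [h, map_zero, mul_zero] at h1
  exact h1

theorem sec_zero : sec (0 : Coh.structureModule X ⟶ L) = 0 := rfl

/-- If `Γ(X, O_X)` is a field, a nonzero section of a module isomorphic to `O_X` generates it everywhere. -/
theorem genLocus_eq_top_of_iso_unit (hfield : IsField (Γ(X, ⊤) : Type u)) {P : X.Modules}
    (φ : P ≅ Coh.structureModule X) (τ : Γ(P, ⊤)) (hτ : τ ≠ 0) :
    CohB1.genLocus P (ofSection τ) = ⊤ := by
  rw [← Groth.Agent.Lib.H78AmpleUnit.genLocus_comp_iso (ofSection τ) φ,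
    Groth.Agent.Lib.H78AmpleUnit.genLocus_eq]
  have hne : Groth.Agent.Lib.H78AmpleUnit.fn (ofSection τ ≫ φ.hom) ≠ 0 := by
    intro h0
    have h1 := eq_zero_of_fn_eq_zero _ h0
    have h2 : ofSection τ = 0 := by
      have := congrArg (fun ψ => ψ ≫ φ.inv) h1
      simpa using this
    apply hτ
    rw [← sec_ofSection τ, h2, sec_zero]
  letI := hfield.toField
  exact Scheme.basicOpen_of_isUnit X (IsUnit.mk0 _ hne)

/-- **S14809**: on a reduced scheme whose ring of global functions is a field, an invertible module with a nonzero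
section and a trivial positive tensor power is trivial. -/
theorem nonempty_iso_of_tensorPow_trivial [IsReduced X] (hfield : IsField (Γ(X, ⊤) : Type u))
    (hL : PicF.IsInvertible L) (s : Coh.structureModule X ⟶ L) (hs : s ≠ 0) (d : ℕ) (hd : 0 < d)
    (htriv : Nonempty (CohB1.tensorPow L d ≅ Coh.structureModule X)) :
    Nonempty (L ≅ Coh.structureModule X) := by
  obtain ⟨φ⟩ := htriv
  obtain ⟨d, rfl⟩ : ∃ d', d = d' + 1 := ⟨d - 1, by omega⟩
  have hσ : sec s ≠ 0 := by
    intro h0
    apply hs
    rw [← ofSection_sec s, h0]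
    rw [← sec_zero (L := L), ofSection_sec]
  have hτ : epow (sec s) (d + 1) ≠ 0 := fun h0 => hσ (eq_zero_of_epow_eq_zero hL _ _ h0)
  have h1 := genLocus_eq_top_of_iso_unit hfield φ _ hτ
  rw [genLocus_epow hL (sec s) d, ofSection_sec] at h1
  haveI := Groth.Agent.Lib.PullInverse.isIso_of_genLocus_eq_top s h1
  exact ⟨(asIso s).symm⟩

end Groth.Agent.Lib.H78PowSec
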