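/-
helper78: sections of invertible modules on integral schemes.
* `eq_zero_of_rs_eq_zero`: a global section vanishing on a nonempty open vanishes.
* `tmul_ne_zero`: the tensor product of two nonzero global sections of invertible modules is nonzero.
-/
import Groth.Agent.Lib.H78PowSec

set_option autoImplicit false
universe u
open CategoryTheory CategoryTheory.Limits AlgebraicGeometry MonoidalCategory Opposite TopologicalSpace
open Groth.Agent.Lib.H90Invertible Groth.Agent.Lib.StructureModule Groth.Agent.Lib.H78TensorGen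
open Groth.Agent.Lib.H78SecCoord

namespace Groth.Agent.Lib.H78IntegralSec

variable {X : Scheme.{u}}

/-- On an integral scheme, a global section of an invertible module vanishing on a nonempty open vanishes. -/
theorem eq_zero_of_rs_eq_zero [IsIntegral X] {P : X.Modules} (hP : PicF.IsInvertible P) {U : X.Opens}
    (hU : (U : Set X).Nonempty) (σ : Γ(P, ⊤)) (h : rs P (le_top : U ≤ ⊤) σ = 0) : σ = 0 := by
  refine sec_ext P σ 0 (fun x _ => ?_)
  obtain ⟨V, hxV, e, he⟩ := (isInvertible_iff_exists_isGen P).1 hP x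
  refine ⟨V, le_top, hxV, ?_⟩
  have h1 : coord he le_rfl (rs P le_top σ) • rs P le_rfl e = rs P le_top σ := coord_spec he le_rfl _
  rw [rs_self] at h1
  -- restrict to `U ⊓ V`
  have hne : ((U ⊓ V : X.Opens) : Set X).Nonempty :=
    (PreirreducibleSpace.isPreirreducible_univ (X := X)) U V U.2 V.2
      (by simpa using hU) (by simpa using ⟨x, hxV⟩) |>.imp (fun y hy => ⟨hy.2.1, hy.2.2⟩)
  have h2 : rs P (inf_le_right : U ⊓ V ≤ V) (rs P le_top σ) = 0 := by
    rw [rs_rs]
    have := congrArg (rs P (inf_le_left : U ⊓ V ≤ U)) h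
    rw [rs_rs] at this
    exact this.trans (map_zero _)
  rw [← h1] at h2
  have h3 : X.presheaf.map (homOfLE (inf_le_right : U ⊓ V ≤ V)).op (coord he le_rfl (rs P le_top σ)) •
      rs P (inf_le_right : U ⊓ V ≤ V) e = 0 := by
    rw [← h2]
    exact (P.map_smul (homOfLE (inf_le_right : U ⊓ V ≤ V)) _ _).symm
  have h4 : X.presheaf.map (homOfLE (inf_le_right : U ⊓ V ≤ V)).op (coord he le_rfl (rs P le_top σ)) = 0 := by
    apply (he (U ⊓ V) inf_le_right).1
    change _ • rs P _ e = (0 : Γ(X, U ⊓ V)) • rs P _ e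
    rw [zero_smul]
    exact h3
  have h5 : coord he le_rfl (rs P le_top σ) = 0 :=
    map_injective_of_isIntegral X (H := ⟨⟨hne.some, hne.some_mem⟩⟩)
      (homOfLE (inf_le_right : U ⊓ V ≤ V)) (h4.trans (map_zero _).symm)
  rw [← h1, h5, zero_smul]
  exact (map_zero _).symm

/-- On an integral scheme, the tensor product of two nonzero global sections of invertible modules is nonzero. -/
theorem tmul_ne_zero [IsIntegral X] {P P' : X.Modules} (hP : PicF.IsInvertible P)
    (hP' : PicF.IsInvertible P') (σ : Γ(P, ⊤)) (σ' : Γ(P', ⊤)) (hσ : σ ≠ 0) (hσ' : σ' ≠ 0) :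
    tmul σ σ' ≠ 0 := by
  intro h0
  obtain ⟨x⟩ : Nonempty X := inferInstance
  obtain ⟨U, hxU, e₀, he₀⟩ := (isInvertible_iff_exists_isGen P).1 hP x
  obtain ⟨U', hxU', e₀', he₀'⟩ := (isInvertible_iff_exists_isGen P').1 hP' x
  have he : IsGen P (U ⊓ U') (rs P inf_le_left e₀) := he₀.mono inf_le_left
  have he' : IsGen P' (U ⊓ U') (rs P' inf_le_right e₀') := he₀'.mono inf_le_right
  have hne : ((U ⊓ U' : X.Opens) : Set X).Nonempty := ⟨x, hxU, hxU'⟩
  haveI : IsDomain Γ(X, U ⊓ U') :=
    @IsIntegral.component_integral X _ (U ⊓ U') ⟨⟨x, hxU, hxU'⟩⟩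
  have h1 : coord he le_rfl (rs P le_top σ) • rs P le_rfl (rs P inf_le_left e₀) = rs P le_top σ :=
    coord_spec he le_rfl _
  have h1' : coord he' le_rfl (rs P' le_top σ') • rs P' le_rfl (rs P' inf_le_right e₀') = rs P' le_top σ' :=
    coord_spec he' le_rfl _
  rw [rs_self] at h1 h1'
  have h2 : rs _ (le_top : U ⊓ U' ≤ ⊤) (tmul σ σ') = 0 := by rw [h0]; exact map_zero _
  rw [tmul_rs, ← h1, ← h1', smul_tmul, tmul_smul, smul_smul] at h2
  have h3 : coord he le_rfl (rs P le_top σ) * coord he' le_rfl (rs P' le_top σ') = 0 := by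
    have hg := isGen_tmul he he'
    apply (hg (U ⊓ U') le_rfl).1
    change _ • rs _ le_rfl _ = (0 : Γ(X, U ⊓ U')) • rs _ le_rfl _
    rw [rs_self, zero_smul]
    exact h2
  rcases mul_eq_zero.1 h3 with h4 | h4
  · apply hσ
    refine eq_zero_of_rs_eq_zero hP hne σ ?_
    rw [← h1, h4, zero_smul]
  · apply hσ'
    refine eq_zero_of_rs_eq_zero hP' hne σ' ?_
    rw [← h1', h4, zero_smul]

end Groth.Agent.Lib.H78IntegralSec
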