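/-
helper78: ampleness can be tested on the (reduced) irreducible components (X proper over a Noetherian ring).
* `exists_nilradical_pow_eq_bot`: on a Noetherian scheme the nilradical is nilpotent.
* `list_prod_le_of_mem`
* `isAmple_of_irreducibleComponents`
-/
import Groth.Agent.Lib.H78IdealChain
import Mathlib.RingTheory.Noetherian.Nilpotent

set_option autoImplicit false
universe u

open CategoryTheory CategoryTheory.Limits AlgebraicGeometry Opposite TopologicalSpace CohB1

namespace Groth.Agent.Lib.H78IrredComp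

variable {X : Scheme.{u}}

theorem list_prod_le_of_mem {l : List X.IdealSheafData} {I : X.IdealSheafData} (h : I ∈ l) :
    l.prod ≤ I := by
  induction l with
  | nil => exact absurd h List.not_mem_nil
  | cons J l ih =>
    rw [List.prod_cons]
    rcases List.mem_cons.1 h with rfl | h'
    · exact fun U => (Ideal.mul_le_right : l.prod.ideal U * I.ideal U ≤ I.ideal U).trans'
        (by rw [mul_comm]; exact le_rfl)
    · exact fun U => (Ideal.mul_le_right : J.ideal U * l.prod.ideal U ≤ l.prod.ideal U).trans (ih h' U)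

theorem pow_le_pow_of_le {I J : X.IdealSheafData} (h : I ≤ J) (k : ℕ) : I ^ k ≤ J ^ k :=
  fun U => Ideal.pow_right_mono (h U) k

/-- On a Noetherian scheme, the nilradical is nilpotent. -/
theorem exists_nilradical_pow_eq_bot (X : Scheme.{u}) [IsNoetherian X] :
    ∃ m : ℕ, X.nilradical ^ (m + 1) = ⊥ := by
  let 𝒰 := X.affineCover.finiteSubcover
  let U : 𝒰.I₀ → X.affineOpens := fun i => ⟨(𝒰.f i).opensRange, isAffineOpen_opensRange _⟩
  have hU : ⨆ i, (U i).1 = ⊤ := 𝒰.iSup_opensRange
  have key : ∀ i, ∃ m : ℕ, (nilradical Γ(X, (U i).1)) ^ m = ⊥ := by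
    intro i
    haveI : IsNoetherianRing Γ(X, (U i).1) := IsLocallyNoetherian.component_noetherian (U i)
    exact IsNoetherianRing.isNilpotent_nilradical _
  choose m hm using key
  refine ⟨Finset.univ.sup m, ?_⟩
  refine Scheme.IdealSheafData.ext_of_iSup_eq_top U hU (fun i => ?_)
  change (X.nilradical.ideal (U i)) ^ (Finset.univ.sup m + 1) = ⊥
  have h1 : X.nilradical.ideal (U i) = nilradical Γ(X, (U i).1) := rfl
  rw [h1, eq_bot_iff, ← hm i]
  exact Ideal.pow_le_pow_right ((Finset.le_sup (Finset.mem_univ i)).trans (Nat.le_succ _))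

/-- **Ampleness can be tested on the reduced irreducible components** (`X` proper over a Noetherian ring). -/
theorem isAmple_of_irreducibleComponents (R : Type u) [CommRing R] [IsNoetherianRing R]
    (f : X ⟶ Spec (CommRingCat.of R)) [IsProper f] {L : X.Modules} (hL : PicF.IsInvertible L)
    (h : ∀ Z : Closeds X, (Z : Set X) ∈ irreducibleComponents X →
      CohB1.IsAmple ((Scheme.Modules.pullback
        (Scheme.IdealSheafData.vanishingIdeal Z).subschemeι).obj L)) :
    CohB1.IsAmple L := by
  haveI : IsLocallyNoetherian X := LocallyOfFiniteType.isLocallyNoetherian f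
  haveI : CompactSpace X := QuasiCompact.compactSpace_of_compactSpace f
  haveI : IsNoetherian X := {}
  rcases isEmpty_or_nonempty X with hX | hX
  · exact ⟨hL, inferInstance, fun x => (IsEmpty.false x).elim⟩
  let T : Set (Closeds X) := {Z | (Z : Set X) ∈ irreducibleComponents X}
  have hT : T.Finite :=
    Set.Finite.of_injOn (f := fun Z : Closeds X => (Z : Set X)) (fun Z hZ => hZ)
      (fun Z _ Z' _ hZZ' => Closeds.ext hZZ') NoetherianSpace.finite_irreducibleComponents
  let l₀ : List X.IdealSheafData := hT.toFinset.toList.map Scheme.IdealSheafData.vanishingIdeal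
  have hmem : ∀ I ∈ l₀, ∃ Z ∈ T, I = Scheme.IdealSheafData.vanishingIdeal Z := by
    intro I hI
    obtain ⟨Z, hZ, rfl⟩ := List.mem_map.1 hI
    exact ⟨Z, (Set.Finite.mem_toFinset hT).1 (Finset.mem_toList.1 hZ), rfl⟩
  have hmem' : ∀ Z ∈ T, Scheme.IdealSheafData.vanishingIdeal Z ∈ l₀ := fun Z hZ =>
    List.mem_map.2 ⟨Z, Finset.mem_toList.2 ((Set.Finite.mem_toFinset hT).2 hZ), rfl⟩
  have hcomp : ∀ x : X, ∃ Z ∈ T, x ∈ Z := fun x =>
    ⟨⟨irreducibleComponent x, isClosed_irreducibleComponent⟩,
      irreducibleComponent_mem_irreducibleComponents x, mem_irreducibleComponent⟩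
  have hl₀ : l₀.prod ≤ X.nilradical := by
    rw [← Scheme.IdealSheafData.vanishingIdeal_top,
      ← Scheme.IdealSheafData.le_support_iff_le_vanishingIdeal]
    intro x _
    obtain ⟨Z, hZ, hxZ⟩ := hcomp x
    have h1 := Scheme.IdealSheafData.support_antitone (list_prod_le_of_mem (hmem' Z hZ))
    exact h1 hxZ
  obtain ⟨m, hm⟩ := exists_nilradical_pow_eq_bot X
  have hprod : ((List.replicate (m + 1) l₀).flatten).prod = ⊥ := by
    rw [List.prod_flatten, List.map_replicate, List.prod_replicate]
    exact le_bot_iff.1 (hm ▸ pow_le_pow_of_le hl₀ (m + 1))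
  obtain ⟨x⟩ := hX
  obtain ⟨Z₀, hZ₀, -⟩ := hcomp x
  refine Groth.Agent.Lib.H78IdealChain.isAmple_of_list_prod_eq_bot R f hL
    ((List.replicate (m + 1) l₀).flatten) (fun I hI => ?_)
    (Scheme.IdealSheafData.vanishingIdeal Z₀) ?_ hprod
  · obtain ⟨l', hl', hIl'⟩ := List.mem_flatten.1 hI
    rw [List.eq_of_mem_replicate hl'] at hIl'
    obtain ⟨Z, hZ, rfl⟩ := hmem I hIl'
    exact h Z hZ
  · exact List.mem_flatten.2 ⟨l₀, List.mem_replicate.2 ⟨Nat.succ_ne_zero m, rfl⟩, hmem' Z₀ hZ₀⟩

end Groth.Agent.Lib.H78IrredComp
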