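import Groth.Agent.Lib.H78GenOn
import Groth.Agent.Lib.H78SecTwist2
import Groth.Agent.Lib.H90InvertibleFP

/-!
# helper78: from ampleness on `X_σ` to global sections (namespace `Groth.Agent.Lib.H78LocalAmple`)

* `exists_global_sec`: `X` quasi-compact quasi-separated, `L`, `Q` invertible, `σ` a global section of `Q` and
  `L|_{X_σ}` ample.  Then every point of `X_σ` lies in an affine open `X_ζ ⊆ X_σ` with `ζ` a global section of
  `(L^(a+1) ⊗ Q^k) ⊗ Q` (EGA II 4.6.13-type argument).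
-/

set_option autoImplicit false
universe u
open CategoryTheory CategoryTheory.Limits AlgebraicGeometry MonoidalCategory Opposite TopologicalSpace
open Groth.Agent.Lib.H90Invertible Groth.Agent.Lib.StructureModule Groth.Agent.Lib.H78TensorGen
open Groth.Agent.Lib.H78SecCoord Groth.Agent.Lib.H78Atlas Groth.Agent.Lib.H78Restrict
open Groth.Agent.Lib.H78KeyLemma Groth.Agent.Lib.H78GenOn Groth.Agent.Lib.H78SecTwist

namespace Groth.Agent.Lib.H78LocalAmple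

variable {X : Scheme.{u}}

theorem exists_global_sec [CompactSpace X] [QuasiSeparatedSpace X] {L Q : X.Modules}
    (hL : PicF.IsInvertible L) (hQ : PicF.IsInvertible Q) (σ : Coh.structureModule X ⟶ Q)
    (U : X.Opens) (hU : CohB1.genLocus Q σ = U) (hamp : CohB1.IsAmple (L.restrict U.ι))
    (x : X) (hxU : x ∈ U) :
    ∃ (a k : ℕ) (ζ : Γ(CohB1.tensorMod (CohB1.tensorMod (CohB1.tensorPow L (a + 1)) (CohB1.tensorPow Q k)) Q, ⊤)),
      x ∈ CohB1.genLocus _ (ofSection ζ) ∧ IsAffineOpen (CohB1.genLocus _ (ofSection ζ)) ∧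
        CohB1.genLocus _ (ofSection ζ) ≤ U := by
  obtain ⟨a, s', hx', haff'⟩ := hamp.2.2 ⟨x, hxU⟩
  refine ⟨a, ?_⟩
  have hP : PicF.IsInvertible (CohB1.tensorPow L (a + 1)) := isInvertible_tensorPow hL (a + 1)
  haveI : (CohB1.tensorPow L (a + 1)).IsQuasicoherent := isQCoh_of_isInvertible hP
  have hF : QcLike (CohB1.tensorPow L (a + 1)) := qcLike_of_isQuasicoherent _
  -- the section of `(L^(a+1))|_U`
  obtain ⟨s'', hs''⟩ : ∃ s'' : Coh.structureModule (U : Scheme.{u}) ⟶ (CohB1.tensorPow L (a + 1)).restrict U.ι,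
      s'' = s' ≫ (restrictTensorPowIso U.ι L (a + 1)).inv := ⟨_, rfl⟩
  have hloc : CohB1.genLocus _ s'' = CohB1.genLocus _ s' := by
    rw [hs'']; exact H78AmpleUnit.genLocus_comp_iso s' (restrictTensorPowIso U.ι L (a + 1)).symm
  obtain ⟨τ₀, hτ₀⟩ : ∃ τ₀ : Γ(CohB1.tensorPow L (a + 1), U.ι ''ᵁ ⊤), τ₀ = ofR U.ι _ ⊤ (sec s'') := ⟨_, rfl⟩
  have h3 : U.ι ''ᵁ CohB1.genLocus _ s' = genOn _ (U.ι ''ᵁ ⊤) τ₀ := by
    rw [← hloc, hτ₀]; exact image_genLocus_restrict U.ι s''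
  have hGaff : IsAffineOpen (genOn _ (U.ι ''ᵁ ⊤) τ₀) := by
    rw [← h3]; exact haff'.image_of_isOpenImmersion U.ι
  have hxG : x ∈ genOn _ (U.ι ''ᵁ ⊤) τ₀ := by
    rw [← h3]; exact ⟨⟨x, hxU⟩, hx', rfl⟩
  -- transport to `X_σ`
  have e : CohB1.genLocus Q σ = U.ι ''ᵁ ⊤ := by rw [hU, Scheme.Opens.ι_image_top]
  obtain ⟨τ₁, hτ₁⟩ : ∃ τ₁ : Γ(CohB1.tensorPow L (a + 1), CohB1.genLocus Q σ), τ₁ = rs _ e.le τ₀ := ⟨_, rfl⟩
  have hG1 : genOn _ (CohB1.genLocus Q σ) τ₁ = genOn _ (U.ι ''ᵁ ⊤) τ₀ := by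
    rw [hτ₁]; exact genOn_rs_of_eq e τ₀
  obtain ⟨k, -, ξ, hξ⟩ := exists_twist_ext hQ σ hF τ₁
  rw [twist_eq] at hξ
  have hρ : IsGen (CohB1.tensorPow Q k) (CohB1.genLocus Q σ)
      (epow (rs Q (le_top : CohB1.genLocus Q σ ≤ ⊤) (sec σ)) k) := isGen_epow (isGen_genLocus σ) k
  have h4 := genLocus_inf_eq_genOn hρ τ₁ ξ hξ
  refine ⟨k, tmul ξ (sec σ), ?_⟩
  have h5 : CohB1.genLocus _ (ofSection (tmul ξ (sec σ))) = genOn _ (U.ι ''ᵁ ⊤) τ₀ := by
    rw [genLocus_ofSection_tmul (isInvertible_tensorMod hP (isInvertible_tensorPow hQ k)) hQ, ofSection_sec,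
      h4, hG1]
  rw [h5]
  refine ⟨hxG, hGaff, ?_⟩
  refine (genOn_le τ₀).trans ?_
  rw [Scheme.Opens.ι_image_top]

end Groth.Agent.Lib.H78LocalAmple
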