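/-
helper78: sections supported at closed points (towards Stacks 0FD7 / S7679).
* `VanNear G s x`: the global section `s` vanishes on a neighbourhood of `x`; `SmallSupp G`: every global section vanishes
  near every non-closed point.
* `SmallSupp.of_iso`, `smallSupp_of_isZero`
* `exists_preimage_of_shortExact`: left exactness of sections
* `vanNear_of_tmul`: if `τ` generates near `x` and `s ⊗ τ` vanishes near `x` then so does `s`
-/
import Groth.Agent.Lib.H78IntegralSec
import Groth.Agent.Lib.H4KoszulPn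
import Groth.Agent.Lib.IdealMod
import Groth.Agent.Lib.H90DevFilt

set_option autoImplicit false
universe u
open CategoryTheory CategoryTheory.Limits AlgebraicGeometry MonoidalCategory Opposite TopologicalSpace
open Groth.Agent.Lib.H90Invertible Groth.Agent.Lib.StructureModule Groth.Agent.Lib.H78TensorGen
open Groth.Agent.Lib.H78SecCoord

namespace Groth.Agent.Lib.H78NegTwist

variable {X : Scheme.{u}}

/-- the global section `s` vanishes near `x` -/
def VanNear (G : X.Modules) (s : Γ(G, ⊤)) (x : X) : Prop :=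
  ∃ U : X.Opens, x ∈ U ∧ rs G (le_top : U ≤ ⊤) s = 0

/-- every global section of `G` vanishes near every non-closed point -/
def SmallSupp (G : X.Modules) : Prop :=
  ∀ (s : Γ(G, ⊤)) (x : X), ¬ IsClosed ({x} : Set X) → VanNear G s x

lemma VanNear.map {G G' : X.Modules} (φ : G ⟶ G') {s : Γ(G, ⊤)} {x : X} (h : VanNear G s x) :
    VanNear G' (φ.app ⊤ s) x := by
  obtain ⟨U, hxU, hU⟩ := h
  refine ⟨U, hxU, ?_⟩
  rw [← app_rs, hU, map_zero]

theorem SmallSupp.of_iso {G G' : X.Modules} (e : G ≅ G') (h : SmallSupp G) : SmallSupp G' := by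
  intro s x hx
  have h1 := (h (e.inv.app ⊤ s) x hx).map e.hom
  have h2 : e.hom.app ⊤ (e.inv.app ⊤ s) = s := by
    have := congrArg (fun φ : G' ⟶ G' => φ.app ⊤ s) e.inv_hom_id
    exact this
  rwa [h2] at h1

theorem smallSupp_of_forall_eq_zero {G : X.Modules} (h : ∀ s : Γ(G, ⊤), s = 0) : SmallSupp G := by
  intro s x _
  exact ⟨⊤, trivial, by rw [h s]; exact map_zero _⟩

/-- left exactness of sections -/
theorem exists_preimage_of_shortExact {S : ShortComplex X.Modules} (hS : S.ShortExact) (U : X.Opens)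
    (s : Γ(S.X₂, U)) (hs : S.g.app U s = 0) : ∃ t : Γ(S.X₁, U), S.f.app U t = s := by
  haveI := hS.mono_f
  obtain ⟨t', ht'⟩ := ((Groth.Agent.Lib.IdealMod.kernel_sections S.g U).2 s).mp hs
  haveI : IsIso (kernel.lift S.g S.f S.zero) := by
    have h1 : Epi (kernel.lift S.g S.f S.zero) := S.exact_iff_epi_kernel_lift.mp hS.exact
    have h2 : Mono (kernel.lift S.g S.f S.zero) := by
      apply (config := { allowSynthFailures := true }) mono_of_mono_fac (kernel.lift_ι S.g S.f S.zero)
    exact isIso_of_mono_of_epi _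
  refine ⟨(inv (kernel.lift S.g S.f S.zero)).app U t', ?_⟩
  have h1 : S.f = kernel.lift S.g S.f S.zero ≫ kernel.ι S.g := (kernel.lift_ι _ _ _).symm
  have h2 : inv (kernel.lift S.g S.f S.zero) ≫ S.f = kernel.ι S.g := by
    rw [IsIso.inv_comp_eq]; exact h1
  rw [← ht', ← h2]
  rfl

/-- if `τ` generates `P` near `x` and `s ⊗ τ` vanishes near `x`, then `s` vanishes near `x` -/
theorem vanNear_of_tmul {G P : X.Modules} (s : Γ(G, ⊤)) (τ : Coh.structureModule X ⟶ P) (x : X)
    (hx : x ∈ CohB1.genLocus P τ) (h : VanNear (CohB1.tensorMod G P) (tmul s (sec τ)) x) :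
    VanNear G s x := by
  obtain ⟨U, hxU, hU⟩ := h
  obtain ⟨V, hxV, hV⟩ := (mem_genLocus_iff τ x).1 hx
  refine ⟨U ⊓ V, ⟨hxU, hxV⟩, ?_⟩
  have h1 := (tmul_gen_bijective G hV (inf_le_right : U ⊓ V ≤ V)).1
  apply h1
  change tmul (rs G le_top s) (rs P inf_le_right (rs P le_top (sec τ))) =
    tmul (0 : Γ(G, U ⊓ V)) (rs P inf_le_right (rs P le_top (sec τ)))
  rw [rs_rs, ← tmul_rs, Groth.Agent.Lib.H78SecTwist.tmul_zero_left']
  have h2 := congrArg (rs _ (inf_le_left : U ⊓ V ≤ U)) hU
  rw [rs_rs] at h2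
  exact h2.trans (map_zero _)

end Groth.Agent.Lib.H78NegTwist
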