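/-
helper78: negative twists of an ample module on an integral proper scheme with at least two points have no sections
(towards Stacks 0FD7 / S7679).
* `eq_zero_of_neg`
-/
import Groth.Agent.Lib.H78NegTwistA
import Groth.Agent.Lib.H78GlobGen
import Groth.Agent.Lib.H78PullAmple
import Groth.Agent.Lib.H78AtlasIso
import Groth.Agent.Lib.H4ProjFormula
import Groth.Agent.Lib.TwistEquiv
import Groth.Agent.Lib.ModPullback
import Groth.Agent.Lib.H90OXModSections

set_option autoImplicit false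
universe u
open CategoryTheory CategoryTheory.Limits AlgebraicGeometry MonoidalCategory Opposite TopologicalSpace
open Groth.Agent.Lib.H90Invertible Groth.Agent.Lib.StructureModule Groth.Agent.Lib.H78TensorGen
open Groth.Agent.Lib.H78SecCoord Groth.Agent.Lib.OXModTensor

namespace Groth.Agent.Lib.H78NegTwist

/-- On an integral scheme universally closed over a field with at least two points, a module `N` with
`N ⊗ L^n ≅ O`, `L` ample, `n ≥ 1`, has no nonzero global section. -/
theorem eq_zero_of_neg (k : Type u) [Field k] {Z : Scheme.{u}} (g : Z ⟶ Spec (CommRingCat.of k))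
    [UniversallyClosed g] [IsIntegral Z] (hZ : ∃ z z' : Z, z ≠ z') {L N : Z.Modules}
    (hL : CohB1.IsAmple L) (hN : PicF.IsInvertible N) (n : ℕ) (hn : 1 ≤ n)
    (e : CohB1.tensorMod N (CohB1.tensorPow L n) ≅ Coh.structureModule Z) (t : Γ(N, ⊤)) : t = 0 := by
  by_contra ht
  obtain ⟨z⟩ : Nonempty Z := inferInstance
  obtain ⟨j, u, hzu, haff⟩ := hL.2.2 z
  have hfield : IsField (Γ(Z, ⊤) : Type u) := isField_of_universallyClosed k g
  have hυ : sec u ≠ 0 := by
    obtain ⟨V, hzV, hV⟩ := (mem_genLocus_iff u z).1 hzu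
    intro h0
    apply Groth.Agent.Lib.H78GlobGen.germ_gen_ne_zero hV z hzV
    rw [h0]
    have : rs (CohB1.tensorPow L (j + 1)) (le_top : V ≤ ⊤) 0 = 0 := map_zero _
    rw [this, map_zero]
  have hLj := isInvertible_tensorPow hL.1 (j + 1)
  obtain ⟨m, rfl⟩ : ∃ m, n = m + 1 := ⟨n - 1, by omega⟩
  have h1 : epow t (j + 1) ≠ 0 := fun h =>
    ht (Groth.Agent.Lib.H78PowSec.eq_zero_of_epow_eq_zero hN t (j + 1) h)
  have h2 : epow (sec u) (m + 1) ≠ 0 := fun h =>
    hυ (Groth.Agent.Lib.H78PowSec.eq_zero_of_epow_eq_zero hLj (sec u) (m + 1) h)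
  have hprod := Groth.Agent.Lib.H78IntegralSec.tmul_ne_zero (isInvertible_tensorPow hN (j + 1))
    (isInvertible_tensorPow hLj (m + 1)) _ _ h1 h2
  let φ : CohB1.tensorMod (CohB1.tensorPow N (j + 1))
      (CohB1.tensorPow (CohB1.tensorPow L (j + 1)) (m + 1)) ≅ Coh.structureModule Z :=
    tensorModIso (Iso.refl _) (tensorPowMul L (j + 1) (m + 1) ≪≫
      eqToIso (by rw [Nat.mul_comm]) ≪≫ (tensorPowMul L (m + 1) (j + 1)).symm) ≪≫
      (tensorPowTensor N (CohB1.tensorPow L (m + 1)) (j + 1)).symm ≪≫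
      tensorPowIso e (j + 1) ≪≫ tensorPowUnit (j + 1)
  have h3 := Groth.Agent.Lib.H78PowSec.genLocus_eq_top_of_iso_unit hfield φ _ hprod
  rw [Groth.Agent.Lib.H78SecTwist.genLocus_ofSection_tmul (isInvertible_tensorPow hN (j + 1))
    (isInvertible_tensorPow hLj (m + 1))] at h3
  have h4 : CohB1.genLocus _ (ofSection (epow (sec u) (m + 1))) = ⊤ := by
    apply top_le_iff.1
    exact h3.symm.le.trans inf_le_right
  rw [Groth.Agent.Lib.H78PowSec.genLocus_epow hLj (sec u) m, ofSection_sec] at h4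
  rw [h4] at haff
  -- `Z` is the spectrum of a field
  letI := hfield.toField
  obtain ⟨z₁, z₂, hne⟩ := hZ
  apply hne
  have hr := haff.range_fromSpec
  have hz₁ : z₁ ∈ Set.range haff.fromSpec := by rw [hr]; trivial
  have hz₂ : z₂ ∈ Set.range haff.fromSpec := by rw [hr]; trivial
  obtain ⟨y₁, rfl⟩ := hz₁
  obtain ⟨y₂, rfl⟩ := hz₂
  congr 1
  exact Subsingleton.elim (α := PrimeSpectrum Γ(Z, ⊤)) y₁ y₂

/-- the twist of an atom on a closed integral subscheme with at least two points by a negative module has no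
nonzero global sections -/
theorem eq_zero_of_atom (k : Type u) [Field k] {X : Scheme.{u}} (f : X ⟶ Spec (CommRingCat.of k))
    [IsProper f] {L : X.Modules} (hL : CohB1.IsAmple L) {Z : Scheme.{u}} (i : Z ⟶ X)
    [IsClosedImmersion i] [IsIntegral Z] (hZ : ∃ z z' : Z, z ≠ z') (I : Z.Modules)
    (ι : I ⟶ Coh.structureModule Z) [Mono ι] (C : X.Modules) (eC : C ≅ (Coh.push i).obj I)
    {N : X.Modules} (hN : PicF.IsInvertible N) (n : ℕ) (hn : 1 ≤ n)
    (e : CohB1.tensorMod N (CohB1.tensorPow L n) ≅ Coh.structureModule X)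
    (s : Γ(CohB1.tensorMod C N, ⊤)) : s = 0 := by
  let NZ := (Scheme.Modules.pullback i).obj N
  let LZ := (Scheme.Modules.pullback i).obj L
  have hNZ : PicF.IsInvertible NZ := isInvertible_pullback i hN
  have hLZ : CohB1.IsAmple LZ := Groth.Agent.Lib.H78PullAmple.isAmple_pullback_of_isAffineHom i hL
  obtain ⟨ep⟩ := Groth.Agent.Lib.H78AtlasIso.nonempty_pullback_tensorPow_iso i hL.1 n
  obtain ⟨et⟩ := Groth.Agent.Lib.H78AtlasIso.nonempty_pullback_tensorMod_iso i hN
    (isInvertible_tensorPow hL.1 n)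
  let eZ : CohB1.tensorMod NZ (CohB1.tensorPow LZ n) ≅ Coh.structureModule Z :=
    tensorModIso (Iso.refl _) ep.symm ≪≫ et.symm ≪≫ (Scheme.Modules.pullback i).mapIso e ≪≫
      (Groth.Agent.Lib.ModPullback.pullbackUnitIso i).symm
  let E : CohB1.tensorMod C N ≅ (Scheme.Modules.pushforward i).obj (CohB1.tensorMod I NZ) :=
    tensorModIso eC (Iso.refl N) ≪≫ Groth.Agent.Lib.H4ProjFormula.projFormulaIso i I hN
  let ψ : CohB1.tensorMod I NZ ⟶ NZ := tensorModMap ι (𝟙 NZ) ≫ (leftUnitor NZ).hom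
  haveI : Mono ψ := by
    haveI := Groth.Agent.Lib.TwistEquiv.isEquivalence_tensorRightFunctor eZ
    haveI : Mono (tensorModMap ι (𝟙 NZ)) := by
      rw [← Groth.Agent.Lib.TwistEquiv.tensorRightFunctor_map]
      exact (Groth.Agent.Lib.TwistEquiv.tensorRightFunctor NZ).map_mono ι
    exact mono_comp _ _
  have hs' : E.hom.app ⊤ s = 0 := by
    have hinj := Groth.Agent.Lib.H90OXModSections.injective_app_of_mono ψ (i ⁻¹ᵁ ⊤)
    have h0 : Groth.Agent.Lib.H78PullSec.ofPush i _ ⊤ (E.hom.app ⊤ s) = 0 := by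
      apply hinj
      refine (eq_zero_of_neg k (i ≫ f) hZ hLZ hNZ n hn eZ _).trans ?_
      exact (map_zero _).symm
    exact h0
  have h2 : E.inv.app ⊤ (E.hom.app ⊤ s) = s := congrArg (fun φ : CohB1.tensorMod C N ⟶ _ => φ.app ⊤ s) E.hom_inv_id
  rw [← h2, hs', map_zero]

end Groth.Agent.Lib.H78NegTwist
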