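/-
helper78: the property `P L F` ("for `n ≫ 0` global sections of `F ⊗ L^{-n}` are supported at closed points") and its
stability under extensions by atoms (towards Stacks 0FD7 / S7679).
-/
import Groth.Agent.Lib.H78NegTwistB
import Groth.Agent.Lib.H78SecAdd
import Groth.Agent.Lib.H78Dual

set_option autoImplicit false
set_option linter.style.haveILetI false
universe u
open CategoryTheory CategoryTheory.Limits AlgebraicGeometry MonoidalCategory Opposite TopologicalSpace
open Groth.Agent.Lib.H90Invertible Groth.Agent.Lib.StructureModule Groth.Agent.Lib.H78TensorGen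
open Groth.Agent.Lib.H78SecCoord Groth.Agent.Lib.OXModTensor

namespace Groth.Agent.Lib.H78NegTwist

variable {X : Scheme.{u}}

/-- `N` is a tensor inverse of `L^n` -/
def Neg (L : X.Modules) (n : ℕ) (N : X.Modules) : Prop :=
  Nonempty (CohB1.tensorMod N (CohB1.tensorPow L n) ≅ Coh.structureModule X)

/-- for `n ≫ 0` the global sections of `F ⊗ L^{-n}` are supported at closed points -/
def P (L F : X.Modules) : Prop :=
  ∃ n₀ : ℕ, ∀ n : ℕ, n₀ ≤ n → ∀ N : X.Modules, PicF.IsInvertible N → Neg L n N →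
    SmallSupp (CohB1.tensorMod F N)

theorem P.of_iso {L F F' : X.Modules} (e : F ≅ F') (h : P L F) : P L F' := by
  obtain ⟨n₀, h⟩ := h
  exact ⟨n₀, fun n hn N hN hNeg => (h n hn N hN hNeg).of_iso (tensorModIso e (Iso.refl N))⟩

/-- `C` is killed by the functions vanishing at `p` -/
def KilledAt (C : X.Modules) (p : X) : Prop :=
  ∀ (U : X.Opens) (f : Γ(X, U)), p ∉ X.basicOpen f → ∀ c : Γ(C, U), f • c = 0

theorem KilledAt.of_iso {C C' : X.Modules} {p : X} (e : C ≅ C') (h : KilledAt C p) : KilledAt C' p := by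
  intro U f hf c
  have h1 := h U f hf (e.inv.app U c)
  have h2 : e.hom.app U (e.inv.app U c) = c :=
    congrArg (fun φ : C' ⟶ C' => φ.app U c) e.inv_hom_id
  rw [← h2, ← Scheme.Modules.Hom.app_smul, h1, map_zero]

/-- the direct image of a module on a reduced scheme all of whose points map to `p` is killed at `p` -/
theorem killedAt_push {Z : Scheme.{u}} (i : Z ⟶ X) [IsReduced Z] (p : X) (hp : ∀ z : Z, i z = p)
    (I : Z.Modules) : KilledAt ((Scheme.Modules.pushforward i).obj I) p := by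
  intro U f hf c
  have h1 : Z.basicOpen (i.app U f) = ⊥ := by
    rw [← Scheme.preimage_basicOpen]
    ext z
    simp only [Opens.coe_bot, Set.mem_empty_iff_false, iff_false]
    intro hz
    apply hf
    have : i z ∈ X.basicOpen f := hz
    rwa [hp z] at this
  have h2 : i.app U f = 0 := (basicOpen_eq_bot_iff _).1 h1
  have h3 := Groth.Agent.Lib.H78PullSec.push_smul i I U f (Groth.Agent.Lib.H78PullSec.ofPush i I U c)
  change f • c = 0
  have h4 : (i.app U f) • Groth.Agent.Lib.H78PullSec.ofPush i I U c = 0 := by rw [h2, zero_smul]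
  exact h3.trans h4

/-- a section killed at `p` tensored with a section vanishing at `p` is zero -/
theorem tmul_eq_zero_of_killedAt {C N Q : X.Modules} (hN : PicF.IsInvertible N)
    (hQ : PicF.IsInvertible Q) (p : X) (hC : KilledAt C p) (τ : Coh.structureModule X ⟶ Q)
    (hτ : p ∉ CohB1.genLocus Q τ) (c : Γ(CohB1.tensorMod C N, ⊤)) : tmul c (sec τ) = 0 := by
  refine sec_ext _ _ _ (fun y _ => ?_)
  obtain ⟨W₁, hyW₁, ε₀, hε₀⟩ := (isInvertible_iff_exists_isGen N).1 hN y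
  obtain ⟨W₂, hyW₂, e₀, he₀⟩ := (isInvertible_iff_exists_isGen Q).1 hQ y
  let W := W₁ ⊓ W₂
  have hε : IsGen N W (rs N inf_le_left ε₀) := hε₀.mono inf_le_left
  have he : IsGen Q W (rs Q inf_le_right e₀) := he₀.mono inf_le_right
  refine ⟨W, le_top, ⟨hyW₁, hyW₂⟩, ?_⟩
  rw [tmul_rs]
  obtain ⟨c₀, hc₀⟩ := (tmul_gen_bijective C hε (le_refl W)).2 (rs _ le_top c)
  have hc₀' : tmul c₀ (rs N inf_le_left ε₀) = rs _ le_top c := by
    rw [← hc₀]
    change _ = tmul c₀ (rs N le_rfl (rs N inf_le_left ε₀))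
    rw [rs_self]
  set a := coord he le_rfl (rs Q le_top (sec τ)) with ha
  have hspec : a • rs Q le_rfl (rs Q inf_le_right e₀) = rs Q le_top (sec τ) := coord_spec he le_rfl _
  rw [rs_self] at hspec
  have hpa : p ∉ X.basicOpen a := by
    rw [ha, ← genLocus_inf_eq he τ]
    exact fun h => hτ h.1
  rw [← hspec, ← hc₀', tmul_smul, ← smul_tmul, ← smul_tmul, hC W a hpa c₀,
    Groth.Agent.Lib.H78SecTwist.tmul_zero_left', Groth.Agent.Lib.H78SecTwist.tmul_zero_left']
  exact (map_zero _).symm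

/-- sections of bounded powers of an ample module vanishing at a closed point `p` and generating at a given
other point -/
theorem exists_sections_avoiding [NoetherianSpace X] {L : X.Modules} (hL : CohB1.IsAmple L) (p : X)
    (hp : IsClosed ({p} : Set X)) :
    ∃ amax : ℕ, ∀ x : X, x ≠ p → ∃ (a : ℕ) (τ : Coh.structureModule X ⟶ CohB1.tensorPow L (a + 1)),
      a + 1 ≤ amax ∧ x ∈ CohB1.genLocus _ τ ∧ p ∉ CohB1.genLocus _ τ := by
  classical
  haveI : CompactSpace X := hL.2.1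
  let V₀ : X.Opens := ⟨({p} : Set X)ᶜ, hp.isOpen_compl⟩
  have h1 : ∀ x : X, x ≠ p → ∃ (a : ℕ) (τ : Coh.structureModule X ⟶ CohB1.tensorPow L (a + 1)),
      x ∈ CohB1.genLocus _ τ ∧ CohB1.genLocus _ τ ≤ V₀ := by
    intro x hx
    obtain ⟨a, τ, h1, h2, -⟩ := Groth.Agent.Lib.H78SecAdd.exists_sec_nbhd_affine hL x V₀ hx
    exact ⟨a, τ, h1, h2⟩
  let a : {x : X // x ≠ p} → ℕ := fun x => (h1 x.1 x.2).choose
  let τ : ∀ x : {x : X // x ≠ p}, Coh.structureModule X ⟶ CohB1.tensorPow L (a x + 1) :=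
    fun x => (h1 x.1 x.2).choose_spec.choose
  have hτ : ∀ x : {x : X // x ≠ p}, x.1 ∈ CohB1.genLocus _ (τ x) ∧ CohB1.genLocus _ (τ x) ≤ V₀ :=
    fun x => (h1 x.1 x.2).choose_spec.choose_spec
  have hc : IsCompact (({p} : Set X)ᶜ) := NoetherianSpace.isCompact _
  obtain ⟨t, ht⟩ := hc.elim_finite_subcover (fun x : {x : X // x ≠ p} => (CohB1.genLocus _ (τ x) : Set X))
    (fun x => (CohB1.genLocus _ (τ x)).2) (fun y hy => Set.mem_iUnion.2 ⟨⟨y, hy⟩, (hτ ⟨y, hy⟩).1⟩)
  refine ⟨t.sup (fun x => a x + 1), fun x hx => ?_⟩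
  obtain ⟨y, hyt, hxy⟩ := Set.mem_iUnion₂.1 (ht hx)
  refine ⟨a y, τ y, Finset.le_sup (f := fun x => a x + 1) hyt, hxy, fun hp' => ?_⟩
  exact (hτ y).2 hp' rfl

/-- extension step: the quotient has no sections after negative twists -/
theorem P_of_shortExact_of_forall_eq_zero {L : X.Modules} {S : ShortComplex X.Modules} (hS : S.ShortExact)
    (hC : ∀ n : ℕ, 1 ≤ n → ∀ N : X.Modules, PicF.IsInvertible N → Neg L n N →
      ∀ c : Γ(CohB1.tensorMod S.X₃ N, ⊤), c = 0) (h1 : P L S.X₁) : P L S.X₂ := by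
  obtain ⟨n₁, h1⟩ := h1
  refine ⟨max n₁ 1, fun n hn N hN hNeg s x hx => ?_⟩
  obtain ⟨eN⟩ := hNeg
  have hS1 := Groth.Agent.Lib.TwistEquiv.shortExact_map_tensorRight eN hS
  have hg : (S.map (Groth.Agent.Lib.TwistEquiv.tensorRightFunctor N)).g.app ⊤ s = 0 :=
    hC n ((le_max_right _ _).trans hn) N hN ⟨eN⟩ _
  obtain ⟨sA, hsA⟩ := exists_preimage_of_shortExact hS1 ⊤ s hg
  have h2 := h1 n ((le_max_left _ _).trans hn) N hN ⟨eN⟩ sA x hx
  have h3 := h2.map (S.map (Groth.Agent.Lib.TwistEquiv.tensorRightFunctor N)).f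
  rw [hsA] at h3
  exact h3

/-- extension step: the quotient is killed at a closed point -/
theorem P_of_shortExact_of_killedAt [NoetherianSpace X] {L : X.Modules} (hL : CohB1.IsAmple L)
    {S : ShortComplex X.Modules} (hS : S.ShortExact) (p : X) (hp : IsClosed ({p} : Set X))
    (hC : KilledAt S.X₃ p) (h1 : P L S.X₁) : P L S.X₂ := by
  obtain ⟨n₁, h1⟩ := h1
  obtain ⟨amax, hτ⟩ := exists_sections_avoiding hL p hp
  refine ⟨n₁ + amax, fun n hn N hN hNeg s x hx => ?_⟩
  obtain ⟨eN⟩ := hNeg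
  have hxp : x ≠ p := fun h => hx (h ▸ hp)
  obtain ⟨a, τ, ha, hxτ, hpτ⟩ := hτ x hxp
  let Q := CohB1.tensorPow L (a + 1)
  have hQ : PicF.IsInvertible Q := isInvertible_tensorPow hL.1 (a + 1)
  obtain ⟨Q', -, ⟨eQ'⟩⟩ := Groth.Agent.Lib.H78Dual.exists_tensor_inverse hQ
  have eQ : CohB1.tensorMod Q Q' ≅ Coh.structureModule X := braiding Q Q' ≪≫ eQ'
  let F₁ := Groth.Agent.Lib.TwistEquiv.tensorRightFunctor N
  let F₂ := Groth.Agent.Lib.TwistEquiv.tensorRightFunctor Q
  have hS1 : (S.map F₁).ShortExact := Groth.Agent.Lib.TwistEquiv.shortExact_map_tensorRight eN hS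
  have hS2 : ((S.map F₁).map F₂).ShortExact :=
    Groth.Agent.Lib.TwistEquiv.shortExact_map_tensorRight eQ hS1
  -- the section `s ⊗ τ`
  let sτ : Γ(CohB1.tensorMod (CohB1.tensorMod S.X₂ N) Q, ⊤) := tmul s (sec τ)
  have hg : ((S.map F₁).map F₂).g.app ⊤ sτ = 0 := by
    have h2 : ((S.map F₁).map F₂).g = tensorModMap (tensorModMap S.g (𝟙 N)) (𝟙 Q) := by
      change F₂.map (F₁.map S.g) = _
      rw [Groth.Agent.Lib.TwistEquiv.tensorRightFunctor_map,
        Groth.Agent.Lib.TwistEquiv.tensorRightFunctor_map]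
      rfl
    rw [h2]
    refine (Groth.Agent.Lib.H4KoszulPn.tensorModMap_tmul _ _ s (sec τ)).trans ?_
    exact tmul_eq_zero_of_killedAt hN hQ p hC τ hpτ _
  obtain ⟨sA, hsA⟩ := exists_preimage_of_shortExact hS2 ⊤ sτ hg
  -- the twisted module `N ⊗ Q` is negative of level `n - (a + 1)`
  have hn' : n₁ ≤ n - (a + 1) := by omega
  have hNQ : PicF.IsInvertible (CohB1.tensorMod N Q) := isInvertible_tensorMod hN hQ
  have hNeg' : Neg L (n - (a + 1)) (CohB1.tensorMod N Q) := by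
    have hsum : a + 1 + (n - (a + 1)) = n := by omega
    exact ⟨associator N Q _ ≪≫ tensorModIso (Iso.refl N)
      ((tensorPowAdd L (a + 1) (n - (a + 1))).symm ≪≫ eqToIso (by rw [hsum])) ≪≫ eN⟩
  have h3 : SmallSupp (CohB1.tensorMod (CohB1.tensorMod S.X₁ N) Q) :=
    (h1 _ hn' _ hNQ hNeg').of_iso (associator S.X₁ N Q).symm
  have h4 := (h3 sA x hx).map ((S.map F₁).map F₂).f
  rw [hsA] at h4
  exact vanNear_of_tmul s τ x hxτ h4

end Groth.Agent.Lib.H78NegTwist
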