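/-
helper78: Stacks 0FD7 (S7679): `X` proper over a field, `L` ample, `F` coherent without closed associated points
⇒ `Γ(X, F ⊗ L^{-n}) = 0` for `n ≫ 0`.
* `P_of_isCoh`: the property `P L F` for all coherent `F` (dévissage by atoms, helper90's `good_of_isCoh`)
-/
import Groth.Agent.Lib.H78NegTwistC
import Groth.Agent.Lib.H90DevTwo
import Groth.Agent.Lib.AssPoints
import Groth.Agent.Lib.H4TwistGamma
import Groth.Agent.Lib.OXModTensorQCoh
import Groth.Agent.Lib.CohVanAmple

set_option autoImplicit false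
set_option linter.style.haveILetI false
universe u
open CategoryTheory CategoryTheory.Limits AlgebraicGeometry MonoidalCategory Opposite TopologicalSpace
open Groth.Agent.Lib.H90Invertible Groth.Agent.Lib.StructureModule Groth.Agent.Lib.H78TensorGen
open Groth.Agent.Lib.H78SecCoord Groth.Agent.Lib.OXModTensor

namespace Groth.Agent.Lib.H78NegTwist



variable {X : Scheme.{u}}

theorem P_of_isZero {L F : X.Modules} (hF : IsZero F) : P L F := by
  refine ⟨0, fun n _ N _ _ => smallSupp_of_forall_eq_zero (fun s => ?_)⟩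
  have hz : IsZero (CohB1.tensorMod F N) :=
    (Groth.Agent.Lib.TwistEquiv.tensorRightFunctor N).map_isZero hF
  haveI := Groth.Agent.Lib.H90DevFilt.subsingleton_sections_of_isZero hz ⊤
  exact Subsingleton.elim _ _

/-- extension by an atom -/
theorem P_of_atom (k : Type u) [Field k] (f : X ⟶ Spec (CommRingCat.of k)) [IsProper f]
    [NoetherianSpace X] {L : X.Modules} (hL : CohB1.IsAmple L) {A B : X.Modules} (φ : A ⟶ B) [Mono φ]
    (hat : Groth.Agent.Lib.H90DevAtom.IsAtom (cokernel φ)) (h1 : P L A) : P L B := by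
  have hS := Groth.Agent.Lib.H90DevTwo.shortExact_cokernel φ
  obtain ⟨Z, i, hcl, hint, I, ι, hmono, -, -, ⟨eC⟩⟩ := hat
  haveI := hcl
  haveI := hint
  haveI := hmono
  by_cases hZ : ∃ z z' : Z, z ≠ z'
  · have hC : ∀ n : ℕ, 1 ≤ n → ∀ N : X.Modules, PicF.IsInvertible N → Neg L n N →
        ∀ c : Γ(CohB1.tensorMod (cokernel φ) N, ⊤), c = 0 := by
      intro n hn N hN hNeg c
      obtain ⟨eN⟩ := hNeg
      exact eq_zero_of_atom k f hL i hZ I ι (cokernel φ) eC hN n hn eN c
    have h2 := P_of_shortExact_of_forall_eq_zero (L := L) hS hC h1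
    exact h2
  · push Not at hZ
    obtain ⟨z₀⟩ : Nonempty Z := inferInstance
    have hpt : ∀ z : Z, i z = i z₀ := fun z => congrArg _ (hZ z z₀)
    have hp : IsClosed ({i z₀} : Set X) := by
      have h2 : Set.range i = {i z₀} := by
        ext y
        constructor
        · rintro ⟨z, rfl⟩
          exact hpt z
        · rintro rfl
          exact ⟨z₀, rfl⟩
      rw [← h2]
      exact i.isClosedEmbedding.isClosed_range
    have hk : KilledAt (cokernel φ) (i z₀) := (killedAt_push i (i z₀) hpt I).of_iso eC.symm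
    have h2 := P_of_shortExact_of_killedAt hL hS (i z₀) hp hk h1
    exact h2

/-- **the property `P` holds for all coherent modules** -/
theorem P_of_isCoh (k : Type u) [Field k] (f : X ⟶ Spec (CommRingCat.of k)) [IsProper f]
    {L : X.Modules} (hL : CohB1.IsAmple L) (F : X.Modules) (hF : Coh.IsCoh F) : P L F := by
  haveI : IsLocallyNoetherian X := LocallyOfFiniteType.isLocallyNoetherian f
  haveI : CompactSpace X := hL.2.1
  haveI : AlgebraicGeometry.IsNoetherian X := {}
  obtain ⟨m, Fj, φ, h0, ⟨e⟩, -, hs⟩ := Groth.Agent.Lib.H90DevFilt.good_of_isCoh hF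
  have key : ∀ j : ℕ, j ≤ m → P L (Fj j) := by
    intro j
    induction j with
    | zero => exact fun _ => P_of_isZero h0
    | succ j ih =>
      intro hj
      obtain ⟨hmono, hat⟩ := hs j (by omega)
      haveI := hmono
      exact P_of_atom k f hL (φ j) hat (ih (by omega))
  exact (key m le_rfl).of_iso e

open Groth.Agent.Lib.AssPoints Groth.Agent.Lib.QCohStalk in
/-- twisting by an invertible module does not change the weakly associated points -/
theorem isWeakAssPoint_of_tensor {F N : X.Modules} [F.IsQuasicoherent] (hN : PicF.IsInvertible N) (y : X)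
    (h : Curv2.IsWeakAssPoint (CohB1.tensorMod F N) y) : Curv2.IsWeakAssPoint F y := by
  haveI : N.IsQuasicoherent := (isCoh_of_isInvertible hN).1
  haveI : (CohB1.tensorMod F N).IsQuasicoherent :=
    Groth.Agent.Lib.OXModTensorQCoh.isQuasicoherent_tensorMod F N
  obtain ⟨V, hyV, ε₀, hε₀⟩ := (isInvertible_iff_exists_isGen N).1 hN y
  obtain ⟨_, ⟨U, hU, rfl⟩, hyU, hUV⟩ := X.isBasis_affineOpens.exists_subset_of_mem_open hyV V.2
  replace hUV : U ≤ V := hUV
  have hε : IsGen N U (rs N hUV ε₀) := hε₀.mono hUV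
  obtain ⟨m', hmin⟩ := exists_minimal_of_isWeakAssPoint (CohB1.tensorMod F N) hU ⟨y, hyU⟩
    (isLocAt_of_isQuasicoherent _ hU _) h
  have hbij := tmul_gen_bijective F hε (le_refl U)
  obtain ⟨m, hm⟩ := hbij.2 m'
  refine isWeakAssPoint_of_minimal F hU ⟨y, hyU⟩ (isLocAt_of_isQuasicoherent F hU _) m ?_
  have hann : ann Γ(X, U) m = ann Γ(X, U) m' := by
    ext a
    rw [mem_ann, mem_ann, ← hm]
    change a • m = 0 ↔ a • tmul m (rs N le_rfl (rs N hUV ε₀)) = 0
    rw [← smul_tmul]
    constructor
    · intro h0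
      rw [h0, Groth.Agent.Lib.H78SecTwist.tmul_zero_left']
    · intro h0
      apply hbij.1
      change tmul (a • m) (rs N le_rfl (rs N hUV ε₀)) = tmul (0 : Γ(F, U)) (rs N le_rfl (rs N hUV ε₀))
      rw [h0, Groth.Agent.Lib.H78SecTwist.tmul_zero_left']
  rw [hann]
  exact hmin

open Groth.Agent.Lib.AssPoints Groth.Agent.Lib.QCohStalk in
/-- a quasi-coherent module without closed weakly associated points whose sections are supported at closed
points has no nonzero global section -/
theorem eq_zero_of_smallSupp {G : X.Modules} [G.IsQuasicoherent] (hS : SmallSupp G)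
    (hass : ∀ y : X, IsClosed ({y} : Set X) → ¬ Curv2.IsWeakAssPoint G y) (s : Γ(G, ⊤)) : s = 0 := by
  by_contra hs
  have hex : ∃ x : X, G.presheaf.germ ⊤ x trivial s ≠ 0 := by
    by_contra hall
    push Not at hall
    apply hs
    refine sec_ext G s 0 (fun x _ => ?_)
    have h0 : G.presheaf.germ ⊤ x trivial s = G.presheaf.germ ⊤ x trivial 0 := by
      rw [hall x, map_zero]
    obtain ⟨W, hxW, iU, iV, hW⟩ := TopCat.Presheaf.germ_eq G.presheaf x
      (show x ∈ (⊤ : X.Opens) from trivial) (show x ∈ (⊤ : X.Opens) from trivial) s 0 h0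
    exact ⟨W, le_top, hxW, hW⟩
  obtain ⟨x, hx⟩ := hex
  obtain ⟨y, hy, -, hyass, hys⟩ := exists_isWeakAssPoint_of_germ_ne_zero G s x trivial hx
  by_cases hcl : IsClosed ({y} : Set X)
  · exact hass y hcl hyass
  · obtain ⟨U, hyU, hU⟩ := hS s y hcl
    apply hys
    have h1 := germ_res G (le_top : U ≤ ⊤) y hyU s
    rw [← h1]
    change G.presheaf.germ U y hyU (rs G le_top s) = 0
    rw [hU, map_zero]

/-- **Stacks 0FD7**: negative twists of a coherent module without closed associated points have no sections. -/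
theorem subsingleton_HH_zero_negTwist (k : Type u) [Field k] (f : X ⟶ Spec (CommRingCat.of k)) [IsProper f]
    (L : X.Modules) (hL : CohB1.IsAmple L) (M : X.Modules) (hM : ClSub.IsInverseOf L M)
    (F : X.Modules) (hF : Coh.IsCoh F)
    (hass : ∀ x : X, IsClosed ({x} : Set X) → ¬ Curv2.IsAssPoint F x) :
    ∃ n₀ : ℕ, ∀ n : ℕ, n₀ ≤ n →
      Subsingleton (Coh.HH X (CohB1.tensorMod F (CohB1.tensorPow M n)) 0) := by
  obtain ⟨n₀, hP⟩ := P_of_isCoh k f hL F hF
  obtain ⟨e⟩ := hM
  have eML : CohB1.tensorMod M L ≅ Coh.structureModule X := braiding M L ≪≫ e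
  have hMinv : PicF.IsInvertible M := Groth.Agent.Lib.CohVanAmple.isInvertible_of_inverse eML hL.1
  haveI : F.IsQuasicoherent := hF.1
  refine ⟨n₀, fun n hn => ?_⟩
  have hN : PicF.IsInvertible (CohB1.tensorPow M n) := isInvertible_tensorPow hMinv n
  have hNeg : Neg L n (CohB1.tensorPow M n) :=
    ⟨(tensorPowTensor M L n).symm ≪≫ tensorPowIso eML n ≪≫ tensorPowUnit n⟩
  have hS := hP n hn _ hN hNeg
  haveI : (CohB1.tensorPow M n).IsQuasicoherent := (isCoh_of_isInvertible hN).1
  haveI : (CohB1.tensorMod F (CohB1.tensorPow M n)).IsQuasicoherent :=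
    Groth.Agent.Lib.OXModTensorQCoh.isQuasicoherent_tensorMod F _
  have hzero := eq_zero_of_smallSupp hS (fun y hy hw =>
    hass y hy ((Groth.Agent.Lib.AssPoints.isAssPoint_iff_isWeakAssPoint F y).2
      (isWeakAssPoint_of_tensor hN y hw)))
  refine ⟨fun a b => (Groth.Agent.Lib.H4Twist.h0Equiv _).injective ?_⟩
  rw [hzero (Groth.Agent.Lib.H4Twist.h0Equiv _ a), hzero (Groth.Agent.Lib.H4Twist.h0Equiv _ b)]

end Groth.Agent.Lib.H78NegTwist
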