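import Groth.Agent.Lib.H78PullSec
import Groth.Agent.Lib.H90OXModLocal
import Groth.Prelude.Def_ClSub2

/-!
# helper78: `L ≅ f_* f^* L` for invertible `L` when `O_Y ≅ f_* O_X` (namespace `Groth.Agent.Lib.H78ProjFormula`)
-/

set_option autoImplicit false
universe u
open CategoryTheory CategoryTheory.Limits AlgebraicGeometry MonoidalCategory Opposite TopologicalSpace
open Groth.Agent.Lib.H90Invertible Groth.Agent.Lib.StructureModule Groth.Agent.Lib.H78TensorGen
open Groth.Agent.Lib.H78SecCoord Groth.Agent.Lib.H78Atlas Groth.Agent.Lib.H78PullSec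

namespace Groth.Agent.Lib.H78ProjFormula

variable {X Y : Scheme.{u}} (f : X ⟶ Y)

/-- if `f^♯` is bijective on all opens, the unit `L ⟶ f_* f^* L` is an isomorphism for invertible `L` -/
theorem isIso_unit_of_isInvertible (hf : ∀ V : Y.Opens, Function.Bijective (f.app V)) {L : Y.Modules}
    (hL : PicF.IsInvertible L) :
    IsIso ((Scheme.Modules.pullbackPushforwardAdjunction f).unit.app L) := by
  rw [isInvertible_iff_exists_isGen] at hL
  choose V hyV e he using hL
  refine Groth.Agent.Lib.H90OXModLocal.isIso_of_small (U := V) (iSup_eq_top_of_mem hyV) _ ?_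
  rintro W ⟨y, hWy⟩
  rw [ConcreteCategory.isIso_iff_bijective]
  have h1 : Function.Bijective (fun a : Γ(Y, W) => a • rs L hWy (e y)) := by
    have := (he y) W hWy
    exact this
  have h2 : Function.Bijective (fun b : Γ(X, f ⁻¹ᵁ W) => b • pb f L (rs L hWy (e y))) := by
    have := isGen_pb f ((he y).mono hWy) (f ⁻¹ᵁ W) le_rfl
    convert this using 2
    congr 1
    exact (rs_self _ _).symm
  have hcomp : (fun z : Γ(L, W) => ((Scheme.Modules.pullbackPushforwardAdjunction f).unit.app L).app W z) ∘
      (fun a : Γ(Y, W) => a • rs L hWy (e y)) =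
      (fun b : Γ(X, f ⁻¹ᵁ W) => toPush f _ W (b • pb f L (rs L hWy (e y)))) ∘ (fun a => f.app W a) := by
    funext a
    exact pb_smul f L a _
  have h3 : Function.Bijective ((fun z : Γ(L, W) =>
      ((Scheme.Modules.pullbackPushforwardAdjunction f).unit.app L).app W z) ∘
      (fun a : Γ(Y, W) => a • rs L hWy (e y))) := by
    rw [hcomp]
    exact Function.Bijective.comp h2 (hf W)
  exact (Function.Bijective.of_comp_iff _ h1).1 h3

end Groth.Agent.Lib.H78ProjFormula
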