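import Mathlib.CategoryTheory.Sites.LocallyBijective
import Mathlib.Topology.Sheaves.SheafCondition.Sites
import Mathlib.Topology.Sheaves.SheafCondition.UniqueGluing
import Mathlib.Topology.Sheaves.Sheafify
import Mathlib.Algebra.Category.Grp.AB
import Mathlib.CategoryTheory.Abelian.GrothendieckAxioms.Sheaf

/-!
# Sheafification does not change the sections over a basis on which the presheaf is already a sheaf (helper49)

`X` a topological space, `B : ι → Opens X` a family of opens, `P` a presheaf of abelian groups on `X`.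
`IsSheafOnBasis B P` is the elementwise sheaf condition of `P` for coverings of a member `B i` by members
`B j ≤ B i` (compatibility of a family is tested on all members `B k ≤ B j ⊓ B j'`).

`bijective_app_of_isSheafOnBasis`: if `B` is a basis, `Q` is a sheaf and `φ : P ⟶ Q` is locally injective and
locally surjective, then `φ` is bijective on sections over every `B i`.
`bijective_toSheafify_app`: the special case `φ = toSheafify`.
-/

set_option autoImplicit false
universe u

open CategoryTheory CategoryTheory.Limits Opposite TopologicalSpace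

namespace Groth.Agent.Lib.SheafifyBasis

variable {X : TopCat.{u}} {ι : Type*} (B : ι → Opens X) (P : (Opens X)ᵒᵖ ⥤ AddCommGrpCat.{u})

/-- restriction map of a presheaf of abelian groups -/
def res {U V : Opens X} (h : U ≤ V) : P.obj (op V) →+ P.obj (op U) := (P.map (homOfLE h).op).hom

lemma res_res {U V W : Opens X} (h : U ≤ V) (h' : V ≤ W) (s : P.obj (op W)) :
    res P h (res P h' s) = res P (h.trans h') s := by
  change (P.map (homOfLE h').op ≫ P.map (homOfLE h).op) s = _
  rw [← P.map_comp]
  rfl

lemma res_self {U : Opens X} (h : U ≤ U) (s : P.obj (op U)) : res P h s = s := by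
  change (P.map (homOfLE h).op) s = s
  have : (homOfLE h).op = 𝟙 (op U) := rfl
  rw [this, P.map_id]
  rfl

variable {P} in
lemma res_naturality {Q : (Opens X)ᵒᵖ ⥤ AddCommGrpCat.{u}} (φ : P ⟶ Q) {U V : Opens X} (h : U ≤ V)
    (s : P.obj (op V)) : φ.app (op U) (res P h s) = res Q h (φ.app (op V) s) :=
  NatTrans.naturality_apply φ (homOfLE h).op s

/-- the elementwise sheaf condition for coverings of members of the family `B` by members of `B` -/
structure IsSheafOnBasis : Prop where
  sep : ∀ (i : ι) (T : Set ι) (hT : ∀ j ∈ T, B j ≤ B i) (_ : ∀ x ∈ B i, ∃ j ∈ T, x ∈ B j)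
    (s s' : P.obj (op (B i))), (∀ j (hj : j ∈ T), res P (hT j hj) s = res P (hT j hj) s') → s = s'
  glue : ∀ (i : ι) (T : Set ι) (hT : ∀ j ∈ T, B j ≤ B i) (_ : ∀ x ∈ B i, ∃ j ∈ T, x ∈ B j)
    (t : ∀ j : T, P.obj (op (B j))),
    (∀ (a b : T) (k : ι) (h1 : B k ≤ B a) (h2 : B k ≤ B b), res P h1 (t a) = res P h2 (t b)) →
      ∃ s : P.obj (op (B i)), ∀ j : T, res P (hT j j.2) s = t j

variable {B P}

section

variable (hB : Opens.IsBasis (Set.range B)) (Q : TopCat.Sheaf AddCommGrpCat.{u} X) (φ : P ⟶ Q.obj)

include hB in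
theorem injective_app_of_isSheafOnBasis [Presheaf.IsLocallyInjective (Opens.grothendieckTopology X) φ]
    (hP : IsSheafOnBasis B P) (i : ι) : Function.Injective (φ.app (op (B i))) := by
  intro s s' hss
  have hmem := Presheaf.equalizerSieve_mem (Opens.grothendieckTopology X) φ s s' hss
  let T : Set ι := {j | ∃ h : B j ≤ B i, res P h s = res P h s'}
  refine hP.sep i T (fun j hj => hj.1) ?_ s s' (fun j hj => hj.2)
  intro x hx
  obtain ⟨V, f, hf, hxV⟩ := hmem x hx
  obtain ⟨_, ⟨j, rfl⟩, hxj, hjV⟩ := (Opens.isBasis_iff_nbhd.1 hB) hxV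
  refine ⟨j, ⟨hjV.trans f.le, ?_⟩, hxj⟩
  have h1 : res P f.le s = res P f.le s' := hf
  have := congrArg (res P hjV) h1
  rwa [res_res, res_res] at this

include hB in
theorem bijective_app_of_isSheafOnBasis [Presheaf.IsLocallyInjective (Opens.grothendieckTopology X) φ]
    [Presheaf.IsLocallySurjective (Opens.grothendieckTopology X) φ]
    (hP : IsSheafOnBasis B P) (i : ι) : Function.Bijective (φ.app (op (B i))) := by
  refine ⟨injective_app_of_isSheafOnBasis hB Q φ hP i, ?_⟩
  intro y
  have hmem := Presheaf.imageSieve_mem (Opens.grothendieckTopology X) φ (U := op (B i)) y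
  let T : Set ι := {j | ∃ h : B j ≤ B i, ∃ t : P.obj (op (B j)), φ.app (op (B j)) t = res Q.obj h y}
  have hT : ∀ j ∈ T, B j ≤ B i := fun j hj => hj.1
  have hcov : ∀ x ∈ B i, ∃ j ∈ T, x ∈ B j := by
    intro x hx
    obtain ⟨V, f, ⟨t, ht⟩, hxV⟩ := hmem x hx
    obtain ⟨_, ⟨j, rfl⟩, hxj, hjV⟩ := (Opens.isBasis_iff_nbhd.1 hB) hxV
    refine ⟨j, ⟨hjV.trans f.le, res P hjV t, ?_⟩, hxj⟩
    rw [res_naturality]
    have h1 : φ.app (op V) t = res Q.obj f.le y := ht
    rw [h1, res_res]
  choose! hle t ht using fun j (hj : j ∈ T) => hj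
  have hcompat : ∀ (a b : T) (k : ι) (h1 : B k ≤ B a) (h2 : B k ≤ B b),
      res P h1 (t a) = res P h2 (t b) := by
    intro a b k h1 h2
    apply injective_app_of_isSheafOnBasis hB Q φ hP k
    rw [res_naturality, res_naturality, ht a a.2, ht b b.2, res_res, res_res]
  obtain ⟨s, hs⟩ := hP.glue i T hT hcov (fun j => t j) hcompat
  refine ⟨s, ?_⟩
  refine TopCat.Sheaf.eq_of_locally_eq' Q (fun j : T => B j) (B i) (fun j => homOfLE (hT j j.2)) ?_ _ _ ?_
  · intro x hx
    obtain ⟨j, hj, hxj⟩ := hcov x hx
    exact Opens.mem_iSup.2 ⟨⟨j, hj⟩, hxj⟩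
  · intro j
    change res Q.obj (hT j j.2) (φ.app (op (B i)) s) = res Q.obj (hT j j.2) y
    rw [← res_naturality, hs j, ht j j.2]

end

/-- sheafification does not change sections over members of a basis on which `P` is a sheaf -/
theorem bijective_toSheafify_app (hB : Opens.IsBasis (Set.range B)) (hP : IsSheafOnBasis B P) (i : ι) :
    Function.Bijective ((toSheafify (Opens.grothendieckTopology X) P).app (op (B i))) :=
  bijective_app_of_isSheafOnBasis hB ((presheafToSheaf (Opens.grothendieckTopology X) AddCommGrpCat.{u}).obj P)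
    (toSheafify (Opens.grothendieckTopology X) P) hP i

/-- the additive equivalence `P(B i) ≃+ P^#(B i)` -/
noncomputable def sectionsAddEquiv (hB : Opens.IsBasis (Set.range B)) (hP : IsSheafOnBasis B P) (i : ι) :
    P.obj (op (B i)) ≃+
      ((presheafToSheaf (Opens.grothendieckTopology X) AddCommGrpCat.{u}).obj P).obj.obj (op (B i)) :=
  AddEquiv.ofBijective ((toSheafify (Opens.grothendieckTopology X) P).app (op (B i))).hom
    (bijective_toSheafify_app hB hP i)

end Groth.Agent.Lib.SheafifyBasis
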