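import Mathlib.Algebra.Category.ModuleCat.Basic
import Mathlib.Algebra.Module.LocalizedModule.Basic
import Mathlib.Algebra.Module.Torsion.Basic
import Mathlib.RingTheory.Ideal.Operations
import Groth.Agent.Lib.SheafifyBasis

/-!
# A presheaf of modules whose restrictions to "basic opens" are localizations is a sheaf on the basic opens (helper49)

Abstract form of the classical computation of the sections of `M~` on `Spec R`.
`X` a topological space, `R` a commutative ring, `D : R → Opens X` ("basic opens"), `PM` a presheaf of `R`-modules.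
`LocData PM D`: `D (g * h) = D g ⊓ D h`; a covering of `D g` by `D h, h ∈ T` forces `g ∈ √(T)`; and each restriction
`PM (D g) → PM (D g ⊓ D h)` is a localization at `h`.
`isSheafOnBasis`: then the underlying presheaf of abelian groups is a sheaf on the family `D`
(`SheafifyBasis.IsSheafOnBasis`), so that sheafification does not change the sections over any `D g`.
-/

set_option autoImplicit false
universe u

open CategoryTheory Opposite TopologicalSpace

namespace Groth.Agent.Lib.LocPresheaf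

/-- a uniform exponent for finitely many eventually-true statements -/
lemma exists_uniform {α : Type*} [Fintype α] (q : α → ℕ → Prop)
    (h : ∀ a, ∃ n, ∀ n', n ≤ n' → q a n') : ∃ N, ∀ a, q a N := by
  classical
  choose n hn using h
  exact ⟨Finset.univ.sup n, fun a => hn a _ (Finset.le_sup (Finset.mem_univ a))⟩



variable {X : TopCat.{u}} {R : Type u} [CommRing R] (PM : (Opens X)ᵒᵖ ⥤ ModuleCat.{u} R)

/-- restriction maps, as linear maps -/
def resL {U V : Opens X} (h : U ≤ V) : PM.obj (op V) →ₗ[R] PM.obj (op U) := (PM.map (homOfLE h).op).hom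

lemma resL_resL {U V W : Opens X} (h : U ≤ V) (h' : V ≤ W) (s : PM.obj (op W)) :
    resL PM h (resL PM h' s) = resL PM (h.trans h') s := by
  change (PM.map (homOfLE h').op ≫ PM.map (homOfLE h).op).hom s = _
  rw [← PM.map_comp]
  rfl

lemma resL_self {U : Opens X} (h : U ≤ U) (s : PM.obj (op U)) : resL PM h s = s := by
  have : (homOfLE h).op = 𝟙 (op U) := rfl
  change (PM.map (homOfLE h).op).hom s = s
  rw [this, PM.map_id]
  rfl

lemma isLoc_congr {U U' V : Opens X} (e : U = U') (h : U ≤ V) (h' : U' ≤ V) (S : Submonoid R)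
    (H : IsLocalizedModule S (resL PM h)) : IsLocalizedModule S (resL PM h') := by
  subst e
  exact H

lemma resL_eq_congr {U U' V V' : Opens X} (e : U = U') (h1 : U ≤ V) (h2 : U ≤ V') (h1' : U' ≤ V) (h2' : U' ≤ V')
    (s : PM.obj (op V)) (s' : PM.obj (op V')) (H : resL PM h1 s = resL PM h2 s') :
    resL PM h1' s = resL PM h2' s' := by
  subst e
  exact H

/-- the hypotheses: `D` behaves like the basic opens of an affine scheme and `PM` like a quasi-coherent module -/
structure LocData (D : R → Opens X) : Prop where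
  inf : ∀ g h, D (g * h) = D g ⊓ D h
  rad : ∀ (g : R) (T : Set R), (∀ x ∈ D g, ∃ h ∈ T, x ∈ D h) → g ∈ (Ideal.span T).radical
  loc : ∀ g h, IsLocalizedModule (Submonoid.powers h) (resL PM (inf_le_left : D g ⊓ D h ≤ D g))

variable {PM} {D : R → Opens X} (hD : LocData PM D)

include hD

lemma loc_of_le (g h : R) (hle : D h ≤ D g) : IsLocalizedModule (Submonoid.powers h) (resL PM hle) :=
  isLoc_congr PM (inf_eq_right.2 hle) inf_le_left hle _ (hD.loc g h)

lemma smul_pow_bijective (g : R) (n : ℕ) :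
    Function.Bijective (fun x : PM.obj (op (D g)) => g ^ n • x) := by
  have h1 := loc_of_le hD g g le_rfl
  have h2 := h1.map_units ⟨g ^ n, ⟨n, rfl⟩⟩
  exact (Module.End.isUnit_iff _).1 h2

lemma smul_pow_injective_of_le (g h : R) (hle : D h ≤ D g) (n : ℕ) :
    Function.Injective (fun x : PM.obj (op (D h)) => g ^ n • x) := by
  have hrad : h ∈ (Ideal.span ({g} : Set R)).radical :=
    hD.rad h {g} (fun x hx => ⟨g, rfl, hle hx⟩)
  obtain ⟨k, hk⟩ := hrad
  obtain ⟨b, hb⟩ := Ideal.mem_span_singleton'.1 hk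
  -- h ^ k = b * g
  intro x y hxy
  have hxy' : g ^ n • x = g ^ n • y := hxy
  apply (smul_pow_bijective hD h (k * n)).1
  change h ^ (k * n) • x = h ^ (k * n) • y
  rw [pow_mul, ← hb, mul_pow, mul_smul, mul_smul, hxy']

lemma eq_zero_of_torsion {g g' : R} (hle : D g' ≤ D g) (T : Set R) (hg : g ∈ (Ideal.span T).radical)
    (z : PM.obj (op (D g'))) (hz : ∀ h ∈ T, ∃ n : ℕ, h ^ n • z = 0) : z = 0 := by
  have h1 : Ideal.span T ≤ (Ideal.torsionOf R _ z).radical := by
    rw [Ideal.span_le]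
    intro h hh
    obtain ⟨n, hn⟩ := hz h hh
    exact ⟨n, (Ideal.mem_torsionOf_iff z _).2 hn⟩
  have h2 : g ∈ (Ideal.torsionOf R _ z).radical := by
    have := Ideal.radical_mono h1 hg
    rwa [Ideal.radical_idem] at this
  obtain ⟨n, hn⟩ := h2
  have hn' : g ^ n • z = 0 := (Ideal.mem_torsionOf_iff z _).1 hn
  apply smul_pow_injective_of_le hD g g' hle n
  change g ^ n • z = g ^ n • 0
  rw [hn', smul_zero]

theorem sep_aux (g : R) (T : Set R) (hT : ∀ h ∈ T, D h ≤ D g) (hcov : ∀ x ∈ D g, ∃ h ∈ T, x ∈ D h)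
    (s s' : PM.obj (op (D g))) (hs : ∀ h (hh : h ∈ T), resL PM (hT h hh) s = resL PM (hT h hh) s') :
    s = s' := by
  rw [← sub_eq_zero]
  apply eq_zero_of_torsion hD le_rfl T (hD.rad g T hcov)
  intro h hh
  have hloc := loc_of_le hD g h (hT h hh)
  have h0 : resL PM (hT h hh) (s - s') = resL PM (hT h hh) 0 := by
    rw [map_sub, hs h hh, sub_self, map_zero]
  obtain ⟨⟨c, n, rfl⟩, hc⟩ := hloc.exists_of_eq h0
  refine ⟨n, ?_⟩
  have hc' : h ^ n • (s - s') = h ^ n • (0 : PM.obj (op (D g))) := hc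
  rw [hc', smul_zero]

theorem glue_aux (g : R) (T : Set R) (hT : ∀ h ∈ T, D h ≤ D g) (hcov : ∀ x ∈ D g, ∃ h ∈ T, x ∈ D h)
    (t : ∀ h : T, PM.obj (op (D h)))
    (hcompat : ∀ a b : T, resL PM (inf_le_left : D a ⊓ D b ≤ D a) (t a) =
      resL PM (inf_le_right : D a ⊓ D b ≤ D b) (t b)) :
    ∃ s : PM.obj (op (D g)), ∀ h : T, resL PM (hT h h.2) s = t h := by
  classical
  obtain ⟨m, hm⟩ := hD.rad g T hcov
  obtain ⟨T', hT'T, hmT'⟩ := Submodule.mem_span_finite_of_mem_span hm
  have hgT' : g ∈ (Ideal.span (T' : Set R)).radical := ⟨m, hmT'⟩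
  -- the members of `T'` as members of `T`
  let ι : T' → T := fun a => ⟨a.1, hT'T a.2⟩
  have hle : ∀ a : T', D (a : R) ≤ D g := fun a => hT a.1 (hT'T a.2)
  -- Step 1: lift `a ^ N1 • t a` to `D g`
  obtain ⟨N1, hN1⟩ := exists_uniform
    (fun (a : T') (n : ℕ) => ∃ x : PM.obj (op (D g)), resL PM (hle a) x = (a : R) ^ n • t (ι a)) (by
      intro a
      have hloc := loc_of_le hD g a (hle a)
      obtain ⟨⟨x, ⟨c, n, rfl⟩⟩, hx⟩ := hloc.surj (t (ι a))
      refine ⟨n, fun n' hn' => ⟨(a : R) ^ (n' - n) • x, ?_⟩⟩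
      have hx' : (a : R) ^ n • t (ι a) = resL PM (hle a) x := hx
      rw [map_smul, ← hx', smul_smul, pow_sub_mul_pow _ hn'])
  choose x hx using hN1
  -- Step 2: the differences die after multiplication by a power of `a * b`
  let w : T' → T' → PM.obj (op (D g)) := fun a b => (b : R) ^ N1 • x a - (a : R) ^ N1 • x b
  have hleab : ∀ a b : T', D (a : R) ⊓ D (b : R) ≤ D g := fun a b => inf_le_left.trans (hle a)
  have hw : ∀ a b : T', resL PM (hleab a b) (w a b) = 0 := by
    intro a b
    have e1 : resL PM (hleab a b) (x a) = (a : R) ^ N1 • resL PM inf_le_left (t (ι a)) := by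
      rw [← resL_resL PM (inf_le_left : D (a : R) ⊓ D (b : R) ≤ D a) (hle a), hx a, map_smul]
    have e2 : resL PM (hleab a b) (x b) = (b : R) ^ N1 • resL PM inf_le_right (t (ι b)) := by
      rw [← resL_resL PM (inf_le_right : D (a : R) ⊓ D (b : R) ≤ D b) (hle b), hx b, map_smul]
    have e3 := hcompat (ι a) (ι b)
    change resL PM (hleab a b) ((b : R) ^ N1 • x a - (a : R) ^ N1 • x b) = 0
    rw [map_sub, map_smul, map_smul, e1, e2, e3, smul_smul, smul_smul, mul_comm, sub_self]
  obtain ⟨N2, hN2⟩ := exists_uniform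
    (fun (p : T' × T') (n : ℕ) => ((p.1 : R) * (p.2 : R)) ^ n • w p.1 p.2 = 0) (by
      rintro ⟨a, b⟩
      have hloc : IsLocalizedModule (Submonoid.powers ((a : R) * (b : R))) (resL PM (hleab a b)) := by
        refine isLoc_congr PM ?_ inf_le_left (hleab a b) _ (hD.loc g ((a : R) * (b : R)))
        rw [hD.inf]
        exact inf_eq_right.2 (hleab a b)
      have h0 : resL PM (hleab a b) (w a b) = resL PM (hleab a b) 0 := by rw [hw, map_zero]
      obtain ⟨⟨c, n, rfl⟩, hc⟩ := hloc.exists_of_eq h0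
      have hc' : ((a : R) * (b : R)) ^ n • w a b = ((a : R) * (b : R)) ^ n • (0 : PM.obj (op (D g))) := hc
      refine ⟨n, fun n' hn' => ?_⟩
      change ((a : R) * (b : R)) ^ n' • w a b = 0
      rw [← pow_sub_mul_pow _ hn', mul_smul, hc', smul_zero, smul_zero])
  -- Step 3
  let x' : T' → PM.obj (op (D g)) := fun a => (a : R) ^ N2 • x a
  have hx' : ∀ a : T', resL PM (hle a) (x' a) = (a : R) ^ (N1 + N2) • t (ι a) := by
    intro a
    change resL PM (hle a) ((a : R) ^ N2 • x a) = _
    rw [map_smul, hx a, smul_smul, ← pow_add, add_comm]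
  have hx'' : ∀ a b : T', (b : R) ^ (N1 + N2) • x' a = (a : R) ^ (N1 + N2) • x' b := by
    intro a b
    have := hN2 (a, b)
    change ((a : R) * (b : R)) ^ N2 • ((b : R) ^ N1 • x a - (a : R) ^ N1 • x b) = 0 at this
    rw [smul_sub, sub_eq_zero, smul_smul, smul_smul] at this
    change (b : R) ^ (N1 + N2) • ((a : R) ^ N2 • x a) = (a : R) ^ (N1 + N2) • ((b : R) ^ N2 • x b)
    rw [smul_smul, smul_smul]
    have e1 : (b : R) ^ (N1 + N2) * (a : R) ^ N2 = ((a : R) * (b : R)) ^ N2 * (b : R) ^ N1 := by ring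
    have e2 : (a : R) ^ (N1 + N2) * (b : R) ^ N2 = ((a : R) * (b : R)) ^ N2 * (a : R) ^ N1 := by ring
    rw [e1, e2, this]
  -- Step 4
  have hg4 : g ∈ (Ideal.span (Set.range fun a : T' => (a : R) ^ (N1 + N2))).radical := by
    have h1 : Ideal.span (T' : Set R) ≤
        (Ideal.span (Set.range fun a : T' => (a : R) ^ (N1 + N2))).radical := by
      rw [Ideal.span_le]
      intro a ha
      exact ⟨N1 + N2, Ideal.subset_span ⟨⟨a, ha⟩, rfl⟩⟩
    have := Ideal.radical_mono h1 hgT'
    rwa [Ideal.radical_idem] at this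
  obtain ⟨M, hM⟩ := hg4
  obtain ⟨c, hc⟩ := Ideal.mem_span_range_iff_exists_fun.1 hM
  -- Step 5
  let x₀ : PM.obj (op (D g)) := ∑ a : T', c a • x' a
  have hx₀ : ∀ b : T', (b : R) ^ (N1 + N2) • x₀ = g ^ M • x' b := by
    intro b
    change (b : R) ^ (N1 + N2) • ∑ a : T', c a • x' a = _
    rw [Finset.smul_sum, ← hc, Finset.sum_smul]
    refine Finset.sum_congr rfl fun a _ => ?_
    rw [smul_comm, hx'' a b, smul_smul]
  -- Step 6
  obtain ⟨s, hs⟩ := (smul_pow_bijective hD g M).2 x₀
  have hs' : g ^ M • s = x₀ := hs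
  -- Step 7
  have hs7 : ∀ b : T', resL PM (hle b) s = t (ι b) := by
    intro b
    apply smul_pow_injective_of_le hD g b (hle b) M
    apply (smul_pow_bijective hD b (N1 + N2)).1
    change (b : R) ^ (N1 + N2) • g ^ M • resL PM (hle b) s = (b : R) ^ (N1 + N2) • g ^ M • t (ι b)
    rw [← map_smul, ← map_smul, hs', hx₀ b, map_smul, hx' b, smul_comm]
  -- Step 8
  refine ⟨s, fun h => ?_⟩
  rw [← sub_eq_zero]
  apply eq_zero_of_torsion hD (hT h h.2) (T' : Set R) hgT'
  intro b hb
  have hloc := hD.loc (h : R) b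
  have h0 : resL PM (inf_le_left : D (h : R) ⊓ D b ≤ D h) (resL PM (hT h h.2) s - t h) =
      resL PM (inf_le_left : D (h : R) ⊓ D b ≤ D h) 0 := by
    rw [map_zero, map_sub, sub_eq_zero, resL_resL]
    have e1 := hs7 ⟨b, hb⟩
    have e2 := hcompat h (ι ⟨b, hb⟩)
    rw [e2, ← e1, resL_resL]
  obtain ⟨⟨c', n, rfl⟩, hc'⟩ := hloc.exists_of_eq h0
  refine ⟨n, ?_⟩
  have hc'' : b ^ n • (resL PM (hT h h.2) s - t h) = b ^ n • (0 : PM.obj (op (D (h : R)))) := hc'
  rw [hc'', smul_zero]

omit hD in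
lemma res_eq {U V : Opens X} (h : U ≤ V) (s : PM.obj (op V)) :
    SheafifyBasis.res (PM ⋙ forget₂ (ModuleCat.{u} R) AddCommGrpCat.{u}) h s = resL PM h s := rfl

/-- the underlying presheaf of abelian groups is a sheaf on the family of "basic opens" -/
theorem isSheafOnBasis :
    SheafifyBasis.IsSheafOnBasis D (PM ⋙ forget₂ (ModuleCat.{u} R) AddCommGrpCat.{u}) where
  sep := fun i T hT hcov s s' hs => sep_aux hD i T hT hcov s s' hs
  glue := fun i T hT hcov t hcompat => by
    refine glue_aux hD i T hT hcov t ?_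
    intro a b
    exact resL_eq_congr PM (hD.inf a b) _ _ _ _ _ _
      (hcompat a b ((a : R) * (b : R)) (by rw [hD.inf]; exact inf_le_left)
        (by rw [hD.inf]; exact inf_le_right))

end Groth.Agent.Lib.LocPresheaf
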