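import Mathlib.AlgebraicGeometry.AffineScheme
import Mathlib.AlgebraicGeometry.GammaSpecAdjunction
import Groth.Agent.Lib.LocPresheaf

/-!
# Sheafification of a "localizing" presheaf of modules on an affine scheme (helper49)

`S` an affine scheme, `PM` a presheaf of `Γ(S, ⊤)`-modules on `S` such that every restriction
`PM (D g) → PM (D g ⊓ D h)` is a localization at `h`.  Then the sheafification of the underlying presheaf of abelian
groups has the same sections over every basic open, in particular the same global sections: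
`bijective_toSheafify_app_basicOpen`, `bijective_toSheafify_app_top`, `topAddEquiv`.
-/

set_option autoImplicit false
universe u

open CategoryTheory Opposite TopologicalSpace AlgebraicGeometry

namespace Groth.Agent.Lib.LocPresheafAffine

open Groth.Agent.Lib.LocPresheaf Groth.Agent.Lib

variable (S : Scheme.{u}) [IsAffine S]

/-- a covering of `D g` by basic opens `D h`, `h ∈ T`, forces `g ∈ √(T)` -/
theorem mem_radical_of_cover (g : Γ(S, ⊤)) (T : Set Γ(S, ⊤))
    (hcov : ∀ x ∈ S.basicOpen g, ∃ h ∈ T, x ∈ S.basicOpen h) : g ∈ (Ideal.span T).radical := by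
  rw [Ideal.radical_eq_sInf, Submodule.mem_sInf]
  rintro J ⟨hJ, hJp⟩
  by_contra hgJ
  let y : Spec Γ(S, ⊤) := ⟨J, hJp⟩
  let x : S := (Scheme.homeoOfIso S.isoSpec).symm y
  have hxy : S.toSpecΓ.base x = y := (Scheme.homeoOfIso S.isoSpec).apply_symm_apply y
  have key : ∀ r : Γ(S, ⊤), x ∈ S.basicOpen r ↔ r ∉ J := by
    intro r
    rw [← Scheme.toSpecΓ_preimage_basicOpen]
    change S.toSpecΓ.base x ∈ PrimeSpectrum.basicOpen r ↔ _
    rw [hxy]
    rfl
  obtain ⟨h, hhT, hxh⟩ := hcov x ((key g).2 hgJ)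
  exact (key h).1 hxh (hJ (Ideal.subset_span hhT))

variable {S}
variable (PM : (Opens S)ᵒᵖ ⥤ ModuleCat.{u} Γ(S, ⊤))

/-- the localization hypothesis on a presheaf of `Γ(S, ⊤)`-modules -/
def IsLocalizing : Prop :=
  ∀ g h : Γ(S, ⊤), IsLocalizedModule (Submonoid.powers h)
    (resL PM (inf_le_left : S.basicOpen g ⊓ S.basicOpen h ≤ S.basicOpen g))

variable {PM}

theorem locData (hPM : IsLocalizing PM) : LocData PM (S.basicOpen : Γ(S, ⊤) → Opens S) where
  inf := fun g h => S.basicOpen_mul g h
  rad := fun g T hcov => mem_radical_of_cover S g T hcov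
  loc := hPM

theorem bijective_toSheafify_app_basicOpen (hPM : IsLocalizing PM) (g : Γ(S, ⊤)) :
    Function.Bijective ((toSheafify (Opens.grothendieckTopology S)
      (PM ⋙ forget₂ (ModuleCat.{u} Γ(S, ⊤)) AddCommGrpCat.{u})).app (op (S.basicOpen g))) :=
  SheafifyBasis.bijective_toSheafify_app (B := (S.basicOpen : Γ(S, ⊤) → Opens S)) (isBasis_basicOpen S)
    (LocPresheaf.isSheafOnBasis (locData hPM)) g

theorem bijective_toSheafify_app_top (hPM : IsLocalizing PM) :
    Function.Bijective ((toSheafify (Opens.grothendieckTopology S)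
      (PM ⋙ forget₂ (ModuleCat.{u} Γ(S, ⊤)) AddCommGrpCat.{u})).app (op (⊤ : Opens S))) := by
  have h := bijective_toSheafify_app_basicOpen hPM (1 : Γ(S, ⊤))
  have e : S.basicOpen (1 : Γ(S, ⊤)) = ⊤ := S.basicOpen_of_isUnit isUnit_one
  rwa [e] at h

/-- global sections of the sheafification are the global sections of `PM` -/
noncomputable def topAddEquiv (hPM : IsLocalizing PM) :
    PM.obj (op (⊤ : Opens S)) ≃+
      ((presheafToSheaf (Opens.grothendieckTopology S) AddCommGrpCat.{u}).obj
        (PM ⋙ forget₂ (ModuleCat.{u} Γ(S, ⊤)) AddCommGrpCat.{u})).obj.obj (op (⊤ : Opens S)) :=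
  AddEquiv.ofBijective ((toSheafify (Opens.grothendieckTopology S)
      (PM ⋙ forget₂ (ModuleCat.{u} Γ(S, ⊤)) AddCommGrpCat.{u})).app (op (⊤ : Opens S))).hom
    (bijective_toSheafify_app_top hPM)

end Groth.Agent.Lib.LocPresheafAffine
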