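import Groth.Agent.Lib.CohPre5
import Groth.Agent.Lib.LocPresheafAffine
import Groth.Agent.Lib.ActPresheaf
import Groth.Prelude.Def_Coh

/-!
# Global sections of `R^q f_* A` over an affine base, under a localization hypothesis (helper49)

`f : X ⟶ S` a morphism of schemes with `S` affine, `A` an abelian sheaf on `X` with an action of a ring `R = Γ(S, ⊤)` by
endomorphisms.  If the presheaf `V ↦ H^q(f⁻¹V, A)` on `S` is "localizing" on basic opens
(`H^q(f⁻¹ D(g), A) → H^q(f⁻¹ D(gh), A)` is the localization at `h`), then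
`Γ(S, R^q f_* A) ≃+ H^q(X, A)` (`nonempty_sections_RpushAb_addEquiv`; `H^q(X, A)` in the form `H' q ⊤`).
-/

set_option autoImplicit false
universe u

open CategoryTheory CategoryTheory.Limits Opposite TopologicalSpace AlgebraicGeometry

namespace Groth.Agent.Lib.RpushAffineBase

open Groth.Agent.Lib

variable {X S : Scheme.{u}} (f : X ⟶ S) (q : ℕ)

instance cohomologyPresheafFunctor_additive :
    (Sheaf.cohomologyPresheafFunctor.{u} (Opens.grothendieckTopology X) q).Additive where
  map_add := by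
    intro A B φ ψ
    ext U : 2
    exact (Abelian.extFunctorObj _ q).map_add

/-- the functor `A ↦ (V ↦ H^q(f⁻¹ V, A))` from abelian sheaves on `X` to presheaves on `S` -/
noncomputable abbrev cohPreFunctor :
    Sheaf (Opens.grothendieckTopology X) AddCommGrpCat.{u} ⥤ ((Opens S)ᵒᵖ ⥤ AddCommGrpCat.{u}) :=
  Sheaf.cohomologyPresheafFunctor.{u} (Opens.grothendieckTopology X) q ⋙
    (Functor.whiskeringLeft (Opens S)ᵒᵖ (Opens X)ᵒᵖ AddCommGrpCat.{u}).obj (Opens.map f.base).op

variable (A : Sheaf (Opens.grothendieckTopology X) AddCommGrpCat.{u})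

/-- the presheaf `V ↦ H^q(f⁻¹ V, A)` on `S` -/
noncomputable abbrev cohPre : (Opens S)ᵒᵖ ⥤ AddCommGrpCat.{u} := (cohPreFunctor f q).obj A

variable {R : Type u} [CommRing R] (act : R →+* End A)

/-- the induced action on the presheaf `V ↦ H^q(f⁻¹ V, A)` -/
noncomputable def actP : R →+* End (cohPre f q A) :=
  (ActPresheaf.mapEndRingHom (cohPreFunctor f q) A).comp act

variable [IsAffine S] (actS : Γ(S, ⊤) →+* End A)

/-- the elementwise localization condition on `V ↦ H^q(f⁻¹ V, A)` for the pair of basic opens `D g ⊓ D h ≤ D g` -/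
structure LocCond (g h : Γ(S, ⊤)) : Prop where
  bij : Function.Bijective fun y : (cohPre f q A).obj (op (S.basicOpen g ⊓ S.basicOpen h)) =>
    ((actP f q A actS h : cohPre f q A ⟶ cohPre f q A).app (op (S.basicOpen g ⊓ S.basicOpen h))) y
  surj : ∀ y : (cohPre f q A).obj (op (S.basicOpen g ⊓ S.basicOpen h)), ∃ (k : ℕ)
    (x : (cohPre f q A).obj (op (S.basicOpen g))),
    (fun y : (cohPre f q A).obj (op (S.basicOpen g ⊓ S.basicOpen h)) =>
      ((actP f q A actS h : cohPre f q A ⟶ cohPre f q A).app (op (S.basicOpen g ⊓ S.basicOpen h))) y)^[k] y =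
      ((cohPre f q A).map (homOfLE (inf_le_left : S.basicOpen g ⊓ S.basicOpen h ≤ S.basicOpen g)).op) x
  inj : ∀ x : (cohPre f q A).obj (op (S.basicOpen g)),
    ((cohPre f q A).map (homOfLE (inf_le_left : S.basicOpen g ⊓ S.basicOpen h ≤ S.basicOpen g)).op) x = 0 →
    ∃ k : ℕ, (fun y : (cohPre f q A).obj (op (S.basicOpen g)) =>
      ((actP f q A actS h : cohPre f q A ⟶ cohPre f q A).app (op (S.basicOpen g))) y)^[k] x = 0

/-- **`Γ(S, R^q f_* A) ≃+ H^q(X, A)` for an affine base `S`, under the localization hypothesis.** -/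
theorem nonempty_sections_RpushAb_addEquiv (hloc : ∀ g h : Γ(S, ⊤), LocCond f q A actS g h) :
    Nonempty (((Coh.RpushAb f q).obj A).obj.obj (op (⊤ : Opens S)) ≃+
      (Sheaf.cohomologyPresheaf.{u} A q).obj (op (⊤ : Opens X))) := by
  obtain ⟨e⟩ := CohPresheafDerived.nonempty_Rpush_natIso (Opens.grothendieckTopology X)
    (Opens.grothendieckTopology S) (Opens.map f.base) q
  let PM := ActPresheaf.modPresheaf (cohPre f q A) (actP f q A actS)
  have hPM : LocPresheafAffine.IsLocalizing PM := fun g h =>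
    ActPresheaf.isLocalizedModule_of_elementwise (cohPre f q A) (actP f q A actS) _ h
      (hloc g h).bij (hloc g h).surj (hloc g h).inj
  let e1 : (Coh.RpushAb f q).obj A ≅
      (presheafToSheaf (Opens.grothendieckTopology S) AddCommGrpCat.{u}).obj (cohPre f q A) := e.app A
  let e2 : (presheafToSheaf (Opens.grothendieckTopology S) AddCommGrpCat.{u}).obj (cohPre f q A) ≅
      (presheafToSheaf (Opens.grothendieckTopology S) AddCommGrpCat.{u}).obj
        (PM ⋙ forget₂ (ModuleCat.{u} Γ(S, ⊤)) AddCommGrpCat.{u}) :=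
    (presheafToSheaf (Opens.grothendieckTopology S) AddCommGrpCat.{u}).mapIso
      (ActPresheaf.modPresheafForgetIso (cohPre f q A) (actP f q A actS)).symm
  let e3 := ((sheafToPresheaf (Opens.grothendieckTopology S) AddCommGrpCat.{u} ⋙
    (evaluation (Opens S)ᵒᵖ AddCommGrpCat.{u}).obj (op (⊤ : Opens S))).mapIso (e1 ≪≫ e2)).addCommGroupIsoToAddEquiv
  exact ⟨e3.trans (LocPresheafAffine.topAddEquiv hPM).symm⟩

end Groth.Agent.Lib.RpushAffineBase
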