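/-
helper78: the part of `P^r_Y` over an affine open `W ⊆ Y` is `P^r_{Γ(Y,W)}`, compatibly with `O(d)`, `d : ℤ`.
* `isPullback_restrict`, `isoProjSpace`, `isoProjSpace_hom_β`
* `nonempty_restrict_twistOver_iso`
* `subsingleton_HH_restrict_twistOver`
* `isZero_RpushAb_twistOver` (S4471)
-/
import Groth.Agent.Lib.H78TwistBCInt
import Groth.Agent.Lib.H78CohIso
import Groth.Agent.Lib.H78RpushZero
import Groth.Agent.Lib.ProjOfAmpleH3
import Groth.Agent.Lib.ProjSpaceProper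
import Groth.Agent.Lib.H4ProjSpaceCoh

set_option autoImplicit false
set_option linter.style.haveILetI false
universe u
open CategoryTheory CategoryTheory.Limits AlgebraicGeometry TopologicalSpace Opposite CohB1 Twist
open Groth.Agent.Lib.VeryAmpleH3 Groth.Agent.Lib.H90ProjBC

namespace Groth.Agent.Lib.H78ProjOverAffine

attribute [local instance] ULift.algebra'

variable (r : ℕ) (Y : Scheme.{u}) {W : Y.Opens} (hW : IsAffineOpen W)

include hW in
theorem isPullback_restrict :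
    IsPullback ((sndP r Y ⁻¹ᵁ W).ι ≫ fstP r Y) ((sndP r Y ∣_ W) ≫ hW.isoSpec.hom)
      (CohB1.ProjSpace.toSpec r ZZ.{u}) (specULiftZIsTerminal.from (Spec Γ(Y, W))) := by
  have h1 : IsPullback (sndP r Y ⁻¹ᵁ W).ι (sndP r Y ∣_ W) (sndP r Y) W.ι :=
    (isPullback_morphismRestrict (sndP r Y) W).flip
  have h2 : IsPullback (fstP r Y) (sndP r Y) (CohB1.ProjSpace.toSpec r ZZ.{u})
      (specULiftZIsTerminal.from Y) := IsPullback.of_hasPullback _ _
  have h3 := h1.paste_horiz h2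
  refine h3.of_iso (Iso.refl _) (Iso.refl _) hW.isoSpec (Iso.refl _) ?_ ?_ ?_ ?_
  · simp
  · simp
  · simp
  · exact specULiftZIsTerminal.hom_ext _ _

/-- `f⁻¹(W) ≅ P^r_{Γ(Y, W)}` -/
noncomputable def isoProjSpace : (sndP r Y ⁻¹ᵁ W).toScheme ≅ CohB1.ProjSpace r Γ(Y, W) :=
  (isPullback_restrict r Y hW).isoIsPullback _ _
    (Groth.Agent.Lib.ProjOfAmpleH3.isPullback_projSpace r Γ(Y, W))

theorem isoProjSpace_hom_β :
    (isoProjSpace r Y hW).hom ≫ β r ZZ.{u} Γ(Y, W) = (sndP r Y ⁻¹ᵁ W).ι ≫ fstP r Y :=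
  IsPullback.isoIsPullback_hom_fst _ _ _ _

/-- `O_{P^r_Y}(d)` restricted to `f⁻¹(W)` is `O(d)` on `P^r_{Γ(Y, W)}` -/
theorem nonempty_restrict_twistOver_iso (d : ℤ) :
    Nonempty ((twistOver r Y d).restrict (sndP r Y ⁻¹ᵁ W).ι ≅
      (Scheme.Modules.pullback (isoProjSpace r Y hW).hom).obj (twistProjSpace r Γ(Y, W) d)) := by
  obtain ⟨e⟩ := Groth.Agent.Lib.H78TwistBCInt.nonempty_pullback_twist_iso_int r ZZ.{u} Γ(Y, W) d
  let U := sndP r Y ⁻¹ᵁ W
  let OA := twistProjSpace r ZZ.{u} d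
  have hβ := isoProjSpace_hom_β r Y hW
  exact ⟨(Scheme.Modules.restrictFunctorIsoPullback U.ι).app ((Scheme.Modules.pullback (fstP r Y)).obj OA) ≪≫
    (Scheme.Modules.pullbackComp U.ι (fstP r Y)).app OA ≪≫
    (Scheme.Modules.pullbackCongr hβ.symm).app OA ≪≫
    ((Scheme.Modules.pullbackComp (isoProjSpace r Y hW).hom (β r ZZ.{u} Γ(Y, W))).app OA).symm ≪≫
    (Scheme.Modules.pullback (isoProjSpace r Y hW).hom).mapIso e⟩

include hW in
theorem subsingleton_HH_restrict_twistOver (d : ℤ) (q : ℕ)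
    (h₀ : ¬ (q = 0 ∧ 0 ≤ d)) (hn : ¬ (q = r ∧ d ≤ -((r : ℤ) + 1))) :
    Subsingleton (Coh.HH (sndP r Y ⁻¹ᵁ W).toScheme ((twistOver r Y d).restrict (sndP r Y ⁻¹ᵁ W).ι) q) := by
  obtain ⟨e⟩ := nonempty_restrict_twistOver_iso r Y hW d
  haveI := Groth.Agent.Lib.H4Twist.subsingleton_HH_twist_of_not r Γ(Y, W) d q h₀ hn
  haveI := Groth.Agent.Lib.H78CohIso.subsingleton_HH_pullback_of_isIso (isoProjSpace r Y hW).hom
    (twistProjSpace r Γ(Y, W) d) (Groth.Agent.Lib.H4Twist.isInvertible_twistProjSpace r Γ(Y, W) d) q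
  exact Groth.Agent.Lib.CohLES.subsingleton_of_iso e q

theorem sndP_eq_toBase : sndP r Y = CohB1.ProjSpaceOver.toBase r Y := rfl

/-- **S4471**: `R^i f_* O(d) = 0` on `P^r_Y` outside the two exceptional ranges. -/
theorem isZero_RpushAb_twistOver (i : ℕ) (d : ℤ)
    (h : ¬ ((i = 0 ∧ 0 ≤ d) ∨ (i = r ∧ d ≤ -((r : ℤ) + 1)))) :
    IsZero ((Coh.RpushAb (CohB1.ProjSpaceOver.toBase r Y) i).obj (Coh.toAb (twistOver r Y d))) := by
  have h₀ : ¬ (i = 0 ∧ 0 ≤ d) := fun h' => h (Or.inl h')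
  have hn : ¬ (i = r ∧ d ≤ -((r : ℤ) + 1)) := fun h' => h (Or.inr h')
  rw [← sndP_eq_toBase]
  haveI : IsProper (sndP r Y) := Groth.Agent.Lib.ProjSpaceProper.isProper_toBase r Y
  have hinv : PicF.IsInvertible (twistOver r Y d) :=
    Groth.Agent.Lib.H90Invertible.isInvertible_pullback _
      (Groth.Agent.Lib.H4Twist.isInvertible_twistProjSpace r ZZ.{u} d)
  have hq : Coh.IsQCoh (twistOver r Y d) := (Groth.Agent.Lib.H90Invertible.isCoh_of_isInvertible hinv).1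
  refine Groth.Agent.Lib.H78RpushZero.isZero_RpushAb_of_cover (sndP r Y) (twistOver r Y d) hq i
    (fun W : Y.affineOpens => (W : Y.Opens)) ?_ (fun W => W.2) (fun W => ?_)
  · exact iSup_affineOpens_eq_top Y
  · exact subsingleton_HH_restrict_twistOver r Y W.2 d i h₀ hn

end Groth.Agent.Lib.H78ProjOverAffine
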