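import Mathlib.CategoryTheory.Abelian.Projective.Resolution
import Mathlib.CategoryTheory.Abelian.Projective.Dimension
import Mathlib.Algebra.Homology.QuasiIso
import Mathlib.Algebra.Homology.SingleHomology
import Mathlib.CategoryTheory.Abelian.Projective.Ext
import Mathlib.CategoryTheory.Abelian.LeftDerived

/-!
# helper78: splicing projective resolutions; finite resolutions from projective dimension
(namespace `Groth.Agent.Lib.H78ProjRes`)

* `splice`: from a short exact sequence `0 → K → P → M → 0` with `P` projective and a projective resolution `Q` of `K`,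
  a projective resolution of `M` with terms `P, Q₀, Q₁, …`.
* `exists_of_hasProjectiveDimensionLE`: in an abelian category with enough projectives, an object of projective
  dimension `≤ d` (Ext-vanishing definition) has a projective resolution with zero terms above `d`.
-/

set_option autoImplicit false
universe v u
open CategoryTheory Limits

namespace Groth.Agent.Lib.H78ProjRes

variable {C : Type u} [Category.{v} C] [Abelian C]

section pi0

variable {K : C} (Q : ProjectiveResolution K)

/-- the augmentation `Q₀ ⟶ K` of a projective resolution, with target written as `K` -/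
noncomputable def pi0 : Q.complex.X 0 ⟶ K := Q.π.f 0

lemma d_pi0 : Q.complex.d 1 0 ≫ pi0 Q = 0 := Q.complex_d_comp_π_f_zero

instance epi_pi0 : Epi (pi0 Q) := (inferInstance : Epi (Q.π.f 0))

lemma exact0 : (ShortComplex.mk (Q.complex.d 1 0) (pi0 Q) (d_pi0 Q)).Exact := Q.exact₀

end pi0

section splice

variable {M K P : C} (ι : K ⟶ P) (Q : ProjectiveResolution K)

/-- objects of the spliced complex -/
def spliceX : ℕ → C
  | 0 => P
  | n + 1 => Q.complex.X n

/-- differentials of the spliced complex -/
noncomputable def spliceD : ∀ n : ℕ, spliceX (P := P) Q (n + 1) ⟶ spliceX (P := P) Q n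
  | 0 => pi0 Q ≫ ι
  | n + 1 => Q.complex.d (n + 1) n

lemma spliceD_comp : ∀ n : ℕ, spliceD ι Q (n + 1) ≫ spliceD ι Q n = 0
  | 0 => by
    change Q.complex.d 1 0 ≫ pi0 Q ≫ ι = 0
    rw [← Category.assoc, d_pi0, zero_comp]
  | n + 1 => by
    change Q.complex.d (n + 2) (n + 1) ≫ Q.complex.d (n + 1) n = 0
    simp

/-- the spliced complex `… → Q₁ → Q₀ → P` -/
noncomputable def spliceComplex : ChainComplex C ℕ :=
  ChainComplex.of (spliceX (P := P) Q) (spliceD ι Q) (spliceD_comp ι Q)

lemma spliceComplex_d (n : ℕ) : (spliceComplex ι Q).d (n + 1) n = spliceD ι Q n := by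
  simp [spliceComplex]

variable (p : P ⟶ M) (w : ι ≫ p = 0) (hS : (ShortComplex.mk ι p w).ShortExact)

include hS in
lemma exact_zero : (ShortComplex.mk (pi0 Q ≫ ι) p (by rw [Category.assoc, w, comp_zero])).Exact := by
  let α : ShortComplex.mk (pi0 Q ≫ ι) p (by rw [Category.assoc, w, comp_zero]) ⟶
      ShortComplex.mk ι p w :=
    { τ₁ := pi0 Q
      τ₂ := 𝟙 _
      τ₃ := 𝟙 _ }
  have : Epi α.τ₁ := epi_pi0 Q
  have : IsIso α.τ₂ := (inferInstance : IsIso (𝟙 P))
  have : Mono α.τ₃ := (inferInstance : Mono (𝟙 M))
  rw [ShortComplex.exact_iff_of_epi_of_isIso_of_mono α]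
  exact hS.exact

include hS in
lemma exact_one : (ShortComplex.mk (Q.complex.d 1 0) (pi0 Q ≫ ι)
    (by rw [← Category.assoc, d_pi0, zero_comp])).Exact := by
  have hι : Mono ι := hS.mono_f
  let α : ShortComplex.mk (Q.complex.d 1 0) (pi0 Q) (d_pi0 Q) ⟶
      ShortComplex.mk (Q.complex.d 1 0) (pi0 Q ≫ ι)
        (by rw [← Category.assoc, d_pi0, zero_comp]) :=
    { τ₁ := 𝟙 _
      τ₂ := 𝟙 _
      τ₃ := ι }
  have : Epi α.τ₁ := (inferInstance : Epi (𝟙 (Q.complex.X 1)))
  have : IsIso α.τ₂ := (inferInstance : IsIso (𝟙 (Q.complex.X 0)))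
  have : Mono α.τ₃ := hι
  rw [← ShortComplex.exact_iff_of_epi_of_isIso_of_mono α]
  exact exact0 Q

lemma exact_congr {X₁ X₂ X₃ : C} {f f' : X₁ ⟶ X₂} {g g' : X₂ ⟶ X₃} (hf : f = f') (hg : g = g')
    (w : f ≫ g = 0) (w' : f' ≫ g' = 0) (h : (ShortComplex.mk f g w).Exact) :
    (ShortComplex.mk f' g' w').Exact := by
  subst hf hg
  exact h

/-- the augmentation of the spliced complex -/
noncomputable def spliceπ : spliceComplex ι Q ⟶ (ChainComplex.single₀ C).obj M :=
  (ChainComplex.toSingle₀Equiv _ _).symm ⟨(show (spliceComplex ι Q).X 0 ⟶ M from p), by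
    rw [spliceComplex_d]
    change (pi0 Q ≫ ι) ≫ p = 0
    rw [Category.assoc, w, comp_zero]⟩

lemma spliceπ_f_zero : (spliceπ ι Q p w).f 0 = (show (spliceComplex ι Q).X 0 ⟶ M from p) :=
  ChainComplex.toSingle₀Equiv_symm_apply_f_zero _ _

include hS in
lemma quasiIso_spliceπ : QuasiIso (spliceπ ι Q p w) := ⟨fun n => by
    cases n with
    | zero =>
      rw [ChainComplex.quasiIsoAt₀_iff, ShortComplex.quasiIso_iff_of_zeros' _ rfl rfl rfl]
      have e1 : (spliceComplex ι Q).d 1 0 = pi0 Q ≫ ι := spliceComplex_d ι Q 0
      have e2 : (spliceπ ι Q p w).f 0 = p := spliceπ_f_zero ι Q p w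
      refine ⟨?_, ?_⟩
      · exact exact_congr e1.symm e2.symm _ _ (exact_zero ι Q p w hS)
      · have : Epi p := hS.epi_g
        change Epi ((spliceπ ι Q p w).f 0)
        rw [e2]
        exact this
    | succ n =>
      rw [quasiIsoAt_iff_exactAt' (hL := ChainComplex.exactAt_succ_single_obj ..),
        HomologicalComplex.exactAt_iff' _ (n + 2) (n + 1) n (by simp) (by simp)]
      cases n with
      | zero =>
        have e1 : (spliceComplex ι Q).d 1 0 = pi0 Q ≫ ι := spliceComplex_d ι Q 0
        have e2 : (spliceComplex ι Q).d 2 1 = Q.complex.d 1 0 := spliceComplex_d ι Q 1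
        exact exact_congr e2.symm e1.symm _ _ (exact_one ι Q p w hS)
      | succ n =>
        have e1 : (spliceComplex ι Q).d (n + 2) (n + 1) = Q.complex.d (n + 1) n :=
          spliceComplex_d ι Q (n + 1)
        have e2 : (spliceComplex ι Q).d (n + 3) (n + 2) = Q.complex.d (n + 2) (n + 1) :=
          spliceComplex_d ι Q (n + 2)
        exact exact_congr e2.symm e1.symm _ _ (Q.exact_succ n)⟩

/-- the spliced projective resolution of `M` -/
noncomputable def splice [Projective P] : ProjectiveResolution M where
  complex := spliceComplex ι Q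
  projective := fun n => match n with
    | 0 => (inferInstance : Projective P)
    | n + 1 => Q.projective n
  π := spliceπ ι Q p w
  quasiIso := quasiIso_spliceπ ι Q p w hS

lemma splice_X_succ [Projective P] (n : ℕ) :
    (splice ι Q p w hS).complex.X (n + 1) = Q.complex.X n := rfl

end splice

section dimension

/-- A projective resolution with zero terms above `d` bounds the projective dimension by `d`. -/
theorem hasProjectiveDimensionLE_of_resolution {M : C} (d : ℕ) (P : ProjectiveResolution M)
    (hP : ∀ i, d < i → IsZero (P.complex.X i)) : HasProjectiveDimensionLE M d := by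
  let _ := HasExt.standard C
  refine HasProjectiveDimensionLT.mk (fun i hi Y e => ?_)
  obtain ⟨f, hf, rfl⟩ := P.extMk_surjective e (i + 1) rfl
  have hf0 : f = 0 := (hP i (by omega)).eq_of_src _ _
  subst hf0
  exact P.extMk_zero (i + 1) rfl

/-- An object of projective dimension `≤ d` has a projective resolution with zero terms above `d`. -/
theorem exists_of_hasProjectiveDimensionLE [EnoughProjectives C] :
    ∀ (d : ℕ) (M : C), HasProjectiveDimensionLE M d →
      ∃ P : ProjectiveResolution M, ∀ i, d < i → IsZero (P.complex.X i) := by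
  intro d
  induction d with
  | zero =>
    intro M hM
    have hM1 : HasProjectiveDimensionLT M 1 := hM
    have : Projective M := projective_iff_hasProjectiveDimensionLT_one.2 hM1
    refine ⟨ProjectiveResolution.self M, fun i hi => ?_⟩
    exact HomologicalComplex.isZero_single_obj_X (ComplexShape.down ℕ) 0 M i (by omega)
  | succ d ih =>
    intro M hM
    let p : Projective.over M ⟶ M := Projective.π M
    have hS : (ShortComplex.mk (kernel.ι p) p (kernel.condition p)).ShortExact :=
      { exact := ShortComplex.exact_of_f_is_kernel _ (kernelIsKernel p)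
        mono_f := (inferInstance : Mono (kernel.ι p))
        epi_g := (inferInstance : Epi (Projective.π M)) }
    have hK : HasProjectiveDimensionLE (kernel p) d :=
      (hS.hasProjectiveDimensionLT_X₃_iff d (inferInstance : Projective (Projective.over M))).1 hM
    obtain ⟨Q, hQ⟩ := ih (kernel p) hK
    refine ⟨splice (kernel.ι p) Q p (kernel.condition p) hS, fun i hi => ?_⟩
    obtain ⟨j, rfl⟩ : ∃ j, i = j + 1 := ⟨i - 1, by omega⟩
    exact hQ j (by omega)

end dimension

section leftDerived

variable {D : Type*} [Category* D] [Abelian D] [HasProjectiveResolutions C]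

/-- If `X` has a projective resolution whose `n`-th term is zero, the `n`-th left derived functor of any additive
functor vanishes on `X`. -/
theorem isZero_leftDerived_obj_of_isZero_X {X : C} (P : ProjectiveResolution X) (F : C ⥤ D)
    [F.Additive] (n : ℕ) (hP : IsZero (P.complex.X n)) : IsZero ((F.leftDerived n).obj X) := by
  refine IsZero.of_iso ?_ (P.isoLeftDerivedObj F n)
  have hz : IsZero (((F.mapHomologicalComplex (ComplexShape.down ℕ)).obj P.complex).X n) :=
    F.map_isZero hP
  exact (HomologicalComplex.ExactAt.of_isZero hz).isZero_homology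

/-- Left derived functors vanish above the projective dimension. -/
theorem isZero_leftDerived_obj_of_hasProjectiveDimensionLE [EnoughProjectives C] (X : C) (d : ℕ)
    [hX : HasProjectiveDimensionLE X d] (F : C ⥤ D) [F.Additive] (n : ℕ) (hn : d < n) :
    IsZero ((F.leftDerived n).obj X) := by
  obtain ⟨P, hP⟩ := exists_of_hasProjectiveDimensionLE d X hX
  exact isZero_leftDerived_obj_of_isZero_X P F n (hP n hn)

end leftDerived

end Groth.Agent.Lib.H78ProjRes
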