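import Groth.Agent.Lib.H78ProjRes

/-!
# helper78: left derived functors and length-one projective resolutions
(namespace `Groth.Agent.Lib.H78ProjRes`)

* `isZero_leftDerived_succ_of_shortExact_projective`: if `0 → K → P → X → 0` is short exact with `K`, `P` projective and
  `F` carries `K → P` to a monomorphism, then `LₙF X = 0` for all `n ≥ 1`.
-/

set_option autoImplicit false
universe v u
open CategoryTheory Limits

namespace Groth.Agent.Lib.H78ProjRes

variable {C : Type u} [Category.{v} C] [Abelian C]

section leftDerived

variable {D : Type*} [Category* D] [Abelian D] [HasProjectiveResolutions C]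

/-- Length-one resolutions: if `0 → K → P → X → 0` is short exact with `K`, `P` projective and `F` carries `K → P` to
a monomorphism, then all higher left derived functors of `F` vanish on `X`. -/
theorem isZero_leftDerived_succ_of_shortExact_projective {X K P : C} [Projective K] [Projective P]
    (ι : K ⟶ P) (p : P ⟶ X) (w : ι ≫ p = 0) (hS : (ShortComplex.mk ι p w).ShortExact)
    (F : C ⥤ D) [F.Additive] (hF : Mono (F.map ι)) (n : ℕ) :
    IsZero ((F.leftDerived (n + 1)).obj X) := by
  let Q := ProjectiveResolution.self K
  let S := splice ι Q p w hS
  cases n with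
  | succ n =>
    refine isZero_leftDerived_obj_of_isZero_X S F (n + 2) ?_
    change IsZero (Q.complex.X (n + 1))
    exact HomologicalComplex.isZero_single_obj_X (ComplexShape.down ℕ) 0 K (n + 1) (by omega)
  | zero =>
    refine IsZero.of_iso ?_ (S.isoLeftDerivedObj F 1)
    refine HomologicalComplex.ExactAt.isZero_homology ?_
    rw [HomologicalComplex.exactAt_iff' _ 2 1 0 (by simp) (by simp)]
    have hz : IsZero (((F.mapHomologicalComplex (ComplexShape.down ℕ)).obj S.complex).X 2) := by
      refine F.map_isZero ?_
      change IsZero (Q.complex.X 1)
      exact HomologicalComplex.isZero_single_obj_X (ComplexShape.down ℕ) 0 K 1 (by omega)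
    rw [ShortComplex.exact_iff_mono _ (hz.eq_of_src _ _)]
    change Mono (F.map (S.complex.d 1 0))
    have e1 : S.complex.d 1 0 = pi0 Q ≫ ι := spliceComplex_d ι Q 0
    have e3 : S.complex.d 1 0 = ι := by
      rw [e1]
      exact Category.id_comp ι
    rw [e3]
    exact hF

end leftDerived

end Groth.Agent.Lib.H78ProjRes
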