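/-
# helper78: `O(1)` on `P^n_S` is ample relative to `P^n_S ⟶ S` (any base `S`); ample modules on `P^n_S` when `S` has one
-/
import Groth.Agent.Lib.VeryAmpleH3
import Groth.Agent.Lib.ProjSpaceFin
import Groth.Agent.Lib.ProjSpaceProper
import Groth.Agent.Lib.H78PullAmple3
import Groth.Agent.Lib.H78RelAmpleComp

set_option autoImplicit false
universe u
open CategoryTheory CategoryTheory.Limits AlgebraicGeometry TopologicalSpace Opposite

namespace Groth.Agent.Lib.H78ProjSpaceAmple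

open Groth.Agent.Lib.VeryAmpleH3

/-- over an affine open `V` of the base, the projection `P^n_S ⊇ snd⁻¹ V ⟶ P^n_ℤ` is affine (raw form) -/
theorem isAffineHom_ι_fst {P Z S : Scheme.{u}} [IsAffine Z] (a : P ⟶ Z) (b : S ⟶ Z) (V : S.Opens)
    (hV : IsAffineOpen V) :
    IsAffineHom ((pullback.snd a b ⁻¹ᵁ V).ι ≫ pullback.fst a b) := by
  haveI : IsAffine (V : Scheme.{u}) := hV
  have h1 : (pullback.snd a b ⁻¹ᵁ V).ι ≫ pullback.fst a b =
      (pullbackRestrictIsoRestrict (pullback.snd a b) V).inv ≫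
        (pullbackLeftPullbackSndIso a b V.ι).hom ≫ pullback.fst a (V.ι ≫ b) := by
    rw [pullbackLeftPullbackSndIso_hom_fst, ← Category.assoc, pullbackRestrictIsoRestrict_inv_fst]
  rw [h1]
  haveI : IsAffineHom (pullback.fst a (V.ι ≫ b)) :=
    MorphismProperty.pullback_fst (P := @IsAffineHom) _ _ inferInstance
  infer_instance

/-- over an affine open `V` of the base, the projection `P^n_S ⊇ snd⁻¹ V ⟶ P^n_ℤ` is affine -/
theorem isAffineHom_ι_fstP (n : ℕ) (S : Scheme.{u}) (V : S.Opens) (hV : IsAffineOpen V) :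
    IsAffineHom ((sndP n S ⁻¹ᵁ V).ι ≫ fstP n S) :=
  isAffineHom_ι_fst (CohB1.ProjSpace.toSpec n ZZ.{u}) (specULiftZIsTerminal.from S) V hV

/-- `O(1)` is ample relative to `P^n_S ⟶ S` -/
theorem isRelAmple_twistOver (n : ℕ) (S : Scheme.{u}) :
    RelAmple.IsRelAmple (sndP n S) (Twist.twistOver n S 1) := by
  haveI : IsProper (sndP n S) := Groth.Agent.Lib.ProjSpaceProper.isProper_toBase n S
  refine ⟨inferInstance, fun V => ?_⟩
  haveI := isAffineHom_ι_fstP n S V.1 V.2
  have h := Groth.Agent.Lib.H78PullAmple.isAmple_pullback_of_isAffineHom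
    ((sndP n S ⁻¹ᵁ V.1).ι ≫ fstP n S) (Groth.Agent.Lib.ProjSpaceFin.isAmple_twist_one n ZZ.{u})
  refine Groth.Agent.Lib.H78AmpleUnit.isAmple_of_iso ?_ h
  exact ((Scheme.Modules.pullbackComp (sndP n S ⁻¹ᵁ V.1).ι (fstP n S)).app _).symm ≪≫
    ((Scheme.Modules.restrictFunctorIsoPullback (sndP n S ⁻¹ᵁ V.1).ι).app _).symm

/-- if `S` carries an ample module then so does `P^n_S` -/
theorem exists_isAmple (n : ℕ) {S : Scheme.{u}} {N : S.Modules} (hN : CohB1.IsAmple N) :
    ∃ M : (CohB1.ProjSpaceOver n S).Modules, CohB1.IsAmple M := by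
  haveI : IsProper (sndP n S) := Groth.Agent.Lib.ProjSpaceProper.isProper_toBase n S
  obtain ⟨n₀, -, hn₀⟩ := Groth.Agent.Lib.H78RelAmpleComp.isAmple_tensor_pullback_pow (sndP n S) hN
    (isRelAmple_twistOver n S)
  exact ⟨_, hn₀ n₀ le_rfl⟩

end Groth.Agent.Lib.H78ProjSpaceAmple
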