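/-
helper78: sections of an invertible module regular on finitely many coherent modules (prime avoidance over a
local ring with infinite residue field).
* `exists_forall_notMem`: over a local ring with infinite residue field, finitely many proper submodules do not cover.
* `mono_tensorModMap_of_assPoints`: a section of an invertible module not vanishing at the associated points of a
  coherent module `F` is `F`-regular.
* `exists_regular_section` (= S15976).
-/
import Groth.Agent.Lib.H78SecAdd
import Groth.Agent.Lib.AssPoints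
import Groth.Agent.Lib.Conormal81C
import Groth.Agent.Lib.H4KoszulPn
import Groth.Agent.Lib.TwistRegSES49
import Groth.Agent.S1576

set_option autoImplicit false
universe u

open CategoryTheory CategoryTheory.Limits AlgebraicGeometry Opposite TopologicalSpace CohB1
open Groth.Agent.Lib.H90Invertible Groth.Agent.Lib.StructureModule Groth.Agent.Lib.H78TensorGen
open Groth.Agent.Lib.H78SecCoord Groth.Agent.Lib.H78Atlas

namespace Groth.Agent.Lib.H78RegSec

/-- Over a local ring with infinite residue field, finitely many proper submodules do not cover a module. -/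
theorem exists_forall_notMem {A : Type*} [CommRing A] [IsLocalRing A]
    (hA : Infinite (IsLocalRing.ResidueField A))
    {E : Type*} [AddCommGroup E] [Module A E] {ι : Type*} (s : Finset ι) (p : ι → Submodule A E)
    (hp : ∀ i ∈ s, p i ≠ ⊤) : ∃ v : E, ∀ i ∈ s, v ∉ p i := by
  by_contra hcon
  push Not at hcon
  have hcov : ⋃ i ∈ s, (p i : Set E) = Set.univ := by
    apply Set.eq_univ_of_forall
    intro v
    obtain ⟨i, hi, hv⟩ := hcon v
    exact Set.mem_biUnion hi hv
  obtain ⟨k, hk, hfi⟩ := Submodule.exists_finiteIndex_of_cover hcov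
  haveI : Finite (E ⧸ (p k).toAddSubgroup) := AddSubgroup.finite_quotient_of_finiteIndex
  obtain ⟨v, hv⟩ : ∃ v : E, v ∉ p k := by
    by_contra h
    push Not at h
    exact hp k hk (eq_top_iff.2 fun v _ => h v)
  let lift : IsLocalRing.ResidueField A → A := Function.surjInv IsLocalRing.residue_surjective
  have hlift : ∀ t, IsLocalRing.residue A (lift t) = t :=
    Function.surjInv_eq IsLocalRing.residue_surjective
  let g : IsLocalRing.ResidueField A → E ⧸ (p k).toAddSubgroup :=
    fun t => QuotientAddGroup.mk (lift t • v)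
  have hg : Function.Injective g := by
    intro t t' htt
    by_contra hne
    have h1 : lift t • v - lift t' • v ∈ (p k).toAddSubgroup := by
      have := QuotientAddGroup.eq.1 htt
      rw [neg_add_eq_sub] at this
      have h2 := (p k).toAddSubgroup.neg_mem this
      rwa [neg_sub] at h2
    rw [← sub_smul] at h1
    have hu : IsUnit (lift t - lift t') := by
      rw [← IsLocalRing.notMem_maximalIdeal, ← IsLocalRing.residue_eq_zero_iff, map_sub, hlift, hlift,
        sub_eq_zero]
      exact hne
    obtain ⟨u, hu⟩ := hu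
    have h3 : v = (↑u⁻¹ : A) • ((lift t - lift t') • v) := by
      rw [← hu, smul_smul, Units.inv_mul, one_smul]
    apply hv
    rw [h3]
    exact (p k).smul_mem _ h1
  haveI := Finite.of_injective g hg
  exact not_finite (IsLocalRing.ResidueField A)


variable {X : Scheme.{u}}

open Groth.Agent.Lib.QCohStalk Groth.Agent.Lib.AssPoints Groth.Agent.Lib.OXModTensor in
/-- A function on an affine open of a locally Noetherian scheme which is a unit at all associated points of a
coherent module `F` is a nonzerodivisor on the sections of `F`. -/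
theorem eq_zero_of_smul_eq_zero [IsLocallyNoetherian X] (F : X.Modules) (hF : Coh.IsCoh F)
    {U : X.Opens} (hU : IsAffineOpen U) (c : Γ(X, U))
    (hc : ∀ x : X, x ∈ U → Curv2.IsAssPoint F x → x ∈ X.basicOpen c)
    (m : Γ(F, U)) (hm : c • m = 0) : m = 0 := by
  by_contra hm0
  haveI : F.IsQuasicoherent := hF.1
  haveI : IsNoetherianRing Γ(X, U) := IsLocallyNoetherian.component_noetherian ⟨U, hU⟩
  have hmem : c ∈ {r : Γ(X, U) | ∃ x : Γ(F, U), x ≠ 0 ∧ r • x = 0} := ⟨m, hm0, hm⟩
  rw [← biUnion_associatedPrimes_eq_zero_divisors] at hmem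
  obtain ⟨p, hp, hcp⟩ := Set.mem_iUnion₂.1 hmem
  haveI : p.IsPrime := hp.isPrime
  obtain ⟨y, hy⟩ : ∃ y : U, y = ⟨hU.fromSpec ⟨p, inferInstance⟩, fromSpec_mem hU _⟩ := ⟨_, rfl⟩
  have hpy : (hU.primeIdealOf y).asIdeal = p := by
    rw [hy, primeIdealOf_fromSpec]
  letI := moduleSectionStalk F y
  haveI := isScalarTower_sectionStalk F y
  haveI : IsLocalizedModule (hU.primeIdealOf y).asIdeal.primeCompl (germLinear F y) :=
    isLocalizedModule_germ F hU y
  haveI := hU.isLocalization_stalk y
  have hass : Curv2.IsAssPoint F y.1 := by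
    change IsLocalRing.maximalIdeal (X.presheaf.stalk y.1) ∈
      associatedPrimes (X.presheaf.stalk y.1) (F.presheaf.stalk y.1)
    apply Module.associatedPrimes.mem_associatedPrimes_of_comap_mem_associatedPrimes_of_isLocalizedModule
      (hU.primeIdealOf y).asIdeal.primeCompl (germLinear F y)
    have h2 := IsLocalization.AtPrime.under_maximalIdeal (X.presheaf.stalk y.1)
      (hU.primeIdealOf y).asIdeal
    rw [Ideal.under_def] at h2
    rw [h2, hpy]
    exact hp
  have h3 := hc y.1 y.2 hass
  have h4 : IsUnit (X.presheaf.germ U y.1 y.2 c) := (Scheme.mem_basicOpen _ _ _ y.2).1 h3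
  rw [isUnit_germ_iff hU y c, hpy] at h4
  exact h4 hcp


open Groth.Agent.Lib.OXModTensor Groth.Agent.Lib.H4KoszulPn in
/-- A section of an invertible module which generates at all associated points of a coherent module `F`
is `F`-regular. -/
theorem mono_tensorModMap_of_assPoints [IsLocallyNoetherian X] {L : X.Modules} (hL : PicF.IsInvertible L)
    (τ : Coh.structureModule X ⟶ L) (F : X.Modules) (hF : Coh.IsCoh F)
    (h : ∀ x, Curv2.IsAssPoint F x → x ∈ CohB1.genLocus L τ) :
    Mono (tensorModMap (𝟙 F) τ) := by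
  obtain ⟨V, hxV, hVaff, ⟨A⟩⟩ := exists_atlas hL
  let ι := {p : X.Opens × X // IsAffineOpen p.1 ∧ p.1 ≤ V p.2}
  apply Groth.Agent.Lib.Conormal81.mono_of_injective_on_basis _ (fun c : ι => c.1.1)
  · intro O z hz
    obtain ⟨W, hW, hzW, hWle⟩ := Opens.isBasis_iff_nbhd.1 X.isBasis_affineOpens
      (show z ∈ O ⊓ V z from ⟨hz, hxV z⟩)
    exact ⟨⟨(W, z), hW, hWle.trans inf_le_right⟩, hzW, hWle.trans inf_le_left⟩
  · rintro ⟨⟨W, z⟩, hW, hWV⟩
    change Function.Injective ((tensorModMap (𝟙 F) τ).app W)
    change W ≤ V z at hWV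
    change IsAffineOpen W at hW
    have he : IsGen L W (rs L hWV (A.E z)) := (A.gen z).mono hWV
    obtain ⟨e, hee⟩ : ∃ e : Γ(L, W), e = rs L hWV (A.E z) := ⟨_, rfl⟩
    rw [← hee] at he
    obtain ⟨c, hcc⟩ : ∃ c : Γ(X, W), c = coord he le_rfl (rs L le_top (sec τ)) := ⟨_, rfl⟩
    have hc : c • e = rs L le_top (sec τ) := by
      have := coord_spec he le_rfl (rs L le_top (sec τ))
      rwa [rs_self, ← hcc] at this
    have hgl : CohB1.genLocus L τ ⊓ W = X.basicOpen c := by
      rw [hcc]; exact genLocus_inf_eq he τ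
    have b1 := tmul_gen_bijective F (isGen_one W) (le_refl W)
    have b2 := tmul_gen_bijective F he (le_refl W)
    have key : ∀ n : Γ(F, W), (tensorModMap (𝟙 F) τ).app W
        (tmul n (rs (Coh.structureModule X) le_rfl (toSec W 1))) = tmul (c • n) (rs L le_rfl e) := by
      intro n
      rw [tensorModMap_tmul, rs_self, rs_self, app_toSec, one_smul, ← hc, tmul_smul, smul_tmul]
      rfl
    intro q q' hqq
    obtain ⟨m, rfl⟩ := b1.2 q
    obtain ⟨m', rfl⟩ := b1.2 q'
    simp only at hqq
    rw [key, key] at hqq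
    have h5 : c • m = c • m' := b2.1 hqq
    have h6 : c • (m - m') = 0 := by rw [smul_sub, h5, sub_self]
    have h7 := eq_zero_of_smul_eq_zero F hF hW c
      (fun x hxW hx => by rw [← hgl]; exact ⟨h x hx, hxW⟩) _ h6
    rw [sub_eq_zero.1 h7]


lemma rs_sum' (F : X.Modules) {V W : X.Opens} (h : W ≤ V) {κ : Type*} (S : Finset κ) (z : κ → Γ(F, V)) :
    rs F h (∑ k ∈ S, z k) = ∑ k ∈ S, rs F h (z k) :=
  map_sum (F.presheaf.map (homOfLE h).op).hom z S

/-- **Avoidance**: `A` local with infinite residue field, `r : A → Γ(X, O_X)` a ring homomorphism, `L` invertible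
generated by finitely many global sections `σ i`. For every finite set `S` of points there is an `A`-linear
combination of the `σ i` generating `L` at all points of `S`. -/
theorem exists_comb_generating {A : Type u} [CommRing A] [IsLocalRing A]
    (hA : Infinite (IsLocalRing.ResidueField A)) (r : A →+* Γ(X, ⊤))
    {L : X.Modules} {N : ℕ} (σ : Fin (N + 1) → (Coh.structureModule X ⟶ L))
    (hgen : ∀ x : X, ∃ i, x ∈ CohB1.genLocus L (σ i)) (S : Finset X) :
    ∃ a : Fin (N + 1) → A, ∀ x ∈ S,
      x ∈ CohB1.genLocus L (ofSection (∑ i, r (a i) • sec (σ i))) := by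
  classical
  choose i₀ hi₀ using hgen
  -- the local coordinates
  let U : X → X.Opens := fun x => CohB1.genLocus L (σ (i₀ x))
  have he : ∀ x, IsGen L (U x) (rs L le_top (sec (σ (i₀ x)))) := fun x => isGen_genLocus (σ (i₀ x))
  let c : ∀ x : X, Fin (N + 1) → Γ(X, U x) := fun x i => coord (he x) le_rfl (rs L le_top (sec (σ i)))
  have hc : ∀ x i, c x i • rs L (le_top : U x ≤ ⊤) (sec (σ (i₀ x))) = rs L (le_top : U x ≤ ⊤) (sec (σ i)) := by
    intro x i
    have := coord_spec (he x) le_rfl (rs L le_top (sec (σ i)))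
    rwa [rs_self] at this
  have hc0 : ∀ x, c x (i₀ x) = 1 := by
    intro x
    have := coord_gen (he x) (le_refl (U x))
    rwa [rs_self] at this
  let g : ∀ x : X, (Fin (N + 1) → A) → Γ(X, U x) := fun x a => ∑ i, rf le_top (r (a i)) * c x i
  have hg : ∀ x a, CohB1.genLocus L (ofSection (∑ i, r (a i) • sec (σ i))) ⊓ U x = X.basicOpen (g x a) := by
    intro x a
    rw [genLocus_inf_eq (he x), sec_ofSection]
    congr 1
    symm
    apply coord_unique
    rw [rs_self, rs_sum', Finset.sum_smul]
    refine Finset.sum_congr rfl (fun i _ => ?_)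
    rw [mul_smul, hc, rs_smul]
  -- the bad submodules
  have g_add : ∀ x a b, g x (a + b) = g x a + g x b := by
    intro x a b
    change ∑ i, rf le_top (r ((a + b) i)) * c x i =
      ∑ i, rf le_top (r (a i)) * c x i + ∑ i, rf le_top (r (b i)) * c x i
    rw [← Finset.sum_add_distrib]
    refine Finset.sum_congr rfl (fun i _ => ?_)
    simp only [rf, Pi.add_apply, map_add, add_mul]
  have g_zero : ∀ x, g x 0 = 0 := by
    intro x
    change ∑ i, rf le_top (r ((0 : Fin (N + 1) → A) i)) * c x i = 0
    refine Finset.sum_eq_zero (fun i _ => ?_)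
    simp only [rf, Pi.zero_apply, map_zero, zero_mul]
  have g_smul : ∀ x (t : A) a, g x (t • a) = rf le_top (r t) * g x a := by
    intro x t a
    change ∑ i, rf le_top (r ((t • a) i)) * c x i = rf le_top (r t) * ∑ i, rf le_top (r (a i)) * c x i
    rw [Finset.mul_sum]
    refine Finset.sum_congr rfl (fun i _ => ?_)
    simp only [rf, Pi.smul_apply, smul_eq_mul, map_mul, mul_assoc]
  let M : X → Submodule A (Fin (N + 1) → A) := fun x =>
    { carrier := {a | X.presheaf.germ (U x) x (hi₀ x) (g x a) ∈
        IsLocalRing.maximalIdeal (X.presheaf.stalk x)}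
      add_mem' := by
        intro a b ha hb
        rw [Set.mem_ofPred_eq] at ha hb ⊢
        rw [g_add, map_add]
        exact Ideal.add_mem _ ha hb
      zero_mem' := by
        rw [Set.mem_ofPred_eq, g_zero, map_zero]
        exact Ideal.zero_mem _
      smul_mem' := by
        intro t a ha
        rw [Set.mem_ofPred_eq] at ha ⊢
        rw [g_smul, map_mul]
        exact Ideal.mul_mem_left _ _ ha }
  have hM : ∀ x ∈ S, M x ≠ ⊤ := by
    intro x _ htop
    have h1 : Pi.single (i₀ x) (1 : A) ∈ M x := by rw [htop]; trivial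
    have h2 : g x (Pi.single (i₀ x) (1 : A)) = 1 := by
      change ∑ i, rf le_top (r ((Pi.single (i₀ x) (1 : A) : Fin (N + 1) → A) i)) * c x i = 1
      rw [Finset.sum_eq_single (i₀ x)]
      · simp only [rf, Pi.single_eq_same, map_one, one_mul, hc0]
      · intro i _ hi
        simp only [rf, Pi.single_eq_of_ne hi, map_zero, zero_mul]
      · intro h; exact absurd (Finset.mem_univ _) h
    change X.presheaf.germ (U x) x (hi₀ x) (g x _) ∈ IsLocalRing.maximalIdeal (X.presheaf.stalk x) at h1
    rw [h2, map_one] at h1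
    exact (Ideal.ne_top_iff_one _).1 (IsLocalRing.maximalIdeal.isMaximal _).ne_top h1
  obtain ⟨a, ha⟩ := exists_forall_notMem hA S M hM
  refine ⟨a, fun x hx => ?_⟩
  have h1 : X.presheaf.germ (U x) x (hi₀ x) (g x a) ∉
      IsLocalRing.maximalIdeal (X.presheaf.stalk x) := ha x hx
  rw [IsLocalRing.notMem_maximalIdeal] at h1
  have h2 : x ∈ X.basicOpen (g x a) := (Scheme.mem_basicOpen _ _ _ (hi₀ x)).2 h1
  rw [← hg x a] at h2
  exact h2.1


open Groth.Agent.Lib.OXModTensor in
/-- **S15976** -/
theorem exists_regular_section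
    {A : Type u} [CommRing A] [IsNoetherianRing A] [IsLocalRing A]
    (hA : Infinite (IsLocalRing.ResidueField A))
    {V : Scheme.{u}} [IsNoetherian V] (f : V ⟶ Spec (CommRingCat.of A))
    (L : V.Modules) (hL : PicF.IsInvertible L)
    {N : ℕ} (σ : Fin (N + 1) → (Coh.structureModule V ⟶ L))
    (hgen : ∀ x : V, ∃ i, x ∈ CohB1.genLocus L (σ i))
    {m : ℕ} (F : Fin m → V.Modules) (hF : ∀ j, Coh.IsCoh (F j)) :
    ∃ (τ : Coh.structureModule V ⟶ L) (a : Fin (N + 1) → A),
      τ.val.app (op ⊤) (1 : V.ringCatSheaf.obj.obj (op ⊤)) =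
        ∑ i, f.appTop ((Scheme.ΓSpecIso (CommRingCat.of A)).inv (a i)) •
          (σ i).val.app (op ⊤) (1 : V.ringCatSheaf.obj.obj (op ⊤)) ∧
      ∀ j, Mono (((DCoh.tensorBi (X := V)).obj (F j)).map τ) := by
  classical
  let r : A →+* Γ(V, ⊤) := f.appTop.hom.comp (Scheme.ΓSpecIso (CommRingCat.of A)).inv.hom
  -- the finite set of associated points
  have hfin : ∀ j, {x : V | Curv2.IsAssPoint (F j) x}.Finite := by
    intro j
    have := Groth.Agent.S1576.result V (F j) (hF j) ⊤ (by
      change IsCompact (Set.univ : Set V); exact isCompact_univ)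
    refine this.subset (fun x hx => ⟨trivial, hx⟩)
  have hfin' : (⋃ j, {x : V | Curv2.IsAssPoint (F j) x}).Finite := Set.finite_iUnion hfin
  obtain ⟨a, ha⟩ := exists_comb_generating hA r σ hgen hfin'.toFinset
  refine ⟨ofSection (∑ i, r (a i) • sec (σ i)), a, ?_, fun j => ?_⟩
  · exact sec_ofSection (∑ i, r (a i) • sec (σ i))
  · have h1 := mono_tensorModMap_of_assPoints hL (ofSection (∑ i, r (a i) • sec (σ i))) (F j) (hF j)
      (fun x hx => ha x (hfin'.mem_toFinset.2 (Set.mem_iUnion.2 ⟨j, hx⟩)))
    have hnat := (Groth.Agent.Lib.TwistRegSES49.tensorBiObjIso (F j)).hom.naturality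
      (ofSection (∑ i, r (a i) • sec (σ i)))
    have h2 : ((DCoh.tensorBi (X := V)).obj (F j)).map (ofSection (∑ i, r (a i) • sec (σ i))) =
        tensorModMap (𝟙 (F j)) (ofSection (∑ i, r (a i) • sec (σ i))) := by
      rw [← tensorLeftFunctor_map]
      have e1 : (Groth.Agent.Lib.TwistRegSES49.tensorBiObjIso (F j)).hom.app L = 𝟙 _ := rfl
      have e2 : (Groth.Agent.Lib.TwistRegSES49.tensorBiObjIso (F j)).hom.app (Coh.structureModule V) = 𝟙 _ := rfl
      rw [e1, e2] at hnat
      exact (Category.comp_id _).symm.trans (hnat.trans (Category.id_comp _))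
    rw [h2]
    exact h1

end Groth.Agent.Lib.H78RegSec
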