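import Groth.Agent.Lib.H78RelAmpleComp
import Groth.Agent.Lib.ModPullback
import Groth.Agent.Lib.OXModRestrict
import Groth.Agent.Lib.H78RelAmple

/-!
# helper78: `L ⊗ f^*(K^n)` is `(f ≫ g)`-ample (namespace `Groth.Agent.Lib.H78RelAmpleComp`)

* `isRelAmple_morphismRestrict`: relative ampleness restricts to opens of the base.
* `restrictTensorPullbackPowIso`: `(L ⊗ f^*(K^n))|_{f⁻¹W} ≅ L|_{f⁻¹W} ⊗ (f|_W)^*((K|_W)^n)`.
* `isRelAmple_comp_tensor_pullback_pow` (= S2331, EGA II 4.6.13 (ii)).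
-/

set_option autoImplicit false
universe u
open CategoryTheory CategoryTheory.Limits AlgebraicGeometry MonoidalCategory Opposite TopologicalSpace
open Groth.Agent.Lib.H90Invertible Groth.Agent.Lib.H78Restrict

namespace Groth.Agent.Lib.H78RelAmpleComp

variable {X Y : Scheme.{u}} (f : X ⟶ Y)

/-- relative ampleness restricts to opens of the base -/
theorem isRelAmple_morphismRestrict [QuasiCompact f] {L : X.Modules} (h : RelAmple.IsRelAmple f L)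
    (W : Y.Opens) : RelAmple.IsRelAmple (f ∣_ W) (L.restrict (f ⁻¹ᵁ W).ι) := by
  have hpt : ∀ (p : ↥((f ⁻¹ᵁ W : X.Opens) : Scheme.{u})),
      W.ι ((f ∣_ W) p) = f ((f ⁻¹ᵁ W).ι p) := by
    intro p
    have := congrArg (fun φ : ((f ⁻¹ᵁ W : X.Opens) : Scheme.{u}) ⟶ Y => φ p) (morphismRestrict_ι f W)
    simpa using this
  refine ⟨inferInstance, fun V' => ?_⟩
  rw [Groth.Agent.Lib.H78RelAmple.isAmple_restrict_restrict_iff]
  haveI : CompactSpace ↥(((f ∣_ W) ⁻¹ᵁ V'.1 : Scheme.Opens _) : Scheme.{u}) :=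
    isCompact_iff_compactSpace.1
      (QuasiCompact.isCompact_preimage (f := f ∣_ W) _ V'.1.2 V'.2.isCompact)
  have hD : IsAffineOpen (W.ι ''ᵁ V'.1) := V'.2.image_of_isOpenImmersion _
  refine Groth.Agent.Lib.H78RelAmple.isAmple_restrict_of_range_subset _
    (f ⁻¹ᵁ (W.ι ''ᵁ V'.1)).ι ?_ (h.2 ⟨_, hD⟩)
  rintro _ ⟨p, rfl⟩
  rw [Scheme.Opens.range_ι]
  change f ((f ⁻¹ᵁ W).ι (((f ∣_ W) ⁻¹ᵁ V'.1).ι p)) ∈ W.ι ''ᵁ V'.1
  rw [← hpt]
  exact ⟨_, p.2, rfl⟩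

/-- `(L ⊗ f^*(K^n))|_{f⁻¹W} ≅ L|_{f⁻¹W} ⊗ (f|_W)^*((K|_W)^n)` -/
noncomputable def restrictTensorPullbackPowIso (L : X.Modules) (K : Y.Modules) (n : ℕ) (W : Y.Opens) :
    (CohB1.tensorMod L ((Scheme.Modules.pullback f).obj (CohB1.tensorPow K n))).restrict (f ⁻¹ᵁ W).ι ≅
      CohB1.tensorMod (L.restrict (f ⁻¹ᵁ W).ι)
        ((Scheme.Modules.pullback (f ∣_ W)).obj (CohB1.tensorPow (K.restrict W.ι) n)) :=
  Groth.Agent.Lib.OXModRestrict.restrictTensorIso (f ⁻¹ᵁ W).ι L _ ≪≫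
    H78AmpleUnit.tensorModIso (Iso.refl _)
      (Groth.Agent.Lib.ModPullback.restrictPullbackIso f W (CohB1.tensorPow K n) ≪≫
        (Scheme.Modules.pullback (f ∣_ W)).mapIso (restrictTensorPowIso W.ι K n))

/-- **EGA II 4.6.13 (ii)** (= S2331) -/
theorem isRelAmple_comp_tensor_pullback_pow {Z : Scheme.{u}} [CompactSpace Z] (g : Y ⟶ Z)
    [QuasiCompact f] [QuasiCompact g] {L : X.Modules} {K : Y.Modules}
    (hL : RelAmple.IsRelAmple f L) (hK : RelAmple.IsRelAmple g K) :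
    ∃ n₀ : ℕ, 0 < n₀ ∧ ∀ n, n₀ ≤ n →
      RelAmple.IsRelAmple (f ≫ g)
        (CohB1.tensorMod L ((Scheme.Modules.pullback f).obj (CohB1.tensorPow K n))) := by
  classical
  -- the bound over each affine open of `Z`
  have hloc : ∀ V : Z.affineOpens, ∃ n₀ : ℕ, ∀ n, n₀ ≤ n →
      CohB1.IsAmple ((CohB1.tensorMod L ((Scheme.Modules.pullback f).obj (CohB1.tensorPow K n))).restrict
        (f ⁻¹ᵁ (g ⁻¹ᵁ V.1)).ι) := by
    intro V
    obtain ⟨n₀, -, hn₀⟩ := isAmple_tensor_pullback_pow (f ∣_ (g ⁻¹ᵁ V.1)) (hK.2 V)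
      (isRelAmple_morphismRestrict f hL (g ⁻¹ᵁ V.1))
    exact ⟨n₀, fun n hn => H78AmpleUnit.isAmple_of_iso
      (restrictTensorPullbackPowIso f L K n (g ⁻¹ᵁ V.1)).symm (hn₀ n hn)⟩
  choose n₀ hn₀ using hloc
  -- a finite affine cover of `Z`
  obtain ⟨S, hS⟩ := isCompact_univ.elim_finite_subcover (fun V : Z.affineOpens => ((V.1 : Z.Opens) : Set Z))
    (fun V => V.1.2) (fun z _ => by
      have hz : z ∈ ⨆ V : Z.affineOpens, (V : Z.Opens) := by rw [iSup_affineOpens_eq_top]; trivial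
      obtain ⟨V, hV⟩ := Opens.mem_iSup.1 hz
      exact Set.mem_iUnion.2 ⟨V, hV⟩)
  refine ⟨S.sup n₀ + 1, Nat.succ_pos _, fun n hn => ?_⟩
  refine Groth.Agent.Lib.H78RelAmple.isRelAmple_of_local (f ≫ g) _
    {D : Z.Opens | IsAffineOpen D ∧ ∃ V ∈ S, D ≤ V.1} ?_ ?_
  · rintro D ⟨hD, V, hVS, hDV⟩
    haveI : CompactSpace ↥(((f ≫ g) ⁻¹ᵁ D : X.Opens) : Scheme.{u}) :=
      isCompact_iff_compactSpace.1 (QuasiCompact.isCompact_preimage (f := f ≫ g) _ D.2 hD.isCompact)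
    have h1 := hn₀ V n ((Finset.le_sup (f := n₀) hVS).trans (Nat.le_of_succ_le hn))
    refine Groth.Agent.Lib.H78RelAmple.isAmple_restrict_of_range_subset ((f ≫ g) ⁻¹ᵁ D).ι _ ?_ h1
    rw [Scheme.Opens.range_ι, Scheme.Opens.range_ι]
    intro x hx
    exact hDV hx
  · intro V hV z hzV
    obtain ⟨V', hV'S, hzV'⟩ := Set.mem_iUnion₂.1 (hS (Set.mem_univ z))
    obtain ⟨h', hle, hzh⟩ := hV.exists_basicOpen_le (V := V'.1) ⟨z, hzV'⟩ hzV
    exact ⟨h', hzh, hV.basicOpen h', V', hV'S, hle⟩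

end Groth.Agent.Lib.H78RelAmpleComp
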