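import Groth.Agent.S0032
import Groth.Agent.S11319
import Groth.Agent.Lib.RpushLinear

/-!
# Sections of `R^q f_* M` over basic opens of an affine base (helper10)

`f : X ⟶ S` quasi-compact quasi-separated, `S` affine, `M` quasi-coherent.
-/

set_option autoImplicit false
universe u

open CategoryTheory CategoryTheory.Limits AlgebraicGeometry TopologicalSpace Opposite

namespace Groth.Agent.Lib.RpushSections

open Groth.Agent.Lib Groth.Agent.Lib.RpushAffineBase Groth.Agent.Lib.CohLocPush
  Groth.Agent.Lib.LocMap Groth.Agent.Lib.CohLoc Groth.Agent.Lib.HUInst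

variable {X S : Scheme.{u}} (f : X ⟶ S) (M : X.Modules) (q : ℕ)

/-- the presheaf `V ↦ H^q(f⁻¹V, M)` on `S` -/
noncomputable abbrev P : (Opens S)ᵒᵖ ⥤ AddCommGrpCat.{u} := cohPre f q (Coh.toAb M)

/-- the unit `P ⟶ P^#` is bijective on basic opens -/
theorem bijective_toSheafify_P [QuasiCompact f] [QuasiSeparated f] [IsAffine S]
    (hM : Coh.IsQCoh M) (g : Γ(S, ⊤)) :
    Function.Bijective ((toSheafify (Opens.grothendieckTopology S) (P f M q)).app
      (op (S.basicOpen g))) := by
  let act := actP f q (Coh.toAb M) (Groth.Agent.S0032.actS f M)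
  let PM := ActPresheaf.modPresheaf (P f M q) act
  have hPM : LocPresheafAffine.IsLocalizing PM := fun g h =>
    ActPresheaf.isLocalizedModule_of_elementwise (P f M q) act _ h
      (Groth.Agent.S0032.locCond f M hM q g h).bij (Groth.Agent.S0032.locCond f M hM q g h).surj
      (Groth.Agent.S0032.locCond f M hM q g h).inj
  have hb := LocPresheafAffine.bijective_toSheafify_app_basicOpen hPM g
  let c := ActPresheaf.modPresheafForgetIso (P f M q) act
  have hn := toSheafify_naturality (Opens.grothendieckTopology S) c.hom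
  have hn' : c.hom.app (op (S.basicOpen g)) ≫
      (toSheafify (Opens.grothendieckTopology S) (P f M q)).app (op (S.basicOpen g)) =
      (toSheafify (Opens.grothendieckTopology S) _).app (op (S.basicOpen g)) ≫
        (sheafifyMap (Opens.grothendieckTopology S) c.hom).app (op (S.basicOpen g)) :=
    congrArg (fun φ => φ.app (op (S.basicOpen g))) hn
  have : IsIso (sheafifyMap (Opens.grothendieckTopology S) c.hom) := by
    have : IsIso ((presheafToSheaf (Opens.grothendieckTopology S) AddCommGrpCat.{u}).map c.hom) :=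
      inferInstance
    exact inferInstanceAs (IsIso ((sheafToPresheaf _ _).map
      ((presheafToSheaf (Opens.grothendieckTopology S) AddCommGrpCat.{u}).map c.hom)))
  have h1 : Function.Bijective (c.hom.app (op (S.basicOpen g)) ≫
      (toSheafify (Opens.grothendieckTopology S) (P f M q)).app (op (S.basicOpen g))) := by
    rw [hn']
    exact (ConcreteCategory.bijective_of_isIso
      ((sheafifyMap (Opens.grothendieckTopology S) c.hom).app (op (S.basicOpen g)))).comp hb
  exact (Function.Bijective.of_comp_iff _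
    (ConcreteCategory.bijective_of_isIso (c.hom.app (op (S.basicOpen g))))).1 h1

/-- the module `R^q f_* M` -/
noncomputable abbrev N [HasInjectiveResolutions X.Modules] : S.Modules := (Coh.Rpush f q).obj M

/-- the endomorphism of `P` induced by a global function of `S` -/
noncomputable abbrev actP' (r : Γ(S, ⊤)) : P f M q ⟶ P f M q :=
  (cohPreFunctor f q).map (Coh.smulAb M (CohLocPush.pullFn f r))

/-- `toAb (R^q f_* M) ≅ P^#`, compatibly with the action of global functions of `S` -/
theorem exists_iso_sheafify [HasInjectiveResolutions X.Modules] :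
    ∃ Ψ : Coh.toAb (N f M q) ≅
        (presheafToSheaf (Opens.grothendieckTopology S) AddCommGrpCat.{u}).obj (P f M q),
      ∀ r : Γ(S, ⊤), Coh.smulAb (N f M q) r ≫ Ψ.hom =
        Ψ.hom ≫ (presheafToSheaf (Opens.grothendieckTopology S) AddCommGrpCat.{u}).map
          (actP' f M q r) := by
  obtain ⟨i, -⟩ := Groth.Agent.Lib.DeltaIso.nonempty_iso_of_isUniversal
    (Groth.Agent.S11319.T1 f) (Groth.Agent.S11319.T2 f)
    (Groth.Agent.Lib.DeltaUniv.isUniversal_of_isEffaceable _ (Groth.Agent.S11319.T1_eff f))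
    (Groth.Agent.Lib.DeltaUniv.isUniversal_of_isEffaceable _ (Groth.Agent.S11319.T2_eff f))
    (Groth.Agent.S11319.e0 f)
  obtain ⟨e⟩ := CohPresheafDerived.nonempty_Rpush_natIso (Opens.grothendieckTopology X)
    (Opens.grothendieckTopology S) (Opens.map f.base) q
  let Ψ₁ : Coh.toAb (N f M q) ≅ (Coh.RpushAb f q).obj (Coh.toAb M) :=
    ⟨(i.hom.app q).app M, (i.inv.app q).app M,
      congrArg (fun φ : Groth.Agent.S11319.T1 f ⟶ Groth.Agent.S11319.T1 f => (φ.app q).app M)
        i.hom_inv_id,
      congrArg (fun φ : Groth.Agent.S11319.T2 f ⟶ Groth.Agent.S11319.T2 f => (φ.app q).app M)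
        i.inv_hom_id⟩
  let Ψ₂ : (Coh.RpushAb f q).obj (Coh.toAb M) ≅
      (presheafToSheaf (Opens.grothendieckTopology S) AddCommGrpCat.{u}).obj (P f M q) :=
    e.app (Coh.toAb M)
  refine ⟨Ψ₁ ≪≫ Ψ₂, fun r => ?_⟩
  have h1 : Coh.smulAb (N f M q) r =
      ((Groth.Agent.S11319.T1 f).F q).map (RpushLinear.mulHom M (RpushLinear.pullFn f r)) :=
    (RpushLinear.toAb_Rpush_map_mulHom f M r q).symm
  have h2 := (i.hom.app q).naturality (RpushLinear.mulHom M (RpushLinear.pullFn f r))
  have h3 := e.hom.naturality (Coh.smulAb M (CohLocPush.pullFn f r))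
  rw [h1, Iso.trans_hom, ← Category.assoc]
  change (((Groth.Agent.S11319.T1 f).F q).map _ ≫ (i.hom.app q).app M) ≫ e.hom.app _ = _
  rw [h2, Category.assoc, Category.assoc]
  exact congrArg (fun φ => (i.hom.app q).app M ≫ φ) h3

/-- **Sections of `R^q f_* M` over basic opens of an affine base** are the cohomology groups
`H^q(f⁻¹ D(g), M)`, compatibly with restrictions and with the action of global functions.
(Indexed by the opens `D` of the form `S.basicOpen g`; `⊤` is one of them.) -/
theorem exists_sections_equiv [HasInjectiveResolutions X.Modules] [QuasiCompact f]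
    [QuasiSeparated f] [IsAffine S] (hM : Coh.IsQCoh M) :
    ∃ Θ : ∀ D : Opens S, D ∈ Set.range (S.basicOpen : Γ(S, ⊤) → Opens S) →
        ((Coh.toAb (N f M q)).obj.obj (op D) ≃+ CohTop.HU (Coh.toAb M) q (f ⁻¹ᵁ D)),
      (∀ (D D' : Opens S) (hD : D ∈ Set.range (S.basicOpen : Γ(S, ⊤) → Opens S))
        (hD' : D' ∈ Set.range (S.basicOpen : Γ(S, ⊤) → Opens S)) (h : D' ≤ D)
        (t : (Coh.toAb (N f M q)).obj.obj (op D)),
        Θ D' hD' ((Coh.toAb (N f M q)).obj.map (homOfLE h).op t) =
          resH (Coh.toAb M) q (f.preimage_mono h) (Θ D hD t)) ∧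
      (∀ (D : Opens S) (hD : D ∈ Set.range (S.basicOpen : Γ(S, ⊤) → Opens S)) (r : Γ(S, ⊤))
        (t : (Coh.toAb (N f M q)).obj.obj (op D)),
        Θ D hD ((Coh.smulAb (N f M q) r).hom.app (op D) t) =
          gact M (CohLocPush.pullFn f r) q (f ⁻¹ᵁ D) (Θ D hD t)) := by
  obtain ⟨Ψ, hΨ⟩ := exists_iso_sheafify f M q
  let J := Opens.grothendieckTopology S
  let η := toSheafify J (P f M q)
  have hη : ∀ D : Opens S, D ∈ Set.range (S.basicOpen : Γ(S, ⊤) → Opens S) →
      Function.Bijective (η.app (op D)) := by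
    rintro _ ⟨g, rfl⟩
    exact bijective_toSheafify_P f M q hM g
  let ΨD : ∀ D : Opens S, (Coh.toAb (N f M q)).obj.obj (op D) ≃+
      (sheafify J (P f M q)).obj (op D) := fun D =>
    (((sheafToPresheaf J AddCommGrpCat.{u} ⋙
      (evaluation (Opens S)ᵒᵖ AddCommGrpCat.{u}).obj (op D)).mapIso
        Ψ).addCommGroupIsoToAddEquiv)
  let ηD : ∀ D : Opens S, D ∈ Set.range (S.basicOpen : Γ(S, ⊤) → Opens S) →
      ((P f M q).obj (op D) ≃+ (sheafify J (P f M q)).obj (op D)) := fun D hD =>
    AddEquiv.ofBijective (η.app (op D)).hom (hη D hD)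
  have hΨD : ∀ D t, ΨD D t = Ψ.hom.hom.app (op D) t := fun D t => rfl
  have hηD : ∀ D hD x, ηD D hD x = η.app (op D) x := fun D hD x => rfl
  refine ⟨fun D hD => (ΨD D).trans (ηD D hD).symm, ?_, ?_⟩
  · intro D D' hD hD' h t
    apply (ηD D' hD').injective
    change ηD D' hD' ((ηD D' hD').symm (ΨD D' _)) =
      ηD D' hD' ((P f M q).map (homOfLE h).op ((ηD D hD).symm (ΨD D t)))
    rw [AddEquiv.apply_symm_apply, hηD D' hD', hΨD]
    have h1 := congr($(η.naturality (homOfLE h).op) ((ηD D hD).symm (ΨD D t)))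
    have h2 := congr($(Ψ.hom.hom.naturality (homOfLE h).op) t)
    refine h2.trans ?_
    refine Eq.trans ?_ h1.symm
    change (sheafify J (P f M q)).map (homOfLE h).op (Ψ.hom.hom.app (op D) t) =
      (sheafify J (P f M q)).map (homOfLE h).op (η.app (op D) ((ηD D hD).symm (ΨD D t)))
    rw [← hηD D hD, AddEquiv.apply_symm_apply, hΨD]
  · intro D hD r t
    apply (ηD D hD).injective
    change ηD D hD ((ηD D hD).symm (ΨD D _)) =
      ηD D hD ((actP' f M q r).app (op D) ((ηD D hD).symm (ΨD D t)))
    rw [AddEquiv.apply_symm_apply, hηD D hD, hΨD]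
    have h1 := congr($(toSheafify_naturality J (actP' f M q r)).app (op D)
      ((ηD D hD).symm (ΨD D t)))
    have h2 := congr($(hΨ r).hom.app (op D) t)
    refine h2.trans ?_
    refine Eq.trans ?_ h1.symm
    change (sheafifyMap J (actP' f M q r)).app (op D) (Ψ.hom.hom.app (op D) t) =
      (sheafifyMap J (actP' f M q r)).app (op D) (η.app (op D) ((ηD D hD).symm (ΨD D t)))
    rw [← hηD D hD, AddEquiv.apply_symm_apply, hΨD]

end Groth.Agent.Lib.RpushSections
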