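import Groth.Agent.Lib.H78Contract
import Groth.Agent.Lib.H78SecTwist
import Groth.Agent.Lib.ModStalkIso
import Groth.Agent.Lib.CohFinite
import Groth.Prelude.Def_KSix

/-!
# helper78: quotients by negative twists from an "ample family" of sections
(namespace `Groth.Agent.Lib.H78Resolve`)

* `exists_finite_contractions`: `X` quasi-compact quasi-separated, `F` quasi-coherent of finite type, and for
  every point `x` an invertible `Q x` with a section `s x` such that `X_{s x}` is affine and contains `x`.  Then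
  there are finitely many morphisms `Φ p : (Q (pt p)^{⊗ n p})^∨ ⟶ F` (`n p > 0`) whose stalk images span every
  stalk of `F`.
* `epi_desc_of_stalk_span`: a morphism out of a finite biproduct whose components span the stalks is epi.
-/

set_option autoImplicit false
universe u
open CategoryTheory CategoryTheory.Limits AlgebraicGeometry MonoidalCategory Opposite TopologicalSpace
open Groth.Agent.Lib.H90Invertible Groth.Agent.Lib.StructureModule Groth.Agent.Lib.H78TensorGen
open Groth.Agent.Lib.H4TensorPair Groth.Agent.Lib.H78Dual Groth.Agent.Lib.H78Contract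
open Groth.Agent.Lib.H78SecCoord Groth.Agent.Lib.H78KeyLemma Groth.Agent.Lib.H78SecTwist
open Groth.Agent.Lib.ModStalkLin

namespace Groth.Agent.Lib.H78Resolve

variable {X : Scheme.{u}}

theorem exists_finite_contractions [CompactSpace X] [QuasiSeparatedSpace X] (F : X.Modules)
    (hF : Coh.IsCoh F) (Q : X → X.Modules) (hQ : ∀ x, PicF.IsInvertible (Q x))
    (s : ∀ x, Coh.structureModule X ⟶ Q x) (hx : ∀ x, x ∈ CohB1.genLocus _ (s x))
    (haff : ∀ x, IsAffineOpen (CohB1.genLocus _ (s x))) :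
    ∃ (J : Type u) (_ : Finite J) (pt : J → X) (n : J → ℕ)
      (Φ : ∀ p, RefHull.dual (CohB1.tensorPow (Q (pt p)) (n p)) ⟶ F),
      (∀ p, 0 < n p) ∧ ∀ y : X, ⨆ p, LinearMap.range (stalkLin (Φ p) y) = ⊤ := by
  haveI : F.IsQuasicoherent := hF.1
  haveI : F.IsFiniteType := hF.2
  have hQc : QcLike F := qcLike_of_isQuasicoherent F
  obtain ⟨t, ht⟩ := isCompact_univ.elim_finite_subcover (fun y => (CohB1.genLocus _ (s y) : Set X))
    (fun y => (CohB1.genLocus _ (s y)).2) (fun x _ => Set.mem_iUnion.2 ⟨x, hx x⟩)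
  have h2 : ∀ x : X, ∃ (I : Type u) (_ : Finite I) (τ : I → Γ(F, CohB1.genLocus _ (s x))),
      ∀ (z : X) (hz : z ∈ CohB1.genLocus _ (s x)), Submodule.span (X.presheaf.stalk z)
          (Set.range fun k => F.presheaf.germ _ z hz (τ k)) = ⊤ :=
    fun x => Groth.Agent.Lib.CohFinite.exists_sections_span_stalk_affine F (haff x)
  choose I hI τ hτ using h2
  have h3 : ∀ (x : X) (k : I x), ∃ n : ℕ, 0 < n ∧
      ∃ Φ : RefHull.dual (CohB1.tensorPow (Q x) n) ⟶ F,
        ∃ δ : Γ(RefHull.dual (CohB1.tensorPow (Q x) n), CohB1.genLocus _ (s x)),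
          Φ.app _ δ = τ x k := by
    intro x k
    obtain ⟨n, hn, ξ, hξ⟩ := exists_twist_ext (hQ x) (s x) hQc (τ x k)
    rw [twist_eq] at hξ
    obtain ⟨Φ, hΦ⟩ := exists_contraction (isInvertible_tensorPow (hQ x) n) F ξ
    have hgen : IsGen (CohB1.tensorPow (Q x) n) (CohB1.genLocus _ (s x))
        (epow (rs (Q x) (le_top : CohB1.genLocus _ (s x) ≤ ⊤) (sec (s x))) n) :=
      isGen_epow (isGen_genLocus (s x)) n
    obtain ⟨δ, hδ⟩ := contraction_surj hgen (hΦ _ _ hgen (τ x k) hξ.symm)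
    exact ⟨n, hn, Φ, δ, hδ⟩
  choose n hn Φ δ hδ using h3
  refine ⟨Σ x : t, I x.1, ?_, fun p => p.1.1, fun p => n p.1.1 p.2, fun p => Φ p.1.1 p.2,
    fun p => hn _ _, fun y => ?_⟩
  · haveI : ∀ x : t, Finite (I x.1) := fun x => hI x.1
    infer_instance
  · obtain ⟨x, hxt, hyx⟩ := Set.mem_iUnion₂.1 (ht (Set.mem_univ y))
    have hyx' : y ∈ CohB1.genLocus _ (s x) := hyx
    rw [eq_top_iff, ← hτ x y hyx', Submodule.span_le]
    rintro _ ⟨k, rfl⟩
    refine Submodule.mem_iSup_of_mem (⟨⟨x, hxt⟩, k⟩ : Σ x : t, I x.1) ?_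
    refine ⟨(RefHull.dual (CohB1.tensorPow (Q x) (n x k))).presheaf.germ _ y hyx' (δ x k), ?_⟩
    rw [stalkLin_germ, hδ]

/-- a morphism out of a finite biproduct whose components span all stalks is an epimorphism -/
theorem epi_desc_of_stalk_span {F : X.Modules} {k : ℕ} (N : Fin k → X.Modules) (Φ : ∀ j, N j ⟶ F)
    (h : ∀ y : X, ⨆ j, LinearMap.range (stalkLin (Φ j) y) = ⊤) :
    Epi (biproduct.desc Φ) := by
  refine Groth.Agent.Lib.ModStalkIso.epi_of_stalk_surjective _ (fun y => ?_)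
  have h1 : LinearMap.range (stalkLin (biproduct.desc Φ) y) = ⊤ := by
    rw [eq_top_iff, ← h y]
    refine iSup_le (fun j => ?_)
    have h2 : Φ j = biproduct.ι N j ≫ biproduct.desc Φ := (biproduct.ι_desc Φ j).symm
    rw [h2, stalkLin_comp]
    exact LinearMap.range_comp_le_range _ _
  exact LinearMap.range_eq_top.1 h1

end Groth.Agent.Lib.H78Resolve
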