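import Mathlib

/-!
# A covering criterion for separatedness

`isSeparated_of_cover`: a morphism `f : X ⟶ S` to an affine scheme is separated as soon as `X` has a cover
by affine opens `U i` whose pairwise intersections are affine, and such that the functions on
`U i ⊓ U j` are generated, as a ring, by the restrictions of the functions on `U i` and on `U j`.
-/

open AlgebraicGeometry CategoryTheory Limits TopologicalSpace

namespace Groth.Agent.Lib.H78SepCover

universe u

variable {X S : Scheme.{u}}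

/-- the morphism `U ∩ V ⟶ U ×_S V` is a closed immersion when `S, U, V, U ∩ V` are affine and the functions
on `U ∩ V` are generated by those of `U` and `V` -/
theorem isClosedImmersion_inf_lift [IsAffine S] (f : X ⟶ S) {U V : X.Opens} (hU : IsAffineOpen U)
    (hV : IsAffineOpen V) (hUV : IsAffineOpen (U ⊓ V))
    (hgen : ∀ z : Γ(X, U ⊓ V), z ∈ Subring.closure
      (Set.range (X.presheaf.map (homOfLE (inf_le_left : U ⊓ V ≤ U)).op).hom ∪
        Set.range (X.presheaf.map (homOfLE (inf_le_right : U ⊓ V ≤ V)).op).hom))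
    (h : (U ⊓ V : X.Opens).toScheme ⟶ pullback (U.ι ≫ f) (V.ι ≫ f))
    (h1 : h ≫ pullback.fst _ _ = X.homOfLE inf_le_left) (h2 : h ≫ pullback.snd _ _ = X.homOfLE inf_le_right) :
    IsClosedImmersion h := by
  haveI : IsAffine (U : Scheme.{u}) := hU
  haveI : IsAffine (V : Scheme.{u}) := hV
  haveI : IsAffine ((U ⊓ V : X.Opens) : Scheme.{u}) := hUV
  apply IsClosedImmersion.of_surjective_of_isAffine
  let R : Subring Γ(((U ⊓ V : X.Opens) : Scheme.{u}), ⊤) := (h.appTop.hom).range
  have key : Subring.closure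
      (Set.range (X.presheaf.map (homOfLE (inf_le_left : U ⊓ V ≤ U)).op).hom ∪
        Set.range (X.presheaf.map (homOfLE (inf_le_right : U ⊓ V ≤ V)).op).hom) ≤
      R.comap (U ⊓ V).topIso.inv.hom := by
    rw [Subring.closure_le]
    rintro _ (⟨b, rfl⟩ | ⟨b, rfl⟩)
    · refine ⟨(pullback.fst (U.ι ≫ f) (V.ι ≫ f)).appTop (U.topIso.inv b), ?_⟩
      have e1 : (pullback.fst (U.ι ≫ f) (V.ι ≫ f)).appTop ≫ h.appTop = (X.homOfLE inf_le_left).appTop := by
        rw [← Scheme.Hom.comp_appTop, h1]
      have e2 := congrArg (fun φ => φ (U.topIso.inv b)) (congrArg (fun φ => φ.hom) e1)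
      refine e2.trans ?_
      have e3 : U.topIso.inv ≫ (X.homOfLE (inf_le_left : U ⊓ V ≤ U)).appTop =
          X.presheaf.map (homOfLE (inf_le_left : U ⊓ V ≤ U)).op ≫ (U ⊓ V).topIso.inv := by
        rw [Scheme.homOfLE_appTop]
        simp only [Scheme.Opens.topIso_inv]
        erw [← Functor.map_comp, ← Functor.map_comp]
        rfl
      exact congrArg (fun φ => φ.hom b) e3
    · refine ⟨(pullback.snd (U.ι ≫ f) (V.ι ≫ f)).appTop (V.topIso.inv b), ?_⟩
      have e1 : (pullback.snd (U.ι ≫ f) (V.ι ≫ f)).appTop ≫ h.appTop = (X.homOfLE inf_le_right).appTop := by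
        rw [← Scheme.Hom.comp_appTop, h2]
      have e2 := congrArg (fun φ => φ (V.topIso.inv b)) (congrArg (fun φ => φ.hom) e1)
      refine e2.trans ?_
      have e3 : V.topIso.inv ≫ (X.homOfLE (inf_le_right : U ⊓ V ≤ V)).appTop =
          X.presheaf.map (homOfLE (inf_le_right : U ⊓ V ≤ V)).op ≫ (U ⊓ V).topIso.inv := by
        rw [Scheme.homOfLE_appTop]
        simp only [Scheme.Opens.topIso_inv]
        erw [← Functor.map_comp, ← Functor.map_comp]
        rfl
      exact congrArg (fun φ => φ.hom b) e3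
  intro z
  obtain ⟨a, ha⟩ := key (hgen ((U ⊓ V).topIso.hom z))
  refine ⟨a, ha.trans ?_⟩
  exact congrArg (fun φ => φ.hom z) (U ⊓ V).topIso.hom_inv_id

/-- **covering criterion for separatedness** over an affine base -/
theorem isSeparated_of_cover [IsAffine S] (f : X ⟶ S) {ι : Type*} (U : ι → X.Opens) (hU : IsOpenCover U)
    (hA : ∀ i, IsAffineOpen (U i)) (hAA : ∀ i j, IsAffineOpen (U i ⊓ U j))
    (hgen : ∀ i j, ∀ z : Γ(X, U i ⊓ U j), z ∈ Subring.closure
      (Set.range (X.presheaf.map (homOfLE (inf_le_left : U i ⊓ U j ≤ U i)).op).hom ∪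
        Set.range (X.presheaf.map (homOfLE (inf_le_right : U i ⊓ U j ≤ U j)).op).hom)) :
    IsSeparated f := by
  let 𝒰 := X.openCoverOfIsOpenCover U hU
  refine ⟨IsZariskiLocalAtTarget.of_openCover (Scheme.Pullback.openCoverOfLeftRight 𝒰 𝒰 f f) ?_⟩
  intro (ij : ι × ι)
  obtain ⟨i, j⟩ := ij
  dsimp [Scheme.Cover.pullbackHom]
  refine (MorphismProperty.cancel_left_of_respectsIso (P := @IsClosedImmersion)
    (f := (pullbackDiagonalMapIdIso (U i).ι (U j).ι f).inv) _).mp ?_
  have hpb := IsOpenImmersion.isPullback (X.homOfLE inf_le_left) (X.homOfLE inf_le_right)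
    (U i).ι (U j).ι (by simp) (by ext; simp)
  refine (MorphismProperty.cancel_left_of_respectsIso (P := @IsClosedImmersion)
    hpb.isoPullback.hom _).mp ?_
  refine isClosedImmersion_inf_lift f (hA i) (hA j) (hAA i j) (hgen i j) _ ?_ ?_
  · erw [Category.assoc, Category.assoc, pullbackDiagonalMapIdIso_inv_snd_fst]
    exact hpb.isoPullback_hom_fst
  · erw [Category.assoc, Category.assoc, pullbackDiagonalMapIdIso_inv_snd_snd]
    exact hpb.isoPullback_hom_snd

end Groth.Agent.Lib.H78SepCover
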