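/-
Grothendieck topology on `Over S` generated affine-locally by finite families whose coproduct lies in a
class `C` of morphisms (helper79).
-/
import Mathlib
set_option autoImplicit false
universe u
open CategoryTheory CategoryTheory.Limits AlgebraicGeometry

namespace Groth.Agent.Lib.H79ClassTop

variable {S : Scheme.{u}} (C : MorphismProperty Scheme.{u})

/-- affine-local finite `C`-covering data for a sieve -/
def Cov (X : Over S) (R : Sieve X) : Prop :=
  ∃ (ι : Type u) (U : ι → X.left.Opens), (∀ i, IsAffineOpen (U i)) ∧ ⨆ i, U i = ⊤ ∧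
    ∀ i, ∃ (κ : Type u) (_ : Finite κ) (V : κ → Over S) (φ : ∀ j, V j ⟶ X)
      (ψ : ∀ j, (V j).left ⟶ (U i : Scheme.{u})),
      (∀ j, IsAffine (V j).left) ∧ (∀ j, R.arrows (φ j)) ∧ (∀ j, ψ j ≫ (U i).ι = (φ j).left) ∧
        C (Limits.Sigma.desc ψ)

variable [C.IsStableUnderComposition] [C.IsStableUnderBaseChange]

theorem sigma_comp
    (hcoprod : ∀ (κ : Type u) [Finite κ] (A B : κ → Scheme.{u}) (f : ∀ j, A j ⟶ B j),
      (∀ j, C (f j)) → C (Limits.Sigma.map f))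
    {U : Scheme.{u}} {κ : Type u} [Finite κ] (V : κ → Scheme.{u}) (ψ : ∀ j, V j ⟶ U)
    (hψ : C (Limits.Sigma.desc ψ)) (l : κ → Type u) [∀ j, Finite (l j)]
    (W : ∀ j, l j → Scheme.{u}) (χ : ∀ j (a : l j), W j a ⟶ V j)
    (hχ : ∀ j, C (Limits.Sigma.desc (χ j))) :
    C (Limits.Sigma.desc (fun p : Σ j, l j => χ p.1 p.2 ≫ ψ p.1)) := by
  have h1 : C (Limits.Sigma.map (fun j => Limits.Sigma.desc (χ j))) := hcoprod κ _ _ _ hχ
  have h2 : C (Limits.Sigma.map (fun j => Limits.Sigma.desc (χ j)) ≫ Limits.Sigma.desc ψ) := C.comp_mem _ _ h1 hψ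
  have heq : Limits.Sigma.desc (fun p : Σ j, l j => χ p.1 p.2 ≫ ψ p.1) =
      (sigmaSigmaIso l W).inv ≫ Limits.Sigma.map (fun j => Limits.Sigma.desc (χ j)) ≫ Limits.Sigma.desc ψ := by
    apply Limits.Sigma.hom_ext
    rintro ⟨j, a⟩
    simp
  rw [heq]
  exact (C.cancel_left_of_respectsIso (sigmaSigmaIso l W).inv _).mpr h2


section
variable
    (hcoprod : ∀ (κ : Type u) [Finite κ] (A B : κ → Scheme.{u}) (f : ∀ j, A j ⟶ B j),
      (∀ j, C (f j)) → C (Limits.Sigma.map f))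
    (haff : ∀ (U : Scheme.{u}) [IsAffine U] (κ : Type u) [Finite κ] (V : κ → U.Opens),
      (∀ j, IsAffineOpen (V j)) → ⨆ j, V j = ⊤ → C (Limits.Sigma.desc fun j => (V j).ι))

include haff in
theorem cov_top (X : Over S) : Cov C X ⊤ := by
  refine ⟨X.left.affineOpens, fun U => (U : X.left.Opens), fun U => U.2, ?_, fun U => ?_⟩
  · rw [eq_top_iff]
    intro x _
    obtain ⟨U, hU, hxU, -⟩ :=
      exists_isAffineOpen_mem_and_subset (X := X.left) (x := x) (U := ⊤) trivial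
    exact TopologicalSpace.Opens.mem_iSup.mpr ⟨⟨U, hU⟩, hxU⟩
  · have hUaff : IsAffine ((U : X.left.Opens) : Scheme.{u}) := U.2
    let T : ((U : X.left.Opens) : Scheme.{u}).Opens := ⊤
    refine ⟨PUnit.{u+1}, inferInstance,
      fun _ => Over.mk (T.ι ≫ (U : X.left.Opens).ι ≫ X.hom),
      fun _ => Over.homMk (T.ι ≫ (U : X.left.Opens).ι) (by simp), fun _ => T.ι, fun _ => ?_,
      fun _ => trivial, fun _ => rfl, ?_⟩
    · show IsAffine (T : Scheme.{u})
      exact isAffineOpen_top _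
    · exact haff _ PUnit.{u+1} (fun _ => T) (fun _ => isAffineOpen_top _) (by simp [T])

include haff in
theorem cov_pullback {X Y : Over S} (f : Y ⟶ X) (R : Sieve X) (hR : Cov C X R) :
    Cov C Y (R.pullback f) := by
  obtain ⟨ι, U, hUaff, hUcov, hdata⟩ := hR
  choose κ hκ V φ ψ hVaff hRφ hψφ hCψ using hdata
  refine ⟨Σ i : ι, {W : Y.left.Opens // IsAffineOpen W ∧ W ≤ f.left ⁻¹ᵁ U i},
    fun p => p.2.1, fun p => p.2.2.1, ?_, ?_⟩
  · rw [eq_top_iff]
    intro y _
    have hy : f.left y ∈ (⨆ i, U i : X.left.Opens) := by rw [hUcov]; trivial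
    obtain ⟨i, hi⟩ := TopologicalSpace.Opens.mem_iSup.mp hy
    obtain ⟨W, hW, hyW, hle⟩ :=
      exists_isAffineOpen_mem_and_subset (X := Y.left) (x := y) (U := f.left ⁻¹ᵁ U i) hi
    exact TopologicalSpace.Opens.mem_iSup.mpr ⟨⟨i, W, hW, hle⟩, hyW⟩
  · rintro ⟨i, W, hW, hle⟩
    have hfin : Finite (κ i) := hκ i
    have hUi : IsAffine ((U i : X.left.Opens) : Scheme.{u}) := hUaff i
    have hWa : IsAffine ((W : Y.left.Opens) : Scheme.{u}) := hW
    have hVa : ∀ j, IsAffine (V i j).left := hVaff i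
    let w : (W : Scheme.{u}) ⟶ (U i : Scheme.{u}) := f.left.resLE (U i) W hle
    have hw : w ≫ (U i).ι = W.ι ≫ f.left := Scheme.Hom.resLE_comp_ι _ _
    let Q : Scheme.{u} := ∐ fun j => (V i j).left
    let d : Q ⟶ (U i : Scheme.{u}) := Limits.Sigma.desc (ψ i)
    let P : Scheme.{u} := pullback d w
    let fst : P ⟶ Q := pullback.fst d w
    let snd : P ⟶ (W : Scheme.{u}) := pullback.snd d w
    have hsnd : C snd := C.pullback_snd _ _ (hCψ i)
    have hPaff : IsAffine P := inferInstanceAs (IsAffine (pullback d w))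
    have hfstaff : IsAffineHom fst := inferInstanceAs (IsAffineHom (pullback.fst d w))
    let Pj : κ i → P.Opens := fun j =>
      fst ⁻¹ᵁ (Limits.Sigma.ι (fun j => (V i j).left) j).opensRange
    have hPjaff : ∀ j, IsAffineOpen (Pj j) := fun j =>
      (isAffineOpen_opensRange (Limits.Sigma.ι (fun j => (V i j).left) j)).preimage fst
    have hPjcov : ⨆ j, Pj j = ⊤ := by
      rw [eq_top_iff]
      intro x _
      obtain ⟨j, y, hy⟩ := (sigmaOpenCover (fun j => (V i j).left)).exists_eq (fst x)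
      exact TopologicalSpace.Opens.mem_iSup.mpr ⟨j, ⟨y, hy⟩⟩
    have hC1 : C (Limits.Sigma.desc fun j => (Pj j).ι) := haff P (κ i) Pj hPjaff hPjcov
    have hC2 : C (Limits.Sigma.desc fun j => (Pj j).ι ≫ snd) := by
      have : (Limits.Sigma.desc fun j => (Pj j).ι ≫ snd) =
          (Limits.Sigma.desc fun j => (Pj j).ι) ≫ snd := by
        apply Limits.Sigma.hom_ext
        intro j
        simp
      rw [this]
      exact C.comp_mem _ _ hC1 hsnd
    -- the lifts to the `V i j`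
    have hrange : ∀ j, Set.range ((Pj j).ι ≫ fst) ⊆
        Set.range (Limits.Sigma.ι (fun j => (V i j).left) j) := by
      rintro j _ ⟨x, rfl⟩
      exact x.2
    let q : ∀ j, ((Pj j : P.Opens) : Scheme.{u}) ⟶ (V i j).left := fun j =>
      IsOpenImmersion.lift (Limits.Sigma.ι (fun j => (V i j).left) j) ((Pj j).ι ≫ fst) (hrange j)
    have hq : ∀ j, q j ≫ Limits.Sigma.ι (fun j => (V i j).left) j = (Pj j).ι ≫ fst := fun j =>
      IsOpenImmersion.lift_fac _ _ _
    have hqψ : ∀ j, q j ≫ ψ i j = (Pj j).ι ≫ snd ≫ w := by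
      intro j
      have h1 : Limits.Sigma.ι (fun j => (V i j).left) j ≫ d = ψ i j := Limits.Sigma.ι_desc _ _
      rw [← h1, ← Category.assoc, hq, Category.assoc]
      congr 1
      exact pullback.condition
    have hqφ : ∀ j, q j ≫ (φ i j).left = ((Pj j).ι ≫ snd ≫ W.ι) ≫ f.left := by
      intro j
      rw [← hψφ i j, ← Category.assoc, hqψ]
      simp only [Category.assoc]
      rw [hw]
    let V' : κ i → Over S := fun j => Over.mk ((Pj j).ι ≫ snd ≫ W.ι ≫ Y.hom)
    let φ' : ∀ j, V' j ⟶ Y := fun j => Over.homMk ((Pj j).ι ≫ snd ≫ W.ι) (by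
      show ((Pj j).ι ≫ snd ≫ W.ι) ≫ Y.hom = (Pj j).ι ≫ snd ≫ W.ι ≫ Y.hom
      simp only [Category.assoc])
    let ψ' : ∀ j, (V' j).left ⟶ (W : Scheme.{u}) := fun j => (Pj j).ι ≫ snd
    have hV'aff : ∀ j, IsAffine (V' j).left := fun j => hPjaff j
    have hψ'φ' : ∀ j, ψ' j ≫ W.ι = (φ' j).left := fun j => by
      show ((Pj j).ι ≫ snd) ≫ W.ι = (Pj j).ι ≫ snd ≫ W.ι
      rw [Category.assoc]
    have hC3 : C (Limits.Sigma.desc ψ') := hC2
    have hmem : ∀ j, (R.pullback f).arrows (φ' j) := by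
      intro j
      show R.arrows (φ' j ≫ f)
      let qO : V' j ⟶ V i j := Over.homMk (q j) (by
        show q j ≫ (V i j).hom = (Pj j).ι ≫ snd ≫ W.ι ≫ Y.hom
        rw [← Over.w (φ i j), ← Category.assoc, hqφ, ← Over.w f]
        simp only [Category.assoc])
      have hqO : qO ≫ φ i j = φ' j ≫ f := by
        ext1
        exact hqφ j
      rw [← hqO]
      exact R.downward_closed (hRφ i j) qO
    exact ⟨κ i, hκ i, V', φ', ψ', hV'aff, hmem, hψ'φ', hC3⟩

include hcoprod haff in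
theorem cov_trans {X : Over S} (R R' : Sieve X) (hR : Cov C X R)
    (hR' : ∀ ⦃Y : Over S⦄ ⦃f : Y ⟶ X⦄, R.arrows f → Cov C Y (R'.pullback f)) : Cov C X R' := by
  classical
  obtain ⟨ι, U, hUaff, hUcov, hdata⟩ := hR
  choose κ hκ V φ ψ hVaff hRφ hψφ hCψ using hdata
  have h := fun i j => hR' (hRφ i j)
  choose ι' U' hU'aff hU'cov hdata' using h
  choose κ' hκ' W φ' χ hWaff hR'φ' hχφ' hCχ using hdata'
  -- finite subcovers
  have hfin : ∀ i j, ∃ t : Finset (ι' i j), ⨆ a : ↥t, U' i j a.1 = ⊤ := by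
    intro i j
    have : IsAffine (V i j).left := hVaff i j
    obtain ⟨t, ht⟩ := isCompact_univ.elim_finite_subcover
      (fun a => ((U' i j a : (V i j).left.Opens) : Set (V i j).left)) (fun a => (U' i j a).2)
      (by
        intro x _
        have hx : x ∈ (⨆ a, U' i j a : (V i j).left.Opens) := by rw [hU'cov]; trivial
        obtain ⟨a, ha⟩ := TopologicalSpace.Opens.mem_iSup.mp hx
        exact Set.mem_iUnion.mpr ⟨a, ha⟩)
    refine ⟨t, ?_⟩
    rw [eq_top_iff]
    intro x _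
    have hx := ht (Set.mem_univ x)
    simp only [Set.mem_iUnion] at hx
    obtain ⟨a, hat, hxa⟩ := hx
    exact TopologicalSpace.Opens.mem_iSup.mpr ⟨⟨a, hat⟩, hxa⟩
  choose t ht using hfin
  refine ⟨ι, U, hUaff, hUcov, fun i => ?_⟩
  have hκi : Finite (κ i) := hκ i
  have hκ'i : ∀ (j : κ i) (a : ↥(t i j)), Finite (κ' i j a.1) := fun j a => hκ' i j a.1
  -- first level
  have hC1 : ∀ j : κ i, C (Limits.Sigma.desc (fun p : Σ a : ↥(t i j), κ' i j a.1 =>
      χ i j p.1.1 p.2 ≫ (U' i j p.1.1).ι)) := by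
    intro j
    have : IsAffine (V i j).left := hVaff i j
    exact sigma_comp C hcoprod (fun a : ↥(t i j) => ((U' i j a.1 : (V i j).left.Opens) : Scheme.{u}))
      (fun a => (U' i j a.1).ι)
      (haff (V i j).left ↥(t i j) (fun a => U' i j a.1) (fun a => hU'aff i j a.1) (ht i j))
      (fun a => κ' i j a.1) (fun a k => (W i j a.1 k).left) (fun a k => χ i j a.1 k)
      (fun a => hCχ i j a.1)
  -- second level
  have hC2 := sigma_comp C hcoprod (fun j => (V i j).left) (ψ i) (hCψ i)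
    (fun j => Σ a : ↥(t i j), κ' i j a.1) (fun j p => (W i j p.1.1 p.2).left)
    (fun j p => χ i j p.1.1 p.2 ≫ (U' i j p.1.1).ι) hC1
  let K : Type u := Σ j : κ i, Σ a : ↥(t i j), κ' i j a.1
  let V'' : K → Over S := fun p => W i p.1 p.2.1.1 p.2.2
  let φ'' : ∀ p : K, V'' p ⟶ X := fun p => φ' i p.1 p.2.1.1 p.2.2 ≫ φ i p.1
  let ψ'' : ∀ p : K, (V'' p).left ⟶ (U i : Scheme.{u}) := fun p =>
    (χ i p.1 p.2.1.1 p.2.2 ≫ (U' i p.1 p.2.1.1).ι) ≫ ψ i p.1
  have hKfin : Finite K := inferInstanceAs (Finite (Σ j : κ i, Σ a : ↥(t i j), κ' i j a.1))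
  have hV''aff : ∀ p, IsAffine (V'' p).left := fun p => hWaff i p.1 p.2.1.1 p.2.2
  have hmem : ∀ p, R'.arrows (φ'' p) := fun p => hR'φ' i p.1 p.2.1.1 p.2.2
  have hψ''φ'' : ∀ p, ψ'' p ≫ (U i).ι = (φ'' p).left := by
    intro p
    show ((χ i p.1 p.2.1.1 p.2.2 ≫ (U' i p.1 p.2.1.1).ι) ≫ ψ i p.1) ≫ (U i).ι =
      (φ' i p.1 p.2.1.1 p.2.2).left ≫ (φ i p.1).left
    rw [Category.assoc, hψφ, hχφ']
  exact ⟨K, hKfin, V'', φ'', ψ'', hV''aff, hmem, hψ''φ'', hC2⟩

/-- the Grothendieck topology of affine-local finite `C`-coverings -/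
def topology (hcoprod : ∀ (κ : Type u) [Finite κ] (A B : κ → Scheme.{u}) (f : ∀ j, A j ⟶ B j),
      (∀ j, C (f j)) → C (Limits.Sigma.map f))
    (haff : ∀ (U : Scheme.{u}) [IsAffine U] (κ : Type u) [Finite κ] (V : κ → U.Opens),
      (∀ j, IsAffineOpen (V j)) → ⨆ j, V j = ⊤ → C (Limits.Sigma.desc fun j => (V j).ι)) :
    GrothendieckTopology (Over S) where
  sieves X := {R | Cov C X R}
  top_mem' X := cov_top C haff X
  pullback_stable' _ _ R f hR := cov_pullback C haff f R hR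
  transitive' _ R hR R' hR' := cov_trans C hcoprod haff R R' hR hR'

end

end Groth.Agent.Lib.H79ClassTop
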