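/-
Sheaf criterion for the topology on `Over S` generated affine-locally by a class `C` (helper79):
sheaf iff Zariski sheaf + sheaf for single `C`-morphisms.
-/
import Groth.Agent.Lib.H79ClassTop
set_option autoImplicit false
universe v u
open CategoryTheory CategoryTheory.Limits AlgebraicGeometry

namespace Groth.Agent.Lib.H79ClassTopSheaf

open Groth.Agent.Lib.H79ClassTop

variable {S : Scheme.{u}} (C : MorphismProperty Scheme.{u})

/-- a sieve is covering as soon as its pullbacks along the members of a generating family of a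
covering sieve are covering -/
theorem mem_of_generate {D : Type*} [Category D] (J : GrothendieckTopology D) {X : D}
    (T : Sieve X) (G : Presieve X) (hG : Sieve.generate G ∈ J X)
    (h : ∀ ⦃Y : D⦄ (g : Y ⟶ X), G g → T.pullback g ∈ J Y) : T ∈ J X := by
  refine J.transitive hG T ?_
  rintro Y _ ⟨Z, h', g, hg, rfl⟩
  rw [Sieve.pullback_comp]
  exact J.pullback_stable h' (h g hg)

/-- the sieve generated by a jointly surjective family of open immersions of `S`-schemes is covering
for the Zariski topology -/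
theorem ofArrows_mem_zariski_over {X : Over S} {ι : Type*} (Y : ι → Over S) (g : ∀ i, Y i ⟶ X)
    (hopen : ∀ i, IsOpenImmersion (g i).left) (hsurj : ∀ x : X.left, ∃ i, x ∈ Set.range (g i).left) :
    Sieve.ofArrows Y g ∈ (Scheme.zariskiTopology.over S) X := by
  rw [GrothendieckTopology.mem_over_iff, Sieve.overEquiv_ofArrows]
  have hmem : Presieve.ofArrows (fun i => (Y i).left) (fun i => (g i).left) ∈
      Scheme.precoverage @IsOpenImmersion X.left :=
    (Scheme.ofArrows_mem_precoverage_iff _).mpr ⟨hsurj, hopen⟩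
  exact Precoverage.generate_mem_toGrothendieck hmem

section
variable
    (haff : ∀ (U : Scheme.{u}) [IsAffine U] (κ : Type u) [Finite κ] (V : κ → U.Opens),
      (∀ j, IsAffineOpen (V j)) → ⨆ j, V j = ⊤ → C (Limits.Sigma.desc fun j => (V j).ι))

include haff in
/-- Zariski covering sieves have affine-local finite `C`-covering data -/
theorem cov_of_mem_zariski {X : Over S} (R : Sieve X)
    (hR : R ∈ (Scheme.zariskiTopology.over S) X) : Cov C X R := by
  rw [GrothendieckTopology.mem_over_iff] at hR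
  obtain ⟨𝒰, h𝒰⟩ := Scheme.mem_grothendieckTopology_iff.mp hR
  have hopen : ∀ a, IsOpenImmersion (𝒰.f a) := fun a => 𝒰.map_prop a
  refine ⟨Σ a : 𝒰.I₀, {W : X.left.Opens // IsAffineOpen W ∧ W ≤ (𝒰.f a).opensRange},
    fun p => p.2.1, fun p => p.2.2.1, ?_, ?_⟩
  · rw [eq_top_iff]
    intro x _
    obtain ⟨a, y, hy⟩ := 𝒰.exists_eq x
    obtain ⟨W, hW, hxW, hle⟩ :=
      exists_isAffineOpen_mem_and_subset (X := X.left) (x := x) (U := (𝒰.f a).opensRange) ⟨y, hy⟩
    exact TopologicalSpace.Opens.mem_iSup.mpr ⟨⟨a, W, hW, hle⟩, hxW⟩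
  · rintro ⟨a, W, hW, hle⟩
    have hWa : IsAffine ((W : X.left.Opens) : Scheme.{u}) := hW
    let T : ((W : X.left.Opens) : Scheme.{u}).Opens := ⊤
    have hsub : Set.range W.ι ⊆ Set.range (𝒰.f a) := by
      rw [Scheme.Opens.range_ι]; exact hle
    let l : (W : Scheme.{u}) ⟶ 𝒰.X a := IsOpenImmersion.lift (𝒰.f a) W.ι hsub
    have hl : l ≫ 𝒰.f a = W.ι := IsOpenImmersion.lift_fac _ _ _
    have hmem : (Sieve.overEquiv X R).arrows (T.ι ≫ W.ι) := by
      rw [← hl, ← Category.assoc]
      exact (Sieve.overEquiv X R).downward_closed (h𝒰 _ _ (Presieve.ofArrows.mk a)) _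
    rw [Sieve.overEquiv_iff] at hmem
    let V' : PUnit.{u+1} → Over S := fun _ => Over.mk ((T.ι ≫ W.ι) ≫ X.hom)
    let φ' : ∀ j, V' j ⟶ X := fun _ => Over.homMk (T.ι ≫ W.ι)
    let ψ' : ∀ j, (V' j).left ⟶ (W : Scheme.{u}) := fun _ => T.ι
    have h1 : ∀ j, IsAffine (V' j).left := fun _ => isAffineOpen_top _
    have h2 : ∀ j, R.arrows (φ' j) := fun _ => hmem
    have h3 : ∀ j, ψ' j ≫ W.ι = (φ' j).left := fun _ => rfl
    have h4 : C (Limits.Sigma.desc ψ') :=
      haff _ PUnit.{u+1} (fun _ => T) (fun _ => isAffineOpen_top _) (by simp [T])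
    exact ⟨PUnit.{u+1}, inferInstance, V', φ', ψ', h1, h2, h3, h4⟩

end

section
variable [C.IsStableUnderBaseChange]
    (hqc : ∀ {A B : Scheme.{u}} (f : A ⟶ B), C f → QuasiCompact f)
    (hres : ∀ (W X' : Scheme.{u}) [IsAffine W] (f : X' ⟶ W), C f →
      ∀ (κ : Type u) [Finite κ] (A : κ → X'.Opens), (∀ l, IsAffineOpen (A l)) → ⨆ l, A l = ⊤ →
        C (Limits.Sigma.desc fun l => (A l).ι ≫ f))

include hqc hres in
/-- the sieve generated by a `C`-morphism has affine-local finite `C`-covering data -/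
theorem cov_generate_singleton {X X' : Over S} (f : X' ⟶ X) (hf : C f.left) :
    Cov C X (Sieve.generate (Presieve.singleton f)) := by
  classical
  have hfqc : QuasiCompact f.left := hqc f.left hf
  refine ⟨X.left.affineOpens, fun U => (U : X.left.Opens), fun U => U.2, ?_, fun U => ?_⟩
  · rw [eq_top_iff]
    intro x _
    obtain ⟨U, hU, hxU, -⟩ :=
      exists_isAffineOpen_mem_and_subset (X := X.left) (x := x) (U := ⊤) trivial
    exact TopologicalSpace.Opens.mem_iSup.mpr ⟨⟨U, hU⟩, hxU⟩
  · have hUaff : IsAffine ((U : X.left.Opens) : Scheme.{u}) := U.2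
    let Z : X'.left.Opens := f.left ⁻¹ᵁ (U : X.left.Opens)
    let fU : (Z : Scheme.{u}) ⟶ ((U : X.left.Opens) : Scheme.{u}) := f.left ∣_ (U : X.left.Opens)
    have hfU : C fU :=
      C.of_isPullback (isPullback_morphismRestrict f.left (U : X.left.Opens)).flip hf
    have hfUι : fU ≫ (U : X.left.Opens).ι = Z.ι ≫ f.left := morphismRestrict_ι _ _
    have hZc : CompactSpace (Z : Scheme.{u}) :=
      isCompact_iff_compactSpace.mp (f.left.isCompact_preimage U.2.isCompact)
    -- a finite affine open cover of `Z`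
    obtain ⟨t, ht⟩ := isCompact_univ.elim_finite_subcover
      (fun A : (Z : Scheme.{u}).affineOpens => ((A : (Z : Scheme.{u}).Opens) : Set (Z : Scheme.{u})))
      (fun A => (A : (Z : Scheme.{u}).Opens).2)
      (by
        intro x _
        obtain ⟨A, hA, hxA, -⟩ :=
          exists_isAffineOpen_mem_and_subset (X := (Z : Scheme.{u})) (x := x) (U := ⊤) trivial
        exact Set.mem_iUnion.mpr ⟨⟨A, hA⟩, hxA⟩)
    let κ : Type u := ↥t
    let A : κ → (Z : Scheme.{u}).Opens := fun l => (l.1 : (Z : Scheme.{u}).Opens)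
    have hAaff : ∀ l, IsAffineOpen (A l) := fun l => l.1.2
    have hAcov : ⨆ l, A l = ⊤ := by
      rw [eq_top_iff]
      intro x _
      have hx := ht (Set.mem_univ x)
      simp only [Set.mem_iUnion] at hx
      obtain ⟨a, hat, hxa⟩ := hx
      exact TopologicalSpace.Opens.mem_iSup.mpr ⟨⟨a, hat⟩, hxa⟩
    have hC : C (Limits.Sigma.desc fun l => (A l).ι ≫ fU) :=
      hres _ _ fU hfU κ A hAaff hAcov
    let V' : κ → Over S := fun l => Over.mk (((A l).ι ≫ Z.ι) ≫ X'.hom)
    let g' : ∀ l, V' l ⟶ X' := fun l => Over.homMk ((A l).ι ≫ Z.ι)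
    let φ' : ∀ l, V' l ⟶ X := fun l => g' l ≫ f
    let ψ' : ∀ l, (V' l).left ⟶ ((U : X.left.Opens) : Scheme.{u}) := fun l => (A l).ι ≫ fU
    have h1 : ∀ l, IsAffine (V' l).left := fun l => hAaff l
    have h2 : ∀ l, (Sieve.generate (Presieve.singleton f)).arrows (φ' l) := fun l =>
      ⟨X', g' l, f, Presieve.singleton.mk, rfl⟩
    have h3 : ∀ l, ψ' l ≫ (U : X.left.Opens).ι = (φ' l).left := by
      intro l
      show ((A l).ι ≫ fU) ≫ (U : X.left.Opens).ι = ((A l).ι ≫ Z.ι) ≫ f.left
      rw [Category.assoc, hfUι, Category.assoc]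
    exact ⟨κ, inferInstance, V', φ', ψ', h1, h2, h3, hC⟩

end

section
variable [C.IsStableUnderBaseChange] (F : (Over S)ᵒᵖ ⥤ Type v)
    (hZ : Presieve.IsSheaf (Scheme.zariskiTopology.over S) F)
    (hC : ∀ (X X' : Over S) (f : X' ⟶ X), C f.left →
      Presieve.IsSheafFor F (Presieve.singleton f))

include hZ in
theorem zariski_le_finest : Scheme.zariskiTopology.over S ≤ Sheaf.finestTopologySingle F :=
  fun _ _ hT _ f => hZ _ ((Scheme.zariskiTopology.over S).pullback_stable f hT)

include hC in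
theorem generate_singleton_mem_finest {X X' : Over S} (f : X' ⟶ X) (hf : C f.left) :
    Sieve.generate (Presieve.singleton f) ∈ Sheaf.finestTopologySingle F X := by
  intro Y g
  rw [← Sieve.pullbackArrows_comm, ← Presieve.isSheafFor_iff_generate, Presieve.pullback_singleton]
  apply hC
  have sq : IsPullback (pullback.fst f g).left (pullback.snd f g).left f.left g.left :=
    (IsPullback.of_hasPullback f g).map (Over.forget S)
  exact C.of_isPullback sq hf

include hZ hC in
/-- sieves with affine-local finite `C`-covering data are covering for the finest topology making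
`F` a sheaf -/
theorem mem_finest_of_cov {X : Over S} (R : Sieve X) (hR : Cov C X R) :
    R ∈ Sheaf.finestTopologySingle F X := by
  obtain ⟨ι, U, hUaff, hUcov, hdata⟩ := hR
  choose κ hκ V φ ψ hVaff hRφ hψφ hCψ using hdata
  have hZle := zariski_le_finest F hZ
  let UO : ι → Over S := fun i => Over.mk ((U i).ι ≫ X.hom)
  let jO : ∀ i, UO i ⟶ X := fun i => Over.homMk (U i).ι
  have h1 : Sieve.generate (Presieve.ofArrows UO jO) ∈ Sheaf.finestTopologySingle F X := by
    apply hZle
    refine ofArrows_mem_zariski_over UO jO (fun i => ?_) (fun x => ?_)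
    · show IsOpenImmersion (U i).ι
      infer_instance
    · have hx : x ∈ (⨆ i, U i : X.left.Opens) := by rw [hUcov]; trivial
      obtain ⟨i, hi⟩ := TopologicalSpace.Opens.mem_iSup.mp hx
      refine ⟨i, ?_⟩
      show x ∈ Set.range (U i).ι
      rw [Scheme.Opens.range_ι]
      exact hi
  refine mem_of_generate _ R _ h1 ?_
  rintro Y g ⟨i⟩
  -- the one-member `C`-covering of `U i`
  have hfin : Finite (κ i) := hκ i
  let PO : Over S := Over.mk (Limits.Sigma.desc (ψ i) ≫ (U i).ι ≫ X.hom)
  let π : PO ⟶ UO i := Over.homMk (Limits.Sigma.desc (ψ i))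
  have hπ : C π.left := hCψ i
  refine mem_of_generate _ _ _ (generate_singleton_mem_finest C F hC π hπ) ?_
  rintro Y' g' ⟨⟩
  -- the open cover of the coproduct
  let ιO : ∀ j, V i j ⟶ PO := fun j => Over.homMk (Limits.Sigma.ι (fun j => (V i j).left) j) (by
    show Limits.Sigma.ι (fun j => (V i j).left) j ≫ Limits.Sigma.desc (ψ i) ≫ (U i).ι ≫ X.hom =
      (V i j).hom
    rw [Limits.Sigma.ι_desc_assoc, ← Category.assoc, hψφ, Over.w])
  have h2 : Sieve.ofArrows (fun j => V i j) ιO ∈ Sheaf.finestTopologySingle F PO := by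
    apply hZle
    refine ofArrows_mem_zariski_over _ ιO (fun j => ?_) (fun x => ?_)
    · show IsOpenImmersion (Limits.Sigma.ι (fun j => (V i j).left) j)
      infer_instance
    · obtain ⟨j, y, hy⟩ := (sigmaOpenCover (fun j => (V i j).left)).exists_eq x
      exact ⟨j, y, hy⟩
  refine (Sheaf.finestTopologySingle F).superset_covering ?_ h2
  rw [Sieve.ofArrows, Sieve.generate_le_iff]
  rintro Y'' g'' ⟨j⟩
  show R.arrows ((ιO j ≫ π) ≫ jO i)
  have heq : (ιO j ≫ π) ≫ jO i = φ i j := by
    ext1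
    show (Limits.Sigma.ι (fun j => (V i j).left) j ≫ Limits.Sigma.desc (ψ i)) ≫ (U i).ι =
      (φ i j).left
    rw [Limits.Sigma.ι_desc, hψφ]
  rw [heq]
  exact hRφ i j

end

section Main

variable [C.IsStableUnderBaseChange]

theorem isSheaf_iff
    (hqc : ∀ {A B : Scheme.{u}} (f : A ⟶ B), C f → QuasiCompact f)
    (haff : ∀ (U : Scheme.{u}) [IsAffine U] (κ : Type u) [Finite κ] (V : κ → U.Opens),
      (∀ j, IsAffineOpen (V j)) → ⨆ j, V j = ⊤ → C (Limits.Sigma.desc fun j => (V j).ι))
    (hres : ∀ (W X' : Scheme.{u}) [IsAffine W] (f : X' ⟶ W), C f →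
      ∀ (κ : Type u) [Finite κ] (A : κ → X'.Opens), (∀ l, IsAffineOpen (A l)) → ⨆ l, A l = ⊤ →
        C (Limits.Sigma.desc fun l => (A l).ι ≫ f))
    (J : GrothendieckTopology (Over S))
    (hJ : ∀ (X : Over S) (R : Sieve X), R ∈ J X ↔ Cov C X R)
    (F : (Over S)ᵒᵖ ⥤ Type v) :
    Presieve.IsSheaf J F ↔
      (Presieve.IsSheaf (Scheme.zariskiTopology.over S) F ∧
        ∀ (X X' : Over S) (f : X' ⟶ X), C f.left →
          Presieve.IsSheafFor F (Presieve.singleton f)) := by
  constructor
  · intro hF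
    refine ⟨Presieve.isSheaf_of_le F (fun X R hR => (hJ X R).mpr (cov_of_mem_zariski C haff R hR)) hF,
      fun X X' f hf => ?_⟩
    rw [Presieve.isSheafFor_iff_generate]
    exact hF _ ((hJ _ _).mpr (cov_generate_singleton C hqc hres f hf))
  · rintro ⟨hZ, hC⟩ X R hR
    have := mem_finest_of_cov C F hZ hC R ((hJ X R).mp hR) X (𝟙 X)
    rwa [Sieve.pullback_id] at this

end Main

end Groth.Agent.Lib.H79ClassTopSheaf
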