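import Groth.Agent.Lib.H79FlatGenDimOpen
import Groth.Agent.Lib.H56OpenFibDim3
import Mathlib

set_option autoImplicit false
set_option linter.style.haveILetI false
universe u
open CategoryTheory AlgebraicGeometry TopologicalSpace Topology

namespace Groth.Agent.Lib.H79FibDimLocConst

open Groth.Agent.Lib.H56LocDim Groth.Agent.Lib.H56ConsNhds Groth.Agent.Lib.H79FlatGenDimOpen

variable {Z Y : Scheme.{u}}

/-- lower semicontinuity of the fibre dimension from generization lifting with dimension. -/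
theorem isOpen_setOf_lt_dim_fiber_of_gen (h : Z ⟶ Y) [LocallyOfFinitePresentation h]
    [QuasiCompact h]
    (hgen : ∀ z : Z, ∀ η : Y, η ⤳ h z →
      ∃ ξ : Z, h ξ = η ∧ FlatMor.fibreDimAt h z ≤ FlatMor.fibreDimAt h ξ) (n : ℕ) :
    IsOpen {y : Y | (n : WithBot ℕ∞) < topologicalKrullDim (h.fiber y)} := by
  rw [isOpen_iff_mem_nhds]
  intro s hs
  have hcons : IsLocallyConstructible
      {s : Y | (n : WithBot ℕ∞) < topologicalKrullDim (h.fiber s)} := by
    rw [setOf_lt_dim_fiber_eq_image]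
    apply h.isLocallyConstructible_image
    have hopen : IsOpen {x : Z | FlatMor.fibreDimAt h x ≤ (n : WithBot ℕ∞)} :=
      Groth.Agent.S0402.result h n
    have hretro : IsRetrocompact {x : Z | FlatMor.fibreDimAt h x ≤ (n : WithBot ℕ∞)} :=
      Groth.Agent.S9355.result h n
    exact (hretro.isConstructible hopen).compl.isLocallyConstructible
  refine mem_nhds_of_isLocallyConstructible Y hcons s ?_
  intro s' hs'
  have hs2 : ((n + 1 : ℕ) : WithBot ℕ∞) ≤ topologicalKrullDim (h.fiber s) :=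
    (lt_iff_succ_le _ _).1 hs
  obtain ⟨x, hxs, hx⟩ := (le_dim_fiber_iff h s (n + 1)).1 hs2
  obtain ⟨ξ, hξ1, hξ2⟩ := hgen x s' (by rw [hxs]; exact hs')
  change (n : WithBot ℕ∞) < topologicalKrullDim (h.fiber s')
  rw [lt_iff_succ_le, le_dim_fiber_iff]
  exact ⟨ξ, hξ1, hx.trans hξ2⟩

/-- the image is open, from generization lifting. -/
theorem isOpen_range_of_gen (h : Z ⟶ Y) [LocallyOfFinitePresentation h] [QuasiCompact h]
    (hgen : ∀ z : Z, ∀ η : Y, η ⤳ h z → ∃ ξ : Z, h ξ = η) : IsOpen (Set.range h) := by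
  rw [isOpen_iff_mem_nhds]
  rintro _ ⟨z, rfl⟩
  have hcons : IsLocallyConstructible (Set.range h) := by
    rw [← Set.image_univ]
    exact h.isLocallyConstructible_image (IsConstructible.univ).isLocallyConstructible
  refine mem_nhds_of_isLocallyConstructible Y hcons _ ?_
  intro η hη
  obtain ⟨ξ, hξ⟩ := hgen z η hη
  exact ⟨ξ, hξ⟩

/-- upper semicontinuity of the fibre dimension for a closed map. -/
theorem isOpen_setOf_dim_fiber_le_of_isClosedMap (h : Z ⟶ Y) [LocallyOfFiniteType h]
    (hcl : IsClosedMap h) (n : ℕ) :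
    IsOpen {y : Y | topologicalKrullDim (h.fiber y) ≤ (n : WithBot ℕ∞)} := by
  have hopen : IsOpen {x : Z | FlatMor.fibreDimAt h x ≤ (n : WithBot ℕ∞)} :=
    Groth.Agent.S0402.result h n
  have hc := hcl _ hopen.isClosed_compl
  convert hc.isOpen_compl using 1
  ext y
  simp only [Set.mem_ofPred_eq, Set.mem_compl_iff, Set.mem_image, not_exists, not_and]
  rw [dim_fiber_le_iff]
  exact ⟨fun hy x hx hxy => hx (hy x hxy), fun hy x hxy => by_contra fun hx => hy x hx hxy⟩

/-- **Local constancy of the fibre dimension** for a proper morphism of finite presentation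
satisfying generization lifting with dimension. -/
theorem isLocallyConstant_dim_fiber (h : Z ⟶ Y) [IsProper h] [LocallyOfFinitePresentation h]
    (hgen : ∀ z : Z, ∀ η : Y, η ⤳ h z →
      ∃ ξ : Z, h ξ = η ∧ FlatMor.fibreDimAt h z ≤ FlatMor.fibreDimAt h ξ) :
    IsLocallyConstant (fun y : Y => topologicalKrullDim (h.fiber y)) := by
  haveI : QuasiCompact h := inferInstance
  have hcl : IsClosedMap h := h.isClosedMap
  rw [IsLocallyConstant.iff_exists_open]
  intro y₀
  obtain ⟨N, hN⟩ := Groth.Agent.Lib.H56OpenDim.exists_nat_dim_fiber_le h y₀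
  have hrange_closed : IsClosed (Set.range h) := by
    rw [← Set.image_univ]; exact hcl _ isClosed_univ
  have hnonneg : ∀ y ∈ Set.range h, ((0 : ℕ) : WithBot ℕ∞) ≤ topologicalKrullDim (h.fiber y) := by
    rintro _ ⟨z, rfl⟩
    exact (le_dim_fiber_iff h (h z) 0).2 ⟨z, rfl, by exact_mod_cast fibreDimAt_nonneg h z⟩
  have hbot : ∀ y ∉ Set.range h, topologicalKrullDim (h.fiber y) = ⊥ := by
    intro y hy
    rw [eq_bot_iff, dim_fiber_le_iff]
    intro z hz
    exact absurd ⟨z, hz⟩ hy
  generalize hc : topologicalKrullDim (h.fiber y₀) = c at hN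
  induction c using WithBot.recBotCoe with
  | bot =>
    refine ⟨(Set.range h)ᶜ, hrange_closed.isOpen_compl, ?_, ?_⟩
    · intro hy
      have := hnonneg y₀ hy
      rw [hc] at this
      simp at this
    · intro y hy
      exact hbot y hy
  | coe a =>
    obtain ⟨m, rfl⟩ : ∃ m : ℕ, a = (m : ℕ∞) := by
      have : a ≤ (N : ℕ∞) := by exact_mod_cast hN
      exact ENat.ne_top_iff_exists.1 (ne_top_of_le_ne_top (ENat.natCast_ne_top N) this) |>.imp
        fun m hm => hm.symm
    have hc' : topologicalKrullDim (h.fiber y₀) = ((m : ℕ) : WithBot ℕ∞) := hc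
    cases m with
    | zero =>
      have hy₀r : y₀ ∈ Set.range h := by
        by_contra hy
        rw [hbot y₀ hy] at hc'
        exact absurd hc' (by simp)
      refine ⟨{y | topologicalKrullDim (h.fiber y) ≤ ((0 : ℕ) : WithBot ℕ∞)} ∩ Set.range h,
        (isOpen_setOf_dim_fiber_le_of_isClosedMap h hcl 0).inter
          (isOpen_range_of_gen h (fun z η hη => (hgen z η hη).imp fun ξ hξ => hξ.1)),
        ⟨hc'.le, hy₀r⟩, ?_⟩
      rintro y ⟨hy1, hy2⟩
      exact le_antisymm hy1 (hnonneg y hy2)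
    | succ k =>
      refine ⟨{y | topologicalKrullDim (h.fiber y) ≤ ((k + 1 : ℕ) : WithBot ℕ∞)} ∩
          {y | ((k : ℕ) : WithBot ℕ∞) < topologicalKrullDim (h.fiber y)},
        (isOpen_setOf_dim_fiber_le_of_isClosedMap h hcl (k + 1)).inter
          (isOpen_setOf_lt_dim_fiber_of_gen h hgen k), ⟨hc'.le, ?_⟩, ?_⟩
      · change ((k : ℕ) : WithBot ℕ∞) < topologicalKrullDim (h.fiber y₀)
        rw [lt_iff_succ_le, hc']
      · rintro y ⟨hy1, hy2⟩
        exact le_antisymm hy1 ((lt_iff_succ_le _ _).1 hy2)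

/-! ### Closed subschemes cut out by finitely generated ideals are of finite presentation -/

theorem fp_stable : RingHom.StableUnderCompositionWithLocalizationAwaySource
    @RingHom.FinitePresentation := by
  intro R S T _ _ _ _ r _ f hf
  exact RingHom.finitePresentation_stableUnderComposition _ _
    (RingHom.finitePresentation_holdsForLocalizationAway S r) hf

theorem lfp_subschemeι_of_fg {X : Scheme.{u}} (I : X.IdealSheafData)
    (hI : ∀ U : X.affineOpens, (I.ideal U).FG) : LocallyOfFinitePresentation I.subschemeι := by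
  rw [HasRingHomProperty.iff_exists_appLE (P := @LocallyOfFinitePresentation) fp_stable]
  intro z
  obtain ⟨_, ⟨U, hU, rfl⟩, hzU, -⟩ := X.isBasis_affineOpens.exists_subset_of_mem_open
    (Set.mem_univ (I.subschemeι z)) isOpen_univ
  have hV : IsAffineOpen (I.subschemeι ⁻¹ᵁ U) := hU.preimage I.subschemeι
  refine ⟨⟨U, hU⟩, ⟨I.subschemeι ⁻¹ᵁ U, hV⟩, hzU, le_rfl, ?_⟩
  rw [Scheme.Hom.appLE_eq_app]
  refine RingHom.FinitePresentation.of_surjective _ (I.subschemeι_app_surjective ⟨U, hU⟩) ?_
  rw [I.ker_subschemeι_app ⟨U, hU⟩]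
  exact hI ⟨U, hU⟩

end Groth.Agent.Lib.H79FibDimLocConst
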