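import Groth.Agent.Lib.H79FlatSuppDim
import Groth.Agent.Lib.H79FibDimLocConst
import Groth.Agent.Lib.H56OpenComp3
import Mathlib

/-!
# helper79: openness of "the fibre has an irreducible component of dimension `n`"

* `exists_specializes_fibreDimAt_le_of_flat`: the strengthening of
  `H79FlatSuppDim.exists_fibreDimAt_le_of_flat` where the lifted generization `ξ` of `η` moreover
  specializes to `z`;
* `isOpen_setOf_mem_compDims_of_gen`: for `h : Z ⟶ Y` locally of finite presentation and
  quasi-compact such that every generization `η` of `h z` lifts to a generization `ξ` of `z` with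
  `dim_z Z_{h z} ≤ dim_ξ Z_η`, the set of `y` whose fibre has an irreducible component of
  dimension `n` is open;
* `HasCompDim`, `hasCompDim_iff_of_isHomeomorph`, `hasCompDim_fiber_iff`: topological transport of
  "has an irreducible component of dimension `c`".
-/

set_option autoImplicit false
set_option linter.style.haveILetI false
universe u
open CategoryTheory CategoryTheory.Limits AlgebraicGeometry TopologicalSpace Topology

namespace Groth.Agent.Lib.H79CompDimsOpen

open Groth.Agent.Lib.H56LocDim Groth.Agent.Lib.H56ConsNhds Groth.Agent.Lib.H79FlatGenDimOpen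
open Groth.Agent.Lib.H56OpenDim Groth.Agent.Lib.H79FlatSuppDim

set_option backward.isDefEq.respectTransparency.types false in
/-- **Flat modules and fibre dimension of the support, with specialization**: let `F` be
quasi-coherent of finite type and flat over `S`, with support the image of the closed immersion
`i : Z ⟶ X`. For `z : Z` and a generization `η` of its image there is a generization `ξ` of `z`
over `η` with `dim_z Z_{f z} ≤ dim_ξ Z_η`. -/
theorem exists_specializes_fibreDimAt_le_of_flat {X S : Scheme.{u}} (f : X ⟶ S)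
    [LocallyOfFiniteType f]
    (F : X.Modules) [F.IsQuasicoherent] [F.IsFiniteType] (hfl : FlatMod.IsFlatOver f F)
    {Z : Scheme.{u}} (i : Z ⟶ X) [IsClosedImmersion i] (hi : Set.range i = CohB1.support F)
    (z : Z) (η : S) (hη : η ⤳ f (i z)) :
    ∃ ξ : Z, ξ ⤳ z ∧ f (i ξ) = η ∧
      FlatMor.fibreDimAt (i ≫ f) z ≤ FlatMor.fibreDimAt (i ≫ f) ξ := by
  obtain ⟨A, l, hl1, hl2⟩ := Groth.Agent.Lib.ValSpecialize.exists_valuationSubring_of_specializes' hη
  have hsqX : IsPullback (pullback.fst f l) (pullback.snd f l) f l := IsPullback.of_hasPullback f l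
  set g' := pullback.fst f l with hg'
  set f' := pullback.snd f l with hf'
  have hsqZ : IsPullback (pullback.fst i g') (pullback.snd i g') i g' :=
    IsPullback.of_hasPullback i g'
  set gZ := pullback.fst i g' with hgZ
  set i' := pullback.snd i g' with hi'
  have hsq : IsPullback gZ (i' ≫ f') (i ≫ f) l := hsqZ.paste_vert hsqX
  haveI : LocallyOfFiniteType (i ≫ f) := inferInstance
  haveI : LocallyOfFiniteType (i' ≫ f') := MorphismProperty.of_isPullback hsq inferInstance
  haveI : IsClosedImmersion i' := MorphismProperty.pullback_snd _ _ inferInstance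
  -- the pulled back module
  let F' := (Scheme.Modules.pullback g').obj F
  haveI : F'.IsFiniteType := Groth.Agent.Lib.SupportTensor.isFiniteType_pullback g' F
  have hsupp : CohB1.support F' = g' ⁻¹' CohB1.support F :=
    Groth.Agent.Lib.SupportPullback.support_pullback_eq_preimage g' F
  have hrange : Set.range i' = CohB1.support F' := by
    rw [hsupp, ← hi]
    exact Scheme.Pullback.range_snd i g'
  -- a point over `z` and the closed point
  obtain ⟨z', hz'1, hz'2⟩ := exists_preimage_of_isPullback hsq z (IsLocalRing.closedPoint A)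
    (by rw [Scheme.Hom.comp_apply]; exact hl1.symm)
  have e1 : FlatMor.fibreDimAt (i' ≫ f') z' = FlatMor.fibreDimAt (i ≫ f) (gZ z') :=
    Groth.Agent.Lib.H30FibBC.fibreDimAt_eq_of_isPullback (i ≫ f) l gZ (i' ≫ f') hsq z'
  obtain ⟨w, hwz', hfw, hwmax, hw⟩ := exists_maxInFibre_fibreDimAt_eq (i' ≫ f') z'
  obtain ⟨ζ, hζw, hζmax⟩ := Groth.Agent.Lib.H79FibStalkBC.exists_maximal_generization _ w
  have hζ1 : i' ζ ∈ CohB1.support F' := by rw [← hrange]; exact ⟨ζ, rfl⟩
  have hζ2 : ∀ v ∈ CohB1.support F', v ⤳ i' ζ → v = i' ζ := by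
    intro v hv hvζ
    rw [← hrange] at hv
    obtain ⟨v₀, rfl⟩ := hv
    rw [i'.isClosedEmbedding.isEmbedding.isInducing.specializes_iff] at hvζ
    rw [hζmax v₀ hvζ]
  have hbot : f' (i' ζ) = (⟨⊥, Ideal.isPrime_bot⟩ : PrimeSpectrum A) :=
    map_eq_bot_of_maximal_support f' F' (i' ζ) hζ1 hζ2
      (Groth.Agent.Lib.H72FlatBaseChange.isFlatOverAt_pullback_of_isPullback hsqX F (i' ζ)
        (hfl (g' (i' ζ))))
  have h2 : tdeg (i' ≫ f') w ≤ tdeg (i' ≫ f') ζ :=
    Groth.Agent.Lib.H56ValTrdeg.tdeg_le_of_specializes_Spec A (i' ≫ f') w ζ hζw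
  have h3 : (tdeg (i' ≫ f') ζ : WithBot ℕ∞) ≤ FlatMor.fibreDimAt (i' ≫ f') ζ :=
    Groth.Agent.Lib.H56ValTrdeg.tdeg_le_fibreDimAt (i' ≫ f') ζ
  have e2 : FlatMor.fibreDimAt (i' ≫ f') ζ = FlatMor.fibreDimAt (i ≫ f) (gZ ζ) :=
    Groth.Agent.Lib.H30FibBC.fibreDimAt_eq_of_isPullback (i ≫ f) l gZ (i' ≫ f') hsq ζ
  refine ⟨gZ ζ, ?_, ?_, ?_⟩
  · rw [← hz'1]
    exact (hζw.trans hwz').map gZ.continuous
  · have := congrArg (fun φ : pullback i g' ⟶ S => φ ζ) hsq.w
    simp only [Scheme.Hom.comp_apply] at this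
    rw [this, hbot, hl2]
  · rw [← hz'1, ← e1, hw, ← e2]
    exact le_trans (by exact_mod_cast h2) h3

variable {Z Y : Scheme.{u}}

/-- the set of points whose fibre has an irreducible component of dimension `n` is the image of
the set of points of local fibre dimension `n` -/
theorem setOf_mem_compDims_eq_image (h : Z ⟶ Y) [LocallyOfFiniteType h] (n : ℕ) :
    {y : Y | n ∈ compDims h y} =
      h '' {z : Z | FlatMor.fibreDimAt h z = (n : WithBot ℕ∞)} := by
  ext y
  constructor
  · rintro ⟨x, hx, hmax, htd⟩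
    refine ⟨x, ?_, hx⟩
    change FlatMor.fibreDimAt h x = _
    rw [fibreDimAt_eq_tdeg_of_maximal' h x hmax, htd]
  · rintro ⟨z, hz, rfl⟩
    obtain ⟨w, -, hfw, hwmax, hw⟩ := exists_maxInFibre_fibreDimAt_eq h z
    refine ⟨w, hfw, hwmax, ?_⟩
    have hz' : FlatMor.fibreDimAt h z = (n : WithBot ℕ∞) := hz
    rw [hw] at hz'
    exact_mod_cast hz'

/-- the set of points of local fibre dimension exactly `n` is locally constructible -/
theorem isLocallyConstructible_setOf_fibreDimAt_eq (h : Z ⟶ Y) [LocallyOfFinitePresentation h]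
    (n : ℕ) : IsLocallyConstructible {z : Z | FlatMor.fibreDimAt h z = (n : WithBot ℕ∞)} := by
  have hle : ∀ m : ℕ, IsConstructible {x : Z | FlatMor.fibreDimAt h x ≤ (m : WithBot ℕ∞)} :=
    fun m => (Groth.Agent.S9355.result h m).isConstructible (Groth.Agent.S0402.result h m)
  cases n with
  | zero =>
    have : {z : Z | FlatMor.fibreDimAt h z = ((0 : ℕ) : WithBot ℕ∞)} =
        {x : Z | FlatMor.fibreDimAt h x ≤ ((0 : ℕ) : WithBot ℕ∞)} := by
      ext z
      exact ⟨fun hz => le_of_eq hz, fun hz => le_antisymm hz (by exact_mod_cast fibreDimAt_nonneg h z)⟩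
    rw [this]
    exact (hle 0).isLocallyConstructible
  | succ k =>
    have : {z : Z | FlatMor.fibreDimAt h z = ((k + 1 : ℕ) : WithBot ℕ∞)} =
        {x : Z | FlatMor.fibreDimAt h x ≤ ((k + 1 : ℕ) : WithBot ℕ∞)} ∩
          {x : Z | FlatMor.fibreDimAt h x ≤ ((k : ℕ) : WithBot ℕ∞)}ᶜ := by
      ext z
      simp only [Set.mem_ofPred_eq, Set.mem_inter_iff, Set.mem_compl_iff, not_le]
      rw [lt_iff_succ_le]
      exact ⟨fun hz => ⟨le_of_eq hz, le_of_eq hz.symm⟩, fun hz => le_antisymm hz.1 hz.2⟩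
    rw [this]
    exact ((hle (k + 1)).inter (hle k).compl).isLocallyConstructible

/-- **Openness of "the fibre has an irreducible component of dimension `n`"** from generization
lifting with dimension. -/
theorem isOpen_setOf_mem_compDims_of_gen (h : Z ⟶ Y) [LocallyOfFinitePresentation h]
    [QuasiCompact h]
    (hgen : ∀ z : Z, ∀ η : Y, η ⤳ h z →
      ∃ ξ : Z, ξ ⤳ z ∧ h ξ = η ∧ FlatMor.fibreDimAt h z ≤ FlatMor.fibreDimAt h ξ) (n : ℕ) :
    IsOpen {y : Y | n ∈ compDims h y} := by
  rw [isOpen_iff_mem_nhds]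
  intro s hs
  have hcons : IsLocallyConstructible {y : Y | n ∈ compDims h y} := by
    rw [setOf_mem_compDims_eq_image]
    exact h.isLocallyConstructible_image (isLocallyConstructible_setOf_fibreDimAt_eq h n)
  refine mem_nhds_of_isLocallyConstructible Y hcons s ?_
  intro s' hs'
  rw [setOf_mem_compDims_eq_image] at hs ⊢
  obtain ⟨z, hz, rfl⟩ := hs
  obtain ⟨ξ, hξz, hξ1, hξ2⟩ := hgen z s' hs'
  refine ⟨ξ, ?_, hξ1⟩
  have hz' : FlatMor.fibreDimAt h z = (n : WithBot ℕ∞) := hz
  have hopen : IsOpen {x : Z | FlatMor.fibreDimAt h x ≤ (n : WithBot ℕ∞)} :=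
    Groth.Agent.S0402.result h n
  have hξle : FlatMor.fibreDimAt h ξ ≤ (n : WithBot ℕ∞) :=
    hξz.mem_open hopen (le_of_eq hz')
  exact le_antisymm hξle (hz' ▸ hξ2)

/-! ### Transport of "has an irreducible component of dimension `c`" -/

/-- the space `A` has an irreducible component of dimension `c` -/
def HasCompDim (A : Type*) [TopologicalSpace A] (c : WithBot ℕ∞) : Prop :=
  ∃ Z ∈ irreducibleComponents A, topologicalKrullDim ↥Z = c

theorem hasCompDim_of_homeomorph {A B : Type*} [TopologicalSpace A] [TopologicalSpace B]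
    (e : A ≃ₜ B) (c : WithBot ℕ∞) (hA : HasCompDim A c) : HasCompDim B c := by
  obtain ⟨Z, hZ, hdim⟩ := hA
  refine ⟨e.symm ⁻¹' Z, preimage_mem_irreducibleComponents hZ e.symm.isOpenEmbedding ?_, ?_⟩
  · rw [e.symm.range_coe, Set.inter_univ]
    exact hZ.1.1
  · rw [← hdim, ← e.image_eq_preimage_symm]
    exact ((e.image Z).isHomeomorph.topologicalKrullDim_eq).symm

theorem hasCompDim_iff_of_isHomeomorph {A B : Type*} [TopologicalSpace A] [TopologicalSpace B]
    (φ : A → B) (hφ : IsHomeomorph φ) (c : WithBot ℕ∞) : HasCompDim A c ↔ HasCompDim B c :=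
  ⟨hasCompDim_of_homeomorph (hφ.homeomorph φ) c, hasCompDim_of_homeomorph (hφ.homeomorph φ).symm c⟩

/-- the fibre has an irreducible component of dimension `n` iff `n ∈ compDims` -/
theorem hasCompDim_fiber_iff (h : Z ⟶ Y) [LocallyOfFiniteType h] (y : Y) (n : ℕ) :
    HasCompDim (h.fiber y) (n : WithBot ℕ∞) ↔ n ∈ compDims h y := by
  have key := image_dim_irreducibleComponents_fiber h y
  have h1 : HasCompDim (h.fiber y) (n : WithBot ℕ∞) ↔
      (n : WithBot ℕ∞) ∈ (fun Z : Set ↥(h.fiber y) => topologicalKrullDim ↥Z) ''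
        irreducibleComponents ↥(h.fiber y) := Iff.rfl
  rw [h1, key]
  constructor
  · rintro ⟨m, hm, hmn⟩
    have hmn' : (m : WithBot ℕ∞) = (n : WithBot ℕ∞) := hmn
    have : m = n := by exact_mod_cast hmn'
    exact this ▸ hm
  · intro hn
    exact ⟨n, hn, rfl⟩

end Groth.Agent.Lib.H79CompDimsOpen
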