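import Mathlib
import Groth.Agent.Lib.H79CubK

/-! Lines through a point of a smooth cubic surface (over any algebraically closed field of
characteristic zero): at most three, coplanar. -/

namespace Groth.Agent.Lib.H79CubK

/-- a set without `n+1` distinct elements is finite of cardinality at most `n` -/
theorem finite_ncard_le_of_no_embedding {α : Type*} (s : Set α) (n : ℕ)
    (h : ∀ f : Fin (n + 1) → α, Function.Injective f → (∀ i, f i ∈ s) → False) :
    s.Finite ∧ s.ncard ≤ n := by
  classical
  have hfin : s.Finite := by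
    by_contra hinf
    have e := Set.Infinite.natEmbedding s hinf
    refine h (fun i => (e i.1 : α)) ?_ (fun i => (e i.1).2)
    intro i j hij
    exact Fin.ext (e.injective (Subtype.ext hij))
  refine ⟨hfin, ?_⟩
  by_contra hlt
  push Not at hlt
  rw [Set.ncard_eq_toFinset_card s hfin] at hlt
  have hle : n + 1 ≤ hfin.toFinset.card := hlt
  let e := hfin.toFinset.equivFin
  refine h (fun i => (e.symm (Fin.castLE hle i) : α)) ?_ ?_
  · intro i j hij
    have := e.symm.injective (Subtype.ext hij)
    exact Fin.castLE_injective hle this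
  · intro i
    have := (e.symm (Fin.castLE hle i)).2
    exact (Set.Finite.mem_toFinset hfin).mp this

variable {K : Type*} [Field K]

/-- a binary cubic form vanishing at four pairwise non-proportional points is zero -/
theorem binary_cubic_eq_zero (c : Fin 4 → K) (v w : Fin 4 → K)
    (hnp : ∀ i j : Fin 4, i ≠ j → v j * w i - v i * w j ≠ 0)
    (hz : ∀ i : Fin 4, c 0 * w i ^ 3 + c 1 * (v i * w i ^ 2) + c 2 * (v i ^ 2 * w i) + c 3 * v i ^ 3 = 0) :
    c = 0 := by
  have hdet : (Matrix.projVandermonde v w).det ≠ 0 := by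
    rw [Matrix.det_projVandermonde]
    apply Finset.prod_ne_zero_iff.mpr
    intro i _
    apply Finset.prod_ne_zero_iff.mpr
    intro j hj
    rw [Finset.mem_Ioi] at hj
    exact hnp i j (ne_of_lt hj)
  apply Matrix.eq_zero_of_mulVec_eq_zero hdet
  funext i
  have := hz i
  simp only [Matrix.mulVec, dotProduct, Fin.sum_univ_four, Matrix.projVandermonde_apply,
    Pi.zero_apply]
  simp only [Fin.rev, Fin.val_zero, Fin.val_one, Fin.val_two]
  rw [← this]
  simp
  ring

namespace SymTri

variable [CharZero K] {V : Type*} [AddCommGroup V] [Module K V] [FiniteDimensional K V]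

/-- two independent vectors in the common kernel of two functionals, in dimension 4 -/
theorem exists_pair_in_ker2 (hdim : Module.finrank K V = 4) (l μ : V →ₗ[K] K) :
    ∃ a b : V, l a = 0 ∧ μ a = 0 ∧ l b = 0 ∧ μ b = 0 ∧ LinearIndependent K ![a, b] := by
  have h1 := LinearMap.finrank_range_add_finrank_ker (l.prod μ)
  have h2 : Module.finrank K ↥(LinearMap.range (l.prod μ)) ≤ 2 := by
    have := Submodule.finrank_le (LinearMap.range (l.prod μ))
    rw [Module.finrank_prod, Module.finrank_self] at this
    exact this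
  rw [hdim] at h1
  have h3 : 1 < Module.finrank K ↥(LinearMap.ker (l.prod μ)) := by omega
  have h4 : 0 < Module.finrank K ↥(LinearMap.ker (l.prod μ)) := by omega
  obtain ⟨x, hx⟩ := Module.finrank_pos_iff_exists_ne_zero.mp h4
  obtain ⟨y, hy⟩ := exists_linearIndependent_pair_of_one_lt_finrank h3 hx
  have hxk := x.2
  have hyk := y.2
  rw [LinearMap.mem_ker, LinearMap.prod_apply, Prod.mk_eq_zero] at hxk hyk
  refine ⟨x, y, hxk.1, hxk.2, hyk.1, hyk.2, ?_⟩
  have := hy.map' (LinearMap.ker (l.prod μ)).subtype (Submodule.ker_subtype _)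
  have h5 : (⇑(LinearMap.ker (l.prod μ)).subtype ∘ ![x, y]) = ![(x : V), (y : V)] := by
    funext i
    fin_cases i <;> rfl
  rw [h5] at this
  exact this

variable (S : SymTri K V)

/-- basis of the tangent plane adapted to the point -/
theorem exists_tangent_basis (hdim : Module.finrank K V = 4) (hS : S.Smooth) {v : V} (hv : v ≠ 0)
    (hFv : S.F v = 0) :
    ∃ a b : V, S.T v v a = 0 ∧ S.T v v b = 0 ∧ LinearIndependent K ![a, b] ∧
      LinearIndependent K ![v, a, b] ∧
      ∀ u, S.T v v u = 0 → ∃ x y z : K, u = x • v + y • a + z • b := by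
  obtain ⟨w0, hw0⟩ := hS v hv hFv
  obtain ⟨μ, hμ⟩ : ∃ μ : Module.Dual K V, μ v ≠ 0 := by
    by_contra h
    push Not at h
    exact hv ((Module.forall_dual_apply_eq_zero_iff K v).mp h)
  obtain ⟨a, b, hla, hμa, hlb, hμb, hab⟩ := exists_pair_in_ker2 hdim (S.T v v) μ
  have hvab : v ∉ Submodule.span K ({a, b} : Set V) := by
    intro h
    obtain ⟨s, t, hst⟩ := Submodule.mem_span_pair.mp h
    have := congrArg μ hst
    rw [map_add, map_smul, map_smul, hμa, hμb] at this
    apply hμ
    rw [← this]; simp
  have li3 : LinearIndependent K ![v, a, b] := li_triple hab hvab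
  have hK := finrank_ker_functional' (S.T v v) hw0
  rw [hdim] at hK
  have hKeq : Submodule.span K ({v, a, b} : Set V) = LinearMap.ker (S.T v v) := by
    apply Submodule.eq_of_le_of_finrank_eq
    · rw [Submodule.span_le]
      intro z hz
      rcases hz with h | h | h
      · rw [h]; exact hFv
      · rw [h]; exact hla
      · rw [Set.mem_singleton_iff] at h
        rw [h]; exact hlb
    · rw [finrank_span_triple_of_li li3]; omega
  refine ⟨a, b, hla, hlb, hab, li3, ?_⟩
  intro u hu
  have : u ∈ Submodule.span K ({v, a, b} : Set V) := by rw [hKeq]; exact hu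
  obtain ⟨x, y, z, h⟩ := Submodule.mem_span_triple.mp this
  exact ⟨x, y, z, h.symm⟩

end SymTri

end Groth.Agent.Lib.H79CubK
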