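import Mathlib
import Groth.Agent.Lib.H79CubK2

/-! At most three lines through a point of a smooth cubic surface, all in the tangent plane. -/

namespace Groth.Agent.Lib.H79CubK

namespace SymTri

variable {K : Type*} [Field K] [CharZero K] [IsAlgClosed K]
  {V : Type*} [AddCommGroup V] [Module K V] [FiniteDimensional K V] (S : SymTri K V)

theorem lines_through_point (hdim : Module.finrank K V = 4) (hS : S.Smooth) {v : V} (hv : v ≠ 0)
    (hFv : S.F v = 0) :
    ({U : Submodule K V | v ∈ U ∧ (Module.finrank K ↥U = 2 ∧ ∀ u ∈ U, S.F u = 0)}.Finite ∧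
      {U : Submodule K V | v ∈ U ∧ (Module.finrank K ↥U = 2 ∧ ∀ u ∈ U, S.F u = 0)}.ncard ≤ 3) ∧
    ∃ H : Submodule K V, Module.finrank K ↥H = 3 ∧
      ∀ U : Submodule K V, v ∈ U → (Module.finrank K ↥U = 2 ∧ ∀ u ∈ U, S.F u = 0) → U ≤ H := by
  obtain ⟨w0, hw0⟩ := hS v hv hFv
  obtain ⟨a, b, hla, hlb, hab, li3, hdec⟩ := S.exists_tangent_basis hdim hS hv hFv
  have hline : ∀ U : Submodule K V, v ∈ U → Module.finrank K ↥U = 2 → (∀ u ∈ U, S.F u = 0) →
      ∃ β γ : K, (β • a + γ • b) ∈ U ∧ LinearIndependent K ![v, β • a + γ • b] ∧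
        S.T v (β • a + γ • b) (β • a + γ • b) = 0 ∧ S.F (β • a + γ • b) = 0 ∧
        U ≤ LinearMap.ker (S.T v v) := by
    intro U hvU hU hFU
    obtain ⟨u, huU, hli, hUeq⟩ := exists_gen_of_line hv hU hvU
    have hvan := (S.vanish_on_pair_iff v u).mp (by rw [← hUeq]; exact hFU)
    obtain ⟨x, y, z, hxyz⟩ := hdec u hvan.2.1
    have hu' : y • a + z • b = u - x • v := by rw [hxyz]; abel
    have hmem : y • a + z • b ∈ U := by
      rw [hu']; exact U.sub_mem huU (U.smul_mem x hvU)
    have hli' : LinearIndependent K ![v, y • a + z • b] := by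
      rw [LinearIndependent.pair_iff] at hli ⊢
      intro s t hst
      rw [hu'] at hst
      have h2 : (s - t * x) • v + t • u = 0 := by
        rw [← hst]; module
      obtain ⟨h3, h4⟩ := hli _ _ h2
      refine ⟨?_, h4⟩
      rw [h4] at h3
      simpa using h3
    have hvan' := (S.vanish_on_pair_iff v (y • a + z • b)).mp (by
      intro w hw
      apply hFU
      have : Submodule.span K ({v, y • a + z • b} : Set V) ≤ U := by
        rw [Submodule.span_le]
        intro t ht
        rcases ht with h | h
        · rw [h]; exact hvU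
        · rw [Set.mem_singleton_iff] at h; rw [h]; exact hmem
      exact this hw)
    refine ⟨y, z, hmem, hli', hvan'.2.2.1, hvan'.2.2.2, ?_⟩
    rw [hUeq, Submodule.span_le]
    intro t ht
    rcases ht with h | h
    · rw [h]; exact hFv
    · rw [Set.mem_singleton_iff] at h; rw [h]; exact hvan.2.1
  refine ⟨finite_ncard_le_of_no_embedding _ 3 ?_, LinearMap.ker (S.T v v), ?_, ?_⟩
  · intro U hUinj hUmem
    choose β γ hmem hli hq hg _ using
      fun i => hline (U i) (hUmem i).1 (hUmem i).2.1 (hUmem i).2.2
    have hnp : ∀ i j : Fin 4, i ≠ j → β j * γ i - β i * γ j ≠ 0 := by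
      intro i j hij h0
      apply hij
      apply hUinj
      have hUi : Submodule.span K {v, β i • a + γ i • b} = U i :=
        line_eq_of_mem (hli i) (hUmem i).2.1 (hUmem i).1 (hmem i)
      have e1 : β i • (β j • a + γ j • b) = β j • (β i • a + γ i • b) := by
        have : β i * γ j = β j * γ i := by linear_combination -h0
        rw [smul_add, smul_add, smul_smul, smul_smul, smul_smul, smul_smul, this, mul_comm (β i)]
      have e2 : γ i • (β j • a + γ j • b) = γ j • (β i • a + γ i • b) := by
        have : γ i * β j = γ j * β i := by linear_combination h0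
        rw [smul_add, smul_add, smul_smul, smul_smul, smul_smul, smul_smul, this, mul_comm (γ i)]
      have hne : β i ≠ 0 ∨ γ i ≠ 0 := by
        by_contra hcon
        push Not at hcon
        have := (LinearIndependent.pair_iff.mp (hli i)) 0 1
          (by rw [hcon.1, hcon.2]; simp)
        exact one_ne_zero this.2
      have hj : β j • a + γ j • b ∈ U i := by
        rcases hne with h | h
        · have : β j • a + γ j • b = (β i)⁻¹ • (β j • (β i • a + γ i • b)) := by
            rw [← e1, smul_smul, inv_mul_cancel₀ h, one_smul]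
          rw [this]
          exact (U i).smul_mem _ ((U i).smul_mem _ (hmem i))
        · have : β j • a + γ j • b = (γ i)⁻¹ • (γ j • (β i • a + γ i • b)) := by
            rw [← e2, smul_smul, inv_mul_cancel₀ h, one_smul]
          rw [this]
          exact (U i).smul_mem _ ((U i).smul_mem _ (hmem i))
      have hUj : Submodule.span K {v, β j • a + γ j • b} = U j :=
        line_eq_of_mem (hli j) (hUmem j).2.1 (hUmem j).1 (hmem j)
      rw [← hUj]
      exact (line_eq_of_mem (hli j) (hUmem i).2.1 (hUmem i).1 hj).symm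
    -- the cubic and the quadric vanish on the plane
    have hg' : ∀ i, ![S.F b, 3 * S.T a b b, 3 * S.T a a b, S.F a] 0 * γ i ^ 3
        + ![S.F b, 3 * S.T a b b, 3 * S.T a a b, S.F a] 1 * (β i * γ i ^ 2)
        + ![S.F b, 3 * S.T a b b, 3 * S.T a a b, S.F a] 2 * (β i ^ 2 * γ i)
        + ![S.F b, 3 * S.T a b b, 3 * S.T a a b, S.F a] 3 * β i ^ 3 = 0 := by
      intro i
      have := hg i
      rw [S.F_lin2] at this
      simp only [Matrix.cons_val_zero, Matrix.cons_val_one, Matrix.cons_val_two,
        Matrix.cons_val_three, Matrix.head_cons, Matrix.tail_cons]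
      linear_combination this
    have hq' : ∀ i, ![0, S.T v b b, 2 * S.T v a b, S.T v a a] 0 * γ i ^ 3
        + ![0, S.T v b b, 2 * S.T v a b, S.T v a a] 1 * (β i * γ i ^ 2)
        + ![0, S.T v b b, 2 * S.T v a b, S.T v a a] 2 * (β i ^ 2 * γ i)
        + ![0, S.T v b b, 2 * S.T v a b, S.T v a a] 3 * β i ^ 3 = 0 := by
      intro i
      have := hq i
      simp only [map_add, map_smul, LinearMap.add_apply, LinearMap.smul_apply, smul_eq_mul] at this
      have e1 : S.T v b a = S.T v a b := S.s23 v b a
      rw [e1] at this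
      simp only [Matrix.cons_val_zero, Matrix.cons_val_one, Matrix.cons_val_two,
        Matrix.cons_val_three, Matrix.head_cons, Matrix.tail_cons]
      linear_combination β i * this
    have hgz := binary_cubic_eq_zero _ β γ hnp hg'
    have hqz := binary_cubic_eq_zero _ β γ hnp hq'
    have g0 := congrFun hgz 0
    have g1 := congrFun hgz 1
    have g2 := congrFun hgz 2
    have g3 := congrFun hgz 3
    have q1 := congrFun hqz 1
    have q2 := congrFun hqz 2
    have q3 := congrFun hqz 3
    simp only [Matrix.cons_val_zero, Matrix.cons_val_one, Matrix.cons_val_two,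
      Matrix.cons_val_three, Matrix.head_cons, Matrix.tail_cons, Pi.zero_apply]
      at g0 g1 g2 g3 q1 q2 q3
    have g1' : S.T a b b = 0 := by
      rcases mul_eq_zero.mp g1 with h | h
      · norm_num at h
      · exact h
    have g2' : S.T a a b = 0 := by
      rcases mul_eq_zero.mp g2 with h | h
      · norm_num at h
      · exact h
    have q2' : S.T v a b = 0 := by
      rcases mul_eq_zero.mp q2 with h | h
      · norm_num at h
      · exact h
    apply S.not_vanish_on_ker hS (S.T v v) hw0 hla hlb hab
    intro w hw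
    obtain ⟨x, y, z, rfl⟩ := hdec w hw
    rw [S.F_lin3]
    have e1 : S.T a a v = S.T v a a := by rw [S.s13 a a v]
    have e2 : S.T b b v = S.T v b b := by rw [S.s13 b b v]
    have e3 : S.T b b a = S.T a b b := by rw [S.s13 b b a]
    rw [hFv, g3, g0, hla, hlb, e1, q3, g2', e2, q1, e3, g1', q2']
    ring
  · have := finrank_ker_functional' (S.T v v) hw0
    omega
  · intro U hvU hU
    obtain ⟨_, _, _, _, _, _, h⟩ := hline U hvU hU.1 hU.2
    exact h

end SymTri

end Groth.Agent.Lib.H79CubK
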