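import Mathlib
import Groth.Agent.Lib.H79CubK3

/-! Field-generic Bezout-type lemma and tools for plane sections of cubic surfaces. -/

open MvPolynomial

namespace Groth.Agent.Lib.H79CubK

section Bezout

variable {K : Type*} [Field K] [IsAlgClosed K]

/-- the maximal ideal of the origin in `K[X₀,X₁,X₂]` has height at least 3 -/
theorem height_origin_ge (K : Type*) [Field K] [IsAlgClosed K] :
    (3 : ℕ∞) ≤ (vanishingIdeal K ({0} : Set (Fin 3 → K)) : Ideal (MvPolynomial (Fin 3) K)).height := by
  -- the chain of primes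
  let φ1 : MvPolynomial (Fin 3) K →ₐ[K] MvPolynomial (Fin 2) K := aeval ![0, X 0, X 1]
  let φ2 : MvPolynomial (Fin 3) K →ₐ[K] Polynomial K := aeval ![0, 0, Polynomial.X]
  let ψ : MvPolynomial (Fin 2) K →ₐ[K] Polynomial K := aeval ![0, Polynomial.X]
  have hψ : φ2 = ψ.comp φ1 := by
    apply MvPolynomial.algHom_ext
    intro i
    fin_cases i <;> simp [φ1, φ2, ψ]
  let P1 : Ideal (MvPolynomial (Fin 3) K) := RingHom.ker φ1.toRingHom
  let P2 : Ideal (MvPolynomial (Fin 3) K) := RingHom.ker φ2.toRingHom
  let P3 : Ideal (MvPolynomial (Fin 3) K) := vanishingIdeal K ({0} : Set (Fin 3 → K))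
  have hP1 : P1.IsPrime := RingHom.ker_isPrime _
  have hP2 : P2.IsPrime := RingHom.ker_isPrime _
  have hP3 : P3.IsPrime := inferInstance
  have h01 : (⊥ : Ideal (MvPolynomial (Fin 3) K)) < P1 := by
    rw [bot_lt_iff_ne_bot]
    intro h
    have : (X 0 : MvPolynomial (Fin 3) K) ∈ P1 := by
      change φ1 (X 0) = 0
      simp [φ1]
    rw [h] at this
    exact X_ne_zero 0 this
  have h12 : P1 < P2 := by
    refine lt_of_le_of_ne ?_ ?_
    · intro p hp
      change φ2 p = 0
      rw [hψ, AlgHom.comp_apply]
      have : φ1 p = 0 := hp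
      rw [this, map_zero]
    · intro h
      have h1 : (X 1 : MvPolynomial (Fin 3) K) ∈ P2 := by
        change φ2 (X 1) = 0
        simp [φ2]
      rw [← h] at h1
      have : φ1 (X 1) = 0 := h1
      simp [φ1] at this
  have h23 : P2 < P3 := by
    refine lt_of_le_of_ne ?_ ?_
    · intro p hp
      rw [mem_vanishingIdeal_singleton_iff]
      have h0 : (aeval (0 : Fin 3 → K) : MvPolynomial (Fin 3) K →ₐ[K] K)
          = (Polynomial.aeval (0:K)).comp φ2 := by
        apply MvPolynomial.algHom_ext
        intro i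
        fin_cases i <;> simp [φ2]
      rw [h0, AlgHom.comp_apply]
      have : φ2 p = 0 := hp
      rw [this, map_zero]
    · intro h
      have h1 : (X 2 : MvPolynomial (Fin 3) K) ∈ P3 := by
        rw [mem_vanishingIdeal_singleton_iff]; simp
      rw [← h] at h1
      have : φ2 (X 2) = 0 := h1
      simp [φ2] at this
  have e1 := Ideal.height_add_one_le_of_lt_of_isPrime h12
  have e2 := Ideal.height_add_one_le_of_lt_of_isPrime h23
  have e0 : (⊥ : Ideal (MvPolynomial (Fin 3) K)).height + 1 ≤ P1.height :=
    Ideal.height_add_one_le_of_lt_of_isPrime h01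
  have e00 : (1 : ℕ∞) ≤ P1.height := le_trans (by simp) e0
  have e11 : (2 : ℕ∞) ≤ P2.height := by
    calc (2 : ℕ∞) = 1 + 1 := by norm_num
      _ ≤ P1.height + 1 := by gcongr
      _ ≤ P2.height := e1
  calc (3 : ℕ∞) = 2 + 1 := by norm_num
    _ ≤ P2.height + 1 := by gcongr
    _ ≤ P3.height := e2

/-- two polynomials in three variables vanishing at the origin have a common nonzero zero -/
theorem exists_common_zero (f g : MvPolynomial (Fin 3) K) (hf0 : eval 0 f = 0)
    (hg0 : eval 0 g = 0) : ∃ v : Fin 3 → K, v ≠ 0 ∧ eval v f = 0 ∧ eval v g = 0 := by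
  classical
  by_contra hno
  push Not at hno
  set I : Ideal (MvPolynomial (Fin 3) K) := Ideal.span (({f, g} : Finset _) : Set _) with hI
  set m : Ideal (MvPolynomial (Fin 3) K) := vanishingIdeal K ({0} : Set (Fin 3 → K)) with hm
  have hZ : zeroLocus K I = {0} := by
    ext v
    rw [hI, zeroLocus_span]
    simp only [Finset.coe_insert, Finset.coe_singleton, Set.mem_insert_iff,
      Set.mem_singleton_iff, forall_eq_or_imp, forall_eq, Set.mem_setOf_eq]
    constructor
    · rintro ⟨h1, h2⟩
      by_contra hv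
      exact hno v hv (by simpa using h1) (by simpa using h2)
    · rintro rfl
      exact ⟨by simpa using hf0, by simpa using hg0⟩
  have hrad : I.radical = m := by
    rw [← vanishingIdeal_zeroLocus_eq_radical (K := K), hZ]
  have hmmax : m.IsMaximal := inferInstance
  have hmin : m ∈ I.minimalPrimes := by
    refine ⟨⟨hmmax.isPrime, ?_⟩, ?_⟩
    · rw [← hrad]; exact Ideal.le_radical
    · rintro q ⟨hq, hIq⟩ hqm
      have : m ≤ q := by
        rw [← hrad]
        exact hq.radical_le_iff.mpr hIq
      exact this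
  have h2 := Ideal.height_le_card_of_mem_minimalPrimes_span_finset hmin
  have h3 := height_origin_ge K
  have hcard : (({f, g} : Finset (MvPolynomial (Fin 3) K)).card : ℕ∞) ≤ 2 := by
    exact_mod_cast Finset.card_le_two
  have : (3 : ℕ∞) ≤ 2 := h3.trans (h2.trans hcard)
  exact absurd this (by decide)


end Bezout

section Subst

variable {K : Type*} [Field K]

theorem eval_aeval_subst_rect {m n : ℕ} (A : Matrix (Fin m) (Fin n) K) (f : MvPolynomial (Fin m) K)
    (v : Fin n → K) :
    eval v (aeval (fun i : Fin m => ∑ j : Fin n, C (A i j) * X j) f) = eval (A.mulVec v) f := by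
  induction f using MvPolynomial.induction_on with
  | C a => simp
  | add p q hp hq => rw [map_add, map_add, map_add, hp, hq]
  | mul_X p k hp =>
    simp only [map_mul, hp, aeval_X, eval_X, map_sum, eval_C]
    rfl

theorem isHomogeneous_subst {m n : ℕ} (A : Matrix (Fin m) (Fin n) K) {f : MvPolynomial (Fin m) K}
    {d : ℕ} (hf : f.IsHomogeneous d) :
    (aeval (fun i : Fin m => ∑ j : Fin n, C (A i j) * X j) f).IsHomogeneous d := by
  have := hf.aeval (fun i : Fin m => ∑ j : Fin n, C (A i j) * X j) (n := 1)
    (fun i => IsHomogeneous.sum _ _ _ (fun j _ => isHomogeneous_C_mul_X _ _))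
  simpa using this

variable [CharZero K]

/-- restriction of a cubic form along a linear map: the trilinear forms correspond -/
theorem SymTri.T_map_of_F_map' {V V' : Type*} [AddCommGroup V] [Module K V] [AddCommGroup V']
    [Module K V'] (S : SymTri K V) (S' : SymTri K V') (φ : V' →ₗ[K] V)
    (h : ∀ v, S'.F v = S.F (φ v)) (u v w : V') :
    S'.T u v w = S.T (φ u) (φ v) (φ w) := by
  have h1 := S.polarization (φ u) (φ v) (φ w)
  have h2 := S'.polarization u v w
  rw [← map_add, ← map_add, ← map_add, ← map_add, ← h, ← h, ← h, ← h, ← h, ← h, ← h] at h1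
  have : 6 * S'.T u v w = 6 * S.T (φ u) (φ v) (φ w) := by
    rw [h1, h2]
  exact mul_left_cancel₀ (by norm_num) this

/-- a univariate lemma: `G² H = c X³` with `G(0) ≠ 0` forces `G` constant -/
theorem univ_aux (G H : Polynomial K) (c0 : K) (hc0 : c0 ≠ 0) (h0 : G.eval 0 ≠ 0)
    (hGH : G * G * H = Polynomial.C c0 * Polynomial.X ^ 3) (t : K) : G.eval t = G.eval 0 := by
  have hX : ¬ (Polynomial.X ∣ G) := by
    rw [Polynomial.X_dvd_iff, Polynomial.coeff_zero_eq_eval_zero]; exact h0
  have h1 : Polynomial.X ^ 3 ∣ G * (G * H) := ⟨Polynomial.C c0, by rw [← mul_assoc, hGH]; ring⟩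
  have h2 := Polynomial.prime_X.pow_dvd_of_dvd_mul_left 3 hX h1
  have h3 := Polynomial.prime_X.pow_dvd_of_dvd_mul_left 3 hX h2
  obtain ⟨H', rfl⟩ := h3
  have h4 : G * G * H' = Polynomial.C c0 := by
    have : Polynomial.X ^ 3 * (G * G * H') = Polynomial.X ^ 3 * Polynomial.C c0 := by
      rw [mul_comm _ (Polynomial.C c0), ← hGH]; ring
    exact mul_left_cancel₀ (pow_ne_zero 3 Polynomial.X_ne_zero) this
  have hu : IsUnit G :=
    isUnit_of_dvd_unit ⟨G * H', by rw [← h4]; ring⟩ (Polynomial.isUnit_C.mpr hc0.isUnit)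
  obtain ⟨a, _, rfl⟩ := Polynomial.isUnit_iff.mp hu
  simp

/-- restriction of a multivariate polynomial to the line through the origin and `y` -/
noncomputable def lineRes {n : ℕ} (y : Fin n → K) : MvPolynomial (Fin n) K →ₐ[K] Polynomial K :=
  aeval (fun i => Polynomial.C (y i) * Polynomial.X)

theorem eval_lineRes {n : ℕ} (y : Fin n → K) (p : MvPolynomial (Fin n) K) (t : K) :
    (lineRes y p).eval t = eval (t • y) p := by
  unfold lineRes
  induction p using MvPolynomial.induction_on with
  | C a => simp
  | add p q hp hq => rw [map_add, map_add, Polynomial.eval_add, hp, hq]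
  | mul_X p k hp =>
    simp only [map_mul, hp, aeval_X, eval_X, Polynomial.eval_mul, Polynomial.eval_C,
      Polynomial.eval_X, Pi.smul_apply, smul_eq_mul]
    ring

/-- a non-unit whose square divides a nonzero homogeneous cubic vanishes at the origin -/
theorem eval_zero_of_sq_dvd {n : ℕ} {f g h : MvPolynomial (Fin n) K} (hf : f.IsHomogeneous 3)
    (hf0 : f ≠ 0) (hfg : f = g * g * h) (hg : ¬ IsUnit g) : eval 0 g = 0 := by
  by_contra hc
  apply hg
  have key : ∀ y : Fin n → K, eval y ((g - C (eval 0 g)) * f) = eval y 0 := by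
    intro y
    rw [map_zero, map_mul]
    by_cases hy : eval y f = 0
    · rw [hy, mul_zero]
    · have hres : lineRes y f = Polynomial.C (eval y f) * Polynomial.X ^ 3 := by
        apply Polynomial.funext
        intro t
        rw [eval_lineRes, Polynomial.eval_mul, Polynomial.eval_C, Polynomial.eval_pow,
          Polynomial.eval_X, ← symTri_F hf, ← symTri_F hf, SymTri.F_smul]
        ring
      have h1 : lineRes y g * lineRes y g * lineRes y h
          = Polynomial.C (eval y f) * Polynomial.X ^ 3 := by
        rw [← hres, hfg, map_mul, map_mul]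
      have h0 : (lineRes y g).eval 0 ≠ 0 := by
        rw [eval_lineRes, zero_smul]; exact hc
      have := univ_aux _ _ _ hy h0 h1 1
      rw [eval_lineRes, eval_lineRes, one_smul, zero_smul] at this
      rw [map_sub, eval_C, this, sub_self, zero_mul]
  have h2 : (g - C (eval 0 g)) * f = 0 := MvPolynomial.funext key
  rcases mul_eq_zero.mp h2 with h | h
  · have : g = C (eval 0 g) := sub_eq_zero.mp h
    rw [this]
    exact (Ne.isUnit hc).map C
  · exact absurd h hf0

end Subst

end Groth.Agent.Lib.H79CubK
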