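import Mathlib
import Groth.Agent.Lib.H79CubK4

/-! Plane sections of a smooth cubic surface are reduced. -/

open MvPolynomial

namespace Groth.Agent.Lib.H79CubK

variable {K : Type*} [Field K] [CharZero K] [IsAlgClosed K]

theorem vec_eq_sum_single {n : ℕ} (v : Fin n → K) :
    v = ∑ i, v i • (Pi.single i (1:K) : Fin n → K) := by
  funext j
  simp [Finset.sum_apply, Pi.single_apply]

theorem squarefree_plane_section (f : MvPolynomial (Fin 4) K) (hf : f.IsHomogeneous 3)
    (hsm : ∀ v : Fin 4 → K, v ≠ 0 → eval v f = 0 → ∃ i : Fin 4, eval v (pderiv i f) ≠ 0)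
    (A : Matrix (Fin 4) (Fin 3) K) (hA : A.rank = 3) :
    Squarefree (aeval (fun i : Fin 4 => ∑ j : Fin 3, C (A i j) * X j) f) := by
  classical
  obtain ⟨f', hf'def⟩ : ∃ f' : MvPolynomial (Fin 3) K,
      f' = aeval (fun i : Fin 4 => ∑ j : Fin 3, C (A i j) * X j) f := ⟨_, rfl⟩
  rw [← hf'def]
  have hf' : f'.IsHomogeneous 3 := by rw [hf'def]; exact isHomogeneous_subst A hf
  have hS : (symTri f).Smooth := symTri_smooth hf hsm
  have hFF : ∀ y, (symTri f').F y = (symTri f).F (A.mulVecLin y) := by
    intro y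
    rw [symTri_F hf', symTri_F hf, hf'def, eval_aeval_subst_rect]
    rfl
  have hTT := SymTri.T_map_of_F_map' (symTri f) (symTri f') A.mulVecLin hFF
  have hdim : Module.finrank K (Fin 4 → K) = 4 := by simp
  have hrange : Module.finrank K ↥(LinearMap.range A.mulVecLin) = 3 := hA
  have hinj : Function.Injective A.mulVecLin := by
    have h1 := LinearMap.finrank_range_add_finrank_ker A.mulVecLin
    rw [hrange] at h1
    have h2 : Module.finrank K (Fin 3 → K) = 3 := by simp
    rw [h2] at h1
    have h3 : Module.finrank K ↥(LinearMap.ker A.mulVecLin) = 0 := by omega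
    rw [← LinearMap.ker_eq_bot]
    exact Submodule.finrank_eq_zero.mp h3
  have hne : LinearMap.range A.mulVecLin < ⊤ := by
    rw [lt_top_iff_ne_top]
    intro h
    rw [h, finrank_top, hdim] at hrange
    omega
  obtain ⟨lam, hlam0, hle⟩ := Submodule.exists_le_ker_of_lt_top _ hne
  obtain ⟨w0, hw0⟩ : ∃ w0, lam w0 ≠ 0 := by
    by_contra h
    push Not at h
    exact hlam0 (LinearMap.ext h)
  have hker : LinearMap.ker lam = LinearMap.range A.mulVecLin := by
    symm
    apply Submodule.eq_of_le_of_finrank_eq hle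
    have := finrank_ker_functional' lam hw0
    omega
  have hrep : ∀ w, lam w = 0 → ∃ y, A.mulVecLin y = w := by
    intro w hw
    have : w ∈ LinearMap.range A.mulVecLin := by rw [← hker]; exact hw
    exact this
  by_contra hnsq
  unfold Squarefree at hnsq
  push Not at hnsq
  obtain ⟨g, ⟨h, hgh⟩, hg⟩ := hnsq
  by_cases hf'0 : f' = 0
  · obtain ⟨a, b, ha, _, hb, _, hab⟩ := SymTri.exists_pair_in_ker2 hdim lam lam
    apply (symTri f).not_vanish_on_ker hS lam hw0 ha hb hab
    intro w hw
    obtain ⟨y, rfl⟩ := hrep w hw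
    rw [← hFF, symTri_F hf', hf'0, map_zero]
  · have g0 : eval 0 g = 0 := eval_zero_of_sq_dvd hf' hf'0 hgh hg
    obtain ⟨Q, hQ⟩ : ∃ Q : MvPolynomial (Fin 3) K, Q = ∑ i : Fin 4, C (w0 i) *
        aeval (fun i : Fin 4 => ∑ j : Fin 3, C (A i j) * X j) (pderiv i f) := ⟨_, rfl⟩
    have hQeval : ∀ y, eval y Q = 3 * (symTri f).T (A.mulVecLin y) (A.mulVecLin y) w0 := by
      intro y
      rw [hQ, map_sum]
      have hw0sum := vec_eq_sum_single w0
      conv_rhs => rw [hw0sum]
      rw [map_sum, Finset.mul_sum]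
      apply Finset.sum_congr rfl
      intro i _
      rw [map_mul, eval_C, eval_aeval_subst_rect, eval_pderiv_eq_triFun hf, map_smul, smul_eq_mul]
      have : (symTri f).T (A.mulVecLin y) (A.mulVecLin y) (Pi.single i 1)
          = triFun f (A.mulVec y) (A.mulVec y) (Pi.single i 1) := rfl
      rw [this]
      ring
    have Q0 : eval 0 Q = 0 := by
      rw [hQeval, map_zero]
      simp
    obtain ⟨y, hy0, hgy, hQy⟩ := exists_common_zero g Q g0 Q0
    obtain ⟨p, hp⟩ : ∃ p, p = A.mulVecLin y := ⟨_, rfl⟩
    have hp0 : p ≠ 0 := by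
      rw [hp]
      intro h
      apply hy0
      apply hinj
      rw [h, map_zero]
    have hFp : (symTri f).F p = 0 := by
      rw [hp, ← hFF, symTri_F hf', hgh, map_mul, map_mul, hgy]
      ring
    have hTw0 : (symTri f).T p p w0 = 0 := by
      have := hQeval y
      rw [hQy, ← hp] at this
      have h3 : (3 : K) ≠ 0 := by norm_num
      exact (mul_eq_zero.mp this.symm).resolve_left h3
    have hTy : ∀ z, (symTri f').T y y z = 0 := by
      intro z
      have hz := vec_eq_sum_single z
      rw [hz, map_sum]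
      apply Finset.sum_eq_zero
      intro j _
      rw [map_smul, smul_eq_mul]
      have h1 := eval_pderiv_eq_triFun hf' y j
      have h2 : (symTri f').T y y (Pi.single j 1) = triFun f' y y (Pi.single j 1) := rfl
      rw [h2]
      have h3 : eval y (pderiv j f') = 0 := by
        rw [hgh]
        simp only [Derivation.leibniz, smul_eq_mul, map_add, map_mul, hgy]
        ring
      rw [h3] at h1
      have h4 : (3 : K) ≠ 0 := by norm_num
      rw [(mul_eq_zero.mp h1.symm).resolve_left h4, mul_zero]
    obtain ⟨w, hw⟩ := hS p hp0 hFp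
    apply hw
    have hdecomp : w = (w - (lam w / lam w0) • w0) + (lam w / lam w0) • w0 := by module
    rw [hdecomp, map_add, map_smul, hTw0, smul_zero, add_zero]
    have hk : lam (w - (lam w / lam w0) • w0) = 0 := by
      rw [map_sub, map_smul, smul_eq_mul]
      field_simp
      ring
    obtain ⟨z, hz⟩ := hrep _ hk
    rw [← hz, hp, ← hTT, hTy]

end Groth.Agent.Lib.H79CubK
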