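import Mathlib
import Groth.Agent.Lib.H79CubK5

/-! Helper lemmas: factorisation of binary forms, linear forms as polynomials,
polynomials vanishing on a hyperplane. -/

open MvPolynomial

namespace Groth.Agent.Lib.H79CubK

variable {K : Type*} [Field K]

theorem li3_coeff {V : Type*} [AddCommGroup V] [Module K V] {a b c : V}
    (h : LinearIndependent K ![a, b, c]) {s t r : K} (h0 : s • a + t • b + r • c = 0) :
    s = 0 ∧ t = 0 ∧ r = 0 := by
  have := Fintype.linearIndependent_iff.mp h ![s, t, r] (by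
    rw [Fin.sum_univ_three]
    simpa using h0)
  exact ⟨this 0, this 1, this 2⟩

section AlgClosed

variable [IsAlgClosed K]

theorem cubic_three_roots (c0 c1 c2 c3 : K) (h0 : c0 ≠ 0) :
    ∃ x y z : K, c1 = c0 * -(x + y + z) ∧ c2 = c0 * (x * y + x * z + y * z) ∧
      c3 = c0 * -(x * y * z) := by
  let P : Cubic K := ⟨c0, c1, c2, c3⟩
  have ha : P.a ≠ 0 := h0
  have hs : (P.toPoly.map (RingHom.id K)).Splits := IsAlgClosed.splits _
  obtain ⟨x, y, z, h3⟩ := (Cubic.splits_iff_roots_eq_three ha).mp hs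
  refine ⟨x, y, z, ?_, ?_, ?_⟩
  · simpa using Cubic.b_eq_three_roots ha h3
  · simpa using Cubic.c_eq_three_roots ha h3
  · simpa using Cubic.d_eq_three_roots ha h3

variable [CharZero K]

/-- a binary quadratic form is a product of two linear forms -/
theorem binary_quadratic_factor (A B C : K) :
    ∃ α1 β1 α2 β2 : K,
      (∀ y z : K, A * y ^ 2 + B * (y * z) + C * z ^ 2 = (α1 * y + β1 * z) * (α2 * y + β2 * z)) ∧
      ((A ≠ 0 ∨ B ≠ 0 ∨ C ≠ 0) → (α1 ≠ 0 ∨ β1 ≠ 0) ∧ (α2 ≠ 0 ∨ β2 ≠ 0)) := by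
  by_cases hA : A = 0
  · refine ⟨0, 1, B, C, ?_, ?_⟩
    · intro y z; rw [hA]; ring
    · intro h
      refine ⟨Or.inr one_ne_zero, ?_⟩
      rcases h with h | h | h
      · exact absurd hA h
      · exact Or.inl h
      · exact Or.inr h
  · obtain ⟨d, hd⟩ := IsAlgClosed.exists_pow_nat_eq (B ^ 2 - 4 * A * C) (n := 2) (by norm_num)
    refine ⟨A, -(A * ((-B + d) / (2 * A))), 1, -((-B - d) / (2 * A)), ?_, ?_⟩
    · intro y z
      field_simp
      linear_combination (z ^ 2) * hd
    · intro _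
      exact ⟨Or.inl hA, Or.inl one_ne_zero⟩

/-- a binary cubic form is a product of three linear forms -/
theorem binary_cubic_factor (c3 c2 c1 c0 : K) :
    ∃ α β : Fin 3 → K, ∀ y z : K,
      c3 * y ^ 3 + c2 * (y ^ 2 * z) + c1 * (y * z ^ 2) + c0 * z ^ 3 = ∏ i, (α i * y + β i * z) := by
  by_cases h3 : c3 = 0
  · obtain ⟨α1, β1, α2, β2, hfac, -⟩ := binary_quadratic_factor c2 c1 c0
    refine ⟨![0, α1, α2], ![1, β1, β2], ?_⟩
    intro y z
    rw [Fin.prod_univ_three]
    simp only [Matrix.cons_val_zero, Matrix.cons_val_one, Matrix.cons_val_two,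
      Matrix.head_cons, Matrix.tail_cons]
    rw [mul_assoc, ← hfac y z, h3]
    ring
  · obtain ⟨r1, r2, r3, e2, e1, e0⟩ := cubic_three_roots c3 c2 c1 c0 h3
    refine ⟨![c3, 1, 1], ![-(c3 * r1), -r2, -r3], ?_⟩
    intro y z
    rw [Fin.prod_univ_three]
    simp only [Matrix.cons_val_zero, Matrix.cons_val_one, Matrix.cons_val_two,
      Matrix.head_cons, Matrix.tail_cons]
    rw [e2, e1, e0]
    ring

end AlgClosed

/-- the polynomial of a linear functional -/
noncomputable def linPoly {n : ℕ} (φ : (Fin n → K) →ₗ[K] K) : MvPolynomial (Fin n) K :=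
  ∑ j : Fin n, C (φ (Pi.single j 1)) * X j

theorem eval_linPoly {n : ℕ} (φ : (Fin n → K) →ₗ[K] K) (x : Fin n → K) :
    eval x (linPoly φ) = φ x := by
  have hx : x = ∑ i, x i • (Pi.single i (1:K) : Fin n → K) := by
    funext j
    simp [Finset.sum_apply, Pi.single_apply]
  conv_rhs => rw [hx]
  rw [linPoly, map_sum, map_sum]
  apply Finset.sum_congr rfl
  intro j _
  rw [map_mul, eval_C, eval_X, map_smul, smul_eq_mul, mul_comm]

theorem isHomogeneous_linPoly {n : ℕ} (φ : (Fin n → K) →ₗ[K] K) :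
    (linPoly φ).IsHomogeneous 1 :=
  IsHomogeneous.sum _ _ _ (fun j _ => isHomogeneous_C_mul_X _ _)

/-- a linear polynomial with a nonzero coefficient is prime -/
theorem prime_of_linear {n : ℕ} {l : MvPolynomial (Fin n) K} (hl : l.IsHomogeneous 1) (hl0 : l ≠ 0) :
    Prime l := by
  rw [← irreducible_iff_prime]
  have hdeg : l.totalDegree = 1 := hl.totalDegree hl0
  refine ⟨?_, ?_⟩
  · intro hu
    obtain ⟨c, hc, rfl⟩ := MvPolynomial.isUnit_iff_eq_C_of_isReduced.mp hu
    simp at hdeg
  · intro p q hpq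
    have hp0 : p ≠ 0 := by rintro rfl; rw [zero_mul] at hpq; exact hl0 hpq
    have hq0 : q ≠ 0 := by rintro rfl; rw [mul_zero] at hpq; exact hl0 hpq
    have hsum := totalDegree_mul_of_isDomain hp0 hq0
    rw [← hpq, hdeg] at hsum
    have : p.totalDegree = 0 ∨ q.totalDegree = 0 := by omega
    rcases this with h | h
    · left
      rw [totalDegree_eq_zero_iff_eq_C] at h
      rw [h]
      apply IsUnit.map C
      apply Ne.isUnit
      intro h0
      rw [h0, map_zero] at h
      exact hp0 h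
    · right
      rw [totalDegree_eq_zero_iff_eq_C] at h
      rw [h]
      apply IsUnit.map C
      apply Ne.isUnit
      intro h0
      rw [h0, map_zero] at h
      exact hq0 h

/-- a polynomial vanishing on the zero set of a nonzero linear form is a multiple of it -/
theorem mem_span_of_vanish [IsAlgClosed K] {n : ℕ} {l G : MvPolynomial (Fin n) K}
    (hl : l.IsHomogeneous 1) (hl0 : l ≠ 0) (hG : ∀ x : Fin n → K, eval x l = 0 → eval x G = 0) :
    G ∈ Ideal.span ({l} : Set (MvPolynomial (Fin n) K)) := by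
  have hprime : (Ideal.span ({l} : Set (MvPolynomial (Fin n) K))).IsPrime :=
    (Ideal.span_singleton_prime hl0).mpr (prime_of_linear hl hl0)
  rw [← hprime.radical, ← vanishingIdeal_zeroLocus_eq_radical (K := K)]
  rw [mem_vanishingIdeal_iff]
  intro x hx
  rw [zeroLocus_span] at hx
  have := hx l (Set.mem_singleton l)
  rw [aeval_eq_eval] at this ⊢
  exact hG x this

end Groth.Agent.Lib.H79CubK
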