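import Mathlib
import Groth.Agent.Lib.H79CubK6

/-! The polar quadric of a smooth non-T-point cuts the tangent plane in two lines. -/

open MvPolynomial

namespace Groth.Agent.Lib.H79CubK

variable {K : Type*} [Field K] [CharZero K]

namespace SymTri

variable {V : Type*} [AddCommGroup V] [Module K V] [FiniteDimensional K V] (S : SymTri K V)

/-- basis of the tangent plane adapted to the point (only smoothness at the point needed) -/
theorem exists_tangent_basis' (hdim : Module.finrank K V = 4) {v w0 : V} (hv : v ≠ 0)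
    (hFv : S.F v = 0) (hw0 : S.T v v w0 ≠ 0) :
    ∃ a b : V, S.T v v a = 0 ∧ S.T v v b = 0 ∧ LinearIndependent K ![a, b] ∧
      LinearIndependent K ![v, a, b] ∧
      ∀ u, S.T v v u = 0 → ∃ x y z : K, u = x • v + y • a + z • b := by
  obtain ⟨μ, hμ⟩ : ∃ μ : Module.Dual K V, μ v ≠ 0 := by
    by_contra h
    push Not at h
    exact hv ((Module.forall_dual_apply_eq_zero_iff K v).mp h)
  obtain ⟨a, b, hla, hμa, hlb, hμb, hab⟩ := exists_pair_in_ker2 hdim (S.T v v) μ
  have hvab : v ∉ Submodule.span K ({a, b} : Set V) := by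
    intro h
    obtain ⟨s, t, hst⟩ := Submodule.mem_span_pair.mp h
    have := congrArg μ hst
    rw [map_add, map_smul, map_smul, hμa, hμb] at this
    apply hμ
    rw [← this]; simp
  have li3 : LinearIndependent K ![v, a, b] := li_triple hab hvab
  have hK := finrank_ker_functional' (S.T v v) hw0
  rw [hdim] at hK
  have hKeq : Submodule.span K ({v, a, b} : Set V) = LinearMap.ker (S.T v v) := by
    apply Submodule.eq_of_le_of_finrank_eq
    · rw [Submodule.span_le]
      intro z hz
      rcases hz with h | h | h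
      · rw [h]; exact hFv
      · rw [h]; exact hla
      · rw [Set.mem_singleton_iff] at h
        rw [h]; exact hlb
    · rw [finrank_span_triple_of_li li3]; omega
  refine ⟨a, b, hla, hlb, hab, li3, ?_⟩
  intro u hu
  have : u ∈ Submodule.span K ({v, a, b} : Set V) := by rw [hKeq]; exact hu
  obtain ⟨x, y, z, h⟩ := Submodule.mem_span_triple.mp this
  exact ⟨x, y, z, h.symm⟩

end SymTri

variable [IsAlgClosed K]

theorem tangent_polar_lines (F : MvPolynomial (Fin 4) K) (hF : F.IsHomogeneous 3)
    (a : Fin 4 → K) (ha : a ≠ 0) (hFa : eval a F = 0)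
    (hsm : ∃ i : Fin 4, eval a (pderiv i F) ≠ 0)
    (ℓ : MvPolynomial (Fin 4) K)
    (hℓ : ℓ = ∑ i : Fin 4, C (eval a (pderiv i F)) * X i)
    (hT : ¬ ∃ L₁ L₂ L₃ : MvPolynomial (Fin 4) K, L₁.IsHomogeneous 1 ∧ L₂.IsHomogeneous 1 ∧
      L₃.IsHomogeneous 1 ∧ F - L₁ * L₂ * L₃ ∈ Ideal.span {ℓ})
    (P : MvPolynomial (Fin 4) K) (hP : P = ∑ i : Fin 4, a i • pderiv i F)
    (H : Submodule K (Fin 4 → K)) (hH : ∀ x : Fin 4 → K, x ∈ H ↔ eval x ℓ = 0) :
    (∃ U₁ U₂ : Submodule K (Fin 4 → K), Module.finrank K ↥U₁ = 2 ∧ Module.finrank K ↥U₂ = 2 ∧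
        a ∈ U₁ ∧ a ∈ U₂ ∧ U₁ ≤ H ∧ U₂ ≤ H ∧
        {x : Fin 4 → K | x ∈ H ∧ eval x P = 0} = (U₁ : Set (Fin 4 → K)) ∪ (U₂ : Set (Fin 4 → K))) ∧
      ∀ U : Submodule K (Fin 4 → K), a ∈ U → Module.finrank K ↥U = 2 →
        (∀ u ∈ U, eval u F = 0) → U ≤ H ∧ ∀ u ∈ U, eval u P = 0 := by
  classical
  obtain ⟨S, hSdef⟩ : ∃ S, S = symTri F := ⟨_, rfl⟩
  have hSF : ∀ x, S.F x = eval x F := by intro x; rw [hSdef]; exact symTri_F hF x
  have hTe : ∀ x (i : Fin 4), eval x (pderiv i F) = 3 * S.T x x (Pi.single i 1) := by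
    intro x i
    rw [eval_pderiv_eq_triFun hF, hSdef]; rfl
  have hevalℓ : ∀ x, eval x ℓ = 3 * S.T a a x := by
    intro x
    have hx := vec_eq_sum_single x
    conv_rhs => rw [hx]
    rw [hℓ, map_sum, map_sum, Finset.mul_sum]
    apply Finset.sum_congr rfl
    intro i _
    rw [map_mul, eval_C, eval_X, hTe, map_smul, smul_eq_mul]
    ring
  have hevalP : ∀ x, eval x P = 3 * S.T x x a := by
    intro x
    have hx := vec_eq_sum_single a
    conv_rhs => rw [hx]
    rw [hP, map_sum, map_sum, Finset.mul_sum]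
    apply Finset.sum_congr rfl
    intro i _
    rw [smul_eval, hTe, map_smul, smul_eq_mul]
    ring
  have h3 : (3 : K) ≠ 0 := by norm_num
  have hFa' : S.F a = 0 := by rw [hSF]; exact hFa
  obtain ⟨w0, hw0⟩ : ∃ w0, S.T a a w0 ≠ 0 := by
    obtain ⟨i, hi⟩ := hsm
    refine ⟨Pi.single i 1, ?_⟩
    intro h
    apply hi
    rw [hTe, h, mul_zero]
  have hHker : ∀ x, x ∈ H ↔ S.T a a x = 0 := by
    intro x
    rw [hH, hevalℓ]
    constructor
    · intro h; exact (mul_eq_zero.mp h).resolve_left h3
    · intro h; rw [h, mul_zero]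
  have hdim : Module.finrank K (Fin 4 → K) = 4 := by simp
  obtain ⟨b, c, hlb, hlc, hbc, li3, hdec⟩ := S.exists_tangent_basis' hdim ha hFa' hw0
  have haH : a ∈ H := (hHker a).mpr hFa'
  have hbH : b ∈ H := (hHker b).mpr hlb
  have hcH : c ∈ H := (hHker c).mpr hlc
  -- part (2)
  refine ⟨?_, ?_⟩
  swap
  · intro U haU hU hFU
    obtain ⟨u, huU, hli, hUeq⟩ := exists_gen_of_line ha hU haU
    have hvan := (S.vanish_on_pair_iff a u).mp (by
      rw [← hUeq]; intro w hw; rw [hSF]; exact hFU w hw)
    refine ⟨?_, ?_⟩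
    · rw [hUeq, Submodule.span_le]
      intro t ht
      rcases ht with h | h
      · rw [h]; exact haH
      · rw [Set.mem_singleton_iff] at h; rw [h]; exact (hHker u).mpr hvan.2.1
    · intro w hw
      rw [hUeq] at hw
      obtain ⟨s, t, rfl⟩ := Submodule.mem_span_pair.mp hw
      rw [hevalP]
      have e1 : S.T a u a = S.T a a u := S.s23 a u a
      have e2 : S.T u a a = S.T a a u := by rw [S.s12 u a a, e1]
      have e3 : S.T u u a = S.T a u u := S.s13 u u a
      have e4 : S.T a a a = 0 := hFa'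
      simp only [map_add, map_smul, LinearMap.add_apply, LinearMap.smul_apply, smul_eq_mul]
      rw [e1, e2, e3, e4, hvan.2.1, hvan.2.2.1]
      ring
  -- part (1)
  have e_aaa : S.T a a a = 0 := hFa'
  have e_aba : S.T a b a = 0 := by rw [S.s23 a b a]; exact hlb
  have e_baa : S.T b a a = 0 := by rw [S.s12 b a a]; exact e_aba
  have e_aca : S.T a c a = 0 := by rw [S.s23 a c a]; exact hlc
  have e_caa : S.T c a a = 0 := by rw [S.s12 c a a]; exact e_aca
  have e_bba : S.T b b a = S.T a b b := S.s13 b b a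
  have e_bca : S.T b c a = S.T a b c := (S.rot a b c).symm
  have e_cba : S.T c b a = S.T a b c := S.s13 c b a
  have e_cca : S.T c c a = S.T a c c := S.s13 c c a
  have hq : ∀ x y z : K, S.T (x • a + y • b + z • c) (x • a + y • b + z • c) a
      = S.T a b b * y ^ 2 + (2 * S.T a b c) * (y * z) + S.T a c c * z ^ 2 := by
    intro x y z
    simp only [map_add, map_smul, LinearMap.add_apply, LinearMap.smul_apply, smul_eq_mul]
    rw [e_aaa, e_aba, e_baa, e_aca, e_caa, e_bba, e_bca, e_cba, e_cca]
    ring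
  by_cases hqz : S.T a b b = 0 ∧ S.T a b c = 0 ∧ S.T a c c = 0
  · -- T-point: contradiction
    exfalso
    apply hT
    obtain ⟨qbb, qbc, qcc⟩ := hqz
    -- basis of the whole space
    have hw0span : w0 ∉ Submodule.span K (Set.range ![a, b, c]) := by
      intro h
      have hle : Submodule.span K (Set.range ![a, b, c]) ≤ LinearMap.ker (S.T a a) := by
        rw [Submodule.span_le]
        rintro t ⟨i, rfl⟩
        fin_cases i
        · exact hFa'
        · exact hlb
        · exact hlc
      exact hw0 (hle h)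
    have li4 : LinearIndependent K (Fin.cons w0 ![a, b, c] : Fin 4 → (Fin 4 → K)) :=
      li3.finCons hw0span
    let B := basisOfLinearIndependentOfCardEqFinrank li4 (by simp)
    have hB : ∀ i, B i = (Fin.cons w0 ![a, b, c] : Fin 4 → (Fin 4 → K)) i := by
      intro i
      rw [coe_basisOfLinearIndependentOfCardEqFinrank]
    have hBa : B 1 = a := by rw [hB]; rfl
    have hBb : B 2 = b := by rw [hB]; rfl
    have hBc : B 3 = c := by rw [hB]; rfl
    let η : (Fin 4 → K) →ₗ[K] K := B.coord 2
    let ζ : (Fin 4 → K) →ₗ[K] K := B.coord 3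
    have hη : ∀ x y z : K, η (x • a + y • b + z • c) = y := by
      intro x y z
      rw [← hBa, ← hBb, ← hBc]
      simp only [η, map_add, map_smul, Module.Basis.coord_apply, Module.Basis.repr_self,
        smul_eq_mul]
      simp [Finsupp.single_apply]
    have hζ : ∀ x y z : K, ζ (x • a + y • b + z • c) = z := by
      intro x y z
      rw [← hBa, ← hBb, ← hBc]
      simp only [ζ, map_add, map_smul, Module.Basis.coord_apply, Module.Basis.repr_self,
        smul_eq_mul]
      simp [Finsupp.single_apply]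
    obtain ⟨α, β, hfac⟩ := binary_cubic_factor (S.F b) (3 * S.T b b c) (3 * S.T b c c) (S.F c)
    refine ⟨linPoly (α 0 • η + β 0 • ζ), linPoly (α 1 • η + β 1 • ζ), linPoly (α 2 • η + β 2 • ζ),
      isHomogeneous_linPoly _, isHomogeneous_linPoly _, isHomogeneous_linPoly _, ?_⟩
    have hℓhom : ℓ.IsHomogeneous 1 := by
      rw [hℓ]
      exact IsHomogeneous.sum _ _ _ (fun j _ => isHomogeneous_C_mul_X _ _)
    have hℓ0 : ℓ ≠ 0 := by
      intro h
      have := hevalℓ w0
      rw [h, map_zero] at this
      exact hw0 ((mul_eq_zero.mp this.symm).resolve_left h3)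
    apply mem_span_of_vanish hℓhom hℓ0
    intro x hx
    have hxH : S.T a a x = 0 := (hHker x).mp ((hH x).mpr hx)
    obtain ⟨x0, y, z, rfl⟩ := hdec x hxH
    rw [map_sub, map_mul, map_mul, eval_linPoly, eval_linPoly, eval_linPoly, ← hSF]
    simp only [LinearMap.add_apply, LinearMap.smul_apply, smul_eq_mul, hη, hζ]
    have hprod := hfac y z
    rw [Fin.prod_univ_three] at hprod
    rw [← hprod, S.F_lin3]
    have e1 : S.T b b a = 0 := by rw [e_bba]; exact qbb
    have e2 : S.T c c a = 0 := by rw [e_cca]; exact qcc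
    have e3 : S.T c c b = S.T b c c := S.s13 c c b
    rw [hFa', hlb, hlc, e1, e2, qbc, e3]
    ring
  · -- two lines
    have hne : S.T a b b ≠ 0 ∨ 2 * S.T a b c ≠ 0 ∨ S.T a c c ≠ 0 := by
      by_contra hcon
      push Not at hcon
      apply hqz
      refine ⟨hcon.1, ?_, hcon.2.2⟩
      exact (mul_eq_zero.mp hcon.2.1).resolve_left (by norm_num)
    obtain ⟨α1, β1, α2, β2, hfac, hnz⟩ :=
      binary_quadratic_factor (S.T a b b) (2 * S.T a b c) (S.T a c c)
    obtain ⟨hnz1, hnz2⟩ := hnz hne
    -- generic construction of a line from a nonzero linear form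
    have hline : ∀ α β : K, (α ≠ 0 ∨ β ≠ 0) →
        ∃ U : Submodule K (Fin 4 → K), Module.finrank K ↥U = 2 ∧ a ∈ U ∧ U ≤ H ∧
          ∀ x : Fin 4 → K, x ∈ U ↔ ∃ x0 y z : K, x = x0 • a + y • b + z • c ∧ α * y + β * z = 0 := by
      intro α β hαβ
      have hli : LinearIndependent K ![a, β • b - α • c] := by
        rw [LinearIndependent.pair_iff]
        intro s t hst
        have h0 : s • a + (t * β) • b + (-(t * α)) • c = 0 := by
          rw [← hst]; module
        obtain ⟨hs, htb, hta⟩ := li3_coeff li3 h0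
        refine ⟨hs, ?_⟩
        rcases hαβ with h | h
        · have : t * α = 0 := by linear_combination -hta
          exact (mul_eq_zero.mp this).resolve_right h
        · exact (mul_eq_zero.mp htb).resolve_right h
      refine ⟨Submodule.span K {a, β • b - α • c}, finrank_span_pair_of_li hli,
        Submodule.subset_span (by simp), ?_, ?_⟩
      · rw [Submodule.span_le]
        intro t ht
        rcases ht with h | h
        · rw [h]; exact haH
        · rw [Set.mem_singleton_iff] at h
          rw [h]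
          exact H.sub_mem (H.smul_mem _ hbH) (H.smul_mem _ hcH)
      · intro x
        constructor
        · intro hx
          obtain ⟨s, t, rfl⟩ := Submodule.mem_span_pair.mp hx
          refine ⟨s, t * β, -(t * α), by module, by ring⟩
        · rintro ⟨x0, y, z, rfl, hyz⟩
          apply Submodule.mem_span_pair.mpr
          rcases hαβ with h | h
          · refine ⟨x0, -z / α, ?_⟩
            have hy : y = -z / α * β := by
              field_simp
              linear_combination hyz
            rw [hy]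
            have : (-z / α) * α = -z := by field_simp
            rw [smul_sub, smul_smul, smul_smul, this]
            module
          · refine ⟨x0, y / β, ?_⟩
            have hz : z = -(y / β * α) := by
              field_simp
              linear_combination hyz
            rw [hz]
            have : (y / β) * β = y := by field_simp
            rw [smul_sub, smul_smul, smul_smul, this]
            module
    obtain ⟨U₁, hU₁, haU₁, hU₁H, hmem₁⟩ := hline α1 β1 hnz1
    obtain ⟨U₂, hU₂, haU₂, hU₂H, hmem₂⟩ := hline α2 β2 hnz2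
    refine ⟨U₁, U₂, hU₁, hU₂, haU₁, haU₂, hU₁H, hU₂H, ?_⟩
    ext x
    simp only [Set.mem_setOf_eq, Set.mem_union, SetLike.mem_coe]
    constructor
    · rintro ⟨hxH, hxP⟩
      obtain ⟨x0, y, z, rfl⟩ := hdec x ((hHker x).mp hxH)
      rw [hevalP, hq, hfac] at hxP
      have := (mul_eq_zero.mp hxP).resolve_left h3
      rcases mul_eq_zero.mp this with h | h
      · left; exact (hmem₁ _).mpr ⟨x0, y, z, rfl, h⟩
      · right; exact (hmem₂ _).mpr ⟨x0, y, z, rfl, h⟩
    · rintro (hx | hx)
      · refine ⟨hU₁H hx, ?_⟩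
        obtain ⟨x0, y, z, rfl, hyz⟩ := (hmem₁ x).mp hx
        rw [hevalP, hq, hfac, hyz]; ring
      · refine ⟨hU₂H hx, ?_⟩
        obtain ⟨x0, y, z, rfl, hyz⟩ := (hmem₂ x).mp hx
        rw [hevalP, hq, hfac, hyz]; ring

end Groth.Agent.Lib.H79CubK
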