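import Mathlib

open MvPolynomial

namespace Groth.Agent.Lib.H79Cubic

theorem pderiv_comm {σ : Type*} (i j : σ) (f : MvPolynomial σ ℂ) :
    pderiv i (pderiv j f) = pderiv j (pderiv i f) := by
  classical
  induction f using MvPolynomial.induction_on with
  | C a => simp
  | add p q hp hq => simp [hp, hq]
  | mul_X p k hp =>
    simp only [Derivation.leibniz, pderiv_X, smul_eq_mul, map_add, hp]
    by_cases hik : i = k <;> by_cases hjk : j = k <;> simp [hik, hjk] <;> ring

variable {n : ℕ}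

/-- third partial derivatives (constants for a cubic) -/
noncomputable def coef3 (f : MvPolynomial (Fin n) ℂ) (i j k : Fin n) : ℂ :=
  coeff 0 (pderiv i (pderiv j (pderiv k f)))

theorem coef3_swap12 (f : MvPolynomial (Fin n) ℂ) (i j k : Fin n) :
    coef3 f i j k = coef3 f j i k := by
  unfold coef3; rw [pderiv_comm]

theorem coef3_swap23 (f : MvPolynomial (Fin n) ℂ) (i j k : Fin n) :
    coef3 f i j k = coef3 f i k j := by
  unfold coef3; rw [pderiv_comm j k]

noncomputable def triFun (f : MvPolynomial (Fin n) ℂ) (u v w : Fin n → ℂ) : ℂ :=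
  (1 / 6) * ∑ i, ∑ j, ∑ k, coef3 f i j k * (u i * v j * w k)

theorem triFun_add1 (f : MvPolynomial (Fin n) ℂ) (u u' v w : Fin n → ℂ) :
    triFun f (u + u') v w = triFun f u v w + triFun f u' v w := by
  unfold triFun
  rw [← mul_add, ← Finset.sum_add_distrib]
  congr 1; apply Finset.sum_congr rfl; intro i _
  rw [← Finset.sum_add_distrib]; apply Finset.sum_congr rfl; intro j _
  rw [← Finset.sum_add_distrib]; apply Finset.sum_congr rfl; intro k _
  simp only [Pi.add_apply]; ring

theorem triFun_smul1 (f : MvPolynomial (Fin n) ℂ) (a : ℂ) (u v w : Fin n → ℂ) :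
    triFun f (a • u) v w = a * triFun f u v w := by
  unfold triFun
  rw [mul_left_comm]
  congr 1
  rw [Finset.mul_sum]; apply Finset.sum_congr rfl; intro i _
  rw [Finset.mul_sum]; apply Finset.sum_congr rfl; intro j _
  rw [Finset.mul_sum]; apply Finset.sum_congr rfl; intro k _
  simp only [Pi.smul_apply, smul_eq_mul]; ring

theorem triFun_s12 (f : MvPolynomial (Fin n) ℂ) (u v w : Fin n → ℂ) :
    triFun f u v w = triFun f v u w := by
  unfold triFun
  congr 1
  rw [Finset.sum_comm]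
  apply Finset.sum_congr rfl; intro i _
  apply Finset.sum_congr rfl; intro j _
  apply Finset.sum_congr rfl; intro k _
  rw [coef3_swap12]; ring

theorem triFun_s23 (f : MvPolynomial (Fin n) ℂ) (u v w : Fin n → ℂ) :
    triFun f u v w = triFun f u w v := by
  unfold triFun
  congr 1
  apply Finset.sum_congr rfl; intro i _
  rw [Finset.sum_comm]
  apply Finset.sum_congr rfl; intro j _
  apply Finset.sum_congr rfl; intro k _
  rw [coef3_swap23]; ring

/-- the symmetric trilinear form of a cubic, bundled -/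
noncomputable def tri (f : MvPolynomial (Fin n) ℂ) :
    (Fin n → ℂ) →ₗ[ℂ] (Fin n → ℂ) →ₗ[ℂ] (Fin n → ℂ) →ₗ[ℂ] ℂ :=
  LinearMap.mk₂ ℂ
    (fun u v =>
      { toFun := fun w => triFun f u v w
        map_add' := fun w w' => by
          rw [triFun_s23, triFun_s12, triFun_add1, triFun_s12 f w, triFun_s23 f u w,
            triFun_s12 f w', triFun_s23 f u w']
        map_smul' := fun a w => by
          rw [triFun_s23, triFun_s12, triFun_smul1, triFun_s12 f w, triFun_s23 f u w]
          rfl })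
    (fun u u' v => by
      apply LinearMap.ext; intro w
      simp only [LinearMap.coe_mk, AddHom.coe_mk, LinearMap.add_apply]
      exact triFun_add1 f u u' v w)
    (fun a u v => by
      apply LinearMap.ext; intro w
      simp only [LinearMap.coe_mk, AddHom.coe_mk, LinearMap.smul_apply, smul_eq_mul]
      exact triFun_smul1 f a u v w)
    (fun u v v' => by
      apply LinearMap.ext; intro w; simp only [LinearMap.coe_mk, AddHom.coe_mk, LinearMap.add_apply]
      rw [triFun_s12, triFun_add1, triFun_s12 f v, triFun_s12 f v'])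
    (fun a u v => by
      apply LinearMap.ext; intro w
      simp only [LinearMap.coe_mk, AddHom.coe_mk, LinearMap.smul_apply, smul_eq_mul]
      rw [triFun_s12, triFun_smul1, triFun_s12 f v])

@[simp] theorem tri_apply (f : MvPolynomial (Fin n) ℂ) (u v w : Fin n → ℂ) :
    tri f u v w = triFun f u v w := rfl


theorem euler_eval {g : MvPolynomial (Fin n) ℂ} {d : ℕ} (hg : g.IsHomogeneous d) (v : Fin n → ℂ) :
    ∑ i, v i * eval v (pderiv i g) = d * eval v g := by
  have h := congrArg (eval v) hg.sum_X_mul_pderiv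
  simpa [map_sum, nsmul_eq_mul] using h

theorem eval_of_homogeneous_zero {g : MvPolynomial (Fin n) ℂ} (hg : g.IsHomogeneous 0)
    (v : Fin n → ℂ) : eval v g = coeff 0 g := by
  rw [← totalDegree_zero_iff_isHomogeneous, totalDegree_eq_zero_iff_eq_C] at hg
  rw [hg]; simp

theorem eval_pderiv2 {f : MvPolynomial (Fin n) ℂ} (hf : f.IsHomogeneous 3) (v : Fin n → ℂ)
    (j k : Fin n) : eval v (pderiv j (pderiv k f)) = ∑ i, v i * coef3 f i j k := by
  have h1 : (pderiv j (pderiv k f)).IsHomogeneous 1 := (hf.pderiv (i := k)).pderiv (i := j)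
  have h := euler_eval h1 v
  simp only [Nat.cast_one, one_mul] at h
  rw [← h]
  apply Finset.sum_congr rfl; intro i _
  rw [eval_of_homogeneous_zero (h1.pderiv (i := i)) v]; rfl

theorem eval_pderiv1 {f : MvPolynomial (Fin n) ℂ} (hf : f.IsHomogeneous 3) (v : Fin n → ℂ)
    (k : Fin n) : eval v (pderiv k f) = (1 / 2) * ∑ j, ∑ i, v j * (v i * coef3 f i j k) := by
  have h2 : (pderiv k f).IsHomogeneous 2 := hf.pderiv (i := k)
  have h := euler_eval h2 v
  have : eval v (pderiv k f) = (1 / 2) * ∑ j, v j * eval v (pderiv j (pderiv k f)) := by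
    rw [h]; push_cast; ring
  rw [this]; congr 1
  apply Finset.sum_congr rfl; intro j _
  rw [eval_pderiv2 hf, Finset.mul_sum]

theorem eval_eq_triFun {f : MvPolynomial (Fin n) ℂ} (hf : f.IsHomogeneous 3) (v : Fin n → ℂ) :
    eval v f = triFun f v v v := by
  have h := euler_eval hf v
  have : eval v f = (1 / 3) * ∑ k, v k * eval v (pderiv k f) := by
    rw [h]; push_cast; ring
  rw [this]
  unfold triFun
  simp_rw [eval_pderiv1 hf]
  rw [Finset.sum_comm]
  simp_rw [Finset.mul_sum]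
  rw [Finset.sum_comm]
  apply Finset.sum_congr rfl; intro i _
  rw [Finset.sum_comm]
  apply Finset.sum_congr rfl; intro j _
  apply Finset.sum_congr rfl; intro k _
  ring


theorem eval_pderiv_eq_triFun {f : MvPolynomial (Fin n) ℂ} (hf : f.IsHomogeneous 3)
    (v : Fin n → ℂ) (l : Fin n) :
    eval v (pderiv l f) = 3 * triFun f v v (Pi.single l 1) := by
  rw [eval_pderiv1 hf]
  unfold triFun
  have : ∀ i j, ∑ k, coef3 f i j k * (v i * v j * (Pi.single l (1:ℂ) : Fin n → ℂ) k)
      = coef3 f i j l * (v i * v j) := by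
    intro i j
    rw [Finset.sum_eq_single l]
    · simp
    · intro k _ hk; simp [hk]
    · intro h; exact absurd (Finset.mem_univ l) h
  simp_rw [this]
  rw [Finset.sum_comm]
  rw [← mul_assoc, Finset.mul_sum, Finset.mul_sum]
  apply Finset.sum_congr rfl; intro i _
  rw [Finset.mul_sum, Finset.mul_sum]
  apply Finset.sum_congr rfl; intro j _
  ring


theorem eval_aeval_subst (A : Matrix (Fin n) (Fin n) ℂ) (f : MvPolynomial (Fin n) ℂ)
    (v : Fin n → ℂ) :
    eval v (aeval (fun i : Fin n => ∑ j : Fin n, C (A i j) * X j) f) = eval (A.mulVec v) f := by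
  induction f using MvPolynomial.induction_on with
  | C a => simp
  | add p q hp hq => rw [map_add, map_add, map_add, hp, hq]
  | mul_X p k hp =>
    simp only [map_mul, hp, aeval_X, eval_X, map_sum, eval_C]
    rfl

theorem aeval_subst_eq_iff (A : Matrix (Fin n) (Fin n) ℂ) (f : MvPolynomial (Fin n) ℂ) (c : ℂ) :
    aeval (fun i : Fin n => ∑ j : Fin n, C (A i j) * X j) f = C c * f ↔
      ∀ v : Fin n → ℂ, eval (A.mulVec v) f = c * eval v f := by
  constructor
  · intro h v
    rw [← eval_aeval_subst, h]; simp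
  · intro h
    apply MvPolynomial.funext
    intro v
    rw [eval_aeval_subst, h]; simp


/-! ### abstract symmetric trilinear forms -/

structure SymTri (V : Type*) [AddCommGroup V] [Module ℂ V] where
  T : V →ₗ[ℂ] V →ₗ[ℂ] V →ₗ[ℂ] ℂ
  s12 : ∀ u v w, T u v w = T v u w
  s23 : ∀ u v w, T u v w = T u w v

/-- the symmetric trilinear form attached to a polynomial (meaningful for cubics) -/
noncomputable def symTri (f : MvPolynomial (Fin n) ℂ) : SymTri (Fin n → ℂ) where
  T := tri f
  s12 := fun u v w => triFun_s12 f u v w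
  s23 := fun u v w => triFun_s23 f u v w

namespace SymTri

variable {V : Type*} [AddCommGroup V] [Module ℂ V] (S : SymTri V)

/-- the cubic form -/
def F (v : V) : ℂ := S.T v v v

theorem s13 (u v w : V) : S.T u v w = S.T w v u := by
  rw [S.s12 u v w, S.s23 v u w, S.s12 v w u]

theorem rot (u v w : V) : S.T u v w = S.T v w u := by
  rw [S.s12 u v w, S.s23 v u w]

def Smooth : Prop := ∀ v : V, v ≠ 0 → S.F v = 0 → ∃ w, S.T v v w ≠ 0

theorem F_lin2 (a b : ℂ) (v w : V) :
    S.F (a • v + b • w) = a ^ 3 * S.F v + 3 * a ^ 2 * b * S.T v v w + 3 * a * b ^ 2 * S.T v w w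
      + b ^ 3 * S.F w := by
  have e1 : S.T v w v = S.T v v w := S.s23 v w v
  have e2 : S.T w v v = S.T v v w := by rw [S.s12 w v v, e1]
  have e3 : S.T w v w = S.T v w w := S.s12 w v w
  have e4 : S.T w w v = S.T v w w := by rw [S.s23 w w v, e3]
  unfold F
  simp only [map_add, map_smul, LinearMap.add_apply, LinearMap.smul_apply, smul_eq_mul]
  rw [e1, e2, e3, e4]
  ring

theorem F_add_smul (t : ℂ) (v w : V) :
    S.F (v + t • w) = S.F v + 3 * t * S.T v v w + 3 * t ^ 2 * S.T v w w + t ^ 3 * S.F w := by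
  have := S.F_lin2 1 t v w
  rw [one_smul] at this
  rw [this]; ring

theorem F_smul (a : ℂ) (v : V) : S.F (a • v) = a ^ 3 * S.F v := by
  unfold F
  simp only [map_smul, LinearMap.smul_apply, smul_eq_mul]
  ring

theorem F_neg (v : V) : S.F (-v) = - S.F v := by
  have := S.F_smul (-1) v
  rw [neg_one_smul] at this
  rw [this]; ring

theorem F_zero : S.F 0 = 0 := by
  unfold F; simp

theorem T_diag_lin2 (a b : ℂ) (v w z : V) :
    S.T (a • v + b • w) (a • v + b • w) z
      = a ^ 2 * S.T v v z + 2 * a * b * S.T v w z + b ^ 2 * S.T w w z := by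
  have e1 := S.s12 w v z
  simp only [map_add, map_smul, LinearMap.add_apply, LinearMap.smul_apply, smul_eq_mul]
  rw [e1]
  ring

theorem F_lin3 (a b c : ℂ) (u v w : V) :
    S.F (a • u + b • v + c • w) = a ^ 3 * S.F u + b ^ 3 * S.F v + c ^ 3 * S.F w
      + 3 * a ^ 2 * b * S.T u u v + 3 * a ^ 2 * c * S.T u u w
      + 3 * b ^ 2 * a * S.T v v u + 3 * b ^ 2 * c * S.T v v w
      + 3 * c ^ 2 * a * S.T w w u + 3 * c ^ 2 * b * S.T w w v
      + 6 * a * b * c * S.T u v w := by
  have h := S.F_lin2 1 c (a • u + b • v) w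
  rw [one_smul] at h
  rw [h, S.F_lin2 a b u v, S.T_diag_lin2 a b u v w]
  have e1 : S.T (a • u + b • v) w w = a * S.T w w u + b * S.T w w v := by
    simp only [map_add, map_smul, LinearMap.add_apply, LinearMap.smul_apply, smul_eq_mul]
    rw [S.rot u w w, S.rot v w w]
  have e2 : S.T u v v = S.T v v u := by rw [S.s12 u v v, S.s23 v u v]
  rw [e1, e2]
  ring

/-- polarization identity -/
theorem polarization (u v w : V) :
    6 * S.T u v w = S.F (u + v + w) - S.F (u + v) - S.F (u + w) - S.F (v + w)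
      + S.F u + S.F v + S.F w := by
  have h3 := S.F_lin3 1 1 1 u v w
  have h12 := S.F_lin2 1 1 u v
  have h13 := S.F_lin2 1 1 u w
  have h23 := S.F_lin2 1 1 v w
  simp only [one_smul] at h3 h12 h13 h23
  rw [h3, h12, h13, h23]
  have e1 : S.T u v v = S.T v v u := by rw [S.s12 u v v, S.s23 v u v]
  have e2 : S.T u w w = S.T w w u := by rw [S.s12 u w w, S.s23 w u w]
  have e3 : S.T v w w = S.T w w v := by rw [S.s12 v w w, S.s23 w v w]
  rw [e1, e2, e3]
  ring

/-- a linear map scaling the cubic form scales the trilinear form -/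
theorem T_map_of_F_map (φ : V →ₗ[ℂ] V) (c : ℂ) (h : ∀ v, S.F (φ v) = c * S.F v) (u v w : V) :
    S.T (φ u) (φ v) (φ w) = c * S.T u v w := by
  have h1 := S.polarization (φ u) (φ v) (φ w)
  have h2 := S.polarization u v w
  rw [← map_add, ← map_add, ← map_add, ← map_add, h, h, h, h, h, h, h] at h1
  have : 6 * S.T (φ u) (φ v) (φ w) = 6 * (c * S.T u v w) := by
    rw [h1]; linear_combination (-c) * h2 
  exact mul_left_cancel₀ (by norm_num) this

end SymTri

theorem symTri_F {f : MvPolynomial (Fin n) ℂ} (hf : f.IsHomogeneous 3) (v : Fin n → ℂ) :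
    (symTri f).F v = eval v f := (eval_eq_triFun hf v).symm

theorem symTri_smooth {f : MvPolynomial (Fin n) ℂ} (hf : f.IsHomogeneous 3)
    (hsm : ∀ v : Fin n → ℂ, v ≠ 0 → eval v f = 0 → ∃ i : Fin n, eval v (pderiv i f) ≠ 0) :
    (symTri f).Smooth := by
  intro v hv hFv
  rw [symTri_F hf] at hFv
  obtain ⟨i, hi⟩ := hsm v hv hFv
  refine ⟨Pi.single i 1, ?_⟩
  rw [eval_pderiv_eq_triFun hf] at hi
  intro h
  apply hi
  have : (symTri f).T v v (Pi.single i 1) = triFun f v v (Pi.single i 1) := rfl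
  rw [← this, h]; ring


namespace SymTri

variable {V : Type*} [AddCommGroup V] [Module ℂ V] (S : SymTri V)

/-- `μ` is a reflection functional at `e`: `μ e = 2` and `T(e,w,w) = T(e,e,w) μ(w)` -/
structure IsRefl (e : V) (μ : V →ₗ[ℂ] ℂ) : Prop where
  mu_e : μ e = 2
  quad : ∀ w, S.T e w w = S.T e e w * μ w

/-- the reflection `w ↦ w - μ w • e` -/
def refl (e : V) (μ : V →ₗ[ℂ] ℂ) : V →ₗ[ℂ] V := LinearMap.id - μ.smulRight e

@[simp] theorem refl_apply (e : V) (μ : V →ₗ[ℂ] ℂ) (w : V) : refl e μ w = w - μ w • e := by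
  simp [refl]

theorem refl_e (e : V) (μ : V →ₗ[ℂ] ℂ) (h : μ e = 2) : refl e μ e = -e := by
  rw [refl_apply, h]; module

theorem refl_refl (e : V) (μ : V →ₗ[ℂ] ℂ) (h : μ e = 2) (w : V) : refl e μ (refl e μ w) = w := by
  simp only [refl_apply, map_sub, map_smul, h, smul_eq_mul]
  module

theorem F_sub_smul (e w : V) (b : ℂ) (he : S.F e = 0) :
    S.F (w - b • e) = S.F w - 3 * b * S.T e w w + 3 * b ^ 2 * S.T e e w := by
  have h := S.F_lin2 1 (-b) w e
  rw [one_smul, neg_smul, ← sub_eq_add_neg] at h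
  rw [h, he]
  have e1 : S.T w w e = S.T e w w := by rw [S.s13 w w e]
  have e2 : S.T w e e = S.T e e w := by rw [S.s13 w e e]
  rw [e1, e2]; ring

theorem IsRefl.F_refl {e : V} {μ : V →ₗ[ℂ] ℂ} (h : S.IsRefl e μ) (he : S.F e = 0) (w : V) :
    S.F (refl e μ w) = S.F w := by
  rw [refl_apply, S.F_sub_smul e w _ he, h.quad w]; ring

theorem IsRefl.bilin {e : V} {μ : V →ₗ[ℂ] ℂ} (h : S.IsRefl e μ) (u w : V) :
    2 * S.T e u w = S.T e e u * μ w + S.T e e w * μ u := by
  have h1 := h.quad (u + w)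
  have h2 := h.quad u
  have h3 := h.quad w
  simp only [map_add, LinearMap.add_apply] at h1
  have e1 : S.T e w u = S.T e u w := S.s23 e w u
  rw [e1] at h1
  linear_combination h1 - h2 - h3

/-- existence of a nontrivial zero of a quadratic form on a plane -/
theorem exists_quad_zero (B : V →ₗ[ℂ] V →ₗ[ℂ] ℂ) (a b : V) :
    ∃ s t : ℂ, (s ≠ 0 ∨ t ≠ 0) ∧ B (s • a + t • b) (s • a + t • b) = 0 := by
  by_cases h0 : B a a = 0
  · exact ⟨1, 0, Or.inl one_ne_zero, by simpa using h0⟩
  · -- solve B a a s^2 + (B a b + B b a) s + B b b = 0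
    obtain ⟨d, hd⟩ := IsAlgClosed.exists_pow_nat_eq
      (discrim (B a a) (B a b + B b a) (B b b)) (n := 2) (by norm_num)
    have hd' : discrim (B a a) (B a b + B b a) (B b b) = d * d := by rw [← hd]; ring
    obtain ⟨s, hs⟩ := exists_quadratic_eq_zero h0 ⟨d, hd'⟩
    refine ⟨s, 1, Or.inr one_ne_zero, ?_⟩
    simp only [map_add, map_smul, LinearMap.add_apply, LinearMap.smul_apply, smul_eq_mul, one_smul]
    linear_combination hs

theorem exists_refl_of_special (hsm : S.Smooth) {e : V} (he0 : e ≠ 0) (he : S.F e = 0)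
    (hsp : ∀ w, S.T e e w = 0 → S.T e w w = 0) : ∃ μ : V →ₗ[ℂ] ℂ, S.IsRefl e μ := by
  obtain ⟨w0, hw0⟩ := hsm e he0 he
  obtain ⟨l0, hl0⟩ : ∃ l0, S.T e e w0 = l0 := ⟨_, rfl⟩
  rw [hl0] at hw0
  obtain ⟨q0, hq0⟩ : ∃ q0, S.T e w0 w0 = q0 := ⟨_, rfl⟩
  refine ⟨(2 / l0) • S.T e w0 - (q0 / l0 ^ 2) • S.T e e, ?_, ?_⟩
  · simp only [LinearMap.sub_apply, LinearMap.smul_apply, smul_eq_mul]
    have e1 : S.T e w0 e = l0 := by rw [← hl0, S.s23 e w0 e]
    have e2 : S.T e e e = 0 := he
    rw [e1, e2]; field_simp; ring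
  · intro w
    obtain ⟨a, ha⟩ : ∃ a, S.T e e w = a * l0 := ⟨S.T e e w / l0, by field_simp⟩
    have hk : S.T e e (w - a • w0) = 0 := by
      simp only [map_sub, map_smul, smul_eq_mul]
      rw [ha, hl0]; ring
    have hk2 := hsp _ hk
    simp only [map_sub, map_smul, LinearMap.sub_apply, LinearMap.smul_apply, smul_eq_mul] at hk2
    have e1 : S.T e w0 w = S.T e w w0 := S.s23 e w0 w
    rw [e1, hq0] at hk2
    simp only [LinearMap.sub_apply, LinearMap.smul_apply, smul_eq_mul]
    rw [e1, ha]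
    have hk3 : S.T e w w = 2 * a * S.T e w w0 - a ^ 2 * q0 := by linear_combination hk2
    rw [hk3]
    field_simp

theorem refl_unique (hsm : S.Smooth) {e : V} (he0 : e ≠ 0) (he : S.F e = 0)
    {μ μ' : V →ₗ[ℂ] ℂ} (h : S.IsRefl e μ) (h' : S.IsRefl e μ') : μ = μ' := by
  obtain ⟨w0, hw0⟩ := hsm e he0 he
  have key : ∀ w, S.T e e w ≠ 0 → μ w = μ' w := by
    intro w hw
    have := (h.quad w).symm.trans (h'.quad w)
    exact mul_left_cancel₀ hw this
  apply LinearMap.ext
  intro w
  by_cases hw : S.T e e w = 0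
  · have h1 := key w0 hw0
    have h2 : S.T e e (w + w0) ≠ 0 := by
      rw [map_add, hw, zero_add]; exact hw0
    have h3 := key _ h2
    rw [map_add, map_add, h1] at h3
    exact add_right_cancel h3
  · exact key w hw

theorem isRefl_of_auto (hsm : S.Smooth) {e : V} (he : S.F e = 0)
    {μ : V →ₗ[ℂ] ℂ} (hμ : μ e = 2) {a b : V} (ha : μ a = 0) (hb : μ b = 0)
    (hab : LinearIndependent ℂ ![a, b]) {c : ℂ}
    (hc : ∀ w, S.F (w - μ w • e) = c * S.F w) : c = 1 ∧ S.IsRefl e μ := by
  have key : ∀ w, (c - 1) * S.F w = 3 * μ w * (μ w * S.T e e w - S.T e w w) := by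
    intro w
    have := hc w
    rw [S.F_sub_smul e w _ he] at this
    linear_combination -this
  have hc1 : c = 1 := by
    by_contra hne
    obtain ⟨s, t, hst, hq⟩ := exists_quad_zero (S.T e) a b
    obtain ⟨w, hw⟩ : ∃ w, w = s • a + t • b := ⟨_, rfl⟩
    rw [← hw] at hq
    have hw0 : w ≠ 0 := by
      intro h0
      rw [h0] at hw
      have := (LinearIndependent.pair_iff.mp hab) s t hw.symm
      rcases hst with h | h
      · exact h this.1
      · exact h this.2
    have hμw : μ w = 0 := by rw [hw]; simp [ha, hb]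
    have hFw : S.F w = 0 := by
      have := key w
      rw [hμw] at this
      have h2 : (c - 1) * S.F w = 0 := by rw [this]; ring
      rcases mul_eq_zero.mp h2 with h | h
      · exact absurd (sub_eq_zero.mp h) hne
      · exact h
    obtain ⟨z, hz⟩ := hsm w hw0 hFw
    apply hz
    have k1 := key (w + (1:ℂ) • z)
    have k2 := key (w + (-1:ℂ) • z)
    have k3 := key (w + (2:ℂ) • z)
    have e1 : S.T e z w = S.T e w z := S.s23 e z w
    simp only [S.F_add_smul, map_add, map_smul, LinearMap.add_apply, LinearMap.smul_apply,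
      smul_eq_mul, hμw, hq, hFw, e1] at k1 k2 k3
    have h18 : (c - 1) * S.T w w z = 0 := by
      linear_combination (-(1:ℂ)/18) * k3 + (1/3) * k1 - (1/9) * k2
    rcases mul_eq_zero.mp h18 with h | h
    · exact absurd (sub_eq_zero.mp h) hne
    · exact h
  refine ⟨hc1, hμ, ?_⟩
  intro w
  have k := key (w + ((1 - μ w) / 2) • e)
  have e1 : S.T e w e = S.T e e w := S.s23 e w e
  have e2 : S.T e e e = 0 := he
  simp only [map_add, map_smul, LinearMap.add_apply, LinearMap.smul_apply,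
    smul_eq_mul, hμ, hc1, e1, e2] at k
  have hone : μ w + (1 - μ w) / 2 * 2 = 1 := by ring
  rw [hone] at k
  linear_combination ((1:ℂ)/3) * k

/-- a smooth cubic cannot vanish identically on a hyperplane (of dimension at least 2) -/
theorem not_vanish_on_ker (hsm : S.Smooth) (lam : V →ₗ[ℂ] ℂ) {w0 : V} (hw0 : lam w0 ≠ 0)
    {a b : V} (ha : lam a = 0) (hb : lam b = 0) (hab : LinearIndependent ℂ ![a, b])
    (hF : ∀ w, lam w = 0 → S.F w = 0) : False := by
  obtain ⟨s, t, hst, hq⟩ := exists_quad_zero (S.T w0) a b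
  obtain ⟨w, hw⟩ : ∃ w, w = s • a + t • b := ⟨_, rfl⟩
  rw [← hw] at hq
  have hwne : w ≠ 0 := by
    intro h0
    rw [h0] at hw
    have := (LinearIndependent.pair_iff.mp hab) s t hw.symm
    rcases hst with h | h
    · exact h this.1
    · exact h this.2
  have hlw : lam w = 0 := by rw [hw]; simp [ha, hb]
  have hFw : S.F w = 0 := hF w hlw
  obtain ⟨z, hz⟩ := hsm w hwne hFw
  apply hz
  have hk : ∀ k, lam k = 0 → S.T w w k = 0 := by
    intro k hk
    have h1 := hF (w + (1:ℂ) • k) (by simp [hlw, hk])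
    have h2 := hF (w + (-1:ℂ) • k) (by simp [hlw, hk])
    rw [S.F_add_smul, hFw, hF k hk] at h1 h2
    linear_combination (1/6 : ℂ) * h1 - (1/6 : ℂ) * h2
  have hz2 : z = (z - (lam z / lam w0) • w0) + (lam z / lam w0) • w0 := by module
  rw [hz2, map_add, map_smul, smul_eq_mul]
  have h3 : S.T w w (z - (lam z / lam w0) • w0) = 0 := by
    apply hk
    simp only [map_sub, map_smul, smul_eq_mul]
    field_simp
    ring
  have h4 : S.T w w w0 = 0 := by rw [S.rot w w w0, S.rot w w0 w]; exact hq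
  rw [h3, h4]; ring

end SymTri

/-! ### matrices versus reflection functionals -/

open SymTri in
theorem exists_functional_of_reflection (A : Matrix (Fin n) (Fin n) ℂ) (e : Fin n → ℂ) (he : e ≠ 0)
    (hAA : A * A = 1)
    (hfix : Module.finrank ℂ ↥(LinearMap.ker (Matrix.toLin' A - LinearMap.id)) + 1 = n)
    (hAe : A.mulVec e = -e) :
    ∃ μ : (Fin n → ℂ) →ₗ[ℂ] ℂ, μ e = 2 ∧ ∀ w, A.mulVec w = w - μ w • e := by
  set φ : (Fin n → ℂ) →ₗ[ℂ] (Fin n → ℂ) := Matrix.toLin' A with hφ
  have hφφ : ∀ w, φ (φ w) = w := by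
    intro w
    have : φ (φ w) = Matrix.toLin' (A * A) w := by
      rw [Matrix.toLin'_mul]; rfl
    rw [this, hAA, Matrix.toLin'_one]; rfl
  have hφe : φ e = -e := by rw [hφ, Matrix.toLin'_apply]; exact hAe
  set N := LinearMap.ker (φ - LinearMap.id) with hN
  set M := LinearMap.ker (φ + LinearMap.id) with hM
  have hdisj : Disjoint M N := by
    rw [Submodule.disjoint_def]
    intro x hxM hxN
    rw [hM, LinearMap.mem_ker, LinearMap.add_apply, LinearMap.id_apply] at hxM
    rw [hN, LinearMap.mem_ker, LinearMap.sub_apply, LinearMap.id_apply] at hxN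
    have h2 : (2:ℂ) • x = 0 := by
      have : (2:ℂ) • x = (φ x + x) - (φ x - x) := by module
      rw [this, hxM, hxN, sub_zero]
    exact (smul_eq_zero.mp h2).resolve_left two_ne_zero
  have hle := Submodule.finrank_add_finrank_le_of_disjoint hdisj
  rw [Module.finrank_fin_fun] at hle
  have hM1 : Module.finrank ℂ M ≤ 1 := by omega
  have heM : e ∈ M := by
    rw [hM, LinearMap.mem_ker, LinearMap.add_apply, LinearMap.id_apply, hφe]; simp
  obtain ⟨v, hv⟩ := finrank_le_one_iff.mp hM1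
  have hspan : ∀ x ∈ M, ∃ c : ℂ, x = c • e := by
    intro x hx
    obtain ⟨c, hc⟩ := hv ⟨x, hx⟩
    obtain ⟨ce, hce⟩ := hv ⟨e, heM⟩
    have hce' : ce • (v : Fin n → ℂ) = e := congrArg Subtype.val hce
    have hc' : c • (v : Fin n → ℂ) = x := congrArg Subtype.val hc
    have hce0 : ce ≠ 0 := by
      rintro rfl
      rw [zero_smul] at hce'
      exact he hce'.symm
    refine ⟨c * ce⁻¹, ?_⟩
    rw [← hc', ← hce', smul_smul, mul_assoc, inv_mul_cancel₀ hce0, mul_one]
  have hmem : ∀ w, w - φ w ∈ M := by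
    intro w
    rw [hM, LinearMap.mem_ker, LinearMap.add_apply, LinearMap.id_apply, map_sub, hφφ]
    abel
  obtain ⟨i, hi⟩ : ∃ i, e i ≠ 0 := by
    by_contra h
    push Not at h
    exact he (funext h)
  refine ⟨((e i)⁻¹ • LinearMap.proj i) ∘ₗ (LinearMap.id - φ), ?_, ?_⟩
  · simp only [LinearMap.comp_apply, LinearMap.sub_apply, LinearMap.id_apply, hφe,
      LinearMap.smul_apply, LinearMap.proj_apply, Pi.sub_apply, Pi.neg_apply, smul_eq_mul]
    field_simp
    ring
  · intro w
    obtain ⟨c, hc⟩ := hspan _ (hmem w)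
    have hAw : A.mulVec w = φ w := by rw [hφ, Matrix.toLin'_apply]
    have h1 : (((e i)⁻¹ • LinearMap.proj i) ∘ₗ (LinearMap.id - φ)) w = c := by
      simp only [LinearMap.comp_apply, LinearMap.sub_apply, LinearMap.id_apply,
        LinearMap.smul_apply, LinearMap.proj_apply, smul_eq_mul]
      rw [hc]
      simp only [Pi.smul_apply, smul_eq_mul]
      field_simp
    rw [h1, hAw, ← hc]; abel

/-- the matrix of the reflection attached to a functional -/
noncomputable def reflMatrix (e : Fin n → ℂ) (μ : (Fin n → ℂ) →ₗ[ℂ] ℂ) : Matrix (Fin n) (Fin n) ℂ :=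
  LinearMap.toMatrix' (SymTri.refl e μ)

theorem reflMatrix_mulVec (e : Fin n → ℂ) (μ : (Fin n → ℂ) →ₗ[ℂ] ℂ) (w : Fin n → ℂ) :
    (reflMatrix e μ).mulVec w = w - μ w • e := by
  rw [reflMatrix, LinearMap.toMatrix'_mulVec, SymTri.refl_apply]

theorem reflMatrix_mul_self (e : Fin n → ℂ) (μ : (Fin n → ℂ) →ₗ[ℂ] ℂ) (h : μ e = 2) :
    reflMatrix e μ * reflMatrix e μ = 1 := by
  rw [reflMatrix, ← LinearMap.toMatrix'_comp]
  have : (SymTri.refl e μ) ∘ₗ (SymTri.refl e μ) = LinearMap.id := by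
    apply LinearMap.ext; intro w
    rw [LinearMap.comp_apply, SymTri.refl_refl e μ h]; rfl
  rw [this, LinearMap.toMatrix'_id]

theorem finrank_ker_functional (μ : (Fin n → ℂ) →ₗ[ℂ] ℂ) {e : Fin n → ℂ} (h : μ e ≠ 0) :
    Module.finrank ℂ ↥(LinearMap.ker μ) + 1 = n := by
  have h1 := LinearMap.finrank_range_add_finrank_ker μ
  rw [Module.finrank_fin_fun] at h1
  have h2 : LinearMap.range μ = ⊤ := by
    rw [LinearMap.range_eq_top]
    intro c
    refine ⟨(c / μ e) • e, ?_⟩
    rw [map_smul, smul_eq_mul]; field_simp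
  rw [h2, finrank_top, Module.finrank_self] at h1
  omega

theorem reflMatrix_finrank (e : Fin n → ℂ) (μ : (Fin n → ℂ) →ₗ[ℂ] ℂ) (h : μ e = 2) :
    Module.finrank ℂ ↥(LinearMap.ker (Matrix.toLin' (reflMatrix e μ) - LinearMap.id)) + 1 = n := by
  have he : e ≠ 0 := by
    rintro rfl
    rw [map_zero] at h
    exact two_ne_zero h.symm
  have : LinearMap.ker (Matrix.toLin' (reflMatrix e μ) - LinearMap.id) = LinearMap.ker μ := by
    ext w
    rw [LinearMap.mem_ker, LinearMap.mem_ker, reflMatrix, Matrix.toLin'_toMatrix',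
      LinearMap.sub_apply, SymTri.refl_apply, LinearMap.id_apply]
    constructor
    · intro hw
      have : μ w • e = 0 := by
        have : μ w • e = -(w - μ w • e - w) := by abel
        rw [this, hw, neg_zero]
      exact (smul_eq_zero.mp this).resolve_right he
    · intro hw
      rw [hw, zero_smul]; abel
  rw [this]
  exact finrank_ker_functional μ (by rw [h]; exact two_ne_zero)

theorem eq_reflMatrix_of_mulVec (A : Matrix (Fin n) (Fin n) ℂ) (e : Fin n → ℂ)
    (μ : (Fin n → ℂ) →ₗ[ℂ] ℂ) (h : ∀ w, A.mulVec w = w - μ w • e) : A = reflMatrix e μ := by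
  apply Matrix.toLin'.injective
  apply LinearMap.ext
  intro w
  rw [Matrix.toLin'_apply, Matrix.toLin'_apply, h, reflMatrix_mulVec]

/-- two independent vectors in the kernel of a functional, in dimension at least 3 -/
theorem exists_pair_in_ker (hn : 3 ≤ n) (μ : (Fin n → ℂ) →ₗ[ℂ] ℂ) {e : Fin n → ℂ} (h : μ e ≠ 0) :
    ∃ a b : Fin n → ℂ, μ a = 0 ∧ μ b = 0 ∧ LinearIndependent ℂ ![a, b] := by
  have h1 := finrank_ker_functional μ h
  have h2 : 1 < Module.finrank ℂ ↥(LinearMap.ker μ) := by omega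
  have h3 : 0 < Module.finrank ℂ ↥(LinearMap.ker μ) := by omega
  obtain ⟨x, hx⟩ := Module.finrank_pos_iff_exists_ne_zero.mp h3
  obtain ⟨y, hy⟩ := exists_linearIndependent_pair_of_one_lt_finrank h2 hx
  refine ⟨x, y, x.2, y.2, ?_⟩
  have := hy.map' (LinearMap.ker μ).subtype (Submodule.ker_subtype _)
  have h4 : (⇑(LinearMap.ker μ).subtype ∘ ![x, y]) = ![(x : Fin n → ℂ), (y : Fin n → ℂ)] := by
    funext i
    fin_cases i <;> rfl
  rw [h4] at this
  exact this

/-! ### lines -/

section Lines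

variable {V : Type*} [AddCommGroup V] [Module ℂ V]

theorem finrank_span_pair_of_li {e u : V} (h : LinearIndependent ℂ ![e, u]) :
    Module.finrank ℂ ↥(Submodule.span ℂ ({e, u} : Set V)) = 2 := by
  have := finrank_span_eq_card h
  rw [Matrix.range_cons_cons_empty] at this
  simpa using this

theorem finrank_span_triple_of_li {a b c : V} (h : LinearIndependent ℂ ![a, b, c]) :
    Module.finrank ℂ ↥(Submodule.span ℂ ({a, b, c} : Set V)) = 3 := by
  have := finrank_span_eq_card h
  have h2 : Set.range ![a, b, c] = {a, b, c} := by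
    rw [Matrix.range_cons, Matrix.range_cons_cons_empty]; rfl
  rw [h2] at this
  simpa using this

variable [FiniteDimensional ℂ V]

theorem exists_gen_of_line {e : V} (he : e ≠ 0) {U : Submodule ℂ V}
    (hU : Module.finrank ℂ ↥U = 2) (heU : e ∈ U) :
    ∃ u ∈ U, LinearIndependent ℂ ![e, u] ∧ U = Submodule.span ℂ {e, u} := by
  have h2 : 1 < Module.finrank ℂ ↥U := by omega
  have hx : (⟨e, heU⟩ : ↥U) ≠ 0 := by
    intro h; apply he; exact congrArg Subtype.val h
  obtain ⟨y, hy⟩ := exists_linearIndependent_pair_of_one_lt_finrank h2 hx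
  have h3 := hy.map' U.subtype (Submodule.ker_subtype _)
  have h4 : (⇑U.subtype ∘ ![(⟨e, heU⟩ : ↥U), y]) = ![e, (y : V)] := by
    funext i
    fin_cases i <;> rfl
  rw [h4] at h3
  refine ⟨y, y.2, h3, ?_⟩
  symm
  apply Submodule.eq_of_le_of_finrank_eq
  · rw [Submodule.span_le]
    intro z hz
    rcases hz with rfl | rfl
    · exact heU
    · exact y.2
  · rw [finrank_span_pair_of_li h3, hU]

/-- two 2-dimensional subspaces, one spanned by `e,u`, the other containing `e` and `u`, agree -/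
theorem line_eq_of_mem {e u : V} (hli : LinearIndependent ℂ ![e, u]) {U' : Submodule ℂ V}
    (hU' : Module.finrank ℂ ↥U' = 2) (he : e ∈ U') (hu : u ∈ U') :
    Submodule.span ℂ {e, u} = U' := by
  apply Submodule.eq_of_le_of_finrank_eq
  · rw [Submodule.span_le]
    intro z hz
    rcases hz with rfl | rfl
    · exact he
    · exact hu
  · rw [finrank_span_pair_of_li hli, hU']

variable (S : SymTri V)

omit [FiniteDimensional ℂ V] in
theorem SymTri.vanish_on_pair_iff (e u : V) :
    (∀ w ∈ Submodule.span ℂ ({e, u} : Set V), S.F w = 0) ↔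
      S.F e = 0 ∧ S.T e e u = 0 ∧ S.T e u u = 0 ∧ S.F u = 0 := by
  constructor
  · intro h
    have he : S.F e = 0 := h e (Submodule.subset_span (by simp))
    have hu : S.F u = 0 := h u (Submodule.subset_span (by simp))
    have h1 := h ((1:ℂ) • e + (1:ℂ) • u) (Submodule.mem_span_pair.mpr ⟨1, 1, rfl⟩)
    have h2 := h ((1:ℂ) • e + (-1:ℂ) • u) (Submodule.mem_span_pair.mpr ⟨1, -1, rfl⟩)
    rw [S.F_lin2, he, hu] at h1 h2
    refine ⟨he, ?_, ?_, hu⟩
    · linear_combination (1/6 : ℂ) * h1 - (1/6 : ℂ) * h2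
    · linear_combination (1/6 : ℂ) * h1 + (1/6 : ℂ) * h2
  · rintro ⟨he, h1, h2, hu⟩ w hw
    obtain ⟨a, b, rfl⟩ := Submodule.mem_span_pair.mp hw
    rw [S.F_lin2, he, h1, h2, hu]; ring

omit [FiniteDimensional ℂ V] in
theorem li_triple {x a b : V} (hab : LinearIndependent ℂ ![a, b])
    (hx : x ∉ Submodule.span ℂ ({a, b} : Set V)) : LinearIndependent ℂ ![x, a, b] := by
  have : x ∉ Submodule.span ℂ (Set.range ![a, b]) := by
    rw [Matrix.range_cons_cons_empty]; exact hx
  exact hab.finCons this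

theorem finrank_ker_functional' (μ : V →ₗ[ℂ] ℂ) {e : V} (h : μ e ≠ 0) :
    Module.finrank ℂ ↥(LinearMap.ker μ) + 1 = Module.finrank ℂ V := by
  have h1 := LinearMap.finrank_range_add_finrank_ker μ
  have h2 : LinearMap.range μ = ⊤ := by
    rw [LinearMap.range_eq_top]
    intro c
    refine ⟨(c / μ e) • e, ?_⟩
    rw [map_smul, smul_eq_mul]; field_simp
  rw [h2, finrank_top, Module.finrank_self] at h1
  omega

/-- `e` lies on three distinct lines contained in the cubic -/
def SymTri.HasThreeLines (e : V) : Prop :=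
  ∃ U : Fin 3 → Submodule ℂ V, Function.Injective U ∧
    ∀ i : Fin 3, Module.finrank ℂ ↥(U i) = 2 ∧ e ∈ U i ∧ ∀ u ∈ U i, S.F u = 0

theorem SymTri.special_of_threeLines (hdim : Module.finrank ℂ V = 4) (hsm : S.Smooth) {e : V} (he : e ≠ 0)
    (h3 : S.HasThreeLines e) : S.F e = 0 ∧ ∀ w, S.T e e w = 0 → S.T e w w = 0 := by
  obtain ⟨U, hinj, hU⟩ := h3
  obtain ⟨u1, hu1U, li1, hU1⟩ := exists_gen_of_line he (hU 0).1 (hU 0).2.1
  obtain ⟨u2, hu2U, li2, hU2⟩ := exists_gen_of_line he (hU 1).1 (hU 1).2.1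
  obtain ⟨u3, hu3U, li3, hU3⟩ := exists_gen_of_line he (hU 2).1 (hU 2).2.1
  have v1 := (hU 0).2.2; rw [hU1, S.vanish_on_pair_iff] at v1
  have v2 := (hU 1).2.2; rw [hU2, S.vanish_on_pair_iff] at v2
  have v3 := (hU 2).2.2; rw [hU3, S.vanish_on_pair_iff] at v3
  obtain ⟨hFe, h1a, h1b, hF1⟩ := v1
  obtain ⟨-, h2a, h2b, hF2⟩ := v2
  obtain ⟨-, h3a, h3b, hF3⟩ := v3
  refine ⟨hFe, ?_⟩
  -- u2 ∉ U 0, u3 ∉ U 0, u3 ∉ U 1
  have n20 : u2 ∉ U 0 := by
    intro h
    have := line_eq_of_mem li2 (hU 0).1 (hU 0).2.1 h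
    rw [← hU2] at this
    exact absurd (hinj this) (by decide)
  have n30 : u3 ∉ U 0 := by
    intro h
    have := line_eq_of_mem li3 (hU 0).1 (hU 0).2.1 h
    rw [← hU3] at this
    exact absurd (hinj this) (by decide)
  have n31 : u3 ∉ U 1 := by
    intro h
    have := line_eq_of_mem li3 (hU 1).1 (hU 1).2.1 h
    rw [← hU3] at this
    exact absurd (hinj this) (by decide)
  rw [hU1] at n20 n30
  rw [hU2] at n31
  have li : LinearIndependent ℂ ![u2, e, u1] := li_triple li1 n20
  -- the kernel of T e e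
  obtain ⟨w0, hw0⟩ := hsm e he hFe
  have hK := finrank_ker_functional' (S.T e e) hw0
  rw [hdim] at hK
  have hKeq : Submodule.span ℂ ({u2, e, u1} : Set V) = LinearMap.ker (S.T e e) := by
    apply Submodule.eq_of_le_of_finrank_eq
    · rw [Submodule.span_le]
      intro z hz
      rcases hz with rfl | rfl | rfl
      · exact h2a
      · exact hFe
      · exact h1a
    · rw [finrank_span_triple_of_li li]; omega
  have hmem : ∀ w, S.T e e w = 0 → ∃ a b c : ℂ, a • u2 + b • e + c • u1 = w := by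
    intro w hw
    have : w ∈ Submodule.span ℂ ({u2, e, u1} : Set V) := by rw [hKeq]; exact hw
    exact Submodule.mem_span_triple.mp this
  have e12 : S.T e u2 u1 = S.T e u1 u2 := S.s23 e u2 u1
  have e1e : S.T e u1 e = 0 := by rw [S.s23 e u1 e]; exact h1a
  have e2e : S.T e u2 e = 0 := by rw [S.s23 e u2 e]; exact h2a
  have hee : S.T e e e = 0 := hFe
  -- T e u1 u2 = 0 using u3
  obtain ⟨a, b, c, h3⟩ := hmem u3 h3a
  have hc0 : c ≠ 0 := by
    rintro rfl
    apply n31
    rw [← h3, zero_smul, add_zero]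
    exact Submodule.mem_span_pair.mpr ⟨b, a, by rw [add_comm]⟩
  have ha0 : a ≠ 0 := by
    rintro rfl
    apply n30
    rw [← h3, zero_smul, zero_add]
    exact Submodule.mem_span_pair.mpr ⟨b, c, rfl⟩
  have h12 : S.T e u1 u2 = 0 := by
    have := h3b
    rw [← h3] at this
    simp only [map_add, map_smul, LinearMap.add_apply, LinearMap.smul_apply, smul_eq_mul,
      e12, e1e, e2e, hee, h1a, h2a, h1b, h2b] at this
    have h' : 2 * a * c * S.T e u1 u2 = 0 := by linear_combination this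
    rcases mul_eq_zero.mp h' with h | h
    · rcases mul_eq_zero.mp h with h | h
      · rcases mul_eq_zero.mp h with h | h
        · norm_num at h
        · exact absurd h ha0
      · exact absurd h hc0
    · exact h
  intro w hw
  obtain ⟨a', b', c', rfl⟩ := hmem w hw
  simp only [map_add, map_smul, LinearMap.add_apply, LinearMap.smul_apply, smul_eq_mul,
    e12, e1e, e2e, hee, h1a, h2a, h1b, h2b, h12]
  ring

end Lines

/-! ### polynomial-level packaging -/

section Poly

variable {f : MvPolynomial (Fin n) ℂ}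

theorem matrix_isRefl (hn : 3 ≤ n) (hf : f.IsHomogeneous 3)
    (hsm : ∀ v : Fin n → ℂ, v ≠ 0 → eval v f = 0 → ∃ i : Fin n, eval v (pderiv i f) ≠ 0)
    (A : Matrix (Fin n) (Fin n) ℂ) (e : Fin n → ℂ) (he : e ≠ 0) (hFe : eval e f = 0)
    (hAA : A * A = 1)
    (hfix : Module.finrank ℂ ↥(LinearMap.ker (Matrix.toLin' A - LinearMap.id)) + 1 = n)
    (hAe : A.mulVec e = -e) (c : ℂ)
    (hAf : aeval (fun i : Fin n => ∑ j : Fin n, C (A i j) * X j) f = C c * f) :
    ∃ μ : (Fin n → ℂ) →ₗ[ℂ] ℂ, (symTri f).IsRefl e μ ∧ A = reflMatrix e μ ∧ c = 1 := by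
  obtain ⟨μ, hμe, hA⟩ := exists_functional_of_reflection A e he hAA hfix hAe
  have hμne : μ e ≠ 0 := by rw [hμe]; exact two_ne_zero
  obtain ⟨a, b, ha, hb, hab⟩ := exists_pair_in_ker hn μ hμne
  have hc : ∀ w, (symTri f).F (w - μ w • e) = c * (symTri f).F w := by
    intro w
    rw [symTri_F hf, symTri_F hf, ← hA]
    exact (aeval_subst_eq_iff A f c).mp hAf w
  have hFe' : (symTri f).F e = 0 := by rw [symTri_F hf]; exact hFe
  obtain ⟨hc1, hrefl⟩ := (symTri f).isRefl_of_auto (symTri_smooth hf hsm) hFe' hμe ha hb hab hc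
  exact ⟨μ, hrefl, eq_reflMatrix_of_mulVec A e μ hA, hc1⟩

theorem reflMatrix_spec (hf : f.IsHomogeneous 3) {e : Fin n → ℂ} {μ : (Fin n → ℂ) →ₗ[ℂ] ℂ}
    (h : (symTri f).IsRefl e μ) (hFe : eval e f = 0) :
    reflMatrix e μ * reflMatrix e μ = 1 ∧
    Module.finrank ℂ ↥(LinearMap.ker (Matrix.toLin' (reflMatrix e μ) - LinearMap.id)) + 1 = n ∧
    (reflMatrix e μ).mulVec e = -e ∧
    aeval (fun i : Fin n => ∑ j : Fin n, C (reflMatrix e μ i j) * X j) f = C 1 * f := by
  refine ⟨reflMatrix_mul_self e μ h.mu_e, reflMatrix_finrank e μ h.mu_e, ?_, ?_⟩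
  · rw [reflMatrix_mulVec, h.mu_e]; module
  · rw [aeval_subst_eq_iff]
    intro v
    have hFe' : (symTri f).F e = 0 := by rw [symTri_F hf]; exact hFe
    have := h.F_refl _ hFe' v
    rw [SymTri.refl_apply, symTri_F hf, symTri_F hf] at this
    rw [reflMatrix_mulVec, this, one_mul]

theorem matrix_refl_unique (hn : 3 ≤ n) (hf : f.IsHomogeneous 3)
    (hsm : ∀ v : Fin n → ℂ, v ≠ 0 → eval v f = 0 → ∃ i : Fin n, eval v (pderiv i f) ≠ 0)
    (e : Fin n → ℂ) (he : e ≠ 0) (hFe : eval e f = 0)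
    {μ : (Fin n → ℂ) →ₗ[ℂ] ℂ} (hμ : (symTri f).IsRefl e μ)
    (A : Matrix (Fin n) (Fin n) ℂ) (hAA : A * A = 1)
    (hfix : Module.finrank ℂ ↥(LinearMap.ker (Matrix.toLin' A - LinearMap.id)) + 1 = n)
    (hAe : A.mulVec e = -e) (c : ℂ)
    (hAf : aeval (fun i : Fin n => ∑ j : Fin n, C (A i j) * X j) f = C c * f) :
    A = reflMatrix e μ := by
  obtain ⟨μ', hμ', hA, -⟩ := matrix_isRefl hn hf hsm A e he hFe hAA hfix hAe c hAf
  have hFe' : (symTri f).F e = 0 := by rw [symTri_F hf]; exact hFe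
  rw [hA, (symTri f).refl_unique (symTri_smooth hf hsm) he hFe' hμ' hμ]

end Poly

end Groth.Agent.Lib.H79Cubic
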