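import Groth.Agent.Lib.H79Cubic

/-!
# Cubic forms II: transport of lines, two special points on a line
-/

open MvPolynomial

namespace Groth.Agent.Lib.H79Cubic

namespace SymTri

variable {V : Type*} [AddCommGroup V] [Module ℂ V] (S : SymTri V)

/-- the reflection as a linear equivalence -/
noncomputable def reflEquiv (e : V) (μ : V →ₗ[ℂ] ℂ) (h : μ e = 2) : V ≃ₗ[ℂ] V :=
  LinearEquiv.ofInvolutive (refl e μ) (refl_refl e μ h)

@[simp] theorem reflEquiv_apply (e : V) (μ : V →ₗ[ℂ] ℂ) (h : μ e = 2) (w : V) :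
    reflEquiv e μ h w = w - μ w • e := by
  simp [reflEquiv]

theorem HasThreeLines.map {e : V} (h : S.HasThreeLines e) (φ : V ≃ₗ[ℂ] V)
    (hφ : ∀ v, S.F (φ v) = S.F v) : S.HasThreeLines (φ e) := by
  obtain ⟨U, hinj, hU⟩ := h
  refine ⟨fun i => (U i).map φ.toLinearMap, ?_, ?_⟩
  · intro i j hij
    exact hinj (Submodule.map_injective_of_injective φ.injective hij)
  · intro i
    refine ⟨?_, ?_, ?_⟩
    · rw [LinearEquiv.finrank_map_eq]; exact (hU i).1
    · exact Submodule.mem_map_of_mem (hU i).2.1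
    · rintro u ⟨u0, hu0, rfl⟩
      change S.F (φ u0) = 0
      rw [hφ]; exact (hU i).2.2 u0 hu0

theorem HasThreeLines.smul {e : V} (h : S.HasThreeLines e) (c : ℂ) : S.HasThreeLines (c • e) := by
  obtain ⟨U, hinj, hU⟩ := h
  exact ⟨U, hinj, fun i => ⟨(hU i).1, Submodule.smul_mem _ _ (hU i).2.1, (hU i).2.2⟩⟩

theorem IsRefl.two_point {e : V} {μ : V →ₗ[ℂ] ℂ} (h : S.IsRefl e μ) (e' : V) :
    S.T e' e' e = S.T e e e' * μ e' := by
  rw [← h.quad e', S.s13 e' e' e]

end SymTri

/-- linear independence of a pair from the hypotheses used in the statements -/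
theorem li_of_not_mem_span {V : Type*} [AddCommGroup V] [Module ℂ V] {e e' : V} (he : e ≠ 0)
    (he' : e' ∉ Submodule.span ℂ {e}) : LinearIndependent ℂ ![e, e'] := by
  rw [LinearIndependent.pair_iff' he]
  intro a ha
  exact he' (Submodule.mem_span_singleton.mpr ⟨a, ha⟩)

end Groth.Agent.Lib.H79Cubic
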