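import Groth.Agent.Lib.H79Cubic2

/-!
# Cubic forms III: scaling and conjugation of reflections
-/

open MvPolynomial

namespace Groth.Agent.Lib.H79Cubic

namespace SymTri

theorem IsRefl.smul {V : Type*} [AddCommGroup V] [Module ℂ V] (S : SymTri V) {e : V}
    {μ : V →ₗ[ℂ] ℂ} (h : S.IsRefl e μ) {c : ℂ} (hc : c ≠ 0) :
    S.IsRefl (c • e) (c⁻¹ • μ) := by
  constructor
  · simp only [LinearMap.smul_apply, map_smul, smul_eq_mul, h.mu_e]
    field_simp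
  · intro w
    simp only [LinearMap.smul_apply, map_smul, smul_eq_mul, h.quad w]
    field_simp

theorem refl_smul {V : Type*} [AddCommGroup V] [Module ℂ V] (e : V)
    (μ : V →ₗ[ℂ] ℂ) {c : ℂ} (hc : c ≠ 0) (w : V) :
    refl (c • e) (c⁻¹ • μ) w = refl e μ w := by
  simp only [refl_apply, LinearMap.smul_apply, smul_eq_mul, smul_smul]
  congr 2
  field_simp

theorem IsRefl.ne_zero {V : Type*} [AddCommGroup V] [Module ℂ V] (S : SymTri V) {e : V}
    {μ : V →ₗ[ℂ] ℂ} (h : S.IsRefl e μ) : e ≠ 0 := by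
  rintro rfl
  have := h.mu_e
  rw [map_zero] at this
  exact two_ne_zero this.symm

/-- conjugating the reflection at `e'` by the reflection at `e` gives the reflection at the
image point -/
theorem refl_conj {n : ℕ} (hn : 3 ≤ n) (S : SymTri (Fin n → ℂ)) (hS : S.Smooth)
    {e e' p : Fin n → ℂ} {μ μ' ν : (Fin n → ℂ) →ₗ[ℂ] ℂ}
    (hμ : S.IsRefl e μ) (hFe : S.F e = 0) (hμ' : S.IsRefl e' μ') (hFe' : S.F e' = 0)
    (hp : p = refl e μ e') (hν : S.IsRefl p ν) (w : Fin n → ℂ) :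
    refl e μ (refl e' μ' (refl e μ w)) = refl p ν w := by
  have hp0 : p ≠ 0 := hν.ne_zero S
  have hFp : S.F p = 0 := by rw [hp, hμ.F_refl S hFe]; exact hFe'
  -- the functional of the conjugate
  obtain ⟨ν', hν'⟩ : ∃ ν' : (Fin n → ℂ) →ₗ[ℂ] ℂ, ν' = μ' ∘ₗ refl e μ := ⟨_, rfl⟩
  have hconj : ∀ w, refl e μ (refl e' μ' (refl e μ w)) = w - ν' w • p := by
    intro w
    rw [refl_apply e' μ', map_sub, map_smul, refl_refl e μ hμ.mu_e, hν', LinearMap.comp_apply,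
      ← hp]
  have hν'p : ν' p = 2 := by
    rw [hν', LinearMap.comp_apply, hp, refl_refl e μ hμ.mu_e, hμ'.mu_e]
  have hc : ∀ w, S.F (w - ν' w • p) = 1 * S.F w := by
    intro w
    rw [← hconj, hμ.F_refl S hFe, hμ'.F_refl S hFe', hμ.F_refl S hFe, one_mul]
  obtain ⟨a, b, ha, hb, hab⟩ := exists_pair_in_ker hn ν' (by rw [hν'p]; exact two_ne_zero)
  obtain ⟨-, hrefl⟩ := S.isRefl_of_auto hS hFp hν'p ha hb hab hc
  have := S.refl_unique hS hp0 hFp hrefl hν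
  rw [hconj, refl_apply, this]

end SymTri

theorem reflMatrix_mulVec' {n : ℕ} (e : Fin n → ℂ) (μ : (Fin n → ℂ) →ₗ[ℂ] ℂ) (w : Fin n → ℂ) :
    (reflMatrix e μ).mulVec w = SymTri.refl e μ w := by
  rw [reflMatrix_mulVec, SymTri.refl_apply]

theorem matrix_ext_mulVec {n : ℕ} {A B : Matrix (Fin n) (Fin n) ℂ}
    (h : ∀ w, A.mulVec w = B.mulVec w) : A = B := by
  apply Matrix.toLin'.injective
  apply LinearMap.ext
  intro w
  rw [Matrix.toLin'_apply, Matrix.toLin'_apply, h]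

theorem hasThreeLines_iff {n : ℕ} {f : MvPolynomial (Fin n) ℂ} (hf : f.IsHomogeneous 3)
    (v : Fin n → ℂ) :
    (∃ U : Fin 3 → Submodule ℂ (Fin n → ℂ), Function.Injective U ∧
        ∀ i : Fin 3, Module.finrank ℂ ↥(U i) = 2 ∧ v ∈ U i ∧ ∀ u ∈ U i, eval u f = 0) ↔
      (symTri f).HasThreeLines v := by
  constructor
  · rintro ⟨U, hinj, hU⟩
    exact ⟨U, hinj, fun i => ⟨(hU i).1, (hU i).2.1, fun u hu => by
      rw [symTri_F hf]; exact (hU i).2.2 u hu⟩⟩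
  · rintro ⟨U, hinj, hU⟩
    exact ⟨U, hinj, fun i => ⟨(hU i).1, (hU i).2.1, fun u hu => by
      rw [← symTri_F hf]; exact (hU i).2.2 u hu⟩⟩

/-- an Eckardt point of a smooth cubic surface lies on the surface and carries a reflection -/
theorem eckardt_refl {f : MvPolynomial (Fin 4) ℂ} (hf : f.IsHomogeneous 3)
    (hsm : ∀ v : Fin 4 → ℂ, v ≠ 0 → eval v f = 0 → ∃ i : Fin 4, eval v (pderiv i f) ≠ 0)
    {e : Fin 4 → ℂ} (he : e ≠ 0)
    (hE : ∃ U : Fin 3 → Submodule ℂ (Fin 4 → ℂ), Function.Injective U ∧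
        ∀ i : Fin 3, Module.finrank ℂ ↥(U i) = 2 ∧ e ∈ U i ∧ ∀ u ∈ U i, eval u f = 0) :
    eval e f = 0 ∧ ∃ μ : (Fin 4 → ℂ) →ₗ[ℂ] ℂ, (symTri f).IsRefl e μ := by
  have hS := symTri_smooth hf hsm
  have hdim : Module.finrank ℂ (Fin 4 → ℂ) = 4 := by simp
  obtain ⟨hFe, hsp⟩ := (symTri f).special_of_threeLines hdim hS he ((hasThreeLines_iff hf e).mp hE)
  refine ⟨by rw [← symTri_F hf]; exact hFe, (symTri f).exists_refl_of_special hS he hFe hsp⟩

/-- a matrix satisfying the conditions of an Eckardt involution is the reflection matrix -/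
theorem eckardt_matrix_eq {f : MvPolynomial (Fin 4) ℂ} (hf : f.IsHomogeneous 3)
    (hsm : ∀ v : Fin 4 → ℂ, v ≠ 0 → eval v f = 0 → ∃ i : Fin 4, eval v (pderiv i f) ≠ 0)
    {e : Fin 4 → ℂ} (he : e ≠ 0) (hFe : eval e f = 0)
    {μ : (Fin 4 → ℂ) →ₗ[ℂ] ℂ} (hμ : (symTri f).IsRefl e μ)
    (A : Matrix (Fin 4) (Fin 4) ℂ)
    (hA : A * A = 1 ∧ Module.finrank ℂ ↥(LinearMap.ker (Matrix.toLin' A - LinearMap.id)) = 3 ∧
        A.mulVec e = -e ∧
        ∃ c : ℂ, aeval (fun i : Fin 4 => ∑ j : Fin 4, C (A i j) * X j) f = C c * f) :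
    A = reflMatrix e μ := by
  obtain ⟨h1, h2, h3, c, h4⟩ := hA
  exact matrix_refl_unique (by norm_num) hf hsm e he hFe hμ A h1 (by omega) h3 c h4

end Groth.Agent.Lib.H79Cubic
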