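import Groth.Agent.Lib.H79Cubic3

/-!
# Cubic forms IV: two Eckardt points joined by a line of the surface
-/

open MvPolynomial

namespace Groth.Agent.Lib.H79Cubic

namespace SymTri

variable {V : Type*} [AddCommGroup V] [Module ℂ V] [FiniteDimensional ℂ V] (S : SymTri V)

/-- among three lines through `e` one does not contain a given independent vector `e'` -/
theorem exists_line_not_mem {e e' : V} (he : e ≠ 0) (hli : LinearIndependent ℂ ![e, e'])
    (h3 : S.HasThreeLines e) :
    ∃ u, LinearIndependent ℂ ![e, u] ∧ e' ∉ Submodule.span ℂ ({e, u} : Set V) ∧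
      S.T e e u = 0 ∧ S.T e u u = 0 ∧ S.F u = 0 := by
  obtain ⟨U, hinj, hU⟩ := h3
  have key : ∀ i : Fin 3, e' ∉ U i → ∃ u, LinearIndependent ℂ ![e, u] ∧
      e' ∉ Submodule.span ℂ ({e, u} : Set V) ∧ S.T e e u = 0 ∧ S.T e u u = 0 ∧ S.F u = 0 := by
    intro i hi
    obtain ⟨u, huU, li, hUeq⟩ := exists_gen_of_line he (hU i).1 (hU i).2.1
    have v := (hU i).2.2
    rw [hUeq, S.vanish_on_pair_iff] at v
    rw [hUeq] at hi
    exact ⟨u, li, hi, v.2.1, v.2.2.1, v.2.2.2⟩
  by_cases h0 : e' ∈ U 0
  · apply key 1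
    intro h1
    have e0 := line_eq_of_mem hli (hU 0).1 (hU 0).2.1 h0
    have e1 := line_eq_of_mem hli (hU 1).1 (hU 1).2.1 h1
    exact absurd (hinj (e0.symm.trans e1)) (by decide)
  · exact key 0 h0

/-- if the line joining two special points lies on the smooth cubic surface, then each point is
fixed by the reflection of the other -/
theorem mu_eq_zero_of_line (hdim : Module.finrank ℂ V = 4) (hS : S.Smooth) {e e' : V}
    {μ μ' : V →ₗ[ℂ] ℂ} (hμ : S.IsRefl e μ) (hμ' : S.IsRefl e' μ') (hFe : S.F e = 0)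
    (hFe' : S.F e' = 0) (hli : LinearIndependent ℂ ![e, e'])
    (hβ : S.T e e e' = 0) (hα : S.T e' e' e = 0) (h3 : S.HasThreeLines e) : μ e' = 0 := by
  by_contra hne
  have he : e ≠ 0 := hμ.ne_zero S
  obtain ⟨u, liu, hnot, hu1, hu2, hFu⟩ := S.exists_line_not_mem he hli h3
  -- l(w) μ(e') = l'(w) μ'(e)
  have hstar : ∀ w, S.T e e w * μ e' = S.T e' e' w * μ' e := by
    intro w
    have h1 := hμ.bilin S e' w
    have h2 := hμ'.bilin S e w
    rw [hβ] at h1
    rw [hα] at h2
    have h3 : S.T e' e w = S.T e e' w := S.s12 e' e w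
    rw [h3] at h2
    linear_combination h2 - h1
  have hl'u : S.T e' e' u = 0 ∨ μ' e = 0 := by
    have := hstar u
    rw [hu1, zero_mul] at this
    exact mul_eq_zero.mp this.symm
  -- in both cases T e' u u = 0 and T e' e' u * stuff; we need T e' e' u = 0
  have hl'u0 : S.T e' e' u = 0 := by
    rcases hl'u with h | h
    · exact h
    · -- then l(w) μ(e') = 0 for all w, contradicting smoothness at e
      exfalso
      obtain ⟨w0, hw0⟩ := hS e he hFe
      have := hstar w0
      rw [h, mul_zero] at this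
      rcases mul_eq_zero.mp this with h' | h'
      · exact hw0 h'
      · exact hne h'
  have hq'u : S.T e' u u = 0 := by rw [hμ'.quad u, hl'u0, zero_mul]
  have hee'u : S.T e e' u = 0 := by
    have h1 := hμ.bilin S e' u
    rw [hβ, hu1] at h1
    linear_combination (1/2 : ℂ) * h1
  -- F vanishes on span{e', e, u}
  have li3 : LinearIndependent ℂ ![e', e, u] := li_triple liu hnot
  obtain ⟨w0, hw0⟩ := hS e he hFe
  have hK := finrank_ker_functional' (S.T e e) hw0
  rw [hdim] at hK
  have hKeq : Submodule.span ℂ ({e', e, u} : Set V) = LinearMap.ker (S.T e e) := by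
    apply Submodule.eq_of_le_of_finrank_eq
    · rw [Submodule.span_le]
      intro z hz
      rcases hz with rfl | rfl | rfl
      · exact hβ
      · exact hFe
      · exact hu1
    · rw [finrank_span_triple_of_li li3]; omega
  refine S.not_vanish_on_ker hS (S.T e e) hw0 (a := e) (b := e') hFe hβ hli ?_
  intro w hw
  have : w ∈ Submodule.span ℂ ({e', e, u} : Set V) := by rw [hKeq]; exact hw
  obtain ⟨a, b, c, rfl⟩ := Submodule.mem_span_triple.mp this
  rw [S.F_lin3, hFe, hFe', hFu, hα, hl'u0]
  have e1 : S.T u u e' = 0 := by rw [S.s13 u u e']; exact hq'u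
  have e2 : S.T u u e = 0 := by rw [S.s13 u u e]; exact hu2
  have e3 : S.T e' e u = 0 := by rw [S.s12 e' e u]; exact hee'u
  rw [e1, e2, e3, hβ, hu1]; ring

end SymTri

end Groth.Agent.Lib.H79Cubic
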