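import Groth.Agent.Lib.H79Cubic4

/-!
# Cubic forms V: flexes of plane cubics
-/

open MvPolynomial

namespace Groth.Agent.Lib.H79Cubic

namespace SymTri

/-- the conjugate of a reflection by a reflection is a reflection at the image point -/
theorem isRefl_conj {n : ℕ} (hn : 3 ≤ n) (S : SymTri (Fin n → ℂ)) (hS : S.Smooth)
    {e e' : Fin n → ℂ} {μ μ' : (Fin n → ℂ) →ₗ[ℂ] ℂ}
    (hμ : S.IsRefl e μ) (hFe : S.F e = 0) (hμ' : S.IsRefl e' μ') (hFe' : S.F e' = 0) :
    S.IsRefl (refl e μ e') (μ' ∘ₗ refl e μ) ∧ S.F (refl e μ e') = 0 := by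
  obtain ⟨p, hp⟩ : ∃ p, p = refl e μ e' := ⟨_, rfl⟩
  rw [← hp]
  have hFp : S.F p = 0 := by rw [hp, hμ.F_refl S hFe]; exact hFe'
  obtain ⟨ν', hν'⟩ : ∃ ν' : (Fin n → ℂ) →ₗ[ℂ] ℂ, ν' = μ' ∘ₗ refl e μ := ⟨_, rfl⟩
  rw [← hν']
  have hconj : ∀ w, refl e μ (refl e' μ' (refl e μ w)) = w - ν' w • p := by
    intro w
    rw [refl_apply e' μ', map_sub, map_smul, refl_refl e μ hμ.mu_e, hν', LinearMap.comp_apply,
      ← hp]
  have hν'p : ν' p = 2 := by
    rw [hν', LinearMap.comp_apply, hp, refl_refl e μ hμ.mu_e, hμ'.mu_e]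
  have hc : ∀ w, S.F (w - ν' w • p) = 1 * S.F w := by
    intro w
    rw [← hconj, hμ.F_refl S hFe, hμ'.F_refl S hFe', hμ.F_refl S hFe, one_mul]
  obtain ⟨a, b, ha, hb, hab⟩ := exists_pair_in_ker hn ν' (by rw [hν'p]; exact two_ne_zero)
  exact ⟨(S.isRefl_of_auto hS hFp hν'p ha hb hab hc).2, hFp⟩

variable {V : Type*} [AddCommGroup V] [Module ℂ V] [FiniteDimensional ℂ V] (S : SymTri V)

/-- a flex of a smooth plane cubic is a special point -/
theorem flex_special (hdim : Module.finrank ℂ V = 3) (hS : S.Smooth) {v w : V}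
    (hFv : S.F v = 0) (hli : LinearIndependent ℂ ![v, w])
    (hflex : ∀ t : ℂ, S.F (v + t • w) = t ^ 3 * S.F w) :
    ∀ z, S.T v v z = 0 → S.T v z z = 0 := by
  have hv : v ≠ 0 := by
    have := hli.ne_zero 0
    simpa using this
  have h1 := hflex 1
  have h2 := hflex (-1)
  rw [S.F_add_smul, hFv] at h1 h2
  have hvw : S.T v v w = 0 := by linear_combination (1/6 : ℂ) * h1 - (1/6 : ℂ) * h2
  have hvww : S.T v w w = 0 := by linear_combination (1/6 : ℂ) * h1 + (1/6 : ℂ) * h2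
  obtain ⟨w0, hw0⟩ := hS v hv hFv
  have hK := finrank_ker_functional' (S.T v v) hw0
  rw [hdim] at hK
  have hKeq : Submodule.span ℂ ({v, w} : Set V) = LinearMap.ker (S.T v v) := by
    apply Submodule.eq_of_le_of_finrank_eq
    · rw [Submodule.span_le]
      intro z hz
      rcases hz with rfl | rfl
      · exact hFv
      · exact hvw
    · rw [finrank_span_pair_of_li hli]; omega
  intro z hz
  have : z ∈ Submodule.span ℂ ({v, w} : Set V) := by rw [hKeq]; exact hz
  obtain ⟨a, b, rfl⟩ := Submodule.mem_span_pair.mp this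
  have e1 : S.T v w v = 0 := by rw [S.s23 v w v]; exact hvw
  have e2 : S.T v v v = 0 := hFv
  simp only [map_add, map_smul, LinearMap.add_apply, LinearMap.smul_apply, smul_eq_mul,
    e1, e2, hvw, hvww]
  ring

end SymTri

end Groth.Agent.Lib.H79Cubic
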