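import Groth.Agent.Lib.H79Cubic5

open MvPolynomial

namespace Groth.Agent.Lib.H79Cubic

theorem cubic_three_roots (c0 c1 c2 c3 : ℂ) (h0 : c0 ≠ 0) :
    ∃ x y z : ℂ, c1 = c0 * -(x + y + z) ∧ c2 = c0 * (x * y + x * z + y * z) ∧
      c3 = c0 * -(x * y * z) := by
  let P : Cubic ℂ := ⟨c0, c1, c2, c3⟩
  have ha : P.a ≠ 0 := h0
  have hs : (P.toPoly.map (RingHom.id ℂ)).Splits := IsAlgClosed.splits _
  obtain ⟨x, y, z, h3⟩ := (Cubic.splits_iff_roots_eq_three ha).mp hs
  refine ⟨x, y, z, ?_, ?_, ?_⟩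
  · simpa using Cubic.b_eq_three_roots ha h3
  · simpa using Cubic.c_eq_three_roots ha h3
  · simpa using Cubic.d_eq_three_roots ha h3

namespace SymTri

variable {V : Type*} [AddCommGroup V] [Module ℂ V] [FiniteDimensional ℂ V] (S : SymTri V)

omit S in
/-- two independent vectors in the common kernel of two functionals, in dimension 4 -/
theorem exists_pair_in_ker2 (hdim : Module.finrank ℂ V = 4) (l μ : V →ₗ[ℂ] ℂ) :
    ∃ a b : V, l a = 0 ∧ μ a = 0 ∧ l b = 0 ∧ μ b = 0 ∧ LinearIndependent ℂ ![a, b] := by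
  have h1 := LinearMap.finrank_range_add_finrank_ker (l.prod μ)
  have h2 : Module.finrank ℂ ↥(LinearMap.range (l.prod μ)) ≤ 2 := by
    have := Submodule.finrank_le (LinearMap.range (l.prod μ))
    rw [Module.finrank_prod, Module.finrank_self] at this
    exact this
  rw [hdim] at h1
  have h3 : 1 < Module.finrank ℂ ↥(LinearMap.ker (l.prod μ)) := by omega
  have h4 : 0 < Module.finrank ℂ ↥(LinearMap.ker (l.prod μ)) := by omega
  obtain ⟨x, hx⟩ := Module.finrank_pos_iff_exists_ne_zero.mp h4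
  obtain ⟨y, hy⟩ := exists_linearIndependent_pair_of_one_lt_finrank h3 hx
  have hxk := x.2
  have hyk := y.2
  rw [LinearMap.mem_ker, LinearMap.prod_apply, Prod.mk_eq_zero] at hxk hyk
  refine ⟨x, y, hxk.1, hxk.2, hyk.1, hyk.2, ?_⟩
  have := hy.map' (LinearMap.ker (l.prod μ)).subtype (Submodule.ker_subtype _)
  have h5 : (⇑(LinearMap.ker (l.prod μ)).subtype ∘ ![x, y]) = ![(x : V), (y : V)] := by
    funext i
    fin_cases i <;> rfl
  rw [h5] at this
  exact this

/-- a root of the cubic on the plane `ker l ∩ ker μ` cannot be a double root -/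
theorem no_double (hdim : Module.finrank ℂ V = 4) (hS : S.Smooth) {p a b : V} {μ : V →ₗ[ℂ] ℂ}
    (hμ : S.IsRefl p μ) (hFp : S.F p = 0) (hla : S.T p p a = 0) (hμa : μ a = 0)
    (hlb : S.T p p b = 0) (hμb : μ b = 0) (hab : LinearIndependent ℂ ![a, b])
    {u : V} (hlu : S.T p p u = 0) (hμu : μ u = 0) (hu0 : u ≠ 0) (hFu : S.F u = 0)
    (hua : S.T u u a = 0) (hub : S.T u u b = 0) : False := by
  have hp0 : p ≠ 0 := hμ.ne_zero S
  obtain ⟨w0, hw0⟩ := hS p hp0 hFp
  -- ker l = span{p, a, b}
  have hpab : p ∉ Submodule.span ℂ ({a, b} : Set V) := by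
    intro h
    obtain ⟨s, t, hst⟩ := Submodule.mem_span_pair.mp h
    have := congrArg μ hst
    rw [map_add, map_smul, map_smul, hμa, hμb, hμ.mu_e] at this
    simp at this
  have li3 : LinearIndependent ℂ ![p, a, b] := li_triple hab hpab
  have hK := finrank_ker_functional' (S.T p p) hw0
  rw [hdim] at hK
  have hKeq : Submodule.span ℂ ({p, a, b} : Set V) = LinearMap.ker (S.T p p) := by
    apply Submodule.eq_of_le_of_finrank_eq
    · rw [Submodule.span_le]
      intro z hz
      rcases hz with h | h | h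
      · rw [h]; exact hFp
      · rw [h]; exact hla
      · rw [Set.mem_singleton_iff] at h
        rw [h]; exact hlb
    · rw [finrank_span_triple_of_li li3]; omega
  have hup : S.T u u p = 0 := by
    rw [S.s13 u u p, hμ.quad u, hlu, zero_mul]
  have hker : ∀ z, S.T p p z = 0 → S.T u u z = 0 := by
    intro z hz
    have : z ∈ Submodule.span ℂ ({p, a, b} : Set V) := by rw [hKeq]; exact hz
    obtain ⟨x, y, t, rfl⟩ := Submodule.mem_span_triple.mp this
    simp only [map_add, map_smul, smul_eq_mul, hup, hua, hub]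
    ring
  obtain ⟨lam, hlam⟩ : ∃ lam : ℂ, ∀ z, S.T u u z = lam * S.T p p z := by
    refine ⟨S.T u u w0 / S.T p p w0, ?_⟩
    intro z
    have hz : z = (z - (S.T p p z / S.T p p w0) • w0) + (S.T p p z / S.T p p w0) • w0 := by
      module
    have h1 : S.T u u (z - (S.T p p z / S.T p p w0) • w0) = 0 := by
      apply hker
      simp only [map_sub, map_smul, smul_eq_mul]
      field_simp
      ring
    rw [hz, map_add, h1, map_smul, smul_eq_mul, map_add, map_smul, smul_eq_mul]
    simp only [map_sub, map_smul, smul_eq_mul]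
    field_simp
    ring
  obtain ⟨x, hx⟩ := IsAlgClosed.exists_pow_nat_eq (-lam) (n := 2) (by norm_num)
  -- the singular point
  have hw0' : u + x • p ≠ 0 := by
    intro h
    have := congrArg μ h
    rw [map_add, map_smul, hμu, hμ.mu_e, map_zero] at this
    have hx0 : x = 0 := by
      simp only [smul_eq_mul, zero_add] at this
      exact (mul_eq_zero.mp this).resolve_right two_ne_zero
    rw [hx0, zero_smul, add_zero] at h
    exact hu0 h
  have hFw : S.F (u + x • p) = 0 := by
    rw [S.F_add_smul, hFu, hFp, hup]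
    have : S.T u p p = 0 := by rw [S.s13 u p p]; exact hlu
    rw [this]; ring
  obtain ⟨z, hz⟩ := hS _ hw0' hFw
  apply hz
  have hb2 := hμ.bilin S u z
  rw [hlu, hμu] at hb2
  have e1 : S.T p u z = 0 := by linear_combination (1/2 : ℂ) * hb2
  have e2 : S.T u p z = 0 := by rw [S.s12 u p z]; exact e1
  simp only [map_add, map_smul, LinearMap.add_apply, LinearMap.smul_apply, smul_eq_mul, e1, e2,
    hlam z]
  linear_combination (S.T p p z) * hx

/-- a point carrying a reflection of a smooth cubic surface lies on three distinct lines -/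
theorem threeLines_of_isRefl (hdim : Module.finrank ℂ V = 4) (hS : S.Smooth) {p : V}
    {μ : V →ₗ[ℂ] ℂ} (hμ : S.IsRefl p μ) (hFp : S.F p = 0) : S.HasThreeLines p := by
  obtain ⟨a₀, b₀, hla₀, hμa₀, hlb₀, hμb₀, hab₀⟩ := exists_pair_in_ker2 hdim (S.T p p) μ
  -- choose the basis so that F a ≠ 0
  obtain ⟨a, b, hla, hμa, hlb, hμb, hab, hFa⟩ : ∃ a b : V, S.T p p a = 0 ∧ μ a = 0 ∧
      S.T p p b = 0 ∧ μ b = 0 ∧ LinearIndependent ℂ ![a, b] ∧ S.F a ≠ 0 := by
    by_cases hFa : S.F a₀ = 0
    · have ha0 : a₀ ≠ 0 := by simpa using hab₀.ne_zero 0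
      have hTab : S.T a₀ a₀ b₀ ≠ 0 := by
        intro h
        exact S.no_double hdim hS hμ hFp hla₀ hμa₀ hlb₀ hμb₀ hab₀ hla₀ hμa₀ ha0 hFa hFa h
      have hex : ∃ t : ℂ, S.F (a₀ + t • b₀) ≠ 0 := by
        by_contra hall
        push Not at hall
        have h1 := hall 1
        have h2 := hall (-1)
        have h3 := hall 2
        rw [S.F_add_smul, hFa] at h1 h2 h3
        apply hTab
        linear_combination (1/3 : ℂ) * h1 - (1/9 : ℂ) * h2 - (1/18 : ℂ) * h3
      obtain ⟨t, ht⟩ := hex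
      refine ⟨a₀ + t • b₀, b₀, ?_, ?_, hlb₀, hμb₀, ?_, ht⟩
      · rw [map_add, map_smul, hla₀, hlb₀]; simp
      · rw [map_add, map_smul, hμa₀, hμb₀]; simp
      · rw [LinearIndependent.pair_iff] at hab₀ ⊢
        intro s r hsr
        have : s • a₀ + (s * t + r) • b₀ = 0 := by
          rw [← hsr]; module
        obtain ⟨h1, h2⟩ := hab₀ _ _ this
        refine ⟨h1, ?_⟩
        rw [h1, zero_mul, zero_add] at h2
        exact h2
    · exact ⟨a₀, b₀, hla₀, hμa₀, hlb₀, hμb₀, hab₀, hFa⟩
  obtain ⟨c0, hc0⟩ : ∃ c0, S.F a = c0 := ⟨_, rfl⟩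
  obtain ⟨c1, hc1⟩ : ∃ c1, 3 * S.T a a b = c1 := ⟨_, rfl⟩
  obtain ⟨c2, hc2⟩ : ∃ c2, 3 * S.T a b b = c2 := ⟨_, rfl⟩
  obtain ⟨c3, hc3⟩ : ∃ c3, S.F b = c3 := ⟨_, rfl⟩
  rw [hc0] at hFa
  have hFu : ∀ r : ℂ, S.F (r • a + b) = c0 * r ^ 3 + c1 * r ^ 2 + c2 * r + c3 := by
    intro r
    have := S.F_lin2 r 1 a b
    rw [one_smul] at this
    rw [this, hc0, hc3, ← hc1, ← hc2]; ring
  have hTua : ∀ r : ℂ, 3 * S.T (r • a + b) (r • a + b) a = 3 * c0 * r ^ 2 + 2 * c1 * r + c2 := by
    intro r
    have := S.T_diag_lin2 r 1 a b a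
    rw [one_smul] at this
    have e1 : S.T a b a = S.T a a b := S.s23 a b a
    have e2 : S.T b b a = S.T a b b := by rw [S.s13 b b a]
    have e3 : S.T a a a = c0 := hc0
    rw [this, e1, e2, e3, ← hc1, ← hc2]; ring
  have hune : ∀ r : ℂ, r • a + b ≠ 0 := by
    intro r h
    have := (LinearIndependent.pair_iff.mp hab) r 1 (by rw [one_smul]; exact h)
    exact one_ne_zero this.2
  have hlu : ∀ r : ℂ, S.T p p (r • a + b) = 0 := by
    intro r; rw [map_add, map_smul, hla, hlb]; simp
  have hμu : ∀ r : ℂ, μ (r • a + b) = 0 := by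
    intro r; rw [map_add, map_smul, hμa, hμb]; simp
  -- no double roots
  have dbl : ∀ r t : ℂ, c1 = c0 * -(r + r + t) → c2 = c0 * (r * r + r * t + r * t) →
      c3 = c0 * -(r * r * t) → False := by
    intro r t h1 h2 h3
    have hF0 : S.F (r • a + b) = 0 := by rw [hFu, h1, h2, h3]; ring
    have hTa : S.T (r • a + b) (r • a + b) a = 0 := by
      have := hTua r
      rw [h1, h2] at this
      have h' : 3 * S.T (r • a + b) (r • a + b) a = 0 := by rw [this]; ring
      exact (mul_eq_zero.mp h').resolve_left (by norm_num)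
    have hTb : S.T (r • a + b) (r • a + b) b = 0 := by
      have : S.F (r • a + b) = r * S.T (r • a + b) (r • a + b) a
          + S.T (r • a + b) (r • a + b) b := by
        unfold SymTri.F
        conv_lhs => rw [map_add (S.T (r • a + b) (r • a + b)) (r • a) b, map_smul, smul_eq_mul]
      rw [hF0, hTa, mul_zero, zero_add] at this
      exact this.symm
    exact S.no_double hdim hS hμ hFp hla hμa hlb hμb hab (hlu r) (hμu r) (hune r) hF0 hTa hTb
  obtain ⟨x, y, z, h1, h2, h3⟩ := cubic_three_roots c0 c1 c2 c3 hFa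
  have hxy : x ≠ y := by
    rintro rfl
    exact dbl x z h1 (by rw [h2]) h3
  have hxz : x ≠ z := by
    rintro rfl
    exact dbl x y (by rw [h1]; ring) (by rw [h2]; ring) (by rw [h3]; ring)
  have hyz : y ≠ z := by
    rintro rfl
    exact dbl y x (by rw [h1]; ring) (by rw [h2]; ring) (by rw [h3]; ring)
  have hinjr : Function.Injective ![x, y, z] := by
    intro i j hij
    fin_cases i <;> fin_cases j <;> simp_all
  have hroot : ∀ i : Fin 3, S.F ((![x, y, z] i) • a + b) = 0 := by
    intro i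
    rw [hFu, h1, h2, h3]
    fin_cases i <;> simp <;> ring
  have hp0 : p ≠ 0 := hμ.ne_zero S
  have hli : ∀ r : ℂ, LinearIndependent ℂ ![p, r • a + b] := by
    intro r
    rw [LinearIndependent.pair_iff]
    intro s t hst
    have := congrArg μ hst
    rw [map_add, map_smul, map_smul, hμu, hμ.mu_e, map_zero] at this
    have hs : s = 0 := by
      simp only [smul_eq_mul, mul_zero, add_zero] at this
      exact (mul_eq_zero.mp this).resolve_right two_ne_zero
    rw [hs, zero_smul, zero_add] at hst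
    exact ⟨hs, (smul_eq_zero.mp hst).resolve_right (hune r)⟩
  have hne : ∀ r s : ℂ, Submodule.span ℂ ({p, r • a + b} : Set V)
      = Submodule.span ℂ ({p, s • a + b} : Set V) → r = s := by
    intro r s h
    have hmem : s • a + b ∈ Submodule.span ℂ ({p, r • a + b} : Set V) := by
      rw [h]; exact Submodule.subset_span (by simp)
    obtain ⟨c, d, hcd⟩ := Submodule.mem_span_pair.mp hmem
    have hμ' := congrArg μ hcd
    rw [map_add, map_smul, map_smul, hμu, hμu, hμ.mu_e] at hμ'
    have hc : c = 0 := by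
      simp only [smul_eq_mul, mul_zero, add_zero] at hμ'
      exact (mul_eq_zero.mp hμ').resolve_right two_ne_zero
    rw [hc, zero_smul, zero_add] at hcd
    have : (d * r - s) • a + (d - 1) • b = 0 := by
      have e : (d * r - s) • a + (d - 1) • b = d • (r • a + b) - (s • a + b) := by module
      rw [e, hcd, sub_self]
    obtain ⟨e1, e2⟩ := (LinearIndependent.pair_iff.mp hab) _ _ this
    have hd : d = 1 := by linear_combination e2
    rw [hd, one_mul] at e1
    linear_combination e1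
  refine ⟨fun i => Submodule.span ℂ ({p, (![x, y, z] i) • a + b} : Set V), ?_, ?_⟩
  · intro i j hij
    exact hinjr (hne _ _ hij)
  · intro i
    refine ⟨finrank_span_pair_of_li (hli _), Submodule.subset_span (by simp), ?_⟩
    rw [S.vanish_on_pair_iff]
    refine ⟨hFp, hlu _, ?_, hroot i⟩
    rw [hμ.quad, hlu, zero_mul]

end SymTri

end Groth.Agent.Lib.H79Cubic
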