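import Groth.Agent.Lib.H79Cubic6

open MvPolynomial

namespace Groth.Agent.Lib.H79Cubic

/-- the maximal ideal of the origin in `ℂ[X₀,X₁,X₂]` has height at least 3 -/
theorem height_origin_ge :
    (3 : ℕ∞) ≤ (vanishingIdeal ℂ ({0} : Set (Fin 3 → ℂ)) : Ideal (MvPolynomial (Fin 3) ℂ)).height := by
  -- the chain of primes
  let φ1 : MvPolynomial (Fin 3) ℂ →ₐ[ℂ] MvPolynomial (Fin 2) ℂ := aeval ![0, X 0, X 1]
  let φ2 : MvPolynomial (Fin 3) ℂ →ₐ[ℂ] Polynomial ℂ := aeval ![0, 0, Polynomial.X]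
  let ψ : MvPolynomial (Fin 2) ℂ →ₐ[ℂ] Polynomial ℂ := aeval ![0, Polynomial.X]
  have hψ : φ2 = ψ.comp φ1 := by
    apply MvPolynomial.algHom_ext
    intro i
    fin_cases i <;> simp [φ1, φ2, ψ]
  let P1 : Ideal (MvPolynomial (Fin 3) ℂ) := RingHom.ker φ1.toRingHom
  let P2 : Ideal (MvPolynomial (Fin 3) ℂ) := RingHom.ker φ2.toRingHom
  let P3 : Ideal (MvPolynomial (Fin 3) ℂ) := vanishingIdeal ℂ ({0} : Set (Fin 3 → ℂ))
  have hP1 : P1.IsPrime := RingHom.ker_isPrime _
  have hP2 : P2.IsPrime := RingHom.ker_isPrime _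
  have hP3 : P3.IsPrime := inferInstance
  have h01 : (⊥ : Ideal (MvPolynomial (Fin 3) ℂ)) < P1 := by
    rw [bot_lt_iff_ne_bot]
    intro h
    have : (X 0 : MvPolynomial (Fin 3) ℂ) ∈ P1 := by
      change φ1 (X 0) = 0
      simp [φ1]
    rw [h] at this
    exact X_ne_zero 0 this
  have h12 : P1 < P2 := by
    refine lt_of_le_of_ne ?_ ?_
    · intro p hp
      change φ2 p = 0
      rw [hψ, AlgHom.comp_apply]
      have : φ1 p = 0 := hp
      rw [this, map_zero]
    · intro h
      have h1 : (X 1 : MvPolynomial (Fin 3) ℂ) ∈ P2 := by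
        change φ2 (X 1) = 0
        simp [φ2]
      rw [← h] at h1
      have : φ1 (X 1) = 0 := h1
      simp [φ1] at this
  have h23 : P2 < P3 := by
    refine lt_of_le_of_ne ?_ ?_
    · intro p hp
      rw [mem_vanishingIdeal_singleton_iff]
      have h0 : (aeval (0 : Fin 3 → ℂ) : MvPolynomial (Fin 3) ℂ →ₐ[ℂ] ℂ)
          = (Polynomial.aeval (0:ℂ)).comp φ2 := by
        apply MvPolynomial.algHom_ext
        intro i
        fin_cases i <;> simp [φ2]
      rw [h0, AlgHom.comp_apply]
      have : φ2 p = 0 := hp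
      rw [this, map_zero]
    · intro h
      have h1 : (X 2 : MvPolynomial (Fin 3) ℂ) ∈ P3 := by
        rw [mem_vanishingIdeal_singleton_iff]; simp
      rw [← h] at h1
      have : φ2 (X 2) = 0 := h1
      simp [φ2] at this
  have e1 := Ideal.height_add_one_le_of_lt_of_isPrime h12
  have e2 := Ideal.height_add_one_le_of_lt_of_isPrime h23
  have e0 : (⊥ : Ideal (MvPolynomial (Fin 3) ℂ)).height + 1 ≤ P1.height :=
    Ideal.height_add_one_le_of_lt_of_isPrime h01
  have e00 : (1 : ℕ∞) ≤ P1.height := le_trans (by simp) e0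
  have e11 : (2 : ℕ∞) ≤ P2.height := by
    calc (2 : ℕ∞) = 1 + 1 := by norm_num
      _ ≤ P1.height + 1 := by gcongr
      _ ≤ P2.height := e1
  calc (3 : ℕ∞) = 2 + 1 := by norm_num
    _ ≤ P2.height + 1 := by gcongr
    _ ≤ P3.height := e2

/-- two polynomials in three variables vanishing at the origin have a common nonzero zero -/
theorem exists_common_zero (f g : MvPolynomial (Fin 3) ℂ) (hf0 : eval 0 f = 0)
    (hg0 : eval 0 g = 0) : ∃ v : Fin 3 → ℂ, v ≠ 0 ∧ eval v f = 0 ∧ eval v g = 0 := by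
  classical
  by_contra hno
  push Not at hno
  set I : Ideal (MvPolynomial (Fin 3) ℂ) := Ideal.span (({f, g} : Finset _) : Set _) with hI
  set m : Ideal (MvPolynomial (Fin 3) ℂ) := vanishingIdeal ℂ ({0} : Set (Fin 3 → ℂ)) with hm
  have hZ : zeroLocus ℂ I = {0} := by
    ext v
    rw [hI, zeroLocus_span]
    simp only [Finset.coe_insert, Finset.coe_singleton, Set.mem_insert_iff,
      Set.mem_singleton_iff, forall_eq_or_imp, forall_eq, Set.mem_setOf_eq]
    constructor
    · rintro ⟨h1, h2⟩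
      by_contra hv
      exact hno v hv (by simpa using h1) (by simpa using h2)
    · rintro rfl
      exact ⟨by simpa using hf0, by simpa using hg0⟩
  have hrad : I.radical = m := by
    rw [← vanishingIdeal_zeroLocus_eq_radical (K := ℂ), hZ]
  have hmmax : m.IsMaximal := inferInstance
  have hmin : m ∈ I.minimalPrimes := by
    refine ⟨⟨hmmax.isPrime, ?_⟩, ?_⟩
    · rw [← hrad]; exact Ideal.le_radical
    · rintro q ⟨hq, hIq⟩ hqm
      have : m ≤ q := by
        rw [← hrad]
        exact hq.radical_le_iff.mpr hIq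
      exact this
  have h2 := Ideal.height_le_card_of_mem_minimalPrimes_span_finset hmin
  have h3 := height_origin_ge
  have hcard : (({f, g} : Finset (MvPolynomial (Fin 3) ℂ)).card : ℕ∞) ≤ 2 := by
    exact_mod_cast Finset.card_le_two
  have : (3 : ℕ∞) ≤ 2 := h3.trans (h2.trans hcard)
  exact absurd this (by decide)

theorem vec_eq_sum_single {n : ℕ} (v : Fin n → ℂ) :
    v = ∑ i, v i • (Pi.single i (1:ℂ) : Fin n → ℂ) := by
  funext j
  simp [Finset.sum_apply, Pi.single_apply]

/-- the Hessian polynomial of a cubic (determinant of the matrix of `T(v,·,·)`) -/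
noncomputable def hessPoly {n : ℕ} (S : SymTri (Fin n → ℂ)) : MvPolynomial (Fin n) ℂ :=
  Matrix.det (Matrix.of fun i j : Fin n =>
    ∑ k, C (S.T (Pi.single k 1) (Pi.single i 1) (Pi.single j 1)) * X k)

theorem eval_hessPoly {n : ℕ} (S : SymTri (Fin n → ℂ)) (v : Fin n → ℂ) :
    eval v (hessPoly S) = Matrix.det (Matrix.of fun i j : Fin n =>
      S.T v (Pi.single i 1) (Pi.single j 1)) := by
  rw [hessPoly, RingHom.map_det]
  congr 1
  ext i j
  simp only [RingHom.mapMatrix_apply, Matrix.map_apply, Matrix.of_apply, map_sum, map_mul,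
    eval_C, eval_X]
  conv_rhs => rw [vec_eq_sum_single v]
  simp only [map_sum, map_smul, LinearMap.sum_apply, LinearMap.smul_apply, smul_eq_mul]
  apply Finset.sum_congr rfl
  intro k _
  ring


/-- a smooth plane cubic has a flex -/
theorem exists_flex {f : MvPolynomial (Fin 3) ℂ} (hf : f.IsHomogeneous 3)
    (hS : (symTri f).Smooth) :
    ∃ v u : Fin 3 → ℂ, v ≠ 0 ∧ (symTri f).F v = 0 ∧ LinearIndependent ℂ ![v, u] ∧
      ∀ z, (symTri f).T v z u = 0 := by
  obtain ⟨S, hSdef⟩ : ∃ S, S = symTri f := ⟨_, rfl⟩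
  rw [← hSdef] at hS ⊢
  have hSF : ∀ v, S.F v = eval v f := by intro v; rw [hSdef]; exact symTri_F hf v
  have h0 : eval 0 f = 0 := by rw [← hSF]; exact S.F_zero
  have hG0 : eval 0 (hessPoly S) = 0 := by
    rw [eval_hessPoly]
    have : (Matrix.of fun i j : Fin 3 => S.T 0 (Pi.single i 1) (Pi.single j 1)) = 0 := by
      ext i j; simp
    rw [this, Matrix.det_zero]
  obtain ⟨v, hv, hfv, hGv⟩ := exists_common_zero f (hessPoly S) h0 hG0
  rw [eval_hessPoly] at hGv
  obtain ⟨u, hu0, hu⟩ := Matrix.exists_mulVec_eq_zero_iff.mpr hGv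
  have hrow : ∀ i, S.T v (Pi.single i 1) u = 0 := by
    intro i
    have := congrFun hu i
    simp only [Matrix.mulVec, dotProduct, Matrix.of_apply, Pi.zero_apply] at this
    conv_lhs => rw [vec_eq_sum_single u]
    simp only [map_sum, map_smul, smul_eq_mul]
    rw [← this]
    apply Finset.sum_congr rfl
    intro j _
    ring
  have hall : ∀ z, S.T v z u = 0 := by
    intro z
    conv_lhs => rw [vec_eq_sum_single z]
    simp only [map_sum, map_smul, LinearMap.sum_apply, LinearMap.smul_apply, smul_eq_mul, hrow,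
      mul_zero, Finset.sum_const_zero]
  have hFv : S.F v = 0 := by rw [hSF]; exact hfv
  refine ⟨v, u, hv, hFv, ?_, hall⟩
  rw [LinearIndependent.pair_iff' hv]
  intro a ha
  have ha0 : a ≠ 0 := by
    rintro rfl
    rw [zero_smul] at ha
    exact hu0 ha.symm
  obtain ⟨w, hw⟩ := hS v hv hFv
  apply hw
  have := hall w
  rw [← ha, map_smul, smul_eq_mul] at this
  have h2 : S.T v w v = 0 := (mul_eq_zero.mp this).resolve_left ha0
  rw [S.s23 v v w]; exact h2


namespace SymTri

variable {V : Type*} [AddCommGroup V] [Module ℂ V] (S : SymTri V)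

theorem T_diag_lin3 (x y z : ℂ) (a b c w : V) :
    S.T (x • a + y • b + z • c) (x • a + y • b + z • c) w =
      x ^ 2 * S.T a a w + y ^ 2 * S.T b b w + z ^ 2 * S.T c c w
      + 2 * x * y * S.T a b w + 2 * x * z * S.T a c w + 2 * y * z * S.T b c w := by
  have e1 : S.T b a w = S.T a b w := S.s12 b a w
  have e2 : S.T c a w = S.T a c w := S.s12 c a w
  have e3 : S.T c b w = S.T b c w := S.s12 c b w
  simp only [map_add, map_smul, LinearMap.add_apply, LinearMap.smul_apply, smul_eq_mul, e1, e2, e3]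
  ring

variable [FiniteDimensional ℂ V]

omit S in
theorem span3 (hdim : Module.finrank ℂ V = 3) {a b c : V} (hli : LinearIndependent ℂ ![a, b, c])
    (z : V) : ∃ x y t : ℂ, z = x • a + y • b + t • c := by
  have h := hli.span_eq_top_of_card_eq_finrank' (by rw [hdim]; rfl)
  have hz : z ∈ Submodule.span ℂ (Set.range ![a, b, c]) := by rw [h]; trivial
  have h2 : Set.range ![a, b, c] = {a, b, c} := by
    rw [Matrix.range_cons, Matrix.range_cons_cons_empty]; rfl
  rw [h2] at hz
  obtain ⟨x, y, t, h3⟩ := Submodule.mem_span_triple.mp hz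
  exact ⟨x, y, t, h3.symm⟩

/-- a point of a smooth plane cubic with a tangent direction on which the polar conic vanishes
carries a reflection -/
theorem refl_of_tangent (hdim : Module.finrank ℂ V = 3) (hS : S.Smooth) {v w : V}
    (hFv : S.F v = 0) (hli : LinearIndependent ℂ ![v, w]) (h1 : S.T v v w = 0)
    (h2 : S.T v w w = 0) : ∃ μ : V →ₗ[ℂ] ℂ, S.IsRefl v μ := by
  have hv : v ≠ 0 := by simpa using hli.ne_zero 0
  have hflex : ∀ t : ℂ, S.F (v + t • w) = t ^ 3 * S.F w := by
    intro t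
    rw [S.F_add_smul, hFv, h1, h2]; ring
  exact S.exists_refl_of_special hS hv hFv (S.flex_special hdim hS hFv hli hflex)

/-- for two independent flexes of a smooth plane cubic the mixed values are nonzero -/
theorem alpha_beta_ne_zero (hdim : Module.finrank ℂ V = 3) (hS : S.Smooth) {v v' : V}
    {μ μ' : V →ₗ[ℂ] ℂ} (hμ : S.IsRefl v μ) (hμ' : S.IsRefl v' μ') (hFv : S.F v = 0)
    (hFv' : S.F v' = 0) (hli : LinearIndependent ℂ ![v, v']) :
    S.T v v v' ≠ 0 ∧ S.T v' v' v ≠ 0 := by
  have hv : v ≠ 0 := hμ.ne_zero S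
  obtain ⟨α, hα⟩ : ∃ α, S.T v' v' v = α := ⟨_, rfl⟩
  obtain ⟨β, hβ⟩ : ∃ β, S.T v v v' = β := ⟨_, rfl⟩
  have r1 : α = β * μ v' := by rw [← hα, ← hβ]; exact hμ.two_point S v'
  have r2 : β = α * μ' v := by rw [← hα, ← hβ]; exact hμ'.two_point S v
  have hFL : ∀ x y : ℂ, S.F (x • v + y • v') = 3 * x * y * (x * β + y * α) := by
    intro x y
    rw [S.F_lin2, hFv, hFv', hβ]
    have : S.T v v' v' = α := by rw [← hα, S.s13 v v' v']
    rw [this]; ring
  have hβ0 : β ≠ 0 := by
    intro hβ0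
    have hα0 : α = 0 := by rw [r1, hβ0, zero_mul]
    obtain ⟨w0, hw0⟩ := hS v hv hFv
    have hK := finrank_ker_functional' (S.T v v) hw0
    rw [hdim] at hK
    have hKeq : Submodule.span ℂ ({v, v'} : Set V) = LinearMap.ker (S.T v v) := by
      apply Submodule.eq_of_le_of_finrank_eq
      · rw [Submodule.span_le]
        intro z hz
        rcases hz with h | h
        · rw [h]; exact hFv
        · rw [Set.mem_singleton_iff] at h
          rw [h]
          change S.T v v v' = 0
          rw [hβ, hβ0]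
      · rw [finrank_span_pair_of_li hli]; omega
    refine S.not_vanish_on_ker hS (S.T v v) hw0 (a := v) (b := v') hFv (by rw [hβ, hβ0]) hli ?_
    intro z hz
    have : z ∈ Submodule.span ℂ ({v, v'} : Set V) := by rw [hKeq]; exact hz
    obtain ⟨a, b, rfl⟩ := Submodule.mem_span_pair.mp this
    rw [hFL, hβ0, hα0]; ring
  refine ⟨by rw [hβ]; exact hβ0, ?_⟩
  rw [hα]
  intro h; apply hβ0; rw [r2, h, zero_mul]

end SymTri

end Groth.Agent.Lib.H79Cubic
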