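import Groth.Agent.Lib.H79Cubic7

open MvPolynomial

namespace Groth.Agent.Lib.H79Cubic

theorem exists_root_quartic (k4 k3 k2 k1 k0 : ℂ) (h4 : k4 ≠ 0) :
    ∃ x : ℂ, k4 * x ^ 4 + k3 * x ^ 3 + k2 * x ^ 2 + k1 * x + k0 = 0 := by
  let P : Polynomial ℂ := Polynomial.C k4 * Polynomial.X ^ 4 + Polynomial.C k3 * Polynomial.X ^ 3
    + Polynomial.C k2 * Polynomial.X ^ 2 + Polynomial.C k1 * Polynomial.X + Polynomial.C k0
  have hdeg : P.degree = 4 := by
    have h1 : (Polynomial.C k3 * Polynomial.X ^ 3 + Polynomial.C k2 * Polynomial.X ^ 2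
        + Polynomial.C k1 * Polynomial.X + Polynomial.C k0 : Polynomial ℂ).degree < 4 := by
      refine lt_of_le_of_lt (Polynomial.degree_cubic_le) (by norm_num)
    have h2 : (Polynomial.C k4 * Polynomial.X ^ 4 : Polynomial ℂ).degree = 4 := by
      rw [Polynomial.degree_C_mul_X_pow 4 h4]; rfl
    have : P = Polynomial.C k4 * Polynomial.X ^ 4 + (Polynomial.C k3 * Polynomial.X ^ 3
        + Polynomial.C k2 * Polynomial.X ^ 2 + Polynomial.C k1 * Polynomial.X
        + Polynomial.C k0) := by simp only [P]; ring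
    rw [this, Polynomial.degree_add_eq_left_of_degree_lt (by rw [h2]; exact h1), h2]
  obtain ⟨x, hx⟩ := IsAlgClosed.exists_root P (by rw [hdeg]; norm_num)
  refine ⟨x, ?_⟩
  have : P.eval x = k4 * x ^ 4 + k3 * x ^ 3 + k2 * x ^ 2 + k1 * x + k0 := by
    simp [P]
  rw [← this]; exact hx

theorem li3_coeff {V : Type*} [AddCommGroup V] [Module ℂ V] {a b c : V}
    (hli : LinearIndependent ℂ ![a, b, c]) {x y z : ℂ} (h : x • a + y • b + z • c = 0) :
    x = 0 ∧ y = 0 ∧ z = 0 := by
  have := Fintype.linearIndependent_iff.mp hli ![x, y, z] (by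
    simp only [Fin.sum_univ_three]
    exact h)
  exact ⟨this 0, this 1, this 2⟩

namespace SymTri

variable {V : Type*} [AddCommGroup V] [Module ℂ V] [FiniteDimensional ℂ V] (S : SymTri V)

omit S in
theorem exists_ne_zero_in_ker2 (hdim : Module.finrank ℂ V = 3) (l μ : V →ₗ[ℂ] ℂ) :
    ∃ a : V, a ≠ 0 ∧ l a = 0 ∧ μ a = 0 := by
  have h1 := LinearMap.finrank_range_add_finrank_ker (l.prod μ)
  have h2 : Module.finrank ℂ ↥(LinearMap.range (l.prod μ)) ≤ 2 := by
    have := Submodule.finrank_le (LinearMap.range (l.prod μ))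
    rw [Module.finrank_prod, Module.finrank_self] at this
    exact this
  rw [hdim] at h1
  have h4 : 0 < Module.finrank ℂ ↥(LinearMap.ker (l.prod μ)) := by omega
  obtain ⟨x, hx⟩ := Module.finrank_pos_iff_exists_ne_zero.mp h4
  have hxk := x.2
  rw [LinearMap.mem_ker, LinearMap.prod_apply, Prod.mk_eq_zero] at hxk
  refine ⟨x, ?_, hxk.1, hxk.2⟩
  intro h
  apply hx
  exact Subtype.ext h

/-- a smooth plane cubic with one flex has a second flex -/
theorem exists_second_flex (hdim : Module.finrank ℂ V = 3) (hS : S.Smooth) {e : V}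
    {μ : V →ₗ[ℂ] ℂ} (hμ : S.IsRefl e μ) (hFe : S.F e = 0) :
    ∃ (p : V) (μp : V →ₗ[ℂ] ℂ), S.IsRefl p μp ∧ S.F p = 0 ∧ LinearIndependent ℂ ![e, p] := by
  have he0 : e ≠ 0 := hμ.ne_zero S
  obtain ⟨a, ha0, hla, hμa⟩ := exists_ne_zero_in_ker2 hdim (S.T e e) μ
  obtain ⟨w0, hw0⟩ := hS e he0 hFe
  obtain ⟨c, hc⟩ : ∃ c, c = w0 - (μ w0 / 2) • e := ⟨_, rfl⟩
  have hμc : μ c = 0 := by
    rw [hc, map_sub, map_smul, hμ.mu_e, smul_eq_mul]; ring
  obtain ⟨lam, hlam⟩ : ∃ lam, S.T e e c = lam := ⟨_, rfl⟩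
  have hlam0 : lam ≠ 0 := by
    rw [← hlam, hc, map_sub, map_smul]
    have : S.T e e e = 0 := hFe
    rw [this, smul_zero, sub_zero]; exact hw0
  have hc0 : c ≠ 0 := by
    rintro rfl
    rw [map_zero] at hlam
    exact hlam0 hlam.symm
  -- linear independence of (a, e, c)
  have liec : LinearIndependent ℂ ![e, c] := by
    rw [LinearIndependent.pair_iff]
    intro s t hst
    have h1 := congrArg μ hst
    rw [map_add, map_smul, map_smul, hμ.mu_e, hμc, map_zero] at h1
    have hs : s = 0 := by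
      simp only [smul_eq_mul, mul_zero, add_zero] at h1
      exact (mul_eq_zero.mp h1).resolve_right two_ne_zero
    rw [hs, zero_smul, zero_add] at hst
    exact ⟨hs, (smul_eq_zero.mp hst).resolve_right hc0⟩
  have haec : a ∉ Submodule.span ℂ ({e, c} : Set V) := by
    intro h
    obtain ⟨s, t, hst⟩ := Submodule.mem_span_pair.mp h
    have h1 := congrArg μ hst
    rw [map_add, map_smul, map_smul, hμ.mu_e, hμc, hμa] at h1
    have hs : s = 0 := by
      simp only [smul_eq_mul, mul_zero, add_zero] at h1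
      exact (mul_eq_zero.mp h1).resolve_right two_ne_zero
    have h2 := congrArg (S.T e e) hst
    rw [map_add, map_smul, map_smul, hlam, hla, hs] at h2
    have ht : t = 0 := by
      simp only [smul_eq_mul, zero_mul, zero_add] at h2
      exact (mul_eq_zero.mp h2).resolve_right hlam0
    rw [hs, ht, zero_smul, zero_smul, add_zero] at hst
    exact ha0 hst.symm
  have li : LinearIndependent ℂ ![a, e, c] := li_triple liec haec
  -- the values of T on the basis
  obtain ⟨A, hA⟩ : ∃ A, S.T a a a = A := ⟨_, rfl⟩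
  obtain ⟨B, hB⟩ : ∃ B, S.T a a c = B := ⟨_, rfl⟩
  obtain ⟨G, hG⟩ : ∃ G, S.T a c c = G := ⟨_, rfl⟩
  obtain ⟨D, hD⟩ : ∃ D, S.T c c c = D := ⟨_, rfl⟩
  have hFa : S.F a = A := hA
  have hFc : S.F c = D := hD
  have eee : S.T e e e = 0 := hFe
  have eea : S.T e e a = 0 := hla
  have eae : S.T e a e = 0 := by rw [S.s23 e a e]; exact eea
  have aee : S.T a e e = 0 := by rw [S.s12 a e e]; exact eae
  have eec : S.T e e c = lam := hlam
  have ece : S.T e c e = lam := by rw [S.s23 e c e]; exact eec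
  have cee : S.T c e e = lam := by rw [S.s12 c e e]; exact ece
  have eaa : S.T e a a = 0 := by rw [hμ.quad a, hla, zero_mul]
  have aea : S.T a e a = 0 := by rw [S.s12 a e a]; exact eaa
  have aae : S.T a a e = 0 := by rw [S.s23 a a e]; exact aea
  have ecc : S.T e c c = 0 := by rw [hμ.quad c, hμc, mul_zero]
  have cec : S.T c e c = 0 := by rw [S.s12 c e c]; exact ecc
  have cce : S.T c c e = 0 := by rw [S.s23 c c e]; exact cec
  have eac : S.T e a c = 0 := by
    have := hμ.bilin S a c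
    rw [hla, hμa, hμc] at this
    linear_combination (1/2 : ℂ) * this
  have eca : S.T e c a = 0 := by rw [S.s23 e c a]; exact eac
  have aec : S.T a e c = 0 := by rw [S.s12 a e c]; exact eac
  have ace : S.T a c e = 0 := by rw [S.s23 a c e]; exact aec
  have cea : S.T c e a = 0 := by rw [S.s12 c e a]; exact eca
  have cae : S.T c a e = 0 := by rw [S.s23 c a e]; exact cea
  have aca : S.T a c a = B := by rw [S.s23 a c a]; exact hB
  have caa : S.T c a a = B := by rw [S.s12 c a a]; exact aca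
  have cac : S.T c a c = G := by rw [S.s12 c a c]; exact hG
  have cca : S.T c c a = G := by rw [S.s23 c c a]; exact cac
  -- A ≠ 0
  have hA0 : A ≠ 0 := by
    intro hA0
    obtain ⟨s, hs⟩ := IsAlgClosed.exists_pow_nat_eq (-B / lam) (n := 2) (by norm_num)
    have hq0 : a + s • e ≠ 0 := by
      intro h
      have h' : (1:ℂ) • a + s • e + (0:ℂ) • c = 0 := by rw [one_smul, zero_smul, add_zero]; exact h
      exact one_ne_zero (li3_coeff li h').1
    have hFq : S.F (a + s • e) = 0 := by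
      rw [S.F_add_smul, hFe, aae, aee, hFa, hA0]; ring
    obtain ⟨z, hz⟩ := hS _ hq0 hFq
    apply hz
    obtain ⟨x, y, t, rfl⟩ := span3 hdim li z
    have h1 := S.T_diag_lin2 1 s a e
    simp only [one_smul] at h1
    rw [map_add, map_add, map_smul, map_smul, map_smul, h1 a, h1 e, h1 c, hA, hA0, aea, eea,
      aae, aee, eee, hB, aec, eec]
    simp only [smul_eq_mul]
    have : s ^ 2 * lam = -B := by rw [hs]; field_simp
    linear_combination t * this
  -- the root of the quartic
  obtain ⟨x0, hx0⟩ := exists_root_quartic (-(A ^ 2) / 3) (-(4 * A * B) / 3) (-(2 * A * G))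
    (-(4 * A * D) / 3) (G ^ 2 - 4 * B * D / 3) (by
      intro h
      apply hA0
      have : A ^ 2 = 0 := by linear_combination (-3 : ℂ) * h
      exact pow_eq_zero_iff (two_ne_zero) |>.mp this)
  obtain ⟨y0, hy0⟩ := IsAlgClosed.exists_pow_nat_eq
    (-(A * x0 ^ 3 + 3 * B * x0 ^ 2 + 3 * G * x0 + D) / (3 * lam)) (n := 2) (by norm_num)
  have hy0' : 3 * lam * y0 ^ 2 = -(A * x0 ^ 3 + 3 * B * x0 ^ 2 + 3 * G * x0 + D) := by
    rw [hy0]; field_simp
  obtain ⟨p, hp⟩ : ∃ p, p = x0 • a + y0 • e + (1:ℂ) • c := ⟨_, rfl⟩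
  have hFp : S.F p = 0 := by
    rw [hp, S.F_lin3, hFa, hFe, hFc, aae, hB, eea, eec, cca, cce, aec]
    linear_combination hy0'
  have hp0 : p ≠ 0 := by
    intro h
    rw [hp] at h
    exact one_ne_zero (li3_coeff li h).2.2
  have hga : S.T p p a = A * x0 ^ 2 + 2 * B * x0 + G := by
    rw [hp, S.T_diag_lin3, hA, eea, cca, aea, aca, eca]; ring
  have hge : S.T p p e = 2 * lam * y0 := by
    rw [hp, S.T_diag_lin3, aae, eee, cce, aee, ace, ece]; ring
  obtain ⟨ga, hga'⟩ : ∃ ga, S.T p p a = ga := ⟨_, rfl⟩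
  obtain ⟨ge, hge'⟩ : ∃ ge, S.T p p e = ge := ⟨_, rfl⟩
  have hgne : ga ≠ 0 ∨ ge ≠ 0 := by
    by_contra hcon
    push Not at hcon
    obtain ⟨h1, h2⟩ := hcon
    obtain ⟨z, hz⟩ := hS p hp0 hFp
    apply hz
    have hppc : S.T p p c = 0 := by
      have hc' : c = p - x0 • a - y0 • e := by rw [hp]; module
      have hppp : S.T p p p = 0 := hFp
      rw [hc', map_sub, map_sub, map_smul, map_smul, hppp, hga', hge', h1, h2]
      simp
    obtain ⟨x, y, t, rfl⟩ := span3 hdim li z
    rw [map_add, map_add, map_smul, map_smul, map_smul, hga', hge', hppc, h1, h2]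
    simp
  obtain ⟨w, hw⟩ : ∃ w, w = ge • a - ga • e := ⟨_, rfl⟩
  have hliw : LinearIndependent ℂ ![p, w] := by
    rw [LinearIndependent.pair_iff]
    intro s t hst
    have h' : (s * x0 + t * ge) • a + (s * y0 - t * ga) • e + s • c = 0 := by
      rw [← hst, hp, hw]; module
    obtain ⟨h1, h2, h3⟩ := li3_coeff li h'
    rw [h3, zero_mul, zero_add] at h1
    rw [h3, zero_mul, zero_sub] at h2
    refine ⟨h3, ?_⟩
    rcases hgne with h | h
    · have : t * ga = 0 := by linear_combination -h2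
      exact (mul_eq_zero.mp this).resolve_right h
    · exact (mul_eq_zero.mp h1).resolve_right h
  have hppw : S.T p p w = 0 := by
    rw [hw, map_sub, map_smul, map_smul, hga', hge']
    simp only [smul_eq_mul]; ring
  have hpaa : S.T p a a = x0 * A + B := by
    rw [hp]
    simp only [map_add, map_smul, LinearMap.add_apply, LinearMap.smul_apply, smul_eq_mul, hA,
      eaa, caa]
    ring
  have hpae : S.T p a e = 0 := by
    rw [hp]
    simp only [map_add, map_smul, LinearMap.add_apply, LinearMap.smul_apply, smul_eq_mul, aae,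
      eae, cae]
    ring
  have hpea : S.T p e a = 0 := by rw [S.s23 p e a]; exact hpae
  have hpee : S.T p e e = lam := by
    rw [hp]
    simp only [map_add, map_smul, LinearMap.add_apply, LinearMap.smul_apply, smul_eq_mul, aee,
      eee, cee]
    ring
  have hpww : S.T p w w = 0 := by
    rw [hw]
    simp only [map_sub, map_smul, LinearMap.sub_apply, LinearMap.smul_apply, smul_eq_mul, hpaa,
      hpae, hpea, hpee]
    rw [← hge', ← hga', hge, hga]
    linear_combination (4 / 3 * lam * (x0 * A + B)) * hy0' + lam * hx0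
  obtain ⟨μp, hμp⟩ := S.refl_of_tangent hdim hS hFp hliw hppw hpww
  refine ⟨p, μp, hμp, hFp, ?_⟩
  rw [LinearIndependent.pair_iff]
  intro s t hst
  have h' : (t * x0) • a + (s + t * y0) • e + t • c = 0 := by
    rw [← hst, hp]; module
  obtain ⟨h1, h2, h3⟩ := li3_coeff li h'
  rw [h3, zero_mul, add_zero] at h2
  exact ⟨h2, h3⟩

end SymTri

end Groth.Agent.Lib.H79Cubic
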