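import Groth.Agent.Lib.H79Cubic8

open MvPolynomial

namespace Groth.Agent.Lib.H79Cubic

theorem exists_omega : ∃ ω : ℂ, ω ^ 2 + ω + 1 = 0 ∧ ω ^ 3 = 1 ∧ ω ≠ 1 ∧ ω ^ 2 ≠ 1 ∧ ω ≠ 0 := by
  obtain ⟨d, hd⟩ := IsAlgClosed.exists_pow_nat_eq (discrim (1:ℂ) 1 1) (n := 2) (by norm_num)
  obtain ⟨ω, hω⟩ := exists_quadratic_eq_zero (a := (1:ℂ)) (b := 1) (c := 1) one_ne_zero
    ⟨d, by rw [← hd]; ring⟩
  have h1 : ω ^ 2 + ω + 1 = 0 := by linear_combination hω
  refine ⟨ω, h1, ?_, ?_, ?_, ?_⟩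
  · linear_combination (ω - 1) * h1
  · rintro rfl
    norm_num at h1
  · intro h2
    have : ω = -2 := by linear_combination h1 - h2
    rw [this] at h1
    norm_num at h1
  · rintro rfl
    norm_num at h1

namespace SymTri

variable {V : Type*} [AddCommGroup V] [Module ℂ V] [FiniteDimensional ℂ V] (S : SymTri V)

/-- two independent flexes give a basis in which the cubic has only the monomials
`x³, y³, z³, xyz` -/
theorem exists_diag_basis (hdim : Module.finrank ℂ V = 3) (hS : S.Smooth) {e1 e2 : V}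
    {μ1 μ2 : V →ₗ[ℂ] ℂ} (h1 : S.IsRefl e1 μ1) (h2 : S.IsRefl e2 μ2) (hF1 : S.F e1 = 0)
    (hF2 : S.F e2 = 0) (hli : LinearIndependent ℂ ![e1, e2]) :
    ∃ b0 b1 b2 : V, LinearIndependent ℂ ![b0, b1, b2] ∧
      S.T b0 b0 b1 = 0 ∧ S.T b0 b0 b2 = 0 ∧ S.T b1 b1 b0 = 0 ∧ S.T b1 b1 b2 = 0 ∧
      S.T b2 b2 b0 = 0 ∧ S.T b2 b2 b1 = 0 := by
  obtain ⟨hβ0, hα0⟩ := S.alpha_beta_ne_zero hdim hS h1 h2 hF1 hF2 hli
  obtain ⟨α, hα⟩ : ∃ α, S.T e2 e2 e1 = α := ⟨_, rfl⟩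
  obtain ⟨β, hβ⟩ : ∃ β, S.T e1 e1 e2 = β := ⟨_, rfl⟩
  rw [hα] at hα0
  rw [hβ] at hβ0
  have r1 : α = β * μ1 e2 := by rw [← hα, ← hβ]; exact h1.two_point S e2
  have r2 : β = α * μ2 e1 := by rw [← hα, ← hβ]; exact h2.two_point S e1
  have hμ12 : μ1 e2 = α / β := by rw [r1]; field_simp
  have hμ21 : μ2 e1 = β / α := by rw [r2]; field_simp
  obtain ⟨ω, hω1, hω3, hωne, hω2ne, hω0⟩ := exists_omega
  obtain ⟨g, hg0, hg1, hg2⟩ := exists_ne_zero_in_ker2 hdim μ1 μ2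
  obtain ⟨R, hR⟩ : ∃ R : V →ₗ[ℂ] V, R = (refl e1 μ1) ∘ₗ (refl e2 μ2) := ⟨_, rfl⟩
  have hRF : ∀ v, S.F (R v) = 1 * S.F v := by
    intro v
    rw [hR, LinearMap.comp_apply, h1.F_refl S hF1, h2.F_refl S hF2, one_mul]
  have hRg : R g = (1:ℂ) • g := by
    have e : refl e2 μ2 g = g := by rw [refl_apply, hg2, zero_smul, sub_zero]
    rw [hR, LinearMap.comp_apply, e, refl_apply, hg1, zero_smul, sub_zero, one_smul]
  have hRe1 : R e1 = -(β / α) • e2 := by
    rw [hR, LinearMap.comp_apply, refl_apply e2, hμ21, map_sub, map_smul, refl_e e1 μ1 h1.mu_e,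
      refl_apply, hμ12, smul_sub, smul_smul]
    have : β / α * (α / β) = 1 := by field_simp
    rw [this, one_smul]; module
  have hRe2 : R e2 = (α / β) • e1 - e2 := by
    rw [hR, LinearMap.comp_apply, refl_e e2 μ2 h2.mu_e, map_neg, refl_apply, hμ12]
    module
  obtain ⟨b1, hb1⟩ : ∃ b1, b1 = (α / β) • e1 + ω • e2 := ⟨_, rfl⟩
  obtain ⟨b2, hb2⟩ : ∃ b2, b2 = (α / β) • e1 + ω ^ 2 • e2 := ⟨_, rfl⟩
  have hab : α / β * (β / α) = 1 := by field_simp
  have hRb1 : R b1 = ω • b1 := by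
    rw [hb1, map_add, map_smul, map_smul, hRe1, hRe2]
    have e1' : (α / β) • (-(β / α) • e2) = (-1 : ℂ) • e2 := by rw [smul_smul, mul_neg, hab]
    have e2' : ω • (ω • e2) = (-1 - ω) • e2 := by
      rw [smul_smul]; congr 1; linear_combination hω1
    rw [e1', smul_add ω, e2']; module
  have hRb2 : R b2 = ω ^ 2 • b2 := by
    rw [hb2, map_add, map_smul, map_smul, hRe1, hRe2]
    have e1' : (α / β) • (-(β / α) • e2) = (-1 : ℂ) • e2 := by rw [smul_smul, mul_neg, hab]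
    have e2' : ω ^ 2 • (ω ^ 2 • e2) = ω • e2 := by
      rw [smul_smul]; congr 1; linear_combination ω * hω3
    have e3' : (-1 : ℂ) • e2 = (ω ^ 2 + ω) • e2 := by
      congr 1; linear_combination -hω1
    rw [e1', smul_add (ω ^ 2), e2', e3']; module
  have hinv : ∀ (u v w : V) (lu lv lw : ℂ), R u = lu • u → R v = lv • v → R w = lw • w →
      lu * lv * lw ≠ 1 → S.T u v w = 0 := by
    intro u v w lu lv lw hu hv hw hne
    have h := S.T_map_of_F_map R 1 hRF u v w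
    rw [hu, hv, hw] at h
    simp only [map_smul, LinearMap.smul_apply, smul_eq_mul, one_mul] at h
    have : (lu * lv * lw - 1) * S.T u v w = 0 := by linear_combination h
    rcases mul_eq_zero.mp this with h' | h'
    · exact absurd (sub_eq_zero.mp h') hne
    · exact h'
  have hω4 : ω ^ 4 = ω := by linear_combination ω * hω3
  have hω5 : ω ^ 5 = ω ^ 2 := by linear_combination ω ^ 2 * hω3
  refine ⟨g, b1, b2, ?_, ?_, ?_, ?_, ?_, ?_, ?_⟩
  · -- linear independence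
    rw [Fintype.linearIndependent_iff]
    intro c hc
    simp only [Fin.sum_univ_three, Matrix.cons_val_zero, Matrix.cons_val_one,
      Matrix.cons_val_two, Matrix.head_cons, Matrix.tail_cons] at hc
    obtain ⟨x, hx⟩ : ∃ x, c 0 = x := ⟨_, rfl⟩
    obtain ⟨y, hy⟩ : ∃ y, c 1 = y := ⟨_, rfl⟩
    obtain ⟨z, hz⟩ : ∃ z, c 2 = z := ⟨_, rfl⟩
    rw [hx, hy, hz] at hc
    have m1 := congrArg μ1 hc
    have m2 := congrArg μ2 hc
    rw [hb1, hb2] at m1 m2
    simp only [map_add, map_smul, smul_eq_mul, hg1, hg2, h1.mu_e, h2.mu_e, hμ12, hμ21,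
      map_zero] at m1 m2
    have hαβ : α / β ≠ 0 := div_ne_zero hα0 hβ0
    have m1' : 2 * (y + z) + (y * ω + z * ω ^ 2) = 0 := by
      have : (α / β) * (2 * (y + z) + (y * ω + z * ω ^ 2)) = 0 := by linear_combination m1
      exact (mul_eq_zero.mp this).resolve_left hαβ
    have m2' : (y + z) + 2 * (y * ω + z * ω ^ 2) = 0 := by
      have e : α / β * (β / α) = 1 := hab
      linear_combination m2 - (y + z) * e
    have hs : y + z = 0 := by linear_combination (2/3 : ℂ) * m1' - (1/3 : ℂ) * m2'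
    have ht : y * ω + z * ω ^ 2 = 0 := by linear_combination (2/3 : ℂ) * m2' - (1/3 : ℂ) * m1'
    have hy0 : y = 0 := by
      have : y * (ω * (1 - ω)) = 0 := by linear_combination ht - ω ^ 2 * hs
      rcases mul_eq_zero.mp this with h | h
      · exact h
      · rcases mul_eq_zero.mp h with h | h
        · exact absurd h hω0
        · exact absurd (by linear_combination -h : ω = 1) hωne
    have hz0 : z = 0 := by linear_combination hs - hy0
    rw [hy0, hz0, zero_smul, zero_smul, add_zero, add_zero] at hc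
    have hx0 : x = 0 := (smul_eq_zero.mp hc).resolve_right hg0
    intro i
    fin_cases i
    · exact hx.trans hx0
    · exact hy.trans hy0
    · exact hz.trans hz0
  · exact hinv g g b1 1 1 ω hRg hRg hRb1 (by rw [one_mul, one_mul]; exact hωne)
  · exact hinv g g b2 1 1 (ω ^ 2) hRg hRg hRb2 (by rw [one_mul, one_mul]; exact hω2ne)
  · exact hinv b1 b1 g ω ω 1 hRb1 hRb1 hRg (by rw [mul_one, ← pow_two]; exact hω2ne)
  · exact hinv b1 b1 b2 ω ω (ω ^ 2) hRb1 hRb1 hRb2 (by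
      have : ω * ω * ω ^ 2 = ω ^ 4 := by ring
      rw [this, hω4]; exact hωne)
  · exact hinv b2 b2 g (ω ^ 2) (ω ^ 2) 1 hRb2 hRb2 hRg (by
      have : ω ^ 2 * ω ^ 2 * 1 = ω ^ 4 := by ring
      rw [this, hω4]; exact hωne)
  · exact hinv b2 b2 b1 (ω ^ 2) (ω ^ 2) ω hRb2 hRb2 hRb1 (by
      have : ω ^ 2 * ω ^ 2 * ω = ω ^ 5 := by ring
      rw [this, hω5]; exact hω2ne)

/-- normalisation of a diagonal basis to Hesse form -/
theorem exists_hesse_basis (hdim : Module.finrank ℂ V = 3) (hS : S.Smooth) {b0 b1 b2 : V}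
    (hli : LinearIndependent ℂ ![b0, b1, b2])
    (h01 : S.T b0 b0 b1 = 0) (h02 : S.T b0 b0 b2 = 0) (h10 : S.T b1 b1 b0 = 0)
    (h12 : S.T b1 b1 b2 = 0) (h20 : S.T b2 b2 b0 = 0) (h21 : S.T b2 b2 b1 = 0) :
    ∃ (c0 c1 c2 : V) (k : ℂ), LinearIndependent ℂ ![c0, c1, c2] ∧ k ^ 3 ≠ 1 ∧
      ∀ x y z : ℂ, S.F (x • c0 + y • c1 + z • c2) = x ^ 3 + y ^ 3 + z ^ 3 - 3 * k * (x * y * z) := by
  obtain ⟨P, hP⟩ : ∃ P, S.F b0 = P := ⟨_, rfl⟩
  obtain ⟨Q, hQ⟩ : ∃ Q, S.F b1 = Q := ⟨_, rfl⟩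
  obtain ⟨R, hR⟩ : ∃ R, S.F b2 = R := ⟨_, rfl⟩
  obtain ⟨τ, hτ⟩ : ∃ τ, S.T b0 b1 b2 = τ := ⟨_, rfl⟩
  have hb0 : b0 ≠ 0 := by simpa using hli.ne_zero 0
  have hb1 : b1 ≠ 0 := by simpa using hli.ne_zero 1
  have hb2 : b2 ≠ 0 := by simpa using hli.ne_zero 2
  -- ordered values
  have e010 : S.T b0 b1 b0 = 0 := by rw [S.s23 b0 b1 b0]; exact h01
  have e020 : S.T b0 b2 b0 = 0 := by rw [S.s23 b0 b2 b0]; exact h02
  have e120 : S.T b1 b2 b0 = τ := by rw [← hτ, S.rot b0 b1 b2]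
  have e011 : S.T b0 b1 b1 = 0 := by rw [S.s13 b0 b1 b1]; exact h10
  have e021 : S.T b0 b2 b1 = τ := by rw [← hτ, S.s23 b0 b2 b1]
  have e121 : S.T b1 b2 b1 = 0 := by rw [S.s23 b1 b2 b1]; exact h12
  have e022 : S.T b0 b2 b2 = 0 := by rw [S.s13 b0 b2 b2]; exact h20
  have e122 : S.T b1 b2 b2 = 0 := by rw [S.s13 b1 b2 b2]; exact h21
  have e000 : S.T b0 b0 b0 = P := hP
  have e111 : S.T b1 b1 b1 = Q := hQ
  have e222 : S.T b2 b2 b2 = R := hR
  have hform : ∀ x y z : ℂ, S.F (x • b0 + y • b1 + z • b2)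
      = x ^ 3 * P + y ^ 3 * Q + z ^ 3 * R + 6 * x * y * z * τ := by
    intro x y z
    rw [S.F_lin3, hP, hQ, hR, h01, h02, h10, h12, h20, h21, hτ]; ring
  have hgrad0 : ∀ x y z : ℂ, S.T (x • b0 + y • b1 + z • b2) (x • b0 + y • b1 + z • b2) b0
      = x ^ 2 * P + 2 * y * z * τ := by
    intro x y z
    rw [S.T_diag_lin3, e000, h10, h20, e010, e020, e120]; ring
  have hgrad1 : ∀ x y z : ℂ, S.T (x • b0 + y • b1 + z • b2) (x • b0 + y • b1 + z • b2) b1
      = y ^ 2 * Q + 2 * x * z * τ := by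
    intro x y z
    rw [S.T_diag_lin3, h01, e111, h21, e011, e021, e121]; ring
  have hgrad2 : ∀ x y z : ℂ, S.T (x • b0 + y • b1 + z • b2) (x • b0 + y • b1 + z • b2) b2
      = z ^ 2 * R + 2 * x * y * τ := by
    intro x y z
    rw [S.T_diag_lin3, h02, h12, e222, hτ, e022, e122]; ring
  have hsing : ∀ x y z : ℂ, (x ≠ 0 ∨ y ≠ 0 ∨ z ≠ 0) →
      x ^ 3 * P + y ^ 3 * Q + z ^ 3 * R + 6 * x * y * z * τ = 0 →
      x ^ 2 * P + 2 * y * z * τ = 0 → y ^ 2 * Q + 2 * x * z * τ = 0 →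
      z ^ 2 * R + 2 * x * y * τ = 0 → False := by
    intro x y z hne hF g0 g1 g2
    have hv0 : x • b0 + y • b1 + z • b2 ≠ 0 := by
      intro h
      obtain ⟨hx, hy, hz⟩ := li3_coeff hli h
      rcases hne with h | h | h
      · exact h hx
      · exact h hy
      · exact h hz
    have hFv : S.F (x • b0 + y • b1 + z • b2) = 0 := by rw [hform]; exact hF
    obtain ⟨w, hw⟩ := hS _ hv0 hFv
    apply hw
    obtain ⟨a, b, c, rfl⟩ := span3 hdim hli w
    rw [map_add, map_add, map_smul, map_smul, map_smul, hgrad0, hgrad1, hgrad2, g0, g1, g2]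
    simp
  have hP0 : P ≠ 0 := by
    intro h
    exact hsing 1 0 0 (Or.inl one_ne_zero) (by rw [h]; ring) (by rw [h]; ring) (by ring) (by ring)
  have hQ0 : Q ≠ 0 := by
    intro h
    exact hsing 0 1 0 (Or.inr (Or.inl one_ne_zero)) (by rw [h]; ring) (by ring) (by rw [h]; ring)
      (by ring)
  have hR0 : R ≠ 0 := by
    intro h
    exact hsing 0 0 1 (Or.inr (Or.inr one_ne_zero)) (by rw [h]; ring) (by ring) (by ring)
      (by rw [h]; ring)
  obtain ⟨p, hp⟩ := IsAlgClosed.exists_pow_nat_eq P (n := 3) (by norm_num)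
  obtain ⟨q, hq⟩ := IsAlgClosed.exists_pow_nat_eq Q (n := 3) (by norm_num)
  obtain ⟨r, hr⟩ := IsAlgClosed.exists_pow_nat_eq R (n := 3) (by norm_num)
  have hp0 : p ≠ 0 := by rintro rfl; exact hP0 (by rw [← hp]; ring)
  have hq0 : q ≠ 0 := by rintro rfl; exact hQ0 (by rw [← hq]; ring)
  have hr0 : r ≠ 0 := by rintro rfl; exact hR0 (by rw [← hr]; ring)
  obtain ⟨k, hk⟩ : ∃ k, k = -(2 * τ) / (p * q * r) := ⟨_, rfl⟩
  have hkτ : 2 * τ = -(k * (p * q * r)) := by rw [hk]; field_simp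
  refine ⟨p⁻¹ • b0, q⁻¹ • b1, r⁻¹ • b2, k, ?_, ?_, ?_⟩
  · rw [Fintype.linearIndependent_iff]
    intro c hc
    simp only [Fin.sum_univ_three, Matrix.cons_val_zero, Matrix.cons_val_one,
      Matrix.cons_val_two, Matrix.head_cons, Matrix.tail_cons, smul_smul] at hc
    obtain ⟨h0, h1, h2⟩ := li3_coeff hli hc
    intro i
    fin_cases i
    · exact (mul_eq_zero.mp h0).resolve_right (inv_ne_zero hp0)
    · exact (mul_eq_zero.mp h1).resolve_right (inv_ne_zero hq0)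
    · exact (mul_eq_zero.mp h2).resolve_right (inv_ne_zero hr0)
  · intro hk3
    -- the singular point (1, 1, k²) in the normalised coordinates
    refine hsing p⁻¹ q⁻¹ (k ^ 2 * r⁻¹) (Or.inl (inv_ne_zero hp0)) ?_ ?_ ?_ ?_
    · rw [← hp, ← hq, ← hr]
      field_simp
      have : k ^ 6 = 1 := by
        have : k ^ 6 = (k ^ 3) ^ 2 := by ring
        rw [this, hk3]; ring
      linear_combination (p * q * r) * this + (3 * k ^ 2) * hkτ - 3 * (p * q * r) * hk3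
    · rw [← hp]
      field_simp
      linear_combination (k ^ 2) * hkτ - (p * q * r) * hk3
    · rw [← hq]
      field_simp
      linear_combination (k ^ 2) * hkτ - (p * q * r) * hk3
    · rw [← hr]
      field_simp
      linear_combination hkτ + k * (p * q * r) * hk3
  · intro x y z
    rw [smul_smul, smul_smul, smul_smul, hform, ← hp, ← hq, ← hr]
    field_simp
    linear_combination (3 * x * y * z) * hkτ

end SymTri

end Groth.Agent.Lib.H79Cubic
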