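import Mathlib
import Groth.Prelude.Def_Cyc
import Groth.Agent.Lib.H79FibDimComp
import Groth.Agent.Lib.H30FibBC

/-!
helper79: flat pullback of cycles — numerical ingredients.

* `deltaCompat_eq`: `DeltaCompat f δX δY` means `δX x = δY (f x) + rt f x`.
* `rt_le_of_hasRelDim`, `rt_eq_iff_of_hasRelDim`.
* `hasRelDim_comp`: relative dimensions add for flat lft morphisms.
* `length_stalk_comp`: `ℓ(O_x/𝔪_z O_x) = ℓ(O_y/𝔪_z O_y) · ℓ(O_x/𝔪_y O_x)` for `f` flat
  (Stacks 02M1, from Mathlib's `IsLocalRing.length_baseChange`).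
-/

set_option autoImplicit false
universe u

namespace Groth.Agent.Lib.H79CycFlat

open AlgebraicGeometry CategoryTheory IsLocalRing TensorProduct
open Groth.Agent.Lib.H30DimRel Groth.Agent.Lib.H79FibDimComp

variable {X Y Z : Scheme.{u}}

theorem deltaCompat_eq (f : X ⟶ Y) (δX : X → ℤ) (δY : Y → ℤ)
    (hf : Cyc.DeltaCompat f δX δY) (x : X) : δX x = δY (f x) + (rt f x : ℤ) := by
  obtain ⟨n, hn, h⟩ := hf x
  rw [h, rt_eq_of_trdeg_eq f x n hn]

theorem rt_le_of_hasRelDim (f : X ⟶ Y) [LocallyOfFiniteType f] (r : ℕ)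
    (hr : Cyc.HasRelDim f r) (x : X) : rt f x ≤ r := by
  have h1 := (Groth.Agent.Lib.H30FibBC.hasRelDim_iff f r).mp hr x
  have h2 := fibreDimAt_eq_quot f x
  rw [h1] at h2
  have h3 : ((rt f x : ℕ) : WithBot ℕ∞) ≤ (r : WithBot ℕ∞) := by
    rw [h2]
    have : (0 : WithBot ℕ∞) ≤ ringKrullDim (X.presheaf.stalk x ⧸
        Ideal.map (f.stalkMap x).hom (maximalIdeal (Y.presheaf.stalk (f x)))) := by
      haveI : Nontrivial (X.presheaf.stalk x ⧸
          Ideal.map (f.stalkMap x).hom (maximalIdeal (Y.presheaf.stalk (f x)))) :=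
        Ideal.Quotient.nontrivial_iff.mpr (map_maximalIdeal_lt_top (f.stalkMap x).hom).ne
      exact ringKrullDim_nonneg_of_nontrivial
    calc ((rt f x : ℕ) : WithBot ℕ∞) = 0 + ((rt f x : ℕ) : WithBot ℕ∞) := (zero_add _).symm
      _ ≤ _ := add_le_add_left this _
  exact_mod_cast h3

/-- relative dimensions add -/
theorem hasRelDim_comp (f : X ⟶ Y) (g : Y ⟶ Z) [Flat f] [LocallyOfFiniteType f]
    [LocallyOfFiniteType g] (r s : ℕ) (hr : Cyc.HasRelDim f r) (hs : Cyc.HasRelDim g s) :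
    Cyc.HasRelDim (f ≫ g) (r + s) := by
  rw [Groth.Agent.Lib.H30FibBC.hasRelDim_iff]
  intro x
  rw [(fibreDimAt_comp f g x).2 (Flat.stalkMap f x),
    (Groth.Agent.Lib.H30FibBC.hasRelDim_iff f r).mp hr x,
    (Groth.Agent.Lib.H30FibBC.hasRelDim_iff g s).mp hs (f x)]
  push_cast
  rfl

/-- **Stacks 02M1** at the level of stalks. -/
theorem length_stalk_comp (f : X ⟶ Y) (g : Y ⟶ Z) [Flat f] (x : X) :
    Module.length (X.presheaf.stalk x) (X.presheaf.stalk x ⧸
        Ideal.map ((f ≫ g).stalkMap x).hom (maximalIdeal (Z.presheaf.stalk ((f ≫ g) x)))) =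
      Module.length (Y.presheaf.stalk (f x)) (Y.presheaf.stalk (f x) ⧸
        Ideal.map (g.stalkMap (f x)).hom (maximalIdeal (Z.presheaf.stalk (g (f x))))) *
      Module.length (X.presheaf.stalk x) (X.presheaf.stalk x ⧸
        Ideal.map (f.stalkMap x).hom (maximalIdeal (Y.presheaf.stalk (f x)))) := by
  have hideal : Ideal.map ((f ≫ g).stalkMap x).hom
        (maximalIdeal (Z.presheaf.stalk ((f ≫ g) x))) =
      Ideal.map (f.stalkMap x).hom (Ideal.map (g.stalkMap (f x)).hom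
        (maximalIdeal (Z.presheaf.stalk (g (f x))))) := by
    rw [Ideal.map_map, Scheme.Hom.stalkMap_comp]
    rfl
  letI : Algebra (Y.presheaf.stalk (f x)) (X.presheaf.stalk x) := (f.stalkMap x).hom.toAlgebra
  haveI : IsLocalHom (algebraMap (Y.presheaf.stalk (f x)) (X.presheaf.stalk x)) :=
    inferInstanceAs (IsLocalHom (f.stalkMap x).hom)
  haveI : Module.Flat (Y.presheaf.stalk (f x)) (X.presheaf.stalk x) := Flat.stalkMap f x
  set I := Ideal.map (g.stalkMap (f x)).hom (maximalIdeal (Z.presheaf.stalk (g (f x)))) with hI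
  have h1 := IsLocalRing.length_baseChange (Y.presheaf.stalk (f x)) (X.presheaf.stalk x)
    (Y.presheaf.stalk (f x) ⧸ I)
  have h2 := (Algebra.TensorProduct.quotIdealMapEquivTensorQuot (X.presheaf.stalk x)
    I).toLinearEquiv.length_eq
  have h3 := (Submodule.quotEquivOfEq _ _ hideal).length_eq
  exact h3.trans (h2.trans h1)

end Groth.Agent.Lib.H79CycFlat
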