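import Mathlib

/-!
# Arithmetic classification of `Q0`-reduced conic classes by value counts
-/

set_option autoImplicit false

namespace Groth.Agent.Lib.H79DPCls

/-- Numerical data of a `Q0`-reduced conic: `a`, `b₁`, and the numbers `c_t` of remaining
coordinates equal to `t`. -/
structure Sol (d : ℕ) (m a b1 : ℤ) (c0 c1 c2 c3 c4 : ℕ) : Prop where
  hcard : c0 + c1 + c2 + c3 + c4 = d
  hb : b1 = a - m
  hb0 : 0 ≤ b1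
  hb4 : b1 ≤ 4
  ha : 1 ≤ a
  ha11 : a ≤ 11
  hm0 : 0 ≤ m
  hs : b1 + ((c1 : ℤ) + 2 * c2 + 3 * c3 + 4 * c4) = 3 * a - 2
  hq : b1 ^ 2 + ((c1 : ℤ) + 4 * c2 + 9 * c3 + 16 * c4) = a ^ 2
  r01 : 1 ≤ c0 → 1 ≤ c1 → (1 : ℤ) ≤ m
  r02 : 1 ≤ c0 → 1 ≤ c2 → (2 : ℤ) ≤ m
  r03 : 1 ≤ c0 → 1 ≤ c3 → (3 : ℤ) ≤ m
  r04 : 1 ≤ c0 → 1 ≤ c4 → (4 : ℤ) ≤ m
  r12 : 1 ≤ c1 → 1 ≤ c2 → (3 : ℤ) ≤ m
  r13 : 1 ≤ c1 → 1 ≤ c3 → (4 : ℤ) ≤ m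
  r14 : 1 ≤ c1 → 1 ≤ c4 → (5 : ℤ) ≤ m
  r23 : 1 ≤ c2 → 1 ≤ c3 → (5 : ℤ) ≤ m
  r24 : 1 ≤ c2 → 1 ≤ c4 → (6 : ℤ) ≤ m
  r34 : 1 ≤ c3 → 1 ≤ c4 → (7 : ℤ) ≤ m
  r11 : 2 ≤ c1 → (2 : ℤ) ≤ m
  r22 : 2 ≤ c2 → (4 : ℤ) ≤ m
  r33 : 2 ≤ c3 → (6 : ℤ) ≤ m
  r44 : 2 ≤ c4 → (8 : ℤ) ≤ m

theorem Sol.key {d : ℕ} {m a b1 : ℤ} {c0 c1 c2 c3 c4 : ℕ} (h : Sol d m a b1 c0 c1 c2 c3 c4) :
    (m - 1) * c1 + 2 * (m - 2) * c2 + 3 * (m - 3) * c3 + 4 * (m - 4) * c4 = 2 * m * (m - 1) := by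
  have hs := h.hs
  have hq := h.hq
  have hb := h.hb
  subst hb
  linear_combination m * hs - hq

set_option maxHeartbeats 2000000 in
theorem cls0 {d : ℕ} {a b1 : ℤ} {c0 c1 c2 c3 c4 : ℕ}
    (hd : d ≤ 7) (h : Sol d 0 a b1 c0 c1 c2 c3 c4) :
    (a = 1 ∧ c1 = 0 ∧ c2 = 0 ∧ c3 = 0 ∧ c4 = 0) := by
  have k := h.key
  obtain ⟨hcard, hb, hb0, hb4, ha, ha11, hm0, hs, -, r01, r02, r03, r04, r12, r13, r14, r23, r24,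
    r34, r11, r22, r33, r44⟩ := h
  norm_num at r01 r02 r03 r04 r12 r13 r14 r23 r24 r34 r11 r22 r33 r44
  omega

set_option maxHeartbeats 2000000 in
theorem cls1 {d : ℕ} {a b1 : ℤ} {c0 c1 c2 c3 c4 : ℕ}
    (hd : d ≤ 7) (h : Sol d 1 a b1 c0 c1 c2 c3 c4) :
    (a = 1 ∧ c1 = 1 ∧ c2 = 0 ∧ c3 = 0 ∧ c4 = 0) := by
  have k := h.key
  obtain ⟨hcard, hb, hb0, hb4, ha, ha11, hm0, hs, -, r01, r02, r03, r04, r12, r13, r14, r23, r24,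
    r34, r11, r22, r33, r44⟩ := h
  norm_num at r01 r02 r03 r04 r12 r13 r14 r23 r24 r34 r11 r22 r33 r44
  omega

set_option maxHeartbeats 2000000 in
theorem cls2 {d : ℕ} {a b1 : ℤ} {c0 c1 c2 c3 c4 : ℕ}
    (hd : d ≤ 7) (h : Sol d 2 a b1 c0 c1 c2 c3 c4) :
    (a = 2 ∧ c1 = 4 ∧ c2 = 0 ∧ c3 = 0 ∧ c4 = 0) := by
  have k := h.key
  obtain ⟨hcard, hb, hb0, hb4, ha, ha11, hm0, hs, -, r01, r02, r03, r04, r12, r13, r14, r23, r24,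
    r34, r11, r22, r33, r44⟩ := h
  norm_num at r01 r02 r03 r04 r12 r13 r14 r23 r24 r34 r11 r22 r33 r44
  omega

set_option maxHeartbeats 2000000 in
theorem cls3 {d : ℕ} {a b1 : ℤ} {c0 c1 c2 c3 c4 : ℕ}
    (hd : d ≤ 7) (h : Sol d 3 a b1 c0 c1 c2 c3 c4) :
    (a = 3 ∧ c1 = 5 ∧ c2 = 1 ∧ c3 = 0 ∧ c4 = 0) := by
  have k := h.key
  obtain ⟨hcard, hb, hb0, hb4, ha, ha11, hm0, hs, -, r01, r02, r03, r04, r12, r13, r14, r23, r24,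
    r34, r11, r22, r33, r44⟩ := h
  norm_num at r01 r02 r03 r04 r12 r13 r14 r23 r24 r34 r11 r22 r33 r44
  omega

set_option maxHeartbeats 2000000 in
theorem cls4 {d : ℕ} {a b1 : ℤ} {c0 c1 c2 c3 c4 : ℕ}
    (hd : d ≤ 7) (h : Sol d 4 a b1 c0 c1 c2 c3 c4) :
    (a = 5 ∧ c1 = 0 ∧ c2 = 6 ∧ c3 = 0 ∧ c4 = 0) ∨ (d = 7 ∧ a = 4 ∧ c1 = 4 ∧ c2 = 3 ∧ c3 = 0 ∧ c4 = 0) := by
  have k := h.key
  obtain ⟨hcard, hb, hb0, hb4, ha, ha11, hm0, hs, -, r01, r02, r03, r04, r12, r13, r14, r23, r24,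
    r34, r11, r22, r33, r44⟩ := h
  norm_num at r01 r02 r03 r04 r12 r13 r14 r23 r24 r34 r11 r22 r33 r44
  omega

set_option maxHeartbeats 2000000 in
theorem cls5 {d : ℕ} {a b1 : ℤ} {c0 c1 c2 c3 c4 : ℕ}
    (hd : d ≤ 7) (h : Sol d 5 a b1 c0 c1 c2 c3 c4) :
    (a = 5 ∧ c1 = 1 ∧ c2 = 6 ∧ c3 = 0 ∧ c4 = 0) := by
  have k := h.key
  obtain ⟨hcard, hb, hb0, hb4, ha, ha11, hm0, hs, -, r01, r02, r03, r04, r12, r13, r14, r23, r24,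
    r34, r11, r22, r33, r44⟩ := h
  norm_num at r01 r02 r03 r04 r12 r13 r14 r23 r24 r34 r11 r22 r33 r44
  omega

set_option maxHeartbeats 2000000 in
theorem cls6 {d : ℕ} {a b1 : ℤ} {c0 c1 c2 c3 c4 : ℕ}
    (hd : d ≤ 7) (h : Sol d 6 a b1 c0 c1 c2 c3 c4) :
    (a = 7 ∧ c1 = 0 ∧ c2 = 3 ∧ c3 = 4 ∧ c4 = 0) := by
  have k := h.key
  obtain ⟨hcard, hb, hb0, hb4, ha, ha11, hm0, hs, -, r01, r02, r03, r04, r12, r13, r14, r23, r24,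
    r34, r11, r22, r33, r44⟩ := h
  norm_num at r01 r02 r03 r04 r12 r13 r14 r23 r24 r34 r11 r22 r33 r44
  have h3 : c3 ≤ 7 := by omega
  interval_cases c3 <;> omega

set_option maxHeartbeats 2000000 in
theorem cls7 {d : ℕ} {a b1 : ℤ} {c0 c1 c2 c3 c4 : ℕ}
    (hd : d ≤ 7) (h : Sol d 7 a b1 c0 c1 c2 c3 c4) :
    (a = 8 ∧ c1 = 0 ∧ c2 = 0 ∧ c3 = 7 ∧ c4 = 0) := by
  have k := h.key
  obtain ⟨hcard, hb, hb0, hb4, ha, ha11, hm0, hs, -, r01, r02, r03, r04, r12, r13, r14, r23, r24,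
    r34, r11, r22, r33, r44⟩ := h
  norm_num at r01 r02 r03 r04 r12 r13 r14 r23 r24 r34 r11 r22 r33 r44
  omega

set_option maxHeartbeats 2000000 in
theorem cls8 {d : ℕ} {a b1 : ℤ} {c0 c1 c2 c3 c4 : ℕ}
    (hd : d ≤ 7) (h : Sol d 8 a b1 c0 c1 c2 c3 c4) :
    (a = 11 ∧ c1 = 0 ∧ c2 = 0 ∧ c3 = 0 ∧ c4 = 7) := by
  have k := h.key
  obtain ⟨hcard, hb, hb0, hb4, ha, ha11, hm0, hs, -, r01, r02, r03, r04, r12, r13, r14, r23, r24,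
    r34, r11, r22, r33, r44⟩ := h
  norm_num at r01 r02 r03 r04 r12 r13 r14 r23 r24 r34 r11 r22 r33 r44
  omega

set_option maxHeartbeats 2000000 in
theorem cls9 {d : ℕ} {a b1 : ℤ} {c0 c1 c2 c3 c4 : ℕ}
    (hd : d ≤ 7) (h : Sol d 9 a b1 c0 c1 c2 c3 c4) :
    False := by
  have k := h.key
  obtain ⟨hcard, hb, hb0, hb4, ha, ha11, hm0, hs, -, r01, r02, r03, r04, r12, r13, r14, r23, r24,
    r34, r11, r22, r33, r44⟩ := h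
  norm_num at r01 r02 r03 r04 r12 r13 r14 r23 r24 r34 r11 r22 r33 r44
  omega

set_option maxHeartbeats 2000000 in
theorem cls10 {d : ℕ} {a b1 : ℤ} {c0 c1 c2 c3 c4 : ℕ}
    (hd : d ≤ 7) (h : Sol d 10 a b1 c0 c1 c2 c3 c4) :
    False := by
  have k := h.key
  obtain ⟨hcard, hb, hb0, hb4, ha, ha11, hm0, hs, -, r01, r02, r03, r04, r12, r13, r14, r23, r24,
    r34, r11, r22, r33, r44⟩ := h
  norm_num at r01 r02 r03 r04 r12 r13 r14 r23 r24 r34 r11 r22 r33 r44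
  omega

set_option maxHeartbeats 2000000 in
theorem cls11 {d : ℕ} {a b1 : ℤ} {c0 c1 c2 c3 c4 : ℕ}
    (hd : d ≤ 7) (h : Sol d 11 a b1 c0 c1 c2 c3 c4) :
    False := by
  have k := h.key
  obtain ⟨hcard, hb, hb0, hb4, ha, ha11, hm0, hs, -, r01, r02, r03, r04, r12, r13, r14, r23, r24,
    r34, r11, r22, r33, r44⟩ := h
  norm_num at r01 r02 r03 r04 r12 r13 r14 r23 r24 r34 r11 r22 r33 r44
  omega

theorem Sol.unique {d : ℕ} {m a b1 a' b1' : ℤ} {c0 c1 c2 c3 c4 c0' c1' c2' c3' c4' : ℕ}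
    (hd : d ≤ 7) (hne : ¬ (d = 7 ∧ m = 4))
    (h : Sol d m a b1 c0 c1 c2 c3 c4) (h' : Sol d m a' b1' c0' c1' c2' c3' c4') :
    a = a' ∧ b1 = b1' ∧ c0 = c0' ∧ c1 = c1' ∧ c2 = c2' ∧ c3 = c3' ∧ c4 = c4' := by
  have hm11 : m ≤ 11 := by
    have := h.hb; have := h.hb0; have := h.ha11; omega
  have hm0 := h.hm0
  have e1 := h.hcard
  have e2 := h'.hcard
  have e3 := h.hb
  have e4 := h'.hb
  interval_cases m
  · have := cls0 hd h; have := cls0 hd h'; omega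
  · have := cls1 hd h; have := cls1 hd h'; omega
  · have := cls2 hd h; have := cls2 hd h'; omega
  · have := cls3 hd h; have := cls3 hd h'; omega
  · have := cls4 hd h; have := cls4 hd h'; omega
  · have := cls5 hd h; have := cls5 hd h'; omega
  · have := cls6 hd h; have := cls6 hd h'; omega
  · have := cls7 hd h; have := cls7 hd h'; omega
  · have := cls8 hd h; have := cls8 hd h'; omega
  · exact (cls9 hd h).elim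
  · exact (cls10 hd h).elim
  · exact (cls11 hd h).elim


end Groth.Agent.Lib.H79DPCls
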