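import Mathlib
import Groth.Prelude.Def_W4c3severiratdpLat

/-!
# Weyl group elements of the del Pezzo lattices `DP δ`

Bilinearity of `form`, reflections in roots (`α·α = -2`, `K·α = 0`), coordinate permutations,
closure of `IsWeyl` under composition and inverse, and a generic descent lemma along
Cremona reflections.
-/

set_option autoImplicit false
open W4c3severiratdp

namespace Groth.Agent.Lib.H79DPWeyl

variable {δ : ℕ}

lemma form_add_left (u v w : DP δ) : form (u + v) w = form u w + form v w := by
  unfold form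
  simp only [Pi.add_apply, add_mul, Finset.sum_add_distrib]
  ring

lemma form_add_right (u v w : DP δ) : form u (v + w) = form u v + form u w := by
  unfold form
  simp only [Pi.add_apply, mul_add, Finset.sum_add_distrib]
  ring

lemma form_smul_left (c : ℤ) (v w : DP δ) : form (c • v) w = c * form v w := by
  unfold form
  simp only [Pi.smul_apply, smul_eq_mul, mul_assoc, ← Finset.mul_sum]
  ring

lemma form_comm (v w : DP δ) : form v w = form w v := by
  unfold form
  simp only [mul_comm]

lemma form_smul_right (c : ℤ) (v w : DP δ) : form v (c • w) = c * form v w := by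
  rw [form_comm, form_smul_left, form_comm]

lemma form_sub_left (u v w : DP δ) : form (u - v) w = form u w - form v w := by
  have : u - v = u + (-1 : ℤ) • v := by simp [sub_eq_add_neg]
  rw [this, form_add_left, form_smul_left]; ring

lemma form_sub_right (u v w : DP δ) : form u (v - w) = form u v - form u w := by
  rw [form_comm, form_sub_left, form_comm v u, form_comm w u]

lemma form_single_zero (v : DP δ) (c : ℤ) : form v (Pi.single 0 c) = v 0 * c := by
  unfold form
  simp [Pi.single_apply, Fin.succ_ne_zero]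

lemma form_single_succ (v : DP δ) (l : Fin δ) (c : ℤ) :
    form v (Pi.single l.succ c) = - (v l.succ * c) := by
  unfold form
  have h0 : (Pi.single l.succ c : DP δ) 0 = 0 := by
    rw [Pi.single_apply, if_neg (Fin.succ_ne_zero l).symm]
  have hs : ∀ i : Fin δ, v i.succ * (Pi.single l.succ c : DP δ) i.succ =
      if i = l then v l.succ * c else 0 := by
    intro i
    rw [Pi.single_apply]
    by_cases h : i = l
    · subst h; simp
    · have : i.succ ≠ l.succ := fun h' => h (Fin.succ_injective _ h')
      simp [h, this]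
  rw [h0, Finset.sum_congr rfl (fun i _ => hs i), Finset.sum_ite_eq' Finset.univ l]
  simp

/-- `form` through a sum over all coordinates. -/
lemma form_eq_sum (v w : DP δ) : form v w = 2 * (v 0 * w 0) - ∑ x : Fin (δ + 1), v x * w x := by
  unfold form
  rw [Fin.sum_univ_succ]; ring

lemma canon_apply (x : Fin (δ + 1)) : canon δ x = if x = 0 then -3 else -1 := by
  unfold canon
  refine Fin.cases ?_ (fun i => ?_) x
  · simp
  · simp [Fin.succ_ne_zero]

/-! ### closure properties of `IsWeyl` -/

lemma isWeyl_refl : IsWeyl (LinearEquiv.refl ℤ (DP δ)) :=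
  ⟨fun _ _ => rfl, rfl⟩

lemma IsWeyl.trans {g h : DP δ ≃ₗ[ℤ] DP δ} (hg : IsWeyl g) (hh : IsWeyl h) :
    IsWeyl (g.trans h) := by
  refine ⟨fun v w => ?_, ?_⟩
  · simp only [LinearEquiv.trans_apply]
    rw [hh.1, hg.1]
  · simp only [LinearEquiv.trans_apply]
    rw [hg.2, hh.2]

lemma IsWeyl.symm {g : DP δ ≃ₗ[ℤ] DP δ} (hg : IsWeyl g) : IsWeyl g.symm := by
  refine ⟨fun v w => ?_, ?_⟩
  · have := hg.1 (g.symm v) (g.symm w)
    simp only [LinearEquiv.apply_symm_apply] at this
    exact this.symm
  · have := hg.2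
    rw [LinearEquiv.symm_apply_eq]
    exact this.symm

/-! ### reflections -/

/-- The reflection in a root, as a linear map. -/
def reflLin (α : DP δ) : DP δ →ₗ[ℤ] DP δ where
  toFun v := v + form v α • α
  map_add' v w := by rw [form_add_left]; module
  map_smul' c v := by
    rw [form_smul_left]
    simp only [RingHom.id_apply, smul_add, smul_smul]

lemma reflLin_apply (α v : DP δ) : reflLin α v = v + form v α • α := rfl

lemma reflLin_involutive (α : DP δ) (hα : form α α = -2) : Function.Involutive (reflLin α) := by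
  intro v
  rw [reflLin_apply, reflLin_apply, form_add_left, form_smul_left, hα]
  module

/-- The reflection in a root `α` with `α·α = -2`. -/
def refl (α : DP δ) (hα : form α α = -2) : DP δ ≃ₗ[ℤ] DP δ :=
  LinearEquiv.ofInvolutive (reflLin α) (reflLin_involutive α hα)

lemma refl_apply (α : DP δ) (hα : form α α = -2) (v : DP δ) :
    refl α hα v = v + form v α • α := rfl

lemma isWeyl_refl_root (α : DP δ) (hα : form α α = -2) (hK : form (canon δ) α = 0) :
    IsWeyl (refl α hα) := by
  refine ⟨fun v w => ?_, ?_⟩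
  · simp only [refl_apply]
    rw [form_add_left, form_add_right, form_add_right, form_smul_left, form_smul_left,
      form_smul_right, form_smul_right, hα, form_comm α w]
    ring
  · rw [refl_apply, hK, zero_smul, add_zero]

lemma refl_fix (α : DP δ) (hα : form α α = -2) (u : DP δ) (hu : form u α = 0) :
    refl α hα u = u := by
  rw [refl_apply, hu, zero_smul, add_zero]

/-! ### coordinate permutations -/

/-- Permutation of coordinates (fixing the `ℓ`-coordinate) as a lattice automorphism. -/
def permW (e : Equiv.Perm (Fin (δ + 1))) : DP δ ≃ₗ[ℤ] DP δ :=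
  LinearEquiv.funCongrLeft ℤ ℤ e

lemma permW_apply (e : Equiv.Perm (Fin (δ + 1))) (v : DP δ) (x : Fin (δ + 1)) :
    permW e v x = v (e x) := rfl

lemma isWeyl_permW (e : Equiv.Perm (Fin (δ + 1))) (he : e 0 = 0) : IsWeyl (permW e) := by
  refine ⟨fun v w => ?_, ?_⟩
  · rw [form_eq_sum, form_eq_sum]
    simp only [permW_apply, he]
    rw [Equiv.sum_comp e (fun x => v x * w x)]
  · funext x
    rw [permW_apply, canon_apply, canon_apply]
    have : e x = 0 ↔ x = 0 := by
      constructor
      · intro h; rw [← he] at h; exact e.injective h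
      · intro h; rw [h, he]
    simp only [this]


/-! ### Cremona roots and the descent lemma -/

/-- The root `ℓ - e_i - e_j - e_k`, i.e. the vector `(1; 1_i, 1_j, 1_k)`. -/
def root3 (i j k : Fin δ) : DP δ :=
  Pi.single 0 1 + Pi.single i.succ 1 + Pi.single j.succ 1 + Pi.single k.succ 1

lemma form_root3 (v : DP δ) (i j k : Fin δ) :
    form v (root3 i j k) = v 0 - v i.succ - v j.succ - v k.succ := by
  unfold root3
  rw [form_add_right, form_add_right, form_add_right, form_single_zero, form_single_succ,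
    form_single_succ, form_single_succ]
  ring

lemma root3_zero (i j k : Fin δ) : root3 i j k 0 = 1 := by
  unfold root3
  simp [Pi.single_apply, Fin.succ_ne_zero, (Fin.succ_ne_zero _).symm]

lemma root3_succ (i j k l : Fin δ) :
    root3 i j k l.succ = (if l = i then 1 else 0) + (if l = j then 1 else 0) +
      (if l = k then 1 else 0) := by
  unfold root3
  simp only [Pi.add_apply, Pi.single_apply, Fin.succ_ne_zero, if_false, zero_add,
    Fin.succ_inj]

lemma root3_self (i j k : Fin δ) (hij : i ≠ j) (hik : i ≠ k) (hjk : j ≠ k) :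
    form (root3 i j k) (root3 i j k) = -2 := by
  rw [form_root3, root3_zero, root3_succ, root3_succ, root3_succ]
  simp [hij, hik, hjk, hij.symm, hik.symm, hjk.symm]

lemma canon_root3 (i j k : Fin δ) : form (canon δ) (root3 i j k) = 0 := by
  rw [form_root3]
  simp [canon_apply, Fin.succ_ne_zero]

/-- The Cremona reflection `s_{ijk}`. -/
def crem (i j k : Fin δ) (hij : i ≠ j) (hik : i ≠ k) (hjk : j ≠ k) : DP δ ≃ₗ[ℤ] DP δ :=
  refl (root3 i j k) (root3_self i j k hij hik hjk)

lemma isWeyl_crem (i j k : Fin δ) (hij : i ≠ j) (hik : i ≠ k) (hjk : j ≠ k) :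
    IsWeyl (crem i j k hij hik hjk) :=
  isWeyl_refl_root _ _ (canon_root3 i j k)

lemma crem_apply (i j k : Fin δ) (hij : i ≠ j) (hik : i ≠ k) (hjk : j ≠ k) (v : DP δ)
    (x : Fin (δ + 1)) :
    crem i j k hij hik hjk v x =
      v x + (v 0 - v i.succ - v j.succ - v k.succ) * root3 i j k x := by
  unfold crem
  rw [refl_apply, form_root3]
  simp

lemma crem_apply_zero (i j k : Fin δ) (hij : i ≠ j) (hik : i ≠ k) (hjk : j ≠ k) (v : DP δ) :
    crem i j k hij hik hjk v 0 = 2 * v 0 - (v i.succ + v j.succ + v k.succ) := by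
  rw [crem_apply, root3_zero]; ring

/-- Generic descent along Cremona reflections indexed by a set `T` of triples. -/
theorem descent (P : DP δ → Prop) (hP : ∀ g : DP δ ≃ₗ[ℤ] DP δ, IsWeyl g → ∀ v, P v → P (g v))
    (hlow : ∀ v, P v → 0 ≤ v 0)
    (T : Set (Fin δ × Fin δ × Fin δ))
    (hT : ∀ t ∈ T, t.1 ≠ t.2.1 ∧ t.1 ≠ t.2.2 ∧ t.2.1 ≠ t.2.2) :
    ∀ (n : ℕ) (v : DP δ), P v → v 0 ≤ n →
      ∃ g : DP δ ≃ₗ[ℤ] DP δ, IsWeyl g ∧
        (∀ u : DP δ, (∀ t ∈ T, form u (root3 t.1 t.2.1 t.2.2) = 0) → g u = u) ∧
        (∀ t ∈ T, (g v) t.1.succ + (g v) t.2.1.succ + (g v) t.2.2.succ ≤ (g v) 0) := by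
  intro n
  induction n with
  | zero =>
    intro v hv hn
    by_cases hred : ∀ t ∈ T, v t.1.succ + v t.2.1.succ + v t.2.2.succ ≤ v 0
    · exact ⟨LinearEquiv.refl ℤ _, isWeyl_refl, fun _ _ => rfl, hred⟩
    · exfalso
      push Not at hred
      obtain ⟨t, ht, hlt⟩ := hred
      obtain ⟨h1, h2, h3⟩ := hT t ht
      have hW : IsWeyl (crem t.1 t.2.1 t.2.2 h1 h2 h3) := isWeyl_crem t.1 t.2.1 t.2.2 h1 h2 h3
      have := hlow _ (hP _ hW v hv)
      rw [crem_apply_zero] at this
      have h0 := hlow v hv
      push_cast at hn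
      omega
  | succ n ih =>
    intro v hv hn
    by_cases hred : ∀ t ∈ T, v t.1.succ + v t.2.1.succ + v t.2.2.succ ≤ v 0
    · exact ⟨LinearEquiv.refl ℤ _, isWeyl_refl, fun _ _ => rfl, hred⟩
    · push Not at hred
      obtain ⟨t, ht, hlt⟩ := hred
      obtain ⟨h1, h2, h3⟩ := hT t ht
      have hW : IsWeyl (crem t.1 t.2.1 t.2.2 h1 h2 h3) := isWeyl_crem t.1 t.2.1 t.2.2 h1 h2 h3
      have hv' := hP _ hW v hv
      have hn' : crem t.1 t.2.1 t.2.2 h1 h2 h3 v 0 ≤ n := by
        rw [crem_apply_zero]
        push_cast at hn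
        omega
      obtain ⟨g, hg, hfix, hredg⟩ := ih _ hv' hn'
      refine ⟨(crem t.1 t.2.1 t.2.2 h1 h2 h3).trans g, IsWeyl.trans hW hg, ?_, ?_⟩
      · intro u hu
        rw [LinearEquiv.trans_apply]
        have : crem t.1 t.2.1 t.2.2 h1 h2 h3 u = u := refl_fix _ _ u (hu t ht)
        rw [this]
        exact hfix u hu
      · intro t' ht'
        simp only [LinearEquiv.trans_apply]
        exact hredg t' ht'

end Groth.Agent.Lib.H79DPWeyl
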