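import Mathlib
import Groth.Agent.Lib.H79DPWeyl
import Groth.Agent.Lib.H72DelPezzo

/-!
# Conic classes in `DP δ`: Noether's inequality and transitivity of the Weyl group
-/

set_option autoImplicit false
open W4c3severiratdp Groth.Agent.Lib.H79DPWeyl Groth.Agent.Lib.H72DelPezzo

namespace Groth.Agent.Lib.H79DPConic

variable {δ : ℕ}

lemma isConic_weyl (g : DP δ ≃ₗ[ℤ] DP δ) (hg : IsWeyl g) (v : DP δ) (hv : IsConic v) :
    IsConic (g v) := by
  refine ⟨?_, ?_⟩
  · rw [hg.1]; exact hv.1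
  · have := hg.1 (canon δ) v
    rw [hg.2] at this
    rw [this]; exact hv.2

lemma conic_bounds (hδ : δ ≤ 8) (v : DP δ) (hv : IsConic v) :
    1 ≤ v 0 ∧ v 0 ≤ 11 ∧ ∀ l : Fin δ, 0 ≤ v l.succ ∧ v l.succ ≤ 4 := by
  obtain ⟨hsq, hsum⟩ := (isConic_iff v).1 hv
  obtain ⟨⟨ha1, ha11⟩, hb⟩ := bounds hδ (v 0) (fun i => v i.succ) hsq hsum
  exact ⟨ha1, ha11, hb⟩

/-- Noether's inequality for conic classes. -/
theorem conic_noether (hδ : δ ≤ 8) (v : DP δ) (hv : IsConic v) (ha : 2 ≤ v 0) :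
    ∃ i j k : Fin δ, i ≠ j ∧ i ≠ k ∧ j ≠ k ∧ v 0 < v i.succ + v j.succ + v k.succ := by
  obtain ⟨hsq, hsum⟩ := (isConic_iff v).1 hv
  obtain ⟨⟨ha1, ha11⟩, hb⟩ := bounds hδ (v 0) (fun i => v i.succ) hsq hsum
  have hb0 : ∀ l : Fin δ, 0 ≤ v l.succ := fun l => (hb l).1
  have h3 : 3 ≤ δ := by
    by_contra hlt
    have hδ2 : (δ : ℤ) ≤ 2 := by omega
    have h := sq_sum_le_card_mul_sum_sq (s := Finset.univ) (f := fun i : Fin δ => v i.succ)
    rw [hsum, hsq, Finset.card_univ, Fintype.card_fin] at h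
    nlinarith
  obtain ⟨i, -, hi⟩ := Finset.exists_max_image Finset.univ (fun i : Fin δ => v i.succ)
    ⟨⟨0, by omega⟩, Finset.mem_univ _⟩
  have hne1 : (Finset.univ.erase i).Nonempty := by
    rw [← Finset.card_pos, Finset.card_erase_of_mem (Finset.mem_univ _), Finset.card_univ,
      Fintype.card_fin]
    omega
  obtain ⟨j, hj, hjmax⟩ := Finset.exists_max_image _ (fun i : Fin δ => v i.succ) hne1
  have hne2 : ((Finset.univ.erase i).erase j).Nonempty := by
    rw [← Finset.card_pos, Finset.card_erase_of_mem hj,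
      Finset.card_erase_of_mem (Finset.mem_univ _), Finset.card_univ, Fintype.card_fin]
    omega
  obtain ⟨k, hk, hkmax⟩ := Finset.exists_max_image _ (fun i : Fin δ => v i.succ) hne2
  have hji : j ≠ i := Finset.ne_of_mem_erase hj
  have hkj : k ≠ j := Finset.ne_of_mem_erase hk
  have hki : k ≠ i := Finset.ne_of_mem_erase (Finset.mem_of_mem_erase hk)
  refine ⟨i, j, k, hji.symm, hki.symm, hkj.symm, ?_⟩
  by_contra hnot
  have hle : v i.succ + v j.succ + v k.succ ≤ v 0 := not_lt.mp hnot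
  have hsumR : ∑ l ∈ (Finset.univ.erase i).erase j, v l.succ =
      3 * v 0 - 2 - v i.succ - v j.succ := by
    rw [← hsum, ← Finset.add_sum_erase _ _ (Finset.mem_univ i), ← Finset.add_sum_erase _ _ hj]
    ring
  have hsqR : ∑ l ∈ (Finset.univ.erase i).erase j, v l.succ ^ 2 =
      v 0 ^ 2 - v i.succ ^ 2 - v j.succ ^ 2 := by
    rw [← hsq, ← Finset.add_sum_erase _ (fun l => v l.succ ^ 2) (Finset.mem_univ i),
      ← Finset.add_sum_erase _ (fun l => v l.succ ^ 2) hj]
    ring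
  have hle2 : ∑ l ∈ (Finset.univ.erase i).erase j, v l.succ ^ 2 ≤
      v k.succ * ∑ l ∈ (Finset.univ.erase i).erase j, v l.succ := by
    rw [Finset.mul_sum]
    apply Finset.sum_le_sum
    intro l hl
    have h1 := hkmax l hl
    have h0 := hb0 l
    nlinarith
  have hxy : v j.succ ≤ v i.succ := hi j (Finset.mem_univ _)
  have hyz : v k.succ ≤ v j.succ := hjmax k (Finset.mem_of_mem_erase hk)
  have hz0 := hb0 k
  rcases eq_or_lt_of_le hz0 with hz | hz
  · -- all remaining entries vanish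
    have hR0 : ∑ l ∈ (Finset.univ.erase i).erase j, v l.succ = 0 := by
      apply Finset.sum_eq_zero
      intro l hl
      have h1 := hkmax l hl
      have h0 := hb0 l
      omega
    rw [hsumR] at hR0
    omega
  · rw [hsumR, hsqR] at hle2
    have hu : 0 ≤ v i.succ - v k.succ := by omega
    have hw : 0 ≤ v j.succ - v k.succ := by omega
    have hs : (v i.succ - v k.succ) + (v j.succ - v k.succ) ≤ v 0 - 3 * v k.succ := by omega
    have h1 : (v i.succ - v k.succ) ^ 2 + (v j.succ - v k.succ) ^ 2 ≤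
        ((v i.succ - v k.succ) + (v j.succ - v k.succ)) ^ 2 := by
      nlinarith [mul_nonneg hu hw]
    have h2 : ((v i.succ - v k.succ) + (v j.succ - v k.succ)) ^ 2 ≤
        (v 0 - 3 * v k.succ) ^ 2 := by
      apply pow_le_pow_left₀ (by omega) hs
    have h3 : v k.succ * ((v i.succ - v k.succ) + (v j.succ - v k.succ)) ≤
        v k.succ * (v 0 - 3 * v k.succ) :=
      mul_le_mul_of_nonneg_left hs hz.le
    have h4 : 3 * v k.succ ≤ v 0 := by omega
    have h5 : v k.succ * (3 * v k.succ) ≤ v k.succ * v 0 := mul_le_mul_of_nonneg_left h4 hz.le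
    nlinarith


lemma permW_single (e : Equiv.Perm (Fin (δ + 1))) (y : Fin (δ + 1)) (c : ℤ) :
    permW e (Pi.single y c : DP δ) = Pi.single (e.symm y) c := by
  funext x
  rw [permW_apply, Pi.single_apply, Pi.single_apply]
  simp only [Equiv.eq_symm_apply]

/-- A conic class with `a = 1` is `ℓ - e_i`. -/
lemma conic_a_one (hδ : δ ≤ 8) (v : DP δ) (hv : IsConic v) (ha : v 0 = 1) :
    ∃ i : Fin δ, v = Pi.single 0 1 + Pi.single i.succ 1 := by
  obtain ⟨hsq, hsum⟩ := (isConic_iff v).1 hv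
  obtain ⟨-, hb⟩ := bounds hδ (v 0) (fun i => v i.succ) hsq hsum
  have hb0 : ∀ l : Fin δ, 0 ≤ v l.succ := fun l => (hb l).1
  rw [ha] at hsum
  have hsum1 : ∑ i : Fin δ, v i.succ = 1 := by rw [hsum]; norm_num
  have hex : ∃ i : Fin δ, 1 ≤ v i.succ := by
    by_contra hno
    have : ∑ i : Fin δ, v i.succ = 0 := by
      apply Finset.sum_eq_zero
      intro l _
      have h1 : ¬ 1 ≤ v l.succ := fun h => hno ⟨l, h⟩
      have := hb0 l
      omega
    omega
  obtain ⟨i, hi⟩ := hex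
  have hrest : ∑ l ∈ Finset.univ.erase i, v l.succ = 1 - v i.succ := by
    rw [← hsum1, ← Finset.add_sum_erase _ _ (Finset.mem_univ i)]; ring
  have hrest0 : ∀ l ∈ Finset.univ.erase i, v l.succ = 0 := by
    have hnn : ∀ l ∈ Finset.univ.erase i, 0 ≤ v l.succ := fun l _ => hb0 l
    have hle : ∑ l ∈ Finset.univ.erase i, v l.succ ≤ 0 := by rw [hrest]; omega
    have h0 : ∑ l ∈ Finset.univ.erase i, v l.succ = 0 :=
      le_antisymm hle (Finset.sum_nonneg hnn)
    exact (Finset.sum_eq_zero_iff_of_nonneg hnn).1 h0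
  have hi1 : v i.succ = 1 := by
    have hnn : 0 ≤ ∑ l ∈ Finset.univ.erase i, v l.succ :=
      Finset.sum_nonneg (fun l _ => hb0 l)
    rw [hrest] at hnn
    omega
  refine ⟨i, ?_⟩
  funext x
  refine Fin.cases ?_ (fun l => ?_) x
  · simp [ha, Pi.single_apply, (Fin.succ_ne_zero i).symm]
  · by_cases hl : l = i
    · subst hl
      simp [hi1, Pi.single_apply, Fin.succ_ne_zero]
    · have := hrest0 l (Finset.mem_erase.2 ⟨hl, Finset.mem_univ _⟩)
      have hne : l.succ ≠ i.succ := fun h => hl (Fin.succ_injective _ h)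
      simp [this, Pi.single_apply, Fin.succ_ne_zero, hne]

/-- The conic class `ℓ - e_1`. -/
def Q0 (d : ℕ) : DP (d + 1) := Pi.single 0 1 + Pi.single (0 : Fin (d + 1)).succ 1

/-- The Weyl group acts transitively on conic classes. -/
theorem conic_to_Q0 (d : ℕ) (hd : d + 1 ≤ 8) (v : DP (d + 1)) (hv : IsConic v) :
    ∃ g : DP (d + 1) ≃ₗ[ℤ] DP (d + 1), IsWeyl g ∧ g v = Q0 d := by
  obtain ⟨g, hg, -, hred⟩ := descent (δ := d + 1) IsConic isConic_weyl
    (fun w hw => by have := (conic_bounds hd w hw).1; omega)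
    {t | t.1 ≠ t.2.1 ∧ t.1 ≠ t.2.2 ∧ t.2.1 ≠ t.2.2} (fun t ht => ht)
    (v 0).toNat v hv (by
      have := (conic_bounds hd v hv).1
      rw [Int.toNat_of_nonneg (by omega)])
  have hgv : IsConic (g v) := isConic_weyl g hg v hv
  have ha : (g v) 0 = 1 := by
    have h1 := (conic_bounds hd _ hgv).1
    by_contra hne
    have h2 : 2 ≤ (g v) 0 := by omega
    obtain ⟨i, j, k, hij, hik, hjk, hlt⟩ := conic_noether hd _ hgv h2
    have := hred (i, j, k) ⟨hij, hik, hjk⟩
    simp only at this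
    omega
  obtain ⟨i, hi⟩ := conic_a_one hd _ hgv ha
  let e : Equiv.Perm (Fin (d + 2)) := Equiv.swap (0 : Fin (d + 1)).succ i.succ
  have he0 : e 0 = 0 :=
    Equiv.swap_apply_of_ne_of_ne (Fin.succ_ne_zero _).symm (Fin.succ_ne_zero _).symm
  refine ⟨g.trans (permW e), IsWeyl.trans hg (isWeyl_permW e he0), ?_⟩
  rw [LinearEquiv.trans_apply, hi, map_add, permW_single, permW_single]
  have h1 : e.symm 0 = 0 := by rw [Equiv.symm_apply_eq]; exact he0.symm
  have h2 : e.symm i.succ = (0 : Fin (d + 1)).succ := by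
    rw [Equiv.symm_apply_eq]
    exact (Equiv.swap_apply_left _ _).symm
  rw [h1, h2]
  rfl

end Groth.Agent.Lib.H79DPConic
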