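import Mathlib
import Groth.Agent.S15909

/-!
# Pairs of exceptional classes in `DP 8` under the stabilizer of two orthogonal exceptional classes

Built on helper67's `S15909` toolkit (sorted descent): descent under the stabilizer of
`e_1` and `e_2`, with the terminal form `ℓ - e_2 - e_8` for exceptional classes `μ` with
`μ·e_1 = 0`, `μ·e_2 = 1`.
-/

set_option autoImplicit false
open W4c3severiratdp Groth.Agent.Lib.H67DPWeyl Groth.Agent.S15909

namespace Groth.Agent.Lib.H79DPPair2

theorem s0_two (v : DP 8) : s0 v 2 = v 2 := by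
  simp only [s0, refl_apply, form8, Pi.add_apply, Pi.smul_apply, smul_eq_mul]
  simp [α₀]

theorem s0_eI2 : s0 (eI 2) = eI 2 := by
  apply refl_fix
  rw [form_comm, form_eI _ _ (by decide)]
  rfl

/-- sort the last six `b`-coordinates increasingly -/
noncomputable def sort2 (v : DP 8) : DP 8 ≃ₗ[ℤ] DP 8 :=
  permW (liftPerm (liftPerm (Tuple.sort (fun i : Fin 6 => v i.succ.succ.succ))))

theorem sort2_mono (v : DP 8) {i j : Fin 6} (hij : i ≤ j) :
    sort2 v v i.succ.succ.succ ≤ sort2 v v j.succ.succ.succ := by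
  simp only [sort2, permW_apply_succ, liftPerm_succ]
  exact Tuple.monotone_sort (fun i : Fin 6 => v i.succ.succ.succ) hij

theorem sort2_zero (v : DP 8) : sort2 v v 0 = v 0 := by
  simp [sort2]

theorem sort2_one (v x : DP 8) : sort2 v x 1 = x 1 := by
  have : sort2 v x (0 : Fin 8).succ = x (0 : Fin 8).succ := by
    simp only [sort2, permW_apply_succ, liftPerm_zero]
  exact this

theorem sort2_two (v x : DP 8) : sort2 v x 2 = x 2 := by
  have : sort2 v x (0 : Fin 7).succ.succ = x (0 : Fin 7).succ.succ := by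
    simp only [sort2, permW_apply_succ, liftPerm_succ, liftPerm_zero]
  exact this

theorem sort2_eI1 (v : DP 8) : sort2 v (eI 1) = eI 1 := by
  funext j
  refine Fin.cases ?_ (fun i => ?_) j
  · simp [sort2]
  · refine Fin.cases ?_ (fun k => ?_) i
    · simp only [sort2, permW_apply_succ, liftPerm_zero]
    · refine Fin.cases ?_ (fun l => ?_) k
      · simp only [sort2, permW_apply_succ, liftPerm_succ, liftPerm_zero]
      · simp only [sort2, permW_apply_succ, liftPerm_succ]
        have h1 : ∀ x : Fin 6, (x.succ.succ.succ : Fin 9) ≠ 1 := by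
          intro x h
          have : x.succ.succ = (0 : Fin 8) := Fin.succ_injective _ h
          exact Fin.succ_ne_zero _ this
        simp only [eI, Pi.single_apply, if_neg (h1 _)]

theorem sort2_eI2 (v : DP 8) : sort2 v (eI 2) = eI 2 := by
  funext j
  refine Fin.cases ?_ (fun i => ?_) j
  · simp [sort2]
  · refine Fin.cases ?_ (fun k => ?_) i
    · simp only [sort2, permW_apply_succ, liftPerm_zero]
    · refine Fin.cases ?_ (fun l => ?_) k
      · simp only [sort2, permW_apply_succ, liftPerm_succ, liftPerm_zero]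
      · simp only [sort2, permW_apply_succ, liftPerm_succ]
        have h1 : ∀ x : Fin 6, (x.succ.succ.succ : Fin 9) ≠ 2 := by
          intro x h
          have h' : x.succ.succ = (1 : Fin 8) := Fin.succ_injective _ h
          have h'' : x.succ = (0 : Fin 7) := Fin.succ_injective _ h'
          exact Fin.succ_ne_zero _ h''
        simp only [eI, Pi.single_apply, if_neg (h1 _)]

/-- terminal form for the doubly constrained descent -/
def T2 (w : DP 8) : Prop :=
  w 3 ≤ w 4 ∧ w 4 ≤ w 5 ∧ w 5 ≤ w 6 ∧ w 6 ≤ w 7 ∧ w 7 ≤ w 8 ∧ w 6 + w 7 + w 8 ≤ w 0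

theorem descent2 : ∀ (n : ℕ) (v : DP 8), IsExc v → (v 0 + 1).toNat = n →
    ∃ g : DP 8 ≃ₗ[ℤ] DP 8, IsWeyl g ∧ g (eI 1) = eI 1 ∧ g (eI 2) = eI 2 ∧ T2 (g v) ∧
      g v 1 = v 1 ∧ g v 2 = v 2 := by
  intro n
  induction n using Nat.strong_induction_on with
  | _ n ih =>
    intro v hv hn
    have hsW : IsWeyl (sort2 v) := isWeyl_permW _
    set w := sort2 v v with hw
    have hwE : IsExc w := IsWeyl.isExc hsW hv
    have hw0 : w 0 = v 0 := sort2_zero v
    have hw1 : w 1 = v 1 := sort2_one v v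
    have hw2 : w 2 = v 2 := sort2_two v v
    have m34 : w 3 ≤ w 4 := sort2_mono v (i := 0) (j := 1) (by decide)
    have m45 : w 4 ≤ w 5 := sort2_mono v (i := 1) (j := 2) (by decide)
    have m56 : w 5 ≤ w 6 := sort2_mono v (i := 2) (j := 3) (by decide)
    have m67 : w 6 ≤ w 7 := sort2_mono v (i := 3) (j := 4) (by decide)
    have m78 : w 7 ≤ w 8 := sort2_mono v (i := 4) (j := 5) (by decide)
    by_cases ht : w 6 + w 7 + w 8 ≤ w 0
    · exact ⟨sort2 v, hsW, sort2_eI1 v, sort2_eI2 v, ⟨m34, m45, m56, m67, m78, ht⟩, hw1, hw2⟩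
    · have huE : IsExc (s0 w) := IsWeyl.isExc isWeyl_s0 hwE
      have hu0 : s0 w 0 = 2 * w 0 - (w 6 + w 7 + w 8) := s0_zero w
      have hge := exc_zero_ge huE
      have hlt : (s0 w 0 + 1).toNat < n := by omega
      obtain ⟨g', hg', hg'e, hg'e2, hg'T, hg'1, hg'2⟩ := ih _ hlt (s0 w) huE rfl
      refine ⟨(sort2 v).trans (s0.trans g'), IsWeyl.trans hsW (IsWeyl.trans isWeyl_s0 hg'),
        ?_, ?_, ?_, ?_, ?_⟩
      · simp only [LinearEquiv.trans_apply, sort2_eI1, s0_eI1, hg'e]
      · simp only [LinearEquiv.trans_apply, sort2_eI2, s0_eI2, hg'e2]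
      · simpa [LinearEquiv.trans_apply] using hg'T
      · simp only [LinearEquiv.trans_apply]
        rw [hg'1, s0_one, hw1]
      · simp only [LinearEquiv.trans_apply]
        rw [hg'2, s0_two, hw2]

/-- the normal form `ℓ - e_2 - e_8` -/
def R2v : DP 8 := ![1, 0, 1, 0, 0, 0, 0, 0, 1]

theorem terminal_pair {w : DP 8} (hw : IsExc w) (hT : T2 w) (h1 : w 1 = 0) (h2 : w 2 = 1) :
    w = R2v := by
  obtain ⟨m34, m45, m56, m67, m78, ht⟩ := hT
  obtain ⟨hge, heq⟩ := exc_coord hw 3 (by decide)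
  by_cases h3 : w 3 = -1
  · exfalso
    have := heq h3
    rw [this] at h2
    simp [eI] at h2
  · obtain ⟨hq, hs⟩ := (isExc_iff w).mp hw
    rw [h1, h2] at hq hs
    obtain ⟨e0, -, e3, e4, e5, e6, e7, e8⟩ :=
      ineq_core1 (w 0) 0 (w 3) (w 4) (w 5) (w 6) (w 7) (w 8) (by linarith) (by linarith)
        le_rfl (by omega) m34 m45 m56 m67 m78 ht
    funext j
    fin_cases j
    · exact e0
    · exact h1
    · exact h2
    · exact e3
    · exact e4
    · exact e5
    · exact e6
    · exact e7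
    · exact e8

/-- Exceptional classes `μ` with `μ·e_1 = 0` and `μ·e_2 = 1` form one orbit under the
stabilizer of `e_1` and `e_2`. -/
theorem pair_std (μ : DP 8) (hμ : IsExc μ) (h1 : μ 1 = 0) (h2 : μ 2 = 1) :
    ∃ g : DP 8 ≃ₗ[ℤ] DP 8, IsWeyl g ∧ g (eI 1) = eI 1 ∧ g (eI 2) = eI 2 ∧ g μ = R2v := by
  obtain ⟨g, hg, hg1, hg2, hT, hc1, hc2⟩ := descent2 _ μ hμ rfl
  exact ⟨g, hg, hg1, hg2,
    terminal_pair (IsWeyl.isExc hg hμ) hT (by rw [hc1, h1]) (by rw [hc2, h2])⟩

end Groth.Agent.Lib.H79DPPair2
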