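import Mathlib
import Groth.Agent.Lib.H79DPConic
import Groth.Agent.Lib.H79DPCls

/-!
# Ordered pairs of conic classes in `DP δ` up to the Weyl group

Reduction of the second conic under the stabilizer of `Q0 = ℓ - e_1`, classification of the
reduced forms through their value counts, and the resulting permutation.
-/

set_option autoImplicit false
open W4c3severiratdp Groth.Agent.Lib.H79DPWeyl Groth.Agent.Lib.H72DelPezzo
  Groth.Agent.Lib.H79DPConic Groth.Agent.Lib.H79DPCls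

namespace Groth.Agent.Lib.H79DPPairs

variable {d : ℕ}

lemma form_Q0 (w : DP (d + 1)) : form (Q0 d) w = w 0 - w (0 : Fin (d + 1)).succ := by
  rw [form_comm]
  unfold Q0
  rw [form_add_right, form_single_zero, form_single_succ]
  ring

lemma Q0_zero : (Q0 d) 0 = 1 := by
  unfold Q0
  simp [Pi.single_apply, (Fin.succ_ne_zero _).symm]

lemma Q0_one : (Q0 d) (0 : Fin (d + 1)).succ = 1 := by
  unfold Q0
  simp [Pi.single_apply, Fin.succ_ne_zero]

lemma Q0_rest (i : Fin d) : (Q0 d) i.succ.succ = 0 := by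
  unfold Q0
  have h1 : i.succ.succ ≠ (0 : Fin (d + 1)).succ :=
    fun h => Fin.succ_ne_zero i (Fin.succ_injective _ h)
  rw [Pi.add_apply, Pi.single_apply, Pi.single_apply, if_neg (Fin.succ_ne_zero _), if_neg h1]
  rfl

/-- The number of the remaining coordinates (those of index `≥ 2`) equal to `t`. -/
def cnt (r : DP (d + 1)) (t : ℤ) : ℕ :=
  (Finset.univ.filter fun i : Fin d => r i.succ.succ = t).card

/-- `r` is reduced for the stabilizer of `Q0`. -/
def Q0Reduced (r : DP (d + 1)) : Prop :=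
  ∀ j k : Fin d, j ≠ k → r j.succ.succ + r k.succ.succ ≤ form (Q0 d) r

lemma exists_of_cnt_pos (r : DP (d + 1)) (t : ℤ) (h : 1 ≤ cnt r t) :
    ∃ i : Fin d, r i.succ.succ = t := by
  unfold cnt at h
  have hpos : 0 < (Finset.univ.filter fun i : Fin d => r i.succ.succ = t).card := by omega
  obtain ⟨i, hi⟩ := Finset.card_pos.1 hpos
  exact ⟨i, (Finset.mem_filter.1 hi).2⟩

lemma exists_two_of_cnt (r : DP (d + 1)) (t : ℤ) (h : 2 ≤ cnt r t) :
    ∃ i j : Fin d, i ≠ j ∧ r i.succ.succ = t ∧ r j.succ.succ = t := by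
  unfold cnt at h
  have hpos : 1 < (Finset.univ.filter fun i : Fin d => r i.succ.succ = t).card := by omega
  obtain ⟨i, hi, j, hj, hij⟩ := Finset.one_lt_card.1 hpos
  exact ⟨i, j, hij, (Finset.mem_filter.1 hi).2, (Finset.mem_filter.1 hj).2⟩

theorem sol_of_reduced (hd : d + 1 ≤ 8) (r : DP (d + 1)) (hr : IsConic r) (hred : Q0Reduced r) :
    Sol d (form (Q0 d) r) (r 0) (r (0 : Fin (d + 1)).succ)
      (cnt r 0) (cnt r 1) (cnt r 2) (cnt r 3) (cnt r 4) := by
  obtain ⟨ha1, ha11, hb⟩ := conic_bounds hd r hr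
  obtain ⟨hsq, hsum⟩ := (isConic_iff r).1 hr
  have hbb : ∀ i : Fin d, 0 ≤ r i.succ.succ ∧ r i.succ.succ ≤ 4 := fun i => hb i.succ
  have hS := sum_comp_eq (fun i : Fin d => r i.succ.succ) hbb
  rw [Fin.sum_univ_succ] at hsq hsum
  have h1 := hS (fun _ => 1)
  have h2 := hS (fun x => x)
  have h3 := hS (fun x => x ^ 2)
  simp only [Finset.sum_const, Finset.card_univ, Fintype.card_fin, nsmul_eq_mul, mul_one] at h1
  have hm := form_Q0 r
  have hpair : ∀ t u : ℤ, t ≠ u → 1 ≤ cnt r t → 1 ≤ cnt r u → t + u ≤ form (Q0 d) r := by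
    intro t u htu ht hu
    obtain ⟨j, hj⟩ := exists_of_cnt_pos r t ht
    obtain ⟨k, hk⟩ := exists_of_cnt_pos r u hu
    have hjk : j ≠ k := by
      rintro rfl
      exact htu (hj.symm.trans hk)
    have := hred j k hjk
    rw [hj, hk] at this
    exact this
  have hdbl : ∀ t : ℤ, 2 ≤ cnt r t → t + t ≤ form (Q0 d) r := by
    intro t ht
    obtain ⟨j, k, hjk, hj, hk⟩ := exists_two_of_cnt r t ht
    have := hred j k hjk
    rw [hj, hk] at this
    exact this
  have hb1 := hb 0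
  refine ⟨?_, ?_, hb1.1, hb1.2, ha1, ha11, ?_, ?_, ?_, ?_, ?_, ?_, ?_, ?_, ?_, ?_, ?_, ?_, ?_,
    ?_, ?_, ?_, ?_⟩
  · unfold cnt
    exact_mod_cast h1.symm
  · rw [hm]; ring
  · rw [hm]
    have hnn : 0 ≤ ∑ i : Fin d, r i.succ.succ ^ 2 := Finset.sum_nonneg (fun i _ => sq_nonneg _)
    by_contra hlt
    have h : r 0 < r (0 : Fin (d + 1)).succ := by linarith
    have h2 := pow_lt_pow_left₀ h (by linarith : (0 : ℤ) ≤ r 0) (two_ne_zero)
    linarith
  · unfold cnt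
    rw [h2] at hsum
    linarith
  · unfold cnt
    rw [h3] at hsq
    linarith
  · intro h h'; have := hpair 0 1 (by norm_num) h h'; linarith
  · intro h h'; have := hpair 0 2 (by norm_num) h h'; linarith
  · intro h h'; have := hpair 0 3 (by norm_num) h h'; linarith
  · intro h h'; have := hpair 0 4 (by norm_num) h h'; linarith
  · intro h h'; have := hpair 1 2 (by norm_num) h h'; linarith
  · intro h h'; have := hpair 1 3 (by norm_num) h h'; linarith
  · intro h h'; have := hpair 1 4 (by norm_num) h h'; linarith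
  · intro h h'; have := hpair 2 3 (by norm_num) h h'; linarith
  · intro h h'; have := hpair 2 4 (by norm_num) h h'; linarith
  · intro h h'; have := hpair 3 4 (by norm_num) h h'; linarith
  · intro h; have := hdbl 1 h; linarith
  · intro h; have := hdbl 2 h; linarith
  · intro h; have := hdbl 3 h; linarith
  · intro h; have := hdbl 4 h; linarith

/-- Extend a permutation of `Fin n` to `Fin (n+1)` fixing `0`. -/
def liftPerm {n : ℕ} (σ : Equiv.Perm (Fin n)) : Equiv.Perm (Fin (n + 1)) :=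
  Equiv.Perm.decomposeFin.symm (0, σ)

lemma liftPerm_zero {n : ℕ} (σ : Equiv.Perm (Fin n)) : liftPerm σ 0 = 0 :=
  Equiv.Perm.decomposeFin_symm_apply_zero 0 σ

lemma liftPerm_succ {n : ℕ} (σ : Equiv.Perm (Fin n)) (x : Fin n) :
    liftPerm σ x.succ = (σ x).succ := by
  unfold liftPerm
  rw [Equiv.Perm.decomposeFin_symm_apply_succ, Equiv.swap_self]
  rfl

/-- Two conic classes with the same `a`, `b₁` and the same value counts of the remaining
coordinates differ by a coordinate permutation fixing `Q0`. -/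
theorem perm_of_counts_eq (hd : d + 1 ≤ 8) (r r' : DP (d + 1)) (hr : IsConic r)
    (hr' : IsConic r') (ha : r 0 = r' 0)
    (hb1 : r (0 : Fin (d + 1)).succ = r' (0 : Fin (d + 1)).succ)
    (h0 : cnt r 0 = cnt r' 0) (h1 : cnt r 1 = cnt r' 1) (h2 : cnt r 2 = cnt r' 2)
    (h3 : cnt r 3 = cnt r' 3) (h4 : cnt r 4 = cnt r' 4) :
    ∃ g : DP (d + 1) ≃ₗ[ℤ] DP (d + 1), IsWeyl g ∧ g (Q0 d) = Q0 d ∧ g r = r' := by
  obtain ⟨-, -, hb⟩ := conic_bounds hd r hr
  obtain ⟨-, -, hb'⟩ := conic_bounds hd r' hr'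
  obtain ⟨σ, hσ⟩ := exists_perm_of_counts (fun i : Fin d => r i.succ.succ)
    (fun i : Fin d => r' i.succ.succ) (fun i => hb i.succ) (fun i => hb' i.succ) h0 h1 h2 h3 h4
  let e : Equiv.Perm (Fin (d + 2)) := liftPerm (liftPerm σ)
  have he0 : e 0 = 0 := liftPerm_zero _
  have he1 : e (0 : Fin (d + 1)).succ = (0 : Fin (d + 1)).succ := by
    show liftPerm (liftPerm σ) _ = _
    rw [liftPerm_succ, liftPerm_zero]
  have he2 : ∀ i : Fin d, e i.succ.succ = (σ i).succ.succ := by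
    intro i
    show liftPerm (liftPerm σ) _ = _
    rw [liftPerm_succ, liftPerm_succ]
  refine ⟨permW e, isWeyl_permW e he0, ?_, ?_⟩
  · unfold Q0
    rw [map_add, permW_single, permW_single]
    have h1 : e.symm 0 = 0 := by rw [Equiv.symm_apply_eq]; exact he0.symm
    have h2 : e.symm (0 : Fin (d + 1)).succ = (0 : Fin (d + 1)).succ := by
      rw [Equiv.symm_apply_eq]; exact he1.symm
    rw [h1, h2]
  · funext x
    rw [permW_apply]
    refine Fin.cases ?_ (fun l => ?_) x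
    · rw [he0]; exact ha
    · refine Fin.cases ?_ (fun i => ?_) l
      · rw [he1]; exact hb1
      · rw [he2]; exact hσ i

theorem reduced_perm (hd : d + 1 ≤ 8) (r r' : DP (d + 1)) (hr : IsConic r) (hr' : IsConic r')
    (hred : Q0Reduced r) (hred' : Q0Reduced r') (hm : form (Q0 d) r = form (Q0 d) r')
    (hne : ¬ (d = 7 ∧ form (Q0 d) r = 4)) :
    ∃ g : DP (d + 1) ≃ₗ[ℤ] DP (d + 1), IsWeyl g ∧ g (Q0 d) = Q0 d ∧ g r = r' := by
  have S := sol_of_reduced hd r hr hred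
  have S' := sol_of_reduced hd r' hr' hred'
  rw [← hm] at S'
  obtain ⟨ha, hb1, h0, h1, h2, h3, h4⟩ := Sol.unique (by omega) hne S S'
  exact perm_of_counts_eq hd r r' hr hr' ha hb1 h0 h1 h2 h3 h4

lemma isConic_Q0 : IsConic (Q0 d) := by
  refine ⟨?_, ?_⟩
  · rw [form_Q0, Q0_zero, Q0_one]; norm_num
  · rw [form_comm, form_Q0, canon_apply, canon_apply, if_pos rfl, if_neg (Fin.succ_ne_zero _)]
    norm_num

theorem exists_reduce (hd : d + 1 ≤ 8) (r : DP (d + 1)) (hr : IsConic r) :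
    ∃ g : DP (d + 1) ≃ₗ[ℤ] DP (d + 1), IsWeyl g ∧ g (Q0 d) = Q0 d ∧ Q0Reduced (g r) := by
  obtain ⟨g, hg, hfix, hred⟩ := descent (δ := d + 1) IsConic isConic_weyl
    (fun w hw => by have := (conic_bounds hd w hw).1; omega)
    {t | t.1 = 0 ∧ ∃ j k : Fin d, j ≠ k ∧ t.2.1 = j.succ ∧ t.2.2 = k.succ}
    (by
      rintro ⟨t1, t2, t3⟩ ⟨h1, j, k, hjk, h2, h3⟩
      simp only at h1 h2 h3
      subst h1 h2 h3
      refine ⟨(Fin.succ_ne_zero j).symm, (Fin.succ_ne_zero k).symm, ?_⟩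
      exact fun h => hjk (Fin.succ_injective _ h))
    (r 0).toNat r hr (by
      have := (conic_bounds hd r hr).1
      rw [Int.toNat_of_nonneg (by omega)])
  have hQ : g (Q0 d) = Q0 d := by
    apply hfix
    rintro ⟨t1, t2, t3⟩ ⟨h1, j, k, hjk, h2, h3⟩
    simp only at h1 h2 h3
    subst h1 h2 h3
    rw [form_root3, Q0_zero, Q0_one, Q0_rest, Q0_rest]
    norm_num
  refine ⟨g, hg, hQ, ?_⟩
  intro j k hjk
  have := hred (0, j.succ, k.succ) ⟨rfl, j, k, hjk, rfl, rfl⟩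
  simp only at this
  rw [form_Q0]
  linarith

/-- Every ordered pair of conic classes can be moved to `(Q0, r)` with `r` reduced. -/
theorem exists_to_Q0_reduced (hd : d + 1 ≤ 8) (v₁ v₂ : DP (d + 1)) (hv₁ : IsConic v₁)
    (hv₂ : IsConic v₂) :
    ∃ g : DP (d + 1) ≃ₗ[ℤ] DP (d + 1), IsWeyl g ∧ g v₁ = Q0 d ∧ Q0Reduced (g v₂) ∧
      form (Q0 d) (g v₂) = form v₁ v₂ := by
  obtain ⟨g1, hg1, h1⟩ := conic_to_Q0 d hd v₁ hv₁
  have c1 : IsConic (g1 v₂) := isConic_weyl g1 hg1 v₂ hv₂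
  obtain ⟨k1, hk1, hk1Q, hk1r⟩ := exists_reduce hd (g1 v₂) c1
  refine ⟨g1.trans k1, IsWeyl.trans hg1 hk1, ?_, ?_, ?_⟩
  · rw [LinearEquiv.trans_apply, h1, hk1Q]
  · rw [LinearEquiv.trans_apply]; exact hk1r
  · rw [LinearEquiv.trans_apply]
    conv_lhs => rw [← hk1Q]
    rw [hk1.1, ← h1, hg1.1]

/-- Ordered pairs of conic classes with the same intersection number are conjugate under the
Weyl group, except possibly for `δ = 8` and intersection number `4`. -/
theorem pairs_conj (hd : d + 1 ≤ 8) (v₁ v₂ w₁ w₂ : DP (d + 1)) (hv₁ : IsConic v₁)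
    (hv₂ : IsConic v₂) (hw₁ : IsConic w₁) (hw₂ : IsConic w₂) (heq : form v₁ v₂ = form w₁ w₂)
    (hne : ¬ (d = 7 ∧ form v₁ v₂ = 4)) :
    ∃ g : DP (d + 1) ≃ₗ[ℤ] DP (d + 1), IsWeyl g ∧ g v₁ = w₁ ∧ g v₂ = w₂ := by
  obtain ⟨g1, hg1, h1⟩ := conic_to_Q0 d hd v₁ hv₁
  obtain ⟨g2, hg2, h2⟩ := conic_to_Q0 d hd w₁ hw₁
  have c1 : IsConic (g1 v₂) := isConic_weyl g1 hg1 v₂ hv₂
  have c2 : IsConic (g2 w₂) := isConic_weyl g2 hg2 w₂ hw₂
  obtain ⟨k1, hk1, hk1Q, hk1r⟩ := exists_reduce hd (g1 v₂) c1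
  obtain ⟨k2, hk2, hk2Q, hk2r⟩ := exists_reduce hd (g2 w₂) c2
  have m1 : form (Q0 d) (k1 (g1 v₂)) = form v₁ v₂ := by
    conv_lhs => rw [← hk1Q]
    rw [hk1.1, ← h1, hg1.1]
  have m2 : form (Q0 d) (k2 (g2 w₂)) = form w₁ w₂ := by
    conv_lhs => rw [← hk2Q]
    rw [hk2.1, ← h2, hg2.1]
  obtain ⟨p, hp, hpQ, hpr⟩ := reduced_perm hd (k1 (g1 v₂)) (k2 (g2 w₂))
    (isConic_weyl k1 hk1 _ c1) (isConic_weyl k2 hk2 _ c2) hk1r hk2r (by rw [m1, m2, heq])
    (by rw [m1]; exact hne)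
  refine ⟨((g1.trans k1).trans p).trans (g2.trans k2).symm,
    IsWeyl.trans (IsWeyl.trans (IsWeyl.trans hg1 hk1) hp) (IsWeyl.symm (IsWeyl.trans hg2 hk2)),
    ?_, ?_⟩
  · simp only [LinearEquiv.trans_apply]
    rw [LinearEquiv.symm_apply_eq]
    simp only [LinearEquiv.trans_apply]
    rw [h1, h2, hk1Q, hk2Q, hpQ]
  · simp only [LinearEquiv.trans_apply]
    rw [LinearEquiv.symm_apply_eq]
    simp only [LinearEquiv.trans_apply]
    rw [hpr]

end Groth.Agent.Lib.H79DPPairs
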