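import Mathlib

/-!
# Tools for the "diagonal ideal on Sym^3" statements (S19212, S19213)

`A` a commutative `k`-algebra; `R2 = A ⊗ A`, `R3 = A ⊗ (A ⊗ A)`.
* `ι1 ι2 ι3 : A →ₐ[k] R3` the three coordinate inclusions;
* `ρ12 : R3 →ₐ[k] R2`, `a ⊗ (b ⊗ c) ↦ ab ⊗ c`; `ρ23`, `a ⊗ (u ⊗ v) ↦ uv ⊗ a`;
* `S1`, `S2 : R3 ≃ₐ[k] R3` the swaps of factors `1,2` resp. `2,3` (as algebra maps), agreeing with
  `TensorProduct.leftComm` and `lTensor A comm`;
* `Phi : R2 →ₗ[k] Ω`, `a ⊗ b ↦ a • d b`; `mem_sq_of_Phi` : `m z = 0 → Phi z = 0 → z ∈ I^2`;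
* `sq_le_of_gens` : a `k`-submodule of `R2` containing all `(c ⊗ d) * g_a * g_b` contains `I^2`.
-/

set_option autoImplicit false
universe u v

open TensorProduct Pointwise

namespace Groth.Agent.Lib.H79DiagSym3

variable (k : Type u) [Field k] (A : Type v) [CommRing A] [Algebra k A]

/-- first coordinate inclusion -/
noncomputable def ι1 : A →ₐ[k] A ⊗[k] (A ⊗[k] A) := Algebra.TensorProduct.includeLeft

/-- second coordinate inclusion -/
noncomputable def ι2 : A →ₐ[k] A ⊗[k] (A ⊗[k] A) :=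
  (Algebra.TensorProduct.includeRight).comp Algebra.TensorProduct.includeLeft

/-- third coordinate inclusion -/
noncomputable def ι3 : A →ₐ[k] A ⊗[k] (A ⊗[k] A) :=
  (Algebra.TensorProduct.includeRight).comp Algebra.TensorProduct.includeRight

variable {k A}

lemma ι1_apply (a : A) : ι1 k A a = a ⊗ₜ[k] ((1 : A) ⊗ₜ[k] (1 : A)) := rfl
lemma ι2_apply (a : A) : ι2 k A a = (1 : A) ⊗ₜ[k] (a ⊗ₜ[k] (1 : A)) := rfl
lemma ι3_apply (a : A) : ι3 k A a = (1 : A) ⊗ₜ[k] ((1 : A) ⊗ₜ[k] a) := rfl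

lemma tmul_eq (a b c : A) : a ⊗ₜ[k] (b ⊗ₜ[k] c) = ι1 k A a * ι2 k A b * ι3 k A c := by
  simp [ι1_apply, ι2_apply, ι3_apply, Algebra.TensorProduct.tmul_mul_tmul]

variable (k A)

/-- restriction to the diagonal `x₁ = x₂`: `a ⊗ (b ⊗ c) ↦ ab ⊗ c` -/
noncomputable def ρ12 : A ⊗[k] (A ⊗[k] A) →ₐ[k] A ⊗[k] A :=
  Algebra.TensorProduct.lift (Algebra.TensorProduct.includeLeft) (AlgHom.id k (A ⊗[k] A))
    (fun _ _ => Commute.all _ _)

/-- restriction to the diagonal `x₂ = x₃`, repeated coordinate first: `a ⊗ (u ⊗ v) ↦ uv ⊗ a` -/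
noncomputable def ρ23 : A ⊗[k] (A ⊗[k] A) →ₐ[k] A ⊗[k] A :=
  Algebra.TensorProduct.lift (Algebra.TensorProduct.includeRight)
    ((Algebra.TensorProduct.includeLeft).comp (Algebra.TensorProduct.lmul' k))
    (fun _ _ => Commute.all _ _)

variable {k A}

@[simp] lemma ρ12_tmul (a b c : A) : ρ12 k A (a ⊗ₜ[k] (b ⊗ₜ[k] c)) = (a * b) ⊗ₜ[k] c := by
  simp [ρ12, Algebra.TensorProduct.tmul_mul_tmul]

@[simp] lemma ρ23_tmul (a u v : A) : ρ23 k A (a ⊗ₜ[k] (u ⊗ₜ[k] v)) = (u * v) ⊗ₜ[k] a := by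
  simp [ρ23, Algebra.TensorProduct.tmul_mul_tmul]

@[simp] lemma ρ12_ι1 (a : A) : ρ12 k A (ι1 k A a) = a ⊗ₜ[k] (1 : A) := by simp [ι1_apply]
@[simp] lemma ρ12_ι2 (a : A) : ρ12 k A (ι2 k A a) = a ⊗ₜ[k] (1 : A) := by simp [ι2_apply]
@[simp] lemma ρ12_ι3 (a : A) : ρ12 k A (ι3 k A a) = (1 : A) ⊗ₜ[k] a := by simp [ι3_apply]
@[simp] lemma ρ23_ι1 (a : A) : ρ23 k A (ι1 k A a) = (1 : A) ⊗ₜ[k] a := by simp [ι1_apply]
@[simp] lemma ρ23_ι2 (a : A) : ρ23 k A (ι2 k A a) = a ⊗ₜ[k] (1 : A) := by simp [ι2_apply]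
@[simp] lemma ρ23_ι3 (a : A) : ρ23 k A (ι3 k A a) = a ⊗ₜ[k] (1 : A) := by simp [ι3_apply]

variable (k A)

/-- swap of the factors 1 and 2, as an algebra automorphism -/
noncomputable def S1 : A ⊗[k] (A ⊗[k] A) ≃ₐ[k] A ⊗[k] (A ⊗[k] A) :=
  Algebra.TensorProduct.leftComm k A A A

/-- swap of the factors 2 and 3, as an algebra automorphism -/
noncomputable def S2 : A ⊗[k] (A ⊗[k] A) ≃ₐ[k] A ⊗[k] (A ⊗[k] A) :=
  Algebra.TensorProduct.congr AlgEquiv.refl (Algebra.TensorProduct.comm k A A)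

variable {k A}

@[simp] lemma S1_tmul (a b c : A) : S1 k A (a ⊗ₜ[k] (b ⊗ₜ[k] c)) = b ⊗ₜ[k] (a ⊗ₜ[k] c) := rfl
@[simp] lemma S2_tmul (a b c : A) : S2 k A (a ⊗ₜ[k] (b ⊗ₜ[k] c)) = a ⊗ₜ[k] (c ⊗ₜ[k] b) := by
  simp [S2]

@[simp] lemma S1_ι1 (a : A) : S1 k A (ι1 k A a) = ι2 k A a := by simp [ι1_apply, ι2_apply]
@[simp] lemma S1_ι2 (a : A) : S1 k A (ι2 k A a) = ι1 k A a := by simp [ι1_apply, ι2_apply]
@[simp] lemma S1_ι3 (a : A) : S1 k A (ι3 k A a) = ι3 k A a := by simp [ι3_apply]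
@[simp] lemma S2_ι1 (a : A) : S2 k A (ι1 k A a) = ι1 k A a := by simp [ι1_apply]
@[simp] lemma S2_ι2 (a : A) : S2 k A (ι2 k A a) = ι3 k A a := by simp [ι2_apply, ι3_apply]
@[simp] lemma S2_ι3 (a : A) : S2 k A (ι3 k A a) = ι2 k A a := by simp [ι2_apply, ι3_apply]

/-- two `k`-linear maps out of `A ⊗ (A ⊗ A)` agreeing on pure tensors are equal -/
lemma ext3 {M : Type*} [AddCommMonoid M] [Module k M] (f g : A ⊗[k] (A ⊗[k] A) →ₗ[k] M)
    (h : ∀ a b c : A, f (a ⊗ₜ[k] (b ⊗ₜ[k] c)) = g (a ⊗ₜ[k] (b ⊗ₜ[k] c))) : f = g := by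
  apply TensorProduct.ext'
  intro a z
  induction z using TensorProduct.induction_on with
  | zero => simp
  | tmul b c => exact h a b c
  | add x y hx hy => rw [TensorProduct.tmul_add, map_add, map_add, hx, hy]

lemma leftComm_eq_S1 (x : A ⊗[k] (A ⊗[k] A)) : TensorProduct.leftComm k A A A x = S1 k A x := by
  have : (TensorProduct.leftComm k A A A).toLinearMap = (S1 k A).toLinearMap := by
    apply ext3; intro a b c; simp
  exact LinearMap.congr_fun this x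

lemma lTensor_comm_eq_S2 (x : A ⊗[k] (A ⊗[k] A)) :
    LinearMap.lTensor A (TensorProduct.comm k A A).toLinearMap x = S2 k A x := by
  have : LinearMap.lTensor A (TensorProduct.comm k A A).toLinearMap = (S2 k A).toLinearMap := by
    apply ext3; intro a b c; simp
  exact LinearMap.congr_fun this x

lemma eq_ρ12 (r : A ⊗[k] (A ⊗[k] A) →ₗ[k] A ⊗[k] A)
    (hr : ∀ a b c : A, r (a ⊗ₜ[k] (b ⊗ₜ[k] c)) = (a * b) ⊗ₜ[k] c) (x : A ⊗[k] (A ⊗[k] A)) :
    r x = ρ12 k A x := by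
  have : r = (ρ12 k A).toLinearMap := by
    apply ext3; intro a b c; simp [hr]
  exact LinearMap.congr_fun this x

lemma eq_ρ23 (r : A ⊗[k] (A ⊗[k] A) →ₗ[k] A ⊗[k] A)
    (hr : ∀ a u v : A, r (a ⊗ₜ[k] (u ⊗ₜ[k] v)) = (u * v) ⊗ₜ[k] a) (x : A ⊗[k] (A ⊗[k] A)) :
    r x = ρ23 k A x := by
  have : r = (ρ23 k A).toLinearMap := by
    apply ext3; intro a b c; simp [hr]
  exact LinearMap.congr_fun this x

variable (k A)

/-- `a ⊗ b ↦ a • d b`, as a `k`-linear map -/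
noncomputable def Phi : A ⊗[k] A →ₗ[k] Ω[A⁄k] :=
  ((KaehlerDifferential.D k A).tensorProductTo).restrictScalars k

variable {k A}

@[simp] lemma Phi_tmul (a b : A) : Phi k A (a ⊗ₜ[k] b) = a • KaehlerDifferential.D k A b := rfl

/-- an element of the diagonal ideal with vanishing first-order part lies in the square -/
lemma mem_sq_of_Phi (z : A ⊗[k] A) (hz : Algebra.TensorProduct.lmul' k (S := A) z = 0) (hΦ : Phi k A z = 0) :
    z ∈ KaehlerDifferential.ideal k A ^ 2 := by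
  have hzI : z ∈ KaehlerDifferential.ideal k A := hz
  have := KaehlerDifferential.D_tensorProductTo (R := k) (S := A) ⟨z, hzI⟩
  rw [← Ideal.toCotangent_eq_zero (KaehlerDifferential.ideal k A) ⟨z, hzI⟩, ← this]
  exact hΦ

/-- a `k`-submodule containing all `(c ⊗ d) * g_a * g_b` contains the square of the diagonal ideal -/
lemma sq_le_of_gens (N : Submodule k (A ⊗[k] A))
    (h : ∀ a b c d : A, (c ⊗ₜ[k] d) * (((1 : A) ⊗ₜ[k] a - a ⊗ₜ[k] (1 : A)) *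
      ((1 : A) ⊗ₜ[k] b - b ⊗ₜ[k] (1 : A))) ∈ N)
    (w : A ⊗[k] A) (hw : w ∈ KaehlerDifferential.ideal k A ^ 2) : w ∈ N := by
  rw [pow_two, ← KaehlerDifferential.span_range_eq_ideal, Ideal.span_mul_span'] at hw
  have key : ∀ w ∈ Ideal.span ((Set.range fun s : A => (1 : A) ⊗ₜ[k] s - s ⊗ₜ[k] (1 : A)) *
      (Set.range fun s : A => (1 : A) ⊗ₜ[k] s - s ⊗ₜ[k] (1 : A))),
      ∀ z : A ⊗[k] A, z * w ∈ N := by
    intro w hw
    induction hw using Submodule.span_induction with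
    | mem x hx =>
      obtain ⟨_, ⟨a, rfl⟩, _, ⟨b, rfl⟩, rfl⟩ := hx
      intro z
      induction z using TensorProduct.induction_on with
      | zero => simp
      | tmul c d => exact h a b c d
      | add x y hx hy => rw [add_mul]; exact N.add_mem hx hy
    | zero => intro z; simp
    | add x y _ _ hx hy => intro z; rw [mul_add]; exact N.add_mem (hx z) (hy z)
    | smul t x _ hx =>
      intro z
      rw [smul_eq_mul, ← mul_assoc]
      exact hx (z * t)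
  simpa using key w hw 1

end Groth.Agent.Lib.H79DiagSym3
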