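import Mathlib.AlgebraicGeometry.Morphisms.LocalFlatDescent
import Mathlib.AlgebraicGeometry.Morphisms.UniversallyOpen
import Mathlib.AlgebraicGeometry.Morphisms.QuasiSeparated
import Mathlib.RingTheory.Smooth.NoetherianDescent
import Mathlib.RingTheory.Etale.Kaehler
import Mathlib.AlgebraicGeometry.Morphisms.FormallyUnramified
import Mathlib.AlgebraicGeometry.Morphisms.QuasiFinite

/-!
# Local finite type is étale-local on the source (helper79)

Main results (namespace `Groth.Agent.Lib.H79EtaleSource`):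

* `locallyOfFiniteType_of_isPullback_etale` : scheme-level core (descent along the open image of an
  étale map).
-/

set_option autoImplicit false

universe u

open CategoryTheory Limits AlgebraicGeometry MorphismProperty

namespace Groth.Agent.Lib.H79EtaleSource

/-- A pullback square over `Z` stays a pullback square over `W` when `W ⟶ Z` is mono. -/
theorem isPullback_of_comp_mono {C : Type*} [Category C] {P X Y W Z : C}
    {fst : P ⟶ X} {snd : P ⟶ Y} {f : X ⟶ W} {g : Y ⟶ W} (i : W ⟶ Z) [Mono i]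
    (h : IsPullback fst snd (f ≫ i) (g ≫ i)) : IsPullback fst snd f g := by
  have w : fst ≫ f = snd ≫ g := by
    rw [← cancel_mono i, Category.assoc, Category.assoc, h.w]
  refine ⟨⟨w⟩, ⟨PullbackCone.IsLimit.mk w
    (fun s => h.lift s.fst s.snd (by rw [← Category.assoc, s.condition, Category.assoc]))
    (fun s => h.lift_fst _ _ _) (fun s => h.lift_snd _ _ _)
    (fun s m h1 h2 => h.hom_ext (by rw [h1, h.lift_fst]) (by rw [h2, h.lift_snd]))⟩⟩

/-- Scheme-level core: if `X' = X ×_{X₀} U₀` with `U₀ ⟶ X₀` étale, `U₀` compact, `X₀` quasi-separated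
and locally of finite type over `Y`, `X' ⟶ X` surjective and `X' ⟶ Y` locally of finite type, then
`X ⟶ Y` is locally of finite type. -/
theorem locallyOfFiniteType_of_isPullback_etale
    {Y X₀ U₀ X X' : Scheme.{u}} (s₀ : X₀ ⟶ Y) (q₀ : U₀ ⟶ X₀) (a : X ⟶ X₀)
    (p₁ : X' ⟶ X) (p₂ : X' ⟶ U₀) (hpb : IsPullback p₁ p₂ a q₀)
    [LocallyOfFiniteType s₀] [Etale q₀] [Surjective p₁] [CompactSpace U₀] [QuasiSeparatedSpace X₀]
    [LocallyOfFiniteType (p₁ ≫ a ≫ s₀)] : LocallyOfFiniteType (a ≫ s₀) := by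
  have hopen : IsOpen (Set.range q₀) := q₀.isOpenMap.isOpen_range
  let W : X₀.Opens := ⟨Set.range q₀, hopen⟩
  have hqW : Set.range q₀ ⊆ Set.range W.ι := by
    rw [Scheme.Opens.range_ι]; exact subset_rfl
  let q : U₀ ⟶ W := IsOpenImmersion.lift W.ι q₀ hqW
  have hq : q ≫ W.ι = q₀ := IsOpenImmersion.lift_fac _ _ _
  have haW : Set.range a ⊆ Set.range W.ι := by
    rw [Scheme.Opens.range_ι]
    rintro _ ⟨x, rfl⟩
    obtain ⟨x', rfl⟩ := p₁.surjective x
    refine ⟨p₂ x', ?_⟩
    rw [← Scheme.Hom.comp_apply, ← Scheme.Hom.comp_apply, hpb.w]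
  let h : X ⟶ W := IsOpenImmersion.lift W.ι a haW
  have hh : h ≫ W.ι = a := IsOpenImmersion.lift_fac _ _ _
  have hpb' : IsPullback p₂ p₁ q h := by
    apply isPullback_of_comp_mono W.ι
    rw [hq, hh]
    exact hpb.flip
  have : Etale (q ≫ W.ι) := by rw [hq]; infer_instance
  have hqet : Etale q := Etale.of_comp q W.ι
  have hqsurj : Surjective q := by
    refine ⟨fun w => ?_⟩
    obtain ⟨u, hu⟩ : (W.ι w) ∈ Set.range q₀ := w.2
    refine ⟨u, ?_⟩
    apply W.ι.isOpenEmbedding.injective
    rw [← Scheme.Hom.comp_apply, hq, hu]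
  have : QuasiSeparatedSpace W := W.ι.isOpenEmbedding.quasiSeparatedSpace
  have hqqc : QuasiCompact q := inferInstance
  have hqflat : Flat q := inferInstance
  have : LocallyOfFiniteType (p₂ ≫ q₀ ≫ s₀) := by
    rw [← Category.assoc, ← hpb.w, Category.assoc]; infer_instance
  have hp₂ : LocallyOfFiniteType p₂ := locallyOfFiniteType_of_comp p₂ (q₀ ≫ s₀)
  have hh' : LocallyOfFiniteType h :=
    MorphismProperty.of_isPullback_of_descendsAlong (P := @LocallyOfFiniteType)
      (Q := @Surjective ⊓ @Flat ⊓ @QuasiCompact) hpb' ⟨⟨hqsurj, hqflat⟩, hqqc⟩ hp₂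
  rw [← hh, Category.assoc]
  infer_instance

open TensorProduct in
/-- Ring-level: if `A ⟶ B` is étale and surjective on spectra and `B` is of finite type over `R`,
then `A` is of finite type over `R`. -/
theorem finiteType_of_etale_of_surjective {R A B : Type u} [CommRing R] [CommRing A] [CommRing B]
    [Algebra R A] [Algebra A B] [Algebra R B] [IsScalarTower R A B] [Algebra.Etale A B]
    (hsurj : Function.Surjective (PrimeSpectrum.comap (algebraMap A B)))
    [Algebra.FiniteType R B] : Algebra.FiniteType R A := by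
  obtain ⟨A₀, B₀, _, _, hA₀, hB₀, ⟨e⟩⟩ := Algebra.Etale.exists_subalgebra_fg R A B
  let s₀ : Spec (.of A₀) ⟶ Spec (.of R) := Spec.map (CommRingCat.ofHom (algebraMap R A₀))
  let q₀ : Spec (.of B₀) ⟶ Spec (.of A₀) := Spec.map (CommRingCat.ofHom (algebraMap A₀ B₀))
  let a : Spec (.of A) ⟶ Spec (.of A₀) := Spec.map (CommRingCat.ofHom (algebraMap A₀ A))
  let p₁ : Spec (.of (A ⊗[A₀] B₀)) ⟶ Spec (.of A) :=
    Spec.map (CommRingCat.ofHom Algebra.TensorProduct.includeLeftRingHom)
  let p₂ : Spec (.of (A ⊗[A₀] B₀)) ⟶ Spec (.of B₀) :=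
    Spec.map (CommRingCat.ofHom Algebra.TensorProduct.includeRight.toRingHom)
  have hpb : IsPullback p₁ p₂ a q₀ :=
    isPullback_SpecMap_of_isPushout _ _ _ _ (CommRingCat.isPushout_tensorProduct A₀ A B₀)
  have hs₀ : LocallyOfFiniteType s₀ := by
    rw [HasRingHomProperty.Spec_iff (P := @LocallyOfFiniteType)]
    exact RingHom.finiteType_algebraMap.mpr ((Subalgebra.fg_iff_finiteType A₀).mp hA₀)
  have hq₀ : Etale q₀ := by
    rw [HasRingHomProperty.Spec_iff (P := @Etale)]
    exact RingHom.etale_algebraMap.mpr hB₀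
  have hp₁ : Surjective p₁ := by
    refine ⟨fun x => ?_⟩
    obtain ⟨y, hy⟩ := hsurj x
    refine ⟨PrimeSpectrum.comap (e.symm : A ⊗[A₀] B₀ →+* B) y, ?_⟩
    rw [Spec.map_apply, ← hy]
    show PrimeSpectrum.comap _ (PrimeSpectrum.comap _ y) = _
    rw [← PrimeSpectrum.comap_comp_apply]
    congr 1
    ext r
    have hr : r ⊗ₜ[A₀] (1 : B₀) = algebraMap A (A ⊗[A₀] B₀) r := by
      simp [Algebra.TensorProduct.algebraMap_apply]
    show e.symm (r ⊗ₜ[A₀] (1 : B₀)) = algebraMap A B r
    rw [hr, e.symm.commutes]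
  have hcomp : LocallyOfFiniteType (p₁ ≫ a ≫ s₀) := by
    have e1 : p₁ ≫ a ≫ s₀ = Spec.map (CommRingCat.ofHom (algebraMap R (A ⊗[A₀] B₀))) := by
      simp only [p₁, a, s₀, ← Spec.map_comp, ← CommRingCat.ofHom_comp]
      congr 2
    rw [e1, HasRingHomProperty.Spec_iff (P := @LocallyOfFiniteType)]
    exact RingHom.finiteType_algebraMap.mpr
      (Algebra.FiniteType.equiv (inferInstance : Algebra.FiniteType R B) (e.restrictScalars R))
  have key := locallyOfFiniteType_of_isPullback_etale s₀ q₀ a p₁ p₂ hpb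
  have e2 : a ≫ s₀ = Spec.map (CommRingCat.ofHom (algebraMap R A)) := by
    simp only [a, s₀, ← Spec.map_comp, ← CommRingCat.ofHom_comp]
    congr 2
  rw [e2, HasRingHomProperty.Spec_iff (P := @LocallyOfFiniteType)] at key
  exact RingHom.finiteType_algebraMap.mp key

/-- Reduction to the affine case for "étale-local on the source" statements. -/
theorem of_etale_surjective_comp_of_affine (P : MorphismProperty Scheme.{u})
    [IsZariskiLocalAtSource P] [IsZariskiLocalAtTarget P] [P.RespectsRight @IsOpenImmersion]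
    (H : ∀ {X' X Y : Scheme.{u}} [IsAffine X'] [IsAffine X] [IsAffine Y] (f : X' ⟶ X) (g : X ⟶ Y)
      [Etale f] [Surjective f], P (f ≫ g) → P g)
    {X' X Y : Scheme.{u}} (f : X' ⟶ X) (g : X ⟶ Y) [Etale f] [Surjective f] (h : P (f ≫ g)) :
    P g := by
  rw [IsZariskiLocalAtSource.iff_exists_resLE (P := P)]
  intro x
  obtain ⟨x', rfl⟩ := f.surjective x
  obtain ⟨VY, hVY, hxVY, -⟩ := TopologicalSpace.Opens.isBasis_iff_nbhd.mp Y.isBasis_affineOpens
    (TopologicalSpace.Opens.mem_top (g (f x')))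
  obtain ⟨UX, hUX, hxUX, eUX⟩ := TopologicalSpace.Opens.isBasis_iff_nbhd.mp X.isBasis_affineOpens
    (show f x' ∈ g ⁻¹ᵁ VY from hxVY)
  obtain ⟨U', hU', hxU', eU'⟩ := TopologicalSpace.Opens.isBasis_iff_nbhd.mp X'.isBasis_affineOpens
    (show x' ∈ f ⁻¹ᵁ UX from hxUX)
  let fU' : X.Opens := ⟨f '' U', f.isOpenMap _ U'.isOpen⟩
  obtain ⟨r, hr1, hr2⟩ := IsAffineOpen.exists_basicOpen_le hUX (V := fU')
    ⟨f x', ⟨x', hxU', rfl⟩⟩ hxUX
  have hU₁ : IsAffineOpen (X'.basicOpen (f.appLE UX U' eU' r)) := hU'.basicOpen _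
  have hX₁ : IsAffineOpen (X.basicOpen r) := hUX.basicOpen r
  have hU₁eq : X'.basicOpen (f.appLE UX U' eU' r) = U' ⊓ f ⁻¹ᵁ (X.basicOpen r) :=
    Scheme.basicOpen_appLE f U' UX eU' r
  have e₁ : X'.basicOpen (f.appLE UX U' eU' r) ≤ f ⁻¹ᵁ (X.basicOpen r) := by
    rw [hU₁eq]; exact inf_le_right
  have e₂ : X.basicOpen r ≤ g ⁻¹ᵁ VY := (X.basicOpen_le r).trans eUX
  refine ⟨VY, X.basicOpen r, hr2, e₂, ?_⟩
  have : IsAffine (X'.basicOpen (f.appLE UX U' eU' r)) := hU₁
  have : IsAffine (X.basicOpen r) := hX₁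
  have : IsAffine VY := hVY
  have hsurj : Surjective (f.resLE (X.basicOpen r) (X'.basicOpen (f.appLE UX U' eU' r)) e₁) := by
    refine ⟨fun y => ?_⟩
    obtain ⟨u, hu, huy⟩ : y.1 ∈ f '' U' := hr1 y.2
    have hu₁ : u ∈ X'.basicOpen (f.appLE UX U' eU' r) := by
      rw [hU₁eq]
      refine ⟨hu, ?_⟩
      show f u ∈ X.basicOpen r
      rw [huy]; exact y.2
    refine ⟨⟨u, hu₁⟩, ?_⟩
    apply (X.basicOpen r).ι.isOpenEmbedding.injective
    rw [← Scheme.Hom.comp_apply, Scheme.Hom.resLE_comp_ι, Scheme.Hom.comp_apply]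
    exact huy
  apply H (f.resLE (X.basicOpen r) (X'.basicOpen (f.appLE UX U' eU' r)) e₁)
    (g.resLE VY (X.basicOpen r) e₂)
  rw [Scheme.Hom.resLE_comp_resLE]
  exact IsZariskiLocalAtSource.resLE _ h

/-- For affine schemes, surjectivity of `f` is surjectivity of `Spec` of global sections. -/
theorem surjective_comap_appTop {X' X : Scheme.{u}} [IsAffine X'] [IsAffine X] (f : X' ⟶ X)
    [Surjective f] : Function.Surjective (PrimeSpectrum.comap f.appTop.hom) := by
  have h : Surjective (Spec.map f.appTop) :=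
    (MorphismProperty.arrow_mk_iso_iff @Surjective (arrowIsoSpecΓOfIsAffine f)).mp ‹_›
  intro x
  obtain ⟨y, hy⟩ := h.surj x
  exact ⟨y, hy⟩

/-- **Local finite type is étale-local on the source**: if `f` is étale and surjective and `f ≫ g`
is locally of finite type, then so is `g`. -/
theorem locallyOfFiniteType_of_etale_surjective_comp {X' X Y : Scheme.{u}} (f : X' ⟶ X) (g : X ⟶ Y)
    [Etale f] [Surjective f] [LocallyOfFiniteType (f ≫ g)] : LocallyOfFiniteType g := by
  have : MorphismProperty.RespectsRight @LocallyOfFiniteType @IsOpenImmersion :=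
    ⟨fun i hi f hf => by
      have : IsOpenImmersion i := hi
      have : LocallyOfFiniteType f := hf
      exact (inferInstance : LocallyOfFiniteType (f ≫ i))⟩
  refine of_etale_surjective_comp_of_affine @LocallyOfFiniteType ?_ f g ‹_›
  intro X' X Y _ _ _ f g _ _ h
  rw [HasRingHomProperty.iff_of_isAffine (P := @LocallyOfFiniteType)] at h ⊢
  have het : f.appTop.hom.Etale := (HasRingHomProperty.iff_of_isAffine (P := @Etale)).mp ‹_›
  have hsurj := surjective_comap_appTop f
  let := g.appTop.hom.toAlgebra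
  let := f.appTop.hom.toAlgebra
  let := (f ≫ g).appTop.hom.toAlgebra
  have : IsScalarTower Γ(Y, ⊤) Γ(X, ⊤) Γ(X', ⊤) := IsScalarTower.of_algebraMap_eq' (by
    simp only [RingHom.algebraMap_toAlgebra, Scheme.Hom.comp_appTop, CommRingCat.hom_comp])
  have : Algebra.Etale Γ(X, ⊤) Γ(X', ⊤) := RingHom.etale_algebraMap.mp (by
    rw [RingHom.algebraMap_toAlgebra]; exact het)
  have : Algebra.FiniteType Γ(Y, ⊤) Γ(X', ⊤) := RingHom.finiteType_algebraMap.mp (by
    rw [RingHom.algebraMap_toAlgebra]; exact h)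
  have := finiteType_of_etale_of_surjective (R := Γ(Y, ⊤)) (A := Γ(X, ⊤)) (B := Γ(X', ⊤)) (by
    rw [RingHom.algebraMap_toAlgebra]; exact hsurj)
  have h2 := RingHom.finiteType_algebraMap.mpr this
  rwa [RingHom.algebraMap_toAlgebra] at h2

open TensorProduct in
/-- Ring-level: if `A ⟶ B` is étale and surjective on spectra and `B` is formally unramified over
`R`, then so is `A`. -/
theorem formallyUnramified_of_etale_of_surjective {R A B : Type u} [CommRing R] [CommRing A]
    [CommRing B] [Algebra R A] [Algebra A B] [Algebra R B] [IsScalarTower R A B] [Algebra.Etale A B]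
    (hsurj : Function.Surjective (PrimeSpectrum.comap (algebraMap A B)))
    [Algebra.FormallyUnramified R B] : Algebra.FormallyUnramified R A := by
  have : Module.FaithfullyFlat A B := Module.FaithfullyFlat.of_comap_surjective hsurj
  have e := KaehlerDifferential.tensorKaehlerEquivOfFormallyEtale R A B
  have : Subsingleton (B ⊗[A] Ω[A⁄R]) := e.toEquiv.injective.subsingleton
  constructor
  exact Module.FaithfullyFlat.lTensor_reflects_triviality A B _

/-- **Formally unramified is étale-local on the source**. -/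
theorem formallyUnramified_of_etale_surjective_comp {X' X Y : Scheme.{u}} (f : X' ⟶ X) (g : X ⟶ Y)
    [Etale f] [Surjective f] [FormallyUnramified (f ≫ g)] : FormallyUnramified g := by
  have : MorphismProperty.RespectsRight @FormallyUnramified @IsOpenImmersion :=
    ⟨fun i hi f hf => by
      have : IsOpenImmersion i := hi
      have : FormallyUnramified i := inferInstance
      exact MorphismProperty.comp_mem @FormallyUnramified f i hf this⟩
  refine of_etale_surjective_comp_of_affine @FormallyUnramified ?_ f g ‹_›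
  intro X' X Y _ _ _ f g _ _ h
  rw [HasRingHomProperty.iff_of_isAffine (P := @FormallyUnramified)] at h ⊢
  have het : f.appTop.hom.Etale := (HasRingHomProperty.iff_of_isAffine (P := @Etale)).mp ‹_›
  have hsurj := surjective_comap_appTop f
  let _ := g.appTop.hom.toAlgebra
  let _ := f.appTop.hom.toAlgebra
  let _ := (f ≫ g).appTop.hom.toAlgebra
  have : IsScalarTower Γ(Y, ⊤) Γ(X, ⊤) Γ(X', ⊤) := IsScalarTower.of_algebraMap_eq' (by
    simp only [RingHom.algebraMap_toAlgebra, Scheme.Hom.comp_appTop, CommRingCat.hom_comp])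
  have : Algebra.Etale Γ(X, ⊤) Γ(X', ⊤) := RingHom.etale_algebraMap.mp (by
    rw [RingHom.algebraMap_toAlgebra]; exact het)
  have : Algebra.FormallyUnramified Γ(Y, ⊤) Γ(X', ⊤) := RingHom.formallyUnramified_algebraMap.mp (by
    rw [RingHom.algebraMap_toAlgebra]; exact h)
  have := formallyUnramified_of_etale_of_surjective (R := Γ(Y, ⊤)) (A := Γ(X, ⊤)) (B := Γ(X', ⊤)) (by
    rw [RingHom.algebraMap_toAlgebra]; exact hsurj)
  have h2 := RingHom.formallyUnramified_algebraMap.mpr this
  rwa [RingHom.algebraMap_toAlgebra] at h2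

/-- Discreteness descends along open surjections. -/
theorem isDiscrete_of_preimage {α β : Type*} [TopologicalSpace α] [TopologicalSpace β] (f : α → β)
    (hf : IsOpenMap f) (hsurj : Function.Surjective f) (S : Set β) (h : IsDiscrete (f ⁻¹' S)) :
    IsDiscrete S := by
  rw [isDiscrete_iff_forall_mem_exists_isOpen] at h ⊢
  intro x hx
  obtain ⟨x', rfl⟩ := hsurj x
  obtain ⟨u, hu, hus⟩ := h x' hx
  refine ⟨f '' u, hf u hu, ?_⟩
  ext z
  constructor
  · rintro ⟨⟨w, hw, rfl⟩, hz⟩
    have : w ∈ u ∩ f ⁻¹' S := ⟨hw, hz⟩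
    rw [hus] at this
    rw [Set.mem_singleton_iff] at this ⊢
    rw [this]
  · rintro rfl
    have : x' ∈ u ∩ f ⁻¹' S := by rw [hus]; rfl
    exact ⟨⟨x', this.1, rfl⟩, hx⟩

/-- **Locally quasi-finite (+ locally of finite type) is étale-local on the source**. -/
theorem locallyQuasiFinite_of_etale_surjective_comp {X' X Y : Scheme.{u}} (f : X' ⟶ X) (g : X ⟶ Y)
    [Etale f] [Surjective f] [LocallyQuasiFinite (f ≫ g)] [LocallyOfFiniteType (f ≫ g)] :
    LocallyQuasiFinite g ∧ LocallyOfFiniteType g := by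
  have hg : LocallyOfFiniteType g := locallyOfFiniteType_of_etale_surjective_comp f g
  refine ⟨?_, hg⟩
  rw [locallyQuasiFinite_iff_isDiscrete_preimage_singleton]
  intro y
  apply isDiscrete_of_preimage f f.isOpenMap f.surjective
  have := (f ≫ g).isDiscrete_preimage_singleton y
  convert this using 1
  ext z
  simp only [Set.mem_preimage, Set.mem_singleton_iff, Scheme.Hom.comp_apply]

end Groth.Agent.Lib.H79EtaleSource
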