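import Groth.Agent.Lib.H30FibBC
import Groth.Agent.Lib.H56FlatLocal
import Groth.Agent.Lib.AlgSpDim91
import Groth.Agent.S1481
import Mathlib

/-!
# helper79: local rings of fibres and base change (Stacks 02FY, scheme level)

For a cartesian square `X' = X ×_S S'` with `f : X ⟶ S` locally of finite type:

* `stalk_fiber_le_of_isPullback`: `dim 𝒪_{X_s, x} ≤ dim 𝒪_{X'_{s'}, x'}`;
* `exists_stalk_fiber_eq_of_isPullback`: for `x`, `s'` over the same point of `S` there is `x'`
  over both with `dim 𝒪_{X'_{s'}, x'} = dim 𝒪_{X_s, x}`;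
* general tools: `maximalIdeal_le_radical_of_maximal`, `stalk_dim_eq_of_flat_of_maximal`,
  `exists_maximal_in_fibre`, `stalk_fiber_congr`.
-/

set_option autoImplicit false
universe u
open CategoryTheory CategoryTheory.Limits AlgebraicGeometry IsLocalRing

namespace Groth.Agent.Lib.H79FibStalkBC

variable {X Y : Scheme.{u}}

/-- transport of the local ring of the fibre along an equality of base points. -/
theorem stalk_fiber_congr (f : X ⟶ Y) (x : X) (y : Y) (hy : f x = y) (z : f.fiber y)
    (hz : f.fiberι y z = x) :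
    ringKrullDim ((f.fiber y).presheaf.stalk z) =
      ringKrullDim ((f.fiber (f x)).presheaf.stalk (f.asFiber x)) := by
  subst hy
  obtain rfl : z = f.asFiber x :=
    (f.fiberι _).isEmbedding.injective (by rw [hz, Scheme.Hom.fiberι_asFiber])
  rfl

/-- if `x` has no proper generization in its fibre, `𝔪_x` is the radical of `𝔪_{f x} 𝒪_{X,x}`. -/
theorem maximalIdeal_le_radical_of_maximal (f : X ⟶ Y) (x : X)
    (hmax : ∀ x' : X, f x' = f x → x' ⤳ x → x' = x) :
    maximalIdeal (X.presheaf.stalk x) ≤
      (Ideal.map (f.stalkMap x).hom (maximalIdeal (Y.presheaf.stalk (f x)))).radical := by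
  rw [Ideal.radical_eq_sInf]
  refine le_sInf ?_
  rintro q ⟨hq, hqprime⟩
  let qq : PrimeSpectrum (X.presheaf.stalk x) := ⟨q, hqprime⟩
  have h1 : X.fromSpecStalk x qq ⤳ x := by
    have : X.fromSpecStalk x qq ∈ Set.range (X.fromSpecStalk x) := ⟨qq, rfl⟩
    rw [Scheme.range_fromSpecStalk] at this
    exact this
  have hcomap : Spec.map (f.stalkMap x) qq = closedPoint (Y.presheaf.stalk (f x)) := by
    apply PrimeSpectrum.ext
    apply le_antisymm
    · exact IsLocalRing.le_maximalIdeal (Ideal.IsPrime.ne_top (Spec.map (f.stalkMap x) qq).2)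
    · intro a ha
      show (f.stalkMap x).hom a ∈ q
      exact hq (Ideal.mem_map_of_mem _ ha)
  have h2 : f (X.fromSpecStalk x qq) = f x := by
    have := congrArg (fun φ : Spec (X.presheaf.stalk x) ⟶ Y => φ qq)
      (Scheme.SpecMap_stalkMap_fromSpecStalk (f := f) (x := x))
    simp only [Scheme.Hom.comp_apply] at this
    rw [← this, hcomap, Scheme.fromSpecStalk_closedPoint]
  have h3 := hmax _ h2 h1
  have h4 : qq = closedPoint (X.presheaf.stalk x) := by
    apply (X.fromSpecStalk x).isEmbedding.injective
    rw [h3, Scheme.fromSpecStalk_closedPoint]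
  have h5 : q = maximalIdeal (X.presheaf.stalk x) := congrArg PrimeSpectrum.asIdeal h4
  exact h5.ge

/-- flat at `x` + no proper generization in the fibre ⇒ equal local dimensions. -/
theorem stalk_dim_eq_of_flat_of_maximal [IsLocallyNoetherian X] [IsLocallyNoetherian Y]
    (f : X ⟶ Y) (x : X) (hflat : (f.stalkMap x).hom.Flat)
    (hmax : ∀ x' : X, f x' = f x → x' ⤳ x → x' = x) :
    ringKrullDim (X.presheaf.stalk x) = ringKrullDim (Y.presheaf.stalk (f x)) := by
  letI := (f.stalkMap x).hom.toAlgebra
  haveI : Module.Flat (Y.presheaf.stalk (f x)) (X.presheaf.stalk x) := hflat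
  haveI : IsLocalHom (algebraMap (Y.presheaf.stalk (f x)) (X.presheaf.stalk x)) :=
    inferInstanceAs (IsLocalHom (f.stalkMap x).hom)
  exact Groth.Agent.Lib.H56FlatLocal.ringKrullDim_eq_of_flat_of_primary
    (maximalIdeal_le_radical_of_maximal f x hmax)

/-- every point of a scheme has a generization without proper generizations. -/
theorem exists_maximal_generization (Z : Scheme.{u}) (z : Z) :
    ∃ ξ : Z, ξ ⤳ z ∧ ∀ w : Z, w ⤳ ξ → w = ξ := by
  have hirr : IsIrreducible (irreducibleComponent z) := isIrreducible_irreducibleComponent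
  have hcl : IsClosed (irreducibleComponent z) := isClosed_irreducibleComponent
  obtain ⟨ξ, hξ⟩ := QuasiSober.sober hirr hcl
  refine ⟨ξ, hξ.specializes mem_irreducibleComponent, fun w hw => ?_⟩
  exact Groth.Agent.S1481.eq_of_specializes_of_isGenericPoint
    (irreducibleComponent_mem_irreducibleComponents z) hξ hw

/-- every nonempty fibre contains a point without proper generizations inside the fibre. -/
theorem exists_maximal_in_fibre (f : X ⟶ Y) (x : X) :
    ∃ x0 : X, f x0 = f x ∧ ∀ x' : X, f x' = f x0 → x' ⤳ x0 → x' = x0 := by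
  obtain ⟨ξ, -, hξ⟩ := exists_maximal_generization (f.fiber (f x)) (f.asFiber x)
  have hmem : ∀ w : f.fiber (f x), f (f.fiberι (f x) w) = f x := by
    intro w
    have : f.fiberι (f x) w ∈ Set.range (f.fiberι (f x)) := ⟨w, rfl⟩
    rw [f.range_fiberι (f x)] at this
    exact this
  refine ⟨f.fiberι (f x) ξ, hmem ξ, fun x' hx' hsp => ?_⟩
  have hx'mem : x' ∈ Set.range (f.fiberι (f x)) := by
    rw [f.range_fiberι (f x)]
    exact hx'.trans (hmem ξ)
  obtain ⟨w, rfl⟩ := hx'mem
  have hw : w ⤳ ξ := (f.fiberι (f x)).isEmbedding.isInducing.specializes_iff.1 hsp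
  rw [hξ w hw]

section BaseChange

variable {X S X' S' : Scheme.{u}}

theorem isLocallyNoetherian_fiber (f : X ⟶ S) [LocallyOfFiniteType f] (s : S) :
    IsLocallyNoetherian (f.fiber s) := by
  haveI : LocallyOfFiniteType (f.fiberToSpecResidueField s) :=
    MorphismProperty.pullback_snd _ _ inferInstance
  exact LocallyOfFiniteType.isLocallyNoetherian (f.fiberToSpecResidueField s)

set_option backward.isDefEq.respectTransparency.types false in
/-- **Stacks 02FY (scheme level), inequality**: the local ring of the fibre can only grow in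
dimension under base change. -/
theorem stalk_fiber_le_of_isPullback (f : X ⟶ S) [LocallyOfFiniteType f]
    (g : S' ⟶ S) (g' : X' ⟶ X) (f' : X' ⟶ S') (hsq : IsPullback g' f' f g) (x' : X') :
    ringKrullDim ((f.fiber (f (g' x'))).presheaf.stalk (f.asFiber (g' x'))) ≤
      ringKrullDim ((f'.fiber (f' x')).presheaf.stalk (f'.asFiber x')) := by
  have hP := isPullback_fiberToSpecResidueField_of_isPullback hsq (f' x')
  set π : f'.fiber (f' x') ⟶ f.fiber (g (f' x')) :=
    pullback.map f' (S'.fromSpecResidueField (f' x')) f (S.fromSpecResidueField (g (f' x')))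
      g' (Spec.map (g.residueFieldMap (f' x'))) g hsq.w.symm (by simp) with hπ
  haveI : Flat π := MorphismProperty.of_isPullback hP.flip inferInstance
  have hy : f (g' x') = g (f' x') := by
    have := congrArg (fun φ : X' ⟶ S => φ x') hsq.w
    exact this
  have h2 : π ≫ f.fiberι (g (f' x')) = f'.fiberι (f' x') ≫ g' := pullback.lift_fst _ _ _
  have h3 := congrArg (fun φ : f'.fiber (f' x') ⟶ X => φ (f'.asFiber x')) h2
  simp only [Scheme.Hom.comp_apply] at h3
  rw [f'.fiberι_asFiber] at h3
  rw [← stalk_fiber_congr f (g' x') (g (f' x')) hy (π (f'.asFiber x')) h3]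
  exact Groth.Agent.Lib.AlgSpDim91.ringKrullDim_stalk_le_of_flat π (f'.asFiber x')

set_option backward.isDefEq.respectTransparency.types false in
/-- **Stacks 02FY (scheme level), existence**: over `x` and `s'` there is a point `x'` of the base
change at which the local ring of the fibre has the same dimension as at `x`. -/
theorem exists_stalk_fiber_eq_of_isPullback (f : X ⟶ S) [LocallyOfFiniteType f]
    (g : S' ⟶ S) (g' : X' ⟶ X) (f' : X' ⟶ S') (hsq : IsPullback g' f' f g) (x : X) (s' : S')
    (hx : f x = g s') :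
    ∃ x' : X', g' x' = x ∧ f' x' = s' ∧
      ringKrullDim ((f'.fiber (f' x')).presheaf.stalk (f'.asFiber x')) =
        ringKrullDim ((f.fiber (f x)).presheaf.stalk (f.asFiber x)) := by
  haveI : LocallyOfFiniteType f' := MorphismProperty.of_isPullback hsq inferInstance
  have hP := isPullback_fiberToSpecResidueField_of_isPullback hsq s'
  set π : f'.fiber s' ⟶ f.fiber (g s') :=
    pullback.map f' (S'.fromSpecResidueField s') f (S.fromSpecResidueField (g s'))
      g' (Spec.map (g.residueFieldMap s')) g hsq.w.symm (by simp) with hπ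
  haveI : Flat π := MorphismProperty.of_isPullback hP.flip inferInstance
  haveI : Surjective (Spec.map (g.residueFieldMap s')) :=
    ⟨fun y => ⟨default, Subsingleton.elim (α := PrimeSpectrum _) _ _⟩⟩
  haveI : Surjective π := MorphismProperty.of_isPullback hP.flip inferInstance
  haveI := isLocallyNoetherian_fiber f (g s')
  haveI := isLocallyNoetherian_fiber f' s'
  have h2 : π ≫ f.fiberι (g s') = f'.fiberι s' ≫ g' := pullback.lift_fst _ _ _
  obtain ⟨z, hz⟩ : x ∈ Set.range (f.fiberι (g s')) := by
    rw [f.range_fiberι (g s')]; exact hx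
  obtain ⟨z0, hz0⟩ := π.surjective z
  obtain ⟨z', hz'1, hz'max⟩ := exists_maximal_in_fibre π z0
  rw [hz0] at hz'1
  have hf' : f' (f'.fiberι s' z') = s' := by
    have : f'.fiberι s' z' ∈ Set.range (f'.fiberι s') := ⟨z', rfl⟩
    rw [f'.range_fiberι s'] at this
    exact this
  have hg' : g' (f'.fiberι s' z') = x := by
    have h3 := congrArg (fun φ : f'.fiber s' ⟶ X => φ z') h2
    simp only [Scheme.Hom.comp_apply] at h3
    rw [← h3, hz'1, hz]
  refine ⟨f'.fiberι s' z', hg', hf', ?_⟩
  rw [← stalk_fiber_congr f' (f'.fiberι s' z') s' hf' z' rfl,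
    ← stalk_fiber_congr f x (g s') hx z hz,
    stalk_dim_eq_of_flat_of_maximal π z' (Flat.stalkMap π z') hz'max]
  rw [hz'1]

end BaseChange

end Groth.Agent.Lib.H79FibStalkBC
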