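import Groth.Agent.Lib.H79FibStalkBC
import Groth.Agent.Lib.H72FlatBaseChange2
import Groth.Agent.Lib.H56ValFib
import Groth.Agent.Lib.ValSpecialize
import Mathlib

/-!
# helper79: flatness at a point and the local fibre dimension, without finite presentation

For `f : X ⟶ S` locally of finite type (no finite presentation, no Noetherian hypothesis), flat at
the point `x`, and a generization `η` of `f x`:

* `exists_generization_of_flat_at`: pointwise going-down: a maximal generization of `x` lies over a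
  maximal generization ... (see statement);
* `exists_generization_fibreDimAt_eq_of_flat`: there is a generization `ξ` of `x` over `η` with
  `dim_ξ X_η = dim_x X_{f x}`.

The proof base-changes to a valuation ring through `η ⤳ f x` and uses helper56's
`tdeg_le_of_specializes_Spec`.
-/

set_option autoImplicit false
universe u
open CategoryTheory CategoryTheory.Limits AlgebraicGeometry IsLocalRing

namespace Groth.Agent.Lib.H79FlatGenFibDim

open Groth.Agent.Lib.H56OpenDim Groth.Agent.Lib.H56ValTrdeg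

variable {X S : Scheme.{u}}

/-- **Pointwise going-down**: if `f` is flat at `x`, `ζ ⤳ x` and `t ⤳ f ζ`, there is `ζ' ⤳ ζ`
with `f ζ' = t`. -/
theorem exists_generization_of_flat_at (f : X ⟶ S) (x : X) (hflat : (f.stalkMap x).hom.Flat)
    (ζ : X) (hζ : ζ ⤳ x) (t : S) (ht : t ⤳ f ζ) : ∃ ζ' : X, ζ' ⤳ ζ ∧ f ζ' = t := by
  have hgen := RingHom.Flat.generalizingMap_comap hflat
  have hcomm := Scheme.SpecMap_stalkMap_fromSpecStalk (f := f) (x := x)
  obtain ⟨q, hq⟩ : ζ ∈ Set.range (X.fromSpecStalk x) := by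
    rw [Scheme.range_fromSpecStalk]; exact hζ
  have htx : t ⤳ f x := ht.trans (hζ.map f.continuous)
  obtain ⟨t0, ht0⟩ : t ∈ Set.range (S.fromSpecStalk (f x)) := by
    rw [Scheme.range_fromSpecStalk]; exact htx
  have himg : S.fromSpecStalk (f x) (Spec.map (f.stalkMap x) q) = f ζ := by
    have := congrArg (fun φ : Spec (X.presheaf.stalk x) ⟶ S => φ q) hcomm
    simp only [Scheme.Hom.comp_apply] at this
    rw [this, hq]
  have hsp : t0 ⤳ Spec.map (f.stalkMap x) q := by
    rw [← (S.fromSpecStalk (f x)).isEmbedding.isInducing.specializes_iff, ht0, himg]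
    exact ht
  obtain ⟨q', hq'1, hq'2⟩ := hgen (a := q) (b := t0) hsp
  refine ⟨X.fromSpecStalk x q', ?_, ?_⟩
  · rw [← hq]
    exact hq'1.map (X.fromSpecStalk x).continuous
  · have := congrArg (fun φ : Spec (X.presheaf.stalk x) ⟶ S => φ q') hcomm
    simp only [Scheme.Hom.comp_apply] at this
    rw [← this, ← ht0]
    exact congrArg _ hq'2

/-- a maximal generization of a flat point lies over a maximal generization of its image. -/
theorem map_eq_of_maximal_of_flat_at (f : X ⟶ S) (x : X) (hflat : (f.stalkMap x).hom.Flat)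
    (ζ : X) (hζ : ζ ⤳ x) (hmax : ∀ w : X, w ⤳ ζ → w = ζ) (t : S) (ht : t ⤳ f ζ) : f ζ = t := by
  obtain ⟨ζ', h1, h2⟩ := exists_generization_of_flat_at f x hflat ζ hζ t ht
  rw [← h2, hmax ζ' h1]

set_option backward.isDefEq.respectTransparency.types false in
/-- **Flatness at a point and generic fibre dimension** (no finite presentation): if `f` is
locally of finite type and flat at `x`, and `η ⤳ f x`, there is a generization `ξ` of `x` over `η`
with the same local fibre dimension. -/
theorem exists_generization_fibreDimAt_eq_of_flat (f : X ⟶ S) [LocallyOfFiniteType f] (x : X)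
    (hflat : (f.stalkMap x).hom.Flat) (η : S) (hη : η ⤳ f x) :
    ∃ ξ : X, ξ ⤳ x ∧ f ξ = η ∧ FlatMor.fibreDimAt f ξ = FlatMor.fibreDimAt f x := by
  obtain ⟨A, l, hl1, hl2⟩ := Groth.Agent.Lib.ValSpecialize.exists_valuationSubring_of_specializes' hη
  have hsq : IsPullback (pullback.fst f l) (pullback.snd f l) f l := IsPullback.of_hasPullback f l
  set g' := pullback.fst f l with hg'
  set f' := pullback.snd f l with hf'
  haveI : LocallyOfFiniteType f' := MorphismProperty.pullback_snd _ _ inferInstance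
  obtain ⟨x', hx'1, hx'2⟩ := Scheme.Pullback.exists_preimage_pullback (f := f) (g := l) x
    (closedPoint A) hl1.symm
  have hfl' : (f'.stalkMap x').hom.Flat :=
    Groth.Agent.Lib.H72FlatBaseChange.flat_stalkMap_of_isPullback hsq.flip x'
      (by rw [hx'1]; exact hflat)
  have e1 : FlatMor.fibreDimAt f' x' = FlatMor.fibreDimAt f (g' x') :=
    Groth.Agent.Lib.H30FibBC.fibreDimAt_eq_of_isPullback f l g' f' hsq x'
  obtain ⟨w, hwx', hfw, hwmax, hw⟩ := exists_maxInFibre_fibreDimAt_eq f' x'
  obtain ⟨ζ, hζw, hζmax⟩ := Groth.Agent.Lib.H79FibStalkBC.exists_maximal_generization _ w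
  have hζx' : ζ ⤳ x' := hζw.trans hwx'
  have hbot : f' ζ = (⟨⊥, Ideal.isPrime_bot⟩ : PrimeSpectrum A) :=
    map_eq_of_maximal_of_flat_at f' x' hfl' ζ hζx' hζmax _
      (Groth.Agent.Lib.ValSpecialize.bot_specializes _)
  have h2 : tdeg f' w ≤ tdeg f' ζ := tdeg_le_of_specializes_Spec A f' w ζ hζw
  have h3 : (tdeg f' ζ : WithBot ℕ∞) ≤ FlatMor.fibreDimAt f' ζ := tdeg_le_fibreDimAt f' ζ
  have e2 : FlatMor.fibreDimAt f' ζ = FlatMor.fibreDimAt f (g' ζ) :=
    Groth.Agent.Lib.H30FibBC.fibreDimAt_eq_of_isPullback f l g' f' hsq ζ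
  have hξx : g' ζ ⤳ x := by
    rw [← hx'1]
    exact hζx'.map g'.continuous
  have hfξ : f (g' ζ) = η := by
    have := congrArg (fun φ : pullback f l ⟶ S => φ ζ) hsq.w
    simp only [Scheme.Hom.comp_apply] at this
    rw [this, hbot, hl2]
  refine ⟨g' ζ, hξx, hfξ, le_antisymm (fibreDimAt_le_of_specializes f _ _ hξx) ?_⟩
  rw [← hx'1, ← e1, hw, ← e2]
  exact le_trans (by exact_mod_cast h2) h3

end Groth.Agent.Lib.H79FlatGenFibDim
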