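import Groth.Agent.Lib.QCohStalk
import Groth.Agent.Lib.CohFinite
import Groth.Agent.Lib.H72FlatBaseChange
import Groth.Agent.Lib.H79FlatGenFibDim
import Groth.Agent.Lib.SupportPullback
import Groth.Agent.Lib.SupportTensor
import Groth.Agent.Lib.H72PullbackQCoh
import Mathlib

/-!
# helper79: flat modules and the support in fibres

* `under_eq_bot_of_mem_minimalPrimes_annihilator`: a minimal prime of the support of a module
  which is flat over a domain `A` contracts to `0` in `A`;
* `map_eq_bot_of_maximal_support`: for `f' : X' ⟶ Spec V` (`V` a domain) and `F'` quasi-coherent of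
  finite type, flat over `V` at a maximal point `ζ` of its support: `f' ζ` is the generic point;
* `exists_fibreDimAt_le_of_flat`: `F` quasi-coherent of finite type, flat over `S`, with support the
  image of a closed immersion `i : Z ⟶ X`; for `z : Z` and `η ⤳ f (i z)` there is `ξ : Z` over `η`
  with `dim_z Z_{f z} ≤ dim_ξ Z_η` (no finite presentation, no Noetherian hypothesis).
-/

set_option autoImplicit false
set_option linter.style.haveILetI false
universe u
open CategoryTheory CategoryTheory.Limits AlgebraicGeometry TopologicalSpace IsLocalRing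
open Groth.Agent.Lib.QCohStalk

namespace Groth.Agent.Lib.H79FlatSuppDim

theorem under_eq_bot_of_mem_minimalPrimes_annihilator {A B N : Type*} [CommRing A] [IsDomain A]
    [CommRing B] [Algebra A B] [AddCommGroup N] [Module A N] [Module B N] [IsScalarTower A B N]
    [Module.Flat A N] (q : Ideal B) (hq : q ∈ (Module.annihilator B N).minimalPrimes) :
    q.under A = ⊥ := by
  rw [eq_bot_iff]
  intro a ha
  rw [Ideal.mem_bot]
  by_contra hne
  have hreg : IsSMulRegular N a :=
    Module.Flat.isSMulRegular_of_nonZeroDivisors (mem_nonZeroDivisors_of_ne_zero hne)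
  have hreg' : IsSMulRegular N (algebraMap A B a) := by
    intro x y hxy
    apply hreg
    simpa [algebraMap_smul] using hxy
  exact hreg'.notMem_of_mem_minimalPrimes hq ha

theorem map_eq_bot_of_maximal_support {V : Type u} [CommRing V] [IsDomain V] {X' : Scheme.{u}}
    (f' : X' ⟶ Spec (CommRingCat.of V)) (F' : X'.Modules) [F'.IsQuasicoherent] [F'.IsFiniteType]
    (ζ : X') (hζ : ζ ∈ CohB1.support F') (hmax : ∀ w ∈ CohB1.support F', w ⤳ ζ → w = ζ)
    (hfl : FlatMod.IsFlatOverAt f' F' ζ) :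
    f' ζ = (⟨⊥, Ideal.isPrime_bot⟩ : PrimeSpectrum V) := by
  obtain ⟨_, ⟨U, hU, rfl⟩, hζU, -⟩ :=
    X'.isBasis_affineOpens.exists_subset_of_mem_open (Set.mem_univ ζ) isOpen_univ
  have hV : IsAffineOpen (⊤ : (Spec (CommRingCat.of V)).Opens) := isAffineOpen_top _
  have hUV : U ≤ f' ⁻¹ᵁ ⊤ := fun _ _ => trivial
  rw [Groth.Agent.Lib.H72FlatBaseChange.isFlatOverAt_iff_flat_sections f' F' hUV hV ζ hζU] at hfl
  letI modA : Module Γ(Spec (CommRingCat.of V), ⊤) (F'.presheaf.stalk ζ) :=
    Module.compHom _ ((X'.presheaf.germ U ζ hζU).hom.comp (f'.appLE ⊤ U hUV).hom)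
  letI modB : Module Γ(X', U) (F'.presheaf.stalk ζ) := moduleSectionStalk F' ⟨ζ, hζU⟩
  letI algAB : Algebra Γ(Spec (CommRingCat.of V), ⊤) Γ(X', U) :=
    (f'.appLE ⊤ U hUV).hom.toAlgebra
  haveI : IsScalarTower Γ(Spec (CommRingCat.of V), ⊤) Γ(X', U) (F'.presheaf.stalk ζ) :=
    .of_algebraMap_smul fun _ _ => rfl
  haveI : Module.Flat Γ(Spec (CommRingCat.of V), ⊤) (F'.presheaf.stalk ζ) := hfl
  let e : V ≃+* Γ(Spec (CommRingCat.of V), ⊤) :=
    (Scheme.ΓSpecIso (CommRingCat.of V)).symm.commRingCatIsoToRingEquiv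
  haveI hdom : IsDomain Γ(Spec (CommRingCat.of V), ⊤) := MulEquiv.isDomain V e.symm.toMulEquiv
  set q := hU.primeIdealOf ⟨ζ, hζU⟩ with hq
  haveI : IsOpenImmersion hU.fromSpec := hU.isOpenImmersion_fromSpec
  have hloc := isLocalizedModule_germ F' hU ⟨ζ, hζU⟩
  have hfin : Module.Finite Γ(X', U) Γ(F', U) :=
    Groth.Agent.Lib.CohFinite.finite_sections_of_isAffineOpen F' hU
  -- the annihilator of the sections kills the stalk
  have hann : Module.annihilator Γ(X', U) Γ(F', U) ≤
      Module.annihilator Γ(X', U) (F'.presheaf.stalk ζ) := by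
    intro s hs
    rw [Module.mem_annihilator] at hs ⊢
    intro n
    obtain ⟨⟨m, t⟩, hmt⟩ := hloc.surj n
    have h1 : t • (s • n) = 0 := by
      rw [smul_comm, hmt]
      change s • (germLinear F' ⟨ζ, hζU⟩ m) = 0
      rw [← map_smul, hs m, map_zero]
    have hu := hloc.map_units t
    rw [Module.End.isUnit_iff] at hu
    apply hu.1
    change t • (s • n) = t • (0 : F'.presheaf.stalk ζ)
    rw [h1, smul_zero]
  have hmin : q.asIdeal ∈
      (Module.annihilator Γ(X', U) (F'.presheaf.stalk ζ)).minimalPrimes := by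
    refine ⟨⟨q.isPrime, ?_⟩, ?_⟩
    · intro b hb
      by_contra hbq
      have hu := hloc.map_units ⟨b, hbq⟩
      rw [Module.End.isUnit_iff] at hu
      apply hζ
      refine ⟨fun x y => hu.1 ?_⟩
      rw [Module.mem_annihilator] at hb
      change b • x = b • y
      rw [hb x, hb y]
    · rintro p ⟨hp, hle⟩ hpq
      -- the point of `U` attached to `p`
      have hw1 : hU.fromSpec ⟨p, hp⟩ ⤳ ζ := by
        have h1 : (⟨p, hp⟩ : PrimeSpectrum Γ(X', U)) ⤳ q :=
          (PrimeSpectrum.le_iff_specializes _ _).1 hpq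
        have h2 := h1.map hU.fromSpec.continuous
        rwa [hq, hU.fromSpec_primeIdealOf] at h2
      have hwU : hU.fromSpec ⟨p, hp⟩ ∈ U := by
        have : hU.fromSpec ⟨p, hp⟩ ∈ Set.range hU.fromSpec := ⟨_, rfl⟩
        rwa [hU.range_fromSpec] at this
      have hw2 : hU.fromSpec ⟨p, hp⟩ ∈ CohB1.support F' := by
        intro hsub
        have hloc' := isLocalizedModule_germ F' hU ⟨hU.fromSpec ⟨p, hp⟩, hwU⟩
        have hpe : hU.primeIdealOf ⟨hU.fromSpec ⟨p, hp⟩, hwU⟩ = ⟨p, hp⟩ := by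
          apply hU.fromSpec.isOpenEmbedding.injective
          rw [hU.fromSpec_primeIdealOf]
        rw [hpe] at hloc'
        letI := moduleSectionStalk F' ⟨hU.fromSpec ⟨p, hp⟩, hwU⟩
        have hnot : (⟨p, hp⟩ : PrimeSpectrum Γ(X', U)) ∉ Module.support Γ(X', U) Γ(F', U) := by
          rw [Module.notMem_support_iff]
          exact (IsLocalizedModule.iso p.primeCompl
            (germLinear F' ⟨hU.fromSpec ⟨p, hp⟩, hwU⟩)).toEquiv.subsingleton
        rw [Module.mem_support_iff_of_finite] at hnot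
        exact hnot (hann.trans hle)
      have := hmax _ hw2 hw1
      have hpq' : (⟨p, hp⟩ : PrimeSpectrum Γ(X', U)) = q := by
        apply hU.fromSpec.isOpenEmbedding.injective
        rw [this, hq, hU.fromSpec_primeIdealOf]
      rw [← hpq']
  have hbot := under_eq_bot_of_mem_minimalPrimes_annihilator
    (A := Γ(Spec (CommRingCat.of V), ⊤)) q.asIdeal hmin
  have hcomm := IsAffineOpen.SpecMap_appLE_fromSpec f' hV hU hUV
  let q' : ↥(Spec Γ(X', U)) := q
  let b0 : ↥(Spec Γ(Spec (CommRingCat.of V), ⊤)) :=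
    (⟨⊥, Ideal.isPrime_bot⟩ : PrimeSpectrum Γ(Spec (CommRingCat.of V), ⊤))
  have h1 : f' ζ = hV.fromSpec (Spec.map (f'.appLE ⊤ U hUV) q') := by
    have h2 := congrArg (fun g : Spec Γ(X', U) ⟶ Spec (CommRingCat.of V) => g.base q') hcomm
    simp only [Scheme.Hom.comp_base, TopCat.comp_app] at h2
    refine Eq.trans ?_ h2.symm
    change f' ζ = f' (hU.fromSpec (hU.primeIdealOf ⟨ζ, hζU⟩))
    rw [hU.fromSpec_primeIdealOf]
  have h2 : Spec.map (f'.appLE ⊤ U hUV) q' = b0 := PrimeSpectrum.ext hbot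
  rw [h1, h2]
  haveI : IsOpenImmersion hV.fromSpec := hV.isOpenImmersion_fromSpec
  obtain ⟨a, ha⟩ : (show ↥(Spec (CommRingCat.of V)) from
      (⟨⊥, Ideal.isPrime_bot⟩ : PrimeSpectrum V)) ∈ Set.range hV.fromSpec := by
    rw [hV.range_fromSpec]; trivial
  have hsp : (show ↥(Spec (CommRingCat.of V)) from (⟨⊥, Ideal.isPrime_bot⟩ : PrimeSpectrum V)) ⤳
      hV.fromSpec b0 := by
    refine (PrimeSpectrum.le_iff_specializes (R := V) _ _).1 ?_
    exact bot_le
  rw [← ha, hV.fromSpec.isOpenEmbedding.isInducing.specializes_iff] at hsp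
  have hsp' := (PrimeSpectrum.le_iff_specializes (R := Γ(Spec (CommRingCat.of V), ⊤)) _ _).2 hsp
  have : a = b0 := PrimeSpectrum.ext (le_bot_iff.1 hsp')
  rw [← this, ha]

open Groth.Agent.Lib.H56OpenDim Groth.Agent.Lib.H56ValTrdeg

/-- preimages of points in a pullback square of schemes. -/
theorem exists_preimage_of_isPullback {P X Y S : Scheme.{u}} {fst : P ⟶ X} {snd : P ⟶ Y}
    {f : X ⟶ S} {g : Y ⟶ S} (h : IsPullback fst snd f g) (x : X) (y : Y) (hxy : f x = g y) :
    ∃ z : P, fst z = x ∧ snd z = y := by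
  obtain ⟨z₀, h1, h2⟩ := Scheme.Pullback.exists_preimage_pullback (f := f) (g := g) x y hxy
  refine ⟨h.isoPullback.inv z₀, ?_, ?_⟩
  · rw [← Scheme.Hom.comp_apply, h.isoPullback_inv_fst, h1]
  · rw [← Scheme.Hom.comp_apply, h.isoPullback_inv_snd, h2]

set_option backward.isDefEq.respectTransparency.types false in
/-- **Flat modules and fibre dimension of the support**: let `F` be quasi-coherent of finite type
and flat over `S`, with support the image of the closed immersion `i : Z ⟶ X`. For `z : Z` and a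
generization `η` of its image there is a point `ξ` of `Z` over `η` with
`dim_z Z_{f z} ≤ dim_ξ Z_η`. -/
theorem exists_fibreDimAt_le_of_flat {X S : Scheme.{u}} (f : X ⟶ S) [LocallyOfFiniteType f]
    (F : X.Modules) [F.IsQuasicoherent] [F.IsFiniteType] (hfl : FlatMod.IsFlatOver f F)
    {Z : Scheme.{u}} (i : Z ⟶ X) [IsClosedImmersion i] (hi : Set.range i = CohB1.support F)
    (z : Z) (η : S) (hη : η ⤳ f (i z)) :
    ∃ ξ : Z, f (i ξ) = η ∧ FlatMor.fibreDimAt (i ≫ f) z ≤ FlatMor.fibreDimAt (i ≫ f) ξ := by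
  obtain ⟨A, l, hl1, hl2⟩ := Groth.Agent.Lib.ValSpecialize.exists_valuationSubring_of_specializes' hη
  have hsqX : IsPullback (pullback.fst f l) (pullback.snd f l) f l := IsPullback.of_hasPullback f l
  set g' := pullback.fst f l with hg'
  set f' := pullback.snd f l with hf'
  have hsqZ : IsPullback (pullback.fst i g') (pullback.snd i g') i g' :=
    IsPullback.of_hasPullback i g'
  set gZ := pullback.fst i g' with hgZ
  set i' := pullback.snd i g' with hi'
  have hsq : IsPullback gZ (i' ≫ f') (i ≫ f) l := hsqZ.paste_vert hsqX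
  haveI : LocallyOfFiniteType (i ≫ f) := inferInstance
  haveI : LocallyOfFiniteType (i' ≫ f') := MorphismProperty.of_isPullback hsq inferInstance
  haveI : IsClosedImmersion i' := MorphismProperty.pullback_snd _ _ inferInstance
  -- the pulled back module
  let F' := (Scheme.Modules.pullback g').obj F
  haveI : F'.IsFiniteType := Groth.Agent.Lib.SupportTensor.isFiniteType_pullback g' F
  have hsupp : CohB1.support F' = g' ⁻¹' CohB1.support F :=
    Groth.Agent.Lib.SupportPullback.support_pullback_eq_preimage g' F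
  have hrange : Set.range i' = CohB1.support F' := by
    rw [hsupp, ← hi]
    exact Scheme.Pullback.range_snd i g'
  -- a point over `z` and the closed point
  obtain ⟨z', hz'1, hz'2⟩ := exists_preimage_of_isPullback hsq z (closedPoint A)
    (by rw [Scheme.Hom.comp_apply]; exact hl1.symm)
  have e1 : FlatMor.fibreDimAt (i' ≫ f') z' = FlatMor.fibreDimAt (i ≫ f) (gZ z') :=
    Groth.Agent.Lib.H30FibBC.fibreDimAt_eq_of_isPullback (i ≫ f) l gZ (i' ≫ f') hsq z'
  obtain ⟨w, hwz', hfw, hwmax, hw⟩ := exists_maxInFibre_fibreDimAt_eq (i' ≫ f') z'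
  obtain ⟨ζ, hζw, hζmax⟩ := Groth.Agent.Lib.H79FibStalkBC.exists_maximal_generization _ w
  have hζ1 : i' ζ ∈ CohB1.support F' := by rw [← hrange]; exact ⟨ζ, rfl⟩
  have hζ2 : ∀ v ∈ CohB1.support F', v ⤳ i' ζ → v = i' ζ := by
    intro v hv hvζ
    rw [← hrange] at hv
    obtain ⟨v₀, rfl⟩ := hv
    rw [i'.isClosedEmbedding.isEmbedding.isInducing.specializes_iff] at hvζ
    rw [hζmax v₀ hvζ]
  have hbot : f' (i' ζ) = (⟨⊥, Ideal.isPrime_bot⟩ : PrimeSpectrum A) :=
    map_eq_bot_of_maximal_support f' F' (i' ζ) hζ1 hζ2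
      (Groth.Agent.Lib.H72FlatBaseChange.isFlatOverAt_pullback_of_isPullback hsqX F (i' ζ)
        (hfl (g' (i' ζ))))
  have h2 : tdeg (i' ≫ f') w ≤ tdeg (i' ≫ f') ζ :=
    tdeg_le_of_specializes_Spec A (i' ≫ f') w ζ hζw
  have h3 : (tdeg (i' ≫ f') ζ : WithBot ℕ∞) ≤ FlatMor.fibreDimAt (i' ≫ f') ζ :=
    tdeg_le_fibreDimAt (i' ≫ f') ζ
  have e2 : FlatMor.fibreDimAt (i' ≫ f') ζ = FlatMor.fibreDimAt (i ≫ f) (gZ ζ) :=
    Groth.Agent.Lib.H30FibBC.fibreDimAt_eq_of_isPullback (i ≫ f) l gZ (i' ≫ f') hsq ζ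
  refine ⟨gZ ζ, ?_, ?_⟩
  · have := congrArg (fun φ : pullback i g' ⟶ S => φ ζ) hsq.w
    simp only [Scheme.Hom.comp_apply] at this
    rw [this, hbot, hl2]
  · rw [← hz'1, ← e1, hw, ← e2]
    exact le_trans (by exact_mod_cast h2) h3

end Groth.Agent.Lib.H79FlatSuppDim
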