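/-
helper79: the valuative lifting property `HTop.HasValLift` passes to cofiltered limits of affine
schemes over an affine base (limit descent of an algebraic obstruction).
-/
import Groth.Prelude.Def_HTop
import Groth.Agent.Lib.ValSpecialize
import Mathlib.AlgebraicGeometry.AffineTransitionLimit
import Mathlib.CategoryTheory.Limits.Shapes.Pullback.Connected
import Mathlib.RingTheory.Valuation.ValuationRing

set_option autoImplicit false
universe w u
open CategoryTheory CategoryTheory.Limits AlgebraicGeometry IsLocalRing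

namespace Groth.Agent.Lib.H79ValLimit

theorem exists_mul_of_mem_map {V C : Type*} [CommRing V] [IsDomain V] [ValuationRing V]
    [CommRing C] (φ : V →+* C) (J : Ideal V) (x : C) (hx : x ∈ J.map φ) :
    ∃ m ∈ J, ∃ d : C, x = φ m * d := by
  induction hx using Submodule.span_induction with
  | mem x hx => obtain ⟨m, hm, rfl⟩ := hx; exact ⟨m, hm, 1, by simp⟩
  | zero => exact ⟨0, J.zero_mem, 0, by simp⟩
  | add x y _ _ hx hy =>
    obtain ⟨m₁, hm₁, d₁, rfl⟩ := hx
    obtain ⟨m₂, hm₂, d₂, rfl⟩ := hy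
    rcases ValuationRing.dvd_total m₁ m₂ with ⟨a, rfl⟩ | ⟨a, rfl⟩
    · exact ⟨m₁, hm₁, d₁ + φ a * d₂, by simp only [map_mul]; ring⟩
    · exact ⟨m₂, hm₂, φ a * d₁ + d₂, by simp only [map_mul]; ring⟩
  | smul a x _ hx =>
    obtain ⟨m, hm, d, rfl⟩ := hx
    exact ⟨m, hm, a * d, by simp only [smul_eq_mul]; ring⟩

/-- the ideal of elements killed by a nonzero element of `V`. -/
def torsionIdeal {V C : Type*} [CommRing V] [IsDomain V] [CommRing C] (φ : V →+* C) : Ideal C where
  carrier := {c | ∃ v : V, v ≠ 0 ∧ φ v * c = 0}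
  add_mem' := by
    rintro a b ⟨v, hv, hva⟩ ⟨w, hw, hwb⟩
    refine ⟨v * w, mul_ne_zero hv hw, ?_⟩
    rw [map_mul, mul_add]
    have h1 : φ v * φ w * a = φ w * (φ v * a) := by ring
    have h2 : φ v * φ w * b = φ v * (φ w * b) := by ring
    rw [h1, h2, hva, hwb]; simp
  zero_mem' := ⟨1, one_ne_zero, by simp⟩
  smul_mem' := by
    rintro c a ⟨v, hv, hva⟩
    refine ⟨v, hv, ?_⟩
    have : φ v * (c • a) = c * (φ v * a) := by simp only [smul_eq_mul]; ring
    rw [this, hva, mul_zero]

theorem exists_primes_of_no_obstruction {V C : Type*} [CommRing V] [IsDomain V] [ValuationRing V]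
    [CommRing C] (φ : V →+* C)
    (h : ∀ (v m : V) (d : C), v ≠ 0 → m ∈ maximalIdeal V → φ v * (1 - φ m * d) ≠ 0) :
    ∃ 𝔭 𝔮 : PrimeSpectrum C, 𝔭 ≤ 𝔮 ∧ 𝔭.asIdeal.comap φ = ⊥ ∧
      𝔮.asIdeal.comap φ = maximalIdeal V := by
  by_contra hno
  push Not at hno
  -- every prime over 𝔪C has a torsion element outside
  have key : ∀ 𝔮 : PrimeSpectrum C, (maximalIdeal V).map φ ≤ 𝔮.asIdeal →
      ∃ c ∈ torsionIdeal φ, c ∉ 𝔮.asIdeal := by
    intro 𝔮 h𝔮
    by_contra hq
    push Not at hq
    let M : Submonoid C := (nonZeroDivisors V).map φ ⊔ 𝔮.asIdeal.primeCompl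
    have hM : Disjoint ((⊥ : Ideal C) : Set C) (M : Set C) := by
      rw [Set.disjoint_left]
      intro x hx hxM
      have hx0 : x = 0 := hx
      obtain ⟨y, hy, z, hz, hyz⟩ := Submonoid.mem_sup.mp hxM
      obtain ⟨v, hv, rfl⟩ := hy
      have hv0 : v ≠ 0 := nonZeroDivisors.ne_zero hv
      exact hz (hq z ⟨v, hv0, by rw [hyz, hx0]⟩)
    obtain ⟨P, hP, -, hPM⟩ := Ideal.exists_le_prime_disjoint ⊥ M hM
    have hPq : P ≤ 𝔮.asIdeal := by
      intro x hx
      by_contra hxq
      exact Set.disjoint_left.mp hPM hx (Submonoid.mem_sup_right (show x ∈ 𝔮.asIdeal.primeCompl from hxq))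
    have hP0 : P.comap φ = ⊥ := by
      rw [eq_bot_iff]
      intro v hv
      by_contra hv0
      have hv0' : v ≠ 0 := hv0
      exact Set.disjoint_left.mp hPM (show φ v ∈ P from hv)
        (Submonoid.mem_sup_left ⟨v, mem_nonZeroDivisors_of_ne_zero hv0', rfl⟩)
    have hq𝔪 : 𝔮.asIdeal.comap φ = maximalIdeal V := by
      symm
      apply (maximalIdeal.isMaximal V).eq_of_le
      · exact (Ideal.IsPrime.comap φ (hK := 𝔮.isPrime)).ne_top
      · exact Ideal.map_le_iff_le_comap.mp h𝔮
    exact hno ⟨P, hP⟩ 𝔮 hPq hP0 hq𝔪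
  have htop : (maximalIdeal V).map φ ⊔ torsionIdeal φ = ⊤ := by
    by_contra hne
    obtain ⟨Q, hQ, hle⟩ := Ideal.exists_le_maximal _ hne
    obtain ⟨c, hc, hcQ⟩ := key ⟨Q, hQ.isPrime⟩ (le_sup_left.trans hle)
    exact hcQ (hle (Ideal.mem_sup_right hc))
  have h1 : (1 : C) ∈ (maximalIdeal V).map φ ⊔ torsionIdeal φ := by rw [htop]; trivial
  obtain ⟨x, hx, a, ⟨v, hv, hva⟩, hxa⟩ := Submodule.mem_sup.mp h1
  obtain ⟨m, hm, d, rfl⟩ := exists_mul_of_mem_map φ _ x hx
  refine h v m d hv hm ?_
  have : 1 - φ m * d = a := by rw [← hxa]; ring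
  rw [this, hva]

theorem no_obstruction_of_primes {V C : Type*} [CommRing V] [IsDomain V] [IsLocalRing V]
    [CommRing C] (φ : V →+* C) (𝔭 𝔮 : Ideal C) [𝔭.IsPrime] [𝔮.IsPrime] (hle : 𝔭 ≤ 𝔮)
    (h𝔭 : 𝔭.comap φ = ⊥) (h𝔮 : 𝔮.comap φ = maximalIdeal V) (v m : V) (d : C) (hv : v ≠ 0)
    (hm : m ∈ maximalIdeal V) : φ v * (1 - φ m * d) ≠ 0 := by
  intro h0
  have hmem : φ v * (1 - φ m * d) ∈ 𝔭 := by rw [h0]; exact 𝔭.zero_mem
  rcases Ideal.IsPrime.mem_or_mem inferInstance hmem with h | h
  · have : v ∈ 𝔭.comap φ := h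
    rw [h𝔭] at this
    exact hv this
  · have h1 : 1 - φ m * d ∈ 𝔮 := hle h
    have h2 : φ m ∈ 𝔮 := by
      have : m ∈ 𝔮.comap φ := by rw [h𝔮]; exact hm
      exact this
    have h3 : (1 : C) ∈ 𝔮 := by
      have := 𝔮.add_mem h1 (𝔮.mul_mem_right d h2)
      simpa using this
    exact (Ideal.IsPrime.ne_top inferInstance) ((Ideal.eq_top_iff_one 𝔮).mpr h3)

/-- the ring map `V → Γ(X, ⊤)` induced by `p : X → Spec V`. -/
noncomputable def gammaHom {X : Scheme.{u}} (V : CommRingCat.{u}) (p : X ⟶ Spec V) :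
    V ⟶ Γ(X, ⊤) :=
  (Scheme.ΓSpecIso V).inv ≫ p.appTop

theorem gammaHom_comp {X X' : Scheme.{u}} (V : CommRingCat.{u}) (h : X' ⟶ X) (p : X ⟶ Spec V) :
    gammaHom V (h ≫ p) = gammaHom V p ≫ h.appTop := by
  simp [gammaHom]

theorem isoSpec_hom_gammaHom {X : Scheme.{u}} [IsAffine X] (V : CommRingCat.{u})
    (p : X ⟶ Spec V) : X.isoSpec.hom ≫ Spec.map (gammaHom V p) = p := by
  rw [gammaHom, Spec.map_comp, ← Category.assoc, Scheme.isoSpec_hom_naturality,
    Scheme.isoSpec_Spec_hom, Category.assoc, ← Spec.map_comp, Iso.inv_hom_id, Spec.map_id,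
    Category.comp_id]

theorem isoSpec_inv_comp {X : Scheme.{u}} [IsAffine X] (V : CommRingCat.{u})
    (p : X ⟶ Spec V) : X.isoSpec.inv ≫ p = Spec.map (gammaHom V p) := by
  rw [Iso.inv_comp_eq, isoSpec_hom_gammaHom]

theorem exists_pair_iff {X : Scheme.{u}} [IsAffine X] (V : CommRingCat.{u}) [IsDomain V]
    [ValuationRing V] (p : X ⟶ Spec V) :
    (∃ z' z : X, z' ⤳ z ∧ p z = closedPoint V ∧
      p z' = (⟨⊥, Ideal.isPrime_bot⟩ : PrimeSpectrum V)) ↔
    ∀ (v m : V) (d : Γ(X, ⊤)), v ≠ 0 → m ∈ maximalIdeal V →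
      (gammaHom V p).hom v * (1 - (gammaHom V p).hom m * d) ≠ 0 := by
  constructor
  · rintro ⟨z', z, hz'z, hz, hz'⟩ v m d hv hm
    let P : PrimeSpectrum Γ(X, ⊤) := X.isoSpec.hom z'
    let Q : PrimeSpectrum Γ(X, ⊤) := X.isoSpec.hom z
    have hPQ : P ≤ Q := by
      rw [PrimeSpectrum.le_iff_specializes]
      exact hz'z.map X.isoSpec.hom.continuous
    have hQ : Spec.map (gammaHom V p) Q = closedPoint V := by
      rw [← hz, ← Scheme.Hom.comp_apply, isoSpec_hom_gammaHom]
    have hP : Spec.map (gammaHom V p) P = (⟨⊥, Ideal.isPrime_bot⟩ : PrimeSpectrum V) := by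
      rw [← hz', ← Scheme.Hom.comp_apply, isoSpec_hom_gammaHom]
    refine no_obstruction_of_primes (gammaHom V p).hom P.asIdeal Q.asIdeal hPQ ?_ ?_ v m d hv hm
    · have := congrArg PrimeSpectrum.asIdeal hP
      simpa [Spec.map_apply] using this
    · have := congrArg PrimeSpectrum.asIdeal hQ
      simpa [Spec.map_apply, IsLocalRing.closedPoint] using this
  · intro h
    obtain ⟨P, Q, hPQ, hP, hQ⟩ := exists_primes_of_no_obstruction (gammaHom V p).hom h
    refine ⟨X.isoSpec.inv P, X.isoSpec.inv Q, ?_, ?_, ?_⟩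
    · exact ((PrimeSpectrum.le_iff_specializes P Q).mp hPQ).map X.isoSpec.inv.continuous
    · rw [← Scheme.Hom.comp_apply, isoSpec_inv_comp]
      apply PrimeSpectrum.ext
      rw [Spec.map_apply]
      exact hQ
    · rw [← Scheme.Hom.comp_apply, isoSpec_inv_comp]
      apply PrimeSpectrum.ext
      rw [Spec.map_apply]
      exact hP

section aux

variable {Y : Scheme.{u}} {I : Type u} [SmallCategory I] [IsCofiltered I]
    (D : I ⥤ Over Y) (c : Cone D) (hc : IsLimit ((Over.forget Y).mapCone c))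
    {S : Scheme.{u}} (g : S ⟶ Y)

set_option backward.isDefEq.respectTransparency false in
/-- The base-changed diagram. -/
noncomputable def D' : I ⥤ Scheme.{u} where
  obj i := pullback g (D.obj i).hom
  map {i j} f := pullback.lift (pullback.fst _ _) (pullback.snd _ _ ≫ (D.map f).left)
    (by rw [Category.assoc, Over.w, pullback.condition])
  map_id i := by apply pullback.hom_ext <;> simp
  map_comp f h := by apply pullback.hom_ext <;> simp

set_option backward.isDefEq.respectTransparency false in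
/-- The projection to the original diagram. -/
noncomputable def α : D' D g ⟶ D ⋙ Over.forget Y where
  app i := pullback.snd g (D.obj i).hom
  naturality i j f := by
    simp [D']

set_option backward.isDefEq.respectTransparency false in
/-- The base-changed cone. -/
noncomputable def c' : Cone (D' D g) where
  pt := pullback g c.pt.hom
  π :=
  { app i := pullback.lift (pullback.fst _ _) (pullback.snd _ _ ≫ (c.π.app i).left)
      (by rw [Category.assoc, Over.w (c.π.app i)]; exact pullback.condition)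
    naturality i j f := by
      apply pullback.hom_ext
      · simp [D']
      · simp only [D', Functor.const_obj_obj, Functor.const_obj_map, Category.id_comp,
          Category.assoc, pullback.lift_snd, pullback.lift_snd_assoc]
        rw [← Over.comp_left, c.w] }

attribute [local instance] IsCofiltered.isConnected

set_option backward.isDefEq.respectTransparency false in
/-- The base-changed cone is a limit cone. -/
noncomputable def hc' : IsLimit (c' D c g) :=
  isLimitOfIsPullbackOfIsConnected (α D g) _ ((Over.forget Y).mapCone c)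
    { hom := pullback.snd _ _
      w := fun j => by simp [c', α] }
    (fun j => by
      refine IsPullback.of_right (h₁₂ := pullback.fst g (D.obj j).hom) (v₁₃ := g)
        (h₂₂ := (D.obj j).hom) ?_ ?_ (IsPullback.of_hasPullback _ _)
      · have h1 : (c' D c g).π.app j ≫ pullback.fst g (D.obj j).hom = pullback.fst _ _ := by
          simp [c']
        have h2 : ((Over.forget Y).mapCone c).π.app j ≫ (D.obj j).hom = c.pt.hom := by
          simp
        rw [h1, h2]
        exact (IsPullback.of_hasPullback _ _)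
      · simp [c', α])
    hc

set_option backward.isDefEq.respectTransparency false in
/-- the projection of a member of the base-changed diagram to `S`. -/
noncomputable def p' (i : I) : (D' D g).obj i ⟶ S := pullback.fst g (D.obj i).hom

set_option backward.isDefEq.respectTransparency false in
/-- the projection of the base-changed cone point to `S`. -/
noncomputable def pc' : (c' D c g).pt ⟶ S := pullback.fst g c.pt.hom

set_option backward.isDefEq.respectTransparency false in
omit [IsCofiltered I] in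
theorem c'_π_p' (i : I) : (c' D c g).π.app i ≫ p' D g i = pc' D c g :=
  pullback.lift_fst _ _ _

set_option backward.isDefEq.respectTransparency false in
omit [IsCofiltered I] in
theorem D'_map_p' {i j : I} (f : i ⟶ j) : (D' D g).map f ≫ p' D g j = p' D g i :=
  pullback.lift_fst _ _ _

end aux


open HTop Groth.Agent.Lib.ValSpecialize

theorem hasValLift_of_isLimit {Y : Scheme.{u}} [IsAffine Y]
    {I : Type u} [SmallCategory I] [IsCofiltered I] (D : I ⥤ Over Y)
    [∀ i, IsAffine (D.obj i).left]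
    (c : Cone D) (hc : IsLimit ((Over.forget Y).mapCone c))
    (h : ∀ i, HasValLift (PreZeroHypercover.singleton.{w} (D.obj i).hom)) :
    HasValLift (PreZeroHypercover.singleton.{w} c.pt.hom) := by
  intro V _ _ g
  have hstage : ∀ i, ∃ z' z : ↑((D' D g).obj i), z' ⤳ z ∧
      p' D g i z = closedPoint V ∧
      p' D g i z' = (⟨⊥, Ideal.isPrime_bot⟩ : PrimeSpectrum V) := by
    intro i
    obtain ⟨W, hWd, hWv, φ, hφ, j, g', hg'⟩ := h i V g
    let g'' : Spec W ⟶ (D.obj i).left := g'
    have hg'' : g'' ≫ (D.obj i).hom = Spec.map φ ≫ g := hg'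
    let l : Spec W ⟶ (D' D g).obj i := pullback.lift (Spec.map φ) g'' hg''.symm
    have hl : l ≫ p' D g i = Spec.map φ := pullback.lift_fst _ _ _
    refine ⟨l (⟨⊥, Ideal.isPrime_bot⟩ : PrimeSpectrum W), l (closedPoint W), ?_, ?_, ?_⟩
    · exact (specializes_closedPoint (R := W) _).map l.continuous
    · rw [← Scheme.Hom.comp_apply, hl]; exact IsExtVal.specMap_closedPoint hφ
    · rw [← Scheme.Hom.comp_apply, hl]; exact IsExtVal.specMap_bot hφ
  haveI hXaff : IsAffine c.pt.left := by
    haveI : ∀ i, IsAffine ((D ⋙ Over.forget Y).obj i) := fun i =>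
      inferInstanceAs (IsAffine (D.obj i).left)
    exact Scheme.isAffine_of_isLimit _ hc
  haveI : IsAffine (c' D c g).pt := inferInstanceAs (IsAffine (pullback g c.pt.hom))
  have hlim : ∃ z' z : ↑((c' D c g).pt), z' ⤳ z ∧
      pc' D c g z = closedPoint V ∧
      pc' D c g z' = (⟨⊥, Ideal.isPrime_bot⟩ : PrimeSpectrum V) := by
    rw [exists_pair_iff]
    intro v m d hv hm h0
    haveI : ∀ i, IsAffine ((D' D g).obj i) := fun i =>
      inferInstanceAs (IsAffine (pullback g (D.obj i).hom))
    obtain ⟨i, t, ht⟩ := exists_appTop_π_eq_of_isAffine_of_isLimit (D' D g) (c' D c g)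
      (hc' D c hc g) d
    have hψ : ∀ x : V, ((c' D c g).π.app i).appTop.hom
        ((gammaHom V (p' D g i)).hom x) = (gammaHom V (pc' D c g)).hom x := by
      intro x
      rw [← c'_π_p' D c g i, gammaHom_comp]
      rfl
    obtain ⟨j, f, hj⟩ := exists_appTop_map_eq_zero_of_isAffine_of_isLimit (D' D g) (c' D c g)
      (hc' D c hc g) i
      ((gammaHom V (p' D g i)).hom v * (1 - (gammaHom V (p' D g i)).hom m * t)) (by
        rw [map_mul, map_sub, map_one, map_mul, hψ, hψ, ht]
        exact h0)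
    have hψ' : ∀ x : V, ((D' D g).map f).appTop.hom
        ((gammaHom V (p' D g i)).hom x) = (gammaHom V (p' D g j)).hom x := by
      intro x
      rw [← D'_map_p' D g f, gammaHom_comp]
      rfl
    refine (exists_pair_iff V (p' D g j)).mp (hstage j) v m
      (((D' D g).map f).appTop.hom t) hv hm ?_
    rw [map_mul, map_sub, map_one, map_mul, hψ', hψ'] at hj
    exact hj
  obtain ⟨z', z, hz'z, hz, hz'⟩ := hlim
  obtain ⟨W, hWd, hWv, φ, hφ, g', hg'⟩ :=
    exists_lift_of_specializes_pullback c.pt.hom V g z' z hz'z hz hz'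
  exact ⟨W, hWd, hWv, φ, hφ, PUnit.unit, g', hg'⟩

end Groth.Agent.Lib.H79ValLimit
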