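/-
Limit argument for sheaf conditions (helper79): if a limit preserving presheaf on `Over S` is a
sheaf for each one-member family `D_i ⟶ T` of a cofiltered system of affine `T`-schemes with limit
`c`, then it is a sheaf for the one-member family `c ⟶ T`.
-/
import Groth.Agent.Lib.H79ValLimit

set_option autoImplicit false
universe v w u
open CategoryTheory CategoryTheory.Limits AlgebraicGeometry Opposite

namespace Groth.Agent.Lib.H79HLimitSheaf

open Groth.Agent.Lib.H79ValLimit

/-- the limit preservation hypothesis -/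
def LimPres {S : Scheme.{u}} (F : (Over S)ᵒᵖ ⥤ Type w) : Prop :=
  ∀ (I : Type u) [SmallCategory I] [IsCofiltered I] (D : I ⥤ Over S),
    (∀ i, IsAffine (D.obj i).left) → ∀ (c : Cone D), IsLimit ((Over.forget S).mapCone c) →
      Nonempty (IsColimit (F.mapCocone c.op))

section Elementwise

variable {S : Scheme.{u}} {F : (Over S)ᵒᵖ ⥤ Type w}

lemma map_comp_apply {X Y Z : Over S} (f : X ⟶ Y) (g : Y ⟶ Z) (a : F.obj (op Z)) :
    F.map f.op (F.map g.op a) = F.map (f ≫ g).op a := by
  rw [op_comp, F.map_comp]; rfl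

variable {I : Type u} [SmallCategory I] [IsCofiltered I] {D : I ⥤ Over S} {c : Cone D}

/-- every section over the limit comes from a finite stage -/
theorem exists_rep (hc : IsColimit (F.mapCocone c.op)) (y : F.obj (op c.pt)) :
    ∃ (i : I) (yi : F.obj (op (D.obj i))), F.map (c.π.app i).op yi = y := by
  obtain ⟨i, yi, hyi⟩ := Types.jointly_surjective_of_isColimit hc y
  exact ⟨i.unop, yi, hyi⟩

/-- two sections at a finite stage that agree over the limit agree at a later stage -/
theorem exists_eq (hc : IsColimit (F.mapCocone c.op)) (i : I) (a b : F.obj (op (D.obj i)))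
    (hab : F.map (c.π.app i).op a = F.map (c.π.app i).op b) :
    ∃ (j : I) (m : j ⟶ i), F.map (D.map m).op a = F.map (D.map m).op b := by
  have h1 : (F.mapCocone c.op).ι.app (op i) a = (F.mapCocone c.op).ι.app (op i) b := hab
  rw [Types.FilteredColimit.isColimit_eq_iff _ hc] at h1
  obtain ⟨k, f, g, hfg⟩ := h1
  obtain ⟨l, h, hh⟩ : ∃ (l : Iᵒᵖ) (h : k ⟶ l), f ≫ h = g ≫ h :=
    ⟨IsFiltered.coeq f g, IsFiltered.coeqHom f g, IsFiltered.coeq_condition f g⟩
  refine ⟨l.unop, (f ≫ h).unop, ?_⟩
  have h2 : (D.op ⋙ F).map (f ≫ h) a = (D.op ⋙ F).map (g ≫ h) b := by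
    rw [Functor.map_comp, Functor.map_comp]
    exact congrArg ((D.op ⋙ F).map h) hfg
  rw [← hh] at h2
  exact h2

end Elementwise

section BC

variable {S : Scheme.{u}} {T : Over S} {I : Type u} [SmallCategory I] [IsCofiltered I]
  (DT : I ⥤ Over T.left) (cT : Cone DT) (hcT : IsLimit ((Over.forget T.left).mapCone cT))
  {G : Over S} (g : G ⟶ T)

/-- the diagram `i ↦ G ×_T D_i` of schemes over `S` -/
noncomputable def DO : I ⥤ Over S where
  obj i := Over.mk (p' DT g.left i ≫ G.hom)
  map {i j} f := Over.homMk ((D' DT g.left).map f) (by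
    show (D' DT g.left).map f ≫ p' DT g.left j ≫ G.hom = p' DT g.left i ≫ G.hom
    rw [← Category.assoc, D'_map_p'])
  map_id i := by
    ext1
    exact (D' DT g.left).map_id i
  map_comp f h := by
    ext1
    exact (D' DT g.left).map_comp f h

/-- the cone with point `G ×_T c` -/
noncomputable def cO : Cone (DO DT g) where
  pt := Over.mk (pc' DT cT g.left ≫ G.hom)
  π :=
  { app := fun i => Over.homMk ((c' DT cT g.left).π.app i) (by
      show (c' DT cT g.left).π.app i ≫ p' DT g.left i ≫ G.hom = pc' DT cT g.left ≫ G.hom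
      rw [← Category.assoc, c'_π_p'])
    naturality := fun i j f => by
      ext1
      exact (c' DT cT g.left).π.naturality f }

/-- the underlying cone of schemes -/
noncomputable def forgetCone (s : Cone (DO DT g ⋙ Over.forget S)) : Cone (D' DT g.left) where
  pt := s.pt
  π :=
  { app := fun i => s.π.app i
    naturality := fun i j f => s.π.naturality f }

/-- the cone `G ×_T c` is a limit cone of schemes -/
noncomputable def isLimitForgetCO : IsLimit ((Over.forget S).mapCone (cO DT cT g)) where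
  lift s := (hc' DT cT hcT g.left).lift (forgetCone DT g s)
  fac s i := (hc' DT cT hcT g.left).fac (forgetCone DT g s) i
  uniq s m hm := (hc' DT cT hcT g.left).uniq (forgetCone DT g s) m hm

omit [IsCofiltered I] in
theorem left_eq_of_eq {i : I} {Z : Over S} (a : Z ⟶ G) (b : Z ⟶ (DT ⋙ Over.map T.hom).obj i)
    (h : a ≫ g = b ≫ (Over.homMk (DT.obj i).hom rfl : (DT ⋙ Over.map T.hom).obj i ⟶ T)) :
    a.left ≫ g.left = b.left ≫ (DT.obj i).hom :=
  congrArg (fun m => m.left) h

omit [IsCofiltered I] in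
theorem isAffine_DO [IsAffine T.left] [IsAffine G.left] [∀ i, IsAffine (DT.obj i).left] (i : I) :
    IsAffine ((DO DT g).obj i).left := by
  show IsAffine (pullback g.left (DT.obj i).hom)
  infer_instance

/-- the `S`-diagram underlying `DT` -/
abbrev DS : I ⥤ Over S := DT ⋙ Over.map T.hom

/-- the `S`-cone underlying `cT` -/
abbrev cS : Cone (DS DT) := (Over.map T.hom).mapCone cT

/-- the structure morphism `D_i ⟶ T` -/
def fD (i : I) : (DS DT).obj i ⟶ T := Over.homMk (DT.obj i).hom rfl

/-- the structure morphism `c ⟶ T` -/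
def fc : (cS DT cT).pt ⟶ T := Over.homMk cT.pt.hom rfl

omit [IsCofiltered I] in
theorem map_fD {i j : I} (m : i ⟶ j) : (DS DT).map m ≫ fD DT j = fD DT i := by
  ext1
  exact Over.w (DT.map m)

omit [IsCofiltered I] in
theorem π_fD (i : I) : (cS DT cT).π.app i ≫ fD DT i = fc DT cT := by
  ext1
  exact Over.w (cT.π.app i)

/-- first projection `G ×_T D_i ⟶ G` -/
noncomputable def fstO (i : I) : (DO DT g).obj i ⟶ G := Over.homMk (p' DT g.left i) rfl

/-- second projection `G ×_T D_i ⟶ D_i` -/
noncomputable def sndO (i : I) : (DO DT g).obj i ⟶ (DS DT).obj i :=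
  Over.homMk (pullback.snd g.left (DT.obj i).hom) (by
    show pullback.snd g.left (DT.obj i).hom ≫ (DT.obj i).hom ≫ T.hom =
      pullback.fst g.left (DT.obj i).hom ≫ G.hom
    rw [← Category.assoc, ← pullback.condition, Category.assoc, Over.w g])

/-- first projection `G ×_T c ⟶ G` -/
noncomputable def fstc : (cO DT cT g).pt ⟶ G := Over.homMk (pc' DT cT g.left) rfl

/-- second projection `G ×_T c ⟶ c` -/
noncomputable def sndc : (cO DT cT g).pt ⟶ (cS DT cT).pt :=
  Over.homMk (pullback.snd g.left cT.pt.hom) (by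
    show pullback.snd g.left cT.pt.hom ≫ cT.pt.hom ≫ T.hom =
      pullback.fst g.left cT.pt.hom ≫ G.hom
    rw [← Category.assoc, ← pullback.condition, Category.assoc, Over.w g])

omit [IsCofiltered I] in
theorem fstO_g (i : I) : fstO DT g i ≫ g = sndO DT g i ≫ fD DT i := by
  ext1
  exact pullback.condition

omit [IsCofiltered I] in
theorem fstc_g : fstc DT cT g ≫ g = sndc DT cT g ≫ fc DT cT := by
  ext1
  exact pullback.condition

omit [IsCofiltered I] in
theorem map_fstO {i j : I} (m : i ⟶ j) : (DO DT g).map m ≫ fstO DT g j = fstO DT g i := by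
  ext1
  exact D'_map_p' DT g.left m

omit [IsCofiltered I] in
theorem map_sndO {i j : I} (m : i ⟶ j) :
    (DO DT g).map m ≫ sndO DT g j = sndO DT g i ≫ (DS DT).map m := by
  ext1
  exact pullback.lift_snd _ _ _

omit [IsCofiltered I] in
theorem π_fstO (i : I) : (cO DT cT g).π.app i ≫ fstO DT g i = fstc DT cT g := by
  ext1
  exact c'_π_p' DT cT g.left i

omit [IsCofiltered I] in
theorem π_sndO (i : I) :
    (cO DT cT g).π.app i ≫ sndO DT g i = sndc DT cT g ≫ (cS DT cT).π.app i := by
  ext1
  exact pullback.lift_snd _ _ _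

/-- the universal property of `G ×_T D_i` -/
noncomputable def liftO (i : I) {Z : Over S} (a : Z ⟶ G) (b : Z ⟶ (DS DT).obj i)
    (h : a ≫ g = b ≫ fD DT i) : Z ⟶ (DO DT g).obj i :=
  Over.homMk (pullback.lift a.left b.left (left_eq_of_eq DT g a b h)) (by
    show pullback.lift a.left b.left (left_eq_of_eq DT g a b h) ≫
      pullback.fst g.left (DT.obj i).hom ≫ G.hom = Z.hom
    rw [pullback.lift_fst_assoc, Over.w a])

omit [IsCofiltered I] in
theorem liftO_fst (i : I) {Z : Over S} (a : Z ⟶ G) (b : Z ⟶ (DS DT).obj i)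
    (h : a ≫ g = b ≫ fD DT i) : liftO DT g i a b h ≫ fstO DT g i = a := by
  ext1
  exact pullback.lift_fst _ _ _

omit [IsCofiltered I] in
theorem liftO_snd (i : I) {Z : Over S} (a : Z ⟶ G) (b : Z ⟶ (DS DT).obj i)
    (h : a ≫ g = b ≫ fD DT i) : liftO DT g i a b h ≫ sndO DT g i = b := by
  ext1
  exact pullback.lift_snd _ _ _

/-- the underlying cone of `T`-schemes -/
noncomputable def forgetConeS (s : Cone (DS DT ⋙ Over.forget S)) :
    Cone (DT ⋙ Over.forget T.left) where
  pt := s.pt
  π :=
  { app := fun i => s.π.app i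
    naturality := fun i j f => s.π.naturality f }

/-- the cone `c` is a limit cone of schemes -/
noncomputable def isLimitForgetCS : IsLimit ((Over.forget S).mapCone (cS DT cT)) where
  lift s := hcT.lift (forgetConeS DT s)
  fac s i := hcT.fac (forgetConeS DT s) i
  uniq s m hm := hcT.uniq (forgetConeS DT s) m hm

end BC

section Main

variable {S : Scheme.{u}} {T : Over S} {I : Type u} [SmallCategory I] [IsCofiltered I]
  (DT : I ⥤ Over T.left) (cT : Cone DT) (hcT : IsLimit ((Over.forget T.left).mapCone cT))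
  {F : (Over S)ᵒᵖ ⥤ Type w}

include hcT in
/-- **Limit argument.** A limit preserving presheaf which is a sheaf for every one-member family
`D_i ⟶ T` is a sheaf for the one-member family `c ⟶ T`. -/
theorem isSheafFor_singleton_of_limit (hF : LimPres F)
    [IsAffine T.left] [∀ i, IsAffine (DT.obj i).left] [IsAffine cT.pt.left]
    (hsh : ∀ i, Presieve.IsSheafFor F (Presieve.singleton (fD DT i))) :
    Presieve.IsSheafFor F (Presieve.singleton (fc DT cT)) := by
  have hDSaff : ∀ i, IsAffine ((DS DT).obj i).left := fun i =>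
    inferInstanceAs (IsAffine (DT.obj i).left)
  have hcSaff : IsAffine (cS DT cT).pt.left := inferInstanceAs (IsAffine cT.pt.left)
  -- the colimit property for the system itself
  obtain ⟨hcol⟩ := hF I (DS DT) hDSaff (cS DT cT) (isLimitForgetCS DT cT hcT)
  simp only [Presieve.isSheafFor_singleton] at hsh ⊢
  intro y hy
  -- step 0: descend `y` to a finite stage
  obtain ⟨l, yl, hyl⟩ := exists_rep hcol y
  -- step 1: base change along `c ⟶ T`
  obtain ⟨hcol₁⟩ := hF I (DO DT (fc DT cT)) (fun i => isAffine_DO DT (fc DT cT) i)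
    (cO DT cT (fc DT cT)) (isLimitForgetCO DT cT hcT (fc DT cT))
  obtain ⟨μ, m, hm⟩ := exists_eq hcol₁ l
    (F.map (sndO DT (fc DT cT) l).op yl) (F.map (fstO DT (fc DT cT) l).op y) (by
      rw [map_comp_apply, map_comp_apply, π_sndO, π_fstO, ← map_comp_apply, hyl]
      exact (hy _ _ (fstc_g DT cT (fc DT cT))).symm)
  obtain ⟨yμ, hyμ⟩ : ∃ yμ, yμ = F.map ((DS DT).map m).op yl := ⟨_, rfl⟩
  have hπμ : F.map ((cS DT cT).π.app μ).op yμ = y := by
    rw [hyμ, map_comp_apply, (cS DT cT).w m, hyl]
  have E1 : F.map (sndO DT (fc DT cT) μ).op yμ = F.map (fstO DT (fc DT cT) μ).op y := by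
    rw [map_comp_apply, map_comp_apply, map_sndO, map_fstO, ← map_comp_apply, ← hyμ] at hm
    exact hm
  -- step 2: base change along `D_μ ⟶ T`
  obtain ⟨hcol₂⟩ := hF I (DO DT (fD DT μ)) (fun i => isAffine_DO DT (fD DT μ) i)
    (cO DT cT (fD DT μ)) (isLimitForgetCO DT cT hcT (fD DT μ))
  obtain ⟨ν, n, hn⟩ := exists_eq hcol₂ μ
    (F.map (fstO DT (fD DT μ) μ).op yμ) (F.map (sndO DT (fD DT μ) μ).op yμ) (by
      rw [map_comp_apply, map_comp_apply, π_sndO, π_fstO, ← map_comp_apply, hπμ]
      -- the swap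
      have hsw := congrArg (F.map (liftO DT (fc DT cT) μ (sndc DT cT (fD DT μ))
        (fstc DT cT (fD DT μ)) (fstc_g DT cT (fD DT μ)).symm).op) E1
      rw [map_comp_apply, map_comp_apply, liftO_snd, liftO_fst] at hsw
      exact hsw)
  have E2 : F.map (fstO DT (fD DT μ) ν).op yμ =
      F.map (sndO DT (fD DT μ) ν).op (F.map ((DS DT).map n).op yμ) := by
    rw [map_comp_apply, map_comp_apply, map_sndO, map_fstO, ← map_comp_apply] at hn
    exact hn
  -- step 3: the section at stage `ν` is compatible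
  obtain ⟨yν, hyν⟩ : ∃ yν, yν = F.map ((DS DT).map n).op yμ := ⟨_, rfl⟩
  rw [← hyν] at E2
  have hπν : F.map ((cS DT cT).π.app ν).op yν = y := by
    rw [hyν, map_comp_apply, (cS DT cT).w n, hπμ]
  obtain ⟨t, ht, -⟩ := hsh ν yν (by
    intro Z p₁ p₂ hp
    have h3 := congrArg (F.map (liftO DT (fD DT μ) ν (p₁ ≫ (DS DT).map n) p₂ (by
      rw [Category.assoc, map_fD, hp])).op) E2
    rw [map_comp_apply, map_comp_apply, liftO_snd, liftO_fst, ← map_comp_apply, ← hyν] at h3
    exact h3)
  refine ⟨t, ?_, ?_⟩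
  · show F.map (fc DT cT).op t = y
    rw [← π_fD DT cT ν, ← map_comp_apply, ht, hπν]
  · intro t' ht'
    -- uniqueness
    have h4 : F.map ((cS DT cT).π.app ν).op (F.map (fD DT ν).op t') =
        F.map ((cS DT cT).π.app ν).op (F.map (fD DT ν).op t) := by
      rw [map_comp_apply, map_comp_apply, π_fD]
      have h5 : F.map (fc DT cT).op t = y := by
        rw [← π_fD DT cT ν, ← map_comp_apply, ht, hπν]
      rw [ht', h5]
    obtain ⟨j, k, hk⟩ := exists_eq hcol ν _ _ h4
    rw [map_comp_apply, map_comp_apply, map_fD] at hk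
    obtain ⟨t₀, -, huniq⟩ := hsh j (F.map (fD DT j).op t) (by
      intro Z p₁ p₂ hp
      rw [map_comp_apply, map_comp_apply, hp])
    rw [huniq t' hk, huniq t rfl]

end Main

end Groth.Agent.Lib.H79HLimitSheaf
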