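/-
Sheaf conditions for the V topology (helper12): a presheaf on schemes is a sheaf for all V coverings
iff it is a Zariski sheaf and a sheaf for standard V coverings.
-/
import Groth.Agent.Lib.HTopBasic
import Groth.Agent.Lib.VCoverSubmersive
import Mathlib.AlgebraicGeometry.Sites.BigZariski

set_option autoImplicit false
universe v w w' u
open CategoryTheory CategoryTheory.Limits AlgebraicGeometry Opposite

namespace Groth.Agent.Lib.VSheaf

open HTop Groth.Agent.Lib.HTopBasic

section Reindex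

/-- reindexing a standard V covering along a surjection from a finite type -/
theorem isStandardV_restrictIndex {T : Scheme.{u}} {E : PreZeroHypercover.{w} T}
    (hE : IsStandardV E) {ι : Type w'} [Finite ι] (r : ι → E.I₀) (hr : Function.Surjective r) :
    IsStandardV (E.restrictIndex r) := by
  refine ⟨hE.isAffine, inferInstanceAs (Finite ι), fun j => hE.isAffine_obj (r j), ?_⟩
  intro V _ _ g
  obtain ⟨W, hWd, hWv, φ, hφ, j, g', hg'⟩ := hE.lift V g
  obtain ⟨k, rfl⟩ := hr j
  exact ⟨W, hWd, hWv, φ, hφ, k, g', hg'⟩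

/-- a standard V covering is a V covering -/
theorem isVCover_of_isStandardV {T : Scheme.{u}} {E : PreZeroHypercover.{w} T}
    (hE : IsStandardV E) : IsVCover E := by
  intro U
  have hU : IsAffine ((U : T.Opens) : Scheme.{u}) := U.2
  have hfin : Finite E.I₀ := hE.finite_index
  obtain ⟨n, ⟨e⟩⟩ := Finite.exists_equiv_fin E.I₀
  have h1 : IsStandardV (E.pullback₁ (U : T.Opens).ι) :=
    isStandardV_pullback₁ (U : T.Opens).ι E hE
  have h2 := isStandardV_restrictIndex h1 (ι := Fin n) (fun k => (e.symm k : E.I₀))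
    e.symm.surjective
  refine ⟨_, h2, ?_⟩
  intro k
  exact ⟨e.symm k, pullback.snd (U : T.Opens).ι (E.f (e.symm k)), pullback.condition.symm⟩

/-- a jointly surjective family of open immersions is a V covering -/
theorem isVCover_of_isOpenImmersion {T : Scheme.{u}} (E : PreZeroHypercover.{w} T)
    (hopen : ∀ j, IsOpenImmersion (E.f j)) (hsurj : ∀ t : T, ∃ j, t ∈ Set.range (E.f j)) :
    IsVCover E := by
  classical
  intro U
  have hUaff : IsAffineOpen (U : T.Opens) := U.2
  -- choose for each point of `U` an index and an affine open inside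
  have h1 : ∀ x : (U : T.Opens), ∃ (j : E.I₀) (V : T.Opens), IsAffineOpen V ∧ x.1 ∈ V ∧
      V ≤ (U : T.Opens) ∧ (V : Set T) ⊆ Set.range (E.f j) := fun x => by
    obtain ⟨j, hj⟩ := hsurj x.1
    have := hopen j
    obtain ⟨V, hV, hxV, hle⟩ := exists_isAffineOpen_mem_and_subset (X := T) (x := x.1)
      (U := (U : T.Opens) ⊓ (E.f j).opensRange) ⟨x.2, hj⟩
    exact ⟨j, V, hV, hxV, hle.trans inf_le_left, fun y hy => (hle hy).2⟩
  choose idx V hVaff hxV hVU hVr using h1
  obtain ⟨s, hs⟩ := hUaff.isCompact.elim_finite_subcover (fun x => (V x : Set T))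
    (fun x => (V x).2) (fun x hx => Set.mem_iUnion.mpr ⟨⟨x, hx⟩, hxV ⟨x, hx⟩⟩)
  let e : Fin s.card ≃ ↥s := s.equivFin.symm
  let pt : Fin s.card → (U : T.Opens) := fun k => (e k).1
  let F : PreZeroHypercover.{0} ((U : T.Opens) : Scheme.{u}) :=
    { I₀ := Fin s.card
      X := fun k => ((V (pt k) : T.Opens) : Scheme.{u})
      f := fun k => T.homOfLE (hVU (pt k)) }
  have hFι : ∀ k, F.f k ≫ (U : T.Opens).ι = (V (pt k)).ι := fun k => T.homOfLE_ι (hVU (pt k))
  have hF : IsStandardV F := by
    have : Finite F.I₀ := inferInstanceAs (Finite (Fin s.card))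
    have : IsAffine ((U : T.Opens) : Scheme.{u}) := hUaff
    refine isStandardV_of_isOpenImmersion F (fun k => hVaff (pt k))
      (fun k => inferInstanceAs (IsOpenImmersion (T.homOfLE (hVU (pt k))))) (fun t => ?_)
    have ht := hs t.2
    simp only [Set.mem_iUnion] at ht
    obtain ⟨x, hxs, htx⟩ := ht
    refine ⟨e.symm ⟨x, hxs⟩, ⟨⟨t.1, ?_⟩, ?_⟩⟩
    · show t.1 ∈ V (pt (e.symm ⟨x, hxs⟩))
      simp only [pt, Equiv.apply_symm_apply]
      exact htx
    · apply (U : T.Opens).ι.isOpenEmbedding.injective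
      rw [← Scheme.Hom.comp_apply, hFι]
      rfl
  refine ⟨F, hF, ?_⟩
  intro k
  have := hopen (idx (pt k))
  have hsub : Set.range (V (pt k)).ι ⊆ Set.range (E.f (idx (pt k))) := by
    rw [Scheme.Opens.range_ι]; exact hVr (pt k)
  exact ⟨idx (pt k), IsOpenImmersion.lift (E.f (idx (pt k))) (V (pt k)).ι hsub, by
    rw [IsOpenImmersion.lift_fac, hFι]⟩

end Reindex

section Sheaf

variable (F : Scheme.{u}ᵒᵖ ⥤ Type v)

/-- restriction notation -/
local notation:max a " |_ " f:max => F.map (Quiver.Hom.op f) a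

lemma map_comp_apply {X Y Z : Scheme.{u}} (f : X ⟶ Y) (g : Y ⟶ Z) (a : F.obj (op Z)) :
    F.map f.op (F.map g.op a) = F.map (f ≫ g).op a := by
  rw [op_comp, F.map_comp]; rfl

/-- Zariski separatedness in explicit form -/
theorem zar_ext (hZ : Presieve.IsSheaf Scheme.zariskiTopology F) {W : Scheme.{u}} {ι : Type w}
    (Y : ι → Scheme.{u}) (f : ∀ i, Y i ⟶ W) (hopen : ∀ i, IsOpenImmersion (f i))
    (hsurj : ∀ x, ∃ i, x ∈ Set.range (f i)) (a b : F.obj (op W))
    (h : ∀ i, F.map (f i).op a = F.map (f i).op b) : a = b := by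
  have hmem : Presieve.ofArrows Y f ∈ Scheme.precoverage @IsOpenImmersion W :=
    (Scheme.ofArrows_mem_precoverage_iff _).mpr ⟨hsurj, hopen⟩
  have hsh : (Presieve.ofArrows Y f).IsSheafFor F :=
    Presieve.IsSheaf.isSheafFor_of_mem_precoverage hZ hmem
  exact hsh.isSeparatedFor.ext (fun Z g ⟨i⟩ => h i)

/-- Zariski gluing in explicit form -/
theorem zar_glue (hZ : Presieve.IsSheaf Scheme.zariskiTopology F) {W : Scheme.{u}} {ι : Type w}
    (Y : ι → Scheme.{u}) (f : ∀ i, Y i ⟶ W) (hopen : ∀ i, IsOpenImmersion (f i))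
    (hsurj : ∀ x, ∃ i, x ∈ Set.range (f i)) (x : ∀ i, F.obj (op (Y i)))
    (hx : Presieve.Arrows.Compatible F f x) : ∃ t : F.obj (op W), ∀ i, F.map (f i).op t = x i := by
  have hmem : Presieve.ofArrows Y f ∈ Scheme.precoverage @IsOpenImmersion W :=
    (Scheme.ofArrows_mem_precoverage_iff _).mpr ⟨hsurj, hopen⟩
  have hsh : (Presieve.ofArrows Y f).IsSheafFor F :=
    Presieve.IsSheaf.isSheafFor_of_mem_precoverage hZ hmem
  obtain ⟨t, ht, -⟩ := (Presieve.isSheafFor_arrows_iff F f).mp hsh x hx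
  exact ⟨t, ht⟩

/-- the sheaf condition for standard V coverings indexed in universe `u` implies the one for
standard V coverings indexed in universe 0 -/
theorem std_isSheafFor (hS : ∀ (T : Scheme.{u}) (E : PreZeroHypercover.{u} T), IsStandardV E →
    Presieve.IsSheafFor F E.presieve₀) {T : Scheme.{u}} (G : PreZeroHypercover.{0} T)
    (hG : IsStandardV G) : Presieve.IsSheafFor F G.presieve₀ := by
  have : Finite G.I₀ := hG.finite_index
  have h := hS T (G.restrictIndex (ULift.down : ULift.{u} G.I₀ → G.I₀))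
    (isStandardV_restrictIndex hG _ ULift.down_surjective)
  have heq : (G.restrictIndex (ULift.down : ULift.{u} G.I₀ → G.I₀)).presieve₀ = G.presieve₀ := by
    refine le_antisymm ?_ ?_
    · rintro Y g ⟨i⟩
      exact ⟨i.down⟩
    · rintro Y g ⟨i⟩
      exact Presieve.ofArrows.mk (ι := ULift.{u} G.I₀) (ULift.up i)
  rwa [heq] at h

variable (hZ : Presieve.IsSheaf Scheme.zariskiTopology F)
  (hS : ∀ (T : Scheme.{u}) (E : PreZeroHypercover.{u} T), IsStandardV E →
    Presieve.IsSheafFor F E.presieve₀)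

include hZ hS in
/-- V-local separatedness: two sections on `W` agreeing on every `Y ⟶ W` whose composite to `X`
factors through a member of a V covering `E` of `X` are equal. -/
theorem ext_of_isVCover {X : Scheme.{u}} (E : PreZeroHypercover.{w} X) (hE : IsVCover E)
    {W : Scheme.{u}} (k : W ⟶ X) (a b : F.obj (op W))
    (h : ∀ (Y : Scheme.{u}) (y : Y ⟶ W) (i : E.I₀) (v : Y ⟶ E.X i), v ≫ E.f i = y ≫ k →
      F.map y.op a = F.map y.op b) : a = b := by
  -- check on affine opens
  refine zar_ext F hZ (fun U : W.affineOpens => ((U : W.Opens) : Scheme.{u}))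
    (fun U => (U : W.Opens).ι) (fun U => inferInstance) (fun x => ?_) a b (fun U => ?_)
  · obtain ⟨U, hU, hxU, -⟩ := exists_isAffineOpen_mem_and_subset (X := W) (x := x) (U := ⊤) trivial
    refine ⟨⟨U, hU⟩, ?_⟩
    rw [Scheme.Opens.range_ι]; exact hxU
  · have hUaff : IsAffine ((U : W.Opens) : Scheme.{u}) := U.2
    obtain ⟨H, hH, href⟩ := exists_standardV_refinesOver ((U : W.Opens).ι ≫ k) E hE
    refine (std_isSheafFor F hS H hH).isSeparatedFor.ext ?_
    rintro Y g ⟨c⟩
    obtain ⟨i, v, hv⟩ := href c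
    rw [map_comp_apply, map_comp_apply]
    exact h _ (H.f c ≫ (U : W.Opens).ι) i v (by rw [hv, Category.assoc])

include hZ hS in
/-- a Zariski sheaf which is a sheaf for standard V coverings is a sheaf for all V coverings -/
theorem isSheafFor_of_isVCover {X : Scheme.{u}} (E : PreZeroHypercover.{w} X) (hE : IsVCover E) :
    Presieve.IsSheafFor F E.presieve₀ := by
  classical
  rw [show E.presieve₀ = Presieve.ofArrows E.X E.f from rfl, Presieve.isSheafFor_arrows_iff]
  intro x hx
  -- choices for each affine open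
  have h1 : ∀ U : X.affineOpens, ∃ G : PreZeroHypercover.{0} ((U : X.Opens) : Scheme.{u}),
      IsStandardV G ∧ RefinesOver (U : X.Opens).ι G E := hE
  choose G hG href using h1
  choose idx hh hhw using href
  -- local sections
  have h2 : ∀ U : X.affineOpens, ∃ sU : F.obj (op ((U : X.Opens) : Scheme.{u})),
      ∀ a, F.map ((G U).f a).op sU = F.map (hh U a).op (x (idx U a)) := by
    intro U
    have hsh := std_isSheafFor F hS (G U) (hG U)
    rw [show (G U).presieve₀ = Presieve.ofArrows (G U).X (G U).f from rfl,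
      Presieve.isSheafFor_arrows_iff] at hsh
    obtain ⟨t, ht, -⟩ := hsh (fun a => F.map (hh U a).op (x (idx U a))) (by
      intro a b Z ga gb hgab
      rw [map_comp_apply, map_comp_apply]
      exact hx _ _ Z (ga ≫ hh U a) (gb ≫ hh U b) (by
        rw [Category.assoc, Category.assoc, hhw, hhw, ← Category.assoc, hgab, Category.assoc]))
    exact ⟨t, ht⟩
  choose sU hsU using h2
  -- (★)
  have star : ∀ (U : X.affineOpens) (W : Scheme.{u}) (w : W ⟶ ((U : X.Opens) : Scheme.{u}))
      (i : E.I₀) (v : W ⟶ E.X i), v ≫ E.f i = w ≫ (U : X.Opens).ι →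
      F.map w.op (sU U) = F.map v.op (x i) := by
    intro U W w i v hvw
    refine ext_of_isVCover F hZ hS (G U) (isVCover_of_isStandardV (hG U)) w _ _ ?_
    intro Y y a v' hv'
    rw [map_comp_apply, map_comp_apply, ← hv', ← map_comp_apply, hsU, map_comp_apply]
    exact hx _ _ Y (v' ≫ hh U a) (y ≫ v) (by
      rw [Category.assoc, hhw, ← Category.assoc, hv', Category.assoc, Category.assoc, hvw])
  -- compatibility of the local sections
  have hcomp : Presieve.Arrows.Compatible F (fun U : X.affineOpens => (U : X.Opens).ι) sU := by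
    intro U U' W w w' hww'
    refine ext_of_isVCover F hZ hS E hE (w ≫ (U : X.Opens).ι) _ _ ?_
    intro Y y i v hv
    rw [map_comp_apply, map_comp_apply, star U Y (y ≫ w) i v (by rw [hv, Category.assoc]),
      star U' Y (y ≫ w') i v (by rw [hv, Category.assoc, hww'])]
  -- glue
  obtain ⟨s, hs⟩ := zar_glue F hZ (fun U : X.affineOpens => ((U : X.Opens) : Scheme.{u}))
    (fun U => (U : X.Opens).ι) (fun U => inferInstance) (fun p => by
      obtain ⟨U, hU, hpU, -⟩ :=
        exists_isAffineOpen_mem_and_subset (X := X) (x := p) (U := ⊤) trivial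
      refine ⟨⟨U, hU⟩, ?_⟩
      rw [Scheme.Opens.range_ι]; exact hpU) sU hcomp
  have hsx : ∀ i, F.map (E.f i).op s = x i := by
    intro i
    refine zar_ext F hZ
      (fun U : X.affineOpens => (((E.f i) ⁻¹ᵁ (U : X.Opens) : (E.X i).Opens) : Scheme.{u}))
      (fun U => ((E.f i) ⁻¹ᵁ (U : X.Opens)).ι) (fun U => inferInstance) (fun p => ?_) _ _
      (fun U => ?_)
    · obtain ⟨U, hU, hpU, -⟩ :=
        exists_isAffineOpen_mem_and_subset (X := X) (x := E.f i p) (U := ⊤) trivial
      refine ⟨⟨U, hU⟩, ?_⟩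
      rw [Scheme.Opens.range_ι]; exact hpU
    · rw [map_comp_apply, ← morphismRestrict_ι, ← map_comp_apply, hs]
      exact star U _ (E.f i ∣_ (U : X.Opens)) i ((E.f i) ⁻¹ᵁ (U : X.Opens)).ι
        (morphismRestrict_ι _ _).symm
  refine ⟨s, hsx, ?_⟩
  intro s' hs'
  refine ext_of_isVCover F hZ hS E hE (𝟙 X) _ _ ?_
  intro Y y i v hv
  rw [Category.comp_id] at hv
  rw [← hv, ← map_comp_apply, ← map_comp_apply, hs' i, hsx i]

omit hZ hS in
/-- a V sheaf is a sheaf for standard V coverings -/
theorem isSheafFor_of_isStandardV_of_isVSheaf (hV : IsVSheaf F) {T : Scheme.{u}}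
    (E : PreZeroHypercover.{w} T) (hE : IsStandardV E) : Presieve.IsSheafFor F E.presieve₀ :=
  hV _ ((presieve₀_mem_vPrecoverage_iff E).mpr (isVCover_of_isStandardV hE))

omit hZ hS in
/-- a V sheaf is a Zariski sheaf -/
theorem isSheaf_zariski_of_isVSheaf (hV : IsVSheaf F) :
    Presieve.IsSheaf Scheme.zariskiTopology F := by
  rw [Scheme.zariskiTopology, Scheme.grothendieckTopology, Precoverage.isSheaf_toGrothendieck_iff]
  intro X Y f R hR
  obtain ⟨E, rfl⟩ := R.exists_eq_preZeroHypercover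
  rw [← Sieve.pullbackArrows_comm, ← Presieve.isSheafFor_iff_generate,
    ← PreZeroHypercover.presieve₀_pullback₁]
  apply hV
  rw [presieve₀_mem_vPrecoverage_iff]
  have hR' := (Scheme.ofArrows_mem_precoverage_iff _).mp hR
  refine isVCover_of_isOpenImmersion _ (fun i => ?_) (fun y => ?_)
  · have := hR'.2 i
    show IsOpenImmersion (pullback.snd (E.f i) f)
    infer_instance
  · obtain ⟨i, hi⟩ := hR'.1 (f y)
    refine ⟨i, ?_⟩
    show y ∈ Set.range (pullback.snd (E.f i) f)
    rw [Scheme.Pullback.range_snd]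
    exact hi

omit hZ hS in
theorem isVSheaf_iff : IsVSheaf F ↔ (Presieve.IsSheaf Scheme.zariskiTopology F ∧
    ∀ (T : Scheme.{u}) (E : PreZeroHypercover.{u} T), IsStandardV E →
      Presieve.IsSheafFor F E.presieve₀) := by
  refine ⟨fun hV => ⟨isSheaf_zariski_of_isVSheaf F hV,
    fun T E hE => isSheafFor_of_isStandardV_of_isVSheaf F hV E hE⟩, fun ⟨hZ, hS⟩ => ?_⟩
  intro X R hR
  rw [vPrecoverage, PreZeroHypercoverFamily.mem_precoverage_iff] at hR
  obtain ⟨E, hE, rfl⟩ := hR
  exact isSheafFor_of_isVCover F hZ hS E hE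

omit hZ hS in
/-- the one-member family `∐ E.X ⟶ T` of a standard V covering is a standard V covering -/
theorem isStandardV_singleton_sigmaDesc {T : Scheme.{u}} (E : PreZeroHypercover.{u} T)
    (hE : IsStandardV E) : IsStandardV (PreZeroHypercover.singleton.{w} (Sigma.desc E.f)) := by
  have hfin : Finite E.I₀ := hE.finite_index
  have haff : ∀ j, IsAffine (E.X j) := hE.isAffine_obj
  refine ⟨hE.isAffine, inferInstanceAs (Finite PUnit), fun _ => ?_, ?_⟩
  · show IsAffine (∐ E.X)
    infer_instance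
  · intro V _ _ g
    obtain ⟨W, hWd, hWv, φ, hφ, j, g', hg'⟩ := hE.lift V g
    refine ⟨W, hWd, hWv, φ, hφ, PUnit.unit, (g' ≫ Sigma.ι E.X j : Spec W ⟶ ∐ E.X), ?_⟩
    show (g' ≫ Sigma.ι E.X j) ≫ Sigma.desc E.f = Spec.map φ ≫ g
    rw [Category.assoc, Sigma.ι_desc, hg']

omit hS in
include hZ in
/-- reduction of the sheaf condition for a standard V covering to the one-member family -/
theorem isSheafFor_of_singleton
    (hS₁ : ∀ (U V : Scheme.{u}) (f : V ⟶ U), IsStandardV (PreZeroHypercover.singleton.{w'} f) →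
      Presieve.IsSheafFor F (Presieve.singleton f))
    (T : Scheme.{u}) (E : PreZeroHypercover.{u} T) (hE : IsStandardV E) :
    Presieve.IsSheafFor F E.presieve₀ := by
  have hfin : Finite E.I₀ := hE.finite_index
  have : PreservesLimitsOfShape (Discrete (E.I₀ × E.I₀)) F :=
    preservesLimitsOfShape_discrete_of_isSheaf_zariskiTopology hZ
  have : PreservesLimitsOfShape (Discrete E.I₀) F :=
    preservesLimitsOfShape_discrete_of_isSheaf_zariskiTopology hZ
  show Presieve.IsSheafFor F (Presieve.ofArrows E.X E.f)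
  rw [← Presieve.isSheafFor_sigmaDesc_iff E.f (coproductIsCoproduct _)
    (FinitaryExtensive.isVanKampen_finiteCoproducts (coproductIsCoproduct _)).isUniversal]
  exact hS₁ _ _ _ (isStandardV_singleton_sigmaDesc E hE)

omit hZ hS in
theorem isVSheaf_iff_singleton : IsVSheaf F ↔ (Presieve.IsSheaf Scheme.zariskiTopology F ∧
    ∀ (U V : Scheme.{u}) (f : V ⟶ U), IsStandardV (PreZeroHypercover.singleton.{w'} f) →
      Presieve.IsSheafFor F (Presieve.singleton f)) := by
  refine ⟨fun hV => ⟨isSheaf_zariski_of_isVSheaf F hV, fun U V f hf => ?_⟩, fun ⟨hZ, hS₁⟩ => ?_⟩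
  · have := isSheafFor_of_isStandardV_of_isVSheaf F hV _ hf
    rwa [PreZeroHypercover.presieve₀_singleton] at this
  · exact (isVSheaf_iff F).mpr ⟨hZ, isSheafFor_of_singleton F hZ hS₁⟩

end Sheaf

end Groth.Agent.Lib.VSheaf
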