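/-
Sheaf criterion for the V topology on schemes over a base `S` (helper79), a port to `Over S` of
helper12's `Lib/VSheaf`: a presheaf on `Over S` has the sheaf property for all V coverings as soon
as it has it for Zariski coverings and for one-member standard V coverings.
-/
import Groth.Agent.Lib.VSheaf

set_option autoImplicit false
universe v w w' u
open CategoryTheory CategoryTheory.Limits AlgebraicGeometry Opposite

namespace Groth.Agent.Lib.H79VSheafOver

open HTop Groth.Agent.Lib.HTopBasic Groth.Agent.Lib.VSheaf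

variable {S : Scheme.{u}}

/-- the `S`-scheme structure induced on the source of a morphism to an `S`-scheme -/
abbrev liftX (W : Over S) {Y : Scheme.{u}} (y : Y ⟶ W.left) : Over S := Over.mk (y ≫ W.hom)

/-- the tautological morphism of `S`-schemes -/
abbrev liftHom (W : Over S) {Y : Scheme.{u}} (y : Y ⟶ W.left) : liftX W y ⟶ W := Over.homMk y rfl

/-- a presieve of open immersions that is jointly surjective -/
def IsZarPresieve {W : Over S} (R : Presieve W) : Prop :=
  (∀ ⦃Y : Over S⦄ (g : Y ⟶ W), R g → IsOpenImmersion g.left) ∧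
    ∀ x : W.left, ∃ (Y : Over S) (g : Y ⟶ W), R g ∧ x ∈ Set.range g.left

variable (F : (Over S)ᵒᵖ ⥤ Type v)

/-- the sheaf property for Zariski coverings -/
def ZarOver : Prop := ∀ (W : Over S) (R : Presieve W), IsZarPresieve R → Presieve.IsSheafFor F R

/-- the sheaf property for standard V coverings (indexed in `Type`) -/
def StdOver : Prop := ∀ (T : Over S) (κ : Type) (Y : κ → Over S) (f : ∀ k, Y k ⟶ T),
  IsStandardV (⟨κ, fun k => (Y k).left, fun k => (f k).left⟩ : PreZeroHypercover.{0} T.left) →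
    Presieve.IsSheafFor F (Presieve.ofArrows Y f)

/-- the sheaf property for one-member standard V coverings -/
def SingOver : Prop := ∀ (T Y : Over S) (f : Y ⟶ T), IsAffine T.left → IsAffine Y.left →
  HasValLift (PreZeroHypercover.singleton.{0} f.left) → Presieve.IsSheafFor F (Presieve.singleton f)

lemma map_comp_apply {X Y Z : Over S} (f : X ⟶ Y) (g : Y ⟶ Z) (a : F.obj (op Z)) :
    F.map f.op (F.map g.op a) = F.map (f ≫ g).op a := by
  rw [op_comp, F.map_comp]; rfl

variable {F}

theorem isZarPresieve_ofArrows {W : Over S} {ι : Type w} (Y : ι → Over S) (f : ∀ i, Y i ⟶ W)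
    (hopen : ∀ i, IsOpenImmersion (f i).left) (hsurj : ∀ x : W.left, ∃ i, x ∈ Set.range (f i).left) :
    IsZarPresieve (Presieve.ofArrows Y f) := by
  refine ⟨?_, fun x => ?_⟩
  · rintro Z g ⟨i⟩
    exact hopen i
  · obtain ⟨i, hi⟩ := hsurj x
    exact ⟨Y i, f i, ⟨i⟩, hi⟩

/-- Zariski separatedness in explicit form -/
theorem zar_ext (hZ : ZarOver F) {W : Over S} {ι : Type w}
    (Y : ι → Over S) (f : ∀ i, Y i ⟶ W) (hopen : ∀ i, IsOpenImmersion (f i).left)
    (hsurj : ∀ x : W.left, ∃ i, x ∈ Set.range (f i).left) (a b : F.obj (op W))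
    (h : ∀ i, F.map (f i).op a = F.map (f i).op b) : a = b :=
  (hZ W _ (isZarPresieve_ofArrows Y f hopen hsurj)).isSeparatedFor.ext (fun Z g ⟨i⟩ => h i)

/-- Zariski gluing in explicit form -/
theorem zar_glue (hZ : ZarOver F) {W : Over S} {ι : Type w}
    (Y : ι → Over S) (f : ∀ i, Y i ⟶ W) (hopen : ∀ i, IsOpenImmersion (f i).left)
    (hsurj : ∀ x : W.left, ∃ i, x ∈ Set.range (f i).left) (x : ∀ i, F.obj (op (Y i)))
    (hx : Presieve.Arrows.Compatible F f x) : ∃ t : F.obj (op W), ∀ i, F.map (f i).op t = x i := by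
  have hsh := hZ W _ (isZarPresieve_ofArrows Y f hopen hsurj)
  obtain ⟨t, ht, -⟩ := (Presieve.isSheafFor_arrows_iff F f).mp hsh x hx
  exact ⟨t, ht⟩

/-- the affine opens of an `S`-scheme cover it -/
theorem affine_cover_surj (W : Scheme.{u}) (x : W) :
    ∃ U : W.affineOpens, x ∈ Set.range (U : W.Opens).ι := by
  obtain ⟨U, hU, hxU, -⟩ := exists_isAffineOpen_mem_and_subset (X := W) (x := x) (U := ⊤) trivial
  refine ⟨⟨U, hU⟩, ?_⟩
  rw [Scheme.Opens.range_ι]; exact hxU

/-- the sheaf condition for a standard V covering of the underlying scheme, lifted to `Over S` -/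
theorem std_isSheafFor (hS : StdOver F) (W : Over S) (G : PreZeroHypercover.{0} W.left)
    (hG : IsStandardV G) :
    Presieve.IsSheafFor F (Presieve.ofArrows (fun c => liftX W (G.f c)) (fun c => liftHom W (G.f c))) :=
  hS W G.I₀ (fun c => liftX W (G.f c)) (fun c => liftHom W (G.f c)) hG

/-- V-local separatedness: two sections on `W` agreeing on every `Y ⟶ W` whose composite to `X`
factors through a member of a V covering `E` of `X` are equal. -/
theorem ext_of_isVCover (hZ : ZarOver F) (hS : StdOver F) {X : Over S}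
    (E : PreZeroHypercover.{w} X.left) (hE : IsVCover E)
    {W : Over S} (k : W ⟶ X) (a b : F.obj (op W))
    (h : ∀ (Y : Over S) (y : Y ⟶ W) (i : E.I₀) (v : Y.left ⟶ E.X i), v ≫ E.f i = y.left ≫ k.left →
      F.map y.op a = F.map y.op b) : a = b := by
  -- check on affine opens
  refine zar_ext hZ (fun U : W.left.affineOpens => liftX W (U : W.left.Opens).ι)
    (fun U => liftHom W (U : W.left.Opens).ι) (fun U => ?_) (fun x => ?_) a b (fun U => ?_)
  · show IsOpenImmersion (U : W.left.Opens).ι
    infer_instance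
  · exact affine_cover_surj W.left x
  · have hUaff : IsAffine ((U : W.left.Opens) : Scheme.{u}) := U.2
    obtain ⟨H, hH, href⟩ := exists_standardV_refinesOver ((U : W.left.Opens).ι ≫ k.left) E hE
    refine (std_isSheafFor hS (liftX W (U : W.left.Opens).ι) H hH).isSeparatedFor.ext ?_
    rintro Y g ⟨c⟩
    obtain ⟨i, v, hv⟩ := href c
    rw [map_comp_apply, map_comp_apply]
    have hv' : v ≫ E.f i = (liftHom (liftX W (U : W.left.Opens).ι) (H.f c) ≫
        liftHom W (U : W.left.Opens).ι).left ≫ k.left := by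
      rw [hv]
      show H.f c ≫ (U : W.left.Opens).ι ≫ k.left = (H.f c ≫ (U : W.left.Opens).ι) ≫ k.left
      rw [Category.assoc]
    exact h (liftX (liftX W (U : W.left.Opens).ι) (H.f c))
      (liftHom (liftX W (U : W.left.Opens).ι) (H.f c) ≫ liftHom W (U : W.left.Opens).ι) i v hv'

/-- a Zariski sheaf which is a sheaf for standard V coverings is a sheaf for all V coverings -/
theorem isSheafFor_of_isVCover (hZ : ZarOver F) (hS : StdOver F) {X : Over S} {ι : Type w}
    (Y : ι → Over S) (f : ∀ i, Y i ⟶ X)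
    (hE : IsVCover (⟨ι, fun i => (Y i).left, fun i => (f i).left⟩ : PreZeroHypercover.{w} X.left)) :
    Presieve.IsSheafFor F (Presieve.ofArrows Y f) := by
  classical
  set E : PreZeroHypercover.{w} X.left := ⟨ι, fun i => (Y i).left, fun i => (f i).left⟩ with hEdef
  rw [Presieve.isSheafFor_arrows_iff]
  intro x hx
  -- choices for each affine open
  have h1 : ∀ U : X.left.affineOpens,
      ∃ G : PreZeroHypercover.{0} ((U : X.left.Opens) : Scheme.{u}),
      IsStandardV G ∧ RefinesOver (U : X.left.Opens).ι G E := hE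
  choose G hG href using h1
  choose idx hh hhw using href
  -- the `S`-scheme structures
  let XU : X.left.affineOpens → Over S := fun U => liftX X (U : X.left.Opens).ι
  let jU : ∀ U, XU U ⟶ X := fun U => liftHom X (U : X.left.Opens).ι
  let GX : ∀ U, (G U).I₀ → Over S := fun U a => liftX (XU U) ((G U).f a)
  let Gf : ∀ U a, GX U a ⟶ XU U := fun U a => liftHom (XU U) ((G U).f a)
  let hhO : ∀ U a, GX U a ⟶ Y (idx U a) := fun U a => Over.homMk (hh U a) (by
    have h1 : hh U a ≫ (f (idx U a)).left = (G U).f a ≫ (U : X.left.Opens).ι := hhw U a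
    have h2 : (f (idx U a)).left ≫ X.hom = (Y (idx U a)).hom := Over.w (f (idx U a))
    show hh U a ≫ (Y (idx U a)).hom = (G U).f a ≫ (U : X.left.Opens).ι ≫ X.hom
    rw [← h2, ← Category.assoc, h1, Category.assoc])
  have hhOw : ∀ U a, hhO U a ≫ f (idx U a) = Gf U a ≫ jU U := fun U a => by
    ext1
    exact hhw U a
  -- local sections
  have h2 : ∀ U : X.left.affineOpens, ∃ sU : F.obj (op (XU U)),
      ∀ a, F.map (Gf U a).op sU = F.map (hhO U a).op (x (idx U a)) := by
    intro U
    have hsh := std_isSheafFor hS (XU U) (G U) (hG U)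
    rw [Presieve.isSheafFor_arrows_iff] at hsh
    obtain ⟨t, ht, -⟩ := hsh (fun a => F.map (hhO U a).op (x (idx U a))) (by
      intro a b Z ga gb hgab
      rw [map_comp_apply, map_comp_apply]
      exact hx _ _ Z (ga ≫ hhO U a) (gb ≫ hhO U b) (by
        rw [Category.assoc, Category.assoc, hhOw, hhOw, ← Category.assoc, hgab, Category.assoc]))
    exact ⟨t, ht⟩
  choose sU hsU using h2
  -- (★)
  have star : ∀ (U : X.left.affineOpens) (W : Over S) (w : W ⟶ XU U)
      (i : ι) (v : W ⟶ Y i), v ≫ f i = w ≫ jU U →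
      F.map w.op (sU U) = F.map v.op (x i) := by
    intro U W w i v hvw
    refine ext_of_isVCover hZ hS (G U) (isVCover_of_isStandardV (hG U)) w _ _ ?_
    intro Y' y a v' hv'
    let v'O : Y' ⟶ GX U a := Over.homMk v' (by
      show v' ≫ (G U).f a ≫ (XU U).hom = Y'.hom
      rw [← Category.assoc, hv', Category.assoc, Over.w w, Over.w y])
    have hv'O : v'O ≫ Gf U a = y ≫ w := by
      ext1
      exact hv'
    rw [map_comp_apply, map_comp_apply, ← hv'O, ← map_comp_apply, hsU, map_comp_apply]
    exact hx _ _ Y' (v'O ≫ hhO U a) (y ≫ v) (by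
      rw [Category.assoc, hhOw, ← Category.assoc, hv'O, Category.assoc, Category.assoc, hvw])
  -- compatibility of the local sections
  have hcomp : Presieve.Arrows.Compatible F jU sU := by
    intro U U' W w w' hww'
    refine ext_of_isVCover hZ hS E hE (w ≫ jU U) _ _ ?_
    intro Y' y i v hv
    let vO : Y' ⟶ Y i := Over.homMk v (by
      have h2 : (f i).left ≫ X.hom = (Y i).hom := Over.w (f i)
      have h3 : v ≫ (f i).left = y.left ≫ (w ≫ jU U).left := hv
      rw [← h2, ← Category.assoc, h3, Category.assoc, Over.w (w ≫ jU U), Over.w y])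
    have hvO : vO ≫ f i = y ≫ w ≫ jU U := by
      ext1
      exact hv
    rw [map_comp_apply, map_comp_apply, star U Y' (y ≫ w) i vO (by rw [hvO, Category.assoc]),
      star U' Y' (y ≫ w') i vO (by rw [hvO, Category.assoc, hww'])]
  -- glue
  obtain ⟨s, hs⟩ := zar_glue hZ XU jU (fun U => by
      show IsOpenImmersion (U : X.left.Opens).ι
      infer_instance) (fun p => affine_cover_surj X.left p) sU hcomp
  have hsx : ∀ i, F.map (f i).op s = x i := by
    intro i
    refine zar_ext hZ
      (fun U : X.left.affineOpens => liftX (Y i) ((f i).left ⁻¹ᵁ (U : X.left.Opens)).ι)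
      (fun U => liftHom (Y i) ((f i).left ⁻¹ᵁ (U : X.left.Opens)).ι) (fun U => ?_) (fun p => ?_) _ _
      (fun U => ?_)
    · show IsOpenImmersion ((f i).left ⁻¹ᵁ (U : X.left.Opens)).ι
      infer_instance
    · obtain ⟨U, hU⟩ := affine_cover_surj X.left ((f i).left p)
      refine ⟨U, ?_⟩
      show p ∈ Set.range ((f i).left ⁻¹ᵁ (U : X.left.Opens)).ι
      rw [Scheme.Opens.range_ι] at hU ⊢
      exact hU
    · let r : liftX (Y i) ((f i).left ⁻¹ᵁ (U : X.left.Opens)).ι ⟶ XU U :=
        Over.homMk ((f i).left ∣_ (U : X.left.Opens)) (by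
          show ((f i).left ∣_ (U : X.left.Opens)) ≫ (U : X.left.Opens).ι ≫ X.hom =
            ((f i).left ⁻¹ᵁ (U : X.left.Opens)).ι ≫ (Y i).hom
          rw [← Category.assoc, morphismRestrict_ι, Category.assoc, Over.w (f i)])
      have hr : r ≫ jU U = liftHom (Y i) ((f i).left ⁻¹ᵁ (U : X.left.Opens)).ι ≫ f i := by
        ext1
        exact morphismRestrict_ι _ _
      rw [map_comp_apply, ← hr, ← map_comp_apply, hs]
      exact star U _ r i (liftHom (Y i) ((f i).left ⁻¹ᵁ (U : X.left.Opens)).ι) hr.symm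
  refine ⟨s, hsx, ?_⟩
  intro s' hs'
  refine ext_of_isVCover hZ hS E hE (𝟙 X) _ _ ?_
  intro Y' y i v hv
  let vO : Y' ⟶ Y i := Over.homMk v (by
    have h2 : (f i).left ≫ X.hom = (Y i).hom := Over.w (f i)
    have h3 : v ≫ (f i).left = y.left ≫ (𝟙 X : X ⟶ X).left := hv
    rw [← h2, ← Category.assoc, h3, Category.assoc, Over.w (𝟙 X), Over.w y])
  have hvO : vO ≫ f i = y := by
    ext1
    have h3 : v ≫ (f i).left = y.left ≫ (𝟙 X : X ⟶ X).left := hv
    rw [Over.comp_left]
    show v ≫ (f i).left = y.left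
    rw [h3]
    exact Category.comp_id _
  rw [← hvO, ← map_comp_apply, ← map_comp_apply, hs' i, hsx i]

/-- reduction of the sheaf condition for standard V coverings to one-member ones -/
theorem stdOver_of_singOver (hZ : ZarOver F) (h1 : SingOver F) : StdOver F := by
  intro T κ Y f hstd
  have hfin : Finite κ := hstd.finite_index
  have hT : IsAffine T.left := hstd.isAffine
  have haff : ∀ k, IsAffine (Y k).left := hstd.isAffine_obj
  -- the coproduct as an `S`-scheme
  let PO : Over S := Over.mk (Sigma.desc fun k => (Y k).hom)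
  let ιO : ∀ k, Y k ⟶ PO := fun k => Over.homMk (Sigma.ι (fun k => (Y k).left) k) (by
    show Sigma.ι (fun k => (Y k).left) k ≫ Sigma.desc (fun k => (Y k).hom) = (Y k).hom
    rw [Sigma.ι_desc])
  let fO : PO ⟶ T := Over.homMk (Sigma.desc fun k => (f k).left) (by
    show Sigma.desc (fun k => (f k).left) ≫ T.hom = Sigma.desc fun k => (Y k).hom
    apply Sigma.hom_ext
    intro k
    rw [← Category.assoc, Sigma.ι_desc, Sigma.ι_desc, Over.w (f k)])
  have hιf : ∀ k, ιO k ≫ fO = f k := fun k => by
    ext1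
    show Sigma.ι (fun k => (Y k).left) k ≫ Sigma.desc (fun k => (f k).left) = (f k).left
    rw [Sigma.ι_desc]
  have hopen : ∀ k, IsOpenImmersion (ιO k).left := fun k => by
    show IsOpenImmersion (Sigma.ι (fun k => (Y k).left) k)
    infer_instance
  have hsurj : ∀ p : PO.left, ∃ k, p ∈ Set.range (ιO k).left := fun p => by
    obtain ⟨k, q, hq⟩ := (sigmaOpenCover (fun k => (Y k).left)).exists_eq p
    exact ⟨k, q, hq⟩
  -- the one-member covering
  have hsing : Presieve.IsSheafFor F (Presieve.singleton fO) := by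
    refine h1 T PO fO hT ?_ ?_
    · show IsAffine (∐ fun k => (Y k).left)
      infer_instance
    · intro V _ _ g
      obtain ⟨W, hWd, hWv, φ, hφ, j, g', hg'⟩ := hstd.lift V g
      refine ⟨W, hWd, hWv, φ, hφ, PUnit.unit,
        (g' ≫ Sigma.ι (fun k => (Y k).left) j : Spec W ⟶ ∐ fun k => (Y k).left), ?_⟩
      show (g' ≫ Sigma.ι (fun k => (Y k).left) j) ≫ Sigma.desc (fun k => (f k).left) =
        Spec.map φ ≫ g
      rw [Category.assoc, Sigma.ι_desc]
      exact hg'
  rw [Presieve.isSheafFor_singleton] at hsing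
  rw [Presieve.isSheafFor_arrows_iff]
  intro x hx
  -- glue on the coproduct
  obtain ⟨y, hy⟩ := zar_glue hZ Y ιO hopen hsurj x (by
    intro a b Z ga gb hgab
    exact hx a b Z ga gb (by rw [← hιf a, ← hιf b, ← Category.assoc, hgab, Category.assoc]))
  -- `y` is compatible
  have hycompat : ∀ {Z : Over S} (p₁ p₂ : Z ⟶ PO), p₁ ≫ fO = p₂ ≫ fO →
      F.map p₁.op y = F.map p₂.op y := by
    intro Z p₁ p₂ hp
    let ZU : κ × κ → Z.left.Opens := fun ab =>
      (p₁.left ⁻¹ᵁ (ιO ab.1).left.opensRange) ⊓ (p₂.left ⁻¹ᵁ (ιO ab.2).left.opensRange)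
    refine zar_ext hZ (fun ab : κ × κ => liftX Z (ZU ab).ι) (fun ab => liftHom Z (ZU ab).ι)
      (fun ab => ?_) (fun z => ?_) _ _ (fun ab => ?_)
    · show IsOpenImmersion (ZU ab).ι
      infer_instance
    · obtain ⟨a, ha⟩ := hsurj (p₁.left z)
      obtain ⟨b, hb⟩ := hsurj (p₂.left z)
      refine ⟨(a, b), ?_⟩
      show z ∈ Set.range (ZU (a, b)).ι
      rw [Scheme.Opens.range_ι]
      exact ⟨ha, hb⟩
    · have hr1 : Set.range ((ZU ab).ι ≫ p₁.left) ⊆ Set.range (ιO ab.1).left := by
        rintro _ ⟨z, rfl⟩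
        exact z.2.1
      have hr2 : Set.range ((ZU ab).ι ≫ p₂.left) ⊆ Set.range (ιO ab.2).left := by
        rintro _ ⟨z, rfl⟩
        exact z.2.2
      let q₁ : liftX Z (ZU ab).ι ⟶ Y ab.1 :=
        Over.homMk (IsOpenImmersion.lift (ιO ab.1).left ((ZU ab).ι ≫ p₁.left) hr1) (by
          have h2 : (ιO ab.1).left ≫ PO.hom = (Y ab.1).hom := Over.w (ιO ab.1)
          rw [← h2, ← Category.assoc, IsOpenImmersion.lift_fac, Category.assoc, Over.w p₁]
          rfl)
      let q₂ : liftX Z (ZU ab).ι ⟶ Y ab.2 :=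
        Over.homMk (IsOpenImmersion.lift (ιO ab.2).left ((ZU ab).ι ≫ p₂.left) hr2) (by
          have h2 : (ιO ab.2).left ≫ PO.hom = (Y ab.2).hom := Over.w (ιO ab.2)
          rw [← h2, ← Category.assoc, IsOpenImmersion.lift_fac, Category.assoc, Over.w p₂]
          rfl)
      have hq₁ : q₁ ≫ ιO ab.1 = liftHom Z (ZU ab).ι ≫ p₁ := by
        ext1
        exact IsOpenImmersion.lift_fac _ _ _
      have hq₂ : q₂ ≫ ιO ab.2 = liftHom Z (ZU ab).ι ≫ p₂ := by
        ext1
        exact IsOpenImmersion.lift_fac _ _ _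
      rw [map_comp_apply, map_comp_apply, ← hq₁, ← hq₂, ← map_comp_apply, ← map_comp_apply,
        hy, hy]
      exact hx _ _ _ q₁ q₂ (by
        rw [← hιf ab.1, ← hιf ab.2, ← Category.assoc, ← Category.assoc, hq₁, hq₂,
          Category.assoc, Category.assoc, hp])
  obtain ⟨t, ht, htuniq⟩ := hsing y hycompat
  refine ⟨t, fun k => ?_, fun t' ht' => ?_⟩
  · rw [← hιf k, ← map_comp_apply, ht, hy]
  · apply htuniq
    refine zar_ext hZ Y ιO hopen hsurj _ _ (fun k => ?_)
    rw [map_comp_apply, hιf, ht' k, hy]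

/-- Main criterion: a presheaf on `Over S` which is a sheaf for Zariski coverings and for
one-member standard V coverings has the sheaf property for every V covering. -/
theorem isVSheafOver_of (hZ : ZarOver F) (h1 : SingOver F) : IsVSheafOver S F := by
  intro X R hR
  obtain ⟨E, rfl⟩ := R.exists_eq_preZeroHypercover
  have hmap : E.presieve₀.map (Over.forget S) =
      (⟨E.I₀, fun i => (E.X i).left, fun i => (E.f i).left⟩ :
        PreZeroHypercover.{max u (u+1)} X.left).presieve₀ := by
    show (Presieve.ofArrows E.X E.f).map (Over.forget S) = _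
    rw [Presieve.map_ofArrows]
    rfl
  rw [hmap] at hR
  exact isSheafFor_of_isVCover hZ (stdOver_of_singOver hZ h1) E.X E.f
    ((presieve₀_mem_vPrecoverage_iff _).mp hR)

end Groth.Agent.Lib.H79VSheafOver
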