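/-
Finite families of universally closed quasi-compact morphisms that are jointly surjective are
V coverings; finite jointly surjective families of proper morphisms locally of finite presentation
generate covering sieves of the h topology (helper52).
-/
import Groth.Agent.S7476
import Groth.Agent.Lib.ValSpecialize
import Groth.Agent.Lib.HTopBasic

set_option autoImplicit false
universe u
open CategoryTheory CategoryTheory.Limits AlgebraicGeometry Opposite IsLocalRing

namespace Groth.Agent.Lib.HCoverFinH52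

open HTop Groth.Agent.Lib.ValSpecialize Groth.Agent.Lib.HTopBasic

/-- valuative lifting along a morphism satisfying the existence part of the valuative criterion,
when the generic point of `Spec V` lands in the range. -/
theorem exists_lift_of_existence_of_mem {T U : Scheme.{u}} (f : U ⟶ T)
    (hf : ValuativeCriterion.Existence f)
    (V : CommRingCat.{u}) [IsDomain V] [ValuationRing V] (g : Spec V ⟶ T)
    (hmem : g (⟨⊥, Ideal.isPrime_bot⟩ : PrimeSpectrum V) ∈ Set.range f) :
    ∃ (W : CommRingCat.{u}) (_ : IsDomain W) (_ : ValuationRing W) (φ : V ⟶ W),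
      IsExtVal V W φ ∧ ∃ (g' : Spec W ⟶ U), g' ≫ f = Spec.map φ ≫ g := by
  let η : Spec V := ⟨⊥, Ideal.isPrime_bot⟩
  obtain ⟨y, hy⟩ := hmem
  obtain ⟨z, hz, -⟩ :=
    Scheme.Pullback.exists_preimage_pullback (f := g) (g := f) η y hy.symm
  -- the residue field at `z` and the induced ring map
  let L := (pullback g f).residueField z
  let ρ : V ⟶ L := Spec.preimage ((pullback g f).fromSpecResidueField z ≫ pullback.fst g f)
  have hρ : Spec.map ρ = (pullback g f).fromSpecResidueField z ≫ pullback.fst g f :=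
    Spec.map_preimage _
  have hρinj : Function.Injective ρ.hom := by
    rw [RingHom.injective_iff_ker_eq_bot]
    have h1 : Spec.map ρ (closedPoint L) = η := by
      rw [hρ, Scheme.Hom.comp_apply, Scheme.fromSpecResidueField_apply, hz]
    have h2 := congrArg PrimeSpectrum.asIdeal h1
    have h3 : (closedPoint L).asIdeal = ⊥ := by
      rw [closedPoint]; exact IsLocalRing.maximalIdeal_eq_bot
    simpa [Spec.map_apply, h3, RingHom.ker] using h2
  obtain ⟨A, hA, hA_local⟩ := exists_factor_valuationRing ρ.hom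
  let φ : V ⟶ CommRingCat.of A := CommRingCat.ofHom (ρ.hom.codRestrict _ hA)
  have hφρ : φ ≫ CommRingCat.ofHom (algebraMap A L) = ρ := rfl
  have hφ : IsExtVal V (CommRingCat.of A) φ := by
    refine ⟨?_, hA_local⟩
    intro a b hab
    apply hρinj
    have := congrArg (fun x : A => (x : L)) hab
    exact this
  -- the valuative square
  have w : ((pullback g f).fromSpecResidueField z ≫ pullback.snd g f) ≫ f =
      Spec.map (CommRingCat.ofHom (algebraMap A L)) ≫ (Spec.map φ ≫ g) := by
    rw [Category.assoc, ← pullback.condition, ← Category.assoc, ← hρ, ← Category.assoc,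
      ← Spec.map_comp, hφρ]
  obtain ⟨l, hl₁, hl₂⟩ := (hf { R := A, K := L, commSq := ⟨w⟩, .. }).exists_lift
  exact ⟨CommRingCat.of A, inferInstance, inferInstance, φ, hφ, l, hl₂⟩

/-- A finite jointly surjective family of universally closed morphisms has the valuative lifting
property. -/
theorem hasValLift_of_universallyClosed {T : Scheme.{u}} (E : PreZeroHypercover.{0} T)
    (hE : ∀ i, UniversallyClosed (E.f i)) (hs : ∀ t : T, ∃ i, t ∈ Set.range (E.f i)) :
    HasValLift E := by
  intro V _ _ g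
  obtain ⟨i, hi⟩ := hs (g (⟨⊥, Ideal.isPrime_bot⟩ : PrimeSpectrum V))
  have h1 : (ValuativeCriterion.Existence ⊓ @QuasiCompact : MorphismProperty Scheme.{u}) (E.f i) := by
    rw [← UniversallyClosed.eq_valuativeCriterion]; exact hE i
  obtain ⟨W, hWd, hWv, φ, hφ, g', hg'⟩ := exists_lift_of_existence_of_mem (E.f i) h1.1 V g hi
  exact ⟨W, hWd, hWv, φ, hφ, i, g', hg'⟩

/-- A finite family of quasi-compact morphisms with the valuative lifting property is a V
covering. -/
theorem isVCover_of_hasValLift_of_finite {T : Scheme.{u}} (E : PreZeroHypercover.{0} T)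
    [Finite E.I₀] (hqc : ∀ i, QuasiCompact (E.f i)) (hL : HasValLift E) : IsVCover E := by
  classical
  intro U
  have hUaff : IsAffineOpen (U : T.Opens) := U.2
  have hK : ∀ i, IsCompact (((E.f i) ⁻¹ᵁ (U : T.Opens) : (E.X i).Opens) : Set (E.X i)) := fun i =>
    haveI := hqc i
    (E.f i).isCompact_preimage hUaff.isCompact
  have h2 : ∀ i (x : ↥((E.f i) ⁻¹ᵁ (U : T.Opens) : (E.X i).Opens)), ∃ V : (E.X i).Opens,
      IsAffineOpen V ∧ x.1 ∈ V ∧ V ≤ (E.f i) ⁻¹ᵁ (U : T.Opens) := fun i x => by
    obtain ⟨V, hV, hx, hle⟩ :=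
      exists_isAffineOpen_mem_and_subset (X := E.X i) (x := x.1)
        (U := (E.f i) ⁻¹ᵁ (U : T.Opens)) x.2
    exact ⟨V, hV, hx, hle⟩
  choose V hVaff hxV hVU using h2
  have h3 : ∀ i, ∃ s : Finset ↥((E.f i) ⁻¹ᵁ (U : T.Opens) : (E.X i).Opens),
      (((E.f i) ⁻¹ᵁ (U : T.Opens) : (E.X i).Opens) : Set (E.X i)) ⊆ ⋃ x ∈ s, (V i x : Set (E.X i)) :=
    fun i => (hK i).elim_finite_subcover (fun x => (V i x : Set (E.X i)))
      (fun x => (V i x).2) (fun x hx => Set.mem_iUnion.mpr ⟨⟨x, hx⟩, hxV i ⟨x, hx⟩⟩)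
  choose s hs using h3
  let e : ∀ i, Fin (s i).card ≃ ↥(s i) := fun i => (s i).equivFin.symm
  let pt : ∀ i, Fin (s i).card → ↥((E.f i) ⁻¹ᵁ (U : T.Opens) : (E.X i).Opens) :=
    fun i k => (e i k).1
  let F : PreZeroHypercover.{0} ((U : T.Opens) : Scheme.{u}) :=
    { I₀ := Σ i : E.I₀, Fin (s i).card
      X := fun k => ((V k.1 (pt k.1 k.2) : (E.X k.1).Opens) : Scheme.{u})
      f := fun k => (E.f k.1).resLE (U : T.Opens) (V k.1 (pt k.1 k.2)) (hVU k.1 (pt k.1 k.2)) }
  have hFι : ∀ k : F.I₀, F.f k ≫ (U : T.Opens).ι = (V k.1 (pt k.1 k.2)).ι ≫ E.f k.1 := fun k =>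
    Scheme.Hom.resLE_comp_ι _ _
  refine ⟨F, ⟨hUaff, inferInstanceAs (Finite (Σ i : E.I₀, Fin (s i).card)),
    fun k => hVaff k.1 (pt k.1 k.2), ?_⟩, ?_⟩
  · intro W₀ _ _ g
    obtain ⟨W, hWd, hWv, φ, hφ, j, g', hg'⟩ := hL W₀ (g ≫ (U : T.Opens).ι)
    have hloc : IsLocalRing W := inferInstance
    have hmem : g' (IsLocalRing.closedPoint W) ∈
        (((E.f j) ⁻¹ᵁ (U : T.Opens) : (E.X j).Opens) : Set (E.X j)) := by
      show (E.f j) (g' (IsLocalRing.closedPoint W)) ∈ (U : T.Opens)
      rw [← Scheme.Hom.comp_apply, hg']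
      simp only [Scheme.Hom.comp_apply]
      exact (g _).2
    have ht := hs j hmem
    simp only [Set.mem_iUnion] at ht
    obtain ⟨x, hxs, htx⟩ := ht
    let k : Fin (s j).card := (e j).symm ⟨x, hxs⟩
    have hk : pt j k = x := by simp [pt, k]
    have hsub : Set.range g' ⊆ Set.range (V j (pt j k)).ι := by
      rw [Scheme.Opens.range_ι]
      refine range_subset_of_closedPoint_mem W g' _ (V j (pt j k)).2 ?_
      rw [hk]; exact htx
    refine ⟨W, hWd, hWv, φ, hφ, ⟨j, k⟩, IsOpenImmersion.lift (V j (pt j k)).ι g' hsub, ?_⟩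
    rw [← cancel_mono (U : T.Opens).ι, Category.assoc, hFι ⟨j, k⟩, ← Category.assoc,
      IsOpenImmersion.lift_fac, hg', Category.assoc]
  · intro k
    exact ⟨k.1, (V k.1 (pt k.1 k.2)).ι, (hFι k).symm⟩

/-- A finite jointly surjective family of universally closed morphisms is a V covering. -/
theorem isVCover_of_universallyClosed {T : Scheme.{u}} (E : PreZeroHypercover.{0} T)
    [Finite E.I₀] (hE : ∀ i, UniversallyClosed (E.f i))
    (hs : ∀ t : T, ∃ i, t ∈ Set.range (E.f i)) : IsVCover E :=
  isVCover_of_hasValLift_of_finite E (fun i => by haveI := hE i; infer_instance)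
    (hasValLift_of_universallyClosed E hE hs)

/-- A finite jointly surjective family of universally closed morphisms locally of finite
presentation generates a covering sieve of the h topology. -/
theorem generate_mem_hTopology {T : Scheme.{u}} (E : PreZeroHypercover.{0} T)
    [Finite E.I₀] (hE : ∀ i, UniversallyClosed (E.f i))
    (hfp : ∀ i, LocallyOfFinitePresentation (E.f i))
    (hs : ∀ t : T, ∃ i, t ∈ Set.range (E.f i)) :
    Sieve.generate E.presieve₀ ∈ hTopology T := by
  apply Precoverage.generate_mem_toGrothendieck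
  rw [presieve₀_mem_hPrecoverage_iff]
  exact ⟨hfp, isVCover_of_universallyClosed E hE hs⟩

end Groth.Agent.Lib.HCoverFinH52
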