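import Mathlib
import Groth.Agent.Lib.FPRetract

/-!
# Locally of finite presentation from preservation of directed limits of affine schemes (helper62)
-/

set_option autoImplicit false
universe u

open CategoryTheory Limits AlgebraicGeometry

namespace Groth.Agent.Lib.LFPOfPreserves

open Groth.Agent.Lib.UHFPSysH52 Groth.Agent.Lib.FPRetract

attribute [local instance] IsFiltered.isConnected

section

variable (A B : Type u) [CommRing A] [CommRing B] [Algebra A B]

/-- The index set of finite partial presentations. -/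
abbrev J : Type u := Idx A B (QTriv A)

instance : IsDirected (J A B) (· ≤ ·) := isDirected_of_cofinal (cofinal_QTriv A B)

instance : Nonempty (J A B) := nonempty_of_cofinal (cofinal_QTriv A B)

/-- The diagram of rings. -/
noncomputable def ringD : J A B ⥤ CommRingCat.{u} :=
  diagram (A := A) (B := B) (Q := QTriv A) ⋙ Under.forget _

/-- The cocone of rings with point `B`. -/
noncomputable def ringCocone : Cocone (ringD A B) :=
  (Under.forget _).mapCocone (cocone (A := A) (B := B) (Q := QTriv A))

/-- `B` is the colimit. -/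
noncomputable def isColimitRingCocone : IsColimit (ringCocone A B) :=
  isColimitOfPreserves (Under.forget _) (exists_isColimit (cofinal_QTriv A B)).choose_spec.some

/-- The diagram of spectra. -/
noncomputable def specD : (J A B)ᵒᵖ ⥤ Scheme.{u} := (ringD A B).op ⋙ Scheme.Spec

/-- The cone of spectra. -/
noncomputable def specCone : Cone (specD A B) := Scheme.Spec.mapCone (ringCocone A B).op

/-- `Spec B` is the limit. -/
noncomputable def isLimitSpecCone : IsLimit (specCone A B) :=
  isLimitOfPreserves Scheme.Spec (isColimitRingCocone A B).op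

theorem specD_obj (i : (J A B)ᵒᵖ) : (specD A B).obj i = Spec (CommRingCat.of (Cring i.unop)) := rfl

theorem specD_map {i j : (J A B)ᵒᵖ} (m : i ⟶ j) : (specD A B).map m =
    Spec.map (CommRingCat.ofHom (UHFPSysH52.trans (leOfHom m.unop)).toRingHom) := rfl

theorem specCone_pt : (specCone A B).pt = Spec (CommRingCat.of B) := rfl

theorem specCone_π_app (i : (J A B)ᵒᵖ) : (specCone A B).π.app i =
    Spec.map (CommRingCat.ofHom (toB i.unop).toRingHom) := rfl

instance (i : (J A B)ᵒᵖ) : IsAffine ((specD A B).obj i) := by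
  rw [specD_obj]; infer_instance

instance (i : (J A B)ᵒᵖ) : CompactSpace ((specD A B).obj i) := by
  rw [specD_obj]; infer_instance

instance {i j : (J A B)ᵒᵖ} (m : i ⟶ j) : IsAffineHom ((specD A B).map m) := by
  rw [specD_map]; infer_instance

/-- structure morphisms -/
noncomputable def str (i : (J A B)ᵒᵖ) : (specD A B).obj i ⟶ Spec (CommRingCat.of A) :=
  Spec.map (CommRingCat.ofHom (algebraMap A (Cring i.unop)))

theorem aux_trans {i j : J A B} (h : i ≤ j) :
    Spec.map (CommRingCat.ofHom (UHFPSysH52.trans h).toRingHom) ≫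
      Spec.map (CommRingCat.ofHom (algebraMap A (Cring i))) =
    Spec.map (CommRingCat.ofHom (algebraMap A (Cring j))) := by
  rw [← Spec.map_comp]
  congr 1
  ext a
  exact (UHFPSysH52.trans h).commutes a

theorem aux_toB (i : J A B) :
    Spec.map (CommRingCat.ofHom (toB i).toRingHom) ≫
      Spec.map (CommRingCat.ofHom (algebraMap A (Cring i))) =
    Spec.map (CommRingCat.ofHom (algebraMap A B)) := by
  rw [← Spec.map_comp]
  congr 1
  ext a
  exact (toB i).commutes a

theorem specD_map_str {i j : (J A B)ᵒᵖ} (m : i ⟶ j) :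
    (specD A B).map m ≫ str A B j = str A B i :=
  aux_trans A B (leOfHom m.unop)

theorem specCone_π_app_str (i : (J A B)ᵒᵖ) :
    (specCone A B).π.app i ≫ str A B i = Spec.map (CommRingCat.ofHom (algebraMap A B)) :=
  aux_toB A B i.unop

variable {T : Scheme.{u}} (t : Spec (CommRingCat.of A) ⟶ T)

/-- The diagram over `T`. -/
noncomputable def ZOver : (J A B)ᵒᵖ ⥤ Over T where
  obj i := Over.mk (str A B i ≫ t)
  map {i j} m := Over.homMk ((specD A B).map m) (by
    change (specD A B).map m ≫ str A B j ≫ t = str A B i ≫ t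
    rw [← Category.assoc, specD_map_str])
  map_id i := by
    ext1
    exact (specD A B).map_id i
  map_comp m n := by
    ext1
    exact (specD A B).map_comp m n

variable {S' : Scheme.{u}} (u' : T ⟶ S')

theorem aux_toB' (i : J A B) :
    Spec.map (CommRingCat.ofHom (toB i).toRingHom) ≫
      (Spec.map (CommRingCat.ofHom (algebraMap A (Cring i))) ≫ t) ≫ u' =
    Spec.map (CommRingCat.ofHom (algebraMap A B)) ≫ t ≫ u' := by
  rw [← aux_toB A B i]
  simp only [Category.assoc]

/-- The cone over `S'` with point `Spec B`. -/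
noncomputable def coneOver : Cone (ZOver A B t ⋙ Over.map u') where
  pt := Over.mk (Spec.map (CommRingCat.ofHom (algebraMap A B)) ≫ t ≫ u')
  π :=
  { app := fun i => Over.homMk ((specCone A B).π.app i) (aux_toB' A B t u' i.unop)
    naturality := fun i j m => by
      ext1
      exact (specCone A B).π.naturality m }

/-- The underlying cone of schemes. -/
noncomputable def forgetCone (s : Cone (ZOver A B t ⋙ Over.map u')) : Cone (specD A B) where
  pt := s.pt.left
  π :=
  { app := fun i => (s.π.app i).left
    naturality := fun i j m => by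
      have := congrArg (fun m => m.left) (s.π.naturality m)
      exact this }

/-- `Spec B` is the limit over `S'`. -/
noncomputable def isLimitConeOver : IsLimit (coneOver A B t u') where
  lift s := Over.homMk ((isLimitSpecCone A B).lift (forgetCone A B t u' s)) (by
    obtain ⟨i⟩ : Nonempty (J A B)ᵒᵖ := inferInstance
    let l : s.pt.left ⟶ Spec (CommRingCat.of B) :=
      (isLimitSpecCone A B).lift (forgetCone A B t u' s)
    have h1 : l ≫ Spec.map (CommRingCat.ofHom (toB i.unop).toRingHom) = (s.π.app i).left :=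
      (isLimitSpecCone A B).fac (forgetCone A B t u' s) i
    have h2 : (s.π.app i).left ≫
        (Spec.map (CommRingCat.ofHom (algebraMap A (Cring i.unop))) ≫ t) ≫ u' = s.pt.hom :=
      Over.w (s.π.app i)
    change l ≫ Spec.map (CommRingCat.ofHom (algebraMap A B)) ≫ t ≫ u' = s.pt.hom
    rw [← aux_toB' A B t u' i.unop, ← Category.assoc, h1]
    exact h2)
  fac s i := by
    ext1
    exact (isLimitSpecCone A B).fac (forgetCone A B t u' s) i
  uniq s m hm := by
    ext1
    exact (isLimitSpecCone A B).uniq (forgetCone A B t u' s) m.left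
      (fun i => congrArg (fun m => m.left) (hm i))

end

/-- If `Hom_S(-, X)` turns directed limits of affine schemes over affine opens of `S` into colimits,
then `X ⟶ S` is locally of finite presentation. -/
theorem locallyOfFinitePresentation_of_preserves {X S : Scheme.{u}} (f : X ⟶ S)
    (h : ∀ (U : S.Opens), IsAffineOpen U →
      ∀ (J : Type u) [Preorder J] [IsDirected J (· ≤ ·)] [Nonempty J] (Z : Jᵒᵖ ⥤ Over (U : Scheme.{u})),
      (∀ j, IsAffine (Z.obj j).left) →
      Limits.PreservesColimit (Z ⋙ Over.map U.ι).op (yoneda.obj (Over.mk f))) :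
    LocallyOfFinitePresentation f := by
  rw [HasRingHomProperty.iff_appLE (P := @LocallyOfFinitePresentation)]
  intro U V e
  have hU : IsAffineOpen U.1 := U.2
  have hV : IsAffineOpen V.1 := V.2
  let A : Type u := Γ(S, U.1)
  let B : Type u := Γ(X, V.1)
  let φ : Γ(S, U.1) ⟶ Γ(X, V.1) := f.appLE U.1 V.1 e
  let _ : Algebra A B := φ.hom.toAlgebra
  have hφ : CommRingCat.ofHom (algebraMap A B) = φ := rfl
  have := h U.1 hU (J A B) (ZOver A B hU.isoSpec.inv) (fun j => by
    change IsAffine ((specD A B).obj j)
    infer_instance)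
  have hcolim := isColimitOfPreserves (yoneda.obj (Over.mk f))
    (isLimitConeOver A B hU.isoSpec.inv U.1.ι).op
  have hιV : hV.fromSpec ≫ f = Spec.map (CommRingCat.ofHom (algebraMap A B)) ≫ hU.isoSpec.inv ≫ U.1.ι := by
    rw [hφ]
    exact (IsAffineOpen.SpecMap_appLE_fromSpec f hU hV e).symm
  let ιV : (coneOver A B hU.isoSpec.inv U.1.ι).pt ⟶ Over.mk f := Over.homMk hV.fromSpec hιV
  obtain ⟨i, g, hg⟩ := Types.jointly_surjective_of_isColimit hcolim ιV
  have hg' : (coneOver A B hU.isoSpec.inv U.1.ι).π.app i.unop ≫ g = ιV := hg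
  have hg1 : Spec.map (CommRingCat.ofHom (toB i.unop.unop).toRingHom) ≫ g.left = hV.fromSpec :=
    congrArg (fun m => m.left) hg'
  have hg2 : g.left ≫ f = (Spec.map (CommRingCat.ofHom (algebraMap A (Cring i.unop.unop))) ≫
      hU.isoSpec.inv) ≫ U.1.ι := Over.w g
  let gl : (specD A B).obj i.unop ⟶ X := g.left
  let W : ((specD A B).obj i.unop).Opens := gl ⁻¹ᵁ V.1
  have hW : (specCone A B).π.app i.unop ⁻¹ᵁ W = ⊤ := by
    change (specCone A B).π.app i.unop ⁻¹ᵁ (gl ⁻¹ᵁ V.1) = ⊤
    rw [← Scheme.Hom.comp_preimage]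
    have : (specCone A B).π.app i.unop ≫ gl = hV.fromSpec := hg1
    rw [this]
    exact hV.fromSpec_preimage_self
  obtain ⟨j, mji, hj⟩ := exists_map_eq_top (specD A B) (specCone A B) (isLimitSpecCone A B) W hW
  let gj : Spec (CommRingCat.of (Cring j.unop)) ⟶ X := (specD A B).map mji ≫ gl
  have hgj : gj ⁻¹ᵁ V.1 = ⊤ := by
    change ((specD A B).map mji ≫ gl) ⁻¹ᵁ V.1 = ⊤
    rw [Scheme.Hom.comp_preimage]
    exact hj
  have hrange : Set.range gj ⊆ Set.range V.1.ι := by
    rintro _ ⟨x, rfl⟩
    have hx : x ∈ gj ⁻¹ᵁ V.1 := by rw [hgj]; trivial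
    rw [Scheme.Opens.range_ι]
    exact hx
  let k : Spec (CommRingCat.of (Cring j.unop)) ⟶ Spec Γ(X, V.1) :=
    IsOpenImmersion.lift V.1.ι gj hrange ≫ hV.isoSpec.hom
  have hk : k ≫ hV.fromSpec = gj := by
    change (IsOpenImmersion.lift V.1.ι gj hrange ≫ hV.isoSpec.hom) ≫ hV.fromSpec = gj
    rw [Category.assoc, IsAffineOpen.isoSpec_hom_fromSpec, IsOpenImmersion.lift_fac]
  -- the two identities
  have hw : (specCone A B).π.app j ≫ (specD A B).map mji = (specCone A B).π.app i.unop :=
    (specCone A B).w mji
  have h2 : Spec.map (CommRingCat.ofHom (toB j.unop).toRingHom) ≫ k = 𝟙 _ := by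
    rw [← cancel_mono hV.fromSpec, Category.assoc, hk, Category.id_comp]
    change (specCone A B).π.app j ≫ (specD A B).map mji ≫ gl = hV.fromSpec
    rw [← Category.assoc, hw]
    exact hg1
  have h1 : k ≫ Spec.map φ = Spec.map (CommRingCat.ofHom (algebraMap A (Cring j.unop))) := by
    rw [← cancel_mono hU.fromSpec, Category.assoc,
      IsAffineOpen.SpecMap_appLE_fromSpec f hU hV e, ← Category.assoc, hk]
    change ((specD A B).map mji ≫ gl) ≫ f = str A B j ≫ hU.fromSpec
    rw [Category.assoc]
    have : gl ≫ f = str A B i.unop ≫ hU.fromSpec := by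
      rw [← IsAffineOpen.isoSpec_inv_ι, ← Category.assoc]
      exact hg2
    rw [this, ← Category.assoc, specD_map_str]
  let sR : Γ(X, V.1) ⟶ CommRingCat.of (Cring j.unop) := Spec.preimage k
  have hsR : Spec.map sR = k := Spec.map_preimage k
  have h2' : sR ≫ CommRingCat.ofHom (toB j.unop).toRingHom = 𝟙 _ := by
    apply Spec.map_injective
    rw [Spec.map_comp, hsR, h2, Spec.map_id]
    rfl
  have h1' : φ ≫ sR = CommRingCat.ofHom (algebraMap A (Cring j.unop)) := by
    apply Spec.map_injective
    rw [Spec.map_comp, hsR, h1]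
  let s : B →ₐ[A] Cring j.unop :=
    { sR.hom with commutes' := fun a => congr($h1' a) }
  have hsec : ∀ b : B, toB j.unop (s b) = b := fun b => congr($h2' b)
  have : Algebra.FinitePresentation A (Cring j.unop) :=
    Algebra.FinitePresentation.quotient j.unop.fg
  exact finitePresentation_of_retract (toB j.unop) s hsec

end Groth.Agent.Lib.LFPOfPreserves
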