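/-
h sheaf + limit preserving ⟹ V sheaf, for presheaves on schemes over a base (helper79).
-/
import Groth.Agent.Lib.H79VSheafOver
import Groth.Agent.Lib.H79HLimitSheaf
import Groth.Agent.Lib.HCoverFinH52
import Groth.Agent.Lib.LFPOfPreserves

set_option autoImplicit false
universe w u
open CategoryTheory CategoryTheory.Limits AlgebraicGeometry Opposite

namespace Groth.Agent.Lib.H79HSheafV

open HTop Groth.Agent.Lib.HTopBasic Groth.Agent.Lib.VSheaf Groth.Agent.Lib.H79VSheafOver
  Groth.Agent.Lib.H79HLimitSheaf Groth.Agent.Lib.LFPOfPreserves Groth.Agent.Lib.UHFPSysH52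
  Groth.Agent.Lib.HCoverFinH52

variable {S : Scheme.{u}} {F : (Over S)ᵒᵖ ⥤ Type w}

/-- an h sheaf is a Zariski sheaf -/
theorem zarOver_of_isHSheafOver (h1 : IsHSheafOver S F) : ZarOver F := by
  intro W R hR
  apply h1
  obtain ⟨E, rfl⟩ := R.exists_eq_preZeroHypercover
  have hmap : E.presieve₀.map (Over.forget S) =
      (⟨E.I₀, fun i => (E.X i).left, fun i => (E.f i).left⟩ :
        PreZeroHypercover.{max u (u+1)} W.left).presieve₀ := by
    show (Presieve.ofArrows E.X E.f).map (Over.forget S) = _
    rw [Presieve.map_ofArrows]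
    rfl
  rw [hmap]
  refine (presieve₀_mem_hPrecoverage_iff _).mpr ⟨fun i => ?_, ?_⟩
  · have : IsOpenImmersion (E.f i).left := hR.1 (E.f i) ⟨i⟩
    show LocallyOfFinitePresentation (E.f i).left
    infer_instance
  · refine isVCover_of_isOpenImmersion _ (fun i => hR.1 (E.f i) ⟨i⟩) (fun x => ?_)
    obtain ⟨Y, g, hg, hx⟩ := hR.2 x
    obtain ⟨i⟩ := hg
    exact ⟨i, hx⟩

section Sing

variable (A B : Type u) [CommRing A] [CommRing B] [Algebra A B]
  {T : Scheme.{u}} (t : Spec (CommRingCat.of A) ⟶ T)

/-- the cone over `T` with point `Spec B` -/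
noncomputable def coneT : Cone (ZOver A B t) where
  pt := Over.mk (Spec.map (CommRingCat.ofHom (algebraMap A B)) ≫ t)
  π :=
  { app := fun i => Over.homMk ((specCone A B).π.app i) (by
      show (specCone A B).π.app i ≫ str A B i ≫ t =
        Spec.map (CommRingCat.ofHom (algebraMap A B)) ≫ t
      rw [← Category.assoc, specCone_π_app_str]
      rfl)
    naturality := fun i j m => by
      ext1
      exact (specCone A B).π.naturality m }

/-- the underlying cone of schemes -/
noncomputable def forgetConeT (s : Cone (ZOver A B t ⋙ Over.forget T)) : Cone (specD A B) where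
  pt := s.pt
  π :=
  { app := fun i => s.π.app i
    naturality := fun i j m => s.π.naturality m }

/-- `Spec B` is the limit -/
noncomputable def isLimitForgetConeT : IsLimit ((Over.forget T).mapCone (coneT A B t)) where
  lift s := (isLimitSpecCone A B).lift (forgetConeT A B t s)
  fac s i := (isLimitSpecCone A B).fac (forgetConeT A B t s) i
  uniq s m hm := (isLimitSpecCone A B).uniq (forgetConeT A B t s) m hm

end Sing

/-- transport of the sheaf condition for a one-member family along an isomorphism of the source -/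
theorem isSheafFor_singleton_of_iso {Y Y' T : Over S} (e : Y ≅ Y') (f : Y ⟶ T) (f' : Y' ⟶ T)
    (hf : e.hom ≫ f' = f) (h : Presieve.IsSheafFor F (Presieve.singleton f')) :
    Presieve.IsSheafFor F (Presieve.singleton f) := by
  rw [Presieve.isSheafFor_singleton] at h ⊢
  intro y hy
  have hf' : e.inv ≫ f = f' := by rw [← hf, Iso.inv_hom_id_assoc]
  obtain ⟨t, ht, huniq⟩ := h (F.map e.inv.op y) (by
    intro Z p₁ p₂ hp
    rw [H79HLimitSheaf.map_comp_apply, H79HLimitSheaf.map_comp_apply]
    exact hy _ _ (by rw [Category.assoc, Category.assoc, hf', hp]))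
  have key : ∀ t' : F.obj (op T), F.map f.op t' = y ↔ F.map f'.op t' = F.map e.inv.op y := by
    intro t'
    constructor
    · intro h1
      rw [← h1, H79HLimitSheaf.map_comp_apply, hf']
    · intro h1
      have h2 := congrArg (F.map e.hom.op) h1
      rw [H79HLimitSheaf.map_comp_apply, H79HLimitSheaf.map_comp_apply, hf, Iso.hom_inv_id] at h2
      rw [h2]
      simp
  exact ⟨t, (key t).mpr ht, fun t' ht' => huniq t' ((key t').mp ht')⟩

/-- an h sheaf which is limit preserving is a sheaf for one-member standard V coverings -/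
theorem singOver_of_isHSheafOver (h1 : IsHSheafOver S F) (h2 : LimPres F) : SingOver F := by
  intro T Y f hT hY hlift
  -- the rings
  let A : Type u := Γ(T.left, ⊤)
  let B : Type u := Γ(Y.left, ⊤)
  let φ : Γ(T.left, ⊤) ⟶ Γ(Y.left, ⊤) := f.left.appTop
  let _ : Algebra A B := φ.hom.toAlgebra
  have hφ : CommRingCat.ofHom (algebraMap A B) = φ := rfl
  let t : Spec (CommRingCat.of A) ⟶ T.left := T.left.isoSpec.inv
  have hnat : Y.left.isoSpec.hom ≫ Spec.map (CommRingCat.ofHom (algebraMap A B)) ≫ t = f.left := by
    rw [hφ]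
    show Y.left.isoSpec.hom ≫ Spec.map f.left.appTop ≫ T.left.isoSpec.inv = f.left
    rw [← Category.assoc, Scheme.isoSpec_hom_naturality, Category.assoc, Iso.hom_inv_id,
      Category.comp_id]
  -- the system
  have hTaff : IsAffine T.left := hT
  have hDaff : ∀ i, IsAffine ((ZOver A B t).obj i).left := fun i => by
    show IsAffine ((specD A B).obj i)
    infer_instance
  have hcaff : IsAffine (coneT A B t).pt.left := by
    show IsAffine (Spec (CommRingCat.of B))
    infer_instance
  -- each stage is an h covering
  have hsh : ∀ i, Presieve.IsSheafFor F (Presieve.singleton (fD (ZOver A B t) i)) := by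
    intro i
    apply h1
    rw [Presieve.map_singleton]
    show Presieve.singleton (str A B i ≫ t) ∈ hPrecoverage T.left
    have hgoal : IsHCover (PreZeroHypercover.singleton.{0} (str A B i ≫ t)) → 
        Presieve.singleton (str A B i ≫ t) ∈ hPrecoverage T.left := fun h => by
      have h' := (presieve₀_mem_hPrecoverage_iff _).mpr h
      rwa [PreZeroHypercover.presieve₀_singleton] at h'
    apply hgoal
    refine ⟨fun _ => ?_, ?_⟩
    · show LocallyOfFinitePresentation (str A B i ≫ t)
      have : LocallyOfFinitePresentation (str A B i) := by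
        show LocallyOfFinitePresentation
          (Spec.map (CommRingCat.ofHom (algebraMap A (Cring i.unop))))
        rw [HasRingHomProperty.Spec_iff (P := @LocallyOfFinitePresentation)]
        exact finitePresentation i.unop
      infer_instance
    · have : Finite (PreZeroHypercover.singleton.{0} (str A B i ≫ t)).I₀ :=
        inferInstanceAs (Finite PUnit)
      refine isVCover_of_hasValLift_of_finite _ (fun _ => ?_) ?_
      · show QuasiCompact (str A B i ≫ t)
        have : IsAffine ((specD A B).obj i) := inferInstance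
        infer_instance
      · intro V _ _ g
        obtain ⟨W, hWd, hWv, ψ, hψ, _, g', hg'⟩ := hlift V g
        let g'Y : Spec W ⟶ Y.left := g'
        have hg'' : g'Y ≫ f.left = Spec.map ψ ≫ g := hg'
        let isoY : Y.left ⟶ Spec (CommRingCat.of B) := Y.left.isoSpec.hom
        let πi : Spec (CommRingCat.of B) ⟶ (specD A B).obj i := (specCone A B).π.app i
        have hπi : πi ≫ str A B i = Spec.map (CommRingCat.ofHom (algebraMap A B)) :=
          specCone_π_app_str A B i
        have hnat' : isoY ≫ Spec.map (CommRingCat.ofHom (algebraMap A B)) ≫ t = f.left := hnat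
        refine ⟨W, hWd, hWv, ψ, hψ, PUnit.unit,
          (g'Y ≫ isoY ≫ πi : Spec W ⟶ (specD A B).obj i), ?_⟩
        show (g'Y ≫ isoY ≫ πi) ≫ str A B i ≫ t = Spec.map ψ ≫ g
        calc (g'Y ≫ isoY ≫ πi) ≫ str A B i ≫ t
            = g'Y ≫ (isoY ≫ (πi ≫ str A B i) ≫ t) := by
              simp only [Category.assoc]
          _ = g'Y ≫ f.left := by rw [hπi, hnat']
          _ = Spec.map ψ ≫ g := hg''
  have hmain := isSheafFor_singleton_of_limit (ZOver A B t) (coneT A B t)
    (isLimitForgetConeT A B t) h2 hsh
  -- transport along `Y ≅ Spec B`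
  let e : Y ≅ (cS (ZOver A B t) (coneT A B t)).pt :=
    Over.isoMk Y.left.isoSpec (by
      show Y.left.isoSpec.hom ≫ (Spec.map (CommRingCat.ofHom (algebraMap A B)) ≫ t) ≫ T.hom = Y.hom
      rw [← Category.assoc, hnat, Over.w f])
  refine isSheafFor_singleton_of_iso e f (fc (ZOver A B t) (coneT A B t)) ?_ hmain
  ext1
  exact hnat

/-- **h sheaf + limit preserving ⟹ V sheaf.** -/
theorem isVSheafOver_of_isHSheafOver (h1 : IsHSheafOver S F) (h2 : LimPres F) :
    IsVSheafOver S F :=
  isVSheafOver_of (zarOver_of_isHSheafOver h1) (singOver_of_isHSheafOver h1 h2)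

end Groth.Agent.Lib.H79HSheafV
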