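import Mathlib
import Groth.Agent.S18404
import Groth.Agent.Lib.H79Cubic3

/-! Monomial matrices and the automorphisms of the Hesse cubic. -/

open MvPolynomial

namespace Groth.Agent.Lib.H79Hesse

open Groth.Agent.Lib.H79Cubic

/-- the Hesse cubic as a function -/
def hs (k : ℂ) (v : Fin 3 → ℂ) : ℂ := v 0 ^ 3 + v 1 ^ 3 + v 2 ^ 3 - 3 * k * (v 0 * v 1 * v 2)

theorem eval_form (k : ℂ) (v : Fin 3 → ℂ) : eval v (HesseCubic.form k) = hs k v :=
  Groth.Agent.S18404.eval_form k v

theorem hs_eq_sum (k : ℂ) (v : Fin 3 → ℂ) : hs k v = ∑ i, v i ^ 3 - 3 * k * ∏ i, v i := by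
  simp [hs, Fin.sum_univ_three, Fin.prod_univ_three]

/-- monomial matrix: `(mono π d) v i = d i * v (π i)` -/
def mono (π : Equiv.Perm (Fin 3)) (d : Fin 3 → ℂ) : Matrix (Fin 3) (Fin 3) ℂ :=
  Matrix.of fun i j => if j = π i then d i else 0

theorem mono_apply (π : Equiv.Perm (Fin 3)) (d : Fin 3 → ℂ) (i j : Fin 3) :
    mono π d i j = if j = π i then d i else 0 := rfl

theorem mono_mulVec (π : Equiv.Perm (Fin 3)) (d : Fin 3 → ℂ) (v : Fin 3 → ℂ) :
    (mono π d).mulVec v = fun i => d i * v (π i) := by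
  funext i
  simp [Matrix.mulVec, dotProduct, mono_apply]

theorem mono_mul (π π' : Equiv.Perm (Fin 3)) (d d' : Fin 3 → ℂ) :
    mono π d * mono π' d' = mono (π.trans π') (fun i => d i * d' (π i)) := by
  apply matrix_ext_mulVec
  intro w
  rw [← Matrix.mulVec_mulVec, mono_mulVec, mono_mulVec, mono_mulVec]
  funext i
  simp [mul_assoc]

theorem mono_one : mono 1 (fun _ => 1) = 1 := by
  apply matrix_ext_mulVec
  intro w
  rw [mono_mulVec]
  simp

theorem smul_mono (s : ℂ) (π : Equiv.Perm (Fin 3)) (d : Fin 3 → ℂ) :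
    s • mono π d = mono π (fun i => s * d i) := by
  ext i j
  simp only [Matrix.smul_apply, mono_apply, smul_eq_mul]
  split_ifs <;> simp

theorem mono_eq_diag_mul (π : Equiv.Perm (Fin 3)) (d : Fin 3 → ℂ) :
    mono π d = Matrix.diagonal d * π.permMatrix ℂ := by
  apply matrix_ext_mulVec
  intro w
  rw [← Matrix.mulVec_mulVec, mono_mulVec, Matrix.permMatrix_mulVec]
  funext i
  simp [Matrix.mulVec_diagonal]

theorem det_mono (π : Equiv.Perm (Fin 3)) (d : Fin 3 → ℂ) :
    (mono π d).det = (∏ i, d i) * (Equiv.Perm.sign π : ℤ) := by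
  rw [mono_eq_diag_mul, Matrix.det_mul, Matrix.det_diagonal, Matrix.det_permutation]

theorem mono_inj {π π' : Equiv.Perm (Fin 3)} {d d' : Fin 3 → ℂ} (hd : ∀ i, d i ≠ 0)
    (h : mono π d = mono π' d') : π = π' ∧ d = d' := by
  have key : ∀ i, π i = π' i ∧ d i = d' i := by
    intro i
    have := congrFun (congrFun h i) (π i)
    rw [mono_apply, mono_apply, if_pos rfl] at this
    by_cases hp : π i = π' i
    · rw [if_pos hp] at this; exact ⟨hp, this⟩
    · rw [if_neg hp] at this; exact absurd this (hd i)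
  exact ⟨Equiv.ext fun i => (key i).1, funext fun i => (key i).2⟩

theorem hs_mono (k : ℂ) (π : Equiv.Perm (Fin 3)) (d : Fin 3 → ℂ) (c : ℂ)
    (hd : ∀ i, d i ^ 3 = c) (hp : ∏ i, d i = c) (v : Fin 3 → ℂ) :
    hs k ((mono π d).mulVec v) = c * hs k v := by
  rw [mono_mulVec, hs_eq_sum, hs_eq_sum]
  simp only [mul_pow, hd, Finset.prod_mul_distrib, hp]
  rw [← Finset.mul_sum, Equiv.sum_comp π (fun i => v i ^ 3), Equiv.prod_comp π v]
  ring

theorem mono_of_hs (k : ℂ) (hk : k ≠ 0) (π : Equiv.Perm (Fin 3)) (d : Fin 3 → ℂ) (c : ℂ)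
    (h : ∀ v, hs k ((mono π d).mulVec v) = c * hs k v) :
    (∀ i, d i ^ 3 = c) ∧ ∏ i, d i = c := by
  have h1 : ∀ i, d i ^ 3 = c := by
    intro i
    have := h (Pi.single (π i) 1)
    rw [mono_mulVec, hs_eq_sum, hs_eq_sum] at this
    have e1 : ∀ j, d j * (Pi.single (π i) (1:ℂ) : Fin 3 → ℂ) (π j) = if j = i then d i else 0 := by
      intro j
      by_cases hj : j = i
      · subst hj; simp
      · rw [if_neg hj, Pi.single_apply, if_neg (fun h' => hj (π.injective h'))]; simp
    simp only [e1] at this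
    have e2 : ∏ j, (if j = i then d i else 0) = 0 := by
      obtain ⟨j, hj⟩ : ∃ j : Fin 3, j ≠ i := ⟨i + 1, by fin_cases i <;> decide⟩
      exact Finset.prod_eq_zero (Finset.mem_univ j) (by rw [if_neg hj])
    have e3 : ∏ j, (Pi.single (π i) (1:ℂ) : Fin 3 → ℂ) j = 0 := by
      obtain ⟨j, hj⟩ : ∃ j : Fin 3, j ≠ π i := ⟨π i + 1, by generalize π i = m; fin_cases m <;> decide⟩
      exact Finset.prod_eq_zero (Finset.mem_univ j) (by rw [Pi.single_apply, if_neg hj])
    rw [e2, e3] at this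
    simp only [ite_pow, mul_zero, sub_zero] at this
    have e4 : ∑ j, (if j = i then d i ^ 3 else (0:ℂ) ^ 3) = d i ^ 3 := by
      simp
    have e5 : ∑ j, (Pi.single (π i) (1:ℂ) : Fin 3 → ℂ) j ^ 3 = 1 := by
      rw [Finset.sum_eq_single (π i)]
      · simp
      · intro j _ hj; rw [Pi.single_apply, if_neg hj]; simp
      · intro h'; exact absurd (Finset.mem_univ _) h'
    rw [e5] at this
    simpa using this
  refine ⟨h1, ?_⟩
  have := h (fun _ => 1)
  rw [mono_mulVec, hs_eq_sum, hs_eq_sum] at this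
  simp only [mul_one, h1, one_pow, Finset.prod_const_one, Finset.sum_const, Finset.card_univ,
    Fintype.card_fin, nsmul_eq_mul] at this
  have h3 : k * (∏ i, d i - c) = 0 := by
    push_cast at this
    linear_combination (-(1:ℂ)/3) * this
  rcases mul_eq_zero.mp h3 with h' | h'
  · exact absurd h' hk
  · exact sub_eq_zero.mp h'

end Groth.Agent.Lib.H79Hesse
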