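import Mathlib
import Groth.Agent.Lib.H79Hesse

/-! Stabilizer of the flex `(0,1,-1)` in the automorphism group of a generic Hesse cubic. -/

namespace Groth.Agent.Lib.H79Hesse

open Groth.Agent.S18404 (vec_ext)

/-- the flex `(0,1,-1)` -/
def e0 : Fin 3 → ℂ := ![0, 1, -1]
/-- the point where the flex tangent meets the harmonic polar -/
def aa (k : ℂ) : Fin 3 → ℂ := ![2, -k, -k]
/-- the polar point of `aa` on the harmonic polar -/
def cc (k : ℂ) : Fin 3 → ℂ := ![-6 * k ^ 2, 4 - k ^ 3, 4 - k ^ 3]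

/-- the tangent functional -/
def ll (k : ℂ) (w : Fin 3 → ℂ) : ℂ := k * w 0 + w 1 + w 2
/-- the reflection functional -/
def mm (w : Fin 3 → ℂ) : ℂ := w 1 - w 2

theorem ll_add (k : ℂ) (u w : Fin 3 → ℂ) : ll k (u + w) = ll k u + ll k w := by
  simp [ll]; ring
theorem ll_smul (k s : ℂ) (w : Fin 3 → ℂ) : ll k (s • w) = s * ll k w := by
  simp [ll]; ring
theorem mm_add (u w : Fin 3 → ℂ) : mm (u + w) = mm u + mm w := by
  simp [mm]; ring
theorem mm_smul (s : ℂ) (w : Fin 3 → ℂ) : mm (s • w) = s * mm w := by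
  simp [mm]; ring

theorem hs_expand (k t : ℂ) (w : Fin 3 → ℂ) :
    hs k (t • e0 + w) = hs k w + 3 * t * (mm w * ll k w) + 3 * t ^ 2 * ll k w := by
  simp [hs, e0, mm, ll]; ring

theorem hs_plane (k X Z : ℂ) :
    hs k (X • aa k + Z • cc k) =
      8 * (1 - k ^ 3) * (X ^ 3 + (-3 * k * (8 + k ^ 3)) * (X * Z ^ 2)
        + (2 * (8 + 20 * k ^ 3 - k ^ 6)) * Z ^ 3) := by
  simp [hs, aa, cc]; ring

theorem ker_decomp (k : ℂ) (hk1 : k ^ 3 ≠ 1) (u : Fin 3 → ℂ) (hu : mm u = 0) :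
    ∃ X Z : ℂ, u = X • aa k + Z • cc k ∧ 8 * (1 - k ^ 3) * Z = ll k u := by
  have hk' : (1 : ℂ) - k ^ 3 ≠ 0 := sub_ne_zero.mpr (Ne.symm hk1)
  have h12 : u 1 = u 2 := sub_eq_zero.mp hu
  refine ⟨((4 - k ^ 3) * u 0 + 6 * k ^ 2 * u 1) / (8 * (1 - k ^ 3)),
    (k * u 0 + 2 * u 1) / (8 * (1 - k ^ 3)), ?_, ?_⟩
  · apply vec_ext
    · simp [aa, cc]; field_simp; ring
    · simp [aa, cc]; field_simp; ring
    · rw [← h12]; simp [aa, cc]; field_simp; ring
  · simp only [ll, ← h12]; field_simp; ring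

theorem stabilizer_lin (k : ℂ) (hk1 : k ^ 3 ≠ 1) (hk0 : k ≠ 0) (hk8 : 8 + k ^ 3 ≠ 0)
    (hk6 : 8 + 20 * k ^ 3 - k ^ 6 ≠ 0)
    (φ : (Fin 3 → ℂ) →ₗ[ℂ] (Fin 3 → ℂ)) (c lam : ℂ) (hc : c ≠ 0)
    (hφ : ∀ v, hs k (φ v) = c * hs k v) (he : φ e0 = lam • e0) :
    ∃ σ : ℂ, (∀ v, φ v = σ • v) ∨ (∀ v, φ v = σ • ![v 0, v 2, v 1]) := by
  have hk' : (1 : ℂ) - k ^ 3 ≠ 0 := sub_ne_zero.mpr (Ne.symm hk1)
  have key : ∀ (t : ℂ) (w : Fin 3 → ℂ), hs k ((t * lam) • e0 + φ w) = c * hs k (t • e0 + w) := by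
    intro t w
    rw [← hφ, map_add, map_smul, he, smul_smul]
  have h1 : ∀ w, lam ^ 2 * ll k (φ w) = c * ll k w := by
    intro w
    have k1 := key 1 w
    have k2 := key (-1) w
    rw [hs_expand, hs_expand, hφ] at k1 k2
    linear_combination (1 / 6 : ℂ) * k1 + (1 / 6 : ℂ) * k2
  have h2 : ∀ w, lam * (mm (φ w) * ll k (φ w)) = c * (mm w * ll k w) := by
    intro w
    have k1 := key 1 w
    have k2 := key (-1) w
    rw [hs_expand, hs_expand, hφ] at k1 k2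
    linear_combination (1 / 6 : ℂ) * k1 - (1 / 6 : ℂ) * k2
  -- a vector with `ll ≠ 0`, `mm = 0`
  obtain ⟨w0, hw0⟩ : ∃ w0 : Fin 3 → ℂ, w0 = ![0, 1, 1] := ⟨_, rfl⟩
  have hl0 : ll k w0 = 2 := by rw [hw0]; simp [ll]; norm_num
  have hm0 : mm w0 = 0 := by rw [hw0]; simp [mm]
  have hlam : lam ≠ 0 := by
    intro h0
    have := h1 w0
    rw [h0, hl0] at this
    have h2c : c * 2 = 0 := by rw [← this]; ring
    rcases mul_eq_zero.mp h2c with h | h
    · exact hc h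
    · norm_num at h
  have h3' : ∀ w, ll k w ≠ 0 → mm (φ w) = lam * mm w := by
    intro w hw
    have : (lam * c * ll k w) * (mm (φ w) - lam * mm w) = 0 := by
      linear_combination lam ^ 2 * h2 w - (lam * mm (φ w)) * h1 w
    rcases mul_eq_zero.mp this with h | h
    · exact absurd h (mul_ne_zero (mul_ne_zero hlam hc) hw)
    · exact sub_eq_zero.mp h
  have h3 : ∀ w, mm (φ w) = lam * mm w := by
    intro w
    by_cases hw : ll k w = 0
    · have e1 := h3' w0 (by rw [hl0]; norm_num)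
      have e2 := h3' (w + w0) (by rw [ll_add, hw, hl0]; norm_num)
      rw [map_add, mm_add, mm_add, e1, hm0] at e2
      linear_combination e2
    · exact h3' w hw
  have hla : ll k (aa k) = 0 := by simp [ll, aa]; ring
  have hma : mm (aa k) = 0 := by simp [mm, aa]
  have hlc : ll k (cc k) = 8 * (1 - k ^ 3) := by simp [ll, cc]; ring
  have hmc : mm (cc k) = 0 := by simp [mm, cc]
  -- φ a = σ a
  obtain ⟨σ, Z1, hσ, hZ1⟩ := ker_decomp k hk1 (φ (aa k)) (by rw [h3, hma, mul_zero])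
  have hZ1' : Z1 = 0 := by
    have := h1 (aa k)
    rw [hla, mul_zero, ← hZ1] at this
    have hh : lam ^ 2 * (8 * (1 - k ^ 3)) * Z1 = 0 := by linear_combination this
    rcases mul_eq_zero.mp hh with h | h
    · exact absurd h (mul_ne_zero (pow_ne_zero 2 hlam) (mul_ne_zero (by norm_num) hk'))
    · exact h
  rw [hZ1', zero_smul, add_zero] at hσ
  -- φ c = ν a + ρ c
  obtain ⟨ν, ρ, hνρ, hρ⟩ := ker_decomp k hk1 (φ (cc k)) (by rw [h3, hmc, mul_zero])
  have hplane : ∀ X Z : ℂ, φ (X • aa k + Z • cc k) = (σ * X + ν * Z) • aa k + (ρ * Z) • cc k := by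
    intro X Z
    rw [map_add, map_smul, map_smul, hσ, hνρ]
    module
  obtain ⟨G, hG⟩ : ∃ G : ℂ, G = -3 * k * (8 + k ^ 3) := ⟨_, rfl⟩
  obtain ⟨D, hD⟩ : ∃ D : ℂ, D = 2 * (8 + 20 * k ^ 3 - k ^ 6) := ⟨_, rfl⟩
  have hG0 : G ≠ 0 := by
    rw [hG]; exact mul_ne_zero (mul_ne_zero (by norm_num) hk0) hk8
  have hD0 : D ≠ 0 := by
    rw [hD]; exact mul_ne_zero (by norm_num) hk6
  have hE : ∀ X Z : ℂ, (σ * X + ν * Z) ^ 3 + G * ((σ * X + ν * Z) * (ρ * Z) ^ 2) + D * (ρ * Z) ^ 3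
      = c * (X ^ 3 + G * (X * Z ^ 2) + D * Z ^ 3) := by
    intro X Z
    have := hφ (X • aa k + Z • cc k)
    rw [hplane, hs_plane, hs_plane, ← hG, ← hD] at this
    have h8 : (8 * (1 - k ^ 3) : ℂ) ≠ 0 := mul_ne_zero (by norm_num) hk'
    apply mul_left_cancel₀ h8
    linear_combination this
  have E10 := hE 1 0
  have E01 := hE 0 1
  have E11 := hE 1 1
  have E1m := hE 1 (-1)
  have hσ3 : σ ^ 3 = c := by linear_combination E10
  have hσ0 : σ ≠ 0 := by
    intro h; rw [h] at hσ3; exact hc (by rw [← hσ3]; ring)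
  have hν : ν = 0 := by
    have : 3 * σ ^ 2 * ν = 0 := by
      linear_combination (1 / 2 : ℂ) * E11 - (1 / 2 : ℂ) * E1m - E01
    rcases mul_eq_zero.mp this with h | h
    · exact absurd h (mul_ne_zero (by norm_num) (pow_ne_zero 2 hσ0))
    · exact h
  rw [hν] at E11 E1m E01
  have hρ3 : ρ ^ 3 = c := by
    have : D * (ρ ^ 3 - c) = 0 := by linear_combination E01
    rcases mul_eq_zero.mp this with h | h
    · exact absurd h hD0
    · exact sub_eq_zero.mp h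
  have hσρ : σ * ρ ^ 2 = c := by
    have : G * (σ * ρ ^ 2 - c) = 0 := by
      linear_combination (1 / 2 : ℂ) * E11 + (1 / 2 : ℂ) * E1m - E10
    rcases mul_eq_zero.mp this with h | h
    · exact absurd h hG0
    · exact sub_eq_zero.mp h
  have hρ0 : ρ ≠ 0 := by
    intro h; rw [h] at hρ3; exact hc (by rw [← hρ3]; ring)
  have hρσ : ρ = σ := by
    have : ρ ^ 2 * (ρ - σ) = 0 := by linear_combination hρ3 - hσρ
    rcases mul_eq_zero.mp this with h | h
    · exact absurd h (pow_ne_zero 2 hρ0)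
    · exact sub_eq_zero.mp h
  rw [hν, hρσ, zero_smul, zero_add] at hνρ
  -- λ = ± σ
  have hlam2 : lam ^ 2 = σ ^ 2 := by
    have := h1 (cc k)
    rw [hνρ, ll_smul, hlc] at this
    have hh : (8 * (1 - k ^ 3) * σ) * (lam ^ 2 - σ ^ 2) = 0 := by
      linear_combination this - 8 * (1 - k ^ 3) * hσ3
    rcases mul_eq_zero.mp hh with h | h
    · exact absurd h (mul_ne_zero (mul_ne_zero (by norm_num) hk') hσ0)
    · exact sub_eq_zero.mp h
  have hker : ∀ u, mm u = 0 → φ u = σ • u := by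
    intro u hu
    obtain ⟨X, Z, huXZ, -⟩ := ker_decomp k hk1 u hu
    rw [huXZ, map_add, map_smul, map_smul, hσ, hνρ]
    module
  have hgen : ∀ v : Fin 3 → ℂ, φ v = ((v 1 - v 2) / 2 * lam) • e0 + σ • (v - ((v 1 - v 2) / 2) • e0) := by
    intro v
    have hm : mm (v - ((v 1 - v 2) / 2) • e0) = 0 := by
      simp [mm, e0]; ring
    have := hker _ hm
    rw [map_sub, map_smul, he] at this
    rw [← this]
    module
  refine ⟨σ, ?_⟩
  have hcases : lam = σ ∨ lam = -σ := by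
    have : (lam - σ) * (lam + σ) = 0 := by linear_combination hlam2
    rcases mul_eq_zero.mp this with h | h
    · exact Or.inl (sub_eq_zero.mp h)
    · exact Or.inr (eq_neg_of_add_eq_zero_left h)
  rcases hcases with h | h
  · left
    intro v
    rw [hgen, h]
    module
  · right
    intro v
    rw [hgen, h]
    obtain ⟨x, y, z, rfl⟩ : ∃ x y z, v = ![x, y, z] :=
      ⟨v 0, v 1, v 2, by funext i; fin_cases i <;> rfl⟩
    apply vec_ext
    · simp [e0]
    · simp [e0]; ring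
    · simp [e0]; ring

theorem stabilizer (k : ℂ) (hk1 : k ^ 3 ≠ 1) (hk0 : k ≠ 0) (hk8 : 8 + k ^ 3 ≠ 0)
    (hk6 : 8 + 20 * k ^ 3 - k ^ 6 ≠ 0)
    (B : Matrix (Fin 3) (Fin 3) ℂ) (c lam : ℂ) (hc : c ≠ 0)
    (hB : ∀ v, hs k (B.mulVec v) = c * hs k v) (he : B.mulVec e0 = lam • e0) :
    ∃ σ : ℂ, B = mono 1 (fun _ => σ) ∨ B = mono (Equiv.swap 1 2) (fun _ => σ) := by
  obtain ⟨σ, h | h⟩ := stabilizer_lin k hk1 hk0 hk8 hk6 B.mulVecLin c lam hc hB he
  · refine ⟨σ, Or.inl ?_⟩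
    apply Groth.Agent.Lib.H79Cubic.matrix_ext_mulVec
    intro w
    rw [mono_mulVec]
    have := h w
    rw [Matrix.mulVecLin_apply] at this
    rw [this]
    funext i
    simp
  · refine ⟨σ, Or.inr ?_⟩
    apply Groth.Agent.Lib.H79Cubic.matrix_ext_mulVec
    intro w
    rw [mono_mulVec]
    have := h w
    rw [Matrix.mulVecLin_apply] at this
    rw [this]
    funext i
    fin_cases i
    · simp [Equiv.swap_apply_of_ne_of_ne]
    · simp
    · simp

end Groth.Agent.Lib.H79Hesse
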