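import Mathlib
import Groth.Agent.Lib.H79Hesse2

/-! Every automorphism of a generic Hesse cubic is monomial; the count `54`. -/

namespace Groth.Agent.Lib.H79Hesse

open MvPolynomial
open Groth.Agent.S18404 (vec_ext)

theorem hs_flex (k t : ℂ) : hs k (e0 + t • aa k) = t ^ 3 * hs k (aa k) := by
  simp [hs, e0, aa]; ring

theorem hs_e0 (k : ℂ) : hs k e0 = 0 := by
  simp [hs, e0]; norm_num

theorem li_e0_aa (k : ℂ) : LinearIndependent ℂ ![e0, aa k] := by
  rw [LinearIndependent.pair_iff]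
  intro s t h
  have h0 := congrFun h 0
  have h1 := congrFun h 1
  simp [e0, aa] at h0 h1
  subst h0
  simpa using h1

/-- the inverse of a monomial matrix with cube-root-of-unity entries -/
theorem mono_left_inv (π : Equiv.Perm (Fin 3)) (d : Fin 3 → ℂ) (hd : ∀ i, d i ≠ 0) :
    mono π⁻¹ (fun i => (d (π⁻¹ i))⁻¹) * mono π d = 1 := by
  rw [mono_mul, ← mono_one]
  congr 1
  · ext i; simp
  · funext i
    exact inv_mul_cancel₀ (hd _)

theorem finish (k : ℂ) (hk1 : k ^ 3 ≠ 1) (hk0 : k ≠ 0) (hk8 : 8 + k ^ 3 ≠ 0)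
    (hk6 : 8 + 20 * k ^ 3 - k ^ 6 ≠ 0)
    (A : Matrix (Fin 3) (Fin 3) ℂ) (c : ℂ) (hc : c ≠ 0)
    (hA : ∀ v, hs k (A.mulVec v) = c * hs k v)
    (π' : Equiv.Perm (Fin 3)) (d' : Fin 3 → ℂ) (hd' : ∀ i, d' i ^ 3 = 1) (hp' : ∏ i, d' i = 1)
    (s : ℂ) (hs' : (mono π' d').mulVec (A.mulVec e0) = s • e0) :
    ∃ π d, A = mono π d := by
  have hd0 : ∀ i, d' i ≠ 0 := by
    intro i h
    have := hd' i
    rw [h] at this
    norm_num at this
  obtain ⟨B, hBdef⟩ : ∃ B, B = mono π' d' * A := ⟨_, rfl⟩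
  have hB : ∀ v, hs k (B.mulVec v) = c * hs k v := by
    intro v
    rw [hBdef, ← Matrix.mulVec_mulVec, hs_mono k π' d' 1 hd' hp', hA, one_mul]
  have he : B.mulVec e0 = s • e0 := by
    rw [hBdef, ← Matrix.mulVec_mulVec, hs']
  have hAB : A = mono π'⁻¹ (fun i => (d' (π'⁻¹ i))⁻¹) * B := by
    rw [hBdef, ← Matrix.mul_assoc, mono_left_inv π' d' hd0, Matrix.one_mul]
  obtain ⟨σ, h | h⟩ := stabilizer k hk1 hk0 hk8 hk6 B c s hc hB he
  · rw [h, mono_mul] at hAB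
    exact ⟨_, _, hAB⟩
  · rw [h, mono_mul] at hAB
    exact ⟨_, _, hAB⟩

theorem auto_is_mono (k : ℂ) (hk1 : k ^ 3 ≠ 1) (hk0 : k ≠ 0) (hk8 : 8 + k ^ 3 ≠ 0)
    (hk6 : 8 + 20 * k ^ 3 - k ^ 6 ≠ 0)
    (A : Matrix (Fin 3) (Fin 3) ℂ) (hdet : IsUnit A.det) (c : ℂ)
    (hA : ∀ v, hs k (A.mulVec v) = c * hs k v) :
    ∃ π d, A = mono π d := by
  have hinv : ∀ v, A⁻¹.mulVec (A.mulVec v) = v := by
    intro v
    rw [Matrix.mulVec_mulVec, Matrix.nonsing_inv_mul A hdet, Matrix.one_mulVec]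
  have hinv' : ∀ v, A.mulVec (A⁻¹.mulVec v) = v := by
    intro v
    rw [Matrix.mulVec_mulVec, Matrix.mul_nonsing_inv A hdet, Matrix.one_mulVec]
  have hinj : Function.Injective A.mulVec := by
    intro u v h
    rw [← hinv u, ← hinv v, h]
  have hc : c ≠ 0 := by
    intro h0
    have := hA (A⁻¹.mulVec ![1, 0, 0])
    rw [hinv', h0, zero_mul] at this
    simp [hs] at this
  obtain ⟨P, hP⟩ : ∃ P, P = A.mulVec e0 := ⟨_, rfl⟩
  have hP0 : P ≠ 0 := by
    intro h0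
    have : e0 = 0 := by
      apply hinj
      rw [← hP, h0, Matrix.mulVec_zero]
    have := congrFun this 1
    simp [e0] at this
  have hFP : eval P (HesseCubic.form k) = 0 := by
    rw [eval_form, hP, hA, hs_e0, mul_zero]
  have hflex : ∃ w : Fin 3 → ℂ, LinearIndependent ℂ ![P, w] ∧
      ∀ t : ℂ, eval (P + t • w) (HesseCubic.form k) = t ^ 3 * eval w (HesseCubic.form k) := by
    refine ⟨A.mulVec (aa k), ?_, ?_⟩
    · rw [LinearIndependent.pair_iff]
      intro s t h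
      have h' : A.mulVec (s • e0 + t • aa k) = A.mulVec 0 := by
        rw [Matrix.mulVec_add, Matrix.mulVec_smul, Matrix.mulVec_smul, ← hP, h, Matrix.mulVec_zero]
      exact LinearIndependent.pair_iff.mp (li_e0_aa k) s t (hinj h')
    · intro t
      rw [eval_form, eval_form, hP, ← Matrix.mulVec_smul, ← Matrix.mulVec_add, hA, hA, hs_flex]
      ring
  obtain ⟨γ, c', hγ, hcases⟩ := (Groth.Agent.S18404.result k hk1 P hP0 hFP).mp hflex
  have hd' : ∀ i, (![γ ^ 2, γ, 1] : Fin 3 → ℂ) i ^ 3 = 1 := by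
    intro i
    fin_cases i
    · simp only [Fin.zero_eta, Matrix.cons_val_zero]; rw [← pow_mul, mul_comm, pow_mul, hγ, one_pow]
    · simpa using hγ
    · simp
  have hp' : ∏ i, (![γ ^ 2, γ, 1] : Fin 3 → ℂ) i = 1 := by
    rw [Fin.prod_univ_three]
    simp only [Matrix.cons_val_zero, Matrix.cons_val_one, Matrix.cons_val_two,
      Matrix.head_cons, Matrix.tail_cons]
    linear_combination hγ
  rcases hcases with h | h | h
  · refine finish k hk1 hk0 hk8 hk6 A c hc hA 1 ![γ ^ 2, γ, 1] hd' hp' (c' * γ) ?_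
    rw [← hP, h, mono_mulVec]
    apply vec_ext <;> simp [e0] <;> ring
  · have r0 : finRotate 3 0 = 1 := by decide
    have r1 : finRotate 3 1 = 2 := by decide
    have r2 : finRotate 3 2 = 0 := by decide
    refine finish k hk1 hk0 hk8 hk6 A c hc hA (finRotate 3) ![γ ^ 2, γ, 1] hd' hp' (c' * γ) ?_
    rw [← hP, h, mono_mulVec]
    apply vec_ext <;> simp [e0, r0, r1, r2] <;> ring
  · have r0 : (finRotate 3)⁻¹ 0 = 2 := by decide
    have r1 : (finRotate 3)⁻¹ 1 = 0 := by decide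
    have r2 : (finRotate 3)⁻¹ 2 = 1 := by decide
    refine finish k hk1 hk0 hk8 hk6 A c hc hA (finRotate 3)⁻¹ ![γ ^ 2, γ, 1] hd' hp' (c' * γ) ?_
    rw [← hP, h, mono_mulVec]
    apply vec_ext <;> simp [e0, r0, r1, r2] <;> ring

end Groth.Agent.Lib.H79Hesse
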