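import Mathlib
import Groth.Agent.Lib.H79Hesse3

/-! The `54` determinant-one automorphisms of a generic Hesse cubic. -/

namespace Groth.Agent.Lib.H79Hesse

open Groth.Agent.S18404 (vec_ext)

/-- cube roots of unity -/
noncomputable def mu3 : Finset ℂ := Polynomial.nthRootsFinset 3 (1 : ℂ)

theorem mem_mu3 {z : ℂ} : z ∈ mu3 ↔ z ^ 3 = 1 :=
  Polynomial.mem_nthRootsFinset (by norm_num) 1

theorem card_mu3 : mu3.card = 3 :=
  (Complex.isPrimitiveRoot_exp 3 (by norm_num)).card_nthRootsFinset

/-- the sign of a permutation as a complex number -/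
noncomputable def sg (π : Equiv.Perm (Fin 3)) : ℂ := ((Equiv.Perm.sign π : ℤ) : ℂ)

theorem sg_cases (π : Equiv.Perm (Fin 3)) : sg π = 1 ∨ sg π = -1 := by
  rcases Int.units_eq_one_or (Equiv.Perm.sign π) with h | h
  · left; simp [sg, h]
  · right; simp [sg, h]

theorem sg_sq (π : Equiv.Perm (Fin 3)) : sg π ^ 2 = 1 := by
  rcases sg_cases π with h | h <;> rw [h] <;> norm_num

theorem sg_ne_zero (π : Equiv.Perm (Fin 3)) : sg π ≠ 0 := by
  rcases sg_cases π with h | h <;> rw [h] <;> norm_num

/-- parametrisation of the 54 matrices -/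
noncomputable def param (x : Equiv.Perm (Fin 3) × ℂ × ℂ) : Matrix (Fin 3) (Fin 3) ℂ :=
  mono x.1 (fun i => sg x.1 * ![x.2.1, x.2.2, (x.2.1 * x.2.2) ^ 2] i)

open Classical in
/-- the finite set of determinant-one automorphisms -/
noncomputable def autos : Finset (Matrix (Fin 3) (Fin 3) ℂ) :=
  (Finset.univ ×ˢ mu3 ×ˢ mu3).image param

theorem card_autos : autos.card = 54 := by
  classical
  unfold autos
  rw [Finset.card_image_of_injOn]
  · rw [Finset.card_product, Finset.card_product, card_mu3, Finset.card_univ, Fintype.card_perm,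
      Fintype.card_fin]
    rfl
  · intro x hx y hy hxy
    simp only [Finset.coe_product, Set.mem_prod, Finset.mem_coe, mem_mu3] at hx hy
    unfold param at hxy
    have hd : ∀ i, sg x.1 * (![x.2.1, x.2.2, (x.2.1 * x.2.2) ^ 2] : Fin 3 → ℂ) i ≠ 0 := by
      intro i
      apply mul_ne_zero (sg_ne_zero _)
      have h1 : x.2.1 ≠ 0 := by
        intro h; have := hx.2.1; rw [h] at this; norm_num at this
      have h2 : x.2.2 ≠ 0 := by
        intro h; have := hx.2.2; rw [h] at this; norm_num at this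
      fin_cases i
      · simpa using h1
      · simpa using h2
      · simpa using ⟨h1, h2⟩
    obtain ⟨h1, h2⟩ := mono_inj hd hxy
    have e0 := congrFun h2 0
    have e1 := congrFun h2 1
    simp only [Matrix.cons_val_zero, Matrix.cons_val_one, Matrix.head_cons] at e0 e1
    rw [h1] at e0 e1
    have e0' := mul_left_cancel₀ (sg_ne_zero _) e0
    have e1' := mul_left_cancel₀ (sg_ne_zero _) e1
    exact Prod.ext h1 (Prod.ext e0' e1')

theorem mem_autos_iff (k : ℂ) (hk1 : k ^ 3 ≠ 1) (hk0 : k ≠ 0) (hk8 : 8 + k ^ 3 ≠ 0)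
    (hk6 : 8 + 20 * k ^ 3 - k ^ 6 ≠ 0) (A : Matrix (Fin 3) (Fin 3) ℂ) :
    A ∈ autos ↔ A.det = 1 ∧ ∃ c : ℂ, ∀ v, hs k (A.mulVec v) = c * hs k v := by
  classical
  constructor
  · intro hA
    unfold autos at hA
    rw [Finset.mem_image] at hA
    obtain ⟨⟨π, z0, z1⟩, hx, rfl⟩ := hA
    simp only [Finset.mem_product, Finset.mem_univ, true_and, mem_mu3] at hx
    obtain ⟨hz0, hz1⟩ := hx
    have hs2 := sg_sq π
    have hd : ∀ i, (sg π * (![z0, z1, (z0 * z1) ^ 2] : Fin 3 → ℂ) i) ^ 3 = sg π := by
      intro i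
      fin_cases i
      · simp only [Fin.zero_eta, Matrix.cons_val_zero]
        linear_combination (sg π * z0 ^ 3) * hs2 + sg π * hz0
      · simp only [Fin.mk_one, Matrix.cons_val_one, Matrix.cons_val_zero]
        linear_combination (sg π * z1 ^ 3) * hs2 + sg π * hz1
      · simp only [Fin.reduceFinMk, Matrix.cons_val_two, Matrix.tail_cons, Matrix.head_cons]
        linear_combination (sg π * (z0 * z1) ^ 6) * hs2
          + sg π * ((z0 ^ 3) ^ 2 * (z1 ^ 3 + 1)) * hz1 + sg π * (z0 ^ 3 + 1) * hz0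
    have hp : ∏ i, (sg π * (![z0, z1, (z0 * z1) ^ 2] : Fin 3 → ℂ) i) = sg π := by
      rw [Fin.prod_univ_three]
      simp only [Matrix.cons_val_zero, Matrix.cons_val_one, Matrix.cons_val_two,
        Matrix.head_cons, Matrix.tail_cons]
      linear_combination (sg π * (z0 * z1) ^ 3) * hs2 + sg π * z1 ^ 3 * hz0 + sg π * hz1
    refine ⟨?_, sg π, fun v => hs_mono k π _ (sg π) hd hp v⟩
    unfold param
    rw [det_mono, hp]
    show sg π * sg π = 1
    linear_combination hs2
  · rintro ⟨hdet, c, hA⟩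
    obtain ⟨π, d, rfl⟩ := auto_is_mono k hk1 hk0 hk8 hk6 A (by rw [hdet]; exact isUnit_one) c hA
    obtain ⟨hd, hp⟩ := mono_of_hs k hk0 π d c hA
    rw [det_mono, hp] at hdet
    have hs2 := sg_sq π
    have hdet' : c * sg π = 1 := hdet
    have hc : c = sg π := by linear_combination sg π * hdet' - c * hs2
    rw [hc] at hd hp
    unfold autos
    rw [Finset.mem_image]
    refine ⟨(π, sg π * d 0, sg π * d 1), ?_, ?_⟩
    · simp only [Finset.mem_product, Finset.mem_univ, true_and, mem_mu3]
      constructor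
      · linear_combination (sg π * d 0 ^ 3) * hs2 + sg π * hd 0 + hs2
      · linear_combination (sg π * d 1 ^ 3) * hs2 + sg π * hd 1 + hs2
    · unfold param
      congr 1
      funext i
      have hd2 : d 2 ≠ 0 := by
        intro h
        have := hd 2
        rw [h] at this
        exact sg_ne_zero π (by rw [← this]; ring)
      rw [Fin.prod_univ_three] at hp
      fin_cases i
      · simp only [Fin.zero_eta, Matrix.cons_val_zero]
        linear_combination (d 0) * hs2
      · simp only [Fin.mk_one, Matrix.cons_val_one, Matrix.cons_val_zero]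
        linear_combination (d 1) * hs2
      · simp only [Fin.reduceFinMk, Matrix.cons_val_two, Matrix.tail_cons, Matrix.head_cons]
        have h3 : d 2 ^ 2 * (sg π * (sg π * d 0 * (sg π * d 1)) ^ 2 - d 2) = 0 := by
          have e2 := hd 2
          linear_combination (sg π ^ 5) * (d 0 * d 1 * d 2 + sg π) * hp - e2
            + (sg π ^ 5 + sg π ^ 3 + sg π) * hs2
        rcases mul_eq_zero.mp h3 with h | h
        · exact absurd h (pow_ne_zero 2 hd2)
        · exact sub_eq_zero.mp h

/-- the bad polynomial -/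
noncomputable def badPoly : Polynomial ℂ :=
  (Polynomial.X ^ 3 - 1) * Polynomial.X * (8 + Polynomial.X ^ 3)
    * (8 + 20 * Polynomial.X ^ 3 - Polynomial.X ^ 6)

noncomputable def badSet : Finset ℂ := badPoly.roots.toFinset

theorem badPoly_ne_zero : badPoly ≠ 0 := by
  intro h
  have := congrArg (Polynomial.eval 2) h
  simp [badPoly] at this
  norm_num at this

theorem generic_of_not_mem {k : ℂ} (hk : k ∉ badSet) :
    k ^ 3 ≠ 1 ∧ k ≠ 0 ∧ 8 + k ^ 3 ≠ 0 ∧ 8 + 20 * k ^ 3 - k ^ 6 ≠ 0 := by
  have hev : badPoly.eval k ≠ 0 := by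
    intro h
    apply hk
    rw [badSet, Multiset.mem_toFinset, Polynomial.mem_roots badPoly_ne_zero]
    exact h
  simp only [badPoly, Polynomial.eval_mul, Polynomial.eval_sub, Polynomial.eval_add,
    Polynomial.eval_pow, Polynomial.eval_X, Polynomial.eval_one, Polynomial.eval_ofNat] at hev
  refine ⟨?_, ?_, ?_, ?_⟩
  · intro h; apply hev; rw [h]; ring
  · intro h; apply hev; rw [h]; ring
  · intro h; apply hev; rw [h]; ring
  · intro h; apply hev; rw [h]; ring

end Groth.Agent.Lib.H79Hesse
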