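import Mathlib

set_option autoImplicit false

namespace Groth.Agent.Lib.PrincipalSmooth9

open KaehlerDifferential TensorProduct

variable {R P A : Type*} [CommRing R] [CommRing P] [CommRing A] [Algebra R P] [Algebra R A]
  [Algebra P A] [IsScalarTower R P A]

/-- the map `A → J/J²`, `algebraMap p ↦ p • F̄`. -/
theorem exists_toCot (hs : Function.Surjective (algebraMap P A))
    (m : (RingHom.ker (algebraMap P A)).Cotangent) :
    ∃ g : A →ₗ[P] (RingHom.ker (algebraMap P A)).Cotangent, ∀ p : P, g (algebraMap P A p) = p • m := by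
  let g0 : P →ₗ[P] (RingHom.ker (algebraMap P A)).Cotangent := LinearMap.toSpanSingleton P _ m
  have hk : LinearMap.ker (Algebra.linearMap P A) ≤ LinearMap.ker g0 := by
    intro p hp
    rw [LinearMap.mem_ker] at hp ⊢
    have : p ∈ RingHom.ker (algebraMap P A) := hp
    simp only [g0, LinearMap.toSpanSingleton_apply]
    exact Ideal.Cotangent.smul_eq_zero_of_mem this m
  let e := (Algebra.linearMap P A).quotKerEquivOfSurjective hs
  refine ⟨((LinearMap.ker (Algebra.linearMap P A)).liftQ g0 hk) ∘ₗ e.symm.toLinearMap, fun p => ?_⟩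
  have : e.symm (algebraMap P A p) = Submodule.Quotient.mk p := by
    rw [LinearEquiv.symm_apply_eq]
    rfl
  rw [LinearMap.comp_apply, LinearEquiv.coe_coe, this, Submodule.liftQ_apply]
  simp [g0]

theorem formallySmooth_of_derivation [Algebra.FormallySmooth R P]
    (hs : Function.Surjective (algebraMap P A)) (F : P)
    (hker : RingHom.ker (algebraMap P A) = Ideal.span {F}) (D : Derivation R P A)
    (hD : D F = 1) : Algebra.FormallySmooth R A := by
  rw [Algebra.FormallySmooth.iff_split_injection hs]
  have hF : F ∈ RingHom.ker (algebraMap P A) := by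
    rw [hker]; exact Ideal.mem_span_singleton_self F
  obtain ⟨g, hg⟩ := exists_toCot hs ((RingHom.ker (algebraMap P A)).toCotangent ⟨F, hF⟩)
  let φ : A ⊗[P] Ω[P⁄R] →ₗ[P] A :=
    (LinearMap.mul' P A) ∘ₗ (LinearMap.lTensor A D.liftKaehlerDifferential)
  refine ⟨g ∘ₗ φ, ?_⟩
  ext m
  obtain ⟨x, rfl⟩ := Ideal.toCotangent_surjective _ m
  obtain ⟨p, hp⟩ : ∃ p : P, p * F = x.1 := by
    have h2 : x.1 ∈ Ideal.span {F} := hker ▸ x.2
    exact Ideal.mem_span_singleton'.mp h2
  have h1 : φ (kerCotangentToTensor R P A (Ideal.toCotangent _ x)) = algebraMap P A p := by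
    rw [kerCotangentToTensor_toCotangent]
    simp only [φ, LinearMap.comp_apply, LinearMap.lTensor_tmul, LinearMap.mul'_apply,
      Derivation.liftKaehlerDifferential_comp_D, one_mul]
    rw [← hp, Derivation.leibniz, hD, Algebra.smul_def, mul_one, Algebra.smul_def,
      (RingHom.mem_ker).mp hF, zero_mul, add_zero]
  simp only [LinearMap.comp_apply, LinearMap.id_apply]
  rw [h1, hg, ← map_smul]
  congr 1
  ext
  simp [← hp]

/-- the coordinate `J/J² → A` for `J = (F)`, `F` a nonzerodivisor. -/
theorem exists_coord (F : P) (hF : F ∈ nonZeroDivisors P)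
    (hker : RingHom.ker (algebraMap P A) = Ideal.span {F}) :
    ∃ c : (RingHom.ker (algebraMap P A)).Cotangent →ₗ[P] A,
      ∀ (p : P) (h : p * F ∈ RingHom.ker (algebraMap P A)),
        c (Ideal.toCotangent _ ⟨p * F, h⟩) = algebraMap P A p := by
  let f : P →ₗ[P] P := LinearMap.toSpanSingleton P P F
  have hf : Function.Injective f := by
    rw [injective_iff_map_eq_zero]
    intro p hp
    simp only [f, LinearMap.toSpanSingleton_apply, smul_eq_mul] at hp
    exact (mul_right_mem_nonZeroDivisors_eq_zero_iff hF).mp hp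
  have hr : (RingHom.ker (algebraMap P A) : Submodule P P) = LinearMap.range f := by
    rw [hker]
    exact (LinearMap.span_singleton_eq_range P P F)
  let e : P ≃ₗ[P] (RingHom.ker (algebraMap P A)) :=
    (LinearEquiv.ofInjective f hf).trans (LinearEquiv.ofEq _ _ hr.symm)
  have he : ∀ p : P, (e p : P) = p * F := fun p => rfl
  let c0 : (RingHom.ker (algebraMap P A)) →ₗ[P] A := (Algebra.linearMap P A) ∘ₗ e.symm.toLinearMap
  have hc0 : (RingHom.ker (algebraMap P A)) • (⊤ : Submodule P (RingHom.ker (algebraMap P A))) ≤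
      LinearMap.ker c0 := by
    rw [Submodule.smul_le]
    intro r hr n _
    rw [LinearMap.mem_ker, map_smul, Algebra.smul_def, (RingHom.mem_ker).mp hr, zero_mul]
  refine ⟨Submodule.liftQ _ c0 hc0, fun p h => ?_⟩
  have : (⟨p * F, h⟩ : RingHom.ker (algebraMap P A)) = e p := Subtype.ext (he p).symm
  rw [this]
  show c0 (e p) = _
  simp [c0]

theorem exists_derivation_of_formallySmooth [Algebra.FormallySmooth R P]
    (hs : Function.Surjective (algebraMap P A)) (F : P) (hF : F ∈ nonZeroDivisors P)
    (hker : RingHom.ker (algebraMap P A) = Ideal.span {F}) [Algebra.FormallySmooth R A] :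
    ∃ D : Derivation R P A, D F = 1 := by
  obtain ⟨l, hl⟩ := (Algebra.FormallySmooth.iff_split_injection (R := R) hs).mp inferInstance
  obtain ⟨c, hc⟩ := exists_coord (A := A) F hF hker
  have hFk : F ∈ RingHom.ker (algebraMap P A) := by
    rw [hker]; exact Ideal.mem_span_singleton_self F
  refine ⟨(c ∘ₗ l ∘ₗ (TensorProduct.mk P A Ω[P⁄R] 1)).compDer (KaehlerDifferential.D R P), ?_⟩
  have h1 : l (kerCotangentToTensor R P A (Ideal.toCotangent _ ⟨F, hFk⟩)) =
      Ideal.toCotangent _ ⟨F, hFk⟩ := by
    have := congrArg (fun u => u (Ideal.toCotangent _ ⟨F, hFk⟩)) hl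
    simpa using this
  rw [kerCotangentToTensor_toCotangent] at h1
  show c (l ((1 : A) ⊗ₜ[P] KaehlerDifferential.D R P F)) = 1
  rw [h1]
  have h2 := hc 1 (by rwa [one_mul])
  simp only [one_mul, map_one] at h2
  exact h2

theorem mem_nonZeroDivisors_of_irreducible {A : Type*} [CommRing A] [IsNoetherianRing A]
    (hdom : ∀ (m : Ideal A) [m.IsMaximal], IsDomain (Localization.AtPrime m)) (s : A)
    (hs : Irreducible s) : s ∈ nonZeroDivisors A := by
  classical
  let I : Ideal A := LinearMap.ker (LinearMap.toSpanSingleton A A s)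
  have hI : ∀ a, a ∈ I ↔ a * s = 0 := fun a => by
    simp [I, LinearMap.mem_ker, LinearMap.toSpanSingleton_apply]
  let J : Ideal A := Submodule.annihilator I
  have hIJ : I ⊔ J = ⊤ := by
    by_contra hne
    obtain ⟨m, hm, hle⟩ := Ideal.exists_le_maximal _ hne
    have := hdom m
    have hs1 : algebraMap A (Localization.AtPrime m) s ≠ 0 := by
      intro h0
      rw [IsLocalization.map_eq_zero_iff m.primeCompl] at h0
      obtain ⟨u, hu⟩ := h0
      exact u.2 (hle (Ideal.mem_sup_left ((hI _).mpr hu)))
    obtain ⟨T, hT⟩ := (isNoetherianRing_iff_ideal_fg A).mp inferInstance I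
    have h1 : ∀ t ∈ T, ∃ u : m.primeCompl, (u : A) * t = 0 := by
      intro t ht
      have htI : t ∈ I := hT ▸ Ideal.subset_span ht
      have h2 : algebraMap A (Localization.AtPrime m) t * algebraMap A _ s = 0 := by
        rw [← map_mul, (hI t).mp htI, map_zero]
      have h3 := (mul_eq_zero.mp h2).resolve_right hs1
      exact (IsLocalization.map_eq_zero_iff m.primeCompl _ _).mp h3
    choose! u hu using h1
    let v : m.primeCompl := ∏ t ∈ T, u t
    have hv : (v : A) ∈ J := by
      rw [Submodule.mem_annihilator]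
      intro i hi
      rw [← hT] at hi
      induction hi using Submodule.span_induction with
      | mem x hx =>
        have : (v : A) = (∏ t ∈ T.erase x, (u t : A)) * (u x : A) := by
          simp only [v, Submonoid.coe_finsetProd]
          rw [Finset.prod_erase_mul T _ hx]
        rw [smul_eq_mul, this, mul_assoc, hu x hx, mul_zero]
      | zero => simp
      | add x y _ _ hx hy => rw [smul_add, hx, hy, add_zero]
      | smul a x _ hx => rw [smul_comm, hx, smul_zero]
    exact v.2 (hle (Ideal.mem_sup_right hv))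
  obtain ⟨i, hi, j, hj, hij⟩ := Submodule.mem_sup.mp (hIJ ▸ Submodule.mem_top : (1 : A) ∈ I ⊔ J)
  have hsj : s = s * j := by
    have : s = s * (i + j) := by rw [hij, mul_one]
    rw [mul_add, mul_comm s i, (hI i).mp hi, zero_add] at this
    exact this
  have hju : IsUnit j := (hs.isUnit_or_isUnit hsj).resolve_left hs.not_isUnit
  rw [mem_nonZeroDivisors_iff_right]
  intro a ha
  have haI : a ∈ I := (hI a).mpr ha
  have : j * a = 0 := by
    have := (Submodule.mem_annihilator.mp hj) a haI
    simpa using this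
  exact (hju.mul_right_eq_zero).mp this

end Groth.Agent.Lib.PrincipalSmooth9
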