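import Mathlib
import Groth.Agent.Lib.PrincipalSmooth9

/-!
# Jacobian criterion for affine hypersurfaces over a field (helper79)

`smooth_quotient_span_singleton_iff`: for `F ≠ 0` in `k[x_i : i ∈ σ]` (σ finite, k a field),
`k[x]/(F)` is smooth over `k` iff `1 ∈ (F, ∂F/∂x_i)`, in the explicit form
`∃ α γ, ∑ i, α i * pderiv i F + γ * F = 1`.
Built on helper9's `PrincipalSmooth9`.
-/

set_option autoImplicit false

namespace Groth.Agent.Lib.H79Jac

open MvPolynomial

/-- chain rule: a derivation applied to `aeval v f`. -/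
theorem deriv_aeval {k R M σ : Type*} [CommRing k] [CommRing R] [Algebra k R] [AddCommGroup M]
    [Module k M] [Module R M] [IsScalarTower k R M] [Fintype σ]
    (δ : Derivation k R M) (v : σ → R) (f : MvPolynomial σ k) :
    δ (aeval v f) = ∑ i, aeval v (pderiv i f) • δ (v i) := by
  classical
  induction f using MvPolynomial.induction_on with
  | C a => simp
  | add p q hp hq => simp [hp, hq, add_smul, Finset.sum_add_distrib]
  | mul_X p j hp =>
    have key : ∀ i, aeval v (pderiv i (p * X j))
        = aeval v (pderiv i p) * v j + aeval v p * (if j = i then 1 else 0) := by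
      intro i
      rw [pderiv_mul, map_add, map_mul, map_mul, aeval_X, pderiv_X]
      congr 2
      by_cases h : j = i
      · subst h; simp
      · simp [h]
    rw [map_mul, aeval_X, Derivation.leibniz, hp]
    simp only [key, add_smul, Finset.sum_add_distrib, mul_smul, Finset.smul_sum]
    rw [add_comm]
    congr 1
    · refine Finset.sum_congr rfl fun i _ => ?_
      rw [smul_comm]
    · simp [Finset.sum_ite_eq]

/-- a derivation of a polynomial ring is determined by the partial derivatives. -/
theorem deriv_eq_sum {k M σ : Type*} [CommRing k] [AddCommGroup M]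
    [Module k M] [Module (MvPolynomial σ k) M] [IsScalarTower k (MvPolynomial σ k) M] [Fintype σ]
    (δ : Derivation k (MvPolynomial σ k) M) (f : MvPolynomial σ k) :
    δ f = ∑ i, pderiv i f • δ (X i) := by
  have h := deriv_aeval δ (X : σ → MvPolynomial σ k) f
  simpa using h

variable {k : Type*} [Field k] {σ : Type*} [Fintype σ]

theorem smooth_of_jacobian (F : MvPolynomial σ k) (α : σ → MvPolynomial σ k)
    (γ : MvPolynomial σ k) (h : ∑ i, α i * pderiv i F + γ * F = 1) :
    Algebra.FormallySmooth k (MvPolynomial σ k ⧸ Ideal.span {F}) ∧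
      Algebra.FinitePresentation k (MvPolynomial σ k ⧸ Ideal.span {F}) := by
  constructor
  · let D : Derivation k (MvPolynomial σ k) (MvPolynomial σ k ⧸ Ideal.span {F}) :=
      mkDerivation k (fun i => Ideal.Quotient.mk _ (α i))
    refine PrincipalSmooth9.formallySmooth_of_derivation (R := k) (P := MvPolynomial σ k)
      (A := MvPolynomial σ k ⧸ Ideal.span {F}) Ideal.Quotient.mk_surjective F
      (Ideal.mk_ker) D ?_
    rw [deriv_eq_sum D F]
    have h1 : ∀ i, pderiv i F • D (X i) = Ideal.Quotient.mk (Ideal.span {F}) (α i * pderiv i F) := by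
      intro i
      simp only [D, mkDerivation_X]
      rw [mul_comm (α i)]
      rfl
    simp only [h1]
    rw [← map_sum]
    have h2 : ∑ i, α i * pderiv i F = 1 - γ * F := by rw [← h]; ring
    rw [h2, map_sub, map_one, map_mul]
    have : Ideal.Quotient.mk (Ideal.span {F}) F = 0 :=
      Ideal.Quotient.eq_zero_iff_mem.mpr (Ideal.mem_span_singleton_self F)
    rw [this, mul_zero, sub_zero]
  · exact Algebra.FinitePresentation.quotient ⟨{F}, by simp⟩

theorem jacobian_of_formallySmooth (F : MvPolynomial σ k) (hF : F ≠ 0)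
    [Algebra.FormallySmooth k (MvPolynomial σ k ⧸ Ideal.span {F})] :
    ∃ (α : σ → MvPolynomial σ k) (γ : MvPolynomial σ k),
      ∑ i, α i * pderiv i F + γ * F = 1 := by
  obtain ⟨D, hD⟩ := PrincipalSmooth9.exists_derivation_of_formallySmooth (R := k)
    (P := MvPolynomial σ k) (A := MvPolynomial σ k ⧸ Ideal.span {F})
    Ideal.Quotient.mk_surjective F (mem_nonZeroDivisors_of_ne_zero hF) Ideal.mk_ker
  have hs : ∀ i, ∃ a : MvPolynomial σ k, Ideal.Quotient.mk (Ideal.span {F}) a = D (X i) :=
    fun i => Ideal.Quotient.mk_surjective _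
  choose α hα using hs
  rw [deriv_eq_sum D F] at hD
  have h1 : ∀ i, pderiv i F • D (X i) = Ideal.Quotient.mk (Ideal.span {F}) (α i * pderiv i F) := by
    intro i
    rw [← hα i, mul_comm (α i)]
    rfl
  simp only [h1] at hD
  rw [← map_sum, ← map_one (Ideal.Quotient.mk (Ideal.span {F})), Ideal.Quotient.eq,
    Ideal.mem_span_singleton'] at hD
  obtain ⟨c, hc⟩ := hD
  refine ⟨α, -c, ?_⟩
  rw [neg_mul, hc]
  ring

/-- **Jacobian criterion** for an affine hypersurface over a field. -/
theorem smooth_quotient_span_singleton_iff {k : Type*} [Field k] {σ : Type*} [Fintype σ]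
    (F : MvPolynomial σ k) (hF : F ≠ 0) :
    (Algebra.FormallySmooth k (MvPolynomial σ k ⧸ Ideal.span {F}) ∧
      Algebra.FinitePresentation k (MvPolynomial σ k ⧸ Ideal.span {F})) ↔
      ∃ (α : σ → MvPolynomial σ k) (γ : MvPolynomial σ k),
        ∑ i, α i * pderiv i F + γ * F = 1 := by
  constructor
  · rintro ⟨h1, _⟩
    exact jacobian_of_formallySmooth F hF
  · rintro ⟨α, γ, h⟩
    exact smooth_of_jacobian F α γ h

end Groth.Agent.Lib.H79Jac
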