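import Mathlib.AlgebraicTopology.DoldKan.Equivalence
import Mathlib.AlgebraicTopology.DoldKan.Normalized
import Mathlib.AlgebraicTopology.MooreComplex
import Mathlib.CategoryTheory.Limits.FunctorCategory.EpiMono

/-!
# Monomorphisms of simplicial objects in an abelian category via the normalized Moore complex

A morphism of simplicial objects of an abelian category whose normalized Moore complex map is a
monomorphism in each degree is a monomorphism (in each degree).  This uses the Dold-Kan
equivalence only through the faithfulness of the normalized Moore complex functor.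
-/

set_option autoImplicit false
open CategoryTheory CategoryTheory.Limits Opposite

universe v u

namespace Groth.Agent.Lib.H79MooreMono

variable {A : Type u} [Category.{v} A] [Abelian A]

lemma normalizedMooreComplex_faithful : (AlgebraicTopology.normalizedMooreComplex A).Faithful := by
  have h : (Abelian.DoldKan.equivalence (A := A)).functor.Faithful := inferInstance
  exact h

/-- The degree `k` part of the map induced on normalized Moore complexes, with source and target
written as (coerced) subobjects. -/
noncomputable def Nf {X Y : SimplicialObject A} (f : X ⟶ Y) (k : ℕ) :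
    (AlgebraicTopology.NormalizedMooreComplex.objX X k : A) ⟶
      (AlgebraicTopology.NormalizedMooreComplex.objX Y k : A) :=
  ((AlgebraicTopology.normalizedMooreComplex A).map f).f k

lemma Nf_arrow {X Y : SimplicialObject A} (f : X ⟶ Y) (k : ℕ) :
    Nf f k ≫ (AlgebraicTopology.NormalizedMooreComplex.objX Y k).arrow =
    (AlgebraicTopology.NormalizedMooreComplex.objX X k).arrow ≫
      f.app (op (SimplexCategory.mk k)) := by
  have h := (AlgebraicTopology.inclusionOfMooreComplex A).naturality f
  exact HomologicalComplex.congr_hom h k

lemma Nf_comp {X Y Z : SimplicialObject A} (f : X ⟶ Y) (g : Y ⟶ Z) (k : ℕ) :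
    Nf (f ≫ g) k = Nf f k ≫ Nf g k := by
  rw [← cancel_mono (AlgebraicTopology.NormalizedMooreComplex.objX Z k).arrow, Category.assoc,
    Nf_arrow, Nf_arrow, ← Category.assoc, Nf_arrow, Category.assoc]
  rfl

lemma Nf_zero {X Y : SimplicialObject A} (k : ℕ) : Nf (0 : X ⟶ Y) k = 0 := by
  rw [← cancel_mono (AlgebraicTopology.NormalizedMooreComplex.objX Y k).arrow, Nf_arrow, zero_comp]
  exact comp_zero

/-- A morphism of simplicial objects in an abelian category is a monomorphism as soon as the
induced map on normalized Moore complexes is a monomorphism in each degree. -/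
theorem mono_of_mono_Nf {X Y : SimplicialObject A} (f : X ⟶ Y)
    (h : ∀ k : ℕ, Mono (Nf f k)) : Mono f := by
  have hN := normalizedMooreComplex_faithful (A := A)
  apply Preadditive.mono_of_kernel_zero
  have hι : ∀ c, Mono ((kernel.ι f).app c) := fun c => inferInstance
  have hzero : (AlgebraicTopology.normalizedMooreComplex A).map (𝟙 (kernel f)) =
      (AlgebraicTopology.normalizedMooreComplex A).map 0 := by
    ext k
    have h1 : Nf (kernel.ι f) k = 0 := by
      have := h k
      rw [← cancel_mono (Nf f k), zero_comp, ← Nf_comp, kernel.condition, Nf_zero]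
    have h2 := Nf_arrow (kernel.ι f) k
    rw [h1, zero_comp] at h2
    have := hι (op (SimplexCategory.mk k))
    have h3 : (AlgebraicTopology.NormalizedMooreComplex.objX (kernel f) k).arrow = 0 := by
      rw [← cancel_mono ((kernel.ι f).app (op (SimplexCategory.mk k))), zero_comp]
      exact h2.symm
    have h4 : Nf (𝟙 (kernel f)) k = Nf (0 : kernel f ⟶ kernel f) k := by
      rw [← cancel_mono (AlgebraicTopology.NormalizedMooreComplex.objX (kernel f) k).arrow,
        Nf_arrow, Nf_arrow, h3, zero_comp, zero_comp]
    exact h4
  have h6 : 𝟙 (kernel f) = 0 := hN.map_injective hzero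
  rw [← Category.id_comp (kernel.ι f), h6, zero_comp]

/-- Degreewise version. -/
theorem mono_app_of_mono_Nf {X Y : SimplicialObject A} (f : X ⟶ Y)
    (h : ∀ k : ℕ, Mono (Nf f k)) (c : SimplexCategoryᵒᵖ) : Mono (f.app c) :=
  have := mono_of_mono_Nf f h
  inferInstance

end Groth.Agent.Lib.H79MooreMono
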