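import Mathlib

/-!
# A lifting-criterion test for non-(formal-)smoothness of `(k[x]/I)[1/x_w]`

`not_formallySmooth_of_test`: if there are a `k`-algebra `C`, a square-zero ideal `J`, a point
`y : σ → C` with `f(y) ∈ J` for all `f ∈ I`, `y w` a unit, such that no `z ≡ y mod J` is a common zero
of `I`, then `Localization.Away (mk I (X w))` is not formally smooth over `k`.
-/

set_option autoImplicit false
universe u v

namespace Groth.Agent.Lib.H79NotSmooth

open MvPolynomial

theorem not_formallySmooth_of_test {k : Type u} [CommRing k] {σ : Type v}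
    (I : Ideal (MvPolynomial σ k)) (w : σ)
    {C : Type*} [CommRing C] [Algebra k C] (J : Ideal C) (hJ : J ^ 2 = ⊥) (y : σ → C)
    (hy : ∀ f ∈ I, MvPolynomial.aeval y f ∈ J) (hw : IsUnit (y w))
    (hno : ∀ z : σ → C, (∀ v, z v - y v ∈ J) → ¬ ∀ f ∈ I, MvPolynomial.aeval z f = 0) :
    ¬ Algebra.FormallySmooth k (Localization.Away (Ideal.Quotient.mk I (MvPolynomial.X w))) := by
  intro hsm
  set A := Localization.Away (Ideal.Quotient.mk I (MvPolynomial.X w : MvPolynomial σ k)) with hA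
  -- the map `P/I → C/J`
  let g0 : MvPolynomial σ k →ₐ[k] C ⧸ J := (Ideal.Quotient.mkₐ k J).comp (MvPolynomial.aeval y)
  have hg0 : ∀ f ∈ I, g0 f = 0 := by
    intro f hf
    simp only [g0, AlgHom.comp_apply, Ideal.Quotient.mkₐ_eq_mk]
    exact Ideal.Quotient.eq_zero_iff_mem.mpr (hy f hf)
  let g1 : (MvPolynomial σ k ⧸ I) →ₐ[k] C ⧸ J := Ideal.Quotient.liftₐ I g0 hg0
  have hg1 : ∀ f, g1 (Ideal.Quotient.mk I f) = Ideal.Quotient.mk J (MvPolynomial.aeval y f) := by
    intro f
    simp [g1, g0]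
  have hunit : ∀ s : Submonoid.powers (Ideal.Quotient.mk I (MvPolynomial.X w : MvPolynomial σ k)),
      IsUnit (g1 s) := by
    rintro ⟨s, n, rfl⟩
    simp only [map_pow]
    apply IsUnit.pow
    rw [hg1]
    simp only [MvPolynomial.aeval_X]
    exact hw.map _
  let g2 : A →ₐ[k] C ⧸ J := IsLocalization.liftAlgHom (M := Submonoid.powers
    (Ideal.Quotient.mk I (MvPolynomial.X w : MvPolynomial σ k))) (f := g1) hunit
  have hg2 : ∀ r, g2 (algebraMap _ A r) = g1 r := by
    intro r
    simp [g2]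
  obtain ⟨f, hf⟩ := Algebra.FormallySmooth.exists_lift J ⟨2, by rw [hJ]; rfl⟩ g2
  let z : σ → C := fun v => f (algebraMap _ A (Ideal.Quotient.mk I (MvPolynomial.X v)))
  have hz : ∀ v, z v - y v ∈ J := by
    intro v
    rw [← Ideal.Quotient.eq]
    have := AlgHom.congr_fun hf (algebraMap _ A (Ideal.Quotient.mk I (MvPolynomial.X v)))
    simp only [AlgHom.comp_apply, Ideal.Quotient.mkₐ_eq_mk] at this
    rw [this, hg2, hg1]
    simp
  apply hno z hz
  intro p hp
  have h1 : (MvPolynomial.aeval z : MvPolynomial σ k →ₐ[k] C) =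
      (f.comp (IsScalarTower.toAlgHom k (MvPolynomial σ k ⧸ I) A)).comp (Ideal.Quotient.mkₐ k I) := by
    apply MvPolynomial.algHom_ext
    intro v
    simp [z]
  rw [h1]
  simp only [AlgHom.comp_apply, Ideal.Quotient.mkₐ_eq_mk]
  rw [Ideal.Quotient.eq_zero_iff_mem.mpr hp]
  simp

end Groth.Agent.Lib.H79NotSmooth
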