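import Groth.Agent.Lib.ProjSpaceCoordH3

/-!
# The local rings of `P^1_k` are principal ideal rings (helper57, for K8 / S7797)

* `isPrincipalIdealRing_of_isLocalization`: a localization of a principal ideal ring is one.
* `isPrincipalIdealRing_sections_D`: for a field `k`, `Γ(P^1_k, D₊(X_j))` is a principal ideal ring
  (it is a quotient of `k[T]`).
* `isPrincipalIdealRing_stalk`: every stalk of `CohB1.ProjSpace 1 k` is a principal ideal ring.
-/

set_option autoImplicit false
set_option linter.style.haveILetI false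
universe u

open CategoryTheory AlgebraicGeometry MvPolynomial

namespace Groth.Agent.Lib.P1Pid57

open Groth.Agent.Lib.ProjSpaceCoordH3

/-- A localization of a principal ideal ring is a principal ideal ring. -/
theorem isPrincipalIdealRing_of_isLocalization {R S : Type*} [CommRing R] [CommRing S] [Algebra R S]
    (M : Submonoid R) [IsLocalization M S] [IsPrincipalIdealRing R] : IsPrincipalIdealRing S := by
  refine ⟨fun J => ?_⟩
  obtain ⟨a, ha⟩ := (IsPrincipalIdealRing.principal (J.under R)).principal
  refine ⟨⟨algebraMap R S a, ?_⟩⟩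
  have h := IsLocalization.map_under M S J
  rw [ha] at h
  rw [← h]
  change Ideal.map (algebraMap R S) (Ideal.span {a}) = Ideal.span {algebraMap R S a}
  rw [Ideal.map_span, Set.image_singleton]

variable (k : Type u) [Field k]

/-- the other index in `Fin 2` -/
def other (j : Fin 2) : Fin 2 := if j = 0 then 1 else 0

theorem eq_or_eq_other (j i : Fin 2) : i = j ∨ i = other j := by
  unfold other
  fin_cases j <;> fin_cases i <;> simp

/-- `k[T] → Γ(P^1_k, D₊(X_j))`, `T ↦ X_i / X_j` with `i` the other index -/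
noncomputable def polyToD (j : Fin 2) :
    Polynomial k →+* Γ(Proj (CohB1.polyGrading 1 k), D 1 k j) :=
  Polynomial.eval₂RingHom (κ 1 k j) (τ 1 k (other j) j)

theorem polyToD_surjective (j : Fin 2) : Function.Surjective (polyToD k j) := by
  intro b
  refine induction_D 1 k j (fun b => ∃ f, polyToD k j f = b) ?_ ?_ ?_ ?_ b
  · intro r
    exact ⟨Polynomial.C r, by simp [polyToD]⟩
  · intro i
    rcases eq_or_eq_other j i with rfl | rfl
    · exact ⟨1, by rw [map_one, τ_self]⟩
    · exact ⟨Polynomial.X, by simp [polyToD]⟩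
  · rintro a b ⟨f, rfl⟩ ⟨g, rfl⟩
    exact ⟨f + g, map_add _ _ _⟩
  · rintro a b ⟨f, rfl⟩ ⟨g, rfl⟩
    exact ⟨f * g, map_mul _ _ _⟩

theorem isPrincipalIdealRing_sections_D (j : Fin 2) :
    IsPrincipalIdealRing Γ(Proj (CohB1.polyGrading 1 k), D 1 k j) :=
  IsPrincipalIdealRing.of_surjective (polyToD k j) (polyToD_surjective k j)

/-- Every local ring of `P^1_k` is a principal ideal ring. -/
theorem isPrincipalIdealRing_stalk (x : CohB1.ProjSpace 1 k) :
    IsPrincipalIdealRing ((CohB1.ProjSpace 1 k).presheaf.stalk x) := by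
  change IsPrincipalIdealRing ((Proj (CohB1.polyGrading 1 k)).presheaf.stalk x)
  obtain ⟨j, hj⟩ := exists_mem_D 1 k x
  have hU := isAffineOpen_D 1 k j
  haveI := isPrincipalIdealRing_sections_D k j
  letI := TopCat.Presheaf.algebra_section_stalk (Proj (CohB1.polyGrading 1 k)).presheaf
    (⟨x, hj⟩ : D 1 k j)
  haveI := hU.isLocalization_stalk ⟨x, hj⟩
  exact isPrincipalIdealRing_of_isLocalization (R := Γ(Proj (CohB1.polyGrading 1 k), D 1 k j))
    (hU.primeIdealOf ⟨x, hj⟩).asIdeal.primeCompl

end Groth.Agent.Lib.P1Pid57
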