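/-
Ideal sheaves on `P^1_k` with proper support are effective Cartier; lifting of `P^1_k ⟶ X` along a
blow-up (helper79).
-/
import Groth.Prelude.Def_BlowUp2
import Groth.Agent.Lib.P1Pid57
import Groth.Agent.Lib.P1Curve85
set_option autoImplicit false
universe u
open CategoryTheory CategoryTheory.Limits AlgebraicGeometry

namespace Groth.Agent.Lib.H79P1Cartier

open Groth.Agent.Lib.ProjSpaceCoordH3 Groth.Agent.Lib.P1Pid57

/-- An ideal sheaf on `P^1_k` whose support is not the whole space is effective Cartier. -/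
theorem isEffCartierIdeal_of_support_ne {k : Type u} [Field k]
    (J : (CohB1.ProjSpace 1 k).IdealSheafData)
    (hJ : (J.support : Set (CohB1.ProjSpace 1 k)) ≠ Set.univ) :
    BlowUp.IsEffCartierIdeal J := by
  have hint : IsIntegral (CohB1.ProjSpace 1 k) := Groth.Agent.Lib.P1Curve85.isIntegral_projSpace k 1
  intro x
  obtain ⟨j, hj⟩ := exists_mem_D 1 k x
  let U : (CohB1.ProjSpace 1 k).affineOpens := ⟨D 1 k j, isAffineOpen_D 1 k j⟩
  have hpir : IsPrincipalIdealRing Γ(CohB1.ProjSpace 1 k, U.1) := isPrincipalIdealRing_sections_D k j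
  have hne : Nonempty (U.1 : (CohB1.ProjSpace 1 k).Opens) := ⟨⟨x, hj⟩⟩
  have hdom : IsDomain Γ(CohB1.ProjSpace 1 k, U.1) := inferInstance
  obtain ⟨a, ha⟩ := (hpir.principal (J.ideal U)).principal
  refine ⟨U, hj, a, ?_, ha⟩
  rw [mem_nonZeroDivisors_iff_ne_zero]
  rintro rfl
  apply hJ
  have hbot : J.ideal U = ⊥ := by
    rw [ha]
    exact Ideal.span_singleton_eq_bot.mpr rfl
  have hsub : (U.1 : Set (CohB1.ProjSpace 1 k)) ⊆ J.support := by
    intro y hy
    show y ∈ J.support
    rw [Scheme.IdealSheafData.mem_support_iff_of_mem (U := U) hy, hbot]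
    simp
  have hdense : Dense (U.1 : Set (CohB1.ProjSpace 1 k)) :=
    U.1.2.dense ⟨x, hj⟩
  have hcl : closure (U.1 : Set (CohB1.ProjSpace 1 k)) ⊆ J.support :=
    closure_minimal hsub J.support.isClosed
  rw [hdense.closure_eq] at hcl
  exact Set.eq_univ_of_univ_subset hcl

/-- lifting of `P^1_k ⟶ X` along a blow-up when the image is not contained in the centre -/
theorem exists_unique_lift_blowUp {k : Type u} [Field k] {X Z B : Scheme.{u}}
    (iZ : Z ⟶ X) [IsClosedImmersion iZ] (σ : B ⟶ X) (hσ : BlowUp.IsBlowUp σ iZ.ker)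
    (f : CohB1.ProjSpace 1 k ⟶ X) (hfZ : ¬ Set.range f ⊆ Set.range iZ) :
    ∃! g : CohB1.ProjSpace 1 k ⟶ B, g ≫ σ = f := by
  refine hσ.2 _ f (isEffCartierIdeal_of_support_ne _ ?_)
  rw [Scheme.IdealSheafData.support_comap]
  intro h
  apply hfZ
  rintro _ ⟨y, rfl⟩
  have hy : y ∈ ((iZ.ker.support.preimage f.continuous : TopologicalSpace.Closeds _) :
      Set (CohB1.ProjSpace 1 k)) := by
    rw [h]; trivial
  have hy' : f y ∈ (iZ.ker.support : Set X) := hy
  rw [Scheme.Hom.support_ker] at hy'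
  have hcl : IsClosed (Set.range iZ) := iZ.isClosedEmbedding.isClosed_range
  rwa [hcl.closure_eq] at hy'

end Groth.Agent.Lib.H79P1Cartier
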