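/-
helper79: fpqc descent of morphisms along the two-member family `{U, Spec 𝒪_{X,x}}` for a closed
point `x` with quasi-compact punctured neighbourhood `U = X ∖ {x}` (glueing morphisms near a
closed point).
-/
import Mathlib.AlgebraicGeometry.Sites.Fpqc
import Mathlib.AlgebraicGeometry.Stalk
import Groth.Agent.Lib.GenericFlatPt

set_option autoImplicit false
universe u
open CategoryTheory CategoryTheory.Limits AlgebraicGeometry Opposite

namespace Groth.Agent.Lib.H79PuncturedGlue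

variable {X : Scheme.{u}}

/-- objects of a two-member family -/
def obj (U₁ U₂ : Scheme.{u}) : Bool → Scheme.{u}
  | false => U₁
  | true => U₂

/-- morphisms of a two-member family -/
def map {U₁ U₂ : Scheme.{u}} (f₁ : U₁ ⟶ X) (f₂ : U₂ ⟶ X) : (b : Bool) → (obj U₁ U₂ b ⟶ X)
  | false => f₁
  | true => f₂

/-- a two-member family -/
def fam {U₁ U₂ : Scheme.{u}} (f₁ : U₁ ⟶ X) (f₂ : U₂ ⟶ X) : PreZeroHypercover.{0} X where
  I₀ := Bool
  X := obj U₁ U₂
  f := map f₁ f₂

theorem isSheafFor_fam {U₁ U₂ : Scheme.{u}} (f₁ : U₁ ⟶ X) (f₂ : U₂ ⟶ X) [Flat f₁] [Flat f₂]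
    (hsurj : ∀ x : X, x ∈ Set.range f₁ ∨ x ∈ Set.range f₂)
    (hqc : QuasiCompactCover (fam f₁ f₂)) (Y : Scheme.{u}) :
    Presieve.IsSheafFor (yoneda.obj Y) (fam f₁ f₂).presieve₀ := by
  have hmem : (fam f₁ f₂).presieve₀ ∈ Scheme.fpqcPrecoverage X := by
    refine ⟨Scheme.presieve₀_mem_qcPrecoverage_iff.mpr hqc, ?_⟩
    rw [Scheme.presieve₀_mem_precoverage_iff]
    refine ⟨fun x => ?_, fun i => ?_⟩
    · rcases hsurj x with h | h
      · exact ⟨false, h⟩
      · exact ⟨true, h⟩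
    · cases i
      · exact (inferInstance : Flat f₁)
      · exact (inferInstance : Flat f₂)
  have hsh : Presieve.IsSheaf Scheme.fpqcTopology (yoneda.obj Y) :=
    GrothendieckTopology.Subcanonical.isSheaf_of_isRepresentable _
  rw [Presieve.isSheafFor_iff_generate]
  exact hsh _ (Precoverage.generate_mem_toGrothendieck hmem)

/-- a pair of morphisms as a family -/
def pair {U₁ U₂ : Scheme.{u}} {Y : Scheme.{u}} (a : U₁ ⟶ Y) (b : U₂ ⟶ Y) :
    (i : Bool) → (yoneda.obj Y).obj (op (obj U₁ U₂ i))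
  | false => a
  | true => b

theorem descent_two {U₁ U₂ : Scheme.{u}} (f₁ : U₁ ⟶ X) (f₂ : U₂ ⟶ X) [Mono f₁] [Mono f₂]
    (Y : Scheme.{u}) (hsh : Presieve.IsSheafFor (yoneda.obj Y) (fam f₁ f₂).presieve₀) :
    (∀ g₁ g₂ : X ⟶ Y, f₁ ≫ g₁ = f₁ ≫ g₂ → f₂ ≫ g₁ = f₂ ≫ g₂ → g₁ = g₂) ∧
    (∀ (a : U₁ ⟶ Y) (b : U₂ ⟶ Y),
      (∀ (Z : Scheme.{u}) (g : Z ⟶ U₁) (h : Z ⟶ U₂), g ≫ f₁ = h ≫ f₂ → g ≫ a = h ≫ b) →
      ∃ g : X ⟶ Y, f₁ ≫ g = a ∧ f₂ ≫ g = b) := by
  have hsh' : (Presieve.ofArrows (obj U₁ U₂) (map f₁ f₂)).IsSheafFor (yoneda.obj Y) := hsh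
  rw [Presieve.isSheafFor_arrows_iff] at hsh'
  have hcompat : ∀ (a : U₁ ⟶ Y) (b : U₂ ⟶ Y),
      (∀ (Z : Scheme.{u}) (g : Z ⟶ U₁) (h : Z ⟶ U₂), g ≫ f₁ = h ≫ f₂ → g ≫ a = h ≫ b) →
      Presieve.Arrows.Compatible (yoneda.obj Y) (map f₁ f₂) (pair a b) := by
    intro a b hab i j Z gi gj hij
    cases i <;> cases j
    · have : gi = gj := (cancel_mono f₁).mp hij
      subst this
      rfl
    · exact hab Z gi gj hij
    · exact (hab Z gj gi hij.symm).symm
    · have : gi = gj := (cancel_mono f₂).mp hij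
      subst this
      rfl
  constructor
  · intro g₁ g₂ h1 h2
    obtain ⟨t, -, ht⟩ := hsh' (pair (f₁ ≫ g₁) (f₂ ≫ g₁)) (hcompat _ _ (by
      intro Z g h hgh
      rw [← Category.assoc, ← Category.assoc, hgh]))
    have e1 : g₁ = t := ht g₁ (fun i => by cases i <;> rfl)
    have e2 : g₂ = t := ht g₂ (fun i => by
      cases i
      · exact h1.symm
      · exact h2.symm)
    rw [e1, e2]
  · intro a b hab
    obtain ⟨t, ht, -⟩ := hsh' (pair a b) (hcompat a b hab)
    exact ⟨t, ht false, ht true⟩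

theorem quasiCompactCover_punctured (x : X) (U : X.Opens) (hU : (U : Set X) = {x}ᶜ)
    [QuasiCompact U.ι] : QuasiCompactCover (fam U.ι (X.fromSpecStalk x)) := by
  refine ⟨fun {W} hW => ?_⟩
  have h1 : IsCompactOpenCovered (fun i => ⇑((fam U.ι (X.fromSpecStalk x)).f i))
      (U.ι '' (U.ι ⁻¹ᵁ W : Set U)) := by
    have := IsCompactOpenCovered.image (f := fun i => ⇑((fam U.ι (X.fromSpecStalk x)).f i))
      (i := false) (U.ι ⁻¹ᵁ W) (U.ι.isCompact_preimage hW.isCompact)
    exact this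
  have h1' : (U.ι '' (U.ι ⁻¹ᵁ W : Set U)) = (W : Set X) ∩ U := by
    rw [Scheme.Hom.coe_preimage, Set.image_preimage_eq_inter_range, Scheme.Opens.range_ι]
  by_cases hx : x ∈ W
  · have h2 : IsCompactOpenCovered (fun i => ⇑((fam U.ι (X.fromSpecStalk x)).f i))
        (Set.range (X.fromSpecStalk x)) := by
      have := IsCompactOpenCovered.image (f := fun i => ⇑((fam U.ι (X.fromSpecStalk x)).f i))
        (i := true) (⊤ : TopologicalSpace.Opens (Spec (X.presheaf.stalk x)))
        (isCompact_univ (X := ↥(Spec (X.presheaf.stalk x))))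
      rw [← Set.image_univ]
      exact this
    refine IsCompactOpenCovered.of_iUnion_eq_of_finite
      (fun b : Bool => bif b then Set.range (X.fromSpecStalk x) else U.ι '' (U.ι ⁻¹ᵁ W : Set U))
      ?_ ?_
    · apply Set.Subset.antisymm
      · apply Set.iUnion_subset
        intro b
        cases b
        · simp only [cond_false]
          rw [h1']
          exact Set.inter_subset_left
        · simp only [cond_true]
          rw [Scheme.range_fromSpecStalk]
          intro y hy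
          exact hy.mem_open W.2 hx
      · intro y hy
        by_cases hyx : y = x
        · refine Set.mem_iUnion.mpr ⟨true, ?_⟩
          simp only [cond_true]
          rw [Scheme.range_fromSpecStalk, hyx]
          exact specializes_rfl
        · refine Set.mem_iUnion.mpr ⟨false, ?_⟩
          simp only [cond_false]
          rw [h1']
          refine ⟨hy, ?_⟩
          rw [hU]
          exact hyx
    · intro b
      cases b
      · exact h1
      · exact h2
  · have hWU : (W : Set X) ∩ U = W := by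
      apply Set.inter_eq_left.mpr
      intro y hy
      rw [hU]
      intro hyx
      exact hx (hyx ▸ hy)
    rw [← hWU, ← h1']
    exact h1

/-- Glueing morphisms near a closed point: for `U = X ∖ {x}` with quasi-compact inclusion,
morphisms `X ⟶ Y` are the same as compatible pairs of morphisms from `U` and `Spec 𝒪_{X,x}`. -/
theorem glue_punctured (x : X) (U : X.Opens) (hU : (U : Set X) = {x}ᶜ) [QuasiCompact U.ι]
    (Y : Scheme.{u}) :
    (∀ g₁ g₂ : X ⟶ Y, U.ι ≫ g₁ = U.ι ≫ g₂ →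
      X.fromSpecStalk x ≫ g₁ = X.fromSpecStalk x ≫ g₂ → g₁ = g₂) ∧
    (∀ (a : (U : Scheme.{u}) ⟶ Y) (b : Spec (X.presheaf.stalk x) ⟶ Y),
      ((X.fromSpecStalk x) ⁻¹ᵁ U).ι ≫ b = ((X.fromSpecStalk x) ∣_ U) ≫ a →
        ∃ g : X ⟶ Y, U.ι ≫ g = a ∧ X.fromSpecStalk x ≫ g = b) := by
  haveI := Groth.Agent.Lib.GenericFlatPt.flat_fromSpecStalk X x
  have hsurj : ∀ y : X, y ∈ Set.range U.ι ∨ y ∈ Set.range (X.fromSpecStalk x) := by
    intro y
    by_cases hyx : y = x
    · right
      rw [Scheme.range_fromSpecStalk, hyx]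
      exact specializes_rfl
    · left
      rw [Scheme.Opens.range_ι, hU]
      exact hyx
  have hsh := isSheafFor_fam U.ι (X.fromSpecStalk x) hsurj (quasiCompactCover_punctured x U hU) Y
  obtain ⟨h1, h2⟩ := descent_two U.ι (X.fromSpecStalk x) Y hsh
  refine ⟨h1, fun a b hab => h2 a b ?_⟩
  intro Z g h hgh
  have hpb := isPullback_morphismRestrict (X.fromSpecStalk x) U
  let l := hpb.lift g h hgh
  have hl1 : l ≫ ((X.fromSpecStalk x) ⁻¹ᵁ U).ι = h := hpb.lift_snd _ _ _
  have hl2 : l ≫ ((X.fromSpecStalk x) ∣_ U) = g := hpb.lift_fst _ _ _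
  rw [← hl1, ← hl2, Category.assoc, Category.assoc, hab]

end Groth.Agent.Lib.H79PuncturedGlue
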