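import Groth.Agent.Lib.H79ValChart2
import Mathlib

/-!
# helper79: generization lifting at a quasi-finite point over a polynomial ring over a valuation ring

* `exists_le_comap_eq_of_domain`: `V` a valuation ring, `C` a finite type `V`-domain with `V ⊆ C`,
  which is a `V[T_1..T_m]`-algebra quasi-finite at the prime `q`, with `m ≤ trdeg_V C`.  Then every
  prime `P₀ ⊆ q ∩ V[T]` of `V[T]` is the contraction of a prime `P ⊆ q` of `C`.
* `exists_le_comap_eq`: the same for an arbitrary finite type `V`-algebra `D`, given a chain of primes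
  `w ⊆ z ⊆ q` with `w ∩ V = 0` and `m ≤ trdeg κ(z)/κ(z ∩ V)`; the prime found contains `w`.
-/

set_option autoImplicit false
set_option linter.style.haveILetI false
universe u
open TopologicalSpace Topology TensorProduct AlgebraicGeometry

namespace Groth.Agent.Lib.H79QFOpen

open Groth.Agent.Lib.H56LocDim Groth.Agent.Lib.H79FlatGenFibDimRing Groth.Agent.Lib.H56SpecTrdeg
  Groth.Agent.Lib.H56OpenDim Groth.Agent.Lib.H56PruferDim Groth.Agent.Lib.H56ValTrdeg
  Groth.Agent.Lib.H79ValChart

variable {V : Type u} [CommRing V] [IsDomain V] [ValuationRing V]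

/-- **Going down at a quasi-finite point over `V[T]`, domain case.** -/
theorem exists_le_comap_eq_of_domain (m n : ℕ) {C : Type u} [CommRing C] [IsDomain C]
    [Algebra V C] [FaithfulSMul V C] [Algebra.FiniteType V C]
    [Algebra (MvPolynomial (Fin m) V) C] [IsScalarTower V (MvPolynomial (Fin m) V) C]
    (hn : Algebra.trdeg V C = n) (hmn : m ≤ n)
    (q : Ideal C) [hq : q.IsPrime] [Algebra.QuasiFiniteAt (MvPolynomial (Fin m) V) q]
    (P₀ : Ideal (MvPolynomial (Fin m) V)) [P₀.IsPrime]
    (hP₀ : P₀ ≤ q.comap (algebraMap (MvPolynomial (Fin m) V) C)) :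
    ∃ P : Ideal C, P.IsPrime ∧ P ≤ q ∧
      P.comap (algebraMap (MvPolynomial (Fin m) V) C) = P₀ := by
  classical
  have hftAC : Algebra.FiniteType (MvPolynomial (Fin m) V) C :=
    Algebra.FiniteType.of_restrictScalars_finiteType V _ _
  obtain ⟨r', hr'q', hqfB⟩ := exists_away_quasiFinite (P := MvPolynomial (Fin m) V)
    (B := C) q
  have hr'0 : r' ≠ 0 := fun h => hr'q' (h ▸ Ideal.zero_mem _)
  have hle' : Submonoid.powers r' ≤ nonZeroDivisors C :=
    powers_le_nonZeroDivisors_of_noZeroDivisors hr'0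
  have hdomB : IsDomain (Localization.Away r') := IsLocalization.isDomain_localization hle'
  have hinjB : Function.Injective (algebraMap C (Localization.Away r')) :=
    IsLocalization.injective _ hle'
  have hfaithB : FaithfulSMul V (Localization.Away r') := by
    refine (faithfulSMul_iff_algebraMap_injective V (Localization.Away r')).mpr ?_
    rw [IsScalarTower.algebraMap_eq V C]
    exact hinjB.comp (FaithfulSMul.algebraMap_injective V C)
  have hftB : Algebra.FiniteType V (Localization.Away r') :=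
    Algebra.FiniteType.trans (inferInstance : Algebra.FiniteType V C)
      (IsLocalization.finiteType_of_monoid_fg (Submonoid.powers r') (Localization.Away r'))
  have htrB : Algebra.trdeg V (Localization.Away r') = n := by
    rw [trdeg_localization_away r' hr'0, hn]
  have htowerB : IsScalarTower V (MvPolynomial (Fin m) V) (Localization.Away r') :=
    IsScalarTower.of_algebraMap_eq fun v => by
      have h1 := IsScalarTower.algebraMap_apply V C (Localization.Away r') v
      have h2 := IsScalarTower.algebraMap_apply V (MvPolynomial (Fin m) V) C v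
      have h3 := IsScalarTower.algebraMap_apply (MvPolynomial (Fin m) V) C (Localization.Away r')
        (algebraMap V (MvPolynomial (Fin m) V) v)
      rw [h3, ← h2, ← h1]
  have hinjAB : Function.Injective
      (algebraMap (MvPolynomial (Fin m) V) (Localization.Away r')) :=
    injective_algebraMap_of_quasiFinite m n htrB hmn
  have hinjAC : Function.Injective (algebraMap (MvPolynomial (Fin m) V) C) := by
    rw [IsScalarTower.algebraMap_eq (MvPolynomial (Fin m) V) C (Localization.Away r'),
      RingHom.coe_comp] at hinjAB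
    exact Function.Injective.of_comp hinjAB
  have hnormV : IsIntegrallyClosed V := by
    letI := IsBezout.toGCDDomain V
    infer_instance
  have hnormA : IsIntegrallyClosed (MvPolynomial (Fin m) V) :=
    isIntegrallyClosed_mvPolynomial_fin V m
  exact Groth.Agent.Lib.H56ClosedFib.exists_le_comap_eq hinjAC q P₀ hP₀

/-- **Going down at a quasi-finite point over `V[T]`.** `D` a finite type `V`-algebra which is a
`V[T_1..T_m]`-algebra quasi-finite at the prime `q`; `w ⊆ z ⊆ q` primes with `w ∩ V = 0` and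
`m ≤ trdeg κ(z)/κ(z ∩ V)`.  Then every prime `P₀ ⊆ q ∩ V[T]` is the contraction of a prime
`w ⊆ P ⊆ q`. -/
theorem exists_le_comap_eq (m : ℕ) {D : Type u} [CommRing D] [Algebra V D]
    [Algebra.FiniteType V D]
    [Algebra (MvPolynomial (Fin m) V) D] [IsScalarTower V (MvPolynomial (Fin m) V) D]
    (q z w : Ideal D) [hq : q.IsPrime] [hz : z.IsPrime] [hw : w.IsPrime] (hwz : w ≤ z)
    (hzq : z ≤ q) (hwV : w.under V = ⊥)
    [hqf : Algebra.QuasiFiniteAt (MvPolynomial (Fin m) V) q]
    (hm : m ≤ tdeg (sp V D) (⟨z, hz⟩ : PrimeSpectrum D))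
    (P₀ : Ideal (MvPolynomial (Fin m) V)) [P₀.IsPrime]
    (hP₀ : P₀ ≤ q.comap (algebraMap (MvPolynomial (Fin m) V) D)) :
    ∃ P : Ideal D, P.IsPrime ∧ w ≤ P ∧ P ≤ q ∧
      P.comap (algebraMap (MvPolynomial (Fin m) V) D) = P₀ := by
  classical
  -- the domain `C = D ⧸ w`
  have hfaith : FaithfulSMul V (D ⧸ w) := by
    rw [faithfulSMul_iff_algebraMap_injective, injective_iff_map_eq_zero]
    intro v hv
    rw [IsScalarTower.algebraMap_apply V D (D ⧸ w), Ideal.Quotient.algebraMap_eq,
      Ideal.Quotient.eq_zero_iff_mem] at hv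
    have : v ∈ w.under V := hv
    rwa [hwV, Ideal.mem_bot] at this
  have hflat : Module.Flat V (D ⧸ w) := by
    rw [Module.Flat.flat_iff_torsion_eq_bot_of_isBezout,
      ← Submodule.isTorsionFree_iff_torsion_eq_bot]
    infer_instance
  obtain ⟨n, hn⟩ := Groth.Agent.Lib.GenericFibrePoint.exists_nat_trdeg_eq (R := V) (B := D ⧸ w)
  have hwq : w ≤ q := hwz.trans hzq
  -- the images of `z` and `q`
  have hz' : (z.map (Ideal.Quotient.mk w)).IsPrime :=
    Ideal.map_isPrime_of_surjective Ideal.Quotient.mk_surjective (by rwa [Ideal.mk_ker])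
  have hq' : (q.map (Ideal.Quotient.mk w)).IsPrime :=
    Ideal.map_isPrime_of_surjective Ideal.Quotient.mk_surjective (by rwa [Ideal.mk_ker])
  have hzcomap : (z.map (Ideal.Quotient.mk w)).comap (Ideal.Quotient.mk w) = z := by
    rw [Ideal.comap_map_of_surjective _ Ideal.Quotient.mk_surjective, ← RingHom.ker_eq_comap_bot,
      Ideal.mk_ker, sup_eq_left.mpr hwz]
  have hqcomap : (q.map (Ideal.Quotient.mk w)).comap (Ideal.Quotient.mk w) = q := by
    rw [Ideal.comap_map_of_surjective _ Ideal.Quotient.mk_surjective, ← RingHom.ker_eq_comap_bot,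
      Ideal.mk_ker, sup_eq_left.mpr hwq]
  -- `m ≤ n`
  have hmn : m ≤ n := by
    let z' : PrimeSpectrum (D ⧸ w) := ⟨z.map (Ideal.Quotient.mk w), hz'⟩
    have htd : tdeg (sp V (D ⧸ w)) z' = tdeg (sp V D) (⟨z, hz⟩ : PrimeSpectrum D) := by
      rw [tdeg_quot (R := V) w z']
      congr 1
      exact PrimeSpectrum.ext hzcomap
    have hfl : Module.Flat V (Localization.AtPrime (z.map (Ideal.Quotient.mk w))) :=
      Module.Flat.trans V (D ⧸ w) _
    have h1 := tdeg_le_fibreDimAt (sp V (D ⧸ w)) z'
    rw [fibreDimAt_specMap] at h1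
    have h2 := fibLocDim_eq_trdeg_of_flat (A := V) (z.map (Ideal.Quotient.mk w)) n hn
    change (tdeg (sp V (D ⧸ w)) z' : WithBot ℕ∞) ≤
      fibLocDim (PrimeSpectrum.comap (algebraMap V (D ⧸ w))) ⟨z.map (Ideal.Quotient.mk w), hz'⟩
      at h1
    rw [h2, htd] at h1
    have h3 : tdeg (sp V D) (⟨z, hz⟩ : PrimeSpectrum D) ≤ n := by exact_mod_cast h1
    exact hm.trans h3
  -- quasi-finiteness at the image of `q`
  have hqf' : Algebra.QuasiFiniteAt (MvPolynomial (Fin m) V) (q.map (Ideal.Quotient.mk w)) :=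
    Algebra.QuasiFiniteAt.of_surjectiveOnStalks q
      (Ideal.Quotient.mkₐ (MvPolynomial (Fin m) V) w)
      (RingHom.surjectiveOnStalks_of_surjective Ideal.Quotient.mk_surjective) _ hqcomap.symm
  have hP₀' : P₀ ≤ (q.map (Ideal.Quotient.mk w)).comap
      (algebraMap (MvPolynomial (Fin m) V) (D ⧸ w)) := by
    intro a ha
    rw [Ideal.mem_comap, IsScalarTower.algebraMap_apply (MvPolynomial (Fin m) V) D (D ⧸ w)]
    exact Ideal.mem_map_of_mem _ (hP₀ ha)
  obtain ⟨P, hPprime, hPle, hPcomap⟩ := exists_le_comap_eq_of_domain m n hn hmn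
    (q.map (Ideal.Quotient.mk w)) P₀ hP₀'
  refine ⟨P.comap (Ideal.Quotient.mk w), Ideal.comap_isPrime _ _, ?_, ?_, ?_⟩
  · intro a ha
    rw [Ideal.mem_comap, Ideal.Quotient.eq_zero_iff_mem.mpr ha]
    exact P.zero_mem
  · rw [← hqcomap]; exact Ideal.comap_mono hPle
  · rw [← hPcomap]
    ext a
    rw [Ideal.mem_comap, Ideal.mem_comap, Ideal.mem_comap,
      IsScalarTower.algebraMap_apply (MvPolynomial (Fin m) V) D (D ⧸ w)]
    rfl

end Groth.Agent.Lib.H79QFOpen
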