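/-
helper80: universal openness at a point vs. base change to the local scheme `Spec 𝒪_{Y,y}` (EGA IV 14.3.x),
using helper45's Lib/OpenAt45 (generization criterion for openness at a point).
Main results: `isOpenAt_comp_of_isOpenMap`, `univOpenAt_baseChange` (IsUnivOpenAt is stable under base
change), `isOpenAt_of_univOpenAt_local`, `univOpenAt_iff_local`.
-/
import Mathlib
import Groth.Agent.Lib.OpenAt45
import Groth.Prelude.Def_EGA43

set_option autoImplicit false
universe u
open AlgebraicGeometry CategoryTheory Limits IsLocalRing TopologicalSpace Opposite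

namespace Groth.Agent.Lib.H80UnivOpenLocal

theorem isOpenAt_comp_of_isOpenMap {α β γ : Type*} [TopologicalSpace α] [TopologicalSpace β]
    [TopologicalSpace γ] (e : α → β) (he : IsOpenMap e) (g : β → γ) (a : α)
    (h : EGA43.IsOpenAt g (e a)) : EGA43.IsOpenAt (g ∘ e) a := by
  intro N hN
  have h1 : e '' N ∈ nhds (e a) := he.image_mem_nhds hN
  have h2 := h _ h1
  rwa [← Set.image_comp] at h2

variable {X Y : Scheme.{u}}

theorem univOpenAt_baseChange {L : Scheme.{u}} (f : X ⟶ Y) (x : X) (j : L ⟶ Y)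
    (x₁ : ↥(pullback f j)) (hx₁ : (pullback.fst f j).base x₁ = x)
    (h : EGA43.IsUnivOpenAt f x) :
    EGA43.IsUnivOpenAt (pullback.snd f j) x₁ := by
  intro Y' g x' hx'
  have sq1 : IsPullback (pullback.fst f j) (pullback.snd f j) f j := IsPullback.of_hasPullback f j
  have sq2 : IsPullback (pullback.fst (pullback.snd f j) g) (pullback.snd (pullback.snd f j) g)
      (pullback.snd f j) g := IsPullback.of_hasPullback _ _
  have sq := sq2.paste_horiz sq1
  let e := sq.isoPullback
  have he1 : e.hom ≫ pullback.fst f (g ≫ j) = pullback.fst (pullback.snd f j) g ≫ pullback.fst f j :=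
    sq.isoPullback_hom_fst
  have he2 : e.hom ≫ pullback.snd f (g ≫ j) = pullback.snd (pullback.snd f j) g :=
    sq.isoPullback_hom_snd
  have hpt : (pullback.fst f (g ≫ j)).base (e.hom x') = x := by
    rw [← Scheme.Hom.comp_apply, he1, Scheme.Hom.comp_apply]
    have : (pullback.fst (pullback.snd f j) g) x' = x₁ := hx'
    rw [this]
    exact hx₁
  have h1 := h Y' (g ≫ j) (e.hom x') hpt
  have h2 := isOpenAt_comp_of_isOpenMap e.hom.base e.hom.isOpenEmbedding.isOpenMap _ x' h1
  have h3 : (pullback.snd (pullback.snd f j) g).base = (pullback.snd f (g ≫ j)).base ∘ e.hom.base := by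
    rw [← he2]; rfl
  rw [h3]
  exact h2

open Groth.Agent.Lib.OpenAt45 in
theorem isOpenAt_of_univOpenAt_local (f : X ⟶ Y) [LocallyOfFinitePresentation f] (y₀ : Y)
    (x₁ : ↥(pullback f (Y.fromSpecStalk y₀)))
    (h₁ : EGA43.IsUnivOpenAt (pullback.snd f (Y.fromSpecStalk y₀)) x₁)
    {Y' : Scheme.{u}} (g : Y' ⟶ Y) (x' : ↥(pullback f g))
    (hx' : (pullback.fst f g).base x' = (pullback.fst f (Y.fromSpecStalk y₀)).base x₁)
    (y' : Y') (hy'x : (pullback.snd f g).base x' = y')
    (hy : g.base y' = y₀) :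
    EGA43.IsOpenAt (pullback.snd f g).base x' := by
  subst hy
  apply isOpenAt_of_forall_generization
  intro y'' hy''
  rw [hy'x] at hy''
  -- notation
  let j := Y.fromSpecStalk (g.base y')
  let j' := Y'.fromSpecStalk y'
  let c : Spec (Y'.presheaf.stalk y') ⟶ Spec (Y.presheaf.stalk (g.base y')) := Spec.map (g.stalkMap y')
  have hc : c ≫ j = j' ≫ g := Scheme.SpecMap_stalkMap_fromSpecStalk g
  let f₁ := pullback.snd f j
  let p₁ := pullback.fst f j
  -- Z := pullback f₁ c
  have sq1 : IsPullback p₁ f₁ f j := IsPullback.of_hasPullback f j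
  have sq2 : IsPullback (pullback.fst f₁ c) (pullback.snd f₁ c) f₁ c := IsPullback.of_hasPullback _ _
  have sqbig : IsPullback (pullback.fst f₁ c ≫ p₁) (pullback.snd f₁ c) f (c ≫ j) :=
    sq2.paste_horiz sq1
  have sqr : IsPullback (pullback.fst f g) (pullback.snd f g) f g := IsPullback.of_hasPullback f g
  have hw : (pullback.fst f₁ c ≫ p₁) ≫ f = (pullback.snd f₁ c ≫ j') ≫ g := by
    rw [sqbig.w, Category.assoc, hc]
  let ρ : pullback f₁ c ⟶ pullback f g := pullback.lift (pullback.fst f₁ c ≫ p₁) (pullback.snd f₁ c ≫ j') hw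
  have hρ1 : ρ ≫ pullback.fst f g = pullback.fst f₁ c ≫ p₁ := pullback.lift_fst _ _ _
  have hρ2 : ρ ≫ pullback.snd f g = pullback.snd f₁ c ≫ j' := pullback.lift_snd _ _ _
  have sql : IsPullback ρ (pullback.snd f₁ c) (pullback.snd f g) j' := by
    refine IsPullback.of_right ?_ hρ2 sqr
    rw [hρ1, ← hc]
    exact sqbig
  -- the point z
  have hcl : (pullback.snd f g).base x' = j'.base (closedPoint (Y'.presheaf.stalk y')) :=
    hy'x.trans (Scheme.fromSpecStalk_closedPoint (x := y')).symm
  obtain ⟨z, hz1, hz2⟩ := Scheme.exists_preimage_of_isPullback sql x' _ hcl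
  have hzx₁ : (pullback.fst f₁ c).base z = x₁ := by
    apply p₁.isEmbedding.injective
    rw [← Scheme.Hom.comp_apply, ← hρ1, Scheme.Hom.comp_apply, hz1]
    exact hx'
  have hopen : EGA43.IsOpenAt (pullback.snd f₁ c).base z := h₁ _ c z hzx₁
  obtain ⟨l'', hl''⟩ : y'' ∈ Set.range j' := by
    rw [Scheme.range_fromSpecStalk]; exact hy''
  have hspec : l'' ⤳ (pullback.snd f₁ c).base z := by
    rw [hz2]; exact IsLocalRing.specializes_closedPoint l''
  obtain ⟨z'', hz''1, hz''2⟩ := exists_generization_of_isOpenAt (pullback.snd f₁ c) z hopen l'' hspec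
  refine ⟨ρ.base z'', ?_, ?_⟩
  · rw [← hz1]
    exact hz''1.map ρ.continuous
  · rw [← Scheme.Hom.comp_apply, hρ2, Scheme.Hom.comp_apply, hz''2]
    exact hl''

theorem univOpenAt_iff_local (f : X ⟶ Y) [LocallyOfFinitePresentation f]
    (x : X) (x₁ : ↥(pullback f (Y.fromSpecStalk (f.base x))))
    (hx₁ : (pullback.fst f (Y.fromSpecStalk (f.base x))).base x₁ = x) :
    EGA43.IsUnivOpenAt f x ↔ EGA43.IsUnivOpenAt (pullback.snd f (Y.fromSpecStalk (f.base x))) x₁ := by
  constructor
  · exact univOpenAt_baseChange f x _ x₁ hx₁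
  · intro h₁ Y' g x' hx'
    refine isOpenAt_of_univOpenAt_local f (f.base x) x₁ h₁ g x' (hx'.trans hx₁.symm)
      ((pullback.snd f g).base x') rfl ?_
    rw [← Scheme.Hom.comp_apply, ← pullback.condition, Scheme.Hom.comp_apply]
    exact congrArg f.base hx'

end Groth.Agent.Lib.H80UnivOpenLocal
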