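import Groth.Agent.Lib.ValSpecialize
import Groth.Agent.Lib.OpenAt45
import Groth.Agent.Lib.UnivOpenAt
import Groth.Agent.Lib.H80UnivOpenLocal
import Groth.Agent.Lib.H80UnivOpenPoly
import Groth.Prelude.Def_EGA43
import Mathlib

/-!
# helper79: valuative criterion for universal openness at a point, and chart lemmas

* `isUnivOpenAt_of_valuative`: for `f` locally of finite presentation, `f` is universally open at `x`
  as soon as for every valuation ring `V`, every `g : Spec V ⟶ Y` and every point `x'` of the base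
  change lying over `x` and the closed point, some generization of `x'` lies over the generic
  point of `Spec V`.
* `isUnivOpenAt_of_openImmersions` / `isUnivOpenAt_restrict`: universal openness at a point is local
  on source and target.
-/

set_option autoImplicit false
universe u
open CategoryTheory CategoryTheory.Limits AlgebraicGeometry

namespace Groth.Agent.Lib.H79QFOpen

/-- the generic point of `Spec A`, `A` a valuation subring of `K`, is the image of `Spec K`. -/
theorem specMap_algebraMap_closedPoint_eq_bot {K : Type u} [Field K] (A : ValuationSubring K) :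
    (Spec.map (CommRingCat.ofHom (algebraMap A K))).base (IsLocalRing.closedPoint K) =
      (⟨⊥, Ideal.isPrime_bot⟩ : PrimeSpectrum A) := by
  apply PrimeSpectrum.ext
  change Ideal.comap (algebraMap A K) (IsLocalRing.maximalIdeal K) = ⊥
  rw [IsLocalRing.maximalIdeal_eq_bot]
  exact (RingHom.injective_iff_ker_eq_bot _).mp (IsFractionRing.injective A K)

/-- **Valuative criterion for universal openness at a point.** -/
theorem isUnivOpenAt_of_valuative {X Y : Scheme.{u}} (f : X ⟶ Y)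
    [LocallyOfFinitePresentation f] (x : X)
    (H : ∀ (V : Type u) [CommRing V] [IsDomain V] [ValuationRing V]
      (g : Spec (CommRingCat.of V) ⟶ Y) (x' : ↥(pullback f g)),
      (pullback.fst f g).base x' = x →
      (pullback.snd f g).base x' = IsLocalRing.closedPoint V →
      ∃ z' : ↥(pullback f g), z' ⤳ x' ∧
        (pullback.snd f g).base z' = (⟨⊥, Ideal.isPrime_bot⟩ : PrimeSpectrum V)) :
    EGA43.IsUnivOpenAt f x := by
  intro Y' g₁ x₁ hx₁
  have hlfp : LocallyOfFinitePresentation (pullback.snd f g₁) :=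
    MorphismProperty.pullback_snd (P := @LocallyOfFinitePresentation) f g₁ inferInstance
  apply Groth.Agent.Lib.OpenAt45.isOpenAt_of_forall_generization
  intro y'' hy''
  obtain ⟨A, l, hl1, hl2⟩ :=
    Groth.Agent.Lib.ValSpecialize.exists_valuationSubring_of_specializes hy''
  have sq : IsPullback (pullback.fst f g₁) (pullback.snd f g₁) f g₁ := IsPullback.of_hasPullback _ _
  let lft : pullback f (l ≫ g₁) ⟶ pullback f g₁ :=
    sq.lift (pullback.fst f (l ≫ g₁)) (pullback.snd f (l ≫ g₁) ≫ l)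
      (by rw [pullback.condition, Category.assoc])
  have hl1' : lft ≫ pullback.fst f g₁ = pullback.fst f (l ≫ g₁) := sq.lift_fst _ _ _
  have hl2' : lft ≫ pullback.snd f g₁ = pullback.snd f (l ≫ g₁) ≫ l := sq.lift_snd _ _ _
  have big : IsPullback (lft ≫ pullback.fst f g₁) (pullback.snd f (l ≫ g₁)) f (l ≫ g₁) := by
    rw [hl1']; exact IsPullback.of_hasPullback _ _
  have sqL : IsPullback lft (pullback.snd f (l ≫ g₁)) (pullback.snd f g₁) l :=
    IsPullback.of_right big hl2' sq
  obtain ⟨p, hp1, hp2⟩ := Scheme.exists_preimage_of_isPullback sqL x₁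
    (IsLocalRing.closedPoint A) hl1.symm
  obtain ⟨z, hz1, hz2⟩ := H A (l ≫ g₁) p (by
    rw [← hl1', Scheme.Hom.comp_apply, hp1, hx₁]) hp2
  refine ⟨lft.base z, ?_, ?_⟩
  · rw [← hp1]
    exact hz1.map lft.continuous
  · rw [← Scheme.Hom.comp_apply, hl2', Scheme.Hom.comp_apply, hz2,
      ← specMap_algebraMap_closedPoint_eq_bot A, ← Scheme.Hom.comp_apply, hl2]
    exact Scheme.fromSpecResidueField_apply y'' _

/-- **Universal openness at a point is local on source and target (I).** -/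
theorem isUnivOpenAt_of_openImmersions {X Y X₀ Y₀ : Scheme.{u}} (f : X ⟶ Y) (f₀ : X₀ ⟶ Y₀)
    (i : X₀ ⟶ X) (j : Y₀ ⟶ Y) [IsOpenImmersion i] [IsOpenImmersion j] (e : f₀ ≫ j = i ≫ f)
    (x₀ : X₀) (h : EGA43.IsUnivOpenAt f₀ x₀) : EGA43.IsUnivOpenAt f (i.base x₀) := by
  intro Y₁ g₁ x₁ hx₁
  let g₀ : pullback j g₁ ⟶ Y₀ := pullback.fst j g₁
  let ι : pullback j g₁ ⟶ Y₁ := pullback.snd j g₁
  have e₂ : g₀ ≫ j = ι ≫ g₁ := pullback.condition
  let m := pullback.map f₀ g₀ f g₁ i ι j e e₂
  have hm1 : m ≫ pullback.fst f g₁ = pullback.fst f₀ g₀ ≫ i := pullback.lift_fst _ _ _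
  have hm2 : m ≫ pullback.snd f g₁ = pullback.snd f₀ g₀ ≫ ι := pullback.lift_snd _ _ _
  have hrange : x₁ ∈ Set.range m.base := by
    rw [Scheme.Pullback.range_map]
    refine ⟨⟨x₀, hx₁.symm⟩, ?_⟩
    change (pullback.snd f g₁).base x₁ ∈ Set.range (pullback.snd j g₁).base
    rw [Scheme.Pullback.range_snd]
    refine ⟨f₀.base x₀, ?_⟩
    rw [← Scheme.Hom.comp_apply, e, Scheme.Hom.comp_apply, ← hx₁, ← Scheme.Hom.comp_apply,
      ← Scheme.Hom.comp_apply, pullback.condition]
  obtain ⟨p, rfl⟩ := hrange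
  have hp : (pullback.fst f₀ g₀).base p = x₀ := by
    apply i.isOpenEmbedding.injective
    rw [← Scheme.Hom.comp_apply, ← hm1, Scheme.Hom.comp_apply, hx₁]
  have hopen := h _ g₀ p hp
  exact Groth.Agent.Lib.H80UnivOpenPoly.isOpenAt_of_comm_square m.base
    (pullback.snd f₀ g₀).base ι.base (pullback.snd f g₁).base
    (fun t => by rw [← Scheme.Hom.comp_apply, ← Scheme.Hom.comp_apply, hm2])
    m.continuous ι.isOpenEmbedding.isOpenMap p hopen

/-- **Universal openness at a point is local on source and target (II).** -/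
theorem isUnivOpenAt_restrict {X Y X₀ Y₀ : Scheme.{u}} (f : X ⟶ Y) (f₀ : X₀ ⟶ Y₀)
    (i : X₀ ⟶ X) (j : Y₀ ⟶ Y) [IsOpenImmersion i] [Mono j] (e : f₀ ≫ j = i ≫ f)
    (x₀ : X₀) (h : EGA43.IsUnivOpenAt f (i.base x₀)) : EGA43.IsUnivOpenAt f₀ x₀ := by
  intro Y₁ g₀ p hp
  have e₂ : g₀ ≫ j = 𝟙 Y₁ ≫ (g₀ ≫ j) := (Category.id_comp _).symm
  let m := pullback.map f₀ g₀ f (g₀ ≫ j) i (𝟙 Y₁) j e e₂
  have hm1 : m ≫ pullback.fst f (g₀ ≫ j) = pullback.fst f₀ g₀ ≫ i := pullback.lift_fst _ _ _
  have hm2' : m ≫ pullback.snd f (g₀ ≫ j) = pullback.snd f₀ g₀ ≫ 𝟙 Y₁ := pullback.lift_snd _ _ _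
  have hm2 : m ≫ pullback.snd f (g₀ ≫ j) = pullback.snd f₀ g₀ := hm2'.trans (Category.comp_id _)
  have hopen := h Y₁ (g₀ ≫ j) (m.base p) (by
    rw [← Scheme.Hom.comp_apply, hm1, Scheme.Hom.comp_apply, hp])
  have h2 := Groth.Agent.Lib.H80UnivOpenLocal.isOpenAt_comp_of_isOpenMap m.base
    m.isOpenEmbedding.isOpenMap _ p hopen
  have h3 : (pullback.snd f₀ g₀).base = (pullback.snd f (g₀ ≫ j)).base ∘ m.base := by
    rw [← hm2]; rfl
  rw [h3]
  exact h2

end Groth.Agent.Lib.H79QFOpen
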