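import Groth.Agent.Lib.H79QFOpen1
import Groth.Agent.Lib.H79QFOpen2
import Groth.Agent.Lib.H80UnivOpenSpecialize
import Groth.Agent.Lib.H56OpenComp3
import Groth.Agent.Lib.H30FibBC
import Mathlib

set_option autoImplicit false
set_option linter.style.haveILetI false
universe u
open TopologicalSpace Topology TensorProduct AlgebraicGeometry CategoryTheory CategoryTheory.Limits

namespace Groth.Agent.Lib.H79QFOpen

open Groth.Agent.Lib.H56LocDim Groth.Agent.Lib.H79FlatGenFibDimRing Groth.Agent.Lib.H56SpecTrdeg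
  Groth.Agent.Lib.H56OpenDim Groth.Agent.Lib.H56PruferDim Groth.Agent.Lib.H56ValTrdeg
  Groth.Agent.Lib.H79ValChart

attribute [local instance] MvPolynomial.algebraMvPolynomial

section Main

variable {R₀ B : Type u} [CommRing R₀] [CommRing B] (n : ℕ)
    [Algebra R₀ B] [Algebra (MvPolynomial (Fin n) R₀) B]
    [IsScalarTower R₀ (MvPolynomial (Fin n) R₀) B]

/-- **Affine main theorem.** -/
theorem isUnivOpenAt_sp_of_quasiFiniteAt [Algebra.FinitePresentation R₀ B]
    (q z : PrimeSpectrum B) (hzq : z ⤳ q) (hfib : (sp R₀ B).base z = (sp R₀ B).base q)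
    [hqf : Algebra.QuasiFiniteAt (MvPolynomial (Fin n) R₀) q.asIdeal]
    (hmax : IsMaxInFibre (sp R₀ B) z)
    (hn : n ≤ tdeg (sp R₀ B) z)
    (hopen : EGA43.IsUnivOpenAt (sp R₀ B) z) :
    EGA43.IsUnivOpenAt (sp (MvPolynomial (Fin n) R₀) B) q := by
  classical
  have hfpAB : Algebra.FinitePresentation (MvPolynomial (Fin n) R₀) B :=
    Algebra.FinitePresentation.of_restrict_scalars_finitePresentation R₀ _ B
  have hlfp : LocallyOfFinitePresentation (sp (MvPolynomial (Fin n) R₀) B) :=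
    (HasRingHomProperty.Spec_iff (P := @LocallyOfFinitePresentation)).mpr
      (RingHom.finitePresentation_algebraMap.mpr inferInstance)
  apply isUnivOpenAt_of_valuative
  intro V _ _ _ g x' hx'q hx'c
  -- the ring map `ψ : R₀[T] → V`
  obtain ⟨ψ, hψ⟩ : ∃ ψ : MvPolynomial (Fin n) R₀ →+* V, g = Spec.map (CommRingCat.ofHom ψ) :=
    ⟨(Spec.preimage g).hom, (Spec.map_preimage g).symm⟩
  letI algR₀V : Algebra R₀ V := (ψ.comp (algebraMap R₀ (MvPolynomial (Fin n) R₀))).toAlgebra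
  -- evaluation `V[T] → V`
  let ev : MvPolynomial (Fin n) V →ₐ[V] V :=
    MvPolynomial.aeval (fun i : Fin n => ψ (MvPolynomial.X i))
  have hevψ : ev.toRingHom.comp (algebraMap (MvPolynomial (Fin n) R₀) (MvPolynomial (Fin n) V)) =
      ψ := by
    apply MvPolynomial.ringHom_ext
    · intro r
      change MvPolynomial.aeval _ (MvPolynomial.map (algebraMap R₀ V) (MvPolynomial.C r)) = _
      rw [MvPolynomial.map_C, ← MvPolynomial.algebraMap_eq, AlgHom.commutes]
      rfl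
    · intro i
      change MvPolynomial.aeval _ (MvPolynomial.map (algebraMap R₀ V) (MvPolynomial.X i)) = _
      rw [MvPolynomial.map_X, MvPolynomial.aeval_X]
  have hevC : ∀ v : V, ev (MvPolynomial.C v) = v := by
    intro v
    change MvPolynomial.aeval _ (MvPolynomial.C v) = v
    rw [← MvPolynomial.algebraMap_eq, AlgHom.commutes]
    rfl
  -- the section `σ : Spec V → Spec V[T]`
  let σ : Spec (CommRingCat.of V) ⟶ Spec (CommRingCat.of (MvPolynomial (Fin n) V)) :=
    Spec.map (CommRingCat.ofHom ev.toRingHom)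
  have hσ : σ ≫ sp (MvPolynomial (Fin n) R₀) (MvPolynomial (Fin n) V) = g := by
    rw [hψ, ← Spec.map_comp, ← CommRingCat.ofHom_comp, hevψ]
  -- the scheme `Spec D`, `D = V[T] ⊗_{R₀[T]} B`
  let iB : CommRingCat.of B ⟶
      CommRingCat.of (MvPolynomial (Fin n) V ⊗[MvPolynomial (Fin n) R₀] B) :=
    CommRingCat.ofHom (Algebra.TensorProduct.includeRight (R := MvPolynomial (Fin n) R₀)
      (A := MvPolynomial (Fin n) V) (B := B)).toRingHom
  let iVT : CommRingCat.of (MvPolynomial (Fin n) V) ⟶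
      CommRingCat.of (MvPolynomial (Fin n) V ⊗[MvPolynomial (Fin n) R₀] B) :=
    CommRingCat.ofHom (Algebra.TensorProduct.includeLeftRingHom
      (R := MvPolynomial (Fin n) R₀) (A := MvPolynomial (Fin n) V) (B := B))
  have poD := CommRingCat.isPushout_tensorProduct (MvPolynomial (Fin n) R₀)
    (MvPolynomial (Fin n) V) B
  have sqD : IsPullback (Spec.map iB) (Spec.map iVT) (sp (MvPolynomial (Fin n) R₀) B)
      (sp (MvPolynomial (Fin n) R₀) (MvPolynomial (Fin n) V)) :=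
    (isPullback_SpecMap_of_isPushout _ _ _ _ poD).flip
  -- the closed immersion `k : P → Spec D`
  have sqP : IsPullback (pullback.fst (sp (MvPolynomial (Fin n) R₀) B) g)
      (pullback.snd (sp (MvPolynomial (Fin n) R₀) B) g) (sp (MvPolynomial (Fin n) R₀) B) g :=
    IsPullback.of_hasPullback _ _
  let k : pullback (sp (MvPolynomial (Fin n) R₀) B) g ⟶
      Spec (CommRingCat.of (MvPolynomial (Fin n) V ⊗[MvPolynomial (Fin n) R₀] B)) :=
    sqD.lift (pullback.fst (sp (MvPolynomial (Fin n) R₀) B) g)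
      (pullback.snd (sp (MvPolynomial (Fin n) R₀) B) g ≫ σ)
      (by rw [pullback.condition, Category.assoc, hσ])
  have hk1 : k ≫ Spec.map iB = pullback.fst (sp (MvPolynomial (Fin n) R₀) B) g :=
    sqD.lift_fst _ _ _
  have hk2 : k ≫ Spec.map iVT = pullback.snd (sp (MvPolynomial (Fin n) R₀) B) g ≫ σ :=
    sqD.lift_snd _ _ _
  have big : IsPullback (k ≫ Spec.map iB) (pullback.snd (sp (MvPolynomial (Fin n) R₀) B) g)
      (sp (MvPolynomial (Fin n) R₀) B)
      (σ ≫ sp (MvPolynomial (Fin n) R₀) (MvPolynomial (Fin n) V)) := by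
    rw [hk1, hσ]; exact sqP
  have sqK : IsPullback k (pullback.snd (sp (MvPolynomial (Fin n) R₀) B) g) (Spec.map iVT) σ :=
    IsPullback.of_right big hk2 sqD
  have hσcl : IsClosedImmersion σ :=
    IsClosedImmersion.spec_of_surjective _ (fun v => ⟨MvPolynomial.C v, hevC v⟩)
  have hkcl : IsClosedImmersion k := MorphismProperty.of_isPullback sqK.flip hσcl
  -- `Spec D` as the base change of `Spec B → Spec R₀` to `Spec V`
  have poL := CommRingCat.isPushout_of_isPushout R₀ (MvPolynomial (Fin n) R₀) V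
    (MvPolynomial (Fin n) V)
  have poBig := poL.paste_horiz poD.flip
  have e1 : CommRingCat.ofHom (algebraMap R₀ (MvPolynomial (Fin n) R₀)) ≫
      CommRingCat.ofHom (algebraMap (MvPolynomial (Fin n) R₀) B) =
      CommRingCat.ofHom (algebraMap R₀ B) := by
    rw [← CommRingCat.ofHom_comp, ← IsScalarTower.algebraMap_eq]
  have e2 : CommRingCat.ofHom (algebraMap V (MvPolynomial (Fin n) V)) ≫ iVT =
      CommRingCat.ofHom (algebraMap V
        (MvPolynomial (Fin n) V ⊗[MvPolynomial (Fin n) R₀] B)) := by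
    rw [← CommRingCat.ofHom_comp]
  rw [e1, e2] at poBig
  have sq : IsPullback (Spec.map iB)
      (sp V (MvPolynomial (Fin n) V ⊗[MvPolynomial (Fin n) R₀] B)) (sp R₀ B) (sp R₀ V) :=
    isPullback_SpecMap_of_isPushout _ _ _ _ poBig
  have hspD : sp V (MvPolynomial (Fin n) V ⊗[MvPolynomial (Fin n) R₀] B) =
      Spec.map iVT ≫ sp V (MvPolynomial (Fin n) V) := by
    change Spec.map _ = _
    rw [← e2, Spec.map_comp]
  have hσid : σ ≫ sp V (MvPolynomial (Fin n) V) = 𝟙 _ := by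
    rw [← Spec.map_comp, ← CommRingCat.ofHom_comp]
    have : ev.toRingHom.comp (algebraMap V (MvPolynomial (Fin n) V)) = RingHom.id V := by
      ext v
      exact hevC v
    rw [this]
    exact Spec.map_id _
  have hftAB : Algebra.FiniteType (MvPolynomial (Fin n) R₀) B :=
    Algebra.FiniteType.of_restrictScalars_finiteType R₀ _ B
  have hftVD : Algebra.FiniteType V (MvPolynomial (Fin n) V ⊗[MvPolynomial (Fin n) R₀] B) :=
    Algebra.FiniteType.trans (inferInstance : Algebra.FiniteType V (MvPolynomial (Fin n) V))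
      inferInstance
  -- the point `q₀ = k x'`
  obtain ⟨q₀, hq₀⟩ : ∃ q₀ : ↥(Spec (CommRingCat.of
      (MvPolynomial (Fin n) V ⊗[MvPolynomial (Fin n) R₀] B))), q₀ = k.base x' := ⟨_, rfl⟩
  have hq₀B : (Spec.map iB).base q₀ = q := by
    rw [hq₀, ← Scheme.Hom.comp_apply, hk1]; exact hx'q
  have hq₀VT : (Spec.map iVT).base q₀ = σ.base (IsLocalRing.closedPoint V) := by
    rw [hq₀, ← Scheme.Hom.comp_apply, hk2, Scheme.Hom.comp_apply, hx'c]
  -- a generization `z₁` of `q₀` over `z` in the closed fibre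
  obtain ⟨z₁, hz₁q₀, hz₁z, hz₁f⟩ :=
    Groth.Agent.Lib.H80UnivOpenSpecialize.exists_generization_in_fibre sq q₀ z
      (by rw [hq₀B]; exact hzq) (by rw [hq₀B]; exact hfib)
  -- a maximal point `w₁` of the fibre generizing `z₁`
  obtain ⟨w₁, hw₁z₁, hw₁f, -, hw₁dim⟩ := exists_maxInFibre_fibreDimAt_eq
    (sp V (MvPolynomial (Fin n) V ⊗[MvPolynomial (Fin n) R₀] B)) z₁
  have hw₁z : (Spec.map iB).base w₁ = z := by
    apply hmax
    · rw [← hz₁z]; exact hw₁z₁.map (Spec.map iB).continuous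
    · have h1 := congrArg (fun φ : Spec (CommRingCat.of
        (MvPolynomial (Fin n) V ⊗[MvPolynomial (Fin n) R₀] B)) ⟶ Spec (CommRingCat.of R₀) =>
          φ.base w₁) sq.w
      have h2 := congrArg (fun φ : Spec (CommRingCat.of
        (MvPolynomial (Fin n) V ⊗[MvPolynomial (Fin n) R₀] B)) ⟶ Spec (CommRingCat.of R₀) =>
          φ.base z₁) sq.w
      simp only [Scheme.Hom.comp_apply] at h1 h2
      rw [h1, hw₁f, ← h2, hz₁z]
  have hnw₁ : n ≤ tdeg (sp V (MvPolynomial (Fin n) V ⊗[MvPolynomial (Fin n) R₀] B)) w₁ := by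
    have h1 := Groth.Agent.Lib.H30FibBC.fibreDimAt_eq_of_isPullback (sp R₀ B) (sp R₀ V)
      (Spec.map iB) (sp V (MvPolynomial (Fin n) V ⊗[MvPolynomial (Fin n) R₀] B)) sq z₁
    rw [hz₁z, hw₁dim] at h1
    have h2 := tdeg_le_fibreDimAt (sp R₀ B) z
    rw [← h1] at h2
    have h3 : tdeg (sp R₀ B) z ≤
        tdeg (sp V (MvPolynomial (Fin n) V ⊗[MvPolynomial (Fin n) R₀] B)) w₁ := by
      exact_mod_cast h2
    exact hn.trans h3
  -- universal openness at `z`: a generization `w₀` of `w₁` over the generic point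
  have hopen₁ : EGA43.IsOpenAt
      (sp V (MvPolynomial (Fin n) V ⊗[MvPolynomial (Fin n) R₀] B)).base w₁ :=
    Groth.Agent.Lib.UnivOpenAt.isOpenAt_snd_of_isPullback sq hopen w₁ hw₁z
  obtain ⟨w₀, hw₀w₁, hw₀η⟩ := Groth.Agent.Lib.OpenAt45.exists_generization_of_isOpenAt
    (sp V (MvPolynomial (Fin n) V ⊗[MvPolynomial (Fin n) R₀] B)) w₁ hopen₁
    (⟨⊥, Ideal.isPrime_bot⟩ : PrimeSpectrum V)
    (Groth.Agent.Lib.ValSpecialize.bot_specializes _)
  -- ring level: the chain `w₀ ≤ w₁ ≤ q₀`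
  have hwz : w₀.asIdeal ≤ w₁.asIdeal := (PrimeSpectrum.le_iff_specializes w₀ w₁).mpr hw₀w₁
  have hzq' : w₁.asIdeal ≤ q₀.asIdeal :=
    (PrimeSpectrum.le_iff_specializes w₁ q₀).mpr (hw₁z₁.trans hz₁q₀)
  have hwV : w₀.asIdeal.under V = ⊥ := congrArg PrimeSpectrum.asIdeal hw₀η
  haveI hqf₀ : Algebra.QuasiFiniteAt (MvPolynomial (Fin n) V) q₀.asIdeal :=
    Algebra.QuasiFiniteAt.baseChange q.asIdeal q₀.asIdeal
      (congrArg PrimeSpectrum.asIdeal hq₀B).symm
  -- the prime `P₀ = σ(η)`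
  obtain ⟨p₀, hp₀⟩ : ∃ p₀ : PrimeSpectrum (MvPolynomial (Fin n) V),
      p₀ = σ.base (⟨⊥, Ideal.isPrime_bot⟩ : PrimeSpectrum V) := ⟨_, rfl⟩
  haveI hp₀prime : p₀.asIdeal.IsPrime := p₀.isPrime
  have hP₀ : p₀.asIdeal ≤ q₀.asIdeal.comap (algebraMap (MvPolynomial (Fin n) V)
      (MvPolynomial (Fin n) V ⊗[MvPolynomial (Fin n) R₀] B)) := by
    have h1 : σ.base (⟨⊥, Ideal.isPrime_bot⟩ : PrimeSpectrum V) ⤳
        σ.base (IsLocalRing.closedPoint V) :=
      (Groth.Agent.Lib.ValSpecialize.bot_specializes _).map σ.continuous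
    rw [← hq₀VT, ← hp₀] at h1
    exact (PrimeSpectrum.le_iff_specializes p₀ _).mpr h1
  obtain ⟨P, hPprime, -, hPq₀, hPcomap⟩ := exists_le_comap_eq n q₀.asIdeal w₁.asIdeal w₀.asIdeal
    hwz hzq' hwV hnw₁ p₀.asIdeal hP₀
  -- the point of the pullback
  have hr : (Spec.map iVT).base (⟨P, hPprime⟩ : PrimeSpectrum
      (MvPolynomial (Fin n) V ⊗[MvPolynomial (Fin n) R₀] B)) =
      σ.base (⟨⊥, Ideal.isPrime_bot⟩ : PrimeSpectrum V) := by
    rw [← hp₀]
    exact PrimeSpectrum.ext hPcomap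
  obtain ⟨z', hz'1, hz'2⟩ := Scheme.exists_preimage_of_isPullback sqK _ _ hr
  refine ⟨z', ?_, hz'2⟩
  rw [← k.isClosedEmbedding.toIsEmbedding.isInducing.specializes_iff, hz'1, ← hq₀]
  exact (PrimeSpectrum.le_iff_specializes _ q₀).mp hPq₀

end Main

end Groth.Agent.Lib.H79QFOpen
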