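import Groth.Agent.Lib.H79QFOpen3
import Groth.Agent.Lib.H56OpenComp
import Groth.Agent.Lib.H30IrrFib
import Mathlib

/-!
# helper79: quasi-finite morphisms to affine space are universally open at points of fibre
components of full dimension through which the structure morphism is universally open
-/

set_option autoImplicit false
set_option linter.style.haveILetI false
universe u
open TopologicalSpace Topology TensorProduct AlgebraicGeometry CategoryTheory CategoryTheory.Limits

namespace Groth.Agent.Lib.H79QFOpen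

open Groth.Agent.Lib.H56SpecTrdeg Groth.Agent.Lib.H56OpenDim Groth.Agent.Lib.H30DimRel
  Groth.Agent.Lib.H30IrrFib

/-- the generic point of an irreducible component of a fibre -/
theorem generic_fibre_component {X S : Scheme.{u}} (f : X ⟶ S) [LocallyOfFiniteType f] (s : S)
    (Z : Set ↥(f.base ⁻¹' {s})) (hZ : Z ∈ irreducibleComponents ↥(f.base ⁻¹' {s}))
    (z : X) (hz : z ∈ Subtype.val '' Z ∧ Subtype.val '' Z ⊆ closure {z}) :
    f.base z = s ∧ (∀ y ∈ Subtype.val '' Z, z ⤳ y) ∧ IsMaxInFibre f z ∧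
      topologicalKrullDim ↥Z = (tdeg f z : WithBot ℕ∞) := by
  obtain ⟨⟨zF, hzFZ, rfl⟩, hsub⟩ := hz
  have hcl : Z = closure {zF} := by
    apply Set.Subset.antisymm
    · intro y hy
      rw [Topology.IsInducing.subtypeVal.closure_eq_preimage_closure_image, Set.image_singleton]
      exact hsub ⟨y, hy, rfl⟩
    · exact closure_minimal (Set.singleton_subset_iff.mpr hzFZ)
        (isClosed_of_mem_irreducibleComponents Z hZ)
  refine ⟨zF.2, fun y hy => specializes_iff_mem_closure.mpr (hsub hy), ?_, ?_⟩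
  · intro v hv hfv
    let vF : ↥(f.base ⁻¹' {s}) := ⟨v, hfv.trans zF.2⟩
    have hvz : vF ⤳ zF := Topology.IsInducing.subtypeVal.specializes_iff.mp hv
    have hirr : IsIrreducible (closure ({vF} : Set ↥(f.base ⁻¹' {s}))) :=
      isIrreducible_singleton.closure
    have hle : Z ≤ closure ({vF} : Set ↥(f.base ⁻¹' {s})) := by
      rw [hcl]
      exact specializes_iff_closure_subset.mp hvz
    have hge := hZ.2 hirr hle
    have hzv : zF ⤳ vF := by
      rw [specializes_iff_mem_closure, ← hcl]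
      exact hge (subset_closure rfl)
    have : vF = zF := (hvz.antisymm hzv).eq
    exact congrArg Subtype.val this
  · let e := f.fiberHomeo s
    let w : ↥(f.fiber s) := e.symm zF
    have hw : f.fiberι s w = zF.1 := f.fiberι_fiberHomeo_symm s ⟨zF.1, zF.2⟩
    have himg : e '' closure ({w} : Set ↥(f.fiber s)) = Z := by
      rw [e.image_closure, Set.image_singleton, hcl]
      congr 2
      exact e.apply_symm_apply zF
    have h1 := Groth.Agent.Lib.H56OpenDim.dim_closure_fiber_point f s w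
    rw [hw] at h1
    rw [← h1]
    have h2 := (e.image (closure ({w} : Set ↥(f.fiber s)))).isHomeomorph.topologicalKrullDim_eq
    rw [h2]
    subst himg
    rfl

/-- the relative transcendence degree can be computed in an affine chart -/
theorem tdeg_chart {X S : Scheme.{u}} (f : X ⟶ S) [LocallyOfFiniteType f] {U : X.Opens}
    {W : S.Opens} (hU : IsAffineOpen U) (hW : IsAffineOpen W) (e : U ≤ f ⁻¹ᵁ W)
    (p : ↥(Spec Γ(X, U))) :
    tdeg (Spec.map (f.appLE W U e)) p = tdeg f (hU.fromSpec.base p) := by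
  have h := IsAffineOpen.SpecMap_appLE_fromSpec f hW hU e
  haveI : LocallyOfFiniteType (Spec.map (f.appLE W U e) ≫ hW.fromSpec) := by
    rw [h]; infer_instance
  haveI : LocallyOfFiniteType (Spec.map (f.appLE W U e)) :=
    locallyOfFiniteType_of_comp (Spec.map (f.appLE W U e)) hW.fromSpec
  have h1 := rt_comp (Spec.map (f.appLE W U e)) hW.fromSpec p
  have h2 := rt_comp hU.fromSpec f p
  rw [rt_of_isPreimmersion hW.fromSpec] at h1
  rw [rt_of_isPreimmersion hU.fromSpec] at h2
  have h3 : rt (Spec.map (f.appLE W U e) ≫ hW.fromSpec) p = rt (hU.fromSpec ≫ f) p := by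
    congr 1
  rw [h1, h2, zero_add, add_zero] at h3
  exact h3

variable (n : ℕ)

/-- an affine chart of the affine space over an affine open of the base -/
theorem exists_affineSpace_chart {S : Scheme.{u}} {W : S.Opens} (hW : IsAffineOpen W) :
    ∃ j : Spec (CommRingCat.of (MvPolynomial (Fin n) Γ(S, W))) ⟶ 𝔸(ULift.{u} (Fin n); S),
      IsOpenImmersion j ∧
      j ≫ (𝔸(ULift.{u} (Fin n); S) ↘ S) =
        Spec.map (CommRingCat.ofHom (MvPolynomial.C (σ := Fin n) (R := Γ(S, W)))) ≫ hW.fromSpec ∧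
      ∀ y : 𝔸(ULift.{u} (Fin n); S), (𝔸(ULift.{u} (Fin n); S) ↘ S).base y ∈ W →
        y ∈ Set.range j.base := by
  let ρ : MvPolynomial (ULift.{u} (Fin n)) Γ(S, W) ≃ₐ[Γ(S, W)] MvPolynomial (Fin n) Γ(S, W) :=
    MvPolynomial.renameEquiv Γ(S, W) Equiv.ulift
  let j₁ : Spec (CommRingCat.of (MvPolynomial (Fin n) Γ(S, W))) ⟶
      Spec (CommRingCat.of (MvPolynomial (ULift.{u} (Fin n)) Γ(S, W))) :=
    Spec.map (CommRingCat.ofHom ρ.toRingEquiv.toRingHom)
  haveI : IsIso j₁ := by
    have : IsIso (CommRingCat.ofHom ρ.toRingEquiv.toRingHom) :=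
      (ρ.toRingEquiv.toCommRingCatIso).isIso_hom
    infer_instance
  have hopen : IsOpenImmersion (AffineSpace.map (ULift.{u} (Fin n)) hW.fromSpec) :=
    MorphismProperty.of_isPullback (P := @IsOpenImmersion)
      (AffineSpace.isPullback_map (n := ULift.{u} (Fin n)) hW.fromSpec).flip inferInstance
  refine ⟨j₁ ≫ (AffineSpace.SpecIso (ULift.{u} (Fin n)) Γ(S, W)).inv ≫
    AffineSpace.map (ULift.{u} (Fin n)) hW.fromSpec, inferInstance, ?_, ?_⟩
  · rw [Category.assoc, Category.assoc, AffineSpace.map_over, AffineSpace.SpecIso_inv_over_assoc,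
      ← Spec.map_comp_assoc, ← CommRingCat.ofHom_comp]
    congr 3
    apply RingHom.ext
    intro r
    change ρ (MvPolynomial.C r) = MvPolynomial.C r
    exact MvPolynomial.rename_C _ r
  · intro y hy
    have hy' : (𝔸(ULift.{u} (Fin n); S) ↘ S).base y ∈ Set.range hW.fromSpec.base := by
      rw [hW.range_fromSpec]; exact hy
    obtain ⟨w, hw⟩ := hy'
    obtain ⟨p, hp1, -⟩ := Scheme.exists_preimage_of_isPullback
      (AffineSpace.isPullback_map (n := ULift.{u} (Fin n)) hW.fromSpec) y w hw.symm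
    refine ⟨(inv j₁).base ((AffineSpace.SpecIso (ULift.{u} (Fin n)) Γ(S, W)).hom.base p), ?_⟩
    rw [← Scheme.Hom.comp_apply, ← Scheme.Hom.comp_apply]
    simp only [IsIso.inv_hom_id_assoc, Iso.hom_inv_id_assoc]
    exact hp1

/-- **Main theorem** (SGA 3, used in the theory of quasi-sections): a locally quasi-finite
`S`-morphism `u : X → 𝔸ⁿ_S` is universally open at `x` as soon as `f : X → S` is universally open at
the generic point of an `n`-dimensional irreducible component of the fibre through `x`. -/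
theorem isUnivOpenAt_of_locallyQuasiFinite_affineSpace (X S : Scheme.{u}) (f : X ⟶ S)
    [LocallyOfFinitePresentation f]
    (s : S) (x : X) (hxs : f.base x = s)
    (u : X ⟶ 𝔸(ULift.{u} (Fin n); S)) [LocallyQuasiFinite u]
    (hu : u ≫ (𝔸(ULift.{u} (Fin n); S) ↘ S) = f)
    (Z : Set ↥(f.base ⁻¹' {s})) (hZ : Z ∈ irreducibleComponents ↥(f.base ⁻¹' {s}))
    (hxZ : x ∈ (Subtype.val '' Z))
    (z : X) (hz : z ∈ Subtype.val '' Z ∧ Subtype.val '' Z ⊆ closure {z})
    (hopen : EGA43.IsUnivOpenAt f z)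
    (hdimZ : topologicalKrullDim ↥Z = n) :
    EGA43.IsUnivOpenAt u x := by
  classical
  haveI : LocallyOfFiniteType f := inferInstance
  obtain ⟨hzs, hspec, hmax, hdim⟩ := generic_fibre_component f s Z hZ z hz
  have hzx : z ⤳ x := hspec x hxZ
  have htd : tdeg f z = n := by
    rw [hdim] at hdimZ
    exact_mod_cast hdimZ
  -- charts
  obtain ⟨_, ⟨W, hW, rfl⟩, hsW, -⟩ := S.isBasis_affineOpens.exists_subset_of_mem_open
    (Set.mem_univ s) isOpen_univ
  replace hW : IsAffineOpen W := hW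
  obtain ⟨_, ⟨U, hU, rfl⟩, hxU, hUW⟩ := X.isBasis_affineOpens.exists_subset_of_mem_open
    (show x ∈ ((f ⁻¹ᵁ W : X.Opens) : Set X) from (show f.base x ∈ W from hxs ▸ hsW))
    (f ⁻¹ᵁ W).isOpen
  replace hU : IsAffineOpen U := hU
  have e : U ≤ f ⁻¹ᵁ W := hUW
  have hzU : z ∈ U := hzx.mem_open U.isOpen hxU
  obtain ⟨j, hjopen, hjover, hjrange⟩ := exists_affineSpace_chart n hW
  -- the chart `f₀` of `u`
  have hrange : Set.range (hU.fromSpec ≫ u).base ⊆ Set.range j.base := by
    rintro _ ⟨t, rfl⟩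
    apply hjrange
    rw [← Scheme.Hom.comp_apply, Category.assoc, hu, Scheme.Hom.comp_apply]
    apply e
    have : hU.fromSpec.base t ∈ Set.range hU.fromSpec.base := Set.mem_range_self t
    rwa [hU.range_fromSpec] at this
  let f₀ := IsOpenImmersion.lift j (hU.fromSpec ≫ u) hrange
  have hf₀ : f₀ ≫ j = hU.fromSpec ≫ u := IsOpenImmersion.lift_fac _ _ _
  obtain ⟨φ, hφ⟩ : ∃ φ : MvPolynomial (Fin n) Γ(S, W) →+* Γ(X, U),
      Spec.map (CommRingCat.ofHom φ) = f₀ := ⟨(Spec.preimage f₀).hom, Spec.map_preimage f₀⟩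
  have hchart := IsAffineOpen.SpecMap_appLE_fromSpec f hW hU e
  have htower : CommRingCat.ofHom (MvPolynomial.C (σ := Fin n) (R := Γ(S, W))) ≫
      CommRingCat.ofHom φ = f.appLE W U e := by
    apply Spec.map_injective
    rw [Spec.map_comp, hφ, ← cancel_mono hW.fromSpec, Category.assoc, ← hjover,
      ← Category.assoc, hf₀, Category.assoc, hu, hchart]
  letI algAB : Algebra (MvPolynomial (Fin n) Γ(S, W)) Γ(X, U) := φ.toAlgebra
  letI algRB : Algebra Γ(S, W) Γ(X, U) := (f.appLE W U e).hom.toAlgebra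
  haveI tower : IsScalarTower Γ(S, W) (MvPolynomial (Fin n) Γ(S, W)) Γ(X, U) :=
    IsScalarTower.of_algebraMap_eq (fun r => by
      have := congrArg (fun ψ : Γ(S, W) ⟶ Γ(X, U) => ψ.hom r) htower
      exact this.symm)
  have hspR : sp Γ(S, W) Γ(X, U) = Spec.map (f.appLE W U e) := by
    change Spec.map (CommRingCat.ofHom (f.appLE W U e).hom) = _
    rw [CommRingCat.ofHom_hom]
  have hspA : sp (MvPolynomial (Fin n) Γ(S, W)) Γ(X, U) = f₀ := hφ
  haveI hfp : Algebra.FinitePresentation Γ(S, W) Γ(X, U) := f.finitePresentation_appLE hW hU e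
  -- the points
  let q : ↥(Spec Γ(X, U)) := hU.primeIdealOf ⟨x, hxU⟩
  let zz : ↥(Spec Γ(X, U)) := hU.primeIdealOf ⟨z, hzU⟩
  have hqx : hU.fromSpec.base q = x := hU.fromSpec_primeIdealOf ⟨x, hxU⟩
  have hzz : hU.fromSpec.base zz = z := hU.fromSpec_primeIdealOf ⟨z, hzU⟩
  have hzq : zz ⤳ q := by
    rw [← hU.fromSpec.isOpenEmbedding.toIsEmbedding.isInducing.specializes_iff, hqx, hzz]
    exact hzx
  have hfib : (sp Γ(S, W) Γ(X, U)).base zz = (sp Γ(S, W) Γ(X, U)).base q := by
    apply hW.fromSpec.isOpenEmbedding.injective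
    rw [hspR, ← Scheme.Hom.comp_apply, ← Scheme.Hom.comp_apply, hchart, Scheme.Hom.comp_apply,
      Scheme.Hom.comp_apply, hqx, hzz, hzs, hxs]
  haveI : LocallyQuasiFinite (f₀ ≫ j) := by rw [hf₀]; infer_instance
  haveI hlqf : LocallyQuasiFinite f₀ := LocallyQuasiFinite.of_comp f₀ j
  haveI hqfAB : Algebra.QuasiFinite (MvPolynomial (Fin n) Γ(S, W)) Γ(X, U) := by
    rw [← hφ] at hlqf
    exact (HasRingHomProperty.Spec_iff (P := @LocallyQuasiFinite)).mp hlqf
  have hmax' : IsMaxInFibre (sp Γ(S, W) Γ(X, U)) zz := by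
    intro v hv hfv
    apply hU.fromSpec.isOpenEmbedding.injective
    rw [hzz]
    apply hmax
    · rw [← hzz]; exact hv.map hU.fromSpec.continuous
    · have h1 := congrArg hW.fromSpec.base hfv
      rw [hspR, ← Scheme.Hom.comp_apply, ← Scheme.Hom.comp_apply, hchart, Scheme.Hom.comp_apply,
        Scheme.Hom.comp_apply, hzz] at h1
      exact h1
  have hn : n ≤ tdeg (sp Γ(S, W) Γ(X, U)) zz := by
    rw [hspR, tdeg_chart f hU hW e zz, hzz, htd]
  have hopen' : EGA43.IsUnivOpenAt (sp Γ(S, W) Γ(X, U)) zz := by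
    rw [hspR]
    refine isUnivOpenAt_restrict f (Spec.map (f.appLE W U e)) hU.fromSpec hW.fromSpec hchart zz ?_
    rw [hzz]; exact hopen
  have h := isUnivOpenAt_sp_of_quasiFiniteAt n q zz hzq hfib hmax' hn hopen'
  rw [hspA] at h
  have h' := isUnivOpenAt_of_openImmersions u f₀ hU.fromSpec j hf₀ q h
  rwa [hqx] at h'

end Groth.Agent.Lib.H79QFOpen
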