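import Groth.Agent.Lib.H79CubK6

/-!
# Cubic forms with a singular point: lines through the singular point

`Sing S p`: the nonzero vector `p` is a singular point of the cubic form `S`
(a symmetric trilinear form).  Lines through `p` on the cubic correspond to vectors
`m ∉ span p` with `T(p,m,m) = 0` and `F(m) = 0`.
-/

open Groth.Agent.Lib.H79CubK

namespace Groth.Agent.Lib.H79Sing

variable {K : Type*} [Field K] [CharZero K] {V : Type*} [AddCommGroup V] [Module K V]

/-- `p` is a singular point of the cubic `S` -/
structure Sing (S : SymTri K V) (p : V) : Prop where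
  hp : p ≠ 0
  sing : ∀ w, S.T p p w = 0

/-- the set of lines through `p` on the cubic -/
def Lines (S : SymTri K V) (p : V) : Set (Submodule K V) :=
  {U | p ∈ U ∧ Module.finrank K ↥U = 2 ∧ ∀ u ∈ U, S.F u = 0}

namespace Sing

variable {S : SymTri K V} {p : V} (h : Sing S p)
include h

theorem Tpwp (w : V) : S.T p w p = 0 := by rw [S.s23]; exact h.sing w

theorem Twpp (w : V) : S.T w p p = 0 := by rw [S.s12, h.Tpwp]

theorem Fp : S.F p = 0 := h.sing p

/-- general expansion of `T` along `p` -/
theorem T_decomp (x x' x'' : K) (w w' w'' : V) :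
    S.T (x • p + w) (x' • p + w') (x'' • p + w'') =
      S.T w w' w'' + x * S.T p w' w'' + x' * S.T p w w'' + x'' * S.T p w w' := by
  simp only [map_add, map_smul, LinearMap.add_apply, LinearMap.smul_apply, smul_eq_mul]
  have e1 : S.T w p w'' = S.T p w w'' := S.s12 _ _ _
  have e2 : S.T w w' p = S.T p w w' := (S.rot p w w').symm
  rw [h.sing, h.sing, h.Tpwp, h.Twpp, e1, e2]
  ring

theorem F_decomp (x : K) (w : V) : S.F (x • p + w) = S.F w + 3 * x * S.T p w w := by
  unfold SymTri.F
  rw [h.T_decomp]; ring

/-- the quadratic form `T(p, ·, ·)` is insensitive to adding multiples of `p` -/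
theorem B_decomp (x x' : K) (w w' : V) :
    S.T p (x • p + w) (x' • p + w') = S.T p w w' := by
  simp only [map_add, map_smul, LinearMap.add_apply, LinearMap.smul_apply, smul_eq_mul]
  rw [h.sing, h.sing, h.Tpwp]
  ring

theorem F_smul_p (x : K) : S.F (x • p) = 0 := by
  rw [S.F_smul, h.Fp, mul_zero]

/-- a vector on which `F` does not vanish is not a multiple of `p` -/
theorem notMem_of_F_ne {w : V} (hw : S.F w ≠ 0) : w ∉ Submodule.span K {p} := by
  intro hmem
  obtain ⟨c, rfl⟩ := Submodule.mem_span_singleton.mp hmem
  exact hw (h.F_smul_p c)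

theorem li_of_notMem {m : V} (hm : m ∉ Submodule.span K {p}) : LinearIndependent K ![p, m] := by
  rw [LinearIndependent.pair_iff' h.hp]
  intro c hc
  apply hm
  rw [← hc]
  exact Submodule.smul_mem _ _ (Submodule.mem_span_singleton_self p)

/-- the span of `p` and an isotropic vector on the cubic is a line on the cubic -/
theorem span_mem_lines {m : V} (hm : m ∉ Submodule.span K {p}) (hq : S.T p m m = 0)
    (hF : S.F m = 0) : Submodule.span K {p, m} ∈ Lines S p := by
  refine ⟨Submodule.subset_span (by simp), finrank_span_pair_of_li (h.li_of_notMem hm), ?_⟩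
  rw [S.vanish_on_pair_iff]
  exact ⟨h.Fp, h.sing m, hq, hF⟩

/-- every line through `p` on the cubic is spanned by `p` and an isotropic vector on the cubic -/
theorem exists_gen [FiniteDimensional K V] {U : Submodule K V} (hU : U ∈ Lines S p) :
    ∃ m, m ∉ Submodule.span K {p} ∧ S.T p m m = 0 ∧ S.F m = 0 ∧ U = Submodule.span K {p, m} := by
  obtain ⟨hpU, hfr, hvan⟩ := hU
  obtain ⟨m, -, hli, hspan⟩ := exists_gen_of_line h.hp hfr hpU
  rw [hspan, S.vanish_on_pair_iff] at hvan
  refine ⟨m, ?_, hvan.2.2.1, hvan.2.2.2, hspan⟩
  intro hmem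
  obtain ⟨c, hc⟩ := Submodule.mem_span_singleton.mp hmem
  have := (LinearIndependent.pair_iff' h.hp).mp hli c
  exact this hc

/-- replacing the generator `m` by `x • p + c • m` with `c ≠ 0` does not change the line -/
theorem span_pair_eq {m : V} (x c : K) (hc : c ≠ 0) :
    Submodule.span K {p, x • p + c • m} = Submodule.span K {p, m} := by
  apply le_antisymm
  · rw [Submodule.span_le]
    rintro z (rfl | rfl)
    · exact Submodule.subset_span (by simp)
    · exact Submodule.add_mem _ (Submodule.smul_mem _ _ (Submodule.subset_span (by simp)))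
        (Submodule.smul_mem _ _ (Submodule.subset_span (by simp)))
  · rw [Submodule.span_le]
    rintro z (rfl | rfl)
    · exact Submodule.subset_span (by simp)
    · have : z = c⁻¹ • (x • p + c • z) - (c⁻¹ * x) • p := by
        rw [smul_add, smul_smul, smul_smul, inv_mul_cancel₀ hc, one_smul]; abel
      have hmem : c⁻¹ • (x • p + c • z) - (c⁻¹ * x) • p
          ∈ Submodule.span K ({p, x • p + c • z} : Set V) :=
        Submodule.sub_mem _ (Submodule.smul_mem _ _ (Submodule.subset_span (by simp)))
          (Submodule.smul_mem _ _ (Submodule.subset_span (by simp)))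
      rw [← this] at hmem
      exact hmem

end Sing

end Groth.Agent.Lib.H79Sing
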