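import Groth.Agent.Lib.H79Sing1

/-!
# Lines through a singular point lying in a totally isotropic hyperplane
-/

open Groth.Agent.Lib.H79CubK

namespace Groth.Agent.Lib.H79Sing

variable {K : Type*} [Field K] [CharZero K] {V : Type*} [AddCommGroup V] [Module K V]

/-- a basis `p, h₁, h₂` of the kernel of a nonzero functional on a 4-dimensional space -/
theorem exists_basis_ker [FiniteDimensional K V] (hV : Module.finrank K V = 4)
    (lam : V →ₗ[K] K) {e : V} (he : lam e ≠ 0) {p : V} (hp : p ≠ 0) (hlp : lam p = 0) :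
    ∃ h₁ h₂ : V, lam h₁ = 0 ∧ lam h₂ = 0 ∧
      (∀ x s t : K, x • p + s • h₁ + t • h₂ = 0 → x = 0 ∧ s = 0 ∧ t = 0) ∧
      (∀ v, lam v = 0 → ∃ x s t : K, v = x • p + s • h₁ + t • h₂) := by
  have hker := finrank_ker_functional' lam he
  have h3 : Module.finrank K ↥(LinearMap.ker lam) = 3 := by omega
  have hp' : (⟨p, hlp⟩ : ↥(LinearMap.ker lam)) ≠ 0 := by
    intro h0; exact hp (congrArg Subtype.val h0)
  obtain ⟨y, hy⟩ := exists_linearIndependent_pair_of_one_lt_finrank (R := K) (by omega) hp'
  obtain ⟨z, hz⟩ := exists_linearIndependent_cons_of_lt_finrank hy (by omega)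
  have hz' : LinearIndependent K ![z, ⟨p, hlp⟩, y] := hz
  have hli := hz'.map' (LinearMap.ker lam).subtype (Submodule.ker_subtype _)
  have hcomp : (⇑(LinearMap.ker lam).subtype ∘ ![z, ⟨p, hlp⟩, y]) = ![(z : V), p, (y : V)] := by
    funext i
    fin_cases i <;> rfl
  rw [hcomp] at hli
  have hyk : lam (y : V) = 0 := y.2
  have hzk : lam (z : V) = 0 := z.2
  refine ⟨y, z, hyk, hzk, ?_, ?_⟩
  · intro x s t h0
    have h0' : t • (z : V) + x • p + s • (y : V) = 0 := by rw [← h0]; abel
    obtain ⟨h1, h2, h3⟩ := li3_coeff hli h0'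
    exact ⟨h2, h3, h1⟩
  · have hsp : Submodule.span K ({(z : V), p, (y : V)} : Set V) = LinearMap.ker lam := by
      apply Submodule.eq_of_le_of_finrank_eq
      · rw [Submodule.span_le]
        rintro w (rfl | rfl | rfl)
        · exact hzk
        · exact hlp
        · exact hyk
      · rw [finrank_span_triple_of_li hli, h3]
    intro v hv
    have hv' : v ∈ Submodule.span K ({(z : V), p, (y : V)} : Set V) := by rw [hsp]; exact hv
    obtain ⟨a, b, c, habc⟩ := Submodule.mem_span_triple.mp hv'
    refine ⟨b, c, a, ?_⟩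
    rw [← habc]; abel

variable {S : SymTri K V} {p : V}

/-- at most three lines through the singular point `p` lie in a hyperplane through `p` on which
the tangent cone vanishes identically, provided the cubic does not vanish on it -/
theorem encard_lines_in_hyperplane [IsAlgClosed K] [FiniteDimensional K V]
    (hV : Module.finrank K V = 4) (h : Sing S p) (lam : V →ₗ[K] K) (hlp : lam p = 0)
    (hlam : ∃ e, lam e ≠ 0) (hQ : ∀ v, lam v = 0 → S.T p v v = 0)
    (hF : ∃ v, lam v = 0 ∧ S.F v ≠ 0) :
    {U | U ∈ Lines S p ∧ U ≤ LinearMap.ker lam}.encard ≤ 3 := by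
  obtain ⟨e, he⟩ := hlam
  obtain ⟨h₁, h₂, hl1, hl2, hind, hspan⟩ := exists_basis_ker hV lam he h.hp hlp
  -- the binary cubic
  have hcub : ∀ x s t : K, S.F (x • p + s • h₁ + t • h₂)
      = S.F h₁ * s ^ 3 + (3 * S.T h₁ h₁ h₂) * (s ^ 2 * t) + (3 * S.T h₁ h₂ h₂) * (s * t ^ 2)
        + S.F h₂ * t ^ 3 := by
    intro x s t
    have hl : lam (s • h₁ + t • h₂) = 0 := by
      rw [map_add, map_smul, map_smul, hl1, hl2]; simp
    rw [add_assoc, h.F_decomp, hQ _ hl, S.F_lin2]
    ring
  obtain ⟨α, β, hfac⟩ := binary_cubic_factor (S.F h₁) (3 * S.T h₁ h₁ h₂) (3 * S.T h₁ h₂ h₂) (S.F h₂)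
  -- no factor vanishes identically
  have hne : ∀ i, α i ≠ 0 ∨ β i ≠ 0 := by
    intro i
    by_contra hcon
    rw [not_or, not_not, not_not] at hcon
    obtain ⟨v, hv, hFv⟩ := hF
    obtain ⟨x, s, t, rfl⟩ := hspan v hv
    apply hFv
    rw [hcub, hfac]
    apply Finset.prod_eq_zero (Finset.mem_univ i)
    rw [hcon.1, hcon.2]; ring
  have hsub : {U | U ∈ Lines S p ∧ U ≤ LinearMap.ker lam} ⊆
      Set.range (fun i : Fin 3 => Submodule.span K {p, β i • h₁ + (-α i) • h₂}) := by
    rintro U ⟨hU, hle⟩
    obtain ⟨m, hm, -, hFm, rfl⟩ := h.exists_gen hU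
    have hlm : lam m = 0 := hle (Submodule.subset_span (by simp))
    obtain ⟨x, s, t, rfl⟩ := hspan m hlm
    rw [hcub, hfac] at hFm
    obtain ⟨i, -, hi⟩ := Finset.prod_eq_zero_iff.mp hFm
    refine ⟨i, ?_⟩
    -- `(s,t)` is proportional to `(β i, -α i)`
    have hst : s ≠ 0 ∨ t ≠ 0 := by
      by_contra hcon
      rw [not_or, not_not, not_not] at hcon
      apply hm
      rw [hcon.1, hcon.2]
      simp only [zero_smul, add_zero]
      exact Submodule.smul_mem _ _ (Submodule.mem_span_singleton_self p)
    obtain ⟨c, hc0, hcs, hct⟩ : ∃ c : K, c ≠ 0 ∧ s = c * β i ∧ t = c * (-α i) := by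
      by_cases hb : β i = 0
      · have ha : α i ≠ 0 := by
          rcases hne i with h' | h'
          · exact h'
          · exact absurd hb h'
        rw [hb, zero_mul, add_zero] at hi
        have hs : s = 0 := by
          rcases mul_eq_zero.mp hi with h' | h'
          · exact absurd h' ha
          · exact h'
        have ht : t ≠ 0 := by
          rcases hst with h' | h'
          · exact absurd hs h'
          · exact h'
        refine ⟨-t / α i, ?_, ?_, ?_⟩
        · exact div_ne_zero (neg_ne_zero.mpr ht) ha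
        · rw [hs, hb, mul_zero]
        · field_simp
      · refine ⟨s / β i, ?_, ?_, ?_⟩
        · intro h0
          have hs : s = 0 := by
            rcases div_eq_zero_iff.mp h0 with h' | h'
            · exact h'
            · exact absurd h' hb
          rw [hs, mul_zero, zero_add] at hi
          have ht : t = 0 := by
            rcases mul_eq_zero.mp hi with h' | h'
            · exact absurd h' hb
            · exact h'
          rcases hst with h' | h'
          · exact h' hs
          · exact h' ht
        · field_simp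
        · field_simp
          linear_combination hi
    have hm' : x • p + s • h₁ + t • h₂ = x • p + c • (β i • h₁ + (-α i) • h₂) := by
      rw [hcs, hct, smul_add, smul_smul, smul_smul, add_assoc]
    show Submodule.span K {p, β i • h₁ + (-α i) • h₂} = _
    rw [hm', h.span_pair_eq x c hc0]
  calc {U | U ∈ Lines S p ∧ U ≤ LinearMap.ker lam}.encard
      ≤ (Set.range (fun i : Fin 3 => Submodule.span K {p, β i • h₁ + (-α i) • h₂})).encard :=
        Set.encard_le_encard hsub
    _ = ((fun i : Fin 3 => Submodule.span K {p, β i • h₁ + (-α i) • h₂}) '' Set.univ).encard := by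
        rw [Set.image_univ]
    _ ≤ (Set.univ : Set (Fin 3)).encard := Set.encard_image_le _ _
    _ = 3 := by simp

end Groth.Agent.Lib.H79Sing
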