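import Groth.Agent.Lib.H79Sing2

/-!
# The case where the tangent cone at the singular point contains a plane
-/

open Groth.Agent.Lib.H79CubK

namespace Groth.Agent.Lib.H79Sing

variable {K : Type*} [Field K] [CharZero K] {V : Type*} [AddCommGroup V] [Module K V]

/-- a quadratic form vanishing on the kernel of a nonzero functional is divisible by it -/
theorem exists_factor_of_vanish (B : V →ₗ[K] V →ₗ[K] K) (hsymm : ∀ u v, B u v = B v u)
    (lam : V →ₗ[K] K) {e : V} (he : lam e ≠ 0) (hQ : ∀ v, lam v = 0 → B v v = 0) :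
    ∃ v₀ : V, lam v₀ = 1 ∧ ∀ v, B v v = lam v * ((2 : K) * B v₀ v - B v₀ v₀ * lam v) := by
  refine ⟨(lam e)⁻¹ • e, ?_, ?_⟩
  · rw [map_smul, smul_eq_mul, inv_mul_cancel₀ he]
  · obtain ⟨v₀, hv₀⟩ : ∃ v₀, v₀ = (lam e)⁻¹ • e := ⟨_, rfl⟩
    rw [← hv₀]
    have h1 : lam v₀ = 1 := by rw [hv₀, map_smul, smul_eq_mul, inv_mul_cancel₀ he]
    intro v
    have hk : lam (v - lam v • v₀) = 0 := by
      rw [map_sub, map_smul, h1, smul_eq_mul, mul_one, sub_self]
    have h2 := hQ _ hk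
    simp only [map_sub, map_smul, LinearMap.sub_apply, LinearMap.smul_apply, smul_eq_mul] at h2
    rw [hsymm v v₀] at h2
    linear_combination h2

variable {S : SymTri K V} {p : V}

/-- if the tangent cone contains a plane, there are at most six lines through `p` -/
theorem encard_lines_le_six_of_hyperplane [IsAlgClosed K] [FiniteDimensional K V]
    (hV : Module.finrank K V = 4) (h : Sing S p)
    (hplane : ∀ mu : V →ₗ[K] K, (∃ e, mu e ≠ 0) → ∃ v, mu v = 0 ∧ S.F v ≠ 0)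
    (hQ0 : ∃ v, S.T p v v ≠ 0)
    (lam : V →ₗ[K] K) (hlam : ∃ e, lam e ≠ 0) (hlp : lam p = 0)
    (hQ : ∀ v, lam v = 0 → S.T p v v = 0) :
    (Lines S p).encard ≤ 6 := by
  obtain ⟨e, he⟩ := hlam
  obtain ⟨v₀, hv₀, hfac⟩ := exists_factor_of_vanish (S.T p) (fun u v => S.s23 p u v) lam he hQ
  obtain ⟨mu, hmu⟩ : ∃ mu : V →ₗ[K] K, mu = (2 : K) • S.T p v₀ - (S.T p v₀ v₀) • lam := ⟨_, rfl⟩
  have hmu' : ∀ v, mu v = (2 : K) * S.T p v₀ v - S.T p v₀ v₀ * lam v := by
    intro v; rw [hmu]; simp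
  have hfac' : ∀ v, S.T p v v = lam v * mu v := by
    intro v; rw [hmu', hfac]
  have hmu0 : ∃ e', mu e' ≠ 0 := by
    obtain ⟨v, hv⟩ := hQ0
    refine ⟨v, ?_⟩
    intro h0
    apply hv
    rw [hfac', h0, mul_zero]
  have hmup : mu p = 0 := by
    rw [hmu', h.Tpwp, hlp]; ring
  have hQmu : ∀ v, mu v = 0 → S.T p v v = 0 := by
    intro v hv; rw [hfac', hv, mul_zero]
  have h1 := encard_lines_in_hyperplane hV h lam hlp ⟨e, he⟩ hQ (hplane lam ⟨e, he⟩)
  have h2 := encard_lines_in_hyperplane hV h mu hmup hmu0 hQmu (hplane mu hmu0)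
  have hsub : Lines S p ⊆ {U | U ∈ Lines S p ∧ U ≤ LinearMap.ker lam} ∪
      {U | U ∈ Lines S p ∧ U ≤ LinearMap.ker mu} := by
    intro U hU
    obtain ⟨m, hm, hq, -, rfl⟩ := h.exists_gen hU
    rw [hfac'] at hq
    rcases mul_eq_zero.mp hq with h' | h'
    · left
      refine ⟨hU, ?_⟩
      rw [Submodule.span_le]
      rintro z (rfl | rfl)
      · exact hlp
      · exact h'
    · right
      refine ⟨hU, ?_⟩
      rw [Submodule.span_le]
      rintro z (rfl | rfl)
      · exact hmup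
      · exact h'
  calc (Lines S p).encard ≤ _ := Set.encard_le_encard hsub
    _ ≤ _ := Set.encard_union_le _ _
    _ ≤ 3 + 3 := add_le_add h1 h2
    _ = 6 := by norm_num

end Groth.Agent.Lib.H79Sing
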