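import Groth.Agent.Lib.H79Sing3

/-!
# The case where the tangent cone at the singular point contains no plane:
projection from a point of the cone
-/

open Groth.Agent.Lib.H79CubK Polynomial

namespace Groth.Agent.Lib.H79Sing

variable {K : Type*} [Field K] [CharZero K] {V : Type*} [AddCommGroup V] [Module K V]

/-- a basis `p, w, v₁` of the kernel of a nonzero functional on a 4-dimensional space,
extending two given independent vectors -/
theorem exists_basis_ker' [FiniteDimensional K V] (hV : Module.finrank K V = 4)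
    (lam : V →ₗ[K] K) {e : V} (he : lam e ≠ 0) {p w : V} (hlp : lam p = 0) (hlw : lam w = 0)
    (hli : LinearIndependent K ![p, w]) :
    ∃ v₁ : V, lam v₁ = 0 ∧
      (∀ v, lam v = 0 → ∃ x c d : K, v = x • p + c • w + d • v₁) := by
  have hker := finrank_ker_functional' lam he
  have h3 : Module.finrank K ↥(LinearMap.ker lam) = 3 := by omega
  have hli' : LinearIndependent K ![(⟨p, hlp⟩ : ↥(LinearMap.ker lam)), ⟨w, hlw⟩] := by
    apply LinearIndependent.of_comp (LinearMap.ker lam).subtype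
    have : (⇑(LinearMap.ker lam).subtype ∘ ![(⟨p, hlp⟩ : ↥(LinearMap.ker lam)), ⟨w, hlw⟩])
        = ![p, w] := by
      funext i
      fin_cases i <;> rfl
    rw [this]
    exact hli
  obtain ⟨z, hz⟩ := exists_linearIndependent_cons_of_lt_finrank hli' (by omega)
  have hz' : LinearIndependent K ![z, ⟨p, hlp⟩, ⟨w, hlw⟩] := hz
  have hli3 := hz'.map' (LinearMap.ker lam).subtype (Submodule.ker_subtype _)
  have hcomp : (⇑(LinearMap.ker lam).subtype ∘ ![z, ⟨p, hlp⟩, ⟨w, hlw⟩]) = ![(z : V), p, w] := by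
    funext i
    fin_cases i <;> rfl
  rw [hcomp] at hli3
  have hzk : lam (z : V) = 0 := z.2
  refine ⟨z, hzk, ?_⟩
  have hsp : Submodule.span K ({(z : V), p, w} : Set V) = LinearMap.ker lam := by
    apply Submodule.eq_of_le_of_finrank_eq
    · rw [Submodule.span_le]
      rintro u (rfl | rfl | rfl)
      · exact hzk
      · exact hlp
      · exact hlw
    · rw [finrank_span_triple_of_li hli3, h3]
  intro v hv
  have hv' : v ∈ Submodule.span K ({(z : V), p, w} : Set V) := by rw [hsp]; exact hv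
  obtain ⟨a, b, c, habc⟩ := Submodule.mem_span_triple.mp hv'
  refine ⟨b, c, a, ?_⟩
  rw [← habc]; abel

/-- the sextic polynomial -/
noncomputable def gPoly (fw fv1 fv0 a1 a2 a3 a4 a5 a6 a7 g2 g1 g0 : K) : K[X] :=
  C fw * (C g2 * X ^ 2 + C g1 * X + C g0) ^ 3 + C fv1 * X ^ 3 + C fv0
    + C a1 * (C g2 * X ^ 2 + C g1 * X + C g0) ^ 2 * X
    + C a2 * (C g2 * X ^ 2 + C g1 * X + C g0) ^ 2
    + C a3 * X ^ 2 * (C g2 * X ^ 2 + C g1 * X + C g0)
    + C a4 * X ^ 2
    + C a5 * (C g2 * X ^ 2 + C g1 * X + C g0)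
    + C a6 * X
    + C a7 * (C g2 * X ^ 2 + C g1 * X + C g0) * X

omit [CharZero K] in
theorem natDegree_gPoly (fw fv1 fv0 a1 a2 a3 a4 a5 a6 a7 g2 g1 g0 : K) (h1 : fw ≠ 0)
    (h2 : g2 ≠ 0) :
    (gPoly fw fv1 fv0 a1 a2 a3 a4 a5 a6 a7 g2 g1 g0).natDegree = 6 := by
  unfold gPoly
  compute_degree!

omit [CharZero K] in
theorem eval_gPoly (fw fv1 fv0 a1 a2 a3 a4 a5 a6 a7 g2 g1 g0 t : K) :
    (gPoly fw fv1 fv0 a1 a2 a3 a4 a5 a6 a7 g2 g1 g0).eval t =
      fw * (g2 * t ^ 2 + g1 * t + g0) ^ 3 + fv1 * t ^ 3 + fv0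
        + a1 * (g2 * t ^ 2 + g1 * t + g0) ^ 2 * t
        + a2 * (g2 * t ^ 2 + g1 * t + g0) ^ 2
        + a3 * t ^ 2 * (g2 * t ^ 2 + g1 * t + g0)
        + a4 * t ^ 2
        + a5 * (g2 * t ^ 2 + g1 * t + g0)
        + a6 * t
        + a7 * (g2 * t ^ 2 + g1 * t + g0) * t := by
  unfold gPoly
  simp only [eval_add, eval_mul, eval_pow, eval_C, eval_X]

end Groth.Agent.Lib.H79Sing
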