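import Groth.Agent.Lib.H79Sing4

/-!
# At most six lines through the singular point when the tangent cone contains no plane
-/

open Groth.Agent.Lib.H79CubK Polynomial

namespace Groth.Agent.Lib.H79Sing

variable {K : Type*} [Field K] [CharZero K] {V : Type*} [AddCommGroup V] [Module K V]
variable {S : SymTri K V} {p : V}

/-- projection from a point `w` of the tangent cone which is not on the cubic and at which the
tangent plane to the cone is not contained in the cone: at most six lines through `p` -/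
theorem encard_lines_le_six_of_isotropic [FiniteDimensional K V]
    (hV : Module.finrank K V = 4) (h : Sing S p) {w e₀ : V} (hqw : S.T p w w = 0)
    (hFw : S.F w ≠ 0) (he₀ : S.T p w e₀ ≠ 0)
    (hno : ¬ ∀ v, S.T p w v = 0 → S.T p v v = 0) :
    (Lines S p).encard ≤ 6 := by
  classical
  obtain ⟨lam, hlam⟩ : ∃ lam : V →ₗ[K] K, lam = S.T p w := ⟨_, rfl⟩
  have hlam' : ∀ v, S.T p w v = lam v := fun v => by rw [hlam]
  have hlam'' : ∀ v, S.T p v w = lam v := fun v => by rw [S.s23, hlam]
  have hlp : lam p = 0 := by rw [hlam]; exact h.Tpwp w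
  have hlw : lam w = 0 := by rw [hlam]; exact hqw
  have hle : lam e₀ ≠ 0 := by rw [hlam]; exact he₀
  have hli : LinearIndependent K ![p, w] := h.li_of_notMem (h.notMem_of_F_ne hFw)
  obtain ⟨v₁, hl1, hspan⟩ := exists_basis_ker' hV lam hle hlp hlw hli
  obtain ⟨v₀, hv₀⟩ : ∃ v₀, v₀ = (lam e₀)⁻¹ • e₀ := ⟨_, rfl⟩
  have hl0 : lam v₀ = 1 := by rw [hv₀, map_smul, smul_eq_mul, inv_mul_cancel₀ hle]
  obtain ⟨q1, hq1⟩ : ∃ q1, q1 = S.T p v₁ v₁ := ⟨_, rfl⟩
  obtain ⟨q0, hq0⟩ : ∃ q0, q0 = S.T p v₀ v₀ := ⟨_, rfl⟩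
  obtain ⟨b, hb⟩ : ∃ b, b = S.T p v₀ v₁ := ⟨_, rfl⟩
  have hb' : S.T p v₁ v₀ = b := by rw [S.s23, hb]
  -- the quadratic form in coordinates
  have hQ : ∀ x c d e : K, S.T p (x • p + (c • w + d • v₁ + e • v₀)) (x • p + (c • w + d • v₁ + e • v₀))
      = d ^ 2 * q1 + e ^ 2 * q0 + 2 * c * e + 2 * d * e * b := by
    intro x c d e
    rw [h.B_decomp]
    simp only [map_add, map_smul, LinearMap.add_apply, LinearMap.smul_apply, smul_eq_mul]
    rw [hqw, hlam' v₁, hlam' v₀, hlam'' v₁, hlam'' v₀, hl1, hl0, hb', ← hb, ← hq1, ← hq0]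
    ring
  have hq1n : q1 ≠ 0 := by
    intro h0
    apply hno
    intro v hv
    rw [hlam'] at hv
    obtain ⟨x, c, d, rfl⟩ := hspan v hv
    have := hQ x c d 0
    rw [zero_smul, add_zero] at this
    rw [add_assoc, this, h0]; ring
  -- the sextic
  obtain ⟨g, hg⟩ : ∃ g : K[X], g = gPoly (S.F w) (S.F v₁) (S.F v₀) (3 * S.T w w v₁)
      (3 * S.T w w v₀) (3 * S.T v₁ v₁ w) (3 * S.T v₁ v₁ v₀) (3 * S.T v₀ v₀ w) (3 * S.T v₀ v₀ v₁)
      (6 * S.T w v₁ v₀) (-q1 / 2) (-b) (-q0 / 2) := ⟨_, rfl⟩
  obtain ⟨n, hn⟩ : ∃ n : K → V, n = fun t =>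
      (-q1 / 2 * t ^ 2 + -b * t + -q0 / 2) • w + t • v₁ + (1 : K) • v₀ := ⟨_, rfl⟩
  have heval : ∀ t, g.eval t = S.F (n t) := by
    intro t
    rw [hg, eval_gPoly, hn, S.F_lin3]
    ring
  have hdeg : g.natDegree = 6 := by
    rw [hg]
    apply natDegree_gPoly _ _ _ _ _ _ _ _ _ _ _ _ _ hFw
    exact div_ne_zero (neg_ne_zero.mpr hq1n) two_ne_zero
  have hg0 : g ≠ 0 := by
    intro h0; rw [h0] at hdeg; simp at hdeg
  have hsub : Lines S p ⊆ (fun t => Submodule.span K {p, n t}) '' (g.roots.toFinset : Set K) := by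
    intro U hU
    obtain ⟨m, hm, hq, hF, rfl⟩ := h.exists_gen hU
    obtain ⟨e, he⟩ : ∃ e, e = lam m := ⟨_, rfl⟩
    have hk : lam (m - e • v₀) = 0 := by
      rw [map_sub, map_smul, hl0, he]; simp
    obtain ⟨x, c, d, hxcd⟩ := hspan _ hk
    have hm' : m = x • p + (c • w + d • v₁ + e • v₀) := by
      have : m = (m - e • v₀) + e • v₀ := by abel
      rw [this, hxcd]; abel
    have hq' := hq
    rw [hm', hQ] at hq'
    have he0 : e ≠ 0 := by
      intro h0
      rw [h0] at hq'
      have hd : d = 0 := by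
        have : d ^ 2 * q1 = 0 := by linear_combination hq'
        rcases mul_eq_zero.mp this with h' | h'
        · exact pow_eq_zero_iff (two_ne_zero) |>.mp h'
        · exact absurd h' hq1n
      have hF' := hF
      rw [hm', h0, hd, zero_smul, zero_smul, add_zero, add_zero, h.F_decomp, S.F_smul] at hF'
      have hqcw : S.T p (c • w) (c • w) = 0 := by
        simp only [map_smul, LinearMap.smul_apply, smul_eq_mul]
        rw [hqw]; ring
      rw [hqcw, mul_zero, add_zero] at hF'
      have hc : c = 0 := by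
        rcases mul_eq_zero.mp hF' with h' | h'
        · exact pow_eq_zero_iff (by norm_num) |>.mp h'
        · exact absurd h' hFw
      apply hm
      rw [hm', h0, hd, hc]
      simp only [zero_smul, add_zero]
      exact Submodule.smul_mem _ _ (Submodule.mem_span_singleton_self p)
    obtain ⟨t, ht⟩ : ∃ t, t = d / e := ⟨_, rfl⟩
    have hd : d = e * t := by rw [ht]; field_simp
    have hc : c = e * (-q1 / 2 * t ^ 2 + -b * t + -q0 / 2) := by
      rw [ht]
      field_simp
      linear_combination hq'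
    have hmn : m = x • p + e • n t := by
      rw [hm', hn]
      simp only [smul_add, smul_smul]
      rw [← hc, ← hd, mul_one]
    have hroot : g.eval t = 0 := by
      rw [heval]
      have hF' := hF
      have hqn : S.T p (e • n t) (e • n t) = 0 := by
        have := hq
        rw [hmn, h.B_decomp] at this
        exact this
      rw [hmn, h.F_decomp, hqn, mul_zero, add_zero, S.F_smul] at hF'
      rcases mul_eq_zero.mp hF' with h' | h'
      · exact absurd (pow_eq_zero_iff (by norm_num) |>.mp h') he0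
      · exact h'
    refine ⟨t, ?_, ?_⟩
    · rw [Finset.mem_coe, Multiset.mem_toFinset, mem_roots hg0]
      exact hroot
    · show Submodule.span K {p, n t} = _
      rw [hmn, h.span_pair_eq x e he0]
  calc (Lines S p).encard ≤ ((fun t => Submodule.span K {p, n t}) ''
        (g.roots.toFinset : Set K)).encard := Set.encard_le_encard hsub
    _ ≤ (g.roots.toFinset : Set K).encard := Set.encard_image_le _ _
    _ = (g.roots.toFinset.card : ℕ∞) := Set.encard_coe_eq_coe_finsetCard _
    _ ≤ 6 := by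
        have h1 : g.roots.toFinset.card ≤ Multiset.card g.roots := Multiset.toFinset_card_le _
        have h2 := card_roots' g
        rw [hdeg] at h2
        exact_mod_cast h1.trans h2

end Groth.Agent.Lib.H79Sing
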