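import Groth.Agent.Lib.H79Sing5
import Groth.Agent.Lib.H79Odp8

/-!
# At most six lines through a singular point of an irreducible cubic surface which is not a cone
-/

open Groth.Agent.Lib.H79CubK MvPolynomial

namespace Groth.Agent.Lib.H79Sing

variable {K : Type*} [Field K]

/-- a consequence of the Nullstellensatz: for an irreducible `F` and a nonconstant `G` of smaller
degree sharing no factor with `H`, there is a zero of `G` where neither `F` nor `H` vanishes -/
theorem exists_zero_not_zero [IsAlgClosed K] {n : ℕ} {F G H : MvPolynomial (Fin n) K}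
    (hF : Irreducible F) (hG0 : G ≠ 0) (hGd : 0 < G.totalDegree)
    (hdeg : G.totalDegree < F.totalDegree)
    (hH : ¬ ∃ q, Irreducible q ∧ q ∣ G ∧ q ∣ H) :
    ∃ x : Fin n → K, eval x G = 0 ∧ eval x F ≠ 0 ∧ eval x H ≠ 0 := by
  by_contra hcon
  have hvan : ∀ x : Fin n → K, eval x G = 0 → eval x (F * H) = 0 := by
    intro x hx
    by_contra hne
    apply hcon
    rw [map_mul] at hne
    exact ⟨x, hx, left_ne_zero_of_mul hne, right_ne_zero_of_mul hne⟩
  have hmem : F * H ∈ (Ideal.span ({G} : Set (MvPolynomial (Fin n) K))).radical := by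
    rw [← vanishingIdeal_zeroLocus_eq_radical (K := K), mem_vanishingIdeal_iff]
    intro x hx
    rw [zeroLocus_span] at hx
    have := hx G (Set.mem_singleton G)
    rw [aeval_eq_eval] at this ⊢
    exact hvan x this
  obtain ⟨m, hm⟩ := hmem
  rw [Ideal.mem_span_singleton] at hm
  have hGu : ¬ IsUnit G := by
    intro hu
    have := (MvPolynomial.isUnit_iff_totalDegree_of_isReduced.mp hu).2
    omega
  obtain ⟨q, hq, hqG⟩ := WfDvdMonoid.exists_irreducible_factor hGu hG0
  have hqp : Prime q := UniqueFactorizationMonoid.irreducible_iff_prime.mp hq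
  have hqFH : q ∣ F * H := hqp.dvd_of_dvd_pow (hqG.trans hm)
  rcases hqp.dvd_or_dvd hqFH with h1 | h1
  · have hFq : F ∣ q := hq.dvd_symm hF h1
    have := totalDegree_le_of_dvd_of_isDomain (hFq.trans hqG) hG0
    omega
  · exact hH ⟨q, hq, hqG, h1⟩

variable [CharZero K]

/-- the abstract cubic attached to a polynomial cubic with a singular point -/
theorem sing_of_poly {F : MvPolynomial (Fin 4) K} (hF : F.IsHomogeneous 3) {a : Fin 4 → K}
    (ha : a ≠ 0) (hsing : ∀ i : Fin 4, eval a (pderiv i F) = 0) : Sing (symTri F) a := by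
  refine ⟨ha, ?_⟩
  intro w
  rw [H79Odp.vec_eq_sum_single' w, map_sum]
  apply Finset.sum_eq_zero
  intro i _
  rw [map_smul, smul_eq_mul, H79Odp.symTri_T_apply]
  have := hsing i
  rw [eval_pderiv_eq_triFun hF] at this
  have h3 : triFun F a a (Pi.single i 1) = 0 := by
    rcases mul_eq_zero.mp this with h' | h'
    · norm_num at h'
    · exact h'
  rw [h3, mul_zero]

/-- the polynomial of the tangent cone at `a` -/
theorem eval_cone {F : MvPolynomial (Fin 4) K} (hF : F.IsHomogeneous 3) (a x : Fin 4 → K) :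
    eval x (∑ i : Fin 4, a i • pderiv i F) = 3 * (symTri F).T a x x := by
  rw [(symTri F).rot a x x]
  conv_rhs => rw [H79Odp.vec_eq_sum_single' a, map_sum, Finset.mul_sum]
  rw [map_sum]
  apply Finset.sum_congr rfl
  intro i _
  rw [smul_eval, eval_pderiv_eq_triFun hF, map_smul, smul_eq_mul, H79Odp.symTri_T_apply]
  ring

theorem isHomogeneous_cone {F : MvPolynomial (Fin 4) K} (hF : F.IsHomogeneous 3) (a : Fin 4 → K) :
    (∑ i : Fin 4, a i • pderiv i F).IsHomogeneous 2 := by
  apply IsHomogeneous.sum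
  intro i _
  rw [MvPolynomial.smul_eq_C_mul]
  have := (hF.pderiv (i := i)).C_mul (a i)
  simpa using this

/-- at most six lines through a singular point of an irreducible cubic surface which is not
a cone -/
theorem encard_lines_le_six [IsAlgClosed K] (F : MvPolynomial (Fin 4) K) (hF : F.IsHomogeneous 3)
    (hirr : Irreducible F)
    (hcone : ¬ ∃ v : Fin 4 → K, v ≠ 0 ∧ ∑ i : Fin 4, v i • pderiv i F = 0)
    (a : Fin 4 → K) (ha : a ≠ 0) (hsing : ∀ i : Fin 4, eval a (pderiv i F) = 0) :
    (Lines (symTri F) a).encard ≤ 6 := by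
  have hS := sing_of_poly hF ha hsing
  have hV : Module.finrank K (Fin 4 → K) = 4 := by simp
  have hF0 : F ≠ 0 := hirr.ne_zero
  have hFd : F.totalDegree = 3 := hF.totalDegree hF0
  obtain ⟨Q, hQdef⟩ : ∃ Q : MvPolynomial (Fin 4) K, Q = ∑ i : Fin 4, a i • pderiv i F := ⟨_, rfl⟩
  have hQ0 : Q ≠ 0 := by
    intro h0
    apply hcone
    exact ⟨a, ha, by rw [← hQdef, h0]⟩
  have hQh : Q.IsHomogeneous 2 := by rw [hQdef]; exact isHomogeneous_cone hF a
  have hQd : Q.totalDegree = 2 := hQh.totalDegree hQ0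
  have hQe : ∀ x, eval x Q = 3 * (symTri F).T a x x := by
    intro x; rw [hQdef]; exact eval_cone hF a x
  -- no plane on the surface
  have hplane : ∀ mu : (Fin 4 → K) →ₗ[K] K, (∃ e, mu e ≠ 0) →
      ∃ v, mu v = 0 ∧ (symTri F).F v ≠ 0 := by
    intro mu ⟨e, he⟩
    have hl0 : linPoly mu ≠ 0 := by
      intro h0
      apply he
      rw [← eval_linPoly, h0, map_zero]
    have hld : (linPoly mu).totalDegree = 1 := (isHomogeneous_linPoly mu).totalDegree hl0
    obtain ⟨x, hx1, hx2, -⟩ := exists_zero_not_zero (H := 1) hirr hl0 (by omega) (by omega) (by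
      rintro ⟨q, hq, -, hq1⟩
      exact hq.not_isUnit (isUnit_of_dvd_one hq1))
    refine ⟨x, ?_, ?_⟩
    · rw [← eval_linPoly]; exact hx1
    · rw [symTri_F hF]; exact hx2
  have hQne : ∃ v, (symTri F).T a v v ≠ 0 := by
    by_contra hcon
    apply hQ0
    apply MvPolynomial.funext
    intro x
    rw [hQe, map_zero]
    have : (symTri F).T a x x = 0 := by
      by_contra h'
      exact hcon ⟨x, h'⟩
    rw [this, mul_zero]
  by_cases hA : ∃ lam : (Fin 4 → K) →ₗ[K] K, (∃ e, lam e ≠ 0) ∧ lam a = 0 ∧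
      ∀ v, lam v = 0 → (symTri F).T a v v = 0
  · obtain ⟨lam, hlam, hla, hlQ⟩ := hA
    exact encard_lines_le_six_of_hyperplane hV hS hplane hQne lam hlam hla hlQ
  · obtain ⟨e₀, he₀⟩ := hQne
    obtain ⟨rho, hrho⟩ : ∃ rho : (Fin 4 → K) →ₗ[K] K, rho = (symTri F).T a e₀ := ⟨_, rfl⟩
    have hr0 : linPoly rho ≠ 0 := by
      intro h0
      apply he₀
      have := eval_linPoly rho e₀
      rw [h0, map_zero, hrho] at this
      exact this.symm
    have hrp : Prime (linPoly rho) := prime_of_linear (isHomogeneous_linPoly rho) hr0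
    obtain ⟨w, hw1, hw2, hw3⟩ := exists_zero_not_zero (H := linPoly rho) hirr hQ0 (by omega)
      (by omega) (by
        rintro ⟨q, hq, hqQ, hqr⟩
        apply hA
        have hrq : linPoly rho ∣ q := hq.dvd_symm hrp.irreducible hqr
        obtain ⟨c, hc⟩ := hrq.trans hqQ
        refine ⟨rho, ⟨e₀, by rw [hrho]; exact he₀⟩, by rw [hrho]; exact hS.Tpwp e₀, ?_⟩
        intro v hv
        have h3 := hQe v
        rw [hc, map_mul, eval_linPoly, hv, zero_mul] at h3
        rcases mul_eq_zero.mp h3.symm with h' | h'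
        · norm_num at h'
        · exact h')
    rw [hQe] at hw1
    have hqw : (symTri F).T a w w = 0 := by
      rcases mul_eq_zero.mp hw1 with h' | h'
      · norm_num at h'
      · exact h'
    rw [← symTri_F hF] at hw2
    rw [eval_linPoly, hrho] at hw3
    have he₀' : (symTri F).T a w e₀ ≠ 0 := by rw [(symTri F).s23]; exact hw3
    apply encard_lines_le_six_of_isotropic hV hS hqw hw2 he₀'
    intro hcon
    apply hA
    exact ⟨(symTri F).T a w, ⟨e₀, he₀'⟩, hS.Tpwp w, hcon⟩

end Groth.Agent.Lib.H79Sing
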