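import Mathlib
import Groth.Prelude.Def_W4c3tautjacobianRel

/-!
# sl₂-commutation relations in the formal relation ring of genus `g`

`F` is the second order operator of `W4c3tautjacobian`, `E` multiplication by `x 2 0`,
`D1` the Euler derivation for the first degree.  We prove
`F (x * P) = x * F P + g * P - D1 P` and `D1 (F P) = F (D1 P) - 2 * F P`.
-/

set_option autoImplicit false
open W4c3tautjacobian MvPolynomial

namespace Groth.Agent.Lib.H79TautSl2

variable (g : ℕ)

/-- `dv` as a derivation. -/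
noncomputable def dvD (p : ℕ × ℕ) : Derivation ℚ (RelRing g) (RelRing g) :=
  if h : Valid g p then MvPolynomial.pderiv (some ⟨p, h⟩) else 0

lemma dv_eq (p : ℕ × ℕ) (P : RelRing g) : dv g p P = dvD g p P := by
  unfold dv dvD
  by_cases h : Valid g p
  · simp [h]
  · simp [h]

lemma dvD_X_none (p : ℕ × ℕ) : dvD g p (X none : RelRing g) = 0 := by
  unfold dvD
  by_cases h : Valid g p
  · simp only [h, dite_true]
    exact pderiv_X_of_ne (by simp)
  · simp [h]

lemma dvD_X_some (p : ℕ × ℕ) (s : {p : ℕ × ℕ // Valid g p}) :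
    dvD g p (X (some s) : RelRing g) = if s.1 = p then 1 else 0 := by
  unfold dvD
  by_cases h : Valid g p
  · simp only [h, dite_true]
    by_cases hs : s.1 = p
    · subst hs
      simp
    · rw [if_neg hs]
      apply pderiv_X_of_ne
      intro h'
      apply hs
      have := Option.some.inj h'
      rw [this]
  · simp only [h, dite_false]
    have : s.1 ≠ p := fun h' => h (h' ▸ s.2)
    simp [this]

lemma mem_idx_of_valid {p : ℕ × ℕ} (h : Valid g p) : p ∈ idx g := by
  obtain ⟨h1, h2, -, -⟩ := h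
  simp only [idx, Finset.mem_product, Finset.mem_range]
  omega

lemma xv_of_valid {p : ℕ × ℕ} (h : Valid g p) :
    xv g (p.1 : ℤ) (p.2 : ℤ) = X (some ⟨p, h⟩) := by
  unfold xv
  have h0 : ¬ ((p.1 : ℤ) = 0 ∧ (p.2 : ℤ) = 0) := by
    rintro ⟨h1, h2⟩
    apply h.2.2.2
    ext <;> simp_all
  rw [if_neg h0]
  have hv : (0:ℤ) ≤ (p.1:ℤ) ∧ (0:ℤ) ≤ (p.2:ℤ) ∧ Valid g ((p.1:ℤ).toNat, (p.2:ℤ).toNat) := by
    refine ⟨by positivity, by positivity, ?_⟩
    simpa using h
  rw [dif_pos hv]
  congr 2

lemma xv_of_not_valid {p : ℕ × ℕ} (h : ¬ Valid g p) (h0 : p ≠ (0,0)) :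
    xv g (p.1 : ℤ) (p.2 : ℤ) = 0 := by
  unfold xv
  have h0' : ¬ ((p.1 : ℤ) = 0 ∧ (p.2 : ℤ) = 0) := by
    rintro ⟨h1, h2⟩
    apply h0
    ext <;> simp_all
  rw [if_neg h0']
  rw [dif_neg]
  rintro ⟨-, -, hv⟩
  apply h
  simpa using hv

/-- Euler derivation of the first degree. -/
noncomputable def D1 : Derivation ℚ (RelRing g) (RelRing g) :=
  MvPolynomial.mkDerivation ℚ (fun v => ((wt g v).1 : RelRing g) * X v)

lemma D1_X (v : Var g) : D1 g (X v) = ((wt g v).1 : RelRing g) * X v := by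
  unfold D1; rw [mkDerivation_X]

lemma der_sum_apply {ι : Type*} (s : Finset ι) (f : ι → Derivation ℚ (RelRing g) (RelRing g))
    (a : RelRing g) : (∑ i ∈ s, f i) a = ∑ i ∈ s, f i a := by
  classical
  induction s using Finset.induction_on with
  | empty => simp
  | insert i s hi ih =>
    rw [Finset.sum_insert hi, Finset.sum_insert hi, Derivation.add_apply, ih]

lemma D1_eq_sum (P : RelRing g) :
    D1 g P = ∑ q ∈ idx g, ((q.1 : ℕ) : RelRing g) * xv g (q.1 : ℤ) (q.2 : ℤ) * dvD g q P := by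
  have key : D1 g = ∑ q ∈ idx g, (((q.1 : ℕ) : RelRing g) * xv g (q.1 : ℤ) (q.2 : ℤ)) • dvD g q := by
    apply MvPolynomial.derivation_ext
    intro v
    rw [D1_X, der_sum_apply]
    cases v with
    | none =>
      simp [dvD_X_none, wt]
    | some s =>
      simp only [Derivation.smul_apply, dvD_X_some, smul_eq_mul]
      rw [Finset.sum_eq_single s.1]
      · simp only [if_true, mul_one, wt]
        rw [xv_of_valid g s.2]
      · intro b _ hb
        rw [if_neg (Ne.symm hb), mul_zero]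
      · intro hs
        exact absurd (mem_idx_of_valid g s.2) hs
  rw [key, der_sum_apply]
  simp [Derivation.smul_apply]


lemma dvD_D1 (p : ℕ × ℕ) (P : RelRing g) :
    dvD g p (D1 g P) = D1 g (dvD g p P) + ((p.1 : ℕ) : RelRing g) * dvD g p P := by
  have key : ⁅dvD g p, D1 g⁆ = ((p.1 : ℕ) : RelRing g) • dvD g p := by
    apply MvPolynomial.derivation_ext
    intro v
    rw [Derivation.commutator_apply, Derivation.smul_apply, D1_X, Derivation.leibniz]
    cases v with
    | none =>
      simp [dvD_X_none, wt]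
    | some s =>
      simp only [dvD_X_some, smul_eq_mul, wt]
      by_cases hs : s.1 = p
      · subst hs
        simp
      · simp [hs]
  have := DFunLike.congr_fun key P
  rw [Derivation.commutator_apply, Derivation.smul_apply, smul_eq_mul] at this
  rw [← this]; ring

lemma D1_xv (i j : ℤ) : D1 g (xv g i j) = ((i : ℤ) : RelRing g) * xv g i j := by
  unfold xv
  split_ifs with h1 h2
  · rw [h1.1]; simp
  · rw [D1_X]
    simp only [wt]
    congr 1
    have : ((i.toNat : ℕ) : ℤ) = i := Int.toNat_of_nonneg h2.1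
    rw [← Int.cast_natCast, this]
  · simp

/-- The second-order coefficient of `F`. -/
noncomputable def cA (p q : ℕ × ℕ) : RelRing g :=
  MvPolynomial.X none * xv g ((p.1 : ℤ) - 1) ((p.2 : ℤ) - 1)
          * xv g ((q.1 : ℤ) - 1) ((q.2 : ℤ) - 1)
        - (mergeCoeff p.1 q.1 : RelRing g) * xv g ((p.1 : ℤ) + q.1 - 2) ((p.2 : ℤ) + q.2)

/-- The first-order coefficient of `F`. -/
noncomputable def cB (p : ℕ × ℕ) : RelRing g := xv g ((p.1 : ℤ) - 2) (p.2 : ℤ)

lemma F_eq (P : RelRing g) :
    F g P = (1 / 2 : ℚ) • (∑ p ∈ idx g, ∑ q ∈ idx g, cA g p q * dvD g p (dvD g q P))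
      + ∑ p ∈ idx g, cB g p * dvD g p P := by
  unfold F cA cB
  simp only [dv_eq]

lemma mergeCoeff_comm (i k : ℕ) : mergeCoeff i k = mergeCoeff k i := by
  unfold mergeCoeff
  by_cases h : i = 0 ∨ k = 0
  · rw [if_pos h, if_pos (Or.symm h)]
  · rw [if_neg h, if_neg (fun h' => h (Or.symm h'))]
    have hi : 1 ≤ i := by omega
    have hk : 1 ≤ k := by omega
    have h1 : i + k - 2 = (i - 1) + (k - 1) := by omega
    have h2 : k + i - 2 = (i - 1) + (k - 1) := by omega
    rw [h1, h2]
    rw [Nat.choose_symm_add]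

lemma cA_comm (p q : ℕ × ℕ) : cA g p q = cA g q p := by
  unfold cA
  rw [mergeCoeff_comm p.1 q.1]
  have e1 : (p.1 : ℤ) + q.1 - 2 = (q.1 : ℤ) + p.1 - 2 := by ring
  have e2 : (p.2 : ℤ) + q.2 = (q.2 : ℤ) + p.2 := by ring
  rw [e1, e2]; ring

lemma D1_cA (p q : ℕ × ℕ) :
    D1 g (cA g p q) = (((p.1 : ℤ) + q.1 - 2 : ℤ) : RelRing g) * cA g p q := by
  unfold cA
  rw [map_sub, Derivation.leibniz, Derivation.leibniz, Derivation.leibniz, D1_xv, D1_xv, D1_xv,
    D1_X]
  have hm : D1 g ((mergeCoeff p.1 q.1 : ℕ) : RelRing g) = 0 := Derivation.map_natCast _ _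
  rw [hm]
  simp only [wt, smul_eq_mul, Nat.cast_zero, zero_mul, mul_zero]
  push_cast
  ring

lemma D1_cB (p : ℕ × ℕ) :
    D1 g (cB g p) = (((p.1 : ℤ) - 2 : ℤ) : RelRing g) * cB g p := by
  unfold cB
  rw [D1_xv]


lemma dvD_natCast_mul (p : ℕ × ℕ) (n : ℕ) (Q : RelRing g) :
    dvD g p ((n : RelRing g) * Q) = (n : RelRing g) * dvD g p Q := by
  rw [Derivation.leibniz, Derivation.map_natCast]; simp

lemma D1_dd (p q : ℕ × ℕ) (P : RelRing g) :
    D1 g (dvD g p (dvD g q P)) = dvD g p (dvD g q (D1 g P))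
      - ((p.1 : ℕ) : RelRing g) * dvD g p (dvD g q P)
      - ((q.1 : ℕ) : RelRing g) * dvD g p (dvD g q P) := by
  have h1 := dvD_D1 g p (dvD g q P)
  have h2 := congrArg (dvD g p) (dvD_D1 g q P)
  rw [map_add, dvD_natCast_mul] at h2
  linear_combination - h2 - h1

lemma D1_term2 (p q : ℕ × ℕ) (P : RelRing g) :
    D1 g (cA g p q * dvD g p (dvD g q P)) =
      cA g p q * dvD g p (dvD g q (D1 g P)) - 2 * (cA g p q * dvD g p (dvD g q P)) := by
  rw [Derivation.leibniz, D1_dd, D1_cA]
  simp only [smul_eq_mul]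
  push_cast
  ring

lemma D1_term1 (p : ℕ × ℕ) (P : RelRing g) :
    D1 g (cB g p * dvD g p P) = cB g p * dvD g p (D1 g P) - 2 * (cB g p * dvD g p P) := by
  rw [Derivation.leibniz, D1_cB, dvD_D1]
  simp only [smul_eq_mul]
  push_cast
  ring

/-- `[D1, F] = -2 F`. -/
lemma D1_F (P : RelRing g) : D1 g (F g P) = F g (D1 g P) - 2 * F g P := by
  rw [F_eq, F_eq, map_add, Derivation.map_smul, map_sum, map_sum]
  have h2 : ∀ p ∈ idx g, D1 g (∑ q ∈ idx g, cA g p q * dvD g p (dvD g q P)) =
      ∑ q ∈ idx g, cA g p q * dvD g p (dvD g q (D1 g P))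
        - 2 * ∑ q ∈ idx g, cA g p q * dvD g p (dvD g q P) := by
    intro p _
    rw [map_sum, Finset.mul_sum, ← Finset.sum_sub_distrib]
    exact Finset.sum_congr rfl (fun q _ => D1_term2 g p q P)
  rw [Finset.sum_congr rfl h2, Finset.sum_sub_distrib, ← Finset.mul_sum]
  have h1 : ∀ p ∈ idx g, D1 g (cB g p * dvD g p P) =
      cB g p * dvD g p (D1 g P) - 2 * (cB g p * dvD g p P) := fun p _ => D1_term1 g p P
  rw [Finset.sum_congr rfl h1, Finset.sum_sub_distrib, ← Finset.mul_sum]
  simp only [smul_eq_C_mul]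
  ring

lemma F_add (P Q : RelRing g) : F g (P + Q) = F g P + F g Q := by
  simp only [F_eq, map_add, mul_add, Finset.sum_add_distrib, smul_add]
  abel

lemma F_smul (c : ℚ) (P : RelRing g) : F g (c • P) = c • F g P := by
  simp only [F_eq, Derivation.map_smul, mul_smul_comm, ← Finset.smul_sum, smul_add]
  rw [smul_comm]

lemma valid20 (hg : 1 ≤ g) : Valid g (2, 0) := by
  refine ⟨by simp, by simp; omega, by decide, by simp⟩

/-- The variable `x 2 0`. -/
noncomputable def x20 (hg : 1 ≤ g) : RelRing g := X (some ⟨(2, 0), valid20 g hg⟩)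

lemma xv20 (hg : 1 ≤ g) : xv g 2 0 = x20 g hg := by
  have := xv_of_valid g (valid20 g hg)
  simpa [x20] using this

lemma dd_xmul (hg : 1 ≤ g) (p q : ℕ × ℕ) (P : RelRing g) :
    dvD g p (dvD g q (x20 g hg * P)) = x20 g hg * dvD g p (dvD g q P)
      + (if ((2, 0) : ℕ × ℕ) = p then (1 : RelRing g) else 0) * dvD g q P
      + (if ((2, 0) : ℕ × ℕ) = q then (1 : RelRing g) else 0) * dvD g p P := by
  unfold x20
  have hq : dvD g q (X (some ⟨(2, 0), valid20 g hg⟩) * P) =
      X (some ⟨(2, 0), valid20 g hg⟩) * dvD g q P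
        + P * (if ((2, 0) : ℕ × ℕ) = q then (1 : RelRing g) else 0) := by
    rw [Derivation.leibniz, dvD_X_some]; simp only [smul_eq_mul]
  rw [hq, map_add, Derivation.leibniz, Derivation.leibniz, dvD_X_some]
  simp only [smul_eq_mul]
  have : dvD g p (if ((2, 0) : ℕ × ℕ) = q then (1 : RelRing g) else 0) = 0 := by
    split_ifs <;> simp
  rw [this]; ring

lemma cA20 (q : ℕ × ℕ) : cA g (2, 0) q = - (((q.1 : ℕ) : RelRing g) * xv g (q.1 : ℤ) (q.2 : ℤ)) := by
  unfold cA
  have h1 : xv g (((2 : ℕ) : ℤ) - 1) (((0 : ℕ) : ℤ) - 1) = 0 := by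
    simp [xv]
  have h2 : mergeCoeff 2 q.1 = q.1 := by
    unfold mergeCoeff
    by_cases h : q.1 = 0
    · simp [h]
    · simp [h]
  have e1 : (((2 : ℕ × ℕ).1 : ℕ) : ℤ) = 2 := rfl
  simp only [h1, h2, mul_zero, zero_mul, zero_sub]
  congr 3
  · push_cast; ring
  · push_cast; ring

lemma cB20 : cB g (2, 0) = (g : RelRing g) := by
  unfold cB
  simp [xv]

/-- `[F, x₂₀] = g - D1`. -/
lemma F_xmul (hg : 1 ≤ g) (P : RelRing g) :
    F g (x20 g hg * P) = x20 g hg * F g P + (g : RelRing g) * P - D1 g P := by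
  have hmem : ((2, 0) : ℕ × ℕ) ∈ idx g := mem_idx_of_valid g (valid20 g hg)
  rw [F_eq, F_eq]
  have hS2 : ∑ p ∈ idx g, ∑ q ∈ idx g, cA g p q * dvD g p (dvD g q (x20 g hg * P)) =
      x20 g hg * (∑ p ∈ idx g, ∑ q ∈ idx g, cA g p q * dvD g p (dvD g q P)) - 2 * D1 g P := by
    simp only [dd_xmul, mul_add, Finset.sum_add_distrib]
    have e1 : ∑ p ∈ idx g, ∑ q ∈ idx g,
        cA g p q * ((if ((2, 0) : ℕ × ℕ) = p then (1 : RelRing g) else 0) * dvD g q P) =
        - D1 g P := by
      have : ∀ p ∈ idx g, ∑ q ∈ idx g,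
          cA g p q * ((if ((2, 0) : ℕ × ℕ) = p then (1 : RelRing g) else 0) * dvD g q P) =
          if ((2, 0) : ℕ × ℕ) = p then ∑ q ∈ idx g, cA g p q * dvD g q P else 0 := by
        intro p _
        split_ifs with h
        · simp
        · simp
      rw [Finset.sum_congr rfl this, Finset.sum_ite_eq, if_pos hmem, D1_eq_sum,
        ← Finset.sum_neg_distrib]
      apply Finset.sum_congr rfl
      intro q _
      rw [cA20]; ring
    have e2 : ∑ p ∈ idx g, ∑ q ∈ idx g,
        cA g p q * ((if ((2, 0) : ℕ × ℕ) = q then (1 : RelRing g) else 0) * dvD g p P) =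
        - D1 g P := by
      have : ∀ p ∈ idx g, ∑ q ∈ idx g,
          cA g p q * ((if ((2, 0) : ℕ × ℕ) = q then (1 : RelRing g) else 0) * dvD g p P) =
          cA g p (2, 0) * dvD g p P := by
        intro p _
        rw [Finset.sum_eq_single (2, 0)]
        · simp
        · intro b _ hb
          rw [if_neg (Ne.symm hb)]; ring
        · intro h; exact absurd hmem h
      rw [Finset.sum_congr rfl this, D1_eq_sum, ← Finset.sum_neg_distrib]
      apply Finset.sum_congr rfl
      intro q _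
      rw [cA_comm, cA20]; ring
    rw [e1, e2]
    simp only [Finset.mul_sum]
    have : ∀ p ∈ idx g, ∀ q ∈ idx g, cA g p q * (x20 g hg * dvD g p (dvD g q P)) =
        x20 g hg * (cA g p q * dvD g p (dvD g q P)) := by
      intro p _ q _; ring
    rw [Finset.sum_congr rfl (fun p hp => Finset.sum_congr rfl (this p hp))]
    ring
  have hS1 : ∑ p ∈ idx g, cB g p * dvD g p (x20 g hg * P) =
      x20 g hg * (∑ p ∈ idx g, cB g p * dvD g p P) + (g : RelRing g) * P := by
    have : ∀ p ∈ idx g, cB g p * dvD g p (x20 g hg * P) =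
        x20 g hg * (cB g p * dvD g p P)
          + (if ((2, 0) : ℕ × ℕ) = p then cB g p * P else 0) := by
      intro p _
      unfold x20
      rw [Derivation.leibniz, dvD_X_some]
      simp only [smul_eq_mul]
      split_ifs <;> ring
    rw [Finset.sum_congr rfl this, Finset.sum_add_distrib, Finset.sum_ite_eq, if_pos hmem,
      cB20, Finset.mul_sum]
  rw [hS2, hS1]
  simp only [smul_eq_C_mul]
  have hC : (C (1 / 2 : ℚ) : RelRing g) * 2 = 1 := by
    have h2 : (C (2 : ℚ) : RelRing g) = 2 := map_ofNat C 2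
    rw [← h2, ← C_mul]; norm_num
  linear_combination (- D1 g P) * hC


lemma natCast_mul_eq_smul (n : ℕ) (Z : RelRing g) : (n : RelRing g) * Z = (n : ℚ) • Z := by
  rw [← map_natCast (C : ℚ →+* RelRing g) n, C_mul']

/-- Euler's formula, coefficientwise. -/
lemma coeff_D1 (Q : RelRing g) : ∀ m : Var g →₀ ℕ,
    coeff m (D1 g Q) = ((Finsupp.weight (wt g) m).1 : ℚ) * coeff m Q := by
  induction Q using MvPolynomial.induction_on with
  | C a =>
    intro m
    have : D1 g (C a) = 0 := by
      rw [← MvPolynomial.algebraMap_eq]; exact Derivation.map_algebraMap _ _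
    rw [this, coeff_zero, coeff_C]
    split_ifs with h
    · subst h; simp
    · simp
  | add P Q hP hQ =>
    intro m
    rw [map_add, coeff_add, coeff_add, hP, hQ]; ring
  | mul_X Q v hQ =>
    intro m
    rw [Derivation.leibniz, D1_X]
    simp only [smul_eq_mul]
    have e1 : Q * (((wt g v).1 : RelRing g) * X v) = ((wt g v).1 : ℚ) • (Q * X v) := by
      rw [← natCast_mul_eq_smul]; ring
    have e2 : X v * D1 g Q = D1 g Q * X v := mul_comm _ _
    rw [e1, e2, coeff_add, coeff_smul, coeff_mul_X', coeff_mul_X']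
    split_ifs with hv
    · rw [hQ]
      have hle : Finsupp.single v 1 ≤ m := by
        rw [Finsupp.single_le_iff]
        simp only [Finsupp.mem_support_iff] at hv
        omega
      have hm : m = (m - Finsupp.single v 1) + Finsupp.single v 1 :=
        (tsub_add_cancel_of_le hle).symm
      have hw : Finsupp.weight (wt g) m =
          Finsupp.weight (wt g) (m - Finsupp.single v 1) + wt g v := by
        conv_lhs => rw [hm]
        rw [map_add, Finsupp.weight_single, one_smul]
      rw [hw]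
      simp only [smul_eq_mul, Prod.fst_add]
      push_cast
      ring
    · simp

lemma eq_zero_of_D1_eq_neg (Q : RelRing g) (c : ℚ) (hc : c < 0) (h : D1 g Q = c • Q) : Q = 0 := by
  ext m
  have h1 := coeff_D1 g Q m
  rw [h, coeff_smul, smul_eq_mul] at h1
  have hw : (0 : ℚ) ≤ ((Finsupp.weight (wt g) m).1 : ℚ) := by positivity
  have : (((Finsupp.weight (wt g) m).1 : ℚ) - c) * coeff m Q = 0 := by linarith
  rcases mul_eq_zero.mp this with h2 | h2
  · linarith
  · simpa using h2

lemma D1_of_isWeightedHomogeneous (β : RelRing g) (a n : ℕ)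
    (hβ : MvPolynomial.IsWeightedHomogeneous (wt g) β ((a, n) : ℕ × ℕ)) :
    D1 g β = (a : ℚ) • β := by
  ext m
  rw [coeff_D1, coeff_smul, smul_eq_mul]
  by_cases h : coeff m β = 0
  · rw [h]; ring
  · have := hβ h
    rw [this]

/-- `D1`-eigenvalues along iterates of `F`. -/
lemma D1_iterate_F (β : RelRing g) (a : ℚ) (hβ : D1 g β = a • β) (j : ℕ) :
    D1 g ((F g)^[j] β) = (a - 2 * j) • (F g)^[j] β := by
  induction j with
  | zero => simpa using hβ
  | succ j ih =>
    rw [Function.iterate_succ_apply', D1_F, ih, F_smul]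
    have : (2 : RelRing g) * F g ((F g)^[j] β) = (2 : ℚ) • F g ((F g)^[j] β) := by
      rw [two_mul, two_smul]
    rw [this, ← sub_smul]
    congr 1
    push_cast; ring

/-- The main identity: `F^{g+1} (x₂₀ β) = 0` when `β` has first degree `2g`. -/
theorem iterate_F_x20 (hg : 1 ≤ g) (β : RelRing g) (hβ : D1 g β = ((2 * g : ℕ) : ℚ) • β) :
    (F g)^[g + 1] (x20 g hg * β) = 0 := by
  have hD := D1_iterate_F g β _ hβ
  have key : ∀ k : ℕ, (F g)^[k + 1] (x20 g hg * β) =
      x20 g hg * (F g)^[k + 1] β + (((k : ℚ) + 1) * ((k : ℚ) - g)) • (F g)^[k] β := by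
    intro k
    induction k with
    | zero =>
      simp only [Function.iterate_succ, Function.iterate_zero, Function.comp_apply, id_eq]
      rw [F_xmul, hβ, natCast_mul_eq_smul, add_sub_assoc, ← sub_smul]
      congr 2
      push_cast; ring
    | succ k ih =>
      rw [Function.iterate_succ_apply', ih, F_add, F_smul, F_xmul, hD (k + 1),
        natCast_mul_eq_smul, ← Function.iterate_succ_apply' (F g) (k + 1) β,
        ← Function.iterate_succ_apply' (F g) k β]
      rw [add_sub_assoc, add_assoc, ← sub_smul, ← add_smul]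
      congr 2
      push_cast; ring
  rw [key g]
  have hz : (F g)^[g + 1] β = 0 := by
    apply eq_zero_of_D1_eq_neg g _ (((2 * g : ℕ) : ℚ) - 2 * ((g + 1 : ℕ) : ℚ))
    · push_cast; linarith
    · exact hD (g + 1)
  rw [hz]
  simp

end Groth.Agent.Lib.H79TautSl2
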