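import Groth.Agent.Lib.H79Odp5

/-!
# Plane sections of a smooth cubic surface are reduced (trilinear version)
-/

open Groth.Agent.Lib.H79CubK Groth.Agent.Lib.H79Odp

namespace Groth.Agent.Lib.H79Tri

variable {K : Type*} [Field K] [CharZero K] {V : Type*} [AddCommGroup V] [Module K V]

/-- general trilinear expansion on three vectors -/
theorem T_lin3 (S : SymTri K V) (u v w : V) (a b c a' b' c' a'' b'' c'' : K) :
    S.T (a • u + b • v + c • w) (a' • u + b' • v + c' • w) (a'' • u + b'' • v + c'' • w) =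
    S.T u u u * (a * a' * a'')
  + S.T u u v * (a * a' * b'' + a * b' * a'' + b * a' * a'')
  + S.T u u w * (a * a' * c'' + a * c' * a'' + c * a' * a'')
  + S.T u v v * (a * b' * b'' + b * a' * b'' + b * b' * a'')
  + S.T u v w * (a * b' * c'' + a * c' * b'' + b * a' * c'' + b * c' * a''
      + c * a' * b'' + c * b' * a'')
  + S.T u w w * (a * c' * c'' + c * a' * c'' + c * c' * a'')
  + S.T v v v * (b * b' * b'')
  + S.T v v w * (b * b' * c'' + b * c' * b'' + c * b' * b'')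
  + S.T v w w * (b * c' * c'' + c * b' * c'' + c * c' * b'')
  + S.T w w w * (c * c' * c'') := by
  have e121 : S.T u v u = S.T u u v := S.s23 _ _ _
  have e131 : S.T u w u = S.T u u w := S.s23 _ _ _
  have e132 : S.T u w v = S.T u v w := S.s23 _ _ _
  have e211 : S.T v u u = S.T u u v := S.s13 _ _ _
  have e212 : S.T v u v = S.T u v v := S.s12 _ _ _
  have e213 : S.T v u w = S.T u v w := S.s12 _ _ _
  have e221 : S.T v v u = S.T u v v := S.s13 _ _ _
  have e231 : S.T v w u = S.T u v w := (S.rot _ _ _).symm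
  have e232 : S.T v w v = S.T v v w := S.s23 _ _ _
  have e311 : S.T w u u = S.T u u w := S.s13 _ _ _
  have e312 : S.T w u v = S.T u v w := S.rot _ _ _
  have e313 : S.T w u w = S.T u w w := S.s12 _ _ _
  have e321 : S.T w v u = S.T u v w := S.s13 _ _ _
  have e322 : S.T w v v = S.T v v w := S.s13 _ _ _
  have e323 : S.T w v w = S.T v w w := S.s12 _ _ _
  have e331 : S.T w w u = S.T u w w := S.s13 _ _ _
  have e332 : S.T w w v = S.T v w w := S.s13 _ _ _
  simp only [map_add, map_smul, LinearMap.add_apply, LinearMap.smul_apply, smul_eq_mul]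
  rw [e121, e131, e132, e211, e212, e213, e221, e231, e232, e311, e312, e313, e321, e322, e323,
    e331, e332]
  ring

/-- the linear form with coefficient vector `l` -/
def lin (l : Fin 3 → K) (x y z : K) : K := l 0 * x + l 1 * y + l 2 * z

/-- the functional on `K³` with coefficient vector `l` -/
def linFun (l : Fin 3 → K) : (Fin 3 → K) →ₗ[K] K :=
  l 0 • LinearMap.proj 0 + l 1 • LinearMap.proj 1 + l 2 • LinearMap.proj 2

theorem linFun_apply (l ξ : Fin 3 → K) : linFun l ξ = lin l (ξ 0) (ξ 1) (ξ 2) := by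
  simp [linFun, lin]

theorem lin_planeArg (l ξ η : Fin 3 → K) (r : K) :
    lin l ((ξ + r • η) 0) ((ξ + r • η) 1) ((ξ + r • η) 2)
      = lin l (ξ 0) (ξ 1) (ξ 2) + r * lin l (η 0) (η 1) (η 2) := by
  simp only [lin, Pi.add_apply, Pi.smul_apply, smul_eq_mul]; ring

/-- two linearly independent vectors in the kernel of a functional on `K³` -/
theorem exists_pair_in_ker (l : Fin 3 → K) :
    ∃ ξ₁ ξ₂ : Fin 3 → K, LinearIndependent K ![ξ₁, ξ₂] ∧ linFun l ξ₁ = 0 ∧ linFun l ξ₂ = 0 := by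
  have h1 := LinearMap.finrank_range_add_finrank_ker (linFun l)
  have h2 : Module.finrank K ↥(LinearMap.range (linFun l)) ≤ 1 := by
    have := Submodule.finrank_le (LinearMap.range (linFun l))
    simpa using this
  have h3 : Module.finrank K (Fin 3 → K) = 3 := by simp
  have h4 : 1 < Module.finrank K ↥(LinearMap.ker (linFun l)) := by omega
  have hpos : 0 < Module.finrank K ↥(LinearMap.ker (linFun l)) := by omega
  obtain ⟨x, hx⟩ := Module.finrank_pos_iff_exists_ne_zero.mp hpos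
  obtain ⟨y, hy⟩ := exists_linearIndependent_pair_of_one_lt_finrank h4 hx
  have h5 := hy.map' (LinearMap.ker (linFun l)).subtype (Submodule.ker_subtype _)
  have h6 : (⇑(LinearMap.ker (linFun l)).subtype ∘ ![x, y]) = ![(x : Fin 3 → K), (y : Fin 3 → K)] := by
    funext i
    fin_cases i <;> rfl
  rw [h6] at h5
  exact ⟨x, y, h5, x.2, y.2⟩

/-- the plane spanned by three vectors, as a map from `K³` -/
def planeMap (h₁ h₂ h₃ : V) (ξ : Fin 3 → K) : V := ξ 0 • h₁ + ξ 1 • h₂ + ξ 2 • h₃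

theorem planeMap_add (h₁ h₂ h₃ : V) (ξ η : Fin 3 → K) :
    planeMap h₁ h₂ h₃ (ξ + η) = planeMap h₁ h₂ h₃ ξ + planeMap h₁ h₂ h₃ η := by
  simp only [planeMap, Pi.add_apply]; module

theorem planeMap_smul (h₁ h₂ h₃ : V) (r : K) (ξ : Fin 3 → K) :
    planeMap h₁ h₂ h₃ (r • ξ) = r • planeMap h₁ h₂ h₃ ξ := by
  simp only [planeMap, Pi.smul_apply, smul_eq_mul]; module

theorem planeMap_eq_zero {h₁ h₂ h₃ : V} (hli : LinearIndependent K ![h₁, h₂, h₃]) {ξ : Fin 3 → K}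
    (h0 : planeMap h₁ h₂ h₃ ξ = 0) : ξ = 0 := by
  obtain ⟨e0, e1, e2⟩ := li3_coeff' hli h0
  funext i
  fin_cases i
  · exact e0
  · exact e1
  · exact e2

/-- a plane section of a smooth cubic surface is not of the form `λ² μ` -/
theorem no_square_factor [IsAlgClosed K] [FiniteDimensional K V] (S : SymTri K V)
    (hV : Module.finrank K V = 4) (hsm : S.Smooth)
    {h₁ h₂ h₃ : V} (hli : LinearIndependent K ![h₁, h₂, h₃]) (l m : Fin 3 → K)
    (hF : ∀ x y z : K, S.F (x • h₁ + y • h₂ + z • h₃) = (lin l x y z) ^ 2 * lin m x y z) :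
    False := by
  obtain ⟨ξ₁, ξ₂, hξ, hl₁, hl₂⟩ := exists_pair_in_ker l
  obtain ⟨s, hs⟩ := exists_notMem_span_triple hV hli
  have hli4 := li4_of_notMem hli hs
  obtain ⟨hsp, -⟩ := basis4 hV hli4
  obtain ⟨α, β, hαβ, hq⟩ := SymTri.exists_quad_zero (S.T s) (planeMap h₁ h₂ h₃ ξ₁)
    (planeMap h₁ h₂ h₃ ξ₂)
  obtain ⟨ξ₀, hξ₀⟩ : ∃ ξ₀, ξ₀ = α • ξ₁ + β • ξ₂ := ⟨_, rfl⟩
  have hu₀ : α • planeMap h₁ h₂ h₃ ξ₁ + β • planeMap h₁ h₂ h₃ ξ₂ = planeMap h₁ h₂ h₃ ξ₀ := by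
    rw [hξ₀, planeMap_add, planeMap_smul, planeMap_smul]
  rw [hu₀] at hq
  have hξ₀0 : ξ₀ ≠ 0 := by
    intro h0
    rw [h0] at hξ₀
    have := (LinearIndependent.pair_iff.mp hξ) α β hξ₀.symm
    rcases hαβ with h' | h'
    · exact h' this.1
    · exact h' this.2
  have hu₀0 : planeMap h₁ h₂ h₃ ξ₀ ≠ 0 := fun h0 => hξ₀0 (planeMap_eq_zero hli h0)
  have hl₀ : lin l (ξ₀ 0) (ξ₀ 1) (ξ₀ 2) = 0 := by
    rw [← linFun_apply, hξ₀, map_add, map_smul, map_smul, hl₁, hl₂]; simp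
  have hF' : ∀ ξ : Fin 3 → K, S.F (planeMap h₁ h₂ h₃ ξ)
      = (lin l (ξ 0) (ξ 1) (ξ 2)) ^ 2 * lin m (ξ 0) (ξ 1) (ξ 2) := fun ξ => hF _ _ _
  have hFu₀ : S.F (planeMap h₁ h₂ h₃ ξ₀) = 0 := by rw [hF', hl₀]; ring
  -- vanishing on the plane
  have hplane : ∀ η : Fin 3 → K, S.T (planeMap h₁ h₂ h₃ ξ₀) (planeMap h₁ h₂ h₃ ξ₀)
      (planeMap h₁ h₂ h₃ η) = 0 := by
    intro η
    have e1 := S.F_add_smul 1 (planeMap h₁ h₂ h₃ ξ₀) (planeMap h₁ h₂ h₃ η)
    have e2 := S.F_add_smul (-1) (planeMap h₁ h₂ h₃ ξ₀) (planeMap h₁ h₂ h₃ η)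
    rw [← planeMap_smul, ← planeMap_add, hF', hFu₀, hF', lin_planeArg, lin_planeArg, hl₀] at e1 e2
    linear_combination (-1 / 6 : K) * e1 + (1 / 6 : K) * e2
  have hs0 : S.T (planeMap h₁ h₂ h₃ ξ₀) (planeMap h₁ h₂ h₃ ξ₀) s = 0 := by
    rw [← S.rot]; exact hq
  obtain ⟨w, hw⟩ := hsm _ hu₀0 hFu₀
  apply hw
  obtain ⟨c₀, c₁, c₂, c₃, rfl⟩ := hsp w
  have hh : c₁ • h₁ + c₂ • h₂ + c₃ • h₃ = planeMap h₁ h₂ h₃ ![c₁, c₂, c₃] := by
    simp [planeMap]
  rw [add_assoc, add_assoc, ← add_assoc (c₁ • h₁), hh, map_add, map_smul, hs0, hplane]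
  simp

end Groth.Agent.Lib.H79Tri
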