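import Groth.Agent.Lib.H79Tri1
import Groth.Agent.Lib.H79CubK6

/-!
# Plane conics: discriminant, kernel vectors, factorisation
-/

open Groth.Agent.Lib.H79CubK

namespace Groth.Agent.Lib.H79Tri

variable {K : Type*} [Field K]

/-- the conic `A x² + B xy + C y² + D xz + E yz + G z²` -/
def conicQ (A B C D E G x y z : K) : K :=
  A * x ^ 2 + B * x * y + C * y ^ 2 + D * x * z + E * y * z + G * z ^ 2

/-- four times the determinant of the conic -/
def conicDisc (A B C D E G : K) : K :=
  4 * A * C * G + B * D * E - A * E ^ 2 - B ^ 2 * G - C * D ^ 2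

theorem conic_ext [CharZero K] {A B C D E G A' B' C' D' E' G' : K}
    (h : ∀ x y z : K, conicQ A B C D E G x y z = conicQ A' B' C' D' E' G' x y z) :
    A = A' ∧ B = B' ∧ C = C' ∧ D = D' ∧ E = E' ∧ G = G' := by
  have h1 := h 1 0 0
  have h2 := h 0 1 0
  have h3 := h 0 0 1
  have h4 := h 1 1 0
  have h5 := h 1 0 1
  have h6 := h 0 1 1
  simp only [conicQ] at h1 h2 h3 h4 h5 h6
  have hA : A = A' := by linear_combination h1
  have hC : C = C' := by linear_combination h2
  have hG : G = G' := by linear_combination h3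
  refine ⟨hA, ?_, hC, ?_, ?_, hG⟩
  · linear_combination h4 - h1 - h2
  · linear_combination h5 - h1 - h3
  · linear_combination h6 - h2 - h3

theorem lin_mul_lin (l m : Fin 3 → K) (x y z : K) :
    lin l x y z * lin m x y z = conicQ (l 0 * m 0) (l 0 * m 1 + l 1 * m 0) (l 1 * m 1)
      (l 0 * m 2 + l 2 * m 0) (l 1 * m 2 + l 2 * m 1) (l 2 * m 2) x y z := by
  simp only [lin, conicQ]; ring

/-- a conic with vanishing discriminant has a singular point -/
theorem exists_kernel_of_disc_eq_zero (A B C D E G : K) (h : conicDisc A B C D E G = 0) :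
    ∃ x y z : K, (x ≠ 0 ∨ y ≠ 0 ∨ z ≠ 0) ∧ 2 * A * x + B * y + D * z = 0 ∧
      B * x + 2 * C * y + E * z = 0 ∧ D * x + E * y + 2 * G * z = 0 := by
  obtain ⟨M, hM⟩ : ∃ M : Matrix (Fin 3) (Fin 3) K, M = !![2 * A, B, D; B, 2 * C, E; D, E, 2 * G] :=
    ⟨_, rfl⟩
  have hdet : M.det = 0 := by
    rw [hM, Matrix.det_fin_three]
    simp
    unfold conicDisc at h
    linear_combination 2 * h
  obtain ⟨v, hv0, hv⟩ := Matrix.exists_mulVec_eq_zero_iff.mpr hdet
  refine ⟨v 0, v 1, v 2, ?_, ?_, ?_, ?_⟩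
  · by_contra hcon
    rw [not_or, not_or, not_not, not_not, not_not] at hcon
    apply hv0
    funext i
    fin_cases i
    · exact hcon.1
    · exact hcon.2.1
    · exact hcon.2.2
  · have := congrFun hv 0
    rw [hM] at this
    simpa [Matrix.mulVec, dotProduct, Fin.sum_univ_three] using this
  · have := congrFun hv 1
    rw [hM] at this
    simpa [Matrix.mulVec, dotProduct, Fin.sum_univ_three] using this
  · have := congrFun hv 2
    rw [hM] at this
    simpa [Matrix.mulVec, dotProduct, Fin.sum_univ_three] using this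

/-- translating by a multiple of a singular point does not change the conic -/
theorem conic_shift [CharZero K] {A B C D E G x₀ y₀ z₀ : K} (h1 : 2 * A * x₀ + B * y₀ + D * z₀ = 0)
    (h2 : B * x₀ + 2 * C * y₀ + E * z₀ = 0) (h3 : D * x₀ + E * y₀ + 2 * G * z₀ = 0)
    (s x y z : K) :
    conicQ A B C D E G (x - s * x₀) (y - s * y₀) (z - s * z₀) = conicQ A B C D E G x y z := by
  unfold conicQ
  linear_combination (-s * x + s ^ 2 / 2 * x₀) * h1 + (-s * y + s ^ 2 / 2 * y₀) * h2
    + (-s * z + s ^ 2 / 2 * z₀) * h3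

variable [CharZero K] [IsAlgClosed K]

/-- a conic with vanishing discriminant is a product of two linear forms -/
theorem exists_factor_of_disc_eq_zero (A B C D E G : K) (h : conicDisc A B C D E G = 0) :
    ∃ l m : Fin 3 → K, ∀ x y z : K, conicQ A B C D E G x y z = lin l x y z * lin m x y z := by
  obtain ⟨x₀, y₀, z₀, hne, h1, h2, h3⟩ := exists_kernel_of_disc_eq_zero A B C D E G h
  by_cases hz : z₀ ≠ 0
  · obtain ⟨α1, β1, α2, β2, hfac, -⟩ := binary_quadratic_factor A B C
    refine ⟨![α1, β1, -(α1 * x₀ + β1 * y₀) / z₀], ![α2, β2, -(α2 * x₀ + β2 * y₀) / z₀], ?_⟩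
    intro x y z
    have e := hfac (x - z / z₀ * x₀) (y - z / z₀ * y₀)
    rw [← conic_shift h1 h2 h3 (z / z₀) x y z]
    have hz0 : z - z / z₀ * z₀ = 0 := by field_simp; ring
    rw [hz0]
    have e3 : conicQ A B C D E G (x - z / z₀ * x₀) (y - z / z₀ * y₀) 0
        = A * (x - z / z₀ * x₀) ^ 2 + B * ((x - z / z₀ * x₀) * (y - z / z₀ * y₀))
          + C * (y - z / z₀ * y₀) ^ 2 := by
      unfold conicQ; ring
    rw [e3, e]
    simp only [lin, Matrix.cons_val_zero, Matrix.cons_val_one, Matrix.cons_val_two,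
      Matrix.head_cons, Matrix.tail_cons]
    field_simp
    ring
  · rw [not_not] at hz
    by_cases hy : y₀ ≠ 0
    · obtain ⟨α1, β1, α2, β2, hfac, -⟩ := binary_quadratic_factor A D G
      refine ⟨![α1, -(α1 * x₀ + β1 * z₀) / y₀, β1], ![α2, -(α2 * x₀ + β2 * z₀) / y₀, β2], ?_⟩
      intro x y z
      have e := hfac (x - y / y₀ * x₀) (z - y / y₀ * z₀)
      rw [← conic_shift h1 h2 h3 (y / y₀) x y z]
      have hy0 : y - y / y₀ * y₀ = 0 := by field_simp; ring
      rw [hy0]
      have e3 : conicQ A B C D E G (x - y / y₀ * x₀) 0 (z - y / y₀ * z₀)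
          = A * (x - y / y₀ * x₀) ^ 2 + D * ((x - y / y₀ * x₀) * (z - y / y₀ * z₀))
            + G * (z - y / y₀ * z₀) ^ 2 := by
        unfold conicQ; ring
      rw [e3, e]
      simp only [lin, Matrix.cons_val_zero, Matrix.cons_val_one, Matrix.cons_val_two,
        Matrix.head_cons, Matrix.tail_cons]
      field_simp
      ring
    · rw [not_not] at hy
      have hx : x₀ ≠ 0 := by
        rcases hne with h' | h' | h'
        · exact h'
        · exact absurd hy h'
        · exact absurd hz h'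
      obtain ⟨α1, β1, α2, β2, hfac, -⟩ := binary_quadratic_factor C E G
      refine ⟨![-(α1 * y₀ + β1 * z₀) / x₀, α1, β1], ![-(α2 * y₀ + β2 * z₀) / x₀, α2, β2], ?_⟩
      intro x y z
      have e := hfac (y - x / x₀ * y₀) (z - x / x₀ * z₀)
      rw [← conic_shift h1 h2 h3 (x / x₀) x y z]
      have hx0 : x - x / x₀ * x₀ = 0 := by field_simp; ring
      rw [hx0]
      have e3 : conicQ A B C D E G 0 (y - x / x₀ * y₀) (z - x / x₀ * z₀)
          = C * (y - x / x₀ * y₀) ^ 2 + E * ((y - x / x₀ * y₀) * (z - x / x₀ * z₀))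
            + G * (z - x / x₀ * z₀) ^ 2 := by
        unfold conicQ; ring
      rw [e3, e]
      simp only [lin, Matrix.cons_val_zero, Matrix.cons_val_one, Matrix.cons_val_two,
        Matrix.head_cons, Matrix.tail_cons]
      field_simp
      ring

end Groth.Agent.Lib.H79Tri
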