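import Groth.Agent.Lib.H79Tri2

/-!
# Plane sections through a line of a smooth cubic surface: the residual conic
-/

open Groth.Agent.Lib.H79CubK Groth.Agent.Lib.H79Odp

namespace Groth.Agent.Lib.H79Tri

variable {K : Type*} [Field K] [CharZero K] {V : Type*} [AddCommGroup V] [Module K V]

theorem disc_zero_of_isotropic_line {A B C D E G x1 y1 x2 y2 : K}
    (h1 : A * x1 ^ 2 + B * x1 * y1 + C * y1 ^ 2 = 0)
    (h2 : 2 * A * x1 * x2 + B * (x1 * y2 + x2 * y1) + 2 * C * y1 * y2 + D * x1 + E * y1 = 0)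
    (h3 : A * x2 ^ 2 + B * x2 * y2 + C * y2 ^ 2 + D * x2 + E * y2 + G = 0)
    (hne : x1 ≠ 0 ∨ y1 ≠ 0) : conicDisc A B C D E G = 0 := by
  unfold conicDisc
  rcases hne with hx | hy
  · grind
  · grind

/-- the span of `e₁, e₂` is a line on the cubic -/
structure OnLine (S : SymTri K V) (e₁ e₂ : V) : Prop where
  h111 : S.T e₁ e₁ e₁ = 0
  h112 : S.T e₁ e₁ e₂ = 0
  h122 : S.T e₁ e₂ e₂ = 0
  h222 : S.T e₂ e₂ e₂ = 0

section Coeffs

/-- coefficients of the residual conic in the plane spanned by `e₁, e₂, w` -/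
def cA (S : SymTri K V) (e₁ _e₂ w : V) : K := 3 * S.T e₁ e₁ w
def cB (S : SymTri K V) (e₁ e₂ w : V) : K := 6 * S.T e₁ e₂ w
def cC (S : SymTri K V) (_e₁ e₂ w : V) : K := 3 * S.T e₂ e₂ w
def cD (S : SymTri K V) (e₁ _e₂ w : V) : K := 3 * S.T e₁ w w
def cE (S : SymTri K V) (_e₁ e₂ w : V) : K := 3 * S.T e₂ w w
def cG (S : SymTri K V) (w : V) : K := S.F w

/-- the discriminant of the residual conic -/
def disc (S : SymTri K V) (e₁ e₂ w : V) : K :=
  conicDisc (cA S e₁ e₂ w) (cB S e₁ e₂ w) (cC S e₁ e₂ w) (cD S e₁ e₂ w) (cE S e₁ e₂ w) (cG S w)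

/-- the residual conic -/
def resQ (S : SymTri K V) (e₁ e₂ w : V) (x y z : K) : K :=
  conicQ (cA S e₁ e₂ w) (cB S e₁ e₂ w) (cC S e₁ e₂ w) (cD S e₁ e₂ w) (cE S e₁ e₂ w) (cG S w) x y z

variable {S : SymTri K V} {e₁ e₂ : V}


theorem F_plane (h : OnLine S e₁ e₂) (w : V) (x y z : K) :
    S.F (x • e₁ + y • e₂ + z • w) = z * resQ S e₁ e₂ w x y z := by
  unfold SymTri.F
  rw [T_lin3, h.h111, h.h112, h.h122, h.h222]
  unfold resQ conicQ cA cB cC cD cE cG SymTri.F
  ring

theorem F_line (h : OnLine S e₁ e₂) : ∀ u ∈ Submodule.span K ({e₁, e₂} : Set V), S.F u = 0 := by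
  rw [S.vanish_on_pair_iff]
  exact ⟨h.h111, h.h112, h.h122, h.h222⟩

end Coeffs

/-- the plane map as a linear map -/
def planeLin (K : Type*) [Field K] {V : Type*} [AddCommGroup V] [Module K V] (h₁ h₂ h₃ : V) :
    (Fin 3 → K) →ₗ[K] V :=
  (LinearMap.proj 0).smulRight h₁ + (LinearMap.proj 1).smulRight h₂ + (LinearMap.proj 2).smulRight h₃

theorem planeLin_apply (h₁ h₂ h₃ : V) (ξ : Fin 3 → K) :
    planeLin K h₁ h₂ h₃ ξ = ξ 0 • h₁ + ξ 1 • h₂ + ξ 2 • h₃ := by
  simp [planeLin]

theorem planeLin_injective {h₁ h₂ h₃ : V} (hli : LinearIndependent K ![h₁, h₂, h₃]) :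
    Function.Injective (planeLin K h₁ h₂ h₃) := by
  rw [← LinearMap.ker_eq_bot, LinearMap.ker_eq_bot']
  intro ξ h0
  rw [planeLin_apply] at h0
  exact planeMap_eq_zero hli h0

theorem planeLin_mem (h₁ h₂ h₃ : V) (ξ : Fin 3 → K) :
    planeLin K h₁ h₂ h₃ ξ ∈ Submodule.span K ({h₁, h₂, h₃} : Set V) := by
  rw [planeLin_apply]
  refine Submodule.add_mem _ (Submodule.add_mem _ ?_ ?_) ?_
  · exact Submodule.smul_mem _ _ (Submodule.subset_span (by simp))
  · exact Submodule.smul_mem _ _ (Submodule.subset_span (by simp))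
  · exact Submodule.smul_mem _ _ (Submodule.subset_span (by simp))

theorem mem_span_triple {h₁ h₂ h₃ v : V} (hv : v ∈ Submodule.span K ({h₁, h₂, h₃} : Set V)) :
    ∃ x y z : K, v = x • h₁ + y • h₂ + z • h₃ := by
  rw [Submodule.mem_span_insert] at hv
  obtain ⟨x, v', hv', rfl⟩ := hv
  obtain ⟨y, z, rfl⟩ := Submodule.mem_span_pair.mp hv'
  exact ⟨x, y, z, by module⟩

variable [IsAlgClosed K] [FiniteDimensional K V]

/-- the line cut out in the plane by a linear form -/
def lineOf (h₁ h₂ h₃ : V) (l : Fin 3 → K) : Submodule K V :=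
  Submodule.map (planeLin K h₁ h₂ h₃) (LinearMap.ker (linFun l))

theorem finrank_lineOf {h₁ h₂ h₃ : V} (hli : LinearIndependent K ![h₁, h₂, h₃]) {l : Fin 3 → K}
    {ξ : Fin 3 → K} (hξ : linFun l ξ ≠ 0) : Module.finrank K ↥(lineOf h₁ h₂ h₃ l) = 2 := by
  unfold lineOf
  rw [← (Submodule.equivMapOfInjective _ (planeLin_injective hli) _).finrank_eq]
  have := finrank_ker_functional' (linFun l) hξ
  simp at this
  omega

/-- if the discriminant vanishes, the plane contains two further lines -/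
theorem exists_lines_of_disc_eq_zero (S : SymTri K V) (hV : Module.finrank K V = 4)
    (hsm : S.Smooth) {e₁ e₂ w : V} (hli : LinearIndependent K ![e₁, e₂, w]) (h : OnLine S e₁ e₂)
    (hd : disc S e₁ e₂ w = 0) :
    ∃ L' L'' : Submodule K V, Module.finrank K ↥L' = 2 ∧ Module.finrank K ↥L'' = 2 ∧
      L' ≠ Submodule.span K {e₁, e₂} ∧ L'' ≠ Submodule.span K {e₁, e₂} ∧ L' ≠ L'' ∧
      L' ≤ Submodule.span K {e₁, e₂, w} ∧ L'' ≤ Submodule.span K {e₁, e₂, w} ∧
      (∀ u ∈ L', S.F u = 0) ∧ (∀ u ∈ L'', S.F u = 0) := by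
  obtain ⟨l, m, hfac⟩ := exists_factor_of_disc_eq_zero _ _ _ _ _ _ hd
  have hF : ∀ x y z : K, S.F (x • e₁ + y • e₂ + z • w) = z * (lin l x y z * lin m x y z) := by
    intro x y z
    rw [F_plane h, resQ, hfac]
  -- the linear forms are nonzero
  have hl : ∃ ξ, linFun l ξ ≠ 0 := by
    by_contra hcon
    have h0 : ∀ x y z : K, lin l x y z = 0 := by
      intro x y z
      by_contra hne
      apply hcon
      exact ⟨![x, y, z], by rw [linFun_apply]; simpa using hne⟩
    exact no_square_factor S hV hsm hli l m (fun x y z => by rw [hF, h0]; ring)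
  have hm : ∃ ξ, linFun m ξ ≠ 0 := by
    by_contra hcon
    have h0 : ∀ x y z : K, lin m x y z = 0 := by
      intro x y z
      by_contra hne
      apply hcon
      exact ⟨![x, y, z], by rw [linFun_apply]; simpa using hne⟩
    exact no_square_factor S hV hsm hli m l (fun x y z => by rw [hF, h0]; ring)
  obtain ⟨ξl, hξl⟩ := hl
  obtain ⟨ξm, hξm⟩ := hm
  -- membership in the lines
  have hvan : ∀ (l' : Fin 3 → K), (∀ x y z : K, lin l' x y z = 0 → S.F (x • e₁ + y • e₂ + z • w) = 0) →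
      ∀ u ∈ lineOf e₁ e₂ w l', S.F u = 0 := by
    intro l' hl' u hu
    obtain ⟨ξ, hξ, rfl⟩ := hu
    rw [planeLin_apply]
    apply hl'
    rw [← linFun_apply]
    exact hξ
  have hle : ∀ l' : Fin 3 → K, lineOf e₁ e₂ w l' ≤ Submodule.span K {e₁, e₂, w} := by
    rintro l' u ⟨ξ, -, rfl⟩
    exact planeLin_mem _ _ _ ξ
  -- not the original line
  have hneL : ∀ (l' m' : Fin 3 → K), (∀ x y z : K, S.F (x • e₁ + y • e₂ + z • w)
      = z * (lin l' x y z * lin m' x y z)) →
      lineOf e₁ e₂ w l' ≠ Submodule.span K {e₁, e₂} := by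
    intro l' m' hF' heq
    have hker : ∀ ξ, linFun l' ξ = 0 → (LinearMap.proj 2 : (Fin 3 → K) →ₗ[K] K) ξ = 0 := by
      intro ξ hξ
      have hmem : planeLin K e₁ e₂ w ξ ∈ Submodule.span K {e₁, e₂} := by
        rw [← heq]; exact ⟨ξ, hξ, rfl⟩
      obtain ⟨a, b, hab⟩ := Submodule.mem_span_pair.mp hmem
      rw [planeLin_apply] at hab
      have h0 : (a - ξ 0) • e₁ + (b - ξ 1) • e₂ + (-ξ 2) • w = 0 := by
        rw [← sub_eq_zero] at hab
        rw [← hab]; module
      have := (li3_coeff' hli h0).2.2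
      simpa using this
    obtain ⟨c, hc⟩ := exists_smul_of_ker_le (LinearMap.proj 2) (linFun l') hker
    refine no_square_factor S hV hsm hli l' (c • m') (fun x y z => ?_)
    rw [hF']
    have := hc ![x, y, z]
    rw [linFun_apply] at this
    simp only [LinearMap.coe_proj, Function.eval, Matrix.cons_val_zero, Matrix.cons_val_one,
      Matrix.cons_val_two, Matrix.head_cons, Matrix.tail_cons] at this
    have e : lin (c • m') x y z = c * lin m' x y z := by
      simp only [lin, Pi.smul_apply, smul_eq_mul]; ring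
    rw [e]
    linear_combination (lin l' x y z * lin m' x y z) * this
  refine ⟨lineOf e₁ e₂ w l, lineOf e₁ e₂ w m, finrank_lineOf hli hξl, finrank_lineOf hli hξm,
    hneL l m hF, hneL m l (fun x y z => by rw [hF]; ring), ?_, hle l, hle m, ?_, ?_⟩
  · -- the two lines differ
    intro heq
    have heq' := Submodule.map_injective_of_injective (planeLin_injective hli) heq
    obtain ⟨c, hc⟩ := exists_smul_of_ker_le (linFun m) (linFun l) (by
      intro ξ hξ
      have : ξ ∈ LinearMap.ker (linFun l) := hξ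
      rw [heq'] at this
      exact this)
    refine no_square_factor S hV hsm hli l ![0, 0, c] (fun x y z => ?_)
    rw [hF]
    have := hc ![x, y, z]
    rw [linFun_apply, linFun_apply] at this
    simp only [Matrix.cons_val_zero, Matrix.cons_val_one, Matrix.cons_val_two, Matrix.head_cons,
      Matrix.tail_cons] at this
    have e : lin ![0, 0, c] x y z = c * z := by
      simp only [lin, Matrix.cons_val_zero, Matrix.cons_val_one, Matrix.cons_val_two,
        Matrix.head_cons, Matrix.tail_cons]; ring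
    rw [e]
    linear_combination (z * lin l x y z) * this
  · apply hvan
    intro x y z h0
    rw [hF, h0]; ring
  · apply hvan
    intro x y z h0
    rw [hF, h0]; ring

end Groth.Agent.Lib.H79Tri
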