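import Groth.Agent.Lib.H79Tri3

/-!
# A plane through a line containing a further line has degenerate residual conic
-/

open Groth.Agent.Lib.H79CubK Groth.Agent.Lib.H79Odp

namespace Groth.Agent.Lib.H79Tri

variable {K : Type*} [Field K] [CharZero K] {V : Type*} [AddCommGroup V] [Module K V]

theorem li_pair_of_triple {a b c : V} (h : LinearIndependent K ![a, b, c]) :
    LinearIndependent K ![a, b] := by
  apply li2_of
  intro α β h0
  have h1 : α • a + β • b + (0:K) • c = 0 := by rw [zero_smul, add_zero]; exact h0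
  obtain ⟨e1, e2, -⟩ := li3_coeff' h h1
  exact ⟨e1, e2⟩

variable [FiniteDimensional K V]

theorem disc_eq_zero_of_line (S : SymTri K V) {e₁ e₂ w : V}
    (hli : LinearIndependent K ![e₁, e₂, w]) (h : OnLine S e₁ e₂)
    {L' : Submodule K V} (hL' : Module.finrank K ↥L' = 2)
    (hle : L' ≤ Submodule.span K {e₁, e₂, w}) (hne : L' ≠ Submodule.span K {e₁, e₂})
    (hF : ∀ u ∈ L', S.F u = 0) : disc S e₁ e₂ w = 0 := by
  have hL : Module.finrank K ↥(Submodule.span K ({e₁, e₂} : Set V)) = 2 :=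
    finrank_span_pair_of_li (li_pair_of_triple hli)
  have hH : Module.finrank K ↥(Submodule.span K ({e₁, e₂, w} : Set V)) = 3 :=
    finrank_span_triple_of_li hli
  -- a common point
  have hsup : Submodule.span K ({e₁, e₂} : Set V) ⊔ L' ≤ Submodule.span K ({e₁, e₂, w} : Set V) := by
    apply sup_le _ hle
    apply Submodule.span_mono
    intro x hx
    rcases hx with rfl | rfl
    · simp
    · simp
  have h1 := Submodule.finrank_mono hsup
  have h2 := Submodule.finrank_sup_add_finrank_inf_eq (Submodule.span K ({e₁, e₂} : Set V)) L'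
  have hpos : 0 < Module.finrank K ↥(Submodule.span K ({e₁, e₂} : Set V) ⊓ L') := by omega
  obtain ⟨⟨n₁, hn₁⟩, hn₁0⟩ := Module.finrank_pos_iff_exists_ne_zero.mp hpos
  have hn₁0' : n₁ ≠ 0 := fun h0 => hn₁0 (Subtype.ext h0)
  obtain ⟨hn₁L, hn₁L'⟩ := Submodule.mem_inf.mp hn₁
  obtain ⟨x₁, y₁, hxy⟩ := Submodule.mem_span_pair.mp hn₁L
  -- a point off the line
  have hr : ∃ r ∈ L', r ∉ Submodule.span K ({e₁, e₂} : Set V) := by
    by_contra hcon
    apply hne
    apply Submodule.eq_of_le_of_finrank_eq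
    · intro r hr
      by_contra hr'
      exact hcon ⟨r, hr, hr'⟩
    · rw [hL', hL]
  obtain ⟨r, hrL', hrL⟩ := hr
  obtain ⟨x, y, z, hr⟩ := mem_span_triple (hle hrL')
  have hz : z ≠ 0 := by
    intro hz
    apply hrL
    rw [hr, hz, zero_smul, add_zero]
    exact Submodule.mem_span_pair.mpr ⟨x, y, rfl⟩
  obtain ⟨n₂, hn₂⟩ : ∃ n₂, n₂ = z⁻¹ • r := ⟨_, rfl⟩
  have hn₂L' : n₂ ∈ L' := by rw [hn₂]; exact L'.smul_mem _ hrL'
  have hn₂' : n₂ = (z⁻¹ * x) • e₁ + (z⁻¹ * y) • e₂ + (1:K) • w := by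
    rw [hn₂, hr, smul_add, smul_add, smul_smul, smul_smul, smul_smul, inv_mul_cancel₀ hz]
  have hn₁' : n₁ = x₁ • e₁ + y₁ • e₂ + (0:K) • w := by rw [zero_smul, add_zero, hxy]
  -- the cubic vanishes on the span
  have hvan : ∀ u ∈ Submodule.span K ({n₁, n₂} : Set V), S.F u = 0 := by
    intro u hu
    apply hF
    have : Submodule.span K ({n₁, n₂} : Set V) ≤ L' := by
      rw [Submodule.span_le]
      rintro v (rfl | rfl)
      · exact hn₁L'
      · exact hn₂L'
    exact this hu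
  rw [S.vanish_on_pair_iff] at hvan
  obtain ⟨-, e1, e2, e3⟩ := hvan
  rw [hn₁', hn₂', T_lin3, h.h111, h.h112, h.h122, h.h222] at e1 e2
  unfold SymTri.F at e3
  rw [hn₂', T_lin3, h.h111, h.h112, h.h122, h.h222] at e3
  have hne1 : x₁ ≠ 0 ∨ y₁ ≠ 0 := by
    by_contra hcon
    rw [not_or, not_not, not_not] at hcon
    apply hn₁0'
    rw [← hxy, hcon.1, hcon.2]; simp
  unfold disc
  apply disc_zero_of_isotropic_line (x1 := x₁) (y1 := y₁) (x2 := z⁻¹ * x) (y2 := z⁻¹ * y) _ _ _ hne1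
  · unfold cA cB cC
    linear_combination 3 * e1
  · unfold cA cB cC cD cE
    linear_combination 3 * e2
  · unfold cA cB cC cD cE cG SymTri.F
    linear_combination e3

end Groth.Agent.Lib.H79Tri
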