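import Groth.Agent.Lib.H79Tri4

/-!
# The discriminant quintic of the pencil of planes through a line: simple roots
-/

open Groth.Agent.Lib.H79CubK Groth.Agent.Lib.H79Odp Polynomial

namespace Groth.Agent.Lib.H79Tri

variable {K : Type*} [Field K]

/-- derivative of the discriminant along a path of conics -/
def dDisc (A0 B0 C0 D0 E0 G0 A1 B1 C1 D1 E1 G1 : K) : K :=
  4 * (A1 * C0 * G0 + A0 * C1 * G0 + A0 * C0 * G1) + (B1 * D0 * E0 + B0 * D1 * E0 + B0 * D0 * E1)
    - (A1 * E0 ^ 2 + 2 * A0 * E0 * E1) - (2 * B0 * B1 * G0 + B0 ^ 2 * G1)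
    - (C1 * D0 ^ 2 + 2 * C0 * D0 * D1)

theorem dDisc_z {A0 B0 C0 D0 E0 G0 x y z : K} (A1 B1 C1 D1 E1 G1 : K)
    (h1 : 2 * A0 * x + B0 * y + D0 * z = 0)
    (h2 : B0 * x + 2 * C0 * y + E0 * z = 0)
    (h3 : D0 * x + E0 * y + 2 * G0 * z = 0) :
    z ^ 2 * dDisc A0 B0 C0 D0 E0 G0 A1 B1 C1 D1 E1 G1
      = (4 * A0 * C0 - B0 ^ 2) * conicQ A1 B1 C1 D1 E1 G1 x y z := by
  unfold dDisc conicQ
  grind

theorem dDisc_y {A0 B0 C0 D0 E0 G0 x y z : K} (A1 B1 C1 D1 E1 G1 : K)
    (h1 : 2 * A0 * x + B0 * y + D0 * z = 0)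
    (h2 : B0 * x + 2 * C0 * y + E0 * z = 0)
    (h3 : D0 * x + E0 * y + 2 * G0 * z = 0) :
    y ^ 2 * dDisc A0 B0 C0 D0 E0 G0 A1 B1 C1 D1 E1 G1
      = (4 * A0 * G0 - D0 ^ 2) * conicQ A1 B1 C1 D1 E1 G1 x y z := by
  unfold dDisc conicQ
  grind

theorem dDisc_x {A0 B0 C0 D0 E0 G0 x y z : K} (A1 B1 C1 D1 E1 G1 : K)
    (h1 : 2 * A0 * x + B0 * y + D0 * z = 0)
    (h2 : B0 * x + 2 * C0 * y + E0 * z = 0)
    (h3 : D0 * x + E0 * y + 2 * G0 * z = 0) :
    x ^ 2 * dDisc A0 B0 C0 D0 E0 G0 A1 B1 C1 D1 E1 G1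
      = (4 * C0 * G0 - E0 ^ 2) * conicQ A1 B1 C1 D1 E1 G1 x y z := by
  unfold dDisc conicQ
  grind

/-- the discriminant polynomial of a family of conics -/
noncomputable def discPoly (pA pB pC pD pE pG : K[X]) : K[X] :=
  4 * pA * pC * pG + pB * pD * pE - pA * pE ^ 2 - pB ^ 2 * pG - pC * pD ^ 2

theorem eval_discPoly (pA pB pC pD pE pG : K[X]) (t : K) :
    (discPoly pA pB pC pD pE pG).eval t = conicDisc (pA.eval t) (pB.eval t) (pC.eval t)
      (pD.eval t) (pE.eval t) (pG.eval t) := by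
  unfold discPoly conicDisc
  simp only [eval_add, eval_sub, eval_mul, eval_pow, eval_ofNat]

theorem eval_derivative_discPoly (pA pB pC pD pE pG : K[X]) (t : K) :
    (derivative (discPoly pA pB pC pD pE pG)).eval t = dDisc (pA.eval t) (pB.eval t) (pC.eval t)
      (pD.eval t) (pE.eval t) (pG.eval t) ((derivative pA).eval t) ((derivative pB).eval t)
      ((derivative pC).eval t) ((derivative pD).eval t) ((derivative pE).eval t)
      ((derivative pG).eval t) := by
  unfold discPoly dDisc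
  simp only [derivative_add, derivative_sub, derivative_mul, derivative_pow, eval_add, eval_sub,
    eval_mul, eval_pow, eval_ofNat, derivative_ofNat, Nat.cast_ofNat, eval_zero, eval_C]
  ring

theorem natDegree_discPoly_explicit (a0 a1 b0 b1 c0 c1 d0 d1 d2 e0 e1 e2 g0 g1 g2 g3 : K)
    (h : 4 * a1 * c1 * g3 + b1 * d2 * e2 - a1 * e2 ^ 2 - b1 ^ 2 * g3 - c1 * d2 ^ 2 ≠ 0) :
    (discPoly (C a0 + C a1 * X) (C b0 + C b1 * X) (C c0 + C c1 * X)
      (C d0 + C d1 * X + C d2 * X ^ 2) (C e0 + C e1 * X + C e2 * X ^ 2)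
      (C g0 + C g1 * X + C g2 * X ^ 2 + C g3 * X ^ 3)).natDegree = 5 := by
  unfold discPoly
  compute_degree!

/-- two linear forms whose product is a conic of rank at most one are proportional -/
theorem parallel_of_minors {l m : Fin 3 → K}
    (h01 : l 0 * m 1 = l 1 * m 0) (h02 : l 0 * m 2 = l 2 * m 0) (h12 : l 1 * m 2 = l 2 * m 1) :
    (∀ x y z : K, lin l x y z = 0) ∨ ∃ c : K, ∀ x y z : K, lin m x y z = c * lin l x y z := by
  by_cases h0 : l 0 ≠ 0
  · right
    refine ⟨m 0 / l 0, fun x y z => ?_⟩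
    unfold lin
    field_simp
    linear_combination y * h01 + z * h02
  · rw [not_not] at h0
    by_cases h1 : l 1 ≠ 0
    · right
      refine ⟨m 1 / l 1, fun x y z => ?_⟩
      unfold lin
      field_simp
      linear_combination (-x) * h01 + z * h12
    · rw [not_not] at h1
      by_cases h2 : l 2 ≠ 0
      · right
        refine ⟨m 2 / l 2, fun x y z => ?_⟩
        unfold lin
        field_simp
        linear_combination (-x) * h02 + (-y) * h12
      · rw [not_not] at h2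
        left
        intro x y z
        unfold lin
        rw [h0, h1, h2]; ring

end Groth.Agent.Lib.H79Tri
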