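import Groth.Agent.Lib.H79Tri5

/-!
# The pencil of planes through a line on a smooth cubic surface
-/

open Groth.Agent.Lib.H79CubK Groth.Agent.Lib.H79Odp Polynomial

namespace Groth.Agent.Lib.H79Tri

variable {K : Type*} [Field K] [CharZero K] {V : Type*} [AddCommGroup V] [Module K V]

/-- a basis `e₁, e₂, a, b` such that `e₁, e₂` span a line on the cubic -/
structure LFrame (S : SymTri K V) where
  e₁ : V
  e₂ : V
  a : V
  b : V
  li : LinearIndependent K ![e₁, e₂, a, b]
  on : OnLine S e₁ e₂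

namespace LFrame

variable {S : SymTri K V} (fr : LFrame S)

theorem coeff_eq_zero {x y u v : K} (h0 : x • fr.e₁ + y • fr.e₂ + u • fr.a + v • fr.b = 0) :
    x = 0 ∧ y = 0 ∧ u = 0 ∧ v = 0 := by
  have := Fintype.linearIndependent_iff.mp fr.li ![x, y, u, v] (by
    rw [Fin.sum_univ_four]
    simpa using h0)
  exact ⟨this 0, this 1, this 2, this 3⟩

/-- the point of the pencil with parameter `t` -/
def w (t : K) : V := fr.a + t • fr.b

theorem li_w (t : K) : LinearIndependent K ![fr.e₁, fr.e₂, fr.w t] := by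
  apply li3_of
  intro α β γ h0
  have h1 : α • fr.e₁ + β • fr.e₂ + γ • fr.a + (γ * t) • fr.b = 0 := by
    rw [← h0]; unfold w; module
  obtain ⟨e1, e2, e3, -⟩ := fr.coeff_eq_zero h1
  exact ⟨e1, e2, e3⟩

theorem li_b : LinearIndependent K ![fr.e₁, fr.e₂, fr.b] := by
  apply li3_of
  intro α β γ h0
  have h1 : α • fr.e₁ + β • fr.e₂ + (0:K) • fr.a + γ • fr.b = 0 := by
    rw [← h0]; module
  obtain ⟨e1, e2, -, e4⟩ := fr.coeff_eq_zero h1
  exact ⟨e1, e2, e4⟩

noncomputable def pA : K[X] := C (3 * S.T fr.e₁ fr.e₁ fr.a) + C (3 * S.T fr.e₁ fr.e₁ fr.b) * X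
noncomputable def pB : K[X] := C (6 * S.T fr.e₁ fr.e₂ fr.a) + C (6 * S.T fr.e₁ fr.e₂ fr.b) * X
noncomputable def pC : K[X] := C (3 * S.T fr.e₂ fr.e₂ fr.a) + C (3 * S.T fr.e₂ fr.e₂ fr.b) * X
noncomputable def pD : K[X] :=
  C (3 * S.T fr.e₁ fr.a fr.a) + C (6 * S.T fr.e₁ fr.a fr.b) * X + C (3 * S.T fr.e₁ fr.b fr.b) * X ^ 2
noncomputable def pE : K[X] :=
  C (3 * S.T fr.e₂ fr.a fr.a) + C (6 * S.T fr.e₂ fr.a fr.b) * X + C (3 * S.T fr.e₂ fr.b fr.b) * X ^ 2
noncomputable def pG : K[X] :=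
  C (S.T fr.a fr.a fr.a) + C (3 * S.T fr.a fr.a fr.b) * X + C (3 * S.T fr.a fr.b fr.b) * X ^ 2
    + C (S.T fr.b fr.b fr.b) * X ^ 3

/-- the discriminant quintic of the pencil -/
noncomputable def p : K[X] := discPoly fr.pA fr.pB fr.pC fr.pD fr.pE fr.pG

theorem eval_pA (t : K) : fr.pA.eval t = cA S fr.e₁ fr.e₂ (fr.w t) := by
  unfold pA cA w
  simp only [eval_add, eval_mul, eval_C, eval_X, map_add, map_smul, smul_eq_mul]
  ring

theorem eval_pB (t : K) : fr.pB.eval t = cB S fr.e₁ fr.e₂ (fr.w t) := by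
  unfold pB cB w
  simp only [eval_add, eval_mul, eval_C, eval_X, map_add, map_smul, smul_eq_mul]
  ring

theorem eval_pC (t : K) : fr.pC.eval t = cC S fr.e₁ fr.e₂ (fr.w t) := by
  unfold pC cC w
  simp only [eval_add, eval_mul, eval_C, eval_X, map_add, map_smul, smul_eq_mul]
  ring

theorem eval_pD (t : K) : fr.pD.eval t = cD S fr.e₁ fr.e₂ (fr.w t) := by
  unfold pD cD w
  simp only [eval_add, eval_mul, eval_C, eval_X, eval_pow, map_add, map_smul, smul_eq_mul,
    LinearMap.add_apply, LinearMap.smul_apply]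
  rw [S.s23 fr.e₁ fr.b fr.a]
  ring

theorem eval_pE (t : K) : fr.pE.eval t = cE S fr.e₁ fr.e₂ (fr.w t) := by
  unfold pE cE w
  simp only [eval_add, eval_mul, eval_C, eval_X, eval_pow, map_add, map_smul, smul_eq_mul,
    LinearMap.add_apply, LinearMap.smul_apply]
  rw [S.s23 fr.e₂ fr.b fr.a]
  ring

theorem eval_pG (t : K) : fr.pG.eval t = cG S (fr.w t) := by
  unfold pG cG w
  rw [S.F_add_smul]
  simp only [eval_add, eval_mul, eval_C, eval_X, eval_pow]
  unfold SymTri.F
  ring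

theorem eval_p (t : K) : fr.p.eval t = disc S fr.e₁ fr.e₂ (fr.w t) := by
  unfold p disc
  rw [eval_discPoly, eval_pA, eval_pB, eval_pC, eval_pD, eval_pE, eval_pG]

theorem natDegree_p (hb : disc S fr.e₁ fr.e₂ fr.b ≠ 0) : fr.p.natDegree = 5 := by
  unfold p pA pB pC pD pE pG
  apply natDegree_discPoly_explicit
  unfold disc conicDisc cA cB cC cD cE cG SymTri.F at hb
  exact hb

theorem eval_d_pA (t : K) : (derivative fr.pA).eval t = cA S fr.e₁ fr.e₂ fr.b := by
  unfold pA cA
  simp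

theorem eval_d_pB (t : K) : (derivative fr.pB).eval t = cB S fr.e₁ fr.e₂ fr.b := by
  unfold pB cB
  simp

theorem eval_d_pC (t : K) : (derivative fr.pC).eval t = cC S fr.e₁ fr.e₂ fr.b := by
  unfold pC cC
  simp

theorem eval_d_pD (t : K) : (derivative fr.pD).eval t = 6 * S.T fr.e₁ (fr.w t) fr.b := by
  unfold pD w
  simp only [derivative_add, derivative_mul, derivative_C, derivative_X, derivative_X_pow,
    eval_add, eval_mul, eval_C, eval_X, eval_pow, zero_mul, zero_add, mul_one, map_add, map_smul,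
    LinearMap.add_apply, LinearMap.smul_apply, smul_eq_mul, Nat.cast_ofNat, eval_ofNat]
  ring

theorem eval_d_pE (t : K) : (derivative fr.pE).eval t = 6 * S.T fr.e₂ (fr.w t) fr.b := by
  unfold pE w
  simp only [derivative_add, derivative_mul, derivative_C, derivative_X, derivative_X_pow,
    eval_add, eval_mul, eval_C, eval_X, eval_pow, zero_mul, zero_add, mul_one, map_add, map_smul,
    LinearMap.add_apply, LinearMap.smul_apply, smul_eq_mul, Nat.cast_ofNat, eval_ofNat]
  ring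

theorem eval_d_pG (t : K) : (derivative fr.pG).eval t = 3 * S.T (fr.w t) (fr.w t) fr.b := by
  unfold pG w
  simp only [derivative_add, derivative_mul, derivative_C, derivative_X, derivative_X_pow,
    eval_add, eval_mul, eval_C, eval_X, eval_pow, zero_mul, zero_add, mul_one, map_add, map_smul,
    LinearMap.add_apply, LinearMap.smul_apply, smul_eq_mul, Nat.cast_ofNat, eval_ofNat]
  rw [S.s12 fr.b fr.a fr.b]
  ring

end LFrame

end Groth.Agent.Lib.H79Tri
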