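import Groth.Agent.Lib.H79Tri6

/-!
# The discriminant quintic has simple roots
-/

open Groth.Agent.Lib.H79CubK Groth.Agent.Lib.H79Odp Polynomial

namespace Groth.Agent.Lib.H79Tri

variable {K : Type*} [Field K] [CharZero K] {V : Type*} [AddCommGroup V] [Module K V]

namespace LFrame

variable {S : SymTri K V} (fr : LFrame S)

/-- `3 T(P,P,b)` in terms of the derivative conic -/
theorem derivConic_eq (t x y z : K) :
    conicQ (cA S fr.e₁ fr.e₂ fr.b) (cB S fr.e₁ fr.e₂ fr.b) (cC S fr.e₁ fr.e₂ fr.b)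
      (6 * S.T fr.e₁ (fr.w t) fr.b) (6 * S.T fr.e₂ (fr.w t) fr.b) (3 * S.T (fr.w t) (fr.w t) fr.b) x y z
    = 3 * S.T (x • fr.e₁ + y • fr.e₂ + z • fr.w t) (x • fr.e₁ + y • fr.e₂ + z • fr.w t) fr.b := by
  unfold conicQ cA cB cC
  simp only [map_add, map_smul, LinearMap.add_apply, LinearMap.smul_apply, smul_eq_mul]
  rw [S.s12 fr.e₂ fr.e₁ fr.b, S.s12 (fr.w t) fr.e₁ fr.b, S.s12 (fr.w t) fr.e₂ fr.b]
  ring

variable [IsAlgClosed K] [FiniteDimensional K V]

theorem no_double_root (hV : Module.finrank K V = 4) (hsm : S.Smooth) (t : K)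
    (h0 : fr.p.eval t = 0) (h1 : (derivative fr.p).eval t = 0) : False := by
  have hd : disc S fr.e₁ fr.e₂ (fr.w t) = 0 := by rw [← fr.eval_p]; exact h0
  have hd' := hd
  unfold disc at hd'
  obtain ⟨x, y, z, hne, k1, k2, k3⟩ := exists_kernel_of_disc_eq_zero _ _ _ _ _ _ hd'
  have hli := fr.li_w t
  have hon := fr.on
  obtain ⟨P, hP⟩ : ∃ P, P = x • fr.e₁ + y • fr.e₂ + z • fr.w t := ⟨_, rfl⟩
  have hP0 : P ≠ 0 := by
    intro h0
    rw [h0] at hP
    obtain ⟨e1, e2, e3⟩ := li3_coeff' hli hP.symm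
    rcases hne with h' | h' | h'
    · exact h' e1
    · exact h' e2
    · exact h' e3
  -- the tangent plane at P contains the plane
  have hPe₁ : S.T P P fr.e₁ = 0 := by
    have e := T_lin3 S fr.e₁ fr.e₂ (fr.w t) x y z x y z 1 0 0
    simp only [one_smul, zero_smul, add_zero] at e
    rw [hP, e, hon.h111, hon.h112, hon.h122, hon.h222]
    unfold cA cB cD at k1
    linear_combination (z / 3) * k1
  have hPe₂ : S.T P P fr.e₂ = 0 := by
    have e := T_lin3 S fr.e₁ fr.e₂ (fr.w t) x y z x y z 0 1 0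
    simp only [one_smul, zero_smul, add_zero, zero_add] at e
    rw [hP, e, hon.h111, hon.h112, hon.h122, hon.h222]
    unfold cB cC cE at k2
    linear_combination (z / 3) * k2
  have hPw : S.T P P (fr.w t) = 0 := by
    have e := T_lin3 S fr.e₁ fr.e₂ (fr.w t) x y z x y z 0 0 1
    simp only [one_smul, zero_smul, add_zero, zero_add] at e
    rw [hP, e, hon.h111, hon.h112, hon.h122, hon.h222]
    simp only [cA, cB, cC, cD, cE, cG, SymTri.F] at k1 k2 k3
    linear_combination (x / 6) * k1 + (y / 6) * k2 + (z / 6 + z / 3) * k3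
  have hFP : S.F P = 0 := by
    unfold SymTri.F
    have : S.T P P P = S.T P P (x • fr.e₁ + y • fr.e₂ + z • fr.w t) := by rw [← hP]
    rw [this, map_add, map_add, map_smul, map_smul, map_smul, hPe₁, hPe₂, hPw]
    simp
  obtain ⟨v, hv⟩ := hsm P hP0 hFP
  have hPb : S.T P P fr.b ≠ 0 := by
    intro hb
    apply hv
    obtain ⟨hsp, -⟩ := basis4 hV fr.li
    obtain ⟨c₁, c₂, c₃, c₄, rfl⟩ := hsp v
    have : c₁ • fr.e₁ + c₂ • fr.e₂ + c₃ • fr.a + c₄ • fr.b
        = c₁ • fr.e₁ + c₂ • fr.e₂ + c₃ • fr.w t + (c₄ - c₃ * t) • fr.b := by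
      unfold w; module
    rw [this, map_add, map_add, map_add, map_smul, map_smul, map_smul, map_smul, hPe₁, hPe₂, hPw, hb]
    simp
  -- the derivative conic at the singular point
  obtain ⟨R, hR⟩ : ∃ R, R = conicQ (cA S fr.e₁ fr.e₂ fr.b) (cB S fr.e₁ fr.e₂ fr.b)
      (cC S fr.e₁ fr.e₂ fr.b) (6 * S.T fr.e₁ (fr.w t) fr.b) (6 * S.T fr.e₂ (fr.w t) fr.b)
      (3 * S.T (fr.w t) (fr.w t) fr.b) x y z := ⟨_, rfl⟩
  have hR0 : R ≠ 0 := by
    rw [hR, fr.derivConic_eq, ← hP]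
    exact mul_ne_zero (by norm_num) hPb
  unfold p at h1
  rw [eval_derivative_discPoly, eval_pA, eval_pB, eval_pC, eval_pD, eval_pE, eval_pG, eval_d_pA,
    eval_d_pB, eval_d_pC, eval_d_pD, eval_d_pE, eval_d_pG] at h1
  have m1 := dDisc_z (cA S fr.e₁ fr.e₂ fr.b) (cB S fr.e₁ fr.e₂ fr.b) (cC S fr.e₁ fr.e₂ fr.b)
    (6 * S.T fr.e₁ (fr.w t) fr.b) (6 * S.T fr.e₂ (fr.w t) fr.b) (3 * S.T (fr.w t) (fr.w t) fr.b)
    k1 k2 k3
  have m2 := dDisc_y (cA S fr.e₁ fr.e₂ fr.b) (cB S fr.e₁ fr.e₂ fr.b) (cC S fr.e₁ fr.e₂ fr.b)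
    (6 * S.T fr.e₁ (fr.w t) fr.b) (6 * S.T fr.e₂ (fr.w t) fr.b) (3 * S.T (fr.w t) (fr.w t) fr.b)
    k1 k2 k3
  have m3 := dDisc_x (cA S fr.e₁ fr.e₂ fr.b) (cB S fr.e₁ fr.e₂ fr.b) (cC S fr.e₁ fr.e₂ fr.b)
    (6 * S.T fr.e₁ (fr.w t) fr.b) (6 * S.T fr.e₂ (fr.w t) fr.b) (3 * S.T (fr.w t) (fr.w t) fr.b)
    k1 k2 k3
  rw [h1, mul_zero, ← hR] at m1 m2 m3
  have n1 : 4 * cA S fr.e₁ fr.e₂ (fr.w t) * cC S fr.e₁ fr.e₂ (fr.w t)
      - cB S fr.e₁ fr.e₂ (fr.w t) ^ 2 = 0 := by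
    rcases mul_eq_zero.mp m1.symm with h' | h'
    · exact h'
    · exact absurd h' hR0
  have n2 : 4 * cA S fr.e₁ fr.e₂ (fr.w t) * cG S (fr.w t)
      - cD S fr.e₁ fr.e₂ (fr.w t) ^ 2 = 0 := by
    rcases mul_eq_zero.mp m2.symm with h' | h'
    · exact h'
    · exact absurd h' hR0
  have n3 : 4 * cC S fr.e₁ fr.e₂ (fr.w t) * cG S (fr.w t)
      - cE S fr.e₁ fr.e₂ (fr.w t) ^ 2 = 0 := by
    rcases mul_eq_zero.mp m3.symm with h' | h'
    · exact h'
    · exact absurd h' hR0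
  -- factor the conic
  obtain ⟨l, m, hfac⟩ := exists_factor_of_disc_eq_zero _ _ _ _ _ _ hd'
  have hF : ∀ x y z : K, S.F (x • fr.e₁ + y • fr.e₂ + z • fr.w t)
      = z * (lin l x y z * lin m x y z) := by
    intro x y z
    rw [F_plane hon, resQ, hfac]
  obtain ⟨cA', cB', cC', cD', cE', cG'⟩ := conic_ext (A' := l 0 * m 0)
    (B' := l 0 * m 1 + l 1 * m 0) (C' := l 1 * m 1) (D' := l 0 * m 2 + l 2 * m 0)
    (E' := l 1 * m 2 + l 2 * m 1) (G' := l 2 * m 2) (fun x y z => by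
    rw [hfac x y z, lin_mul_lin])
  rw [cA', cB', cC'] at n1
  rw [cA', cD', cG'] at n2
  rw [cC', cE', cG'] at n3
  have q1 : l 0 * m 1 = l 1 * m 0 := by
    have : (l 0 * m 1 - l 1 * m 0) ^ 2 = 0 := by linear_combination (-1 : K) * n1
    have := pow_eq_zero_iff (two_ne_zero) |>.mp this
    linear_combination this
  have q2 : l 0 * m 2 = l 2 * m 0 := by
    have : (l 0 * m 2 - l 2 * m 0) ^ 2 = 0 := by linear_combination (-1 : K) * n2
    have := pow_eq_zero_iff (two_ne_zero) |>.mp this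
    linear_combination this
  have q3 : l 1 * m 2 = l 2 * m 1 := by
    have : (l 1 * m 2 - l 2 * m 1) ^ 2 = 0 := by linear_combination (-1 : K) * n3
    have := pow_eq_zero_iff (two_ne_zero) |>.mp this
    linear_combination this
  rcases parallel_of_minors q1 q2 q3 with hl0 | ⟨c, hc⟩
  · exact no_square_factor S hV hsm hli l m (fun x y z => by rw [hF, hl0]; ring)
  · refine no_square_factor S hV hsm hli l ![0, 0, c] (fun x y z => ?_)
    rw [hF, hc]
    have e : lin ![0, 0, c] x y z = c * z := by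
      simp only [lin, Matrix.cons_val_zero, Matrix.cons_val_one, Matrix.cons_val_two,
        Matrix.head_cons, Matrix.tail_cons]; ring
    rw [e]; ring

theorem p_ne_zero (hV : Module.finrank K V = 4) (hsm : S.Smooth) : fr.p ≠ 0 := by
  intro h0
  exact fr.no_double_root hV hsm 0 (by rw [h0]; simp) (by rw [h0]; simp)

theorem nodup_roots_p (hV : Module.finrank K V = 4) (hsm : S.Smooth) : fr.p.roots.Nodup := by
  classical
  rw [Multiset.nodup_iff_count_le_one]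
  intro t
  rw [count_roots]
  by_contra hlt
  have h2 : 1 < rootMultiplicity t fr.p := by omega
  rw [one_lt_rootMultiplicity_iff_isRoot (fr.p_ne_zero hV hsm)] at h2
  exact fr.no_double_root hV hsm t h2.1 h2.2

theorem card_roots_p (hV : Module.finrank K V = 4) (hsm : S.Smooth)
    (hb : disc S fr.e₁ fr.e₂ fr.b ≠ 0) [DecidableEq K] : fr.p.roots.toFinset.card = 5 := by
  rw [Multiset.toFinset_card_of_nodup (fr.nodup_roots_p hV hsm),
    IsAlgClosed.card_roots_eq_natDegree, fr.natDegree_p hb]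

theorem mem_roots_p (hV : Module.finrank K V = 4) (hsm : S.Smooth) [DecidableEq K] (t : K) :
    t ∈ fr.p.roots.toFinset ↔ disc S fr.e₁ fr.e₂ (fr.w t) = 0 := by
  rw [Multiset.mem_toFinset, mem_roots (fr.p_ne_zero hV hsm), IsRoot.def, fr.eval_p]

end LFrame

end Groth.Agent.Lib.H79Tri
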