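import Groth.Agent.Lib.H79Tri7

/-!
# Exactly five tritangent planes through a line of a smooth cubic surface
-/

open Groth.Agent.Lib.H79CubK Groth.Agent.Lib.H79Odp Polynomial

namespace Groth.Agent.Lib.H79Tri

variable {K : Type*} [Field K] [CharZero K] {V : Type*} [AddCommGroup V] [Module K V]

theorem li4_reorder {a b c d : V} (h : LinearIndependent K ![d, c, a, b]) :
    LinearIndependent K ![a, b, c, d] := by
  rw [Fintype.linearIndependent_iff] at h ⊢
  intro g hg
  rw [Fin.sum_univ_four] at hg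
  have := h ![g 3, g 2, g 0, g 1] (by
    rw [Fin.sum_univ_four]
    simp only [Matrix.cons_val_zero, Matrix.cons_val_one, Matrix.cons_val_two,
      Matrix.cons_val_three, Matrix.head_cons, Matrix.tail_cons] at hg ⊢
    rw [← hg]; abel)
  intro i
  fin_cases i
  · exact this 2
  · exact this 3
  · exact this 1
  · exact this 0

/-- the tritangent condition for a plane `H` through the line `L` -/
def IsTritangent (S : SymTri K V) (L H : Submodule K V) : Prop :=
  Module.finrank K ↥H = 3 ∧ L ≤ H ∧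
    ∃ L' L'' : Submodule K V, Module.finrank K ↥L' = 2 ∧ Module.finrank K ↥L'' = 2 ∧
      L' ≠ L ∧ L'' ≠ L ∧ L' ≠ L'' ∧ L' ≤ H ∧ L'' ≤ H ∧
      (∀ u ∈ L', S.F u = 0) ∧ (∀ u ∈ L'', S.F u = 0)

variable [FiniteDimensional K V]

theorem exists_lframe (S : SymTri K V) (hV : Module.finrank K V = 4) {L : Submodule K V}
    (hL : Module.finrank K ↥L = 2) (hLS : ∀ u ∈ L, S.F u = 0) :
    ∃ fr : LFrame S, L = Submodule.span K {fr.e₁, fr.e₂} := by
  have hpos : 0 < Module.finrank K ↥L := by omega
  obtain ⟨⟨e₁, he₁L⟩, he₁⟩ := Module.finrank_pos_iff_exists_ne_zero.mp hpos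
  have he₁0 : e₁ ≠ 0 := fun h0 => he₁ (Subtype.ext h0)
  obtain ⟨e₂, he₂L, hli, hLeq⟩ := exists_gen_of_line he₁0 hL he₁L
  obtain ⟨a, ha⟩ := exists_linearIndependent_cons_of_lt_finrank hli (by omega)
  have ha' : LinearIndependent K ![a, e₁, e₂] := ha
  obtain ⟨b, hb⟩ := exists_linearIndependent_cons_of_lt_finrank ha' (by omega)
  have hb' : LinearIndependent K ![b, a, e₁, e₂] := hb
  have hon : OnLine S e₁ e₂ := by
    rw [hLeq, S.vanish_on_pair_iff] at hLS
    exact ⟨hLS.1, hLS.2.1, hLS.2.2.1, hLS.2.2.2⟩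
  exact ⟨⟨e₁, e₂, a, b, li4_reorder hb', hon⟩, hLeq⟩

namespace LFrame

variable {S : SymTri K V} (fr : LFrame S)

/-- the plane of the pencil with parameter `t` -/
def plane (t : K) : Submodule K V := Submodule.span K {fr.e₁, fr.e₂, fr.w t}

theorem plane_injective : Function.Injective fr.plane := by
  intro t t' htt
  have hmem : fr.w t' ∈ fr.plane t := by
    rw [htt]; unfold plane
    exact Submodule.subset_span (by simp)
  obtain ⟨x, y, z, hxyz⟩ := mem_span_triple hmem
  have h0 : x • fr.e₁ + y • fr.e₂ + (z - 1) • fr.a + (z * t - t') • fr.b = 0 := by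
    have : x • fr.e₁ + y • fr.e₂ + (z - 1) • fr.a + (z * t - t') • fr.b
        = (x • fr.e₁ + y • fr.e₂ + z • fr.w t) - fr.w t' := by unfold w; module
    rw [this, ← hxyz, sub_self]
  obtain ⟨-, -, e3, e4⟩ := fr.coeff_eq_zero h0
  have hz : z = 1 := by linear_combination e3
  rw [hz, one_mul] at e4
  linear_combination e4

theorem line_le_plane (t : K) : Submodule.span K {fr.e₁, fr.e₂} ≤ fr.plane t := by
  unfold plane
  apply Submodule.span_mono
  intro x hx
  rcases hx with rfl | rfl
  · simp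
  · simp

/-- every plane through the line is a member of the pencil or the plane at infinity -/
theorem plane_cases (hV : Module.finrank K V = 4) {H : Submodule K V}
    (hH : Module.finrank K ↥H = 3) (hLH : Submodule.span K {fr.e₁, fr.e₂} ≤ H) :
    (∃ t, H = fr.plane t) ∨ H = Submodule.span K {fr.e₁, fr.e₂, fr.b} := by
  have hL : Module.finrank K ↥(Submodule.span K ({fr.e₁, fr.e₂} : Set V)) = 2 :=
    finrank_span_pair_of_li (li_pair_of_triple fr.li_b)
  have he₁ : fr.e₁ ∈ H := hLH (Submodule.subset_span (by simp))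
  have he₂ : fr.e₂ ∈ H := hLH (Submodule.subset_span (by simp))
  have hh : ∃ h ∈ H, h ∉ Submodule.span K ({fr.e₁, fr.e₂} : Set V) := by
    by_contra hcon
    have hle : H ≤ Submodule.span K ({fr.e₁, fr.e₂} : Set V) := by
      intro h hh
      by_contra hh'
      exact hcon ⟨h, hh, hh'⟩
    have := Submodule.finrank_mono hle
    omega
  obtain ⟨h, hhH, hhL⟩ := hh
  obtain ⟨hsp, -⟩ := basis4 hV fr.li
  obtain ⟨x, y, u, v, rfl⟩ := hsp h
  have hw' : u • fr.a + v • fr.b ∈ H := by
    have : u • fr.a + v • fr.b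
        = (x • fr.e₁ + y • fr.e₂ + u • fr.a + v • fr.b) - x • fr.e₁ - y • fr.e₂ := by module
    rw [this]
    exact H.sub_mem (H.sub_mem hhH (H.smul_mem _ he₁)) (H.smul_mem _ he₂)
  by_cases hu : u = 0
  · right
    have hv : v ≠ 0 := by
      intro hv
      apply hhL
      rw [hu, hv, zero_smul, zero_smul, add_zero, add_zero]
      exact Submodule.mem_span_pair.mpr ⟨x, y, rfl⟩
    have hb : fr.b ∈ H := by
      rw [hu, zero_smul, zero_add] at hw'
      have : fr.b = v⁻¹ • (v • fr.b) := by rw [smul_smul, inv_mul_cancel₀ hv, one_smul]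
      rw [this]; exact H.smul_mem _ hw'
    symm
    apply Submodule.eq_of_le_of_finrank_eq
    · rw [Submodule.span_le]
      rintro z (rfl | rfl | rfl)
      · exact he₁
      · exact he₂
      · exact hb
    · rw [finrank_span_triple_of_li fr.li_b, hH]
  · left
    refine ⟨v / u, ?_⟩
    have hw : fr.w (v / u) ∈ H := by
      have : fr.w (v / u) = u⁻¹ • (u • fr.a + v • fr.b) := by
        unfold w
        rw [smul_add, smul_smul, smul_smul, inv_mul_cancel₀ hu, one_smul, div_eq_inv_mul]
      rw [this]; exact H.smul_mem _ hw'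
    symm
    apply Submodule.eq_of_le_of_finrank_eq
    · unfold plane
      rw [Submodule.span_le]
      rintro z (rfl | rfl | rfl)
      · exact he₁
      · exact he₂
      · exact hw
    · unfold plane
      rw [finrank_span_triple_of_li (fr.li_w _), hH]

variable [IsAlgClosed K]

theorem isTritangent_plane_iff (hV : Module.finrank K V = 4) (hsm : S.Smooth) (t : K) :
    IsTritangent S (Submodule.span K {fr.e₁, fr.e₂}) (fr.plane t)
      ↔ disc S fr.e₁ fr.e₂ (fr.w t) = 0 := by
  constructor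
  · rintro ⟨-, -, L', -, hL', -, hne, -, -, hle, -, hF, -⟩
    exact disc_eq_zero_of_line S (fr.li_w t) fr.on hL' hle hne hF
  · intro hd
    obtain ⟨L', L'', h1, h2, h3, h4, h5, h6, h7, h8, h9⟩ :=
      exists_lines_of_disc_eq_zero S hV hsm (fr.li_w t) fr.on hd
    exact ⟨finrank_span_triple_of_li (fr.li_w t), fr.line_le_plane t, L', L'', h1, h2, h3, h4, h5,
      h6, h7, h8, h9⟩

theorem not_isTritangent_b (hb : disc S fr.e₁ fr.e₂ fr.b ≠ 0) :
    ¬ IsTritangent S (Submodule.span K {fr.e₁, fr.e₂}) (Submodule.span K {fr.e₁, fr.e₂, fr.b}) := by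
  rintro ⟨-, -, L', -, hL', -, hne, -, -, hle, -, hF, -⟩
  exact hb (disc_eq_zero_of_line S fr.li_b fr.on hL' hle hne hF)

/-- exactly five tritangent planes -/
theorem ncard_tritangent (hV : Module.finrank K V = 4) (hsm : S.Smooth)
    (hb : disc S fr.e₁ fr.e₂ fr.b ≠ 0) :
    {H : Submodule K V | IsTritangent S (Submodule.span K {fr.e₁, fr.e₂}) H}.ncard = 5 := by
  classical
  have hset : {H : Submodule K V | IsTritangent S (Submodule.span K {fr.e₁, fr.e₂}) H}
      = fr.plane '' (↑(fr.p.roots.toFinset) : Set K) := by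
    ext H
    constructor
    · intro hH
      rcases fr.plane_cases hV hH.1 hH.2.1 with ⟨t, rfl⟩ | rfl
      · refine ⟨t, ?_, rfl⟩
        rw [Finset.mem_coe, fr.mem_roots_p hV hsm]
        exact (fr.isTritangent_plane_iff hV hsm t).mp hH
      · exact absurd hH (fr.not_isTritangent_b hb)
    · rintro ⟨t, ht, rfl⟩
      rw [Finset.mem_coe, fr.mem_roots_p hV hsm] at ht
      exact (fr.isTritangent_plane_iff hV hsm t).mpr ht
  rw [hset, Set.ncard_image_of_injective _ fr.plane_injective, Set.ncard_coe_finset,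
    fr.card_roots_p hV hsm hb]

end LFrame

/-- a frame adapted to the line whose plane at infinity is not tritangent -/
theorem exists_good_lframe [IsAlgClosed K] (S : SymTri K V) (hV : Module.finrank K V = 4)
    (hsm : S.Smooth) {L : Submodule K V} (hL : Module.finrank K ↥L = 2)
    (hLS : ∀ u ∈ L, S.F u = 0) :
    ∃ fr : LFrame S, L = Submodule.span K {fr.e₁, fr.e₂} ∧ disc S fr.e₁ fr.e₂ fr.b ≠ 0 := by
  obtain ⟨fr₀, hfr₀⟩ := exists_lframe S hV hL hLS
  have hp := fr₀.p_ne_zero hV hsm
  have : ∃ t₀, fr₀.p.eval t₀ ≠ 0 := by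
    by_contra hcon
    apply hp
    apply Polynomial.funext
    intro r
    rw [eval_zero]
    by_contra hr
    exact hcon ⟨r, hr⟩
  obtain ⟨t₀, ht₀⟩ := this
  rw [fr₀.eval_p] at ht₀
  have hli : LinearIndependent K ![fr₀.e₁, fr₀.e₂, fr₀.b, fr₀.w t₀] := by
    rw [Fintype.linearIndependent_iff]
    intro g hg
    rw [Fin.sum_univ_four] at hg
    simp only [Matrix.cons_val_zero, Matrix.cons_val_one, Matrix.cons_val_two,
      Matrix.cons_val_three, Matrix.head_cons, Matrix.tail_cons] at hg
    have h0 : g 0 • fr₀.e₁ + g 1 • fr₀.e₂ + g 3 • fr₀.a + (g 2 + g 3 * t₀) • fr₀.b = 0 := by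
      rw [← hg]; unfold LFrame.w; module
    obtain ⟨e0, e1, e3, e2⟩ := fr₀.coeff_eq_zero h0
    rw [e3] at e2
    intro i
    fin_cases i
    · exact e0
    · exact e1
    · simpa using e2
    · exact e3
  exact ⟨⟨fr₀.e₁, fr₀.e₂, fr₀.b, fr₀.w t₀, hli, fr₀.on⟩, hfr₀, ht₀⟩

/-- exactly five tritangent planes through a line of a smooth cubic surface -/
theorem ncard_tritangent_planes [IsAlgClosed K] (S : SymTri K V) (hV : Module.finrank K V = 4)
    (hsm : S.Smooth) {L : Submodule K V} (hL : Module.finrank K ↥L = 2)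
    (hLS : ∀ u ∈ L, S.F u = 0) :
    {H : Submodule K V | IsTritangent S L H}.ncard = 5 := by
  obtain ⟨fr, hfr, hb⟩ := exists_good_lframe S hV hsm hL hLS
  rw [hfr]
  exact fr.ncard_tritangent hV hsm hb

end Groth.Agent.Lib.H79Tri
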