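import Groth.Agent.Lib.H79Tri8

/-!
# Two disjoint lines on a smooth cubic surface containing a line
-/

open Groth.Agent.Lib.H79CubK Groth.Agent.Lib.H79Odp Polynomial

namespace Groth.Agent.Lib.H79Tri

variable {K : Type*} [Field K] [CharZero K] {V : Type*} [AddCommGroup V] [Module K V]

/-- on a line of the cubic, `T(v,v,u)` vanishes -/
theorem T_eq_zero_of_mem_line (S : SymTri K V) {U : Submodule K V} (hU : ∀ u ∈ U, S.F u = 0)
    {v u : V} (hv : v ∈ U) (hu : u ∈ U) : S.T v v u = 0 := by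
  have hvan : ∀ x ∈ Submodule.span K ({v, u} : Set V), S.F x = 0 := by
    intro x hx
    apply hU
    have : Submodule.span K ({v, u} : Set V) ≤ U := by
      rw [Submodule.span_le]
      rintro z (rfl | rfl)
      · exact hv
      · exact hu
    exact this hx
  rw [S.vanish_on_pair_iff] at hvan
  exact hvan.2.1

variable [FiniteDimensional K V]

theorem exists_off_line {e₁ e₂ w : V} (hli : LinearIndependent K ![e₁, e₂, w])
    {L' : Submodule K V} (hL' : Module.finrank K ↥L' = 2)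
    (hle : L' ≤ Submodule.span K {e₁, e₂, w}) (hne : L' ≠ Submodule.span K {e₁, e₂}) :
    ∃ r ∈ L', ∃ x y z : K, z ≠ 0 ∧ r = x • e₁ + y • e₂ + z • w := by
  have hL : Module.finrank K ↥(Submodule.span K ({e₁, e₂} : Set V)) = 2 :=
    finrank_span_pair_of_li (li_pair_of_triple hli)
  have hr : ∃ r ∈ L', r ∉ Submodule.span K ({e₁, e₂} : Set V) := by
    by_contra hcon
    apply hne
    apply Submodule.eq_of_le_of_finrank_eq
    · intro r hr
      by_contra hr'
      exact hcon ⟨r, hr, hr'⟩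
    · rw [hL', hL]
  obtain ⟨r, hrL', hrL⟩ := hr
  obtain ⟨x, y, z, hr⟩ := mem_span_triple (hle hrL')
  refine ⟨r, hrL', x, y, z, ?_, hr⟩
  intro hz
  apply hrL
  rw [hr, hz, zero_smul, add_zero]
  exact Submodule.mem_span_pair.mpr ⟨x, y, rfl⟩

/-- a smooth cubic surface containing a line contains two disjoint lines -/
theorem exists_disjoint_lines [IsAlgClosed K] (S : SymTri K V) (hV : Module.finrank K V = 4)
    (hsm : S.Smooth) {L : Submodule K V} (hL : Module.finrank K ↥L = 2)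
    (hLS : ∀ u ∈ L, S.F u = 0) :
    ∃ U₁ U₂ : Submodule K V, (Module.finrank K ↥U₁ = 2 ∧ ∀ u ∈ U₁, S.F u = 0) ∧
      (Module.finrank K ↥U₂ = 2 ∧ ∀ u ∈ U₂, S.F u = 0) ∧ U₁ ⊓ U₂ = ⊥ := by
  classical
  obtain ⟨fr, hfr, hb⟩ := exists_good_lframe S hV hsm hL hLS
  have hcard := fr.card_roots_p hV hsm hb
  have h1 : 1 < fr.p.roots.toFinset.card := by omega
  obtain ⟨t₁, ht₁, t₂, ht₂, htt⟩ := Finset.one_lt_card.mp h1
  rw [fr.mem_roots_p hV hsm] at ht₁ ht₂
  obtain ⟨U₁, -, hU₁, -, hne₁, -, -, hle₁, -, hF₁, -⟩ :=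
    exists_lines_of_disc_eq_zero S hV hsm (fr.li_w t₁) fr.on ht₁
  obtain ⟨U₂, -, hU₂, -, hne₂, -, -, hle₂, -, hF₂, -⟩ :=
    exists_lines_of_disc_eq_zero S hV hsm (fr.li_w t₂) fr.on ht₂
  refine ⟨U₁, U₂, ⟨hU₁, hF₁⟩, ⟨hU₂, hF₂⟩, ?_⟩
  rw [Submodule.eq_bot_iff]
  rintro v ⟨hv₁, hv₂⟩
  by_contra hv0
  -- v lies on the line L
  obtain ⟨x, y, z, hxyz⟩ := mem_span_triple (hle₁ hv₁)
  obtain ⟨x', y', z', hxyz'⟩ := mem_span_triple (hle₂ hv₂)
  have h0 : (x - x') • fr.e₁ + (y - y') • fr.e₂ + (z - z') • fr.a + (z * t₁ - z' * t₂) • fr.b = 0 := by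
    have : (x - x') • fr.e₁ + (y - y') • fr.e₂ + (z - z') • fr.a + (z * t₁ - z' * t₂) • fr.b
        = (x • fr.e₁ + y • fr.e₂ + z • fr.w t₁) - (x' • fr.e₁ + y' • fr.e₂ + z' • fr.w t₂) := by
      unfold LFrame.w; module
    rw [this, ← hxyz, ← hxyz', sub_self]
  obtain ⟨-, -, e3, e4⟩ := fr.coeff_eq_zero h0
  have hz : z = 0 := by
    have hzz : z' = z := by linear_combination (-1 : K) * e3
    rw [hzz] at e4
    have : z * (t₁ - t₂) = 0 := by linear_combination e4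
    rcases mul_eq_zero.mp this with h' | h'
    · exact h'
    · exact absurd (sub_eq_zero.mp h') htt
  have hvL : v ∈ Submodule.span K ({fr.e₁, fr.e₂} : Set V) := by
    rw [hxyz, hz, zero_smul, add_zero]
    exact Submodule.mem_span_pair.mpr ⟨x, y, rfl⟩
  have hLS' : ∀ u ∈ Submodule.span K ({fr.e₁, fr.e₂} : Set V), S.F u = 0 := by
    rw [← hfr]; exact hLS
  -- the tangent plane at v contains everything
  have he₁ : S.T v v fr.e₁ = 0 :=
    T_eq_zero_of_mem_line S hLS' hvL (Submodule.subset_span (by simp))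
  have he₂ : S.T v v fr.e₂ = 0 :=
    T_eq_zero_of_mem_line S hLS' hvL (Submodule.subset_span (by simp))
  have hw : ∀ (t : K) (U : Submodule K V), Module.finrank K ↥U = 2 →
      U ≤ Submodule.span K {fr.e₁, fr.e₂, fr.w t} → U ≠ Submodule.span K {fr.e₁, fr.e₂} →
      (∀ u ∈ U, S.F u = 0) → v ∈ U → S.T v v (fr.w t) = 0 := by
    intro t U hU hle hne hF hvU
    obtain ⟨r, hrU, xr, yr, zr, hzr, hr⟩ := exists_off_line (fr.li_w t) hU hle hne
    have h1 := T_eq_zero_of_mem_line S hF hvU hrU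
    rw [hr, map_add, map_add, map_smul, map_smul, map_smul, he₁, he₂] at h1
    simp only [smul_eq_mul, mul_zero, zero_add] at h1
    rcases mul_eq_zero.mp h1 with h' | h'
    · exact absurd h' hzr
    · exact h'
  have hw₁ := hw t₁ U₁ hU₁ hle₁ hne₁ hF₁ hv₁
  have hw₂ := hw t₂ U₂ hU₂ hle₂ hne₂ hF₂ hv₂
  unfold LFrame.w at hw₁ hw₂
  rw [map_add, map_smul, smul_eq_mul] at hw₁ hw₂
  have hbb : S.T v v fr.b = 0 := by
    have : (t₁ - t₂) * S.T v v fr.b = 0 := by linear_combination hw₁ - hw₂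
    rcases mul_eq_zero.mp this with h' | h'
    · exact absurd (sub_eq_zero.mp h') htt
    · exact h'
  have haa : S.T v v fr.a = 0 := by
    rw [hbb] at hw₁
    linear_combination hw₁
  obtain ⟨u, hu⟩ := hsm v hv0 (hLS' v hvL)
  apply hu
  obtain ⟨hsp, -⟩ := basis4 hV fr.li
  obtain ⟨c₁, c₂, c₃, c₄, rfl⟩ := hsp u
  rw [map_add, map_add, map_add, map_smul, map_smul, map_smul, map_smul, he₁, he₂, haa, hbb]
  simp

end Groth.Agent.Lib.H79Tri
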