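import Groth.Agent.Lib.H79FlatGenFibDimRing
import Groth.Agent.Lib.OpenAt45
import Groth.Agent.Lib.H56LocDimRing2
import Groth.Agent.Lib.CMQF33d
import Mathlib

/-!
# helper79: quasi-finite charts with a prescribed first parameter (ring level, generic lemmas)

* `exists_prime_le_of_isOpenAt`: if `Spec B → Spec A` is open at `q`, every generization `P₀` of
  `q ∩ A` lifts to a generization of `q`;
* `quasiFiniteAt_of_surjective_quotient`: quasi-finiteness at a prime `q'` of `C'` over `A` from
  quasi-finiteness of a quotient `D'` of `C'` over a quotient `A'` of `A`, when `ker (C' → D')` is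
  generated by the image of `ker (A → A')`;
* `injective_algebraMap_of_quasiFinite`: a quasi-finite domain `B` over `V[T_1..T_m]` with
  `m ≤ trdeg_V B` is an injective `V[T]`-algebra.
-/

set_option autoImplicit false
set_option linter.style.haveILetI false
universe u
open TopologicalSpace Topology TensorProduct

namespace Groth.Agent.Lib.H79ValChart

open Groth.Agent.Lib.H56LocDim Groth.Agent.Lib.H79FlatGenFibDimRing

/-- Openness at a point lifts generizations (ring form). -/
theorem exists_prime_le_of_isOpenAt {A B : Type*} [CommRing A] [CommRing B] [Algebra A B]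
    (q : Ideal B) [hq : q.IsPrime]
    (hopen : EGA43.IsOpenAt (PrimeSpectrum.comap (algebraMap A B)) ⟨q, hq⟩)
    (P₀ : Ideal A) [hP₀ : P₀.IsPrime] (hle : P₀ ≤ q.under A) :
    ∃ P : Ideal B, P.IsPrime ∧ P ≤ q ∧ P.under A = P₀ := by
  refine Groth.Agent.Lib.OpenAt45.exists_le_prime_comap_eq (algebraMap A B) q P₀ ?_
  intro s hs
  have hN : (PrimeSpectrum.basicOpen s : Set (PrimeSpectrum B)) ∈ nhds (⟨q, hq⟩ : PrimeSpectrum B) :=
    (PrimeSpectrum.basicOpen s).isOpen.mem_nhds hs
  have h1 := hopen _ hN
  have hsp : (⟨P₀, hP₀⟩ : PrimeSpectrum A) ⤳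
      PrimeSpectrum.comap (algebraMap A B) ⟨q, hq⟩ :=
    (PrimeSpectrum.le_iff_specializes _ _).1 hle
  obtain ⟨x, hx, hxP⟩ := mem_of_mem_nhds (hsp h1)
  exact ⟨x.asIdeal, x.isPrime, hx, congrArg PrimeSpectrum.asIdeal hxP⟩

/-- Quasi-finiteness at a prime from quasi-finiteness of a quotient situation. -/
theorem quasiFiniteAt_of_surjective_quotient {A A' C' D' : Type u} [CommRing A] [CommRing A']
    [CommRing C'] [CommRing D'] [Algebra A C'] [Algebra.FiniteType A C'] [Algebra A' D']
    [Algebra.QuasiFinite A' D'] (ev : A →+* A') (hev : Function.Surjective ev)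
    (π : C' →+* D') (hπ : Function.Surjective π)
    (hcomp : π.comp (algebraMap A C') = (algebraMap A' D').comp ev)
    (hker : RingHom.ker π ≤ (RingHom.ker ev).map (algebraMap A C'))
    (q' : Ideal C') [q'.IsPrime] (hq' : RingHom.ker π ≤ q') :
    Algebra.QuasiFiniteAt A q' := by
  apply Groth.Agent.Lib.CMQF33.quasiFiniteAt_of_forall_eq
  intro q'' hq''prime hunder hcmp
  have hcompx : ∀ a : A, π (algebraMap A C' a) = algebraMap A' D' (ev a) := fun a =>
    congrArg (fun f : A →+* D' => f a) hcomp
  -- `ker π ≤ q''`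
  have hkerev : RingHom.ker ev ≤ q'.under A := by
    intro a ha
    rw [Ideal.under_def, Ideal.mem_comap]
    apply hq'
    rw [RingHom.mem_ker, hcompx, (RingHom.mem_ker).1 ha, map_zero]
  have hq'' : RingHom.ker π ≤ q'' := by
    refine hker.trans ?_
    rw [Ideal.map_le_iff_le_comap]
    intro a ha
    have : a ∈ q''.under A := hunder ▸ hkerev ha
    exact this
  -- images in `D'`
  have hmapprime : ∀ (I : Ideal C') [I.IsPrime], RingHom.ker π ≤ I → (I.map π).IsPrime :=
    fun I _ hI => Ideal.map_isPrime_of_surjective hπ hI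
  have hcomapmap : ∀ (I : Ideal C'), RingHom.ker π ≤ I → (I.map π).comap π = I := by
    intro I hI
    rw [Ideal.comap_map_of_surjective π hπ, ← RingHom.ker_eq_comap_bot, sup_eq_left]
    exact hI
  haveI h1 := hmapprime q' hq'
  haveI h2 := hmapprime q'' hq''
  have hunderD : ∀ (I : Ideal C'), RingHom.ker π ≤ I →
      (I.map π).under A' = (I.under A).map ev := by
    intro I hI
    ext a'
    obtain ⟨a, rfl⟩ := hev a'
    rw [Ideal.under_def, Ideal.mem_comap, ← hcompx]
    constructor
    · intro h
      have : algebraMap A C' a ∈ (I.map π).comap π := h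
      rw [hcomapmap I hI] at this
      exact Ideal.mem_map_of_mem ev this
    · intro h
      rw [Ideal.mem_map_iff_of_surjective ev hev] at h
      obtain ⟨b, hb, hba⟩ := h
      have hb' : algebraMap A C' b ∈ I := hb
      have : π (algebraMap A C' b) = π (algebraMap A C' a) := by
        rw [hcompx, hcompx, hba]
      rw [← this]
      exact Ideal.mem_map_of_mem π hb'
  have hu : (q''.map π).under A' = (q'.map π).under A' := by
    rw [hunderD q'' hq'', hunderD q' hq', hunder]
  have heq : q''.map π = q'.map π := by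
    rcases hcmp with hle | hle
    · exact Algebra.QuasiFinite.eq_of_le_of_under_eq (R := A') _ _ (Ideal.map_mono hle) hu
    · exact (Algebra.QuasiFinite.eq_of_le_of_under_eq (R := A') _ _ (Ideal.map_mono hle)
        hu.symm).symm
  rw [← hcomapmap q'' hq'', ← hcomapmap q' hq', heq]

section Injective

variable {V : Type u} [CommRing V] [IsDomain V]

/-- the generic fibre ring of a finite type extension of domains has dimension the transcendence
degree -/
theorem ringKrullDim_fiber_bot {C : Type u} [CommRing C] [IsDomain C] [Algebra V C]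
    [FaithfulSMul V C] [Algebra.FiniteType V C] (n : ℕ) (hn : Algebra.trdeg V C = n) :
    ringKrullDim ((⊥ : Ideal V).Fiber C) = (n : WithBot ℕ∞) := by
  rw [← fibLocDim_bot (A := V) (C := C) n hn]
  haveI : (⊥ : Ideal C).IsPrime := Ideal.isPrime_bot
  have hbot : (⊥ : Ideal C).under V = ⊥ := by
    rw [Ideal.under_def]
    exact Ideal.comap_bot_of_injective _ (FaithfulSMul.algebraMap_injective V C)
  obtain ⟨Q, hQprime, hQ⟩ := Groth.Agent.Lib.CMQF33.exists_fiber_prime (⊥ : Ideal V) (⊥ : Ideal C) hbot
  have h1 := fibLocDim_eq_localDim_fiber (R := V) (S := C) ⟨⊥, Ideal.isPrime_bot⟩ ⟨Q, hQprime⟩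
  have hpt : PrimeSpectrum.comap (Algebra.TensorProduct.includeRight.toRingHom :
      C →+* (⊥ : Ideal V).Fiber C) ⟨Q, hQprime⟩ = ⟨⊥, inferInstance⟩ := PrimeSpectrum.ext hQ
  rw [hpt] at h1
  rw [h1]
  exact (localDim_primeSpectrum_of_isDomain (⊥ : Ideal V).ResidueField _ _).symm

/-- A quasi-finite domain `B` over a domain `A` (both over `V`) whose generic fibre has dimension
`m ≤ trdeg_V B` is an injective `A`-algebra. -/
theorem injective_algebraMap_of_quasiFinite' (m n : ℕ) {A B : Type u} [CommRing A] [IsDomain A]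
    [Algebra V A] [FaithfulSMul V A] [CommRing B] [IsDomain B]
    [Algebra V B] [FaithfulSMul V B] [Algebra.FiniteType V B]
    [Algebra A B] [IsScalarTower V A B] [Algebra.QuasiFinite A B]
    (hA : ringKrullDim ((⊥ : Ideal V).Fiber A) = (m : WithBot ℕ∞))
    (hn : Algebra.trdeg V B = n) (hmn : m ≤ n) :
    Function.Injective (algebraMap A B) := by
  rw [injective_iff_map_eq_zero]
  intro k hk
  by_contra hk0
  let I : Ideal A := Ideal.span {k}
  let P₁ := A ⧸ I
  have hI : I ≤ RingHom.ker (algebraMap A B) := by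
    rw [Ideal.span_le]
    intro x hx
    rw [Set.mem_singleton_iff] at hx
    rw [hx]
    exact hk
  letI algP : Algebra P₁ B := (Ideal.Quotient.lift I (algebraMap A B) (fun a ha => hI ha)).toAlgebra
  haveI towA : IsScalarTower A P₁ B := by
    refine ⟨fun a p b => ?_⟩
    obtain ⟨x, rfl⟩ := Ideal.Quotient.mk_surjective p
    have e1 : a • (Ideal.Quotient.mk I) x = (Ideal.Quotient.mk I) (a * x) := rfl
    have e2 : ∀ (y : A) (b' : B), (Ideal.Quotient.mk I y : P₁) • b' = algebraMap A B y * b' :=
      fun y b' => rfl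
    rw [e1, e2, e2, Algebra.smul_def, map_mul, mul_assoc]
  haveI towV : IsScalarTower V P₁ B := IsScalarTower.of_algebraMap_eq (fun v => by
    rw [IsScalarTower.algebraMap_apply V A B, IsScalarTower.algebraMap_apply V A P₁]
    rfl)
  haveI : Algebra.QuasiFinite P₁ B := Algebra.QuasiFinite.of_restrictScalars A P₁ B
  have h1 := ringKrullDim_fiber_le_of_quasiFinite (R := V) (P := P₁) (B := B) (⊥ : Ideal V)
  rw [ringKrullDim_fiber_bot n hn] at h1
  -- the fibre of `P₁` is a quotient of the fibre of `A` by a nonzero element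
  let FA := (⊥ : Ideal V).Fiber A
  let FP := (⊥ : Ideal V).Fiber P₁
  let θ : FA →ₐ[(⊥ : Ideal V).ResidueField] FP :=
    Algebra.TensorProduct.map (AlgHom.id _ _) (Ideal.Quotient.mkₐ V I)
  have hθ : Function.Surjective θ :=
    Algebra.TensorProduct.map_surjective _ _ Function.surjective_id Ideal.Quotient.mk_surjective
  let z : FA := (1 : (⊥ : Ideal V).ResidueField) ⊗ₜ[V] k
  have hz0 : z ≠ 0 := by
    intro h
    have h2 := congrArg (fiberBotToFrac (A := V) (C := A)) h
    rw [fiberBotToFrac_one_tmul, map_zero] at h2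
    exact hk0 ((IsFractionRing.injective A (FractionRing A)) (h2.trans (map_zero _).symm))
  have hθz : θ z = 0 := by
    change (Algebra.TensorProduct.map (AlgHom.id _ _) (Ideal.Quotient.mkₐ V I))
      ((1 : (⊥ : Ideal V).ResidueField) ⊗ₜ[V] k) = 0
    rw [Algebra.TensorProduct.map_tmul]
    have : (Ideal.Quotient.mkₐ V I) k = 0 := by
      rw [Ideal.Quotient.mkₐ_eq_mk, Ideal.Quotient.eq_zero_iff_mem]
      exact Ideal.subset_span rfl
    rw [this, TensorProduct.tmul_zero]
  let θ' : FA ⧸ Ideal.span {z} →+* FP := Ideal.Quotient.lift (Ideal.span {z}) θ.toRingHom (by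
    intro a ha
    obtain ⟨c, rfl⟩ := Ideal.mem_span_singleton'.1 ha
    change θ (c * z) = 0
    rw [map_mul, hθz, mul_zero])
  have hθ' : Function.Surjective θ' := by
    intro y
    obtain ⟨x, rfl⟩ := hθ y
    exact ⟨Ideal.Quotient.mk _ x, rfl⟩
  have h2 : ringKrullDim FP ≤ ringKrullDim (FA ⧸ Ideal.span {z}) :=
    ringKrullDim_le_of_surjective θ' hθ'
  have h3 : ringKrullDim (FA ⧸ Ideal.span {z}) + 1 ≤ ringKrullDim FA :=
    ringKrullDim_quotient_succ_le_of_nonZeroDivisor (mem_nonZeroDivisors_of_ne_zero hz0)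
  rw [hA] at h3
  have h5 : ((n : ℕ) : WithBot ℕ∞) + 1 ≤ (m : WithBot ℕ∞) :=
    (add_le_add_left (h1.trans h2) 1).trans h3
  have h6 : n + 1 ≤ m := by exact_mod_cast h5
  omega

/-- A quasi-finite domain over `V[T_1..T_m]` with `m ≤ trdeg_V B` is an injective algebra. -/
theorem injective_algebraMap_of_quasiFinite (m n : ℕ) {B : Type u} [CommRing B] [IsDomain B]
    [Algebra V B] [FaithfulSMul V B] [Algebra.FiniteType V B]
    [Algebra (MvPolynomial (Fin m) V) B] [IsScalarTower V (MvPolynomial (Fin m) V) B]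
    [Algebra.QuasiFinite (MvPolynomial (Fin m) V) B]
    (hn : Algebra.trdeg V B = n) (hmn : m ≤ n) :
    Function.Injective (algebraMap (MvPolynomial (Fin m) V) B) :=
  injective_algebraMap_of_quasiFinite' m n (ringKrullDim_fiber_mvPolynomial (⊥ : Ideal V) m) hn hmn

end Injective

end Groth.Agent.Lib.H79ValChart
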