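import Groth.Agent.Lib.H79ValChart
import Groth.Agent.Lib.H56PruferDim
import Groth.Agent.Lib.H56ValFib
import Groth.Agent.Lib.H56ClosedFib1
import Groth.Agent.Lib.GenericFibrePoint2
import Mathlib

/-!
# helper79: horizontal components of a hypersurface in a flat family over a valuation ring

* `exists_fibLocDim_quotient_eq`: for a flat finite type extension of domains `V ⊆ C`, a prime `q`
  and `g ∈ q` lying in no minimal prime of `(q ∩ V) C` contained in `q`, the local fibre dimension
  of `C ⧸ g` at `q` is at most `trdeg_V C - 1`;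
* `exists_horizontal_prime`: over a valuation ring `V`, in this situation there is a prime
  `P ⊆ q` of `C` with `g ∈ P` and `P ∩ V = 0`.
-/

set_option autoImplicit false
set_option linter.style.haveILetI false
universe u
open TopologicalSpace Topology TensorProduct AlgebraicGeometry

namespace Groth.Agent.Lib.H79ValChart

open Groth.Agent.Lib.H56LocDim Groth.Agent.Lib.H79FlatGenFibDimRing Groth.Agent.Lib.H56SpecTrdeg
  Groth.Agent.Lib.H56OpenDim Groth.Agent.Lib.H56PruferDim Groth.Agent.Lib.H56ValTrdeg

section Step1

variable {V : Type u} [CommRing V] [IsDomain V] {C : Type u} [CommRing C] [IsDomain C]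
  [Algebra V C] [FaithfulSMul V C] [Algebra.FiniteType V C]

/-- **Cutting by a fibrewise non-zero-divisor lowers the local fibre dimension.** -/
theorem exists_fibLocDim_quotient_eq [Module.Flat V C] (q : Ideal C) [hq : q.IsPrime] (g : C)
    (hg : g ∈ q)
    (hmin : ∀ Q ∈ ((q.under V).map (algebraMap V C)).minimalPrimes, Q ≤ q → g ∉ Q)
    (n : ℕ) (hn : Algebra.trdeg V C = n) :
    ∃ (n' : ℕ) (hq' : (q.map (Ideal.Quotient.mk (Ideal.span {g}))).IsPrime),
      fibLocDim (PrimeSpectrum.comap (algebraMap V (C ⧸ Ideal.span {g})))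
        ⟨q.map (Ideal.Quotient.mk (Ideal.span {g})), hq'⟩ = (n' : WithBot ℕ∞) ∧ n' + 1 ≤ n := by
  set I : Ideal C := Ideal.span {g} with hI
  have hIq : I ≤ q := (Ideal.span_singleton_le_iff_mem q).mpr hg
  have hq' : (q.map (Ideal.Quotient.mk I)).IsPrime :=
    Ideal.map_isPrime_of_surjective Ideal.Quotient.mk_surjective (by rwa [Ideal.mk_ker])
  have hcomap : (q.map (Ideal.Quotient.mk I)).comap (Ideal.Quotient.mk I) = q := by
    rw [Ideal.comap_map_of_surjective _ Ideal.Quotient.mk_surjective, ← RingHom.ker_eq_comap_bot,
      Ideal.mk_ker, sup_eq_left.mpr hIq]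
  let x : PrimeSpectrum (C ⧸ I) := ⟨q.map (Ideal.Quotient.mk I), hq'⟩
  obtain ⟨w, hwx, hfw, -, hw⟩ := exists_maxInFibre_fibreDimAt_eq (sp V (C ⧸ I)) x
  rw [fibreDimAt_specMap] at hw
  refine ⟨tdeg (sp V (C ⧸ I)) w, hq', hw, ?_⟩
  -- the prime of `C` below `w`
  let w' : PrimeSpectrum (C ⧸ I) := w
  let wC : PrimeSpectrum C := PrimeSpectrum.comap (Ideal.Quotient.mk I) w'
  have hwCq : wC.asIdeal ≤ q := by
    have h1 : w'.asIdeal ≤ x.asIdeal := le_of_specializes hwx
    have h2 : wC.asIdeal ≤ (q.map (Ideal.Quotient.mk I)).comap (Ideal.Quotient.mk I) :=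
      Ideal.comap_mono h1
    rwa [hcomap] at h2
  have hgwC : g ∈ wC.asIdeal := by
    change Ideal.Quotient.mk I g ∈ w'.asIdeal
    have : Ideal.Quotient.mk I g = 0 :=
      Ideal.Quotient.eq_zero_iff_mem.mpr (Ideal.mem_span_singleton_self g)
    rw [this]; exact Ideal.zero_mem _
  have hwCV : wC.asIdeal.under V = q.under V := by
    have h1 : PrimeSpectrum.comap (algebraMap V (C ⧸ I)) w' =
        PrimeSpectrum.comap (algebraMap V (C ⧸ I)) x := hfw
    have h2 : w'.asIdeal.comap (algebraMap V (C ⧸ I)) =
        (q.map (Ideal.Quotient.mk I)).comap (algebraMap V (C ⧸ I)) :=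
      congrArg PrimeSpectrum.asIdeal h1
    ext v
    have h3 : v ∈ w'.asIdeal.comap (algebraMap V (C ⧸ I)) ↔
        v ∈ (q.map (Ideal.Quotient.mk I)).comap (algebraMap V (C ⧸ I)) := by rw [h2]
    rw [Ideal.mem_comap, Ideal.mem_comap, IsScalarTower.algebraMap_apply V C (C ⧸ I),
      Ideal.Quotient.algebraMap_eq, ← Ideal.mem_comap, ← Ideal.mem_comap (K := q.map _),
      hcomap] at h3
    exact h3
  have htd : tdeg (sp V (C ⧸ I)) w = tdeg (sp V C) wC := tdeg_quot (R := V) I w'
  -- a minimal prime of the fibre ideal below `wC`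
  have hle : (q.under V).map (algebraMap V C) ≤ wC.asIdeal := by
    rw [Ideal.map_le_iff_le_comap, ← Ideal.under_def, hwCV]
  obtain ⟨Q, hQmin, hQle⟩ := Ideal.exists_minimalPrimes_le hle
  have hQprime : Q.IsPrime := hQmin.1.1
  have hgQ : g ∉ Q := hmin Q hQmin (hQle.trans hwCq)
  have hQV : Q.under V = q.under V := by
    apply le_antisymm
    · exact Ideal.comap_mono (hQle.trans hwCq)
    · have := hQmin.1.2
      rw [Ideal.map_le_iff_le_comap] at this
      exact this
  let Q' : PrimeSpectrum C := ⟨Q, hQprime⟩
  have hne : (show ↥(Spec (CommRingCat.of C)) from Q') ≠ wC := by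
    intro h
    apply hgQ
    have : Q'.asIdeal = wC.asIdeal := congrArg PrimeSpectrum.asIdeal h
    change g ∈ Q'.asIdeal
    rw [this]; exact hgwC
  have hlt : tdeg (sp V C) wC < tdeg (sp V C) Q' := by
    refine tdeg_lt_of_specializes_of_ne (sp V C) Q' wC (specializes_of_le hQle) ?_ hne
    rw [sp_apply, sp_apply]
    apply PrimeSpectrum.ext
    change Q.comap (algebraMap V C) = wC.asIdeal.comap (algebraMap V C)
    rw [← Ideal.under_def, ← Ideal.under_def, hQV, hwCV]
  have hflat : Module.Flat V (Localization.AtPrime Q) := Module.Flat.trans V C _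
  have hQn : (tdeg (sp V C) Q' : WithBot ℕ∞) ≤ (n : WithBot ℕ∞) := by
    have h1 := tdeg_le_fibreDimAt (sp V C) Q'
    rw [fibreDimAt_specMap] at h1
    have h2 := fibLocDim_eq_trdeg_of_flat (A := V) Q n hn
    change (tdeg (sp V C) Q' : WithBot ℕ∞) ≤
      fibLocDim (PrimeSpectrum.comap (algebraMap V C)) ⟨Q, hQprime⟩ at h1
    rwa [h2] at h1
  have hQn' : tdeg (sp V C) Q' ≤ n := by exact_mod_cast hQn
  rw [htd]
  omega

end Step1

section Core

/-- Localizing a domain at one nonzero element does not change the transcendence degree. -/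
theorem trdeg_localization_away {V C : Type u} [CommRing V] [Nontrivial V] [CommRing C]
    [IsDomain C] [Algebra V C] [FaithfulSMul V C] (r : C) (hr : r ≠ 0) :
    Algebra.trdeg V (Localization.Away r) = Algebra.trdeg V C := by
  have hle : Submonoid.powers r ≤ nonZeroDivisors C :=
    powers_le_nonZeroDivisors_of_noZeroDivisors hr
  haveI : IsDomain (Localization.Away r) := IsLocalization.isDomain_localization hle
  haveI : FaithfulSMul C (Localization.Away r) :=
    (faithfulSMul_iff_algebraMap_injective _ _).mpr (IsLocalization.injective _ hle)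
  haveI : Algebra.IsAlgebraic C (Localization.Away r) :=
    IsLocalization.isAlgebraic _ (Submonoid.powers r)
  rw [← trdeg_add_eq V C (A := Localization.Away r), _root_.trdeg_eq_zero (R := C), add_zero]

/-- polynomial rings in finitely many variables over a normal domain are normal -/
theorem isIntegrallyClosed_mvPolynomial_fin (A : Type u) [CommRing A] [IsDomain A]
    [IsIntegrallyClosed A] (n : ℕ) : IsIntegrallyClosed (MvPolynomial (Fin n) A) := by
  induction n with
  | zero => exact IsIntegrallyClosed.of_equiv (MvPolynomial.isEmptyRingEquiv A (Fin 0)).symm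
  | succ n ih =>
    exact IsIntegrallyClosed.of_equiv (MvPolynomial.finSuccEquiv A n).symm.toRingEquiv

variable {V : Type u} [CommRing V] [IsDomain V] [ValuationRing V] {C : Type u} [CommRing C]
  [IsDomain C] [Algebra V C] [FaithfulSMul V C] [Algebra.FiniteType V C]

/-- **Horizontal components of a hypersurface over a valuation ring.** Let `V ⊆ C` be a finite type
extension of domains over a valuation ring, `q` a prime of `C` and `g ∈ q` lying in no minimal prime
of `(q ∩ V) C` contained in `q`. Then some prime `P ⊆ q` of the generic fibre contains `g`. -/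
theorem exists_horizontal_prime (q : Ideal C) [hq : q.IsPrime] (g : C) (hg : g ∈ q)
    (hmin : ∀ Q ∈ ((q.under V).map (algebraMap V C)).minimalPrimes, Q ≤ q → g ∉ Q) :
    ∃ P : Ideal C, P.IsPrime ∧ P ≤ q ∧ g ∈ P ∧ P.under V = ⊥ := by
  classical
  have hflat : Module.Flat V C := by
    rw [Module.Flat.flat_iff_torsion_eq_bot_of_isBezout,
      ← Submodule.isTorsionFree_iff_torsion_eq_bot]
    infer_instance
  obtain ⟨n, hn⟩ := Groth.Agent.Lib.GenericFibrePoint.exists_nat_trdeg_eq (R := V) (B := C)
  obtain ⟨n', hqbar, hdim, hn'⟩ := exists_fibLocDim_quotient_eq q g hg hmin n hn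
  set I : Ideal C := Ideal.span {g} with hI
  have hgI : g ∈ I := Ideal.mem_span_singleton_self g
  -- the chart for `D = C ⧸ I`
  obtain ⟨rbar, hrbar, φb, -, hφb⟩ := exists_away_quasiFinite_mvPolynomial (R := V) (S := C ⧸ I)
    ⟨_, hqbar⟩ n' hdim
  obtain ⟨r, rfl⟩ := Ideal.Quotient.mk_surjective rbar
  have hrq : r ∉ q := fun h => hrbar (Ideal.mem_map_of_mem _ h)
  have hr0 : r ≠ 0 := fun h => hrq (h ▸ q.zero_mem)
  have hle : Submonoid.powers r ≤ nonZeroDivisors C :=
    powers_le_nonZeroDivisors_of_noZeroDivisors hr0
  have hdomC' : IsDomain (Localization.Away r) := IsLocalization.isDomain_localization hle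
  have hinjC' : Function.Injective (algebraMap C (Localization.Away r)) :=
    IsLocalization.injective _ hle
  have hfaithC' : FaithfulSMul V (Localization.Away r) := by
    rw [faithfulSMul_iff_algebraMap_injective, IsScalarTower.algebraMap_eq V C]
    exact hinjC'.comp (FaithfulSMul.algebraMap_injective V C)
  have hftC' : Algebra.FiniteType V (Localization.Away r) :=
    Algebra.FiniteType.trans (inferInstance : Algebra.FiniteType V C)
      (IsLocalization.finiteType_of_monoid_fg (Submonoid.powers r) (Localization.Away r))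
  -- the quotient map on localizations
  let π : Localization.Away r →+* Localization.Away (Ideal.Quotient.mk I r) :=
    Localization.awayMap (Ideal.Quotient.mk I) r
  have hπalg : ∀ c : C, π (algebraMap C (Localization.Away r) c) =
      algebraMap (C ⧸ I) (Localization.Away (Ideal.Quotient.mk I r)) (Ideal.Quotient.mk I c) :=
    fun c => IsLocalization.map_eq _ _
  have hπ : Function.Surjective π := by
    rw [Localization.awayMap_surjective_iff]
    intro a
    obtain ⟨c, rfl⟩ := Ideal.Quotient.mk_surjective a
    exact ⟨c, 0, by simp⟩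
  have hkerπ : RingHom.ker π ≤ Ideal.span {algebraMap C (Localization.Away r) g} := by
    rw [← IsLocalization.map_under (Submonoid.powers r) (Localization.Away r) (RingHom.ker π)]
    have : Ideal.span {algebraMap C (Localization.Away r) g} =
        I.map (algebraMap C (Localization.Away r)) := by
      rw [hI, Ideal.map_span, Set.image_singleton]
    rw [this, Ideal.map_le_iff_le_comap]
    intro c hc
    rw [Ideal.mem_comap, RingHom.mem_ker, hπalg,
      IsLocalization.map_eq_zero_iff (Submonoid.powers (Ideal.Quotient.mk I r))] at hc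
    obtain ⟨⟨_, m, rfl⟩, hm⟩ := hc
    have h2 : r ^ m * c ∈ I := by
      rw [← Ideal.Quotient.eq_zero_iff_mem, map_mul, map_pow]; exact hm
    rw [Ideal.mem_comap]
    have hu : IsUnit (algebraMap C (Localization.Away r) (r ^ m)) :=
      IsLocalization.map_units (Localization.Away r) (⟨r ^ m, m, rfl⟩ : Submonoid.powers r)
    have h3 : algebraMap C (Localization.Away r) (r ^ m * c) ∈
        I.map (algebraMap C (Localization.Away r)) := Ideal.mem_map_of_mem _ h2
    rw [map_mul] at h3
    exact (Ideal.unit_mul_mem_iff_mem _ hu).mp h3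
  -- the chart for `C' = C_r` with first coordinate `g`
  choose t ht using fun i : Fin n' => hπ (φb (MvPolynomial.X i))
  let ψ : MvPolynomial (Fin (n' + 1)) V →ₐ[V] Localization.Away r :=
    MvPolynomial.aeval (Fin.cons (algebraMap C (Localization.Away r) g) t)
  let ev : MvPolynomial (Fin (n' + 1)) V →ₐ[V] MvPolynomial (Fin n') V :=
    MvPolynomial.aeval (Fin.cons 0 MvPolynomial.X)
  have hev : Function.Surjective ev := by
    intro p
    refine ⟨MvPolynomial.rename Fin.succ p, ?_⟩
    change MvPolynomial.aeval (Fin.cons 0 MvPolynomial.X) (MvPolynomial.rename Fin.succ p) = p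
    rw [MvPolynomial.aeval_rename]
    have : (Fin.cons 0 MvPolynomial.X : Fin (n' + 1) → MvPolynomial (Fin n') V) ∘ Fin.succ =
        MvPolynomial.X := by
      funext i; simp
    rw [this, MvPolynomial.aeval_X_left]
    rfl
  letI algAC' : Algebra (MvPolynomial (Fin (n' + 1)) V) (Localization.Away r) :=
    ψ.toRingHom.toAlgebra
  have htowerAC' : IsScalarTower V (MvPolynomial (Fin (n' + 1)) V) (Localization.Away r) :=
    IsScalarTower.of_algebraMap_eq fun v => (ψ.commutes v).symm
  have hftAC' : Algebra.FiniteType (MvPolynomial (Fin (n' + 1)) V) (Localization.Away r) :=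
    Algebra.FiniteType.of_restrictScalars_finiteType V _ _
  letI algA'D' : Algebra (MvPolynomial (Fin n') V)
      (Localization.Away (Ideal.Quotient.mk I r)) := φb.toRingHom.toAlgebra
  have hqfA'D' : Algebra.QuasiFinite (MvPolynomial (Fin n') V)
      (Localization.Away (Ideal.Quotient.mk I r)) := hφb
  have hπV : ∀ v : V, π (algebraMap V (Localization.Away r) v) =
      algebraMap V (Localization.Away (Ideal.Quotient.mk I r)) v := by
    intro v
    rw [IsScalarTower.algebraMap_apply V C (Localization.Away r), hπalg,
      IsScalarTower.algebraMap_apply V (C ⧸ I) (Localization.Away (Ideal.Quotient.mk I r))]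
    rfl
  have hψX0 : ψ (MvPolynomial.X 0) = algebraMap C (Localization.Away r) g := by
    change MvPolynomial.aeval _ _ = _
    rw [MvPolynomial.aeval_X, Fin.cons_zero]
  have hψXs : ∀ i : Fin n', ψ (MvPolynomial.X i.succ) = t i := by
    intro i
    change MvPolynomial.aeval _ _ = _
    rw [MvPolynomial.aeval_X, Fin.cons_succ]
  have hevX0 : ev (MvPolynomial.X 0) = 0 := by
    change MvPolynomial.aeval _ _ = _
    rw [MvPolynomial.aeval_X, Fin.cons_zero]
  have hevXs : ∀ i : Fin n', ev (MvPolynomial.X i.succ) = MvPolynomial.X i := by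
    intro i
    change MvPolynomial.aeval _ _ = _
    rw [MvPolynomial.aeval_X, Fin.cons_succ]
  have hπg : π (algebraMap C (Localization.Away r) g) = 0 := by
    rw [hπalg, Ideal.Quotient.eq_zero_iff_mem.mpr hgI, map_zero]
  have hcomp : π.comp (algebraMap (MvPolynomial (Fin (n' + 1)) V) (Localization.Away r)) =
      (algebraMap (MvPolynomial (Fin n') V) (Localization.Away (Ideal.Quotient.mk I r))).comp
        ev.toRingHom := by
    apply MvPolynomial.ringHom_ext
    · intro v
      change π (ψ (MvPolynomial.C v)) = φb (ev (MvPolynomial.C v))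
      rw [← MvPolynomial.algebraMap_eq, ψ.commutes, ev.commutes, φb.commutes, hπV]
    · intro i
      change π (ψ (MvPolynomial.X i)) = φb (ev (MvPolynomial.X i))
      refine Fin.cases ?_ (fun j => ?_) i
      · rw [hψX0, hevX0, hπg, map_zero]
      · rw [hψXs, hevXs, ht]
  have hker : RingHom.ker π ≤ (RingHom.ker ev.toRingHom).map
      (algebraMap (MvPolynomial (Fin (n' + 1)) V) (Localization.Away r)) := by
    refine hkerπ.trans ?_
    rw [Ideal.span_le, Set.singleton_subset_iff, ← hψX0]
    exact Ideal.mem_map_of_mem _ (by rw [RingHom.mem_ker]; exact hevX0)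
  -- the prime `q' = q C'`
  have hdisj : Disjoint (Submonoid.powers r : Set C) (q : Set C) := by
    rw [Set.disjoint_left]
    rintro _ ⟨k, rfl⟩ hk
    exact hrq (hq.mem_of_pow_mem k hk)
  have hq'prime : (q.map (algebraMap C (Localization.Away r))).IsPrime :=
    IsLocalization.isPrime_of_isPrime_disjoint (Submonoid.powers r) _ q hq hdisj
  have hq'comap : (q.map (algebraMap C (Localization.Away r))).comap
      (algebraMap C (Localization.Away r)) = q :=
    IsLocalization.under_map_of_isPrime_disjoint (Submonoid.powers r) _ hq hdisj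
  have hq'ker : RingHom.ker π ≤ q.map (algebraMap C (Localization.Away r)) := by
    refine hkerπ.trans ?_
    rw [Ideal.span_le, Set.singleton_subset_iff]
    exact Ideal.mem_map_of_mem _ hg
  have hqfat : Algebra.QuasiFiniteAt (MvPolynomial (Fin (n' + 1)) V)
      (q.map (algebraMap C (Localization.Away r))) :=
    quasiFiniteAt_of_surjective_quotient ev.toRingHom hev π hπ hcomp hker _ hq'ker
  -- shrink to a globally quasi-finite chart and prove injectivity
  obtain ⟨r', hr'q', hqfB⟩ := exists_away_quasiFinite (P := MvPolynomial (Fin (n' + 1)) V)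
    (B := Localization.Away r) (q.map (algebraMap C (Localization.Away r)))
  have hr'0 : r' ≠ 0 := fun h => hr'q' (h ▸ Ideal.zero_mem _)
  have hle' : Submonoid.powers r' ≤ nonZeroDivisors (Localization.Away r) :=
    powers_le_nonZeroDivisors_of_noZeroDivisors hr'0
  have hdomB : IsDomain (Localization.Away r') := IsLocalization.isDomain_localization hle'
  have hinjB : Function.Injective (algebraMap (Localization.Away r) (Localization.Away r')) :=
    IsLocalization.injective _ hle'
  have hfaithB : FaithfulSMul V (Localization.Away r') := by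
    refine (faithfulSMul_iff_algebraMap_injective V (Localization.Away r')).mpr ?_
    rw [IsScalarTower.algebraMap_eq V (Localization.Away r)]
    exact hinjB.comp (FaithfulSMul.algebraMap_injective V (Localization.Away r))
  have hftB : Algebra.FiniteType V (Localization.Away r') :=
    Algebra.FiniteType.trans hftC'
      (IsLocalization.finiteType_of_monoid_fg (Submonoid.powers r') (Localization.Away r'))
  have htrB : Algebra.trdeg V (Localization.Away r') = n := by
    rw [trdeg_localization_away r' hr'0, trdeg_localization_away r hr0, hn]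
  have htowerB : IsScalarTower V (MvPolynomial (Fin (n' + 1)) V) (Localization.Away r') :=
    IsScalarTower.of_algebraMap_eq fun v => by
      have h1 := IsScalarTower.algebraMap_apply V (Localization.Away r) (Localization.Away r') v
      have h2 := IsScalarTower.algebraMap_apply V (MvPolynomial (Fin (n' + 1)) V)
        (Localization.Away r) v
      have h3 := IsScalarTower.algebraMap_apply (MvPolynomial (Fin (n' + 1)) V)
        (Localization.Away r) (Localization.Away r')
        (algebraMap V (MvPolynomial (Fin (n' + 1)) V) v)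
      rw [h3, ← h2, ← h1]
  have hinjAB : Function.Injective
      (algebraMap (MvPolynomial (Fin (n' + 1)) V) (Localization.Away r')) :=
    injective_algebraMap_of_quasiFinite (n' + 1) n htrB hn'
  have hinjAC' : Function.Injective
      (algebraMap (MvPolynomial (Fin (n' + 1)) V) (Localization.Away r)) := by
    rw [IsScalarTower.algebraMap_eq (MvPolynomial (Fin (n' + 1)) V) (Localization.Away r)
      (Localization.Away r'), RingHom.coe_comp] at hinjAB
    exact Function.Injective.of_comp hinjAB
  -- lift the horizontal prime `ker ev` of `A`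
  have hnormV : IsIntegrallyClosed V := by
    letI := IsBezout.toGCDDomain V
    infer_instance
  have hnormA : IsIntegrallyClosed (MvPolynomial (Fin (n' + 1)) V) :=
    isIntegrallyClosed_mvPolynomial_fin V (n' + 1)
  have hP₀prime : (RingHom.ker ev.toRingHom).IsPrime := RingHom.ker_isPrime _
  have hP₀le : RingHom.ker ev.toRingHom ≤ (q.map (algebraMap C (Localization.Away r))).comap
      (algebraMap (MvPolynomial (Fin (n' + 1)) V) (Localization.Away r)) := by
    intro a ha
    rw [Ideal.mem_comap]
    apply hq'ker
    rw [RingHom.mem_ker]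
    have := congrArg (fun f : MvPolynomial (Fin (n' + 1)) V →+* _ => f a) hcomp
    simp only [RingHom.comp_apply] at this
    rw [this, (RingHom.mem_ker).mp ha, map_zero]
  obtain ⟨P', hP'prime, hP'le, hP'comap⟩ :=
    Groth.Agent.Lib.H56ClosedFib.exists_le_comap_eq hinjAC'
      (q.map (algebraMap C (Localization.Away r))) (RingHom.ker ev.toRingHom) hP₀le
  refine ⟨P'.comap (algebraMap C (Localization.Away r)), Ideal.comap_isPrime _ _, ?_, ?_, ?_⟩
  · rw [← hq'comap]; exact Ideal.comap_mono hP'le
  · rw [Ideal.mem_comap, ← hψX0]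
    have : (MvPolynomial.X 0 : MvPolynomial (Fin (n' + 1)) V) ∈
        P'.comap (algebraMap (MvPolynomial (Fin (n' + 1)) V) (Localization.Away r)) := by
      rw [hP'comap, RingHom.mem_ker]; exact hevX0
    exact this
  · rw [eq_bot_iff]
    intro v hv
    rw [Ideal.mem_bot]
    rw [Ideal.under_def, Ideal.mem_comap, Ideal.mem_comap,
      ← IsScalarTower.algebraMap_apply V C (Localization.Away r),
      IsScalarTower.algebraMap_apply V (MvPolynomial (Fin (n' + 1)) V) (Localization.Away r),
      ← Ideal.mem_comap, hP'comap, RingHom.mem_ker] at hv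
    have h1 : ev.toRingHom (algebraMap V (MvPolynomial (Fin (n' + 1)) V) v) =
        algebraMap V (MvPolynomial (Fin n') V) v := ev.commutes v
    rw [h1] at hv
    exact (FaithfulSMul.algebraMap_injective V (MvPolynomial (Fin n') V))
      (hv.trans (map_zero _).symm)

end Core

end Groth.Agent.Lib.H79ValChart
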