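import Groth.Agent.Lib.H79ValChart2
import Groth.Agent.Lib.H56ClosedFib3
import Mathlib

/-!
# helper79: horizontal components of a hypersurface, over an arbitrary base domain

* `trdeg_le_of_forall_mem_adjoin`: a transcendence degree inequality for a commutative square of
  rings whose lower right corner is generated by the images of the other corners;
* `exists_horizontal_prime_of_domain`: for a finite type extension of domains `A ⊆ C`, a prime `q`
  of `C` and `c ∈ q` such that every prime `Q ⊆ q` in the fibre of `q` containing `c` has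
  `trdeg κ(Q)/κ(Q ∩ A) < trdeg_A C`, some prime `P ⊆ q` of the generic fibre contains `c`
  (reduction to a valuation ring dominating `C_q`).
-/

set_option autoImplicit false
set_option linter.style.haveILetI false
universe u
open TopologicalSpace Topology TensorProduct AlgebraicGeometry

namespace Groth.Agent.Lib.H79ValChart

open Groth.Agent.Lib.H56LocDim Groth.Agent.Lib.H79FlatGenFibDimRing Groth.Agent.Lib.H56SpecTrdeg
  Groth.Agent.Lib.H56OpenDim Groth.Agent.Lib.H56PruferDim Groth.Agent.Lib.H56ValTrdeg
  Groth.Agent.Lib.H56ClosedFib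

/-- transcendence degree inequality for a square generated by its corners -/
theorem trdeg_le_of_forall_mem_adjoin {R S A B : Type u} [CommRing R] [CommRing S] [CommRing A]
    [CommRing B] [Algebra R A] [Algebra S B] [IsDomain B] [Nontrivial S] [FaithfulSMul S B]
    (f : R →+* S) (g : A →+* B) (hf : Function.Injective f)
    (h : (algebraMap S B).comp f = g.comp (algebraMap R A))
    (hadj : ∀ b : B, b ∈ Algebra.adjoin S (Set.range g)) :
    Algebra.trdeg S B ≤ Algebra.trdeg R A := by
  have : Algebra.IsAlgebraic (Algebra.adjoin S (Set.range g)) B :=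
    ⟨fun b => isAlgebraic_algebraMap (⟨b, hadj b⟩ : Algebra.adjoin S (Set.range g))⟩
  obtain ⟨T, hTs, hT⟩ := exists_isTranscendenceBasis_subset (R := S) (Set.range g)
  choose a ha using fun i : T => hTs i.2
  have hind : AlgebraicIndependent R a := by
    apply AlgebraicIndependent.of_ringHom_of_comp_eq f g _ hf h
    have : g ∘ a = ((↑) : T → B) := funext ha
    rw [this]; exact hT.1
  haveI : Nontrivial R := f.domain_nontrivial
  rw [← hT.cardinalMk_eq_trdeg]
  exact hind.cardinalMk_le_trdeg

section Domain

attribute [local instance] FractionRing.liftAlgebra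

variable {A C : Type u} [CommRing A] [IsDomain A] [CommRing C] [IsDomain C] [Algebra A C]
  [FaithfulSMul A C] [Algebra.FiniteType A C]

/-- **Horizontal components of a hypersurface, general base.** Let `A ⊆ C` be a finite type
extension of domains, `q` a prime of `C`, `c ∈ q`. Assume every prime `Q ⊆ q` of `C` containing `c`
and lying in the fibre of `q` has residual transcendence degree `< trdeg_A C`. Then some prime
`P ⊆ q` of the generic fibre contains `c`. -/
theorem exists_horizontal_prime_of_domain (q : Ideal C) [hq : q.IsPrime] (c : C) (hc : c ∈ q)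
    (n : ℕ) (hn : Algebra.trdeg A C = n)
    (hlt : ∀ Q : Ideal C, Q.IsPrime → Q ≤ q → Q.under A = q.under A → c ∈ Q →
      ∀ r : ℕ, Algebra.trdeg (A ⧸ Q.under A) (C ⧸ Q) = r → r < n) :
    ∃ P : Ideal C, P.IsPrime ∧ P ≤ q ∧ c ∈ P ∧ P.under A = ⊥ := by
  classical
  -- a valuation ring of `Frac C` dominating `C_q`
  obtain ⟨W, hWmem, hWloc⟩ := IsLocalRing.exists_factor_valuationRing
    (algebraMap (Localization.AtPrime q) (FractionRing C))
  have hW : ∀ b : C, algebraMap C (FractionRing C) b ∈ W := fun b => by
    rw [IsScalarTower.algebraMap_apply C (Localization.AtPrime q) (FractionRing C)]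
    exact hWmem _
  have hft := finiteType_subB (A := A) W hW
  set qt : Ideal (subB (A := A) W) := (IsLocalRing.maximalIdeal W).comap (toW (A := A) W hW)
    with hqt
  have hqtprime : qt.IsPrime := Ideal.comap_isPrime _ _
  have hqtC : qt.comap (toSubB (A := A) W) = q := by
    have hlocW : IsLocalRing ↥W.toSubring := inferInstanceAs (IsLocalRing W)
    have h1 := IsLocalRing.maximalIdeal_comap
      ((algebraMap (Localization.AtPrime q) (FractionRing C)).codRestrict W.toSubring hWmem)
    have h2 := Localization.AtPrime.comap_maximalIdeal (I := q)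
    ext b
    rw [← h2, Ideal.under_def, Ideal.mem_comap, Ideal.mem_comap, Ideal.mem_comap, ← h1,
      Ideal.mem_comap]
    have h3 : (toW (A := A) W hW (toSubB (A := A) W b) : W) =
        ((algebraMap (Localization.AtPrime q) (FractionRing C)).codRestrict W.toSubring hWmem
          (algebraMap C (Localization.AtPrime q) b)) :=
      Subtype.ext (IsScalarTower.algebraMap_apply C (Localization.AtPrime q) (FractionRing C) b)
    rw [h3]
    rfl
  have hunderA : ∀ Qt : Ideal (subB (A := A) W),
      (Qt.under (valV (A := A) W)).comap (toV W hW) = (Qt.comap (toSubB (A := A) W)).under A := by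
    intro Qt
    ext a
    simp only [Ideal.under_def, Ideal.mem_comap]
    rw [toSubB_comp W hW]
  have htr : Algebra.trdeg (valV (A := A) W) (subB (A := A) W) = n := (trdeg_subB W).trans hn
  have hflat : Module.Flat (valV (A := A) W) (subB (A := A) W) := by
    rw [Module.Flat.flat_iff_torsion_eq_bot_of_isBezout,
      ← Submodule.isTorsionFree_iff_torsion_eq_bot]
    infer_instance
  have hc' : toSubB (A := A) W c ∈ qt := by
    have : c ∈ qt.comap (toSubB (A := A) W) := by rw [hqtC]; exact hc
    exact this
  have hmin' : ∀ Qt ∈ ((qt.under (valV (A := A) W)).map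
      (algebraMap (valV (A := A) W) (subB (A := A) W))).minimalPrimes,
      Qt ≤ qt → toSubB (A := A) W c ∉ Qt := by
    intro Qt hQtmin hQtle hcQt
    have hQtprime : Qt.IsPrime := hQtmin.1.1
    have hQtV : Qt.under (valV (A := A) W) = qt.under (valV (A := A) W) := by
      apply le_antisymm (Ideal.comap_mono hQtle)
      have := hQtmin.1.2
      rw [Ideal.map_le_iff_le_comap] at this
      exact this
    have hQprime : (Qt.comap (toSubB (A := A) W)).IsPrime := Ideal.comap_isPrime _ _
    have hQle : Qt.comap (toSubB (A := A) W) ≤ q := by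
      rw [← hqtC]; exact Ideal.comap_mono hQtle
    have hQA : (Qt.comap (toSubB (A := A) W)).under A = q.under A := by
      rw [← hqtC, ← hunderA, ← hunderA, hQtV]
    obtain ⟨r, hr⟩ := Groth.Agent.Lib.GenericFibrePoint.exists_nat_trdeg_quotient_eq (R := A)
      (Qt.comap (toSubB (A := A) W))
    have hrn := hlt _ hQprime hQle hQA hcQt r hr
    obtain ⟨rt, hrt⟩ := Groth.Agent.Lib.GenericFibrePoint.exists_nat_trdeg_quotient_eq
      (R := valV (A := A) W) Qt
    -- (ii) `rt ≤ r`
    have h2 : rt ≤ r := by
      have hle1 : (Qt.comap (toSubB (A := A) W)).under A ≤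
          (Qt.under (valV (A := A) W)).comap (toV W hW) := (hunderA Qt).ge
      have key := trdeg_le_of_forall_mem_adjoin
        (R := A ⧸ (Qt.comap (toSubB (A := A) W)).under A)
        (S := valV (A := A) W ⧸ Qt.under (valV (A := A) W))
        (A := C ⧸ Qt.comap (toSubB (A := A) W)) (B := subB (A := A) W ⧸ Qt)
        (Ideal.quotientMap (Qt.under (valV (A := A) W)) (toV W hW) hle1)
        (Ideal.quotientMap Qt (toSubB (A := A) W) le_rfl)
        (Ideal.quotientMap_injective' (hunderA Qt).le) ?_ ?_
      · rw [hrt, hr] at key
        exact_mod_cast key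
      · apply Ideal.Quotient.ringHom_ext
        ext a
        change Ideal.Quotient.mk Qt (algebraMap (valV (A := A) W) (subB (A := A) W) (toV W hW a)) =
          Ideal.Quotient.mk Qt (toSubB (A := A) W (algebraMap A C a))
        rw [toSubB_comp W hW]
      · intro b
        obtain ⟨⟨x, hx⟩, rfl⟩ := Ideal.Quotient.mk_surjective b
        induction hx using Algebra.adjoin_induction with
        | mem x hx =>
          obtain ⟨c', rfl⟩ := hx
          apply Algebra.subset_adjoin
          exact ⟨Ideal.Quotient.mk _ c', rfl⟩
        | algebraMap v =>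
          exact Subalgebra.algebraMap_mem _ (Ideal.Quotient.mk _ v)
        | add x y hx hy ihx ihy =>
          exact Subalgebra.add_mem _ ihx ihy
        | mul x y hx hy ihx ihy =>
          exact Subalgebra.mul_mem _ ihx ihy
    -- (i) `rt = n`
    have h1 : rt = n := by
      let x : PrimeSpectrum (subB (A := A) W) := ⟨Qt, hQtprime⟩
      obtain ⟨w, hwx, hfw, -, hw⟩ := exists_maxInFibre_fibreDimAt_eq
        (sp (valV (A := A) W) (subB (A := A) W)) x
      let w' : PrimeSpectrum (subB (A := A) W) := w
      have hwle : w'.asIdeal ≤ Qt := le_of_specializes hwx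
      have hwV : w'.asIdeal.under (valV (A := A) W) = Qt.under (valV (A := A) W) :=
        congrArg PrimeSpectrum.asIdeal hfw
      have hweq : w'.asIdeal = Qt := by
        apply le_antisymm hwle
        apply hQtmin.2 ⟨w'.2, ?_⟩ hwle
        rw [Ideal.map_le_iff_le_comap, ← Ideal.under_def, hwV, hQtV]
      have hwx' : w = x := PrimeSpectrum.ext hweq
      rw [hwx', fibreDimAt_specMap] at hw
      have hflat' : Module.Flat (valV (A := A) W) (Localization.AtPrime Qt) :=
        Module.Flat.trans _ (subB (A := A) W) _
      have h3 := fibLocDim_eq_trdeg_of_flat (A := valV (A := A) W) Qt n htr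
      change fibLocDim (PrimeSpectrum.comap (algebraMap (valV (A := A) W) (subB (A := A) W)))
        ⟨Qt, hQtprime⟩ = _ at hw
      rw [h3, tdeg_Spec_eq] at hw
      change (n : WithBot ℕ∞) = ((Cardinal.toNat (Algebra.trdeg
        (valV (A := A) W ⧸ Qt.under (valV (A := A) W)) (subB (A := A) W ⧸ Qt)) : ℕ) :
          WithBot ℕ∞) at hw
      rw [hrt, Cardinal.toNat_natCast] at hw
      exact_mod_cast hw.symm
    omega
  obtain ⟨Pt, hPtprime, hPtle, hcPt, hPtV⟩ := exists_horizontal_prime
    (V := valV (A := A) W) (C := subB (A := A) W) qt (toSubB (A := A) W c) hc' hmin'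
  refine ⟨Pt.comap (toSubB (A := A) W), Ideal.comap_isPrime _ _, ?_, hcPt, ?_⟩
  · rw [← hqtC]; exact Ideal.comap_mono hPtle
  · rw [← hunderA, hPtV]
    exact Ideal.comap_bot_of_injective _ (toV_injective W hW)

end Domain

end Groth.Agent.Lib.H79ValChart
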