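import Groth.Agent.Lib.H79ValChart3
import Mathlib

/-!
# helper79: vertical hypersurfaces contain a fibre component (ring level, no reducedness)

* `exists_prime_trdeg_ge`: `A₀ → R₀` of finite type, `p₀ ≤ q` primes of `R₀`, `g ∈ q` such that no
  prime `P` with `p₀ ≤ P ≤ q`, `g ∈ P` lies over `p₀ ∩ A₀` (the hypersurface `V(g) ∩ V(p₀)` is
  vertical near `q`). Then some prime `Q` with `p₀ ≤ Q ≤ q`, `g ∈ Q` in the fibre of `q` has
  `trdeg κ(p₀)/κ(p₀ ∩ A₀) ≤ trdeg κ(Q)/κ(Q ∩ A₀)`.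
-/

set_option autoImplicit false
set_option linter.style.haveILetI false
universe u

namespace Groth.Agent.Lib.H79ValChart

/-- transcendence degree of the residue extension at a prime of a quotient ring -/
theorem trdeg_quotient_quotient {A₀ R₀ : Type u} [CommRing A₀] [CommRing R₀] [Algebra A₀ R₀]
    (p₀ : Ideal R₀) [p₀.IsPrime] (Qb : Ideal (R₀ ⧸ p₀)) [Qb.IsPrime] :
    Algebra.trdeg ((A₀ ⧸ p₀.under A₀) ⧸ Qb.under (A₀ ⧸ p₀.under A₀)) ((R₀ ⧸ p₀) ⧸ Qb) =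
      Algebra.trdeg (A₀ ⧸ (Qb.comap (Ideal.Quotient.mk p₀)).under A₀)
        (R₀ ⧸ Qb.comap (Ideal.Quotient.mk p₀)) := by
  have hQprime : (Qb.comap (Ideal.Quotient.mk p₀)).IsPrime := Ideal.comap_isPrime _ _
  have hmem : ∀ a : A₀, a ∈ (Qb.comap (Ideal.Quotient.mk p₀)).under A₀ ↔
      Ideal.Quotient.mk (p₀.under A₀) a ∈ Qb.under (A₀ ⧸ p₀.under A₀) := fun a => Iff.rfl
  let e : A₀ ⧸ (Qb.comap (Ideal.Quotient.mk p₀)).under A₀ ≃+*
      (A₀ ⧸ p₀.under A₀) ⧸ Qb.under (A₀ ⧸ p₀.under A₀) :=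
    RingEquiv.ofBijective
      (Ideal.quotientMap (Qb.under (A₀ ⧸ p₀.under A₀)) (Ideal.Quotient.mk (p₀.under A₀))
        (fun a ha => (hmem a).mp ha))
      ⟨Ideal.quotientMap_injective' (fun a ha => (hmem a).mpr ha),
        Ideal.quotientMap_surjective Ideal.Quotient.mk_surjective⟩
  let f : R₀ ⧸ Qb.comap (Ideal.Quotient.mk p₀) ≃+* (R₀ ⧸ p₀) ⧸ Qb :=
    RingEquiv.ofBijective (Ideal.quotientMap Qb (Ideal.Quotient.mk p₀) le_rfl)
      ⟨Ideal.quotientMap_injective' le_rfl,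
        Ideal.quotientMap_surjective Ideal.Quotient.mk_surjective⟩
  haveI : Nontrivial (A₀ ⧸ (Qb.comap (Ideal.Quotient.mk p₀)).under A₀) :=
    Ideal.Quotient.nontrivial_iff.mpr
      (inferInstance : ((Qb.comap (Ideal.Quotient.mk p₀)).under A₀).IsPrime).ne_top
  haveI : Nontrivial ((A₀ ⧸ p₀.under A₀) ⧸ Qb.under (A₀ ⧸ p₀.under A₀)) :=
    Ideal.Quotient.nontrivial_iff.mpr
      (inferInstance : (Qb.under (A₀ ⧸ p₀.under A₀)).IsPrime).ne_top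
  symm
  apply Groth.Agent.Lib.TrdegTransfer.trdeg_eq_of_ringEquiv e f
  intro a
  obtain ⟨a, rfl⟩ := Ideal.Quotient.mk_surjective a
  rfl

/-- **A vertical hypersurface contains a component of the fibre (ring level).** -/
theorem exists_prime_trdeg_ge {A₀ R₀ : Type u} [CommRing A₀] [CommRing R₀] [Algebra A₀ R₀]
    [Algebra.FiniteType A₀ R₀] (p₀ q : Ideal R₀) [hp₀ : p₀.IsPrime] [hq : q.IsPrime]
    (hpq : p₀ ≤ q) (g : R₀) (hg : g ∈ q)
    (hvert : ∀ P : Ideal R₀, P.IsPrime → p₀ ≤ P → P ≤ q → g ∈ P → P.under A₀ ≠ p₀.under A₀) :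
    ∃ Q : Ideal R₀, Q.IsPrime ∧ p₀ ≤ Q ∧ Q ≤ q ∧ g ∈ Q ∧ Q.under A₀ = q.under A₀ ∧
      Algebra.trdeg (A₀ ⧸ p₀.under A₀) (R₀ ⧸ p₀) ≤ Algebra.trdeg (A₀ ⧸ Q.under A₀) (R₀ ⧸ Q) := by
  by_contra hcon
  push Not at hcon
  haveI : Algebra.FiniteType A₀ (R₀ ⧸ p₀) :=
    Algebra.FiniteType.of_surjective (Ideal.Quotient.mkₐ A₀ p₀) Ideal.Quotient.mk_surjective
  haveI : Algebra.FiniteType (A₀ ⧸ p₀.under A₀) (R₀ ⧸ p₀) :=
    Algebra.FiniteType.of_restrictScalars_finiteType A₀ _ _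
  obtain ⟨n, hn⟩ := Groth.Agent.Lib.GenericFibrePoint.exists_nat_trdeg_quotient_eq (R := A₀) p₀
  haveI hqb : (q.map (Ideal.Quotient.mk p₀)).IsPrime :=
    Ideal.map_isPrime_of_surjective Ideal.Quotient.mk_surjective (by rwa [Ideal.mk_ker])
  have hqbcomap : (q.map (Ideal.Quotient.mk p₀)).comap (Ideal.Quotient.mk p₀) = q := by
    rw [Ideal.comap_map_of_surjective _ Ideal.Quotient.mk_surjective, ← RingHom.ker_eq_comap_bot,
      Ideal.mk_ker, sup_eq_left.mpr hpq]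
  have hple : ∀ Pb : Ideal (R₀ ⧸ p₀), p₀ ≤ Pb.comap (Ideal.Quotient.mk p₀) := by
    intro Pb x hx
    rw [Ideal.mem_comap, Ideal.Quotient.eq_zero_iff_mem.mpr hx]
    exact Pb.zero_mem
  have hunder : ∀ (Pb : Ideal (R₀ ⧸ p₀)) (a : A₀), a ∈ (Pb.comap (Ideal.Quotient.mk p₀)).under A₀ ↔
      Ideal.Quotient.mk (p₀.under A₀) a ∈ Pb.under (A₀ ⧸ p₀.under A₀) := fun _ _ => Iff.rfl
  have key := exists_horizontal_prime_of_domain (A := A₀ ⧸ p₀.under A₀) (C := R₀ ⧸ p₀)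
    (q.map (Ideal.Quotient.mk p₀)) (Ideal.Quotient.mk p₀ g) (Ideal.mem_map_of_mem _ hg) n hn ?_
  · obtain ⟨Pb, hPbprime, hPble, hgPb, hPbA⟩ := key
    apply hvert (Pb.comap (Ideal.Quotient.mk p₀)) (Ideal.comap_isPrime _ _) (hple Pb) ?_ hgPb
    · ext a
      rw [hunder, hPbA, Ideal.mem_bot, Ideal.Quotient.eq_zero_iff_mem]
    · rw [← hqbcomap]; exact Ideal.comap_mono hPble
  · intro Qb hQbprime hQble hQbA hgQb r hr
    have hQq : Qb.comap (Ideal.Quotient.mk p₀) ≤ q := by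
      rw [← hqbcomap]; exact Ideal.comap_mono hQble
    have hQA : (Qb.comap (Ideal.Quotient.mk p₀)).under A₀ = q.under A₀ := by
      ext a
      rw [hunder, hQbA, ← hunder, hqbcomap]
    have h1 := hcon (Qb.comap (Ideal.Quotient.mk p₀)) (Ideal.comap_isPrime _ _) (hple Qb) hQq hgQb
      hQA
    rw [← trdeg_quotient_quotient p₀ Qb, hr, hn] at h1
    exact_mod_cast h1

end Groth.Agent.Lib.H79ValChart
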