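import Mathlib.Algebra.Homology.Refinements
import Mathlib.Algebra.Category.ModuleCat.EpiMono
import Mathlib.Algebra.Homology.ShortComplex.ModuleCat

set_option autoImplicit false
universe v u

open CategoryTheory

namespace Groth.Agent.Lib.H80ModHomology

variable {R : Type u} [Ring R] {ι : Type*} {c : ComplexShape ι}
  {K L : HomologicalComplex (ModuleCat.{v} R) c} (φ : K ⟶ L)

/-- Elementwise criterion for the map on homology of complexes of modules to be a monomorphism. -/
theorem mono_homologyMap_iff (i j k : ι) (hi : c.prev j = i) (hk : c.next j = k) :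
    Mono (HomologicalComplex.homologyMap φ j) ↔
      ∀ x : K.X j, (K.d j k).hom x = 0 → (∃ y : L.X i, (L.d i j).hom y = (φ.f j).hom x) →
        ∃ x₁ : K.X i, (K.d i j).hom x₁ = x := by
  rw [HomologicalComplex.mono_homologyMap_iff_up_to_refinements φ i j k hi hk]
  constructor
  · intro H x hx ⟨y, hy⟩
    let P : Submodule R (K.X j × L.X i) :=
      { carrier := {p | (K.d j k).hom p.1 = 0 ∧ (φ.f j).hom p.1 = (L.d i j).hom p.2}
        add_mem' := by
          rintro a b ⟨ha1, ha2⟩ ⟨hb1, hb2⟩
          exact ⟨by simp [ha1, hb1], by simp [ha2, hb2]⟩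
        zero_mem' := ⟨by simp, by simp⟩
        smul_mem' := by
          rintro r a ⟨ha1, ha2⟩
          exact ⟨by simp [ha1], by simp [ha2]⟩ }
    let x₂ : ModuleCat.of R P ⟶ K.X j := ModuleCat.ofHom ((LinearMap.fst R _ _).comp P.subtype)
    let y₁ : ModuleCat.of R P ⟶ L.X i := ModuleCat.ofHom ((LinearMap.snd R _ _).comp P.subtype)
    have h1 : x₂ ≫ K.d j k = 0 := by
      ext p
      exact p.2.1
    have h2 : x₂ ≫ φ.f j = y₁ ≫ L.d i j := by
      ext p
      exact p.2.2
    obtain ⟨A', π, hπ, x₁, hx₁⟩ := H x₂ h1 y₁ h2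
    have hsurj : Function.Surjective π.hom := (ModuleCat.epi_iff_surjective π).1 hπ
    obtain ⟨a', ha'⟩ := hsurj ⟨(x, y), ⟨hx, hy.symm⟩⟩
    refine ⟨x₁.hom a', ?_⟩
    have := congrArg (fun t => t.hom a') hx₁
    simp only [ModuleCat.hom_comp, LinearMap.comp_apply] at this
    rw [← this, ha']
    rfl
  · intro H A x₂ hx₂ y₁ hy
    let P : Submodule R (A × K.X i) :=
      { carrier := {p | x₂.hom p.1 = (K.d i j).hom p.2}
        add_mem' := by
          intro a b ha hb
          simp only [Set.mem_ofPred_eq] at ha hb ⊢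
          simp [ha, hb]
        zero_mem' := by simp
        smul_mem' := by
          intro r a ha
          simp only [Set.mem_ofPred_eq] at ha ⊢
          simp [ha] }
    refine ⟨ModuleCat.of R P, ModuleCat.ofHom ((LinearMap.fst R _ _).comp P.subtype), ?_,
      ModuleCat.ofHom ((LinearMap.snd R _ _).comp P.subtype), ?_⟩
    · rw [ModuleCat.epi_iff_surjective]
      intro a
      have h1 : (K.d j k).hom (x₂.hom a) = 0 := by
        have := congrArg (fun t => t.hom a) hx₂
        simpa using this
      have h2 : (L.d i j).hom (y₁.hom a) = (φ.f j).hom (x₂.hom a) := by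
        have := congrArg (fun t => t.hom a) hy
        simpa using this.symm
      obtain ⟨x₁, hx₁⟩ := H (x₂.hom a) h1 ⟨y₁.hom a, h2⟩
      exact ⟨⟨(a, x₁), hx₁.symm⟩, rfl⟩
    · ext p
      exact p.2

/-- Elementwise criterion for the map on homology of complexes of modules to be an epimorphism. -/
theorem epi_homologyMap_iff (i j k : ι) (hi : c.prev j = i) (hk : c.next j = k) :
    Epi (HomologicalComplex.homologyMap φ j) ↔
      ∀ y : L.X j, (L.d j k).hom y = 0 →
        ∃ x : K.X j, (K.d j k).hom x = 0 ∧ ∃ y₁ : L.X i, y = (φ.f j).hom x + (L.d i j).hom y₁ := by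
  rw [HomologicalComplex.epi_homologyMap_iff_up_to_refinements φ i j k hi hk]
  constructor
  · intro H y hy
    let y₂ : ModuleCat.of R (LinearMap.ker (L.d j k).hom) ⟶ L.X j :=
      ModuleCat.ofHom (LinearMap.ker (L.d j k).hom).subtype
    have h1 : y₂ ≫ L.d j k = 0 := by
      ext p
      exact p.2
    obtain ⟨A', π, hπ, x₂, hx₂, y₁, h⟩ := H y₂ h1
    have hsurj : Function.Surjective π.hom := (ModuleCat.epi_iff_surjective π).1 hπ
    obtain ⟨a', ha'⟩ := hsurj ⟨y, hy⟩
    refine ⟨x₂.hom a', ?_, y₁.hom a', ?_⟩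
    · have := congrArg (fun t => t.hom a') hx₂
      simpa using this
    · have := congrArg (fun t => t.hom a') h
      simp only [ModuleCat.hom_comp, ModuleCat.hom_add, LinearMap.comp_apply,
        LinearMap.add_apply] at this
      rw [← this, ha']
      rfl
  · intro H A y₂ hy₂
    let P : Submodule R (A × K.X j × L.X i) :=
      { carrier := {p | (K.d j k).hom p.2.1 = 0 ∧
          y₂.hom p.1 = (φ.f j).hom p.2.1 + (L.d i j).hom p.2.2}
        add_mem' := by
          rintro a b ⟨ha1, ha2⟩ ⟨hb1, hb2⟩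
          refine ⟨by simp [ha1, hb1], ?_⟩
          simp only [Prod.fst_add, Prod.snd_add, map_add, ha2, hb2]
          abel
        zero_mem' := ⟨by simp, by simp⟩
        smul_mem' := by
          rintro r a ⟨ha1, ha2⟩
          exact ⟨by simp [ha1], by simp [ha2]⟩ }
    refine ⟨ModuleCat.of R P, ModuleCat.ofHom ((LinearMap.fst R _ _).comp P.subtype), ?_,
      ModuleCat.ofHom (((LinearMap.fst R _ _).comp (LinearMap.snd R _ _)).comp P.subtype), ?_,
      ModuleCat.ofHom (((LinearMap.snd R _ _).comp (LinearMap.snd R _ _)).comp P.subtype), ?_⟩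
    · rw [ModuleCat.epi_iff_surjective]
      intro a
      have h1 : (L.d j k).hom (y₂.hom a) = 0 := by
        have := congrArg (fun t => t.hom a) hy₂
        simpa using this
      obtain ⟨x, hx, y₁, hy₁⟩ := H (y₂.hom a) h1
      exact ⟨⟨(a, x, y₁), ⟨hx, hy₁⟩⟩, rfl⟩
    · ext p
      exact p.2.1
    · ext p
      exact p.2.2

end Groth.Agent.Lib.H80ModHomology
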