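import Groth.Prelude.Def_W4c3biextchowCx
import Groth.Agent.Lib.H80ModHomology

set_option autoImplicit false
universe v u

open CategoryTheory W4c3biextchow

namespace Groth.Agent.Lib.H80BiextCx

variable {R : Type u} [Ring R] {C D : ChainComplex (ModuleCat.{v} R) ℕ} (f : C ⟶ D)

theorem mk_eq_zero_iff (C : ChainComplex (ModuleCat.{v} R) ℕ) (x : C.X 1) :
    (Submodule.Quotient.mk x : Q1 C) = 0 ↔ ∃ x₂ : C.X 2, (C.d 2 1).hom x₂ = x := by
  rw [Submodule.Quotient.mk_eq_zero, LinearMap.mem_range]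

theorem mk_eq_mk_iff (C : ChainComplex (ModuleCat.{v} R) ℕ) (x y : C.X 1) :
    (Submodule.Quotient.mk x : Q1 C) = Submodule.Quotient.mk y ↔
      ∃ x₂ : C.X 2, (C.d 2 1).hom x₂ = x - y := by
  rw [← sub_eq_zero, ← Submodule.Quotient.mk_sub, mk_eq_zero_iff]

theorem d_zero_zero (C : ChainComplex (ModuleCat.{v} R) ℕ) (x : C.X 0) : (C.d 0 0).hom x = 0 := by
  rw [C.shape 0 0 (by simp)]
  rfl

theorem mono_one_iff : Mono (HomologicalComplex.homologyMap f 1) ↔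
    ∀ x : C.X 1, (C.d 1 0).hom x = 0 → (∃ y : D.X 2, (D.d 2 1).hom y = (f.f 1).hom x) →
      ∃ x₁ : C.X 2, (C.d 2 1).hom x₁ = x :=
  Groth.Agent.Lib.H80ModHomology.mono_homologyMap_iff f 2 1 0 (by simp) (by simp)

theorem epi_one_iff : Epi (HomologicalComplex.homologyMap f 1) ↔
    ∀ y : D.X 1, (D.d 1 0).hom y = 0 →
      ∃ x : C.X 1, (C.d 1 0).hom x = 0 ∧ ∃ y₁ : D.X 2, y = (f.f 1).hom x + (D.d 2 1).hom y₁ :=
  Groth.Agent.Lib.H80ModHomology.epi_homologyMap_iff f 2 1 0 (by simp) (by simp)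

theorem mono_zero_iff : Mono (HomologicalComplex.homologyMap f 0) ↔
    ∀ x : C.X 0, (∃ y : D.X 1, (D.d 1 0).hom y = (f.f 0).hom x) →
      ∃ x₁ : C.X 1, (C.d 1 0).hom x₁ = x := by
  rw [Groth.Agent.Lib.H80ModHomology.mono_homologyMap_iff f 1 0 0 (by simp) (by simp)]
  exact ⟨fun H x hx => H x (d_zero_zero C x) hx, fun H x _ hx => H x hx⟩

theorem epi_zero_iff : Epi (HomologicalComplex.homologyMap f 0) ↔
    ∀ y : D.X 0, ∃ (x : C.X 0) (y₁ : D.X 1), y = (f.f 0).hom x + (D.d 1 0).hom y₁ := by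
  rw [Groth.Agent.Lib.H80ModHomology.epi_homologyMap_iff f 1 0 0 (by simp) (by simp)]
  constructor
  · intro H y
    obtain ⟨x, -, y₁, h⟩ := H y (d_zero_zero D y)
    exact ⟨x, y₁, h⟩
  · intro H y _
    obtain ⟨x, y₁, h⟩ := H y
    exact ⟨x, d_zero_zero C x, y₁, h⟩

/-- Every morphism of the groupoid of a complex is invertible. -/
def isoOfHom {a b : Obj C} (φ : a ⟶ b) : a ≅ b where
  hom := φ
  inv := ⟨-(φ : Hom C a b).cl, by rw [map_neg, (φ : Hom C a b).delta_cl]; abel⟩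
  hom_inv_id := Hom.ext (by simp)
  inv_hom_id := Hom.ext (by simp)

end Groth.Agent.Lib.H80BiextCx
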