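/-
helper80: a morphism `f : X ⟶ S` is universally open as soon as `𝔸ⁿ_X ⟶ 𝔸ⁿ_S` is an open map for
every `n` (open analogue of helper85's `Lib/UnivClosedAffineSpace`, which this file reuses).
-/
import Mathlib
import Groth.Agent.Lib.UnivClosedAffineSpace

set_option autoImplicit false
universe u
open CategoryTheory CategoryTheory.Limits AlgebraicGeometry

namespace Groth.Agent.Lib.H80UnivOpenAffineSpace

open AlgebraicGeometry.AffineSpace Groth.Agent.Lib.UnivClosedAffineSpace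

/-- Base change of an open map along a morphism whose base change is (topologically) inducing. -/
theorem isOpenMap_of_isPullback {P' P T Q : Scheme.{u}} {q' : P' ⟶ T} {j' : P' ⟶ P}
    {j : T ⟶ Q} {q : P ⟶ Q} (h : IsPullback j' q' q j) (hj' : Topology.IsInducing j')
    (hq : IsOpenMap q) : IsOpenMap q' := by
  intro Z hZ
  obtain ⟨Z₁, hZ₁, rfl⟩ := hj'.isOpen_iff.mp hZ
  rw [Scheme.image_preimage_eq_of_isPullback h]
  exact (hq _ hZ₁).preimage j.continuous

theorem isOpenMap_of_isPullback_of_isPreimmersion {P' P T Q : Scheme.{u}} {q' : P' ⟶ T}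
    {j' : P' ⟶ P} {j : T ⟶ Q} {q : P ⟶ Q} (h : IsPullback j' q' q j) [IsPreimmersion j]
    (hq : IsOpenMap q) : IsOpenMap q' := by
  have : IsPreimmersion j' := MorphismProperty.of_isPullback (P := @IsPreimmersion) h.flip ‹_›
  exact isOpenMap_of_isPullback h j'.isEmbedding.isInducing hq

theorem isOpenMap_of_isPullback_of_factor {X S T X' : Scheme.{u}} (f : X ⟶ S) (τ : Type u)
    (j : T ⟶ 𝔸(τ; S)) [IsPreimmersion j] {f' : X' ⟶ T} {i₁ : X' ⟶ X}
    (h : IsPullback f' i₁ (j ≫ 𝔸(τ; S) ↘ S) f)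
    (H : IsOpenMap (map τ f)) : IsOpenMap f' := by
  let l : X' ⟶ 𝔸(τ; X) := (isPullback_map (n := τ) f).lift (f' ≫ j) i₁ (by simpa using h.w)
  have hl₁ : l ≫ map τ f = f' ≫ j := (isPullback_map (n := τ) f).lift_fst _ _ _
  have hl₂ : l ≫ 𝔸(τ; X) ↘ X = i₁ := (isPullback_map (n := τ) f).lift_snd _ _ _
  have : IsPullback l f' (map τ f) j := by
    refine IsPullback.of_right ?_ hl₁ (isPullback_map (n := τ) f).flip
    rw [hl₂]
    exact h.flip
  exact isOpenMap_of_isPullback_of_isPreimmersion this H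

/-- Affine source: if `𝔸(σ; Spec B) ⟶ 𝔸(σ; S)` is open for all finite `σ`, it is open for
all `τ`. -/
theorem isOpenMap_map_Spec_of_forall_finite {B : CommRingCat.{u}} {S : Scheme.{u}}
    (a : Spec B ⟶ S) (H : ∀ (σ : Type u) [Finite σ], IsOpenMap (map σ a)) (τ : Type u) :
    IsOpenMap (map τ a) := by
  classical
  intro U hU
  rw [isOpen_iff_forall_mem_open]
  rintro _ ⟨w, hw, rfl⟩
  -- a basic open neighbourhood of `w` inside `U`
  have hU' : IsOpen ((SpecIso τ B).hom.homeomorph '' U) :=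
    (SpecIso τ B).hom.homeomorph.isOpenMap _ hU
  obtain ⟨_, ⟨_, ⟨g, rfl⟩, rfl⟩, hwg, hgU⟩ := PrimeSpectrum.isBasis_basic_opens.exists_subset_of_mem_open
    (show (SpecIso τ B).hom w ∈ (SpecIso τ B).hom.homeomorph '' U from ⟨w, hw, rfl⟩) hU'
  let σf : Finset τ := g.vars
  let i : (↥σf) → τ := Subtype.val
  have hi : Function.Injective i := Subtype.val_injective
  obtain ⟨g₀, hg₀⟩ : ∃ g₀ : MvPolynomial (↥σf) B, MvPolynomial.rename i g₀ = g :=
    MvPolynomial.exists_rename_eq_of_vars_subset_range g i hi (fun x hx ↦ ⟨⟨x, hx⟩, rfl⟩)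
  let D₀ : Set (Spec (CommRingCat.of (MvPolynomial (↥σf) B))) :=
    ((PrimeSpectrum.basicOpen g₀ : TopologicalSpace.Opens (PrimeSpectrum (MvPolynomial (↥σf) B))) :
      Set (PrimeSpectrum (MvPolynomial (↥σf) B)))
  have hD₀ : IsOpen D₀ := (PrimeSpectrum.basicOpen g₀).2
  let V₀ : Set 𝔸(↥σf; Spec B) := (SpecIso (↥σf) B).hom ⁻¹' D₀
  have hV₀ : IsOpen V₀ := hD₀.preimage (SpecIso (↥σf) B).hom.continuous
  -- points of `reindex ⁻¹' V₀` lie in `U`
  have hmem : ∀ z : 𝔸(τ; Spec B), reindex i (Spec B) z ∈ V₀ ↔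
      (SpecIso τ B).hom z ∈ PrimeSpectrum.basicOpen g := by
    intro z
    change (SpecIso (↥σf) B).hom (reindex i (Spec B) z) ∈ PrimeSpectrum.basicOpen g₀ ↔ _
    rw [SpecIso_hom_reindex_apply, ← hg₀]
    rfl
  have hVU : reindex i (Spec B) ⁻¹' V₀ ⊆ U := by
    intro z hz
    obtain ⟨z', hz', hzz'⟩ := hgU ((hmem z).mp hz)
    have : z' = z := (SpecIso τ B).hom.homeomorph.injective hzz'
    exact this ▸ hz'
  have hopen : IsOpen (map (↥σf) a '' V₀) := H (↥σf) _ hV₀
  have heq := Scheme.image_preimage_eq_of_isPullback (isPullback_map_reindex i a).flip V₀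
  refine ⟨reindex i S ⁻¹' (map (↥σf) a '' V₀), ?_, hopen.preimage (reindex i S).continuous, ?_⟩
  · rw [← heq]
    exact Set.image_mono hVU
  · rw [← heq]
    exact ⟨w, (hmem w).mpr hwg, rfl⟩

/-- If `𝔸(σ; X) ⟶ 𝔸(σ; S)` is open for all finite `σ`, then it is open for all `τ`. -/
theorem isOpenMap_map_of_forall_finite {X S : Scheme.{u}} (f : X ⟶ S)
    (H : ∀ (σ : Type u) [Finite σ], IsOpenMap (map σ f)) (τ : Type u) :
    IsOpenMap (map τ f) := by
  let 𝒰 := X.affineOpenCover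
  have key : ∀ j, IsOpenMap (map τ (𝒰.f j ≫ f)) := by
    intro j
    apply isOpenMap_map_Spec_of_forall_finite
    intro σ _
    rw [map_comp]
    simp only [Scheme.Hom.comp_base, TopCat.coe_comp]
    exact (H σ).comp (map σ (𝒰.f j)).isOpenEmbedding.isOpenMap
  intro U hU
  have : map τ f '' U = ⋃ j, map τ (𝒰.f j ≫ f) '' (map τ (𝒰.f j) ⁻¹' U) := by
    ext s
    simp only [Set.mem_image, Set.mem_iUnion, Set.mem_preimage]
    constructor
    · rintro ⟨z, hz, rfl⟩
      obtain ⟨w, hw, -⟩ := Scheme.exists_preimage_of_isPullback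
        (isPullback_map (n := τ) (𝒰.f (𝒰.idx ((𝔸(τ; X) ↘ X) z)))) z _
        (𝒰.covers ((𝔸(τ; X) ↘ X) z)).choose_spec.symm
      refine ⟨_, w, by rwa [hw], ?_⟩
      rw [map_comp, Scheme.Hom.comp_apply, hw]
    · rintro ⟨j, w, hw, rfl⟩
      refine ⟨_, hw, ?_⟩
      rw [map_comp, Scheme.Hom.comp_apply]
  rw [this]
  exact isOpen_iUnion fun j ↦ key j _ (hU.preimage (map τ (𝒰.f j)).continuous)


lemma isOpenMap_map_of_equiv {σ σ' : Type u} (e : σ ≃ σ') {X S : Scheme.{u}} (f : X ⟶ S)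
    (h : IsOpenMap (map σ f)) : IsOpenMap (map σ' f) := by
  have h1 : ∀ Y : Scheme.{u}, reindex (⇑e) Y ≫ reindex (⇑e.symm) Y = 𝟙 _ := by
    intro Y
    rw [reindex_comp', show (⇑e ∘ ⇑e.symm) = id from by ext x; simp, reindex_id]
  have h2 : ∀ Y : Scheme.{u}, reindex (⇑e.symm) Y ≫ reindex (⇑e) Y = 𝟙 _ := by
    intro Y
    rw [reindex_comp', show (⇑e.symm ∘ ⇑e) = id from by ext x; simp, reindex_id]
  have h3 : map σ' f = reindex (⇑e) X ≫ map σ f ≫ reindex (⇑e.symm) S := by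
    rw [← map_reindex_assoc, h1, Category.comp_id]
  let eX : 𝔸(σ'; X) ≅ 𝔸(σ; X) := ⟨reindex (⇑e) X, reindex (⇑e.symm) X, h1 X, h2 X⟩
  let eS : 𝔸(σ; S) ≅ 𝔸(σ'; S) := ⟨reindex (⇑e.symm) S, reindex (⇑e) S, h2 S, h1 S⟩
  rw [h3]
  change IsOpenMap (eX.hom ≫ map σ f ≫ eS.hom)
  simp only [Scheme.Hom.comp_base, TopCat.coe_comp]
  exact ((Scheme.homeoOfIso eS).isOpenMap.comp h).comp (Scheme.homeoOfIso eX).isOpenMap

lemma isOpenMap_map_of_finite {X S : Scheme.{u}} (f : X ⟶ S)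
    (H : ∀ n : ℕ, IsOpenMap (map (ULift.{u} (Fin n)) f)) (σ : Type u) [Finite σ] :
    IsOpenMap (map σ f) := by
  obtain ⟨n, ⟨e⟩⟩ := Finite.exists_equiv_fin σ
  exact isOpenMap_map_of_equiv (Equiv.ulift.trans e.symm) f (H n)

theorem universallyOpen_of_forall_isOpenMap_map_Spec {X : Scheme.{u}} {R : CommRingCat.{u}}
    (f : X ⟶ Spec R) (H : ∀ τ : Type u, IsOpenMap (map τ f)) : UniversallyOpen f := by
  rw [UniversallyOpen.eq]
  intro X' T i₁ i₂ f' h
  rw [IsZariskiLocalAtTarget.iff_of_openCover (P := topologically @IsOpenMap)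
    T.affineOpenCover.openCover]
  intro k
  obtain ⟨τ, j, hj, hjg⟩ := exists_closedImmersion_factor (T.affineOpenCover.f k ≫ i₂)
  have hpb : IsPullback (pullback.snd f' (T.affineOpenCover.f k))
      (pullback.fst f' (T.affineOpenCover.f k) ≫ i₁) (T.affineOpenCover.f k ≫ i₂) f :=
    (IsPullback.of_hasPullback f' (T.affineOpenCover.f k)).flip.paste_vert h
  rw [← hjg] at hpb
  exact isOpenMap_of_isPullback_of_factor f τ j hpb (H τ)

/-- A morphism `f : X ⟶ S` such that `𝔸ⁿ_X ⟶ 𝔸ⁿ_S` is an open map for all `n` is universally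
open. -/
theorem universallyOpen_of_forall_isOpenMap_map {X S : Scheme.{u}} (f : X ⟶ S)
    (H : ∀ n : ℕ, IsOpenMap (map (ULift.{u} (Fin n)) f)) :
    UniversallyOpen f := by
  rw [IsZariskiLocalAtTarget.iff_of_openCover (P := @UniversallyOpen)
    S.affineOpenCover.openCover]
  intro i
  change UniversallyOpen (pullback.snd f (S.affineOpenCover.f i))
  apply universallyOpen_of_forall_isOpenMap_map_Spec
  apply isOpenMap_map_of_forall_finite
  intro σ _
  exact isOpenMap_of_isPullback_of_isPreimmersion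
    (isPullback_map_map σ (IsPullback.of_hasPullback f (S.affineOpenCover.f i)))
    (isOpenMap_map_of_finite f H σ)

/-- `f` is universally open iff `𝔸ⁿ_X ⟶ 𝔸ⁿ_S` is an open map for all `n`. -/
theorem universallyOpen_iff_forall_isOpenMap_map {X S : Scheme.{u}} (f : X ⟶ S) :
    UniversallyOpen f ↔ ∀ n : ℕ, IsOpenMap (map (ULift.{u} (Fin n)) f) := by
  refine ⟨fun hf n ↦ ?_, universallyOpen_of_forall_isOpenMap_map f⟩
  have : UniversallyOpen (map (ULift.{u} (Fin n)) f) :=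
    MorphismProperty.of_isPullback (P := @UniversallyOpen)
      (isPullback_map (n := ULift.{u} (Fin n)) f).flip hf
  exact (map (ULift.{u} (Fin n)) f).isOpenMap

end Groth.Agent.Lib.H80UnivOpenAffineSpace
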