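import Mathlib
import Groth.Agent.Lib.H80UnivOpenAffineSpace
import Groth.Agent.Lib.H69RedInduced
import Groth.Agent.Lib.H80QuasiSec3
import Groth.Agent.Lib.H80Equi3

/-!
# Universal openness from domination of irreducible components (EGA IV 14.3.x)
-/

set_option autoImplicit false
open CategoryTheory AlgebraicGeometry Limits TopologicalSpace
universe u

namespace Groth.Agent.Lib.H80CompDom

open AffineSpace Groth.Agent.Lib.H69RedInduced

theorem universallyOpen_of_components_dominate {X Y : Scheme.{u}} (f : X ⟶ Y)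
    [LocallyOfFinitePresentation f]
    (h : ∀ (Y' : Scheme.{u}) (g : Y' ⟶ Y) [IrreducibleSpace Y'] [LocallyOfFiniteType g]
      [QuasiCompact g],
      ∀ Z ∈ irreducibleComponents (↥(pullback f g) : Type u),
        Dense ((pullback.snd f g).base '' Z)) :
    UniversallyOpen f := by
  apply Groth.Agent.Lib.H80UnivOpenAffineSpace.universallyOpen_of_forall_isOpenMap_map
  intro n
  obtain ⟨σ, hσ⟩ : ∃ σ : Type u, σ = ULift.{u} (Fin n) := ⟨_, rfl⟩
  have hσfin : Finite σ := hσ ▸ inferInstance
  rw [← hσ]
  have hlfp : LocallyOfFinitePresentation (map σ f) :=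
    MorphismProperty.of_isPullback (P := @LocallyOfFinitePresentation)
      (isPullback_map (n := σ) f).flip inferInstance
  apply isOpenMap_of_generalizingMap
  intro x' y₁ hy₁
  -- the closed subscheme `closure {y₁}`
  obtain ⟨C, hC⟩ : ∃ C : Closeds 𝔸(σ; Y), (C : Set 𝔸(σ; Y)) = closure {y₁} :=
    ⟨⟨closure {y₁}, isClosed_closure⟩, rfl⟩
  have hrange : Set.range (redSubι C) = closure {y₁} := by rw [range_redSubι, hC]
  obtain ⟨η', hη'⟩ : y₁ ∈ Set.range (redSubι C) := by
    rw [hrange]; exact subset_closure rfl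
  obtain ⟨y₀', hy₀'⟩ : (map σ f) x' ∈ Set.range (redSubι C) := by
    rw [hrange]; exact specializes_iff_mem_closure.mp hy₁
  have hη'spec : ∀ z : ↥(redSub C), η' ⤳ z := by
    apply Groth.Agent.Lib.H80Equi.forall_specializes_of_range_eq_closure (redSubι C)
      (redSubι C).isEmbedding.isInducing
    rw [hη', hrange]
  have hirr : IrreducibleSpace ↥(redSub C) :=
    Groth.Agent.Lib.H80QuasiSec.irreducibleSpace_of_forall_specializes η' hη'spec
  obtain ⟨g, hg⟩ : ∃ g : redSub C ⟶ Y, g = redSubι C ≫ (𝔸(σ; Y) ↘ Y) := ⟨_, rfl⟩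
  have hglft : LocallyOfFiniteType g := by rw [hg]; infer_instance
  have hgqc : QuasiCompact g := by rw [hg]; infer_instance
  have H := h (redSub C) g
  -- the lift to affine space
  have hpb : IsPullback (pullback.snd f g) (pullback.fst f g) g f :=
    (IsPullback.of_hasPullback f g).flip
  obtain ⟨l, hl⟩ : ∃ l : pullback f g ⟶ 𝔸(σ; X),
      l = (isPullback_map (n := σ) f).lift (pullback.snd f g ≫ redSubι C) (pullback.fst f g)
        (by rw [Category.assoc, ← hg]; exact hpb.w) := ⟨_, rfl⟩
  have hl₁ : l ≫ map σ f = pullback.snd f g ≫ redSubι C := by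
    rw [hl]; exact (isPullback_map (n := σ) f).lift_fst _ _ _
  have hl₂ : l ≫ 𝔸(σ; X) ↘ X = pullback.fst f g := by
    rw [hl]; exact (isPullback_map (n := σ) f).lift_snd _ _ _
  have hsq : IsPullback l (pullback.snd f g) (map σ f) (redSubι C) := by
    refine IsPullback.of_right ?_ hl₁ (isPullback_map (n := σ) f).flip
    rw [hl₂, ← hg]
    exact hpb.flip
  obtain ⟨p, hp1, hp2⟩ := Scheme.exists_preimage_of_isPullback hsq x' y₀' hy₀'.symm
  -- the generic point of the component through `p`
  obtain ⟨t, ht⟩ := QuasiSober.sober (isIrreducible_irreducibleComponent (x := p))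
    isClosed_irreducibleComponent
  have htp : t ⤳ p := by
    rw [specializes_iff_mem_closure, ht.def]
    exact mem_irreducibleComponent
  have hdense := H _ (irreducibleComponent_mem_irreducibleComponents p)
  have hcl : closure ({(pullback.snd f g) t} : Set ↥(redSub C)) = Set.univ := by
    have h1 : closure ((pullback.snd f g).base '' irreducibleComponent p) = Set.univ :=
      hdense.closure_eq
    rw [← ht.def, closure_image_closure (pullback.snd f g).continuous, Set.image_singleton] at h1
    exact h1
  have hsnd : (pullback.snd f g) t = η' := by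
    have h1 : (pullback.snd f g) t ⤳ η' := by
      rw [specializes_iff_mem_closure, hcl]; trivial
    exact (h1.antisymm (hη'spec _)).eq
  refine ⟨l t, ?_, ?_⟩
  · rw [← hp1]
    exact htp.map l.continuous
  · rw [← Scheme.Hom.comp_apply, hl₁, Scheme.Hom.comp_apply, hsnd, hη']

end Groth.Agent.Lib.H80CompDom
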