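import Mathlib
import Groth.Agent.Lib.RegularLocal
import Groth.Agent.Lib.RegularDimOne
import Groth.Agent.Lib.H69RedInduced

/-!
# helper80: morphisms to a regular one-dimensional base whose maximal points are dominant

* `UniversallyOpen.of_comp_surjective'` : descent of universal openness along a surjection on the source.
* `flat_of_comap_minimalPrimes_eq_bot` : a reduced algebra over a regular local ring of dimension `≤ 1` all of whose
  minimal primes lie over `⊥` is flat (torsion free over a PID).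
* `flat_of_forall_maximal` : a reduced scheme over an irreducible scheme with regular local rings of dimension `≤ 1`
  whose maximal points all map to the generic point is flat.
* `isClosed_setOf_exists_maximal_specializes` : in a locally Noetherian scheme the union of the closures of any set of
  maximal points is closed.
-/

set_option autoImplicit false
universe u
open CategoryTheory AlgebraicGeometry TopologicalSpace

namespace Groth.Agent.Lib.H80DedekindOpen

set_option backward.isDefEq.respectTransparency.types false in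
theorem universallyOpen_of_comp_surjective {X Y Z : Scheme.{u}} (f : X ⟶ Y) (g : Y ⟶ Z)
    [UniversallyOpen (f ≫ g)] [Surjective f] : UniversallyOpen g := by
  constructor
  intro X' Y' i₁ i₂ f' H
  have := UniversallyOpen.universally_isOpenMap _ _ _
    ((IsPullback.of_hasPullback i₁ f).paste_horiz H)
  exact IsOpenMap.of_comp (Scheme.Hom.continuous _)
    (MorphismProperty.pullback_fst (P := @Surjective) _ _ ‹_›).1 this

theorem flat_of_comap_minimalPrimes_eq_bot {O : Type u} {B : Type*} [CommRing O] [CommRing B]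
    [IsRegularLocalRing O] (hdim : ringKrullDim O ≤ 1) [IsReduced B] (φ : O →+* B)
    (h : ∀ 𝔭 ∈ minimalPrimes B, Ideal.comap φ 𝔭 = ⊥) : φ.Flat := by
  have hdom : IsDomain O := Groth.Agent.Lib.RegularLocal.isDomain O
  have hpid : IsPrincipalIdealRing O :=
    Groth.Agent.Lib.RegularDimOne.isPrincipalIdealRing_of_regular_of_dim_le_one O hdim
  algebraize [φ]
  change Module.Flat O B
  rw [Module.Flat.flat_iff_torsion_eq_bot_of_isBezout, eq_bot_iff]
  intro m hm
  rw [Submodule.mem_torsion_iff] at hm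
  obtain ⟨a, ha⟩ := hm
  have hmem : ∀ 𝔭 ∈ minimalPrimes B, m ∈ 𝔭 := by
    intro 𝔭 h𝔭
    have hp : 𝔭.IsPrime := h𝔭.1.1
    have h1 : algebraMap O B a * m ∈ 𝔭 := by
      rw [← Algebra.smul_def]
      have : (a : O) • m = 0 := ha
      rw [this]; exact 𝔭.zero_mem
    rcases hp.mem_or_mem h1 with h2 | h2
    · exfalso
      have h3 : (a : O) ∈ Ideal.comap φ 𝔭 := h2
      rw [h _ h𝔭] at h3
      exact nonZeroDivisors.ne_zero a.2 (by simp at h3)
    · exact h2
  have h2 : m ∈ sInf (minimalPrimes B) := by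
    rw [Submodule.mem_sInf]; exact fun 𝔭 h => hmem 𝔭 h
  rw [minimalPrimes, Ideal.sInf_minimalPrimes] at h2
  have h3 : (⊥ : Ideal B).radical = ⊥ := by
    have := nilradical_eq_zero B
    exact this
  rw [h3] at h2
  exact h2

theorem flat_of_forall_maximal {V Y : Scheme.{u}} [IrreducibleSpace Y] [IsReduced V]
    (hY : ∀ y : Y, IsRegularLocalRing (Y.presheaf.stalk y) ∧ ringKrullDim (Y.presheaf.stalk y) ≤ 1)
    (g : V ⟶ Y) (hmax : ∀ ξ : V, (∀ z : V, z ⤳ ξ → z = ξ) → g ξ = genericPoint Y) : Flat g := by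
  rw [Flat.iff_flat_stalkMap]
  intro v
  have hreg := (hY (g v)).1
  have hdom : IsDomain (Y.presheaf.stalk (g v)) := Groth.Agent.Lib.RegularLocal.isDomain _
  apply flat_of_comap_minimalPrimes_eq_bot (hY (g v)).2
  intro 𝔭 h𝔭
  have hsq : ∀ p : Spec (V.presheaf.stalk v),
      (Y.fromSpecStalk (g v)) ((Spec.map (g.stalkMap v)) p) = g ((V.fromSpecStalk v) p) := by
    intro p
    have := congrArg (fun k => k.base p) (Scheme.SpecMap_stalkMap_fromSpecStalk (f := g) (x := v))
    exact this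
  have hinjy : Function.Injective (Y.fromSpecStalk (g v)) :=
    (Y.fromSpecStalk (g v)).isEmbedding.injective
  obtain ⟨bot, hbotdef⟩ : ∃ b : Spec (Y.presheaf.stalk (g v)), b.asIdeal = ⊥ :=
    ⟨⟨⊥, Ideal.isPrime_bot⟩, rfl⟩
  have hbot : (Y.fromSpecStalk (g v)) bot = genericPoint Y := by
    have hη : genericPoint Y ⤳ g v := genericPoint_specializes _
    obtain ⟨p', hp'⟩ : genericPoint Y ∈ Set.range (Y.fromSpecStalk (g v)) := by
      rw [Scheme.range_fromSpecStalk]; exact hη
    have h1 : bot ⤳ p' := (PrimeSpectrum.le_iff_specializes _ _).mp (by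
      change bot.asIdeal ≤ p'.asIdeal
      rw [hbotdef]; exact bot_le)
    have h2 : (Y.fromSpecStalk (g v)) bot ⤳ genericPoint Y :=
      hp' ▸ h1.map (Y.fromSpecStalk (g v)).continuous
    exact (h2.antisymm (genericPoint_specializes _)).eq
  obtain ⟨p, hp⟩ : ∃ b : Spec (V.presheaf.stalk v), b.asIdeal = 𝔭 := ⟨⟨𝔭, h𝔭.1.1⟩, rfl⟩
  have hpmax : ∀ z : V, z ⤳ (V.fromSpecStalk v) p → z = (V.fromSpecStalk v) p := by
    intro z hz
    have hzv : z ⤳ v := by
      have : (V.fromSpecStalk v) p ∈ Set.range (V.fromSpecStalk v) := ⟨p, rfl⟩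
      rw [Scheme.range_fromSpecStalk] at this
      exact hz.trans this
    obtain ⟨q, hq⟩ : z ∈ Set.range (V.fromSpecStalk v) := by
      rw [Scheme.range_fromSpecStalk]; exact hzv
    have h1 : q ⤳ p := by
      rw [← (V.fromSpecStalk v).isEmbedding.isInducing.specializes_iff, hq]
      exact hz
    have h2 : q.asIdeal ≤ p.asIdeal := (PrimeSpectrum.le_iff_specializes _ _).mpr h1
    have h3 : p.asIdeal ≤ q.asIdeal := by
      rw [hp]
      exact h𝔭.2 ⟨q.isPrime, bot_le⟩ (hp ▸ h2)
    have h4 : q = p := PrimeSpectrum.ext (le_antisymm h2 h3)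
    rw [← hq, h4]
  have h1 : (Spec.map (g.stalkMap v)) p = bot := by
    apply hinjy
    rw [hsq, hmax _ hpmax, hbot]
  rw [← hbotdef, ← h1, ← hp]
  rfl

theorem isClosed_setOf_exists_maximal_specializes {X : Scheme.{u}} [IsLocallyNoetherian X]
    (P : X → Prop) :
    IsClosed {x : X | ∃ ξ : X, (∀ z : X, z ⤳ ξ → z = ξ) ∧ P ξ ∧ ξ ⤳ x} := by
  rw [← isOpen_compl_iff, isOpen_iff_forall_mem_open]
  intro x hx
  obtain ⟨_, ⟨N, hN, rfl⟩, hxN, -⟩ := X.isBasis_affineOpens.exists_subset_of_mem_open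
    (Set.mem_univ x) isOpen_univ
  replace hN : IsAffineOpen N := hN
  have : IsNoetherianRing Γ(X, N) := IsLocallyNoetherian.component_noetherian ⟨N, hN⟩
  have hNS : NoetherianSpace (N : Set X) := noetherianSpace_of_isAffineOpen N hN
  have hQ : QuasiSober (N : Set X) := N.isOpen.isOpenEmbedding_subtypeVal.quasiSober
  -- maximal points of `N`
  have hfinM : {ξ : (N : Set X) | ∀ z : (N : Set X), z ⤳ ξ → z = ξ}.Finite := by
    refine Set.Finite.of_injOn (f := fun ξ : (N : Set X) => irreducibleComponent ξ)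
      (t := irreducibleComponents (N : Set X))
      (fun ξ _ => irreducibleComponent_mem_irreducibleComponents ξ) ?_
      NoetherianSpace.finite_irreducibleComponents
    intro ξ₁ h₁ ξ₂ h₂ heq
    obtain ⟨c, hc⟩ := QuasiSober.sober (isIrreducible_irreducibleComponent (x := ξ₁))
      isClosed_irreducibleComponent
    have hc1 : c ⤳ ξ₁ := by
      rw [specializes_iff_mem_closure, hc.def]; exact mem_irreducibleComponent
    have hc2 : c ⤳ ξ₂ := by
      rw [specializes_iff_mem_closure, hc.def]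
      have : irreducibleComponent ξ₁ = irreducibleComponent ξ₂ := heq
      rw [this]; exact mem_irreducibleComponent
    rw [← h₁ c hc1, ← h₂ c hc2]
  have hfinB : {ξ : X | ξ ∈ N ∧ (∀ z : X, z ⤳ ξ → z = ξ) ∧ P ξ}.Finite := by
    refine (hfinM.image Subtype.val).subset ?_
    rintro ξ ⟨hξN, hξmax, -⟩
    refine ⟨⟨ξ, hξN⟩, ?_, rfl⟩
    intro z hz
    exact Subtype.ext (hξmax z.1 ((subtype_specializes_iff z ⟨ξ, hξN⟩).mp hz))
  have hcl : IsClosed (⋃ ξ ∈ {ξ : X | ξ ∈ N ∧ (∀ z : X, z ⤳ ξ → z = ξ) ∧ P ξ},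
      closure ({ξ} : Set X)) := hfinB.isClosed_biUnion fun _ _ => isClosed_closure
  refine ⟨(N : Set X) ∩ (⋃ ξ ∈ {ξ : X | ξ ∈ N ∧ (∀ z : X, z ⤳ ξ → z = ξ) ∧ P ξ},
      closure ({ξ} : Set X))ᶜ, ?_, N.isOpen.inter hcl.isOpen_compl, ⟨hxN, ?_⟩⟩
  · rintro z ⟨hzN, hz⟩ ⟨ξ, hξmax, hPξ, hξz⟩
    apply hz
    have hξN : ξ ∈ N := hξz.mem_open N.isOpen hzN
    exact Set.mem_biUnion (show ξ ∈ {ξ : X | ξ ∈ N ∧ (∀ z : X, z ⤳ ξ → z = ξ) ∧ P ξ} from
      ⟨hξN, hξmax, hPξ⟩) (specializes_iff_mem_closure.mp hξz)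
  · intro hmem
    rw [Set.mem_iUnion₂] at hmem
    obtain ⟨ξ, ⟨-, hξmax, hPξ⟩, hxξ⟩ := hmem
    exact hx ⟨ξ, hξmax, hPξ, specializes_iff_mem_closure.mpr hxξ⟩

end Groth.Agent.Lib.H80DedekindOpen
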