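/-
helper80: flatness over a DVR from openness at the maximal points of the closed fibre + reducedness of the
fibre (EGA IV 15.2.x). Uses helper47's Lib/H47DvrFibre (toStalkX, fibreIdeal_eq) and helper33's FibreStalk33.
Main results: `eq_zero_of_mul_eq_zero_of_generizations` (algebra), `flat_of_regular_of_dvr`,
`fromSpecStalk_comp`, `asIdeal_fromSpecStalk`, `not_isNilpotent_of_isOpenAt`, `exists_le_of_isOpenAt`,
`flat_stalkMap_of_flat_toStalkX`, `flat_stalkMap_of_isOpenAt_of_isReduced`.
-/
import Mathlib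
import Groth.Agent.Lib.H47DvrFibre
import Groth.Prelude.Def_EGA43

set_option autoImplicit false
universe u
open AlgebraicGeometry CategoryTheory Limits IsLocalRing TopologicalSpace Opposite
open Groth.Agent.Lib.H47DvrFibre

namespace Groth.Agent.Lib.H80DvrOpenFlat

/-- Key algebra: `B` Noetherian local, `π ∈ 𝔪`, `(π)` radical, every minimal prime over `(π)`
contains a prime avoiding `π`. Then `π` is a nonzerodivisor. -/
theorem eq_zero_of_mul_eq_zero_of_generizations {B : Type*} [CommRing B] [IsLocalRing B]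
    [IsNoetherianRing B] (π : B) (hπ : π ∈ maximalIdeal B)
    (hred : (Ideal.span {π}).IsRadical)
    (hgen : ∀ q ∈ (Ideal.span {π}).minimalPrimes, ∃ p : Ideal B, p.IsPrime ∧ p ≤ q ∧ π ∉ p)
    (b : B) (hb : π * b = 0) : b = 0 := by
  -- the π-power torsion ideal
  let T : Ideal B :=
    { carrier := {t | ∃ n : ℕ, π ^ n * t = 0}
      add_mem' := by
        rintro a b ⟨n, hn⟩ ⟨m, hm⟩
        refine ⟨n + m, ?_⟩
        have h1 : π ^ (n + m) * a = π ^ m * (π ^ n * a) := by ring
        have h2 : π ^ (n + m) * b = π ^ n * (π ^ m * b) := by ring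
        rw [mul_add, h1, h2, hn, hm]
        simp
      zero_mem' := ⟨0, by simp⟩
      smul_mem' := by
        rintro c a ⟨n, hn⟩
        refine ⟨n, ?_⟩
        rw [smul_eq_mul, mul_left_comm, hn, mul_zero] }
  have hT : ∀ t, t ∈ T ↔ ∃ n : ℕ, π ^ n * t = 0 := fun t => Iff.rfl
  have hsub : T ≤ Ideal.span {π} • T := by
    intro t ht
    obtain ⟨n, hn⟩ := (hT t).mp ht
    have hmem : t ∈ Ideal.span {π} := by
      rw [← hred.radical, ← Ideal.sInf_minimalPrimes, Ideal.mem_sInf]
      intro q hq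
      obtain ⟨p, hp, hpq, hπp⟩ := hgen q hq
      apply hpq
      have h0 : π ^ n * t ∈ p := by rw [hn]; exact p.zero_mem
      rcases hp.mem_or_mem h0 with h | h
      · exact absurd (hp.mem_of_pow_mem n h) hπp
      · exact h
    obtain ⟨t', rfl⟩ := Ideal.mem_span_singleton'.mp hmem
    have ht' : t' ∈ T := ⟨n + 1, by rw [pow_succ, mul_assoc, mul_comm π t']; exact hn⟩
    rw [mul_comm]
    exact Submodule.smul_mem_smul (Ideal.mem_span_singleton_self π) ht'
  have hjac : Ideal.span {π} ≤ Ideal.jacobson (⊥ : Ideal B) := by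
    rw [IsLocalRing.jacobson_eq_maximalIdeal ⊥ bot_ne_top, Ideal.span_singleton_le_iff_mem]
    exact hπ
  have hTbot : T = ⊥ :=
    Submodule.eq_bot_of_le_smul_of_le_jacobson_bot (Ideal.span {π}) T (IsNoetherian.noetherian T)
      hsub hjac
  have : b ∈ T := ⟨1, by rw [pow_one]; exact hb⟩
  rw [hTbot] at this
  exact this

theorem flat_of_regular_of_dvr {A B : Type*} [CommRing A] [IsDomain A] [IsDiscreteValuationRing A]
    [CommRing B] (φ : A →+* B) (ϖ : A) (hϖ : Irreducible ϖ)
    (hreg : ∀ b, φ ϖ * b = 0 → b = 0) : φ.Flat := by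
  algebraize [φ]
  show Module.Flat A B
  rw [IsDedekindDomain.flat_iff_torsion_eq_bot, Submodule.eq_bot_iff]
  intro b hb
  rw [Submodule.mem_torsion_iff] at hb
  obtain ⟨⟨a, ha⟩, hab⟩ := hb
  have ha0 : a ≠ 0 := nonZeroDivisors.ne_zero ha
  obtain ⟨n, u, rfl⟩ := IsDiscreteValuationRing.eq_unit_mul_pow_irreducible ha0 hϖ
  have h1 : φ (↑u * ϖ ^ n) * b = 0 := by
    have : (↑u * ϖ ^ n) • b = 0 := hab
    rwa [Algebra.smul_def] at this
  rw [map_mul, map_pow, mul_assoc] at h1
  have hu : IsUnit (φ ↑u) := u.isUnit.map φ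
  have h2 : φ ϖ ^ n * b = 0 := (hu.mul_right_eq_zero).mp h1
  clear h1 hab ha ha0
  induction n with
  | zero => simpa using h2
  | succ n ih =>
    apply ih
    apply hreg
    rw [← mul_assoc, ← pow_succ']
    exact h2

variable {R : Type u} [CommRing R] {X : Scheme.{u}} (f : X ⟶ Spec (CommRingCat.of R))

lemma eq_toSpecΓ_comp : f = X.toSpecΓ ≫ Spec.map (CommRingCat.ofHom (toΓ f)) := by
  have h := Scheme.toSpecΓ_naturality f
  have h2 : toΓ f = ((Scheme.ΓSpecIso (CommRingCat.of R)).inv ≫ f.appTop).hom := rfl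
  rw [h2, CommRingCat.ofHom_hom, Spec.map_comp, ← Category.assoc, ← h, Category.assoc,
    toSpecΓ_SpecMap_ΓSpecIso_inv, Category.comp_id]

lemma fromSpecStalk_comp (x : X) :
    X.fromSpecStalk x ≫ f = Spec.map (CommRingCat.ofHom (toStalkX f x)) := by
  conv_lhs => rw [eq_toSpecΓ_comp f]
  rw [← Category.assoc, Scheme.fromSpecStalk_toSpecΓ, ← Spec.map_comp]
  rfl

lemma asIdeal_fromSpecStalk (x : X) (p : Spec (X.presheaf.stalk x)) :
    (f (X.fromSpecStalk x p)).asIdeal = Ideal.comap (toStalkX f x) p.asIdeal := by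
  rw [← Scheme.Hom.comp_apply, fromSpecStalk_comp]
  rfl

lemma toStalkX_eq_germ (x : X) (G : X.Opens) (hx : x ∈ G) (r : R) :
    toStalkX f x r = X.presheaf.germ G x hx (toΓG f G r) := (germ_toΓG f G x hx r).symm

/-- If `f` is open at a point `x'` of the closed fibre then `ϖ` is not nilpotent in `𝒪_{X,x'}`. -/
lemma not_isNilpotent_of_isOpenAt [IsLocalRing R] (ϖ : R) (hϖ' : ¬ IsNilpotent ϖ) (x' : X)
    (hx' : f x' = closedPoint R) (hopen : EGA43.IsOpenAt f.base x') :
    ¬ IsNilpotent (toStalkX f x' ϖ) := by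
  rintro ⟨n, hn⟩
  -- spread out
  have h0 : X.presheaf.germ ⊤ x' trivial ((toΓ f ϖ) ^ n) = X.presheaf.germ ⊤ x' trivial 0 := by
    rw [map_pow, map_zero]; exact hn
  obtain ⟨W, hxW, iU, iV, hW⟩ := TopCat.Presheaf.germ_eq X.presheaf x' (U := ⊤) (V := ⊤) trivial trivial _ _ h0
  have hW' : (toΓG f W ϖ) ^ n = 0 := by
    have : X.presheaf.map iU.op ((toΓ f ϖ) ^ n) = 0 := by rw [hW, map_zero]
    rw [map_pow] at this
    exact this
  have hsub : f.base '' (W : Set X) ⊆ {p | ϖ ∈ p.asIdeal} := by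
    rintro _ ⟨u, hu, rfl⟩
    by_contra hcon
    have hunit := isUnit_toStalkX_of_not_mem f ϖ u hcon
    rw [toStalkX_eq_germ f u W hu] at hunit
    have hnil : IsNilpotent (X.presheaf.germ W u hu (toΓG f W ϖ)) :=
      ⟨n, by rw [← map_pow, hW', map_zero]⟩
    exact hnil.not_isUnit hunit
  have hnhds := hopen W (W.isOpen.mem_nhds hxW)
  rw [mem_nhds_iff] at hnhds
  obtain ⟨O, hOsub, hO, hyO⟩ := hnhds
  -- a prime not containing ϖ
  obtain ⟨p₀, hp₀, hp₀'⟩ : ∃ p₀ : Ideal R, p₀.IsPrime ∧ ϖ ∉ p₀ := by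
    by_contra hcon
    push Not at hcon
    apply hϖ'
    rw [nilpotent_iff_mem_prime]
    exact fun J hJ => hcon J hJ
  let P₀ : Spec (CommRingCat.of R) := ⟨p₀, hp₀⟩
  have hspec : P₀ ⤳ f.base x' := by
    have h1 : f.base x' = closedPoint R := hx'
    rw [h1]
    exact IsLocalRing.specializes_closedPoint P₀
  have : P₀ ∈ O := hspec.mem_open hO hyO
  exact hp₀' (hsub (hOsub this))

lemma exists_le_of_isOpenAt [IsLocalRing R] (ϖ : R) (hϖ' : ¬ IsNilpotent ϖ) (x : X)
    (q : Spec (X.presheaf.stalk x)) (hq : f (X.fromSpecStalk x q) = closedPoint R)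
    (hopen : EGA43.IsOpenAt f.base (X.fromSpecStalk x q)) :
    ∃ p : Spec (X.presheaf.stalk x), p.asIdeal ≤ q.asIdeal ∧ toStalkX f x ϖ ∉ p.asIdeal := by
  set xq := X.fromSpecStalk x q with hxq
  have hnn := not_isNilpotent_of_isOpenAt f ϖ hϖ' xq hq hopen
  obtain ⟨p', hp', hp'2⟩ : ∃ p' : Ideal (X.presheaf.stalk xq), p'.IsPrime ∧ toStalkX f xq ϖ ∉ p' := by
    by_contra hcon
    push Not at hcon
    apply hnn
    rw [nilpotent_iff_mem_prime]
    exact fun J hJ => hcon J hJ
  let P' : Spec (X.presheaf.stalk xq) := ⟨p', hp'⟩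
  set x'' := X.fromSpecStalk xq P' with hx''
  have h1 : x'' ⤳ xq := by
    have : x'' ∈ Set.range (X.fromSpecStalk xq) := ⟨P', rfl⟩
    rwa [Scheme.range_fromSpecStalk] at this
  have h2 : xq ⤳ x := by
    have : xq ∈ Set.range (X.fromSpecStalk x) := ⟨q, rfl⟩
    rwa [Scheme.range_fromSpecStalk] at this
  obtain ⟨p, hp⟩ : x'' ∈ Set.range (X.fromSpecStalk x) := by
    rw [Scheme.range_fromSpecStalk]; exact h1.trans h2
  refine ⟨p, ?_, ?_⟩
  · have hspec : p ⤳ q := by
      rw [← (X.fromSpecStalk x).isEmbedding.isInducing.specializes_iff, hp]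
      exact h1
    exact (PrimeSpectrum.le_iff_specializes (p : PrimeSpectrum (X.presheaf.stalk x)) q).mpr hspec
  · have e1 := asIdeal_fromSpecStalk f x p
    have e2 := asIdeal_fromSpecStalk f xq P'
    rw [hp] at e1
    rw [← hx'', e1] at e2
    intro hmem
    apply hp'2
    have : ϖ ∈ Ideal.comap (toStalkX f x) p.asIdeal := hmem
    rw [e2] at this
    exact this

set_option backward.isDefEq.respectTransparency.types false in
lemma toStalkX_eq_comp (x : X) :
    letI : Algebra R ((Spec (CommRingCat.of R)).presheaf.stalk (f x)) :=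
      StructureSheaf.stalkAlgebra R (f x)
    toStalkX f x = (f.stalkMap x).hom.comp
      (algebraMap R ((Spec (CommRingCat.of R)).presheaf.stalk (f x))) := by
  ext r
  simp only [RingHom.comp_apply, toStalkX, toΓ]
  have := Scheme.Hom.germ_stalkMap_apply f ⊤ x trivial ((Scheme.ΓSpecIso (CommRingCat.of R)).inv r)
  erw [← this]
  rfl

set_option backward.isDefEq.respectTransparency.types false in
lemma flat_stalkMap_of_flat_toStalkX (x : X) (h : (toStalkX f x).Flat) :
    (f.stalkMap x).hom.Flat := by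
  let k : Algebra R ((Spec (CommRingCat.of R)).presheaf.stalk (f x)) :=
    StructureSheaf.stalkAlgebra R (f x)
  have hloc : IsLocalization.AtPrime ((Spec (CommRingCat.of R)).presheaf.stalk (f x)) (f x).asIdeal :=
    StructureSheaf.IsLocalization.to_stalk R (f x)
  let a1 : Algebra ((Spec (CommRingCat.of R)).presheaf.stalk (f x)) (X.presheaf.stalk x) :=
    (f.stalkMap x).hom.toAlgebra
  let a2 : Algebra R (X.presheaf.stalk x) := (toStalkX f x).toAlgebra
  have : IsScalarTower R ((Spec (CommRingCat.of R)).presheaf.stalk (f x)) (X.presheaf.stalk x) :=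
    IsScalarTower.of_algebraMap_eq' (toStalkX_eq_comp f x)
  have hfl : Module.Flat R (X.presheaf.stalk x) := h
  show Module.Flat ((Spec (CommRingCat.of R)).presheaf.stalk (f x)) (X.presheaf.stalk x)
  exact (Module.flat_iff_of_isLocalization ((Spec (CommRingCat.of R)).presheaf.stalk (f x))
    (f x).asIdeal.primeCompl (X.presheaf.stalk x)).mpr hfl

open Groth.Agent.Lib.FibreStalk33 in
theorem flat_stalkMap_of_isOpenAt_of_isReduced {A : Type u} [CommRing A] [IsDomain A]
    [IsDiscreteValuationRing A] {X : Scheme.{u}} (f : X ⟶ Spec (CommRingCat.of A))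
    [LocallyOfFiniteType f] (x : X)
    (hx : f.base x = IsLocalRing.closedPoint A)
    (h : ∀ z : ↥(f.fiber (f.base x)), f.asFiber x ∈ closure {z} →
      (∀ z' : ↥(f.fiber (f.base x)), z ∈ closure {z'} → z' = z) →
        EGA43.IsOpenAt f.base ((f.fiberι (f.base x)).base z))
    (hred : _root_.IsReduced ((f.fiber (f.base x)).presheaf.stalk (f.asFiber x))) :
    (f.stalkMap x).hom.Flat := by
  obtain ⟨ϖ, hϖ⟩ := IsDiscreteValuationRing.exists_irreducible A
  have hmax : maximalIdeal A = Ideal.span {ϖ} := hϖ.maximalIdeal_eq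
  have hnil : ¬ IsNilpotent ϖ := by
    rw [isNilpotent_iff_eq_zero]; exact hϖ.ne_zero
  have hLN : IsLocallyNoetherian X := LocallyOfFiniteType.isLocallyNoetherian f
  have hfx : (f x).asIdeal = maximalIdeal A := by
    rw [show f x = closedPoint A from hx]; rfl
  have hI : Ideal.map (f.stalkMap x).hom
      (maximalIdeal ((Spec (CommRingCat.of A)).presheaf.stalk (f x))) =
      Ideal.span {toStalkX f x ϖ} := by
    rw [fibreIdeal_eq, hfx, hmax, Ideal.map_span, Set.image_singleton]
  have hRed : IsReduced (X.presheaf.stalk x ⧸ Ideal.span {toStalkX f x ϖ}) := by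
    rw [← hI]
    exact isReduced_of_injective (fibreStalkEquiv f x).toRingHom (fibreStalkEquiv f x).injective
  have hrad : (Ideal.span {toStalkX f x ϖ}).IsRadical :=
    (Ideal.isRadical_iff_quotient_reduced _).mpr hRed
  have hπmem : toStalkX f x ϖ ∈ maximalIdeal (X.presheaf.stalk x) := by
    have e := asIdeal_fromSpecStalk f x (closedPoint (X.presheaf.stalk x))
    rw [Scheme.fromSpecStalk_closedPoint, hfx] at e
    have : ϖ ∈ maximalIdeal A := by rw [hmax]; exact Ideal.mem_span_singleton_self ϖ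
    rw [e] at this
    exact this
  have hgen : ∀ q ∈ (Ideal.span {toStalkX f x ϖ}).minimalPrimes,
      ∃ p : Ideal (X.presheaf.stalk x), p.IsPrime ∧ p ≤ q ∧ toStalkX f x ϖ ∉ p := by
    intro q hq
    have hqprime : q.IsPrime := hq.1.1
    let Q : Spec (X.presheaf.stalk x) := ⟨q, hqprime⟩
    have hπq : toStalkX f x ϖ ∈ q := hq.1.2 (Ideal.mem_span_singleton_self _)
    have hfq : f (X.fromSpecStalk x Q) = closedPoint A := by
      apply PrimeSpectrum.ext
      rw [asIdeal_fromSpecStalk]
      change _ = maximalIdeal A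
      have : (Ideal.comap (toStalkX f x) Q.asIdeal).IsPrime := inferInstance
      apply le_antisymm (IsLocalRing.le_maximalIdeal this.ne_top)
      rw [hmax, Ideal.span_singleton_le_iff_mem]
      exact hπq
    have hQx : X.fromSpecStalk x Q ⤳ x := by
      have : X.fromSpecStalk x Q ∈ Set.range (X.fromSpecStalk x) := ⟨Q, rfl⟩
      rwa [Scheme.range_fromSpecStalk] at this
    obtain ⟨z, hz⟩ : X.fromSpecStalk x Q ∈ Set.range (f.fiberι (f x)) := by
      rw [Scheme.Hom.range_fiberι]; exact hfq.trans hx.symm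
    have hz1 : f.asFiber x ∈ closure {z} := by
      rw [← specializes_iff_mem_closure,
        ← (f.fiberι (f x)).isEmbedding.isInducing.specializes_iff, hz, Scheme.Hom.fiberι_asFiber]
      exact hQx
    have hz2 : ∀ z' : ↥(f.fiber (f.base x)), z ∈ closure {z'} → z' = z := by
      intro z' hz'
      rw [← specializes_iff_mem_closure,
        ← (f.fiberι (f x)).isEmbedding.isInducing.specializes_iff, hz] at hz'
      obtain ⟨Q', hQ'⟩ : f.fiberι (f x) z' ∈ Set.range (X.fromSpecStalk x) := by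
        rw [Scheme.range_fromSpecStalk]; exact hz'.trans hQx
      have hle : Q'.asIdeal ≤ q := by
        have hspec : Q' ⤳ Q := by
          rw [← (X.fromSpecStalk x).isEmbedding.isInducing.specializes_iff, hQ']
          exact hz'
        exact (PrimeSpectrum.le_iff_specializes (Q' : PrimeSpectrum (X.presheaf.stalk x)) Q).mpr hspec
      have hπQ' : toStalkX f x ϖ ∈ Q'.asIdeal := by
        have h1 : f (f.fiberι (f x) z') = f x := by
          have : f.fiberι (f x) z' ∈ Set.range (f.fiberι (f x)) := ⟨z', rfl⟩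
          rwa [Scheme.Hom.range_fiberι] at this
        have e := asIdeal_fromSpecStalk f x Q'
        rw [hQ', h1, hfx] at e
        have : ϖ ∈ maximalIdeal A := by rw [hmax]; exact Ideal.mem_span_singleton_self ϖ
        rw [e] at this
        exact this
      have hQ'q : Q'.asIdeal = q :=
        le_antisymm hle (hq.2 ⟨Q'.isPrime, (Ideal.span_singleton_le_iff_mem _).mpr hπQ'⟩ hle)
      apply (f.fiberι (f x)).isEmbedding.injective
      rw [hz, ← hQ']
      congr 1
      exact PrimeSpectrum.ext hQ'q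
    have hopen := h z hz1 hz2
    have hopen' : EGA43.IsOpenAt f.base (X.fromSpecStalk x Q) := by
      rw [← hz]; exact hopen
    obtain ⟨p, hpq, hπp⟩ := exists_le_of_isOpenAt f ϖ hnil x Q hfq hopen'
    exact ⟨p.asIdeal, p.isPrime, hpq, hπp⟩
  have hreg := eq_zero_of_mul_eq_zero_of_generizations (toStalkX f x ϖ) hπmem hrad hgen
  exact flat_stalkMap_of_flat_toStalkX f x (flat_of_regular_of_dvr (toStalkX f x) ϖ hϖ hreg)

end Groth.Agent.Lib.H80DvrOpenFlat
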