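/-
helper80: over a DVR, an open morphism locally of finite type with reduced closed fibre is flat
(consequence of Lib/H80DvrOpenFlat).
Main results: `isOpenAt_of_isOpenMap`, `flat_of_isOpenMap_of_isReduced`.
-/
import Mathlib
import Groth.Agent.Lib.H80DvrOpenFlat

set_option autoImplicit false
universe u
open AlgebraicGeometry CategoryTheory Limits IsLocalRing TopologicalSpace Opposite
open Groth.Agent.Lib.H47DvrFibre Groth.Agent.Lib.H80DvrOpenFlat

namespace Groth.Agent.Lib.H80DvrOpenFlat2

theorem isOpenAt_of_isOpenMap {α β : Type*} [TopologicalSpace α] [TopologicalSpace β] (f : α → β)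
    (hf : IsOpenMap f) (x : α) : EGA43.IsOpenAt f x := fun _ hU => hf.image_mem_nhds hU

theorem flat_of_isOpenMap_of_isReduced (A : Type u) [CommRing A] [IsDomain A]
    [IsDiscreteValuationRing A] {X : Scheme.{u}} (f : X ⟶ Spec (CommRingCat.of A))
    [LocallyOfFiniteType f] (hopen : IsOpenMap f.base)
    (hred : AlgebraicGeometry.IsReduced (f.fiber (closedPoint A))) : Flat f := by
  apply Flat.of_stalkMap
  intro x
  by_cases hx : f.base x = closedPoint A
  · apply flat_stalkMap_of_isOpenAt_of_isReduced f x hx
    · intro z _ _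
      exact isOpenAt_of_isOpenMap _ hopen _
    · have : ∀ (a : ↥(Spec (CommRingCat.of A))) (ha : f.base x = a)
          (_ : AlgebraicGeometry.IsReduced (f.fiber a)),
          _root_.IsReduced ((f.fiber (f.base x)).presheaf.stalk (f.asFiber x)) := by
        rintro _ rfl h
        infer_instance
      exact this _ hx hred
  · obtain ⟨ϖ, hϖ⟩ := IsDiscreteValuationRing.exists_irreducible A
    have hmax : maximalIdeal A = Ideal.span {ϖ} := hϖ.maximalIdeal_eq
    have hnot : ϖ ∉ (f x).asIdeal := by
      intro hmem
      apply hx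
      apply PrimeSpectrum.ext
      change (f x).asIdeal = maximalIdeal A
      apply le_antisymm (IsLocalRing.le_maximalIdeal (f x).isPrime.ne_top)
      rw [hmax, Ideal.span_singleton_le_iff_mem]
      exact hmem
    have hunit := isUnit_toStalkX_of_not_mem f ϖ x hnot
    apply flat_stalkMap_of_flat_toStalkX f x
    apply flat_of_regular_of_dvr (toStalkX f x) ϖ hϖ
    intro b hb
    exact (hunit.mul_right_eq_zero).mp hb

end Groth.Agent.Lib.H80DvrOpenFlat2
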