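import Mathlib
import Groth.Agent.Lib.H87LocFreeExact
import Groth.Agent.Lib.H87SmoothRank
import Groth.Agent.Lib.ModStalkIso
import Groth.Agent.Lib.ModStalkLin
import Groth.Agent.Lib.Conormal81E
import Groth.Agent.Lib.H90InvertiblePullback
import Groth.Agent.Lib.Fitting82U
import Groth.Agent.Lib.H56FibDimSmooth2

/-!
# helper87: smoothness of `f : X ⟶ Y` from the first fundamental sequence

* `injective_of_exact_of_finrank`: over a local ring, `P → Q → T → 0` exact with finite free terms and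
  `rk Q = rk P + rk T` forces `P → Q` injective.
* `formallySmooth_of_injective_mapBaseChange`: `T/R` formally smooth, `T ⊗ Ω[S/R] → Ω[T/R]` injective
  and `Ω[T/S]` projective imply `T/S` formally smooth.
* `mono_of_exact_of_ranks`: sheaf version of the first.
* `smooth_of_mono`, `smooth_of_isFinLocFreeOfRank`: for `X → Y → Z` with `X/Z` smooth, `Y/Z` locally of
  finite type, and `Ω_{Y/Z}`, `Ω_{X/Z}`, `Ω_{X/Y}` locally free of ranks `a`, `a + n`, `n`: `f` is smooth.
* `fibreDimAt_eq_of_smoothOfRelativeDimension`, `smoothOfRelativeDimension_of_fibreDimAt`.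
-/

set_option autoImplicit false
set_option linter.style.haveILetI false
universe u

open CategoryTheory CategoryTheory.Limits AlgebraicGeometry TopologicalSpace Opposite TensorProduct
open KaehlerDifferential

namespace Groth.Agent.Lib.H87FirstSeqSmooth

section rank

/-- over a local ring: `P → Q → T → 0` exact with finite free terms and `rk Q = rk P + rk T` forces
`P → Q` to be injective -/
theorem injective_of_exact_of_finrank {R P Q T : Type*} [CommRing R] [IsLocalRing R]
    [AddCommGroup P] [Module R P] [AddCommGroup Q] [Module R Q] [AddCommGroup T] [Module R T]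
    [Module.Free R P] [Module.Finite R P] [Module.Free R Q] [Module.Finite R Q]
    [Module.Free R T] [Module.Finite R T]
    (u : P →ₗ[R] Q) (v : Q →ₗ[R] T) (hex : Function.Exact u v) (hv : Function.Surjective v)
    (hrank : Module.finrank R Q = Module.finrank R P + Module.finrank R T) :
    Function.Injective u := by
  let K := LinearMap.ker v
  have hexK : Function.Exact K.subtype v := by
    intro q
    rw [Set.mem_range]
    constructor
    · intro hq
      exact ⟨⟨q, hq⟩, rfl⟩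
    · rintro ⟨y, rfl⟩
      exact y.2
  obtain ⟨s, hs⟩ := Module.projective_lifting_property v LinearMap.id hv
  obtain ⟨e, he1, -⟩ := (hexK.splitSurjectiveEquiv K.injective_subtype ⟨s, hs⟩)
  -- `K` is a retract of `Q`
  let r : Q →ₗ[R] K := (LinearMap.fst R K T) ∘ₗ e.toLinearMap
  have hr : r ∘ₗ K.subtype = LinearMap.id := by
    ext y
    have h0 : K.subtype y = e.symm (y, 0) := by
      have := LinearMap.congr_fun he1 y
      simpa using this
    have : e (K.subtype y) = (y, 0) := by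
      rw [h0, LinearEquiv.apply_symm_apply]
    change ((e (K.subtype y)).1 : Q) = (y : Q)
    rw [this]
  haveI : Module.Projective R K := Module.Projective.of_split K.subtype r hr
  haveI : Module.Finite R K := Module.Finite.of_surjective r (fun y => ⟨K.subtype y, by
    have := LinearMap.congr_fun hr y
    simpa using this⟩)
  haveI : Module.Free R K := Module.free_of_flat_of_isLocalRing
  have hK : Module.finrank R Q = Module.finrank R K + Module.finrank R T :=
    Groth.Agent.Lib.H87LocFreeExact.finrank_eq_add_of_exact K.subtype v K.injective_subtype hexK hv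
  have hPK : Module.finrank R P = Module.finrank R K := by omega
  -- `u` factors through a surjection `P → K`
  let u' : P →ₗ[R] K := u.codRestrict K (fun p => hex.apply_apply_eq_zero p)
  have hu' : Function.Surjective u' := by
    rintro ⟨q, hq⟩
    obtain ⟨p, rfl⟩ := (hex q).mp hq
    exact ⟨p, rfl⟩
  let ε : P ≃ₗ[R] K := LinearEquiv.ofFinrankEq P K hPK
  have hinj : Function.Injective (u' ∘ₗ ε.symm.toLinearMap) :=
    OrzechProperty.injective_of_surjective_endomorphism _ (hu'.comp ε.symm.surjective)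
  have hu'inj : Function.Injective u' := by
    intro a b hab
    have := @hinj (ε a) (ε b) (by simpa using hab)
    exact ε.injective this
  intro a b hab
  apply hu'inj
  exact Subtype.ext hab

end rank

section tower

variable (R S T : Type u) [CommRing R] [CommRing S] [CommRing T] [Algebra R S] [Algebra S T]
  [Algebra R T] [IsScalarTower R S T]

/-- `T` formally smooth over `R`, `T ⊗ Ω_{S/R} → Ω_{T/R}` injective and `Ω_{T/S}` projective imply
`T` formally smooth over `S` -/
theorem formallySmooth_of_injective_mapBaseChange [Algebra.FormallySmooth R T]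
    [Module.Projective T Ω[T⁄S]]
    (hinj : Function.Injective (KaehlerDifferential.mapBaseChange R S T)) :
    Algebra.FormallySmooth S T := by
  rw [Algebra.formallySmooth_iff]
  refine ⟨inferInstance, ⟨fun x y => ?_⟩⟩
  have key : ∀ z : Algebra.H1Cotangent S T, z = 0 := by
    intro z
    have h1 : Algebra.H1Cotangent.δ R S T z = 0 := by
      apply hinj
      rw [map_zero]
      exact (Algebra.H1Cotangent.exact_δ_mapBaseChange R S T).apply_apply_eq_zero z
    obtain ⟨w, rfl⟩ := (Algebra.H1Cotangent.exact_map_δ R S T z).mp h1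
    haveI : Subsingleton (Algebra.H1Cotangent R T) :=
      Algebra.FormallySmooth.subsingleton_h1Cotangent
    rw [Subsingleton.elim w 0, map_zero]
  rw [key x, key y]

end tower

section sheaf

open Groth.Agent.Lib.ModStalk Groth.Agent.Lib.ModStalkLin

variable {X : Scheme.{u}}

/-- an exact sequence `P → Q → T → 0` of finite locally free modules with `rk Q = rk P + rk T` is
left exact -/
theorem mono_of_exact_of_ranks {P Q T : X.Modules} (c₁ : P ⟶ Q) (c₂ : Q ⟶ T) (w : c₁ ≫ c₂ = 0)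
    (hex : (ShortComplex.mk c₁ c₂ w).Exact) [Epi c₂] {a n : ℕ}
    (hP : FlatMod.IsFinLocFreeOfRank a P) (hQ : FlatMod.IsFinLocFreeOfRank (a + n) Q)
    (hT : FlatMod.IsFinLocFreeOfRank n T) : Mono c₁ := by
  apply Groth.Agent.Lib.ModStalkIso.mono_of_stalk_injective
  intro x
  obtain ⟨U₁, hx₁, ⟨e₁⟩⟩ := hP x
  obtain ⟨U₂, hx₂, ⟨e₂⟩⟩ := hQ x
  obtain ⟨U₃, hx₃, ⟨e₃⟩⟩ := hT x
  obtain ⟨hP1, hP2, hP3⟩ := Groth.Agent.Lib.H87LocFreeExact.stalk_free_finite_finrank U₁ e₁ ⟨x, hx₁⟩
  obtain ⟨hQ1, hQ2, hQ3⟩ := Groth.Agent.Lib.H87LocFreeExact.stalk_free_finite_finrank U₂ e₂ ⟨x, hx₂⟩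
  obtain ⟨hT1, hT2, hT3⟩ := Groth.Agent.Lib.H87LocFreeExact.stalk_free_finite_finrank U₃ e₃ ⟨x, hx₃⟩
  have hexx : Function.Exact (stalkLin c₁ x) (stalkLin c₂ x) := by
    have h1 := hex.map (stalkFunctor x)
    exact (ShortComplex.ab_exact_iff_function_exact _).mp h1
  have hsurj : Function.Surjective (stalkLin c₂ x) := stalkLin_surjective_of_epi c₂ x
  exact injective_of_exact_of_finrank (stalkLin c₁ x) (stalkLin c₂ x) hexx hsurj
    (by rw [hP3, hQ3, hT3])

end sheaf

section main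

open Groth.Agent.Lib.OmegaDer81 Groth.Agent.Lib.Conormal81

variable {X Y Z : Scheme.{u}} (f : X ⟶ Y) (g : Y ⟶ Z)
  {ΩY : Y.Modules} (dY : OmegaSh.Der g ΩY) {ΩX : X.Modules} (dX : OmegaSh.Der (f ≫ g) ΩX)
  {ΩXY : X.Modules} (dXY : OmegaSh.Der f ΩXY)

/-- chart statement: if `c₁ : f^*Ω_{Y/Z} → Ω_{X/Z}` is a monomorphism, `X/Z` is smooth, `Y/Z` is locally
of finite type and `Ω_{X/Y}` is finite locally free then `f` is smooth. -/
theorem smooth_of_mono [Smooth (f ≫ g)] [LocallyOfFiniteType g]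
    (hY : OmegaSh.IsUniversal dY) (hX : OmegaSh.IsUniversal dX) (hXY : OmegaSh.IsUniversal dXY)
    (c₁ : (Scheme.Modules.pullback f).obj ΩY ⟶ ΩX) (hc₁ : OmegaSh.IsDiffCompat f dY dX c₁)
    [Mono c₁] (hfree : FlatMod.IsFinLocFree ΩXY) : Smooth f := by
  rw [HasRingHomProperty.iff_exists_appLE (P := @Smooth)
    (RingHom.Smooth.stableUnderComposition.stableUnderCompositionWithLocalizationAway
      RingHom.Smooth.holdsForLocalizationAway).left]
  intro x
  obtain ⟨UZ, hUZ, hxZ, -⟩ := Opens.isBasis_iff_nbhd.mp Z.isBasis_affineOpens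
    (show g (f x) ∈ (⊤ : Z.Opens) from trivial)
  obtain ⟨UY, hUY, hxY, e2⟩ := Opens.isBasis_iff_nbhd.mp Y.isBasis_affineOpens
    (show f x ∈ g ⁻¹ᵁ UZ from hxZ)
  obtain ⟨UX, hUX, hxX, e1⟩ := Opens.isBasis_iff_nbhd.mp X.isBasis_affineOpens
    (show x ∈ f ⁻¹ᵁ UY from hxY)
  refine ⟨⟨UY, hUY⟩, ⟨UX, hUX⟩, hxX, e1, ?_⟩
  have e3 : UX ≤ (f ≫ g) ⁻¹ᵁ UZ := e1.trans (f.preimage_mono e2)
  letI algCB : Algebra Γ(Z, UZ) Γ(Y, UY) := (g.appLE UZ UY e2).hom.toAlgebra
  letI algCA : Algebra Γ(Z, UZ) Γ(X, UX) := ((f ≫ g).appLE UZ UX e3).hom.toAlgebra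
  letI algBA : Algebra Γ(Y, UY) Γ(X, UX) := (f.appLE UY UX e1).hom.toAlgebra
  haveI : IsScalarTower Γ(Z, UZ) Γ(Y, UY) Γ(X, UX) := by
    apply IsScalarTower.of_algebraMap_eq'
    have := Scheme.Hom.appLE_comp_appLE f g UZ UY UX e2 e1
    exact congrArg CommRingCat.Hom.hom this.symm
  -- smoothness of `X/Z` on the chart
  have hsm : Algebra.Smooth Γ(Z, UZ) Γ(X, UX) :=
    HasRingHomProperty.appLE (P := @Smooth) (f ≫ g) inferInstance ⟨UZ, hUZ⟩ ⟨UX, hUX⟩ e3
  haveI : Algebra.FormallySmooth Γ(Z, UZ) Γ(X, UX) := hsm.formallySmooth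
  haveI : Algebra.FinitePresentation Γ(Z, UZ) Γ(X, UX) := hsm.finitePresentation
  have hft : Algebra.FiniteType Γ(Z, UZ) Γ(Y, UY) :=
    HasRingHomProperty.appLE (P := @LocallyOfFiniteType) g inferInstance ⟨UZ, hUZ⟩ ⟨UY, hUY⟩ e2
  haveI := hft
  haveI : Algebra.FinitePresentation Γ(Y, UY) Γ(X, UX) :=
    Algebra.FinitePresentation.of_restrict_scalars_finitePresentation Γ(Z, UZ) Γ(Y, UY) Γ(X, UX)
  -- projectivity of `Ω[B/A]`
  obtain ⟨ε'', -⟩ := exists_linearEquiv_sections f dXY hUX hUY e1 hXY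
  haveI : Module.Projective Γ(X, UX) Γ(ΩXY, UX) :=
    Groth.Agent.Lib.Fitting82.projective_sections_of_isFinLocFree ΩXY hfree hUX
  haveI : Module.Projective Γ(X, UX) Ω[Γ(X, UX)⁄Γ(Y, UY)] :=
    Module.Projective.of_equiv ε''.symm
  -- injectivity
  have hinj0 : Function.Injective (c₁.app UX) :=
    Groth.Agent.Lib.H90OXModSections.injective_app_of_mono c₁ UX
  obtain ⟨κ, h1, -, h2, -⟩ := exists_chart_kappa f dY hY dX hX c₁ hc₁ hUY hUZ hUX hUZ e2 e3 e1
  rw [h2, lift_eq_mapBaseChange κ h1] at hinj0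
  haveI : Algebra.FormallySmooth Γ(Y, UY) Γ(X, UX) :=
    formallySmooth_of_injective_mapBaseChange Γ(Z, UZ) Γ(Y, UY) Γ(X, UX) hinj0
  have : Algebra.Smooth Γ(Y, UY) Γ(X, UX) := ⟨inferInstance, inferInstance⟩
  exact this


/-- `f` is smooth as soon as `X/Z` is smooth, `Y/Z` is locally of finite type, and the sheaves of
differentials `Ω_{Y/Z}`, `Ω_{X/Z}`, `Ω_{X/Y}` are locally free of ranks `a`, `a + n`, `n`. -/
theorem smooth_of_isFinLocFreeOfRank [Smooth (f ≫ g)] [LocallyOfFiniteType g]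
    (hY : OmegaSh.IsUniversal dY) (hX : OmegaSh.IsUniversal dX) (hXY : OmegaSh.IsUniversal dXY)
    {a n : ℕ} (hrY : FlatMod.IsFinLocFreeOfRank a ΩY)
    (hrX : FlatMod.IsFinLocFreeOfRank (a + n) ΩX)
    (hrXY : FlatMod.IsFinLocFreeOfRank n ΩXY) : Smooth f := by
  obtain ⟨c₁, hc₁, -⟩ := existsUnique_isDiffCompat f (𝟙 Z) (Category.comp_id _) dY hY dX
  obtain ⟨c₂, hc₂, -⟩ := existsUnique_isDiffCompat (𝟙 X) g (Category.id_comp _).symm dX hX dXY
  have hc₂' : ∀ (U : X.Opens) (s : Γ(X, U)),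
      ((Scheme.Modules.pullbackId X).inv.app ΩX ≫ c₂).app U (dX.app U s) = dXY.app U s := by
    intro U s
    change c₂.app U (((Scheme.Modules.pullbackId X).inv.app ΩX).app U (dX.app U s)) = _
    rw [pullbackId_inv_app]
    exact hc₂ U s
  obtain ⟨w, hex, hepi⟩ := first_sequence_exact f g dY dX dXY c₁
    ((Scheme.Modules.pullbackId X).inv.app ΩX ≫ c₂) hY hX hXY hc₁ hc₂'
  haveI := hepi
  haveI : Mono c₁ := mono_of_exact_of_ranks c₁ _ w hex
    (Groth.Agent.Lib.H90Invertible.isFinLocFreeOfRank_pullback f hrY) hrX hrXY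
  exact smooth_of_mono f g dY dX dXY hY hX hXY c₁ hc₁ (fun x => by
    obtain ⟨U, hx, h⟩ := hrXY x
    exact ⟨U, n, hx, h⟩)

end main

section reldim

/-- for `f` smooth of relative dimension `n` all fibres have local dimension `n` -/
theorem fibreDimAt_eq_of_smoothOfRelativeDimension (n : ℕ) {X Y : Scheme.{u}} (f : X ⟶ Y)
    [SmoothOfRelativeDimension n f] (x : X) :
    FlatMor.fibreDimAt f x = (n : WithBot ℕ∞) := by
  obtain ⟨U, hU, V, hV, hxV, e, hf⟩ :=
    SmoothOfRelativeDimension.exists_isStandardSmoothOfRelativeDimension (n := n) (f := f) x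
  let _ : Algebra Γ(Y, U) Γ(X, V) := (f.appLE U V e).hom.toAlgebra
  have hxr : x ∈ Set.range hV.fromSpec.base := by
    rw [hV.range_fromSpec]; exact hxV
  obtain ⟨q, rfl⟩ := hxr
  have hkey : FlatMor.fibreDimAt f (hV.fromSpec.base q) =
      Groth.Agent.Lib.H56LocDim.fibLocDim (PrimeSpectrum.comap (algebraMap Γ(Y, U) Γ(X, V))) q :=
    Groth.Agent.Lib.H56LocDim.fibreDimAt_fromSpec f hV hU e q
  rw [hkey]
  exact Groth.Agent.Lib.H56LocDim.fibLocDim_of_isStandardSmoothOfRelativeDimension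
    Γ(Y, U) Γ(X, V) n hf q

/-- a smooth morphism all of whose fibres have local dimension `n` everywhere is smooth of relative
dimension `n` -/
theorem smoothOfRelativeDimension_of_fibreDimAt (n : ℕ) {X Y : Scheme.{u}} (f : X ⟶ Y) [Smooth f]
    (h : ∀ x : X, FlatMor.fibreDimAt f x = (n : WithBot ℕ∞)) : SmoothOfRelativeDimension n f := by
  refine ⟨fun x => ?_⟩
  obtain ⟨_, ⟨U, hU, rfl⟩, hxU, -⟩ :=
    Y.isBasis_affineOpens.exists_subset_of_mem_open (Set.mem_univ (f x)) isOpen_univ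
  obtain ⟨V, hV, -, e, m, hxV, hm, hdim⟩ :=
    Groth.Agent.Lib.H87SmoothRank.exists_chart_isStandardSmooth f x hU (f ⁻¹ᵁ U) hxU le_rfl
  rw [h x] at hdim
  have hnm : n = m := by exact_mod_cast hdim
  subst hnm
  exact ⟨U, hU, V, hV, hxV, e, hm⟩

end reldim

end Groth.Agent.Lib.H87FirstSeqSmooth
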