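import Groth.Agent.Lib.EtaleIrredComp96
import Groth.Agent.Lib.DominantGeneric
import Groth.Agent.Lib.H87FirstSeqSmooth
import Groth.Agent.Lib.QFAt91
import Groth.Agent.Lib.MaxGen34
import Groth.Agent.Lib.H71GeomRedOpen
import Groth.Agent.Lib.H80Equi1
import Groth.Agent.Lib.UnramifiedLocusBC

/-!
helper80: quasi-finite morphisms with smooth (hence étale) fibres over a reduced locally
Noetherian base with geometrically unibranch local rings are étale as soon as the source is
connected and the morphism dominant (scheme case of a statement on Néron models over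
higher-dimensional bases).

* `etale_of_smooth_of_locallyQuasiFinite` : smooth + locally quasi-finite ⇒ étale.
* `formallyUnramified_of_smooth_fibres` : lft + lqf with smooth fibres ⇒ unramified.
* `isIntegral_of_isGeomUnibranch_of_dominant` : locally Noetherian reduced, geometrically unibranch
  stalks, receiving a dominant map from a connected scheme ⇒ integral.
* `etale_of_lqf_smooth_fibres` : the main statement.
-/

set_option autoImplicit false
universe u

open CategoryTheory AlgebraicGeometry Limits

namespace Groth.Agent.Lib.H80EtaleQF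

/-- smooth + locally quasi-finite ⇒ étale -/
theorem etale_of_smooth_of_locallyQuasiFinite {X Y : Scheme.{u}} (g : X ⟶ Y) [Smooth g]
    [LocallyQuasiFinite g] : Etale g := by
  refine (Etale.iff_smoothOfRelativeDimension_zero g).mpr ?_
  refine Groth.Agent.Lib.H87FirstSeqSmooth.smoothOfRelativeDimension_of_fibreDimAt 0 g
    (fun x => ?_)
  exact_mod_cast (Groth.Agent.Lib.QFAt91.fibreDimAt_eq_zero_iff g x).2 (g.quasiFiniteAt x)

/-- A morphism locally of finite type, locally quasi-finite, with smooth fibres (over the residue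
fields) is formally unramified. -/
theorem formallyUnramified_of_smooth_fibres {X S : Scheme.{u}} (f : X ⟶ S) [LocallyOfFiniteType f]
    [LocallyQuasiFinite f]
    (hfib : ∀ s : S, Smooth (pullback.snd f (S.fromSpecResidueField s))) :
    FormallyUnramified f := by
  refine Groth.Agent.Lib.UnramifiedLocusBC.formallyUnramified_of_forall_stalkMap f (fun x => ?_)
  obtain ⟨s, hs⟩ : ∃ s, s = f x := ⟨_, rfl⟩
  have hsm := hfib s
  have hlqf : LocallyQuasiFinite (pullback.snd f (S.fromSpecResidueField s)) :=
    MorphismProperty.pullback_snd _ _ inferInstance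
  have het : Etale (pullback.snd f (S.fromSpecResidueField s)) :=
    etale_of_smooth_of_locallyQuasiFinite _
  have hpt : f x = (S.fromSpecResidueField s) (IsLocalRing.closedPoint (S.residueField s)) := by
    rw [Scheme.fromSpecResidueField_apply, hs]
  obtain ⟨p, hp1, -⟩ := Scheme.Pullback.exists_preimage_pullback x _ hpt
  have hsq : IsPullback (pullback.fst f (S.fromSpecResidueField s))
      (pullback.snd f (S.fromSpecResidueField s)) f (S.fromSpecResidueField s) :=
    IsPullback.of_hasPullback _ _
  have h1 := FormallyUnramified.stalkMap (pullback.snd f (S.fromSpecResidueField s)) p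
  have h2 := (Groth.Agent.Lib.UnramifiedLocusBC.formallyUnramified_stalkMap_iff_of_isPullback
    hsq p).1 h1
  rw [hp1] at h2
  exact h2

/-- A locally Noetherian scheme with geometrically unibranch stalks has open irreducible
components. -/
theorem isOpen_of_mem_irreducibleComponents {S : Scheme.{u}} [IsLocallyNoetherian S]
    (hS : ∀ s : S, CAlg2.IsGeomUnibranch (S.presheaf.stalk s)) {Z : Set S}
    (hZ : Z ∈ irreducibleComponents S) : IsOpen Z := by
  let F : Set S := {ξ | ∀ ζ : S, ζ ⤳ ξ → ζ = ξ}
  have h1 : ∀ x : S, ∃ ξ ∈ F, ξ ⤳ x := by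
    intro x
    obtain ⟨η, h1, h2⟩ := Groth.Agent.Lib.MaxGen34.exists_maximal_generization x
    exact ⟨η, h2, h1⟩
  have h2 : ∀ x ξ₁ ξ₂, ξ₁ ∈ F → ξ₂ ∈ F → ξ₁ ⤳ x → ξ₂ ⤳ x → ξ₁ = ξ₂ := by
    intro x ξ₁ ξ₂ hξ₁ hξ₂ h1x h2x
    have hε : (nilradical (S.presheaf.stalk x)).IsPrime :=
      Groth.Agent.Lib.UnramGeomUnibranch96.isPrime_nilradical_of_isGeomUnibranch (hS x)
    let g := S.fromSpecStalk x
    have : IrreducibleSpace (Spec (S.presheaf.stalk x)) :=
      PrimeSpectrum.irreducibleSpace_iff_isPrime_nilradical.2 hε
    have key : ∀ η : S, η ⤳ x → (∀ ζ : S, ζ ⤳ η → ζ = η) →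
        g (genericPoint (Spec (S.presheaf.stalk x))) = η := by
      intro η hη hm
      obtain ⟨q, rfl⟩ : η ∈ Set.range g := by
        rw [Scheme.range_fromSpecStalk]
        exact hη
      exact hm _ ((genericPoint_specializes q).map g.continuous)
    rw [← key ξ₁ h1x hξ₁, ← key ξ₂ h2x hξ₂]
  have h3 : ∀ x : S, ∃ U : Set S, IsOpen U ∧ x ∈ U ∧ (F ∩ U).Finite := by
    intro x
    obtain ⟨U, hU, hfin⟩ := Groth.Agent.Lib.H71GeomRedOpen.locallyFinite_irreducibleComponents S x
    obtain ⟨V, hVU, hVo, hxV⟩ := mem_nhds_iff.1 hU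
    refine ⟨V, hVo, hxV, ?_⟩
    have hmem : ∀ ξ ∈ F, closure ({ξ} : Set S) ∈ irreducibleComponents S := fun ξ hξ =>
      Groth.Agent.Lib.H80Equi.closure_singleton_mem_irreducibleComponents ξ
        (fun ζ hζ => (hξ ζ hζ) ▸ specializes_rfl)
    let φ : ↥(F ∩ V) → {Z : ↥(irreducibleComponents S) | ((Z : Set S) ∩ U).Nonempty} :=
      fun ξ => ⟨⟨closure {ξ.1}, hmem ξ.1 ξ.2.1⟩, ⟨ξ.1, subset_closure rfl, hVU ξ.2.2⟩⟩
    have hφ : Function.Injective φ := by
      intro a b hab
      have h : closure ({a.1} : Set S) = closure {b.1} := by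
        have := congrArg (fun z => ((z.1 : ↥(irreducibleComponents S)) : Set S)) hab
        exact this
      have hab' : a.1 ⤳ b.1 := by
        rw [specializes_iff_mem_closure, h]; exact subset_closure rfl
      exact Subtype.ext (b.2.1 a.1 hab')
    have := hfin.to_subtype
    exact Set.finite_coe_iff.mp (Finite.of_injective φ hφ)
  exact (Groth.Agent.Lib.UnramGeomUnibranchSch96.isOpen_and_existsUnique_of_mem_irreducibleComponents
    F h1 h2 h3 hZ).1

/-- A reduced locally Noetherian scheme with geometrically unibranch stalks which receives a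
dominant morphism from a connected scheme is integral. -/
theorem isIntegral_of_isGeomUnibranch_of_dominant {S X : Scheme.{u}} [IsLocallyNoetherian S]
    [IsReduced S] (hS : ∀ s : S, CAlg2.IsGeomUnibranch (S.presheaf.stalk s)) (f : X ⟶ S)
    [IsDominant f] [ConnectedSpace X] : IsIntegral S := by
  obtain ⟨x₀⟩ := (inferInstance : Nonempty X)
  let Z : Set S := irreducibleComponent (f x₀)
  have hZmem : Z ∈ irreducibleComponents S := irreducibleComponent_mem_irreducibleComponents _
  have hZo : IsOpen Z := isOpen_of_mem_irreducibleComponents hS hZmem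
  have hZc : IsClosed Z := isClosed_irreducibleComponent
  have hpre : f ⁻¹' Z = Set.univ :=
    IsClopen.eq_univ ⟨hZc.preimage f.continuous, hZo.preimage f.continuous⟩
      ⟨x₀, mem_irreducibleComponent⟩
  have hrange : Set.range f ⊆ Z := by
    rintro _ ⟨x, rfl⟩
    have : x ∈ f ⁻¹' Z := hpre ▸ Set.mem_univ x
    exact this
  have hdense : DenseRange f := f.denseRange
  have hZuniv : Z = Set.univ := by
    refine Set.eq_univ_of_univ_subset ?_
    rw [← hdense.closure_range]
    exact hZc.closure_subset_iff.2 hrange
  have hirr' : IsIrreducible (Set.univ : Set S) := by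
    rw [← hZuniv]
    exact isIrreducible_irreducibleComponent
  have hirr : IrreducibleSpace S := (irreducibleSpace_def S).2 hirr'
  exact isIntegral_of_irreducibleSpace_of_isReduced S

/-- **Main statement.** `S` reduced locally Noetherian with geometrically unibranch local rings,
`f : X ⟶ S` locally of finite type, quasi-compact, locally quasi-finite and dominant, `X` connected,
all fibres smooth over the residue fields: then `f` is étale. -/
theorem etale_of_lqf_smooth_fibres {S X : Scheme.{u}} [IsLocallyNoetherian S] [IsReduced S]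
    (hS : ∀ s : S, CAlg2.IsGeomUnibranch (S.presheaf.stalk s)) (f : X ⟶ S)
    [LocallyOfFiniteType f] [QuasiCompact f] [LocallyQuasiFinite f] [IsDominant f]
    [ConnectedSpace X]
    (hfib : ∀ s : S, Smooth (pullback.snd f (S.fromSpecResidueField s))) : Etale f := by
  have hunr : FormallyUnramified f := formallyUnramified_of_smooth_fibres f hfib
  have hint : IsIntegral S := isIntegral_of_isGeomUnibranch_of_dominant hS f
  have hdom : genericPoint S ∈ Set.range f := by
    obtain ⟨y, hy⟩ :=
      Groth.Agent.Lib.DominantGeneric.exists_specializes_of_isDominant f (genericPoint S)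
    exact ⟨y, (hy.antisymm (genericPoint_specializes (f y))).eq⟩
  exact (Groth.Agent.Lib.UnramGeomUnibranchSch96.etale_irreducible_of_unramified f hS hdom).1

end Groth.Agent.Lib.H80EtaleQF
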