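/-
helper80: **EGA IV 14.4.x / Stacks 0F32-type**: a locally quasi-finite morphism `f : X ⟶ Y` with
`Y` locally Noetherian and geometrically unibranch, such that every irreducible component of `X`
dominates an irreducible component of `Y`, is universally open.
-/
import Mathlib
import Groth.Prelude.Def_CAlg2
import Groth.Agent.Lib.H80GUOpen5
import Groth.Agent.Lib.H80UnibranchOpen4
import Groth.Agent.Lib.H80DvrUnivOpen2

set_option autoImplicit false
universe u
open CategoryTheory AlgebraicGeometry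

namespace Groth.Agent.Lib.H80GUOpen

theorem eq_of_specializes_of_isGenericPoint {α : Type*} [TopologicalSpace α] [T0Space α]
    {W : Set α} (hW : W ∈ irreducibleComponents α) {y y' : α} (hy : IsGenericPoint y W)
    (h : y' ⤳ y) : y' = y := by
  have h1 : W ⊆ closure {y'} := by
    rw [← hy.def]
    exact specializes_iff_closure_subset.mp h
  have hirr : IsIrreducible (closure ({y'} : Set α)) := isIrreducible_singleton.closure
  have h2 : closure {y'} ⊆ W := hW.2 hirr h1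
  have hy' : IsGenericPoint y' W := le_antisymm h2 h1
  exact hy'.eq hy

theorem primeIdealOf_mem_minimalPrimes {Y : Scheme.{u}} {V : Y.Opens} (hV : IsAffineOpen V)
    (y : Y) (hyV : y ∈ V) {W : Set Y} (hW : W ∈ irreducibleComponents Y)
    (hy : IsGenericPoint y W) : (hV.primeIdealOf ⟨y, hyV⟩).asIdeal ∈ minimalPrimes Γ(Y, V) := by
  refine ⟨⟨(hV.primeIdealOf ⟨y, hyV⟩).isPrime, bot_le⟩, fun P' hP' hle => ?_⟩
  let t' : PrimeSpectrum Γ(Y, V) := ⟨P', hP'.1⟩
  have h1 : t' ⤳ hV.primeIdealOf ⟨y, hyV⟩ := (PrimeSpectrum.le_iff_specializes _ _).mp hle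
  have h2 : hV.fromSpec.base t' ⤳ hV.fromSpec.base (hV.primeIdealOf ⟨y, hyV⟩) :=
    h1.map hV.fromSpec.continuous
  rw [hV.fromSpec_primeIdealOf ⟨y, hyV⟩] at h2
  have h3 := eq_of_specializes_of_isGenericPoint hW hy h2
  have h4 : t' = hV.primeIdealOf ⟨y, hyV⟩ := by
    apply hV.fromSpec.isOpenEmbedding.injective
    rw [hV.fromSpec_primeIdealOf ⟨y, hyV⟩]
    exact h3
  exact (congrArg PrimeSpectrum.asIdeal h4).ge

theorem universallyOpen_of_locallyQuasiFinite_of_isGeomUnibranch {X Y : Scheme.{u}} (f : X ⟶ Y)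
    [LocallyQuasiFinite f] [LocallyOfFiniteType f] [IsLocallyNoetherian Y]
    (hY : ∀ y : Y, CAlg2.IsGeomUnibranch (Y.presheaf.stalk y))
    (hdom : ∀ Z ∈ irreducibleComponents ↑X, ∀ x : X, IsGenericPoint x Z →
      ∃ W ∈ irreducibleComponents ↑Y, IsGenericPoint (f x) W) :
    UniversallyOpen f := by
  rw [Groth.Agent.Lib.H80DvrUnivOpen.universallyOpen_iff_forall_isUnivOpenAt]
  intro x
  obtain ⟨_, ⟨V, hV, rfl⟩, hfxV, -⟩ := Y.isBasis_affineOpens.exists_subset_of_mem_open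
    (Set.mem_univ (f x)) isOpen_univ
  have hxV : x ∈ f ⁻¹ᵁ V := hfxV
  obtain ⟨_, ⟨U, hU, rfl⟩, hxU, hUV⟩ := X.isBasis_affineOpens.exists_subset_of_mem_open
    hxV (f ⁻¹ᵁ V).isOpen
  replace hV : IsAffineOpen V := hV
  replace hU : IsAffineOpen U := hU
  have e : U ≤ f ⁻¹ᵁ V := hUV
  apply Groth.Agent.Lib.H80DvrUnivOpen.isUnivOpenAt_of_chart f x hU hV e hxU
  -- the generic point of an irreducible component through `x`
  obtain ⟨ξ, hξ⟩ := QuasiSober.sober (isIrreducible_irreducibleComponent (x := x))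
    isClosed_irreducibleComponent
  have hξx : ξ ⤳ x := by
    rw [specializes_iff_mem_closure, hξ.def]
    exact mem_irreducibleComponent
  have hξU : ξ ∈ U := hξx.mem_open U.isOpen hxU
  obtain ⟨W, hW, hfξ⟩ := hdom _ (irreducibleComponent_mem_irreducibleComponents x) ξ hξ
  have hfξV : f ξ ∈ V := e hξU
  -- ring-level hypotheses
  have hsq : ∀ t : Spec Γ(X, U), hV.fromSpec.base ((Spec.map (f.appLE V U e)).base t) =
      f.base (hU.fromSpec.base t) := fun t =>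
    (Groth.Agent.Lib.OpenAt45.map_fromSpec f hU hV e t).symm
  have hq₀ : hU.fromSpec.base (hU.primeIdealOf ⟨x, hxU⟩) = x := hU.fromSpec_primeIdealOf ⟨x, hxU⟩
  have hqξ : hU.fromSpec.base (hU.primeIdealOf ⟨ξ, hξU⟩) = ξ := hU.fromSpec_primeIdealOf ⟨ξ, hξU⟩
  have hqf : f.QuasiFiniteAt x := f.quasiFiniteAt x
  algebraize [(f.appLE V U e).hom]
  have hft : Algebra.FiniteType Γ(Y, V) Γ(X, U) := f.finiteType_appLE hV hU e
  have hqf' : Algebra.QuasiFiniteAt Γ(Y, V) (hU.primeIdealOf ⟨x, hxU⟩).asIdeal :=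
    hqf.quasiFiniteAt hU hV e hxU
  have hnoeth : IsNoetherianRing Γ(Y, V) := IsLocallyNoetherian.component_noetherian ⟨V, hV⟩
  have hfin : (minimalPrimes Γ(Y, V)).Finite := minimalPrimes.finite_of_isNoetherianRing _
  -- comparison of primes
  have hp : ∀ (z : X) (hz : z ∈ U), (hV.primeIdealOf ⟨f z, e hz⟩).asIdeal =
      (hU.primeIdealOf ⟨z, hz⟩).asIdeal.comap (algebraMap Γ(Y, V) Γ(X, U)) := by
    intro z hz
    have h1 : hV.fromSpec.base (hV.primeIdealOf ⟨f z, e hz⟩) =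
        hV.fromSpec.base ((Spec.map (f.appLE V U e)).base (hU.primeIdealOf ⟨z, hz⟩)) := by
      rw [hsq, hU.fromSpec_primeIdealOf ⟨z, hz⟩]
      exact hV.fromSpec_primeIdealOf ⟨f z, e hz⟩
    exact congrArg PrimeSpectrum.asIdeal (hV.fromSpec.isOpenEmbedding.injective h1)
  -- the stalk as a localization
  let _ := Y.presheaf.algebra_section_stalk ⟨f x, hfxV⟩
  have hloc := hV.isLocalization_stalk ⟨f x, hfxV⟩
  have hloc' : IsLocalization.AtPrime (Y.presheaf.stalk (f x))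
      ((hU.primeIdealOf ⟨x, hxU⟩).asIdeal.comap (algebraMap Γ(Y, V) Γ(X, U))) :=
    Groth.Agent.Lib.H80UnibranchOpen.atPrime_congr _ (hp x hxU).symm
  -- the prime `Pm`
  have hPmq : (hU.primeIdealOf ⟨ξ, hξU⟩).asIdeal ≤ (hU.primeIdealOf ⟨x, hxU⟩).asIdeal := by
    change hU.primeIdealOf ⟨ξ, hξU⟩ ≤ hU.primeIdealOf ⟨x, hxU⟩
    rw [PrimeSpectrum.le_iff_specializes]
    have h1 := hU.fromSpec.isOpenEmbedding.isInducing.specializes_iff
      (x := hU.primeIdealOf ⟨ξ, hξU⟩) (y := hU.primeIdealOf ⟨x, hxU⟩)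
    exact h1.mp (by rw [hq₀, hqξ]; exact hξx)
  have hdom' : (hU.primeIdealOf ⟨ξ, hξU⟩).asIdeal.comap (algebraMap Γ(Y, V) Γ(X, U)) ∈
      minimalPrimes Γ(Y, V) := by
    rw [← hp ξ hξU]
    exact primeIdealOf_mem_minimalPrimes hV (f ξ) hfξV hW hfξ
  apply Groth.Agent.Lib.H80UnivOpenPoly.isUnivOpenAt_SpecMap_of_forall_mvPolynomial
  intro n Q hQ
  exact isOpenAt_comap_map_of_isGeomUnibranch Γ(Y, V) Γ(X, U) hfin (hU.primeIdealOf ⟨x, hxU⟩)
    (hU.primeIdealOf ⟨ξ, hξU⟩).asIdeal hPmq hdom' (Y.presheaf.stalk (f x)) (hY (f x)) n Q hQ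

end Groth.Agent.Lib.H80GUOpen
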