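import Groth.Agent.Lib.GeomCompLSC5C
import Groth.Agent.Lib.H80Equi4
import Groth.Agent.Lib.H30EquidimAt
import Groth.Agent.Lib.QFAt91
import Groth.Agent.S0002
import Groth.Agent.S0058

/-!
# Lower semicontinuity of the geometric number of connected components over a geometrically
unibranch point (helper80) — EGA IV 15.5.x

`exists_nhds_nGeomConnComp_le_of_isGeomUnibranch`: `Y` irreducible locally Noetherian, `f` proper with
all irreducible components of `X` dominating `Y`, `y₀` geometrically unibranch: `n` is lower
semicontinuous at `y₀`. Uses helper5's Stein-factorisation machinery and Chevalley's criterion.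
-/

set_option autoImplicit false
set_option maxHeartbeats 400000
set_option linter.style.haveILetI false

universe u

open CategoryTheory CategoryTheory.Limits AlgebraicGeometry TopologicalSpace

namespace Groth.Agent.Lib.H80GeomCompLSC

open Groth.Agent.Lib.GeomCompLSC5 Groth.Agent.Lib.ProperFinHyp Groth.Agent.Lib.ConnFib5
  Groth.Agent.Lib.H30GenFib

/-- A locally quasi-finite morphism all of whose maximal points map to the generic point of the
irreducible locally Noetherian target is universally open at the points over geometrically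
unibranch points (Chevalley). -/
theorem isUnivOpenAt_of_locallyQuasiFinite_of_dominant {Y' Y : Scheme.{u}} [IrreducibleSpace Y]
    [IsLocallyNoetherian Y] (g : Y' ⟶ Y) [LocallyOfFiniteType g] [LocallyQuasiFinite g]
    (hdom : ∀ ζ : Y', IsMaxPt ζ → g ζ = genericPoint Y) (y' : Y')
    (hy : CAlg2.IsGeomUnibranch (Y.presheaf.stalk (g y'))) : EGA43.IsUnivOpenAt g y' := by
  apply Groth.Agent.Lib.H80Equi.isUnivOpenAt_of_isEquidimAt g y' hy
  rw [Groth.Agent.Lib.H30EquidimAt.isEquidimAt_iff]
  refine ⟨0, ⊤, trivial, ?_, ?_⟩
  · intro ζ _ hζ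
    rw [hdom ζ hζ]
    refine ⟨?_, (genericPoint_spec Y).specializes (by simp)⟩
    intro ξ hξ
    exact ((genericPoint_spec Y).specializes (by simp) |>.antisymm hξ).eq.symm
  · intro z _
    rw [Nat.cast_zero]
    exact (Groth.Agent.Lib.QFAt91.fibreDimAt_eq_zero_iff g z).mpr (g.quasiFiniteAt z)

set_option backward.isDefEq.respectTransparency.types false in
/-- Factorised form with universal openness of the finite part. -/
theorem exists_nhds_nGeomConnComp_le_comp' {X Y' Y : Scheme.{u}} (π : X ⟶ Y') (g : Y' ⟶ Y)
    [IsFinite g] [UniversallyClosed π] [GeometricallyConnected π] (y : Y)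
    (hopen : ∀ y' : Y', g.base y' = y → EGA43.IsUnivOpenAt g y') :
    ∃ V ∈ nhds y, ∀ z ∈ V,
      MoreMor.nGeomConnComp (π ≫ g) y ≤ MoreMor.nGeomConnComp (π ≫ g) z := by
  haveI : Surjective π := inferInstance
  have key : ∀ z : Y, MoreMor.nGeomConnComp (π ≫ g) z = ENat.card ↥(pullback g (geomPt z)) := by
    intro z
    rw [nGeomConnComp_eq, card_connectedComponents_pullback_comp]
    haveI := discreteTopology_of_isFinite_field _ (pullback.snd g (geomPt z))
    exact card_connectedComponents_of_discrete
  haveI : DiscreteTopology ↥(pullback g (geomPt y)) :=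
    discreteTopology_of_isFinite_field _ (pullback.snd g (geomPt y))
  haveI : IsAffine (pullback g (geomPt y)) := isAffine_of_isAffineHom (pullback.snd g (geomPt y))
  haveI : Finite ↥(pullback g (geomPt y)) := finite_of_compact_of_discrete
  obtain ⟨n, hn⟩ : ∃ n : ℕ, n = Nat.card ↥(pullback g (geomPt y)) := ⟨_, rfl⟩
  have hcard : ENat.card ↥(pullback g (geomPt y)) = n := by
    rw [hn]; exact ENat.card_eq_coe_natCard _
  have hd : DistinctPts g y n := by
    have := distinctPts_of_le_card g _ (geomPt y) n hcard.ge
    rwa [geomPt_apply] at this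
  obtain ⟨V, hV, hVd⟩ := exists_nhds_distinctPts n g y hopen hd
  refine ⟨V, hV, fun z hz => ?_⟩
  rw [key y, key z, hcard]
  apply le_card_of_distinctPts g _ (geomPt z) n
  rw [geomPt_apply]
  exact hVd z hz


/-- **EGA IV 15.5.x.** `Y` irreducible locally Noetherian, `f` proper with every irreducible
component of `X` dominating `Y`, `y₀` a geometrically unibranch point: the geometric number of
connected components of the fibres is lower semicontinuous at `y₀`. -/
theorem exists_nhds_nGeomConnComp_le_of_isGeomUnibranch {X Y : Scheme.{u}} [IrreducibleSpace Y]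
    [IsLocallyNoetherian Y] (f : X ⟶ Y) [IsProper f]
    (hdom : ∀ Z ∈ irreducibleComponents (X : Type u), closure (f '' Z) = Set.univ) (y₀ : Y)
    (hy : CAlg2.IsGeomUnibranch (Y.presheaf.stalk y₀)) :
    ∃ V ∈ nhds y₀, ∀ z ∈ V, MoreMor.nGeomConnComp f y₀ ≤ MoreMor.nGeomConnComp f z := by
  have H2 : Hyp.{u} := fun A _ _ X _ _ M hM n => Groth.Agent.S0002.result A X M hM n
  have H58 : Hyp58.{u} := fun A _ _ I X _ _ M hM p => Groth.Agent.S0058.result A I X M hM p
  obtain ⟨Y', π, g, hfac, hfin, huc, hgc⟩ : ∃ (Y' : Scheme.{u}) (π : X ⟶ Y')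
      (g : Y' ⟶ Y), π ≫ g = f ∧ IsFinite g ∧ UniversallyClosed π ∧
        GeometricallyConnected π := by
    have hfac : f.toNormalization ≫ f.fromNormalization = f := f.toNormalization_fromNormalization
    haveI hfin : IsFinite f.fromNormalization :=
      Groth.Agent.Lib.SteinFin5.isFinite_fromNormalization_of_hyp H2 f
    haveI hln : IsLocallyNoetherian f.normalization :=
      LocallyOfFiniteType.isLocallyNoetherian f.fromNormalization
    haveI : IsProper (f.toNormalization ≫ f.fromNormalization) := by rw [hfac]; infer_instance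
    haveI hprop : IsProper f.toNormalization :=
      IsProper.of_comp f.toNormalization f.fromNormalization
    have hgc : GeometricallyConnected f.toNormalization :=
      geometricallyConnected_of_isIso_app f.toNormalization H2 H58
        (Groth.Agent.Lib.SteinProp5.isIso_toNormalization_app f)
    exact ⟨f.normalization, f.toNormalization, f.fromNormalization, hfac, hfin,
      inferInstance, hgc⟩
  subst hfac
  haveI : Surjective π := inferInstance
  have hdom' : ∀ ζ : Y', IsMaxPt ζ → g ζ = genericPoint Y := by
    intro ζ hζ
    obtain ⟨x, rfl⟩ := π.surjective ζ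
    obtain ⟨ξ, hξ⟩ := QuasiSober.sober (isIrreducible_irreducibleComponent (x := x))
      isClosed_irreducibleComponent
    have hξc : closure {ξ} = irreducibleComponent x := hξ.def
    have hξx : ξ ⤳ x := by
      rw [specializes_iff_mem_closure, hξc]; exact mem_irreducibleComponent
    have hπ : π ξ = π x := hζ _ (hξx.map π.continuous)
    have hd := hdom _ (irreducibleComponent_mem_irreducibleComponents x)
    have h1 : (π ≫ g) '' irreducibleComponent x ⊆ closure {(π ≫ g) ξ} := by
      rw [← hξc]
      refine (image_closure_subset_closure_image (π ≫ g).continuous).trans ?_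
      rw [Set.image_singleton]
    have h2 : closure {(π ≫ g) ξ} = Set.univ := by
      apply Set.eq_univ_of_univ_subset
      rw [← hd]
      exact closure_minimal h1 isClosed_closure
    have h3 : IsGenericPoint ((π ≫ g) ξ) (Set.univ : Set Y) := h2
    have h4 := h3.eq (genericPoint_spec Y)
    rw [← hπ]
    rw [Scheme.Hom.comp_apply] at h4
    exact h4
  exact exists_nhds_nGeomConnComp_le_comp' π g y₀ (fun y' hy' =>
    isUnivOpenAt_of_locallyQuasiFinite_of_dominant g hdom' y' (by rw [hy']; exact hy))

end Groth.Agent.Lib.H80GeomCompLSC
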