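import Mathlib.FieldTheory.Normal.Closure
import Mathlib.FieldTheory.IsAlgClosed.AlgebraicClosure
import Mathlib.FieldTheory.IsAlgClosed.Basic
import Mathlib.Algebra.Polynomial.Splits

/-!
# Images of algebraic extensions inside normal extensions (helper80)

* `mem_range_of_normal`: if `N/k` is normal, `L/k` integral and `L` embeds in `N` over `k`, then for
  any field `E` with compatible maps `ρ : L → E`, `σ : N → E`, the image of `ρ` lies in the image
  of `σ`.
* `exists_normal_finite`: a finite family of finite extensions of `k` embeds in a common finite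
  normal extension.
-/

set_option autoImplicit false
universe u

namespace Groth.Agent.Lib.H80NormalRange

open Polynomial

theorem mem_range_of_normal {k L N E : Type*} [Field k] [Field L] [Field N] [Field E]
    [Algebra k N] [Normal k N] (φ : k →+* L) (hφ : φ.IsIntegral) (i : L →+* N)
    (hi : i.comp φ = algebraMap k N) (ρ : L →+* E) (σ : N →+* E)
    (h : ρ.comp φ = σ.comp (algebraMap k N)) (a : L) : ρ a ∈ σ.range := by
  let _ : Algebra k L := φ.toAlgebra
  have hint : IsIntegral k a := hφ a
  let i' : L →ₐ[k] N := { i with commutes' := fun r => RingHom.congr_fun hi r }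
  have hmin : minpoly k (i' a) = minpoly k a := minpoly.algHom_eq i' i'.injective a
  have hsplit : ((minpoly k a).map (algebraMap k N)).Splits := by
    rw [← hmin]
    exact Normal.splits inferInstance (i' a)
  have hne : (minpoly k a).map (algebraMap k N) ≠ 0 :=
    Polynomial.map_ne_zero (minpoly.ne_zero hint)
  refine hsplit.mem_range_of_isRoot hne (i := σ) (x := ρ a) ?_
  rw [Polynomial.IsRoot, Polynomial.eval_map, Polynomial.eval₂_map, ← h]
  have h1 : (minpoly k a).eval₂ (ρ.comp φ) (ρ a) = ρ ((minpoly k a).eval₂ φ a) :=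
    (Polynomial.hom_eval₂ (minpoly k a) φ ρ a).symm
  rw [h1]
  have h2 : (minpoly k a).eval₂ φ a = Polynomial.aeval a (minpoly k a) := rfl
  rw [h2, minpoly.aeval, map_zero]

theorem exists_normal_finite {k : Type u} [Field k] {ι : Type*} [Finite ι] (L : ι → Type u)
    [∀ i, Field (L i)] (φ : ∀ i, k →+* L i) (hφ : ∀ i, (φ i).Finite) :
    ∃ (N : Type u) (_ : Field N) (_ : Algebra k N), Normal k N ∧ FiniteDimensional k N ∧
      ∀ i, ∃ j : L i →+* N, j.comp (φ i) = algebraMap k N := by
  classical
  let _ : ∀ i, Algebra k (L i) := fun i => (φ i).toAlgebra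
  have hfin : ∀ i, FiniteDimensional k (L i) := fun i => hφ i
  let Ω := AlgebraicClosure k
  let Ni : ι → IntermediateField k Ω := fun i => IntermediateField.normalClosure k (L i) Ω
  have hNi : ∀ i, Normal k (Ni i) := fun i => inferInstance
  have hNif : ∀ i, FiniteDimensional k (Ni i) := fun i => inferInstance
  let N : IntermediateField k Ω := ⨆ i, Ni i
  have hN : Normal k N := IntermediateField.normal_iSup (h := hNi)
  have hNf : FiniteDimensional k N := IntermediateField.finiteDimensional_iSup_of_finite
  refine ⟨N, inferInstance, inferInstance, hN, hNf, fun i => ?_⟩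
  let f : L i →ₐ[k] Ω := IsAlgClosed.lift
  have hf : ∀ x, f x ∈ N := fun x =>
    (le_iSup Ni i) (AlgHom.fieldRange_le_normalClosure f ⟨x, rfl⟩)
  let j : L i →ₐ[k] N := f.codRestrict N.toSubalgebra hf
  refine ⟨j.toRingHom, RingHom.ext fun r => ?_⟩
  exact j.commutes r

end Groth.Agent.Lib.H80NormalRange
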