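import Groth.Agent.Lib.H59NGeom
import Groth.Agent.Lib.H80NormalRange

/-!
# Counting the points of fibres after base change to a trait (helper80)
-/

set_option autoImplicit false
universe u
open CategoryTheory AlgebraicGeometry CategoryTheory.Limits IsLocalRing MorphismProperty

namespace Groth.Agent.Lib.H80GeomCount

open Groth.Agent.Lib.H59FibInt Groth.Agent.Lib.H59GeomPoints Groth.Agent.Lib.H59Weight
  Groth.Agent.Lib.H59NGeom

variable {G : Scheme.{u}}

/-- Over a field, if all separable degrees are `1`, the fibre integral of `1` is the number of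
points. -/
theorem fibreIntegral_one_eq_card_of_sepDeg (K : Type u) [Field K] (q : G ⟶ Spec (.of K))
    [LocallyQuasiFinite q] [QuasiCompact q] (hq : ∀ g : G, sepDeg q g = 1) (x : Spec (.of K)) :
    MoreMor.fibreIntegral q (fun _ => 1) x = (Nat.card G : ℤ) := by
  have := finite_of_quasiFinite_over_field K q
  unfold MoreMor.fibreIntegral
  have h1 : ∀ u : {u : G // q u = x}, (1 : ℤ) * (letI := (q.residueFieldMap u.1).hom.toAlgebra
      (Field.finSepDegree ((Spec (.of K)).residueField (q u.1)) (G.residueField u.1) : ℤ)) = 1 := by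
    intro u
    have := hq u.1
    unfold sepDeg at this
    rw [this]
    simp
  simp_rw [h1]
  let e : {u : G // q u = x} ≃ G :=
    { toFun := fun u => u.1
      invFun := fun g => ⟨g, Subsingleton.elim (α := PrimeSpectrum K) _ _⟩
      left_inv := fun _ => rfl
      right_inv := fun _ => rfl }
  have : Finite {u : G // q u = x} := Finite.of_equiv _ e.symm
  have := Fintype.ofFinite {u : G // q u = x}
  rw [finsum_eq_sum_of_fintype, Finset.sum_const, Finset.card_univ, ← Nat.card_eq_fintype_card,
    Nat.card_congr e]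
  simp

/-- A criterion for the separable degree at a point to be `1`: residue field embeddings into
algebraically closed fields are determined by their restriction to the base residue field. -/
theorem sepDeg_eq_one_of_forall {U V : Scheme.{u}} (π : U ⟶ V) [LocallyQuasiFinite π] (u : U)
    (h : ∀ (Ω : Type u) [Field Ω] [IsAlgClosed Ω] (ψ₁ ψ₂ : U.residueField u ⟶ .of Ω),
      π.residueFieldMap u ≫ ψ₁ = π.residueFieldMap u ≫ ψ₂ → ψ₁ = ψ₂) : sepDeg π u = 1 := by
  unfold sepDeg
  let _ := (π.residueFieldMap u).hom.toAlgebra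
  have : Module.Finite (V.residueField (π u)) (U.residueField u) := finite_residueFieldMap π u
  let Ω := AlgebraicClosure (U.residueField u)
  rw [Field.finSepDegree_eq_of_isAlgClosed (V.residueField (π u)) (U.residueField u) Ω]
  have hsub : Subsingleton (U.residueField u →ₐ[V.residueField (π u)] Ω) := by
    refine ⟨fun a b => ?_⟩
    have := h Ω (CommRingCat.ofHom a.toRingHom) (CommRingCat.ofHom b.toRingHom) (by
      ext r
      exact (a.commutes r).trans (b.commutes r).symm)
    ext r
    exact congrArg (fun k : U.residueField u ⟶ .of Ω => k.hom r) this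
  have hne : Nonempty (U.residueField u →ₐ[V.residueField (π u)] Ω) :=
    ⟨IsScalarTower.toAlgHom _ _ _⟩
  have := Fintype.ofFinite (U.residueField u →ₐ[V.residueField (π u)] Ω)
  exact Nat.card_unique


/-- **Rationality of the points of a fibre over a large field.** Let `f : X ⟶ Y` be locally
quasi-finite, `y'` a point of `Y`, `N` a normal extension of `κ(y')` in which all residue fields of
the points of `f⁻¹(y')` embed, and `t : Spec K ⟶ Y` a `K`-point over `y'` factoring through `N`.
Then all the points of `X ×_Y Spec K` have separable degree `1` over `K`. -/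
theorem sepDeg_eq_one_of_normal {X Y : Scheme.{u}} (f : X ⟶ Y) [LocallyQuasiFinite f]
    (K : Type u) [Field K] (t : Spec (.of K) ⟶ Y) (y' : Y)
    (N : Type u) [Field N] [Algebra (Y.residueField y') N] [Normal (Y.residueField y') N]
    (τ : N →+* K)
    (ht : t = Spec.map (CommRingCat.ofHom (τ.comp (algebraMap (Y.residueField y') N))) ≫
      Y.fromSpecResidueField y')
    (hN : ∀ (x' : X) (h : f x' = y'), ∃ j : X.residueField x' →+* N,
      j.comp ((Y.residueFieldCongr h).inv ≫ f.residueFieldMap x').hom =
        algebraMap (Y.residueField y') N)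
    (u : ↑(pullback f t)) : sepDeg (pullback.snd f t) u = 1 := by
  apply sepDeg_eq_one_of_forall
  intro Ω _ _ ψ₁ ψ₂ hψ
  obtain ⟨e, he⟩ : ∃ e, e = (pullback f t).fromSpecResidueField u := ⟨_, rfl⟩
  -- the `K`-structure of `κ(u)`
  obtain ⟨c, hc⟩ : ∃ c : CommRingCat.of K ⟶ (pullback f t).residueField u,
      Spec.map c = e ≫ pullback.snd f t := ⟨Spec.preimage _, Spec.map_preimage _⟩
  have hsnd : (Spec.map ψ₁ ≫ e) ≫ pullback.snd f t = (Spec.map ψ₂ ≫ e) ≫ pullback.snd f t := by
    rw [Category.assoc, Category.assoc, he,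
      ← Scheme.Hom.SpecMap_residueFieldMap_fromSpecResidueField, ← Spec.map_comp_assoc,
      ← Spec.map_comp_assoc, hψ]
  have hcψ : c ≫ ψ₁ = c ≫ ψ₂ := by
    apply Spec.map_injective
    rw [Spec.map_comp, Spec.map_comp, hc, ← Category.assoc, ← Category.assoc]
    exact hsnd
  -- the residue field map of the first projection
  obtain ⟨ρ, hρ⟩ : ∃ ρ, ρ = (pullback.fst f t).residueFieldMap u := ⟨_, rfl⟩
  have hfst : e ≫ pullback.fst f t = Spec.map ρ ≫ X.fromSpecResidueField (pullback.fst f t u) := by
    rw [he, hρ, Scheme.Hom.SpecMap_residueFieldMap_fromSpecResidueField]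
  -- the pullback square on residue fields
  have hsq : Spec.map (f.residueFieldMap (pullback.fst f t u) ≫ ρ) ≫
      Y.fromSpecResidueField (f (pullback.fst f t u)) =
      Spec.map (CommRingCat.ofHom (τ.comp (algebraMap (Y.residueField y') N)) ≫ c) ≫
        Y.fromSpecResidueField y' := by
    rw [Spec.map_comp, Category.assoc, Scheme.Hom.SpecMap_residueFieldMap_fromSpecResidueField,
      ← Category.assoc, ← hfst, Category.assoc, pullback.condition, ← Category.assoc, ← hc,
      Spec.map_comp, Category.assoc, ← ht]
  have hsig := (Scheme.SpecToEquivOfField ((pullback f t).residueField u) Y).symm.injective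
    (a₁ := ⟨f (pullback.fst f t u), f.residueFieldMap (pullback.fst f t u) ≫ ρ⟩)
    (a₂ := ⟨y', CommRingCat.ofHom (τ.comp (algebraMap (Y.residueField y') N)) ≫ c⟩) hsq
  obtain ⟨e', he'⟩ := Scheme.SpecToEquivOfField_eq_iff.mp hsig
  dsimp only at e' he'
  obtain ⟨j, hj⟩ := hN (pullback.fst f t u) e'
  have hfin : ((Y.residueFieldCongr e').inv ≫
      f.residueFieldMap (pullback.fst f t u)).hom.IsIntegral := by
    apply RingHom.Finite.to_isIntegral
    rw [CommRingCat.hom_comp]
    refine RingHom.Finite.comp ?_ ?_
    · exact (finite_residueFieldMap f (pullback.fst f t u) :)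
    · exact RingHom.Finite.of_surjective _
        (ConcreteCategory.bijective_of_isIso (Y.residueFieldCongr e').inv).2
  have hcompat : ρ.hom.comp ((Y.residueFieldCongr e').inv ≫
      f.residueFieldMap (pullback.fst f t u)).hom =
      (c.hom.comp τ).comp (algebraMap (Y.residueField y') N) := by
    have h1 : ((Y.residueFieldCongr e').inv ≫ f.residueFieldMap (pullback.fst f t u)) ≫ ρ =
        CommRingCat.ofHom (τ.comp (algebraMap (Y.residueField y') N)) ≫ c := by
      rw [Category.assoc, he', Iso.inv_hom_id_assoc]
      rfl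
    exact congrArg CommRingCat.Hom.hom h1
  have hrange : ∀ a, ρ.hom a ∈ (c.hom.comp τ).range := fun a =>
    Groth.Agent.Lib.H80NormalRange.mem_range_of_normal _ hfin j hj ρ.hom (c.hom.comp τ) hcompat a
  have hρψ : ρ ≫ ψ₁ = ρ ≫ ψ₂ := by
    ext a
    obtain ⟨r, hr⟩ := hrange a
    change ψ₁.hom (ρ.hom a) = ψ₂.hom (ρ.hom a)
    rw [← hr]
    exact congrArg (fun k : CommRingCat.of K ⟶ .of Ω => k.hom (τ r)) hcψ
  have hmain : Spec.map ψ₁ ≫ e = Spec.map ψ₂ ≫ e := by
    refine pullback.hom_ext ?_ hsnd
    rw [Category.assoc, Category.assoc, hfst, ← Spec.map_comp_assoc, ← Spec.map_comp_assoc, hρψ]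
  have hmono : Mono e := he ▸ inferInstance
  exact Spec.map_injective ((cancel_mono e).mp hmain)

end Groth.Agent.Lib.H80GeomCount
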