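import Groth.Agent.Lib.H80GeomCount

/-!
# The geometric number of points of a fibre as the number of points of a base-changed fibre
(helper80)
-/

set_option autoImplicit false
universe u
open CategoryTheory AlgebraicGeometry CategoryTheory.Limits IsLocalRing MorphismProperty

namespace Groth.Agent.Lib.H80GeomCount

open Groth.Agent.Lib.H59FibInt Groth.Agent.Lib.H59GeomPoints Groth.Agent.Lib.H59Weight
  Groth.Agent.Lib.H59NGeom

/-- If all the points of `X ×_Y Spec κ(s)` have separable degree `1` over `κ(s)`, the geometric
number of points of the fibre of `f` over `g s` is the number of points of the fibre of the base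
change `X ×_Y S ⟶ S` over `s`. -/
theorem nGeomConnComp_eq_card_fiber {X Y S : Scheme.{u}} (f : X ⟶ Y) [LocallyQuasiFinite f]
    [LocallyOfFiniteType f] [QuasiCompact f] (g : S ⟶ Y) (s : S)
    (h : ∀ u : ↑(pullback f (S.fromSpecResidueField s ≫ g)),
      sepDeg (pullback.snd f (S.fromSpecResidueField s ≫ g)) u = 1) :
    MoreMor.nGeomConnComp f (g s) = ENat.card ↥((pullback.snd f g).fiber s) := by
  obtain ⟨t, ht⟩ : ∃ t, t = S.fromSpecResidueField s ≫ g := ⟨_, rfl⟩
  rw [← ht] at h
  let K : Type u := S.residueField s
  let q : pullback f t ⟶ Spec (.of K) := pullback.snd f t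
  have hfinG : Finite ↑(pullback f t) := finite_of_quasiFinite_over_field K q
  obtain ⟨x⟩ : Nonempty (Spec (.of K)) := ⟨⟨⊥, Ideal.isPrime_bot⟩⟩
  have htx : t x = g s := by
    rw [ht, Scheme.Hom.comp_apply]
    exact congrArg g (Scheme.fromSpecResidueField_apply s x)
  let iso : (pullback.snd f g).fiber s ≅ pullback f t :=
    pullbackLeftPullbackSndIso f g (S.fromSpecResidueField s) ≪≫ eqToIso (by rw [ht])
  have h1 : ENat.card ↥((pullback.snd f g).fiber s) = (Nat.card ↑(pullback f t) : ℕ∞) := by
    rw [ENat.card_congr iso.hom.homeomorph.toEquiv, ENat.card_eq_coe_natCard]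
  have hfin : ∀ v : Y, (f ⁻¹' {v}).Finite := fun v => f.finite_preimage_singleton v
  have h2 := Groth.Agent.S1418.result f hfin q (pullback.fst f t) t
    (IsPullback.of_hasPullback f t) (fun _ => 1) x
  rw [htx] at h2
  have h3 : MoreMor.fibreIntegral q ((fun _ => (1 : ℤ)) ∘ ⇑(pullback.fst f t)) x =
      (Nat.card ↑(pullback f t) : ℤ) := fibreIntegral_one_eq_card_of_sepDeg K q h x
  rw [nGeomConnComp_eq f (g s), h1, ← h2, h3]
  simp

/-- The residue field of the closed point of the spectrum of a local ring with separably closed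
residue field is separably closed. -/
theorem isSepClosed_residueField_closedPoint (A : Type u) [CommRing A] [IsLocalRing A]
    [IsSepClosed (IsLocalRing.ResidueField A)] :
    IsSepClosed ((Spec (.of A)).residueField (IsLocalRing.closedPoint A)) := by
  have hb : Function.Bijective (algebraMap (A ⧸ maximalIdeal A) (maximalIdeal A).ResidueField) :=
    Ideal.bijective_algebraMap_quotient_residueField (maximalIdeal A)
  let e1 : IsLocalRing.ResidueField A ≃+* (maximalIdeal A).ResidueField := RingEquiv.ofBijective _ hb
  let e2 : (maximalIdeal A).ResidueField ≃+* (Spec (.of A)).residueField (IsLocalRing.closedPoint A) :=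
    (Scheme.Spec.residueFieldIso (.of A) (IsLocalRing.closedPoint A)).symm.commRingCatIsoToRingEquiv
  exact isSepClosed_of_ringEquiv (e1.trans e2)

/-- Over a point with separably closed residue field the separable degrees are `1`. -/
theorem nGeomConnComp_eq_card_fiber_of_isSepClosed {X Y S : Scheme.{u}} (f : X ⟶ Y)
    [LocallyQuasiFinite f] [LocallyOfFiniteType f] [QuasiCompact f] (g : S ⟶ Y) (s : S)
    [IsSepClosed (S.residueField s)] :
    MoreMor.nGeomConnComp f (g s) = ENat.card ↥((pullback.snd f g).fiber s) :=
  nGeomConnComp_eq_card_fiber f g s fun u =>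
    sepDeg_eq_one_of_isSepClosed (S.residueField s) (pullback.snd f (S.fromSpecResidueField s ≫ g)) u

end Groth.Agent.Lib.H80GeomCount
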