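import Mathlib
import Groth.Agent.Lib.H80Max6
import Groth.Agent.Lib.H80UnivOpenLocal

/-!
# EGA IV 14.4.2: the fibre version
-/

set_option autoImplicit false
open CategoryTheory AlgebraicGeometry Limits TopologicalSpace
universe u

namespace Groth.Agent.Lib.H80Max

open Groth.Agent.Lib.H56LocDim Groth.Agent.Lib.UnivOpenAt Groth.Agent.Lib.H80Equi
  Groth.Agent.Lib.H56OpenDim

variable {X Y : Scheme.{u}}

/-- The fibre of the restriction of `f` to an open `U` is `U ∩ f⁻¹(y)`. -/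
theorem dim_fiber_restrict (f : X ⟶ Y) (U : X.Opens) (y' : Y) :
    topologicalKrullDim ↥((U.ι ≫ f).fiber y') =
      topologicalKrullDim ↥((U : Set X) ∩ f.base ⁻¹' {y'}) := by
  have ha : Topology.IsInducing
      (fun w : ↥((U.ι ≫ f).fiber y') => U.ι (((U.ι ≫ f).fiberι y') w)) :=
    U.ι.isEmbedding.isInducing.comp ((U.ι ≫ f).fiberι y').isEmbedding.isInducing
  have hb : Topology.IsInducing
      (fun t : ↥((U : Set X) ∩ f.base ⁻¹' {y'}) => (t.1 : X)) :=
    Topology.IsInducing.subtypeVal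
  have hUpt : ∀ t₁ : (U : Scheme.{u}), U.ι t₁ ∈ U := by
    intro t₁
    have : U.ι t₁ ∈ Set.range U.ι := ⟨t₁, rfl⟩
    rwa [Scheme.Opens.range_ι] at this
  apply le_antisymm
  · refine Groth.Agent.Lib.TopKrullDim.dim_le_of_range_subset _ _ ha hb ?_
    rintro _ ⟨w, rfl⟩
    have h1 : ((U.ι ≫ f).fiberι y') w ∈ Set.range ((U.ι ≫ f).fiberι y') := ⟨w, rfl⟩
    rw [Scheme.Hom.range_fiberι] at h1
    have h2 : f (U.ι (((U.ι ≫ f).fiberι y') w)) = y' := h1
    exact ⟨⟨_, ⟨hUpt _, h2⟩⟩, rfl⟩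
  · refine Groth.Agent.Lib.TopKrullDim.dim_le_of_range_subset _ _ hb ha ?_
    rintro _ ⟨⟨t, htU, hty⟩, rfl⟩
    have : t ∈ Set.range U.ι := by rw [Scheme.Opens.range_ι]; exact htU
    obtain ⟨t₁, ht₁⟩ := this
    have h1 : t₁ ∈ Set.range ((U.ι ≫ f).fiberι y') := by
      rw [Scheme.Hom.range_fiberι]
      change f (U.ι t₁) = y'
      rw [ht₁]
      exact hty
    obtain ⟨w, hw⟩ := h1
    exact ⟨w, by simp only [hw, ht₁]⟩

/-- (b') ⇒ (b), with (b') only required for generic points of components through `f x`. -/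
theorem exists_component_of_dim_le' [IsLocallyNoetherian Y] (f : X ⟶ Y) [LocallyOfFiniteType f]
    (x : X) (hy : CAlg2.IsGeomUnibranch (Y.presheaf.stalk (f.base x)))
    (hb' : ∀ U : X.Opens, x ∈ U → ∀ Y₀ ∈ irreducibleComponents (Y : Type u), f.base x ∈ Y₀ →
      ∀ η : Y, closure ({η} : Set Y) = Y₀ →
      FlatMor.fibreDimAt f x ≤ topologicalKrullDim ↥((U : Set X) ∩ f.base ⁻¹' {η})) :
    ∀ Y₀ ∈ irreducibleComponents (Y : Type u), f.base x ∈ Y₀ →
      ∃ Z ∈ irreducibleComponents (X : Type u), ∃ hx : x ∈ Z, closure (f.base '' Z) = Y₀ ∧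
        ∀ η : Y, closure ({η} : Set Y) = Y₀ →
          FlatMor.localDim ↥(Z ∩ f.base ⁻¹' {f.base x}) ⟨x, ⟨hx, rfl⟩⟩ =
            topologicalKrullDim ↥(Z ∩ f.base ⁻¹' {η}) := by
  intro Y₀ hY₀ hyY₀
  have hnil : (nilradical (Y.presheaf.stalk (f x))).IsPrime :=
    (Ideal.Quotient.isDomain_iff_prime _).1 hy.1.1
  obtain ⟨V, hV, hyV, ηV, hηV, hη⟩ := exists_irreducible_affine_nhd (f x) hnil
  obtain ⟨η, hηgen⟩ := QuasiSober.sober hY₀.1 (isClosed_of_mem_irreducibleComponents Y₀ hY₀)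
  have hb'' := fun (U : X.Opens) (hxU : x ∈ U) => hb' U hxU Y₀ hY₀ hyY₀ η hηgen.def
  have hηeq : η = ηV := eq_generic_of_mem_irreducibleComponents hη hyV hY₀ hyY₀ hηgen.def
  subst hηeq
  have hXnoeth : IsLocallyNoetherian X := LocallyOfFiniteType.isLocallyNoetherian f
  obtain ⟨U, M, hxU, hMfin, hM, hUM⟩ := exists_open_finite_maximal_cover x
  have hd := hb'' U hxU
  -- the finite closed cover
  have hMne : Nonempty ↥M := by
    obtain ⟨ζ, hζM, -⟩ := Set.mem_iUnion₂.mp (hUM hxU)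
    exact ⟨⟨ζ, hζM⟩⟩
  have hMfin' : Finite ↥M := hMfin
  let C : ↥M → Set ↥((U : Set X) ∩ f.base ⁻¹' {η}) := fun ζ => {t | t.1 ∈ closure ({ζ.1} : Set X)}
  have hCclosed : ∀ ζ, IsClosed (C ζ) := fun ζ =>
    isClosed_closure.preimage continuous_subtype_val
  have hCcov : ⋃ ζ, C ζ = Set.univ := by
    ext t
    simp only [Set.mem_iUnion, Set.mem_univ, iff_true]
    obtain ⟨ζ, hζM, hζ⟩ := Set.mem_iUnion₂.mp (hUM t.2.1)
    exact ⟨⟨ζ, hζM⟩, hζ⟩
  have hdim := Groth.Agent.Lib.TopKrullDim.dim_eq_iSup_of_finite_closed_cover C hCclosed hCcov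
  obtain ⟨ζ', hζ'⟩ := exists_eq_ciSup_of_finite (f := fun ζ : ↥M => topologicalKrullDim ↥(C ζ))
  obtain ⟨ζ, hζM⟩ := ζ'
  rw [hdim, ← hζ'] at hd
  have hd' : FlatMor.fibreDimAt f x ≤
      topologicalKrullDim ↥(closure ({ζ} : Set X) ∩ f.base ⁻¹' {η}) := by
    refine hd.trans ?_
    refine Groth.Agent.Lib.TopKrullDim.dim_le_of_range_subset
      (fun t : ↥(C ⟨ζ, hζM⟩) => (t.1.1 : X))
      (fun t : ↥(closure ({ζ} : Set X) ∩ f.base ⁻¹' {η}) => (t.1 : X))
      (Topology.IsInducing.subtypeVal.comp Topology.IsInducing.subtypeVal)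
      Topology.IsInducing.subtypeVal ?_
    rintro _ ⟨⟨⟨t, htU, htη⟩, htC⟩, rfl⟩
    exact ⟨⟨t, htC, htη⟩, rfl⟩
  obtain ⟨hζx, hζmax⟩ := hM ζ hζM
  have hZ : closure ({ζ} : Set X) ∈ irreducibleComponents X :=
    closure_singleton_mem_irreducibleComponents ζ hζmax
  have hxZ : x ∈ closure ({ζ} : Set X) := specializes_iff_mem_closure.mp hζx
  -- `f ζ = η`
  have hne : Nonempty ↥(closure ({ζ} : Set X) ∩ f.base ⁻¹' {η}) := by
    by_contra hcon
    rw [not_nonempty_iff] at hcon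
    have h0 : topologicalKrullDim ↥(closure ({ζ} : Set X) ∩ f.base ⁻¹' {η}) = ⊥ := by
      unfold topologicalKrullDim
      rw [Order.krullDim_eq_bot_iff]
      refine ⟨fun T => ?_⟩
      obtain ⟨t, -⟩ := T.isIrreducible.nonempty
      exact hcon.false t
    rw [h0] at hd'
    have := (fibreDimAt_nonneg f x).trans hd'
    simp at this
  obtain ⟨⟨t, htZ, htη⟩⟩ := hne
  have htη' : f t = η := htη
  have hfζ : f ζ = η := by
    have h1 : f ζ ⤳ η := by
      rw [← htη']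
      exact (specializes_iff_mem_closure.mpr htZ).map f.continuous
    have h2 : η ⤳ f ζ := hη _ ((hζx.map f.continuous).mem_open V.isOpen hyV)
    exact (h1.antisymm h2).eq
  refine ⟨closure {ζ}, hZ, hxZ, ?_, ?_⟩
  · rw [closure_image_closure f.continuous, Set.image_singleton, hfζ]
    exact hηgen.def
  · intro η' hη'
    have hη'eq : η' = η := eq_generic_of_mem_irreducibleComponents hη hyV hY₀ hyY₀ hη'
    subst hη'eq
    apply le_antisymm
    · refine le_trans ?_ hd'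
      rw [fibreDimAt_eq_fibLocDim]
      exact localDim_subtype_mono (A := closure ({ζ} : Set X) ∩ f.base ⁻¹' {f.base x})
        (B := f.base ⁻¹' {f.base x}) Set.inter_subset_right x ⟨hxZ, rfl⟩
    · obtain ⟨S⟩ := exists_setup f V η' hηV hη ζ hfζ
      obtain ⟨z, hz⟩ := S.exists_of_mem x hxZ hyV
      subst hz
      exact S.dim_le_localDim z


/-- (c) ⇒ (b'') -/
theorem dim_inter_le_of_forall_isOpenAt [IsLocallyNoetherian Y] (f : X ⟶ Y)
    [LocallyOfFiniteType f] (y : Y) (hc : ∀ x : X, f.base x = y → EGA43.IsOpenAt f.base x)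
    (U : X.Opens) (η : Y) (hη : η ⤳ y) :
    topologicalKrullDim ↥((U : Set X) ∩ f.base ⁻¹' {y}) ≤
      topologicalKrullDim ↥((U : Set X) ∩ f.base ⁻¹' {η}) := by
  rw [← dim_fiber_restrict, ← dim_fiber_restrict]
  apply dim_fiber_le_of_specializes_of_isOpenAt (U.ι ≫ f) y ?_ η hη
  intro u hu
  have h1 : EGA43.IsOpenAt f.base (U.ι u) := hc _ hu
  exact Groth.Agent.Lib.H80UnivOpenLocal.isOpenAt_comp_of_isOpenMap U.ι.base
    U.ι.isOpenEmbedding.isOpenMap f.base u h1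

end Groth.Agent.Lib.H80Max
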