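import Mathlib
import Groth.Prelude.Def_Frob
import Groth.Agent.Lib.UnivHomeo

/-!
# Perfections of schemes (helper80)

API around `FrobSch.IsPerfect` and `FrobSch.IsPerfection` from the universal property.
-/

set_option autoImplicit false
universe u
open CategoryTheory CategoryTheory.Limits AlgebraicGeometry FrobSch Opposite

namespace Groth.Agent.Lib.H80Perfection

/-- `Spec A` has characteristic `p` as soon as `p = 0` in `A` (also for the zero ring). -/
theorem isCharP_Spec_of_eq_zero (p : ℕ) (A : CommRingCat.{u}) (h : (p : A) = 0) : IsCharP (Spec A) p where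
  natCast_eq_zero := by
    apply (Scheme.ΓSpecIso A).commRingCatIsoToRingEquiv.injective
    rw [map_natCast, map_zero]
    exact h

theorem natCast_eq_zero_of_isCharP_Spec (p : ℕ) (A : CommRingCat.{u}) [IsCharP (Spec A) p] :
    (p : A) = 0 := by
  have h := congrArg (Scheme.ΓSpecIso A).commRingCatIsoToRingEquiv
    (IsCharP.natCast_eq_zero (X := Spec A) (p := p))
  rwa [map_natCast, map_zero] at h

variable (p : ℕ) [Fact p.Prime]

/-- The absolute Frobenius of `Spec A` is `Spec` of the `p`-power map. -/
theorem frob_Spec (A : CommRingCat.{u}) [IsCharP (Spec A) p] (h : (p : A) = 0) :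
    frob (Spec A) p = Spec.map (CommRingCat.ofHom (powHom p A h)) := by
  apply ext_of_isAffine
  rw [← cancel_mono (Scheme.ΓSpecIso A).hom, Scheme.ΓSpecIso_naturality]
  ext s
  simp only [CommRingCat.hom_comp, RingHom.coe_comp, Function.comp_apply, CommRingCat.hom_ofHom,
    powHom_apply]
  rw [frob_appTop, map_pow]
  rfl

/-- `Spec A` is perfect when the `p`-power map of `A` is bijective. -/
theorem isPerfect_Spec (A : CommRingCat.{u}) [IsCharP (Spec A) p]
    (hb : Function.Bijective (fun a : A => a ^ p)) : IsPerfect (Spec A) p := by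
  have h := natCast_eq_zero_of_isCharP_Spec p A
  unfold IsPerfect
  rw [frob_Spec p A h]
  have : IsIso (CommRingCat.ofHom (powHom p A h)) := by
    rw [ConcreteCategory.isIso_iff_bijective]
    exact hb
  infer_instance

/-- On a perfect scheme the `p`-power map on sections over any open is bijective. -/
theorem bijective_pow_of_isPerfect (X : Scheme.{u}) [IsCharP X p] (hX : IsPerfect X p)
    (U : X.Opens) : Function.Bijective (fun s : Γ(X, U) => s ^ p) := by
  have : IsIso (frob X p) := hX
  have h : IsIso ((frob X p).app U) := inferInstance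
  have := (ConcreteCategory.isIso_iff_bijective ((frob X p).app U)).1 h
  exact this


/-- An open subscheme of a perfect scheme is perfect. -/
theorem isPerfect_of_isOpenImmersion {V W : Scheme.{u}} (j : V ⟶ W) [IsOpenImmersion j]
    [IsCharP W p] [IsCharP V p] (hW : IsPerfect W p) : IsPerfect V p := by
  have : IsIso (frob W p) := hW
  have h1 : frob V p ≫ j = j ≫ frob W p := frob_comp p j
  have : IsOpenImmersion (frob V p ≫ j) := by rw [h1]; infer_instance
  have : IsOpenImmersion (frob V p) := IsOpenImmersion.of_comp (frob V p) j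
  unfold IsPerfect
  rw [isIso_iff_isOpenImmersion_and_epi_base]
  refine ⟨inferInstance, ?_⟩
  rw [frob_base]; infer_instance

section Perfection

variable {p}
variable {XP X : Scheme.{u}} {π : XP ⟶ X} [IsCharP XP p]

theorem perfection_isPerfect (h : IsPerfection π p) : IsPerfect XP p := h.1

theorem perfection_exists_lift (h : IsPerfection π p) {Y : Scheme.{u}} [IsCharP Y p]
    (hY : IsPerfect Y p) (g : Y ⟶ X) : ∃ g' : Y ⟶ XP, g' ≫ π = g := (h.2 Y hY).2 g

theorem perfection_hom_ext (h : IsPerfection π p) {Y : Scheme.{u}} [IsCharP Y p]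
    (hY : IsPerfect Y p) {g g' : Y ⟶ XP} (e : g ≫ π = g' ≫ π) : g = g' := (h.2 Y hY).1 e

/-- Base change of a perfection is a perfection as soon as the fibre product is perfect. -/
theorem isPerfection_of_isPullback (h : IsPerfection π p) {P U : Scheme.{u}} [IsCharP P p]
    {fst : P ⟶ XP} {snd : P ⟶ U} {j : U ⟶ X} (sq : IsPullback fst snd π j)
    (hP : IsPerfect P p) : IsPerfection snd p := by
  refine ⟨hP, fun Y _ hY => ⟨fun g g' e => ?_, fun g => ?_⟩⟩
  · have e' : g ≫ snd = g' ≫ snd := e
    apply sq.hom_ext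
    · apply perfection_hom_ext h hY
      rw [Category.assoc, Category.assoc, sq.w, ← Category.assoc, ← Category.assoc, e']
    · exact e'
  · obtain ⟨g', hg'⟩ := perfection_exists_lift h hY (g ≫ j)
    exact ⟨sq.lift g' g hg', sq.lift_snd _ _ _⟩

/-- Base change of a perfection along an open immersion is a perfection. -/
theorem isPerfection_of_isPullback_of_isOpenImmersion (h : IsPerfection π p) {P U : Scheme.{u}}
    [IsCharP P p] {fst : P ⟶ XP} {snd : P ⟶ U} {j : U ⟶ X} [IsOpenImmersion j]
    (sq : IsPullback fst snd π j) : IsPerfection snd p := by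
  have : IsOpenImmersion fst := MorphismProperty.of_isPullback sq.flip ‹IsOpenImmersion j›
  exact isPerfection_of_isPullback h sq (isPerfect_of_isOpenImmersion p fst h.1)

theorem isPerfection_comp_iso (h : IsPerfection π p) {X' : Scheme.{u}} (e : X ≅ X') :
    IsPerfection (π ≫ e.hom) p := by
  refine ⟨h.1, fun Y _ hY => ⟨fun g g' e' => ?_, fun g => ?_⟩⟩
  · have e'' : g ≫ π ≫ e.hom = g' ≫ π ≫ e.hom := e'
    apply perfection_hom_ext h hY
    rw [← cancel_mono e.hom, Category.assoc, Category.assoc, e'']
  · obtain ⟨g', hg'⟩ := perfection_exists_lift h hY (g ≫ e.inv)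
    exact ⟨g', by change g' ≫ π ≫ e.hom = g; rw [← Category.assoc, hg', Category.assoc, Iso.inv_hom_id, Category.comp_id]⟩

theorem isPerfection_iso_comp (h : IsPerfection π p) {XP' : Scheme.{u}} [IsCharP XP' p]
    (e : XP' ≅ XP) : IsPerfection (e.hom ≫ π) p := by
  refine ⟨isPerfect_of_isOpenImmersion p e.hom h.1, fun Y _ hY => ⟨fun g g' e' => ?_, fun g => ?_⟩⟩
  · have e'' : g ≫ e.hom ≫ π = g' ≫ e.hom ≫ π := e'
    rw [← cancel_mono e.hom]
    apply perfection_hom_ext h hY
    rw [Category.assoc, Category.assoc, e'']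
  · obtain ⟨g', hg'⟩ := perfection_exists_lift h hY g
    exact ⟨g' ≫ e.inv, by simp [hg']⟩

/-- Two perfections of the same scheme are isomorphic over it. -/
theorem perfection_exists_iso {XP' : Scheme.{u}} [IsCharP XP' p] {π' : XP' ⟶ X}
    (h : IsPerfection π p) (h' : IsPerfection π' p) : ∃ e : XP ≅ XP', e.hom ≫ π' = π := by
  obtain ⟨a, ha⟩ := perfection_exists_lift h' h.1 π
  obtain ⟨b, hb⟩ := perfection_exists_lift h h'.1 π'
  refine ⟨⟨a, b, ?_, ?_⟩, ha⟩
  · apply perfection_hom_ext h h.1
    rw [Category.assoc, hb, ha, Category.id_comp]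
  · apply perfection_hom_ext h' h'.1
    rw [Category.assoc, ha, hb, Category.id_comp]

/-- The perfection of an affine scheme is affine. -/
theorem isAffine_of_isPerfection [IsAffine X] (h : IsPerfection π p) : IsAffine XP := by
  let B : CommRingCat.{u} := Γ(XP, ⊤)
  have hB0 : (p : B) = 0 := IsCharP.natCast_eq_zero
  have : IsCharP (Spec B) p := isCharP_Spec_of_eq_zero p B hB0
  have hY : IsPerfect (Spec B) p := isPerfect_Spec p B (bijective_pow_of_isPerfect p XP h.1 ⊤)
  let t : XP ⟶ Spec B := XP.toSpecΓ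
  let g : Spec B ⟶ X := Spec.map π.appTop ≫ X.isoSpec.inv
  have htg : t ≫ g = π := by
    simp only [t, g]
    rw [← Category.assoc, ← Scheme.toSpecΓ_naturality, Category.assoc]
    change π ≫ X.isoSpec.hom ≫ X.isoSpec.inv = π
    rw [Iso.hom_inv_id, Category.comp_id]
  obtain ⟨s, hs⟩ := perfection_exists_lift h hY g
  have hts : t ≫ s = 𝟙 XP := by
    apply perfection_hom_ext h h.1
    rw [Category.assoc, hs, htg, Category.id_comp]
  have h1 : s.appTop ≫ t.appTop = 𝟙 _ := by
    have := congrArg Scheme.Hom.appTop hts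
    simpa using this
  have hiso : IsIso t.appTop := by
    simp only [t]
    rw [Scheme.toSpecΓ_appTop]
    infer_instance
  have h2 : t.appTop ≫ s.appTop = 𝟙 _ := by
    have : s.appTop = inv t.appTop := by
      rw [← cancel_mono t.appTop, h1, IsIso.inv_hom_id]
    rw [this, IsIso.hom_inv_id]
  have hst : s ≫ t = 𝟙 (Spec B) := by
    apply ext_of_isAffine
    have : (s ≫ t).appTop = t.appTop ≫ s.appTop := by simp
    rw [this, h2]
    simp
  exact ⟨⟨s, hts, hst⟩⟩


/-- A perfection is an affine morphism. -/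
theorem isAffineHom_of_isPerfection (h : IsPerfection π p) : IsAffineHom π := by
  refine ⟨fun U hU => ?_⟩
  have : IsCharP (π ⁻¹ᵁ U).toScheme p := IsCharP.of_hom (π ⁻¹ᵁ U).ι p
  have hres : IsPerfection (π ∣_ U) p :=
    isPerfection_of_isPullback_of_isOpenImmersion h (isPullback_morphismRestrict π U).flip
  have : IsAffine U.toScheme := hU
  exact isAffine_of_isPerfection hres

/-- Spec of an algebraically closed field of characteristic `p` is a perfect scheme. -/
theorem isPerfect_Spec_of_isAlgClosed (K : Type u) [Field K] [IsAlgClosed K]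
    [IsCharP (Spec (CommRingCat.of K)) p] : IsPerfect (Spec (CommRingCat.of K)) p := by
  have h0 : (p : K) = 0 := natCast_eq_zero_of_isCharP_Spec p (CommRingCat.of K)
  have : CharP K p := (CharP.charP_iff_prime_eq_zero Fact.out).2 h0
  refine isPerfect_Spec p (CommRingCat.of K) ⟨?_, ?_⟩
  · intro a b hab
    exact frobenius_inj K p hab
  · intro a
    obtain ⟨z, hz⟩ := IsAlgClosed.exists_pow_nat_eq a (Fact.out : p.Prime).pos
    exact ⟨z, hz⟩

/-- A perfection is surjective. -/
theorem surjective_of_isPerfection [IsCharP X p] (h : IsPerfection π p) : Surjective π := by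
  refine ⟨fun x => ?_⟩
  let K := AlgebraicClosure (X.residueField x)
  let g : Spec (CommRingCat.of K) ⟶ X :=
    Spec.map (CommRingCat.ofHom (algebraMap (X.residueField x) K)) ≫ X.fromSpecResidueField x
  have : IsCharP (Spec (CommRingCat.of K)) p := IsCharP.of_hom g p
  obtain ⟨g', hg'⟩ := perfection_exists_lift h (isPerfect_Spec_of_isAlgClosed K) g
  let pt : Spec (CommRingCat.of K) := IsLocalRing.closedPoint K
  refine ⟨g' pt, ?_⟩
  rw [← Scheme.Hom.comp_apply, hg']
  simp only [g, Scheme.Hom.comp_apply]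
  exact Scheme.fromSpecResidueField_apply x _

/-- A perfection is universally injective. -/
theorem universallyInjective_of_isPerfection (h : IsPerfection π p) :
    UniversallyInjective π := by
  have hT := (tfae_universallyInjective π).out 0 1
  rw [hT]
  intro K _ g₁ g₂ e
  have e' : g₁ ≫ π = g₂ ≫ π := e
  let K' := AlgebraicClosure K
  let φ : CommRingCat.of K ⟶ CommRingCat.of K' := CommRingCat.ofHom (algebraMap K K')
  let j : Spec (CommRingCat.of K') ⟶ Spec (CommRingCat.of K) := Spec.map φ
  have : IsCharP (Spec (CommRingCat.of K')) p := IsCharP.of_hom (j ≫ g₁) p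
  have hj : j ≫ g₁ = j ≫ g₂ := by
    apply perfection_hom_ext h (isPerfect_Spec_of_isAlgClosed K')
    rw [Category.assoc, Category.assoc, e']
  have hff : φ.hom.FaithfullyFlat := by
    change (algebraMap K K').FaithfullyFlat
    rw [RingHom.faithfullyFlat_algebraMap_iff]
    infer_instance
  have hfs := (flat_and_surjective_SpecMap_iff φ).2 hff
  have : Flat j := hfs.1
  have : Surjective j := hfs.2
  have : Epi j := Flat.epi_of_flat_of_surjective j
  exact (cancel_epi j).1 hj


/-- For a perfection `π : XP ⟶ X` of an affine scheme, every global function on `XP` has a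
`p^n`-th power coming from `X`. -/
theorem exists_pow_mem_range_of_isPerfection [IsAffine X] (h : IsPerfection π p)
    (b : Γ(XP, ⊤)) : ∃ (n : ℕ) (r : Γ(X, ⊤)), π.appTop r = b ^ p ^ n := by
  let B : CommRingCat.{u} := Γ(XP, ⊤)
  let R : CommRingCat.{u} := Γ(X, ⊤)
  have hB0 : (p : B) = 0 := IsCharP.natCast_eq_zero
  let φ : R →+* B := π.appTop.hom
  let F : B →+* B := powHom p B hB0
  have hFn : ∀ (n : ℕ) (x : B), (F ^ n) x = x ^ p ^ n := by
    intro n x
    rw [RingHom.coe_pow]
    have : (F : B → B) = fun x => x ^ p := rfl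
    rw [this, pow_iterate]
  have hperf : Function.Bijective (fun x : B => x ^ p) := bijective_pow_of_isPerfect p XP h.1 ⊤
  let S : ℕ → Subring B := fun n => (φ.range).comap (F ^ n)
  have hSmono : Monotone S := by
    apply monotone_nat_of_le_succ
    intro n x hx
    obtain ⟨r, hr⟩ := hx
    refine ⟨r ^ p, ?_⟩
    change φ (r ^ p) = (F ^ (n + 1)) x
    rw [map_pow, hr, hFn, hFn, pow_succ, pow_mul]
  let B' : Subring B := ⨆ n, S n
  have hmem : ∀ x : B, x ∈ B' ↔ ∃ n, ∃ r, φ r = x ^ p ^ n := by
    intro x
    rw [Subring.mem_iSup_of_directed hSmono.directed_le]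
    constructor
    · rintro ⟨n, r, hr⟩
      exact ⟨n, r, by rw [hr, hFn]⟩
    · rintro ⟨n, r, hr⟩
      exact ⟨n, r, by rw [hr, hFn]⟩
  have hB'0 : (p : CommRingCat.of B') = 0 := by
    apply Subtype.ext
    change ((p : B') : B) = 0
    rw [Subring.coe_natCast]; exact hB0
  have : IsCharP (Spec (CommRingCat.of B')) p := isCharP_Spec_of_eq_zero p _ hB'0
  have hY : IsPerfect (Spec (CommRingCat.of B')) p := by
    refine isPerfect_Spec p _ ⟨?_, ?_⟩
    · intro x y hxy
      apply Subtype.ext
      apply hperf.1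
      exact congrArg Subtype.val hxy
    · intro x
      obtain ⟨c, hc⟩ := hperf.2 x.1
      have hc' : c ^ p = x.1 := hc
      obtain ⟨n, r, hr⟩ := (hmem x.1).1 x.2
      have hcmem : c ∈ B' := (hmem c).2 ⟨n + 1, r, by rw [hr, ← hc', pow_succ', pow_mul]⟩
      exact ⟨⟨c, hcmem⟩, Subtype.ext hc'⟩
  let φ' : R →+* B' := φ.codRestrict B' (fun r => (hmem _).2 ⟨0, r, by simp⟩)
  let ι : B' →+* B := B'.subtype
  have hιφ : ι.comp φ' = φ := rfl
  let gY : Spec (CommRingCat.of B') ⟶ X := Spec.map (CommRingCat.ofHom φ') ≫ X.isoSpec.inv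
  obtain ⟨s, hs⟩ := perfection_exists_lift h hY gY
  let t : XP ⟶ Spec (CommRingCat.of B') := XP.toSpecΓ ≫ Spec.map (CommRingCat.ofHom ι)
  have htg : t ≫ gY = π := by
    simp only [t, gY, Category.assoc]
    rw [← Spec.map_comp_assoc]
    have : CommRingCat.ofHom φ' ≫ CommRingCat.ofHom ι = π.appTop := rfl
    rw [this, ← Scheme.toSpecΓ_naturality_assoc]
    change π ≫ X.isoSpec.hom ≫ X.isoSpec.inv = π
    rw [Iso.hom_inv_id, Category.comp_id]
  have hts : t ≫ s = 𝟙 XP := by
    apply perfection_hom_ext h h.1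
    rw [Category.assoc, hs, htg, Category.id_comp]
  have h1 : s.appTop ≫ t.appTop = 𝟙 _ := by
    have := congrArg Scheme.Hom.appTop hts
    simpa using this
  have ht : t.appTop = (Scheme.ΓSpecIso (CommRingCat.of B')).hom ≫ CommRingCat.ofHom ι := by
    simp only [t]
    rw [Scheme.Hom.comp_appTop, Scheme.toSpecΓ_appTop, Scheme.ΓSpecIso_naturality]
  have hb : b = ι ((Scheme.ΓSpecIso (CommRingCat.of B')).hom (s.appTop b)) := by
    have := congrArg (fun f => f.hom b) h1
    simp only [CommRingCat.hom_comp, RingHom.coe_comp, Function.comp_apply, CommRingCat.hom_id,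
      RingHom.id_apply] at this
    rw [ht] at this
    exact this.symm
  have hbmem : b ∈ B' := by
    rw [hb]; exact Subtype.mem _
  obtain ⟨n, r, hr⟩ := (hmem b).1 hbmem
  exact ⟨n, r, hr⟩

theorem isIntegral_appTop_of_isPerfection [IsAffine X] (h : IsPerfection π p) :
    π.appTop.hom.IsIntegral := by
  intro b
  obtain ⟨n, r, hr⟩ := exists_pow_mem_range_of_isPerfection h b
  have hn : 0 < p ^ n := pow_pos (Fact.out : p.Prime).pos n
  let _ := π.appTop.hom.toAlgebra
  exact IsIntegral.of_pow hn (hr ▸ π.appTop.hom.isIntegralElem_map (x := r))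

/-- A perfection is an integral morphism. -/
theorem isIntegralHom_of_isPerfection (h : IsPerfection π p) : IsIntegralHom π := by
  rw [IsZariskiLocalAtTarget.iff_of_iSup_eq_top (P := @IsIntegralHom) _ (iSup_affineOpens_eq_top X)]
  intro U
  have : IsAffine U.1.toScheme := U.2
  have : IsCharP (π ⁻¹ᵁ U.1).toScheme p := IsCharP.of_hom (π ⁻¹ᵁ U.1).ι p
  have hres : IsPerfection (π ∣_ U.1) p :=
    isPerfection_of_isPullback_of_isOpenImmersion h (isPullback_morphismRestrict π U.1).flip
  rw [HasAffineProperty.iff_of_isAffine (P := @IsIntegralHom)]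
  exact ⟨isAffine_of_isPerfection hres, isIntegral_appTop_of_isPerfection hres⟩

/-- A perfection is a universal homeomorphism. -/
theorem isUnivHomeo_of_isPerfection [IsCharP X p] (h : IsPerfection π p) :
    FlatMor.IsUnivHomeo π := by
  rw [Groth.Agent.Lib.UnivHomeo.iff_isIntegralHom_universallyInjective_surjective]
  exact ⟨isIntegralHom_of_isPerfection h, universallyInjective_of_isPerfection h,
    surjective_of_isPerfection h⟩

theorem isHomeomorph_of_isPerfection [IsCharP X p] (h : IsPerfection π p) :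
    IsHomeomorph π :=
  Groth.Agent.Lib.UnivHomeo.isHomeomorph (isUnivHomeo_of_isPerfection h)

end Perfection

end Groth.Agent.Lib.H80Perfection
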