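import Groth.Agent.Lib.H80Perfection

/-!
# Perfections of schemes, part 2 (helper80)

Restriction of a "perfection square" to an open of the base, perfection commutes with fibre
products, and permanence of (closed/open) immersions.
-/

set_option autoImplicit false
universe u
open CategoryTheory CategoryTheory.Limits AlgebraicGeometry FrobSch Opposite

namespace Groth.Agent.Lib.H80Perfection

variable {p : ℕ} [Fact p.Prime]

section Restrict

variable {X Y XP YP : Scheme.{u}} {πX : XP ⟶ X} {πY : YP ⟶ Y} {f : X ⟶ Y} {fP : XP ⟶ YP}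
  (w : fP ≫ πY = πX ≫ f) {U : Scheme.{u}} (j : U ⟶ Y)

/-- The restriction of `πX` over `U ⟶ Y`: `XP ×_{YP} (YP ×_Y U) ⟶ X ×_Y U`. -/
noncomputable def restrictMap : pullback fP (pullback.fst πY j) ⟶ pullback f j :=
  pullback.lift (pullback.fst _ _ ≫ πX) (pullback.snd _ _ ≫ pullback.snd πY j) (by
    rw [Category.assoc, ← w, ← Category.assoc, pullback.condition, Category.assoc,
      pullback.condition, Category.assoc])

@[reassoc]
theorem restrictMap_fst :
    restrictMap w j ≫ pullback.fst f j = pullback.fst fP (pullback.fst πY j) ≫ πX :=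
  pullback.lift_fst _ _ _

@[reassoc]
theorem restrictMap_snd :
    restrictMap w j ≫ pullback.snd f j =
      pullback.snd fP (pullback.fst πY j) ≫ pullback.snd πY j :=
  pullback.lift_snd _ _ _

theorem isPullback_restrictMap :
    IsPullback (pullback.fst fP (pullback.fst πY j)) (restrictMap w j) πX (pullback.fst f j) := by
  have A : IsPullback (pullback.fst fP (pullback.fst πY j)) (pullback.snd fP (pullback.fst πY j))
      fP (pullback.fst πY j) := IsPullback.of_hasPullback _ _
  have B : IsPullback (pullback.fst πY j) (pullback.snd πY j) πY j := IsPullback.of_hasPullback _ _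
  have C : IsPullback (pullback.fst f j) (pullback.snd f j) f j := IsPullback.of_hasPullback _ _
  have AB := A.paste_vert B
  rw [w, ← restrictMap_snd w j] at AB
  exact IsPullback.of_bot AB (restrictMap_fst w j).symm C

theorem isPerfection_restrictMap [IsCharP XP p] [IsOpenImmersion j]
    [IsCharP (pullback fP (pullback.fst πY j)) p] (hX : IsPerfection πX p) :
    IsPerfection (restrictMap w j) p :=
  isPerfection_of_isPullback_of_isOpenImmersion hX (isPullback_restrictMap w j)

theorem isPerfection_pullback_snd [IsCharP YP p] [IsOpenImmersion j]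
    [IsCharP (pullback πY j) p] (hY : IsPerfection πY p) :
    IsPerfection (pullback.snd πY j) p :=
  isPerfection_of_isPullback_of_isOpenImmersion hY (IsPullback.of_hasPullback _ _)

end Restrict

section Fibre

/-- A fibre product of perfect schemes is perfect. -/
theorem isPerfect_pullback {A B C : Scheme.{u}} [IsCharP A p] [IsCharP B p] [IsCharP C p]
    (a : A ⟶ C) (b : B ⟶ C) [IsCharP (pullback a b) p]
    (hA : IsPerfect A p) (hB : IsPerfect B p) (hC : IsPerfect C p) :
    IsPerfect (pullback a b) p := by
  have : IsIso (frob A p) := hA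
  have : IsIso (frob B p) := hB
  have : IsIso (frob C p) := hC
  have ha : inv (frob A p) ≫ a = a ≫ inv (frob C p) := by
    rw [IsIso.inv_comp_eq, ← Category.assoc, IsIso.eq_comp_inv, frob_comp]
  have hb : inv (frob B p) ≫ b = b ≫ inv (frob C p) := by
    rw [IsIso.inv_comp_eq, ← Category.assoc, IsIso.eq_comp_inv, frob_comp]
  let G : pullback a b ⟶ pullback a b :=
    pullback.lift (pullback.fst a b ≫ inv (frob A p)) (pullback.snd a b ≫ inv (frob B p)) (by
      rw [Category.assoc, Category.assoc, ha, hb, ← Category.assoc, ← Category.assoc,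
        pullback.condition])
  refine ⟨G, ?_, ?_⟩
  · apply pullback.hom_ext
    · rw [Category.assoc, pullback.lift_fst, ← Category.assoc, frob_comp, Category.assoc,
        IsIso.hom_inv_id, Category.comp_id, Category.id_comp]
    · rw [Category.assoc, pullback.lift_snd, ← Category.assoc, frob_comp, Category.assoc,
        IsIso.hom_inv_id, Category.comp_id, Category.id_comp]
  · apply pullback.hom_ext
    · rw [Category.assoc, frob_comp, ← Category.assoc, pullback.lift_fst, Category.assoc,
        IsIso.inv_hom_id, Category.comp_id, Category.id_comp]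
    · rw [Category.assoc, frob_comp, ← Category.assoc, pullback.lift_snd, Category.assoc,
        IsIso.inv_hom_id, Category.comp_id, Category.id_comp]

/-- Perfection commutes with fibre products. -/
theorem isPerfection_pullback_map {X Y Z XP YP ZP : Scheme.{u}}
    [IsCharP XP p] [IsCharP YP p] [IsCharP ZP p]
    {πX : XP ⟶ X} {πY : YP ⟶ Y} {πZ : ZP ⟶ Z}
    (hX : IsPerfection πX p) (hY : IsPerfection πY p) (hZ : IsPerfection πZ p)
    {f : X ⟶ Z} {g : Y ⟶ Z} {fP : XP ⟶ ZP} {gP : YP ⟶ ZP}
    (wf : fP ≫ πZ = πX ≫ f) (wg : gP ≫ πZ = πY ≫ g) [IsCharP (pullback fP gP) p] :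
    IsPerfection (pullback.map fP gP f g πX πY πZ wf wg) p := by
  have hm1 : pullback.map fP gP f g πX πY πZ wf wg ≫ pullback.fst f g = pullback.fst fP gP ≫ πX :=
    pullback.lift_fst _ _ _
  have hm2 : pullback.map fP gP f g πX πY πZ wf wg ≫ pullback.snd f g = pullback.snd fP gP ≫ πY :=
    pullback.lift_snd _ _ _
  refine ⟨isPerfect_pullback fP gP hX.1 hY.1 hZ.1, fun T _ hT => ⟨fun s t e => ?_, fun s => ?_⟩⟩
  · have e' : s ≫ pullback.map fP gP f g πX πY πZ wf wg =
        t ≫ pullback.map fP gP f g πX πY πZ wf wg := e
    apply pullback.hom_ext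
    · apply perfection_hom_ext hX hT
      have := congrArg (· ≫ pullback.fst f g) e'
      simpa only [Category.assoc, hm1] using this
    · apply perfection_hom_ext hY hT
      have := congrArg (· ≫ pullback.snd f g) e'
      simpa only [Category.assoc, hm2] using this
  · obtain ⟨s₁, hs₁⟩ := perfection_exists_lift hX hT (s ≫ pullback.fst f g)
    obtain ⟨s₂, hs₂⟩ := perfection_exists_lift hY hT (s ≫ pullback.snd f g)
    have hc : s₁ ≫ fP = s₂ ≫ gP := by
      apply perfection_hom_ext hZ hT
      rw [Category.assoc, Category.assoc, wf, wg, ← Category.assoc, ← Category.assoc, hs₁, hs₂,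
        Category.assoc, Category.assoc, pullback.condition]
    refine ⟨pullback.lift s₁ s₂ hc, ?_⟩
    apply pullback.hom_ext
    · rw [Category.assoc, hm1, ← Category.assoc, pullback.lift_fst, hs₁]
    · rw [Category.assoc, hm2, ← Category.assoc, pullback.lift_snd, hs₂]

end Fibre

section Immersions

variable {X Y XP YP : Scheme.{u}} [IsCharP XP p] [IsCharP YP p]
  {πX : XP ⟶ X} {πY : YP ⟶ Y} {f : X ⟶ Y} {fP : XP ⟶ YP}

omit [Fact p.Prime] in
theorem bijective_pow_pow {B : Type*} [CommRing B] (hb : Function.Bijective (fun x : B => x ^ p))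
    (n : ℕ) : Function.Bijective (fun x : B => x ^ p ^ n) := by
  have := hb.iterate n
  rwa [pow_iterate] at this

/-- The perfection of an open immersion is an open immersion. -/
theorem isOpenImmersion_perfection (hX : IsPerfection πX p) (hY : IsPerfection πY p)
    (w : fP ≫ πY = πX ≫ f) [IsOpenImmersion f] : IsOpenImmersion fP := by
  have : IsCharP (pullback πY f) p := IsCharP.of_hom (pullback.fst πY f) p
  have h1 : IsPerfection (pullback.snd πY f) p := isPerfection_pullback_snd f hY
  obtain ⟨e, he⟩ := perfection_exists_iso hX h1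
  have h2 : fP = e.hom ≫ pullback.fst πY f := by
    apply perfection_hom_ext hY hX.1
    rw [w, Category.assoc, pullback.condition, ← Category.assoc, he]
  rw [h2]
  infer_instance

/-- The perfection of a closed immersion into an affine scheme is a closed immersion. -/
theorem isClosedImmersion_perfection_of_isAffine [IsAffine Y] (hX : IsPerfection πX p)
    (hY : IsPerfection πY p) (w : fP ≫ πY = πX ≫ f) [IsClosedImmersion f] :
    IsClosedImmersion fP := by
  have hXaff : IsAffine X := isAffine_of_isAffineHom f
  have hXPaff : IsAffine XP := isAffine_of_isPerfection hX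
  have hYPaff : IsAffine YP := isAffine_of_isPerfection hY
  have hfsurj : Function.Surjective f.appTop :=
    ((HasAffineProperty.iff_of_isAffine (P := @IsClosedImmersion)).1 ‹IsClosedImmersion f›).2
  rw [HasAffineProperty.iff_of_isAffine (P := @IsClosedImmersion)]
  refine ⟨hXPaff, fun b => ?_⟩
  obtain ⟨n, a, ha⟩ := exists_pow_mem_range_of_isPerfection hX b
  obtain ⟨r, rfl⟩ := hfsurj a
  have hbY := bijective_pow_pow (p := p) (bijective_pow_of_isPerfect p YP hY.1 ⊤) n
  have hbX := bijective_pow_pow (p := p) (bijective_pow_of_isPerfect p XP hX.1 ⊤) n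
  obtain ⟨c, hc⟩ := hbY.2 (πY.appTop r)
  have hc' : c ^ p ^ n = πY.appTop r := hc
  refine ⟨c, hbX.1 ?_⟩
  change (fP.appTop c) ^ p ^ n = b ^ p ^ n
  rw [← map_pow, hc', ← ha]
  have h3 : (fP ≫ πY).appTop = (πX ≫ f).appTop := by rw [w]
  rw [Scheme.Hom.comp_appTop, Scheme.Hom.comp_appTop] at h3
  have := congrArg (fun φ => φ.hom r) h3
  simpa using this

/-- The perfection of a closed immersion is a closed immersion. -/
theorem isClosedImmersion_perfection [IsCharP Y p] (hX : IsPerfection πX p)
    (hY : IsPerfection πY p) (w : fP ≫ πY = πX ≫ f) [IsClosedImmersion f] :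
    IsClosedImmersion fP := by
  let 𝒰 := Y.affineCover
  rw [IsZariskiLocalAtTarget.iff_of_openCover (P := @IsClosedImmersion) (𝒰.pullback₁ πY)]
  intro i
  change IsClosedImmersion (pullback.snd fP (pullback.fst πY (𝒰.f i)))
  have : IsCharP (pullback πY (𝒰.f i)) p := IsCharP.of_hom (pullback.fst πY (𝒰.f i)) p
  have : IsCharP (pullback fP (pullback.fst πY (𝒰.f i))) p :=
    IsCharP.of_hom (pullback.fst fP (pullback.fst πY (𝒰.f i))) p
  have h1 : IsPerfection (pullback.snd πY (𝒰.f i)) p := isPerfection_pullback_snd (𝒰.f i) hY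
  have h2 : IsPerfection (restrictMap w (𝒰.f i)) p := isPerfection_restrictMap w (𝒰.f i) hX
  have : IsAffine (𝒰.X i) := by dsimp [𝒰]; infer_instance
  exact isClosedImmersion_perfection_of_isAffine (f := pullback.snd f (𝒰.f i)) h2 h1
    (restrictMap_snd w (𝒰.f i)).symm

/-- The perfection of an immersion is an immersion. -/
theorem isImmersion_perfection [IsCharP Y p] (hX : IsPerfection πX p)
    (hY : IsPerfection πY p) (w : fP ≫ πY = πX ≫ f) [IsImmersion f] :
    IsImmersion fP := by
  let U := f.coborderRange
  have : IsCharP (pullback πY U.ι) p := IsCharP.of_hom (pullback.fst πY U.ι) p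
  have : IsCharP U.toScheme p := IsCharP.of_hom U.ι p
  have h1 : IsPerfection (pullback.snd πY U.ι) p := isPerfection_pullback_snd U.ι hY
  obtain ⟨gP, hgP⟩ := perfection_exists_lift h1 hX.1 (πX ≫ f.liftCoborder)
  have : IsClosedImmersion gP := isClosedImmersion_perfection hX h1 hgP
  have h2 : fP = gP ≫ pullback.fst πY U.ι := by
    apply perfection_hom_ext hY hX.1
    rw [w, Category.assoc, pullback.condition, ← Category.assoc, hgP, Category.assoc,
      f.liftCoborder_ι]
  rw [h2]
  infer_instance

/-- If the perfection of `f` is separated then `f` is separated. -/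
theorem isSeparated_of_perfection [IsCharP X p] (hX : IsPerfection πX p)
    (hY : IsPerfection πY p) (w : fP ≫ πY = πX ≫ f) [IsSeparated fP] :
    IsSeparated f := by
  have : IsCharP (pullback fP fP) p := IsCharP.of_hom (pullback.fst fP fP) p
  have : IsCharP (pullback f f) p := IsCharP.of_hom (pullback.fst f f) p
  have h2 : IsPerfection (pullback.map fP fP f f πX πX πY w w) p :=
    isPerfection_pullback_map hX hX hY w w
  have hh := isHomeomorph_of_isPerfection h2
  have hs := surjective_of_isPerfection hX
  have hd : pullback.diagonal fP ≫ pullback.map fP fP f f πX πX πY w w =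
      πX ≫ pullback.diagonal f := by
    have hm1 : pullback.map fP fP f f πX πX πY w w ≫ pullback.fst f f = pullback.fst fP fP ≫ πX :=
      pullback.lift_fst _ _ _
    have hm2 : pullback.map fP fP f f πX πX πY w w ≫ pullback.snd f f = pullback.snd fP fP ≫ πX :=
      pullback.lift_snd _ _ _
    apply pullback.hom_ext
    · rw [Category.assoc, hm1, ← Category.assoc, pullback.diagonal_fst, Category.id_comp,
        Category.assoc, pullback.diagonal_fst, Category.comp_id]
    · rw [Category.assoc, hm2, ← Category.assoc, pullback.diagonal_snd, Category.id_comp,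
        Category.assoc, pullback.diagonal_snd, Category.comp_id]
  have hr : Set.range (pullback.diagonal f) =
      (pullback.map fP fP f f πX πX πY w w) '' Set.range (pullback.diagonal fP) := by
    ext z
    constructor
    · rintro ⟨x, rfl⟩
      obtain ⟨x', rfl⟩ := hs.surj x
      refine ⟨pullback.diagonal fP x', ⟨x', rfl⟩, ?_⟩
      rw [← Scheme.Hom.comp_apply, hd, Scheme.Hom.comp_apply]
    · rintro ⟨_, ⟨x', rfl⟩, rfl⟩
      refine ⟨πX x', ?_⟩
      rw [← Scheme.Hom.comp_apply, ← hd, Scheme.Hom.comp_apply]
  have hc : IsClosed (Set.range (pullback.diagonal f)) := by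
    rw [hr]
    exact hh.isClosedMap _ (pullback.diagonal fP).isClosedEmbedding.isClosed_range
  exact ⟨IsClosedImmersion.of_isPreimmersion _ hc⟩

end Immersions

end Groth.Agent.Lib.H80Perfection
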