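import Groth.Agent.Lib.H80PerfectionFlat

/-!
# Perfections of schemes, part 5: descending affineness (helper80)

If the perfection of a scheme `X` is affine then `X` is affine; hence `f` is affine as soon as its
perfection is.
-/

set_option autoImplicit false
universe u
open CategoryTheory CategoryTheory.Limits AlgebraicGeometry FrobSch Opposite TopologicalSpace

namespace Groth.Agent.Lib.H80Perfection

variable {p : ℕ} [Fact p.Prime]

section

variable {XP X : Scheme.{u}} {π : XP ⟶ X}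

theorem app_res (f : XP ⟶ X) {W W' : X.Opens} (h : W' ≤ W) (a : Γ(X, W)) :
    f.app W' (X.presheaf.map (homOfLE h).op a) =
      XP.presheaf.map (homOfLE (f.preimage_mono h)).op (f.app W a) := by
  have := f.naturality (homOfLE h).op
  exact congrArg (fun φ => φ.hom a) this

variable [IsCharP XP p] [IsCharP X p]

/-- The kernel of `Γ(X, W) → Γ(XP, π⁻¹W)` consists of nilpotents (for `W` quasi-compact). -/
theorem isNilpotent_of_app_eq_zero (hX : IsPerfection π p) {W : X.Opens}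
    (hW : IsCompact (W : Set X)) (a : Γ(X, W)) (ha : π.app W a = 0) : IsNilpotent a := by
  rw [Scheme.isNilpotent_iff_basicOpen_eq_bot_of_isCompact hW]
  have hs := surjective_of_isPerfection hX
  have h1 : π ⁻¹ᵁ (X.basicOpen a) = XP.basicOpen (π.app W a) := Scheme.preimage_basicOpen π a
  rw [ha, Scheme.basicOpen_zero] at h1
  ext x
  simp only [Opens.coe_bot, Set.mem_empty_iff_false, iff_false]
  intro hx
  obtain ⟨x', rfl⟩ := hs.surj x
  have : x' ∈ π ⁻¹ᵁ (X.basicOpen a) := hx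
  rw [h1] at this
  exact this

/-- Over an affine open `U` of `X`, every function on `π⁻¹U` has a `p^n`-th power coming
from `U`. -/
theorem exists_pow_mem_range_app_of_isAffineOpen (hX : IsPerfection π p) {U : X.Opens}
    (hU : IsAffineOpen U) (b : Γ(XP, π ⁻¹ᵁ U)) :
    ∃ (n : ℕ) (a : Γ(X, U)), π.app U a = b ^ p ^ n := by
  have : IsAffine U.toScheme := hU
  have : IsCharP (π ⁻¹ᵁ U).toScheme p := IsCharP.of_hom (π ⁻¹ᵁ U).ι p
  have : IsCharP U.toScheme p := IsCharP.of_hom U.ι p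
  have hres : IsPerfection (π ∣_ U) p :=
    isPerfection_of_isPullback_of_isOpenImmersion hX (isPullback_morphismRestrict π U).flip
  obtain ⟨n, a', ha'⟩ := exists_pow_mem_range_of_isPerfection hres ((π ⁻¹ᵁ U).topIso.inv b)
  refine ⟨n, U.topIso.hom a', ?_⟩
  have key : (π ∣_ U).appTop = U.topIso.hom ≫ π.app U ≫ (π ⁻¹ᵁ U).topIso.inv := by
    have h1 : π ∣_ U = π.resLE U (π ⁻¹ᵁ U) le_rfl := by simp [Scheme.Hom.resLE]
    rw [h1, Scheme.Hom.appTop, Scheme.Hom.resLE_app_top, Scheme.Hom.appLE_eq_app]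
  rw [key, CommRingCat.comp_apply, CommRingCat.comp_apply] at ha'
  have h2 := congrArg (π ⁻¹ᵁ U).topIso.hom ha'
  rw [Iso.inv_hom_id_apply, map_pow, Iso.inv_hom_id_apply] at h2
  exact h2


theorem pow_eq_zero_of_isNilpotent_prime {B : Type*} [CommRing B] {d : B} (hd : IsNilpotent d) :
    ∃ k : ℕ, d ^ p ^ k = 0 := by
  obtain ⟨k, hk⟩ := hd
  refine ⟨k, ?_⟩
  have hle : k ≤ p ^ k := (Nat.lt_pow_self (Fact.out : p.Prime).one_lt).le
  rw [← Nat.sub_add_cancel hle, pow_add, hk, mul_zero]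

/-- Gluing step. -/
theorem exists_pow_mem_range_app_sup [QuasiSeparatedSpace X] (hX : IsPerfection π p)
    (S U : X.Opens) (hS : IsCompact (S : Set X)) (hU : IsCompact (U : Set X))
    (PS : ∀ b : Γ(XP, π ⁻¹ᵁ S), ∃ (n : ℕ) (a : Γ(X, S)), π.app S a = b ^ p ^ n)
    (PU : ∀ b : Γ(XP, π ⁻¹ᵁ U), ∃ (n : ℕ) (a : Γ(X, U)), π.app U a = b ^ p ^ n)
    (b : Γ(XP, π ⁻¹ᵁ (S ⊔ U))) :
    ∃ (n : ℕ) (a : Γ(X, S ⊔ U)), π.app (S ⊔ U) a = b ^ p ^ n := by
  -- restrictions of `b`
  let bS : Γ(XP, π ⁻¹ᵁ S) := XP.presheaf.map (homOfLE (π.preimage_mono le_sup_left)).op b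
  let bU : Γ(XP, π ⁻¹ᵁ U) := XP.presheaf.map (homOfLE (π.preimage_mono le_sup_right)).op b
  obtain ⟨n₁, aS, haS⟩ := PS bS
  obtain ⟨n₂, aU, haU⟩ := PU bU
  have hI : IsCompact ((S ⊓ U : X.Opens) : Set X) :=
    QuasiSeparatedSpace.inter_isCompact S.1 U.1 S.2 hS U.2 hU
  let rS : Γ(X, S) ⟶ Γ(X, S ⊓ U) := X.presheaf.map (homOfLE inf_le_left).op
  let rU : Γ(X, U) ⟶ Γ(X, S ⊓ U) := X.presheaf.map (homOfLE inf_le_right).op
  let bI : Γ(XP, π ⁻¹ᵁ (S ⊓ U)) :=
    XP.presheaf.map (homOfLE (π.preimage_mono (inf_le_left.trans le_sup_left))).op b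
  have hbS : XP.presheaf.map (homOfLE (π.preimage_mono (inf_le_left : S ⊓ U ≤ S))).op bS = bI := by
    simp only [bS, bI]
    rw [← CommRingCat.comp_apply, ← Functor.map_comp]
    rfl
  have hbU : XP.presheaf.map (homOfLE (π.preimage_mono (inf_le_right : S ⊓ U ≤ U))).op bU = bI := by
    simp only [bU, bI]
    rw [← CommRingCat.comp_apply, ← Functor.map_comp]
    rfl
  let d : Γ(X, S ⊓ U) := rS (aS ^ p ^ n₂) - rU (aU ^ p ^ n₁)
  have e1 : π.app (S ⊓ U) (rS (aS ^ p ^ n₂)) = bI ^ p ^ (n₁ + n₂) := by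
    simp only [rS]
    rw [app_res, map_pow, haS, ← pow_mul, ← pow_add, map_pow, hbS]
  have e2 : π.app (S ⊓ U) (rU (aU ^ p ^ n₁)) = bI ^ p ^ (n₁ + n₂) := by
    simp only [rU]
    rw [app_res, map_pow, haU, ← pow_mul, ← pow_add, map_pow, hbU, add_comm]
  have hd : π.app (S ⊓ U) d = 0 := by
    simp only [d]
    rw [map_sub, e1, e2, sub_self]
  obtain ⟨k, hk⟩ := pow_eq_zero_of_isNilpotent_prime (p := p)
    (isNilpotent_of_app_eq_zero hX hI d hd)
  have hI0 : (p : Γ(X, S ⊓ U)) = 0 := natCast_eq_zero_app X p (S ⊓ U)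
  have hk' : rS ((aS ^ p ^ n₂) ^ p ^ k) = rU ((aU ^ p ^ n₁) ^ p ^ k) := by
    have h1 := powHom_pow_apply hI0 k d
    rw [hk] at h1
    simp only [d] at h1
    rw [map_sub, powHom_pow_apply, powHom_pow_apply, sub_eq_zero] at h1
    simp only [map_pow] at h1 ⊢
    exact h1
  let a₁ : Γ(X, S) := (aS ^ p ^ n₂) ^ p ^ k
  let a₂ : Γ(X, U) := (aU ^ p ^ n₁) ^ p ^ k
  let x : RingHom.eqLocus
      (RingHom.comp (X.sheaf.obj.map (homOfLE inf_le_left : S ⊓ U ⟶ S).op).hom
        (RingHom.fst (X.sheaf.obj.obj <| op S) (X.sheaf.obj.obj <| op U)))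
      (RingHom.comp (X.sheaf.obj.map (homOfLE inf_le_right : S ⊓ U ⟶ U).op).hom
        (RingHom.snd (X.sheaf.obj.obj <| op S) (X.sheaf.obj.obj <| op U))) := ⟨(a₁, a₂), hk'⟩
  let a : Γ(X, S ⊔ U) := (X.sheaf.objSupIsoProdEqLocus S U).inv x
  have haS' : X.presheaf.map (homOfLE (le_sup_left : S ≤ S ⊔ U)).op a = a₁ :=
    X.sheaf.objSupIsoProdEqLocus_inv_fst S U x
  have haU' : X.presheaf.map (homOfLE (le_sup_right : U ≤ S ⊔ U)).op a = a₂ :=
    X.sheaf.objSupIsoProdEqLocus_inv_snd S U x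
  refine ⟨n₁ + n₂ + k, a, ?_⟩
  refine XP.sheaf.eq_of_locally_eq₂ (homOfLE (π.preimage_mono (le_sup_left : S ≤ S ⊔ U)))
    (homOfLE (π.preimage_mono (le_sup_right : U ≤ S ⊔ U))) (le_of_eq rfl) _ _ ?_ ?_
  · change XP.presheaf.map _ (π.app (S ⊔ U) a) = XP.presheaf.map _ (b ^ p ^ (n₁ + n₂ + k))
    rw [← app_res π (le_sup_left : S ≤ S ⊔ U), haS']
    have h5 : XP.presheaf.map (homOfLE (π.preimage_mono (le_sup_left : S ≤ S ⊔ U))).op
        (b ^ p ^ (n₁ + n₂ + k)) = bS ^ p ^ (n₁ + n₂ + k) := map_pow _ _ _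
    rw [h5]
    simp only [a₁]
    rw [map_pow, map_pow, haS, ← pow_mul, ← pow_mul, ← pow_add, ← pow_add, add_assoc]
  · change XP.presheaf.map _ (π.app (S ⊔ U) a) = XP.presheaf.map _ (b ^ p ^ (n₁ + n₂ + k))
    rw [← app_res π (le_sup_right : U ≤ S ⊔ U), haU']
    have h5 : XP.presheaf.map (homOfLE (π.preimage_mono (le_sup_right : U ≤ S ⊔ U))).op
        (b ^ p ^ (n₁ + n₂ + k)) = bU ^ p ^ (n₁ + n₂ + k) := map_pow _ _ _
    rw [h5]
    simp only [a₂]
    rw [map_pow, map_pow, haU, ← pow_mul, ← pow_mul, ← pow_add, ← pow_add, ← add_assoc,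
      add_comm n₂ n₁]

/-- On a quasi-separated scheme, every function on `π⁻¹W`, `W` quasi-compact open, has a
`p^n`-th power coming from `W`. -/
theorem exists_pow_mem_range_app_of_isCompact [QuasiSeparatedSpace X] (hX : IsPerfection π p)
    (W : X.Opens) (hW : IsCompact (W : Set X)) :
    ∀ b : Γ(XP, π ⁻¹ᵁ W), ∃ (n : ℕ) (a : Γ(X, W)), π.app W a = b ^ p ^ n := by
  refine compact_open_induction_on (P := fun W : X.Opens =>
    ∀ b : Γ(XP, π ⁻¹ᵁ W), ∃ (n : ℕ) (a : Γ(X, W)), π.app W a = b ^ p ^ n) W hW ?_ ?_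
  · intro b
    have : Subsingleton Γ(XP, π ⁻¹ᵁ (⊥ : X.Opens)) := by
      change Subsingleton Γ(XP, ⊥)
      infer_instance
    exact ⟨0, 0, Subsingleton.elim _ _⟩
  · intro S hS U PS
    exact exists_pow_mem_range_app_sup hX S U.1 hS U.2.isCompact PS
      (exists_pow_mem_range_app_of_isAffineOpen hX U.2)


/-- If the perfection of `X` is affine, then `X` is affine. -/
theorem isAffine_of_isAffine_perfection (hX : IsPerfection π p) [IsAffine XP] : IsAffine X := by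
  have hh := isHomeomorph_of_isPerfection hX
  have hs := surjective_of_isPerfection hX
  have : CompactSpace X := hh.homeomorph.compactSpace
  have : QuasiSeparatedSpace X := hh.homeomorph.symm.isOpenEmbedding.quasiSeparatedSpace
  have hglob := exists_pow_mem_range_app_of_isCompact hX ⊤ CompactSpace.isCompact_univ
  -- local choice of good basic opens
  have hloc : ∀ x : X, ∃ a : Γ(X, ⊤), x ∈ X.basicOpen a ∧ IsAffineOpen (X.basicOpen a) := by
    intro x
    obtain ⟨x', rfl⟩ := hs.surj x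
    obtain ⟨_, ⟨U, hU : IsAffineOpen U, rfl⟩, hxU, -⟩ :=
      X.isBasis_affineOpens.exists_subset_of_mem_open (Set.mem_univ (π x')) isOpen_univ
    obtain ⟨b, hb1, hb2⟩ := (isAffineOpen_top XP).exists_basicOpen_le
      (V := π ⁻¹ᵁ U) ⟨x', hxU⟩ (Set.mem_univ _)
    obtain ⟨n, a, ha⟩ := hglob b
    have hpn : 0 < p ^ n := pow_pos (Fact.out : p.Prime).pos n
    have h1 : π ⁻¹ᵁ (X.basicOpen a) = XP.basicOpen b := by
      rw [Scheme.preimage_basicOpen π a, ha, Scheme.basicOpen_pow _ _ hpn]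
      rfl
    have hle : X.basicOpen a ≤ U := by
      intro y hy
      obtain ⟨y', rfl⟩ := hs.surj y
      have : y' ∈ π ⁻¹ᵁ (X.basicOpen a) := hy
      rw [h1] at this
      exact hb1 this
    refine ⟨a, ?_, ?_⟩
    · have : x' ∈ π ⁻¹ᵁ (X.basicOpen a) := by rw [h1]; exact hb2
      exact this
    · have h2 : X.basicOpen (X.presheaf.map (homOfLE (le_top : U ≤ ⊤)).op a) = X.basicOpen a := by
        rw [Scheme.basicOpen_res]
        exact inf_eq_right.2 hle
      rw [← h2]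
      exact hU.basicOpen _
  choose a ha1 ha2 using hloc
  refine isAffine_of_isAffineOpen_basicOpen (Set.range a) ?_ ?_
  · -- the `a x` generate the unit ideal
    have hcov : (⊤ : XP.Opens) ≤ ⨆ f : (π.appTop '' Set.range a), XP.basicOpen f.1 := by
      intro y _
      have : y ∈ π ⁻¹ᵁ (X.basicOpen (a (π y))) := ha1 (π y)
      rw [Scheme.preimage_basicOpen π] at this
      exact Opens.mem_iSup.2 ⟨⟨π.appTop (a (π y)), ⟨_, ⟨_, rfl⟩, rfl⟩⟩, this⟩
    have hspan : Ideal.span (π.appTop '' Set.range a) = ⊤ :=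
      (isAffineOpen_top XP).self_le_iSup_basicOpen_iff.1 hcov
    by_contra hne
    obtain ⟨m, hm, hle⟩ := Ideal.exists_le_maximal _ hne
    have H : ∀ b : Γ(XP, ⊤), ∃ n > 0, b ^ n ∈ π.appTop.hom.range := by
      intro b
      obtain ⟨n, a', ha'⟩ := hglob b
      exact ⟨p ^ n, pow_pos (Fact.out : p.Prime).pos n, a', ha'⟩
    have hker : RingHom.ker π.appTop.hom ≤ nilradical Γ(X, ⊤) := fun a' ha' =>
      mem_nilradical.2 (isNilpotent_of_appTop_eq_zero hX a' ha')
    have hhomeo := PrimeSpectrum.isHomeomorph_comap π.appTop.hom H hker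
    obtain ⟨q, hq⟩ := hhomeo.surjective ⟨m, hm.isPrime⟩
    have hq' : (PrimeSpectrum.comap π.appTop.hom q).asIdeal = m :=
      congrArg PrimeSpectrum.asIdeal hq
    have hle' : Ideal.span (π.appTop '' Set.range a) ≤ q.asIdeal := by
      rw [Ideal.span_le]
      rintro _ ⟨_, ⟨x, rfl⟩, rfl⟩
      have h3 : a x ∈ m := hle (Ideal.subset_span ⟨x, rfl⟩)
      rw [← hq'] at h3
      exact h3
    rw [hspan] at hle'
    exact q.2.ne_top (top_le_iff.1 hle')
  · rintro _ ⟨x, rfl⟩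
    exact ha2 x


end

section

variable {X Y XP YP : Scheme.{u}} [IsCharP XP p] [IsCharP YP p]
  {πX : XP ⟶ X} {πY : YP ⟶ Y} {f : X ⟶ Y} {fP : XP ⟶ YP}

/-- If the perfection of `f` is affine then `f` is affine. -/
theorem isAffineHom_of_perfection [IsCharP X p] [IsCharP Y p] (hX : IsPerfection πX p)
    (hY : IsPerfection πY p) (w : fP ≫ πY = πX ≫ f) [IsAffineHom fP] : IsAffineHom f := by
  let 𝒰 := Y.affineCover
  rw [IsZariskiLocalAtTarget.iff_of_openCover (P := @IsAffineHom) 𝒰]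
  intro i
  change IsAffineHom (pullback.snd f (𝒰.f i))
  have : IsAffine (𝒰.X i) := by dsimp [𝒰]; infer_instance
  have : IsCharP (𝒰.X i) p := IsCharP.of_hom (𝒰.f i) p
  have : IsCharP (pullback f (𝒰.f i)) p := IsCharP.of_hom (pullback.snd f (𝒰.f i)) p
  have : IsCharP (pullback πY (𝒰.f i)) p := IsCharP.of_hom (pullback.fst πY (𝒰.f i)) p
  have : IsCharP (pullback fP (pullback.fst πY (𝒰.f i))) p :=
    IsCharP.of_hom (pullback.fst fP (pullback.fst πY (𝒰.f i))) p
  have h1 : IsPerfection (pullback.snd πY (𝒰.f i)) p := isPerfection_pullback_snd (𝒰.f i) hY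
  have h2 : IsPerfection (restrictMap w (𝒰.f i)) p := isPerfection_restrictMap w (𝒰.f i) hX
  have : IsAffine (pullback πY (𝒰.f i)) := isAffine_of_isPerfection h1
  have : IsAffine (pullback fP (pullback.fst πY (𝒰.f i))) :=
    isAffine_of_isAffineHom (pullback.snd fP (pullback.fst πY (𝒰.f i)))
  have : IsAffine (pullback f (𝒰.f i)) := isAffine_of_isAffine_perfection h2
  rw [HasAffineProperty.iff_of_isAffine (P := @IsAffineHom)]
  infer_instance

end

end Groth.Agent.Lib.H80Perfection
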