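import Groth.Agent.Lib.H80Perfection2
import Groth.Agent.S14929

/-!
# Perfections of schemes, part 4: étale morphisms (helper80)
-/

set_option autoImplicit false
universe u
open CategoryTheory CategoryTheory.Limits AlgebraicGeometry FrobSch Opposite

namespace Groth.Agent.Lib.H80Perfection

variable {p : ℕ} [Fact p.Prime]

/-- A scheme étale over a perfect scheme is perfect. -/
theorem isPerfect_of_etale {P S : Scheme.{u}} (g : P ⟶ S) [Etale g] [IsCharP S p] [IsCharP P p]
    (hS : IsPerfect S p) : IsPerfect P p := by
  have : IsIso (frob S p) := hS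
  have h1 : frob P p ≫ g = g ≫ frob S p := frob_comp p g
  have : Etale (frob P p ≫ g) := by rw [h1]; infer_instance
  have : Etale (frob P p) := Etale.of_comp (frob P p) g
  have huh := (Groth.Agent.S14929.result p P).1
  have hui : UniversallyInjective (frob P p) := Groth.Agent.Lib.UnivHomeo.universallyInjective huh
  have hsurj : Surjective (frob P p) := Groth.Agent.Lib.UnivHomeo.surjective huh
  have hqc : QuasiCompact (frob P p) := Groth.Agent.Lib.UnivHomeo.quasiCompact huh
  have hds : Surjective (pullback.diagonal (frob P p)) :=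
    (UniversallyInjective.iff_diagonal _).1 hui
  have hdo : IsOpenImmersion (pullback.diagonal (frob P p)) := inferInstance
  have hdi : IsIso (pullback.diagonal (frob P p)) := by
    rw [isIso_iff_isOpenImmersion_and_epi_base]
    refine ⟨hdo, ?_⟩
    rw [TopCat.epi_iff_surjective]
    exact hds.surj
  have : Mono (frob P p) := (pullback.isIso_diagonal_iff _).1 hdi
  exact Flat.isIso_of_surjective_of_mono (frob P p)

/-- For étale `f`, the perfection square is cartesian. -/
theorem isPullback_perfection_of_etale {X Y XP YP : Scheme.{u}} [IsCharP XP p] [IsCharP YP p]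
    {πX : XP ⟶ X} {πY : YP ⟶ Y} {f : X ⟶ Y} {fP : XP ⟶ YP}
    (hX : IsPerfection πX p) (hY : IsPerfection πY p) (w : fP ≫ πY = πX ≫ f) [Etale f] :
    IsPullback fP πX πY f := by
  have : IsCharP (pullback πY f) p := IsCharP.of_hom (pullback.fst πY f) p
  have hP : IsPerfect (pullback πY f) p := isPerfect_of_etale (pullback.fst πY f) hY.1
  have h1 : IsPerfection (pullback.snd πY f) p :=
    isPerfection_of_isPullback hY (IsPullback.of_hasPullback πY f) hP
  obtain ⟨e, he⟩ := perfection_exists_iso hX h1
  have h2 : fP = e.hom ≫ pullback.fst πY f := by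
    apply perfection_hom_ext hY hX.1
    rw [w, Category.assoc, pullback.condition, ← Category.assoc, he]
  refine (IsPullback.of_hasPullback πY f).of_iso e.symm (Iso.refl _) (Iso.refl _) (Iso.refl _)
    ?_ ?_ ?_ ?_
  · simp [h2]
  · simp [← he]
  · simp
  · simp

end Groth.Agent.Lib.H80Perfection
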