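import Groth.Agent.Lib.H80Perfection2

/-!
# Perfections of schemes, part 3: flatness (helper80)
-/

set_option autoImplicit false
universe u
open CategoryTheory CategoryTheory.Limits AlgebraicGeometry FrobSch Opposite

namespace Groth.Agent.Lib.H80Perfection

variable {p : ℕ} [Fact p.Prime]

theorem powHom_pow_apply {B : Type u} [CommRing B] (h : (p : B) = 0) (n : ℕ) (x : B) :
    ((powHom p B h) ^ n) x = x ^ p ^ n := by
  rw [RingHom.coe_pow]
  have : (powHom p B h : B → B) = fun x => x ^ p := rfl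
  rw [this, pow_iterate]

/-- Ring-level statement: the perfection of a flat ring map is flat (equational criterion). -/
theorem flat_of_perfection_rings {R A R' A' : Type u} [CommRing R] [CommRing A] [CommRing R']
    [CommRing A'] (hA : (p : A) = 0) (hR' : (p : R') = 0) (hA' : (p : A') = 0)
    (φ : R →+* A) (ρ : R →+* R') (α : A →+* A') (φ' : R' →+* A')
    (hcomm : φ'.comp ρ = α.comp φ)
    (hR'b : Function.Bijective (fun x : R' => x ^ p))
    (hA'b : Function.Bijective (fun x : A' => x ^ p))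
    (hρ : ∀ x : R', ∃ (n : ℕ) (r : R), ρ r = x ^ p ^ n)
    (hα : ∀ x : A', ∃ (n : ℕ) (a : A), α a = x ^ p ^ n)
    (hker : ∀ a : A, α a = 0 → IsNilpotent a) (hφ : φ.Flat) : φ'.Flat := by
  let _ := φ.toAlgebra
  let _ := φ'.toAlgebra
  have hφ' : Module.Flat R A := hφ
  change Module.Flat R' A'
  have hcomm' : ∀ r, φ' (ρ r) = α (φ r) := fun r => congrArg (fun g => g r) hcomm
  -- monotonicity of the exponents
  have hρ' : ∀ (x : R') (n : ℕ) (r : R), ρ r = x ^ p ^ n → ∀ N, n ≤ N → ∃ r', ρ r' = x ^ p ^ N := by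
    intro x n r hr N hN
    refine ⟨r ^ p ^ (N - n), ?_⟩
    rw [map_pow, hr, ← pow_mul, ← pow_add, Nat.add_sub_cancel' hN]
  have hα' : ∀ (x : A') (n : ℕ) (a : A), α a = x ^ p ^ n → ∀ N, n ≤ N → ∃ a', α a' = x ^ p ^ N := by
    intro x n a ha N hN
    refine ⟨a ^ p ^ (N - n), ?_⟩
    rw [map_pow, ha, ← pow_mul, ← pow_add, Nat.add_sub_cancel' hN]
  rw [Module.Flat.iff_forall_isTrivialRelation]
  intro l f x hfx
  have hfx' : ∑ i, φ' (f i) * x i = 0 := by
    have h := hfx
    simp only [Algebra.smul_def] at h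
    exact h
  -- choose exponents
  choose nf rf hrf using fun i => hρ (f i)
  choose nx ax hax using fun i => hα (x i)
  let N₀ : ℕ := (∑ i, nf i) + ∑ i, nx i
  have hnf : ∀ i, nf i ≤ N₀ := fun i =>
    le_trans (Finset.single_le_sum (f := nf) (fun _ _ => Nat.zero_le _) (Finset.mem_univ i))
      (Nat.le_add_right _ _)
  have hnx : ∀ i, nx i ≤ N₀ := fun i =>
    le_trans (Finset.single_le_sum (f := nx) (fun _ _ => Nat.zero_le _) (Finset.mem_univ i))
      (Nat.le_add_left _ _)
  choose r₀ hr₀ using fun i => hρ' (f i) (nf i) (rf i) (hrf i) N₀ (hnf i)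
  choose a₀ ha₀ using fun i => hα' (x i) (nx i) (ax i) (hax i) N₀ (hnx i)
  -- the relation in `A` holds up to a nilpotent
  have hs : α (∑ i, φ (r₀ i) * a₀ i) = 0 := by
    rw [map_sum]
    have : ∀ i, α (φ (r₀ i) * a₀ i) = ((powHom p A' hA') ^ N₀) (φ' (f i) * x i) := by
      intro i
      rw [map_mul, ← hcomm', hr₀, ha₀, powHom_pow_apply, mul_pow, map_pow]
    simp_rw [this]
    rw [← map_sum, hfx', map_zero]
  obtain ⟨k, hk⟩ := hker _ hs
  have hk' : (∑ i, φ (r₀ i) * a₀ i) ^ p ^ k = 0 := by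
    have hle : k ≤ p ^ k := (Nat.lt_pow_self (Fact.out : p.Prime).one_lt).le
    rw [← Nat.sub_add_cancel hle, pow_add, hk, mul_zero]
  let N := N₀ + k
  let r : Fin l → R := fun i => r₀ i ^ p ^ k
  let a : Fin l → A := fun i => a₀ i ^ p ^ k
  have hr : ∀ i, ρ (r i) = f i ^ p ^ N := by
    intro i; simp only [r, N]; rw [map_pow, hr₀, ← pow_mul, ← pow_add]
  have ha : ∀ i, α (a i) = x i ^ p ^ N := by
    intro i; simp only [a, N]; rw [map_pow, ha₀, ← pow_mul, ← pow_add]
  have hrel : ∑ i, r i • a i = 0 := by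
    have : ∀ i, r i • a i = ((powHom p A hA) ^ k) (φ (r₀ i) * a₀ i) := by
      intro i
      rw [Algebra.smul_def, powHom_pow_apply, mul_pow]
      simp only [r, a]
      change φ (r₀ i ^ p ^ k) * _ = _
      rw [map_pow]
    simp_rw [this]
    rw [← map_sum, powHom_pow_apply, hk']
  obtain ⟨m, c, y, hcy, hc⟩ := Module.Flat.iff_forall_isTrivialRelation.mp hφ' hrel
  have hbR := bijective_pow_pow (p := p) hR'b N
  have hbA := bijective_pow_pow (p := p) hA'b N
  choose c' hc' using fun i j => hbR.2 (ρ (c i j))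
  choose y' hy' using fun j => hbA.2 (α (y j))
  have hc'' : ∀ i j, c' i j ^ p ^ N = ρ (c i j) := hc'
  have hy'' : ∀ j, y' j ^ p ^ N = α (y j) := hy'
  refine ⟨m, c', y', fun i => ?_, fun j => ?_⟩
  · apply hbA.1
    change x i ^ p ^ N = (∑ j, c' i j • y' j) ^ p ^ N
    rw [← ha, hcy, ← powHom_pow_apply hA', map_sum, map_sum]
    refine Finset.sum_congr rfl fun j _ => ?_
    rw [Algebra.smul_def, Algebra.smul_def, map_mul, map_mul, powHom_pow_apply, powHom_pow_apply,
      hy'']
    change α (φ (c i j)) * α (y j) = (φ' (c' i j)) ^ p ^ N * α (y j)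
    rw [← map_pow, hc'', hcomm']
  · apply hbR.1
    change (∑ i, f i * c' i j) ^ p ^ N = 0 ^ p ^ N
    rw [zero_pow (pow_pos (Fact.out : p.Prime).pos N).ne', ← powHom_pow_apply hR', map_sum]
    have : ∀ i, ((powHom p R' hR') ^ N) (f i * c' i j) = ρ (r i * c i j) := by
      intro i
      rw [map_mul, powHom_pow_apply, powHom_pow_apply, hc'', map_mul, hr]
    simp_rw [this]
    rw [← map_sum, hc, map_zero]


section Flat

variable {X Y XP YP : Scheme.{u}} [IsCharP XP p] [IsCharP YP p]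
  {πX : XP ⟶ X} {πY : YP ⟶ Y} {f : X ⟶ Y} {fP : XP ⟶ YP}

/-- The kernel of `Γ(X) → Γ(XP)` consists of nilpotents (for `X` quasi-compact). -/
theorem isNilpotent_of_appTop_eq_zero [IsCharP X p] [CompactSpace X] (hX : IsPerfection πX p)
    (a : Γ(X, ⊤)) (ha : πX.appTop a = 0) : IsNilpotent a := by
  rw [Scheme.isNilpotent_iff_basicOpen_eq_bot]
  have hs := surjective_of_isPerfection hX
  have h1 : πX ⁻¹ᵁ (X.basicOpen a) = XP.basicOpen (πX.appTop a) := Scheme.preimage_basicOpen πX a
  rw [ha, Scheme.basicOpen_zero] at h1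
  ext x
  simp only [TopologicalSpace.Opens.coe_bot, Set.mem_empty_iff_false, iff_false]
  intro hx
  obtain ⟨x', rfl⟩ := hs.surj x
  have : x' ∈ πX ⁻¹ᵁ (X.basicOpen a) := hx
  rw [h1] at this
  exact this

theorem flat_perfection_of_isAffine [IsAffine X] [IsAffine Y] [IsCharP X p] [IsCharP Y p]
    (hX : IsPerfection πX p) (hY : IsPerfection πY p) (w : fP ≫ πY = πX ≫ f) [Flat f] :
    Flat fP := by
  have : IsAffine XP := isAffine_of_isPerfection hX
  have : IsAffine YP := isAffine_of_isPerfection hY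
  rw [HasRingHomProperty.iff_of_isAffine (P := @Flat)]
  have hf : f.appTop.hom.Flat := (HasRingHomProperty.iff_of_isAffine (P := @Flat)).1 ‹Flat f›
  have hcomm : fP.appTop.hom.comp πY.appTop.hom = πX.appTop.hom.comp f.appTop.hom := by
    have h3 : (fP ≫ πY).appTop = (πX ≫ f).appTop := by rw [w]
    rw [Scheme.Hom.comp_appTop, Scheme.Hom.comp_appTop] at h3
    have := congrArg CommRingCat.Hom.hom h3
    simpa using this
  exact flat_of_perfection_rings (p := p) (IsCharP.natCast_eq_zero (X := X))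
    (IsCharP.natCast_eq_zero (X := YP)) (IsCharP.natCast_eq_zero (X := XP))
    f.appTop.hom πY.appTop.hom πX.appTop.hom fP.appTop.hom hcomm
    (bijective_pow_of_isPerfect p YP hY.1 ⊤) (bijective_pow_of_isPerfect p XP hX.1 ⊤)
    (exists_pow_mem_range_of_isPerfection hY) (exists_pow_mem_range_of_isPerfection hX)
    (isNilpotent_of_appTop_eq_zero hX) hf

theorem flat_perfection_of_isAffine_target [IsAffine Y] [IsCharP X p] [IsCharP Y p]
    (hX : IsPerfection πX p) (hY : IsPerfection πY p) (w : fP ≫ πY = πX ≫ f) [Flat f] :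
    Flat fP := by
  let 𝒱 := X.affineCover
  rw [IsZariskiLocalAtSource.iff_of_openCover (P := @Flat) (𝒱.pullback₁ πX)]
  intro k
  change Flat (pullback.fst πX (𝒱.f k) ≫ fP)
  have : IsCharP (𝒱.X k) p := IsCharP.of_hom (𝒱.f k) p
  have : IsCharP (pullback πX (𝒱.f k)) p := IsCharP.of_hom (pullback.fst πX (𝒱.f k)) p
  have h1 : IsPerfection (pullback.snd πX (𝒱.f k)) p := isPerfection_pullback_snd (𝒱.f k) hX
  have : IsAffine (𝒱.X k) := by dsimp [𝒱]; infer_instance
  exact flat_perfection_of_isAffine (f := 𝒱.f k ≫ f) h1 hY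
    (by rw [Category.assoc, w, ← Category.assoc, pullback.condition, Category.assoc])

/-- The perfection of a flat morphism is flat. -/
theorem flat_perfection [IsCharP X p] [IsCharP Y p]
    (hX : IsPerfection πX p) (hY : IsPerfection πY p) (w : fP ≫ πY = πX ≫ f) [Flat f] :
    Flat fP := by
  let 𝒰 := Y.affineCover
  rw [IsZariskiLocalAtTarget.iff_of_openCover (P := @Flat) (𝒰.pullback₁ πY)]
  intro i
  change Flat (pullback.snd fP (pullback.fst πY (𝒰.f i)))
  have : IsCharP (𝒰.X i) p := IsCharP.of_hom (𝒰.f i) p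
  have : IsCharP (pullback f (𝒰.f i)) p := IsCharP.of_hom (pullback.snd f (𝒰.f i)) p
  have : IsCharP (pullback πY (𝒰.f i)) p := IsCharP.of_hom (pullback.fst πY (𝒰.f i)) p
  have : IsCharP (pullback fP (pullback.fst πY (𝒰.f i))) p :=
    IsCharP.of_hom (pullback.fst fP (pullback.fst πY (𝒰.f i))) p
  have h1 : IsPerfection (pullback.snd πY (𝒰.f i)) p := isPerfection_pullback_snd (𝒰.f i) hY
  have h2 : IsPerfection (restrictMap w (𝒰.f i)) p := isPerfection_restrictMap w (𝒰.f i) hX
  have : IsAffine (𝒰.X i) := by dsimp [𝒰]; infer_instance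
  exact flat_perfection_of_isAffine_target (f := pullback.snd f (𝒰.f i)) h2 h1
    (restrictMap_snd w (𝒰.f i)).symm

/-- The perfection of a surjective morphism is surjective. -/
theorem surjective_perfection [IsCharP X p] [IsCharP Y p]
    (hX : IsPerfection πX p) (hY : IsPerfection πY p) (w : fP ≫ πY = πX ≫ f) [Surjective f] :
    Surjective fP := by
  have hsX := surjective_of_isPerfection hX
  have hhY := isHomeomorph_of_isPerfection hY
  refine ⟨fun y' => ?_⟩
  obtain ⟨x, hx⟩ := (‹Surjective f›).surj (πY y')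
  obtain ⟨x', rfl⟩ := hsX.surj x
  refine ⟨x', hhY.injective ?_⟩
  rw [← Scheme.Hom.comp_apply, w, Scheme.Hom.comp_apply, hx]

end Flat

end Groth.Agent.Lib.H80Perfection
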