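import Mathlib
import Groth.Agent.Lib.H80InfChart
import Groth.Agent.Lib.H80NearFibre

/-!
# Pointwise smoothness / unramifiedness criteria via the fibre

* `isSmoothAt_of_flat_localization`: pointwise version of Mathlib's
  `Algebra.IsSmoothAt.of_formallySmooth_fiber` (flatness only needed at the prime `q`).
* `formallySmooth_fiber_of_quotient`: smoothness of `S/JS` over `R/J` gives smooth fibres over
  primes containing `J`.
* `isUnramifiedAt_of_quotient`: unramifiedness of `S/JS` over `R/J` gives unramifiedness of `S`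
  over `R` at primes containing `JS` (Nakayama on Kähler differentials).
* `mem_smoothLocus_of_flat_of_smooth_pullback`: scheme version: if `f` is flat at `x`, `f x` lies
  in the closed subscheme `Z = V(I)` and `X ×_S Z ⟶ Z` is smooth, then `f` is smooth at `x`.
-/

open AlgebraicGeometry CategoryTheory Limits TensorProduct IsLocalRing

universe u

namespace Groth.Agent.Lib.H80PointwiseSmooth

open Groth.Agent.Lib.H80InfChart Groth.Agent.Lib.H80NearFibre

open Algebra in
section
local notation "𝓀[" R "]" => ResidueField R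

/-- Pointwise version of Mathlib's `Algebra.IsSmoothAt.of_formallySmooth_fiber`:
flatness is only required at the prime `q`. -/
theorem isSmoothAt_of_flat_localization {R S : Type*} [CommRing R] [CommRing S] [Algebra R S]
    [Algebra.FinitePresentation R S] (p : Ideal R) (q : Ideal S)
    [p.IsPrime] [q.IsPrime] [q.LiesOver p] [FormallySmooth p.ResidueField (p.Fiber S)]
    [Module.Flat R (Localization.AtPrime q)] :
    Algebra.IsSmoothAt R q := by
  let Rp := Localization.AtPrime p
  let Sp := Localization (algebraMapSubmonoid S p.primeCompl)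
  let Sq := Localization.AtPrime q
  let := Localization.AtPrime.algebraOfLiesOver p q
  let f : Sp →ₐ[S] Sq := IsLocalization.liftAlgHom (M := algebraMapSubmonoid S p.primeCompl)
        (f := Algebra.ofId _ _) (by
      rintro ⟨_, x, hx, rfl⟩
      simpa using! IsLocalization.map_units (M := q.primeCompl) Sq ⟨algebraMap _ _ x,
        by simp_all [q.over_def p]⟩)
  algebraize [f.toRingHom]
  have : IsScalarTower R Sp Sq := .to₁₃₄ _ S _ _
  have : IsScalarTower Rp Sp Sq := .of_algebraMap_eq' <| by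
    apply IsLocalization.ringHom_ext p.primeCompl
    simp only [RingHom.comp_assoc, ← IsScalarTower.algebraMap_eq]
  have : IsLocalization (algebraMapSubmonoid Sp q.primeCompl) Sq :=
    .isLocalization_of_submonoid_le _ _ (algebraMapSubmonoid S p.primeCompl) _
    (by rintro _ ⟨x, hx, rfl⟩; simp_all [q.over_def p])
  have : FinitePresentation Rp Sp := by
    have : Algebra.IsPushout R Rp S Sp :=
      .symm <| Algebra.isPushout_of_isLocalization p.primeCompl _ _ _
    exact .equiv (Algebra.IsPushout.equiv R Rp S Sp)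
  have : FormallySmooth 𝓀[Rp] (𝓀[Rp] ⊗[Rp] Sq) := by
    let : Algebra S (𝓀[Rp] ⊗[R] S) := Algebra.TensorProduct.rightAlgebra
    have : FormallySmooth 𝓀[Rp] ((𝓀[Rp] ⊗[R] S) ⊗[S] Sq) :=
      .comp _ (𝓀[Rp] ⊗[R] S) _
    let e : 𝓀[Rp] ⊗[R] S ≃ₐ[S] S ⊗[R] 𝓀[Rp] :=
      { __ := Algebra.TensorProduct.comm _ _ _, commutes' _ := rfl }
    let e' : (𝓀[Rp] ⊗[R] S) ⊗[S] Sq ≃ₐ[R] 𝓀[Rp] ⊗[Rp] Sq :=
      ((Algebra.TensorProduct.comm _ _ _).restrictScalars R).trans <|
      ((Algebra.TensorProduct.congr (.refl (R := S)) e).restrictScalars R).trans <|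
      ((Algebra.TensorProduct.cancelBaseChange _ _ S _ _).restrictScalars R).trans <|
      (Algebra.TensorProduct.comm _ _ _).trans (Algebra.TensorProduct.equivOfCompatibleSMul ..)
    have : e'.toAlgHom.comp (IsScalarTower.toAlgHom R p.ResidueField _) =
        IsScalarTower.toAlgHom _ _ _ := by ext
    let e'' : (𝓀[Rp] ⊗[R] S) ⊗[S] Sq ≃ₐ[𝓀[Rp]] 𝓀[Rp] ⊗[Rp] Sq :=
      { __ := e', commutes' r := congr($this r) }
    exact .of_equiv e''
  have : Module.Flat Rp Sq :=
    (Module.flat_iff_of_isLocalization Rp p.primeCompl Sq).mpr inferInstance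
  have := FormallySmooth.of_formallySmooth_residueField_tensor
    (R := Rp) (S := Sq) (P := Sp) (algebraMapSubmonoid _ q.primeCompl)
  exact .comp R Rp Sq

end

theorem formallySmooth_fiber_of_quotient {R S : Type*} [CommRing R] [CommRing S] [Algebra R S]
    (J : Ideal R) (p : Ideal R) [p.IsPrime] (hJ : J ≤ p)
    [Algebra.FormallySmooth (R ⧸ J) ((R ⧸ J) ⊗[R] S)] :
    Algebra.FormallySmooth p.ResidueField (p.Fiber S) := by
  let φ : R ⧸ J →+* p.ResidueField := Ideal.Quotient.lift J (algebraMap R p.ResidueField)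
    (fun a ha => (Ideal.algebraMap_residueField_eq_zero).mpr (hJ ha))
  let _ : Algebra (R ⧸ J) p.ResidueField := φ.toAlgebra
  have : IsScalarTower R (R ⧸ J) p.ResidueField := .of_algebraMap_eq' rfl
  let e := Algebra.TensorProduct.cancelBaseChange R (R ⧸ J) p.ResidueField p.ResidueField S
  exact .of_equiv e

theorem isUnramifiedAt_of_quotient {R S : Type*} [CommRing R] [CommRing S] [Algebra R S]
    [Algebra.FiniteType R S] (J : Ideal R) (q : Ideal S) [q.IsPrime]
    (hJ : J.map (algebraMap R S) ≤ q)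
    [Algebra.FormallyUnramified (R ⧸ J) ((R ⧸ J) ⊗[R] S)] :
    Algebra.IsUnramifiedAt R q := by
  have h0 : Subsingleton Ω[((R ⧸ J) ⊗[R] S)⁄(R ⧸ J)] :=
    (Algebra.formallyUnramified_iff _ _).mp inferInstance
  let _ : Algebra S ((R ⧸ J) ⊗[R] S) := Algebra.TensorProduct.rightAlgebra
  have h1 : Subsingleton ((R ⧸ J) ⊗[R] Ω[S⁄R]) :=
    (KaehlerDifferential.tensorKaehlerEquivBase R (R ⧸ J) S ((R ⧸ J) ⊗[R] S)).subsingleton
  have h2 : Subsingleton (Ω[S⁄R] ⧸ (J • (⊤ : Submodule R Ω[S⁄R]))) :=
    (TensorProduct.quotTensorEquivQuotSMul Ω[S⁄R] J).symm.subsingleton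
  have h3 : (⊤ : Submodule S Ω[S⁄R]) ≤ (J.map (algebraMap R S)) • (⊤ : Submodule S Ω[S⁄R]) := by
    intro ω _
    have hω : ω ∈ J • (⊤ : Submodule R Ω[S⁄R]) := by
      rw [← Submodule.Quotient.mk_eq_zero]
      exact Subsingleton.elim _ _
    refine Submodule.smul_induction_on hω ?_ ?_
    · intro a ha m _
      rw [← algebraMap_smul S a m]
      exact Submodule.smul_mem_smul (Ideal.mem_map_of_mem _ ha) trivial
    · intro a b ha hb
      exact Submodule.add_mem _ ha hb
  have hfg : (⊤ : Submodule S Ω[S⁄R]).FG := Module.finite_def.mp inferInstance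
  obtain ⟨r, hr1, hr2⟩ :=
    Submodule.exists_sub_one_mem_and_smul_eq_zero_of_fg_of_le_smul _ _ hfg h3
  change (⟨q, inferInstance⟩ : PrimeSpectrum S) ∈ Algebra.unramifiedLocus R S
  rw [Algebra.unramifiedLocus_eq_compl_support, Set.mem_compl_iff,
    Module.mem_support_iff_of_finite]
  intro hann
  have hrq : r ∈ q := hann (by
    rw [Module.mem_annihilator]
    exact fun m => hr2 m trivial)
  have h1q : (1 : S) ∈ q := by
    have := q.sub_mem hrq (hJ hr1)
    simpa using this
  exact (Ideal.IsPrime.ne_top inferInstance) ((Ideal.eq_top_iff_one q).mpr h1q)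

set_option backward.isDefEq.respectTransparency.types false in
theorem mem_smoothLocus_of_flat_of_smooth_pullback {X S : Scheme.{u}} (f : X ⟶ S)
    [LocallyOfFinitePresentation f]
    (I : S.IdealSheafData) (h0 : Smooth (pullback.snd f I.subschemeι)) (x : X)
    (hx : f x ∈ I.support) (hflat : (f.stalkMap x).hom.Flat) : x ∈ f.smoothLocus := by
  obtain ⟨_, ⟨V, hV, rfl⟩, hyV, -⟩ :=
    S.isBasis_affineOpens.exists_subset_of_mem_open (Set.mem_univ (f x)) isOpen_univ
  replace hV : IsAffineOpen V := hV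
  obtain ⟨_, ⟨U, hU, rfl⟩, hxU, hUV⟩ :=
    X.isBasis_affineOpens.exists_subset_of_mem_open (show x ∈ f ⁻¹ᵁ V from hyV) (f ⁻¹ᵁ V).isOpen
  replace hU : IsAffineOpen U := hU
  have e : U ≤ f ⁻¹ᵁ V := hUV
  rw [Scheme.Hom.mem_smoothLocus, formallySmooth_stalkMap_iff V hV U hU e hxU]
  have hfp := f.finitePresentation_appLE hV hU e
  have hsm0 := of_pullback_snd_subschemeι (P := @Smooth) f I ⟨V, hV⟩ hU e h0
  algebraize [(f.appLE V U e).hom]
  let p := (hV.primeIdealOf ⟨f x, e hxU⟩).asIdeal
  let q := (hU.primeIdealOf ⟨x, hxU⟩).asIdeal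
  have : q.LiesOver p :=
    ⟨congr($(IsAffineOpen.comap_primeIdealOf_appLE V hV U hU e hxU).1).symm⟩
  have hfl : Module.Flat Γ(S, V) (Localization.AtPrime q) := by
    let _ := Localization.AtPrime.algebraOfLiesOver p q
    have h1 : Module.Flat (Localization.AtPrime p) (Localization.AtPrime q) := by
      rw [← RingHom.flat_algebraMap_iff]
      exact (RingHom.Flat.respectsIso.arrow_mk_iso_iff
        (IsAffineOpen.arrowStalkMapIso f V hV U hU e hxU)).mp hflat
    exact Module.Flat.trans Γ(S, V) (Localization.AtPrime p) (Localization.AtPrime q)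
  have hJp : I.ideal ⟨V, hV⟩ ≤ p := by
    intro a ha
    by_contra hap
    have hz : f x ∈ S.zeroLocus (U := V) (I.ideal ⟨V, hV⟩) :=
      (Scheme.IdealSheafData.mem_support_iff_of_mem (U := ⟨V, hV⟩) hyV).mp hx
    rw [Scheme.mem_zeroLocus_iff] at hz
    exact hz a ha (mem_basicOpen_of_notMem_primeIdealOf hV hyV a hap)
  have hsm : Algebra.FormallySmooth (Γ(S, V) ⧸ I.ideal ⟨V, hV⟩)
      ((Γ(S, V) ⧸ I.ideal ⟨V, hV⟩) ⊗[Γ(S, V)] Γ(X, U)) := by
    rw [HasRingHomProperty.Spec_iff (P := @Smooth)] at hsm0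
    have h2 := hsm0.formallySmooth
    rwa [CommRingCat.hom_ofHom, RingHom.formallySmooth_algebraMap] at h2
  have := formallySmooth_fiber_of_quotient (S := Γ(X, U)) (I.ideal ⟨V, hV⟩) p hJp
  exact isSmoothAt_of_flat_localization p q

end Groth.Agent.Lib.H80PointwiseSmooth
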