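import Mathlib
import Groth.Agent.Lib.H80PointwiseSmooth

open AlgebraicGeometry CategoryTheory Limits TensorProduct

universe u

namespace Groth.Agent.Lib.H80PointwiseEtale

open Groth.Agent.Lib.H80InfChart Groth.Agent.Lib.H80NearFibre Groth.Agent.Lib.H80PointwiseSmooth

set_option backward.isDefEq.respectTransparency.types false in
theorem exists_etale_of_flat_of_etale_pullback {X S : Scheme.{u}} (f : X ⟶ S)
    [LocallyOfFinitePresentation f]
    (I : S.IdealSheafData) (h0 : Etale (pullback.snd f I.subschemeι)) (x : X)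
    (hx : f x ∈ I.support) (hflat : (f.stalkMap x).hom.Flat) :
    ∃ U : X.Opens, x ∈ U ∧ Etale (U.ι ≫ f) := by
  obtain ⟨_, ⟨V, hV, rfl⟩, hyV, -⟩ :=
    S.isBasis_affineOpens.exists_subset_of_mem_open (Set.mem_univ (f x)) isOpen_univ
  replace hV : IsAffineOpen V := hV
  obtain ⟨_, ⟨U, hU, rfl⟩, hxU, hUV⟩ :=
    X.isBasis_affineOpens.exists_subset_of_mem_open (show x ∈ f ⁻¹ᵁ V from hyV) (f ⁻¹ᵁ V).isOpen
  replace hU : IsAffineOpen U := hU
  have e : U ≤ f ⁻¹ᵁ V := hUV
  have hfp := f.finitePresentation_appLE hV hU e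
  have hsm0 := of_pullback_snd_subschemeι (P := @Etale) f I ⟨V, hV⟩ hU e h0
  algebraize [(f.appLE V U e).hom]
  let p := (hV.primeIdealOf ⟨f x, e hxU⟩).asIdeal
  let q := (hU.primeIdealOf ⟨x, hxU⟩).asIdeal
  have hqp : q.LiesOver p :=
    ⟨congr($(IsAffineOpen.comap_primeIdealOf_appLE V hV U hU e hxU).1).symm⟩
  have hfl : Module.Flat Γ(S, V) (Localization.AtPrime q) := by
    let _ := Localization.AtPrime.algebraOfLiesOver p q
    have h1 : Module.Flat (Localization.AtPrime p) (Localization.AtPrime q) := by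
      rw [← RingHom.flat_algebraMap_iff]
      exact (RingHom.Flat.respectsIso.arrow_mk_iso_iff
        (IsAffineOpen.arrowStalkMapIso f V hV U hU e hxU)).mp hflat
    exact Module.Flat.trans Γ(S, V) (Localization.AtPrime p) (Localization.AtPrime q)
  have hJp : I.ideal ⟨V, hV⟩ ≤ p := by
    intro a ha
    by_contra hap
    have hz : f x ∈ S.zeroLocus (U := V) (I.ideal ⟨V, hV⟩) :=
      (Scheme.IdealSheafData.mem_support_iff_of_mem (U := ⟨V, hV⟩) hyV).mp hx
    rw [Scheme.mem_zeroLocus_iff] at hz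
    exact hz a ha (mem_basicOpen_of_notMem_primeIdealOf hV hyV a hap)
  have hJq : (I.ideal ⟨V, hV⟩).map (algebraMap Γ(S, V) Γ(X, U)) ≤ q := by
    rw [Ideal.map_le_iff_le_comap]
    refine hJp.trans ?_
    rw [hqp.over]
  have het : Algebra.Etale (Γ(S, V) ⧸ I.ideal ⟨V, hV⟩)
      ((Γ(S, V) ⧸ I.ideal ⟨V, hV⟩) ⊗[Γ(S, V)] Γ(X, U)) := by
    rw [HasRingHomProperty.Spec_iff (P := @Etale)] at hsm0
    rwa [CommRingCat.hom_ofHom, RingHom.etale_algebraMap] at hsm0
  have := formallySmooth_fiber_of_quotient (S := Γ(X, U)) (I.ideal ⟨V, hV⟩) p hJp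
  have h1 : Algebra.IsSmoothAt Γ(S, V) q := isSmoothAt_of_flat_localization p q
  have h2 : Algebra.IsUnramifiedAt Γ(S, V) q := isUnramifiedAt_of_quotient (I.ideal ⟨V, hV⟩) q hJq
  have h3 : Algebra.IsEtaleAt Γ(S, V) q :=
    Algebra.FormallyEtale.iff_formallyUnramified_and_formallySmooth.mpr ⟨h2, h1⟩
  obtain ⟨r, hrq, hr⟩ := Algebra.exists_etale_of_isEtaleAt (R := Γ(S, V)) q
  refine ⟨X.basicOpen r, mem_basicOpen_of_notMem_primeIdealOf hU hxU r hrq, ?_⟩
  have e' : X.basicOpen r ≤ f ⁻¹ᵁ V := (X.basicOpen_le r).trans e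
  have hU' : IsAffineOpen (X.basicOpen r) := hU.basicOpen r
  have happ : (f.appLE V (X.basicOpen r) e').hom.Etale := by
    have := hU.isLocalization_basicOpen r
    rw [← RingHom.etale_algebraMap] at hr
    convert!
      RingHom.Etale.propertyIsLocal.respectsIso.1 _
        (IsLocalization.algEquiv (.powers r) _ Γ(X, X.basicOpen r)).toRingEquiv hr
    ext
    dsimp
    rw [IsScalarTower.algebraMap_apply Γ(S, V) Γ(X, U) (Localization.Away r), AlgEquiv.commutes]
    simp only [RingHom.algebraMap_toAlgebra, ← ConcreteCategory.comp_apply, Scheme.Hom.appLE_map]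
  have hres : Etale (f.resLE V (X.basicOpen r) e') := by
    have : IsAffine _ := hV
    have : IsAffine _ := hU'
    rw [HasRingHomProperty.iff_of_isAffine (P := @Etale)]
    exact (RingHom.Etale.propertyIsLocal.respectsIso.arrow_mk_iso_iff
      (arrowResLEAppIso f V (X.basicOpen r) e')).mpr happ
  rw [← Scheme.Hom.resLE_comp_ι f e']
  infer_instance

end Groth.Agent.Lib.H80PointwiseEtale
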