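import Groth.Agent.Lib.H30PropNbhd
import Groth.Agent.Lib.LocConst5F
import Groth.Agent.Lib.SmoothConnected54
import Groth.Agent.Lib.H80SmoothFiber2
import Groth.Agent.Lib.MaxGen34
import Groth.Agent.Lib.H77GeomFiberMap
import Groth.Agent.S0002
import Groth.Agent.S0058

/-!
# Proper smooth morphisms from fibrewise conditions (helper80) — EGA IV 15.7.10-type

`isProper_smooth_geometricallyConnected`: `S` locally Noetherian, `f : X ⟶ S` surjective, flat,
separated, quasi-compact, locally of finite presentation, all fibres smooth and proper, fibres over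
maximal points geometrically connected: then `f` is proper, smooth and geometrically connected.
-/

set_option autoImplicit false
set_option linter.style.haveILetI false
universe u
open CategoryTheory CategoryTheory.Limits AlgebraicGeometry Topology

namespace Groth.Agent.Lib.H80ProperSmoothFib

open Groth.Agent.Lib.H77GeomFiberMap Groth.Agent.Lib.ProperFinHyp Groth.Agent.Lib.ConnFib5

/-- A smooth morphism is geometrically reduced. -/
theorem geometricallyReduced_of_smooth {X Y : Scheme.{u}} (f : X ⟶ Y) [Smooth f] :
    GeometricallyReduced f := by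
  refine ⟨fun K _ y Z fst snd hpb => ?_⟩
  haveI : Smooth snd := MorphismProperty.of_isPullback hpb ‹Smooth f›
  letI : Z.Over (Spec (CommRingCat.of K)) := ⟨snd⟩
  haveI : Smooth (Z ↘ Spec (CommRingCat.of K)) := ‹Smooth snd›
  have : ∀ z : Z, _root_.IsReduced (Z.presheaf.stalk z) := fun z => by
    have := Groth.Agent.Lib.SmoothConnected54.isDomain_stalk_of_smooth K Z z
    infer_instance
  exact isReduced_of_isReduced_stalk Z

/-- Flat, locally of finite presentation with smooth fibres implies smooth. -/
theorem smooth_of_flat_of_smooth_fibres {X S : Scheme.{u}} (f : X ⟶ S) [Flat f]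
    [LocallyOfFinitePresentation f] (hsm : ∀ s : S, Smooth (f.fiberToSpecResidueField s)) :
    Smooth f := by
  rw [← Scheme.Hom.smoothLocus_eq_top_iff, ← top_le_iff]
  rintro x -
  haveI := hsm (f x)
  have hx : f.fiberι (f x) (f.asFiber x) = x := f.fiberι_asFiber x
  have hy : f.asFiber x ∈ (f.fiberToSpecResidueField (f x)).smoothLocus := by
    rw [Scheme.Hom.smoothLocus_eq_top]; trivial
  have h := Groth.Agent.Lib.H80SmoothFiber.mem_smoothLocus_of_flat_of_fiber f (f x) (f.asFiber x)
    (Flat.stalkMap f _) hy
  rwa [hx] at h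

/-- The geometric number of connected components is `1` iff the fibre is geometrically
connected. -/
theorem nGeomConnComp_eq_one_iff {X Y : Scheme.{u}} (f : X ⟶ Y) (y : Y) :
    MoreMor.nGeomConnComp f y = 1 ↔ GeometricallyConnected (f.fiberToSpecResidueField y) := by
  change _ ↔ GCF f y
  rw [geomConnFiber_iff_connectedSpace_geomFiber]
  unfold MoreMor.nGeomConnComp
  rw [ENat.card_eq_one_iff_unique]
  constructor
  · rintro ⟨hU⟩
    obtain ⟨x, -⟩ := ConnectedComponents.surjective_coe
      (hU.default : _root_.ConnectedComponents ↥(MoreMor.geomFiber f y))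
    haveI : Nonempty ↥(MoreMor.geomFiber f y) := ⟨x⟩
    haveI : PreconnectedSpace ↥(MoreMor.geomFiber f y) := by
      refine ⟨isPreconnected_of_forall_pair fun a _ b _ => ?_⟩
      have hab : (a : _root_.ConnectedComponents ↥(MoreMor.geomFiber f y)) = b :=
        Subsingleton.elim _ _
      rw [ConnectedComponents.coe_eq_coe] at hab
      refine ⟨connectedComponent a, Set.subset_univ _, mem_connectedComponent, ?_,
        isPreconnected_connectedComponent⟩
      rw [hab]; exact mem_connectedComponent
    exact ⟨inferInstance⟩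
  · intro h
    obtain ⟨x⟩ : Nonempty ↥(MoreMor.geomFiber f y) := inferInstance
    exact ⟨{ default := (x : _root_.ConnectedComponents _), uniq := fun c => Subsingleton.elim _ _ }⟩

/-- **EGA IV 15.7.10-type.** -/
theorem isProper_smooth_geometricallyConnected {X S : Scheme.{u}} [IsLocallyNoetherian S]
    (f : X ⟶ S) [Surjective f] [Flat f] [IsSeparated f] [LocallyOfFinitePresentation f]
    [QuasiCompact f]
    (hsm : ∀ s : S, Smooth (f.fiberToSpecResidueField s))
    (hpr : ∀ s : S, IsProper (f.fiberToSpecResidueField s))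
    (hgen : ∀ η : S, (∀ η' : S, η' ⤳ η → η' = η) →
      GeometricallyConnected (f.fiberToSpecResidueField η)) :
    IsProper f ∧ Smooth f ∧ GeometricallyConnected f := by
  have H2 : Hyp.{u} := fun A _ _ X _ _ M hM n => Groth.Agent.S0002.result A X M hM n
  have H58 : Hyp58.{u} := fun A _ _ I X _ _ M hM p => Groth.Agent.S0058.result A I X M hM p
  -- properness
  have hloc : ∀ s : S, ∃ U : S.Opens, s ∈ U ∧ IsProper (f ∣_ U) := fun s =>
    Groth.Agent.Lib.H30PropNbhd.exists_isProper_restrict_of_flat f (fun η hη _ => hgen η hη) s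
      (by obtain ⟨x, hx⟩ := f.surjective s; exact ⟨x, hx⟩) (hpr s)
  choose U hU hUp using hloc
  haveI hprop : IsProper f := by
    apply IsZariskiLocalAtTarget.of_iSup_eq_top (P := @IsProper) U
    · rw [eq_top_iff]
      intro s _
      exact TopologicalSpace.Opens.mem_iSup.mpr ⟨s, hU s⟩
    · exact hUp
  haveI hsmooth : Smooth f := smooth_of_flat_of_smooth_fibres f hsm
  refine ⟨hprop, hsmooth, ?_⟩
  haveI : GeometricallyReduced f := geometricallyReduced_of_smooth f
  have hlc := Groth.Agent.Lib.LocConst5.isLocallyConstant_nGeomConnComp H2 H58 f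
  rw [GeometricallyConnected.iff_geometricallyConnected_fiber]
  intro s
  rw [← nGeomConnComp_eq_one_iff]
  obtain ⟨η, hηs, hηmax⟩ := Groth.Agent.Lib.MaxGen34.exists_maximal_generization s
  have h1 : MoreMor.nGeomConnComp f η = 1 := (nGeomConnComp_eq_one_iff f η).mpr (hgen η hηmax)
  have hopen : IsOpen {z : S | MoreMor.nGeomConnComp f z = MoreMor.nGeomConnComp f s} :=
    hlc.isOpen_fiber _
  have hη : η ∈ {z : S | MoreMor.nGeomConnComp f z = MoreMor.nGeomConnComp f s} :=
    hηs.mem_open hopen rfl
  rw [← hη, h1]

end Groth.Agent.Lib.H80ProperSmoothFib
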