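/-
helper80: if `f = f' ≫ U.ι` factors through the open `U`, then `f ∣_ U` and `f'` are isomorphic arrows.
Main results: `morphismRestrict_iff_of_fac`, `exists_proper_immersion_fac_iff`.
-/
import Mathlib
import Groth.Agent.Lib.H80InfChart
import Groth.Agent.Lib.H80NearFibre

set_option autoImplicit false
open CategoryTheory CategoryTheory.Limits AlgebraicGeometry Opposite
universe u

namespace Groth.Agent.Lib.H80RestrictFac

open Groth.Agent.Lib

theorem morphismRestrict_iff_of_fac {P : MorphismProperty Scheme.{u}} [P.RespectsIso]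
    {X Y : Scheme.{u}} (f : X ⟶ Y) (U : Y.Opens) (f' : X ⟶ U.toScheme) (h : f' ≫ U.ι = f) :
    P (f ∣_ U) ↔ P f' := by
  have s1 : IsPullback (f ⁻¹ᵁ U).ι (f ∣_ U) f U.ι := (isPullback_morphismRestrict f U).flip
  have s2 : IsPullback (𝟙 X) f' f U.ι := by
    have := H80InfChart.isPullback_comp_mono (IsPullback.of_id_fst (f := f')) U.ι
    rwa [h, Category.id_comp] at this
  have e := s1.isoIsPullback_hom_snd _ _ s2
  rw [← e, P.cancel_left_of_respectsIso]

/-- `f` factors as a proper morphism followed by an immersion iff `f` is proper over a neighbourhood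
of every point of its image. -/
theorem exists_proper_immersion_fac_iff {X Y : Scheme.{u}} (f : X ⟶ Y) :
    (∃ (Z : Scheme.{u}) (g : X ⟶ Z) (h : Z ⟶ Y), IsProper g ∧ IsImmersion h ∧ g ≫ h = f) ↔
      ∀ x : X, ∃ U : Y.Opens, f.base x ∈ U ∧ IsProper (f ∣_ U) := by
  constructor
  · rintro ⟨Z, g, h, hg, hh, rfl⟩ x
    refine ⟨h.coborderRange, ?_, ?_⟩
    · have : (g ≫ h) x = h.coborderRange.ι (h.liftCoborder (g x)) := by
        rw [← Scheme.Hom.comp_apply, h.liftCoborder_ι, Scheme.Hom.comp_apply]
      rw [this]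
      exact (h.liftCoborder (g x)).2
    · rw [morphismRestrict_iff_of_fac (P := @IsProper) (g ≫ h) h.coborderRange (g ≫ h.liftCoborder)
        (by rw [Category.assoc, h.liftCoborder_ι])]
      infer_instance
  · intro H
    choose V hV hVp using H
    let U : Y.Opens := ⨆ x, V x
    have hU : IsProper (f ∣_ U) := H80NearFibre.morphismRestrict_iSup (P := @IsProper) f V hVp
    have hr : Set.range f ⊆ Set.range U.ι := by
      rw [Scheme.Opens.range_ι]
      rintro _ ⟨x, rfl⟩
      exact TopologicalSpace.Opens.mem_iSup.mpr ⟨x, hV x⟩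
    refine ⟨U.toScheme, IsOpenImmersion.lift U.ι f hr, U.ι, ?_, inferInstance,
      IsOpenImmersion.lift_fac _ _ _⟩
    rwa [← morphismRestrict_iff_of_fac (P := @IsProper) f U _ (IsOpenImmersion.lift_fac _ _ _)]

end Groth.Agent.Lib.H80RestrictFac
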