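import Groth.Agent.S4954
import Groth.Agent.S4952
import Groth.Agent.Lib.H30FibBC
import Groth.Prelude.Def_FDesc
import Mathlib.AlgebraicGeometry.Fiber

/-!
# Connected components of fibres along a section and base change (helper80)

For a cartesian square `X' = X ×_Y Y'` and a geometrically irreducible section component
`X_z^0` of the fibre of `f` over `z = h z'`, the section component of the fibre of `f'` over `z'`
is `p⁻¹(X_z^0) ∩ f'⁻¹(z')`, it is irreducible and has the same dimension.
-/

set_option autoImplicit false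
universe u
open CategoryTheory CategoryTheory.Limits AlgebraicGeometry

namespace Groth.Agent.Lib.H80SecCompBC

/-- The preimage of a geometrically irreducible subset of a fibre in the fibre of a base change is
irreducible. -/
theorem isIrreducible_preimage_inter_fibre {X Y X' Y' : Scheme.{u}} (f : X ⟶ Y) (h : Y' ⟶ Y)
    (p : X' ⟶ X) (f' : X' ⟶ Y') (hsq : IsPullback p f' f h) (z' : Y') (C : Set X)
    (hC : ∀ (K : Type u) [Field K] [Algebra (IsLocalRing.ResidueField (Y.presheaf.stalk (h z'))) K],
      IsIrreducible ((FBase.bcπ (f.fiberToSpecResidueField (h z')) K ≫ f.fiberι (h z')).base ⁻¹' C)) :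
    IsIrreducible (p ⁻¹' C ∩ f' ⁻¹' {z'}) := by
  let K : Type u := Y'.residueField z'
  let _ : Algebra (IsLocalRing.ResidueField (Y.presheaf.stalk (h z'))) K :=
    (h.residueFieldMap z').hom.toAlgebra
  have hirr := hC K
  have hP := isPullback_fiberToSpecResidueField_of_isPullback hsq z'
  let θ : f'.fiber z' ≅ FBase.bc (f.fiberToSpecResidueField (h z')) K := hP.isoPullback
  have hθ : θ.hom ≫ FBase.bcπ (f.fiberToSpecResidueField (h z')) K =
      pullback.map _ _ _ _ p (Spec.map (h.residueFieldMap z')) h hsq.w.symm (by simp) :=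
    hP.isoPullback_hom_fst
  have hcomp : FBase.bcπ (f.fiberToSpecResidueField (h z')) K ≫ f.fiberι (h z') =
      (θ.inv ≫ f'.fiberι z') ≫ p := by
    rw [Category.assoc, Iso.eq_inv_comp, ← Category.assoc, hθ]
    exact pullback.lift_fst _ _ _
  rw [hcomp] at hirr
  have himg := hirr.image (θ.inv ≫ f'.fiberι z').base
    (θ.inv ≫ f'.fiberι z').base.hom.continuous.continuousOn
  have hrange : Set.range (θ.inv ≫ f'.fiberι z').base = f' ⁻¹' {z'} := by
    have hsurj : Function.Surjective θ.inv.base := θ.symm.hom.homeomorph.surjective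
    rw [Scheme.Hom.comp_base, TopCat.coe_comp, Set.range_comp, hsurj.range_eq, Set.image_univ,
      Scheme.Hom.range_fiberι]
  have hset : (θ.inv ≫ f'.fiberι z').base ''
      (((θ.inv ≫ f'.fiberι z') ≫ p).base ⁻¹' C) = p ⁻¹' C ∩ f' ⁻¹' {z'} := by
    rw [Scheme.Hom.comp_base ((θ.inv ≫ f'.fiberι z')) p, TopCat.coe_comp, Set.preimage_comp,
      Set.image_preimage_eq_inter_range, hrange]
  rwa [hset] at himg

/-- The section component of a fibre of the base change. -/
theorem connectedComponentIn_baseChange {X Y X' Y' : Scheme.{u}} (f : X ⟶ Y) (h : Y' ⟶ Y)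
    (p : X' ⟶ X) (f' : X' ⟶ Y') (hsq : IsPullback p f' f h) (g : Y ⟶ X) (g' : Y' ⟶ X')
    (hg' : g' ≫ f' = 𝟙 Y') (hgp : g' ≫ p = h ≫ g) (z' : Y')
    (hirr : IsIrreducible (p ⁻¹' (connectedComponentIn (f ⁻¹' {h z'}) (g (h z'))) ∩ f' ⁻¹' {z'})) :
    connectedComponentIn (f' ⁻¹' {z'}) (g' z') =
      p ⁻¹' (connectedComponentIn (f ⁻¹' {h z'}) (g (h z'))) ∩ f' ⁻¹' {z'} := by
  have hf'g' : f' (g' z') = z' := by
    have := congrArg (fun φ : Y' ⟶ Y' => φ.base z') hg'
    simpa using this
  have hpg' : p (g' z') = g (h z') := by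
    have := congrArg (fun φ : Y' ⟶ X => φ.base z') hgp
    simpa using this
  have hfp : ∀ u : X', f (p u) = h (f' u) := fun u => by
    have := congrArg (fun φ : X' ⟶ Y => φ.base u) hsq.w
    simpa using this
  have hfg : f (g (h z')) = h z' := by
    rw [← hpg', hfp, hf'g']
  have hmemF' : g' z' ∈ f' ⁻¹' {z'} := hf'g'
  apply Set.Subset.antisymm
  · intro u hu
    refine ⟨?_, connectedComponentIn_subset _ _ hu⟩
    have hpre : _root_.IsPreconnected (p '' connectedComponentIn (f' ⁻¹' {z'}) (g' z')) :=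
      isPreconnected_connectedComponentIn.image p p.continuous.continuousOn
    have hsub : p '' connectedComponentIn (f' ⁻¹' {z'}) (g' z') ⊆ f ⁻¹' {h z'} := by
      rintro _ ⟨v, hv, rfl⟩
      have hv' : f' v = z' := (connectedComponentIn_subset _ _ hv : v ∈ f' ⁻¹' {z'})
      show f (p v) = h z'
      rw [hfp, hv']
    have hmem : g (h z') ∈ p '' connectedComponentIn (f' ⁻¹' {z'}) (g' z') :=
      ⟨g' z', mem_connectedComponentIn hmemF', hpg'⟩
    exact hpre.subset_connectedComponentIn hmem hsub ⟨u, hu, rfl⟩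
  · refine hirr.isConnected.isPreconnected.subset_connectedComponentIn ⟨?_, hmemF'⟩ Set.inter_subset_right
    show p (g' z') ∈ connectedComponentIn (f ⁻¹' {h z'}) (g (h z'))
    rw [hpg']
    exact mem_connectedComponentIn hfg

/-- `dim_connectedComponentIn_eq` with a free base point. -/
theorem dim_connectedComponentIn_eq' {X Y : Scheme.{u}} (f : X ⟶ Y) [LocallyOfFiniteType f]
    (y : Y) (x₀ : X) (hx₀ : f x₀ = y)
    (hC : IsIrreducible (connectedComponentIn (f ⁻¹' {y}) x₀)) :
    topologicalKrullDim ↥(connectedComponentIn (f ⁻¹' {y}) x₀) = FlatMor.fibreDimAt f x₀ := by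
  subst hx₀
  exact Groth.Agent.S4954.dim_connectedComponentIn_eq f x₀ hC


/-- **Generizations along a geometrically irreducible section component.** In a cartesian square
`X' = X ×_Y Y'` with `Y'` locally Noetherian, `f` locally of finite type with a section `g` whose
section components are geometrically irreducible, let `η ⤳ s` in `Y'` with `η` a maximal point, and
suppose `dim X⁰_{h η} = dim X⁰_{h s}`. Then every point `x'` over `s` lying over `X⁰_{h s}` is a
specialization of a point over `η`. -/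
theorem exists_generization_over {X Y X' Y' : Scheme.{u}} [IsLocallyNoetherian Y'] (f : X ⟶ Y)
    [LocallyOfFiniteType f] (h : Y' ⟶ Y) (p : X' ⟶ X) (f' : X' ⟶ Y') (hsq : IsPullback p f' f h)
    (g : Y ⟶ X) (hg : g ≫ f = 𝟙 Y)
    (hgi : ∀ (y : Y) (K : Type u) [Field K] [Algebra (IsLocalRing.ResidueField (Y.presheaf.stalk y)) K],
      IsIrreducible ((FBase.bcπ (f.fiberToSpecResidueField y) K ≫ f.fiberι y).base ⁻¹'
        (connectedComponentIn (f.base ⁻¹' {y}) (g.base y))))
    (s η : Y') (hη : η ⤳ s) (hηgen : ∀ t : Y', t ⤳ η → t = η)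
    (hdim : topologicalKrullDim ↥(connectedComponentIn (f.base ⁻¹' {h.base η}) (g.base (h.base η))) =
      topologicalKrullDim ↥(connectedComponentIn (f.base ⁻¹' {h.base s}) (g.base (h.base s))))
    (x' : X') (hx's : f'.base x' = s)
    (hx'C : p.base x' ∈ connectedComponentIn (f.base ⁻¹' {h.base s}) (g.base (h.base s))) :
    ∃ ζ : X', ζ ⤳ x' ∧ f'.base ζ = η := by
  have : LocallyOfFiniteType f' := MorphismProperty.of_isPullback hsq inferInstance
  -- the induced section
  let g' : Y' ⟶ X' := hsq.lift (h ≫ g) (𝟙 Y') (by rw [Category.assoc, hg, Category.comp_id,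
    Category.id_comp])
  have hg' : g' ≫ f' = 𝟙 Y' := hsq.lift_snd _ _ _
  have hgp : g' ≫ p = h ≫ g := hsq.lift_fst _ _ _
  have hf'g' : ∀ z' : Y', f' (g' z') = z' := fun z' => by
    have := congrArg (fun φ : Y' ⟶ Y' => φ.base z') hg'
    simpa using this
  have hpg' : ∀ z' : Y', p (g' z') = g (h z') := fun z' => by
    have := congrArg (fun φ : Y' ⟶ X => φ.base z') hgp
    simpa using this
  have hfg : ∀ z : Y, f (g z) = z := fun z => by
    have := congrArg (fun φ : Y ⟶ Y => φ.base z) hg
    simpa using this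
  -- irreducibility of the section components upstairs
  have hC : ∀ z' : Y', IsIrreducible
      (p ⁻¹' (connectedComponentIn (f ⁻¹' {h z'}) (g (h z'))) ∩ f' ⁻¹' {z'}) := fun z' =>
    isIrreducible_preimage_inter_fibre f h p f' hsq z' _ (fun K _ _ => hgi (h z') K)
  have hCeq : ∀ z' : Y', connectedComponentIn (f' ⁻¹' {z'}) (g' z') =
      p ⁻¹' (connectedComponentIn (f ⁻¹' {h z'}) (g (h z'))) ∩ f' ⁻¹' {z'} := fun z' =>
    connectedComponentIn_baseChange f h p f' hsq g g' hg' hgp z' (hC z')
  have hCirr' : ∀ z' : Y', IsIrreducible (connectedComponentIn (f' ⁻¹' {z'}) (g' z')) := fun z' => by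
    rw [hCeq]; exact hC z'
  -- irreducibility downstairs (as an image)
  have hCirr : ∀ z' : Y', IsIrreducible (connectedComponentIn (f ⁻¹' {h z'}) (g (h z'))) := by
    intro z'
    have himg := (hC z').image p p.continuous.continuousOn
    have : p '' (p ⁻¹' (connectedComponentIn (f ⁻¹' {h z'}) (g (h z'))) ∩ f' ⁻¹' {z'}) =
        connectedComponentIn (f ⁻¹' {h z'}) (g (h z')) := by
      apply Set.Subset.antisymm
      · rintro _ ⟨u, ⟨hu, -⟩, rfl⟩
        exact hu
      · intro c hc
        have hfc : f c = h z' := (connectedComponentIn_subset _ _ hc : c ∈ f ⁻¹' {h z'})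
        obtain ⟨u, hu1, hu2⟩ := Scheme.exists_preimage_of_isPullback hsq c z' hfc
        exact ⟨u, ⟨by rw [Set.mem_preimage, hu1]; exact hc, hu2⟩, hu1⟩
    rwa [this] at himg
  -- dimensions
  have hdim' : ∀ z' : Y', topologicalKrullDim ↥(connectedComponentIn (f' ⁻¹' {z'}) (g' z')) =
      topologicalKrullDim ↥(connectedComponentIn (f ⁻¹' {h z'}) (g (h z'))) := by
    intro z'
    rw [dim_connectedComponentIn_eq' f' z' (g' z') (hf'g' z') (hCirr' z'),
      Groth.Agent.Lib.H30FibBC.fibreDimAt_eq_of_isPullback f h p f' hsq (g' z'), hpg',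
      ← dim_connectedComponentIn_eq' f (h z') (g (h z')) (hfg _) (hCirr z')]
  -- apply the comparison of section components
  have hmemη : g' η ∈ connectedComponentIn (f' ⁻¹' {η}) (g' η) :=
    mem_connectedComponentIn (hf'g' η)
  obtain ⟨-, hii⟩ := Groth.Agent.S4952.result f' g' hg' s η hη
    ⟨connectedComponentIn (f' ⁻¹' {η}) (g' η), connectedComponentIn_subset _ _, hCirr' η,
      fun Z' hZ' hZ'F hsub => Set.Subset.antisymm
        (hZ'.isConnected.isPreconnected.subset_connectedComponentIn (hsub hmemη) hZ'F) hsub,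
      hmemη, rfl⟩
  have hsub := hii (hCirr' s) (by rw [hdim' s, hdim' η, hdim])
  have hx'mem : x' ∈ connectedComponentIn (f' ⁻¹' {s}) (g' s) := by
    rw [hCeq s]
    exact ⟨hx'C, hx's⟩
  have hx'cl : x' ∈ closure (connectedComponentIn (f' ⁻¹' {η}) (g' η)) := hsub hx'mem
  obtain ⟨ζ, hζ⟩ := QuasiSober.sober (hCirr' η).closure isClosed_closure
  have hζcl : closure {ζ} = closure (connectedComponentIn (f' ⁻¹' {η}) (g' η)) := hζ.def
  refine ⟨ζ, ?_, ?_⟩
  · rw [specializes_iff_mem_closure, hζcl]
    exact hx'cl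
  · apply hηgen
    have h1 : ζ ⤳ g' η := by
      rw [specializes_iff_mem_closure, hζcl]
      exact subset_closure hmemη
    have h2 := h1.map f'.continuous
    rwa [hf'g' η] at h2

end Groth.Agent.Lib.H80SecCompBC
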