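import Groth.Agent.Lib.H80SecCompBC
import Groth.Agent.Lib.H80DvrOpenFlat
import Groth.Agent.Lib.H56UnivOpenDim
import Groth.Agent.Lib.H80DvrGeom
import Groth.Agent.Lib.H71GeomRedOpen

/-!
# Local constancy of the dimension of section components (helper80, EGA IV 15.6.x)

* `connectedComponentIn_eq_of_specializes`: two points of `F` one of which specializes to the other
  lie in the same connected component of `F`.
* `exists_generic_connectedComponentIn`: an irreducible connected component of a fibre has a generic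
  point lying in it.
* `isReduced_fibre_stalk_of_isGeomReducedAt`: geometric reducedness at a point of a fibre passes to
  the fibres of a base change.
* `specializes_of_isReduced_fibre_dvr`: over a DVR, reduced closed fibre stalk at `x` with a unique
  maximal fibre generization `ξ₀`, and `ζ ⤳ ξ₀` outside the closed fibre: `𝒪_{X,x}` is a domain
  with generic point `ζ`.
-/

set_option autoImplicit false
universe u
open CategoryTheory CategoryTheory.Limits AlgebraicGeometry TopologicalSpace Topology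

namespace Groth.Agent.Lib.H80SecDimConst

section Top

variable {α : Type*} [TopologicalSpace α]

/-- Two points of `F` related by specialization are in the same connected component of `F`. -/
theorem connectedComponentIn_eq_of_specializes (F : Set α) (u v : α) (hu : u ∈ F) (hv : v ∈ F)
    (h : u ⤳ v) : connectedComponentIn F u = connectedComponentIn F v := by
  have hpre : _root_.IsPreconnected (closure {u} ∩ F) := by
    have h1 : _root_.IsPreconnected ({u} : Set α) := isPreconnected_singleton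
    refine h1.subset_closure ?_ Set.inter_subset_left
    rintro _ rfl
    exact ⟨subset_closure rfl, hu⟩
  have hvmem : v ∈ closure {u} ∩ F := ⟨specializes_iff_mem_closure.mp h, hv⟩
  have humem : u ∈ closure {u} ∩ F := ⟨subset_closure rfl, hu⟩
  have := hpre.subset_connectedComponentIn (x := v) hvmem Set.inter_subset_right
  exact (connectedComponentIn_eq (this humem)).symm

theorem mem_connectedComponentIn_of_specializes (F : Set α) (x₀ u v : α)
    (hu : u ∈ F) (hv : v ∈ F) (h : u ⤳ v) (hv' : v ∈ connectedComponentIn F x₀) :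
    u ∈ connectedComponentIn F x₀ := by
  rw [connectedComponentIn_eq hv', ← connectedComponentIn_eq_of_specializes F u v hu hv h]
  exact mem_connectedComponentIn hu

theorem mem_connectedComponentIn_of_specializes' (F : Set α) (x₀ u v : α)
    (hu : u ∈ F) (hv : v ∈ F) (h : u ⤳ v) (hu' : u ∈ connectedComponentIn F x₀) :
    v ∈ connectedComponentIn F x₀ := by
  rw [connectedComponentIn_eq hu', connectedComponentIn_eq_of_specializes F u v hu hv h]
  exact mem_connectedComponentIn hv

end Top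

/-- An irreducible connected component of a fibre has a generic point (lying in it). -/
theorem exists_generic_connectedComponentIn {X Y : Scheme.{u}} (f : X ⟶ Y) (y : Y) (x₀ : X)
    (hx₀ : f x₀ = y) (hC : IsIrreducible (connectedComponentIn (f ⁻¹' {y}) x₀)) :
    ∃ ξ ∈ connectedComponentIn (f ⁻¹' {y}) x₀,
      connectedComponentIn (f ⁻¹' {y}) x₀ ⊆ closure {ξ} := by
  obtain ⟨F, hF⟩ : ∃ F : Set X, F = f ⁻¹' {y} := ⟨_, rfl⟩
  rw [← hF] at hC ⊢
  obtain ⟨C, hCdef⟩ : ∃ C : Set X, C = connectedComponentIn F x₀ := ⟨_, rfl⟩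
  rw [← hCdef] at hC ⊢
  have hx₀F : x₀ ∈ F := by rw [hF]; exact hx₀
  have hx₀C : x₀ ∈ C := by rw [hCdef]; exact mem_connectedComponentIn hx₀F
  have hCF : C ⊆ F := by rw [hCdef]; exact connectedComponentIn_subset F x₀
  obtain ⟨ξ, hξ⟩ := QuasiSober.sober hC.closure isClosed_closure
  have hξcl : closure {ξ} = closure C := hξ.def
  have hfξ : f ξ = y := by
    have h1 : ξ ⤳ x₀ := by
      rw [specializes_iff_mem_closure, hξcl]; exact subset_closure hx₀C
    have h2 : f ξ ⤳ y := hx₀ ▸ h1.map f.continuous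
    have h3 : y ⤳ f ξ := by
      rw [specializes_iff_mem_closure]
      have h4 : ξ ∈ closure C := by rw [← hξcl]; exact subset_closure rfl
      have h5 : f '' closure C ⊆ closure (f '' C) :=
        image_closure_subset_closure_image f.continuous
      have h6 : f '' C ⊆ {y} := by
        rintro _ ⟨c, hc, rfl⟩
        have := hCF hc
        rw [hF] at this
        exact this
      exact closure_mono h6 (h5 ⟨ξ, h4, rfl⟩)
    exact (h2.antisymm h3).eq
  have hξF : ξ ∈ F := by rw [hF]; exact hfξ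
  refine ⟨ξ, ?_, ?_⟩
  · rw [hCdef]
    refine mem_connectedComponentIn_of_specializes F x₀ ξ x₀ hξF hx₀F ?_
      (mem_connectedComponentIn hx₀F)
    rw [specializes_iff_mem_closure, hξcl]; exact subset_closure hx₀C
  · rw [hξcl]; exact subset_closure

/-- Auxiliary form of `isReduced_fibre_stalk_of_isGeomReducedAt` with free base points. -/
theorem isReduced_fibre_stalk_aux {X Y X' Y' : Scheme.{u}} (f : X ⟶ Y) (h : Y' ⟶ Y)
    (p : X' ⟶ X) (f' : X' ⟶ Y') (hsq : IsPullback p f' f h) (y : Y) (z : ↥(f.fiber y))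
    (hred : FBase.IsGeomReducedAt (f.fiberToSpecResidueField y) z)
    (y' : Y') (hy : h y' = y) (z' : ↥(f'.fiber y'))
    (hz : p (f'.fiberι y' z') = f.fiberι y z) :
    _root_.IsReduced ((f'.fiber y').presheaf.stalk z') := by
  subst hy
  let K : Type u := Y'.residueField y'
  let _ : Algebra (IsLocalRing.ResidueField (Y.presheaf.stalk (h y'))) K :=
    (h.residueFieldMap y').hom.toAlgebra
  have hP := isPullback_fiberToSpecResidueField_of_isPullback hsq y'
  let θ : f'.fiber y' ≅ FBase.bc (f.fiberToSpecResidueField (h y')) K := hP.isoPullback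
  have hθ : θ.hom ≫ FBase.bcπ (f.fiberToSpecResidueField (h y')) K =
      pullback.map _ _ _ _ p (Spec.map (h.residueFieldMap y')) h hsq.w.symm (by simp) :=
    hP.isoPullback_hom_fst
  have hcomp : θ.hom ≫ FBase.bcπ (f.fiberToSpecResidueField (h y')) K ≫ f.fiberι (h y') =
      f'.fiberι y' ≫ p := by
    rw [← Category.assoc, hθ]
    exact pullback.lift_fst _ _ _
  have hpt : (FBase.bcπ (f.fiberToSpecResidueField (h y')) K) (θ.hom z') = z := by
    apply (f.fiberι (h y')).isEmbedding.injective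
    have := congrArg (fun φ : f'.fiber y' ⟶ X => φ.base z') hcomp
    simp only [Scheme.Hom.comp_base, TopCat.coe_comp, Function.comp_apply] at this
    rw [← hz]
    exact this
  have hr := hred K (θ.hom z') hpt
  have hbij : Function.Bijective (inv (θ.hom.stalkMap z')).hom :=
    ConcreteCategory.bijective_of_isIso (inv (θ.hom.stalkMap z'))
  exact isReduced_of_injective (inv (θ.hom.stalkMap z')).hom hbij.1

/-- **Geometric reducedness passes to fibres of a base change.** In a cartesian square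
`X' = X ×_Y Y'`, if the fibre of `f` through `p x'` is geometrically reduced at `p x'`, then the
fibre of `f'` through `x'` is reduced at `x'`. -/
theorem isReduced_fibre_stalk_of_isGeomReducedAt {X Y X' Y' : Scheme.{u}} (f : X ⟶ Y) (h : Y' ⟶ Y)
    (p : X' ⟶ X) (f' : X' ⟶ Y') (hsq : IsPullback p f' f h) (x' : X')
    (hred : FBase.IsGeomReducedAt (f.fiberToSpecResidueField (f (p x'))) (f.asFiber (p x'))) :
    _root_.IsReduced ((f'.fiber (f' x')).presheaf.stalk (f'.asFiber x')) := by
  have hfp : f (p x') = h (f' x') := by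
    have := congrArg (fun φ : X' ⟶ Y => φ.base x') hsq.w
    simpa using this
  refine isReduced_fibre_stalk_aux f h p f' hsq (f (p x')) (f.asFiber (p x')) hred (f' x')
    hfp.symm (f'.asFiber x') ?_
  rw [Scheme.Hom.fiberι_asFiber, Scheme.Hom.fiberι_asFiber]

open Groth.Agent.Lib.FibreStalk33 Groth.Agent.Lib.H47DvrFibre Groth.Agent.Lib.H80DvrOpenFlat
  IsLocalRing in
/-- Over a discrete valuation ring: if the closed fibre is reduced at `x`, has a unique maximal
generization `ξ₀` of `x`, and `ζ ⤳ ξ₀` lies outside the closed fibre, then `𝒪_{X,x}` is a domain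
whose generic point is `ζ`: every generization of `x` is a specialization of `ζ`. -/
theorem specializes_of_isReduced_fibre_dvr {A : Type u} [CommRing A] [IsDomain A]
    [IsDiscreteValuationRing A] {X : Scheme.{u}} (f : X ⟶ Spec (CommRingCat.of A))
    [LocallyOfFiniteType f] (x : X) (hx : f.base x = IsLocalRing.closedPoint A)
    (hred : _root_.IsReduced ((f.fiber (f.base x)).presheaf.stalk (f.asFiber x)))
    (ξ₀ : X) (hξ₀x : ξ₀ ⤳ x)
    (hmin : ∀ x₁ : X, x₁ ⤳ x → f.base x₁ = IsLocalRing.closedPoint A → ξ₀ ⤳ x₁)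
    (ζ : X) (hζ : ζ ⤳ ξ₀) (hfζ : f.base ζ ≠ IsLocalRing.closedPoint A) :
    ∀ t : X, t ⤳ x → ζ ⤳ t := by
  obtain ⟨ϖ, hϖ⟩ := IsDiscreteValuationRing.exists_irreducible A
  have hmax : maximalIdeal A = Ideal.span {ϖ} := hϖ.maximalIdeal_eq
  have hLN : IsLocallyNoetherian X := LocallyOfFiniteType.isLocallyNoetherian f
  have hfx : (f x).asIdeal = maximalIdeal A := by
    rw [show f x = closedPoint A from hx]; rfl
  have hI : Ideal.map (f.stalkMap x).hom
      (maximalIdeal ((Spec (CommRingCat.of A)).presheaf.stalk (f x))) =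
      Ideal.span {toStalkX f x ϖ} := by
    rw [fibreIdeal_eq, hfx, hmax, Ideal.map_span, Set.image_singleton]
  have hRed : IsReduced (X.presheaf.stalk x ⧸ Ideal.span {toStalkX f x ϖ}) := by
    rw [← hI]
    exact isReduced_of_injective (fibreStalkEquiv f x).toRingHom (fibreStalkEquiv f x).injective
  have hrad : (Ideal.span {toStalkX f x ϖ}).IsRadical :=
    (Ideal.isRadical_iff_quotient_reduced _).mpr hRed
  have hπmem : toStalkX f x ϖ ∈ maximalIdeal (X.presheaf.stalk x) := by
    have e := asIdeal_fromSpecStalk f x (closedPoint (X.presheaf.stalk x))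
    rw [Scheme.fromSpecStalk_closedPoint, hfx] at e
    have : ϖ ∈ maximalIdeal A := by rw [hmax]; exact Ideal.mem_span_singleton_self ϖ
    rw [e] at this
    exact this
  -- closedness criterion for points of `Spec 𝒪_{X,x}`
  have hclosed : ∀ q : Spec (X.presheaf.stalk x),
      (f (X.fromSpecStalk x q) = closedPoint A ↔ toStalkX f x ϖ ∈ q.asIdeal) := by
    intro q
    constructor
    · intro hq
      have e := asIdeal_fromSpecStalk f x q
      rw [hq] at e
      have : ϖ ∈ maximalIdeal A := by rw [hmax]; exact Ideal.mem_span_singleton_self ϖ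
      have h2 : ϖ ∈ (closedPoint A).asIdeal := this
      rw [e] at h2
      exact h2
    · intro hq
      apply PrimeSpectrum.ext
      rw [asIdeal_fromSpecStalk]
      change _ = maximalIdeal A
      have : (Ideal.comap (toStalkX f x) q.asIdeal).IsPrime := inferInstance
      apply le_antisymm (IsLocalRing.le_maximalIdeal this.ne_top)
      rw [hmax, Ideal.span_singleton_le_iff_mem]
      exact hq
  have hrange : ∀ t : X, t ⤳ x → ∃ q : Spec (X.presheaf.stalk x), X.fromSpecStalk x q = t := by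
    intro t ht
    have : t ∈ Set.range (X.fromSpecStalk x) := by rw [Scheme.range_fromSpecStalk]; exact ht
    exact this
  have hle : ∀ q q' : Spec (X.presheaf.stalk x),
      (X.fromSpecStalk x q ⤳ X.fromSpecStalk x q' ↔ q.asIdeal ≤ q'.asIdeal) := by
    intro q q'
    rw [(X.fromSpecStalk x).isEmbedding.isInducing.specializes_iff]
    exact (PrimeSpectrum.le_iff_specializes (q : PrimeSpectrum (X.presheaf.stalk x)) q').symm
  obtain ⟨P₀, hP₀⟩ := hrange ξ₀ hξ₀x
  obtain ⟨Q, hQ⟩ := hrange ζ (hζ.trans hξ₀x)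
  -- `𝔭 = (π)`
  have hP₀le : P₀.asIdeal ≤ Ideal.span {toStalkX f x ϖ} := by
    rw [← hrad.radical, Ideal.radical_eq_sInf]
    refine le_sInf ?_
    rintro J ⟨hIJ, hJ⟩
    let q : Spec (X.presheaf.stalk x) := ⟨J, hJ⟩
    have hπq : toStalkX f x ϖ ∈ q.asIdeal := hIJ (Ideal.mem_span_singleton_self _)
    have hfq := (hclosed q).mpr hπq
    have hqx : X.fromSpecStalk x q ⤳ x := by
      have : X.fromSpecStalk x q ∈ Set.range (X.fromSpecStalk x) := ⟨q, rfl⟩
      rwa [Scheme.range_fromSpecStalk] at this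
    have h1 := hmin _ hqx hfq
    rw [← hP₀, hle] at h1
    exact h1
  have hQP₀ : Q.asIdeal ≤ P₀.asIdeal := by
    rw [← hle, hP₀, hQ]; exact hζ
  have hπQ : toStalkX f x ϖ ∉ Q.asIdeal := by
    intro hmem
    apply hfζ
    rw [← hQ]
    exact (hclosed Q).mpr hmem
  have hsub : Q.asIdeal ≤ Ideal.span {toStalkX f x ϖ} • Q.asIdeal := by
    intro a ha
    have hmem : a ∈ Ideal.span {toStalkX f x ϖ} := hP₀le (hQP₀ ha)
    obtain ⟨a', rfl⟩ := Ideal.mem_span_singleton'.mp hmem
    have ha' : a' ∈ Q.asIdeal := (Q.isPrime.mem_or_mem ha).resolve_right hπQ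
    rw [mul_comm]
    exact Submodule.smul_mem_smul (Ideal.mem_span_singleton_self _) ha'
  have hjac : Ideal.span {toStalkX f x ϖ} ≤ Ideal.jacobson (⊥ : Ideal (X.presheaf.stalk x)) := by
    rw [IsLocalRing.jacobson_eq_maximalIdeal ⊥ bot_ne_top, Ideal.span_singleton_le_iff_mem]
    exact hπmem
  have hQbot : Q.asIdeal = ⊥ :=
    Submodule.eq_bot_of_le_smul_of_le_jacobson_bot (Ideal.span {toStalkX f x ϖ}) Q.asIdeal
      (IsNoetherian.noetherian Q.asIdeal) hsub hjac
  intro t ht
  obtain ⟨T, hT⟩ := hrange t ht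
  rw [← hQ, ← hT, hle, hQbot]
  exact bot_le

open Groth.Agent.Lib.H56OpenDim Groth.Agent.Lib.H56ValTrdeg Groth.Agent.Lib.H80SecCompBC in
/-- **Case (α) over a discrete valuation ring.** `f : X ⟶ Spec A` locally of finite type with a
section `g`, irreducible section components over the closed point `s` and over `η ≠ s`, `f` open at
the generic point of the closed section component, and the closed fibre reduced at `g s`. Then
`dim X_s^0 ≤ dim X_η^0`. -/
theorem dim_sectionComponent_le_dvr {A : Type u} [CommRing A] [IsDomain A]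
    [IsDiscreteValuationRing A] {X : Scheme.{u}} (f : X ⟶ Spec (CommRingCat.of A))
    [LocallyOfFiniteType f] (g : Spec (CommRingCat.of A) ⟶ X) (hg : g ≫ f = 𝟙 _)
    (s η : ↥(Spec (CommRingCat.of A))) (hs : s = IsLocalRing.closedPoint A) (hη : η ≠ s)
    (hCs : IsIrreducible (connectedComponentIn (f ⁻¹' {s}) (g s)))
    (hCη : IsIrreducible (connectedComponentIn (f ⁻¹' {η}) (g η)))
    (ξ₀ : X) (hξ₀ : ξ₀ ∈ connectedComponentIn (f ⁻¹' {s}) (g s))
    (hgen : connectedComponentIn (f ⁻¹' {s}) (g s) ⊆ closure {ξ₀})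
    (hopen : EGA43.IsOpenAt f.base ξ₀)
    (hred : _root_.IsReduced ((f.fiber (f.base (g.base s))).presheaf.stalk (f.asFiber (g.base s)))) :
    topologicalKrullDim ↥(connectedComponentIn (f ⁻¹' {s}) (g s)) ≤
      topologicalKrullDim ↥(connectedComponentIn (f ⁻¹' {η}) (g η)) := by
  have hfg : ∀ z, f (g z) = z := fun z => by
    have := congrArg (fun φ : Spec (CommRingCat.of A) ⟶ Spec (CommRingCat.of A) => φ.base z) hg
    simpa using this
  have hfξ₀ : f ξ₀ = s := (connectedComponentIn_subset _ _ hξ₀ : ξ₀ ∈ f ⁻¹' {s})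
  have hηs : η ⤳ s := by rw [hs]; exact IsLocalRing.specializes_closedPoint η
  obtain ⟨ζ, hζξ₀, hfζ⟩ := Groth.Agent.Lib.OpenAt45.exists_generization_of_isOpenAt f ξ₀ hopen η
    (by rw [hfξ₀]; exact hηs)
  have hxC : g s ∈ connectedComponentIn (f ⁻¹' {s}) (g s) := mem_connectedComponentIn (hfg s)
  have hξ₀x : ξ₀ ⤳ g s := specializes_iff_mem_closure.mpr (hgen hxC)
  have hmin : ∀ x₁ : X, x₁ ⤳ g s → f.base x₁ = IsLocalRing.closedPoint A → ξ₀ ⤳ x₁ := by
    intro x₁ hx₁ hfx₁
    have hx₁F : x₁ ∈ f ⁻¹' {s} := by rw [hs]; exact hfx₁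
    have := mem_connectedComponentIn_of_specializes (f ⁻¹' {s}) (g s) x₁ (g s) hx₁F (hfg s) hx₁ hxC
    exact specializes_iff_mem_closure.mpr (hgen this)
  have hdom := specializes_of_isReduced_fibre_dvr f (g s) (by rw [hfg, hs]) hred ξ₀ hξ₀x hmin ζ hζξ₀
    (by rw [hfζ, ← hs]; exact hη)
  have hζgη : ζ ⤳ g η := hdom (g η) (hηs.map g.continuous)
  have hζC : ζ ∈ connectedComponentIn (f ⁻¹' {η}) (g η) :=
    mem_connectedComponentIn_of_specializes (f ⁻¹' {η}) (g η) ζ (g η) hfζ (hfg η) hζgη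
      (mem_connectedComponentIn (hfg η))
  -- dimensions
  have h1 : topologicalKrullDim ↥(connectedComponentIn (f ⁻¹' {s}) (g s)) =
      FlatMor.fibreDimAt f ξ₀ := by
    rw [connectedComponentIn_eq hξ₀]
    exact dim_connectedComponentIn_eq' f s ξ₀ hfξ₀ (by rw [← connectedComponentIn_eq hξ₀]; exact hCs)
  have h2 : topologicalKrullDim ↥(connectedComponentIn (f ⁻¹' {η}) (g η)) =
      FlatMor.fibreDimAt f ζ := by
    rw [connectedComponentIn_eq hζC]
    exact dim_connectedComponentIn_eq' f η ζ hfζ (by rw [← connectedComponentIn_eq hζC]; exact hCη)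
  obtain ⟨w, hwξ₀, hfw, -, hw⟩ := exists_maxInFibre_fibreDimAt_eq f ξ₀
  have hwξ : w = ξ₀ := by
    have hwF : w ∈ f ⁻¹' {s} := hfw.trans hfξ₀
    have := mem_connectedComponentIn_of_specializes (f ⁻¹' {s}) (g s) w ξ₀ hwF hfξ₀ hwξ₀ hξ₀
    exact (hwξ₀.antisymm (specializes_iff_mem_closure.mpr (hgen this))).eq
  rw [hwξ] at hw
  have h3 : tdeg f ξ₀ ≤ tdeg f ζ := tdeg_le_of_specializes_Spec A f ξ₀ ζ hζξ₀
  have h4 := tdeg_le_fibreDimAt f ζ
  rw [h1, h2, hw]
  calc (tdeg f ξ₀ : WithBot ℕ∞) ≤ (tdeg f ζ : WithBot ℕ∞) := by exact_mod_cast h3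
    _ ≤ _ := h4

open Groth.Agent.Lib.H80SecCompBC in
/-- Section components and base change: description, irreducibility and dimension. -/
theorem sectionComponent_baseChange {X Y X' Y' : Scheme.{u}} (f : X ⟶ Y)
    [LocallyOfFiniteType f] (h : Y' ⟶ Y) (p : X' ⟶ X) (f' : X' ⟶ Y') (hsq : IsPullback p f' f h)
    (g : Y ⟶ X) (hg : g ≫ f = 𝟙 Y) (g' : Y' ⟶ X') (hg' : g' ≫ f' = 𝟙 Y') (hgp : g' ≫ p = h ≫ g)
    (z' : Y')
    (hgi : ∀ (K : Type u) [Field K]
      [Algebra (IsLocalRing.ResidueField (Y.presheaf.stalk (h.base z'))) K],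
      IsIrreducible ((FBase.bcπ (f.fiberToSpecResidueField (h.base z')) K ≫
        f.fiberι (h.base z')).base ⁻¹'
        (connectedComponentIn (f.base ⁻¹' {h.base z'}) (g.base (h.base z'))))) :
    connectedComponentIn (f' ⁻¹' {z'}) (g' z') =
        p ⁻¹' (connectedComponentIn (f ⁻¹' {h z'}) (g (h z'))) ∩ f' ⁻¹' {z'} ∧
      IsIrreducible (connectedComponentIn (f' ⁻¹' {z'}) (g' z')) ∧
      IsIrreducible (connectedComponentIn (f ⁻¹' {h z'}) (g (h z'))) ∧
      topologicalKrullDim ↥(connectedComponentIn (f' ⁻¹' {z'}) (g' z')) =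
        topologicalKrullDim ↥(connectedComponentIn (f ⁻¹' {h z'}) (g (h z'))) := by
  have : LocallyOfFiniteType f' := MorphismProperty.of_isPullback hsq inferInstance
  have hf'g' : f' (g' z') = z' := by
    have := congrArg (fun φ : Y' ⟶ Y' => φ.base z') hg'
    simpa using this
  have hpg' : p (g' z') = g (h z') := by
    have := congrArg (fun φ : Y' ⟶ X => φ.base z') hgp
    simpa using this
  have hfg : ∀ z : Y, f (g z) = z := fun z => by
    have := congrArg (fun φ : Y ⟶ Y => φ.base z) hg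
    simpa using this
  have hC : IsIrreducible
      (p ⁻¹' (connectedComponentIn (f ⁻¹' {h z'}) (g (h z'))) ∩ f' ⁻¹' {z'}) :=
    isIrreducible_preimage_inter_fibre f h p f' hsq z' _ (fun K _ _ => hgi K)
  have hCeq : connectedComponentIn (f' ⁻¹' {z'}) (g' z') =
      p ⁻¹' (connectedComponentIn (f ⁻¹' {h z'}) (g (h z'))) ∩ f' ⁻¹' {z'} :=
    connectedComponentIn_baseChange f h p f' hsq g g' hg' hgp z' hC
  have hCirr' : IsIrreducible (connectedComponentIn (f' ⁻¹' {z'}) (g' z')) := by
    rw [hCeq]; exact hC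
  have hCirr : IsIrreducible (connectedComponentIn (f ⁻¹' {h z'}) (g (h z'))) := by
    have himg := hC.image p p.continuous.continuousOn
    have : p '' (p ⁻¹' (connectedComponentIn (f ⁻¹' {h z'}) (g (h z'))) ∩ f' ⁻¹' {z'}) =
        connectedComponentIn (f ⁻¹' {h z'}) (g (h z')) := by
      apply Set.Subset.antisymm
      · rintro _ ⟨u, ⟨hu, -⟩, rfl⟩
        exact hu
      · intro c hc
        have hfc : f c = h z' := (connectedComponentIn_subset _ _ hc : c ∈ f ⁻¹' {h z'})
        obtain ⟨u, hu1, hu2⟩ := Scheme.exists_preimage_of_isPullback hsq c z' hfc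
        exact ⟨u, ⟨by rw [Set.mem_preimage, hu1]; exact hc, hu2⟩, hu1⟩
    rwa [this] at himg
  refine ⟨hCeq, hCirr', hCirr, ?_⟩
  rw [dim_connectedComponentIn_eq' f' z' (g' z') hf'g' hCirr',
    Groth.Agent.Lib.H30FibBC.fibreDimAt_eq_of_isPullback f h p f' hsq (g' z'), hpg',
    ← dim_connectedComponentIn_eq' f (h z') (g (h z')) (hfg _) hCirr]

/-- **Case (α)**: if the fibre through `g y₀` is geometrically reduced at `g y₀` and `f` is
universally open at the generic point of `X_{y₀}^0`, then `dim X_{y₀}^0 ≤ dim X_{y'}^0` for every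
generization `y'` of `y₀`. -/
theorem dim_sectionComponent_le_of_isGeomReducedAt {X Y : Scheme.{u}} [IsLocallyNoetherian Y]
    (f : X ⟶ Y) [LocallyOfFiniteType f] (g : Y ⟶ X) (hg : g ≫ f = 𝟙 Y)
    (hirr : ∀ y : Y, (∀ (K : Type u) [Field K]
      [Algebra (IsLocalRing.ResidueField (Y.presheaf.stalk y)) K],
        IsIrreducible ((FBase.bcπ (f.fiberToSpecResidueField y) K ≫ f.fiberι y).base ⁻¹'
          connectedComponentIn (f.base ⁻¹' {y}) (g.base y))))
    (y₀ y' : Y) (hsp : y' ⤳ y₀)
    (hopen : ∀ ξ ∈ connectedComponentIn (f.base ⁻¹' {y₀}) (g.base y₀),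
      connectedComponentIn (f.base ⁻¹' {y₀}) (g.base y₀) ⊆ closure {ξ} → EGA43.IsUnivOpenAt f ξ)
    (hα : FBase.IsGeomReducedAt (f.fiberToSpecResidueField (f.base (g.base y₀)))
      (f.asFiber (g.base y₀))) :
    topologicalKrullDim ↥(connectedComponentIn (f.base ⁻¹' {y₀}) (g.base y₀)) ≤
      topologicalKrullDim ↥(connectedComponentIn (f.base ⁻¹' {y'}) (g.base y')) := by
  by_cases hne : y' = y₀
  · subst hne; exact le_rfl
  obtain ⟨A, hAring, hAdom, hAdvr, h, hcl, -, τ, hτ⟩ :=
    Groth.Agent.Lib.H80DvrGeom.exists_dvr_map y₀ y' hne hsp (Y.residueField y')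
  have hgenpt : h (genericPoint (Spec (CommRingCat.of A))) = y' := by
    obtain ⟨q⟩ : Nonempty (Spec ((Spec (CommRingCat.of A)).residueField
      (genericPoint (Spec (CommRingCat.of A))))) := inferInstance
    have h1 := congrArg (fun k => k.base q) hτ
    simp only [Scheme.Hom.comp_base, TopCat.coe_comp, Function.comp_apply] at h1
    rw [Scheme.fromSpecResidueField_apply, Scheme.fromSpecResidueField_apply] at h1
    exact h1
  subst hcl
  obtain ⟨s, hs⟩ : ∃ s : ↥(Spec (CommRingCat.of A)), s = IsLocalRing.closedPoint A := ⟨_, rfl⟩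
  rw [← hs] at hopen hα hsp hne ⊢
  obtain ⟨η, hηdef⟩ : ∃ η : ↥(Spec (CommRingCat.of A)),
    η = genericPoint (Spec (CommRingCat.of A)) := ⟨_, rfl⟩
  rw [← hηdef] at hgenpt
  have hη : η ≠ s := by
    intro e
    apply hne
    rw [← hgenpt, e]
  -- the base change
  have hsq : IsPullback (pullback.fst f h) (pullback.snd f h) f h := IsPullback.of_hasPullback f h
  obtain ⟨p, hp⟩ : ∃ p : pullback f h ⟶ X, p = pullback.fst f h := ⟨_, rfl⟩
  obtain ⟨f', hf'⟩ : ∃ f' : pullback f h ⟶ Spec (CommRingCat.of A), f' = pullback.snd f h :=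
    ⟨_, rfl⟩
  rw [← hp, ← hf'] at hsq
  have hlft : LocallyOfFiniteType f' := MorphismProperty.of_isPullback hsq inferInstance
  let g' : Spec (CommRingCat.of A) ⟶ pullback f h := hsq.lift (h ≫ g) (𝟙 _) (by
    rw [Category.assoc, hg, Category.comp_id, Category.id_comp])
  have hg' : g' ≫ f' = 𝟙 _ := hsq.lift_snd _ _ _
  have hgp : g' ≫ p = h ≫ g := hsq.lift_fst _ _ _
  have hf'g' : ∀ z', f' (g' z') = z' := fun z' => by
    have := congrArg (fun φ : Spec (CommRingCat.of A) ⟶ Spec (CommRingCat.of A) => φ.base z') hg'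
    simpa using this
  have hpg' : ∀ z', p (g' z') = g (h z') := fun z' => by
    have := congrArg (fun φ : Spec (CommRingCat.of A) ⟶ X => φ.base z') hgp
    simpa using this
  obtain ⟨hCeq_s, hCs', hCs, hdim_s⟩ := sectionComponent_baseChange f h p f' hsq g hg g' hg' hgp s
    (fun K _ _ => hirr (h s) K)
  obtain ⟨hCeq_η, hCη', hCη, hdim_η⟩ := sectionComponent_baseChange f h p f' hsq g hg g' hg' hgp η
    (fun K _ _ => hirr (h η) K)
  obtain ⟨ξ₀, hξ₀, hgen⟩ := exists_generic_connectedComponentIn f' s (g' s) (hf'g' s) hCs'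
  have hξ₀' : p ξ₀ ∈ connectedComponentIn (f ⁻¹' {h s}) (g (h s)) := by
    have := hξ₀
    rw [hCeq_s] at this
    exact this.1
  have hopen' : EGA43.IsOpenAt f'.base ξ₀ := by
    have hUO := hopen (p ξ₀) hξ₀' (by
      intro c hc
      have hfc : f c = h s := (connectedComponentIn_subset _ _ hc : c ∈ f ⁻¹' {h s})
      obtain ⟨u, hu1, hu2⟩ := Scheme.exists_preimage_of_isPullback hsq c s hfc
      have huC : u ∈ connectedComponentIn (f' ⁻¹' {s}) (g' s) := by
        rw [hCeq_s]
        exact ⟨by rw [Set.mem_preimage, hu1]; exact hc, hu2⟩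
      have h1 : ξ₀ ⤳ u := specializes_iff_mem_closure.mpr (hgen huC)
      have h2 := h1.map p.continuous
      rw [hu1] at h2
      exact specializes_iff_mem_closure.mp h2)
    have := hUO _ h ξ₀ (by rw [← hp])
    rw [hf']
    exact this
  have hred : _root_.IsReduced ((f'.fiber (f'.base (g'.base s))).presheaf.stalk
      (f'.asFiber (g'.base s))) := by
    apply isReduced_fibre_stalk_of_isGeomReducedAt f h p f' hsq (g' s)
    rw [hpg' s]
    exact hα
  have hmain := dim_sectionComponent_le_dvr f' g' hg' s η hs hη hCs' hCη' ξ₀ hξ₀ hgen hopen' hred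
  rw [hdim_s, hdim_η, hgenpt] at hmain
  exact hmain

open Groth.Agent.Lib.H80SecCompBC in
/-- **Case (β)**: if `f` is universally open at the generic point of the irreducible section
component `X_{y₀}^0` and `dim f⁻¹(y') = dim X_{y'}^0` for a generization `y'` of `y₀`, then
`dim X_{y₀}^0 ≤ dim X_{y'}^0`. -/
theorem dim_sectionComponent_le_of_dim_fiber_eq {X Y : Scheme.{u}}
    (f : X ⟶ Y) [LocallyOfFiniteType f] (g : Y ⟶ X) (hg : g ≫ f = 𝟙 Y)
    (y₀ y' : Y) (hsp : y' ⤳ y₀)
    (hC₀ : IsIrreducible (connectedComponentIn (f.base ⁻¹' {y₀}) (g.base y₀)))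
    (hopen : ∀ ξ ∈ connectedComponentIn (f.base ⁻¹' {y₀}) (g.base y₀),
      connectedComponentIn (f.base ⁻¹' {y₀}) (g.base y₀) ⊆ closure {ξ} → EGA43.IsUnivOpenAt f ξ)
    (hβ : topologicalKrullDim ↥(f.fiber y') =
      topologicalKrullDim ↥(connectedComponentIn (f.base ⁻¹' {y'}) (g.base y'))) :
    topologicalKrullDim ↥(connectedComponentIn (f.base ⁻¹' {y₀}) (g.base y₀)) ≤
      topologicalKrullDim ↥(connectedComponentIn (f.base ⁻¹' {y'}) (g.base y')) := by
  have hfg : ∀ z : Y, f (g z) = z := fun z => by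
    have := congrArg (fun φ : Y ⟶ Y => φ.base z) hg
    simpa using this
  obtain ⟨ξ₀, hξ₀, hgen⟩ := exists_generic_connectedComponentIn f y₀ (g y₀) (hfg y₀) hC₀
  have hfξ₀ : f ξ₀ = y₀ := (connectedComponentIn_subset _ _ hξ₀ : ξ₀ ∈ f ⁻¹' {y₀})
  have h1 : topologicalKrullDim ↥(connectedComponentIn (f ⁻¹' {y₀}) (g y₀)) =
      FlatMor.fibreDimAt f ξ₀ := by
    rw [connectedComponentIn_eq hξ₀]
    exact dim_connectedComponentIn_eq' f y₀ ξ₀ hfξ₀ (by rw [← connectedComponentIn_eq hξ₀]; exact hC₀)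
  have hmax : ∀ x' : X, f.base x' = f.base ξ₀ → ξ₀ ∈ closure {x'} → x' = ξ₀ := by
    intro x' hfx' hcl
    have hx'F : x' ∈ f ⁻¹' {y₀} := hfx'.trans hfξ₀
    have hsp' : x' ⤳ ξ₀ := specializes_iff_mem_closure.mpr hcl
    have := mem_connectedComponentIn_of_specializes (f ⁻¹' {y₀}) (g y₀) x' ξ₀ hx'F hfξ₀ hsp' hξ₀
    exact (hsp'.antisymm (specializes_iff_mem_closure.mpr (hgen this))).eq
  have h2 := Groth.Agent.Lib.H56UnivOpenDim.fibreDimAt_le_dim_inter_of_isUnivOpenAt f ξ₀ hmax
    (hopen ξ₀ hξ₀ hgen) ⊤ trivial y' (by rw [hfξ₀]; exact hsp)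
  have h3 : (((⊤ : X.Opens) : Set X) ∩ f.base ⁻¹' {y'}) = f ⁻¹' {y'} := by
    simp
  rw [h3] at h2
  have h4 : topologicalKrullDim ↥(f.fiber y') = topologicalKrullDim ↥(f ⁻¹' {y'}) :=
    IsHomeomorph.topologicalKrullDim_eq _ (f.fiberHomeo y').isHomeomorph
  rw [h1, ← hβ, h4]
  exact h2

/-- In a locally Noetherian scheme, every point `y₀` has a neighbourhood all of whose points are
specializations of maximal points specializing to `y₀`. -/
theorem exists_nhds_maximal_generizations (Y : Scheme.{u}) [IsLocallyNoetherian Y] (y₀ : Y) :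
    ∃ N ∈ nhds y₀, ∀ z ∈ N, ∃ y' : Y, y' ⤳ z ∧ y₀ ∈ closure {y'} ∧
      closure {y'} ∈ irreducibleComponents (Y : Type u) := by
  have LF := Groth.Agent.Lib.H71GeomRedOpen.locallyFinite_irreducibleComponents Y
  have LF' : LocallyFinite (fun Z : {Z : ↥(irreducibleComponents ↥Y) // y₀ ∉ (Z : Set Y)} =>
      ((Z : ↥(irreducibleComponents ↥Y)) : Set ↥Y)) :=
    LF.comp_injective Subtype.val_injective
  have hcl : IsClosed (⋃ Z : {Z : ↥(irreducibleComponents ↥Y) // y₀ ∉ (Z : Set Y)},
      ((Z : ↥(irreducibleComponents ↥Y)) : Set ↥Y)) :=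
    LF'.isClosed_iUnion (fun Z => isClosed_of_mem_irreducibleComponents _ Z.1.2)
  refine ⟨_, hcl.isOpen_compl.mem_nhds ?_, ?_⟩
  · rw [Set.mem_compl_iff, Set.mem_iUnion]
    rintro ⟨Z, hZ⟩
    exact Z.2 hZ
  · intro z hz
    rw [Set.mem_compl_iff, Set.mem_iUnion] at hz
    obtain ⟨Z, hZ, hzZ⟩ := exists_mem_irreducibleComponents_subset_of_isIrreducible
      ({z} : Set Y) isIrreducible_singleton
    have hy₀Z : y₀ ∈ Z := by
      by_contra hcon
      exact hz ⟨⟨⟨Z, hZ⟩, hcon⟩, hzZ rfl⟩
    obtain ⟨y', hy'⟩ := QuasiSober.sober hZ.1 (isClosed_of_mem_irreducibleComponents _ hZ)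
    have hcl' : closure {y'} = Z := hy'.def
    refine ⟨y', ?_, ?_, ?_⟩
    · rw [specializes_iff_mem_closure, hcl']; exact hzZ rfl
    · rw [hcl']; exact hy₀Z
    · rw [hcl']; exact hZ

end Groth.Agent.Lib.H80SecDimConst
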