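import Groth.Agent.Lib.H80SecDimConst
import Groth.Agent.Lib.H80FibDimCons
import Groth.Agent.Lib.H71GeomRedAt3

/-!
# Local constancy of the dimension of section components, finite presentation case (helper80)

* `dim_sectionComponent_le_of_dvr_map`: case (α) of EGA IV 15.6.x along a given trait `Spec A ⟶ Y`.
* `exists_dvr_map_of_isNoetherianRing_stalk`: a trait through a specialization `y' ⤳ y₀` when the
  local ring at `y₀` is Noetherian.
* `exists_maximal_generization`: every point has a maximal generization whose closure is an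
  irreducible component.
-/

set_option autoImplicit false
universe u
open CategoryTheory CategoryTheory.Limits AlgebraicGeometry TopologicalSpace Topology

namespace Groth.Agent.Lib.H80SecDimConstFP

open Groth.Agent.Lib.H80SecDimConst

/-- **Case (α) along a trait**: no Noetherian hypothesis on `Y`. -/
theorem dim_sectionComponent_le_of_dvr_map {X Y : Scheme.{u}}
    (f : X ⟶ Y) [LocallyOfFiniteType f] (g : Y ⟶ X) (hg : g ≫ f = 𝟙 Y)
    (hirr : ∀ y : Y, (∀ (K : Type u) [Field K]
      [Algebra (IsLocalRing.ResidueField (Y.presheaf.stalk y)) K],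
        IsIrreducible ((FBase.bcπ (f.fiberToSpecResidueField y) K ≫ f.fiberι y).base ⁻¹'
          connectedComponentIn (f.base ⁻¹' {y}) (g.base y))))
    {A : Type u} [CommRing A] [IsDomain A] [IsDiscreteValuationRing A]
    (h : Spec (CommRingCat.of A) ⟶ Y) (s η : ↥(Spec (CommRingCat.of A)))
    (hs : s = IsLocalRing.closedPoint A) (hη : η ≠ s)
    (hopen : ∀ ξ ∈ connectedComponentIn (f.base ⁻¹' {h.base s}) (g.base (h.base s)),
      connectedComponentIn (f.base ⁻¹' {h.base s}) (g.base (h.base s)) ⊆ closure {ξ} →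
        EGA43.IsUnivOpenAt f ξ)
    (hα : FBase.IsGeomReducedAt (f.fiberToSpecResidueField (f.base (g.base (h.base s))))
      (f.asFiber (g.base (h.base s)))) :
    topologicalKrullDim ↥(connectedComponentIn (f.base ⁻¹' {h.base s}) (g.base (h.base s))) ≤
      topologicalKrullDim ↥(connectedComponentIn (f.base ⁻¹' {h.base η}) (g.base (h.base η))) := by
  have hsq : IsPullback (pullback.fst f h) (pullback.snd f h) f h := IsPullback.of_hasPullback f h
  obtain ⟨p, hp⟩ : ∃ p : pullback f h ⟶ X, p = pullback.fst f h := ⟨_, rfl⟩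
  obtain ⟨f', hf'⟩ : ∃ f' : pullback f h ⟶ Spec (CommRingCat.of A), f' = pullback.snd f h :=
    ⟨_, rfl⟩
  rw [← hp, ← hf'] at hsq
  have hlft : LocallyOfFiniteType f' := MorphismProperty.of_isPullback hsq inferInstance
  let g' : Spec (CommRingCat.of A) ⟶ pullback f h := hsq.lift (h ≫ g) (𝟙 _) (by
    rw [Category.assoc, hg, Category.comp_id, Category.id_comp])
  have hg' : g' ≫ f' = 𝟙 _ := hsq.lift_snd _ _ _
  have hgp : g' ≫ p = h ≫ g := hsq.lift_fst _ _ _
  have hf'g' : ∀ z', f' (g' z') = z' := fun z' => by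
    have := congrArg (fun φ : Spec (CommRingCat.of A) ⟶ Spec (CommRingCat.of A) => φ.base z') hg'
    simpa using this
  have hpg' : ∀ z', p (g' z') = g (h z') := fun z' => by
    have := congrArg (fun φ : Spec (CommRingCat.of A) ⟶ X => φ.base z') hgp
    simpa using this
  obtain ⟨hCeq_s, hCs', hCs, hdim_s⟩ := sectionComponent_baseChange f h p f' hsq g hg g' hg' hgp s
    (fun K _ _ => hirr (h s) K)
  obtain ⟨hCeq_η, hCη', hCη, hdim_η⟩ := sectionComponent_baseChange f h p f' hsq g hg g' hg' hgp η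
    (fun K _ _ => hirr (h η) K)
  obtain ⟨ξ₀, hξ₀, hgen⟩ := exists_generic_connectedComponentIn f' s (g' s) (hf'g' s) hCs'
  have hξ₀' : p ξ₀ ∈ connectedComponentIn (f ⁻¹' {h s}) (g (h s)) := by
    have := hξ₀
    rw [hCeq_s] at this
    exact this.1
  have hopen' : EGA43.IsOpenAt f'.base ξ₀ := by
    have hUO := hopen (p ξ₀) hξ₀' (by
      intro c hc
      have hfc : f c = h s := (connectedComponentIn_subset _ _ hc : c ∈ f ⁻¹' {h s})
      obtain ⟨u, hu1, hu2⟩ := Scheme.exists_preimage_of_isPullback hsq c s hfc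
      have huC : u ∈ connectedComponentIn (f' ⁻¹' {s}) (g' s) := by
        rw [hCeq_s]
        exact ⟨by rw [Set.mem_preimage, hu1]; exact hc, hu2⟩
      have h1 : ξ₀ ⤳ u := specializes_iff_mem_closure.mpr (hgen huC)
      have h2 := h1.map p.continuous
      rw [hu1] at h2
      exact specializes_iff_mem_closure.mp h2)
    have := hUO _ h ξ₀ (by rw [← hp])
    rw [hf']
    exact this
  have hred : _root_.IsReduced ((f'.fiber (f'.base (g'.base s))).presheaf.stalk
      (f'.asFiber (g'.base s))) := by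
    apply isReduced_fibre_stalk_of_isGeomReducedAt f h p f' hsq (g' s)
    rw [hpg' s]
    exact hα
  have hmain := dim_sectionComponent_le_dvr f' g' hg' s η hs hη hCs' hCη' ξ₀ hξ₀ hgen hopen' hred
  rw [hdim_s, hdim_η] at hmain
  exact hmain

/-- A trait through a specialization `y' ⤳ y₀`, `y' ≠ y₀`, when `𝒪_{Y,y₀}` is Noetherian. -/
theorem exists_dvr_map_of_isNoetherianRing_stalk {Y : Scheme.{u}} (y₀ y' : Y)
    [IsNoetherianRing (Y.presheaf.stalk y₀)] (hne : y' ≠ y₀) (hgen : y' ⤳ y₀) :
    ∃ (A : Type u) (_ : CommRing A) (_ : IsDomain A) (_ : IsDiscreteValuationRing A)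
      (h : Spec (CommRingCat.of A) ⟶ Y) (η : ↥(Spec (CommRingCat.of A))),
      h (IsLocalRing.closedPoint A) = y₀ ∧ h η = y' := by
  obtain ⟨q', hq'⟩ : y' ∈ Set.range (Y.fromSpecStalk y₀) := by
    rw [Scheme.range_fromSpecStalk]; exact hgen
  have hc : Y.fromSpecStalk y₀ (IsLocalRing.closedPoint (Y.presheaf.stalk y₀)) = y₀ :=
    Y.fromSpecStalk_closedPoint
  have hne' : q' ≠ IsLocalRing.closedPoint (Y.presheaf.stalk y₀) := by
    intro e
    apply hne
    rw [← hq', e, hc]
  have hsp : q' ⤳ (IsLocalRing.closedPoint (Y.presheaf.stalk y₀) :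
      ↥(Spec (Y.presheaf.stalk y₀))) := IsLocalRing.specializes_closedPoint q'
  obtain ⟨A, hAring, hAdom, hAdvr, k, hcl, -, τ, hτ⟩ :=
    Groth.Agent.Lib.H80DvrGeom.exists_dvr_map (Y := Spec (Y.presheaf.stalk y₀))
      (IsLocalRing.closedPoint (Y.presheaf.stalk y₀)) q' hne' hsp
      ((Spec (Y.presheaf.stalk y₀)).residueField q')
  have hgenpt : k (genericPoint (Spec (CommRingCat.of A))) = q' := by
    obtain ⟨q⟩ : Nonempty (Spec ((Spec (CommRingCat.of A)).residueField
      (genericPoint (Spec (CommRingCat.of A))))) := inferInstance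
    have h1 := congrArg (fun k => k.base q) hτ
    simp only [Scheme.Hom.comp_base, TopCat.coe_comp, Function.comp_apply] at h1
    rw [Scheme.fromSpecResidueField_apply, Scheme.fromSpecResidueField_apply] at h1
    exact h1
  refine ⟨A, hAring, hAdom, hAdvr, k ≫ Y.fromSpecStalk y₀, genericPoint _, ?_, ?_⟩
  · rw [Scheme.Hom.comp_apply, hcl, hc]
  · rw [Scheme.Hom.comp_apply, hgenpt, hq']

/-- Every point of a scheme has a generization whose closure is an irreducible component. -/
theorem exists_maximal_generization {Y : Scheme.{u}} (ξ : Y) :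
    ∃ q : Y, q ⤳ ξ ∧ closure {q} ∈ irreducibleComponents (Y : Type u) := by
  obtain ⟨p, hp, -⟩ := Ideal.exists_minimalPrimes_le (I := (⊥ : Ideal (Y.presheaf.stalk ξ)))
    (J := IsLocalRing.maximalIdeal (Y.presheaf.stalk ξ)) bot_le
  have hp' : p ∈ minimalPrimes (Y.presheaf.stalk ξ) := hp
  let P : ↥(Spec (Y.presheaf.stalk ξ)) := ⟨p, hp.1.1⟩
  refine ⟨Y.fromSpecStalk ξ P, ?_, ?_⟩
  · have : Y.fromSpecStalk ξ P ∈ Set.range (Y.fromSpecStalk ξ) := ⟨P, rfl⟩
    rwa [Scheme.range_fromSpecStalk] at this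
  · exact Groth.Agent.Lib.H71GeomRedAt.closure_mem_irreducibleComponents ξ P hp'

end Groth.Agent.Lib.H80SecDimConstFP
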