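import Groth.Agent.Lib.H80SecDimConst
import Groth.Agent.Lib.H77SectionCompClosure

/-!
# Openness of the union of section components (helper80, EGA IV 15.6.x)

* `mem_sectionComponent_of_specializes_dvr`: over a DVR, generizations of points of an irreducible
  closed section component with reduced fibre stalks stay in the section components.
* `mem_sectionComponents_of_specializes`: the same over a locally Noetherian base (by base change
  to a DVR through the specialization).
-/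

set_option autoImplicit false
universe u
open CategoryTheory CategoryTheory.Limits AlgebraicGeometry TopologicalSpace Topology

namespace Groth.Agent.Lib.H80SecOpen

open Groth.Agent.Lib.H80SecDimConst

/-- Over a discrete valuation ring: let `X_s^0` be irreducible with generic point `ξ₀`, `f` open at
`ξ₀`, and the closed fibre reduced at `g s` and at `x' ∈ X_s^0`. Then every generization `t` of `x'`
lies in the section component of its fibre. -/
theorem mem_sectionComponent_of_specializes_dvr {A : Type u} [CommRing A] [IsDomain A]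
    [IsDiscreteValuationRing A] {X : Scheme.{u}} (f : X ⟶ Spec (CommRingCat.of A))
    [LocallyOfFiniteType f] (g : Spec (CommRingCat.of A) ⟶ X) (hg : g ≫ f = 𝟙 _)
    (s : ↥(Spec (CommRingCat.of A))) (hs : s = IsLocalRing.closedPoint A)
    (ξ₀ : X) (hξ₀ : ξ₀ ∈ connectedComponentIn (f ⁻¹' {s}) (g s))
    (hgen : connectedComponentIn (f ⁻¹' {s}) (g s) ⊆ closure {ξ₀})
    (hopen : EGA43.IsOpenAt f.base ξ₀)
    (hred : _root_.IsReduced ((f.fiber (f.base (g.base s))).presheaf.stalk (f.asFiber (g.base s))))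
    (x' : X) (hx' : x' ∈ connectedComponentIn (f ⁻¹' {s}) (g s))
    (hred' : _root_.IsReduced ((f.fiber (f.base x')).presheaf.stalk (f.asFiber x')))
    (t : X) (ht : t ⤳ x') :
    t ∈ connectedComponentIn (f ⁻¹' {f t}) (g (f t)) := by
  have hfg : ∀ z, f (g z) = z := fun z => by
    have := congrArg (fun φ : Spec (CommRingCat.of A) ⟶ Spec (CommRingCat.of A) => φ.base z) hg
    simpa using this
  have hfξ₀ : f ξ₀ = s := (connectedComponentIn_subset _ _ hξ₀ : ξ₀ ∈ f ⁻¹' {s})
  have hfx' : f x' = s := (connectedComponentIn_subset _ _ hx' : x' ∈ f ⁻¹' {s})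
  by_cases hft : f t = s
  · rw [hft]
    exact mem_connectedComponentIn_of_specializes (f ⁻¹' {s}) (g s) t x' hft hfx' ht hx'
  obtain ⟨η, hη⟩ : ∃ η, η = f t := ⟨_, rfl⟩
  rw [← hη] at hft ⊢
  have hηs : η ⤳ s := by rw [hs]; exact IsLocalRing.specializes_closedPoint η
  obtain ⟨ζ, hζξ₀, hfζ⟩ := Groth.Agent.Lib.OpenAt45.exists_generization_of_isOpenAt f ξ₀ hopen η
    (by rw [hfξ₀]; exact hηs)
  have hxC : g s ∈ connectedComponentIn (f ⁻¹' {s}) (g s) := mem_connectedComponentIn (hfg s)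
  have hmin : ∀ x₀ ∈ connectedComponentIn (f ⁻¹' {s}) (g s),
      ∀ x₁ : X, x₁ ⤳ x₀ → f.base x₁ = IsLocalRing.closedPoint A → ξ₀ ⤳ x₁ := by
    intro x₀ hx₀ x₁ hx₁ hfx₁
    have hx₁F : x₁ ∈ f ⁻¹' {s} := by rw [hs]; exact hfx₁
    have hx₀F : x₀ ∈ f ⁻¹' {s} := connectedComponentIn_subset _ _ hx₀
    have := mem_connectedComponentIn_of_specializes (f ⁻¹' {s}) (g s) x₁ x₀ hx₁F hx₀F hx₁ hx₀
    exact specializes_iff_mem_closure.mpr (hgen this)
  have hζne : f.base ζ ≠ IsLocalRing.closedPoint A := by rw [hfζ, ← hs]; exact hft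
  -- `ζ` lies in the generic section component
  have hdom := specializes_of_isReduced_fibre_dvr f (g s) (by rw [hfg, hs]) hred ξ₀
    (specializes_iff_mem_closure.mpr (hgen hxC)) (hmin (g s) hxC) ζ hζξ₀ hζne
  have hζgη : ζ ⤳ g η := hdom (g η) (hηs.map g.continuous)
  have hζC : ζ ∈ connectedComponentIn (f ⁻¹' {η}) (g η) :=
    mem_connectedComponentIn_of_specializes (f ⁻¹' {η}) (g η) ζ (g η) hfζ (hfg η) hζgη
      (mem_connectedComponentIn (hfg η))
  -- `ζ` is the generic point of `𝒪_{X,x'}`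
  have hdom' := specializes_of_isReduced_fibre_dvr f x' (by rw [hfx', hs]) hred' ξ₀
    (specializes_iff_mem_closure.mpr (hgen hx')) (hmin x' hx') ζ hζξ₀ hζne
  have hζt : ζ ⤳ t := hdom' t ht
  exact mem_connectedComponentIn_of_specializes' (f ⁻¹' {η}) (g η) ζ t hfζ hη.symm hζt hζC

/-- **Generization stability of the section components.** `Y` locally Noetherian, `f` locally of
finite type with a section `g` whose section components are geometrically irreducible. Let `x` be a
point of `X_y^0` (`y = f x`) such that `f` is universally open at the generic point of `X_y^0` and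
the fibre is geometrically reduced at `g y` and at `x`. Then every generization of `x` lies in the
section components. -/
theorem mem_sectionComponents_of_specializes {X Y : Scheme.{u}} [IsLocallyNoetherian Y]
    (f : X ⟶ Y) [LocallyOfFiniteType f] (g : Y ⟶ X) (hg : g ≫ f = 𝟙 Y)
    (hirr : ∀ y : Y, (∀ (K : Type u) [Field K]
      [Algebra (IsLocalRing.ResidueField (Y.presheaf.stalk y)) K],
        IsIrreducible ((FBase.bcπ (f.fiberToSpecResidueField y) K ≫ f.fiberι y).base ⁻¹'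
          connectedComponentIn (f.base ⁻¹' {y}) (g.base y))))
    (x : X) (hx : x ∈ connectedComponentIn (f.base ⁻¹' {f.base x}) (g.base (f.base x)))
    (hopen : ∀ ξ ∈ connectedComponentIn (f.base ⁻¹' {f.base x}) (g.base (f.base x)),
      connectedComponentIn (f.base ⁻¹' {f.base x}) (g.base (f.base x)) ⊆ closure {ξ} →
        EGA43.IsUnivOpenAt f ξ)
    (hα : FBase.IsGeomReducedAt (f.fiberToSpecResidueField (f.base (g.base (f.base x))))
      (f.asFiber (g.base (f.base x))))
    (hα' : FBase.IsGeomReducedAt (f.fiberToSpecResidueField (f.base x)) (f.asFiber x))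
    (x₁ : X) (hx₁ : x₁ ⤳ x) :
    x₁ ∈ connectedComponentIn (f.base ⁻¹' {f.base x₁}) (g.base (f.base x₁)) := by
  by_cases hne : x₁ = x
  · subst hne; exact hx
  have hLN : IsLocallyNoetherian X := LocallyOfFiniteType.isLocallyNoetherian f
  obtain ⟨A, hAring, hAdom, hAdvr, k, hcl, -, τ, hτ⟩ :=
    Groth.Agent.Lib.H80DvrGeom.exists_dvr_map x x₁ hne hx₁ (X.residueField x₁)
  have hgenpt : k (genericPoint (Spec (CommRingCat.of A))) = x₁ := by
    obtain ⟨q⟩ : Nonempty (Spec ((Spec (CommRingCat.of A)).residueField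
      (genericPoint (Spec (CommRingCat.of A))))) := inferInstance
    have h1 := congrArg (fun k => k.base q) hτ
    simp only [Scheme.Hom.comp_base, TopCat.coe_comp, Function.comp_apply] at h1
    rw [Scheme.fromSpecResidueField_apply, Scheme.fromSpecResidueField_apply] at h1
    exact h1
  subst hcl
  obtain ⟨s, hs⟩ : ∃ s : ↥(Spec (CommRingCat.of A)), s = IsLocalRing.closedPoint A := ⟨_, rfl⟩
  rw [← hs] at hopen hα hα' hx hx₁ hne
  obtain ⟨η, hηdef⟩ : ∃ η : ↥(Spec (CommRingCat.of A)),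
    η = genericPoint (Spec (CommRingCat.of A)) := ⟨_, rfl⟩
  rw [← hηdef] at hgenpt
  have hη : η ≠ s := by
    intro e
    apply hne
    rw [← hgenpt, e]
  obtain ⟨h, hh⟩ : ∃ h : Spec (CommRingCat.of A) ⟶ Y, h = k ≫ f := ⟨_, rfl⟩
  have hhz : ∀ z, h z = f (k z) := fun z => by rw [hh]; rfl
  -- the base change
  have hsq : IsPullback (pullback.fst f h) (pullback.snd f h) f h := IsPullback.of_hasPullback f h
  obtain ⟨p, hp⟩ : ∃ p : pullback f h ⟶ X, p = pullback.fst f h := ⟨_, rfl⟩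
  obtain ⟨f', hf'⟩ : ∃ f' : pullback f h ⟶ Spec (CommRingCat.of A), f' = pullback.snd f h :=
    ⟨_, rfl⟩
  rw [← hp, ← hf'] at hsq
  have hlft : LocallyOfFiniteType f' := MorphismProperty.of_isPullback hsq inferInstance
  let g' : Spec (CommRingCat.of A) ⟶ pullback f h := hsq.lift (h ≫ g) (𝟙 _) (by
    rw [Category.assoc, hg, Category.comp_id, Category.id_comp])
  have hg' : g' ≫ f' = 𝟙 _ := hsq.lift_snd _ _ _
  have hgp : g' ≫ p = h ≫ g := hsq.lift_fst _ _ _
  let γ : Spec (CommRingCat.of A) ⟶ pullback f h := hsq.lift k (𝟙 _) (by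
    rw [Category.id_comp, hh])
  have hγf : γ ≫ f' = 𝟙 _ := hsq.lift_snd _ _ _
  have hγp : γ ≫ p = k := hsq.lift_fst _ _ _
  have hf'g' : ∀ z', f' (g' z') = z' := fun z' => by
    have := congrArg (fun φ : Spec (CommRingCat.of A) ⟶ Spec (CommRingCat.of A) => φ.base z') hg'
    simpa using this
  have hpg' : ∀ z', p (g' z') = g (h z') := fun z' => by
    have := congrArg (fun φ : Spec (CommRingCat.of A) ⟶ X => φ.base z') hgp
    simpa using this
  have hf'γ : ∀ z', f' (γ z') = z' := fun z' => by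
    have := congrArg (fun φ : Spec (CommRingCat.of A) ⟶ Spec (CommRingCat.of A) => φ.base z') hγf
    simpa using this
  have hpγ : ∀ z', p (γ z') = k z' := fun z' => by
    have := congrArg (fun φ : Spec (CommRingCat.of A) ⟶ X => φ.base z') hγp
    simpa using this
  obtain ⟨hCeq_s, hCs', hCs, -⟩ := sectionComponent_baseChange f h p f' hsq g hg g' hg' hgp s
    (fun K _ _ => hirr (h s) K)
  obtain ⟨hCeq_η, -, -, -⟩ := sectionComponent_baseChange f h p f' hsq g hg g' hg' hgp η
    (fun K _ _ => hirr (h η) K)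
  obtain ⟨ξ₀, hξ₀, hgen⟩ := exists_generic_connectedComponentIn f' s (g' s) (hf'g' s) hCs'
  have hξ₀' : p ξ₀ ∈ connectedComponentIn (f ⁻¹' {h s}) (g (h s)) := by
    have := hξ₀
    rw [hCeq_s] at this
    exact this.1
  have hopen' : EGA43.IsOpenAt f'.base ξ₀ := by
    have hUO := hopen (p ξ₀) (by rw [← hhz s]; exact hξ₀') (by
      rw [← hhz s]
      intro c hc
      have hfc : f c = h s := (connectedComponentIn_subset _ _ hc : c ∈ f ⁻¹' {h s})
      obtain ⟨u, hu1, hu2⟩ := Scheme.exists_preimage_of_isPullback hsq c s hfc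
      have huC : u ∈ connectedComponentIn (f' ⁻¹' {s}) (g' s) := by
        rw [hCeq_s]
        exact ⟨by rw [Set.mem_preimage, hu1]; exact hc, hu2⟩
      have h1 : ξ₀ ⤳ u := specializes_iff_mem_closure.mpr (hgen huC)
      have h2 := h1.map p.continuous
      rw [hu1] at h2
      exact specializes_iff_mem_closure.mp h2)
    have := hUO _ h ξ₀ (by rw [← hp])
    rw [hf']
    exact this
  have hred : _root_.IsReduced ((f'.fiber (f'.base (g'.base s))).presheaf.stalk
      (f'.asFiber (g'.base s))) := by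
    apply isReduced_fibre_stalk_of_isGeomReducedAt f h p f' hsq (g' s)
    rw [hpg' s, hhz s]
    exact hα
  have hred' : _root_.IsReduced ((f'.fiber (f'.base (γ.base s))).presheaf.stalk
      (f'.asFiber (γ.base s))) := by
    apply isReduced_fibre_stalk_of_isGeomReducedAt f h p f' hsq (γ s)
    rw [hpγ s]
    exact hα'
  have hx'C : γ s ∈ connectedComponentIn (f' ⁻¹' {s}) (g' s) := by
    rw [hCeq_s]
    refine ⟨?_, hf'γ s⟩
    rw [Set.mem_preimage, hpγ s, hhz s]
    exact hx
  have hsp : γ η ⤳ γ s := by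
    have hηs : η ⤳ s := by rw [hs]; exact IsLocalRing.specializes_closedPoint η
    exact hηs.map γ.continuous
  have hmain := mem_sectionComponent_of_specializes_dvr f' g' hg' s hs ξ₀ hξ₀ hgen hopen' hred
    (γ s) hx'C hred' (γ η) hsp
  rw [hf'γ η, hCeq_η] at hmain
  have := hmain.1
  rw [Set.mem_preimage, hpγ η, hhz η, hgenpt] at this
  exact this

/-- **Neighbourhood criterion for the section components** (finite type over a base, Noetherian
total space): if every generization of `x` lies in the section components `E`, then `E` is a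
neighbourhood of `x`. Uses helper77's generic clopenness of `E` over locally closed pieces. -/
theorem sectionComponents_mem_nhds_of_forall_specializes {X Y : Scheme.{u}} (f : X ⟶ Y)
    (s : Y ⟶ X) (hs : s ≫ f = 𝟙 Y) [LocallyOfFiniteType f] [QuasiCompact f]
    [NoetherianSpace X] (x : X)
    (hgen : ∀ t : X, t ⤳ x → t ∈ MoreMor.sectionComponents f s) :
    MoreMor.sectionComponents f s ∈ nhds x := by
  obtain ⟨E, hE⟩ : ∃ E : Set X, E = MoreMor.sectionComponents f s := ⟨_, rfl⟩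
  rw [← hE] at hgen ⊢
  -- generic openness on an irreducible closed subset
  have key : ∀ Z : Set X, IsClosed Z → IsIrreducible Z → x ∈ Z →
      ∃ O : Set X, IsOpen O ∧ (Z ∩ O).Nonempty ∧ Z ∩ O ⊆ E := by
    intro Z hZcl hZirr hxZ
    obtain ⟨t, ht⟩ := QuasiSober.sober hZirr hZcl
    have htcl : closure {t} = Z := ht.def
    have htx : t ⤳ x := by rw [specializes_iff_mem_closure, htcl]; exact hxZ
    have htE : t ∈ E := hgen t htx
    obtain ⟨V, hVsub, hyV, hVopen, hclopen⟩ :=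
      Groth.Agent.Lib.H77SectionCompClosure.exists_subset_closure_sectionComponents_isClopen
        f s hs (f t)
    rw [← hE] at hclopen
    obtain ⟨V', hV'open, hV'⟩ := isOpen_induced_iff.mp hVopen
    obtain ⟨O₁, hO₁open, hO₁⟩ := isOpen_induced_iff.mp hclopen.2
    have htV : t ∈ f ⁻¹' V := hyV
    have htO₁ : t ∈ O₁ := by
      have : (⟨t, htV⟩ : ↥(f ⁻¹' V)) ∈ (Subtype.val ⁻¹' O₁ : Set ↥(f ⁻¹' V)) := by
        rw [hO₁]; exact htE
      exact this
    have hftV' : f t ∈ V' := by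
      have : (⟨f t, subset_closure rfl⟩ : ↥(closure ({f t} : Set Y))) ∈
          (Subtype.val ⁻¹' V' : Set ↥(closure ({f t} : Set Y))) := by
        rw [hV']; exact hyV
      exact this
    refine ⟨O₁ ∩ f ⁻¹' V', hO₁open.inter (hV'open.preimage f.continuous),
      ⟨t, by rw [← htcl]; exact subset_closure rfl, htO₁, hftV'⟩, ?_⟩
    rintro u ⟨huZ, huO₁, huV'⟩
    have hfu : f u ∈ closure ({f t} : Set Y) := by
      have h1 : t ⤳ u := by rw [specializes_iff_mem_closure, htcl]; exact huZ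
      exact specializes_iff_mem_closure.mp (h1.map f.continuous)
    have hfuV : f u ∈ V := by
      have : (⟨f u, hfu⟩ : ↥(closure ({f t} : Set Y))) ∈
          (Subtype.val ⁻¹' V' : Set ↥(closure ({f t} : Set Y))) := huV'
      rw [hV'] at this
      exact this
    have : (⟨u, hfuV⟩ : ↥(f ⁻¹' V)) ∈ (Subtype.val ⁻¹' O₁ : Set ↥(f ⁻¹' V)) := huO₁
    rw [hO₁] at this
    exact this
  -- Noetherian induction on closed subsets through `x`
  have ind : ∀ Z : Closeds X, x ∈ Z → ∃ O : Set X, IsOpen O ∧ x ∈ O ∧ (Z : Set X) ∩ O ⊆ E := by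
    intro Z
    refine WellFounded.induction (C := fun Z : Closeds X => x ∈ Z →
      ∃ O : Set X, IsOpen O ∧ x ∈ O ∧ (Z : Set X) ∩ O ⊆ E) (wellFounded_lt (α := Closeds X)) Z ?_
    intro Z ih hxZ
    by_cases hirr : IsPreirreducible (Z : Set X)
    · obtain ⟨O', hO'open, ⟨t, htZ, htO'⟩, hO'sub⟩ := key Z Z.isClosed ⟨⟨x, hxZ⟩, hirr⟩ hxZ
      by_cases hxO' : x ∈ O'
      · exact ⟨O', hO'open, hxO', hO'sub⟩
      · let Z' : Closeds X := ⟨(Z : Set X) \ O', Z.isClosed.sdiff hO'open⟩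
        have hlt : Z' < Z := by
          refine lt_of_le_of_ne (fun u hu => hu.1) ?_
          intro e
          have : t ∈ (Z' : Set X) := by rw [e]; exact htZ
          exact this.2 htO'
        obtain ⟨O, hOopen, hxO, hOsub⟩ := ih Z' hlt ⟨hxZ, hxO'⟩
        refine ⟨O, hOopen, hxO, ?_⟩
        rintro u ⟨huZ, huO⟩
        by_cases huO' : u ∈ O'
        · exact hO'sub ⟨huZ, huO'⟩
        · exact hOsub ⟨⟨huZ, huO'⟩, huO⟩
    · rw [isPreirreducible_iff_isClosed_union_isClosed] at hirr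
      push Not at hirr
      obtain ⟨z₁, z₂, hz₁, hz₂, hsub, hn₁, hn₂⟩ := hirr
      let Z₁ : Closeds X := ⟨(Z : Set X) ∩ z₁, Z.isClosed.inter hz₁⟩
      let Z₂ : Closeds X := ⟨(Z : Set X) ∩ z₂, Z.isClosed.inter hz₂⟩
      have hlt₁ : Z₁ < Z := by
        refine lt_of_le_of_ne (fun u hu => hu.1) ?_
        intro e
        apply hn₁
        intro u hu
        have : u ∈ (Z₁ : Set X) := by rw [e]; exact hu
        exact this.2
      have hlt₂ : Z₂ < Z := by
        refine lt_of_le_of_ne (fun u hu => hu.1) ?_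
        intro e
        apply hn₂
        intro u hu
        have : u ∈ (Z₂ : Set X) := by rw [e]; exact hu
        exact this.2
      have h₁ : ∃ O : Set X, IsOpen O ∧ x ∈ O ∧ (Z₁ : Set X) ∩ O ⊆ E := by
        by_cases hx₁ : x ∈ z₁
        · exact ih Z₁ hlt₁ ⟨hxZ, hx₁⟩
        · exact ⟨z₁ᶜ, hz₁.isOpen_compl, hx₁, fun u hu => absurd hu.1.2 hu.2⟩
      have h₂ : ∃ O : Set X, IsOpen O ∧ x ∈ O ∧ (Z₂ : Set X) ∩ O ⊆ E := by
        by_cases hx₂ : x ∈ z₂
        · exact ih Z₂ hlt₂ ⟨hxZ, hx₂⟩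
        · exact ⟨z₂ᶜ, hz₂.isOpen_compl, hx₂, fun u hu => absurd hu.1.2 hu.2⟩
      obtain ⟨O₁, hO₁, hxO₁, hs₁⟩ := h₁
      obtain ⟨O₂, hO₂, hxO₂, hs₂⟩ := h₂
      refine ⟨O₁ ∩ O₂, hO₁.inter hO₂, ⟨hxO₁, hxO₂⟩, ?_⟩
      rintro u ⟨huZ, huO₁, huO₂⟩
      rcases hsub huZ with hu | hu
      · exact hs₁ ⟨⟨huZ, hu⟩, huO₁⟩
      · exact hs₂ ⟨⟨huZ, hu⟩, huO₂⟩
  obtain ⟨O, hOopen, hxO, hOsub⟩ := ind ⊤ trivial
  refine Filter.mem_of_superset (hOopen.mem_nhds hxO) ?_
  intro u hu
  exact hOsub ⟨trivial, hu⟩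

/-- **Reduction to finite type.** `Y` locally Noetherian, `f` locally of finite type with a section
`g` all of whose section components are preirreducible. If every generization of `x ∈ X^0` lies in
`X^0`, then `X^0` is a neighbourhood of `x`. -/
theorem sectionComponents_mem_nhds {X Y : Scheme.{u}} [IsLocallyNoetherian Y]
    (f : X ⟶ Y) [LocallyOfFiniteType f] (g : Y ⟶ X) (hg : g ≫ f = 𝟙 Y)
    (hC : ∀ z : Y, IsPreirreducible (connectedComponentIn (f ⁻¹' {z}) (g z)))
    (x : X) (hgen : ∀ t : X, t ⤳ x → t ∈ MoreMor.sectionComponents f g) :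
    MoreMor.sectionComponents f g ∈ nhds x := by
  have hLN : IsLocallyNoetherian X := LocallyOfFiniteType.isLocallyNoetherian f
  have hfg : ∀ z : Y, f (g z) = z := fun z => by
    have := congrArg (fun φ : Y ⟶ Y => φ.base z) hg
    simpa using this
  obtain ⟨_, ⟨Nx, hNx, rfl⟩, hxNx, -⟩ := X.isBasis_affineOpens.exists_subset_of_mem_open
    (Set.mem_univ x) isOpen_univ
  obtain ⟨_, ⟨Ng, hNg, rfl⟩, hgNg, -⟩ := X.isBasis_affineOpens.exists_subset_of_mem_open
    (Set.mem_univ (g (f x))) isOpen_univ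
  obtain ⟨U, hU⟩ : ∃ U : X.Opens, U = Nx ⊔ Ng := ⟨_, rfl⟩
  have hyU : f x ∈ g ⁻¹ᵁ U := by
    rw [hU]; exact Or.inr hgNg
  obtain ⟨_, ⟨Y₂, hY₂, rfl⟩, hyY₂, hY₂sub⟩ := Y.isBasis_affineOpens.exists_subset_of_mem_open
    hyU (g ⁻¹ᵁ U).2
  obtain ⟨U₁, hU₁⟩ : ∃ U₁ : X.Opens, U₁ = U ⊓ f ⁻¹ᵁ Y₂ := ⟨_, rfl⟩
  have hU₁Y₂ : U₁ ≤ f ⁻¹ᵁ Y₂ := by rw [hU₁]; exact inf_le_right
  have hY₂U₁ : Y₂ ≤ g ⁻¹ᵁ U₁ := by
    intro z hz
    rw [hU₁]
    refine ⟨hY₂sub hz, ?_⟩
    show f (g z) ∈ Y₂
    rw [hfg z]; exact hz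
  have hxU₁ : x ∈ U₁ := by
    rw [hU₁, hU]
    exact ⟨Or.inl hxNx, hyY₂⟩
  -- compactness of `U₁`
  have hNRx : IsNoetherianRing Γ(X, Nx) := IsLocallyNoetherian.component_noetherian ⟨Nx, hNx⟩
  have hNRg : IsNoetherianRing Γ(X, Ng) := IsLocallyNoetherian.component_noetherian ⟨Ng, hNg⟩
  have hNSx : NoetherianSpace (Nx : Set X) := noetherianSpace_of_isAffineOpen Nx hNx
  have hNSg : NoetherianSpace (Ng : Set X) := noetherianSpace_of_isAffineOpen Ng hNg
  have hcomp : IsCompact (U₁ : Set X) := by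
    have e : (U₁ : Set X) = ((U₁ : Set X) ∩ Nx) ∪ ((U₁ : Set X) ∩ Ng) := by
      rw [← Set.inter_union_distrib_left]
      apply (Set.inter_eq_left.mpr _).symm
      intro u hu
      rw [hU₁, hU] at hu
      exact hu.1
    rw [e]
    exact ((noetherianSpace_set_iff _).mp hNSx _ Set.inter_subset_right).union
      ((noetherianSpace_set_iff _).mp hNSg _ Set.inter_subset_right)
  have hCS : CompactSpace ↥U₁ := isCompact_iff_compactSpace.mp hcomp
  have hN : IsNoetherian (U₁ : Scheme.{u}) := { toCompactSpace := hCS }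
  -- the restricted morphism and section
  obtain ⟨f₁, hf₁⟩ : ∃ f₁ : (U₁ : Scheme.{u}) ⟶ Y₂, f₁ = f.resLE Y₂ U₁ hU₁Y₂ := ⟨_, rfl⟩
  obtain ⟨g₁, hg₁def⟩ : ∃ g₁ : (Y₂ : Scheme.{u}) ⟶ U₁, g₁ = g.resLE U₁ Y₂ hY₂U₁ := ⟨_, rfl⟩
  have hg₁ : g₁ ≫ f₁ = 𝟙 _ := by
    rw [hg₁def, hf₁, Scheme.Hom.resLE_comp_resLE]
    simp only [hg]
    rw [Scheme.Hom.resLE_id]
    simp
  have hlft : LocallyOfFiniteType f₁ := by rw [hf₁]; infer_instance
  have hf₁v : ∀ u : ↥U₁, (f₁ u).1 = f u.1 := fun u => by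
    rw [hf₁]; exact Scheme.Hom.coe_resLE_apply f hU₁Y₂ u
  have hg₁v : ∀ z : ↥Y₂, (g₁ z).1 = g z.1 := fun z => by
    rw [hg₁def]; exact Scheme.Hom.coe_resLE_apply g hY₂U₁ z
  have hval : Topology.IsOpenEmbedding (Subtype.val : ↥U₁ → X) := U₁.2.isOpenEmbedding_subtypeVal
  -- comparison of the section components
  have ha : ∀ u : ↥U₁, u ∈ MoreMor.sectionComponents f₁ g₁ →
      u.1 ∈ MoreMor.sectionComponents f g := by
    intro u hu
    have hpre : _root_.IsPreconnected (Subtype.val ''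
        connectedComponentIn (f₁ ⁻¹' {f₁ u}) (g₁ (f₁ u))) :=
      isPreconnected_connectedComponentIn.image _ continuous_subtype_val.continuousOn
    have hsub : Subtype.val '' connectedComponentIn (f₁ ⁻¹' {f₁ u}) (g₁ (f₁ u)) ⊆
        f ⁻¹' {f u.1} := by
      rintro _ ⟨w, hw, rfl⟩
      have hw' : f₁ w = f₁ u := (connectedComponentIn_subset _ _ hw : w ∈ f₁ ⁻¹' {f₁ u})
      show f w.1 = f u.1
      rw [← hf₁v, ← hf₁v, hw']
    have hmem : g (f u.1) ∈ Subtype.val ''
        connectedComponentIn (f₁ ⁻¹' {f₁ u}) (g₁ (f₁ u)) := by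
      refine ⟨g₁ (f₁ u), mem_connectedComponentIn ?_, ?_⟩
      · have := congrArg (fun φ : (Y₂ : Scheme.{u}) ⟶ Y₂ => φ.base (f₁ u)) hg₁
        simpa using this
      · rw [hg₁v, hf₁v]
    exact hpre.subset_connectedComponentIn hmem hsub ⟨u, hu, rfl⟩
  have hb : ∀ u : ↥U₁, u.1 ∈ MoreMor.sectionComponents f g →
      u ∈ MoreMor.sectionComponents f₁ g₁ := by
    intro u hu
    have hpre : _root_.IsPreconnected ((Subtype.val : ↥U₁ → X) ⁻¹'
        connectedComponentIn (f ⁻¹' {f u.1}) (g (f u.1))) :=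
      ((hC (f u.1)).preimage hval).isPreconnected
    have hsub : (Subtype.val : ↥U₁ → X) ⁻¹' connectedComponentIn (f ⁻¹' {f u.1}) (g (f u.1)) ⊆
        f₁ ⁻¹' {f₁ u} := by
      intro w hw
      have hw' : f w.1 = f u.1 :=
        (connectedComponentIn_subset _ _ hw : w.1 ∈ f ⁻¹' {f u.1})
      show f₁ w = f₁ u
      apply Subtype.ext
      rw [hf₁v, hf₁v, hw']
    have hmem : g₁ (f₁ u) ∈ (Subtype.val : ↥U₁ → X) ⁻¹'
        connectedComponentIn (f ⁻¹' {f u.1}) (g (f u.1)) := by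
      show (g₁ (f₁ u)).1 ∈ connectedComponentIn (f ⁻¹' {f u.1}) (g (f u.1))
      rw [hg₁v, hf₁v]
      exact mem_connectedComponentIn (hfg _)
    exact hpre.subset_connectedComponentIn hmem hsub hu
  have hgen₁ : ∀ t : ↥U₁, t ⤳ (⟨x, hxU₁⟩ : ↥U₁) → t ∈ MoreMor.sectionComponents f₁ g₁ := by
    intro t ht
    apply hb
    exact hgen t.1 (ht.map continuous_subtype_val)
  have hnhds := sectionComponents_mem_nhds_of_forall_specializes f₁ g₁ hg₁ ⟨x, hxU₁⟩ hgen₁
  have himg := (hval.image_mem_nhds (x := (⟨x, hxU₁⟩ : ↥U₁))).mpr hnhds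
  refine Filter.mem_of_superset himg ?_
  rintro _ ⟨u, hu, rfl⟩
  exact ha u hu

/-- A geometrically irreducible section component is irreducible. -/
theorem isIrreducible_sectionComponent {X Y : Scheme.{u}} (f : X ⟶ Y) (g : Y ⟶ X) (y : Y)
    (h : IsIrreducible ((FBase.bcπ (f.fiberToSpecResidueField y)
      (IsLocalRing.ResidueField (Y.presheaf.stalk y)) ≫ f.fiberι y).base ⁻¹'
        connectedComponentIn (f.base ⁻¹' {y}) (g.base y))) :
    IsIrreducible (connectedComponentIn (f.base ⁻¹' {y}) (g.base y)) := by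
  obtain ⟨π, hπ⟩ : ∃ π, π = (FBase.bcπ (f.fiberToSpecResidueField y)
    (IsLocalRing.ResidueField (Y.presheaf.stalk y)) ≫ f.fiberι y) := ⟨_, rfl⟩
  rw [← hπ] at h
  have hsurj : Function.Surjective (FBase.bcπ (f.fiberToSpecResidueField y)
      (IsLocalRing.ResidueField (Y.presheaf.stalk y))).base := by
    unfold FBase.bcπ
    have : IsIso (Spec.map (CommRingCat.ofHom (algebraMap
        (IsLocalRing.ResidueField (Y.presheaf.stalk y))
        (IsLocalRing.ResidueField (Y.presheaf.stalk y))))) := by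
      have : CommRingCat.ofHom (algebraMap (IsLocalRing.ResidueField (Y.presheaf.stalk y))
        (IsLocalRing.ResidueField (Y.presheaf.stalk y))) = 𝟙 _ := rfl
      rw [this]; infer_instance
    exact (inferInstance : Surjective (Limits.pullback.fst (f.fiberToSpecResidueField y)
      (Spec.map (CommRingCat.ofHom (algebraMap
        (IsLocalRing.ResidueField (Y.presheaf.stalk y))
        (IsLocalRing.ResidueField (Y.presheaf.stalk y))))))).surj
  have hrange : Set.range π.base = f.base ⁻¹' {y} := by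
    rw [hπ, Scheme.Hom.comp_base, TopCat.coe_comp, Set.range_comp, hsurj.range_eq,
      Set.image_univ, Scheme.Hom.range_fiberι]
  have hsub : connectedComponentIn (f.base ⁻¹' {y}) (g.base y) ⊆ Set.range π.base := by
    rw [hrange]; exact connectedComponentIn_subset _ _
  have := h.image π.base π.base.hom.continuous.continuousOn
  rwa [Set.image_preimage_eq_of_subset hsub] at this

end Groth.Agent.Lib.H80SecOpen
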