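import Groth.Agent.Lib.H80SecOpenGen
import Groth.Agent.Lib.H77SectionCompCons
import Groth.Agent.Lib.H72FlatDescentSch

/-!
# Section components of flat finitely presented morphisms (helper80)

`X^0` is a neighbourhood of `X_y^0` when `f` is flat of finite presentation and the fibre is
geometrically reduced along `X_y^0` (EGA IV 15.6.5-type), by Noetherian approximation.
-/

set_option autoImplicit false
set_option maxHeartbeats 400000
set_option linter.style.haveILetI false

universe u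

open CategoryTheory Limits AlgebraicGeometry Topology TopologicalSpace

namespace Groth.Agent.Lib.H80SecOpenFP

open Groth.Agent.Lib.H80SecDimConst Groth.Agent.Lib.H80SecOpen Groth.Agent.Lib.H80SecOpenGen

/-- The residue field extension at a point gives a flat morphism of spectra. -/
theorem flat_Spec_map_residueFieldMap {Y' Y'' : Scheme.{u}} (b : Y'' ⟶ Y') (y'' : Y'') :
    Flat (Spec.map (b.residueFieldMap y'')) := by
  rw [HasRingHomProperty.Spec_iff (P := @Flat)]
  algebraize [(b.residueFieldMap y'').hom]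
  exact (inferInstance : Module.Flat (Y'.residueField (b y'')) (Y''.residueField y''))

/-- Auxiliary form of `isReduced_fibre_stalk_of_isPullback` with free base points. -/
theorem isReduced_fibre_stalk_descent_aux {X' Y' X'' Y'' : Scheme.{u}} (f' : X' ⟶ Y')
    (b : Y'' ⟶ Y') (q : X'' ⟶ X') (f'' : X'' ⟶ Y'') (hsq : IsPullback q f'' f' b)
    (y'' : Y'') (z'' : ↥(f''.fiber y''))
    (hred : _root_.IsReduced ((f''.fiber y'').presheaf.stalk z''))
    (y' : Y') (hy : b y'' = y') (z' : ↥(f'.fiber y'))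
    (hz : q (f''.fiberι y'' z'') = f'.fiberι y' z') :
    _root_.IsReduced ((f'.fiber y').presheaf.stalk z') := by
  subst hy
  have hP := isPullback_fiberToSpecResidueField_of_isPullback hsq y''
  obtain ⟨φ, hφ⟩ : ∃ φ : f''.fiber y'' ⟶ f'.fiber (b y''), φ =
      pullback.map _ _ _ _ q (Spec.map (b.residueFieldMap y'')) b hsq.w.symm (by simp) := ⟨_, rfl⟩
  rw [← hφ] at hP
  have hflat0 : Flat (Spec.map (b.residueFieldMap y'')) := flat_Spec_map_residueFieldMap b y''
  have hflat : Flat φ := MorphismProperty.of_isPullback hP.flip hflat0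
  have hcomp : φ ≫ f'.fiberι (b y'') = f''.fiberι y'' ≫ q := by
    rw [hφ]; exact pullback.lift_fst _ _ _
  have hpt : φ z'' = z' := by
    apply (f'.fiberι (b y'')).isEmbedding.injective
    have := congrArg (fun ψ : f''.fiber y'' ⟶ X' => ψ.base z'') hcomp
    simp only [Scheme.Hom.comp_base, TopCat.coe_comp, Function.comp_apply] at this
    rw [← hz]
    exact this
  subst hpt
  have hfl := Flat.stalkMap φ z''
  algebraize [(φ.stalkMap z'').hom]
  have : Module.FaithfullyFlat ((f'.fiber (b y'')).presheaf.stalk (φ z''))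
      ((f''.fiber y'').presheaf.stalk z'') :=
    @Module.FaithfullyFlat.of_flat_of_isLocalHom _ _ _ _ _ _ _ hfl (φ.toLRSHom.prop z'')
  have hinj : Function.Injective (φ.stalkMap z'').hom :=
    (‹RingHom.FaithfullyFlat _› : RingHom.FaithfullyFlat (φ.stalkMap z'').hom).injective
  exact isReduced_of_injective (φ.stalkMap z'').hom hinj

/-- **Reducedness of fibre stalks descends along base change.** In a cartesian square
`X'' = X' ×_{Y'} Y''`, if the fibre of `f''` through `z` is reduced at `z`, then the fibre of `f'`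
through `q z` is reduced at `q z`. -/
theorem isReduced_fibre_stalk_of_isPullback {X' Y' X'' Y'' : Scheme.{u}} (f' : X' ⟶ Y')
    (b : Y'' ⟶ Y') (q : X'' ⟶ X') (f'' : X'' ⟶ Y'') (hsq : IsPullback q f'' f' b) (z : X'')
    (hred : _root_.IsReduced ((f''.fiber (f'' z)).presheaf.stalk (f''.asFiber z))) :
    _root_.IsReduced ((f'.fiber (f' (q z))).presheaf.stalk (f'.asFiber (q z))) := by
  have hfp : f' (q z) = b (f'' z) := by
    have := congrArg (fun φ : X'' ⟶ Y' => φ.base z) hsq.w
    simpa using this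
  refine isReduced_fibre_stalk_descent_aux f' b q f'' hsq (f'' z) (f''.asFiber z) hred
    (f' (q z)) hfp.symm (f'.asFiber (q z)) ?_
  rw [Scheme.Hom.fiberι_asFiber, Scheme.Hom.fiberι_asFiber]


/-- **Model step.** `f` is the base change of a flat morphism `fk` of finite presentation over a
Noetherian base, compatibly with sections. If the fibre of `f` is geometrically reduced along
`X_y^0`, then `X^0` is a neighbourhood of each point of `X_y^0`. -/
theorem sectionComponents_mem_nhds_of_model {X Y Xk Yk : Scheme.{u}} [IsNoetherian Yk]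
    (f : X ⟶ Y) (s : Y ⟶ X) (hs : s ≫ f = 𝟙 Y)
    (fk : Xk ⟶ Yk) (sk : Yk ⟶ Xk) (hsk : sk ≫ fk = 𝟙 Yk)
    [LocallyOfFinitePresentation fk] [QuasiCompact fk] [Flat fk]
    (gX : X ⟶ Xk) (c : Y ⟶ Yk) (sq : IsPullback gX f fk c) (hcomp : s ≫ gX = c ≫ sk)
    {X₀ Y₀ : Scheme.{u}} (f₀ : X₀ ⟶ Y₀) (p : X ⟶ X₀) (j : Y ⟶ Y₀) (sq₀ : IsPullback p f f₀ j)
    (y : Y)
    (hred : ∀ x ∈ connectedComponentIn (f ⁻¹' {y}) (s y),
      FBase.IsGeomReducedAt (f₀.fiberToSpecResidueField (f₀ (p x))) (f₀.asFiber (p x)))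
    (x : X) (hx : x ∈ connectedComponentIn (f ⁻¹' {y}) (s y)) :
    MoreMor.sectionComponents f s ∈ nhds x := by
  have hE : MoreMor.sectionComponents f s = gX ⁻¹' MoreMor.sectionComponents fk sk :=
    Groth.Agent.Lib.H71SectionComp.sectionComponents_baseChange fk sk hsk f gX c sq s hs hcomp
  have hfx : f x = y := (connectedComponentIn_subset _ _ hx : x ∈ f ⁻¹' {y})
  have hfg : ∀ a : X, fk (gX a) = c (f a) := fun a => by
    rw [← Scheme.Hom.comp_apply gX fk, sq.w, Scheme.Hom.comp_apply]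
  have hxE : x ∈ MoreMor.sectionComponents f s := by
    show x ∈ connectedComponentIn (f ⁻¹' {f x}) (s (f x))
    rw [hfx]; exact hx
  have hxk : gX x ∈ MoreMor.sectionComponents fk sk := by
    rw [hE] at hxE; exact hxE
  have hNS : NoetherianSpace Xk := Groth.Agent.Lib.H77FibClosure.noetherianSpace_of_finiteType fk
  rw [hE]
  apply gX.continuous.continuousAt.preimage_mem_nhds
  apply sectionComponents_mem_nhds_of_dvr_hyp fk sk hsk (gX x) hxk
  intro A _ _ _ h₁ hcl u hu
  refine ⟨Groth.Agent.Lib.UnivOpenAt.isOpenAt_of_isOpenMap (pullback.snd fk h₁).isOpenMap u, ?_⟩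
  -- a point of `X_y^0` above `fst u`
  obtain ⟨xk', hxk'⟩ : ∃ xk' : Xk, xk' = pullback.fst fk h₁ u := ⟨_, rfl⟩
  rw [← hxk'] at hu
  have hfxk' : fk xk' = c y := by
    have h1 : fk xk' = fk (gX x) := (connectedComponentIn_subset _ _ hu : xk' ∈ fk ⁻¹' {fk (gX x)})
    rw [h1, hfg, hfx]
  obtain ⟨x', hx'1, hx'2⟩ := Scheme.exists_preimage_of_isPullback sq xk' y hfxk'
  have hx'C : x' ∈ connectedComponentIn (f ⁻¹' {y}) (s y) := by
    have h1 : x' ∈ MoreMor.sectionComponents f s := by
      rw [hE]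
      show gX x' ∈ connectedComponentIn (fk ⁻¹' {fk (gX x')}) (sk (fk (gX x')))
      rw [hx'1, hfxk']
      have h2 : fk (gX x) = c y := by rw [hfg, hfx]
      rw [h2] at hu
      exact hu
    have h3 : x' ∈ connectedComponentIn (f ⁻¹' {f x'}) (s (f x')) := h1
    rwa [hx'2] at h3
  have hGR := hred x' hx'C
  -- a common point
  obtain ⟨w, hw1, hw2⟩ := Scheme.Pullback.exists_preimage_pullback (f := gX)
    (g := pullback.fst fk h₁) x' u (by rw [hx'1, hxk'])
  obtain ⟨T, ιw, pt, hιw⟩ : ∃ (T : Scheme.{u}) (ιw : T ⟶ pullback gX (pullback.fst fk h₁))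
      (pt : T), ιw pt = w := by
    obtain ⟨pt⟩ : Nonempty (Spec ((pullback gX (pullback.fst fk h₁)).residueField w)) :=
      inferInstance
    exact ⟨_, (pullback gX (pullback.fst fk h₁)).fromSpecResidueField w, pt,
      Scheme.fromSpecResidueField_apply _ _⟩
  obtain ⟨a, ha⟩ : ∃ a : T ⟶ Y, a = ιw ≫ pullback.fst gX (pullback.fst fk h₁) ≫ f := ⟨_, rfl⟩
  obtain ⟨b, hb⟩ : ∃ b : T ⟶ Spec (CommRingCat.of A),
    b = ιw ≫ pullback.snd gX (pullback.fst fk h₁) ≫ pullback.snd fk h₁ := ⟨_, rfl⟩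
  have hab : a ≫ c = b ≫ h₁ := by
    rw [ha, hb]
    simp only [Category.assoc]
    rw [← sq.w, ← pullback.condition (f := fk) (g := h₁), pullback.condition_assoc]
  obtain ⟨t, ht1, ht2⟩ : ∃ t : T ⟶ pullback f a,
      t ≫ pullback.fst f a = ιw ≫ pullback.fst gX (pullback.fst fk h₁) ∧
      t ≫ pullback.snd f a = 𝟙 _ :=
    ⟨pullback.lift (ιw ≫ pullback.fst gX (pullback.fst fk h₁)) (𝟙 _) (by
      rw [ha]; simp only [Category.assoc, Category.id_comp]),
      pullback.lift_fst _ _ _, pullback.lift_snd _ _ _⟩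
  obtain ⟨q, hq1, hq2⟩ : ∃ q : pullback f a ⟶ pullback fk h₁,
      q ≫ pullback.fst fk h₁ = pullback.fst f a ≫ gX ∧
      q ≫ pullback.snd fk h₁ = pullback.snd f a ≫ b :=
    ⟨pullback.lift (pullback.fst f a ≫ gX) (pullback.snd f a ≫ b) (by
      rw [Category.assoc, sq.w, pullback.condition_assoc, Category.assoc, hab]),
      pullback.lift_fst _ _ _, pullback.lift_snd _ _ _⟩
  have hbig : IsPullback (pullback.fst f a ≫ gX) (pullback.snd f a) fk (a ≫ c) :=
    (IsPullback.of_hasPullback f a).paste_horiz sq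
  have hsqq : IsPullback q (pullback.snd f a) (pullback.snd fk h₁) b := by
    refine IsPullback.of_right ?_ hq2 (IsPullback.of_hasPullback fk h₁)
    rw [hq1, ← hab]
    exact hbig
  have htq : t ≫ q = ιw ≫ pullback.snd gX (pullback.fst fk h₁) := by
    apply pullback.hom_ext
    · rw [Category.assoc, hq1, reassoc_of% ht1, Category.assoc, pullback.condition]
    · rw [Category.assoc, hq2, reassoc_of% ht2, hb, Category.assoc]
  have hqt : q (t pt) = u := by
    have := congrArg (fun φ : T ⟶ pullback fk h₁ => φ.base pt) htq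
    simp only [Scheme.Hom.comp_base, TopCat.coe_comp, Function.comp_apply] at this
    rw [this, hιw, hw2]
  have hpt : pullback.fst f a (t pt) = x' := by
    have := congrArg (fun φ : T ⟶ X => φ.base pt) ht1
    simp only [Scheme.Hom.comp_base, TopCat.coe_comp, Function.comp_apply] at this
    rw [this, hιw, hw1]
  have hA : _root_.IsReduced (((pullback.snd f a).fiber ((pullback.snd f a) (t pt))).presheaf.stalk
      ((pullback.snd f a).asFiber (t pt))) := by
    apply isReduced_fibre_stalk_of_isGeomReducedAt f₀ (a ≫ j) (pullback.fst f a ≫ p)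
      (pullback.snd f a) ((IsPullback.of_hasPullback f a).paste_horiz sq₀) (t pt)
    rw [Scheme.Hom.comp_apply, hpt]
    exact hGR
  have hD := isReduced_fibre_stalk_of_isPullback (pullback.snd fk h₁) b q (pullback.snd f a) hsqq
    (t pt) hA
  rw [hqt] at hD
  exact hD


open Groth.Agent.Lib.LimPullback Groth.Agent.Lib.LimDescent Groth.Agent.Lib.DescFP in
/-- Base a cofiltered limit of Noetherian schemes with affine transition maps: a flat morphism of
finite presentation with a section has a flat Noetherian model with a section. -/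
theorem exists_flat_model_with_section {I : Type u} [Category.{u} I]
    [IsCofiltered I] (D : I ⥤ Scheme.{u}) (c : Cone D) (hc : IsLimit c)
    [∀ {i j} (f : i ⟶ j), IsAffineHom (D.map f)] [∀ i, IsNoetherian (D.obj i)]
    {X : Scheme.{u}} (f : X ⟶ c.pt) [LocallyOfFinitePresentation f] [QuasiCompact f]
    [QuasiSeparated f] [Flat f] (s : c.pt ⟶ X) (hs : s ≫ f = 𝟙 _) :
    ∃ (Xk Yk : Scheme.{u}) (_ : IsNoetherian Yk) (fk : Xk ⟶ Yk) (sk : Yk ⟶ Xk) (gX : X ⟶ Xk)
      (ck : c.pt ⟶ Yk), LocallyOfFinitePresentation fk ∧ QuasiCompact fk ∧ Flat fk ∧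
        sk ≫ fk = 𝟙 _ ∧ IsPullback gX f fk ck ∧ s ≫ gX = ck ≫ sk := by
  obtain ⟨i, Xi, fi, gX, hfl, hfi, hXic, hXiq, sq⟩ :=
    exists_model_with_prop D c hc @Flat Groth.Agent.Lib.H72FlatDescentSch.descends_flat f
      inferInstance
  -- descend the section
  let D' : Over i ⥤ Scheme.{u} := Over.forget i ⋙ D
  let c' : Cone D' := c.whisker (Over.forget i)
  have hc' : IsLimit c' := isLimitWhisker (D := D) (c := c) (i := i) hc
  haveI : ∀ {a b : Over i} (m : a ⟶ b), IsAffineHom (D'.map m) := fun m =>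
    (inferInstance : IsAffineHom (D.map m.left))
  haveI : ∀ a : Over i, CompactSpace (D'.obj a) := fun a =>
    (inferInstance : CompactSpace (D.obj a.left))
  haveI : ∀ a : Over i, QuasiSeparatedSpace (D'.obj a) := fun a =>
    (inferInstance : QuasiSeparatedSpace (D.obj a.left))
  let t : D' ⟶ (Functor.const (Over i)).obj (D.obj i) :=
    { app := fun k => D.map k.hom
      naturality := fun a b m => by
        change D.map m.left ≫ D.map b.hom = D.map a.hom ≫ 𝟙 _
        rw [Category.comp_id, ← D.map_comp, Over.w] }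
  have hsg : (s ≫ gX) ≫ fi = c.π.app i := by
    rw [Category.assoc, sq.w, reassoc_of% hs]
  have ha : c'.π ≫ t = (Functor.const _).map ((s ≫ gX : c'.pt ⟶ Xi) ≫ fi) := by
    ext k : 2
    change c.π.app k.left ≫ D.map k.hom = (s ≫ gX) ≫ fi
    rw [hsg, c.w]
  obtain ⟨k, tk', htk1', htk2'⟩ := Scheme.exists_π_app_comp_eq_of_locallyOfFinitePresentation
    D' t fi c' hc' (s ≫ gX) ha
  let tk : D.obj k.left ⟶ Xi := tk'
  have htk1 : c.π.app k.left ≫ tk = s ≫ gX := htk1'
  have htk2 : tk ≫ fi = D.map k.hom := htk2'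
  -- the model at stage `k`
  let fk : pullback fi (D.map k.hom) ⟶ D.obj k.left := pullback.snd fi (D.map k.hom)
  let sk : D.obj k.left ⟶ pullback fi (D.map k.hom) :=
    pullback.lift tk (𝟙 _) (by rw [htk2, Category.id_comp])
  have hsk : sk ≫ fk = 𝟙 _ := pullback.lift_snd _ _ _
  have hsk1 : sk ≫ pullback.fst fi (D.map k.hom) = tk := pullback.lift_fst _ _ _
  have hsk2 : sk ≫ pullback.snd fi (D.map k.hom) = 𝟙 _ := pullback.lift_snd _ _ _
  let gXk : X ⟶ pullback fi (D.map k.hom) := pbLift D c k.hom fi gX f sq.w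
  have sqk : IsPullback gXk f fk (c.π.app k.left) := isPullback_pbLift D c k.hom fi sq
  have hcomp : s ≫ gXk = c.π.app k.left ≫ sk := by
    apply pullback.hom_ext
    · rw [Category.assoc, pbLift_fst, Category.assoc, hsk1, htk1]
    · rw [Category.assoc, pbLift_snd, Category.assoc, hsk2, reassoc_of% hs,
        Category.comp_id]
  haveI : QuasiCompact fi := inferInstance
  have h1 : LocallyOfFinitePresentation fk := inferInstance
  have h2 : QuasiCompact fk := inferInstance
  have h3 : Flat fk := inferInstance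
  exact ⟨_, _, inferInstance, fk, sk, gXk, c.π.app k.left, h1, h2, h3, hsk, sqk, hcomp⟩

/-- Limit case of the neighbourhood theorem. -/
theorem sectionComponents_mem_nhds_of_isLimit {I : Type u} [Category.{u} I]
    [IsCofiltered I] (D : I ⥤ Scheme.{u}) (c : Cone D) (hc : IsLimit c)
    [∀ {i j} (f : i ⟶ j), IsAffineHom (D.map f)] [∀ i, IsNoetherian (D.obj i)]
    {X : Scheme.{u}} (f : X ⟶ c.pt) [LocallyOfFinitePresentation f] [QuasiCompact f]
    [QuasiSeparated f] [Flat f] (s : c.pt ⟶ X) (hs : s ≫ f = 𝟙 _)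
    {X₀ Y₀ : Scheme.{u}} (f₀ : X₀ ⟶ Y₀) (p : X ⟶ X₀) (j : c.pt ⟶ Y₀) (sq₀ : IsPullback p f f₀ j)
    (y : c.pt)
    (hred : ∀ x ∈ connectedComponentIn (f ⁻¹' {y}) (s y),
      FBase.IsGeomReducedAt (f₀.fiberToSpecResidueField (f₀ (p x))) (f₀.asFiber (p x)))
    (x : X) (hx : x ∈ connectedComponentIn (f ⁻¹' {y}) (s y)) :
    MoreMor.sectionComponents f s ∈ nhds x := by
  obtain ⟨Xk, Yk, hN, fk, sk, gX, ck, h1, h2, h3, hsk, sq, hcomp⟩ :=
    exists_flat_model_with_section D c hc f s hs
  exact sectionComponents_mem_nhds_of_model f s hs fk sk hsk gX ck sq hcomp f₀ p j sq₀ y hred x hx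

open Groth.Agent.Lib.FGSubalgLimitU in
/-- Base `Spec A`. -/
theorem sectionComponents_mem_nhds_Spec (A : Type u) [CommRing A] {X : Scheme.{u}}
    (f : X ⟶ Spec (CommRingCat.of A)) [LocallyOfFinitePresentation f] [QuasiCompact f]
    [QuasiSeparated f] [Flat f] (s : Spec (CommRingCat.of A) ⟶ X) (hs : s ≫ f = 𝟙 _)
    {X₀ Y₀ : Scheme.{u}} (f₀ : X₀ ⟶ Y₀) (p : X ⟶ X₀) (j : Spec (CommRingCat.of A) ⟶ Y₀)
    (sq₀ : IsPullback p f f₀ j)
    (y : Spec (CommRingCat.of A))
    (hred : ∀ x ∈ connectedComponentIn (f ⁻¹' {y}) (s y),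
      FBase.IsGeomReducedAt (f₀.fiberToSpecResidueField (f₀ (p x))) (f₀.asFiber (p x)))
    (x : X) (hx : x ∈ connectedComponentIn (f ⁻¹' {y}) (s y)) :
    MoreMor.sectionComponents f s ∈ nhds x := by
  haveI : ∀ {i j : (FGSub ℤ A)ᵒᵖ} (φ : i ⟶ j), IsAffineHom ((D ℤ A).map φ) :=
    fun φ => inferInstance
  haveI : ∀ i, IsNoetherian ((D ℤ A).obj i) := fun i => inferInstance
  have key : ∀ (f' : X ⟶ (cone ℤ A).pt) [LocallyOfFinitePresentation f'] [QuasiCompact f']
      [QuasiSeparated f'] [Flat f'] (s' : (cone ℤ A).pt ⟶ X), s' ≫ f' = 𝟙 _ →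
      ∀ (j' : (cone ℤ A).pt ⟶ Y₀), IsPullback p f' f₀ j' →
      ∀ (y' : (cone ℤ A).pt), (∀ x ∈ connectedComponentIn (f' ⁻¹' {y'}) (s' y'),
        FBase.IsGeomReducedAt (f₀.fiberToSpecResidueField (f₀ (p x))) (f₀.asFiber (p x))) →
      ∀ x ∈ connectedComponentIn (f' ⁻¹' {y'}) (s' y'),
      MoreMor.sectionComponents f' s' ∈ nhds x := by
    intro f' _ _ _ _ s' hs' j' sq' y' hred' x' hx'
    exact sectionComponents_mem_nhds_of_isLimit (D ℤ A) (cone ℤ A) (isLimitCone ℤ A) f' s' hs'
      f₀ p j' sq' y' hred' x' hx'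
  exact @key f ‹_› ‹_› ‹_› ‹_› s hs j sq₀ y hred x hx

open Groth.Agent.Lib.H77SectionCompCons in
/-- **EGA IV 15.6.5-type.** `f` flat of finite presentation with a section `s`. If the fibre of `f`
is geometrically reduced along `X_y^0`, then the union `X^0` of the section components is a
neighbourhood of every point of `X_y^0`. -/
theorem sectionComponents_mem_nhds_of_flat_fp {X Y : Scheme.{u}} (f : X ⟶ Y) [Flat f]
    [LocallyOfFinitePresentation f] [QuasiCompact f] [QuasiSeparated f] (s : Y ⟶ X)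
    (hs : s ≫ f = 𝟙 Y) (y : Y)
    (hred : ∀ x ∈ connectedComponentIn (f ⁻¹' {y}) (s y),
      FBase.IsGeomReducedAt (f.fiberToSpecResidueField (f x)) (f.asFiber x))
    (x : X) (hx : x ∈ connectedComponentIn (f ⁻¹' {y}) (s y)) :
    MoreMor.sectionComponents f s ∈ nhds x := by
  have hfx : f x = y := (connectedComponentIn_subset _ _ hx : x ∈ f ⁻¹' {y})
  obtain ⟨U, hU, hyU, -⟩ := exists_isAffineOpen_mem_and_subset (x := y) (U := ⊤) trivial
  obtain ⟨j, hj⟩ : ∃ j : Spec Γ(Y, U) ⟶ Y, j = hU.fromSpec := ⟨_, rfl⟩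
  have hjO : IsOpenImmersion j := by rw [hj]; infer_instance
  obtain ⟨y', hy'⟩ : ∃ y' : Spec Γ(Y, U), j y' = y := by
    have : y ∈ Set.range j := by rw [hj, hU.range_fromSpec]; exact hyU
    exact this
  obtain ⟨x', hx'1, hx'2⟩ := Scheme.Pullback.exists_preimage_pullback (f := f) (g := j) x y'
    (by rw [hfx, hy'])
  have hE := sectionComponents_bcSection f s hs j
  have hfp : ∀ ξ : ↥(pullback f j), f (pullback.fst f j ξ) = j (pullback.snd f j ξ) := fun ξ => by
    rw [← Scheme.Hom.comp_apply, pullback.condition, Scheme.Hom.comp_apply]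
  have hmem : ∀ ξ : ↥(pullback f j),
      ξ ∈ connectedComponentIn ((pullback.snd f j) ⁻¹' {y'}) (bcSection f s hs j y') →
      pullback.fst f j ξ ∈ connectedComponentIn (f ⁻¹' {y}) (s y) := by
    intro ξ hξ
    have h1 : pullback.snd f j ξ = y' := (connectedComponentIn_subset _ _ hξ :
      ξ ∈ (pullback.snd f j) ⁻¹' {y'})
    have h2 : ξ ∈ MoreMor.sectionComponents (pullback.snd f j) (bcSection f s hs j) := by
      show ξ ∈ connectedComponentIn ((pullback.snd f j) ⁻¹' {pullback.snd f j ξ})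
        (bcSection f s hs j (pullback.snd f j ξ))
      rw [h1]; exact hξ
    rw [hE] at h2
    have h3 : pullback.fst f j ξ ∈ connectedComponentIn (f ⁻¹' {f (pullback.fst f j ξ)})
      (s (f (pullback.fst f j ξ))) := h2
    rwa [hfp, h1, hy'] at h3
  have hx'C : x' ∈ connectedComponentIn ((pullback.snd f j) ⁻¹' {y'}) (bcSection f s hs j y') := by
    have h2 : x' ∈ MoreMor.sectionComponents (pullback.snd f j) (bcSection f s hs j) := by
      rw [hE]
      show pullback.fst f j x' ∈ connectedComponentIn (f ⁻¹' {f (pullback.fst f j x')})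
        (s (f (pullback.fst f j x')))
      rw [hx'1, hfx]; exact hx
    have h3 : x' ∈ connectedComponentIn ((pullback.snd f j) ⁻¹' {pullback.snd f j x'})
      (bcSection f s hs j (pullback.snd f j x')) := h2
    rwa [hx'2] at h3
  have hnhds := sectionComponents_mem_nhds_Spec Γ(Y, U) (pullback.snd f j) (bcSection f s hs j)
    (bcSection_snd f s hs j) f (pullback.fst f j) j (IsPullback.of_hasPullback f j) y'
    (fun ξ hξ => hred _ (hmem ξ hξ)) x' hx'C
  rw [hE] at hnhds
  have himg := ((pullback.fst f j).isOpenEmbedding.image_mem_nhds (x := x')).mpr hnhds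
  rw [hx'1] at himg
  refine Filter.mem_of_superset himg ?_
  rintro _ ⟨ξ, hξ, rfl⟩
  exact hξ

end Groth.Agent.Lib.H80SecOpenFP
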