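import Groth.Agent.Lib.H80SecOpen
import Groth.Agent.Lib.H71SectionComp

/-!
# Openness of the union of section components: the general (non-irreducible) case (helper80)

EGA IV 15.6.4-type: `X^0` is a neighbourhood of `X_y^0` when `f` is universally open and the fibre
geometrically reduced at the points of `X_y^0`.

* `connectedComponentIn_subset_of_stable`: in a subspace where every point has a neighbourhood all
  of whose points are linked to it through a common generization, a connected component lies in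
  any set stable under specialization and generization that meets it.
* `fibre_LG`: fibres of morphisms locally of finite type have this property.
* `preconnectedSpace_away`: `Spec B[1/π]` is preconnected for `B` local, `π` regular, `(π)` radical.
-/

set_option autoImplicit false
universe u
open CategoryTheory CategoryTheory.Limits AlgebraicGeometry TopologicalSpace Topology

namespace Groth.Agent.Lib.H80SecOpenGen

open Groth.Agent.Lib.H80SecDimConst Groth.Agent.Lib.H80SecOpen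

section Top

variable {T : Type*} [TopologicalSpace T]

/-- A connected component of `F` is contained in every subset stable under specialization and
generization (inside `F`) that contains its base point, provided `F` is "locally linked". -/
theorem connectedComponentIn_subset_of_stable (F : Set T)
    (hLG : ∀ u ∈ F, ∃ N ∈ nhds u, ∀ z ∈ N, z ∈ F → ∃ w ∈ F, w ⤳ z ∧ w ⤳ u)
    (x₀ : T) (S : Set T)
    (hS : ∀ a b, a ∈ F → b ∈ F → a ⤳ b → (a ∈ S ↔ b ∈ S)) (hx₀S : x₀ ∈ S) :
    connectedComponentIn F x₀ ⊆ S := by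
  by_cases hx₀ : x₀ ∈ F
  swap
  · rw [connectedComponentIn_eq_empty hx₀]; exact Set.empty_subset _
  -- open neighbourhoods on which membership in `S` is constant
  have hN : ∀ u ∈ F, ∃ N : Set T, IsOpen N ∧ u ∈ N ∧ ∀ z ∈ N, z ∈ F → (z ∈ S ↔ u ∈ S) := by
    intro u hu
    obtain ⟨N, hN, hNprop⟩ := hLG u hu
    obtain ⟨N', hN'N, hN'open, huN'⟩ := mem_nhds_iff.mp hN
    refine ⟨N', hN'open, huN', ?_⟩
    intro z hz hzF
    obtain ⟨w, hwF, hwz, hwu⟩ := hNprop z (hN'N hz) hzF
    rw [← hS w z hwF hzF hwz, hS w u hwF hu hwu]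
  choose! N hNopen huN hNS using hN
  let O₁ : Set T := ⋃ u ∈ F ∩ S, N u
  let O₂ : Set T := ⋃ u ∈ F \ S, N u
  have hO₁ : IsOpen O₁ := isOpen_biUnion fun u hu => hNopen u hu.1
  have hO₂ : IsOpen O₂ := isOpen_biUnion fun u hu => hNopen u hu.1
  have h₁ : ∀ z ∈ F, z ∈ O₁ → z ∈ S := by
    intro z hzF hz
    obtain ⟨u, hu, hzu⟩ := Set.mem_iUnion₂.mp hz
    exact (hNS u hu.1 z hzu hzF).mpr hu.2
  have h₂ : ∀ z ∈ F, z ∈ O₂ → z ∉ S := by
    intro z hzF hz
    obtain ⟨u, hu, hzu⟩ := Set.mem_iUnion₂.mp hz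
    exact fun hzS => hu.2 ((hNS u hu.1 z hzu hzF).mp hzS)
  have hcov : F ⊆ O₁ ∪ O₂ := by
    intro z hzF
    by_cases hzS : z ∈ S
    · exact Or.inl (Set.mem_iUnion₂.mpr ⟨z, ⟨hzF, hzS⟩, huN z hzF⟩)
    · exact Or.inr (Set.mem_iUnion₂.mpr ⟨z, ⟨hzF, hzS⟩, huN z hzF⟩)
  have hCF : connectedComponentIn F x₀ ⊆ F := connectedComponentIn_subset F x₀
  have hpre : _root_.IsPreconnected (connectedComponentIn F x₀) :=
    isPreconnected_connectedComponentIn
  have hdisj : connectedComponentIn F x₀ ∩ (O₁ ∩ O₂) = ∅ := by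
    rw [Set.eq_empty_iff_forall_notMem]
    rintro z ⟨hzC, hz₁, hz₂⟩
    exact h₂ z (hCF hzC) hz₂ (h₁ z (hCF hzC) hz₁)
  rcases isPreconnected_iff_subset_of_disjoint.mp hpre O₁ O₂ hO₁ hO₂
    (hCF.trans hcov) hdisj with h | h
  · intro z hz
    exact h₁ z (hCF hz) (h hz)
  · exact absurd hx₀S (h₂ x₀ hx₀ (h (mem_connectedComponentIn hx₀)))

end Top

/-- Fibres of a morphism locally of finite type are "locally linked". -/
theorem fibre_LG {X Y : Scheme.{u}} (f : X ⟶ Y) [LocallyOfFiniteType f] (y : Y) :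
    ∀ u ∈ f ⁻¹' {y}, ∃ N ∈ nhds u, ∀ z ∈ N, z ∈ f ⁻¹' {y} →
      ∃ w ∈ f ⁻¹' {y}, w ⤳ z ∧ w ⤳ u := by
  intro u hu
  have hlft : LocallyOfFiniteType (f.fiberToSpecResidueField y) :=
    MorphismProperty.pullback_snd (P := @LocallyOfFiniteType) _ _ inferInstance
  have hLN : IsLocallyNoetherian (f.fiber y) :=
    LocallyOfFiniteType.isLocallyNoetherian (f.fiberToSpecResidueField y)
  have hr : ∀ z : X, z ∈ f ⁻¹' {y} → ∃ z₁ : ↥(f.fiber y), f.fiberι y z₁ = z := by
    intro z hz
    have : z ∈ Set.range (f.fiberι y) := by rw [Scheme.Hom.range_fiberι]; exact hz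
    exact this
  have hmemF : ∀ z₁ : ↥(f.fiber y), f.fiberι y z₁ ∈ f ⁻¹' {y} := by
    intro z₁
    have : f.fiberι y z₁ ∈ Set.range (f.fiberι y) := ⟨z₁, rfl⟩
    rwa [Scheme.Hom.range_fiberι] at this
  obtain ⟨z₀, hz₀⟩ := hr u hu
  obtain ⟨N₀, hN₀, hN₀prop⟩ := exists_nhds_maximal_generizations (f.fiber y) z₀
  rw [(f.fiberι y).isEmbedding.isInducing.nhds_eq_comap, Filter.mem_comap] at hN₀
  obtain ⟨N, hN, hNsub⟩ := hN₀
  rw [hz₀] at hN
  refine ⟨N, hN, ?_⟩
  intro z hzN hzF
  obtain ⟨z₁, hz₁⟩ := hr z hzF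
  have hz₁N₀ : z₁ ∈ N₀ := hNsub (by rw [Set.mem_preimage, hz₁]; exact hzN)
  obtain ⟨y', hy'z₁, hy'z₀, -⟩ := hN₀prop z₁ hz₁N₀
  refine ⟨f.fiberι y y', hmemF y', ?_, ?_⟩
  · rw [← hz₁]; exact hy'z₁.map (f.fiberι y).continuous
  · rw [← hz₀]
    exact (specializes_iff_mem_closure.mpr hy'z₀).map (f.fiberι y).continuous

/-- `Spec B[1/π]` is preconnected for a local ring `B`, `π` a nonzerodivisor with `(π)` radical. -/
theorem preconnectedSpace_away {B : Type*} [CommRing B] [IsLocalRing B] (π : B)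
    (hreg : ∀ b : B, π * b = 0 → b = 0) (hrad : (Ideal.span {π}).IsRadical)
    (B' : Type*) [CommRing B'] [Algebra B B'] [IsLocalization.Away π B'] :
    PreconnectedSpace (PrimeSpectrum B') := by
  rw [preconnectedSpace_iff_clopen]
  intro s hs
  obtain ⟨e, he, rfl⟩ := PrimeSpectrum.isClopen_iff.mp hs
  have hred : ∀ b : B, b * b ∈ Ideal.span {π} → b ∈ Ideal.span {π} := by
    intro b hb
    apply hrad
    exact ⟨2, by rw [pow_two]; exact hb⟩
  obtain ⟨e₀, he₀, hee₀⟩ := Groth.Agent.Lib.H47DvrFibre.exists_idem_of_away (B' := B') π hreg hred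
    e he
  rcases IsLocalRing.isUnit_or_isUnit_one_sub_self e₀ with hu | hu
  · right
    have h1 : e₀ = 1 := by
      have : e₀ * (e₀ - 1) = 0 := by linear_combination he₀
      have := (hu.mul_right_eq_zero).mp this
      linear_combination this
    rw [← hee₀, h1, map_one]
    simp
  · left
    have h0 : e₀ = 0 := by
      have : (1 - e₀) * e₀ = 0 := by linear_combination -he₀
      exact (hu.mul_right_eq_zero).mp this
    rw [← hee₀, h0, map_zero]
    simp

open Groth.Agent.Lib.FibreStalk33 Groth.Agent.Lib.H47DvrFibre Groth.Agent.Lib.H80DvrOpenFlat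
  IsLocalRing in
/-- Over a DVR with uniformizer `ϖ`: if `f` is open at the maximal points of the closed fibre
generizing `x` and the closed fibre is reduced at `x`, then `π = ϖ·1 ∈ 𝒪_{X,x}` is a
nonzerodivisor, `(π)` is radical, and a generization of `x` lies in the closed fibre iff its prime
contains `π`. -/
theorem regular_of_isOpenAt_of_isReduced {A : Type u} [CommRing A] [IsDomain A]
    [IsDiscreteValuationRing A] {X : Scheme.{u}} (f : X ⟶ Spec (CommRingCat.of A))
    [LocallyOfFiniteType f] (x : X)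
    (hx : f.base x = IsLocalRing.closedPoint A)
    (h : ∀ z : ↥(f.fiber (f.base x)), f.asFiber x ∈ closure {z} →
      (∀ z' : ↥(f.fiber (f.base x)), z ∈ closure {z'} → z' = z) →
        EGA43.IsOpenAt f.base ((f.fiberι (f.base x)).base z))
    (hred : _root_.IsReduced ((f.fiber (f.base x)).presheaf.stalk (f.asFiber x)))
    (ϖ : A) (hϖ : Irreducible ϖ) :
    (Ideal.span {toStalkX f x ϖ}).IsRadical ∧ (∀ b, toStalkX f x ϖ * b = 0 → b = 0) ∧
      ∀ q : Spec (X.presheaf.stalk x),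
        (f (X.fromSpecStalk x q) = closedPoint A ↔ toStalkX f x ϖ ∈ q.asIdeal) := by
  have hmax : maximalIdeal A = Ideal.span {ϖ} := hϖ.maximalIdeal_eq
  have hnil : ¬ IsNilpotent ϖ := by
    rw [isNilpotent_iff_eq_zero]; exact hϖ.ne_zero
  have hLN : IsLocallyNoetherian X := LocallyOfFiniteType.isLocallyNoetherian f
  have hfx : (f x).asIdeal = maximalIdeal A := by
    rw [show f x = closedPoint A from hx]; rfl
  have hI : Ideal.map (f.stalkMap x).hom
      (maximalIdeal ((Spec (CommRingCat.of A)).presheaf.stalk (f x))) =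
      Ideal.span {toStalkX f x ϖ} := by
    rw [fibreIdeal_eq, hfx, hmax, Ideal.map_span, Set.image_singleton]
  have hRed : IsReduced (X.presheaf.stalk x ⧸ Ideal.span {toStalkX f x ϖ}) := by
    rw [← hI]
    exact isReduced_of_injective (fibreStalkEquiv f x).toRingHom (fibreStalkEquiv f x).injective
  have hrad : (Ideal.span {toStalkX f x ϖ}).IsRadical :=
    (Ideal.isRadical_iff_quotient_reduced _).mpr hRed
  have hπmem : toStalkX f x ϖ ∈ maximalIdeal (X.presheaf.stalk x) := by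
    have e := asIdeal_fromSpecStalk f x (closedPoint (X.presheaf.stalk x))
    rw [Scheme.fromSpecStalk_closedPoint, hfx] at e
    have : ϖ ∈ maximalIdeal A := by rw [hmax]; exact Ideal.mem_span_singleton_self ϖ
    rw [e] at this
    exact this
  have hclosed : ∀ q : Spec (X.presheaf.stalk x),
      (f (X.fromSpecStalk x q) = closedPoint A ↔ toStalkX f x ϖ ∈ q.asIdeal) := by
    intro q
    constructor
    · intro hq
      have e := asIdeal_fromSpecStalk f x q
      rw [hq] at e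
      have : ϖ ∈ maximalIdeal A := by rw [hmax]; exact Ideal.mem_span_singleton_self ϖ
      have h2 : ϖ ∈ (closedPoint A).asIdeal := this
      rw [e] at h2
      exact h2
    · intro hq
      apply PrimeSpectrum.ext
      rw [asIdeal_fromSpecStalk]
      change _ = maximalIdeal A
      have : (Ideal.comap (toStalkX f x) q.asIdeal).IsPrime := inferInstance
      apply le_antisymm (IsLocalRing.le_maximalIdeal this.ne_top)
      rw [hmax, Ideal.span_singleton_le_iff_mem]
      exact hq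
  have hgen : ∀ q ∈ (Ideal.span {toStalkX f x ϖ}).minimalPrimes,
      ∃ p : Ideal (X.presheaf.stalk x), p.IsPrime ∧ p ≤ q ∧ toStalkX f x ϖ ∉ p := by
    intro q hq
    have hqprime : q.IsPrime := hq.1.1
    let Q : Spec (X.presheaf.stalk x) := ⟨q, hqprime⟩
    have hπq : toStalkX f x ϖ ∈ q := hq.1.2 (Ideal.mem_span_singleton_self _)
    have hfq : f (X.fromSpecStalk x Q) = closedPoint A := (hclosed Q).mpr hπq
    have hQx : X.fromSpecStalk x Q ⤳ x := by
      have : X.fromSpecStalk x Q ∈ Set.range (X.fromSpecStalk x) := ⟨Q, rfl⟩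
      rwa [Scheme.range_fromSpecStalk] at this
    obtain ⟨z, hz⟩ : X.fromSpecStalk x Q ∈ Set.range (f.fiberι (f x)) := by
      rw [Scheme.Hom.range_fiberι]; exact hfq.trans hx.symm
    have hz1 : f.asFiber x ∈ closure {z} := by
      rw [← specializes_iff_mem_closure,
        ← (f.fiberι (f x)).isEmbedding.isInducing.specializes_iff, hz, Scheme.Hom.fiberι_asFiber]
      exact hQx
    have hz2 : ∀ z' : ↥(f.fiber (f.base x)), z ∈ closure {z'} → z' = z := by
      intro z' hz'
      rw [← specializes_iff_mem_closure,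
        ← (f.fiberι (f x)).isEmbedding.isInducing.specializes_iff, hz] at hz'
      obtain ⟨Q', hQ'⟩ : f.fiberι (f x) z' ∈ Set.range (X.fromSpecStalk x) := by
        rw [Scheme.range_fromSpecStalk]; exact hz'.trans hQx
      have hle : Q'.asIdeal ≤ q := by
        have hspec : Q' ⤳ Q := by
          rw [← (X.fromSpecStalk x).isEmbedding.isInducing.specializes_iff, hQ']
          exact hz'
        exact (PrimeSpectrum.le_iff_specializes (Q' : PrimeSpectrum (X.presheaf.stalk x)) Q).mpr hspec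
      have hπQ' : toStalkX f x ϖ ∈ Q'.asIdeal := by
        have h1 : f (f.fiberι (f x) z') = f x := by
          have : f.fiberι (f x) z' ∈ Set.range (f.fiberι (f x)) := ⟨z', rfl⟩
          rwa [Scheme.Hom.range_fiberι] at this
        apply (hclosed Q').mp
        rw [hQ', h1]; exact hx
      have hQ'q : Q'.asIdeal = q :=
        le_antisymm hle (hq.2 ⟨Q'.isPrime, (Ideal.span_singleton_le_iff_mem _).mpr hπQ'⟩ hle)
      apply (f.fiberι (f x)).isEmbedding.injective
      rw [hz, ← hQ']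
      congr 1
      exact PrimeSpectrum.ext hQ'q
    have hopen := h z hz1 hz2
    have hopen' : EGA43.IsOpenAt f.base (X.fromSpecStalk x Q) := by
      rw [← hz]; exact hopen
    obtain ⟨p, hpq, hπp⟩ := exists_le_of_isOpenAt f ϖ hnil x Q hfq hopen'
    exact ⟨p.asIdeal, p.isPrime, hpq, hπp⟩
  exact ⟨hrad, eq_zero_of_mul_eq_zero_of_generizations (toStalkX f x ϖ) hπmem hrad hgen, hclosed⟩

open Groth.Agent.Lib.H47DvrFibre in
/-- Over a DVR, under the hypotheses of `regular_of_isOpenAt_of_isReduced`, the set of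
generizations of `x` outside the closed fibre is preconnected and nonempty. -/
theorem isPreconnected_generizations_dvr {A : Type u} [CommRing A] [IsDomain A]
    [IsDiscreteValuationRing A] {X : Scheme.{u}} (f : X ⟶ Spec (CommRingCat.of A))
    [LocallyOfFiniteType f] (x : X)
    (hx : f.base x = IsLocalRing.closedPoint A)
    (h : ∀ z : ↥(f.fiber (f.base x)), f.asFiber x ∈ closure {z} →
      (∀ z' : ↥(f.fiber (f.base x)), z ∈ closure {z'} → z' = z) →
        EGA43.IsOpenAt f.base ((f.fiberι (f.base x)).base z))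
    (hred : _root_.IsReduced ((f.fiber (f.base x)).presheaf.stalk (f.asFiber x))) :
    _root_.IsPreconnected {t : X | t ⤳ x ∧ f.base t ≠ IsLocalRing.closedPoint A} ∧
      {t : X | t ⤳ x ∧ f.base t ≠ IsLocalRing.closedPoint A}.Nonempty := by
  obtain ⟨ϖ, hϖ⟩ := IsDiscreteValuationRing.exists_irreducible A
  obtain ⟨hrad, hreg, hclosed⟩ := regular_of_isOpenAt_of_isReduced f x hx h hred ϖ hϖ
  obtain ⟨π, hπ⟩ : ∃ π, π = toStalkX f x ϖ := ⟨_, rfl⟩
  rw [← hπ] at hrad hreg hclosed
  let B' := Localization.Away π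
  have hPC : PreconnectedSpace (PrimeSpectrum B') := preconnectedSpace_away π hreg hrad B'
  have hpow : ∀ n : ℕ, π ^ n ≠ 0 := by
    intro n
    induction n with
    | zero => simp
    | succ n ih =>
      intro h0
      apply ih
      apply hreg
      rw [← pow_succ']
      exact h0
  have hNT : Nontrivial B' := by
    rcases subsingleton_or_nontrivial B' with hss | hnt
    · exfalso
      have h1 : algebraMap (X.presheaf.stalk x) B' 1 = algebraMap (X.presheaf.stalk x) B' 0 :=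
        Subsingleton.elim _ _
      obtain ⟨⟨c, ⟨n, rfl⟩⟩, hc⟩ := (IsLocalization.eq_iff_exists (Submonoid.powers π) B').mp h1
      simp only [mul_one, mul_zero] at hc
      exact hpow n hc
    · exact hnt
  let ψ : PrimeSpectrum B' → X := fun q =>
    X.fromSpecStalk x (PrimeSpectrum.comap (algebraMap (X.presheaf.stalk x) B') q)
  have hψ : Continuous ψ :=
    (X.fromSpecStalk x).continuous.comp
      (PrimeSpectrum.continuous_comap (algebraMap (X.presheaf.stalk x) B'))
  have hrange : Set.range ψ = {t : X | t ⤳ x ∧ f.base t ≠ IsLocalRing.closedPoint A} := by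
    have hr := PrimeSpectrum.localization_away_comap_range B' π
    ext t
    constructor
    · rintro ⟨q, rfl⟩
      have hmem : PrimeSpectrum.comap (algebraMap (X.presheaf.stalk x) B') q ∈
          Set.range (PrimeSpectrum.comap (algebraMap (X.presheaf.stalk x) B')) := ⟨q, rfl⟩
      rw [hr] at hmem
      refine ⟨?_, ?_⟩
      · have : ψ q ∈ Set.range (X.fromSpecStalk x) := ⟨_, rfl⟩
        rwa [Scheme.range_fromSpecStalk] at this
      · intro hcl
        exact hmem ((hclosed _).mp hcl)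
    · rintro ⟨htx, htf⟩
      obtain ⟨p, hp⟩ : t ∈ Set.range (X.fromSpecStalk x) := by
        rw [Scheme.range_fromSpecStalk]; exact htx
      have hπp : π ∉ p.asIdeal := by
        intro hmem
        apply htf
        rw [← hp]
        exact (hclosed p).mpr hmem
      have hpmem : (p : PrimeSpectrum (X.presheaf.stalk x)) ∈
          (PrimeSpectrum.basicOpen π : Set (PrimeSpectrum (X.presheaf.stalk x))) := hπp
      rw [← hr] at hpmem
      obtain ⟨q, hq⟩ := hpmem
      exact ⟨q, by show X.fromSpecStalk x _ = t; rw [hq, hp]⟩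
  rw [← hrange]
  exact ⟨isPreconnected_range hψ, Set.range_nonempty ψ⟩

/-- A point of the spectrum of a DVR other than the closed point is the generic point. -/
theorem eq_bot_of_ne_closedPoint {A : Type u} [CommRing A] [IsDomain A]
    [IsDiscreteValuationRing A] (p : PrimeSpectrum A) (hp : p ≠ IsLocalRing.closedPoint A) :
    p.asIdeal = ⊥ := by
  by_contra hne
  apply hp
  have hmax : p.asIdeal.IsMaximal := p.isPrime.isMaximal hne
  exact PrimeSpectrum.ext (IsLocalRing.eq_maximalIdeal hmax)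

/-- **Generization stability over a DVR, general case.** If `f` is open and the closed fibre is
reduced at every point of the closed section component `X_s^0`, then every generization of a point
of `X_s^0` lies in the section component of its fibre. -/
theorem mem_sectionComponent_of_specializes_dvr' {A : Type u} [CommRing A] [IsDomain A]
    [IsDiscreteValuationRing A] {X : Scheme.{u}} (f : X ⟶ Spec (CommRingCat.of A))
    [LocallyOfFiniteType f] (g : Spec (CommRingCat.of A) ⟶ X) (hg : g ≫ f = 𝟙 _)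
    (s : ↥(Spec (CommRingCat.of A))) (hs : s = IsLocalRing.closedPoint A)
    (hopen : ∀ u ∈ connectedComponentIn (f ⁻¹' {s}) (g s), EGA43.IsOpenAt f.base u)
    (hred : ∀ u ∈ connectedComponentIn (f ⁻¹' {s}) (g s),
      _root_.IsReduced ((f.fiber (f.base u)).presheaf.stalk (f.asFiber u)))
    (x' : X) (hx' : x' ∈ connectedComponentIn (f ⁻¹' {s}) (g s))
    (t : X) (ht : t ⤳ x') :
    t ∈ connectedComponentIn (f ⁻¹' {f t}) (g (f t)) := by
  have hfg : ∀ z, f (g z) = z := fun z => by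
    have := congrArg (fun φ : Spec (CommRingCat.of A) ⟶ Spec (CommRingCat.of A) => φ.base z) hg
    simpa using this
  have hfx' : f x' = s := (connectedComponentIn_subset _ _ hx' : x' ∈ f ⁻¹' {s})
  by_cases hft : f t = s
  · rw [hft]
    exact mem_connectedComponentIn_of_specializes (f ⁻¹' {s}) (g s) t x' hft hfx' ht hx'
  -- the generic point
  obtain ⟨η, hη⟩ : ∃ η, η = f t := ⟨_, rfl⟩
  rw [← hη] at hft ⊢
  have hηs : η ⤳ s := by rw [hs]; exact IsLocalRing.specializes_closedPoint η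
  have hηuniq : ∀ p : ↥(Spec (CommRingCat.of A)), p ≠ IsLocalRing.closedPoint A → p = η := by
    intro p hp
    apply PrimeSpectrum.ext
    rw [eq_bot_of_ne_closedPoint p hp, eq_bot_of_ne_closedPoint η (by rw [← hs]; exact hft)]
  -- the generizations of `u` in the generic fibre
  let G : X → Set X := fun u => {t : X | t ⤳ u ∧ f.base t ≠ IsLocalRing.closedPoint A}
  have hGF : ∀ u, G u ⊆ f ⁻¹' {η} := fun u t ht => hηuniq _ ht.2
  have hGpre : ∀ u ∈ connectedComponentIn (f ⁻¹' {s}) (g s),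
      _root_.IsPreconnected (G u) ∧ (G u).Nonempty := by
    intro u hu
    have hfu : f u = s := (connectedComponentIn_subset _ _ hu : u ∈ f ⁻¹' {s})
    refine isPreconnected_generizations_dvr f u (by rw [hfu, hs]) ?_ (hred u hu)
    intro z hz _
    apply hopen
    have h1 : f.fiberι (f u) z ⤳ u := by
      have := (specializes_iff_mem_closure.mpr hz).map (f.fiberι (f u)).continuous
      rwa [Scheme.Hom.fiberι_asFiber] at this
    have h2 : f.fiberι (f u) z ∈ f ⁻¹' {s} := by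
      have : f.fiberι (f u) z ∈ Set.range (f.fiberι (f u)) := ⟨z, rfl⟩
      rw [Scheme.Hom.range_fiberι] at this
      exact (this : f (f.fiberι (f u) z) = f u).trans hfu
    exact mem_connectedComponentIn_of_specializes (f ⁻¹' {s}) (g s) _ u h2 hfu h1 hu
  obtain ⟨c₀, hc₀⟩ : ∃ c₀, c₀ = connectedComponentIn (f ⁻¹' {η}) (g η) := ⟨_, rfl⟩
  let S : Set X := {u | u ∈ connectedComponentIn (f ⁻¹' {s}) (g s) ∧ G u ⊆ c₀}
  have hgsC : g s ∈ connectedComponentIn (f ⁻¹' {s}) (g s) := mem_connectedComponentIn (hfg s)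
  have hgsS : g s ∈ S := by
    refine ⟨hgsC, ?_⟩
    have hmem : g η ∈ G (g s) := by
      refine ⟨hηs.map g.continuous, ?_⟩
      show f.base (g.base η) ≠ _
      rw [hfg η, ← hs]; exact hft
    rw [hc₀]
    exact (hGpre (g s) hgsC).1.subset_connectedComponentIn hmem (hGF (g s))
  have hstable : ∀ a b, a ∈ f ⁻¹' {s} → b ∈ f ⁻¹' {s} → a ⤳ b → (a ∈ S ↔ b ∈ S) := by
    intro a b haF hbF hab
    have hGab : G a ⊆ G b := fun t ht => ⟨ht.1.trans hab, ht.2⟩
    constructor
    · rintro ⟨haC, haG⟩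
      have hbC := mem_connectedComponentIn_of_specializes' (f ⁻¹' {s}) (g s) a b haF hbF hab haC
      refine ⟨hbC, ?_⟩
      obtain ⟨t₀, ht₀⟩ := (hGpre a haC).2
      have ht₀c : t₀ ∈ c₀ := haG ht₀
      have h1 := (hGpre b hbC).1.subset_connectedComponentIn (hGab ht₀) (hGF b)
      rw [hc₀] at ht₀c ⊢
      rw [connectedComponentIn_eq ht₀c]
      exact h1
    · rintro ⟨hbC, hbG⟩
      have haC := mem_connectedComponentIn_of_specializes (f ⁻¹' {s}) (g s) a b haF hbF hab hbC
      exact ⟨haC, hGab.trans hbG⟩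
  have hsub := connectedComponentIn_subset_of_stable (f ⁻¹' {s}) (fibre_LG f s) (g s) S hstable hgsS
  have hx'S : x' ∈ S := hsub hx'
  have : t ∈ G x' := ⟨ht, by rw [← hη, ← hs]; exact hft⟩
  have h2 := hx'S.2 this
  rw [hc₀] at h2
  exact h2

open Groth.Agent.Lib.FibreStalk33 in
/-- Reducedness of the local ring of the fibre is insensitive to restricting to an open
subscheme of the source. -/
theorem isReduced_fibre_stalk_comp_openImmersion {X'' X' S : Scheme.{u}} (j : X'' ⟶ X')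
    [IsOpenImmersion j] (f' : X' ⟶ S) (u : X'')
    (h : _root_.IsReduced ((f'.fiber (f'.base (j.base u))).presheaf.stalk
      (f'.asFiber (j.base u)))) :
    _root_.IsReduced (((j ≫ f').fiber ((j ≫ f').base u)).presheaf.stalk ((j ≫ f').asFiber u)) := by
  have e1 := fibreStalkEquiv f' (j.base u)
  have e2 := fibreStalkEquiv (j ≫ f') u
  have h1 : IsReduced (X'.presheaf.stalk (j.base u) ⧸
      Ideal.map (f'.stalkMap (j.base u)).hom
        (IsLocalRing.maximalIdeal (S.presheaf.stalk (f'.base (j.base u))))) :=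
    isReduced_of_injective e1.toRingHom e1.injective
  have hrad1 := (Ideal.isRadical_iff_quotient_reduced _).mpr h1
  have hbij : Function.Bijective (j.stalkMap u).hom :=
    ConcreteCategory.bijective_of_isIso (j.stalkMap u)
  let e : X'.presheaf.stalk (j.base u) ≃+* X''.presheaf.stalk u :=
    RingEquiv.ofBijective (j.stalkMap u).hom hbij
  have hI : Ideal.map ((j ≫ f').stalkMap u).hom
      (IsLocalRing.maximalIdeal (S.presheaf.stalk ((j ≫ f').base u))) =
      Ideal.comap e.symm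
        (Ideal.map (f'.stalkMap (j.base u)).hom
          (IsLocalRing.maximalIdeal (S.presheaf.stalk (f'.base (j.base u))))) := by
    rw [Ideal.comap_symm, Scheme.Hom.stalkMap_comp]
    change _ = Ideal.map e.toRingHom _
    rw [Ideal.map_map]
    rfl
  have hrad2 : (Ideal.map ((j ≫ f').stalkMap u).hom
      (IsLocalRing.maximalIdeal (S.presheaf.stalk ((j ≫ f').base u)))).IsRadical := by
    rw [hI]
    exact Ideal.IsRadical.comap e.symm hrad1
  have h2 : IsReduced (X''.presheaf.stalk u ⧸ Ideal.map ((j ≫ f').stalkMap u).hom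
      (IsLocalRing.maximalIdeal (S.presheaf.stalk ((j ≫ f').base u)))) :=
    (Ideal.isRadical_iff_quotient_reduced _).mp hrad2
  exact isReduced_of_injective e2.symm.toRingHom e2.symm.injective

/-- **Core neighbourhood theorem** (finite type, Noetherian total space). If over every trait
`Spec A ⟶ Y₁` through `f₁ x₁` the base change of `f₁` is open and has reduced fibre stalks at the
points lying over `X_{f₁ x₁}^0`, then the section components form a neighbourhood of `x₁`. -/
theorem sectionComponents_mem_nhds_of_dvr_hyp {X₁ Y₁ : Scheme.{u}} [IsLocallyNoetherian Y₁]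
    (f₁ : X₁ ⟶ Y₁) [LocallyOfFiniteType f₁] [QuasiCompact f₁] [NoetherianSpace X₁]
    (g₁ : Y₁ ⟶ X₁) (hg₁ : g₁ ≫ f₁ = 𝟙 Y₁) (x₁ : X₁)
    (hx₁ : x₁ ∈ MoreMor.sectionComponents f₁ g₁)
    (H : ∀ (A : Type u) [CommRing A] [IsDomain A] [IsDiscreteValuationRing A]
      (h₁ : Spec (CommRingCat.of A) ⟶ Y₁), h₁ (IsLocalRing.closedPoint A) = f₁ x₁ →
      ∀ u : ↥(pullback f₁ h₁),
        (pullback.fst f₁ h₁) u ∈ connectedComponentIn (f₁ ⁻¹' {f₁ x₁}) (g₁ (f₁ x₁)) →
        EGA43.IsOpenAt (pullback.snd f₁ h₁).base u ∧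
          _root_.IsReduced (((pullback.snd f₁ h₁).fiber ((pullback.snd f₁ h₁).base u)).presheaf.stalk
            ((pullback.snd f₁ h₁).asFiber u))) :
    MoreMor.sectionComponents f₁ g₁ ∈ nhds x₁ := by
  apply sectionComponents_mem_nhds_of_forall_specializes f₁ g₁ hg₁ x₁
  intro t₁ ht₁
  by_cases hne : t₁ = x₁
  · rw [hne]; exact hx₁
  have hLN : IsLocallyNoetherian X₁ := LocallyOfFiniteType.isLocallyNoetherian f₁
  obtain ⟨A, hAring, hAdom, hAdvr, k, hcl, -, τ, hτ⟩ :=
    Groth.Agent.Lib.H80DvrGeom.exists_dvr_map x₁ t₁ hne ht₁ (X₁.residueField t₁)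
  have hgenpt : k (genericPoint (Spec (CommRingCat.of A))) = t₁ := by
    obtain ⟨q⟩ : Nonempty (Spec ((Spec (CommRingCat.of A)).residueField
      (genericPoint (Spec (CommRingCat.of A))))) := inferInstance
    have h1 := congrArg (fun k => k.base q) hτ
    simp only [Scheme.Hom.comp_base, TopCat.coe_comp, Function.comp_apply] at h1
    rw [Scheme.fromSpecResidueField_apply, Scheme.fromSpecResidueField_apply] at h1
    exact h1
  obtain ⟨s, hs⟩ : ∃ s : ↥(Spec (CommRingCat.of A)), s = IsLocalRing.closedPoint A := ⟨_, rfl⟩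
  rw [← hs] at hcl
  obtain ⟨η, hηdef⟩ : ∃ η : ↥(Spec (CommRingCat.of A)),
    η = genericPoint (Spec (CommRingCat.of A)) := ⟨_, rfl⟩
  rw [← hηdef] at hgenpt
  obtain ⟨h₁, hh₁⟩ : ∃ h₁ : Spec (CommRingCat.of A) ⟶ Y₁, h₁ = k ≫ f₁ := ⟨_, rfl⟩
  have hh₁z : ∀ z, h₁ z = f₁ (k z) := fun z => by rw [hh₁]; rfl
  have hsq : IsPullback (pullback.fst f₁ h₁) (pullback.snd f₁ h₁) f₁ h₁ :=
    IsPullback.of_hasPullback f₁ h₁
  have hH := H A h₁ (by rw [← hs, hh₁z, hcl])
  obtain ⟨p, hp⟩ : ∃ p : pullback f₁ h₁ ⟶ X₁, p = pullback.fst f₁ h₁ := ⟨_, rfl⟩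
  obtain ⟨f', hf'⟩ : ∃ f' : pullback f₁ h₁ ⟶ Spec (CommRingCat.of A), f' = pullback.snd f₁ h₁ :=
    ⟨_, rfl⟩
  rw [← hp, ← hf'] at hsq hH
  have hlft : LocallyOfFiniteType f' := MorphismProperty.of_isPullback hsq inferInstance
  let g' : Spec (CommRingCat.of A) ⟶ pullback f₁ h₁ := hsq.lift (h₁ ≫ g₁) (𝟙 _) (by
    rw [Category.assoc, hg₁, Category.comp_id, Category.id_comp])
  have hg' : g' ≫ f' = 𝟙 _ := hsq.lift_snd _ _ _
  have hgp : g' ≫ p = h₁ ≫ g₁ := hsq.lift_fst _ _ _
  let γ : Spec (CommRingCat.of A) ⟶ pullback f₁ h₁ := hsq.lift k (𝟙 _) (by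
    rw [Category.id_comp, hh₁])
  have hγf : γ ≫ f' = 𝟙 _ := hsq.lift_snd _ _ _
  have hγp : γ ≫ p = k := hsq.lift_fst _ _ _
  have hf'γ : ∀ z', f' (γ z') = z' := fun z' => by
    have := congrArg (fun φ : Spec (CommRingCat.of A) ⟶ Spec (CommRingCat.of A) => φ.base z') hγf
    simpa using this
  have hpγ : ∀ z', p (γ z') = k z' := fun z' => by
    have := congrArg (fun φ : Spec (CommRingCat.of A) ⟶ X₁ => φ.base z') hγp
    simpa using this
  have hfp : ∀ u : ↥(pullback f₁ h₁), f₁ (p u) = h₁ (f' u) := fun u => by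
    have := congrArg (fun φ : pullback f₁ h₁ ⟶ Y₁ => φ.base u) hsq.w
    simpa using this
  have hE : MoreMor.sectionComponents f' g' = p ⁻¹' MoreMor.sectionComponents f₁ g₁ :=
    Groth.Agent.Lib.H71SectionComp.sectionComponents_baseChange f₁ g₁ hg₁ f' p h₁ hsq g' hg' hgp
  have hx''C : γ s ∈ connectedComponentIn (f' ⁻¹' {s}) (g' s) := by
    have h1 : γ s ∈ MoreMor.sectionComponents f' g' := by
      rw [hE]
      show p (γ s) ∈ MoreMor.sectionComponents f₁ g₁
      rw [hpγ, hcl]; exact hx₁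
    have h2 : γ s ∈ connectedComponentIn (f' ⁻¹' {f' (γ s)}) (g' (f' (γ s))) := h1
    rwa [hf'γ s] at h2
  have hC : ∀ u ∈ connectedComponentIn (f' ⁻¹' {s}) (g' s),
      p u ∈ connectedComponentIn (f₁ ⁻¹' {f₁ x₁}) (g₁ (f₁ x₁)) := by
    intro u hu
    have hfu : f' u = s := (connectedComponentIn_subset _ _ hu : u ∈ f' ⁻¹' {s})
    have h1 : u ∈ MoreMor.sectionComponents f' g' := by
      show u ∈ connectedComponentIn (f' ⁻¹' {f' u}) (g' (f' u))
      rw [hfu]; exact hu
    rw [hE] at h1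
    have h2 : p u ∈ connectedComponentIn (f₁ ⁻¹' {f₁ (p u)}) (g₁ (f₁ (p u))) := h1
    have h3 : f₁ (p u) = f₁ x₁ := by rw [hfp, hfu, hh₁z, hcl]
    rwa [h3] at h2
  have hsp : γ η ⤳ γ s := by
    have hηs : η ⤳ s := by rw [hs]; exact IsLocalRing.specializes_closedPoint η
    exact hηs.map γ.continuous
  have hmain := mem_sectionComponent_of_specializes_dvr' f' g' hg' s hs
    (fun u hu => (hH u (hC u hu)).1) (fun u hu => (hH u (hC u hu)).2) (γ s) hx''C (γ η) hsp
  have h4 : γ η ∈ MoreMor.sectionComponents f' g' := hmain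
  rw [hE] at h4
  have h5 : p (γ η) ∈ MoreMor.sectionComponents f₁ g₁ := h4
  rwa [hpγ, hgenpt] at h5

/-- Two points of a connected component of a fibre (`X` locally Noetherian) are already linked
inside an open subset of `X` whose underlying space is Noetherian. -/
theorem exists_noetherian_open_connecting {X Y : Scheme.{u}} [IsLocallyNoetherian X]
    (f : X ⟶ Y) [LocallyOfFiniteType f] (y : Y) (x₀ x : X) (hx₀ : f x₀ = y)
    (hx : x ∈ connectedComponentIn (f ⁻¹' {y}) x₀) :
    ∃ U : X.Opens, NoetherianSpace ((U : Set X)) ∧ x₀ ∈ U ∧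
      x ∈ connectedComponentIn ((U : Set X) ∩ f ⁻¹' {y}) x₀ := by
  have haff : ∀ b : X, ∃ M : X.Opens, NoetherianSpace ((M : Set X)) ∧ b ∈ M := by
    intro b
    obtain ⟨_, ⟨M, hM, rfl⟩, hbM, -⟩ := X.isBasis_affineOpens.exists_subset_of_mem_open
      (Set.mem_univ b) isOpen_univ
    have hNR : IsNoetherianRing Γ(X, M) := IsLocallyNoetherian.component_noetherian ⟨M, hM⟩
    exact ⟨M, noetherianSpace_of_isAffineOpen M hM, hbM⟩
  have hunion : ∀ U M : X.Opens, NoetherianSpace ((U : Set X)) → NoetherianSpace ((M : Set X)) →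
      NoetherianSpace (((U ⊔ M : X.Opens) : Set X)) := by
    intro U M hU hM
    rw [noetherianSpace_set_iff] at hU hM ⊢
    intro t ht
    have e : t = (t ∩ U) ∪ (t ∩ M) := by
      rw [← Set.inter_union_distrib_left]
      exact (Set.inter_eq_left.mpr ht).symm
    rw [e]
    exact (hU _ Set.inter_subset_right).union (hM _ Set.inter_subset_right)
  let S : Set X := {u | ∃ U : X.Opens, NoetherianSpace ((U : Set X)) ∧ x₀ ∈ U ∧
    u ∈ connectedComponentIn ((U : Set X) ∩ f ⁻¹' {y}) x₀}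
  have hx₀S : x₀ ∈ S := by
    obtain ⟨M, hM, hx₀M⟩ := haff x₀
    exact ⟨M, hM, hx₀M, mem_connectedComponentIn ⟨hx₀M, hx₀⟩⟩
  have hstable : ∀ a b, a ∈ f ⁻¹' {y} → b ∈ f ⁻¹' {y} → a ⤳ b → (a ∈ S ↔ b ∈ S) := by
    intro a b haF hbF hab
    constructor
    · rintro ⟨U, hU, hx₀U, haU⟩
      obtain ⟨M, hM, hbM⟩ := haff b
      have haM : a ∈ M := hab.mem_open M.isOpen hbM
      refine ⟨U ⊔ M, hunion U M hU hM, Or.inl hx₀U, ?_⟩
      have hmono : connectedComponentIn ((U : Set X) ∩ f ⁻¹' {y}) x₀ ⊆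
          connectedComponentIn (((U ⊔ M : X.Opens) : Set X) ∩ f ⁻¹' {y}) x₀ :=
        connectedComponentIn_mono x₀ (Set.inter_subset_inter_left _ (fun z hz => Or.inl hz))
      exact mem_connectedComponentIn_of_specializes' _ x₀ a b ⟨Or.inr haM, haF⟩ ⟨Or.inr hbM, hbF⟩
        hab (hmono haU)
    · rintro ⟨U, hU, hx₀U, hbU⟩
      have hbU' : b ∈ (U : Set X) ∩ f ⁻¹' {y} := connectedComponentIn_subset _ _ hbU
      have haU : a ∈ U := hab.mem_open U.isOpen hbU'.1
      exact ⟨U, hU, hx₀U,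
        mem_connectedComponentIn_of_specializes _ x₀ a b ⟨haU, haF⟩ hbU' hab hbU⟩
  exact connectedComponentIn_subset_of_stable (f ⁻¹' {y}) (fibre_LG f y) x₀ S hstable hx₀S hx

/-- **EGA IV 15.6.4-type.** `Y` locally Noetherian, `f` locally of finite type with a section `g`.
If `f` is universally open and the fibre geometrically reduced at every point of `X_y^0`, then the
union `X^0` of the section components is a neighbourhood of every point of `X_y^0`. -/
theorem sectionComponents_mem_nhds_of_univOpen_geomReduced {X Y : Scheme.{u}}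
    [IsLocallyNoetherian Y] (f : X ⟶ Y) [LocallyOfFiniteType f] (g : Y ⟶ X) (hg : g ≫ f = 𝟙 Y)
    (y : Y)
    (hyp : ∀ x ∈ connectedComponentIn (f.base ⁻¹' {y}) (g.base y), EGA43.IsUnivOpenAt f x ∧
      FBase.IsGeomReducedAt (f.fiberToSpecResidueField (f.base x)) (f.asFiber x))
    (x : X) (hx : x ∈ connectedComponentIn (f.base ⁻¹' {y}) (g.base y)) :
    MoreMor.sectionComponents f g ∈ nhds x := by
  have hLN : IsLocallyNoetherian X := LocallyOfFiniteType.isLocallyNoetherian f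
  have hfg : ∀ z : Y, f (g z) = z := fun z => by
    have := congrArg (fun φ : Y ⟶ Y => φ.base z) hg
    simpa using this
  have hfx : f x = y := (connectedComponentIn_subset _ _ hx : x ∈ f ⁻¹' {y})
  obtain ⟨U, hUN, hgU, hxU⟩ := exists_noetherian_open_connecting f y (g y) x (hfg y) hx
  have hyU : y ∈ g ⁻¹ᵁ U := hgU
  obtain ⟨Y₂, hY₂, hyY₂, hY₂sub⟩ : ∃ Y₂ : Y.Opens, IsAffineOpen Y₂ ∧ y ∈ Y₂ ∧
      (Y₂ : Set Y) ⊆ (g ⁻¹ᵁ U : Y.Opens) := by
    obtain ⟨_, ⟨Y₂, hY₂, rfl⟩, hyY₂, hY₂sub⟩ := Y.isBasis_affineOpens.exists_subset_of_mem_open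
      hyU (g ⁻¹ᵁ U).2
    exact ⟨Y₂, hY₂, hyY₂, hY₂sub⟩
  obtain ⟨U₁, hU₁⟩ : ∃ U₁ : X.Opens, U₁ = U ⊓ f ⁻¹ᵁ Y₂ := ⟨_, rfl⟩
  have hU₁Y₂ : U₁ ≤ f ⁻¹ᵁ Y₂ := by rw [hU₁]; exact inf_le_right
  have hY₂U₁ : Y₂ ≤ g ⁻¹ᵁ U₁ := by
    intro z hz
    rw [hU₁]
    refine ⟨hY₂sub hz, ?_⟩
    show f (g z) ∈ Y₂
    rw [hfg z]; exact hz
  have hxUF : x ∈ (U : Set X) ∩ f ⁻¹' {y} := connectedComponentIn_subset _ _ hxU
  have hxU₁ : x ∈ U₁ := by
    rw [hU₁]
    exact ⟨hxUF.1, by show f x ∈ Y₂; rw [hfx]; exact hyY₂⟩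
  have hcomp : IsCompact (U₁ : Set X) := by
    apply (noetherianSpace_set_iff _).mp hUN
    rw [hU₁]
    exact fun z hz => hz.1
  have hCS : CompactSpace ↥U₁ := isCompact_iff_compactSpace.mp hcomp
  have hN : IsNoetherian (U₁ : Scheme.{u}) := { toCompactSpace := hCS }
  obtain ⟨f₁, hf₁⟩ : ∃ f₁ : (U₁ : Scheme.{u}) ⟶ Y₂, f₁ = f.resLE Y₂ U₁ hU₁Y₂ := ⟨_, rfl⟩
  obtain ⟨g₁, hg₁def⟩ : ∃ g₁ : (Y₂ : Scheme.{u}) ⟶ U₁, g₁ = g.resLE U₁ Y₂ hY₂U₁ := ⟨_, rfl⟩
  have hg₁ : g₁ ≫ f₁ = 𝟙 _ := by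
    rw [hg₁def, hf₁, Scheme.Hom.resLE_comp_resLE]
    simp only [hg]
    rw [Scheme.Hom.resLE_id]
    simp
  have hlft : LocallyOfFiniteType f₁ := by rw [hf₁]; infer_instance
  have hf₁v : ∀ u : ↥U₁, (f₁ u).1 = f u.1 := fun u => by
    rw [hf₁]; exact Scheme.Hom.coe_resLE_apply f hU₁Y₂ u
  have hg₁v : ∀ z : ↥Y₂, (g₁ z).1 = g z.1 := fun z => by
    rw [hg₁def]; exact Scheme.Hom.coe_resLE_apply g hY₂U₁ z
  have hval : Topology.IsOpenEmbedding (Subtype.val : ↥U₁ → X) := U₁.2.isOpenEmbedding_subtypeVal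
  have ha : ∀ u : ↥U₁, u ∈ MoreMor.sectionComponents f₁ g₁ →
      u.1 ∈ MoreMor.sectionComponents f g := by
    intro u hu
    have hpre : _root_.IsPreconnected (Subtype.val ''
        connectedComponentIn (f₁ ⁻¹' {f₁ u}) (g₁ (f₁ u))) :=
      isPreconnected_connectedComponentIn.image _ continuous_subtype_val.continuousOn
    have hsub : Subtype.val '' connectedComponentIn (f₁ ⁻¹' {f₁ u}) (g₁ (f₁ u)) ⊆
        f ⁻¹' {f u.1} := by
      rintro _ ⟨w, hw, rfl⟩
      have hw' : f₁ w = f₁ u := (connectedComponentIn_subset _ _ hw : w ∈ f₁ ⁻¹' {f₁ u})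
      show f w.1 = f u.1
      rw [← hf₁v, ← hf₁v, hw']
    have hmem : g (f u.1) ∈ Subtype.val ''
        connectedComponentIn (f₁ ⁻¹' {f₁ u}) (g₁ (f₁ u)) := by
      refine ⟨g₁ (f₁ u), mem_connectedComponentIn ?_, ?_⟩
      · have := congrArg (fun φ : (Y₂ : Scheme.{u}) ⟶ Y₂ => φ.base (f₁ u)) hg₁
        simpa using this
      · rw [hg₁v, hf₁v]
    exact hpre.subset_connectedComponentIn hmem hsub ⟨u, hu, rfl⟩
  -- `x` lies in the section components of the restriction
  have hx₁E : (⟨x, hxU₁⟩ : ↥U₁) ∈ MoreMor.sectionComponents f₁ g₁ := by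
    obtain ⟨CU, hCU⟩ : ∃ CU, CU = connectedComponentIn ((U : Set X) ∩ f ⁻¹' {y}) (g y) :=
      ⟨_, rfl⟩
    rw [← hCU] at hxU
    have hCUsub : CU ⊆ (U : Set X) ∩ f ⁻¹' {y} := by
      rw [hCU]; exact connectedComponentIn_subset _ _
    have hCU₁ : CU ⊆ (U₁ : Set X) := by
      intro z hz
      have := hCUsub hz
      rw [hU₁]
      exact ⟨this.1, by show f z ∈ Y₂; rw [this.2]; exact hyY₂⟩
    have hpre : _root_.IsPreconnected ((Subtype.val : ↥U₁ → X) ⁻¹' CU) := by
      apply hval.isInducing.isPreconnected_image.mp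
      have himg : (Subtype.val : ↥U₁ → X) '' ((Subtype.val : ↥U₁ → X) ⁻¹' CU) = CU := by
        apply Set.image_preimage_eq_of_subset
        intro z hz
        exact ⟨⟨z, hCU₁ hz⟩, rfl⟩
      rw [himg, hCU]
      exact isPreconnected_connectedComponentIn
    have hsub : (Subtype.val : ↥U₁ → X) ⁻¹' CU ⊆ f₁ ⁻¹' {f₁ ⟨x, hxU₁⟩} := by
      intro w hw
      have hw' : f w.1 = y := (hCUsub hw).2
      show f₁ w = f₁ ⟨x, hxU₁⟩
      apply Subtype.ext
      rw [hf₁v, hf₁v, hw', hfx]
    have hmem : g₁ (f₁ ⟨x, hxU₁⟩) ∈ (Subtype.val : ↥U₁ → X) ⁻¹' CU := by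
      show (g₁ (f₁ ⟨x, hxU₁⟩)).1 ∈ CU
      rw [hg₁v, hf₁v, hCU]
      show g (f x) ∈ _
      rw [hfx]
      exact mem_connectedComponentIn ⟨hgU, hfg y⟩
    exact hpre.subset_connectedComponentIn hmem hsub hxU
  -- the hypotheses over traits
  have H : ∀ (A : Type u) [CommRing A] [IsDomain A] [IsDiscreteValuationRing A]
      (h₁ : Spec (CommRingCat.of A) ⟶ Y₂), h₁ (IsLocalRing.closedPoint A) = f₁ ⟨x, hxU₁⟩ →
      ∀ u : ↥(pullback f₁ h₁),
        (pullback.fst f₁ h₁) u ∈ connectedComponentIn (f₁ ⁻¹' {f₁ ⟨x, hxU₁⟩})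
          (g₁ (f₁ ⟨x, hxU₁⟩)) →
        EGA43.IsOpenAt (pullback.snd f₁ h₁).base u ∧
          _root_.IsReduced (((pullback.snd f₁ h₁).fiber ((pullback.snd f₁ h₁).base u)).presheaf.stalk
            ((pullback.snd f₁ h₁).asFiber u)) := by
    intro A _ _ _ h₁ hcl u hu
    obtain ⟨h, hh⟩ : ∃ h : Spec (CommRingCat.of A) ⟶ Y, h = h₁ ≫ Y₂.ι := ⟨_, rfl⟩
    have e₁ : f₁ ≫ Y₂.ι = U₁.ι ≫ f := by rw [hf₁]; exact Scheme.Hom.resLE_comp_ι f hU₁Y₂
    have e₂ : h₁ ≫ Y₂.ι = 𝟙 _ ≫ h := by rw [hh, Category.id_comp]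
    let j : pullback f₁ h₁ ⟶ pullback f h := pullback.map f₁ h₁ f h U₁.ι (𝟙 _) Y₂.ι e₁ e₂
    have hj : IsOpenImmersion j := inferInstance
    have hjsnd : j ≫ pullback.snd f h = pullback.snd f₁ h₁ := by
      simp only [j, pullback.lift_snd, Category.comp_id]
    have hjfst : j ≫ pullback.fst f h = pullback.fst f₁ h₁ ≫ U₁.ι := by
      simp only [j, pullback.lift_fst]
    obtain ⟨w, hw⟩ : ∃ w : ↥U₁, w = (pullback.fst f₁ h₁) u := ⟨_, rfl⟩
    rw [← hw] at hu
    have hxu : (pullback.fst f h) (j u) = w.1 := by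
      have := congrArg (fun φ : pullback f₁ h₁ ⟶ X => φ.base u) hjfst
      simp only [Scheme.Hom.comp_base, TopCat.coe_comp, Function.comp_apply] at this
      rw [this, ← hw]
      rfl
    have hwC : w.1 ∈ connectedComponentIn (f ⁻¹' {y}) (g y) := by
      have hfw : f₁ w = f₁ ⟨x, hxU₁⟩ :=
        (connectedComponentIn_subset _ _ hu : w ∈ f₁ ⁻¹' {f₁ ⟨x, hxU₁⟩})
      have h1 : w ∈ MoreMor.sectionComponents f₁ g₁ := by
        show w ∈ connectedComponentIn (f₁ ⁻¹' {f₁ w}) (g₁ (f₁ w))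
        rw [hfw]; exact hu
      have h2 : w.1 ∈ connectedComponentIn (f ⁻¹' {f w.1}) (g (f w.1)) := ha w h1
      have h3 : f w.1 = y := by
        rw [← hf₁v, hfw, hf₁v]; exact hfx
      rwa [h3] at h2
    obtain ⟨hUO, hGR⟩ := hyp w.1 hwC
    have hO : EGA43.IsOpenAt (pullback.snd f h).base (j u) := hUO _ h (j u) hxu
    refine ⟨?_, ?_⟩
    · intro N hN
      have h1 := hO (j '' N) (j.isOpenEmbedding.image_mem_nhds.mpr hN)
      rw [← hjsnd, Scheme.Hom.comp_base, TopCat.coe_comp, Set.image_comp]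
      exact h1
    · have hA : _root_.IsReduced (((pullback.snd f h).fiber ((pullback.snd f h).base (j.base u))).presheaf.stalk
          ((pullback.snd f h).asFiber (j.base u))) := by
        apply isReduced_fibre_stalk_of_isGeomReducedAt f h (pullback.fst f h) (pullback.snd f h)
          (IsPullback.of_hasPullback f h) (j u)
        rw [hxu]
        exact hGR
      have hB := isReduced_fibre_stalk_comp_openImmersion j (pullback.snd f h) u hA
      rw [hjsnd] at hB
      exact hB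
  have hnhds := sectionComponents_mem_nhds_of_dvr_hyp f₁ g₁ hg₁ ⟨x, hxU₁⟩ hx₁E H
  have himg := (hval.image_mem_nhds (x := (⟨x, hxU₁⟩ : ↥U₁))).mpr hnhds
  refine Filter.mem_of_superset himg ?_
  rintro _ ⟨u, hu, rfl⟩
  exact ha u hu

end Groth.Agent.Lib.H80SecOpenGen
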