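import Groth.Agent.Lib.H80SecOpenFP
import Groth.Agent.Lib.H69SchReduced

/-!
# Openness of the section components of a smooth morphism (helper80)

`isOpen_sectionComponents_of_smooth`: `f : X ⟶ S` smooth, `X` quasi-separated, `e` a section; then
the union `X^0` of the connected components of the fibres through the section is open
(EGA IV 15.6.5). No quasi-compactness is assumed.
-/

set_option autoImplicit false
set_option maxHeartbeats 400000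
set_option linter.style.haveILetI false

universe u

open CategoryTheory Limits AlgebraicGeometry Topology TopologicalSpace

namespace Groth.Agent.Lib.H80SecOpenSmooth

open Groth.Agent.Lib.H80SecDimConst Groth.Agent.Lib.H80SecOpen Groth.Agent.Lib.H80SecOpenGen
  Groth.Agent.Lib.H80SecOpenFP

/-- Two points of a connected component of a fibre are already linked inside an open subset
satisfying `P`, for any property `P` of opens stable under binary unions and holding on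
neighbourhoods of the points of the fibre. -/
theorem exists_open_connecting {X Y : Scheme.{u}} (f : X ⟶ Y) [LocallyOfFiniteType f] (y : Y)
    (x₀ x : X) (hx₀ : f x₀ = y) (hx : x ∈ connectedComponentIn (f ⁻¹' {y}) x₀)
    (P : X.Opens → Prop) (haff : ∀ b : X, f b = y → ∃ M : X.Opens, P M ∧ b ∈ M)
    (hunion : ∀ U M : X.Opens, P U → P M → P (U ⊔ M)) :
    ∃ U : X.Opens, P U ∧ x₀ ∈ U ∧ x ∈ connectedComponentIn ((U : Set X) ∩ f ⁻¹' {y}) x₀ := by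
  let S : Set X := {u | ∃ U : X.Opens, P U ∧ x₀ ∈ U ∧
    u ∈ connectedComponentIn ((U : Set X) ∩ f ⁻¹' {y}) x₀}
  have hx₀S : x₀ ∈ S := by
    obtain ⟨M, hM, hx₀M⟩ := haff x₀ hx₀
    exact ⟨M, hM, hx₀M, mem_connectedComponentIn ⟨hx₀M, hx₀⟩⟩
  have hstable : ∀ a b, a ∈ f ⁻¹' {y} → b ∈ f ⁻¹' {y} → a ⤳ b → (a ∈ S ↔ b ∈ S) := by
    intro a b haF hbF hab
    constructor
    · rintro ⟨U, hU, hx₀U, haU⟩
      obtain ⟨M, hM, hbM⟩ := haff b hbF
      have haM : a ∈ M := hab.mem_open M.isOpen hbM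
      refine ⟨U ⊔ M, hunion U M hU hM, Or.inl hx₀U, ?_⟩
      have hmono : connectedComponentIn ((U : Set X) ∩ f ⁻¹' {y}) x₀ ⊆
          connectedComponentIn (((U ⊔ M : X.Opens) : Set X) ∩ f ⁻¹' {y}) x₀ :=
        connectedComponentIn_mono x₀ (Set.inter_subset_inter_left _ (fun z hz => Or.inl hz))
      exact mem_connectedComponentIn_of_specializes' _ x₀ a b ⟨Or.inr haM, haF⟩ ⟨Or.inr hbM, hbF⟩
        hab (hmono haU)
    · rintro ⟨U, hU, hx₀U, hbU⟩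
      have hbU' : b ∈ (U : Set X) ∩ f ⁻¹' {y} := connectedComponentIn_subset _ _ hbU
      have haU : a ∈ U := hab.mem_open U.isOpen hbU'.1
      exact ⟨U, hU, hx₀U,
        mem_connectedComponentIn_of_specializes _ x₀ a b ⟨haU, haF⟩ hbU' hab hbU⟩
  exact connectedComponentIn_subset_of_stable (f ⁻¹' {y}) (fibre_LG f y) x₀ S hstable hx₀S hx

section Restrict

variable {X Y : Scheme.{u}} (f : X ⟶ Y) (g : Y ⟶ X) (hg : g ≫ f = 𝟙 Y)
  (U₁ : X.Opens) (Y₂ : Y.Opens) (hU₁Y₂ : U₁ ≤ f ⁻¹ᵁ Y₂) (hY₂U₁ : Y₂ ≤ g ⁻¹ᵁ U₁)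

include hg in
theorem resLE_section : g.resLE U₁ Y₂ hY₂U₁ ≫ f.resLE Y₂ U₁ hU₁Y₂ = 𝟙 _ := by
  rw [Scheme.Hom.resLE_comp_resLE]
  simp only [hg]
  rw [Scheme.Hom.resLE_id]
  simp

include hg in
/-- The section components of a restriction are contained in the section components. -/
theorem sectionComponents_resLE_subset (u : ↥U₁)
    (hu : u ∈ MoreMor.sectionComponents (f.resLE Y₂ U₁ hU₁Y₂) (g.resLE U₁ Y₂ hY₂U₁)) :
    u.1 ∈ MoreMor.sectionComponents f g := by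
  obtain ⟨f₁, hf₁⟩ : ∃ f₁ : (U₁ : Scheme.{u}) ⟶ Y₂, f₁ = f.resLE Y₂ U₁ hU₁Y₂ := ⟨_, rfl⟩
  obtain ⟨g₁, hg₁def⟩ : ∃ g₁ : (Y₂ : Scheme.{u}) ⟶ U₁, g₁ = g.resLE U₁ Y₂ hY₂U₁ := ⟨_, rfl⟩
  have hg₁ : g₁ ≫ f₁ = 𝟙 _ := by
    rw [hg₁def, hf₁]; exact resLE_section f g hg U₁ Y₂ hU₁Y₂ hY₂U₁
  rw [← hf₁, ← hg₁def] at hu
  have hf₁v : ∀ u : ↥U₁, (f₁ u).1 = f u.1 := fun u => by
    rw [hf₁]; exact Scheme.Hom.coe_resLE_apply f hU₁Y₂ u
  have hg₁v : ∀ z : ↥Y₂, (g₁ z).1 = g z.1 := fun z => by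
    rw [hg₁def]; exact Scheme.Hom.coe_resLE_apply g hY₂U₁ z
  have hpre : _root_.IsPreconnected (Subtype.val ''
      connectedComponentIn (f₁ ⁻¹' {f₁ u}) (g₁ (f₁ u))) :=
    isPreconnected_connectedComponentIn.image _ continuous_subtype_val.continuousOn
  have hsub : Subtype.val '' connectedComponentIn (f₁ ⁻¹' {f₁ u}) (g₁ (f₁ u)) ⊆
      f ⁻¹' {f u.1} := by
    rintro _ ⟨w, hw, rfl⟩
    have hw' : f₁ w = f₁ u := (connectedComponentIn_subset _ _ hw : w ∈ f₁ ⁻¹' {f₁ u})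
    show f w.1 = f u.1
    rw [← hf₁v, ← hf₁v, hw']
  have hmem : g (f u.1) ∈ Subtype.val ''
      connectedComponentIn (f₁ ⁻¹' {f₁ u}) (g₁ (f₁ u)) := by
    refine ⟨g₁ (f₁ u), mem_connectedComponentIn ?_, ?_⟩
    · have := congrArg (fun φ : (Y₂ : Scheme.{u}) ⟶ Y₂ => φ.base (f₁ u)) hg₁
      simpa using this
    · rw [hg₁v, hf₁v]
  exact hpre.subset_connectedComponentIn hmem hsub ⟨u, hu, rfl⟩

include hg in
/-- A point linked to the section inside `U₁ ∩ f⁻¹(y)` lies in the section components of the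
restriction. -/
theorem mem_sectionComponents_resLE (y : Y) (x : X) (hxU₁ : x ∈ U₁)
    (hx : x ∈ connectedComponentIn ((U₁ : Set X) ∩ f ⁻¹' {y}) (g y)) (hgy : g y ∈ U₁) :
    (⟨x, hxU₁⟩ : ↥U₁) ∈
      MoreMor.sectionComponents (f.resLE Y₂ U₁ hU₁Y₂) (g.resLE U₁ Y₂ hY₂U₁) := by
  obtain ⟨f₁, hf₁⟩ : ∃ f₁ : (U₁ : Scheme.{u}) ⟶ Y₂, f₁ = f.resLE Y₂ U₁ hU₁Y₂ := ⟨_, rfl⟩
  obtain ⟨g₁, hg₁def⟩ : ∃ g₁ : (Y₂ : Scheme.{u}) ⟶ U₁, g₁ = g.resLE U₁ Y₂ hY₂U₁ := ⟨_, rfl⟩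
  rw [← hf₁, ← hg₁def]
  have hf₁v : ∀ u : ↥U₁, (f₁ u).1 = f u.1 := fun u => by
    rw [hf₁]; exact Scheme.Hom.coe_resLE_apply f hU₁Y₂ u
  have hg₁v : ∀ z : ↥Y₂, (g₁ z).1 = g z.1 := fun z => by
    rw [hg₁def]; exact Scheme.Hom.coe_resLE_apply g hY₂U₁ z
  have hfg : ∀ z : Y, f (g z) = z := fun z => by
    have := congrArg (fun φ : Y ⟶ Y => φ.base z) hg
    simpa using this
  have hval : Topology.IsOpenEmbedding (Subtype.val : ↥U₁ → X) := U₁.2.isOpenEmbedding_subtypeVal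
  have hfx : f x = y := (connectedComponentIn_subset _ _ hx).2
  obtain ⟨CU, hCU⟩ : ∃ CU, CU = connectedComponentIn ((U₁ : Set X) ∩ f ⁻¹' {y}) (g y) :=
    ⟨_, rfl⟩
  rw [← hCU] at hx
  have hCUsub : CU ⊆ (U₁ : Set X) ∩ f ⁻¹' {y} := by
    rw [hCU]; exact connectedComponentIn_subset _ _
  have hCU₁ : CU ⊆ (U₁ : Set X) := fun z hz => (hCUsub hz).1
  have hpre : _root_.IsPreconnected ((Subtype.val : ↥U₁ → X) ⁻¹' CU) := by
    apply hval.isInducing.isPreconnected_image.mp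
    have himg : (Subtype.val : ↥U₁ → X) '' ((Subtype.val : ↥U₁ → X) ⁻¹' CU) = CU := by
      apply Set.image_preimage_eq_of_subset
      intro z hz
      exact ⟨⟨z, hCU₁ hz⟩, rfl⟩
    rw [himg, hCU]
    exact isPreconnected_connectedComponentIn
  have hsub : (Subtype.val : ↥U₁ → X) ⁻¹' CU ⊆ f₁ ⁻¹' {f₁ ⟨x, hxU₁⟩} := by
    intro w hw
    have hw' : f w.1 = y := (hCUsub hw).2
    show f₁ w = f₁ ⟨x, hxU₁⟩
    apply Subtype.ext
    rw [hf₁v, hf₁v, hw', hfx]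
  have hmem : g₁ (f₁ ⟨x, hxU₁⟩) ∈ (Subtype.val : ↥U₁ → X) ⁻¹' CU := by
    show (g₁ (f₁ ⟨x, hxU₁⟩)).1 ∈ CU
    rw [hg₁v, hf₁v, hCU]
    show g (f x) ∈ _
    rw [hfx]
    exact mem_connectedComponentIn ⟨hgy, hfg y⟩
  exact hpre.subset_connectedComponentIn hmem hsub hx

include hg in
/-- Neighbourhoods for the restriction give neighbourhoods. -/
theorem sectionComponents_mem_nhds_of_resLE (x : X) (hxU₁ : x ∈ U₁)
    (h : MoreMor.sectionComponents (f.resLE Y₂ U₁ hU₁Y₂) (g.resLE U₁ Y₂ hY₂U₁) ∈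
      nhds (⟨x, hxU₁⟩ : ↥U₁)) :
    MoreMor.sectionComponents f g ∈ nhds x := by
  have hval : Topology.IsOpenEmbedding (Subtype.val : ↥U₁ → X) := U₁.2.isOpenEmbedding_subtypeVal
  have himg := (hval.image_mem_nhds (x := (⟨x, hxU₁⟩ : ↥U₁))).mpr h
  refine Filter.mem_of_superset himg ?_
  rintro _ ⟨u, hu, rfl⟩
  exact sectionComponents_resLE_subset f g hg U₁ Y₂ hU₁Y₂ hY₂U₁ u hu

end Restrict


/-- Fibres of a smooth morphism are geometrically reduced at every point. -/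
theorem isGeomReducedAt_of_smooth {X Y : Scheme.{u}} (f : X ⟶ Y) [Smooth f] (ξ : X) :
    FBase.IsGeomReducedAt (f.fiberToSpecResidueField (f ξ)) (f.asFiber ξ) := by
  intro K _ _ x' _
  have h1 : Smooth (f.fiberToSpecResidueField (f ξ)) :=
    MorphismProperty.pullback_snd (P := @Smooth) _ _ inferInstance
  have h2 : Smooth (pullback.snd (f.fiberToSpecResidueField (f ξ))
      (Spec.map (CommRingCat.ofHom (algebraMap _ K)))) :=
    MorphismProperty.pullback_snd (P := @Smooth) _ _ h1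
  have hR : IsReduced (FBase.bc (f.fiberToSpecResidueField (f ξ)) K) :=
    @Groth.Agent.Lib.H69SchReduced.isReduced_of_smooth _ _ (pullback.snd
      (f.fiberToSpecResidueField (f ξ))
      (Spec.map (CommRingCat.ofHom (algebraMap _ K)))) h2 inferInstance
  exact inferInstance

instance smooth_resLE {X Y : Scheme.{u}} (f : X ⟶ Y) (U : X.Opens) (V : Y.Opens) (e)
    [Smooth f] : Smooth (f.resLE V U e) := by
  delta Scheme.Hom.resLE; infer_instance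

/-- **EGA IV 15.6.5.** `f : X ⟶ S` smooth with a section `e`, `X` quasi-separated: the union of
the connected components of the fibres through the section is open. -/
theorem isOpen_sectionComponents_of_smooth {S X : Scheme.{u}} [QuasiSeparatedSpace ↥X]
    (f : X ⟶ S) [Smooth f] (e : S ⟶ X) (he : e ≫ f = 𝟙 S) :
    IsOpen (MoreMor.sectionComponents f e) := by
  rw [isOpen_iff_mem_nhds]
  intro x hx
  have hfe : ∀ z : S, f (e z) = z := fun z => by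
    have := congrArg (fun φ : S ⟶ S => φ.base z) he
    simpa using this
  obtain ⟨y, hy⟩ : ∃ y : S, y = f x := ⟨_, rfl⟩
  have hxC : x ∈ connectedComponentIn (f ⁻¹' {y}) (e y) := by rw [hy]; exact hx
  obtain ⟨V, hV, hyV, -⟩ := exists_isAffineOpen_mem_and_subset (x := y) (U := ⊤) trivial
  obtain ⟨P, hP⟩ : ∃ P : X.Opens → Prop, P = fun U : X.Opens => IsCompact (U : Set X) ∧ U ≤ f ⁻¹ᵁ V :=
    ⟨_, rfl⟩
  have haff : ∀ b : X, f b ∈ V → ∃ M : X.Opens, P M ∧ b ∈ M := by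
    intro b hb
    obtain ⟨_, ⟨M, hM, rfl⟩, hbM, hMsub⟩ := X.isBasis_affineOpens.exists_subset_of_mem_open
      (show b ∈ ((f ⁻¹ᵁ V : X.Opens) : Set X) from hb) (f ⁻¹ᵁ V).2
    refine ⟨M, ?_, hbM⟩
    rw [hP]
    exact ⟨hM.isCompact, hMsub⟩
  have hunion : ∀ U M : X.Opens, P U → P M → P (U ⊔ M) := by
    intro U M hU hM
    rw [hP] at hU hM ⊢
    exact ⟨hU.1.union hM.1, sup_le hU.2 hM.2⟩
  obtain ⟨U, hPU, heyU, hxU⟩ := exists_open_connecting f y (e y) x (hfe y) hxC P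
    (fun b hb => haff b (by rw [hb]; exact hyV)) hunion
  -- cover `e(V)`
  have hcov : ∀ v : S, v ∈ V → ∃ M : X.Opens, P M ∧ e v ∈ M := fun v hv =>
    haff (e v) (by rw [hfe]; exact hv)
  choose! M hM using hcov
  obtain ⟨t, ht, htcov⟩ := hV.isCompact.elim_nhds_subcover (fun v => e ⁻¹' (M v : Set X))
    (fun v hv => ((M v).isOpen.preimage e.continuous).mem_nhds (hM v hv).2)
  obtain ⟨UE, hUE⟩ : ∃ UE : X.Opens, UE = ⨆ v ∈ t, M v := ⟨_, rfl⟩
  have hUEc : IsCompact (UE : Set X) := by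
    rw [hUE]
    simp only [Opens.coe_iSup]
    exact t.isCompact_biUnion (fun v hv => by
      have := (hM v (ht v hv)).1
      rw [hP] at this
      exact this.1)
  have hUEV : UE ≤ f ⁻¹ᵁ V := by
    rw [hUE]
    refine iSup₂_le (fun v hv => ?_)
    have := (hM v (ht v hv)).1
    rw [hP] at this
    exact this.2
  rw [hP] at hPU
  obtain ⟨U₁, hU₁⟩ : ∃ U₁ : X.Opens, U₁ = U ⊔ UE := ⟨_, rfl⟩
  have hU₁V : U₁ ≤ f ⁻¹ᵁ V := by rw [hU₁]; exact sup_le hPU.2 hUEV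
  have hVU₁ : V ≤ e ⁻¹ᵁ U₁ := by
    intro v hv
    obtain ⟨v', hv't, hv'⟩ := Set.mem_iUnion₂.mp (htcov hv)
    show e v ∈ U₁
    rw [hU₁]
    refine Or.inr ?_
    rw [hUE]
    exact Opens.mem_iSup.mpr ⟨v', Opens.mem_iSup.mpr ⟨hv't, hv'⟩⟩
  have hUU₁ : (U : Set X) ⊆ U₁ := by rw [hU₁]; exact fun z hz => Or.inl hz
  have hxU₁ : x ∈ U₁ := hUU₁ (connectedComponentIn_subset _ _ hxU).1
  have hxU₁C : x ∈ connectedComponentIn ((U₁ : Set X) ∩ f ⁻¹' {y}) (e y) :=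
    connectedComponentIn_mono _ (Set.inter_subset_inter_left _ hUU₁) hxU
  have hcomp : IsCompact (U₁ : Set X) := by rw [hU₁]; exact hPU.1.union hUEc
  have hCS : CompactSpace ↥U₁ := isCompact_iff_compactSpace.mp hcomp
  have hQS : QuasiSeparatedSpace ↥U₁ :=
    QuasiSeparatedSpace.of_isOpenEmbedding U₁.2.isOpenEmbedding_subtypeVal
  have hVaff : IsAffine (V : Scheme.{u}) := hV
  obtain ⟨f₁, hf₁⟩ : ∃ f₁ : (U₁ : Scheme.{u}) ⟶ V, f₁ = f.resLE V U₁ hU₁V := ⟨_, rfl⟩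
  obtain ⟨g₁, hg₁def⟩ : ∃ g₁ : (V : Scheme.{u}) ⟶ U₁, g₁ = e.resLE U₁ V hVU₁ := ⟨_, rfl⟩
  have hg₁ : g₁ ≫ f₁ = 𝟙 _ := by
    rw [hg₁def, hf₁]; exact resLE_section f e he U₁ V hU₁V hVU₁
  have hsm : Smooth f₁ := by rw [hf₁]; infer_instance
  have hqc : QuasiCompact f₁ := (HasAffineProperty.iff_of_isAffine (P := @QuasiCompact)).mpr hCS
  have hqs : QuasiSeparated f₁ :=
    (HasAffineProperty.iff_of_isAffine (P := @QuasiSeparated)).mpr hQS
  have hmem := mem_sectionComponents_resLE f e he U₁ V hU₁V hVU₁ y x hxU₁ hxU₁C (hUU₁ heyU)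
  rw [← hf₁, ← hg₁def] at hmem
  apply sectionComponents_mem_nhds_of_resLE f e he U₁ V hU₁V hVU₁ x hxU₁
  rw [← hf₁, ← hg₁def]
  exact sectionComponents_mem_nhds_of_flat_fp f₁ g₁ hg₁ (f₁ ⟨x, hxU₁⟩)
    (fun ξ _ => isGeomReducedAt_of_smooth f₁ ξ) ⟨x, hxU₁⟩ hmem

end Groth.Agent.Lib.H80SecOpenSmooth
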