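import Groth.Agent.Lib.H80SecOpenSmooth
import Groth.Agent.Lib.H71ConnCompImage

/-!
# Fibrewise components meeting the image of a morphism (helper80)

* `image_connectedComponentIn_fibre`: in a cartesian square, the image of the connected component of
  `x'` in its fibre is the connected component of the image of `x'` in its fibre.
* `isOpen_sectionComponents_of_smooth'`: `X^0` is open for `f` smooth and quasi-separated.
* `exists_open_fibrewise_components`: the union of the fibrewise components meeting the image of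
  `e : S' ⟶ X` (`S' ⟶ S` universally open) is open.
-/

set_option autoImplicit false
set_option maxHeartbeats 400000
set_option linter.style.haveILetI false

universe u

open CategoryTheory Limits AlgebraicGeometry Topology TopologicalSpace

namespace Groth.Agent.Lib.H80SecOpenSmooth2

open Groth.Agent.Lib.H80SecOpenSmooth Groth.Agent.Lib.H80SecOpenFP

/-- An embedding maps connected components onto the connected components in its range. -/
theorem image_connectedComponent_of_isEmbedding {Z T : Type*} [TopologicalSpace Z]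
    [TopologicalSpace T] {ι : Z → T} (hι : IsEmbedding ι) (a : Z) :
    ι '' connectedComponent a = connectedComponentIn (Set.range ι) (ι a) := by
  apply subset_antisymm
  · have hpre : _root_.IsPreconnected (ι '' connectedComponent a) :=
      isPreconnected_connectedComponent.image _ hι.continuous.continuousOn
    exact hpre.subset_connectedComponentIn ⟨a, mem_connectedComponent, rfl⟩
      (Set.image_subset_range _ _)
  · obtain ⟨C, hC⟩ : ∃ C, C = connectedComponentIn (Set.range ι) (ι a) := ⟨_, rfl⟩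
    rw [← hC]
    have hCsub : C ⊆ Set.range ι := by rw [hC]; exact connectedComponentIn_subset _ _
    have himg : ι '' (ι ⁻¹' C) = C := Set.image_preimage_eq_of_subset hCsub
    have hpre : _root_.IsPreconnected (ι ⁻¹' C) := by
      apply hι.isInducing.isPreconnected_image.mp
      rw [himg, hC]
      exact isPreconnected_connectedComponentIn
    have ha : a ∈ ι ⁻¹' C := by
      show ι a ∈ C
      rw [hC]
      exact mem_connectedComponentIn ⟨a, rfl⟩
    have hsub := hpre.subset_connectedComponent ha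
    rw [← himg]
    exact Set.image_mono hsub

/-- **Stacks 04PZ in a family.** In a cartesian square, the image of the connected component of
`x'` in its fibre is the connected component of the image of `x'` in its fibre. -/
theorem image_connectedComponentIn_fibre {X Y X' Y' : Scheme.{u}} (f : X ⟶ Y) (f' : X' ⟶ Y')
    (g' : X' ⟶ X) (g : Y' ⟶ Y) (hc : IsPullback g' f' f g) (x' : X') :
    g' '' connectedComponentIn (f' ⁻¹' {f' x'}) x' =
      connectedComponentIn (f ⁻¹' {g (f' x')}) (g' x') := by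
  obtain ⟨y', hy'⟩ : ∃ y' : Y', y' = f' x' := ⟨_, rfl⟩
  rw [← hy']
  letI : Algebra (Y.residueField (g y')) (Y'.residueField y') :=
    (g.residueFieldMap y').hom.toAlgebra
  have hpb := isPullback_fiberToSpecResidueField_of_isPullback hc y'
  obtain ⟨φ, hφ⟩ : ∃ φ : f'.fiber y' ⟶ f.fiber (g y'), φ =
      pullback.map _ _ _ _ g' (Spec.map (g.residueFieldMap y')) g hc.w.symm (by simp) := ⟨_, rfl⟩
  rw [← hφ] at hpb
  have hφι : φ ≫ f.fiberι (g y') = f'.fiberι y' ≫ g' := by
    rw [hφ]; exact pullback.lift_fst _ _ _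
  have hφι' : ∀ a, f.fiberι (g y') (φ a) = g' (f'.fiberι y' a) := by
    intro a
    rw [← Scheme.Hom.comp_apply, hφι, Scheme.Hom.comp_apply]
  obtain ⟨e, he⟩ : ∃ e : f'.fiber y' ≅ pullback (f.fiberToSpecResidueField (g y'))
      (Spec.map (g.residueFieldMap y')), e.hom ≫ pullback.fst (f.fiberToSpecResidueField (g y'))
      (Spec.map (g.residueFieldMap y')) = φ := ⟨hpb.isoPullback, hpb.isoPullback_hom_fst⟩
  -- the point of the fibre
  have hx'R : x' ∈ Set.range (f'.fiberι y') := by
    rw [f'.range_fiberι y']; exact hy'.symm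
  obtain ⟨a', ha'⟩ := hx'R
  have h1 : (pullback.fst (f.fiberToSpecResidueField (g y'))
      (Spec.map (g.residueFieldMap y'))) '' connectedComponent (e.hom a') =
      connectedComponent (pullback.fst (f.fiberToSpecResidueField (g y'))
        (Spec.map (g.residueFieldMap y')) (e.hom a')) :=
    Groth.Agent.Lib.H71ConnCompImage.image_connectedComponent
      (k := (Y.residueField (g y') : Type u)) (Y'.residueField y')
      (f.fiberToSpecResidueField (g y')) (e.hom a')
  have h2 : φ '' connectedComponent a' = connectedComponent (φ a') := by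
    have h3 : e.hom '' connectedComponent a' = connectedComponent (e.hom a') := by
      have := image_connectedComponent_of_isEmbedding e.hom.homeomorph.isEmbedding a'
      rw [e.hom.homeomorph.surjective.range_eq, connectedComponentIn_univ] at this
      exact this
    have h4 : ∀ a, φ a = pullback.fst (f.fiberToSpecResidueField (g y'))
        (Spec.map (g.residueFieldMap y')) (e.hom a) := fun a => by
      rw [← he]; rfl
    rw [h4 a', ← h1, ← h3, Set.image_image]
    exact Set.image_congr (fun a _ => h4 a)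
  have h6 := image_connectedComponent_of_isEmbedding (f'.fiberι y').isEmbedding a'
  have h7 := image_connectedComponent_of_isEmbedding (f.fiberι (g y')).isEmbedding (φ a')
  rw [f'.range_fiberι y', ha'] at h6
  rw [f.range_fiberι (g y'), hφι', ha'] at h7
  rw [← h6, ← h7, ← h2, Set.image_image, Set.image_image]
  exact Set.image_congr (fun a _ => (hφι' a).symm)

/-- **EGA IV 15.6.5.** `f : X ⟶ S` smooth and quasi-separated with a section `e`: the union of
the connected components of the fibres through the section is open. -/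
theorem isOpen_sectionComponents_of_smooth' {S X : Scheme.{u}}
    (f : X ⟶ S) [Smooth f] [QuasiSeparated f] (e : S ⟶ X) (he : e ≫ f = 𝟙 S) :
    IsOpen (MoreMor.sectionComponents f e) := by
  rw [isOpen_iff_mem_nhds]
  intro x hx
  have hfe : ∀ z : S, f (e z) = z := fun z => by
    have := congrArg (fun φ : S ⟶ S => φ.base z) he
    simpa using this
  obtain ⟨y, hy⟩ : ∃ y : S, y = f x := ⟨_, rfl⟩
  have hxC : x ∈ connectedComponentIn (f ⁻¹' {y}) (e y) := by rw [hy]; exact hx
  obtain ⟨V, hV, hyV, -⟩ := exists_isAffineOpen_mem_and_subset (x := y) (U := ⊤) trivial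
  obtain ⟨P, hP⟩ : ∃ P : X.Opens → Prop, P = fun U : X.Opens => IsCompact (U : Set X) ∧ U ≤ f ⁻¹ᵁ V :=
    ⟨_, rfl⟩
  have haff : ∀ b : X, f b ∈ V → ∃ M : X.Opens, P M ∧ b ∈ M := by
    intro b hb
    obtain ⟨_, ⟨M, hM, rfl⟩, hbM, hMsub⟩ := X.isBasis_affineOpens.exists_subset_of_mem_open
      (show b ∈ ((f ⁻¹ᵁ V : X.Opens) : Set X) from hb) (f ⁻¹ᵁ V).2
    refine ⟨M, ?_, hbM⟩
    rw [hP]
    exact ⟨hM.isCompact, hMsub⟩
  have hunion : ∀ U M : X.Opens, P U → P M → P (U ⊔ M) := by
    intro U M hU hM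
    rw [hP] at hU hM ⊢
    exact ⟨hU.1.union hM.1, sup_le hU.2 hM.2⟩
  obtain ⟨U, hPU, heyU, hxU⟩ := exists_open_connecting f y (e y) x (hfe y) hxC P
    (fun b hb => haff b (by rw [hb]; exact hyV)) hunion
  -- cover `e(V)`
  have hcov : ∀ v : S, v ∈ V → ∃ M : X.Opens, P M ∧ e v ∈ M := fun v hv =>
    haff (e v) (by rw [hfe]; exact hv)
  choose! M hM using hcov
  obtain ⟨t, ht, htcov⟩ := hV.isCompact.elim_nhds_subcover (fun v => e ⁻¹' (M v : Set X))
    (fun v hv => ((M v).isOpen.preimage e.continuous).mem_nhds (hM v hv).2)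
  obtain ⟨UE, hUE⟩ : ∃ UE : X.Opens, UE = ⨆ v ∈ t, M v := ⟨_, rfl⟩
  have hUEc : IsCompact (UE : Set X) := by
    rw [hUE]
    simp only [Opens.coe_iSup]
    exact t.isCompact_biUnion (fun v hv => by
      have := (hM v (ht v hv)).1
      rw [hP] at this
      exact this.1)
  have hUEV : UE ≤ f ⁻¹ᵁ V := by
    rw [hUE]
    refine iSup₂_le (fun v hv => ?_)
    have := (hM v (ht v hv)).1
    rw [hP] at this
    exact this.2
  rw [hP] at hPU
  obtain ⟨U₁, hU₁⟩ : ∃ U₁ : X.Opens, U₁ = U ⊔ UE := ⟨_, rfl⟩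
  have hU₁V : U₁ ≤ f ⁻¹ᵁ V := by rw [hU₁]; exact sup_le hPU.2 hUEV
  have hVU₁ : V ≤ e ⁻¹ᵁ U₁ := by
    intro v hv
    obtain ⟨v', hv't, hv'⟩ := Set.mem_iUnion₂.mp (htcov hv)
    show e v ∈ U₁
    rw [hU₁]
    refine Or.inr ?_
    rw [hUE]
    exact Opens.mem_iSup.mpr ⟨v', Opens.mem_iSup.mpr ⟨hv't, hv'⟩⟩
  have hUU₁ : (U : Set X) ⊆ U₁ := by rw [hU₁]; exact fun z hz => Or.inl hz
  have hxU₁ : x ∈ U₁ := hUU₁ (connectedComponentIn_subset _ _ hxU).1
  have hxU₁C : x ∈ connectedComponentIn ((U₁ : Set X) ∩ f ⁻¹' {y}) (e y) :=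
    connectedComponentIn_mono _ (Set.inter_subset_inter_left _ hUU₁) hxU
  have hcomp : IsCompact (U₁ : Set X) := by rw [hU₁]; exact hPU.1.union hUEc
  have hCS : CompactSpace ↥U₁ := isCompact_iff_compactSpace.mp hcomp
  have hQS : QuasiSeparatedSpace ↥U₁ := by
    have h1 : IsQuasiSeparated ((f ⁻¹ᵁ V : X.Opens) : Set X) :=
      f.isQuasiSeparated_preimage hV.isQuasiSeparated
    have h2 : IsQuasiSeparated (U₁ : Set X) := h1.of_subset hU₁V
    exact (isQuasiSeparated_iff_quasiSeparatedSpace _ U₁.2).mp h2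
  have hVaff : IsAffine (V : Scheme.{u}) := hV
  obtain ⟨f₁, hf₁⟩ : ∃ f₁ : (U₁ : Scheme.{u}) ⟶ V, f₁ = f.resLE V U₁ hU₁V := ⟨_, rfl⟩
  obtain ⟨g₁, hg₁def⟩ : ∃ g₁ : (V : Scheme.{u}) ⟶ U₁, g₁ = e.resLE U₁ V hVU₁ := ⟨_, rfl⟩
  have hg₁ : g₁ ≫ f₁ = 𝟙 _ := by
    rw [hg₁def, hf₁]; exact resLE_section f e he U₁ V hU₁V hVU₁
  have hsm : Smooth f₁ := by rw [hf₁]; infer_instance
  have hqc : QuasiCompact f₁ := (HasAffineProperty.iff_of_isAffine (P := @QuasiCompact)).mpr hCS
  have hqs : QuasiSeparated f₁ :=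
    (HasAffineProperty.iff_of_isAffine (P := @QuasiSeparated)).mpr hQS
  have hmem := mem_sectionComponents_resLE f e he U₁ V hU₁V hVU₁ y x hxU₁ hxU₁C (hUU₁ heyU)
  rw [← hf₁, ← hg₁def] at hmem
  apply sectionComponents_mem_nhds_of_resLE f e he U₁ V hU₁V hVU₁ x hxU₁
  rw [← hf₁, ← hg₁def]
  exact sectionComponents_mem_nhds_of_flat_fp f₁ g₁ hg₁ (f₁ ⟨x, hxU₁⟩)
    (fun ξ _ => isGeomReducedAt_of_smooth f₁ ξ) ⟨x, hxU₁⟩ hmem


/-- **Open set of fibrewise components meeting the image of `e`.** `f : X ⟶ S` smooth and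
quasi-separated, `g : S' ⟶ S` universally open, `e : S' ⟶ X` with `e ≫ f = g`. There is an open
`U ⊆ X` whose trace on each fibre `f⁻¹(s)` is the union of the connected components of `f⁻¹(s)`
meeting `e(S')`. -/
theorem exists_open_fibrewise_components {S S' X : Scheme.{u}} (f : X ⟶ S)
    [Smooth f] [QuasiSeparated f] (g : S' ⟶ S) [UniversallyOpen g] (e : S' ⟶ X)
    (he : e ≫ f = g) :
    ∃ U : X.Opens, ∀ s : S, (U : Set ↥X) ∩ f ⁻¹' {s} =
      ⋃ x ∈ Set.range e ∩ f ⁻¹' {s}, connectedComponentIn (f ⁻¹' {s}) x := by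
  obtain ⟨e', he'1, he'2⟩ : ∃ e' : S' ⟶ pullback f g,
      e' ≫ pullback.fst f g = e ∧ e' ≫ pullback.snd f g = 𝟙 _ :=
    ⟨pullback.lift e (𝟙 _) (by rw [he, Category.id_comp]), pullback.lift_fst _ _ _,
      pullback.lift_snd _ _ _⟩
  have hopen := isOpen_sectionComponents_of_smooth' (pullback.snd f g) e' he'2
  have hsq : IsPullback (pullback.fst f g) (pullback.snd f g) f g := IsPullback.of_hasPullback f g
  have hfp : ∀ a : ↥(pullback f g), f (pullback.fst f g a) = g (pullback.snd f g a) := fun a => by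
    rw [← Scheme.Hom.comp_apply, pullback.condition, Scheme.Hom.comp_apply]
  have hpe : ∀ z : S', pullback.fst f g (e' z) = e z := fun z => by
    rw [← Scheme.Hom.comp_apply, he'1]
  have hse : ∀ z : S', pullback.snd f g (e' z) = z := fun z => by
    have := congrArg (fun φ : S' ⟶ S' => φ.base z) he'2
    simpa using this
  have hfe : ∀ z : S', f (e z) = g z := fun z => by
    rw [← Scheme.Hom.comp_apply, he]
  refine ⟨⟨pullback.fst f g '' MoreMor.sectionComponents (pullback.snd f g) e',
    (pullback.fst f g).isOpenMap _ hopen⟩, ?_⟩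
  intro s
  ext u
  simp only [Opens.coe_mk, Set.mem_inter_iff, Set.mem_image, Set.mem_preimage,
    Set.mem_singleton_iff, Set.mem_iUnion, Set.mem_range, exists_prop]
  constructor
  · rintro ⟨⟨u', hu', rfl⟩, hfu⟩
    obtain ⟨s', hs'⟩ : ∃ s' : S', s' = pullback.snd f g u' := ⟨_, rfl⟩
    have hgs' : g s' = s := by rw [hs', ← hfp, hfu]
    have hu'C : u' ∈ connectedComponentIn ((pullback.snd f g) ⁻¹' {pullback.snd f g (e' s')})
        (e' s') := by
      rw [hse, hs']; exact hu'
    have himg := image_connectedComponentIn_fibre f (pullback.snd f g) (pullback.fst f g) g hsq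
      (e' s')
    rw [hse, hpe, hgs'] at himg
    refine ⟨e s', ⟨⟨s', rfl⟩, by rw [hfe, hgs']⟩, ?_⟩
    rw [← himg]
    rw [hse] at hu'C
    exact ⟨u', hu'C, rfl⟩
  · rintro ⟨x, ⟨⟨s', rfl⟩, hfx⟩, hu⟩
    have hgs' : g s' = s := by rw [← hfe, hfx]
    have himg := image_connectedComponentIn_fibre f (pullback.snd f g) (pullback.fst f g) g hsq
      (e' s')
    rw [hse, hpe, hgs'] at himg
    rw [← himg] at hu
    obtain ⟨u', hu', rfl⟩ := hu
    have hsu' : pullback.snd f g u' = s' := (connectedComponentIn_subset _ _ hu' :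
      u' ∈ (pullback.snd f g) ⁻¹' {s'})
    refine ⟨⟨u', ?_, rfl⟩, by rw [hfp, hsu', hgs']⟩
    show u' ∈ connectedComponentIn ((pullback.snd f g) ⁻¹' {pullback.snd f g u'})
      (e' (pullback.snd f g u'))
    rw [hsu']
    exact hu'

end Groth.Agent.Lib.H80SecOpenSmooth2
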