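/-
helper80: a proper morphism of finite-type schemes over an algebraically closed field which is injective
on closed points and has surjective cotangent maps at closed points is a closed immersion
(Hartshorne II.7.3 core).  Main: `isClosedImmersion_of_injOn_closedPoints`,
`exists_nhd_isClosedImmersion_of_closedPoint`; algebra: `le_map_of_unique_prime_over`
(Nakayama on the fibre ring), `exists_pow_smul_mem_range_of_unique_prime_over`; scheme glue:
`isClosedImmersion_morphismRestrict_basicOpen`, `isMaximal_primeIdealOf`,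
`eq_of_comap_eq_primeIdealOf`, `exists_mul_mem_of_cotangent`, `exists_sub_mem_primeIdealOf`,
`isNoetherianRing_sections`, `subset_singleton_of_closedPoints`.
-/
import Mathlib
import Groth.Agent.Lib.H80NearFibre

set_option autoImplicit false
universe u
open CategoryTheory CategoryTheory.Limits AlgebraicGeometry TensorProduct

namespace Groth.Agent.Lib.H80SepPts

/-- Nakayama on the fibre ring: if `n` is the only prime of `B` over the maximal ideal `m` and
`n B_n = m B_n + n² B_n`, then `n = mB`. -/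
theorem le_map_of_unique_prime_over {A B : Type*} [CommRing A] [CommRing B] [Algebra A B]
    [IsNoetherianRing B] (m : Ideal A) [m.IsMaximal] (n : Ideal B) [n.IsPrime]
    (h1 : ∀ n' : Ideal B, n'.IsPrime → n'.comap (algebraMap A B) = m → n' = n)
    (h1b : n.comap (algebraMap A B) = m)
    (h3 : ∀ b ∈ n, ∃ s ∉ n, s * b ∈ m.map (algebraMap A B) ⊔ n ^ 2) :
    n ≤ m.map (algebraMap A B) := by
  set I₀ := m.map (algebraMap A B) with hI₀
  have hI₀n : I₀ ≤ n := by
    rw [hI₀, Ideal.map_le_iff_le_comap, h1b]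
  let π := Ideal.Quotient.mk I₀
  have hπ : Function.Surjective π := Ideal.Quotient.mk_surjective
  set nb := n.map π with hnb
  have hcomap : nb.comap π = n := by
    rw [hnb, Ideal.comap_map_of_surjective π hπ]
    have : Ideal.comap π ⊥ = I₀ := by
      rw [← RingHom.ker_eq_comap_bot, Ideal.mk_ker]
    rw [this]
    exact sup_eq_left.mpr hI₀n
  -- every prime of the quotient equals `nb`
  have hprime : ∀ P : Ideal (B ⧸ I₀), P.IsPrime → P = nb := by
    intro P hP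
    have hP' : (P.comap π).IsPrime := Ideal.comap_isPrime π P
    have hle : I₀ ≤ P.comap π := by
      intro b hb
      rw [Ideal.mem_comap]
      have : π b = 0 := Ideal.Quotient.eq_zero_iff_mem.mpr hb
      rw [this]; exact P.zero_mem
    have hm : (P.comap π).comap (algebraMap A B) = m := by
      have hmle : m ≤ (P.comap π).comap (algebraMap A B) := by
        rw [← Ideal.map_le_iff_le_comap]; exact hle
      have hne : (P.comap π).comap (algebraMap A B) ≠ ⊤ :=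
        (Ideal.comap_isPrime (algebraMap A B) (P.comap π)).ne_top
      exact (Ideal.IsMaximal.eq_of_le inferInstance hne hmle).symm
    have := h1 _ hP' hm
    rw [hnb, ← this, Ideal.map_comap_of_surjective π hπ]
  have hjac : nb ≤ Ideal.jacobson ⊥ := by
    rw [Ideal.jacobson]
    refine le_sInf ?_
    rintro J ⟨-, hJ⟩
    exact (hprime J hJ.isPrime).symm.le
  have hsq : nb ≤ nb • nb := by
    rw [hnb]
    intro z hz
    rw [Ideal.mem_map_iff_of_surjective π hπ] at hz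
    obtain ⟨b, hb, rfl⟩ := hz
    obtain ⟨s, hs, hsb⟩ := h3 b hb
    have hunit : IsUnit (π s) := by
      by_contra hnu
      obtain ⟨J, hJ, hsJ⟩ := exists_max_ideal_of_mem_nonunits hnu
      rw [hprime J hJ.isPrime] at hsJ
      have : s ∈ nb.comap π := hsJ
      rw [hcomap] at this
      exact hs this
    have h4 : π (s * b) ∈ (n.map π) • (n.map π) := by
      have : π (s * b) ∈ (I₀ ⊔ n ^ 2).map π := Ideal.mem_map_of_mem π hsb
      rw [Ideal.map_sup, Ideal.map_pow] at this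
      have h0 : I₀.map π = ⊥ := by
        rw [Ideal.map_eq_bot_iff_le_ker, Ideal.mk_ker]
      rw [h0, bot_sup_eq, pow_two] at this
      exact this
    rw [map_mul] at h4
    have := Ideal.mul_mem_left _ (↑hunit.unit⁻¹ : B ⧸ I₀) h4
    rwa [← mul_assoc, IsUnit.val_inv_mul, one_mul] at this
  have hfg : (nb : Submodule (B ⧸ I₀) (B ⧸ I₀)).FG := IsNoetherian.noetherian nb
  have hbot : nb = ⊥ := Submodule.eq_bot_of_le_smul_of_le_jacobson_bot nb nb hfg hsq hjac
  intro b hb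
  have : π b ∈ nb := Ideal.mem_map_of_mem π hb
  rw [hbot, Ideal.mem_bot] at this
  exact Ideal.Quotient.eq_zero_iff_mem.mp this


theorem exists_pow_smul_mem_range_of_unique_prime_over {A B : Type u} [CommRing A] [CommRing B]
    [Algebra A B] [Module.Finite A B] [IsNoetherianRing B] (m : Ideal A) [m.IsMaximal]
    (n : Ideal B) [n.IsPrime]
    (h1 : ∀ n' : Ideal B, n'.IsPrime → n'.comap (algebraMap A B) = m → n' = n)
    (h1b : n.comap (algebraMap A B) = m)
    (h3 : ∀ b ∈ n, ∃ s ∉ n, s * b ∈ m.map (algebraMap A B) ⊔ n ^ 2)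
    (h2 : ∀ b : B, ∃ a : A, b - algebraMap A B a ∈ n) :
    ∃ a : A, a ∉ m ∧ ∀ b : B, ∃ N : ℕ, a ^ N • b ∈ (algebraMap A B).range := by
  have hle := le_map_of_unique_prime_over m n h1 h1b h3
  let incR : B →+* (A ⧸ m) ⊗[A] B :=
    (Algebra.TensorProduct.includeRight (R := A) (A := A ⧸ m) (B := B)).toRingHom
  have hker : m.map (algebraMap A B) ≤ RingHom.ker incR := by
    rw [Ideal.map_le_iff_le_comap]
    intro a ha
    rw [Ideal.mem_comap, RingHom.mem_ker]
    change (1 : A ⧸ m) ⊗ₜ[A] (algebraMap A B a) = 0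
    rw [Algebra.algebraMap_eq_smul_one, ← TensorProduct.smul_tmul, Algebra.smul_def, mul_one]
    have : algebraMap A (A ⧸ m) a = 0 := Ideal.Quotient.eq_zero_iff_mem.mpr ha
    rw [this, TensorProduct.zero_tmul]
  have hsurj : Function.Surjective
      (Algebra.TensorProduct.includeLeftRingHom : (A ⧸ m) →+* (A ⧸ m) ⊗[A] B) := by
    intro z
    induction z using TensorProduct.induction_on with
    | zero => exact ⟨0, map_zero _⟩
    | tmul x b =>
      obtain ⟨a₀, ha₀⟩ := h2 b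
      have h0 : incR (b - algebraMap A B a₀) = 0 := hker (hle ha₀)
      have h5 : (1 : A ⧸ m) ⊗ₜ[A] b = (algebraMap A (A ⧸ m) a₀) ⊗ₜ[A] (1 : B) := by
        have h6 : incR b = incR (algebraMap A B a₀) := by
          rw [← sub_eq_zero, ← map_sub]; exact h0
        change (1 : A ⧸ m) ⊗ₜ[A] b = (1 : A ⧸ m) ⊗ₜ[A] (algebraMap A B a₀) at h6
        rw [h6, Algebra.algebraMap_eq_smul_one, ← TensorProduct.smul_tmul, Algebra.smul_def,
          mul_one]
      refine ⟨x * algebraMap A (A ⧸ m) a₀, ?_⟩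
      rw [map_mul]
      change (x ⊗ₜ[A] (1 : B)) * ((algebraMap A (A ⧸ m) a₀) ⊗ₜ[A] (1 : B)) = x ⊗ₜ[A] b
      rw [← h5, Algebra.TensorProduct.tmul_mul_tmul, mul_one, one_mul]
    | add x y hx hy =>
      obtain ⟨a, rfl⟩ := hx
      obtain ⟨a', rfl⟩ := hy
      exact ⟨a + a', map_add _ _ _⟩
  obtain ⟨a, ha, hb⟩ := Groth.Agent.Lib.H80NearFibre.exists_pow_smul_mem_range_of_surjective_includeLeft
    hsurj (⟨⊥, Ideal.isPrime_bot⟩ : PrimeSpectrum (A ⧸ m))
  refine ⟨a, fun ham => ha ?_, hb⟩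
  change algebraMap A (A ⧸ m) a ∈ (⊥ : Ideal (A ⧸ m))
  rw [Ideal.mem_bot]
  exact Ideal.Quotient.eq_zero_iff_mem.mpr ham


open Groth.Agent.Lib.H80NearFibre

set_option backward.isDefEq.respectTransparency.types false in
theorem isClosedImmersion_morphismRestrict_basicOpen {X Y : Scheme.{u}} (f : X ⟶ Y)
    {V₀ : Y.Opens} (hV₀ : IsAffineOpen V₀) (hUX : IsAffineOpen (f ⁻¹ᵁ V₀)) (a : Γ(Y, V₀))
    (hb : ∀ b : Γ(X, f ⁻¹ᵁ V₀), ∃ n : ℕ, ∃ c : Γ(Y, V₀),
      (f.app V₀).hom c = (f.app V₀).hom a ^ n * b) :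
    IsClosedImmersion (f ∣_ Y.basicOpen a) := by
  rw [isClosedImmersion_morphismRestrict_iff f (hV₀.basicOpen a)]
  constructor
  · rw [Scheme.preimage_basicOpen]; exact hUX.basicOpen _
  · rw [hV₀.app_basicOpen_eq_away_map f hUX a, CommRingCat.hom_comp, RingHom.coe_comp]
    refine Function.Surjective.comp ?_ ?_
    · exact (ConcreteCategory.bijective_of_isIso (X.presheaf.map (eqToHom _).op)).2
    · rw [CommRingCat.hom_ofHom]
      have := hV₀.isLocalization_basicOpen a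
      have := hUX.isLocalization_basicOpen (f.app V₀ a)
      exact away_map_surjective _ _ _ _ hb

theorem isMaximal_primeIdealOf {X : Scheme.{u}} {U : X.Opens} (hU : IsAffineOpen U) {x : X}
    (hx : x ∈ U) (hcl : IsClosed ({x} : Set X)) :
    (hU.primeIdealOf ⟨x, hx⟩).asIdeal.IsMaximal := by
  rw [← PrimeSpectrum.isClosed_singleton_iff_isMaximal]
  have h1 : IsClosed ({⟨x, hx⟩} : Set U) := by
    have : ({⟨x, hx⟩} : Set U) = Subtype.val ⁻¹' ({x} : Set X) := by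
      ext z
      constructor
      · rintro rfl; rfl
      · intro h; exact Subtype.ext h
    rw [this]
    exact hcl.preimage continuous_subtype_val
  have h2 := (hU.isoSpec.hom.homeomorph.isClosedMap _ h1)
  have h3 : (hU.isoSpec.hom.homeomorph '' ({⟨x, hx⟩} : Set U)) =
      ({hU.primeIdealOf ⟨x, hx⟩} : Set (PrimeSpectrum Γ(X, U))) := Set.image_singleton
  rw [h3] at h2
  exact h2

theorem eq_of_comap_eq_primeIdealOf {X Y : Scheme.{u}} (f : X ⟶ Y) {V₀ : Y.Opens}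
    (hV₀ : IsAffineOpen V₀) (hUX : IsAffineOpen (f ⁻¹ᵁ V₀)) (x : X) (hx : x ∈ f ⁻¹ᵁ V₀)
    (hfib : f.base ⁻¹' {f x} ⊆ {x}) (n' : PrimeSpectrum Γ(X, f ⁻¹ᵁ V₀))
    (hn' : n'.asIdeal.comap (f.app V₀).hom = (hV₀.primeIdealOf ⟨f x, hx⟩).asIdeal) :
    n' = hUX.primeIdealOf ⟨x, hx⟩ := by
  obtain ⟨⟨x', hx'⟩, rfl⟩ : ∃ z, hUX.primeIdealOf z = n' :=
    hUX.isoSpec.hom.homeomorph.surjective n'
  have h1 := IsAffineOpen.comap_primeIdealOf_appLE (f := f) V₀ hV₀ (f ⁻¹ᵁ V₀) hUX le_rfl hx'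
  rw [Scheme.Hom.appLE_eq_app] at h1
  have h2 : hV₀.primeIdealOf ⟨f x', hx'⟩ = hV₀.primeIdealOf ⟨f x, hx⟩ := by
    rw [← h1]
    exact PrimeSpectrum.ext hn'
  have h3 : (⟨f x', hx'⟩ : V₀) = ⟨f x, hx⟩ :=
    hV₀.isoSpec.hom.homeomorph.injective h2
  have h4 : f x' = f x := congrArg Subtype.val h3
  have h5 : x' = x := hfib h4
  subst h5
  rfl


theorem exists_mul_mem_of_cotangent {X Y : Scheme.{u}} (f : X ⟶ Y) {V₀ : Y.Opens}
    (hV₀ : IsAffineOpen V₀) (hUX : IsAffineOpen (f ⁻¹ᵁ V₀)) (x : X) (hx : x ∈ f ⁻¹ᵁ V₀)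
    (hT : Ideal.map (f.stalkMap x).hom (IsLocalRing.maximalIdeal (Y.presheaf.stalk (f.base x))) ⊔
        IsLocalRing.maximalIdeal (X.presheaf.stalk x) ^ 2 =
          IsLocalRing.maximalIdeal (X.presheaf.stalk x))
    (b : Γ(X, f ⁻¹ᵁ V₀)) (hb : b ∈ (hUX.primeIdealOf ⟨x, hx⟩).asIdeal) :
    ∃ s ∉ (hUX.primeIdealOf ⟨x, hx⟩).asIdeal,
      s * b ∈ (hV₀.primeIdealOf ⟨f x, hx⟩).asIdeal.map (f.app V₀).hom ⊔
        (hUX.primeIdealOf ⟨x, hx⟩).asIdeal ^ 2 := by
  let algY := Y.presheaf.algebra_section_stalk ⟨f x, hx⟩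
  have locY := hV₀.isLocalization_stalk ⟨f x, hx⟩
  let algX := X.presheaf.algebra_section_stalk ⟨x, hx⟩
  have locX := hUX.isLocalization_stalk ⟨x, hx⟩
  set m := (hV₀.primeIdealOf ⟨f x, hx⟩).asIdeal with hm
  set n := (hUX.primeIdealOf ⟨x, hx⟩).asIdeal with hn
  have hmY : m.map (algebraMap Γ(Y, V₀) (Y.presheaf.stalk (f x))) =
      IsLocalRing.maximalIdeal (Y.presheaf.stalk (f x)) :=
    IsLocalization.AtPrime.map_eq_maximalIdeal m _
  have hnX : n.map (algebraMap Γ(X, f ⁻¹ᵁ V₀) (X.presheaf.stalk x)) =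
      IsLocalRing.maximalIdeal (X.presheaf.stalk x) :=
    IsLocalization.AtPrime.map_eq_maximalIdeal n _
  have hcomm : (f.stalkMap x).hom.comp (algebraMap Γ(Y, V₀) (Y.presheaf.stalk (f x))) =
      (algebraMap Γ(X, f ⁻¹ᵁ V₀) (X.presheaf.stalk x)).comp (f.app V₀).hom := by
    ext y
    exact f.germ_stalkMap_apply V₀ x hx y
  have key : (m.map (f.app V₀).hom ⊔ n ^ 2).map
      (algebraMap Γ(X, f ⁻¹ᵁ V₀) (X.presheaf.stalk x)) =
      n.map (algebraMap Γ(X, f ⁻¹ᵁ V₀) (X.presheaf.stalk x)) := by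
    rw [Ideal.map_sup, Ideal.map_pow, Ideal.map_map, ← hcomm, ← Ideal.map_map, hmY, hnX]
    exact hT
  have hbm : algebraMap Γ(X, f ⁻¹ᵁ V₀) (X.presheaf.stalk x) b ∈
      (m.map (f.app V₀).hom ⊔ n ^ 2).map (algebraMap Γ(X, f ⁻¹ᵁ V₀) (X.presheaf.stalk x)) := by
    rw [key]
    exact Ideal.mem_map_of_mem _ hb
  rw [IsLocalization.algebraMap_mem_map_algebraMap_iff n.primeCompl] at hbm
  obtain ⟨s, hs, hsb⟩ := hbm
  exact ⟨s, hs, hsb⟩


theorem exists_sub_mem_primeIdealOf (k : Type u) [Field k] [IsAlgClosed k] {X Y : Scheme.{u}}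
    (f : X ⟶ Y) (q : Y ⟶ Spec (CommRingCat.of k)) [LocallyOfFiniteType (f ≫ q)] {V₀ : Y.Opens}
    (hUX : IsAffineOpen (f ⁻¹ᵁ V₀)) (x : X) (hx : x ∈ f ⁻¹ᵁ V₀) (hxcl : IsClosed ({x} : Set X))
    (b : Γ(X, f ⁻¹ᵁ V₀)) :
    ∃ a : Γ(Y, V₀), b - (f.app V₀).hom a ∈ (hUX.primeIdealOf ⟨x, hx⟩).asIdeal := by
  set n := (hUX.primeIdealOf ⟨x, hx⟩).asIdeal with hn
  have hmax : n.IsMaximal := isMaximal_primeIdealOf hUX hx hxcl
  let ψY : CommRingCat.of k ⟶ Γ(Y, V₀) := (Scheme.ΓSpecIso (.of k)).inv ≫ q.appLE ⊤ V₀ le_top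
  let ψX : CommRingCat.of k ⟶ Γ(X, f ⁻¹ᵁ V₀) :=
    (Scheme.ΓSpecIso (.of k)).inv ≫ (f ≫ q).appLE ⊤ (f ⁻¹ᵁ V₀) le_top
  have hψ : ψX = ψY ≫ f.app V₀ := by
    simp only [ψX, ψY, Category.assoc]
    congr 1
    rw [← Scheme.Hom.appLE_eq_app (f := f)]
    exact (Scheme.Hom.appLE_comp_appLE f q ⊤ V₀ (f ⁻¹ᵁ V₀) _ _).symm
  have hft0 : ((f ≫ q).appLE ⊤ (f ⁻¹ᵁ V₀) le_top).hom.FiniteType :=
    HasRingHomProperty.appLE (P := @LocallyOfFiniteType) (f ≫ q) inferInstance
      ⟨⊤, isAffineOpen_top _⟩ ⟨f ⁻¹ᵁ V₀, hUX⟩ le_top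
  have hft : ψX.hom.FiniteType := by
    simp only [ψX, CommRingCat.hom_comp]
    exact hft0.comp (RingHom.FiniteType.of_surjective _
      (ConcreteCategory.bijective_of_isIso (Scheme.ΓSpecIso (.of k)).inv).2)
  let _ := Ideal.Quotient.field n
  let g : k →+* (Γ(X, f ⁻¹ᵁ V₀) ⧸ n) := (Ideal.Quotient.mk n).comp ψX.hom
  have hg : g.FiniteType :=
    (RingHom.FiniteType.of_surjective _ Ideal.Quotient.mk_surjective).comp hft
  have hgfin : g.Finite := RingHom.finite_iff_finiteType_of_isJacobsonRing.mpr hg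
  have hbij := IsAlgClosed.ringHom_bijective_of_isIntegral g hgfin.to_isIntegral
  obtain ⟨c, hc⟩ := hbij.2 (Ideal.Quotient.mk n b)
  refine ⟨ψY.hom c, ?_⟩
  rw [← Ideal.Quotient.eq, ← hc]
  change (Ideal.Quotient.mk n) (ψX.hom c) = _
  rw [hψ]
  rfl


theorem isNoetherianRing_sections (k : Type u) [Field k] {X : Scheme.{u}}
    (p : X ⟶ Spec (CommRingCat.of k)) [LocallyOfFiniteType p] {U : X.Opens}
    (hU : IsAffineOpen U) : IsNoetherianRing Γ(X, U) := by
  have hft0 : (p.appLE ⊤ U le_top).hom.FiniteType :=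
    HasRingHomProperty.appLE (P := @LocallyOfFiniteType) p inferInstance
      ⟨⊤, isAffineOpen_top _⟩ ⟨U, hU⟩ le_top
  let ψ : CommRingCat.of k ⟶ Γ(X, U) := (Scheme.ΓSpecIso (.of k)).inv ≫ p.appLE ⊤ U le_top
  have hft : ψ.hom.FiniteType := by
    simp only [ψ, CommRingCat.hom_comp]
    exact hft0.comp (RingHom.FiniteType.of_surjective _
      (ConcreteCategory.bijective_of_isIso (Scheme.ΓSpecIso (.of k)).inv).2)
  algebraize [ψ.hom]
  exact Algebra.FiniteType.isNoetherianRing k _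

set_option backward.isDefEq.respectTransparency.types false in
theorem exists_nhd_isClosedImmersion_of_closedPoint (k : Type u) [Field k] [IsAlgClosed k]
    {X Y : Scheme.{u}} (f : X ⟶ Y) (q : Y ⟶ Spec (CommRingCat.of k))
    [LocallyOfFiniteType (f ≫ q)] [IsProper f] (x : X)
    (hy : IsClosed ({f x} : Set Y)) (hfib : f.base ⁻¹' {f x} ⊆ {x})
    (hT : Ideal.map (f.stalkMap x).hom (IsLocalRing.maximalIdeal (Y.presheaf.stalk (f.base x))) ⊔
        IsLocalRing.maximalIdeal (X.presheaf.stalk x) ^ 2 =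
          IsLocalRing.maximalIdeal (X.presheaf.stalk x)) :
    ∃ V : Y.Opens, f x ∈ V ∧ IsClosedImmersion (f ∣_ V) := by
  have hfib' : f.base ⁻¹' {f x} = {x} := subset_antisymm hfib (by rintro _ rfl; rfl)
  have hxcl : IsClosed ({x} : Set X) := by
    rw [← hfib']; exact hy.preimage f.continuous
  obtain ⟨V₁, hyV₁, hfin⟩ := exists_isFinite_morphismRestrict_of_finite_preimage_singleton f (f x)
    (by rw [hfib']; exact Set.finite_singleton x)
  obtain ⟨V₀, hV₀, hyV₀, hV₀V₁⟩ := exists_isAffineOpen_mem_and_subset hyV₁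
  have hfin₀ : IsFinite (f ∣_ V₀) := morphismRestrict_of_le (P := @IsFinite) f hV₀V₁ hfin
  obtain ⟨hUX, hφfin⟩ := (isFinite_morphismRestrict_iff f hV₀).mp hfin₀
  have hx : x ∈ f ⁻¹ᵁ V₀ := hyV₀
  have hnoeth : IsNoetherianRing Γ(X, f ⁻¹ᵁ V₀) := isNoetherianRing_sections k (f ≫ q) hUX
  have hmax : (hV₀.primeIdealOf ⟨f x, hx⟩).asIdeal.IsMaximal := isMaximal_primeIdealOf hV₀ hx hy
  algebraize [(f.app V₀).hom]
  obtain ⟨a, ham, hb⟩ := exists_pow_smul_mem_range_of_unique_prime_over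
    (hV₀.primeIdealOf ⟨f x, hx⟩).asIdeal (hUX.primeIdealOf ⟨x, hx⟩).asIdeal
    (fun n' hn' hcomap => by
      have := eq_of_comap_eq_primeIdealOf f hV₀ hUX x hx hfib ⟨n', hn'⟩ hcomap
      exact congrArg PrimeSpectrum.asIdeal this)
    (by
      have h1 := IsAffineOpen.comap_primeIdealOf_appLE (f := f) V₀ hV₀ (f ⁻¹ᵁ V₀) hUX le_rfl hx
      rw [Scheme.Hom.appLE_eq_app] at h1
      exact congrArg PrimeSpectrum.asIdeal h1)
    (fun b hb => exists_mul_mem_of_cotangent f hV₀ hUX x hx hT b hb)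
    (fun b => exists_sub_mem_primeIdealOf k f q hUX x hx hxcl b)
  refine ⟨Y.basicOpen a, mem_basicOpen_of_notMem_primeIdealOf hV₀ hx a ham, ?_⟩
  refine isClosedImmersion_morphismRestrict_basicOpen f hV₀ hUX a fun b => ?_
  obtain ⟨N, c, hc⟩ := hb b
  refine ⟨N, c, ?_⟩
  rw [Algebra.smul_def, map_pow] at hc
  exact hc


/-- On a Jacobson space, a closed set all of whose closed points coincide is a subsingleton. -/
theorem subset_singleton_of_closedPoints {X : Type*} [TopologicalSpace X] [JacobsonSpace X]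
    {Z : Set X} (hZ : IsClosed Z) (hne : Z.Nonempty)
    (h : ∀ x₁ ∈ Z, ∀ x₂ ∈ Z, IsClosed ({x₁} : Set X) → IsClosed ({x₂} : Set X) → x₁ = x₂) :
    ∃ x₁ ∈ Z, IsClosed ({x₁} : Set X) ∧ Z ⊆ {x₁} := by
  have hcl := JacobsonSpace.closure_inter_closedPoints hZ
  have hne' : (Z ∩ closedPoints X).Nonempty := by
    by_contra hemp
    rw [Set.not_nonempty_iff_eq_empty] at hemp
    rw [hemp, closure_empty] at hcl
    exact hne.ne_empty hcl.symm
  obtain ⟨x₁, hx₁Z, hx₁⟩ := hne'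
  refine ⟨x₁, hx₁Z, hx₁, ?_⟩
  rw [← hcl]
  have hsub : Z ∩ closedPoints X ⊆ {x₁} := by
    rintro z ⟨hzZ, hz⟩
    exact h z hzZ x₁ hx₁Z hz hx₁
  calc closure (Z ∩ closedPoints X) ⊆ closure {x₁} := closure_mono hsub
    _ = {x₁} := IsClosed.closure_eq hx₁

set_option backward.isDefEq.respectTransparency.types false in
theorem isClosedImmersion_of_injOn_closedPoints (k : Type u) [Field k] [IsAlgClosed k]
    {X Y : Scheme.{u}} (f : X ⟶ Y) (q : Y ⟶ Spec (CommRingCat.of k)) [QuasiCompact q]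
    [LocallyOfFiniteType (f ≫ q)] [IsProper f]
    (hinj : Set.InjOn f.base {x : X | IsClosed ({x} : Set X)})
    (hT : ∀ x : X, IsClosed ({x} : Set X) →
      Ideal.map (f.stalkMap x).hom (IsLocalRing.maximalIdeal (Y.presheaf.stalk (f.base x))) ⊔
        IsLocalRing.maximalIdeal (X.presheaf.stalk x) ^ 2 =
          IsLocalRing.maximalIdeal (X.presheaf.stalk x)) :
    IsClosedImmersion f := by
  have : JacobsonSpace X := LocallyOfFiniteType.jacobsonSpace (f ≫ q)
  have : CompactSpace Y := QuasiCompact.compactSpace_of_compactSpace q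
  have key : ∀ y : Y, IsClosed ({y} : Set Y) →
      ∃ V : Y.Opens, y ∈ V ∧ IsClosedImmersion (f ∣_ V) := by
    intro y hy
    by_cases hne : (f.base ⁻¹' {y}).Nonempty
    · obtain ⟨x₁, hx₁y, hx₁, hsub⟩ := subset_singleton_of_closedPoints
        (hy.preimage f.continuous) hne
        (fun x₁ h₁ x₂ h₂ c₁ c₂ => hinj c₁ c₂ ((h₁ : f x₁ = y).trans (h₂ : f x₂ = y).symm))
      obtain rfl : f x₁ = y := hx₁y
      exact exists_nhd_isClosedImmersion_of_closedPoint k f q x₁ hy hsub (hT x₁ hx₁)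
    · rw [Set.not_nonempty_iff_eq_empty] at hne
      refine ⟨⟨(Set.range f.base)ᶜ, f.isClosedMap.isClosed_range.isOpen_compl⟩, ?_, ?_⟩
      · rintro ⟨x, hx⟩
        have : x ∈ f.base ⁻¹' {y} := hx
        rw [hne] at this
        exact this
      · have : IsEmpty (f ⁻¹ᵁ (⟨(Set.range f.base)ᶜ,
            f.isClosedMap.isClosed_range.isOpen_compl⟩ : Y.Opens)).toScheme :=
          ⟨fun z => z.2 ⟨z.1, rfl⟩⟩
        infer_instance
  choose V hyV hV using key
  refine IsZariskiLocalAtTarget.of_iSup_eq_top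
    (fun y : {y : Y // IsClosed ({y} : Set Y)} => V y.1 y.2) ?_ (fun y => hV y.1 y.2)
  by_contra hne
  have hne' : ((⨆ y : {y : Y // IsClosed ({y} : Set Y)}, V y.1 y.2 : Y.Opens) : Set Y)ᶜ.Nonempty := by
    rw [Set.nonempty_compl]
    intro h
    exact hne (TopologicalSpace.Opens.ext h)
  obtain ⟨y, hyS, hycl⟩ := IsClosed.exists_closed_singleton
    (⨆ y : {y : Y // IsClosed ({y} : Set Y)}, V y.1 y.2 : Y.Opens).isOpen.isClosed_compl hne'
  exact hyS (TopologicalSpace.Opens.mem_iSup.mpr ⟨⟨y, hycl⟩, hyV y hycl⟩)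

end Groth.Agent.Lib.H80SepPts
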