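import Groth.Agent.Lib.StrictHenselization
import Groth.Agent.Lib.StrictHenselizationProps
import Groth.Agent.Lib.StrictHenselizationMax
import Groth.Agent.Lib.AdicDim
import Groth.Agent.S0540

/-!
# The strict henselization of a discrete valuation ring is a discrete valuation ring (helper80)
-/

set_option autoImplicit false
universe u

namespace Groth.Agent.Lib.H80ShDvr

open IsLocalRing

/-- A discrete valuation ring `V` has a local, injective extension `A` which is a discrete valuation
ring with separably closed residue field (its strict henselization). -/
theorem exists_sh_dvr (V : Type u) [CommRing V] [IsDomain V] [IsDiscreteValuationRing V] :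
    ∃ (A : Type u) (_ : CommRing A) (_ : IsDomain A) (_ : IsDiscreteValuationRing A)
      (_ : Algebra V A), IsLocalHom (algebraMap V A) ∧ Function.Injective (algebraMap V A) ∧
        IsSepClosed (IsLocalRing.ResidueField A) := by
  let A := Groth.Agent.Lib.StrictHenselization.Sh V
  have hsh : Hensel.IsStrictHenselization V A :=
    Groth.Agent.Lib.StrictHenselization.isStrictHenselization V
  have hNoeth : IsNoetherianRing A := (Groth.Agent.S0540.result V A).mp inferInstance
  have hff : Module.FaithfullyFlat V A :=
    Groth.Agent.Lib.StrictHenselization.faithfullyFlat_of_isStrictHenselization V A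
  have hinj : Function.Injective (algebraMap V A) := FaithfulSMul.algebraMap_injective V A
  obtain ⟨π, hπ⟩ := IsDiscreteValuationRing.exists_irreducible V
  have hπm : maximalIdeal V = Ideal.span {π} := hπ.maximalIdeal_eq
  have hmax : maximalIdeal A = Ideal.span {algebraMap V A π} := by
    rw [← Groth.Agent.Lib.StrictHenselizationMax.map_maximalIdeal_eq V A, hπm, Ideal.map_span,
      Set.image_singleton]
  have hnil : ¬ IsNilpotent (algebraMap V A π) := by
    rintro ⟨n, hn⟩
    rw [← map_pow] at hn
    have h2 : π ^ n = 0 := hinj (by rw [hn, map_zero])
    exact hπ.ne_zero (pow_eq_zero_iff (fun h => by rw [h, pow_zero] at h2; exact one_ne_zero h2)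
      |>.mp h2)
  obtain ⟨hdom, hdvr⟩ :=
    Groth.Agent.Lib.AdicDim.exists_isDiscreteValuationRing_of_maximalIdeal_eq_span_singleton
      hmax hnil
  have hsc : IsSepClosed (ResidueField A) :=
    (Hensel.IsStrictHenselization.isSepClosure (R := V) (S := A)).sep_closed
  exact ⟨A, inferInstance, hdom, hdvr, inferInstance, inferInstance, hinj, hsc⟩

end Groth.Agent.Lib.H80ShDvr
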