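import Mathlib.Algebra.Homology.HomologySequenceLemmas
import Mathlib.Algebra.Homology.HomologicalComplexAbelian
import Mathlib.Algebra.Homology.Homotopy
import Mathlib.CategoryTheory.Abelian.Projective.Basic
import Mathlib.Algebra.Homology.ShortComplex.Exact

set_option autoImplicit false
universe v u

open CategoryTheory Category Limits

namespace Groth.Agent.Lib.H80SplitCx

variable {C : Type u} [Category.{v} C] [Abelian C]

/-- An acyclic `ℕ`-indexed chain complex of projective objects is contractible. -/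
noncomputable def contraction (Q : ChainComplex C ℕ) [∀ n, Projective (Q.X n)]
    (hQ : ∀ i, Q.ExactAt i) : Homotopy (𝟙 Q) 0 := by
  have e0 : (Q.sc' 1 0 0).Exact := (Q.exactAt_iff' 1 0 0 (by simp) (by simp)).1 (hQ 0)
  have es : ∀ n : ℕ, (Q.sc' (n + 2) (n + 1) n).Exact := fun n =>
    (Q.exactAt_iff' (n + 2) (n + 1) n (by simp) (by simp)).1 (hQ (n + 1))
  let z0 : Q.X 0 ⟶ Q.X 1 := e0.liftFromProjective (𝟙 (Q.X 0)) (by
    change 𝟙 (Q.X 0) ≫ Q.d 0 0 = 0
    rw [Q.shape 0 0 (by simp), comp_zero])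
  have hz0 : z0 ≫ Q.d 1 0 = 𝟙 (Q.X 0) := e0.liftFromProjective_comp _ _
  let z1 : Q.X 1 ⟶ Q.X 2 := (es 0).liftFromProjective (𝟙 (Q.X 1) - Q.d 1 0 ≫ z0) (by
    change (𝟙 (Q.X 1) - Q.d 1 0 ≫ z0) ≫ Q.d 1 0 = 0
    rw [Preadditive.sub_comp, assoc, hz0, id_comp, comp_id, sub_self])
  have hz1 : z1 ≫ Q.d 2 1 = 𝟙 (Q.X 1) - Q.d 1 0 ≫ z0 := (es 0).liftFromProjective_comp _ _
  refine Homotopy.mkInductive (𝟙 Q) z0 (by simp [hz0]) z1 (by simp [hz1]) ?_
  rintro n ⟨g, g', w⟩
  have w' : 𝟙 (Q.X (n + 1)) = Q.d (n + 1) n ≫ g + g' ≫ Q.d (n + 2) (n + 1) := by simpa using w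
  refine ⟨(es (n + 1)).liftFromProjective (𝟙 (Q.X (n + 2)) - Q.d (n + 2) (n + 1) ≫ g') ?_, ?_⟩
  · change (𝟙 (Q.X (n + 2)) - Q.d (n + 2) (n + 1) ≫ g') ≫ Q.d (n + 2) (n + 1) = 0
    have : g' ≫ Q.d (n + 2) (n + 1) = 𝟙 (Q.X (n + 1)) - Q.d (n + 1) n ≫ g := by
      rw [w']; abel
    rw [Preadditive.sub_comp, assoc, this, Preadditive.comp_sub, comp_id, id_comp,
      HomologicalComplex.d_comp_d_assoc, zero_comp, sub_zero, sub_self]
  · have := (es (n + 1)).liftFromProjective_comp (𝟙 (Q.X (n + 2)) - Q.d (n + 2) (n + 1) ≫ g') (by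
      change (𝟙 (Q.X (n + 2)) - Q.d (n + 2) (n + 1) ≫ g') ≫ Q.d (n + 2) (n + 1) = 0
      have : g' ≫ Q.d (n + 2) (n + 1) = 𝟙 (Q.X (n + 1)) - Q.d (n + 1) n ≫ g := by
        rw [w']; abel
      rw [Preadditive.sub_comp, assoc, this, Preadditive.comp_sub, comp_id, id_comp,
        HomologicalComplex.d_comp_d_assoc, zero_comp, sub_zero, sub_self])
    change _ ≫ Q.d (n + 3) (n + 2) = _ at this
    simp only [HomologicalComplex.id_f]
    rw [this]
    abel

section Split

variable (S : ShortComplex (ChainComplex C ℕ))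

/-- For a short exact sequence `0 → A' → A → Q → 0` of `ℕ`-indexed chain complexes with `Q` degreewise
projective and `A' → A` a quasi-isomorphism, there are a chain-level section `h` of `A → Q` and a
chain-level retraction `g` of `A' → A` with `g ≫ f + p ≫ h = 𝟙`. -/
theorem exists_section_retraction (hS : S.ShortExact) [∀ n, Projective (S.X₃.X n)]
    (hf : QuasiIso S.f) :
    ∃ (h : S.X₃ ⟶ S.X₂) (g : S.X₂ ⟶ S.X₁), h ≫ S.g = 𝟙 _ ∧ S.f ≫ g = 𝟙 _ ∧
      g ≫ S.f + S.g ≫ h = 𝟙 _ := by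
  have hQ : ∀ i, S.X₃.ExactAt i := hS.acyclic_X₃ hf
  let H := contraction S.X₃ hQ
  have hSn : ∀ n, (S.map (HomologicalComplex.eval C (ComplexShape.down ℕ) n)).ShortExact :=
    (HomologicalComplex.shortExact_iff_degreewise_shortExact S).1 hS
  have hepi : ∀ n, Epi (S.g.f n) := fun n => (hSn n).epi_g
  have hmono : ∀ n, Mono (S.f.f n) := fun n => (hSn n).mono_f
  let σ : ∀ n, S.X₃.X n ⟶ S.X₂.X n := fun n => Projective.factorThru (𝟙 _) (S.g.f n)
  have hσ : ∀ n, σ n ≫ S.g.f n = 𝟙 _ := fun n => Projective.factorThru_comp _ _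
  let spl : ∀ n, (S.map (HomologicalComplex.eval C (ComplexShape.down ℕ) n)).Splitting := fun n =>
    ShortComplex.Splitting.ofExactOfSection _ (hSn n).exact (σ n) (hσ n) (hmono n)
  let r : ∀ n, S.X₂.X n ⟶ S.X₁.X n := fun n => (spl n).r
  have hfr : ∀ n, S.f.f n ≫ r n = 𝟙 _ := fun n => (spl n).f_r
  have hid : ∀ n, r n ≫ S.f.f n + S.g.f n ≫ σ n = 𝟙 _ := fun n => (spl n).id
  have hfg : ∀ n, S.f.f n ≫ S.g.f n = 0 := fun n => by
    rw [← HomologicalComplex.comp_f, S.zero, HomologicalComplex.zero_f]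
  -- the homotopy relations
  have hH0 : H.hom 0 1 ≫ S.X₃.d 1 0 = 𝟙 _ := by
    have := H.comm 0
    rw [Homotopy.dNext_zero_chainComplex, Homotopy.prevD_chainComplex, HomologicalComplex.zero_f, add_zero,
      zero_add, HomologicalComplex.id_f] at this
    exact this.symm
  have hHs : ∀ n : ℕ, S.X₃.d (n + 1) n ≫ H.hom n (n + 1) + H.hom (n + 1) (n + 2) ≫ S.X₃.d (n + 2) (n + 1)
      = 𝟙 _ := by
    intro n
    have := H.comm (n + 1)
    rw [Homotopy.dNext_succ_chainComplex, Homotopy.prevD_chainComplex, HomologicalComplex.zero_f, add_zero,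
      HomologicalComplex.id_f] at this
    exact this.symm
  -- the section
  let hh : S.X₃ ⟶ S.X₂ :=
    { f := fun n => H.hom n (n + 1) ≫ σ (n + 1) ≫ S.X₂.d (n + 1) n + dNext n H.hom ≫ σ n
      comm' := by
        intro i j hij
        have hij' : j + 1 = i := hij
        subst hij'
        rw [Preadditive.add_comp, assoc, assoc, HomologicalComplex.d_comp_d, comp_zero, comp_zero,
          zero_add, Preadditive.comp_add, Homotopy.dNext_succ_chainComplex, assoc]
        have h0 : S.X₃.d (j + 1) j ≫ dNext j H.hom ≫ σ j = 0 := by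
          cases j with
          | zero => rw [Homotopy.dNext_zero_chainComplex, zero_comp, comp_zero]
          | succ k =>
            rw [Homotopy.dNext_succ_chainComplex]
            simp only [assoc, HomologicalComplex.d_comp_d_assoc, zero_comp]
        rw [h0, add_zero]
        simp only [assoc] }
  have hhf : ∀ n, hh.f n = H.hom n (n + 1) ≫ σ (n + 1) ≫ S.X₂.d (n + 1) n + dNext n H.hom ≫ σ n :=
    fun n => rfl
  have hhg : hh ≫ S.g = 𝟙 _ := by
    ext n
    rw [HomologicalComplex.comp_f, hhf, Preadditive.add_comp, assoc, assoc, assoc,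
      ← S.g.comm (n + 1) n, reassoc_of% (hσ (n + 1)), hσ n, comp_id, HomologicalComplex.id_f]
    cases n with
    | zero => rw [Homotopy.dNext_zero_chainComplex, add_zero, hH0]
    | succ k =>
      rw [Homotopy.dNext_succ_chainComplex]
      exact (add_comm _ _).trans (hHs k)
  -- the retraction
  have hgh_comm : ∀ i j, (S.g ≫ hh).f i ≫ S.X₂.d i j = S.X₂.d i j ≫ (S.g ≫ hh).f j :=
    fun i j => (S.g ≫ hh).comm i j
  let gg : S.X₂ ⟶ S.X₁ :=
    { f := fun n => (𝟙 _ - S.g.f n ≫ hh.f n) ≫ r n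
      comm' := by
        intro i j _
        rw [← cancel_mono (S.f.f j)]
        have e1 : ∀ n, ((𝟙 (S.X₂.X n) - S.g.f n ≫ hh.f n) ≫ r n) ≫ S.f.f n =
            𝟙 (S.X₂.X n) - S.g.f n ≫ hh.f n := by
          intro n
          have h1 : r n ≫ S.f.f n = 𝟙 _ - S.g.f n ≫ σ n := by rw [← hid n]; abel
          have h2 : hh.f n ≫ S.g.f n = 𝟙 _ := by
            rw [← HomologicalComplex.comp_f, hhg, HomologicalComplex.id_f]
          rw [assoc, h1]
          simp only [Preadditive.sub_comp, Preadditive.comp_sub, id_comp, comp_id, assoc,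
            reassoc_of% h2]
          abel
        rw [assoc, ← S.f.comm i j, ← assoc, e1 i, assoc, e1 j, Preadditive.sub_comp,
          Preadditive.comp_sub, id_comp, comp_id]
        have := hgh_comm i j
        rw [HomologicalComplex.comp_f, HomologicalComplex.comp_f] at this
        rw [this] }
  have hggf : ∀ n, gg.f n = (𝟙 _ - S.g.f n ≫ hh.f n) ≫ r n := fun n => rfl
  refine ⟨hh, gg, hhg, ?_, ?_⟩
  · ext n
    rw [HomologicalComplex.comp_f, hggf]
    simp only [Preadditive.sub_comp, Preadditive.comp_sub, id_comp, assoc,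
      reassoc_of% (hfg n), zero_comp, sub_zero, hfr, HomologicalComplex.id_f]
  · ext n
    have h1 : r n ≫ S.f.f n = 𝟙 _ - S.g.f n ≫ σ n := by rw [← hid n]; abel
    have h2 : hh.f n ≫ S.g.f n = 𝟙 _ := by
      rw [← HomologicalComplex.comp_f, hhg, HomologicalComplex.id_f]
    rw [HomologicalComplex.add_f_apply, HomologicalComplex.comp_f, HomologicalComplex.comp_f, hggf,
      assoc, h1]
    simp only [Preadditive.sub_comp, Preadditive.comp_sub, id_comp,
      comp_id, assoc, reassoc_of% h2, HomologicalComplex.id_f]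
    abel

end Split

section Retraction

variable {A' A : ChainComplex C ℕ} (f : A' ⟶ A)

theorem shortExact_cokernelSequence [Mono f] : (ShortComplex.cokernelSequence f).ShortExact :=
  ShortComplex.ShortExact.mk' (ShortComplex.cokernelSequence_exact f)
    (inferInstanceAs (Mono f)) (inferInstanceAs (Epi (cokernel.π f)))

/-- A degreewise-mono quasi-isomorphism of `ℕ`-indexed chain complexes with degreewise projective
cokernel has a chain-level retraction. -/
theorem exists_retraction [Mono f] [∀ n, Projective ((cokernel f).X n)] (hf : QuasiIso f) :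
    ∃ g : A ⟶ A', f ≫ g = 𝟙 A' := by
  have : ∀ n, Projective ((ShortComplex.cokernelSequence f).X₃.X n) := fun n =>
    inferInstanceAs (Projective ((cokernel f).X n))
  obtain ⟨h, g, -, hg, -⟩ := exists_section_retraction (ShortComplex.cokernelSequence f)
    (shortExact_cokernelSequence f) hf
  exact ⟨g, hg⟩

/-- Two chain-level retractions of such a map are homotopic by a homotopy vanishing on the
subcomplex. -/
theorem exists_homotopy_of_retractions [Mono f] [∀ n, Projective ((cokernel f).X n)]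
    (hf : QuasiIso f) (g₁ g₂ : A ⟶ A') (h₁ : f ≫ g₁ = 𝟙 A') (h₂ : f ≫ g₂ = 𝟙 A') :
    ∃ H : Homotopy g₁ g₂, ∀ i j, f.f i ≫ H.hom i j = 0 := by
  have hQ : ∀ i, (cokernel f).ExactAt i := (shortExact_cokernelSequence f).acyclic_X₃ hf
  let s := contraction (cokernel f) hQ
  let k : cokernel f ⟶ A' := cokernel.desc f (g₁ - g₂) (by
    rw [Preadditive.comp_sub, h₁, h₂, sub_self])
  have hk : cokernel.π f ≫ k = g₁ - g₂ := cokernel.π_desc _ _ _
  let H0 : Homotopy (g₁ - g₂) 0 :=
    (Homotopy.ofEq (by rw [id_comp, hk])).trans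
      (((s.compRight k).compLeft (cokernel.π f)).trans (Homotopy.ofEq (by simp)))
  refine ⟨Homotopy.equivSubZero.symm H0, fun i j => ?_⟩
  have hH : (Homotopy.equivSubZero.symm H0).hom i j =
      (cokernel.π f).f i ≫ s.hom i j ≫ k.f j := by
    simp [Homotopy.equivSubZero, H0, Homotopy.trans]
  rw [hH, ← assoc, ← HomologicalComplex.comp_f, cokernel.condition, HomologicalComplex.zero_f,
    zero_comp]

end Retraction

end Groth.Agent.Lib.H80SplitCx
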