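import Groth.Agent.Lib.H80SplitCx
import Mathlib.Algebra.Category.ModuleCat.Projective
import Mathlib.Algebra.Category.ModuleCat.Kernels
import Mathlib.Algebra.Category.ModuleCat.Abelian
import Mathlib.Algebra.Homology.ShortComplex.ModuleCat
import Mathlib.Algebra.Homology.HomologicalComplexLimits

set_option autoImplicit false
universe v u

open CategoryTheory Category Limits

namespace Groth.Agent.Lib.H80SplitCx

variable {R : Type u} [Ring R]

theorem mono_of_injective {A' A : ChainComplex (ModuleCat.{v} R) ℕ} (f : A' ⟶ A)
    (hf : ∀ q, Function.Injective (f.f q).hom) : Mono f :=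
  HomologicalComplex.mono_of_mono_f f fun q => (ModuleCat.mono_iff_injective _).2 (hf q)

theorem projective_cokernel_X {A' A : ChainComplex (ModuleCat.{v} R) ℕ} (f : A' ⟶ A) (n : ℕ)
    [Module.Projective R ((A.X n) ⧸ LinearMap.range (f.f n).hom)] :
    Projective ((cokernel f).X n) := by
  let e1 : (cokernel f).X n ≅ cokernel (f.f n) :=
    PreservesCokernel.iso (HomologicalComplex.eval (ModuleCat.{v} R) (ComplexShape.down ℕ) n) f
  let e2 := ModuleCat.cokernelIsoRangeQuotient (f.f n)
  have : Projective (ModuleCat.of R ((A.X n) ⧸ LinearMap.range (f.f n).hom)) := inferInstance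
  exact Projective.of_iso (e1 ≪≫ e2).symm this

/-- The short complex of chain complexes attached to degreewise exact data. -/
theorem shortExact_of_elementwise {A' A A'' : ChainComplex (ModuleCat.{v} R) ℕ} (f : A' ⟶ A)
    (p : A ⟶ A'') (hf : ∀ q, Function.Injective (f.f q).hom)
    (hp : ∀ q, Function.Surjective (p.f q).hom)
    (hfp : ∀ q, Function.Exact (f.f q).hom (p.f q).hom) :
    ∃ w : f ≫ p = 0, (ShortComplex.mk f p w).ShortExact := by
  have w : f ≫ p = 0 := by
    ext q x
    exact (hfp q).apply_apply_eq_zero x
  refine ⟨w, HomologicalComplex.shortExact_of_degreewise_shortExact _ fun q => ?_⟩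
  refine ShortComplex.ShortExact.mk' ?_ ((ModuleCat.mono_iff_injective _).2 (hf q))
    ((ModuleCat.epi_iff_surjective _).2 (hp q))
  rw [ShortComplex.ShortExact.moduleCat_exact_iff_function_exact]
  exact hfp q

/-- Integer version: the quotient carries the canonical `ℤ`-module structure of an abelian group. -/
theorem projective_cokernel_X_int {A' A : ChainComplex (ModuleCat.{v} ℤ) ℕ} (f : A' ⟶ A) (n : ℕ)
    (hq : Module.Free ℤ ((A.X n) ⧸ LinearMap.range (f.f n).hom)) :
    Projective ((cokernel f).X n) := by
  have h2 : Module.Projective ℤ ((A.X n) ⧸ LinearMap.range (f.f n).hom) :=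
    Module.Projective.of_free
  have heq : (AddCommGroup.toIntModule _ : Module ℤ ((A.X n) ⧸ LinearMap.range (f.f n).hom)) =
      Submodule.Quotient.module _ := Subsingleton.elim _ _
  rw [heq] at h2
  exact @projective_cokernel_X ℤ _ A' A f n h2

end Groth.Agent.Lib.H80SplitCx
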