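/-
S-subtrusive morphisms over valuation rings (helper52), continuation of `Lib/SubtrH52`:
* `isQuotientMap_iff_isSSubtrusive_of_dvr`: over a DVR, submersive = S-subtrusive
* `flat_of_generic`: a reduced scheme with a generic point mapping to the generic point of the
  spectrum of a valuation ring is flat over it
* `exists_flat_closed_of_specializes`: the closure of a point over the generic point containing a
  point over the closed point is a flat surjective closed subscheme.
-/
import Groth.Agent.Lib.SubtrH52
import Groth.Agent.Lib.ImmImageH52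

set_option autoImplicit false
universe u
open CategoryTheory CategoryTheory.Limits AlgebraicGeometry IsLocalRing

namespace Groth.Agent.Lib.SubtrH52

open Subtr HTop Groth.Agent.Lib.ValSpecialize Groth.Agent.Lib.VCoverSubmersive

theorem eq_bot_or_eq_closedPoint (V : Type u) [CommRing V] [IsDomain V]
    [IsDiscreteValuationRing V] (p : PrimeSpectrum V) :
    p = (⟨⊥, Ideal.isPrime_bot⟩ : PrimeSpectrum V) ∨ p = closedPoint V := by
  by_cases h : p.asIdeal = ⊥
  · left; exact PrimeSpectrum.ext h
  · right
    apply PrimeSpectrum.ext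
    exact IsLocalRing.eq_maximalIdeal (p.isPrime.isMaximal h)

theorem isQuotientMap_iff_isSSubtrusive_of_dvr (V : Type u) [CommRing V] [IsDomain V]
    [IsDiscreteValuationRing V] {X : Scheme.{u}} (f : X ⟶ Spec (CommRingCat.of V)) :
    Topology.IsQuotientMap f ↔ Subtr.IsSSubtrusive f := by
  let η : PrimeSpectrum V := ⟨⊥, Ideal.isPrime_bot⟩
  have hηs : η ⤳ closedPoint V := bot_specializes _
  have hclosed : IsClosed ({closedPoint V} : Set (PrimeSpectrum V)) :=
    IsLocalRing.isClosed_singleton_closedPoint V
  constructor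
  · intro hq y y' hy
    by_cases hyy : y' = y
    · obtain ⟨x, hx⟩ := hq.surjective y
      exact ⟨x, x, specializes_rfl, hx, hx.trans hyy.symm⟩
    · have hy'η : y' = η := by
        rcases eq_bot_or_eq_closedPoint V y' with h | h
        · exact h
        · exfalso
          apply hyy
          have : y ∈ ({closedPoint V} : Set (PrimeSpectrum V)) :=
            hy.mem_closed hclosed (by rw [h]; exact Set.mem_singleton _)
          rw [h]; exact this.symm
      have hys : y = closedPoint V := by
        rcases eq_bot_or_eq_closedPoint V y with h | h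
        · exact absurd (hy'η.trans h.symm) hyy
        · exact h
      have hnc : ¬ IsClosed (f ⁻¹' {η}) := by
        rw [hq.isClosed_preimage]
        intro hc
        have : closedPoint V ∈ ({η} : Set (PrimeSpectrum V)) := hηs.mem_closed hc rfl
        apply hyy
        rw [hy'η, hys]
        exact this.symm
      have hex : ∃ x, x ∈ closure (f ⁻¹' {η}) ∧ x ∉ f ⁻¹' {η} := by
        by_contra hcon
        push Not at hcon
        exact hnc (closure_subset_iff_isClosed.mp hcon)
      obtain ⟨x, hx1, hx2⟩ := hex
      obtain ⟨x', hx', hx'x⟩ := exists_specializes_of_mem_closure_fibre f η x hx1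
      refine ⟨x, x', hx'x, ?_, hx'.trans hy'η.symm⟩
      rcases eq_bot_or_eq_closedPoint V (f x) with h | h
      · exact absurd h hx2
      · exact h.trans hys.symm
  · intro hf
    rw [Topology.isQuotientMap_iff, Topology.isCoinducing_iff]
    refine ⟨fun U => ⟨fun hU => ?_, fun hU => hU.preimage f.continuous⟩, IsSSubtrusive.surjective hf⟩
    have hgen : closedPoint V ∈ U → η ∈ U := by
      intro hs
      obtain ⟨x, x', hx, h1, h2⟩ := hf hηs
      have : x' ∈ f ⁻¹' U := hx.mem_open hU (by show f x ∈ U; rw [h1]; exact hs)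
      have h3 : f x' ∈ U := this
      rw [h2] at h3; exact h3
    rw [isOpen_iff_forall_mem_open]
    intro y hy
    rcases eq_bot_or_eq_closedPoint V y with h | h
    · refine ⟨{closedPoint V}ᶜ, ?_, hclosed.isOpen_compl, ?_⟩
      · intro z hz
        rcases eq_bot_or_eq_closedPoint V z with h' | h'
        · rw [h', ← h]; exact hy
        · exact absurd h' hz
      · rw [h]
        intro hcon
        have : η = closedPoint V := hcon
        have h4 := congrArg PrimeSpectrum.asIdeal this
        exact IsDiscreteValuationRing.not_a_field V h4.symm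
    · refine ⟨Set.univ, ?_, isOpen_univ, trivial⟩
      intro z _
      rcases eq_bot_or_eq_closedPoint V z with h' | h'
      · rw [h']; exact hgen (h ▸ hy)
      · rw [h', ← h]; exact hy

theorem flat_of_torsionFree_of_isBezout {V W : Type u} [CommRing V] [IsDomain V] [IsBezout V]
    [CommRing W] (φ : V →+* W) (hφ : ∀ v : V, v ≠ 0 → ∀ w : W, φ v * w = 0 → w = 0) :
    φ.Flat := by
  algebraize [φ]
  show Module.Flat V W
  rw [Module.Flat.flat_iff_torsion_eq_bot_of_isBezout, eq_bot_iff]
  intro w hw
  obtain ⟨⟨v, hv⟩, hvw⟩ := (Submodule.mem_torsion_iff w).mp hw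
  have hv0 : v ≠ 0 := nonZeroDivisors.ne_zero hv
  have h1 : φ v * w = 0 := by
    have : (⟨v, hv⟩ : nonZeroDivisors V) • w = 0 := hvw
    rw [Submonoid.mk_smul, Algebra.smul_def] at this
    exact this
  exact hφ v hv0 w h1

/-- A morphism from a reduced scheme with a generic point to the spectrum of a valuation ring
sending the generic point to the generic point is flat. -/
theorem flat_of_generic {Z : Scheme.{u}} [IsReduced Z] (ξ : Z) (hξ : ∀ z : Z, ξ ⤳ z)
    (V : Type u) [CommRing V] [IsDomain V] [ValuationRing V] (p : Z ⟶ Spec (CommRingCat.of V))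
    (hp : p ξ = (⟨⊥, Ideal.isPrime_bot⟩ : PrimeSpectrum V)) : Flat p := by
  rw [HasRingHomProperty.iff_of_source_openCover (P := @Flat) Z.affineCover]
  intro j
  set q := Z.affineCover.f j ≫ p with hq
  let e := Scheme.ΓSpecIso (CommRingCat.of V)
  have key : (e.inv ≫ q.appTop).hom.Flat := by
    apply flat_of_torsionFree_of_isBezout
    intro v hv b hb
    by_contra hb0
    have hne : (Z.affineCover.X j).basicOpen b ≠ ⊥ :=
      fun h => hb0 ((AlgebraicGeometry.basicOpen_eq_bot_iff _).mp h)
    obtain ⟨z, hz⟩ : ∃ z, z ∈ (Z.affineCover.X j).basicOpen b := by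
      by_contra hcon
      push Not at hcon
      exact hne (TopologicalSpace.Opens.ext (Set.eq_empty_of_forall_notMem hcon))
    have hopen : IsOpen ((Z.affineCover.f j) '' ((Z.affineCover.X j).basicOpen b : Set _)) :=
      (Z.affineCover.f j).isOpenEmbedding.isOpenMap _ ((Z.affineCover.X j).basicOpen b).2
    have hmem : ξ ∈ (Z.affineCover.f j) '' ((Z.affineCover.X j).basicOpen b : Set _) :=
      (hξ _).mem_open hopen ⟨z, hz, rfl⟩
    obtain ⟨z₀, hz₀, hz₀ξ⟩ := hmem
    have h1 : z₀ ∈ q ⁻¹ᵁ (Spec (CommRingCat.of V)).basicOpen (e.inv v) := by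
      show q z₀ ∈ (Spec (CommRingCat.of V)).basicOpen (e.inv v)
      rw [hq, Scheme.Hom.comp_apply, hz₀ξ, hp, basicOpen_eq_of_affine]
      intro h
      exact hv h
    rw [Scheme.preimage_basicOpen_top] at h1
    have h2 : z₀ ∈ (Z.affineCover.X j).basicOpen (q.appTop (e.inv v) * b) := by
      rw [Scheme.basicOpen_mul]; exact ⟨h1, hz₀⟩
    have hb' : q.appTop (e.inv v) * b = 0 := hb
    rw [hb', Scheme.basicOpen_zero] at h2
    exact h2
  have hcomp : q.appTop.hom = (e.inv ≫ q.appTop).hom.comp e.hom.hom := by
    ext a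
    simp
  rw [hcomp]
  exact RingHom.Flat.comp (RingHom.Flat.of_bijective e.commRingCatIsoToRingEquiv.bijective) key

theorem exists_flat_closed_of_specializes {X : Scheme.{u}} (V : Type u) [CommRing V] [IsDomain V]
    [ValuationRing V] (f : X ⟶ Spec (CommRingCat.of V)) (x x' : X) (hx : x' ⤳ x)
    (h1 : f x = closedPoint V) (h2 : f x' = (⟨⊥, Ideal.isPrime_bot⟩ : PrimeSpectrum V)) :
    ∃ (Z : Scheme.{u}) (i : Z ⟶ X), IsClosedImmersion i ∧ Flat (i ≫ f) ∧ Surjective (i ≫ f) := by
  let h := X.fromSpecResidueField x'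
  have hred : IsReduced h.image := Groth.Agent.Lib.ImmImageH52.isReduced_image h
  have hrange : Set.range h.imageι = closure {x'} := by
    rw [Groth.Agent.Lib.ImmImageH52.range_imageι h, Scheme.range_fromSpecResidueField]
  obtain ⟨ξ, hξx⟩ : x' ∈ Set.range h.imageι := by
    rw [hrange]; exact subset_closure rfl
  obtain ⟨z₁, hz₁⟩ : x ∈ Set.range h.imageι := by
    rw [hrange]; exact specializes_iff_mem_closure.mp hx
  have hξ : ∀ z : h.image, ξ ⤳ z := by
    intro z
    rw [← h.imageι.isClosedEmbedding.isEmbedding.isInducing.specializes_iff, hξx]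
    apply specializes_iff_mem_closure.mpr
    rw [← hrange]
    exact Set.mem_range_self z
  have hflat : Flat (h.imageι ≫ f) := by
    refine flat_of_generic ξ hξ V (h.imageι ≫ f) ?_
    rw [Scheme.Hom.comp_apply, hξx, h2]
  refine ⟨h.image, h.imageι, inferInstance, hflat, ⟨fun y => ?_⟩⟩
  have hy : y ⤳ (h.imageι ≫ f) z₁ := by
    rw [Scheme.Hom.comp_apply, hz₁, h1]
    exact specializes_closedPoint (R := V) y
  obtain ⟨z', -, hz'⟩ := Flat.generalizingMap (h.imageι ≫ f) hy
  exact ⟨z', hz'⟩

end Groth.Agent.Lib.SubtrH52
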