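import Groth.Prelude.Def_SGA1
import Groth.Agent.Lib.SubtrNoethH52
import Groth.Agent.Lib.SubtrH52b

/-!
# Universally submersive families (helper80)

* `univSubmersive_sigmaDesc`: a family `f i : U i ⟶ X` such that the members indexed by `D` are
  universally open and jointly surjective induces a universally submersive `Sigma.desc f`.
* `exists_dominant_of_univSubmersive`: over an irreducible locally Noetherian `X`, if a finite family
  is universally submersive then the dominant members are jointly surjective (DVR base change).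
-/

set_option autoImplicit false
universe u

open CategoryTheory CategoryTheory.Limits AlgebraicGeometry Topology

namespace Groth.Agent.Lib.H80Submersive

theorem univSubmersive_sigmaDesc {X : Scheme.{u}} {I : Type u} (U : I → Scheme.{u})
    (f : ∀ i, U i ⟶ X) (D : Set I) (hopen : ∀ i ∈ D, UniversallyOpen (f i))
    (hsurj : ∀ x : X, ∃ i ∈ D, ∃ u : U i, f i u = x) :
    SGA1.UnivSubmersive (Sigma.desc f) := by
  intro X' Y' i₁ i₂ f' hpb
  show IsQuotientMap f'
  have key : ∀ i, ∃ q : pullback (f i) i₂ ⟶ X', q ≫ f' = pullback.snd (f i) i₂ := by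
    intro i
    refine ⟨hpb.lift (pullback.snd (f i) i₂) (pullback.fst (f i) i₂ ≫ Sigma.ι U i) ?_,
      hpb.lift_fst _ _ _⟩
    simp [pullback.condition]
  choose q hq using key
  have hcov : ∀ t : Y', ∃ i ∈ D, ∃ z : ↥(pullback (f i) i₂), pullback.snd (f i) i₂ z = t := by
    intro t
    obtain ⟨i, hi, u, hu⟩ := hsurj (i₂ t)
    obtain ⟨z, -, hz⟩ := Scheme.Pullback.exists_preimage_pullback (f := f i) (g := i₂) u t hu
    exact ⟨i, hi, z, hz⟩
  have hqz : ∀ i (z : ↥(pullback (f i) i₂)), f' (q i z) = pullback.snd (f i) i₂ z := by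
    intro i z
    rw [← hq i]; rfl
  refine ⟨Topology.isCoinducing_iff.mpr fun s => ⟨fun hs => ?_,
    fun hs => hs.preimage f'.continuous⟩, fun t => ?_⟩
  rotate_left
  · obtain ⟨i, -, z, hz⟩ := hcov t
    exact ⟨q i z, (hqz i z).trans hz⟩
  · have hEq : s = ⋃ i ∈ D, pullback.snd (f i) i₂ '' ((q i) ⁻¹' (f' ⁻¹' s)) := by
      ext t
      simp only [Set.mem_iUnion, Set.mem_image, Set.mem_preimage, exists_prop]
      constructor
      · intro ht
        obtain ⟨i, hi, z, hz⟩ := hcov t
        refine ⟨i, hi, z, ?_, hz⟩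
        rw [hqz i z, hz]; exact ht
      · rintro ⟨i, -, z, hz, rfl⟩
        rw [← hqz i z]; exact hz
    rw [hEq]
    refine isOpen_biUnion fun i hi => ?_
    have := hopen i hi
    exact (pullback.snd (f i) i₂).isOpenMap _ ((hs.preimage (q i).continuous))

theorem isClosed_range_sigmaι {I : Type u} (U : I → Scheme.{u}) (i : I) :
    IsClosed (Set.range (Sigma.ι U i)) := by
  have : Set.range (Sigma.ι U i) = (sigmaMk U) '' (Set.range (Sigma.mk i)) := by
    ext x
    constructor
    · rintro ⟨u, rfl⟩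
      exact ⟨⟨i, u⟩, ⟨u, rfl⟩, sigmaMk_mk U i u⟩
    · rintro ⟨_, ⟨u, rfl⟩, rfl⟩
      exact ⟨u, (sigmaMk_mk U i u).symm⟩
  rw [this]
  exact (sigmaMk U).isClosedMap _ isClosed_range_sigmaMk

theorem exists_dominant_of_univSubmersive {X : Scheme.{u}} [IsLocallyNoetherian X]
    [IrreducibleSpace ↥X] {I : Type u} [Finite I] (U : I → Scheme.{u}) (f : ∀ i, U i ⟶ X)
    (h : SGA1.UnivSubmersive (Sigma.desc f)) (x : X) :
    ∃ (i : I) (u : U i), IsDominant (f i) ∧ f i u = x := by
  by_contra hcon
  push Not at hcon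
  -- surjectivity
  have hsurj : Function.Surjective (Sigma.desc f) :=
    (h (𝟙 _) (𝟙 _) (Sigma.desc f) (IsPullback.id_vert _)).surjective
  have hpt : ∀ p : ↥(∐ U), ∃ i, ∃ u : U i, Sigma.ι U i u = p := by
    intro p
    obtain ⟨⟨i, u⟩, hu⟩ := (sigmaMk U).surjective p
    exact ⟨i, u, (sigmaMk_mk U i u).symm.trans hu⟩
  have hdesc : ∀ i (u : U i), (Sigma.desc f) (Sigma.ι U i u) = f i u := by
    intro i u
    rw [← Scheme.Hom.comp_apply, Sigma.ι_desc]
  let η : X := genericPoint X
  have hη : ∀ i (u : U i), f i u = η → IsDominant (f i) := by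
    intro i u hu
    refine ⟨?_⟩
    rw [DenseRange, dense_iff_closure_eq]
    apply Set.eq_univ_of_univ_subset
    rw [← (genericPoint_spec X).def]
    exact closure_mono (Set.singleton_subset_iff.mpr ⟨u, hu⟩)
  have hηx : η ≠ x := by
    intro he
    obtain ⟨p, hp⟩ := hsurj x
    obtain ⟨i, u, rfl⟩ := hpt p
    rw [hdesc] at hp
    exact hcon i u (hη i u (hp.trans he.symm)) hp
  obtain ⟨A, hA, l, hl1, hl2⟩ :=
    Groth.Agent.Lib.SubtrNoethH52.exists_dvr_of_specializes (genericPoint_specializes x) hηx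
  let gen : PrimeSpectrum A := ⟨⊥, Ideal.isPrime_bot⟩
  have hq : IsQuotientMap (pullback.snd (Sigma.desc f) l) :=
    h _ _ _ (IsPullback.of_hasPullback _ _).flip
  have hcond : ∀ p : ↥(pullback (Sigma.desc f) l),
      (Sigma.desc f) (pullback.fst (Sigma.desc f) l p) = l (pullback.snd (Sigma.desc f) l p) := by
    intro p
    rw [← Scheme.Hom.comp_apply, ← Scheme.Hom.comp_apply, pullback.condition]
  have hEq : (pullback.snd (Sigma.desc f) l) ⁻¹' {gen} =
      ⋃ i ∈ {i : I | IsDominant (f i)},
        (pullback.fst (Sigma.desc f) l) ⁻¹' (Set.range (Sigma.ι U i)) := by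
    ext p
    simp only [Set.mem_preimage, Set.mem_iUnion, Set.mem_ofPred_eq, exists_prop]
    constructor
    · intro hp
      obtain ⟨i, u, hu⟩ := hpt (pullback.fst (Sigma.desc f) l p)
      refine ⟨i, hη i u ?_, ⟨u, hu⟩⟩
      have := hcond p
      rw [← hu, hdesc, hp] at this
      exact this.trans hl2
    · rintro ⟨i, hi, u, hu⟩
      rcases Groth.Agent.Lib.SubtrH52.eq_bot_or_eq_closedPoint A
        (pullback.snd (Sigma.desc f) l p) with h' | h'
      · exact h'
      · exfalso
        have := hcond p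
        rw [← hu, hdesc, h'] at this
        exact hcon i u hi (this.trans hl1)
  have hclosed : IsClosed ((pullback.snd (Sigma.desc f) l) ⁻¹' {gen}) := by
    rw [hEq]
    exact (Set.toFinite _).isClosed_biUnion fun i _ =>
      (isClosed_range_sigmaι U i).preimage (pullback.fst (Sigma.desc f) l).continuous
  rw [hq.isClosed_preimage] at hclosed
  have hspec : gen ⤳ IsLocalRing.closedPoint A := by
    rw [← PrimeSpectrum.le_iff_specializes]
    exact bot_le
  have hmem : IsLocalRing.closedPoint A ∈ ({gen} : Set (PrimeSpectrum A)) := hspec.mem_closed hclosed rfl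
  have h1 : IsLocalRing.maximalIdeal A = ⊥ := congrArg PrimeSpectrum.asIdeal hmem
  exact IsDiscreteValuationRing.not_a_field A h1

end Groth.Agent.Lib.H80Submersive
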