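/-
helper80: criteria for universal openness of `Spec B ⟶ Spec A`.
* `universallyOpen_SpecMap_of_forall_isOpenMap_comap`: enough that `Spec (R ⊗[A] B) → Spec R` is an
  open map for every `A`-algebra `R`.
* `isOpenMap_comap_includeLeft_of_isOpen_image`: if `b₁,…,b_d` span `B` over `A` and the image of
  `D(∑ xᵢ bᵢ)` in `Spec A[x]` is open then `Spec (R ⊗[A] B) → Spec R` is open for all `R`.
* `universallyOpen_of_isOpen_image_basicOpen` / `isOpen_image_of_universallyOpen`.
-/
import Mathlib

set_option autoImplicit false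
universe u
open CategoryTheory CategoryTheory.Limits AlgebraicGeometry TensorProduct

namespace Groth.Agent.Lib.H80UnivOpenSpec

theorem isOpenMap_of_isPullback_SpecMap {A B : Type u} [CommRing A] [CommRing B]
    [Algebra A B]
    (H : ∀ (R : Type u) [CommRing R] [Algebra A R],
      IsOpenMap (PrimeSpectrum.comap
        (Algebra.TensorProduct.includeLeftRingHom : R →+* R ⊗[A] B)))
    {R : CommRingCat.{u}} {X' : Scheme.{u}} {f' : X' ⟶ Spec R} {i₁ : X' ⟶ Spec (.of B)}
    {g : Spec R ⟶ Spec (.of A)}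
    (hpb : IsPullback f' i₁ g (Spec.map (CommRingCat.ofHom (algebraMap A B)))) :
    IsOpenMap f' := by
  obtain ⟨ψ, rfl⟩ := Spec.map_surjective g
  algebraize [ψ.hom]
  have hψ' : ψ = CommRingCat.ofHom (algebraMap A R) := rfl
  have hpb' := (isPullback_SpecMap_of_isPushout _ _ _ _
    (CommRingCat.isPushout_tensorProduct A R B))
  rw [hψ'] at hpb
  have hfst : (hpb.isoIsPullback _ _ hpb').hom ≫ Spec.map _ = f' :=
    hpb.isoIsPullback_hom_fst _ _ hpb'
  rw [← hfst]
  rw [Scheme.Hom.comp_base, TopCat.coe_comp]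
  refine IsOpenMap.comp (H R) ?_
  exact (hpb.isoIsPullback _ _ hpb').hom.homeomorph.isOpenMap

theorem universallyOpen_SpecMap_of_forall_isOpenMap_comap {A B : Type u} [CommRing A] [CommRing B]
    [Algebra A B]
    (H : ∀ (R : Type u) [CommRing R] [Algebra A R],
      IsOpenMap (PrimeSpectrum.comap
        (Algebra.TensorProduct.includeLeftRingHom : R →+* R ⊗[A] B))) :
    UniversallyOpen (Spec.map (CommRingCat.ofHom (algebraMap A B))) := by
  rw [UniversallyOpen.eq]
  intro X' T i₁ i₂ f' h
  rw [IsZariskiLocalAtTarget.iff_of_openCover (P := topologically @IsOpenMap)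
    T.affineOpenCover.openCover]
  intro k
  have hpb : IsPullback (pullback.snd f' (T.affineOpenCover.f k))
      (pullback.fst f' (T.affineOpenCover.f k) ≫ i₁) (T.affineOpenCover.f k ≫ i₂)
      (Spec.map (CommRingCat.ofHom (algebraMap A B))) :=
    (IsPullback.of_hasPullback f' (T.affineOpenCover.f k)).flip.paste_vert h
  exact isOpenMap_of_isPullback_SpecMap H hpb


attribute [local instance] MvPolynomial.algebraMvPolynomial

theorem exists_sum_tmul_of_span_eq_top {A B : Type u} [CommRing A] [CommRing B] [Algebra A B]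
    {d : ℕ} (b : Fin d → B) (hb : Submodule.span A (Set.range b) = ⊤)
    (R : Type u) [CommRing R] [Algebra A R] (g : R ⊗[A] B) :
    ∃ a : Fin d → R, g = ∑ i, a i ⊗ₜ[A] b i := by
  induction g using TensorProduct.induction_on with
  | zero => exact ⟨0, by simp⟩
  | tmul r x =>
    have hx : x ∈ Submodule.span A (Set.range b) := by rw [hb]; trivial
    obtain ⟨c, rfl⟩ := (Submodule.mem_span_range_iff_exists_fun A).mp hx
    refine ⟨fun i => c i • r, ?_⟩
    rw [TensorProduct.tmul_sum]
    refine Finset.sum_congr rfl fun i _ => ?_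
    rw [TensorProduct.tmul_smul, TensorProduct.smul_tmul']
  | add x y hx hy =>
    obtain ⟨a, rfl⟩ := hx
    obtain ⟨a', rfl⟩ := hy
    refine ⟨a + a', ?_⟩
    simp [TensorProduct.add_tmul, Finset.sum_add_distrib]

theorem isOpen_image_basicOpen_of_isOpen_image {A B : Type u} [CommRing A] [CommRing B]
    [Algebra A B] {d : ℕ} (b : Fin d → B)
    (hopen : IsOpen (PrimeSpectrum.comap (MvPolynomial.map (σ := Fin d) (algebraMap A B)) ''
        (PrimeSpectrum.basicOpen (∑ i : Fin d, MvPolynomial.X i * MvPolynomial.C (b i)) :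
          Set (PrimeSpectrum (MvPolynomial (Fin d) B)))))
    (R : Type u) [CommRing R] [Algebra A R] (a : Fin d → R) :
    IsOpen (PrimeSpectrum.comap
        (Algebra.TensorProduct.includeLeftRingHom : R →+* R ⊗[A] B) ''
      (PrimeSpectrum.basicOpen (∑ i, a i ⊗ₜ[A] b i) : Set (PrimeSpectrum (R ⊗[A] B)))) := by
  let P := MvPolynomial (Fin d) A
  let Q := MvPolynomial (Fin d) B
  let θ : P →ₐ[A] R := MvPolynomial.aeval a
  let Θ : Q →+* R ⊗[A] B := MvPolynomial.eval₂Hom
    (Algebra.TensorProduct.includeRight (R := A) (A := R) (B := B)).toRingHom (fun i => a i ⊗ₜ[A] 1)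
  have t : IsPushout (CommRingCat.ofHom (algebraMap A B)) (CommRingCat.ofHom (algebraMap A P))
      (CommRingCat.ofHom (algebraMap B Q)) (CommRingCat.ofHom (algebraMap P Q)) :=
    CommRingCat.isPushout_of_isPushout A B P Q
  have e1 : CommRingCat.ofHom (algebraMap A P) ≫ CommRingCat.ofHom θ.toRingHom =
      CommRingCat.ofHom (algebraMap A R) := by
    rw [← CommRingCat.ofHom_comp]
    congr 1
    exact θ.comp_algebraMap
  have e2 : CommRingCat.ofHom (algebraMap B Q) ≫ CommRingCat.ofHom Θ =
      CommRingCat.ofHom (Algebra.TensorProduct.includeRight (R := A) (A := R) (B := B)).toRingHom := by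
    rw [← CommRingCat.ofHom_comp]
    congr 1
    ext x
    simp [Θ, Q]
  have p : CommRingCat.ofHom (algebraMap P Q) ≫ CommRingCat.ofHom Θ =
      CommRingCat.ofHom θ.toRingHom ≫ CommRingCat.ofHom
        (Algebra.TensorProduct.includeLeftRingHom : R →+* R ⊗[A] B) := by
    rw [← CommRingCat.ofHom_comp, ← CommRingCat.ofHom_comp]
    congr 1
    apply MvPolynomial.ringHom_ext
    · intro x
      simp [Θ, θ, P, Q]
    · intro i
      simp [Θ, θ, P, Q]
  have s : IsPushout (CommRingCat.ofHom (algebraMap A B))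
      (CommRingCat.ofHom (algebraMap A P) ≫ CommRingCat.ofHom θ.toRingHom)
      (CommRingCat.ofHom (algebraMap B Q) ≫ CommRingCat.ofHom Θ)
      (CommRingCat.ofHom (Algebra.TensorProduct.includeLeftRingHom : R →+* R ⊗[A] B)) := by
    rw [e1, e2]
    exact (CommRingCat.isPushout_tensorProduct A R B).flip
  have bot := IsPushout.of_top s p t
  have hpb := isPullback_SpecMap_of_isPushout _ _ _ _ bot
  have key := Scheme.image_preimage_eq_of_isPullback hpb
    (PrimeSpectrum.basicOpen (∑ i : Fin d, MvPolynomial.X i * MvPolynomial.C (b i)) :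
          Set (PrimeSpectrum (MvPolynomial (Fin d) B)))
  have hΘ : Θ (∑ i : Fin d, MvPolynomial.X i * MvPolynomial.C (b i)) = ∑ i, a i ⊗ₜ[A] b i := by
    simp [Θ, Q]
  have hpre : (Spec.map (CommRingCat.ofHom Θ)).base ⁻¹'
      (PrimeSpectrum.basicOpen (∑ i : Fin d, MvPolynomial.X i * MvPolynomial.C (b i)) :
          Set (PrimeSpectrum (MvPolynomial (Fin d) B))) =
      (PrimeSpectrum.basicOpen (∑ i, a i ⊗ₜ[A] b i) : Set (PrimeSpectrum (R ⊗[A] B))) := by
    rw [← hΘ]
    ext x
    exact Iff.rfl
  rw [hpre] at key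
  change IsOpen ((Spec.map (CommRingCat.ofHom
    (Algebra.TensorProduct.includeLeftRingHom : R →+* R ⊗[A] B))).base '' _)
  rw [key]
  exact hopen.preimage (Spec.map (CommRingCat.ofHom θ.toRingHom)).base.hom.continuous


theorem isOpenMap_comap_includeLeft_of_isOpen_image {A B : Type u} [CommRing A] [CommRing B]
    [Algebra A B] {d : ℕ} (b : Fin d → B) (hb : Submodule.span A (Set.range b) = ⊤)
    (hopen : IsOpen (PrimeSpectrum.comap (MvPolynomial.map (σ := Fin d) (algebraMap A B)) ''
        (PrimeSpectrum.basicOpen (∑ i : Fin d, MvPolynomial.X i * MvPolynomial.C (b i)) :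
          Set (PrimeSpectrum (MvPolynomial (Fin d) B)))))
    (R : Type u) [CommRing R] [Algebra A R] :
    IsOpenMap (PrimeSpectrum.comap
        (Algebra.TensorProduct.includeLeftRingHom : R →+* R ⊗[A] B)) := by
  rw [PrimeSpectrum.isBasis_basic_opens.isOpenMap_iff]
  rintro _ ⟨_, ⟨g, rfl⟩, rfl⟩
  obtain ⟨a, rfl⟩ := exists_sum_tmul_of_span_eq_top b hb R g
  exact isOpen_image_basicOpen_of_isOpen_image b hopen R a

theorem universallyOpen_of_isOpen_image_basicOpen {A B : Type u} [CommRing A] [CommRing B]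
    [Algebra A B] {d : ℕ} (b : Fin d → B) (hb : Submodule.span A (Set.range b) = ⊤)
    (hopen : IsOpen (PrimeSpectrum.comap (MvPolynomial.map (σ := Fin d) (algebraMap A B)) ''
        (PrimeSpectrum.basicOpen (∑ i : Fin d, MvPolynomial.X i * MvPolynomial.C (b i)) :
          Set (PrimeSpectrum (MvPolynomial (Fin d) B))))) :
    UniversallyOpen (Spec.map (CommRingCat.ofHom (algebraMap A B))) :=
  universallyOpen_SpecMap_of_forall_isOpenMap_comap
    (isOpenMap_comap_includeLeft_of_isOpen_image b hb hopen)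

theorem isOpenMap_comap_map_of_universallyOpen {A B : Type u} [CommRing A] [CommRing B]
    [Algebra A B] (σ : Type)
    (h : UniversallyOpen (Spec.map (CommRingCat.ofHom (algebraMap A B)))) :
    IsOpenMap (PrimeSpectrum.comap (MvPolynomial.map (σ := σ) (algebraMap A B))) := by
  have t : IsPushout (CommRingCat.ofHom (algebraMap A B))
      (CommRingCat.ofHom (algebraMap A (MvPolynomial σ A)))
      (CommRingCat.ofHom (algebraMap B (MvPolynomial σ B)))
      (CommRingCat.ofHom (algebraMap (MvPolynomial σ A) (MvPolynomial σ B))) :=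
    CommRingCat.isPushout_of_isPushout A B (MvPolynomial σ A) (MvPolynomial σ B)
  have hpb := isPullback_SpecMap_of_isPushout _ _ _ _ t
  have : UniversallyOpen (Spec.map
      (CommRingCat.ofHom (algebraMap (MvPolynomial σ A) (MvPolynomial σ B)))) :=
    MorphismProperty.of_isPullback (P := @UniversallyOpen) hpb h
  exact (Spec.map
      (CommRingCat.ofHom (algebraMap (MvPolynomial σ A) (MvPolynomial σ B)))).isOpenMap

end Groth.Agent.Lib.H80UnivOpenSpec
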