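import Groth.Agent.Lib.SpecResidueH52
import Mathlib.FieldTheory.PurelyInseparable.Basic
import Mathlib.Algebra.CharP.Algebra

/-!
For a ring map `φ` whose `Spec` is a universal homeomorphism, the ring-level residue field maps
are purely inseparable (in the elementwise form).
-/

set_option autoImplicit false
universe u

open CategoryTheory AlgebraicGeometry

namespace Groth.Agent.Lib.SpecResidueInsepH52

open Groth.Agent.Lib.SpecResidueH52

variable {A B : Type u} [CommRing A] [CommRing B] (φ : A →+* B)

theorem exists_pow_mem_range_of_isUnivHomeo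
    (h : FlatMor.IsUnivHomeo (Spec.map (CommRingCat.ofHom φ))) (Q : PrimeSpectrum B)
    (z : Q.asIdeal.ResidueField) :
    ∃ n : ℕ, z ^ ringExpChar (PrimeSpectrum.comap φ Q).asIdeal.ResidueField ^ n ∈
      Set.range (Ideal.ResidueField.map (PrimeSpectrum.comap φ Q).asIdeal Q.asIdeal φ rfl) := by
  have hui : UniversallyInjective (Spec.map (CommRingCat.ofHom φ)) :=
    Groth.Agent.Lib.UnivHomeo.universallyInjective h
  have htfae : UniversallyInjective (Spec.map (CommRingCat.ofHom φ)) ↔
      Function.Injective (Spec.map (CommRingCat.ofHom φ)) ∧ ∀ x,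
        ((Spec.map (CommRingCat.ofHom φ)).residueFieldMap x).hom.IsPurelyInseparable :=
    (tfae_universallyInjective (Spec.map (CommRingCat.ofHom φ))).out 0 2
  have hpi := (htfae.mp hui).2 Q
  set rfm := (Spec.map (CommRingCat.ofHom φ)).residueFieldMap Q with hrfm
  set a := Scheme.Spec.residueFieldIso (CommRingCat.of A) ((Spec.map (CommRingCat.ofHom φ)) Q)
  set b := Scheme.Spec.residueFieldIso (CommRingCat.of B) Q
  have hsq : ∀ w, b.hom (rfm w) = resMap (CommRingCat.ofHom φ) Q (a.hom w) := by
    intro w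
    have h1 := residueFieldMap_eq (CommRingCat.ofHom φ) Q
    have h2 : rfm ≫ b.hom = a.hom ≫ CommRingCat.ofHom (resMap (CommRingCat.ofHom φ) Q) := by
      rw [hrfm, h1]
      simp
      rfl
    exact congrArg (fun ψ => ψ.hom w) h2
  set q := ringExpChar (PrimeSpectrum.comap φ Q).asIdeal.ResidueField with hq
  have hexp0 : ExpChar (CommRingCat.of
      ((Spec.map (CommRingCat.ofHom φ)) Q).asIdeal.ResidueField) q :=
    inferInstanceAs (ExpChar (PrimeSpectrum.comap φ Q).asIdeal.ResidueField
      (ringExpChar (PrimeSpectrum.comap φ Q).asIdeal.ResidueField))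
  have hexp : ExpChar ((Spec (CommRingCat.of A)).residueField
      ((Spec.map (CommRingCat.ofHom φ)) Q)) q :=
    expChar_of_injective_ringHom (f := a.inv.hom) (RingHom.injective _) q
  algebraize [rfm.hom]
  obtain ⟨n, w, hw⟩ := IsPurelyInseparable.pow_mem
    ((Spec (CommRingCat.of A)).residueField ((Spec.map (CommRingCat.ofHom φ)) Q)) q (b.inv z)
  refine ⟨n, a.hom w, ?_⟩
  have h3 : b.hom (rfm w) = b.hom ((b.inv z) ^ q ^ n) := congrArg b.hom hw
  rw [hsq, map_pow] at h3
  have h4 : b.hom (b.inv z) = z := by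
    change (b.inv ≫ b.hom) z = z
    rw [Iso.inv_hom_id]
    rfl
  rw [h4] at h3
  exact h3

end Groth.Agent.Lib.SpecResidueInsepH52
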