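import Groth.Agent.Lib.UnivInjRingH52
import Groth.Agent.Lib.SpecResidueInsepH52

/-!
Ring-level dictionary for universal homeomorphisms of affine schemes:
`IsUH φ` (integral, surjective on spectra, field-valued points determined by restriction) and
`ResTriv φ` (trivial residue field extensions, in elementwise form).
-/

set_option autoImplicit false
universe u

open CategoryTheory AlgebraicGeometry

namespace Groth.Agent.Lib.UHRingH52

open Groth.Agent.Lib.SpecResidueH52 Groth.Agent.Lib.UnivInjRingH52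

variable {A B : Type u} [CommRing A] [CommRing B] (φ : A →+* B)

/-- Ring-level universal homeomorphism. -/
def IsUH : Prop :=
  φ.IsIntegral ∧ Function.Surjective (PrimeSpectrum.comap φ) ∧
    ∀ (K : Type u) [Field K] (g₁ g₂ : B →+* K), g₁.comp φ = g₂.comp φ → g₁ = g₂

theorem isUnivHomeo_iff : FlatMor.IsUnivHomeo (Spec.map (CommRingCat.ofHom φ)) ↔ IsUH φ := by
  constructor
  · intro h
    obtain ⟨h1, h2⟩ := of_isUnivHomeo φ h
    exact ⟨h1, h2.2, fun K _ g₁ g₂ hg => eq_of_comp_eq_of_isUnivHomeo φ h g₁ g₂ hg⟩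
  · rintro ⟨h1, h2, h3⟩
    exact isUnivHomeo_of_ring φ h1 h2 h3

variable {φ}

theorem IsUH.isIntegral (h : IsUH φ) : φ.IsIntegral := h.1

theorem IsUH.comap_bijective (h : IsUH φ) : Function.Bijective (PrimeSpectrum.comap φ) :=
  (of_isUnivHomeo φ ((isUnivHomeo_iff φ).mpr h)).2

theorem IsUH.eq_of_comp_eq (h : IsUH φ) {K : Type u} [Field K] (g₁ g₂ : B →+* K)
    (hg : g₁.comp φ = g₂.comp φ) : g₁ = g₂ := h.2.2 K g₁ g₂ hg

variable (φ)

theorem universallyClosed_Spec_iff :
    UniversallyClosed (Spec.map (CommRingCat.ofHom φ)) ↔ φ.IsIntegral := by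
  have h0 : IsIntegralHom (Spec.map (CommRingCat.ofHom φ)) ↔ φ.IsIntegral :=
    IsIntegralHom.SpecMap_iff
  rw [← h0, IsIntegralHom.iff_universallyClosed_and_isAffineHom]
  exact ⟨fun h => ⟨h, inferInstance⟩, fun h => h.1⟩

/-- The subring of elements of `B` whose image in `k(Q)` comes from `k(Q ∩ A)`. -/
noncomputable def resSub (Q : PrimeSpectrum B) : Subring B :=
  (Ideal.ResidueField.map (PrimeSpectrum.comap φ Q).asIdeal Q.asIdeal φ rfl).range.comap
    (algebraMap B Q.asIdeal.ResidueField)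

theorem mem_resSub_iff' (Q : PrimeSpectrum B) (b : B) :
    b ∈ resSub φ Q ↔ ∃ z, Ideal.ResidueField.map (PrimeSpectrum.comap φ Q).asIdeal Q.asIdeal φ rfl z =
      algebraMap B Q.asIdeal.ResidueField b := Iff.rfl

theorem map_mem_resSub (Q : PrimeSpectrum B) (a : A) : φ a ∈ resSub φ Q :=
  ⟨algebraMap A _ a, Ideal.ResidueField.map_algebraMap _ _ _ _ _⟩

theorem mem_resSub_iff (Q : PrimeSpectrum B) (b : B) :
    b ∈ resSub φ Q ↔ ∃ a s : A, φ s ∉ Q.asIdeal ∧ φ s * b - φ a ∈ Q.asIdeal := by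
  rw [mem_resSub_iff']
  set P := PrimeSpectrum.comap φ Q with hP
  constructor
  · rintro ⟨z, hz⟩
    obtain ⟨x, y, hy, rfl⟩ := IsFractionRing.div_surjective (A := A ⧸ P.asIdeal) z
    obtain ⟨a, rfl⟩ := Ideal.Quotient.mk_surjective x
    obtain ⟨s, rfl⟩ := Ideal.Quotient.mk_surjective y
    have hs : s ∉ P.asIdeal := by
      intro hs
      have : Ideal.Quotient.mk P.asIdeal s = 0 := Ideal.Quotient.eq_zero_iff_mem.mpr hs
      exact nonZeroDivisors.ne_zero hy this
    refine ⟨a, s, hs, ?_⟩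
    have h1 : ∀ c : A, algebraMap (A ⧸ P.asIdeal) P.asIdeal.ResidueField (Ideal.Quotient.mk _ c) =
        algebraMap A P.asIdeal.ResidueField c := fun c => rfl
    rw [h1, h1, map_div₀, Ideal.ResidueField.map_algebraMap, Ideal.ResidueField.map_algebraMap] at hz
    have hs' : algebraMap B Q.asIdeal.ResidueField (φ s) ≠ 0 := by
      rw [Ne, Ideal.algebraMap_residueField_eq_zero]
      exact hs
    rw [div_eq_iff hs'] at hz
    rw [← Ideal.algebraMap_residueField_eq_zero, map_sub, map_mul, hz, mul_comm, sub_self]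
  · rintro ⟨a, s, hs, h⟩
    rw [← Ideal.algebraMap_residueField_eq_zero, map_sub, map_mul, sub_eq_zero] at h
    have hs' : algebraMap B Q.asIdeal.ResidueField (φ s) ≠ 0 := by
      rw [Ne, Ideal.algebraMap_residueField_eq_zero]
      exact hs
    refine ⟨algebraMap A _ a / algebraMap A _ s, ?_⟩
    rw [map_div₀, Ideal.ResidueField.map_algebraMap, Ideal.ResidueField.map_algebraMap,
      div_eq_iff hs', ← h, mul_comm]

/-- Residue field extensions of `Spec B → Spec A` are trivial (elementwise form). -/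
def ResTriv : Prop :=
  ∀ (Q : PrimeSpectrum B) (b : B), ∃ a s : A, φ s ∉ Q.asIdeal ∧ φ s * b - φ a ∈ Q.asIdeal

theorem resTriv_iff_resSub : ResTriv φ ↔ ∀ Q : PrimeSpectrum B, resSub φ Q = ⊤ := by
  constructor
  · intro h Q
    rw [eq_top_iff]
    intro b _
    exact (mem_resSub_iff φ Q b).mpr (h Q b)
  · intro h Q b
    rw [← mem_resSub_iff, h Q]
    exact Subring.mem_top b

theorem resTriv_iff_surjective : ResTriv φ ↔ ∀ Q : PrimeSpectrum B, Function.Surjective
    (Ideal.ResidueField.map (PrimeSpectrum.comap φ Q).asIdeal Q.asIdeal φ rfl) := by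
  rw [resTriv_iff_resSub]
  refine forall_congr' fun Q => ?_
  constructor
  · intro h w
    obtain ⟨x, y, hy, rfl⟩ := IsFractionRing.div_surjective (A := B ⧸ Q.asIdeal) w
    obtain ⟨b, rfl⟩ := Ideal.Quotient.mk_surjective x
    obtain ⟨b', rfl⟩ := Ideal.Quotient.mk_surjective y
    have h1 : b ∈ resSub φ Q := by rw [h]; exact Subring.mem_top b
    have h2 : b' ∈ resSub φ Q := by rw [h]; exact Subring.mem_top b'
    obtain ⟨z, hz⟩ := h1
    obtain ⟨z', hz'⟩ := h2
    refine ⟨z / z', ?_⟩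
    rw [map_div₀, hz, hz']
    rfl
  · intro h
    rw [eq_top_iff]
    intro b _
    exact h _

theorem resSurj_iff :
    (∀ x : Spec (CommRingCat.of B),
      Function.Surjective ((Spec.map (CommRingCat.ofHom φ)).residueFieldMap x)) ↔ ResTriv φ := by
  rw [resTriv_iff_surjective]
  refine forall_congr' fun Q => ?_
  rw [residueFieldMap_eq (CommRingCat.ofHom φ) Q]
  set a := Scheme.Spec.residueFieldIso (CommRingCat.of A) ((Spec.map (CommRingCat.ofHom φ)) Q)
  set b := Scheme.Spec.residueFieldIso (CommRingCat.of B) Q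
  have ha : Function.Bijective a.hom := (ConcreteCategory.isIso_iff_bijective a.hom).mp inferInstance
  have hb : Function.Bijective b.inv := (ConcreteCategory.isIso_iff_bijective b.inv).mp inferInstance
  have : ⇑(a.hom ≫ CommRingCat.ofHom (resMap (CommRingCat.ofHom φ) Q) ≫ b.inv) =
      b.inv ∘ (resMap (CommRingCat.ofHom φ) Q) ∘ a.hom := by
    ext w
    rfl
  rw [this]
  constructor
  · intro h
    have h1 := (Function.Surjective.of_comp_iff' hb _).mp h
    exact (Function.Surjective.of_comp_iff _ ha.2).mp h1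
  · intro h
    exact hb.2.comp (Function.Surjective.comp h ha.2)

variable {φ}

/-- For a universal homeomorphism the residue field extensions are purely inseparable. -/
theorem IsUH.exists_pow_mem_resSub (h : IsUH φ) (Q : PrimeSpectrum B) (b : B) :
    ∃ ℓ n : ℕ, (ℓ = 1 ∨ (ℓ.Prime ∧ φ (ℓ : A) ∈ Q.asIdeal)) ∧ b ^ ℓ ^ n ∈ resSub φ Q := by
  obtain ⟨n, z, hz⟩ := Groth.Agent.Lib.SpecResidueInsepH52.exists_pow_mem_range_of_isUnivHomeo φ
    ((isUnivHomeo_iff φ).mpr h) Q (algebraMap B _ b)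
  obtain ⟨ℓ, hℓ⟩ : ∃ ℓ : ℕ, ℓ = ringExpChar (PrimeSpectrum.comap φ Q).asIdeal.ResidueField :=
    ⟨_, rfl⟩
  rw [← hℓ] at hz
  have hexp : ExpChar (PrimeSpectrum.comap φ Q).asIdeal.ResidueField ℓ := by
    rw [hℓ]; infer_instance
  refine ⟨ℓ, n, ?_, z, ?_⟩
  · rcases hexp with _ | ⟨hprime⟩
    · exact Or.inl rfl
    · refine Or.inr ⟨hprime, ?_⟩
      have h0 : ((ℓ : ℕ) : (PrimeSpectrum.comap φ Q).asIdeal.ResidueField) = 0 :=
        CharP.cast_eq_zero _ _
      have h1 : algebraMap A (PrimeSpectrum.comap φ Q).asIdeal.ResidueField ((ℓ : ℕ) : A) = 0 := by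
        rw [map_natCast, h0]
      rw [Ideal.algebraMap_residueField_eq_zero] at h1
      exact h1
  · rw [hz, map_pow]

end Groth.Agent.Lib.UHRingH52
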