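import Mathlib
import Groth.Agent.Lib.UHRingH52

/-!
# Weak subintegral closure: elementwise criterion (Rydh / Traverso–Swan style)

* `exists_lift_algClosed`: ring maps to an algebraically closed field extend along injective
  integral ring extensions.
* `isNilpotent_tmul_sub_of_isUH`: if `Spec C → Spec A` is a universal homeomorphism (`C ⊆ B`)
  then `c ⊗ 1 - 1 ⊗ c` is nilpotent in `B ⊗_A B` for all `c ∈ C`.
* `isUH_adjoin_of_isNilpotent`: conversely if `A ⊆ B` is integral and `b ⊗ 1 - 1 ⊗ b` is
  nilpotent then `Spec A[b] → Spec A` is a universal homeomorphism.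
-/

set_option autoImplicit false
universe u
open CategoryTheory CategoryTheory.Limits AlgebraicGeometry TensorProduct

namespace Groth.Agent.Lib.H80WeakSubint

open Groth.Agent.Lib.UHRingH52

/-- A ring map from `D` to an algebraically closed field extends along an injective integral
ring extension `D → B`. -/
theorem exists_lift_algClosed {D B : Type u} [CommRing D] [CommRing B] [Algebra D B]
    [Algebra.IsIntegral D B] (hinj : Function.Injective (algebraMap D B))
    {L : Type u} [Field L] [IsAlgClosed L] (g : D →+* L) :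
    ∃ g' : B →+* L, g'.comp (algebraMap D B) = g := by
  let p : Ideal D := RingHom.ker g
  have hp : p.IsPrime := RingHom.ker_isPrime g
  obtain ⟨P, -, hP, hPp⟩ := Ideal.exists_ideal_over_prime_of_isIntegral p (⊥ : Ideal B)
    (by
      rw [← RingHom.ker_eq_comap_bot, (RingHom.injective_iff_ker_eq_bot _).mp hinj]
      exact bot_le)
  have hlo : P.LiesOver p := ⟨hPp.symm⟩
  let _ : Algebra (D ⧸ p) L := (RingHom.kerLift g).toAlgebra
  have hinjL : Function.Injective (algebraMap (D ⧸ p) L) := RingHom.kerLift_injective g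
  have : IsDomain (B ⧸ P) := Ideal.Quotient.isDomain P
  have : IsDomain (D ⧸ p) := Ideal.Quotient.isDomain p
  have : Module.IsTorsionFree (D ⧸ p) L := Module.isTorsionFree_iff_algebraMap_injective.mpr hinjL
  have : Algebra.IsAlgebraic (D ⧸ p) (B ⧸ P) := Algebra.IsIntegral.isAlgebraic
  have : Module.IsTorsionFree (D ⧸ p) (B ⧸ P) :=
    Module.isTorsionFree_iff_algebraMap_injective.mpr (FaithfulSMul.algebraMap_injective _ _)
  let σ : (B ⧸ P) →ₐ[D ⧸ p] L := IsAlgClosed.lift
  refine ⟨σ.toRingHom.comp (Ideal.Quotient.mk P), ?_⟩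
  ext d
  have h1 : σ (algebraMap (D ⧸ p) (B ⧸ P) (Ideal.Quotient.mk p d)) =
      algebraMap (D ⧸ p) L (Ideal.Quotient.mk p d) := σ.commutes _
  have h2 : algebraMap (D ⧸ p) L (Ideal.Quotient.mk p d) = g d := RingHom.kerLift_mk g d
  rw [h2] at h1
  simpa using h1

/-- If `A → C` (a subalgebra of `B`) is a universal homeomorphism on spectra, then
`c ⊗ 1 - 1 ⊗ c` is nilpotent in `B ⊗_A B` for `c ∈ C`. -/
theorem isNilpotent_tmul_sub_of_isUH {A B : Type u} [CommRing A] [CommRing B] [Algebra A B]
    (C : Subalgebra A B) (hC : IsUH (algebraMap A C)) (b : B) (hb : b ∈ C) :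
    IsNilpotent (b ⊗ₜ[A] (1 : B) - (1 : B) ⊗ₜ[A] b) := by
  rw [nilpotent_iff_mem_prime]
  intro P hP
  let K := P.ResidueField
  let χ : B ⊗[A] B →+* K := algebraMap (B ⊗[A] B) K
  let g₁ : C →+* K := (χ.comp (Algebra.TensorProduct.includeLeft (R := A) (S := A) (A := B) (B := B)).toRingHom).comp C.val.toRingHom
  let g₂ : C →+* K := (χ.comp (Algebra.TensorProduct.includeRight (R := A) (A := B) (B := B)).toRingHom).comp C.val.toRingHom
  have h12 : g₁.comp (algebraMap A C) = g₂.comp (algebraMap A C) := by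
    ext a
    simp only [g₁, g₂, RingHom.comp_apply, AlgHom.toRingHom_eq_coe, RingHom.coe_coe,
      AlgHom.commutes]
  have heq := hC.eq_of_comp_eq g₁ g₂ h12
  have h3 : χ (b ⊗ₜ[A] (1 : B)) = χ ((1 : B) ⊗ₜ[A] b) := by
    have := congrArg (fun g => g ⟨b, hb⟩) heq
    simpa [g₁, g₂] using this
  have h4 : χ (b ⊗ₜ[A] (1 : B) - (1 : B) ⊗ₜ[A] b) = 0 := by
    rw [map_sub, h3, sub_self]
  exact Ideal.algebraMap_residueField_eq_zero.mp h4

theorem isUH_adjoin_of_isNilpotent {A B : Type u} [CommRing A] [CommRing B] [Algebra A B]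
    (hinj : Function.Injective (algebraMap A B)) [Algebra.IsIntegral A B] (b : B)
    (hb : IsNilpotent (b ⊗ₜ[A] (1 : B) - (1 : B) ⊗ₜ[A] b)) :
    IsUH (algebraMap A (Algebra.adjoin A {b})) := by
  set D := Algebra.adjoin A {b} with hD
  have hAD : Function.Injective (algebraMap A D) := by
    intro x y hxy
    apply hinj
    have := congrArg (algebraMap D B) hxy
    simpa [← IsScalarTower.algebraMap_apply] using this
  have hintD : Algebra.IsIntegral A D :=
    ⟨fun d => (isIntegral_algHom_iff D.val Subtype.val_injective).mp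
      (Algebra.IsIntegral.isIntegral (d : B))⟩
  have hintDB : Algebra.IsIntegral D B := Algebra.IsIntegral.tower_top (R := A)
  refine ⟨algebraMap_isIntegral_iff.mpr hintD, ?_, ?_⟩
  · intro p
    obtain ⟨Q, -, hQ, hQp⟩ := Ideal.exists_ideal_over_prime_of_isIntegral p.asIdeal (⊥ : Ideal D)
      (by
        rw [← RingHom.ker_eq_comap_bot, (RingHom.injective_iff_ker_eq_bot _).mp hAD]
        exact bot_le)
    exact ⟨⟨Q, hQ⟩, PrimeSpectrum.ext hQp⟩
  · intro K _ g₁ g₂ h12
    let L := AlgebraicClosure K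
    let ι : K →+* L := algebraMap K L
    obtain ⟨g₁', hg₁'⟩ := exists_lift_algClosed (D := D) (B := B) Subtype.val_injective (ι.comp g₁)
    obtain ⟨g₂', hg₂'⟩ := exists_lift_algClosed (D := D) (B := B) Subtype.val_injective (ι.comp g₂)
    let _ : Algebra A L := (g₁'.comp (algebraMap A B)).toAlgebra
    let G₁ : B →ₐ[A] L := { g₁' with commutes' := fun a => rfl }
    let G₂ : B →ₐ[A] L :=
      { g₂' with
        commutes' := fun a => by
          show g₂' (algebraMap A B a) = g₁' (algebraMap A B a)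
          have e1 : g₂' (algebraMap D B (algebraMap A D a)) = ι (g₂ (algebraMap A D a)) :=
            congrArg (fun g => g (algebraMap A D a)) hg₂'
          have e2 : g₁' (algebraMap D B (algebraMap A D a)) = ι (g₁ (algebraMap A D a)) :=
            congrArg (fun g => g (algebraMap A D a)) hg₁'
          have e3 : g₁ (algebraMap A D a) = g₂ (algebraMap A D a) :=
            congrArg (fun g => g a) h12
          rw [IsScalarTower.algebraMap_apply A D B, e1, e2, e3] }
    have hχ := hb.map (Algebra.TensorProduct.productMap G₁ G₂)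
    rw [map_sub, Algebra.TensorProduct.productMap_apply_tmul,
      Algebra.TensorProduct.productMap_apply_tmul, map_one, map_one, mul_one, one_mul] at hχ
    have hbb : g₁' b = g₂' b := sub_eq_zero.mp hχ.eq_zero
    have hbD : b ∈ D := Algebra.subset_adjoin (Set.mem_singleton b)
    have hb12 : g₁ ⟨b, hbD⟩ = g₂ ⟨b, hbD⟩ := by
      apply ι.injective
      have e1 : g₁' (algebraMap D B ⟨b, hbD⟩) = ι (g₁ ⟨b, hbD⟩) :=
        congrArg (fun g => g ⟨b, hbD⟩) hg₁'
      have e2 : g₂' (algebraMap D B ⟨b, hbD⟩) = ι (g₂ ⟨b, hbD⟩) :=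
        congrArg (fun g => g ⟨b, hbD⟩) hg₂'
      rw [← e1, ← e2]
      exact hbb
    ext ⟨d, hd⟩
    induction hd using Algebra.adjoin_induction with
    | mem x hx =>
      obtain rfl : x = b := hx
      exact hb12
    | algebraMap r => exact congrArg (fun g => g r) h12
    | add x y hx hy ihx ihy =>
      have : (⟨x + y, D.add_mem hx hy⟩ : D) = ⟨x, hx⟩ + ⟨y, hy⟩ := rfl
      rw [this, map_add, map_add, ihx, ihy]
    | mul x y hx hy ihx ihy =>
      have : (⟨x * y, D.mul_mem hx hy⟩ : D) = ⟨x, hx⟩ * ⟨y, hy⟩ := rfl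
      rw [this, map_mul, map_mul, ihx, ihy]

end Groth.Agent.Lib.H80WeakSubint
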