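import Mathlib.RingTheory.Artinian.Ring
import Mathlib.RingTheory.Ideal.Colon
import Mathlib.LinearAlgebra.Dimension.RankNullity
import Mathlib.LinearAlgebra.Dimension.DivisionRing
import Mathlib.LinearAlgebra.Dimension.Constructions
import Mathlib.RingTheory.Ideal.Quotient.Operations
import Mathlib.RingTheory.TensorProduct.Basic
import Mathlib.LinearAlgebra.TensorProduct.Quotient
import Mathlib.LinearAlgebra.Dimension.Free

/-!
# Dimension bound for modules over a finite algebra over a field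

If `A` is a finite-dimensional `K`-algebra and `M` an `A`-module with
`dim_K (M / pM) ≤ m * dim_K (A / p)` for all maximal ideals `p`, then `dim_K M ≤ m * dim_K A`.
-/

set_option autoImplicit false
set_option linter.style.haveILetI false
universe u

namespace Groth.Agent.Lib.H86ArtinRank

open Submodule

variable {K : Type*} [Field K] {A : Type u} [CommRing A] [Algebra K A]
  {M : Type u} [AddCommGroup M] [Module A M] [Module K M] [IsScalarTower K A M]

/-- multiplication by `x` from `M/pM` to `M/I'M` -/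
noncomputable def mulQ (I' p : Ideal A) (x : A) (hp : ∀ a ∈ p, a * x ∈ I') :
    (M ⧸ (p • ⊤ : Submodule A M)) →ₗ[A] (M ⧸ (I' • ⊤ : Submodule A M)) :=
  Submodule.mapQ _ _ (x • (LinearMap.id : M →ₗ[A] M)) (by
    intro y hy
    rw [Submodule.mem_comap]
    refine Submodule.smul_induction_on hy ?_ ?_
    · intro a ha z _
      show x • (a • z) ∈ _
      rw [smul_smul, mul_comm]
      exact Submodule.smul_mem_smul (hp a ha) Submodule.mem_top
    · intro y z hy hz
      rw [map_add]
      exact add_mem hy hz)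

theorem mulQ_mk (I' p : Ideal A) (x : A) (hp : ∀ a ∈ p, a * x ∈ I') (y : M) :
    mulQ (M := M) I' p x hp (Submodule.Quotient.mk y) = Submodule.Quotient.mk (x • y) := rfl

/-- the projection `M/I'M → M/IM` -/
noncomputable def projQ (I' I : Ideal A) (hle : I' ≤ I) :
    (M ⧸ (I' • ⊤ : Submodule A M)) →ₗ[A] (M ⧸ (I • ⊤ : Submodule A M)) :=
  Submodule.mapQ _ _ LinearMap.id (by
    intro y hy
    exact Submodule.smul_mono_left hle hy)

theorem projQ_mk (I' I : Ideal A) (hle : I' ≤ I) (y : M) :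
    projQ (M := M) I' I hle (Submodule.Quotient.mk y) = Submodule.Quotient.mk y := rfl

theorem projQ_surjective (I' I : Ideal A) (hle : I' ≤ I) :
    Function.Surjective (projQ (M := M) I' I hle) := by
  intro z
  obtain ⟨y, rfl⟩ := Submodule.Quotient.mk_surjective _ z
  exact ⟨Submodule.Quotient.mk y, rfl⟩

theorem ker_projQ (I' I p : Ideal A) (x : A) (hI : I = I' ⊔ Ideal.span {x})
    (hp : ∀ a ∈ p, a * x ∈ I') :
    LinearMap.ker (projQ (M := M) I' I (hI ▸ le_sup_left)) = LinearMap.range (mulQ (M := M) I' p x hp) := by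
  have hxI : x ∈ I := hI ▸ (Ideal.mem_sup_right (Ideal.subset_span rfl))
  apply le_antisymm
  · intro z hz
    obtain ⟨y, rfl⟩ := Submodule.Quotient.mk_surjective _ z
    rw [LinearMap.mem_ker, projQ_mk, Submodule.Quotient.mk_eq_zero] at hz
    rw [hI, Submodule.sup_smul, Submodule.mem_sup] at hz
    obtain ⟨z', hz', w, hw, rfl⟩ := hz
    rw [Submodule.ideal_span_singleton_smul, Submodule.mem_smul_pointwise_iff_exists] at hw
    obtain ⟨v, -, rfl⟩ := hw
    refine ⟨Submodule.Quotient.mk v, ?_⟩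
    rw [mulQ_mk, Submodule.Quotient.mk_add]
    have : (Submodule.Quotient.mk z' : M ⧸ (I' • ⊤ : Submodule A M)) = 0 :=
      (Submodule.Quotient.mk_eq_zero _).2 hz'
    rw [this, zero_add]
  · rintro _ ⟨z, rfl⟩
    obtain ⟨y, rfl⟩ := Submodule.Quotient.mk_surjective _ z
    rw [LinearMap.mem_ker, mulQ_mk, projQ_mk, Submodule.Quotient.mk_eq_zero]
    exact Submodule.smul_mem_smul hxI Submodule.mem_top

theorem rank_quot_le (I' I p : Ideal A) (x : A) (hI : I = I' ⊔ Ideal.span {x})
    (hp : ∀ a ∈ p, a * x ∈ I') :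
    Module.rank K (M ⧸ (I' • ⊤ : Submodule A M)) ≤
      Module.rank K (M ⧸ (p • ⊤ : Submodule A M)) + Module.rank K (M ⧸ (I • ⊤ : Submodule A M)) := by
  have hle : I' ≤ I := hI ▸ le_sup_left
  let g := (projQ (M := M) I' I hle).restrictScalars K
  let f := (mulQ (M := M) I' p x hp).restrictScalars K
  have hg : Function.Surjective g := projQ_surjective I' I hle
  have hker : LinearMap.ker g = LinearMap.range f := by
    ext z
    have := ker_projQ (M := M) I' I p x hI hp
    exact SetLike.ext_iff.1 this z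
  have h1 := LinearMap.rank_range_add_rank_ker g
  rw [rank_range_of_surjective g hg, hker] at h1
  rw [← h1, add_comm]
  exact add_le_add_left (rank_range_le f) _

theorem rank_quot_eq (I' I p : Ideal A) (x : A) (hI : I = I' ⊔ Ideal.span {x})
    (hp : ∀ a ∈ p, a * x ∈ I')
    (hinj : Function.Injective (mulQ (M := M) I' p x hp)) :
    Module.rank K (M ⧸ (I' • ⊤ : Submodule A M)) =
      Module.rank K (M ⧸ (p • ⊤ : Submodule A M)) + Module.rank K (M ⧸ (I • ⊤ : Submodule A M)) := by
  have hle : I' ≤ I := hI ▸ le_sup_left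
  let g := (projQ (M := M) I' I hle).restrictScalars K
  let f := (mulQ (M := M) I' p x hp).restrictScalars K
  have hg : Function.Surjective g := projQ_surjective I' I hle
  have hker : LinearMap.ker g = LinearMap.range f := by
    ext z
    have := ker_projQ (M := M) I' I p x hI hp
    exact SetLike.ext_iff.1 this z
  have h1 := LinearMap.rank_range_add_rank_ker g
  rw [rank_range_of_surjective g hg, hker, rank_range_of_injective f hinj] at h1
  rw [← h1, add_comm]

/-- the colon ideal `(I' : x)` is maximal when `I'` is maximal among ideals strictly below `I` -/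
theorem exists_step (I : Ideal A) [IsNoetherianRing A] (hI : I ≠ ⊥) :
    ∃ (I' p : Ideal A) (x : A), I' < I ∧ I = I' ⊔ Ideal.span {x} ∧ p.IsMaximal ∧
      ∀ a, a ∈ p ↔ a * x ∈ I' := by
  have hne : {J : Ideal A | J < I}.Nonempty := ⟨⊥, bot_lt_iff_ne_bot.2 hI⟩
  obtain ⟨I', hI'I, hmax⟩ := (wellFounded_gt (α := Ideal A)).has_min _ hne
  have hI'I : I' < I := hI'I
  have hcov : ∀ J : Ideal A, I' < J → J ≤ I → J = I := by
    intro J h1 h2
    rcases lt_or_eq_of_le h2 with h3 | h3
    · exact absurd h1 (hmax J h3)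
    · exact h3
  obtain ⟨x, hxI, hxI'⟩ := SetLike.exists_of_lt hI'I
  have hsup : I = I' ⊔ Ideal.span {x} := by
    symm
    apply hcov
    · refine lt_of_le_of_ne le_sup_left fun h => hxI' ?_
      rw [h]
      exact Ideal.mem_sup_right (Ideal.subset_span rfl)
    · exact sup_le hI'I.le ((Ideal.span_singleton_le_iff_mem _).2 hxI)
  let p : Ideal A := I'.colon {x}
  have hp : ∀ a, a ∈ p ↔ a * x ∈ I' := fun a => Submodule.mem_colon_singleton
  refine ⟨I', p, x, hI'I, hsup, ?_, hp⟩
  rw [Ideal.isMaximal_iff]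
  refine ⟨fun h => hxI' (by simpa using (hp 1).1 h), ?_⟩
  intro J b hpJ hbp hbJ
  have hbx : b * x ∉ I' := fun h => hbp ((hp b).2 h)
  have h2 : I' ⊔ Ideal.span {b * x} = I := by
    apply hcov
    · refine lt_of_le_of_ne le_sup_left fun h => hbx ?_
      rw [h]
      exact Ideal.mem_sup_right (Ideal.subset_span rfl)
    · exact sup_le hI'I.le ((Ideal.span_singleton_le_iff_mem _).2 (I.mul_mem_left b hxI))
  have hx2 : x ∈ I' ⊔ Ideal.span {b * x} := h2 ▸ hxI
  rw [Submodule.mem_sup] at hx2
  obtain ⟨i, hi, w, hw, hiw⟩ := hx2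
  obtain ⟨c, rfl⟩ := Ideal.mem_span_singleton'.1 hw
  have h3 : (1 - c * b) ∈ p := by
    rw [hp]
    have : (1 - c * b) * x = i := by
      have h5 : (1 - c * b) * x = x - c * (b * x) := by ring
      rw [h5]
      exact sub_eq_of_eq_add hiw.symm
    rw [this]
    exact hi
  have h4 : c * b ∈ J := J.mul_mem_left c hbJ
  have : (1 : A) = (1 - c * b) + c * b := by ring
  rw [this]
  exact J.add_mem (hpJ h3) h4

theorem rank_le_mul_rank [Module.Finite K A] (m : ℕ)
    (H : ∀ p : Ideal A, p.IsMaximal → Module.rank K (M ⧸ (p • ⊤ : Submodule A M)) ≤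
      m * Module.rank K (A ⧸ (p • ⊤ : Submodule A A))) :
    Module.rank K M ≤ m * Module.rank K A := by
  haveI : IsArtinianRing A := IsArtinianRing.of_finite K A
  haveI : IsNoetherianRing A := IsNoetherianRing.of_finite K A
  have key : ∀ I : Ideal A,
      (Module.rank K (M ⧸ (I • ⊤ : Submodule A M)) ≤ m * Module.rank K (A ⧸ (I • ⊤ : Submodule A A))) →
      (Module.rank K (M ⧸ ((⊥ : Ideal A) • ⊤ : Submodule A M)) ≤
        m * Module.rank K (A ⧸ ((⊥ : Ideal A) • ⊤ : Submodule A A))) := by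
    intro I
    induction I using WellFoundedLT.induction with
    | ind I ih =>
    intro hQ
    by_cases hI : I = ⊥
    · subst hI; exact hQ
    obtain ⟨I', p, x, hlt, hsup, hpmax, hp⟩ := exists_step I hI
    apply ih I' hlt
    have hp' : ∀ a ∈ p, a * x ∈ I' := fun a ha => (hp a).1 ha
    have h1 := rank_quot_le (K := K) (M := M) I' I p x hsup hp'
    have hinj : Function.Injective (mulQ (M := A) I' p x hp') := by
      rw [injective_iff_map_eq_zero]
      intro z hz
      obtain ⟨a, rfl⟩ := Submodule.Quotient.mk_surjective _ z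
      rw [mulQ_mk, Submodule.Quotient.mk_eq_zero] at hz
      rw [Submodule.Quotient.mk_eq_zero]
      rw [smul_eq_mul, Ideal.mul_top] at hz ⊢
      rw [hp, mul_comm]
      exact hz
    have h2 := rank_quot_eq (K := K) (M := A) I' I p x hsup hp' hinj
    rw [h2, mul_add]
    exact h1.trans (add_le_add (H p hpmax) hQ)
  have htop : Module.rank K (M ⧸ ((⊤ : Ideal A) • ⊤ : Submodule A M)) ≤
      m * Module.rank K (A ⧸ ((⊤ : Ideal A) • ⊤ : Submodule A A)) := by
    haveI : Subsingleton (M ⧸ ((⊤ : Ideal A) • ⊤ : Submodule A M)) := by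
      rw [Submodule.top_smul]
      infer_instance
    rw [rank_subsingleton']
    exact zero_le
  have hbot := key ⊤ htop
  have e1 : (M ⧸ ((⊥ : Ideal A) • ⊤ : Submodule A M)) ≃ₗ[K] M :=
    (Submodule.quotEquivOfEqBot _ (Submodule.bot_smul _)).restrictScalars K
  have e2 : (A ⧸ ((⊥ : Ideal A) • ⊤ : Submodule A A)) ≃ₗ[K] A :=
    (Submodule.quotEquivOfEqBot _ (Submodule.bot_smul _)).restrictScalars K
  rw [e1.rank_eq, e2.rank_eq] at hbot
  exact hbot

open TensorProduct in
theorem rank_quot_le_of_tensor {K A C : Type u} [Field K] [CommRing A] [CommRing C] [Algebra K A]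
    [Algebra A C] [Algebra K C] [IsScalarTower K A C] (p : Ideal A) [p.IsMaximal] (m : ℕ)
    (h : @Module.Finite (A ⧸ p) ((A ⧸ p) ⊗[A] C) _ _
          (Algebra.TensorProduct.includeLeftRingHom : A ⧸ p →+* (A ⧸ p) ⊗[A] C).toAlgebra.toModule ∧
        @Module.finrank (A ⧸ p) ((A ⧸ p) ⊗[A] C) _ _
          (Algebra.TensorProduct.includeLeftRingHom : A ⧸ p →+* (A ⧸ p) ⊗[A] C).toAlgebra.toModule ≤ m) :
    Module.rank K (C ⧸ (p • ⊤ : Submodule A C)) ≤
      m * Module.rank K (A ⧸ (p • ⊤ : Submodule A A)) := by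
  letI := Ideal.Quotient.field p
  have heq : ((Algebra.TensorProduct.includeLeftRingHom :
      A ⧸ p →+* (A ⧸ p) ⊗[A] C).toAlgebra : Algebra (A ⧸ p) ((A ⧸ p) ⊗[A] C)) =
      Algebra.TensorProduct.leftAlgebra := by
    apply Algebra.algebra_ext
    intro r
    rfl

  rw [heq] at h
  obtain ⟨hfin, hle⟩ := h
  have hfin' : Module.Finite (A ⧸ p) ((A ⧸ p) ⊗[A] C) := hfin
  have hle' : Module.finrank (A ⧸ p) ((A ⧸ p) ⊗[A] C) ≤ m := hle
  have htower := rank_mul_rank K (A ⧸ p) ((A ⧸ p) ⊗[A] C)
  have h1 : Module.rank (A ⧸ p) ((A ⧸ p) ⊗[A] C) ≤ m := by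
    rw [← Module.finrank_eq_rank]
    exact_mod_cast hle'
  let σ : ((A ⧸ p) ⊗[A] C) →ₗ[K] (C ⧸ (p • ⊤ : Submodule A C)) :=
    (TensorProduct.quotTensorEquivQuotSMul C p).toLinearMap.restrictScalars K
  have hσ : Function.Surjective σ := (TensorProduct.quotTensorEquivQuotSMul C p).surjective
  have h2 : Module.rank K (C ⧸ (p • ⊤ : Submodule A C)) ≤ Module.rank K ((A ⧸ p) ⊗[A] C) :=
    LinearMap.rank_le_of_surjective σ hσ
  have e : (A ⧸ (p • ⊤ : Submodule A A)) ≃ₗ[K] (A ⧸ p) :=
    (Submodule.quotEquivOfEq _ _ (by rw [smul_eq_mul, Ideal.mul_top])).restrictScalars K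
  rw [e.rank_eq]
  calc Module.rank K (C ⧸ (p • ⊤ : Submodule A C)) ≤ Module.rank K ((A ⧸ p) ⊗[A] C) := h2
    _ = Module.rank K (A ⧸ p) * Module.rank (A ⧸ p) ((A ⧸ p) ⊗[A] C) := htower.symm
    _ ≤ Module.rank K (A ⧸ p) * m := by gcongr
    _ = m * Module.rank K (A ⧸ p) := mul_comm _ _

open TensorProduct in
/-- an algebra over a finite `K`-algebra `A` all of whose fibres over maximal ideals have dimension at most `m`
is finite over `K` of dimension at most `m * dim_K A` -/
theorem finite_and_finrank_le {K A C : Type u} [Field K] [CommRing A] [CommRing C] [Algebra K A]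
    [Algebra A C] [Algebra K C] [IsScalarTower K A C] [Module.Finite K A] (m : ℕ)
    (h : ∀ (p : Ideal A) [p.IsMaximal],
      @Module.Finite (A ⧸ p) ((A ⧸ p) ⊗[A] C) _ _
          (Algebra.TensorProduct.includeLeftRingHom : A ⧸ p →+* (A ⧸ p) ⊗[A] C).toAlgebra.toModule ∧
        @Module.finrank (A ⧸ p) ((A ⧸ p) ⊗[A] C) _ _
          (Algebra.TensorProduct.includeLeftRingHom : A ⧸ p →+* (A ⧸ p) ⊗[A] C).toAlgebra.toModule ≤ m) :
    Module.Finite K C ∧ Module.finrank K C ≤ m * Module.finrank K A := by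
  have h1 : Module.rank K C ≤ m * Module.rank K A :=
    rank_le_mul_rank (K := K) (A := A) (M := C) m (fun p hp => by
      haveI := hp
      exact rank_quot_le_of_tensor p m (h p))
  rw [← Module.finrank_eq_rank K A] at h1
  have h2 : Module.rank K C < Cardinal.aleph0 := by
    refine lt_of_le_of_lt h1 ?_
    exact_mod_cast Cardinal.natCast_lt_aleph0 (n := m * Module.finrank K A)
  haveI : Module.Finite K C := Module.rank_lt_aleph0_iff.1 h2
  refine ⟨inferInstance, ?_⟩
  apply Module.finrank_le_of_rank_le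
  exact_mod_cast h1

end Groth.Agent.Lib.H86ArtinRank
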