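import Groth.Agent.Lib.H86CartierDescent
import Groth.Agent.Lib.AlgSpQC

/-!
# Ideal sheaves of a closed subspace in different etale charts

* `isPullback_yon_comap`: the closed subscheme of `I.comap g` is, on the level of sheaves, the pullback of the
  closed subscheme of `I` along `g`.
* `comap_eq_comap`: two charts of a morphism `i : D ⟶ X` by closed subschemes have the same inverse image ideal
  sheaf on any scheme mapping compatibly to both.
-/

set_option autoImplicit false
set_option linter.style.haveILetI false
universe u
open CategoryTheory CategoryTheory.Limits AlgebraicGeometry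
open AlgSp

namespace Groth.Agent.Lib.H86CartierChart

variable {S : Scheme.{u}}

/-- The closed subscheme of an ideal sheaf on `V.left`, as a scheme over `S`. -/
noncomputable abbrev subOver (V : Over S) (I : V.left.IdealSheafData) : Over S :=
  Over.mk (I.subschemeι ≫ V.hom)

/-- The closed immersion over `S`. -/
noncomputable abbrev subOverι (V : Over S) (I : V.left.IdealSheafData) : subOver V I ⟶ V :=
  Over.homMk I.subschemeι rfl

/-- The closed subscheme of `I.comap g` is the pullback of the closed subscheme of `I` along `g`. -/
theorem isPullback_yon_comap {U V : Over S} (g : U ⟶ V) (I : V.left.IdealSheafData) :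
    ∃ ζ : subOver U (I.comap g.left) ⟶ subOver V I,
      IsPullback ((yon S).map ζ) ((yon S).map (subOverι U (I.comap g.left)))
        ((yon S).map (subOverι V I)) ((yon S).map g) := by
  have H := Groth.Agent.Lib.H86CartierDescent.isPullback_comap_subschemeι g.left I
  have hw := Groth.Agent.Lib.AlgSpQC.isPullback_w_over g (I.comap g.left).subschemeι
    I.subschemeι _ H
  exact ⟨Over.homMk _ hw, (Groth.Agent.Lib.AlgSpQC.isPullback_yon_overMk g
    (I.comap g.left).subschemeι I.subschemeι _ H hw).flip⟩

/-- Two charts of `i : D ⟶ X` by closed subschemes induce the same ideal sheaf on any scheme mapping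
compatibly to both. -/
theorem comap_eq_comap {X D : Sp S} (i : D ⟶ X) {U V W : Over S}
    (φ' : (yon S).obj U ⟶ X) (φ : (yon S).obj V ⟶ X)
    (I' : U.left.IdealSheafData) (I : V.left.IdealSheafData)
    (fst' : (yon S).obj (subOver U I') ⟶ D) (fst : (yon S).obj (subOver V I) ⟶ D)
    (sq' : IsPullback fst' ((yon S).map (subOverι U I')) i φ')
    (sq : IsPullback fst ((yon S).map (subOverι V I)) i φ)
    (wU : W ⟶ U) (wV : W ⟶ V) (comm : (yon S).map wU ≫ φ' = (yon S).map wV ≫ φ) :
    I'.comap wU.left = I.comap wV.left := by
  obtain ⟨ζ', sq1⟩ := isPullback_yon_comap wU I'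
  have big := sq1.paste_horiz sq'
  rw [comm] at big
  have hg1 : sq.lift ((yon S).map ζ' ≫ fst')
      ((yon S).map (subOverι W (I'.comap wU.left)) ≫ (yon S).map wV) big.w ≫ fst =
      (yon S).map ζ' ≫ fst' := sq.lift_fst _ _ _
  have hg2 : sq.lift ((yon S).map ζ' ≫ fst')
      ((yon S).map (subOverι W (I'.comap wU.left)) ≫ (yon S).map wV) big.w ≫
      (yon S).map (subOverι V I) =
      (yon S).map (subOverι W (I'.comap wU.left)) ≫ (yon S).map wV := sq.lift_snd _ _ _
  obtain ⟨g, hg⟩ := (yon S).map_surjective (sq.lift ((yon S).map ζ' ≫ fst')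
      ((yon S).map (subOverι W (I'.comap wU.left)) ≫ (yon S).map wV) big.w)
  rw [← hg] at hg1 hg2
  have sq2 : IsPullback ((yon S).map g) ((yon S).map (subOverι W (I'.comap wU.left)))
      ((yon S).map (subOverι V I)) ((yon S).map wV) := by
    refine IsPullback.of_right ?_ hg2 sq
    rw [hg1]; exact big
  have hcomm : g ≫ subOverι V I = subOverι W (I'.comap wU.left) ≫ wV := by
    apply (yon S).map_injective
    rw [Functor.map_comp, Functor.map_comp]; exact hg2
  have sq3 : IsPullback g (subOverι W (I'.comap wU.left)) (subOverι V I) wV :=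
    IsPullback.of_map (yon S) hcomm sq2
  have sq4 := sq3.map (Over.forget S)
  have := Groth.Agent.Lib.H86CartierDescent.comap_eq_ker_of_isPullback I wV.left
    (I'.comap wU.left).subschemeι g.left sq4
  rw [this, Scheme.IdealSheafData.ker_subschemeι]

end Groth.Agent.Lib.H86CartierChart
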