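import Mathlib.AlgebraicGeometry.AffineTransitionLimit
import Groth.Agent.Lib.EffCartier96

/-!
# Cofiltered limits with affine transition maps: sections over preimages of affine opens, and
effective Cartier ideals (helper96)

* `exists_appLE_π_eq`: a section of the limit over the preimage of an affine open `U ⊆ Dᵢ` comes from
  a section over the preimage of `U` at some stage.
* `generator_mem_nonZeroDivisors`: a generator of an effective Cartier ideal on an affine open is a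
  nonzerodivisor.
* `isEffCartierIdeal_comap_π`: for minimal (= pulled-back moduli) affine transition maps between
  effective Cartier ideals, the pulled-back ideal on the limit is effective Cartier.
-/

set_option autoImplicit false
universe u
open CategoryTheory CategoryTheory.Limits AlgebraicGeometry TopologicalSpace

namespace Groth.Agent.Lib.LimCartier96

section Sections

variable {I : Type u} [Category.{u} I] (D : I ⥤ Scheme.{u}) (c : Cone D) (hc : IsLimit c)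

include hc in
set_option backward.isDefEq.respectTransparency false in
theorem exists_appLE_π_eq [IsCofiltered I] [∀ {i j} (f : i ⟶ j), IsAffineHom (D.map f)]
    {i : I} (U : (D.obj i).Opens) (hU : IsAffineOpen U) (s : Γ(c.pt, c.π.app i ⁻¹ᵁ U)) :
    ∃ (j : I) (f : j ⟶ i) (t : Γ(D.obj j, D.map f ⁻¹ᵁ U)),
      (c.π.app j).appLE (D.map f ⁻¹ᵁ U) (c.π.app i ⁻¹ᵁ U)
        (by rw [← Scheme.Hom.comp_preimage, c.w]) t = s := by
  have (j : Over i) : IsAffine ((opensDiagram D i U).obj j) := hU.preimage (D.map _)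
  let s' : Γ((opensCone D c i U).pt, ⊤) :=
    c.pt.presheaf.map (homOfLE (show (c.π.app i ⁻¹ᵁ U).ι ''ᵁ ⊤ ≤ c.π.app i ⁻¹ᵁ U by simp)).op s
  obtain ⟨j, t, hj⟩ := exists_appTop_π_eq_of_isAffine_of_isLimit _ _
    (isLimitOpensCone D c hc i U) s'
  let t' : Γ(D.obj j.left, D.map j.hom ⁻¹ᵁ U) :=
    (D.obj j.left).presheaf.map (homOfLE (show D.map j.hom ⁻¹ᵁ U ≤ (D.map j.hom ⁻¹ᵁ U).ι ''ᵁ ⊤ by simp)).op t
  refine ⟨j.left, j.hom, t', ?_⟩
  have e : c.π.app i ⁻¹ᵁ U ≤ (c.π.app i ⁻¹ᵁ U).ι ''ᵁ ⊤ := by simp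
  have hs : s = c.pt.presheaf.map (homOfLE e).op s' := by
    dsimp only [s']
    rw [← ConcreteCategory.comp_apply, ← Functor.map_comp]
    exact (congr($(c.pt.presheaf.map_id _) s)).symm
  have key : (D.obj j.left).presheaf.map
        (homOfLE (show D.map j.hom ⁻¹ᵁ U ≤ (D.map j.hom ⁻¹ᵁ U).ι ''ᵁ ⊤ by simp)).op ≫
      (c.π.app j.left).appLE (D.map j.hom ⁻¹ᵁ U) (c.π.app i ⁻¹ᵁ U)
        (by rw [← Scheme.Hom.comp_preimage, c.w]) =
      ((opensCone D c i U).π.app j).appTop ≫ c.pt.presheaf.map (homOfLE e).op := by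
    simp [Scheme.Hom.appTop, Scheme.Hom.app_eq_appLE, Scheme.Hom.resLE_appLE, Scheme.Hom.appLE_map]
  rw [hs, ← hj]
  exact congr($key t)

end Sections

/-- A generator of an effective Cartier ideal on an affine open is a nonzerodivisor. -/
theorem generator_mem_nonZeroDivisors {Y : Scheme.{u}} (I : Y.IdealSheafData)
    (hI : BlowUp.IsEffCartierIdeal I) (U : Y.affineOpens) (b : Γ(Y, U.1))
    (hb : I.ideal U = Ideal.span {b}) : b ∈ nonZeroDivisors Γ(Y, U.1) := by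
  rw [mem_nonZeroDivisors_iff_right]
  intro s hs
  refine Y.IsSheaf.section_ext fun y hy => ?_
  obtain ⟨W, hyW, hWU, a, ha, hIa⟩ :=
    Groth.Agent.Lib.EffCartier96.exists_generator_le I hI y U.1 hy
  refine ⟨W.1, hWU, hyW, ?_⟩
  rw [map_zero]
  have hWU' : W ≤ U := hWU
  have hres : I.ideal W = Ideal.span {(Y.presheaf.map (homOfLE hWU).op b : Γ(Y, W.1))} := by
    rw [← I.map_ideal hWU', hb, Ideal.map_span, Set.image_singleton]
    rfl
  set r := Y.presheaf.map (homOfLE hWU).op with hr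
  have h1 : a ∈ Ideal.span {(r b : Γ(Y, W.1))} := by rw [← hres, hIa]; exact Ideal.subset_span rfl
  have h2 : (r b : Γ(Y, W.1)) ∈ Ideal.span {a} := by rw [← hIa, hres]; exact Ideal.subset_span rfl
  obtain ⟨v, hv⟩ := Ideal.mem_span_singleton'.mp h1
  obtain ⟨w, hw⟩ := Ideal.mem_span_singleton'.mp h2
  -- `v * w = 1`
  have hvw : v * w = 1 := by
    have : (v * w - 1) * a = 0 := by
      rw [sub_mul, one_mul, mul_assoc, hw, hv, sub_self]
    have := (mem_nonZeroDivisors_iff_right.mp ha) _ this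
    exact sub_eq_zero.mp this
  have h0 : r s * r b = 0 := by rw [← map_mul, hs, map_zero]
  have h3 : (r s * w) * a = 0 := by rw [mul_assoc, hw, h0]
  have h4 : r s * w = 0 := (mem_nonZeroDivisors_iff_right.mp ha) _ h3
  calc r s = r s * (v * w) := by rw [hvw, mul_one]
    _ = (r s * w) * v := by ring
    _ = 0 := by rw [h4, zero_mul]

section Main

/-- Abstract core: `X` with compatible maps `π j : X ⟶ D j`, such that sections over `π i ⁻¹ U` come from
finite stages and vanishing in `X` is detected at a finite stage. -/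
theorem nonZeroDivisor_core {I : Type u} [Category.{u} I] (D : I ⥤ Scheme.{u}) (X : Scheme.{u})
    (π : ∀ j, X ⟶ D.obj j) (hπ : ∀ {j k : I} (f : j ⟶ k), π j ≫ D.map f = π k)
    (i : I) (U : (D.obj i).Opens) (a : Γ(D.obj i, U))
    (H1 : ∀ s : Γ(X, π i ⁻¹ᵁ U), ∃ (j : I) (f : j ⟶ i) (t : Γ(D.obj j, D.map f ⁻¹ᵁ U)),
      (π j).appLE (D.map f ⁻¹ᵁ U) (π i ⁻¹ᵁ U) (by rw [← Scheme.Hom.comp_preimage, hπ]) t = s)
    (H2 : ∀ (j : I) (f : j ⟶ i) (t : Γ(D.obj j, D.map f ⁻¹ᵁ U)), (π j).app (D.map f ⁻¹ᵁ U) t = 0 →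
      ∃ (k : I) (g : k ⟶ j), (D.map g).app (D.map f ⁻¹ᵁ U) t = 0)
    (H3 : ∀ (k : I) (h : k ⟶ i) (V : (D.obj k).Opens) (hV : V ≤ D.map h ⁻¹ᵁ U),
      V = D.map h ⁻¹ᵁ U → (D.map h).appLE U V hV a ∈ nonZeroDivisors Γ(D.obj k, V)) :
    (π i).app U a ∈ nonZeroDivisors Γ(X, π i ⁻¹ᵁ U) := by
  rw [mem_nonZeroDivisors_iff_right]
  intro s hs
  obtain ⟨j, f, t, ht⟩ := H1 s
  have hle : π i ⁻¹ᵁ U ≤ π j ⁻¹ᵁ (D.map f ⁻¹ᵁ U) := by
    rw [← Scheme.Hom.comp_preimage, hπ]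
  have hiso : π i ⁻¹ᵁ U = π j ⁻¹ᵁ (D.map f ⁻¹ᵁ U) := by
    rw [← Scheme.Hom.comp_preimage, hπ]
  have E1 : (D.map f).app U ≫ (π j).appLE (D.map f ⁻¹ᵁ U) (π i ⁻¹ᵁ U) hle = (π i).app U := by
    rw [Scheme.Hom.app_eq_appLE, Scheme.Hom.appLE_comp_appLE, Scheme.Hom.app_eq_appLE]
    simp only [hπ]
  have E2 : (π j).app (D.map f ⁻¹ᵁ U) ≫ X.presheaf.map (homOfLE hle).op =
      (π j).appLE (D.map f ⁻¹ᵁ U) (π i ⁻¹ᵁ U) hle := by
    rw [Scheme.Hom.app_eq_appLE, Scheme.Hom.appLE_map]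
  have hprod : (π j).app (D.map f ⁻¹ᵁ U) (t * (D.map f).app U a) = 0 := by
    have h1 : X.presheaf.map (homOfLE hle).op
        ((π j).app (D.map f ⁻¹ᵁ U) (t * (D.map f).app U a)) = 0 := by
      rw [← ConcreteCategory.comp_apply, E2, map_mul, ht, ← ConcreteCategory.comp_apply, E1, hs]
    have hinj : Function.Injective (X.presheaf.map (homOfLE hle).op) := by
      have : IsIso (X.presheaf.map (homOfLE hle).op) := by
        have : homOfLE hle = eqToHom hiso := rfl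
        rw [this]
        infer_instance
      exact ((ConcreteCategory.isIso_iff_bijective _).mp this).1
    exact hinj (by rw [h1, map_zero])
  obtain ⟨k, g, hk⟩ := H2 j f _ hprod
  rw [map_mul] at hk
  have hle' : D.map g ⁻¹ᵁ (D.map f ⁻¹ᵁ U) ≤ D.map (g ≫ f) ⁻¹ᵁ U := by
    rw [D.map_comp, Scheme.Hom.comp_preimage]
  have E4 : (D.map f).app U ≫ (D.map g).app (D.map f ⁻¹ᵁ U) =
      (D.map (g ≫ f)).appLE U (D.map g ⁻¹ᵁ (D.map f ⁻¹ᵁ U)) hle' := by
    rw [Scheme.Hom.app_eq_appLE, Scheme.Hom.app_eq_appLE, Scheme.Hom.appLE_comp_appLE]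
    simp only [D.map_comp]
  have hak : (D.map g).app (D.map f ⁻¹ᵁ U) ((D.map f).app U a) ∈
      nonZeroDivisors Γ(D.obj k, D.map g ⁻¹ᵁ (D.map f ⁻¹ᵁ U)) := by
    rw [← ConcreteCategory.comp_apply, E4]
    exact H3 k (g ≫ f) _ hle' (by rw [D.map_comp, Scheme.Hom.comp_preimage])
  have hzero : (D.map g).app (D.map f ⁻¹ᵁ U) t = 0 :=
    (mem_nonZeroDivisors_iff_right.mp hak) _ hk
  have hle2 : π i ⁻¹ᵁ U ≤ π k ⁻¹ᵁ (D.map g ⁻¹ᵁ (D.map f ⁻¹ᵁ U)) := by
    rw [← Scheme.Hom.comp_preimage, ← Scheme.Hom.comp_preimage, hπ, hπ]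
  have E3 : (π j).appLE (D.map f ⁻¹ᵁ U) (π i ⁻¹ᵁ U) hle =
      (D.map g).app (D.map f ⁻¹ᵁ U) ≫
        (π k).appLE (D.map g ⁻¹ᵁ (D.map f ⁻¹ᵁ U)) (π i ⁻¹ᵁ U) hle2 := by
    rw [Scheme.Hom.app_eq_appLE, Scheme.Hom.appLE_comp_appLE]
    simp only [hπ]
  rw [← ht, E3, ConcreteCategory.comp_apply, hzero, map_zero]

variable {I : Type u} [SmallCategory I] [IsCofiltered I] (D : I ⥤ Scheme.{u}) (c : Cone D)
  (hc : IsLimit c)

include hc in
theorem isEffCartierIdeal_comap_π [∀ {i j : I} (t : i ⟶ j), IsAffineHom (D.map t)]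
    (J : ∀ i, (D.obj i).IdealSheafData) (hJ : ∀ i, BlowUp.IsEffCartierIdeal (J i))
    (hmin : ∀ (i j : I) (t : i ⟶ j), J i = (J j).comap (D.map t)) (i : I) :
    BlowUp.IsEffCartierIdeal ((J i).comap (c.π.app i)) := by
  intro x
  obtain ⟨U, hxU, a, ha, hIa⟩ := hJ i (c.π.app i x)
  have haff : IsAffineHom (c.π.app i) := isAffineHom_π_app D c hc i
  have hW : IsAffineOpen (c.π.app i ⁻¹ᵁ U.1) := U.2.preimage (c.π.app i)
  refine ⟨⟨c.π.app i ⁻¹ᵁ U.1, hW⟩, hxU, (c.π.app i).app U.1 a, ?_, ?_⟩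
  · refine nonZeroDivisor_core D c.pt (fun j => c.π.app j) (fun f => c.w f) i U.1 a ?_ ?_ ?_
    · intro s
      exact exists_appLE_π_eq D c hc U.1 U.2 s
    · intro j f t ht
      exact exists_app_map_eq_zero_of_isLimit D c hc (U.2.preimage (D.map f)).isCompact t ht
    · intro k h V hV hVeq
      subst hVeq
      have hUk : IsAffineOpen (D.map h ⁻¹ᵁ U.1) := U.2.preimage (D.map h)
      apply generator_mem_nonZeroDivisors (J k) (hJ k) ⟨_, hUk⟩
      rw [hmin k i h, Groth.Agent.Lib.IdealComap.ideal_comap (J i) (D.map h) U.1 U.2 _ hUk le_rfl]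
      change Ideal.map _ ((J i).ideal U) = _
      rw [hIa, Ideal.map_span, Set.image_singleton]
  · rw [Groth.Agent.Lib.IdealComap.ideal_comap (J i) (c.π.app i) U.1 U.2 _ hW le_rfl]
    change Ideal.map _ ((J i).ideal U) = _
    rw [hIa, Ideal.map_span, Set.image_singleton, Scheme.Hom.appLE_eq_app]

end Main

end Groth.Agent.Lib.LimCartier96
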