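import Groth.Agent.Lib.EffCartier96
import Groth.Agent.Lib.LimCartier96
import Groth.Agent.Lib.IdealComap
import Mathlib.RingTheory.Flat.FaithfullyFlat.Algebra
import Mathlib.AlgebraicGeometry.Morphisms.UniversallyOpen

/-!
# Descent of effective Cartier ideal sheaves along flat, locally finitely presented, surjective maps

* `span_singleton_of_faithfullyFlat`: the ring-theoretic core.
* `isEffCartierIdeal_of_comap`: if `s : W ⟶ V` is flat, locally of finite presentation and surjective and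
  `I.comap s` is effective Cartier, then so is `I`.
-/

set_option autoImplicit false
set_option linter.style.haveILetI false
universe u
open CategoryTheory CategoryTheory.Limits AlgebraicGeometry TopologicalSpace

namespace Groth.Agent.Lib.H86CartierDescent

/-- Ring-theoretic core of the descent of effective Cartier divisors. -/
theorem span_singleton_of_faithfullyFlat {A B : Type*} [CommRing A] [CommRing B] [Algebra A B]
    [Module.FaithfullyFlat A B] (I : Ideal A) (x : A) (b : B)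
    (hb : b ∈ nonZeroDivisors B) (c : B) (hc : IsUnit c) (hxb : algebraMap A B x = b * c)
    (hI : I.map (algebraMap A B) = Ideal.span {b}) :
    I = Ideal.span {x} ∧ x ∈ nonZeroDivisors A := by
  constructor
  · have h1 : (Ideal.span {x}).map (algebraMap A B) = Ideal.span {b} := by
      rw [Ideal.map_span, Set.image_singleton, hxb, Ideal.span_singleton_mul_right_unit hc]
    rw [← Ideal.comap_map_eq_self_of_faithfullyFlat (B := B) I, hI, ← h1,
      Ideal.comap_map_eq_self_of_faithfullyFlat]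
  · rw [mem_nonZeroDivisors_iff_right]
    intro z hz
    have h2 : algebraMap A B z * c * b = 0 := by
      have := congrArg (algebraMap A B) hz
      rw [map_mul, map_zero, hxb] at this
      rw [← this]; ring
    have h3 : algebraMap A B z * c = 0 := (mem_nonZeroDivisors_iff_right.mp hb) _ h2
    have h4 : algebraMap A B z = 0 := by
      obtain ⟨u, rfl⟩ := hc
      exact (Units.mul_left_eq_zero u).mp h3
    exact (FaithfulSMul.algebraMap_injective A B) (by rw [h4, map_zero])

/-- Local descent of effective Cartier ideal sheaves along a flat morphism locally of finite presentation: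
if `I.comap s` is effective Cartier then `I` is principal, generated by a nonzerodivisor, on an affine open
neighbourhood of `s w`, for every point `w` of the source. -/
theorem exists_generator_of_comap {W V : Scheme.{u}} (s : W ⟶ V) [Flat s]
    [LocallyOfFinitePresentation s] (I : V.IdealSheafData)
    (hJ : BlowUp.IsEffCartierIdeal (I.comap s)) (w : W) :
    ∃ U : V.affineOpens, s w ∈ U.1 ∧ ∃ f : Γ(V, U.1), f ∈ nonZeroDivisors Γ(V, U.1) ∧
      I.ideal U = Ideal.span {f} := by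
  obtain ⟨V₀, hV₀, hvV₀, -⟩ :=
    exists_isAffineOpen_mem_and_subset (x := s w) (U := (⊤ : V.Opens)) trivial
  have hw0 : w ∈ s ⁻¹ᵁ V₀ := hvV₀
  obtain ⟨W₀, hwW₀, hW₀le, b, hb, hJb⟩ :=
    Groth.Agent.Lib.EffCartier96.exists_generator_le (I.comap s) hJ w (s ⁻¹ᵁ V₀) hw0
  set φ := (s.appLE V₀ W₀.1 hW₀le).hom with hφ
  have hJ0 : (I.comap s).ideal W₀ = Ideal.map φ (I.ideal ⟨V₀, hV₀⟩) :=
    Groth.Agent.Lib.IdealComap.ideal_comap I s V₀ hV₀ W₀.1 W₀.2 hW₀le
  -- the prime of `w`
  set germ := (W.presheaf.germ W₀.1 w hwW₀).hom with hgerm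
  set q : Ideal Γ(W, W₀.1) :=
    Ideal.comap germ (IsLocalRing.maximalIdeal (W.presheaf.stalk w)) with hq
  have hq1 : (1 : Γ(W, W₀.1)) ∉ q := by
    rw [hq, Ideal.mem_comap, map_one]
    exact fun h => (IsLocalRing.maximalIdeal.isMaximal _).ne_top ((Ideal.eq_top_iff_one _).2 h)
  -- find `x`
  obtain ⟨x, hxI, c, hxc, hcq⟩ : ∃ x ∈ I.ideal ⟨V₀, hV₀⟩, ∃ c, φ x = b * c ∧ c ∉ q := by
    by_contra hcon
    push Not at hcon
    have hle : Ideal.map φ (I.ideal ⟨V₀, hV₀⟩) ≤ Ideal.span {b} * q := by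
      rw [Ideal.map_le_iff_le_comap]
      intro x hx
      have h1 : φ x ∈ Ideal.span {b} := by rw [← hJb, hJ0]; exact Ideal.mem_map_of_mem _ hx
      obtain ⟨c, hc⟩ := Ideal.mem_span_singleton'.mp h1
      have hcq := hcon x hx c (by rw [← hc, mul_comm])
      rw [Ideal.mem_comap, ← hc]
      exact Ideal.mul_mem_mul_rev (Ideal.mem_span_singleton_self b) hcq
    have hbm : b ∈ Ideal.span {b} * q :=
      hle (by rw [← hJ0, hJb]; exact Ideal.mem_span_singleton_self b)
    obtain ⟨z, hzq, hz⟩ := Ideal.mem_span_singleton_mul.mp hbm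
    have hz1 : z = 1 := by
      have h0 : (z - 1) * b = 0 := by rw [sub_mul, one_mul, mul_comm, hz, sub_self]
      exact sub_eq_zero.mp ((mem_nonZeroDivisors_iff_right.mp hb) _ h0)
    exact hq1 (hz1 ▸ hzq)
  -- `w` lies in the basic open of `c`
  have hwc : w ∈ W.basicOpen c := by
    refine (W.mem_basicOpen c w hwW₀).2 ?_
    by_contra h
    exact hcq (by rw [hq, Ideal.mem_comap]; exact (IsLocalRing.mem_maximalIdeal _).2 h)
  set W₁ : W.Opens := W.basicOpen c with hW₁
  have hW₁le : W₁ ≤ W₀.1 := W.basicOpen_le c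
  -- the image of `W₁` is open
  have hopen : IsOpen (s '' (W₁ : Set W)) := s.isOpenMap _ W₁.2
  let O : V.Opens := ⟨s '' (W₁ : Set W), hopen⟩
  have hvO : s w ∈ O := ⟨w, hwc, rfl⟩
  obtain ⟨t, htO, hvt⟩ := hV₀.exists_basicOpen_le (V := O) ⟨s w, hvO⟩ hvV₀
  set V₂ : V.Opens := V.basicOpen t with hV₂def
  have hV₂ : IsAffineOpen V₂ := hV₀.basicOpen t
  set W₂ : W.Opens := W.basicOpen (c * φ t) with hW₂def
  have hW₂ : IsAffineOpen W₂ := W₀.2.basicOpen _
  have hW₂eq : W₂ = W₁ ⊓ (W₀.1 ⊓ s ⁻¹ᵁ V₂) := by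
    rw [hW₂def, Scheme.basicOpen_mul, hφ, Scheme.basicOpen_appLE]
  have hW₂le : W₂ ≤ s ⁻¹ᵁ V₂ := by rw [hW₂eq]; exact inf_le_right.trans inf_le_right
  have hW₂W₀ : W₂ ≤ W₀.1 := W.basicOpen_le _
  have hW₂W₁ : W₂ ≤ W₁ := by rw [hW₂eq]; exact inf_le_left
  have hV₂V₀ : V₂ ≤ V₀ := V.basicOpen_le t
  set ψ := (s.appLE V₂ W₂ hW₂le).hom with hψ
  have hψflat : ψ.Flat := Flat.flat_appLE s hV₂ hW₂ hW₂le
  -- surjectivity on spectra
  have hsurj : Function.Surjective (PrimeSpectrum.comap ψ) := by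
    intro p
    have hv' : hV₂.fromSpec p ∈ (V₂ : Set V) := by
      rw [← hV₂.range_fromSpec]; exact ⟨p, rfl⟩
    obtain ⟨w', hw'1, hw'v⟩ : ∃ w' ∈ (W₁ : Set W), s w' = hV₂.fromSpec p := htO hv'
    have hw'2 : w' ∈ (W₂ : Set W) := by
      rw [hW₂eq]
      refine ⟨hw'1, hW₁le hw'1, ?_⟩
      change s w' ∈ (V₂ : Set V)
      rw [hw'v]; exact hv'
    obtain ⟨q', hq'⟩ : ∃ q', hW₂.fromSpec q' = w' := by
      rw [← hW₂.range_fromSpec] at hw'2; exact hw'2
    refine ⟨q', ?_⟩
    have nat := IsAffineOpen.SpecMap_appLE_fromSpec s hV₂ hW₂ hW₂le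
    have h1 : hV₂.fromSpec (Spec.map (s.appLE V₂ W₂ hW₂le) q') = hV₂.fromSpec p := by
      rw [← Scheme.Hom.comp_apply, nat, Scheme.Hom.comp_apply, hq', hw'v]
    exact hV₂.fromSpec.isOpenEmbedding.injective h1
  letI := ψ.toAlgebra
  haveI : Module.Flat Γ(V, V₂) Γ(W, W₂) := hψflat
  haveI : Module.FaithfullyFlat Γ(V, V₂) Γ(W, W₂) :=
    Module.FaithfullyFlat.of_comap_surjective hsurj
  -- the restricted data
  set rV := (V.presheaf.map (homOfLE hV₂V₀).op).hom with hrV
  set rW := (W.presheaf.map (homOfLE hW₂W₀).op).hom with hrW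
  have hcomm : ∀ y, ψ (rV y) = rW (φ y) := by
    intro y
    have e1 : V.presheaf.map (homOfLE hV₂V₀).op ≫ s.appLE V₂ W₂ hW₂le =
        s.appLE V₀ W₀.1 hW₀le ≫ W.presheaf.map (homOfLE hW₂W₀).op := by
      rw [Scheme.Hom.map_appLE, Scheme.Hom.appLE_map]
    exact congr($e1 y)
  have hJ2 : (I.comap s).ideal ⟨W₂, hW₂⟩ = Ideal.span {rW b} := by
    have hle' : (⟨W₂, hW₂⟩ : W.affineOpens) ≤ W₀ := hW₂W₀
    rw [← (I.comap s).map_ideal hle', hJb, Ideal.map_span, Set.image_singleton]
    rfl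
  have hb₂ : rW b ∈ nonZeroDivisors Γ(W, W₂) :=
    Groth.Agent.Lib.LimCartier96.generator_mem_nonZeroDivisors (I.comap s) hJ ⟨W₂, hW₂⟩ _ hJ2
  have hc₂ : IsUnit (rW c) := by
    have hu := W.toRingedSpace.isUnit_res_basicOpen c
    have e2 : rW c = (W.presheaf.map (homOfLE hW₂W₁).op).hom
        ((W.presheaf.map (homOfLE (W.basicOpen_le c)).op).hom c) := by
      rw [hrW, ← CommRingCat.comp_apply, ← Functor.map_comp]; rfl
    rw [e2]
    exact hu.map _
  have hI₂ : (I.ideal ⟨V₂, hV₂⟩).map (algebraMap Γ(V, V₂) Γ(W, W₂)) = Ideal.span {rW b} := by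
    rw [← hJ2]
    exact (Groth.Agent.Lib.IdealComap.ideal_comap I s V₂ hV₂ W₂ hW₂ hW₂le).symm
  have hxb : algebraMap Γ(V, V₂) Γ(W, W₂) (rV x) = rW b * rW c := by
    rw [← map_mul, ← hxc]; exact hcomm x
  obtain ⟨hfin1, hfin2⟩ := span_singleton_of_faithfullyFlat (I.ideal ⟨V₂, hV₂⟩) (rV x) (rW b) hb₂
    (rW c) hc₂ hxb hI₂
  exact ⟨⟨V₂, hV₂⟩, hvt, rV x, hfin2, hfin1⟩

/-- Descent of effective Cartier ideal sheaves along a flat, locally finitely presented, surjective
morphism. -/
theorem isEffCartierIdeal_of_comap {W V : Scheme.{u}} (s : W ⟶ V) [Flat s]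
    [LocallyOfFinitePresentation s] [Surjective s] (I : V.IdealSheafData)
    (hJ : BlowUp.IsEffCartierIdeal (I.comap s)) : BlowUp.IsEffCartierIdeal I := by
  intro v
  obtain ⟨w, rfl⟩ := s.surjective v
  exact exists_generator_of_comap s I hJ w

/-- The inverse image ideal sheaf is the kernel of any base change of the closed immersion. -/
theorem comap_eq_ker_of_isPullback {V W Z' : Scheme.{u}} (I : V.IdealSheafData) (s : W ⟶ V)
    (c' : Z' ⟶ W) (g : Z' ⟶ I.subscheme) (h : IsPullback g c' I.subschemeι s) :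
    I.comap s = c'.ker := by
  have e1 : h.flip.isoPullback.hom ≫ pullback.fst s I.subschemeι = c' :=
    h.flip.isoPullback_hom_fst
  rw [← e1, Scheme.Hom.ker_comp_of_isIso]
  rfl

/-- The scheme-level pullback square of the inverse image ideal sheaf. -/
theorem isPullback_comap_subschemeι {U V : Scheme.{u}} (g : U ⟶ V) (I : V.IdealSheafData) :
    IsPullback ((I.comapIso g).hom ≫ pullback.snd g I.subschemeι) (I.comap g).subschemeι
      I.subschemeι g := by
  have H0 : IsPullback (pullback.snd g I.subschemeι) (pullback.fst g I.subschemeι)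
      I.subschemeι g := (IsPullback.of_hasPullback g I.subschemeι).flip
  refine IsPullback.of_iso H0 (I.comapIso g).symm (Iso.refl _) (Iso.refl _) (Iso.refl _)
    ?_ ?_ ?_ ?_
  · rw [Iso.symm_hom, Iso.refl_hom, Category.comp_id, Iso.inv_hom_id_assoc]
  · rw [Iso.symm_hom, Iso.refl_hom, Category.comp_id,
      Scheme.IdealSheafData.comapIso_inv_subschemeι]
  · simp
  · simp

end Groth.Agent.Lib.H86CartierDescent
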