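import Mathlib.RingTheory.Ideal.Operations
import Mathlib.RingTheory.Ideal.Maps
import Mathlib.Algebra.GroupWithZero.NonZeroDivisors
import Mathlib.RingTheory.NonUnitalSubsemiring.Basic

/-!
# Factors of a principal ideal generated by a nonzerodivisor are locally principal
-/

set_option autoImplicit false

namespace Groth.Agent.Lib.H86CartierRing

/-- If `I * J = (f)` with `f` a nonzerodivisor and `p` is a proper ideal, there are `a ∈ I`, `b ∈ J`
and `s ∉ p` with `a * b = f * s`. -/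
theorem exists_of_mul_eq_span {R : Type*} [CommRing R] (I J : Ideal R) (f : R)
    (hf : f ∈ nonZeroDivisors R) (hIJ : I * J = Ideal.span {f}) (p : Ideal R) (hp : (1 : R) ∉ p) :
    ∃ a ∈ I, ∃ b ∈ J, ∃ s, s ∉ p ∧ a * b = f * s := by
  by_contra hcon
  push Not at hcon
  have hle : I * J ≤ Ideal.span {f} * p := by
    rw [Ideal.mul_le]
    intro a ha b hb
    have h1 : a * b ∈ Ideal.span {f} := hIJ ▸ Ideal.mul_mem_mul ha hb
    obtain ⟨u, hu⟩ := Ideal.mem_span_singleton'.mp h1
    have hup : u ∈ p := by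
      by_contra hup
      exact hcon a ha b hb u hup (by rw [← hu, mul_comm])
    rw [← hu]
    exact Ideal.mul_mem_mul_rev (Ideal.mem_span_singleton_self f) hup
  have hfm : f ∈ Ideal.span {f} * p := hle (hIJ ▸ Ideal.mem_span_singleton_self f)
  obtain ⟨z, hzp, hz⟩ := Ideal.mem_span_singleton_mul.mp hfm
  have hz1 : z = 1 := by
    have h0 : (z - 1) * f = 0 := by rw [sub_mul, one_mul, mul_comm, hz, sub_self]
    exact sub_eq_zero.mp ((mem_nonZeroDivisors_iff_right.mp hf) _ h0)
  exact hp (hz1 ▸ hzp)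

/-- If `I * J = (f)`, `a * b = f * s` with `a ∈ I`, `b ∈ J`, then after a ring map `ρ` making `s` a unit and
keeping `f` a nonzerodivisor, the extension of `I` is generated by the nonzerodivisor `ρ a`. -/
theorem map_eq_span_of_mul_eq_span {R B : Type*} [CommRing R] [CommRing B] (ρ : R →+* B)
    (I J : Ideal R) (f a b s : R) (hIJ : I * J = Ideal.span {f}) (ha : a ∈ I) (hb : b ∈ J)
    (hab : a * b = f * s) (hf : ρ f ∈ nonZeroDivisors B) (hs : IsUnit (ρ s)) :
    Ideal.map ρ I = Ideal.span {ρ a} ∧ ρ a ∈ nonZeroDivisors B := by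
  have hab' : ρ a * ρ b = ρ f * ρ s := by rw [← map_mul, hab, map_mul]
  have hnz : ρ a * ρ b ∈ nonZeroDivisors B := by
    rw [hab']
    exact mul_mem hf hs.mem_nonZeroDivisors
  obtain ⟨hnza, hnzb⟩ := mul_mem_nonZeroDivisors.mp hnz
  refine ⟨le_antisymm ?_ ?_, hnza⟩
  · rw [Ideal.map_le_iff_le_comap]
    intro x hx
    rw [Ideal.mem_comap]
    have h1 : x * b ∈ Ideal.span {f} := hIJ ▸ Ideal.mul_mem_mul hx hb
    obtain ⟨r, hr⟩ := Ideal.mem_span_singleton'.mp h1
    have h2 : (ρ s * ρ x - ρ a * ρ r) * ρ b = 0 := by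
      have : (s * x - a * r) * b = 0 := by
        calc (s * x - a * r) * b = s * (x * b) - (a * b) * r := by ring
          _ = s * (r * f) - (f * s) * r := by rw [hr, hab]
          _ = 0 := by ring
      rw [← map_mul, ← map_mul, ← map_sub, ← map_mul, this, map_zero]
    have h3 : ρ s * ρ x - ρ a * ρ r = 0 := (mem_nonZeroDivisors_iff_right.mp hnzb) _ h2
    obtain ⟨u, hu⟩ := hs
    have h4 : ρ x = ρ a * (ρ r * ↑u⁻¹) := by
      have h5 : ρ s * ρ x = ρ a * ρ r := sub_eq_zero.mp h3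
      calc ρ x = ↑u⁻¹ * (ρ s * ρ x) := by rw [← hu, ← mul_assoc, Units.inv_mul, one_mul]
        _ = ρ a * (ρ r * ↑u⁻¹) := by rw [h5]; ring
    rw [h4]
    exact Ideal.mul_mem_right _ _ (Ideal.mem_span_singleton_self _)
  · rw [Ideal.span_singleton_le_iff_mem]
    exact Ideal.mem_map_of_mem ρ ha

end Groth.Agent.Lib.H86CartierRing
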