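import Groth.Agent.Lib.H69DescentAffine4
import Groth.Agent.Lib.H86AlgSpSub
import Groth.Prelude.Def_CurvBase
import Groth.Prelude.Def_BlowUp2
import Groth.Prelude.Def_AlgSpSub

/-!
# helper86: complements of locally principal closed subspaces are affine

* `isAffineHom_of_range_eq_compl_support`: an open immersion of schemes onto the complement of the support
  of a locally principal ideal sheaf is affine.
* `range_eq_compl_support`, `isAffineMor_compl`: the same for sheaves, through an étale chart and helper69's
  effective descent of affine morphisms.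
-/

set_option autoImplicit false
set_option linter.style.haveILetI false
universe u
open CategoryTheory CategoryTheory.Limits AlgebraicGeometry Opposite

namespace Groth.Agent.Lib.H86ComplAffine
open AlgSp

/-- An open immersion onto the complement of the support of a locally principal ideal sheaf is affine. -/
theorem isAffineHom_of_range_eq_compl_support {V W : Scheme.{u}} (w : W ⟶ V) [IsOpenImmersion w]
    (I : V.IdealSheafData) (hI : Curv2.IsLocPrincipal I)
    (hw : Set.range w = (I.support : Set V)ᶜ) : IsAffineHom w := by
  refine isAffineHom_of_forall_exists_isAffineOpen w fun x => ?_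
  by_cases hx : x ∈ I.support
  · obtain ⟨U, hxU, f, hf⟩ := hI x hx
    refine ⟨U, hxU, U.2, ?_⟩
    rw [← w.isAffineOpen_iff_of_isOpenImmersion, w.image_preimage_eq_opensRange_inf]
    have h1 : w.opensRange ⊓ (U : V.Opens) = V.basicOpen f := by
      ext y
      constructor
      · rintro ⟨hy1, hy2⟩
        have hy1' : y ∉ I.support := by
          have : y ∈ Set.range w := hy1
          rw [hw] at this
          exact this
        rw [Scheme.IdealSheafData.mem_support_iff_of_mem hy2, hf, Scheme.zeroLocus_span,
          Scheme.zeroLocus_singleton] at hy1'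
        simpa using hy1'
      · intro hy
        have hy2 : y ∈ (U : V.Opens) := V.basicOpen_le f hy
        refine ⟨?_, hy2⟩
        change y ∈ Set.range w
        rw [hw]
        intro (hy1 : y ∈ I.support)
        rw [Scheme.IdealSheafData.mem_support_iff_of_mem hy2, hf, Scheme.zeroLocus_span,
          Scheme.zeroLocus_singleton] at hy1
        exact hy1 hy
    rw [h1]
    exact U.2.basicOpen f
  · obtain ⟨_, ⟨U, hU, rfl⟩, hxU, hUs⟩ := V.isBasis_affineOpens.exists_subset_of_mem_open
      (show x ∈ (I.support : Set V)ᶜ from hx) I.support.isClosed.isOpen_compl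
    refine ⟨U, hxU, hU, ?_⟩
    rw [← w.isAffineOpen_iff_of_isOpenImmersion, w.image_preimage_eq_opensRange_inf]
    have h1 : w.opensRange ⊓ U = U := by
      refine inf_eq_right.2 fun y hy => ?_
      change y ∈ Set.range w
      rw [hw]
      exact hUs hy
    rw [h1]
    exact hU

variable {S : Scheme.{u}}

/-- The base change of the complement `j` of `i` to a chart where `i` is cut out by `I` has range the
complement of the support of `I`. -/
theorem range_eq_compl_support {X Z U : Sp S} (i : Z ⟶ X) (j : U ⟶ X)
    (hU : Set.range (Points.map j) = (Set.range (Points.map i))ᶜ)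
    {V : Over S} (φ : (yon S).obj V ⟶ X) (I : V.left.IdealSheafData)
    (fst : (yon S).obj (Over.mk (I.subschemeι ≫ V.hom)) ⟶ Z)
    (sq : IsPullback fst
      ((yon S).map (Over.homMk I.subschemeι rfl : Over.mk (I.subschemeι ≫ V.hom) ⟶ V)) i φ)
    {W : Over S} (w : W ⟶ V) (fstW : (yon S).obj W ⟶ U)
    (sqW : IsPullback fstW ((yon S).map w) j φ) :
    Set.range w.left = (I.support : Set V.left)ᶜ := by
  rw [Groth.Agent.Lib.H86AlgSpSub.range_left_eq_preimage sqW, hU, Set.preimage_compl,
    ← Groth.Agent.Lib.H86AlgSpSub.range_left_eq_preimage sq]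
  congr 1
  exact I.range_subschemeι

/-- The open complement of a closed subsheaf cut out, on some étale chart, by a locally principal ideal
sheaf is affine over the ambient sheaf. -/
theorem isAffineMor_compl {X Z U : Sp S} (i : Z ⟶ X) (j : U ⟶ X)
    (hj : RepWith @IsOpenImmersion j)
    (hU : Set.range (Points.map j) = (Set.range (Points.map i))ᶜ)
    {V : Over S} (φ : (yon S).obj V ⟶ X) (hφe : RepWith @Etale φ) (hφs : RepWith @Surjective φ)
    (I : V.left.IdealSheafData)
    (fst : (yon S).obj (Over.mk (I.subschemeι ≫ V.hom)) ⟶ Z)
    (sq : IsPullback fst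
      ((yon S).map (Over.homMk I.subschemeι rfl : Over.mk (I.subschemeι ≫ V.hom) ⟶ V)) i φ)
    (hI : Curv2.IsLocPrincipal I) : IsAffineMor j := by
  let W : Over S := hj.rep.pullback φ
  let w : W ⟶ V := hj.rep.snd φ
  have sqW : IsPullback (hj.rep.fst φ) ((yon S).map w) j φ := hj.rep.isPullback φ
  haveI : IsOpenImmersion w.left := hj.property_snd φ
  have hrange := range_eq_compl_support i j hU φ I fst sq w _ sqW
  have haff : IsAffineHom w.left := isAffineHom_of_range_eq_compl_support w.left I hI hrange
  have hp1 : RepWith @Flat φ :=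
    Groth.Agent.Lib.H69AlgSp.repWith_mono (fun _ _ g (hg : Etale g) => (inferInstance : Flat g)) hφe
  have hp2 : RepWith @LocallyOfFinitePresentation φ :=
    Groth.Agent.Lib.H69AlgSp.repWith_mono
      (fun _ _ g (hg : Etale g) => (inferInstance : LocallyOfFinitePresentation g)) hφe
  refine Groth.Agent.Lib.H69DescentAffine.isAffineMor_of_fppf_cover j φ hp1 hp2 hφs
    (hj.rep.fst φ) ((yon S).map w) sqW ?_
  exact (Groth.Agent.Lib.H86ZarGlue.isAffineMor_iff_repWith _).2
    ((repWith_yon_map_iff _ _).2 haff)

end Groth.Agent.Lib.H86ComplAffine
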