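import Groth.Agent.Lib.H86ComplAffine
import Groth.Prelude.Def_CInt
import Mathlib.AlgebraicGeometry.Morphisms.QuasiCompact

/-!
# helper86: the complement of an effective Cartier divisor is schematically dense
-/

set_option autoImplicit false
set_option linter.style.haveILetI false
universe u
open CategoryTheory CategoryTheory.Limits AlgebraicGeometry Opposite TopologicalSpace

namespace Groth.Agent.Lib.H86ComplAffine
open AlgSp

/-- An effective Cartier ideal sheaf is locally principal. -/
theorem isLocPrincipal_of_isEffCartierIdeal {V : Scheme.{u}} {I : V.IdealSheafData}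
    (hI : BlowUp.IsEffCartierIdeal I) : Curv2.IsLocPrincipal I := fun x _ => by
  obtain ⟨U, hxU, f, -, hf⟩ := hI x
  exact ⟨U, hxU, f, hf⟩

/-- The complement of the support of an effective Cartier ideal sheaf is schematically dense. -/
theorem isSchematicallyDense_compl_support {V : Scheme.{u}} (I : V.IdealSheafData)
    (hI : BlowUp.IsEffCartierIdeal I) : CInt.IsSchematicallyDense I.support.compl := by
  intro V'
  rw [injective_iff_map_eq_zero]
  intro s hs
  have key : ∀ x : V', ∃ (A : V.Opens) (hA : A ≤ V'), (x : V) ∈ A ∧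
      V.presheaf.map (homOfLE hA).op s = 0 := by
    intro x
    obtain ⟨U, hxU, f, hf, hIf⟩ := hI x
    obtain ⟨g, hgV', hxg⟩ := U.2.exists_basicOpen_le x hxU
    refine ⟨V.basicOpen g, hgV', hxg, ?_⟩
    have hA : IsAffineOpen (V.basicOpen g) := U.2.basicOpen g
    let f' : Γ(V, V.basicOpen g) := algebraMap Γ(V, U) Γ(V, V.basicOpen g) f
    let s' : Γ(V, V.basicOpen g) := V.presheaf.map (homOfLE hgV').op s
    have hf' : f' ∈ nonZeroDivisors Γ(V, V.basicOpen g) := by
      haveI := U.2.isLocalization_basicOpen g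
      exact IsLocalization.map_nonZeroDivisors_le (Submonoid.powers g) Γ(V, V.basicOpen g)
        (Submonoid.mem_map_of_mem _ hf)
    have hle : V.basicOpen f' ≤ V' ⊓ I.support.compl := by
      intro y hy
      have hy' : y ∈ V.basicOpen g ⊓ V.basicOpen f := by
        have := V.basicOpen_res f (homOfLE (V.basicOpen_le g)).op
        rw [← this]
        exact hy
      refine ⟨hgV' hy'.1, ?_⟩
      change y ∉ I.support
      have hyU : y ∈ (U : V.Opens) := V.basicOpen_le f hy'.2
      rw [Scheme.IdealSheafData.mem_support_iff_of_mem hyU, hIf, Scheme.zeroLocus_span,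
        Scheme.zeroLocus_singleton]
      exact fun h => h hy'.2
    have h0 : V.presheaf.map (homOfLE (V.basicOpen_le f')).op s' = 0 := by
      have e1 : V.presheaf.map (homOfLE (V.basicOpen_le f')).op s' =
          V.presheaf.map (homOfLE hle).op
            (V.presheaf.map (homOfLE (inf_le_left : V' ⊓ I.support.compl ≤ V')).op s) := by
        change V.presheaf.map _ (V.presheaf.map _ s) = _
        rw [← ConcreteCategory.comp_apply, ← ConcreteCategory.comp_apply, ← Functor.map_comp,
          ← Functor.map_comp]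
        rfl
      rw [e1, hs, map_zero]
    obtain ⟨n, hn⟩ :=
      exists_pow_mul_eq_zero_of_res_basicOpen_eq_zero_of_isAffineOpen V hA s' f' h0
    exact (mul_left_mem_nonZeroDivisors_eq_zero_iff (pow_mem hf' n)).1 hn
  choose A hA hxA hsA using key
  refine V.sheaf.eq_of_locally_eq' A V' (fun x => homOfLE (hA x))
    (fun y hy => Opens.mem_iSup.2 ⟨⟨y, hy⟩, hxA _⟩) s 0 (fun x => ?_)
  rw [map_zero]
  exact hsA x

variable {S : Scheme.{u}}

/-- The open complement of an effective Cartier divisor (one-chart sense) is schematically dense. -/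
theorem isSchDense_compl {X Z U : Sp S} (i : Z ⟶ X) (j : U ⟶ X)
    (hj : RepWith @IsOpenImmersion j)
    (hU : Set.range (Points.map j) = (Set.range (Points.map i))ᶜ)
    {V : Over S} (φ : (yon S).obj V ⟶ X) (hφe : RepWith @Etale φ) (hφs : RepWith @Surjective φ)
    (I : V.left.IdealSheafData)
    (fst : (yon S).obj (Over.mk (I.subschemeι ≫ V.hom)) ⟶ Z)
    (sq : IsPullback fst
      ((yon S).map (Over.homMk I.subschemeι rfl : Over.mk (I.subschemeι ≫ V.hom) ⟶ V)) i φ)
    (hI : BlowUp.IsEffCartierIdeal I) : IsSchDense j := by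
  let W₀ : Over S := hj.rep.pullback φ
  let w : W₀ ⟶ V := hj.rep.snd φ
  have sqW : IsPullback (hj.rep.fst φ) ((yon S).map w) j φ := hj.rep.isPullback φ
  haveI : IsOpenImmersion w.left := hj.property_snd φ
  have hrange := range_eq_compl_support i j hU φ I fst sq w _ sqW
  let W : V.left.Opens := I.support.compl
  have hr : Set.range W.ι = Set.range w.left := by
    rw [hrange, Scheme.Opens.range_ι]
    rfl
  let e₀ : (W : Scheme.{u}) ≅ W₀.left := IsOpenImmersion.isoOfRangeEq W.ι w.left hr
  have he₀ : e₀.hom ≫ w.left = W.ι := IsOpenImmersion.isoOfRangeEq_hom_fac _ _ _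
  let e : Over.mk (W.ι ≫ V.hom) ≅ W₀ := Over.isoMk e₀ (by
    change e₀.hom ≫ W₀.hom = W.ι ≫ V.hom
    rw [← Over.w w, ← Category.assoc, he₀])
  have he : e.hom ≫ w = (Over.homMk W.ι rfl : Over.mk (W.ι ≫ V.hom) ⟶ V) := by
    ext
    exact he₀
  refine ⟨hj, V, φ, W, (yon S).map e.hom ≫ hj.rep.fst φ, hφe, hφs, ?_,
    isSchematicallyDense_compl_support I hI⟩
  refine sqW.of_iso ((yon S).mapIso e.symm) (Iso.refl _) (Iso.refl _) (Iso.refl _) ?_ ?_ ?_ ?_
  · change hj.rep.fst φ ≫ 𝟙 _ = (yon S).map e.inv ≫ (yon S).map e.hom ≫ hj.rep.fst φ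
    rw [Category.comp_id, ← Category.assoc, ← Functor.map_comp, e.inv_hom_id, (yon S).map_id,
      Category.id_comp]
  · change (yon S).map w ≫ 𝟙 _ = (yon S).map e.inv ≫ (yon S).map _
    rw [Category.comp_id, ← he, Functor.map_comp, ← Category.assoc, ← Functor.map_comp,
      e.inv_hom_id, (yon S).map_id, Category.id_comp]
  · simp
  · simp

end Groth.Agent.Lib.H86ComplAffine
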