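import Groth.Agent.Lib.H86ThickFO
import Groth.Agent.Lib.AlgSpAtPt
import Groth.Agent.Lib.AlgSpTrdeg91
import Groth.Agent.Lib.DeformBC88
import Groth.Agent.Lib.AttrUnram27
import Groth.Agent.Lib.H86FibDimBC
import Groth.Agent.Lib.AlgSpQFAt91
import Groth.Agent.S1309
import Groth.Agent.S1317
import Groth.Agent.S1320
import Groth.Agent.S1321
import Groth.Agent.S1322

/-!
# helper86: deformation situations of algebraic spaces (`B ⊂ B'` finite order thickening,
`X' ⟶ Y' ⟶ B'` with `X'` flat over `B'`): reduction to schemes via three-level charts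
-/

set_option autoImplicit false
set_option linter.style.haveILetI false
universe u
open CategoryTheory CategoryTheory.Limits AlgebraicGeometry Opposite

namespace Groth.Agent.Lib.H86Deform
open AlgSp Groth.Agent.Lib.H86Thick Groth.Agent.Lib.AlgSpBasic Groth.Agent.Lib.AlgSpLocP
  Groth.Agent.Lib.AlgSpAtPt

variable {S : Scheme.{u}}

section Chart

variable {X X' Y Y' : Sp S} {i : X ⟶ X'} {j : Y ⟶ Y'} {f : X ⟶ Y} {f' : X' ⟶ Y'}

/-- Given chosen pullbacks of the two thickenings along the charts of a chart diagram of `f'`,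
the induced morphism between them gives a chart diagram of `f` and a cartesian square of
schemes. -/
theorem exists_hom_of_chart_squares (hcart : IsPullback i f f' j)
    {U U' V V' : Over S} {a' : (yon S).obj U' ⟶ X'} {b' : (yon S).obj V' ⟶ Y'} {h' : U' ⟶ V'}
    (e' : a' ≫ f' = (yon S).map h' ≫ b')
    {a : (yon S).obj U ⟶ X} {p : U ⟶ U'} (sqU : IsPullback a ((yon S).map p) i a')
    {b : (yon S).obj V ⟶ Y} {q : V ⟶ V'} (sqV : IsPullback b ((yon S).map q) j b') :
    ∃ h : U ⟶ V, a ≫ f = (yon S).map h ≫ b ∧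
      IsPullback p.left h.left h'.left q.left := by
  have cond : (a ≫ f) ≫ j = (yon S).map (p ≫ h') ≫ b' := by
    rw [Category.assoc, ← hcart.w, ← Category.assoc, sqU.w, Category.assoc, e', Functor.map_comp,
      Category.assoc]
  let k : (yon S).obj U ⟶ (yon S).obj V := sqV.lift (a ≫ f) ((yon S).map (p ≫ h')) cond
  have hk1 : k ≫ b = a ≫ f := sqV.lift_fst _ _ _
  have hk2 : k ≫ (yon S).map q = (yon S).map (p ≫ h') := sqV.lift_snd _ _ _
  obtain ⟨h, hh⟩ := (yon S).map_surjective k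
  refine ⟨h, by rw [hh, hk1], ?_⟩
  apply isPullback_left_of_yon
  rw [hh]
  have houter : IsPullback ((yon S).map p) (a ≫ f) (a' ≫ f') j := sqU.flip.paste_vert hcart
  rw [← hk1, e'] at houter
  refine IsPullback.of_bot houter ?_ sqV.flip
  rw [hk2, Functor.map_comp]

end Chart

section ThreeLevel

variable {X' Y' B' : Sp S}

set_option backward.isDefEq.respectTransparency false in
/-- A three-level chart through a point, with affine bottom chart. -/
theorem exists_three_level_chart (hX' : IsAlgSpace X') (hY' : IsAlgSpace Y') (hB' : IsAlgSpace B')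
    (f' : X' ⟶ Y') (g' : Y' ⟶ B') (x' : Points X') :
    ∃ (U' V' W' : Over S) (a' : (yon S).obj U' ⟶ X') (b' : (yon S).obj V' ⟶ Y')
      (c' : (yon S).obj W' ⟶ B') (h' : U' ⟶ V') (k' : V' ⟶ W') (u' : ↥U'.left),
      IsAffine W'.left ∧ RepWith @Etale a' ∧ RepWith @Etale b' ∧ RepWith @Etale c' ∧
      a' ≫ f' = (yon S).map h' ≫ b' ∧ b' ≫ g' = (yon S).map k' ≫ c' ∧
      Points.ofPt a' u' = x' := by
  obtain ⟨W₀, c₀, hc₀, hc₀s⟩ := hB'.atlas
  obtain ⟨w₀, hw₀⟩ := Groth.Agent.Lib.H86AlgSpPoints.ofPt_surjective hc₀s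
    (Points.map g' (Points.map f' x'))
  obtain ⟨y, hy⟩ := W₀.left.affineCover.covers w₀
  let W' : Over S := Over.mk (W₀.left.affineCover.f (W₀.left.affineCover.idx w₀) ≫ W₀.hom)
  let ι' : W' ⟶ W₀ := Over.homMk (W₀.left.affineCover.f (W₀.left.affineCover.idx w₀))
  have hι : RepWith @Etale ((yon S).map ι') :=
    (repWith_yon_map_iff _ _).2
      (inferInstance : Etale (W₀.left.affineCover.f (W₀.left.affineCover.idx w₀)))
  have hc' : RepWith @Etale ((yon S).map ι' ≫ c₀) := MorphismProperty.comp_mem _ _ _ hι hc₀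
  have hW' : IsAffine W'.left := by
    change IsAffine (W₀.left.affineCover.X _)
    infer_instance
  have hyw : Points.ofPt ((yon S).map ι' ≫ c₀) y = Points.map g' (Points.map f' x') := by
    rw [Groth.Agent.Lib.AlgSpPoints.ofPt_yon_map_comp, ← hw₀]
    congr 1
  obtain ⟨V₀, b₀, hb₀, hb₀s⟩ := hY'.atlas
  obtain ⟨v₀, hv₀⟩ := Groth.Agent.Lib.H86AlgSpPoints.ofPt_surjective hb₀s (Points.map f' x')
  obtain ⟨V', s, k', v', -, hb', hcomm, -, hk'v, hv'⟩ :=
    Groth.Agent.Lib.AlgSpTrdeg91.exists_chart_over g' b₀ hb₀ ((yon S).map ι' ≫ c₀) hc' v₀ y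
      (by rw [hyw, hv₀])
  obtain ⟨U₀, a₀, ha₀, ha₀s⟩ := hX'.atlas
  obtain ⟨u₀, hu₀⟩ := Groth.Agent.Lib.H86AlgSpPoints.ofPt_surjective ha₀s x'
  obtain ⟨U', t, h', u', -, ha', hcomm', -, -, hu'⟩ :=
    Groth.Agent.Lib.AlgSpTrdeg91.exists_chart_over f' a₀ ha₀ ((yon S).map s ≫ b₀) hb' u₀ v'
      (by rw [hv', hv₀, hu₀])
  exact ⟨U', V', W', _, _, _, h', k', u', hW', ha', hb', hc', hcomm', hcomm, by rw [hu', hu₀]⟩

end ThreeLevel

section Deform

variable {X X' Y Y' B B' : Sp S} {iX : X ⟶ X'} {iY : Y ⟶ Y'} {iB : B ⟶ B'}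
  {f : X ⟶ Y} {f' : X' ⟶ Y'} {g : Y ⟶ B} {g' : Y' ⟶ B'}

theorem isPullback_top (hcX : IsPullback iX (f ≫ g) (f' ≫ g') iB) (hcY : IsPullback iY g g' iB)
    (w : iX ≫ f' = f ≫ iY) : IsPullback iX f f' iY :=
  IsPullback.of_bot hcX w hcY

set_option backward.isDefEq.respectTransparency false in
theorem isThickMor_mid (hB : IsThickMor iB) (hcY : IsPullback iY g g' iB) : IsThickMor iY :=
  MorphismProperty.of_isPullback (P := RepWith (S := S) thick) hcY.flip hB

set_option backward.isDefEq.respectTransparency false in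
theorem isThickMor_top (hB : IsThickMor iB) (hcX : IsPullback iX (f ≫ g) (f' ≫ g') iB) :
    IsThickMor iX :=
  MorphismProperty.of_isPullback (P := RepWith (S := S) thick) hcX.flip hB

/-- The scheme-level ascent statement in a deformation situation, for a property `P`. -/
def SchemeAscent (P : MorphismProperty Scheme.{u}) : Prop :=
  ∀ {A A' C C' D D' : Scheme.{u}} (iA : A ⟶ A') (iC : C ⟶ C') (iD : D ⟶ D') (φ : A ⟶ C)
    (φ' : A' ⟶ C') (γ : C ⟶ D) (γ' : C' ⟶ D'), MoreMor.IsFiniteOrderThickening iD →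
    IsPullback iA (φ ≫ γ) (φ' ≫ γ') iD → IsPullback iC γ γ' iD → iA ≫ φ' = φ ≫ iC →
    Flat (φ' ≫ γ') → P φ → P φ'

set_option backward.isDefEq.respectTransparency false in
/-- **Ascent of an etale-local property in a deformation situation of algebraic spaces.** -/
theorem locP_of_deform {P : MorphismProperty Scheme.{u}} (hP : SevenClass P)
    (hsch : SchemeAscent P)
    (hX' : IsAlgSpace X') (hY' : IsAlgSpace Y') (hB' : IsAlgSpace B')
    (hcX : IsPullback iX (f ≫ g) (f' ≫ g') iB) (hcY : IsPullback iY g g' iB)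
    (w : iX ≫ f' = f ≫ iY) (n : ℕ) (hB : IsNThickMor n iB) (hflat : LocP @Flat (f' ≫ g'))
    (hf : LocP P f) : LocP P f' := by
  have hE := hP.etLocalClass
  have hiY : IsThickMor iY := isThickMor_mid hB.1 hcY
  have hiX : IsThickMor iX := isThickMor_top hB.1 hcX
  have hcXY := isPullback_top hcX hcY w
  apply locP_of_forall_hasAtMor hP hX' hY' f'
  intro x'
  obtain ⟨U', V', W', a', b', c', h', k', u', hW', ha', hb', hc', e1, e2, hu'⟩ :=
    exists_three_level_chart hX' hY' hB' f' g' x'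
  obtain ⟨W, qW, c, sqW⟩ := hB.1.1 c'
  obtain ⟨V, qV, b, sqV⟩ := hiY.1 b'
  obtain ⟨U, qU, a, sqU⟩ := hiX.1 a'
  have ha : RepWith @Etale a := (RepWith (S := S) @Etale).of_isPullback sqU.flip ha'
  have hb : RepWith @Etale b := (RepWith (S := S) @Etale).of_isPullback sqV.flip hb'
  obtain ⟨k, -, sq2⟩ := exists_hom_of_chart_squares hcY e2 sqV sqW
  obtain ⟨h, eh, sq1⟩ := exists_hom_of_chart_squares hcXY e1 sqU sqV
  have hthick : MoreMor.IsFiniteOrderThickening qW.left :=
    ⟨hB.1.2 c' c qW sqW, ⟨n + 1, hB.2 c' c qW hW' hc' sqW⟩⟩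
  have hfl : Flat (h'.left ≫ k'.left) := by
    have e3 : a' ≫ (f' ≫ g') = (yon S).map (h' ≫ k') ≫ c' := by
      rw [← Category.assoc, e1, Category.assoc, e2, Functor.map_comp, Category.assoc]
    exact hflat a' c' (h' ≫ k') ha' hc' e3
  have hPh : P h'.left :=
    hsch qU.left qV.left qW.left h.left h'.left k.left k'.left hthick (sq1.paste_vert sq2) sq2
      sq1.w hfl (hf a b h ha hb eh)
  refine ⟨U', V', a', b', h', u', ha', hb', e1, hu', ⊤, trivial, ?_⟩
  exact hE.pre _ _ (inferInstanceAs (Etale (⊤ : Scheme.Opens _).ι)) hPh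

end Deform

section Instances

theorem isFiniteOrderThickening_mid {Y Y' T T' : Scheme.{u}} {iY : Y ⟶ Y'} {iT : T ⟶ T'}
    {g : Y ⟶ T} {g' : Y' ⟶ T'} (hT : MoreMor.IsFiniteOrderThickening iT)
    (hcY : IsPullback iY g g' iT) : MoreMor.IsFiniteOrderThickening iY := by
  haveI : IsClosedImmersion iT := hT.1.1
  exact ⟨Groth.Agent.Lib.DeformBC88.isThickening_mid hT.1 hcY,
    Groth.Agent.Lib.AttrUnram27.isNilpotent_ker_of_isPullback _ _ _ _ hcY hT.2⟩

theorem schemeAscent_flat : SchemeAscent @Flat.{u} := by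
  intro A A' C C' D D' iA iC iD φ φ' γ γ' hD hcX hcY w hfl hφ
  haveI := hfl
  exact (Groth.Agent.S1317.result iA iC iD φ φ' γ γ' hD hcX hcY w).1 hφ

theorem schemeAscent_lfp : SchemeAscent @LocallyOfFinitePresentation.{u} := by
  intro A A' C C' D D' iA iC iD φ φ' γ γ' hD hcX hcY w hfl hφ
  haveI := hfl
  exact (Groth.Agent.S1320.result iA iC iD φ φ' γ γ' hD hcX hcY w).1 hφ

theorem schemeAscent_smooth : SchemeAscent @Smooth.{u} := by
  intro A A' C C' D D' iA iC iD φ φ' γ γ' hD hcX hcY w hfl hφ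
  haveI := hfl
  exact (Groth.Agent.S1321.result iA iC iD φ φ' γ γ' hD hcX hcY w).1 hφ

theorem schemeAscent_etale : SchemeAscent @Etale.{u} := by
  intro A A' C C' D D' iA iC iD φ φ' γ γ' hD hcX hcY w hfl hφ
  haveI := hfl
  exact (Groth.Agent.S1322.result iA iC iD φ φ' γ γ' hD hcX hcY w).1 hφ

theorem schemeAscent_lft : SchemeAscent @LocallyOfFiniteType.{u} := by
  intro A A' C C' D D' iA iC iD φ φ' γ γ' hD hcX hcY w _ hφ
  exact (Groth.Agent.S1309.result iA iC φ φ' (isFiniteOrderThickening_mid hD hcY)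
    (Groth.Agent.Lib.DeformBC88.isPullback_left hcX hcY w)).1 hφ

theorem sevenClass_lft : SevenClass @LocallyOfFiniteType.{u} := Or.inl rfl
theorem sevenClass_lfp : SevenClass @LocallyOfFinitePresentation.{u} := Or.inr (Or.inl rfl)
theorem sevenClass_flat : SevenClass @Flat.{u} := Or.inr (Or.inr (Or.inl rfl))
theorem sevenClass_smooth : SevenClass @Smooth.{u} := Or.inr (Or.inr (Or.inr (Or.inl rfl)))
theorem sevenClass_etale : SevenClass @Etale.{u} :=
  Or.inr (Or.inr (Or.inr (Or.inr (Or.inl rfl))))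

end Instances

section RelDim

variable {X X' Y Y' : Sp S} {i : X ⟶ X'} {j : Y ⟶ Y'} {f : X ⟶ Y} {f' : X' ⟶ Y'}

/-- Relative dimension `d` at all points transfers along a cartesian morphism of thickenings
(with `f'` locally of finite type). -/
theorem relDim_iff_of_thick_cart (hX : IsAlgSpace X) (hX' : IsAlgSpace X') (hY : IsAlgSpace Y)
    (hY' : IsAlgSpace Y') (hi : IsThickMor i) (hcart : IsPullback i f f' j)
    (hf' : LocP @LocallyOfFiniteType f') (d : WithBot ℕ∞) :
    (∀ x, HasAtMor (fun _ _ h u => FlatMor.fibreDimAt h u = d) f x) ↔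
      (∀ x', HasAtMor (fun _ _ h u => FlatMor.fibreDimAt h u = d) f' x') := by
  constructor
  · intro H x'
    obtain ⟨x, rfl⟩ := map_surjective_of_isThickMor hi x'
    obtain ⟨U, V, a, b, h, u, ha, hb, hc, hu, hd⟩ := H x
    obtain ⟨U', V', a', b', h', u', ha', hb', hc', hu'⟩ :=
      Groth.Agent.Lib.AlgSpQFAt91.exists_chart_diagram hX' hY' f' (Points.map i x)
    refine ⟨U', V', a', b', h', u', ha', hb', hc', hu', ?_⟩
    have := Groth.Agent.Lib.H86FibDimBC.fibreDimAt_eq_of_baseChange_charts hX' hY' hX hY hcart hf'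
      a' b' h' ha' hb' hc' u' a b h ha hb hc u (by rw [hu', hu])
    change FlatMor.fibreDimAt h'.left u' = _
    rw [this]
    exact hd
  · intro H x
    obtain ⟨U', V', a', b', h', u', ha', hb', hc', hu', hd⟩ := H (Points.map i x)
    obtain ⟨U, V, a, b, h, u, ha, hb, hc, hu⟩ :=
      Groth.Agent.Lib.AlgSpQFAt91.exists_chart_diagram hX hY f x
    refine ⟨U, V, a, b, h, u, ha, hb, hc, hu, ?_⟩
    have := Groth.Agent.Lib.H86FibDimBC.fibreDimAt_eq_of_baseChange_charts hX' hY' hX hY hcart hf'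
      a' b' h' ha' hb' hc' u' a b h ha hb hc u (by rw [hu', hu])
    change FlatMor.fibreDimAt h.left u = _
    rw [← this]
    exact hd

end RelDim

end Groth.Agent.Lib.H86Deform
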