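import Mathlib
import Groth.Prelude.Def_FlatCA
import Groth.Agent.Lib.FlatLimDirectedFP88
import Groth.Agent.Lib.FlatCrit

/-!
# Fibre criterion of flatness modulo a locally nilpotent ideal (helper64)

`R → S` of finite type, `S → S'` with `S'` of finite presentation over `R`, `I ⊆ R` an ideal all of
whose elements are nilpotent, `M` a finitely presented `S'`-module, flat over `R`, with `M/IM` flat
over `S/IS`.  Then `M` is flat over `S`.

Route: `S/IS` is the directed colimit of the `S/JS` over the finitely generated (hence nilpotent)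
sub-ideals `J ⊆ I`; flatness of `M/IM` over `S/IS` descends to a stage
(`FlatLimDirectedFP88.flat_directed_iff`), and then the nilpotent criterion (`FlatCrit`) applies.
-/

open TensorProduct

namespace Groth.Agent.Lib.LocNilFibre64

universe u

section

variable {R S : Type u} [CommRing R] [CommRing S] [Algebra R S] (I : Ideal R)

/-- Finitely generated sub-ideals of `I`. -/
abbrev Idx : Type u := {J : Ideal R // J.FG ∧ J ≤ I}

instance : Nonempty (Idx I) := ⟨⟨⊥, Submodule.fg_bot, bot_le⟩⟩

theorem exists_ge (J J' : Idx I) : ∃ K : Idx I, J ≤ K ∧ J' ≤ K :=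
  ⟨⟨J.1 ⊔ J'.1, Submodule.FG.sup J.2.1 J'.2.1, sup_le J.2.2 J'.2.2⟩,
    (le_sup_left : J.1 ≤ J.1 ⊔ J'.1), (le_sup_right : J'.1 ≤ J.1 ⊔ J'.1)⟩

instance : IsDirected (Idx I) (· ≤ ·) := ⟨exists_ge I⟩

variable (S) in
/-- The stage `S/JS`. -/
abbrev G (J : Idx I) : Type u := S ⧸ J.1.map (algebraMap R S)

variable (S) in
/-- The transition maps. -/
noncomputable abbrev g (J J' : Idx I) (h : J ≤ J') : G S I J →ₐ[S] G S I J' :=
  Ideal.Quotient.factorₐ S (Ideal.map_mono h)

variable (S) in
/-- The maps to the colimit `S/IS`. -/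
noncomputable abbrev toA (J : Idx I) : G S I J →+* S ⧸ I.map (algebraMap R S) :=
  Ideal.Quotient.factor (Ideal.map_mono J.2.2)

theorem exists_fg_le_of_mem_map {x : S} (hx : x ∈ I.map (algebraMap R S)) :
    ∃ J : Idx I, x ∈ J.1.map (algebraMap R S) := by
  classical
  rw [Ideal.map, ← Ideal.submodule_span_eq] at hx
  refine Submodule.span_induction (p := fun x _ => ∃ J : Idx I, x ∈ J.1.map (algebraMap R S))
    ?_ ?_ ?_ ?_ hx
  · rintro _ ⟨a, ha, rfl⟩
    refine ⟨⟨Ideal.span {a}, ⟨{a}, by simp⟩, (Ideal.span_singleton_le_iff_mem I).mpr ha⟩, ?_⟩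
    exact Ideal.mem_map_of_mem _ (Ideal.subset_span rfl)
  · exact ⟨⟨⊥, Submodule.fg_bot, bot_le⟩, Ideal.zero_mem _⟩
  · rintro x y _ _ ⟨J, hJ⟩ ⟨J', hJ'⟩
    obtain ⟨K, hK, hK'⟩ := exists_ge I J J'
    exact ⟨K, Ideal.add_mem _ (Ideal.map_mono hK hJ) (Ideal.map_mono hK' hJ')⟩
  · rintro a x _ ⟨J, hJ⟩
    exact ⟨J, Ideal.mul_mem_left _ a hJ⟩

end

/-- Fibrewise criterion of flatness modulo a locally nilpotent ideal (Stacks 0523, flatness part). -/
theorem flat_of_locallyNilpotent {R S S' M : Type u} [CommRing R] [CommRing S] [CommRing S']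
    [Algebra R S] [Algebra S S'] [Algebra R S'] [IsScalarTower R S S']
    [Algebra.FiniteType R S] [Algebra.FinitePresentation R S'] (I : Ideal R)
    (hI : ∀ a ∈ I, IsNilpotent a)
    [AddCommGroup M] [Module S' M] [Module S M] [Module R M] [IsScalarTower S S' M]
    [IsScalarTower R S M] [Module.FinitePresentation S' M] [Module.Flat R M]
    (h : Module.Flat (S ⧸ I.map (algebraMap R S)) ((S ⧸ I.map (algebraMap R S)) ⊗[S] M)) :
    Module.Flat S M := by
  classical
  have : Algebra.FinitePresentation S S' :=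
    Algebra.FinitePresentation.of_restrict_scalars_finitePresentation R S S'
  let algGA : ∀ J : Idx I, Algebra (G S I J) (S ⧸ I.map (algebraMap R S)) :=
    fun J => (toA S I J).toAlgebra
  have : ∀ J : Idx I, IsScalarTower S (G S I J) (S ⧸ I.map (algebraMap R S)) :=
    fun J => IsScalarTower.of_algebraMap_eq fun x => rfl
  have hcolim : FlatCA.IsDirectedColimitRing (G S I)
      (fun i j h => (g S I i j h).toRingHom) (S ⧸ I.map (algebraMap R S)) := by
    refine ⟨inferInstance, inferInstance, ?_, ?_, ?_, ?_, ?_⟩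
    · intro i
      ext x
      rfl
    · intro i j k hij hjk
      ext x
      rfl
    · intro i j hij
      ext x
      rfl
    · intro a
      obtain ⟨x, rfl⟩ := Ideal.Quotient.mk_surjective a
      exact ⟨Classical.arbitrary _, Ideal.Quotient.mk _ x, rfl⟩
    · intro i x hx
      obtain ⟨x, rfl⟩ := Ideal.Quotient.mk_surjective x
      have hx' : x ∈ I.map (algebraMap R S) := by
        rw [← Ideal.Quotient.eq_zero_iff_mem]
        exact hx
      obtain ⟨J, hJ⟩ := exists_fg_le_of_mem_map I hx'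
      obtain ⟨K, hiK, hJK⟩ := exists_ge I i J
      refine ⟨K, hiK, ?_⟩
      change Ideal.Quotient.mk _ x = 0
      rw [Ideal.Quotient.eq_zero_iff_mem]
      exact Ideal.map_mono hJK hJ
  obtain ⟨J, hJ⟩ := (Groth.Agent.Lib.FlatLimDirectedFP88.flat_directed_iff (A₀ := S) (G S I)
    (g S I) (S ⧸ I.map (algebraMap R S)) hcolim (B₀ := S') M).mp h
  have hJnil : IsNilpotent J.1 :=
    (Ideal.FG.isNilpotent_iff_le_nilradical J.2.1).mpr fun a ha =>
      (mem_nilradical).mpr (hI a (J.2.2 ha))
  have hnil : IsNilpotent (J.1.map (algebraMap R S)) := by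
    obtain ⟨n, hn⟩ := hJnil
    exact ⟨n, by rw [← Ideal.map_pow, hn, Ideal.zero_eq_bot, Ideal.map_bot]; rfl⟩
  exact Groth.Agent.Lib.FlatCrit.flat_of_isNilpotent _ hnil
    (Groth.Agent.Lib.FlatCrit.rTensor_map_injective J.1
      (Module.Flat.rTensor_preserves_injective_linearMap _ J.1.subtype_injective))

end Groth.Agent.Lib.LocNilFibre64
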