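import Mathlib
import Groth.Agent.Lib.LocNilFibre64
import Groth.Agent.Lib.ThickeningBC

/-!
# Fibre criterion modulo a locally nilpotent ideal: abstract quotient and pushout forms (helper64)

* `flat_of_locallyNilpotent_of_surjective`: as `LocNilFibre64.flat_of_locallyNilpotent` but with an
  abstract model `Sbar` of `S/IS`.
* `flat_of_isPushout`: `CommRingCat` pushout form, as it comes out of a thickening of schemes.
-/

open TensorProduct CategoryTheory Limits

namespace Groth.Agent.Lib.LocNilFibreThick64

universe u

open Groth.Agent.Lib.LocNilFibre64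

theorem flat_of_locallyNilpotent_of_surjective {R S S' M : Type u} [CommRing R] [CommRing S]
    [CommRing S'] [Algebra R S] [Algebra S S'] [Algebra R S'] [IsScalarTower R S S']
    [Algebra.FiniteType R S] [Algebra.FinitePresentation R S'] (I : Ideal R)
    (hI : ∀ a ∈ I, IsNilpotent a)
    [AddCommGroup M] [Module S' M] [Module S M] [Module R M] [IsScalarTower S S' M]
    [IsScalarTower R S M] [Module.FinitePresentation S' M] [Module.Flat R M]
    (Sbar : Type u) [CommRing Sbar] [Algebra S Sbar]
    (hsurj : Function.Surjective (algebraMap S Sbar))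
    (hker : RingHom.ker (algebraMap S Sbar) = I.map (algebraMap R S))
    (h : Module.Flat Sbar (Sbar ⊗[S] M)) : Module.Flat S M := by
  refine flat_of_locallyNilpotent (R := R) (S := S) (S' := S') (M := M) I hI ?_
  set A := S ⧸ I.map (algebraMap R S) with hA
  have hsurj' : Function.Surjective (Algebra.ofId S Sbar) := hsurj
  have hker' : RingHom.ker (Algebra.ofId S Sbar) = I.map (algebraMap R S) := hker
  let e : A ≃ₐ[S] Sbar :=
    (Ideal.quotientEquivAlgOfEq S hker'.symm).trans
      (Ideal.quotientKerAlgEquivOfSurjective hsurj')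
  let _ : Algebra A Sbar := (e : A →+* Sbar).toAlgebra
  have : IsScalarTower S A Sbar := IsScalarTower.of_algebraMap_eq fun x => (e.commutes x).symm
  have hflatA : Module.Flat A Sbar := RingHom.Flat.of_bijective (f := (e : A →+* Sbar)) e.bijective
  have hflatX : Module.Flat A (Sbar ⊗[S] M) := Module.Flat.trans A Sbar (Sbar ⊗[S] M)
  have hsA : Function.Surjective (algebraMap S A) := Ideal.Quotient.mk_surjective
  let eX : A ⊗[S] M ≃ₗ[A] Sbar ⊗[S] M :=
    (TensorProduct.congr e.toLinearEquiv (LinearEquiv.refl S M)).extendScalarsOfSurjective hsA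
  exact Module.Flat.of_linearEquiv eX

/-- Pushout form: `R' → B' → C'` with `C'` flat and finitely presented over `R'`, `B'` of finite type
over `R'`, `φ : R' → R` surjective with locally nilpotent kernel, `B = B' ⊗ R`, `C = C' ⊗_{B'} B`.
If `B → C` is flat then `B' → C'` is flat. -/
theorem flat_of_isPushout {R' R B' B C' C : CommRingCat.{u}} {α : R' ⟶ B'} {β : B' ⟶ C'}
    {φ : R' ⟶ R} {ψB : B' ⟶ B} {ψC : C' ⟶ C} {αbar : R ⟶ B} {βbar : B ⟶ C}
    (hY : IsPushout α φ ψB αbar) (hXY : IsPushout β ψB ψC βbar)
    (hφ : Function.Surjective φ.hom) (hψB : Function.Surjective ψB.hom)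
    (hnil : ∀ x ∈ RingHom.ker φ.hom, IsNilpotent x)
    (hα : α.hom.FiniteType) (hfp : (α ≫ β).hom.FinitePresentation) (hfl : (α ≫ β).hom.Flat)
    (hβ : βbar.hom.Flat) : β.hom.Flat := by
  let _ : Algebra R' B' := α.hom.toAlgebra
  let _ : Algebra B' C' := β.hom.toAlgebra
  let _ : Algebra R' C' := (α ≫ β).hom.toAlgebra
  have : IsScalarTower R' B' C' := IsScalarTower.of_algebraMap_eq fun _ => rfl
  let _ : Algebra B' B := ψB.hom.toAlgebra
  let _ : Algebra B C := βbar.hom.toAlgebra
  let _ : Algebra C' C := ψC.hom.toAlgebra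
  let _ : Algebra B' C := (ψB ≫ βbar).hom.toAlgebra
  have : IsScalarTower B' B C := IsScalarTower.of_algebraMap_eq fun _ => rfl
  have : IsScalarTower B' C' C := IsScalarTower.of_algebraMap_eq fun x => by
    have := congrArg (fun t => t.hom x) hXY.w
    exact this.symm
  have : Algebra.FiniteType R' B' := hα
  have : Algebra.FinitePresentation R' C' := hfp
  have : Module.Flat R' C' := hfl
  have : Module.Flat B C := hβ
  have hpo : Algebra.IsPushout B' C' B C := CommRingCat.isPushout_iff_isPushout.mp hXY
  have hbc : IsBaseChange B (IsScalarTower.toAlgHom B' C' C).toLinearMap := hpo.symm.out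
  have hflat : Module.Flat B (B ⊗[B'] C') := Module.Flat.of_linearEquiv hbc.equiv
  have hker : RingHom.ker (algebraMap B' B) = (RingHom.ker φ.hom).map (algebraMap R' B') := by
    apply le_antisymm
    · exact Groth.Agent.Lib.ThickeningBC.ker_le_map_of_isPushout hY hφ
    · rw [Ideal.map_le_iff_le_comap]
      intro x hx
      rw [Ideal.mem_comap, RingHom.mem_ker]
      have := congrArg (fun t => t.hom x) hY.w
      change ψB.hom (α.hom x) = αbar.hom (φ.hom x) at this
      rw [RingHom.mem_ker] at hx
      change ψB.hom (α.hom x) = 0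
      rw [this, hx, map_zero]
  exact flat_of_locallyNilpotent_of_surjective (R := R') (S := B') (S' := C') (M := C')
    (RingHom.ker φ.hom) hnil B hψB hker hflat

end Groth.Agent.Lib.LocNilFibreThick64
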