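import Mathlib
import Groth.Prelude.Def_MoreMor
import Groth.Agent.Lib.LocNilFibreThick64

/-!
# Deformation along an arbitrary thickening: flatness (Stacks 0CF4) (helper64)
-/

open CategoryTheory Limits AlgebraicGeometry

namespace Groth.Agent.Lib.ThickDeform64

universe u

variable {X X' Y Y' S S' : Scheme.{u}} {iX : X ⟶ X'} {iY : Y ⟶ Y'} {iS : S ⟶ S'}
  {f : X ⟶ Y} {f' : X' ⟶ Y'} {g : Y ⟶ S} {g' : Y' ⟶ S'}

/-- The left square `X = X' ×_{Y'} Y`. -/
theorem isPullback_left (hcX : IsPullback iX (f ≫ g) (f' ≫ g') iS) (hcY : IsPullback iY g g' iS)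
    (w : iX ≫ f' = f ≫ iY) : IsPullback iX f f' iY :=
  (IsPullback.of_right hcX.flip w.symm hcY.flip).flip

/-- Local data around a point of `X'`: affine opens `W ⊆ S'`, `U ⊆ Y'`, `V ⊆ X'` with
`V ≤ f'⁻¹ U`, `U ≤ g'⁻¹ W`. -/
theorem exists_affine_nhds (f' : X' ⟶ Y') (g' : Y' ⟶ S') (x' : X') :
    ∃ (W : S'.Opens) (U : Y'.Opens) (V : X'.Opens), IsAffineOpen W ∧ IsAffineOpen U ∧
      IsAffineOpen V ∧ x' ∈ V ∧ V ≤ f' ⁻¹ᵁ U ∧ U ≤ g' ⁻¹ᵁ W := by
  obtain ⟨W, hW, hW', _⟩ := TopologicalSpace.Opens.isBasis_iff_nbhd.mp S'.isBasis_affineOpens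
    (TopologicalSpace.Opens.mem_top (g' (f' x')))
  obtain ⟨U, hU, hU', eU⟩ := TopologicalSpace.Opens.isBasis_iff_nbhd.mp Y'.isBasis_affineOpens
    (show f' x' ∈ g' ⁻¹ᵁ W from hW')
  obtain ⟨V, hV, hV', eV⟩ := TopologicalSpace.Opens.isBasis_iff_nbhd.mp X'.isBasis_affineOpens
    (show x' ∈ f' ⁻¹ᵁ U from hU')
  exact ⟨W, U, V, hW, hU, hV, hV', eV, eU⟩

theorem flat_of_flat_of_thickening (hS : MoreMor.IsThickening iS)
    (hcX : IsPullback iX (f ≫ g) (f' ≫ g') iS) (hcY : IsPullback iY g g' iS)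
    (w : iX ≫ f' = f ≫ iY) [Flat (f' ≫ g')] [LocallyOfFinitePresentation (f' ≫ g')]
    [LocallyOfFiniteType g'] (hf : Flat f) : Flat f' := by
  have : IsClosedImmersion iS := hS.1
  have : Surjective iS := hS.2
  have hpb := isPullback_left hcX hcY w
  have hiY : IsClosedImmersion iY := MorphismProperty.of_isPullback hcY.flip inferInstance
  have hiX : IsClosedImmersion iX := MorphismProperty.of_isPullback hpb.flip inferInstance
  rw [HasRingHomProperty.iff_exists_appLE (P := @Flat)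
    (RingHom.Flat.stableUnderComposition.stableUnderCompositionWithLocalizationAway
      RingHom.Flat.holdsForLocalizationAway).left]
  intro x'
  obtain ⟨W, U, V, hW, hU, hV, hxV, eV, eU⟩ := exists_affine_nhds f' g' x'
  refine ⟨⟨U, hU⟩, ⟨V, hV⟩, hxV, eV, ?_⟩
  have hY := Groth.Agent.Lib.ThickeningBC.isPushout_appLE hcY hW hU eU
  have hXY := Groth.Agent.Lib.ThickeningBC.isPushout_appLE hpb hU hV eV
  have hcomp : g'.appLE W U eU ≫ f'.appLE U V eV =
      (f' ≫ g').appLE W V (eV.trans ((TopologicalSpace.Opens.map f'.base).map (homOfLE eU)).le) :=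
    Scheme.Hom.appLE_comp_appLE f' g' W U V eU eV
  refine Groth.Agent.Lib.LocNilFibreThick64.flat_of_isPushout hY hXY
    (iS.app_surjective _ hW) (iY.app_surjective _ hU)
    (fun x hx => Groth.Agent.Lib.ThickeningBC.isNilpotent_of_mem_ker_app hW hx) ?_ ?_ ?_ ?_
  · exact HasRingHomProperty.appLE (P := @LocallyOfFiniteType) g' inferInstance ⟨W, hW⟩ ⟨U, hU⟩ eU
  · rw [hcomp]
    exact HasRingHomProperty.appLE (P := @LocallyOfFinitePresentation) (f' ≫ g') inferInstance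
      ⟨W, hW⟩ ⟨V, hV⟩ _
  · rw [hcomp]
    exact HasRingHomProperty.appLE (P := @Flat) (f' ≫ g') inferInstance ⟨W, hW⟩ ⟨V, hV⟩ _
  · exact HasRingHomProperty.appLE (P := @Flat) f hf ⟨_, hU.preimage iY⟩ ⟨_, hV.preimage iX⟩ _

theorem flat_iff_of_thickening (hS : MoreMor.IsThickening iS)
    (hcX : IsPullback iX (f ≫ g) (f' ≫ g') iS) (hcY : IsPullback iY g g' iS)
    (w : iX ≫ f' = f ≫ iY) [Flat (f' ≫ g')] [LocallyOfFinitePresentation (f' ≫ g')]
    [LocallyOfFiniteType g'] : Flat f ↔ Flat f' :=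
  ⟨flat_of_flat_of_thickening hS hcX hcY w,
    fun h => MorphismProperty.of_isPullback (isPullback_left hcX hcY w) h⟩

end Groth.Agent.Lib.ThickDeform64
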