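import Mathlib
import Groth.Prelude.Def_MoreMor
import Groth.Agent.Lib.ThickDeform64
import Groth.Agent.Lib.ThickeningAlg

/-!
# Deformation along an arbitrary thickening: smooth and étale (Stacks 0CF4) (helper64)

* `of_thickening`: generic principle for a `HasRingHomProperty`.
* `smooth_of_isPushout`, `etale_of_isPushout`: ring-level statements.
* `smooth_iff_of_thickening`, `etale_iff_of_thickening`.
-/

open CategoryTheory Limits AlgebraicGeometry TensorProduct

namespace Groth.Agent.Lib.ThickDeformSm64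

universe u

open Groth.Agent.Lib.ThickDeform64 Groth.Agent.Lib.LocNilFibreThick64

section Ring

variable {R' R B' B C' C : CommRingCat.{u}} {α : R' ⟶ B'} {β : B' ⟶ C'}
    {φ : R' ⟶ R} {ψB : B' ⟶ B} {ψC : C' ⟶ C} {αbar : R ⟶ B} {βbar : B ⟶ C}

theorem ker_le_nilradical (hY : IsPushout α φ ψB αbar) (hφ : Function.Surjective φ.hom)
    (hnil : ∀ x ∈ RingHom.ker φ.hom, IsNilpotent x) :
    RingHom.ker ψB.hom ≤ nilradical B' := by
  refine (Groth.Agent.Lib.ThickeningBC.ker_le_map_of_isPushout hY hφ).trans ?_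
  rw [Ideal.map_le_iff_le_comap]
  intro x hx
  rw [Ideal.mem_comap, mem_nilradical]
  exact (hnil x hx).map α.hom

theorem smooth_of_isPushout
    (hY : IsPushout α φ ψB αbar) (hXY : IsPushout β ψB ψC βbar)
    (hφ : Function.Surjective φ.hom) (hψB : Function.Surjective ψB.hom)
    (hnil : ∀ x ∈ RingHom.ker φ.hom, IsNilpotent x)
    (hα : α.hom.FiniteType) (hfp : (α ≫ β).hom.FinitePresentation) (hfl : (α ≫ β).hom.Flat)
    (hβ : βbar.hom.Smooth) : β.hom.Smooth := by
  have hflat : β.hom.Flat := flat_of_isPushout hY hXY hφ hψB hnil hα hfp hfl hβ.flat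
  have hfpβ : β.hom.FinitePresentation :=
    RingHom.FinitePresentation.of_comp_finiteType α.hom hfp hα
  have hkn := ker_le_nilradical hY hφ hnil
  let _ : Algebra B' C' := β.hom.toAlgebra
  let _ : Algebra B' B := ψB.hom.toAlgebra
  let _ : Algebra B C := βbar.hom.toAlgebra
  let _ : Algebra C' C := ψC.hom.toAlgebra
  let _ : Algebra B' C := (ψB ≫ βbar).hom.toAlgebra
  have : IsScalarTower B' B C := IsScalarTower.of_algebraMap_eq fun _ => rfl
  have : IsScalarTower B' C' C := IsScalarTower.of_algebraMap_eq fun x => by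
    have := congrArg (fun t => t.hom x) hXY.w
    exact this.symm
  have : Algebra.FinitePresentation B' C' := hfpβ
  have : Module.Flat B' C' := hflat
  have : Algebra.Smooth B C := hβ
  have hpo : Algebra.IsPushout B' C' B C := CommRingCat.isPushout_iff_isPushout.mp hXY
  have hpo' : Algebra.IsPushout B' B C' C := hpo.symm
  let e1 : B ⊗[B'] C' ≃ₐ[B] C := Algebra.IsPushout.equiv B' B C' C
  have : Algebra.FormallySmooth B (B ⊗[B'] C') := Algebra.FormallySmooth.of_equiv e1.symm
  change Algebra.Smooth B' C'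
  refine Algebra.Smooth.of_formallySmooth_fiber fun p _ => ?_
  have hle : RingHom.ker ψB.hom ≤ RingHom.ker (algebraMap B' p.ResidueField) := by
    intro x hx
    rw [RingHom.mem_ker]
    have h1 : IsNilpotent x := mem_nilradical.mp (hkn hx)
    exact (h1.map (algebraMap B' p.ResidueField)).eq_zero
  let ρ : B →+* p.ResidueField :=
    RingHom.liftOfSurjective ψB.hom hψB ⟨algebraMap B' p.ResidueField, hle⟩
  have hρ : ∀ x : B', ρ (ψB.hom x) = algebraMap B' p.ResidueField x := fun x =>
    RingHom.liftOfRightInverse_comp_apply ψB.hom _ (Function.surjInv_eq hψB)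
      ⟨algebraMap B' p.ResidueField, hle⟩ x
  let _ : Algebra B p.ResidueField := ρ.toAlgebra
  have : IsScalarTower B' B p.ResidueField :=
    IsScalarTower.of_algebraMap_eq fun x => (hρ x).symm
  let e2 : p.ResidueField ⊗[B] (B ⊗[B'] C') ≃ₐ[p.ResidueField] p.ResidueField ⊗[B'] C' :=
    Algebra.TensorProduct.cancelBaseChange B' B p.ResidueField p.ResidueField C'
  exact Algebra.FormallySmooth.of_equiv e2

theorem etale_of_isPushout
    (hY : IsPushout α φ ψB αbar) (hXY : IsPushout β ψB ψC βbar)
    (hφ : Function.Surjective φ.hom) (hψB : Function.Surjective ψB.hom)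
    (hnil : ∀ x ∈ RingHom.ker φ.hom, IsNilpotent x)
    (hα : α.hom.FiniteType) (hfp : (α ≫ β).hom.FinitePresentation) (hfl : (α ≫ β).hom.Flat)
    (hβ : βbar.hom.Etale) : β.hom.Etale := by
  have hsm : βbar.hom.Smooth := ((RingHom.etale_iff_formallyUnramified_and_smooth _).mp hβ).2
  have hflat : β.hom.Flat := flat_of_isPushout hY hXY hφ hψB hnil hα hfp hfl hsm.flat
  have hfpβ : β.hom.FinitePresentation :=
    RingHom.FinitePresentation.of_comp_finiteType α.hom hfp hα
  have hkn := ker_le_nilradical hY hφ hnil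
  let _ : Algebra B' C' := β.hom.toAlgebra
  let _ : Algebra B' B := ψB.hom.toAlgebra
  let _ : Algebra B C := βbar.hom.toAlgebra
  let _ : Algebra C' C := ψC.hom.toAlgebra
  let _ : Algebra B' C := (ψB ≫ βbar).hom.toAlgebra
  have : IsScalarTower B' B C := IsScalarTower.of_algebraMap_eq fun _ => rfl
  have : IsScalarTower B' C' C := IsScalarTower.of_algebraMap_eq fun x => by
    have := congrArg (fun t => t.hom x) hXY.w
    exact this.symm
  have : Algebra.FinitePresentation B' C' := hfpβ
  have : Module.Flat B' C' := hflat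
  have : Algebra.Etale B C := hβ
  have hpo : Algebra.IsPushout B' C' B C := CommRingCat.isPushout_iff_isPushout.mp hXY
  have hpo' : Algebra.IsPushout B' B C' C := hpo.symm
  have : Algebra.FormallyUnramified B' C' :=
    Groth.Agent.Lib.ThickeningAlg.formallyUnramified_of_isPushout (A := B') (B := C') (A₀ := B)
      (B₀ := C) hψB hkn
  change Algebra.Etale B' C'
  exact Algebra.Etale.of_formallyUnramified_of_flat

end Ring

section Scheme

theorem etale_holdsForLocalizationAway : RingHom.HoldsForLocalizationAway RingHom.Etale := by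
  introv R h
  rw [RingHom.etale_algebraMap]
  exact Algebra.Etale.of_isLocalizationAway r

variable {X X' Y Y' S S' : Scheme.{u}} {iX : X ⟶ X'} {iY : Y ⟶ Y'} {iS : S ⟶ S'}
  {f : X ⟶ Y} {f' : X' ⟶ Y'} {g : Y ⟶ S} {g' : Y' ⟶ S'}

/-- Generic deformation principle along a thickening for a property given by a ring hom
property. -/
theorem of_thickening {P : MorphismProperty Scheme.{u}}
    {Q : ∀ {R T : Type u} [CommRing R] [CommRing T], (R →+* T) → Prop} [HasRingHomProperty P Q]
    (hQs : RingHom.StableUnderCompositionWithLocalizationAwaySource Q)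
    (hQ : ∀ {R' R B' B C' C : CommRingCat.{u}} {α : R' ⟶ B'} {β : B' ⟶ C'}
      {φ : R' ⟶ R} {ψB : B' ⟶ B} {ψC : C' ⟶ C} {αbar : R ⟶ B} {βbar : B ⟶ C},
      IsPushout α φ ψB αbar → IsPushout β ψB ψC βbar →
      Function.Surjective φ.hom → Function.Surjective ψB.hom →
      (∀ x ∈ RingHom.ker φ.hom, IsNilpotent x) →
      α.hom.FiniteType → (α ≫ β).hom.FinitePresentation → (α ≫ β).hom.Flat →
      Q βbar.hom → Q β.hom)
    (hS : MoreMor.IsThickening iS)
    (hcX : IsPullback iX (f ≫ g) (f' ≫ g') iS) (hcY : IsPullback iY g g' iS)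
    (w : iX ≫ f' = f ≫ iY) [Flat (f' ≫ g')] [LocallyOfFinitePresentation (f' ≫ g')]
    [LocallyOfFiniteType g'] (hf : P f) : P f' := by
  have : IsClosedImmersion iS := hS.1
  have : Surjective iS := hS.2
  have hpb := isPullback_left hcX hcY w
  have hiY : IsClosedImmersion iY := MorphismProperty.of_isPullback hcY.flip inferInstance
  have hiX : IsClosedImmersion iX := MorphismProperty.of_isPullback hpb.flip inferInstance
  rw [HasRingHomProperty.iff_exists_appLE (P := P) hQs]
  intro x'
  obtain ⟨W, U, V, hW, hU, hV, hxV, eV, eU⟩ := exists_affine_nhds f' g' x'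
  refine ⟨⟨U, hU⟩, ⟨V, hV⟩, hxV, eV, ?_⟩
  have hY := Groth.Agent.Lib.ThickeningBC.isPushout_appLE hcY hW hU eU
  have hXY := Groth.Agent.Lib.ThickeningBC.isPushout_appLE hpb hU hV eV
  have hcomp : g'.appLE W U eU ≫ f'.appLE U V eV =
      (f' ≫ g').appLE W V (eV.trans ((TopologicalSpace.Opens.map f'.base).map (homOfLE eU)).le) :=
    Scheme.Hom.appLE_comp_appLE f' g' W U V eU eV
  refine hQ hY hXY (iS.app_surjective _ hW) (iY.app_surjective _ hU)
    (fun x hx => Groth.Agent.Lib.ThickeningBC.isNilpotent_of_mem_ker_app hW hx) ?_ ?_ ?_ ?_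
  · exact HasRingHomProperty.appLE (P := @LocallyOfFiniteType) g' inferInstance ⟨W, hW⟩ ⟨U, hU⟩ eU
  · rw [hcomp]
    exact HasRingHomProperty.appLE (P := @LocallyOfFinitePresentation) (f' ≫ g') inferInstance
      ⟨W, hW⟩ ⟨V, hV⟩ _
  · rw [hcomp]
    exact HasRingHomProperty.appLE (P := @Flat) (f' ≫ g') inferInstance ⟨W, hW⟩ ⟨V, hV⟩ _
  · exact HasRingHomProperty.appLE (P := P) f hf ⟨_, hU.preimage iY⟩ ⟨_, hV.preimage iX⟩ _

theorem smooth_iff_of_thickening (hS : MoreMor.IsThickening iS)
    (hcX : IsPullback iX (f ≫ g) (f' ≫ g') iS) (hcY : IsPullback iY g g' iS)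
    (w : iX ≫ f' = f ≫ iY) [Flat (f' ≫ g')] [LocallyOfFinitePresentation (f' ≫ g')]
    [LocallyOfFiniteType g'] : Smooth f ↔ Smooth f' :=
  ⟨of_thickening (P := @Smooth)
      (RingHom.Smooth.stableUnderComposition.stableUnderCompositionWithLocalizationAway
        RingHom.Smooth.holdsForLocalizationAway).left
      (fun hY hXY hφ hψB hnil hα hfp hfl hβ => smooth_of_isPushout hY hXY hφ hψB hnil hα hfp hfl hβ)
      hS hcX hcY w,
    fun h => MorphismProperty.of_isPullback (isPullback_left hcX hcY w) h⟩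

theorem etale_iff_of_thickening (hS : MoreMor.IsThickening iS)
    (hcX : IsPullback iX (f ≫ g) (f' ≫ g') iS) (hcY : IsPullback iY g g' iS)
    (w : iX ≫ f' = f ≫ iY) [Flat (f' ≫ g')] [LocallyOfFinitePresentation (f' ≫ g')]
    [LocallyOfFiniteType g'] : Etale f ↔ Etale f' :=
  ⟨of_thickening (P := @Etale)
      (RingHom.Etale.stableUnderComposition.stableUnderCompositionWithLocalizationAway
        etale_holdsForLocalizationAway).left
      (fun hY hXY hφ hψB hnil hα hfp hfl hβ => etale_of_isPushout hY hXY hφ hψB hnil hα hfp hfl hβ)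
      hS hcX hcY w,
    fun h => MorphismProperty.of_isPullback (isPullback_left hcX hcY w) h⟩

end Scheme

end Groth.Agent.Lib.ThickDeformSm64
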