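import Groth.Agent.Lib.H86Deform
import Groth.Agent.S1381
import Groth.Agent.S1384
import Groth.Agent.S1385

/-!
# helper86: deformation situations of algebraic spaces over an ARBITRARY thickening `B ⊂ B'`
(`Y'` locally of finite type over `B'`, `X'` flat and locally of finite presentation over `B'`)
-/

set_option autoImplicit false
set_option linter.style.haveILetI false
universe u
open CategoryTheory CategoryTheory.Limits AlgebraicGeometry Opposite

namespace Groth.Agent.Lib.H86Deform
open AlgSp Groth.Agent.Lib.H86Thick Groth.Agent.Lib.AlgSpBasic Groth.Agent.Lib.AlgSpLocP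
  Groth.Agent.Lib.AlgSpAtPt

variable {S : Scheme.{u}}

section Deform

variable {X X' Y Y' B B' : Sp S} {iX : X ⟶ X'} {iY : Y ⟶ Y'} {iB : B ⟶ B'}
  {f : X ⟶ Y} {f' : X' ⟶ Y'} {g : Y ⟶ B} {g' : Y' ⟶ B'}

/-- The scheme-level ascent statement over an arbitrary thickening, for a property `P`. -/
def SchemeAscentThick (P : MorphismProperty Scheme.{u}) : Prop :=
  ∀ {A A' C C' D D' : Scheme.{u}} (iA : A ⟶ A') (iC : C ⟶ C') (iD : D ⟶ D') (φ : A ⟶ C)
    (φ' : A' ⟶ C') (γ : C ⟶ D) (γ' : C' ⟶ D'), MoreMor.IsThickening iD →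
    IsPullback iA (φ ≫ γ) (φ' ≫ γ') iD → IsPullback iC γ γ' iD → iA ≫ φ' = φ ≫ iC →
    Flat (φ' ≫ γ') → LocallyOfFinitePresentation (φ' ≫ γ') → LocallyOfFiniteType γ' → P φ → P φ'

set_option backward.isDefEq.respectTransparency false in
/-- **Ascent of an etale-local property in a deformation situation of algebraic spaces over an
arbitrary thickening.** -/
theorem locP_of_deform_thick {P : MorphismProperty Scheme.{u}} (hP : SevenClass P)
    (hsch : SchemeAscentThick P)
    (hX' : IsAlgSpace X') (hY' : IsAlgSpace Y') (hB' : IsAlgSpace B')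
    (hcX : IsPullback iX (f ≫ g) (f' ≫ g') iB) (hcY : IsPullback iY g g' iB)
    (w : iX ≫ f' = f ≫ iY) (hB : IsThickMor iB) (hg' : LocP @LocallyOfFiniteType g')
    (hflat : LocP @Flat (f' ≫ g')) (hfp : LocP @LocallyOfFinitePresentation (f' ≫ g'))
    (hf : LocP P f) : LocP P f' := by
  have hE := hP.etLocalClass
  have hiY : IsThickMor iY := isThickMor_mid hB hcY
  have hiX : IsThickMor iX := isThickMor_top hB hcX
  have hcXY := isPullback_top hcX hcY w
  apply locP_of_forall_hasAtMor hP hX' hY' f'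
  intro x'
  obtain ⟨U', V', W', a', b', c', h', k', u', -, ha', hb', hc', e1, e2, hu'⟩ :=
    exists_three_level_chart hX' hY' hB' f' g' x'
  obtain ⟨W, qW, c, sqW⟩ := hB.1 c'
  obtain ⟨V, qV, b, sqV⟩ := hiY.1 b'
  obtain ⟨U, qU, a, sqU⟩ := hiX.1 a'
  have ha : RepWith @Etale a := (RepWith (S := S) @Etale).of_isPullback sqU.flip ha'
  have hb : RepWith @Etale b := (RepWith (S := S) @Etale).of_isPullback sqV.flip hb'
  obtain ⟨k, -, sq2⟩ := exists_hom_of_chart_squares hcY e2 sqV sqW
  obtain ⟨h, eh, sq1⟩ := exists_hom_of_chart_squares hcXY e1 sqU sqV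
  have hthick : MoreMor.IsThickening qW.left := hB.2 c' c qW sqW
  have e3 : a' ≫ (f' ≫ g') = (yon S).map (h' ≫ k') ≫ c' := by
    rw [← Category.assoc, e1, Category.assoc, e2, Functor.map_comp, Category.assoc]
  have hfl : Flat (h'.left ≫ k'.left) := hflat a' c' (h' ≫ k') ha' hc' e3
  have hlfp : LocallyOfFinitePresentation (h'.left ≫ k'.left) := hfp a' c' (h' ≫ k') ha' hc' e3
  have hlft : LocallyOfFiniteType k'.left := hg' b' c' k' hb' hc' e2
  have hPh : P h'.left :=
    hsch qU.left qV.left qW.left h.left h'.left k.left k'.left hthick (sq1.paste_vert sq2) sq2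
      sq1.w hfl hlfp hlft (hf a b h ha hb eh)
  refine ⟨U', V', a', b', h', u', ha', hb', e1, hu', ⊤, trivial, ?_⟩
  exact hE.pre _ _ (inferInstanceAs (Etale (⊤ : Scheme.Opens _).ι)) hPh

end Deform

section Instances

theorem schemeAscentThick_flat : SchemeAscentThick @Flat.{u} := by
  intro A A' C C' D D' iA iC iD φ φ' γ γ' hD hcX hcY w hfl hfp hft hφ
  haveI := hfl
  haveI := hfp
  haveI := hft
  exact (Groth.Agent.S1381.result iA iC iD φ φ' γ γ' hD hcX hcY w).1 hφ

theorem schemeAscentThick_smooth : SchemeAscentThick @Smooth.{u} := by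
  intro A A' C C' D D' iA iC iD φ φ' γ γ' hD hcX hcY w hfl hfp hft hφ
  haveI := hfl
  haveI := hfp
  haveI := hft
  exact (Groth.Agent.S1384.result iA iC iD φ φ' γ γ' hD hcX hcY w).1 hφ

theorem schemeAscentThick_etale : SchemeAscentThick @Etale.{u} := by
  intro A A' C C' D D' iA iC iD φ φ' γ γ' hD hcX hcY w hfl hfp hft hφ
  haveI := hfl
  haveI := hfp
  haveI := hft
  exact (Groth.Agent.S1385.result iA iC iD φ φ' γ γ' hD hcX hcY w).1 hφ

end Instances

end Groth.Agent.Lib.H86Deform
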