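import Groth.Agent.Lib.H86Deform2
import Groth.Agent.Lib.FlatCrit

/-!
# helper86: deformation situations of algebraic spaces, part 3: flatness of the base at image
points, and finite order thickenings on non-affine charts
-/

set_option autoImplicit false
set_option linter.style.haveILetI false
universe u
open CategoryTheory CategoryTheory.Limits AlgebraicGeometry Opposite

namespace Groth.Agent.Lib.H86Deform
open AlgSp Groth.Agent.Lib.H86Thick Groth.Agent.Lib.AlgSpBasic Groth.Agent.Lib.AlgSpLocP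
  Groth.Agent.Lib.AlgSpAtPt

section SchemeLevel

/-- If `h` and `h ≫ k` are flat, then `k` is flat at every point in the image of `h`. -/
theorem flat_stalkMap_of_flat_comp {U V W : Scheme.{u}} (h : U ⟶ V) (k : V ⟶ W) [Flat h]
    [Flat (h ≫ k)] (p : U) : (k.stalkMap (h p)).hom.Flat := by
  have h1 : (h.stalkMap p).hom.Flat := Flat.stalkMap h p
  have h2 : ((h ≫ k).stalkMap p).hom.Flat := Flat.stalkMap (h ≫ k) p
  rw [Scheme.Hom.stalkMap_comp] at h2
  have hloc : IsLocalHom (h.stalkMap p).hom := h.toLRSHom.prop p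
  algebraize [(k.stalkMap (h p)).hom, (h.stalkMap p).hom,
    ((h.stalkMap p).hom.comp (k.stalkMap (h p)).hom)]
  have hff : Module.FaithfullyFlat (V.presheaf.stalk (h p)) (U.presheaf.stalk p) :=
    @Module.FaithfullyFlat.of_flat_of_isLocalHom _ _ _ _ _ _ _ h1 hloc
  have hfl : Module.Flat (W.presheaf.stalk (k (h p))) (U.presheaf.stalk p) := h2
  exact Groth.Agent.Lib.FlatCrit.flat_of_faithfullyFlat_of_flat (R := W.presheaf.stalk (k (h p)))
    (V.presheaf.stalk (h p)) (N := U.presheaf.stalk p)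

end SchemeLevel

section NonAffine

open Groth.Agent.Lib.ThickeningBC

variable {S : Scheme.{u}}

set_option backward.isDefEq.respectTransparency false in
/-- For an `n`-th order thickening of algebraic spaces, the pullback to ANY etale scheme chart
(not necessarily affine) has kernel ideal sheaf with vanishing `(n+1)`-st power. -/
theorem pow_ker_eq_bot_of_isNThickMor {B B' : Sp S} {iB : B ⟶ B'} {n : ℕ} (hB : IsNThickMor n iB)
    {W W₀ : Over S} (c' : (yon S).obj W ⟶ B') (hc' : RepWith @Etale c')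
    (c : (yon S).obj W₀ ⟶ B) (qW : W₀ ⟶ W) (sqW : IsPullback c ((yon S).map qW) iB c') :
    qW.left.ker ^ (n + 1) = ⊥ := by
  have hq : MoreMor.IsThickening qW.left := hB.1.2 c' c qW sqW
  haveI : IsClosedImmersion qW.left := hq.1
  ext U : 2
  rw [Scheme.IdealSheafData.ideal_pow, Pi.pow_apply, Scheme.IdealSheafData.ideal_bot,
    Pi.bot_apply, Scheme.Hom.ker_apply]
  -- the affine open `U` as a chart
  let O : Over S := Over.mk (U.1.ι ≫ W.hom)
  let ι' : O ⟶ W := Over.homMk U.1.ι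
  have hι : RepWith @Etale ((yon S).map ι') :=
    (repWith_yon_map_iff _ _).2 (inferInstanceAs (Etale U.1.ι))
  have ha' : RepWith @Etale ((yon S).map ι' ≫ c') := MorphismProperty.comp_mem _ _ _ hι hc'
  have hO : IsAffine O.left := U.2
  obtain ⟨W₁, q₁, c₁, sq₁⟩ := hB.1.1 ((yon S).map ι' ≫ c')
  have hpow : powZero n q₁.left := hB.2 ((yon S).map ι' ≫ c') c₁ q₁ hO ha' sq₁
  have hq₁ : MoreMor.IsThickening q₁.left := hB.1.2 _ c₁ q₁ sq₁
  haveI : IsClosedImmersion q₁.left := hq₁.1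
  have hcart : IsPullback iB (𝟙 B) (𝟙 B') iB := IsPullback.of_vert_isIso ⟨by simp⟩
  obtain ⟨m, -, sq⟩ := exists_hom_of_chart_squares hcart
    (show ((yon S).map ι' ≫ c') ≫ 𝟙 B' = (yon S).map ι' ≫ c' by simp) sq₁ sqW
  have e : (⊤ : O.left.Opens) ≤ ι'.left ⁻¹ᵁ U.1 := by
    intro x _
    exact x.2
  have P := isPushout_appLE sq U.2 (isAffineOpen_top O.left) e
  -- kernel of the thickening of the affine chart
  have hker : RingHom.ker (q₁.left.app ⊤).hom ^ (n + 1) = ⊥ := by
    have h1 : (q₁.left.ker ^ (n + 1)).ideal ⟨⊤, isAffineOpen_top _⟩ =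
        (q₁.left.ker.ideal ⟨⊤, isAffineOpen_top _⟩) ^ (n + 1) := rfl
    rw [hpow, Scheme.Hom.ker_apply] at h1
    exact h1.symm
  -- `α` is injective
  have hle1 : U.1.ι ''ᵁ ⊤ ≤ U.1 := by simp
  have hle2 : U.1 ≤ U.1.ι ''ᵁ ⊤ := by simp
  have hα : ι'.left.appLE U.1 ⊤ e = W.left.presheaf.map (homOfLE hle1).op :=
    Scheme.Opens.ι_appLE U.1 U.1 ⊤ e
  have hinj : Function.Injective (ι'.left.appLE U.1 ⊤ e).hom := by
    have hcomp : ι'.left.appLE U.1 ⊤ e ≫ W.left.presheaf.map (homOfLE hle2).op = 𝟙 _ := by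
      rw [hα, ← Functor.map_comp, ← op_comp]
      have : homOfLE hle2 ≫ homOfLE hle1 = 𝟙 _ := Subsingleton.elim _ _
      rw [this, op_id, CategoryTheory.Functor.map_id]
    have key : ∀ z, (W.left.presheaf.map (homOfLE hle2).op).hom
        ((ι'.left.appLE U.1 ⊤ e).hom z) = z := fun z => by
      have := congrArg (fun g => g.hom z) hcomp
      exact this
    intro x y hxy
    have := congrArg (W.left.presheaf.map (homOfLE hle2).op).hom hxy
    rw [key, key] at this
    exact this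
  rw [eq_bot_iff]
  intro x hx
  have hmap : Ideal.map (ι'.left.appLE U.1 ⊤ e).hom (RingHom.ker (qW.left.app U.1).hom) ≤
      RingHom.ker (q₁.left.app ⊤).hom := by
    rw [Ideal.map_le_iff_le_comap]
    intro y hy
    rw [Ideal.mem_comap, RingHom.mem_ker]
    have hw : (q₁.left.app ⊤).hom ((ι'.left.appLE U.1 ⊤ e).hom y) =
        (m.left.appLE _ _ (preimage_le sq e)).hom ((qW.left.app U.1).hom y) :=
      congrArg (fun g => g.hom y) P.w
    rw [hw, RingHom.mem_ker.mp hy, map_zero]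
  have h2 : (ι'.left.appLE U.1 ⊤ e).hom x ∈
      Ideal.map (ι'.left.appLE U.1 ⊤ e).hom (RingHom.ker (qW.left.app U.1).hom ^ (n + 1)) :=
    Ideal.mem_map_of_mem _ hx
  rw [Ideal.map_pow] at h2
  have h3 := Ideal.pow_right_mono hmap (n + 1) h2
  rw [hker] at h3
  have h4 : (ι'.left.appLE U.1 ⊤ e).hom x = 0 := h3
  rw [Ideal.mem_bot]
  apply hinj
  rw [h4, map_zero]

end NonAffine

section FlatAt

variable {S : Scheme.{u}} {X X' Y Y' B B' : Sp S} {iX : X ⟶ X'} {iY : Y ⟶ Y'} {iB : B ⟶ B'}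
  {f : X ⟶ Y} {f' : X' ⟶ Y'} {g : Y ⟶ B} {g' : Y' ⟶ B'}

set_option backward.isDefEq.respectTransparency false in
/-- The top arrow of ANY three-level chart of `X' ⟶ Y' ⟶ B'` has `P` (finite order version). -/
theorem chart_of_deform {P : MorphismProperty Scheme.{u}} (hsch : SchemeAscent P)
    (hcX : IsPullback iX (f ≫ g) (f' ≫ g') iB) (hcY : IsPullback iY g g' iB)
    (w : iX ≫ f' = f ≫ iY) (n : ℕ) (hB : IsNThickMor n iB) (hflat : LocP @Flat (f' ≫ g'))
    (hf : LocP P f) {U' V' W' : Over S} (a' : (yon S).obj U' ⟶ X') (b' : (yon S).obj V' ⟶ Y')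
    (c' : (yon S).obj W' ⟶ B') (h' : U' ⟶ V') (k' : V' ⟶ W') (ha' : RepWith @Etale a')
    (hb' : RepWith @Etale b') (hc' : RepWith @Etale c') (e1 : a' ≫ f' = (yon S).map h' ≫ b')
    (e2 : b' ≫ g' = (yon S).map k' ≫ c') : P h'.left := by
  have hiY : IsThickMor iY := isThickMor_mid hB.1 hcY
  have hiX : IsThickMor iX := isThickMor_top hB.1 hcX
  have hcXY := isPullback_top hcX hcY w
  obtain ⟨W, qW, c, sqW⟩ := hB.1.1 c'
  obtain ⟨V, qV, b, sqV⟩ := hiY.1 b'
  obtain ⟨U, qU, a, sqU⟩ := hiX.1 a'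
  have ha : RepWith @Etale a := (RepWith (S := S) @Etale).of_isPullback sqU.flip ha'
  have hb : RepWith @Etale b := (RepWith (S := S) @Etale).of_isPullback sqV.flip hb'
  obtain ⟨k, -, sq2⟩ := exists_hom_of_chart_squares hcY e2 sqV sqW
  obtain ⟨h, eh, sq1⟩ := exists_hom_of_chart_squares hcXY e1 sqU sqV
  have hthick : MoreMor.IsFiniteOrderThickening qW.left :=
    ⟨hB.1.2 c' c qW sqW, ⟨n + 1, pow_ker_eq_bot_of_isNThickMor hB c' hc' c qW sqW⟩⟩
  have hfl : Flat (h'.left ≫ k'.left) := by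
    have e3 : a' ≫ (f' ≫ g') = (yon S).map (h' ≫ k') ≫ c' := by
      rw [← Category.assoc, e1, Category.assoc, e2, Functor.map_comp, Category.assoc]
    exact hflat a' c' (h' ≫ k') ha' hc' e3
  exact hsch qU.left qV.left qW.left h.left h'.left k.left k'.left hthick (sq1.paste_vert sq2) sq2
    sq1.w hfl (hf a b h ha hb eh)

set_option backward.isDefEq.respectTransparency false in
/-- The top arrow of ANY three-level chart of `X' ⟶ Y' ⟶ B'` has `P` (arbitrary thickening). -/
theorem chart_of_deform_thick {P : MorphismProperty Scheme.{u}} (hsch : SchemeAscentThick P)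
    (hcX : IsPullback iX (f ≫ g) (f' ≫ g') iB) (hcY : IsPullback iY g g' iB)
    (w : iX ≫ f' = f ≫ iY) (hB : IsThickMor iB) (hg' : LocP @LocallyOfFiniteType g')
    (hflat : LocP @Flat (f' ≫ g')) (hfp : LocP @LocallyOfFinitePresentation (f' ≫ g'))
    (hf : LocP P f) {U' V' W' : Over S} (a' : (yon S).obj U' ⟶ X') (b' : (yon S).obj V' ⟶ Y')
    (c' : (yon S).obj W' ⟶ B') (h' : U' ⟶ V') (k' : V' ⟶ W') (ha' : RepWith @Etale a')
    (hb' : RepWith @Etale b') (hc' : RepWith @Etale c') (e1 : a' ≫ f' = (yon S).map h' ≫ b')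
    (e2 : b' ≫ g' = (yon S).map k' ≫ c') : P h'.left := by
  have hiY : IsThickMor iY := isThickMor_mid hB hcY
  have hiX : IsThickMor iX := isThickMor_top hB hcX
  have hcXY := isPullback_top hcX hcY w
  obtain ⟨W, qW, c, sqW⟩ := hB.1 c'
  obtain ⟨V, qV, b, sqV⟩ := hiY.1 b'
  obtain ⟨U, qU, a, sqU⟩ := hiX.1 a'
  have ha : RepWith @Etale a := (RepWith (S := S) @Etale).of_isPullback sqU.flip ha'
  have hb : RepWith @Etale b := (RepWith (S := S) @Etale).of_isPullback sqV.flip hb'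
  obtain ⟨k, -, sq2⟩ := exists_hom_of_chart_squares hcY e2 sqV sqW
  obtain ⟨h, eh, sq1⟩ := exists_hom_of_chart_squares hcXY e1 sqU sqV
  have hthick : MoreMor.IsThickening qW.left := hB.2 c' c qW sqW
  have e3 : a' ≫ (f' ≫ g') = (yon S).map (h' ≫ k') ≫ c' := by
    rw [← Category.assoc, e1, Category.assoc, e2, Functor.map_comp, Category.assoc]
  have hfl : Flat (h'.left ≫ k'.left) := hflat a' c' (h' ≫ k') ha' hc' e3
  have hlfp : LocallyOfFinitePresentation (h'.left ≫ k'.left) := hfp a' c' (h' ≫ k') ha' hc' e3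
  have hlft : LocallyOfFiniteType k'.left := hg' b' c' k' hb' hc' e2
  exact hsch qU.left qV.left qW.left h.left h'.left k.left k'.left hthick (sq1.paste_vert sq2) sq2
    sq1.w hfl hlfp hlft (hf a b h ha hb eh)

/-- In a three-level chart whose top arrow and composite are flat, the bottom arrow is flat at
image points: the general step for `IsFlatAtMor g'` at image points of `f'`. -/
theorem isFlatAtMor_image_of_charts (hX' : IsAlgSpace X')
    (hflat : LocP @Flat (f' ≫ g'))
    (hchart : ∀ {U' V' W' : Over S} (a' : (yon S).obj U' ⟶ X') (b' : (yon S).obj V' ⟶ Y')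
      (c' : (yon S).obj W' ⟶ B') (h' : U' ⟶ V') (k' : V' ⟶ W'), RepWith @Etale a' →
      RepWith @Etale b' → RepWith @Etale c' → a' ≫ f' = (yon S).map h' ≫ b' →
      b' ≫ g' = (yon S).map k' ≫ c' → Flat h'.left)
    (x' : Points X') : IsFlatAtMor g' (Points.map f' x') := by
  intro V W b c k v hb hc e2 hv
  obtain ⟨U₀, a₀, ha₀, ha₀s⟩ := hX'.atlas
  obtain ⟨u₀, hu₀⟩ := Groth.Agent.Lib.H86AlgSpPoints.ofPt_surjective ha₀s x'
  obtain ⟨U', s, h', p, -, ha', e1, -, hp, -⟩ :=
    Groth.Agent.Lib.AlgSpTrdeg91.exists_chart_over f' a₀ ha₀ b hb u₀ v (by rw [hv, hu₀])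
  subst hp
  haveI : Flat h'.left := hchart _ b c h' k ha' hb hc e1 e2
  have e3 : ((yon S).map s ≫ a₀) ≫ (f' ≫ g') = (yon S).map (h' ≫ k) ≫ c := by
    rw [← Category.assoc, e1, Category.assoc, e2, Functor.map_comp, Category.assoc]
  haveI : Flat (h'.left ≫ k.left) := hflat _ c (h' ≫ k) ha' hc e3
  exact flat_stalkMap_of_flat_comp h'.left k.left p

end FlatAt

end Groth.Agent.Lib.H86Deform
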