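import Mathlib.AlgebraicGeometry.Morphisms.FlatRank
import Mathlib.AlgebraicGeometry.Artinian
import Mathlib.RingTheory.Artinian.Ring
import Mathlib.AlgebraicGeometry.Morphisms.Flat

/-!
# Finite schemes over a field and their degree

`FinDegLE n c`: the morphism `c` is finite with `Scheme.Hom.finrank` bounded by `n`.  For `c : T ⟶ Spec K`
with `K` a field this says `T = Spec A` with `dim_K A ≤ n`.
-/

set_option autoImplicit false
set_option linter.style.haveILetI false
universe u
open CategoryTheory CategoryTheory.Limits AlgebraicGeometry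

namespace Groth.Agent.Lib.H86FinDeg

/-- the number of primes of a finite algebra over a field is at most its dimension -/
theorem card_primeSpectrum_le_finrank (K A : Type*) [Field K] [CommRing A] [Algebra K A]
    [Module.Finite K A] :
    Finite (PrimeSpectrum A) ∧ Nat.card (PrimeSpectrum A) ≤ Module.finrank K A := by
  haveI : IsArtinianRing A := IsArtinianRing.of_finite K A
  haveI : Finite (PrimeSpectrum A) := inferInstance
  refine ⟨inferInstance, ?_⟩
  haveI := Fintype.ofFinite (PrimeSpectrum A)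
  let φ : A →ₗ[K] (∀ p : PrimeSpectrum A, A ⧸ p.asIdeal) :=
    LinearMap.pi (fun p => (Ideal.Quotient.mkₐ K p.asIdeal).toLinearMap)
  have hφ : Function.Surjective φ := by
    intro x
    choose y hy using fun p => Ideal.Quotient.mk_surjective (x p)
    have hcop : Pairwise (Function.onFun IsCoprime fun p : PrimeSpectrum A => p.asIdeal) := by
      intro p q hpq
      haveI : p.asIdeal.IsMaximal := IsArtinianRing.isMaximal_of_isPrime p.asIdeal
      haveI : q.asIdeal.IsMaximal := IsArtinianRing.isMaximal_of_isPrime q.asIdeal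
      exact Ideal.isCoprime_of_isMaximal (fun h => hpq (PrimeSpectrum.ext h))
    obtain ⟨r, hr⟩ := Ideal.exists_forall_sub_mem_ideal hcop y
    refine ⟨r, funext fun p => ?_⟩
    show Ideal.Quotient.mk p.asIdeal r = x p
    rw [← hy p]
    exact Ideal.Quotient.eq.2 (hr p)
  have h1 : Module.finrank K (∀ p : PrimeSpectrum A, A ⧸ p.asIdeal) ≤ Module.finrank K A :=
    LinearMap.finrank_le_finrank_of_surjective hφ
  rw [Module.finrank_pi_fintype] at h1
  refine le_trans ?_ h1
  rw [Nat.card_eq_fintype_card]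
  calc Fintype.card (PrimeSpectrum A) = ∑ _p : PrimeSpectrum A, 1 := by simp
    _ ≤ ∑ p : PrimeSpectrum A, Module.finrank K (A ⧸ p.asIdeal) := by
        refine Finset.sum_le_sum fun p _ => ?_
        haveI : Nontrivial (A ⧸ p.asIdeal) := Ideal.Quotient.nontrivial_iff.2 p.2.ne_top
        exact Module.finrank_pos

/-- bounded degree: finite with rank function bounded by `n` -/
def FinDegLE (n : ℕ) {T B : Scheme.{u}} (c : T ⟶ B) : Prop := IsFinite c ∧ ∀ s, c.finrank s ≤ n

variable {K : Type u} [Field K]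

/-- the structure map of the `K`-algebra of global functions of a scheme over `Spec K` -/
noncomputable def gammaHom {T : Scheme.{u}} (c : T ⟶ Spec (CommRingCat.of K)) : K →+* Γ(T, ⊤) :=
  (c.appTop.hom).comp (Scheme.ΓSpecIso (CommRingCat.of K)).inv.hom

theorem eq_isoSpec_comp {T : Scheme.{u}} [IsAffine T] (c : T ⟶ Spec (CommRingCat.of K)) :
    c = T.isoSpec.hom ≫ Spec.map (CommRingCat.ofHom (gammaHom c)) := by
  have h := Scheme.isoSpec_hom_naturality c
  have h2 : c = (T.isoSpec.hom ≫ Spec.map c.appTop) ≫ (Spec (CommRingCat.of K)).isoSpec.inv := by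
    rw [h, Category.assoc, Iso.hom_inv_id, Category.comp_id]
  refine h2.trans ?_
  rw [Category.assoc, Scheme.isoSpec_Spec_inv, ← Spec.map_comp]
  rfl

instance flat_of_field {T : Scheme.{u}} (c : T ⟶ Spec (CommRingCat.of K)) : Flat c :=
  inferInstance

theorem finrank_SpecMap_field {A : CommRingCat.{u}} (φ : K →+* A)
    (hφ : φ.Finite) (s : ↥(Spec (CommRingCat.of K))) :
    (Spec.map (CommRingCat.ofHom φ)).finrank s =
      (letI := φ.toAlgebra; Module.finrank K A) := by
  have hflat : (CommRingCat.ofHom φ).hom.Flat := by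
    letI := φ.toAlgebra
    show Module.Flat K A
    infer_instance
  rw [Scheme.Hom.finrank_SpecMap_eq_finrank (f := CommRingCat.ofHom φ) hφ hflat]
  letI := φ.toAlgebra
  show Module.rankAtStalk (R := K) A s = _
  rw [Module.rankAtStalk_eq_finrank_of_free]
  rfl

theorem finDegLE_SpecMap_iff {A : CommRingCat.{u}} (φ : K →+* A) (n : ℕ) :
    FinDegLE n (Spec.map (CommRingCat.ofHom φ)) ↔
      (letI := φ.toAlgebra; Module.Finite K A ∧ Module.finrank K A ≤ n) := by
  constructor
  · rintro ⟨hfin, hle⟩
    have hφ : φ.Finite := (IsFinite.SpecMap_iff _).1 hfin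
    refine ⟨hφ, ?_⟩
    have := hle (Classical.arbitrary _)
    rwa [finrank_SpecMap_field φ hφ] at this
  · rintro ⟨hfin, hle⟩
    have hφ : φ.Finite := hfin
    refine ⟨(IsFinite.SpecMap_iff _).2 hφ, fun s => ?_⟩
    rw [finrank_SpecMap_field φ hφ]
    exact hle

theorem finDegLE_iso_comp_iff {T T' B : Scheme.{u}} (e : T ⟶ T') [IsIso e] (c : T' ⟶ B) [Flat c]
    (n : ℕ) : FinDegLE n (e ≫ c) ↔ FinDegLE n c := by
  constructor
  · rintro ⟨hfin, hle⟩
    haveI hc : IsFinite c := by
      have : c = inv e ≫ (e ≫ c) := by simp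
      rw [this]
      infer_instance
    refine ⟨hc, fun s => ?_⟩
    have := hle s
    rwa [Scheme.Hom.finrank_comp_left_of_isIso] at this
  · rintro ⟨hfin, hle⟩
    haveI := hfin
    refine ⟨inferInstance, fun s => ?_⟩
    rw [Scheme.Hom.finrank_comp_left_of_isIso]
    exact hle s

theorem finDegLE_iff {T : Scheme.{u}} (c : T ⟶ Spec (CommRingCat.of K)) (n : ℕ) :
    FinDegLE n c ↔ IsAffine T ∧
      (letI := (gammaHom c).toAlgebra; Module.Finite K Γ(T, ⊤) ∧ Module.finrank K Γ(T, ⊤) ≤ n) := by
  constructor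
  · intro h
    haveI : IsFinite c := h.1
    haveI : IsAffine T := isAffine_of_isAffineHom c
    refine ⟨inferInstance, ?_⟩
    have e := eq_isoSpec_comp c
    generalize gammaHom c = φ at e ⊢
    rw [e, finDegLE_iso_comp_iff, finDegLE_SpecMap_iff] at h
    exact h
  · rintro ⟨hT, h⟩
    haveI := hT
    have e := eq_isoSpec_comp c
    generalize gammaHom c = φ at e h
    rw [e, finDegLE_iso_comp_iff, finDegLE_SpecMap_iff]
    exact h

/-- a scheme finite over a field is a finite discrete space -/
theorem finite_discrete_of_finDegLE {T : Scheme.{u}} (c : T ⟶ Spec (CommRingCat.of K)) {n : ℕ}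
    (h : FinDegLE n c) : Finite ↥T ∧ DiscreteTopology ↥T := by
  obtain ⟨hT, hfin, -⟩ := (finDegLE_iff c n).1 h
  letI := (gammaHom c).toAlgebra
  haveI := hT
  haveI := hfin
  haveI : IsArtinianRing Γ(T, ⊤) := IsArtinianRing.of_finite K Γ(T, ⊤)
  haveI : Finite ↥(Spec Γ(T, ⊤)) := inferInstanceAs (Finite (PrimeSpectrum Γ(T, ⊤)))
  haveI : DiscreteTopology ↥(Spec Γ(T, ⊤)) :=
    inferInstanceAs (DiscreteTopology (PrimeSpectrum Γ(T, ⊤)))
  exact ⟨Finite.of_equiv _ T.isoSpec.hom.homeomorph.symm.toEquiv,
    T.isoSpec.hom.homeomorph.symm.discreteTopology⟩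

theorem gammaHom_comp {T T' : Scheme.{u}} (p : T ⟶ T') (c' : T' ⟶ Spec (CommRingCat.of K)) :
    gammaHom (p ≫ c') = (p.appTop.hom).comp (gammaHom c') := by
  unfold gammaHom
  rw [Scheme.Hom.comp_appTop]
  rfl

/-- bounded degree descends along a flat surjective morphism of the source -/
theorem finDegLE_of_flat_surjective_comp {T T' : Scheme.{u}} (p : T ⟶ T') [Flat p] [Surjective p]
    (c' : T' ⟶ Spec (CommRingCat.of K)) {n : ℕ} (h : FinDegLE n (p ≫ c')) : FinDegLE n c' := by
  obtain ⟨hTf, hTd⟩ := finite_discrete_of_finDegLE _ h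
  obtain ⟨hT, hfin, hle⟩ := (finDegLE_iff _ n).1 h
  haveI := hTf
  haveI := hTd
  haveI := hT
  haveI : QuasiCompact p := ⟨fun U _ _ => (Set.toFinite _).isCompact⟩
  have hq := Flat.isQuotientMap_of_surjective p
  haveI : DiscreteTopology ↥T' := by
    rw [discreteTopology_iff_forall_isOpen]
    intro s
    rw [← hq.isOpen_preimage]
    exact isOpen_discrete _
  haveI : Finite ↥T' := Finite.of_surjective _ p.surjective
  haveI : IsAffine T' := inferInstance
  have hinj : Function.Injective p.appTop.hom :=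
    ((Flat.flat_and_surjective_iff_faithfullyFlat_of_isAffine p).1 ⟨inferInstance, inferInstance⟩).injective
  rw [finDegLE_iff]
  refine ⟨inferInstance, ?_⟩
  rw [gammaHom_comp] at hfin hle
  generalize gammaHom c' = ψ at hfin hle ⊢
  letI := ψ.toAlgebra
  letI := ((p.appTop.hom).comp ψ).toAlgebra
  let l : Γ(T', ⊤) →ₗ[K] Γ(T, ⊤) :=
    { toFun := p.appTop.hom
      map_add' := map_add _
      map_smul' := by
        intro k x
        simp only [Algebra.smul_def, map_mul, RingHom.id_apply]
        rfl }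
  have hl : Function.Injective l := hinj
  haveI : Module.Finite K Γ(T, ⊤) := hfin
  exact ⟨Module.Finite.of_injective l hl, (LinearMap.finrank_le_finrank_of_injective hl).trans hle⟩

end Groth.Agent.Lib.H86FinDeg
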