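import Groth.Agent.Lib.H86FinDeg
import Groth.Agent.Lib.FpqcDescent

/-!
# Finite schemes over a field: field extension, empty schemes
-/

set_option autoImplicit false
set_option linter.style.haveILetI false
universe u
open CategoryTheory CategoryTheory.Limits AlgebraicGeometry

namespace Groth.Agent.Lib.H86FinDeg

variable {K Ω : Type u} [Field K] [Field Ω]

instance : Subsingleton ↥(Spec (CommRingCat.of K)) :=
  inferInstanceAs (Subsingleton (PrimeSpectrum K))

instance : Nonempty ↥(Spec (CommRingCat.of K)) :=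
  inferInstanceAs (Nonempty (PrimeSpectrum K))

/-- bounded degree descends along an extension of the base field -/
theorem finDegLE_of_isPullback_field {T T' : Scheme.{u}}
    {pr : T' ⟶ T} {c' : T' ⟶ Spec (CommRingCat.of Ω)} {c : T ⟶ Spec (CommRingCat.of K)}
    {β : Spec (CommRingCat.of Ω) ⟶ Spec (CommRingCat.of K)}
    (sq : IsPullback pr c' c β) {n : ℕ} (h : FinDegLE n c') : FinDegLE n c := by
  have hsurj : Surjective β := ⟨fun s => ⟨Classical.arbitrary _, Subsingleton.elim _ _⟩⟩
  have hQ : (@Surjective ⊓ @Flat ⊓ @QuasiCompact : MorphismProperty Scheme.{u}) β :=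
    ⟨⟨hsurj, inferInstance⟩, inferInstance⟩
  haveI hfin : IsFinite c :=
    MorphismProperty.of_isPullback_of_descendsAlong (P := @IsFinite)
      (Q := (@Surjective ⊓ @Flat ⊓ @QuasiCompact : MorphismProperty Scheme.{u})) sq.flip hQ h.1
  refine ⟨hfin, fun s => ?_⟩
  let y : ↥(Spec (CommRingCat.of Ω)) := Classical.arbitrary _
  have h1 := Scheme.Hom.finrank_of_isPullback pr c' c β sq y
  rw [Subsingleton.elim s (β y), ← h1]
  exact h.2 y

/-- an empty scheme has degree zero over a field -/
theorem finDegLE_of_isEmpty {T : Scheme.{u}} [IsEmpty ↥T] (c : T ⟶ Spec (CommRingCat.of K)) (n : ℕ) :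
    FinDegLE n c := by
  rw [finDegLE_iff]
  refine ⟨inferInstance, ?_⟩
  letI := (gammaHom c).toAlgebra
  haveI : Subsingleton Γ(T, ⊤) := inferInstance
  refine ⟨inferInstance, ?_⟩
  rw [Module.finrank_zero_of_subsingleton]
  exact Nat.zero_le _

end Groth.Agent.Lib.H86FinDeg
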