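import Groth.Agent.Lib.H86FinDeg2
import Groth.Agent.Lib.H86ArtinRank
import Mathlib.AlgebraicGeometry.Fiber

/-!
# Finite schemes over a field: composition

If `T₁` is finite of degree `≤ n` over a field `K` and `r : T ⟶ T₁` has all fibres over field valued points of
`T₁` finite of degree `≤ m`, then `T` is finite over `K` of degree `≤ m * n`.
-/

set_option autoImplicit false
set_option linter.style.haveILetI false
universe u
open CategoryTheory CategoryTheory.Limits AlgebraicGeometry TensorProduct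

namespace Groth.Agent.Lib.H86FinDeg

variable {K : Type u} [Field K]

/-- the source of a morphism to a finite discrete scheme with finite discrete fibres is finite discrete -/
theorem finite_discrete_of_fibres {T T₁ : Scheme.{u}} (r : T ⟶ T₁) [Finite ↥T₁] [DiscreteTopology ↥T₁]
    (h : ∀ t₁ : ↥T₁, Finite ↥(r.fiber t₁) ∧ DiscreteTopology ↥(r.fiber t₁)) :
    Finite ↥T ∧ DiscreteTopology ↥T := by
  have hfib : ∀ t₁ : ↥T₁, Finite ↥(r ⁻¹' {t₁}) ∧ DiscreteTopology ↥(r ⁻¹' {t₁}) := by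
    intro t₁
    obtain ⟨h1, h2⟩ := h t₁
    haveI := h1
    haveI := h2
    exact ⟨Finite.of_equiv _ (r.fiberHomeo t₁).toEquiv, (r.fiberHomeo t₁).discreteTopology⟩
  constructor
  · rw [← Set.finite_univ_iff, ← Set.preimage_univ (f := r)]
    exact Set.Finite.preimage' Set.finite_univ (fun b _ => Set.finite_coe_iff.1 (hfib b).1)
  · rw [discreteTopology_iff_isOpen_singleton]
    intro t
    have hopen : IsOpen (r ⁻¹' {r t}) := (isOpen_discrete _).preimage r.continuous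
    haveI := (hfib (r t)).2
    have h1 : IsOpen ({⟨t, rfl⟩} : Set ↥(r ⁻¹' {r t})) := isOpen_discrete _
    have h2 := hopen.isOpenEmbedding_subtypeVal.isOpenMap _ h1
    simpa using h2

/-- composition: bounded degree over a field is stable under composition with a morphism whose fibres over field
valued points have bounded degree -/
theorem finDegLE_comp {T T₁ : Scheme.{u}} (r : T ⟶ T₁) (c₁ : T₁ ⟶ Spec (CommRingCat.of K)) {n m : ℕ}
    (h₁ : FinDegLE n c₁)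
    (hr : ∀ (L : Type u) [Field L] (z : Spec (CommRingCat.of L) ⟶ T₁) (P : Scheme.{u}) (a : P ⟶ T)
        (b : P ⟶ Spec (CommRingCat.of L)), IsPullback a b r z → FinDegLE m b) :
    FinDegLE (m * n) (r ≫ c₁) := by
  obtain ⟨hT₁f, hT₁d⟩ := finite_discrete_of_finDegLE _ h₁
  obtain ⟨hT₁, hfin₁, hle₁⟩ := (finDegLE_iff _ n).1 h₁
  haveI := hT₁f
  haveI := hT₁d
  haveI := hT₁
  obtain ⟨hTf, hTd⟩ := finite_discrete_of_fibres r (fun t₁ => by
    have := hr (T₁.residueField t₁) (T₁.fromSpecResidueField t₁) (r.fiber t₁) (pullback.fst _ _)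
      (pullback.snd _ _) (IsPullback.of_hasPullback _ _)
    exact finite_discrete_of_finDegLE _ this)
  haveI := hTf
  haveI := hTd
  haveI : IsAffine T := inferInstance
  rw [finDegLE_iff]
  refine ⟨inferInstance, ?_⟩
  letI algKA : Algebra K Γ(T₁, ⊤) := (gammaHom c₁).toAlgebra
  letI algAC : Algebra Γ(T₁, ⊤) Γ(T, ⊤) := r.appTop.hom.toAlgebra
  letI algKC : Algebra K Γ(T, ⊤) := (gammaHom (r ≫ c₁)).toAlgebra
  haveI : IsScalarTower K Γ(T₁, ⊤) Γ(T, ⊤) := IsScalarTower.of_algebraMap_eq' (gammaHom_comp r c₁)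
  haveI : Module.Finite K Γ(T₁, ⊤) := hfin₁
  have key := H86ArtinRank.finite_and_finrank_le (K := K) (A := Γ(T₁, ⊤)) (C := Γ(T, ⊤)) m ?_
  · exact ⟨key.1, key.2.trans (Nat.mul_le_mul_left m hle₁)⟩
  · intro p hp
    letI := Ideal.Quotient.field p
    have base := isPullback_SpecMap_of_isPushout _ _ _ _
      (CommRingCat.isPushout_tensorProduct Γ(T₁, ⊤) (Γ(T₁, ⊤) ⧸ p) Γ(T, ⊤))
    have pb : IsPullback
        (Spec.map (CommRingCat.ofHom (S := (Γ(T₁, ⊤) ⧸ p) ⊗[Γ(T₁, ⊤)] Γ(T, ⊤))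
          (Algebra.TensorProduct.includeRight (R := Γ(T₁, ⊤)) (A := Γ(T₁, ⊤) ⧸ p)
            (B := Γ(T, ⊤))).toRingHom) ≫ T.isoSpec.inv)
        (Spec.map (CommRingCat.ofHom (S := (Γ(T₁, ⊤) ⧸ p) ⊗[Γ(T₁, ⊤)] Γ(T, ⊤))
          (Algebra.TensorProduct.includeLeftRingHom :
            Γ(T₁, ⊤) ⧸ p →+* (Γ(T₁, ⊤) ⧸ p) ⊗[Γ(T₁, ⊤)] Γ(T, ⊤))))
        r
        (Spec.map (CommRingCat.ofHom (algebraMap Γ(T₁, ⊤) (Γ(T₁, ⊤) ⧸ p))) ≫ T₁.isoSpec.inv) := by
      refine base.flip.of_iso (Iso.refl _) T.isoSpec.symm (Iso.refl _) T₁.isoSpec.symm ?_ ?_ ?_ ?_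
      · simp
      · simp
      · exact Scheme.isoSpec_inv_naturality r
      · simp
    have h5 := hr (Γ(T₁, ⊤) ⧸ p) _ _ _ _ pb
    exact (finDegLE_SpecMap_iff (K := Γ(T₁, ⊤) ⧸ p)
      (A := CommRingCat.of ((Γ(T₁, ⊤) ⧸ p) ⊗[Γ(T₁, ⊤)] Γ(T, ⊤)))
      (Algebra.TensorProduct.includeLeftRingHom :
        Γ(T₁, ⊤) ⧸ p →+* (Γ(T₁, ⊤) ⧸ p) ⊗[Γ(T₁, ⊤)] Γ(T, ⊤)) m).1 h5

end Groth.Agent.Lib.H86FinDeg
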