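import Groth.Agent.Lib.H86FinDeg3

/-!
# Morphisms of schemes with uniformly bounded fibres over field valued points
-/

set_option autoImplicit false
set_option linter.style.haveILetI false
universe u
open CategoryTheory CategoryTheory.Limits AlgebraicGeometry TensorProduct

namespace Groth.Agent.Lib.H86FinDeg

/-- all fibres of `g` over field valued points are finite of degree at most `m` -/
def BddFib (m : ℕ) {W U : Scheme.{u}} (g : W ⟶ U) : Prop :=
  ∀ (L : Type u) [Field L] (z : Spec (CommRingCat.of L) ⟶ U) (P : Scheme.{u}) (a : P ⟶ W)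
    (b : P ⟶ Spec (CommRingCat.of L)), IsPullback a b g z → FinDegLE m b

theorem isPullback_of_comp_mono' {C : Type*} [Category C] {P X Y Z Z' : C} {fst : P ⟶ X}
    {snd : P ⟶ Y} {f : X ⟶ Z} {g : Y ⟶ Z} (i : Z ⟶ Z') [Mono i]
    (h : IsPullback fst snd (f ≫ i) (g ≫ i)) : IsPullback fst snd f g :=
  ⟨⟨(cancel_mono i).1 (by simpa using h.w)⟩,
    ⟨PullbackCone.IsLimit.mk _
      (fun s => h.lift s.fst s.snd (by rw [← Category.assoc, s.condition, Category.assoc]))
      (fun s => h.lift_fst _ _ _) (fun s => h.lift_snd _ _ _)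
      (fun s m h1 h2 => h.hom_ext (by simpa using h1) (by simpa using h2))⟩⟩

/-- precomposition with an isomorphism -/
theorem BddFib.iso_comp {m : ℕ} {W' W U : Scheme.{u}} (ε : W' ⟶ W) [IsIso ε] {g : W ⟶ U}
    (h : BddFib m g) : BddFib m (ε ≫ g) := by
  intro L _ z P a b hpb
  refine h L z P (a ≫ ε) b ?_
  have := hpb.of_iso (Iso.refl _) (asIso ε) (Iso.refl _) (Iso.refl _)
    (fst' := a ≫ ε) (snd' := b) (f' := g) (g' := z) (by simp) (by simp) (by simp) (by simp)
  exact this

/-- postcomposition with an open immersion -/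
theorem BddFib.comp_openImmersion {m : ℕ} {D U' U : Scheme.{u}} {h : D ⟶ U'} (hh : BddFib m h)
    (i : U' ⟶ U) [IsOpenImmersion i] : BddFib m (h ≫ i) := by
  intro L _ z P a b hpb
  by_cases hP : IsEmpty ↥P
  · exact finDegLE_of_isEmpty b m
  rw [not_isEmpty_iff] at hP
  obtain ⟨x⟩ := hP
  have hx : z (b x) = i (h (a x)) := by
    have := congrArg (fun φ => φ x) (congrArg (fun φ : P ⟶ U => (φ : ↥P → ↥U)) hpb.w)
    simpa using this.symm
  have hrange : Set.range z ⊆ Set.range i := by
    rintro _ ⟨y, rfl⟩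
    rw [Subsingleton.elim y (b x), hx]
    exact ⟨_, rfl⟩
  have hz : IsOpenImmersion.lift i z hrange ≫ i = z := IsOpenImmersion.lift_fac _ _ _
  rw [← hz] at hpb
  exact hh L _ P a b (isPullback_of_comp_mono' i hpb)

/-- fibres of `Spec R ⟶ Spec A` are spectra of tensor products -/
theorem bddFib_SpecMap {A R : CommRingCat.{u}} (φ : A ⟶ R) (e : ℕ)
    (h : ∀ (L : Type u) [Field L] (ψ : A →+* L),
      letI := ψ.toAlgebra
      letI := φ.hom.toAlgebra
      Module.Finite L (L ⊗[A] R) ∧ Module.finrank L (L ⊗[A] R) ≤ e) :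
    BddFib e (Spec.map φ) := by
  intro L _ z P a b hpb
  obtain ⟨ψ', rfl⟩ := Spec.map_surjective z
  letI algL : Algebra A L := ψ'.hom.toAlgebra
  letI algR : Algebra A R := φ.hom.toAlgebra
  have base := isPullback_SpecMap_of_isPushout _ _ _ _ (CommRingCat.isPushout_tensorProduct A L R)
  have base' : IsPullback
      (Spec.map (CommRingCat.ofHom (S := L ⊗[A] R)
        (Algebra.TensorProduct.includeRight (R := A) (A := L) (B := R)).toRingHom))
      (Spec.map (CommRingCat.ofHom (S := L ⊗[A] R)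
        (Algebra.TensorProduct.includeLeftRingHom : L →+* L ⊗[A] R)))
      (Spec.map φ) (Spec.map ψ') := base.flip
  have hb : b = (hpb.isoIsPullback _ _ base').hom ≫ Spec.map (CommRingCat.ofHom (S := L ⊗[A] R)
        (Algebra.TensorProduct.includeLeftRingHom : L →+* L ⊗[A] R)) :=
    (IsPullback.isoIsPullback_hom_snd _ _ hpb base').symm
  rw [hb, finDegLE_iso_comp_iff]
  refine (finDegLE_SpecMap_iff (K := L) (A := CommRingCat.of (L ⊗[A] R))
    (Algebra.TensorProduct.includeLeftRingHom : L →+* L ⊗[A] R) e).2 ?_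
  have heq : ((Algebra.TensorProduct.includeLeftRingHom : L →+* L ⊗[A] R).toAlgebra :
      Algebra L (L ⊗[A] R)) = Algebra.TensorProduct.leftAlgebra := by
    apply Algebra.algebra_ext
    intro r
    rfl
  rw [heq]
  exact h L ψ'.hom

/-- a scheme over a field covered by finitely many open subschemes of bounded degree has bounded degree -/
theorem finDegLE_of_openCover {K : Type u} [Field K] {T : Scheme.{u}} (c : T ⟶ Spec (CommRingCat.of K))
    {ι : Type*} [Fintype ι] (N : ι → T.Opens) (hN : ∀ t : ↥T, ∃ j, t ∈ N j) (n : ι → ℕ)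
    (h : ∀ j, FinDegLE (n j) ((N j).ι ≫ c)) : FinDegLE (∑ j, n j) c := by
  have hfd : ∀ j, Finite ↥(N j : Scheme.{u}) ∧ DiscreteTopology ↥(N j : Scheme.{u}) :=
    fun j => finite_discrete_of_finDegLE _ (h j)
  haveI : Finite ↥T := by
    rw [← Set.finite_univ_iff]
    have : (Set.univ : Set ↥T) = ⋃ j, (N j : Set ↥T) := by
      ext t
      simp only [Set.mem_univ, Set.mem_iUnion, true_iff]
      exact hN t
    rw [this]
    refine Set.finite_iUnion fun j => ?_
    haveI : Finite ↥(N j : Set ↥T) := (hfd j).1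
    exact Set.toFinite _
  haveI : DiscreteTopology ↥T := by
    rw [discreteTopology_iff_isOpen_singleton]
    intro t
    obtain ⟨j, hj⟩ := hN t
    haveI : DiscreteTopology ↥(N j : Set ↥T) := (hfd j).2
    have h1 : IsOpen ({⟨t, hj⟩} : Set ↥(N j : Set ↥T)) := isOpen_discrete _
    have h2 := (N j).isOpen.isOpenEmbedding_subtypeVal.isOpenMap _ h1
    have e : (Subtype.val '' ({⟨t, hj⟩} : Set ↥(N j : Set ↥T))) = {t} := Set.image_singleton
    exact e ▸ h2
  haveI : IsAffine T := inferInstance
  rw [finDegLE_iff]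
  refine ⟨inferInstance, ?_⟩
  letI algT : Algebra K Γ(T, ⊤) := (gammaHom c).toAlgebra
  letI algN : ∀ j, Algebra K Γ((N j : Scheme.{u}), ⊤) := fun j => (gammaHom ((N j).ι ≫ c)).toAlgebra
  have hfin : ∀ j, Module.Finite K Γ((N j : Scheme.{u}), ⊤) ∧
      Module.finrank K Γ((N j : Scheme.{u}), ⊤) ≤ n j := fun j => ((finDegLE_iff _ _).1 (h j)).2
  haveI : ∀ j, Module.Finite K Γ((N j : Scheme.{u}), ⊤) := fun j => (hfin j).1
  let l : Γ(T, ⊤) →ₗ[K] (∀ j, Γ((N j : Scheme.{u}), ⊤)) :=
    LinearMap.pi fun j =>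
      { toFun := (N j).ι.appTop.hom
        map_add' := map_add _
        map_smul' := by
          intro k x
          simp only [Algebra.smul_def, map_mul, RingHom.id_apply]
          congr 1 }
  have hl : Function.Injective l := by
    rw [injective_iff_map_eq_zero]
    intro s hs
    have hs' : ∀ j, (N j).ι.appTop.hom s = 0 := fun j => congrFun hs j
    refine T.sheaf.eq_of_locally_eq' (fun j => (N j).ι ''ᵁ ⊤) ⊤ (fun j => homOfLE le_top) ?_ s 0 ?_
    · intro t _
      obtain ⟨j, hj⟩ := hN t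
      refine TopologicalSpace.Opens.mem_iSup.2 ⟨j, ?_⟩
      rw [Scheme.Opens.ι_image_top]
      exact hj
    · intro j
      have := hs' j
      rw [Scheme.Opens.ι_appTop] at this
      rw [map_zero]
      exact this
  refine ⟨Module.Finite.of_injective l hl, ?_⟩
  refine (LinearMap.finrank_le_finrank_of_injective hl).trans ?_
  rw [Module.finrank_pi_fintype]
  exact Finset.sum_le_sum fun j _ => (hfin j).2

end Groth.Agent.Lib.H86FinDeg
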