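import Groth.Agent.Lib.H90AlgSpInf
import Groth.Agent.Lib.SqZeroSpec
import Groth.Agent.Lib.H86Deform3
import Groth.Agent.S1489
import Groth.Agent.S1516
import Groth.Agent.Lib.H69DescentAffine
import Groth.Agent.Lib.IdealSheafComap

/-!
# helper86: formal unramifiedness / etaleness of morphisms of algebraic spaces (lifting sense)
versus charts
-/

set_option autoImplicit false
set_option linter.style.haveILetI false
universe u
open CategoryTheory CategoryTheory.Limits AlgebraicGeometry Opposite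

namespace Groth.Agent.Lib.H86Formal
open AlgSp Groth.Agent.Lib.AlgSpBasic Groth.Agent.Lib.AlgSpLocP

variable {S : Scheme.{u}}

section SchemeLevel

/-- Variant of Mathlib's `FormallyUnramified.of_hom_ext` with quotient maps only. -/
theorem formallyUnramified_of_hom_ext_quot {X Y : Scheme.{u}} (f : X ⟶ Y)
    (H : ∀ (A : Type u) [CommRing A] (I : Ideal A), I ^ 2 = ⊥ →
      ∀ g₁ g₂ : Spec (CommRingCat.of A) ⟶ X,
        Spec.map (CommRingCat.ofHom (Ideal.Quotient.mk I)) ≫ g₁ =
          Spec.map (CommRingCat.ofHom (Ideal.Quotient.mk I)) ≫ g₂ →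
        g₁ ≫ f = g₂ ≫ f → g₁ = g₂) : FormallyUnramified f := by
  refine FormallyUnramified.of_hom_ext f fun R S' φ hsurj hker g₁ g₂ e1 e2 => ?_
  refine H R (RingHom.ker φ.hom) hker g₁ g₂ ?_ e2
  let e : (R ⧸ RingHom.ker φ.hom) ≃+* S' := RingHom.quotientKerEquivOfSurjective hsurj
  have hφ : φ = CommRingCat.ofHom (Ideal.Quotient.mk (RingHom.ker φ.hom)) ≫
      CommRingCat.ofHom e.toRingHom := by
    ext x
    simp [e]
  have hiso : IsIso (Spec.map (CommRingCat.ofHom e.toRingHom)) := by
    have : IsIso (CommRingCat.ofHom e.toRingHom) := (e.toCommRingCatIso).isIso_hom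
    infer_instance
  rw [hφ, Spec.map_comp, Category.assoc, Category.assoc] at e1
  exact (cancel_epi _).1 e1

end SchemeLevel

section YonMap

variable {U V : Over S} (h : U ⟶ V)

/-- For a morphism of schemes over `S`, formal unramifiedness of `h_h` in the lifting sense is
Mathlib's `FormallyUnramified`. -/
theorem isFormallyUnramifiedMor_yon_map_iff :
    IsFormallyUnramifiedMor ((yon S).map h) ↔ FormallyUnramified h.left := by
  constructor
  · intro hh
    apply formallyUnramified_of_hom_ext_quot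
    intro A _ I hI g₁ g₂ e1 e2
    have hg₂ : g₂ ≫ U.hom = g₁ ≫ U.hom := by
      rw [← Over.w h, ← Category.assoc, ← e2, Category.assoc]
    let T' : Over S := Over.mk (g₁ ≫ U.hom)
    let T : Over S := Over.mk (Spec.map (CommRingCat.ofHom (Ideal.Quotient.mk I)) ≫ g₁ ≫ U.hom)
    let jj : T ⟶ T' := Over.homMk (Spec.map (CommRingCat.ofHom (Ideal.Quotient.mk I))) rfl
    let G₁ : T' ⟶ U := Over.homMk g₁ rfl
    let G₂ : T' ⟶ U := Over.homMk g₂ hg₂
    let sq : InfSq ((yon S).map h) :=
      { A := A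
        I := I
        sq_zero := hI
        str := g₁ ≫ U.hom
        top := (yon S).map (jj ≫ G₁)
        bot := (yon S).map (G₁ ≫ h)
        comm := by
          rw [← Functor.map_comp, ← Functor.map_comp, Category.assoc] }
    have hG : jj ≫ G₂ = jj ≫ G₁ := by
      apply Over.OverMorphism.ext
      exact e1.symm
    have hG' : G₂ ≫ h = G₁ ≫ h := by
      apply Over.OverMorphism.ext
      exact e2.symm
    have := hh sq ((yon S).map G₁) ((yon S).map G₂) (by rw [← Functor.map_comp])
      (by rw [← Functor.map_comp])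
      (by rw [← Functor.map_comp]; change (yon S).map (jj ≫ G₂) = (yon S).map (jj ≫ G₁); rw [hG])
      (by rw [← Functor.map_comp, hG'])
    have h3 : G₁ = G₂ := (yon S).map_injective this
    exact congrArg (fun φ => φ.left) h3
  · intro hh sq l l' h1 h2 h1' h2'
    haveI := hh
    obtain ⟨g₁, rfl⟩ := (yon S).map_surjective l
    obtain ⟨g₂, rfl⟩ := (yon S).map_surjective l'
    have e1 : sq.j ≫ g₁ = sq.j ≫ g₂ := by
      apply (yon S).map_injective
      rw [Functor.map_comp, Functor.map_comp, h1, h1']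
    have e2 : g₁ ≫ h = g₂ ≫ h := by
      apply (yon S).map_injective
      rw [Functor.map_comp, Functor.map_comp, h2, h2']
    have key : g₁.left = g₂.left :=
      FormallyUnramified.hom_ext (Groth.Agent.S1489.thick sq.I)
        (Groth.Agent.S1487.isNilpotent_ker_thick sq.I sq.sq_zero) h.left
        (congrArg (fun φ => φ.left) e1) (congrArg (fun φ => φ.left) e2)
    have : g₁ = g₂ := Over.OverMorphism.ext key
    rw [this]

end YonMap

section RepEtale

set_option backward.isDefEq.respectTransparency false in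
/-- A representable etale morphism of sheaves is formally etale in the lifting sense. -/
theorem isFormallyEtaleMor_of_repWith_etale {F G : Sp S} (a : F ⟶ G) (ha : RepWith @Etale a) :
    IsFormallyEtaleMor a := by
  intro sq
  obtain ⟨P, snd, fst, hsq⟩ := ha.1 sq.bot
  have het : Etale snd.left := ha.2 sq.bot fst snd hsq
  let s₀' : (yon S).obj sq.ptT ⟶ (yon S).obj P := hsq.lift sq.top ((yon S).map sq.j) sq.comm
  obtain ⟨s₀, hs₀⟩ := (yon S).map_surjective s₀'
  have hs₀1 : (yon S).map s₀ ≫ fst = sq.top := by rw [hs₀]; exact hsq.lift_fst _ _ _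
  have hs₀2 : s₀ ≫ snd = sq.j := by
    apply (yon S).map_injective
    rw [Functor.map_comp, hs₀]
    exact hsq.lift_snd _ _ _
  have hfe : MoreMor.IsFormallyEtaleHom snd.left := ((Groth.Agent.S1489.result snd.left).1 het).2
  have comm0 : Spec.map (CommRingCat.ofHom (Ideal.Quotient.mk sq.I)) ≫ 𝟙 _ = s₀.left ≫ snd.left := by
    rw [Category.comp_id]
    exact (congrArg (fun φ => φ.left) hs₀2).symm
  obtain ⟨l, ⟨hl1, hl2⟩, hl3⟩ := hfe sq.A sq.I sq.sq_zero s₀.left (𝟙 _) comm0
  have hlP : l ≫ P.hom = sq.ptT'.hom := by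
    rw [← Over.w snd, ← Category.assoc, hl2, Category.id_comp]
  let L : sq.ptT' ⟶ P := Over.homMk l hlP
  have hL1 : sq.j ≫ L = s₀ := Over.OverMorphism.ext hl1
  have hL2 : L ≫ snd = 𝟙 _ := Over.OverMorphism.ext hl2
  refine ⟨(yon S).map L ≫ fst, ⟨?_, ?_⟩, ?_⟩
  · rw [← Category.assoc, ← Functor.map_comp, hL1, hs₀1]
  · rw [Category.assoc, hsq.w, ← Category.assoc, ← Functor.map_comp, hL2,
      CategoryTheory.Functor.map_id, Category.id_comp]
  · rintro m ⟨hm1, hm2⟩
    let m' : (yon S).obj sq.ptT' ⟶ (yon S).obj P :=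
      hsq.lift m (𝟙 _) (by rw [hm2, Category.id_comp])
    obtain ⟨L', hL'⟩ := (yon S).map_surjective m'
    have hm'1 : (yon S).map L' ≫ fst = m := by rw [hL']; exact hsq.lift_fst _ _ _
    have hm'2 : L' ≫ snd = 𝟙 _ := by
      apply (yon S).map_injective
      rw [Functor.map_comp, hL', CategoryTheory.Functor.map_id]
      exact hsq.lift_snd _ _ _
    have hjL' : sq.j ≫ L' = s₀ := by
      apply (yon S).map_injective
      rw [Functor.map_comp, hs₀]
      apply hsq.hom_ext
      · rw [Category.assoc, hm'1, hm1]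
        exact (hsq.lift_fst _ _ _).symm
      · rw [Category.assoc, ← Functor.map_comp, hm'2, CategoryTheory.Functor.map_id,
          Category.comp_id]
        exact (hsq.lift_snd _ _ _).symm
    have hl' : L'.left = l :=
      hl3 L'.left ⟨congrArg (fun φ => φ.left) hjL', congrArg (fun φ => φ.left) hm'2⟩
    have : L' = L := Over.OverMorphism.ext hl'
    rw [← hm'1, this]

theorem isFormallyUnramifiedMor_of_repWith_etale {F G : Sp S} (a : F ⟶ G)
    (ha : RepWith @Etale a) : IsFormallyUnramifiedMor a :=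
  ((Groth.Agent.Lib.H90AlgSpInf.isFormallyEtaleMor_iff a).1
    (isFormallyEtaleMor_of_repWith_etale a ha)).2

end RepEtale

section Charts

open Groth.Agent.Lib.H90AlgSpInf

/-- Formally unramified in the lifting sense implies formally unramified on all charts. -/
theorem locP_formallyUnramified_of_isFormallyUnramifiedMor {X Y : Sp S} (f : X ⟶ Y)
    (hf : IsFormallyUnramifiedMor f) : LocP @FormallyUnramified f := by
  intro U V a b h ha hb e
  have h1 : IsFormallyUnramifiedMor (a ≫ f) :=
    unramified_comp a f (isFormallyUnramifiedMor_of_repWith_etale a ha) hf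
  rw [e] at h1
  have h2 : IsFormallyUnramifiedMor ((yon S).map h) := unramified_of_comp ((yon S).map h) b h1
  exact (isFormallyUnramifiedMor_yon_map_iff h).1 h2

end Charts

section FOThick

/-- Base change of a first order thickening of schemes. -/
theorem isFirstOrderThickening_of_isPullback {W₀ W P₀ P : Scheme.{u}} {i : W₀ ⟶ W} {i₀ : P₀ ⟶ P}
    {s : P₀ ⟶ W₀} {p : P ⟶ W} (sq : IsPullback i₀ s p i) (hi : MoreMor.IsFirstOrderThickening i) :
    MoreMor.IsFirstOrderThickening i₀ := by
  haveI : IsClosedImmersion i := hi.1.1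
  haveI : Surjective i := hi.1.2
  refine ⟨⟨MorphismProperty.of_isPullback sq.flip inferInstance,
    MorphismProperty.of_isPullback sq.flip inferInstance⟩, ?_⟩
  have e : i₀ = sq.isoPullback.hom ≫ pullback.fst p i := by simp
  have h2 : i.ker ^ 2 = ⊥ := by rw [pow_two]; exact hi.2
  rw [← pow_two, e, Scheme.Hom.ker_comp_of_isIso, Scheme.IdealSheafData.ker_fst_of_isClosedImmersion,
    ← Groth.Agent.Lib.IdealSheafComap.comap_pow, h2]
  exact Scheme.IdealSheafData.comap_bot p

theorem isNilpotent_ker_of_isFirstOrderThickening {W₀ W : Scheme.{u}} {i : W₀ ⟶ W}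
    (hi : MoreMor.IsFirstOrderThickening i) : IsNilpotent i.ker :=
  ⟨2, by rw [pow_two]; exact hi.2⟩

end FOThick

section Uniqueness

open Groth.Agent.Lib.H69DescentAffine

set_option backward.isDefEq.respectTransparency false in
/-- **Uniqueness of lifts along a first order thickening of schemes**, for a morphism of sheaves
with one chart diagram (with surjective source chart) whose top arrow is formally unramified. -/
theorem lift_unique_of_chart {X Y : Sp S} (f : X ⟶ Y) {U₁ V₀ : Over S}
    (a₁ : (yon S).obj U₁ ⟶ X) (b : (yon S).obj V₀ ⟶ Y) (h : U₁ ⟶ V₀)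
    (ha : RepWith @Etale a₁) (has : RepWith @Surjective a₁) (hb : RepWith @Etale b)
    (e : a₁ ≫ f = (yon S).map h ≫ b) (hh : FormallyUnramified h.left)
    {W₀ W : Over S} (i : W₀ ⟶ W) (hi : MoreMor.IsFirstOrderThickening i.left)
    (l₁ l₂ : (yon S).obj W ⟶ X) (h1 : (yon S).map i ≫ l₁ = (yon S).map i ≫ l₂)
    (h2 : l₁ ≫ f = l₂ ≫ f) : l₁ = l₂ := by
  -- step 1: pull back the chart along `l₁`
  obtain ⟨P, p, u₁, sqP⟩ := ha.1 l₁
  obtain ⟨υ₁, rfl⟩ := (yon S).map_surjective u₁
  haveI hpe : Etale p.left := ha.2 l₁ _ p sqP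
  haveI hps : Surjective p.left := has.2 l₁ _ p sqP
  -- step 2: the thickening of `P`
  have sq₀ := IsPullback.of_hasPullback p i
  have sq₀' : IsPullback (pullback.fst p i).left (pullback.snd p i).left p.left i.left :=
    sq₀.map (Over.forget S)
  have hi₀ : MoreMor.IsFirstOrderThickening (pullback.fst p i).left :=
    isFirstOrderThickening_of_isPullback sq₀' hi
  haveI : IsClosedImmersion (pullback.fst p i).left := hi₀.1.1
  have hnil := isNilpotent_ker_of_isFirstOrderThickening hi₀
  -- step 3: lift `l₂ ∘ p` through the chart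
  obtain ⟨E, ε, uE, sqE⟩ := ha.1 ((yon S).map p ≫ l₂)
  obtain ⟨υE, rfl⟩ := (yon S).map_surjective uE
  haveI hεe : Etale ε.left := ha.2 _ _ ε sqE
  have c0 : (yon S).map (pullback.fst p i ≫ υ₁) ≫ a₁ =
      (yon S).map (pullback.fst p i) ≫ (yon S).map p ≫ l₂ := by
    rw [Functor.map_comp, Category.assoc, sqP.w, ← Category.assoc, ← Functor.map_comp,
      pullback.condition, Functor.map_comp, Category.assoc, h1, ← Category.assoc,
      ← Functor.map_comp, ← pullback.condition, Functor.map_comp, Category.assoc]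
  let σ₀' := sqE.lift ((yon S).map (pullback.fst p i ≫ υ₁)) ((yon S).map (pullback.fst p i)) c0
  obtain ⟨σ₀, hσ₀⟩ := (yon S).map_surjective σ₀'
  have hσ₀1 : σ₀ ≫ υE = pullback.fst p i ≫ υ₁ := by
    apply (yon S).map_injective
    rw [Functor.map_comp, hσ₀]
    exact sqE.lift_fst _ _ _
  have hσ₀2 : σ₀ ≫ ε = pullback.fst p i := by
    apply (yon S).map_injective
    rw [Functor.map_comp, hσ₀]
    exact sqE.lift_snd _ _ _
  have hfe : MoreMor.IsFormallyEtaleHom ε.left := ((Groth.Agent.S1489.result ε.left).1 hεe).2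
  obtain ⟨σ, ⟨hσ1, hσ2⟩, -⟩ := Groth.Agent.S1516.result ε.left hfe (pullback.fst p i).left hi₀
    σ₀.left (𝟙 _) (by rw [Category.comp_id]; exact (congrArg (fun φ => φ.left) hσ₀2).symm)
  have hσP : σ ≫ E.hom = P.hom := by
    rw [← Over.w ε, ← Category.assoc, hσ2, Category.id_comp]
  let sgm : P ⟶ E := Over.homMk σ hσP
  have hsg1 : pullback.fst p i ≫ sgm = σ₀ := Over.OverMorphism.ext hσ1
  have hsg2 : sgm ≫ ε = 𝟙 _ := Over.OverMorphism.ext hσ2
  let υ₂ : P ⟶ U₁ := sgm ≫ υE
  have hυ₂a : (yon S).map υ₂ ≫ a₁ = (yon S).map p ≫ l₂ := by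
    rw [Functor.map_comp, Category.assoc, sqE.w, ← Category.assoc, ← Functor.map_comp, hsg2,
      CategoryTheory.Functor.map_id, Category.id_comp]
  have hυ₂i : pullback.fst p i ≫ υ₂ = pullback.fst p i ≫ υ₁ := by
    rw [← Category.assoc, hsg1, hσ₀1]
  -- step 4: `h ∘ υ₁ = h ∘ υ₂`
  have hh12 : υ₁ ≫ h = υ₂ ≫ h := by
    obtain ⟨E', ε', β', sqE'⟩ := hb.1 ((yon S).map p ≫ l₁ ≫ f)
    obtain ⟨βE, rfl⟩ := (yon S).map_surjective β'
    haveI hε'e : Etale ε'.left := hb.2 _ _ ε' sqE'
    have c1 : (yon S).map (υ₁ ≫ h) ≫ b = 𝟙 _ ≫ (yon S).map p ≫ l₁ ≫ f := by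
      rw [Functor.map_comp, Category.assoc, ← e, ← Category.assoc, sqP.w, Category.assoc,
        Category.id_comp]
    have c2 : (yon S).map (υ₂ ≫ h) ≫ b = 𝟙 _ ≫ (yon S).map p ≫ l₁ ≫ f := by
      rw [Functor.map_comp, Category.assoc, ← e, ← Category.assoc, hυ₂a, Category.assoc,
        Category.id_comp, h2]
    obtain ⟨t₁, ht₁⟩ := (yon S).map_surjective (sqE'.lift _ _ c1)
    obtain ⟨t₂, ht₂⟩ := (yon S).map_surjective (sqE'.lift _ _ c2)
    have ht₁1 : t₁ ≫ βE = υ₁ ≫ h := by
      apply (yon S).map_injective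
      rw [Functor.map_comp, ht₁]
      exact sqE'.lift_fst _ _ _
    have ht₁2 : t₁ ≫ ε' = 𝟙 _ := by
      apply (yon S).map_injective
      rw [Functor.map_comp, ht₁, CategoryTheory.Functor.map_id]
      exact sqE'.lift_snd _ _ _
    have ht₂1 : t₂ ≫ βE = υ₂ ≫ h := by
      apply (yon S).map_injective
      rw [Functor.map_comp, ht₂]
      exact sqE'.lift_fst _ _ _
    have ht₂2 : t₂ ≫ ε' = 𝟙 _ := by
      apply (yon S).map_injective
      rw [Functor.map_comp, ht₂, CategoryTheory.Functor.map_id]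
      exact sqE'.lift_snd _ _ _
    have hit : pullback.fst p i ≫ t₁ = pullback.fst p i ≫ t₂ := by
      apply (yon S).map_injective
      apply sqE'.hom_ext
      · rw [← Functor.map_comp, ← Functor.map_comp, Category.assoc, Category.assoc, ht₁1, ht₂1,
          ← Category.assoc, ← Category.assoc, hυ₂i]
      · rw [← Functor.map_comp, ← Functor.map_comp, Category.assoc, Category.assoc, ht₁2, ht₂2]
    have key : t₁.left = t₂.left :=
      FormallyUnramified.hom_ext (pullback.fst p i).left hnil ε'.left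
        (congrArg (fun φ => φ.left) hit)
        (by
          have := ht₁2.trans ht₂2.symm
          exact congrArg (fun φ => φ.left) this)
    have : t₁ = t₂ := Over.OverMorphism.ext key
    rw [← ht₁1, ← ht₂1, this]
  -- step 5
  haveI := hh
  have key : υ₁.left = υ₂.left :=
    FormallyUnramified.hom_ext (pullback.fst p i).left hnil h.left
      (congrArg (fun φ => φ.left) hυ₂i.symm) (congrArg (fun φ => φ.left) hh12)
  have hυ : υ₁ = υ₂ := Over.OverMorphism.ext key
  -- step 6
  haveI : Flat p.left := inferInstance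
  haveI : LocallyOfFinitePresentation p.left := inferInstance
  apply hom_ext_of_fppf p
  rw [← sqP.w, ← hυ₂a, hυ]

/-- `Spec (A ⧸ I) ⟶ Spec A` with `I² = 0` is a first order thickening. -/
theorem isFirstOrderThickening_thick {A : Type u} [CommRing A] (I : Ideal A) (hI : I ^ 2 = ⊥) :
    MoreMor.IsFirstOrderThickening (Spec.map (CommRingCat.ofHom (Ideal.Quotient.mk I))) := by
  refine ⟨⟨Groth.Agent.S1489.isClosedImmersion_thick I, Groth.Agent.S1489.surjective_thick I hI⟩, ?_⟩
  have := Groth.Agent.S1487.ker_sq_of_isPullback I hI (𝟙 _) (Groth.Agent.S1489.thick I) (𝟙 _)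
    (IsPullback.of_vert_isIso ⟨by simp⟩)
  rw [← pow_two]
  exact this

/-- One chart diagram with surjective source chart and formally unramified top arrow suffices
for formal unramifiedness in the lifting sense. -/
theorem isFormallyUnramifiedMor_of_chart {X Y : Sp S} (f : X ⟶ Y) {U₁ V₀ : Over S}
    (a₁ : (yon S).obj U₁ ⟶ X) (b : (yon S).obj V₀ ⟶ Y) (h : U₁ ⟶ V₀)
    (ha : RepWith @Etale a₁) (has : RepWith @Surjective a₁) (hb : RepWith @Etale b)
    (e : a₁ ≫ f = (yon S).map h ≫ b) (hh : FormallyUnramified h.left) :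
    IsFormallyUnramifiedMor f := by
  intro sq l l' h1 h2 h1' h2'
  exact lift_unique_of_chart f a₁ b h ha has hb e hh sq.j
    (isFirstOrderThickening_thick sq.I sq.sq_zero) l l' (h1.trans h1'.symm) (h2.trans h2'.symm)

set_option backward.isDefEq.respectTransparency false in
/-- A chart diagram with both charts surjective. -/
theorem exists_surjective_chart {X Y : Sp S} (hX : IsAlgSpace X) (hY : IsAlgSpace Y) (f : X ⟶ Y) :
    ∃ (U V : Over S) (a : (yon S).obj U ⟶ X) (b : (yon S).obj V ⟶ Y) (h : U ⟶ V),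
      RepWith @Etale a ∧ RepWith @Surjective a ∧ RepWith @Etale b ∧ RepWith @Surjective b ∧
      a ≫ f = (yon S).map h ≫ b := by
  obtain ⟨U₀, a₀, ha₀e, ha₀s⟩ := hX.atlas
  obtain ⟨V, b, hbe, hbs⟩ := hY.atlas
  have sq := hbe.rep.isPullback' (a₀ ≫ f)
  have hae : RepWith @Etale ((yon S).map (hbe.rep.snd (a₀ ≫ f)) ≫ a₀) :=
    MorphismProperty.comp_mem _ _ _ ((repWith_yon_map_iff _ _).2 (hbe.property_snd _)) ha₀e
  have has : RepWith @Surjective ((yon S).map (hbe.rep.snd (a₀ ≫ f)) ≫ a₀) :=
    MorphismProperty.comp_mem _ _ _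
      ((repWith_yon_map_iff _ _).2 (hbs.property _ _ _ (hbe.rep.isPullback (a₀ ≫ f)))) ha₀s
  have comm : ((yon S).map (hbe.rep.snd (a₀ ≫ f)) ≫ a₀) ≫ f =
      (yon S).map (hbe.rep.fst' (a₀ ≫ f)) ≫ b := by
    rw [Category.assoc]; exact sq.w.symm
  exact ⟨_, V, _, b, _, hae, has, hbe, hbs, comm⟩

end Uniqueness

end Groth.Agent.Lib.H86Formal
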