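import Groth.Agent.Lib.H86Formal7
import Groth.Agent.S9732

/-!
# helper86: the structure morphism of a universal first order thickening is formally unramified (algebraic spaces)
-/

set_option autoImplicit false
set_option linter.style.haveILetI false
universe u
open CategoryTheory CategoryTheory.Limits AlgebraicGeometry Opposite

namespace Groth.Agent.Lib.H86Formal8
open AlgSp Groth.Agent.Lib.AlgSpBasic Groth.Agent.Lib.AlgSpLocP Groth.Agent.Lib.H86Formal
open Groth.Agent.Lib.H86Formal2 Groth.Agent.Lib.H86Formal3 Groth.Agent.Lib.H86Formal4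

variable {S : Scheme.{u}}

set_option backward.isDefEq.respectTransparency false in
/-- A chart of a universal first order thickening of algebraic spaces is a universal first order thickening of
schemes. -/
theorem isUnivThickening_chart {Z Z' X : Sp S} (h : Z ⟶ X) (i : Z ⟶ Z') (h' : Z' ⟶ X)
    (HU : IsUnivFOThick h i h') {V' U V : Over S} (a₁ : (yon S).obj V' ⟶ Z')
    (b : (yon S).obj U ⟶ X) (ψ' : V' ⟶ U) (ha : RepWith @Etale a₁) (hb : RepWith @Etale b)
    (e : a₁ ≫ h' = (yon S).map ψ' ≫ b) (s : V ⟶ V') (a₀ : (yon S).obj V ⟶ Z)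
    (sq : IsPullback a₀ ((yon S).map s) i a₁) :
    OmegaSh.IsUnivThickening (s ≫ ψ').left s.left ψ'.left := by
  have hsFO : MoreMor.IsFirstOrderThickening s.left := by
    refine ⟨HU.1.1.2 a₁ a₀ s sq, ?_⟩
    have := Groth.Agent.Lib.H86Deform.pow_ker_eq_bot_of_isNThickMor
      ((isNThickMor_one_iff i).2 HU.1) a₁ ha a₀ s sq
    rw [← pow_two]
    exact this
  have hae : IsFormallyEtaleMor a₁ := isFormallyEtaleMor_of_repWith_etale a₁ ha
  have hbu : IsFormallyUnramifiedMor b := isFormallyUnramifiedMor_of_repWith_etale b hb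
  refine ⟨hsFO, rfl, ?_⟩
  intro T T' j bT aT hj hcomm
  have haT : aT ≫ V.hom = j ≫ bT ≫ U.hom := by
    rw [← Over.w (s ≫ ψ'), ← Category.assoc, ← hcomm, Category.assoc]
  let TO' : Over S := Over.mk (bT ≫ U.hom)
  let TO : Over S := Over.mk (j ≫ bT ≫ U.hom)
  let jO : TO ⟶ TO' := Over.homMk j rfl
  let bO : TO' ⟶ U := Over.homMk bT rfl
  let aO : TO ⟶ V := Over.homMk aT haT
  have hcommO : jO ≫ bO = aO ≫ s ≫ ψ' := Over.OverMorphism.ext hcomm
  have hjFO : IsFOThickMor ((yon S).map jO) := isFOThickMor_yon_map jO hj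
  -- the universal property of `Z'`
  have c1 : (yon S).map jO ≫ (yon S).map bO ≫ b = ((yon S).map aO ≫ a₀) ≫ h := by
    rw [← Category.assoc, ← Functor.map_comp, hcommO, Functor.map_comp, Functor.map_comp,
      Category.assoc, Category.assoc, ← e, ← HU.2.1, ← Category.assoc ((yon S).map s),
      ← sq.w]
    simp only [Category.assoc]
  obtain ⟨z', ⟨hz1, hz2⟩, hzu⟩ := HU.2.2 (IsAlgSpace.yon_obj TO) (IsAlgSpace.yon_obj TO')
    ((yon S).map jO) ((yon S).map aO ≫ a₀) ((yon S).map bO ≫ b) hjFO c1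
  -- lift through the etale chart `a₁`
  have c2 : (yon S).map (aO ≫ s) ≫ a₁ = (yon S).map jO ≫ z' := by
    rw [hz1, Functor.map_comp, Category.assoc, ← sq.w, Category.assoc]
  obtain ⟨v', ⟨hv1, hv2⟩, hvu⟩ := existsUnique_lift_of_isFormallyEtaleMor a₁ hae
    (IsAlgSpace.yon_obj TO') ((yon S).map jO) hjFO ((yon S).map (aO ≫ s)) z' c2
  obtain ⟨vO, rfl⟩ := (yon S).map_surjective v'
  have hvO1 : jO ≫ vO = aO ≫ s := by
    apply (yon S).map_injective
    rw [Functor.map_comp]
    exact hv1
  have hvO2 : vO ≫ ψ' = bO := by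
    apply (yon S).map_injective
    refine lift_unique_scheme b hbu jO hj _ _ ?_ ?_
    · rw [← Functor.map_comp, ← Functor.map_comp, ← Category.assoc, hvO1, Category.assoc, hcommO]
    · rw [Functor.map_comp, Category.assoc, ← e, ← Category.assoc, hv2, hz2]
  refine ⟨vO.left, ⟨congrArg (fun φ => φ.left) hvO1, congrArg (fun φ => φ.left) hvO2⟩, ?_⟩
  rintro a'' ⟨h1, h2⟩
  have ha'' : a'' ≫ V'.hom = TO'.hom := by
    rw [← Over.w ψ', ← Category.assoc, h2]
    rfl
  let a''O : TO' ⟶ V' := Over.homMk a'' ha''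
  have h1O : jO ≫ a''O = aO ≫ s := Over.OverMorphism.ext h1
  have h2O : a''O ≫ ψ' = bO := Over.OverMorphism.ext h2
  have hz'' : (yon S).map a''O ≫ a₁ = z' := by
    refine hzu _ ⟨?_, ?_⟩
    · rw [← Category.assoc, ← Functor.map_comp, h1O, Functor.map_comp, Category.assoc, ← sq.w,
        Category.assoc]
    · rw [Category.assoc, e, ← Category.assoc, ← Functor.map_comp, h2O]
  have := hvu ((yon S).map a''O) ⟨by rw [← Functor.map_comp, h1O], hz''⟩
  have e' : a''O = vO := (yon S).map_injective this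
  exact congrArg (fun φ => φ.left) e'

set_option backward.isDefEq.respectTransparency false in
/-- The structure morphism of a universal first order thickening of a formally unramified morphism of algebraic
spaces is formally unramified (S10636 at the level of sheaves). -/
theorem isFormallyUnramifiedMor_of_isUnivFOThick {Z Z' X : Sp S} (hZ' : IsAlgSpace Z')
    (hX : IsAlgSpace X) (h : Z ⟶ X) (hh : IsFormallyUnramifiedMor h) (i : Z ⟶ Z') (h' : Z' ⟶ X)
    (HU : IsUnivFOThick h i h') : IsFormallyUnramifiedMor h' := by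
  obtain ⟨V', U, a₁, b, ψ', ha, has, hb, -, e⟩ := exists_surjective_chart hZ' hX h'
  obtain ⟨V, s, a₀, sq⟩ := HU.1.1.1 a₁
  have hu := isUnivThickening_chart h i h' HU a₁ b ψ' ha hb e s a₀ sq
  have ha₀ : RepWith @Etale a₀ := repWith_fst_of_isPullback _ sq ha
  have hloc := locP_formallyUnramified_of_isFormallyUnramifiedMor h hh
  have e₀ : a₀ ≫ h = (yon S).map (s ≫ ψ') ≫ b := by
    rw [← HU.2.1, ← Category.assoc, sq.w, Category.assoc, e, Functor.map_comp, Category.assoc]
  haveI : FormallyUnramified (s ≫ ψ').left := hloc a₀ b (s ≫ ψ') ha₀ hb e₀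
  have hψ : FormallyUnramified ψ'.left := Groth.Agent.S9732.result (s ≫ ψ').left s.left ψ'.left hu
  exact isFormallyUnramifiedMor_of_chart h' a₁ b ψ' ha has hb e hψ

end Groth.Agent.Lib.H86Formal8
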