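import Groth.Agent.Lib.H86Formal9
import Groth.Agent.Lib.H86Formal8
import Groth.Agent.Lib.H69AlgSpColim
import Groth.Agent.Lib.H69DenseFactor
import Groth.Agent.Lib.SheafEpi

/-!
# helper86: general lemmas towards the existence of universal first order thickenings of algebraic spaces
-/

set_option autoImplicit false
set_option linter.style.haveILetI false
universe u
open CategoryTheory CategoryTheory.Limits AlgebraicGeometry Opposite

namespace Groth.Agent.Lib.H86Formal10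
open AlgSp Groth.Agent.Lib.AlgSpBasic Groth.Agent.Lib.AlgSpLocP Groth.Agent.Lib.H86Formal
open Groth.Agent.Lib.H86Formal2 Groth.Agent.Lib.H86Formal3 Groth.Agent.Lib.H86Formal4
open Groth.Agent.Lib.H86Formal5 Groth.Agent.Lib.H90AlgSpInf

variable {S : Scheme.{u}}

set_option backward.isDefEq.respectTransparency false in
/-- A universal first order thickening of schemes over `S` is a universal first order thickening of sheaves. -/
theorem isUnivFOThick_yon_of_isUnivThickening {U U' W : Over S} (g : U ⟶ W) (i : U ⟶ U')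
    (g' : U' ⟶ W) (H : OmegaSh.IsUnivThickening g.left i.left g'.left) :
    IsUnivFOThick ((yon S).map g) ((yon S).map i) ((yon S).map g') := by
  have hw : i ≫ g' = g := Over.OverMorphism.ext H.2.1
  refine isUnivFOThick_of_affine_test _ _ _ (isFOThickMor_yon_map i H.1)
    (by rw [← Functor.map_comp, hw]) ?_
  intro T T' j hT' hjFO a b comm
  obtain ⟨aO, rfl⟩ := (yon S).map_surjective a
  obtain ⟨bO, rfl⟩ := (yon S).map_surjective b
  have commO : j ≫ bO = aO ≫ g := by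
    apply (yon S).map_injective
    rw [Functor.map_comp, Functor.map_comp]
    exact comm
  have hj : MoreMor.IsFirstOrderThickening j.left :=
    isFirstOrderThickening_of_isFOThickMor_yon_map hT' hjFO
  obtain ⟨a', ⟨ha1, ha2⟩, hau⟩ := H.2.2 T.left T'.left j.left bO.left aO.left hj
    (congrArg (fun φ => φ.left) commO)
  have ha' : a' ≫ U'.hom = T'.hom := by
    rw [← Over.w g', ← Category.assoc, ha2, Over.w bO]
  refine ⟨(yon S).map (Over.homMk a' ha' : T' ⟶ U'), ⟨?_, ?_⟩, ?_⟩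
  · rw [← Functor.map_comp, ← Functor.map_comp]
    congr 1
    exact Over.OverMorphism.ext ha1
  · rw [← Functor.map_comp]
    congr 1
    exact Over.OverMorphism.ext ha2
  · rintro y ⟨hy1, hy2⟩
    obtain ⟨yO, rfl⟩ := (yon S).map_surjective y
    congr 1
    apply Over.OverMorphism.ext
    refine hau yO.left ⟨?_, ?_⟩
    · have : j ≫ yO = aO ≫ i := by
        apply (yon S).map_injective
        rw [Functor.map_comp, Functor.map_comp]
        exact hy1
      exact congrArg (fun φ => φ.left) this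
    · have : yO ≫ g' = bO := by
        apply (yon S).map_injective
        rw [Functor.map_comp]
        exact hy2
      exact congrArg (fun φ => φ.left) this

/-- Two universal first order thickenings of the same morphism are canonically isomorphic. -/
theorem exists_iso_of_isUnivFOThick {T T₁ T₂ X : Sp S} (hT : IsAlgSpace T) (hT₁ : IsAlgSpace T₁)
    (hT₂ : IsAlgSpace T₂) (ρ : T ⟶ X) (i₁ : T ⟶ T₁) (ρ₁ : T₁ ⟶ X) (i₂ : T ⟶ T₂) (ρ₂ : T₂ ⟶ X)
    (H₁ : IsUnivFOThick ρ i₁ ρ₁) (H₂ : IsUnivFOThick ρ i₂ ρ₂) :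
    ∃ (θ : T₁ ⟶ T₂) (θ' : T₂ ⟶ T₁), θ ≫ θ' = 𝟙 _ ∧ θ' ≫ θ = 𝟙 _ ∧ i₁ ≫ θ = i₂ ∧ θ ≫ ρ₂ = ρ₁ := by
  obtain ⟨θ, ⟨hθ1, hθ2⟩, -⟩ := H₂.2.2 hT hT₁ i₁ (𝟙 _) ρ₁ H₁.1 (by rw [H₁.2.1, Category.id_comp])
  obtain ⟨θ', ⟨hθ'1, hθ'2⟩, -⟩ := H₁.2.2 hT hT₂ i₂ (𝟙 _) ρ₂ H₂.1 (by rw [H₂.2.1, Category.id_comp])
  rw [Category.id_comp] at hθ1 hθ'1
  refine ⟨θ, θ', ?_, ?_, hθ1, hθ2⟩
  · obtain ⟨x, -, hx⟩ := H₁.2.2 hT hT₁ i₁ (𝟙 _) ρ₁ H₁.1 (by rw [H₁.2.1, Category.id_comp])
    rw [hx (θ ≫ θ') ⟨by rw [← Category.assoc, hθ1, hθ'1, Category.id_comp],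
      by rw [Category.assoc, hθ'2, hθ2]⟩,
      hx (𝟙 _) ⟨by rw [Category.comp_id, Category.id_comp], by rw [Category.id_comp]⟩]
  · obtain ⟨x, -, hx⟩ := H₂.2.2 hT hT₂ i₂ (𝟙 _) ρ₂ H₂.1 (by rw [H₂.2.1, Category.id_comp])
    rw [hx (θ' ≫ θ) ⟨by rw [← Category.assoc, hθ'1, hθ1, Category.id_comp],
      by rw [Category.assoc, hθ2, hθ'2]⟩,
      hx (𝟙 _) ⟨by rw [Category.comp_id, Category.id_comp], by rw [Category.id_comp]⟩]

/-- Descending a morphism along an epimorphism of sheaves with given kernel pair. -/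
theorem exists_desc_of_kernelPair {A Z Y K : Sp S} (g : A ⟶ Z) [Epi g] (k₁ k₂ : K ⟶ A)
    (sq : IsPullback k₁ k₂ g g) (f : A ⟶ Y) (hf : k₁ ≫ f = k₂ ≫ f) : ∃ k : Z ⟶ Y, g ≫ k = f := by
  refine Groth.Agent.Lib.H69DenseFactor.exists_desc_of_epi g f ?_
  have e1 : pullback.fst g g = sq.isoPullback.inv ≫ k₁ := by
    rw [Iso.eq_inv_comp]; exact sq.isoPullback_hom_fst
  have e2 : pullback.snd g g = sq.isoPullback.inv ≫ k₂ := by
    rw [Iso.eq_inv_comp]; exact sq.isoPullback_hom_snd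
  rw [e1, e2, Category.assoc, Category.assoc, hf]

/-- **Cartesian morphisms of equivalence relations induce cartesian squares on quotients.**  `u : A ⟶ Z` and
`p : A' ⟶ Z'` are epimorphisms with kernel pairs `(K; t, s)` and `(K'; t', s')`, `I : A ⟶ A'` is a
monomorphism and `J : K ⟶ K'` is such that both squares `(J, s; s', I)` and `(J, t; t', I)` are
cartesian.  Then for the induced `iZ : Z ⟶ Z'` the square `(u, I; iZ, p)` is cartesian. -/
theorem isPullback_of_cartesian_relation {A A' Z Z' K K' : Sp S} (u : A ⟶ Z) (p : A' ⟶ Z')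
    [Epi u] (I : A ⟶ A') [Mono I] (iZ : Z ⟶ Z') (w : u ≫ iZ = I ≫ p)
    (t s : K ⟶ A) (t' s' : K' ⟶ A') (J : K ⟶ K')
    (sqK : IsPullback t s u u) (sqK' : IsPullback t' s' p p)
    (sqS : IsPullback J s s' I) (sqT : IsPullback J t t' I) :
    IsPullback u I iZ p := by
  have sqQ := IsPullback.of_hasPullback iZ p
  let c : A ⟶ pullback iZ p := pullback.lift u I w
  have hc1 : c ≫ pullback.fst iZ p = u := pullback.lift_fst _ _ _
  have hc2 : c ≫ pullback.snd iZ p = I := pullback.lift_snd _ _ _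
  haveI : Mono c := mono_of_mono_fac hc2
  -- `c` is an epimorphism
  let Q₁ := pullback (pullback.fst iZ p) u
  have sqQ₁ := IsPullback.of_hasPullback (pullback.fst iZ p) u
  let π₁ : Q₁ ⟶ pullback iZ p := pullback.fst _ _
  let π₂ : Q₁ ⟶ A := pullback.snd _ _
  haveI : Epi π₁ := Groth.Agent.Lib.SheafEpi.epi_of_isPullback _ sqQ₁
  have hr : (π₂ ≫ I) ≫ p = (π₁ ≫ pullback.snd iZ p) ≫ p := by
    rw [Category.assoc, ← w, ← Category.assoc, ← sqQ₁.w, Category.assoc, Category.assoc, sqQ.w]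
  let r : Q₁ ⟶ K' := sqK'.lift (π₂ ≫ I) (π₁ ≫ pullback.snd iZ p) hr
  have hr1 : r ≫ t' = π₂ ≫ I := sqK'.lift_fst _ _ _
  have hr2 : r ≫ s' = π₁ ≫ pullback.snd iZ p := sqK'.lift_snd _ _ _
  let m : Q₁ ⟶ K := sqT.lift r π₂ hr1
  have hm1 : m ≫ J = r := sqT.lift_fst _ _ _
  have hm2 : m ≫ t = π₂ := sqT.lift_snd _ _ _
  have hπ : m ≫ s ≫ c = π₁ := by
    apply pullback.hom_ext
    · rw [Category.assoc, Category.assoc, hc1, ← sqK.w, ← Category.assoc, hm2]
      exact sqQ₁.w.symm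
    · rw [Category.assoc, Category.assoc, hc2, ← sqS.w, ← Category.assoc, hm1, hr2]
  haveI : Epi ((m ≫ s) ≫ c) := by rw [Category.assoc, hπ]; infer_instance
  haveI : Epi c := epi_of_epi (m ≫ s) c
  haveI : IsIso c := isIso_of_mono_of_epi c
  exact IsPullback.of_iso_pullback ⟨w⟩ (asIso c) hc1 hc2

end Groth.Agent.Lib.H86Formal10
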