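import Groth.Agent.Lib.H86Formal10

/-!
# helper86: the etale equivalence relation `R' ⇉ U'` on the universal first order thickening of a chart
-/

set_option autoImplicit false
set_option linter.style.haveILetI false
universe u
open CategoryTheory CategoryTheory.Limits AlgebraicGeometry Opposite

namespace Groth.Agent.Lib.H86Formal11
open AlgSp Groth.Agent.Lib.AlgSpBasic Groth.Agent.Lib.AlgSpLocP Groth.Agent.Lib.H86Formal
open Groth.Agent.Lib.H86Formal2 Groth.Agent.Lib.H86Formal3 Groth.Agent.Lib.H86Formal4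
open Groth.Agent.Lib.H86Formal5 Groth.Agent.Lib.H90AlgSpInf

variable {S : Scheme.{u}}

/-- The pullback of a first order thickening `U ⊂ U'` along a `T`-point of `U'`. -/
theorem exists_thick_pullback {U U' : Over S} (iO : U ⟶ U')
    (hiO : MoreMor.IsFirstOrderThickening iO.left) {T : Over S} (a : T ⟶ U') :
    ∃ (T₀ : Over S) (k : T₀ ⟶ T) (a₀ : T₀ ⟶ U), MoreMor.IsFirstOrderThickening k.left ∧
      IsPullback ((yon S).map k) ((yon S).map a₀) ((yon S).map a) ((yon S).map iO) := by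
  have sq := IsPullback.of_hasPullback a iO
  refine ⟨pullback a iO, pullback.fst a iO, pullback.snd a iO, ?_, sq.map (yon S)⟩
  exact isFirstOrderThickening_of_isPullback (sq.map (Over.forget S)) hiO

theorem mono_yon_map {U U' : Over S} (iO : U ⟶ U') (h : IsClosedImmersion iO.left) :
    Mono ((yon S).map iO) := by
  haveI := h
  haveI : Mono iO.left := inferInstance
  haveI : Mono iO := Over.mono_of_mono_left iO
  infer_instance

section Rel

variable {Z X : Sp S} {U U' R R' : Over S}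
  (h : Z ⟶ X) (u : (yon S).obj U ⟶ Z) (ρU' : (yon S).obj U' ⟶ X)
  (iO : U ⟶ U') (s t : R ⟶ U) (s' t' : R' ⟶ U') (j : R ⟶ R')
  (hiO : MoreMor.IsFirstOrderThickening iO.left)
  (HU : IsUnivFOThick (u ≫ h) ((yon S).map iO) ρU')
  (sqR : IsPullback ((yon S).map t) ((yon S).map s) u u)
  (sqS : IsPullback ((yon S).map j) ((yon S).map s) ((yon S).map s') ((yon S).map iO))
  (sqT : IsPullback ((yon S).map j) ((yon S).map t) ((yon S).map t') ((yon S).map iO))
  (hρ : (yon S).map s' ≫ ρU' = (yon S).map t' ≫ ρU')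
  (HR : IsUnivFOThick ((yon S).map s ≫ u ≫ h) ((yon S).map j) ((yon S).map s' ≫ ρU'))
  (hs' : IsFormallyEtaleMor ((yon S).map s'))

include hiO sqR sqS sqT hs' in
theorem rel_injective {T : Over S} (r r' : (yon S).obj T ⟶ (yon S).obj R')
    (h1 : r ≫ (yon S).map t' = r' ≫ (yon S).map t')
    (h2 : r ≫ (yon S).map s' = r' ≫ (yon S).map s') : r = r' := by
  obtain ⟨aO, haO⟩ := (yon S).map_surjective (r ≫ (yon S).map s')
  obtain ⟨T₀, k, a₀, hk, sq⟩ := exists_thick_pullback iO hiO aO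
  rw [haO] at sq
  have c1 : ((yon S).map k ≫ r) ≫ (yon S).map s' = (yon S).map a₀ ≫ (yon S).map iO := by
    rw [Category.assoc]; exact sq.w
  have c2 : ((yon S).map k ≫ r') ≫ (yon S).map s' = (yon S).map a₀ ≫ (yon S).map iO := by
    rw [Category.assoc, ← h2]; exact sq.w
  have e1 : sqS.lift _ _ c1 ≫ (yon S).map j = (yon S).map k ≫ r := sqS.lift_fst _ _ _
  have e2 : sqS.lift _ _ c1 ≫ (yon S).map s = (yon S).map a₀ := sqS.lift_snd _ _ _
  have e1' : sqS.lift _ _ c2 ≫ (yon S).map j = (yon S).map k ≫ r' := sqS.lift_fst _ _ _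
  have e2' : sqS.lift _ _ c2 ≫ (yon S).map s = (yon S).map a₀ := sqS.lift_snd _ _ _
  haveI : Mono ((yon S).map iO) := mono_yon_map iO hiO.1.1
  have e3 : sqS.lift _ _ c1 ≫ (yon S).map t = sqS.lift _ _ c2 ≫ (yon S).map t := by
    rw [← cancel_mono ((yon S).map iO), Category.assoc, Category.assoc, ← sqT.w,
      ← Category.assoc, ← Category.assoc, e1, e1', Category.assoc, Category.assoc, h1]
  have e4 : sqS.lift _ _ c1 = sqS.lift _ _ c2 := sqR.hom_ext e3 (e2.trans e2'.symm)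
  have e5 : (yon S).map k ≫ r = (yon S).map k ≫ r' := by rw [← e1, ← e1', e4]
  exact lift_unique_scheme ((yon S).map s') ((isFormallyEtaleMor_iff _).1 hs').2 k hk r r' e5 h2

include hiO HU sqR sqS sqT hρ hs' in
theorem exists_refl : ∃ E' : (yon S).obj U' ⟶ (yon S).obj R',
    E' ≫ (yon S).map s' = 𝟙 _ ∧ E' ≫ (yon S).map t' = 𝟙 _ := by
  let E : (yon S).obj U ⟶ (yon S).obj R := sqR.lift (𝟙 _) (𝟙 _) rfl
  have hE1 : E ≫ (yon S).map t = 𝟙 _ := sqR.lift_fst _ _ _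
  have hE2 : E ≫ (yon S).map s = 𝟙 _ := sqR.lift_snd _ _ _
  have hI : IsFOThickMor ((yon S).map iO) := isFOThickMor_yon_map iO hiO
  obtain ⟨E', ⟨hE'1, hE'2⟩, -⟩ := existsUnique_lift_of_isFormallyEtaleMor ((yon S).map s') hs'
    (IsAlgSpace.yon_obj U') ((yon S).map iO) hI (E ≫ (yon S).map j) (𝟙 _) (by
      rw [Category.assoc, sqS.w, ← Category.assoc, hE2, Category.id_comp, Category.comp_id])
  refine ⟨E', hE'2, ?_⟩
  obtain ⟨x, -, hx⟩ := HU.2.2 (IsAlgSpace.yon_obj U) (IsAlgSpace.yon_obj U') ((yon S).map iO) (𝟙 _)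
    ρU' hI (by rw [HU.2.1, Category.id_comp])
  rw [hx (E' ≫ (yon S).map t') ⟨?_, ?_⟩, hx (𝟙 _) ⟨by rw [Category.comp_id, Category.id_comp],
    by rw [Category.id_comp]⟩]
  · rw [← Category.assoc, hE'1, Category.assoc, sqT.w, ← Category.assoc, hE1]
  · rw [Category.assoc, ← hρ, ← Category.assoc, hE'2, Category.id_comp]

include HU sqR sqS sqT hρ HR in
theorem exists_symm : ∃ σ' : (yon S).obj R' ⟶ (yon S).obj R',
    σ' ≫ (yon S).map s' = (yon S).map t' ∧ σ' ≫ (yon S).map t' = (yon S).map s' := by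
  let σ₀ : (yon S).obj R ⟶ (yon S).obj R := sqR.lift ((yon S).map s) ((yon S).map t) sqR.w.symm
  have hσ1 : σ₀ ≫ (yon S).map t = (yon S).map s := sqR.lift_fst _ _ _
  have hσ2 : σ₀ ≫ (yon S).map s = (yon S).map t := sqR.lift_snd _ _ _
  have hR : IsAlgSpace ((yon S).obj R) := IsAlgSpace.yon_obj R
  have hR' : IsAlgSpace ((yon S).obj R') := IsAlgSpace.yon_obj R'
  have hts : (yon S).map t ≫ u ≫ h = (yon S).map s ≫ u ≫ h := by
    rw [← Category.assoc, sqR.w, Category.assoc]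
  obtain ⟨σ', ⟨hσ'1, hσ'2⟩, -⟩ := HR.2.2 hR hR' ((yon S).map j) σ₀ ((yon S).map s' ≫ ρU') HR.1 (by
    rw [HR.2.1, ← Category.assoc σ₀, hσ2, hts])
  refine ⟨σ', ?_, ?_⟩
  · obtain ⟨x, -, hx⟩ := HU.2.2 hR hR' ((yon S).map j) ((yon S).map t) ((yon S).map s' ≫ ρU') HR.1
      (by rw [HR.2.1, hts])
    rw [hx (σ' ≫ (yon S).map s') ⟨?_, ?_⟩, hx ((yon S).map t') ⟨sqT.w, hρ.symm⟩]
    · rw [← Category.assoc, hσ'1, Category.assoc, sqS.w, ← Category.assoc, hσ2]
    · rw [Category.assoc, hσ'2]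
  · obtain ⟨x, -, hx⟩ := HU.2.2 hR hR' ((yon S).map j) ((yon S).map s) ((yon S).map s' ≫ ρU') HR.1
      (by rw [HR.2.1])
    rw [hx (σ' ≫ (yon S).map t') ⟨?_, ?_⟩, hx ((yon S).map s') ⟨sqS.w, rfl⟩]
    · rw [← Category.assoc, hσ'1, Category.assoc, sqT.w, ← Category.assoc, hσ1]
    · rw [Category.assoc, ← hρ, hσ'2]

include hiO HU sqR sqS sqT hρ HR in
theorem exists_trans {T : Over S} (r₁ r₂ : (yon S).obj T ⟶ (yon S).obj R')
    (h12 : r₁ ≫ (yon S).map s' = r₂ ≫ (yon S).map t') :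
    ∃ r₃ : (yon S).obj T ⟶ (yon S).obj R', r₃ ≫ (yon S).map t' = r₁ ≫ (yon S).map t' ∧
      r₃ ≫ (yon S).map s' = r₂ ≫ (yon S).map s' := by
  obtain ⟨bO, hbO⟩ := (yon S).map_surjective (r₁ ≫ (yon S).map s')
  obtain ⟨T₀, k, b₀, hk, sq⟩ := exists_thick_pullback iO hiO bO
  rw [hbO] at sq
  have hkFO : IsFOThickMor ((yon S).map k) := isFOThickMor_yon_map k hk
  have hT₀ : IsAlgSpace ((yon S).obj T₀) := IsAlgSpace.yon_obj T₀
  have hT : IsAlgSpace ((yon S).obj T) := IsAlgSpace.yon_obj T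
  have c1 : ((yon S).map k ≫ r₁) ≫ (yon S).map s' = (yon S).map b₀ ≫ (yon S).map iO := by
    rw [Category.assoc]; exact sq.w
  have c2 : ((yon S).map k ≫ r₂) ≫ (yon S).map t' = (yon S).map b₀ ≫ (yon S).map iO := by
    rw [Category.assoc, ← h12]; exact sq.w
  have e1 : sqS.lift _ _ c1 ≫ (yon S).map j = (yon S).map k ≫ r₁ := sqS.lift_fst _ _ _
  have e2 : sqS.lift _ _ c1 ≫ (yon S).map s = (yon S).map b₀ := sqS.lift_snd _ _ _
  have f1 : sqT.lift _ _ c2 ≫ (yon S).map j = (yon S).map k ≫ r₂ := sqT.lift_fst _ _ _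
  have f2 : sqT.lift _ _ c2 ≫ (yon S).map t = (yon S).map b₀ := sqT.lift_snd _ _ _
  set ρ₁ := sqS.lift _ _ c1 with hρ₁
  set ρ₂ := sqT.lift _ _ c2 with hρ₂
  have c3 : (ρ₁ ≫ (yon S).map t) ≫ u = (ρ₂ ≫ (yon S).map s) ≫ u := by
    rw [Category.assoc, sqR.w, ← Category.assoc, e2, Category.assoc, ← sqR.w, ← Category.assoc, f2]
  have g1 : sqR.lift _ _ c3 ≫ (yon S).map t = ρ₁ ≫ (yon S).map t := sqR.lift_fst _ _ _
  have g2 : sqR.lift _ _ c3 ≫ (yon S).map s = ρ₂ ≫ (yon S).map s := sqR.lift_snd _ _ _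
  set ρ₃ := sqR.lift _ _ c3 with hρ₃
  -- the structure maps
  have hts : (yon S).map t ≫ u ≫ h = (yon S).map s ≫ u ≫ h := by
    rw [← Category.assoc, sqR.w, Category.assoc]
  have hb1 : (yon S).map k ≫ r₁ ≫ (yon S).map s' ≫ ρU' = (yon S).map b₀ ≫ u ≫ h := by
    rw [← Category.assoc, ← e1, Category.assoc, HR.2.1, ← Category.assoc, e2]
  have hb2 : ρ₂ ≫ (yon S).map s ≫ u ≫ h = (yon S).map b₀ ≫ u ≫ h := by
    rw [← hts, ← Category.assoc, f2]
  obtain ⟨r₃, ⟨hr1, hr2⟩, -⟩ := HR.2.2 hT₀ hT ((yon S).map k) ρ₃ (r₁ ≫ (yon S).map s' ≫ ρU') hkFO (by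
    rw [hb1, ← hb2, ← Category.assoc ρ₃, g2, Category.assoc])
  refine ⟨r₃, ?_, ?_⟩
  · obtain ⟨x, -, hx⟩ := HU.2.2 hT₀ hT ((yon S).map k) (ρ₁ ≫ (yon S).map t)
      (r₁ ≫ (yon S).map s' ≫ ρU') hkFO (by
        rw [hb1, Category.assoc, hts, ← Category.assoc ρ₁, e2])
    rw [hx (r₃ ≫ (yon S).map t') ⟨?_, ?_⟩, hx (r₁ ≫ (yon S).map t') ⟨?_, ?_⟩]
    · rw [← Category.assoc, ← e1, Category.assoc, sqT.w, Category.assoc]
    · rw [Category.assoc, hρ]
    · rw [← Category.assoc, hr1, Category.assoc, sqT.w, ← Category.assoc, g1, Category.assoc]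
    · rw [Category.assoc, ← hρ, hr2]
  · obtain ⟨x, -, hx⟩ := HU.2.2 hT₀ hT ((yon S).map k) (ρ₂ ≫ (yon S).map s)
      (r₁ ≫ (yon S).map s' ≫ ρU') hkFO (by rw [hb1, Category.assoc, hb2])
    rw [hx (r₃ ≫ (yon S).map s') ⟨?_, ?_⟩, hx (r₂ ≫ (yon S).map s') ⟨?_, ?_⟩]
    · rw [← Category.assoc, ← f1, Category.assoc, sqS.w, Category.assoc]
    · rw [Category.assoc, hρ, ← Category.assoc, ← h12, Category.assoc, ← hρ]
    · rw [← Category.assoc, hr1, Category.assoc, sqS.w, ← Category.assoc, g2, Category.assoc]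
    · rw [Category.assoc, hr2]

include hiO HU sqR sqS sqT hρ HR hs' in
/-- `s', t' : R' ⟶ U'` is an etale equivalence relation. -/
theorem isEtaleEqvRel (hs'e : Etale s'.left) (ht'e : Etale t'.left) : IsEtaleEqvRel s' t' := by
  have conv : ∀ {T : Over S} (a b : T ⟶ U'), (∃ r : T ⟶ R', r ≫ t' = a ∧ r ≫ s' = b) ↔
      ∃ r : (yon S).obj T ⟶ (yon S).obj R', r ≫ (yon S).map t' = (yon S).map a ∧
        r ≫ (yon S).map s' = (yon S).map b := by
    intro T a b
    constructor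
    · rintro ⟨r, rfl, rfl⟩
      exact ⟨(yon S).map r, by rw [Functor.map_comp], by rw [Functor.map_comp]⟩
    · rintro ⟨r, h1, h2⟩
      obtain ⟨rO, rfl⟩ := (yon S).map_surjective r
      refine ⟨rO, (yon S).map_injective ?_, (yon S).map_injective ?_⟩
      · rw [Functor.map_comp]; exact h1
      · rw [Functor.map_comp]; exact h2
  refine { injective := ?_, equivalence := ?_, etale_left := hs'e, etale_right := ht'e }
  · intro T r r' h1 h2
    apply (yon S).map_injective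
    refine rel_injective u iO s t s' t' j hiO sqR sqS sqT hs' _ _ ?_ ?_
    · rw [← Functor.map_comp, ← Functor.map_comp, h1]
    · rw [← Functor.map_comp, ← Functor.map_comp, h2]
  · intro T
    refine ⟨?_, ?_, ?_⟩
    · intro a
      rw [conv]
      obtain ⟨E', hE1, hE2⟩ := exists_refl h u ρU' iO s t s' t' j hiO HU sqR sqS sqT hρ hs'
      exact ⟨(yon S).map a ≫ E', by rw [Category.assoc, hE2, Category.comp_id],
        by rw [Category.assoc, hE1, Category.comp_id]⟩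
    · intro a b hab
      rw [conv] at hab ⊢
      obtain ⟨r, h1, h2⟩ := hab
      obtain ⟨σ', hσ1, hσ2⟩ := exists_symm h u ρU' iO s t s' t' j HU sqR sqS sqT hρ HR
      exact ⟨r ≫ σ', by rw [Category.assoc, hσ2, h2], by rw [Category.assoc, hσ1, h1]⟩
    · intro a b c hab hbc
      rw [conv] at hab hbc ⊢
      obtain ⟨r₁, h1, h2⟩ := hab
      obtain ⟨r₂, h3, h4⟩ := hbc
      obtain ⟨r₃, h5, h6⟩ := exists_trans h u ρU' iO s t s' t' j hiO HU sqR sqS sqT hρ HR r₁ r₂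
        (h2.trans h3.symm)
      exact ⟨r₃, h5.trans h1, h6.trans h4⟩

end Rel

end Groth.Agent.Lib.H86Formal11
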