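import Groth.Prelude.Def_AlgSpInf
import Groth.Agent.Lib.H69DescentFpqc3

/-!
# helper86: thickenings are fpqc local on the base
-/

set_option autoImplicit false
set_option linter.style.haveILetI false
universe u
open CategoryTheory CategoryTheory.Limits AlgebraicGeometry Opposite MorphismProperty

namespace Groth.Agent.Lib.H86ThickFpqc
open AlgSp

set_option backward.isDefEq.respectTransparency false in
instance thick_descendsAlong : (thick.{u}).DescendsAlong (@Surjective ⊓ @Flat ⊓ @QuasiCompact) := by
  unfold thick
  infer_instance

set_option backward.isDefEq.respectTransparency false in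
instance thick_isZariskiLocalAtTarget : IsZariskiLocalAtTarget (thick.{u}) := by
  unfold thick
  infer_instance

theorem thick_le_isAffineHom : (thick.{u}) ≤ @IsAffineHom := fun _ _ _ h => by
  have : IsClosedImmersion _ := h.1
  infer_instance

variable {S : Scheme.{u}}

theorem isLocalOnBase_fpqc_isThickMor : IsLocalOnBase (S := S) IsFpqcCover IsThickMor :=
  Groth.Agent.Lib.H69DescentFpqc.isLocalOnBase_fpqc_repWith_of_le_isAffineHom thick thick_le_isAffineHom

end Groth.Agent.Lib.H86ThickFpqc
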