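import Groth.Agent.Lib.UnivThickLocal24
import Mathlib.AlgebraicGeometry.Morphisms.ClosedImmersion

/-!
# Universal first order thickenings: the affine case (helper24)

A ring-level universal first order thickening `π : B' → B` of an `A`-algebra `B`
(`OmegaSh.IsUnivThickeningRing`) gives a scheme-level universal first order thickening
`Spec B ⟶ Spec B'` of `Spec B ⟶ Spec A` (`isUnivThickening_Spec`).
-/

set_option autoImplicit false
universe u

namespace Groth.Agent.Lib.UnivThickAffine24

open AlgebraicGeometry CategoryTheory Limits TopologicalSpace Groth.Agent.Lib.UnivThickLocal24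

/-- Flexible form of the ring-level universal property. -/
theorem existsUnique_ringHom_lift {A B B' : Type u} [CommRing A] [CommRing B] [CommRing B']
    [Algebra A B] [Algebra A B'] (π : B' →ₐ[A] B)
    (hπ : OmegaSh.IsUnivThickeningRing A B B' π)
    {C Dd : Type u} [CommRing C] [CommRing Dd] (ρ : C →+* Dd) (hρ : Function.Surjective ρ)
    (hker : ∀ x y, ρ x = 0 → ρ y = 0 → x * y = 0)
    (β : A →+* C) (α : B →+* Dd) (hαβ : ρ.comp β = α.comp (algebraMap A B)) :
    ∃! ψ : B' →+* C, ρ.comp ψ = α.comp π.toRingHom ∧ ψ.comp (algebraMap A B') = β := by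
  letI : Algebra A C := β.toAlgebra
  have halg : ∀ r : A, algebraMap A C r = β r := fun r => rfl
  let K : Ideal C := RingHom.ker ρ
  have hK : K ^ 2 = ⊥ := by
    rw [pow_two, eq_bot_iff, Ideal.mul_le]
    intro x hx y hy
    rw [Ideal.mem_bot]
    exact hker x y hx hy
  let e : (C ⧸ K) ≃+* Dd := RingHom.quotientKerEquivOfSurjective hρ
  have he : ∀ x : C, e (Ideal.Quotient.mk K x) = ρ x := fun x => rfl
  have hesymm : ∀ x : C, e.symm (ρ x) = Ideal.Quotient.mk K x := by
    intro x
    rw [← he, RingEquiv.symm_apply_apply]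
  let a₀ : B →ₐ[A] C ⧸ K :=
    { toRingHom := (e.symm : Dd →+* C ⧸ K).comp α
      commutes' := by
        intro r
        have h1 : α (algebraMap A B r) = ρ (β r) := (congrArg (fun φ => φ r) hαβ).symm
        change e.symm (α (algebraMap A B r)) = Ideal.Quotient.mk K (algebraMap A C r)
        rw [h1, hesymm, halg] }
  have ha₀ : ∀ x : B, e (a₀ x) = α x := by
    intro x
    change e (e.symm (α x)) = α x
    rw [RingEquiv.apply_symm_apply]
  obtain ⟨ψ, hψ, hψu⟩ := hπ.2.2 C K hK a₀
  have hψ' : ∀ x : B', Ideal.Quotient.mk K (ψ x) = a₀ (π x) := fun x => congrArg (fun φ => φ x) hψ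
  refine ⟨ψ.toRingHom, ⟨?_, ?_⟩, ?_⟩
  · ext x
    change ρ (ψ x) = α (π x)
    rw [← he, hψ', ha₀]
  · ext r
    change ψ (algebraMap A B' r) = β r
    rw [ψ.commutes, halg]
  · rintro ψ' ⟨h1, h2⟩
    let ψa : B' →ₐ[A] C :=
      { toRingHom := ψ'
        commutes' := fun r => by
          change ψ' (algebraMap A B' r) = algebraMap A C r
          rw [halg]
          exact congrArg (fun φ => φ r) h2 }
    have : ψa = ψ := by
      apply hψu
      apply AlgHom.ext
      intro x
      change Ideal.Quotient.mk K (ψ' x) = a₀ (π x)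
      apply e.injective
      rw [he, ha₀]
      exact congrArg (fun φ => φ x) h1
    rw [← this]

section toSpec

variable {Y : Scheme.{u}} {R : CommRingCat.{u}}

/-- The morphism to `Spec R` attached to a ring map `R ⟶ Γ(Y, ⊤)`. -/
noncomputable def toSpec (ψ : R ⟶ Γ(Y, ⊤)) : Y ⟶ Spec R := Y.toSpecΓ ≫ Spec.map ψ

theorem toSpec_appTop (ψ : R ⟶ Γ(Y, ⊤)) : (toSpec ψ).appTop = (Scheme.ΓSpecIso R).hom ≫ ψ := by
  unfold toSpec
  rw [Scheme.Hom.comp_appTop, Scheme.toSpecΓ_appTop]
  exact Scheme.ΓSpecIso_naturality ψ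

theorem toSpec_injective {ψ₁ ψ₂ : R ⟶ Γ(Y, ⊤)} (e : toSpec ψ₁ = toSpec ψ₂) : ψ₁ = ψ₂ := by
  have := congrArg Scheme.Hom.appTop e
  rw [toSpec_appTop, toSpec_appTop] at this
  exact (cancel_epi _).mp this

theorem eq_toSpec (f : Y ⟶ Spec R) : f = toSpec ((Scheme.ΓSpecIso R).inv ≫ f.appTop) := by
  apply ext_of_isAffine
  rw [toSpec_appTop, Iso.hom_inv_id_assoc]

theorem comp_toSpec {Y₁ : Scheme.{u}} (g : Y₁ ⟶ Y) (ψ : R ⟶ Γ(Y, ⊤)) :
    g ≫ toSpec ψ = toSpec (ψ ≫ g.appTop) := by
  apply ext_of_isAffine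
  rw [Scheme.Hom.comp_appTop, toSpec_appTop, toSpec_appTop, Category.assoc]

theorem toSpec_comp_SpecMap {R₀ : CommRingCat.{u}} (θ : R₀ ⟶ R) (ψ : R ⟶ Γ(Y, ⊤)) :
    toSpec ψ ≫ Spec.map θ = toSpec (θ ≫ ψ) := by
  unfold toSpec
  rw [Category.assoc, ← Spec.map_comp]

end toSpec

/-- The affine case. -/
theorem isUnivThickening_Spec (A B B' : Type u) [CommRing A] [CommRing B] [CommRing B']
    [Algebra A B] [Algebra A B'] (π : B' →ₐ[A] B)
    (hπ : OmegaSh.IsUnivThickeningRing A B B' π) :
    OmegaSh.IsUnivThickening (Spec.map (CommRingCat.ofHom (algebraMap A B)))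
      (Spec.map (CommRingCat.ofHom π.toRingHom))
      (Spec.map (CommRingCat.ofHom (algebraMap A B'))) := by
  apply isUnivThickening_of_affine
  · apply Groth.Agent.Lib.H4FirstOrderBC.isFirstOrderThickening_SpecMap
      (CommRingCat.ofHom π.toRingHom) hπ.1
    intro x y hx hy
    have : x * y ∈ RingHom.ker π.toRingHom ^ 2 := by
      rw [pow_two]
      exact Ideal.mul_mem_mul hx hy
    rw [hπ.2.1] at this
    exact this
  · rw [← Spec.map_comp]
    congr 1
    ext r
    exact π.commutes r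
  · intro T T' _ j b a hj hw
    haveI : IsClosedImmersion j := hj.1.1
    obtain ⟨-, hρsurj⟩ := IsClosedImmersion.isAffine_surjective_of_isAffine j
    have hρker : ∀ x y, j.appTop.hom x = 0 → j.appTop.hom y = 0 → x * y = 0 := by
      intro x y hx hy
      have h0 := (Groth.Agent.Lib.H4FirstOrderBC.ker_mul_ker_eq_bot_iff_of_isAffine j).mp hj.2
      have : x * y ∈ RingHom.ker j.appTop.hom * RingHom.ker j.appTop.hom :=
        Ideal.mul_mem_mul hx hy
      rw [h0] at this
      exact this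
    obtain ⟨β, hb⟩ : ∃ β : CommRingCat.of A ⟶ Γ(T', ⊤), b = toSpec β := ⟨_, eq_toSpec b⟩
    obtain ⟨α, ha⟩ : ∃ α : CommRingCat.of B ⟶ Γ(T, ⊤), a = toSpec α := ⟨_, eq_toSpec a⟩
    have hαβ : β ≫ j.appTop = CommRingCat.ofHom (algebraMap A B) ≫ α := by
      apply toSpec_injective
      rw [← comp_toSpec j β, ← toSpec_comp_SpecMap (CommRingCat.ofHom (algebraMap A B)) α,
        ← hb, ← ha]
      exact hw
    have hαβ' : j.appTop.hom.comp β.hom = α.hom.comp (algebraMap A B) :=
      RingHom.ext fun x => congrArg (fun φ => (CommRingCat.Hom.hom φ) x) hαβ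
    obtain ⟨ψ, ⟨hψ1, hψ2⟩, hψu⟩ := existsUnique_ringHom_lift π hπ j.appTop.hom hρsurj hρker
      β.hom α.hom hαβ'
    refine ⟨toSpec (CommRingCat.ofHom ψ), ⟨?_, ?_⟩, ?_⟩
    · rw [comp_toSpec, ha, toSpec_comp_SpecMap]
      congr 1
      ext x
      exact congrArg (fun φ => φ x) hψ1
    · rw [toSpec_comp_SpecMap, hb]
      congr 1
      ext x
      exact congrArg (fun φ => φ x) hψ2
    · intro a'' ⟨h1, h2⟩
      obtain ⟨ψ'', ha''⟩ : ∃ ψ'' : CommRingCat.of B' ⟶ Γ(T', ⊤), a'' = toSpec ψ'' :=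
        ⟨_, eq_toSpec a''⟩
      rw [ha'']
      congr 1
      have key : ψ''.hom = ψ := by
        apply hψu
        constructor
        · have e1 : ψ'' ≫ j.appTop = CommRingCat.ofHom π.toRingHom ≫ α := by
            apply toSpec_injective
            rw [← comp_toSpec j ψ'', ← ha'', ← toSpec_comp_SpecMap (CommRingCat.ofHom π.toRingHom) α,
              ← ha]
            exact h1
          exact RingHom.ext fun x => congrArg (fun φ => (CommRingCat.Hom.hom φ) x) e1
        · have e2 : CommRingCat.ofHom (algebraMap A B') ≫ ψ'' = β := by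
            apply toSpec_injective
            rw [← toSpec_comp_SpecMap (CommRingCat.ofHom (algebraMap A B')) ψ'', ← ha'', ← hb]
            exact h2
          exact RingHom.ext fun x => congrArg (fun φ => (CommRingCat.Hom.hom φ) x) e2
      ext x
      exact congrArg (fun φ => φ x) key

end Groth.Agent.Lib.UnivThickAffine24
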