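import Groth.Agent.Lib.UnivThickLocal24
import Mathlib.AlgebraicGeometry.Gluing
import Mathlib.AlgebraicGeometry.Morphisms.ClosedImmersion

/-!
# Gluing universal first order thickenings (helper24)

If `h : Z ⟶ X` admits universal first order thickenings over the members of a basis `B` of `Z`, then
`h` admits a universal first order thickening (`exists_isUnivThickening_of_basis`).  The local
thickenings are glued along a locally directed diagram of open immersions.
-/

set_option autoImplicit false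
universe u

namespace Groth.Agent.Lib.UnivThickGlue24

open AlgebraicGeometry CategoryTheory Limits TopologicalSpace Groth.Agent.Lib.UnivThickLocal24

variable {Z X : Scheme.{u}}

/-- A universal first order thickening of the restriction of `h` to the open `V`. -/
structure Datum (h : Z ⟶ X) (V : Z.Opens) where
  Z' : Scheme.{u}
  i : (V : Scheme.{u}) ⟶ Z'
  h' : Z' ⟶ X
  univ : OmegaSh.IsUnivThickening (V.ι ≫ h) i h'

variable {h : Z ⟶ X} {B : Set Z.Opens} (D : ∀ V : B, Datum h V.1)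

theorem exists_τ {V W : B} (hVW : V.1 ≤ W.1) :
    ∃ τ : (D V).Z' ⟶ (D W).Z', IsOpenImmersion τ ∧
      (D V).i ≫ τ = Z.homOfLE hVW ≫ (D W).i ∧ τ ≫ (D W).h' = (D V).h' := by
  have hu₁ : OmegaSh.IsUnivThickening (Z.homOfLE hVW ≫ W.1.ι ≫ h) (D V).i (D V).h' := by
    rw [← Category.assoc, Scheme.homOfLE_ι]
    exact (D V).univ
  exact exists_trans_of_isUnivThickening (Z.homOfLE hVW) (W.1.ι ≫ h) (D V).i (D V).h' hu₁
    (D W).i (D W).h' (D W).univ

/-- The transition maps. -/
noncomputable def τ {V W : B} (hVW : V.1 ≤ W.1) : (D V).Z' ⟶ (D W).Z' := (exists_τ D hVW).choose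

instance {V W : B} (hVW : V.1 ≤ W.1) : IsOpenImmersion (τ D hVW) :=
  (exists_τ D hVW).choose_spec.1

theorem τ_fac₁ {V W : B} (hVW : V.1 ≤ W.1) : (D V).i ≫ τ D hVW = Z.homOfLE hVW ≫ (D W).i :=
  (exists_τ D hVW).choose_spec.2.1

theorem τ_fac₂ {V W : B} (hVW : V.1 ≤ W.1) : τ D hVW ≫ (D W).h' = (D V).h' :=
  (exists_τ D hVW).choose_spec.2.2

theorem τ_unique {V W : B} (hVW : V.1 ≤ W.1) (t : (D V).Z' ⟶ (D W).Z')
    (h1 : (D V).i ≫ t = Z.homOfLE hVW ≫ (D W).i) (h2 : t ≫ (D W).h' = (D V).h') :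
    t = τ D hVW := by
  obtain ⟨c, -, hcu⟩ := (D W).univ.2.2 _ _ (D V).i (D V).h' (Z.homOfLE hVW) (D V).univ.1
    (by rw [(D V).univ.2.1, ← Category.assoc, Scheme.homOfLE_ι])
  rw [hcu t ⟨h1, h2⟩, hcu (τ D hVW) ⟨τ_fac₁ D hVW, τ_fac₂ D hVW⟩]

/-- The diagram of local universal thickenings. -/
noncomputable def F : B ⥤ Scheme.{u} where
  obj V := (D V).Z'
  map f := τ D (leOfHom f)
  map_id V := (τ_unique D _ (𝟙 _) (by rw [Scheme.homOfLE_rfl]; simp) (by simp)).symm
  map_comp f g := (τ_unique D _ _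
    (by rw [← Category.assoc, τ_fac₁, Category.assoc, τ_fac₁, ← Category.assoc,
      Scheme.homOfLE_homOfLE])
    (by rw [Category.assoc, τ_fac₂, τ_fac₂])).symm

instance {V W : B} (f : V ⟶ W) : IsOpenImmersion ((F D).map f) :=
  inferInstanceAs (IsOpenImmersion (τ D (leOfHom f)))

theorem i_surjective (V : B) : Function.Surjective (D V).i := (D V).univ.1.1.2.surj

theorem i_injective (V : B) : Function.Injective (D V).i :=
  haveI : IsClosedImmersion (D V).i := (D V).univ.1.1.1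
  (D V).i.isClosedEmbedding.injective

theorem τ_apply {V W : B} (hVW : V.1 ≤ W.1) (z : (V.1 : Scheme.{u})) :
    τ D hVW ((D V).i z) = (D W).i (Z.homOfLE hVW z) := by
  have := congrArg (fun φ : (V.1 : Scheme.{u}) ⟶ (D W).Z' => φ z) (τ_fac₁ D hVW)
  simpa using this

theorem isLocallyDirected (hB : Opens.IsBasis B) : ((F D) ⋙ Scheme.forget).IsLocallyDirected where
  cond {Vi Vj Vk} fi fj xi xj heq := by
    obtain ⟨zi, rfl⟩ := i_surjective D Vi xi
    obtain ⟨zj, rfl⟩ := i_surjective D Vj xj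
    have heq' : τ D (leOfHom fi) ((D Vi).i zi) = τ D (leOfHom fj) ((D Vj).i zj) := heq
    rw [τ_apply, τ_apply] at heq'
    have h1 := i_injective D Vk heq'
    have h2 : zi.1 = zj.1 := by
      have := congrArg Subtype.val h1
      rwa [Scheme.homOfLE_apply, Scheme.homOfLE_apply] at this
    obtain ⟨Vl, hVlB, hzl, hle⟩ := Opens.isBasis_iff_nbhd.mp hB
      (show zi.1 ∈ Vi.1 ⊓ Vj.1 from ⟨zi.2, h2 ▸ zj.2⟩)
    refine ⟨⟨Vl, hVlB⟩, homOfLE (hle.trans inf_le_left), homOfLE (hle.trans inf_le_right),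
      (D ⟨Vl, hVlB⟩).i ⟨zi.1, hzl⟩, ?_, ?_⟩
    · change τ D _ ((D _).i _) = _
      rw [τ_apply, Scheme.homOfLE_apply']
      rfl
    · change τ D _ ((D _).i _) = _
      rw [τ_apply, Scheme.homOfLE_apply']
      congr 1
      exact Subtype.ext h2

/-- The open cover of `Z` by the members of a basis. -/
noncomputable def basisCover (B : Set Z.Opens) (hB : Opens.IsBasis B) : Z.OpenCover :=
  Z.openCoverOfIsOpenCover (fun V : B => (V : Z.Opens)) hB.isOpenCover

instance (B : Set Z.Opens) (hB : Opens.IsBasis B) : Preorder (basisCover B hB).I₀ :=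
  inferInstanceAs (Preorder B)

noncomputable instance (B : Set Z.Opens) (hB : Opens.IsBasis B) :
    (basisCover B hB).LocallyDirected := by
  refine .ofIsBasisOpensRange ?_ ?_
  · intro k l
    change k.1 ≤ l.1 ↔ (k.1.ι).opensRange ≤ (l.1.ι).opensRange
    rw [Scheme.Opens.opensRange_ι, Scheme.Opens.opensRange_ι]
  · have : (Set.range fun k : (basisCover B hB).I₀ => ((basisCover B hB).f k).opensRange) = B := by
      ext W
      constructor
      · rintro ⟨k, rfl⟩
        change (k.1.ι).opensRange ∈ B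
        rw [Scheme.Opens.opensRange_ι]
        exact k.2
      · intro hW
        refine ⟨⟨W, hW⟩, ?_⟩
        change (W.ι).opensRange = W
        rw [Scheme.Opens.opensRange_ι]
    rw [this]
    exact hB

theorem basisCover_trans (B : Set Z.Opens) (hB : Opens.IsBasis B) {V W : B} (hVW : V ≤ W) :
    (basisCover B hB).trans (homOfLE hVW) = Z.homOfLE hVW := rfl

section Glued

variable [((F D) ⋙ Scheme.forget).IsLocallyDirected]

/-- The glued scheme. -/
noncomputable def Zg : Scheme.{u} := colimit (F D)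

/-- The inclusions of the local thickenings. -/
noncomputable def ιg (V : B) : (D V).Z' ⟶ Zg D := colimit.ι (F D) V

instance (V : B) : IsOpenImmersion (ιg D V) :=
  inferInstanceAs (IsOpenImmersion (colimit.ι (F D) V))

theorem τ_ιg {V W : B} (hVW : V.1 ≤ W.1) : τ D hVW ≫ ιg D W = ιg D V :=
  colimit.w (F D) (homOfLE hVW)

/-- The glued structure morphism. -/
noncomputable def hg : Zg D ⟶ X :=
  colimit.desc (F D)
    { pt := X
      ι :=
        { app := fun V => (D V).h'
          naturality := fun V W f => by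
            change τ D (leOfHom f) ≫ (D W).h' = (D V).h' ≫ 𝟙 X
            rw [Category.comp_id, τ_fac₂] } }

theorem ιg_hg (V : B) : ιg D V ≫ hg D = (D V).h' := colimit.ι_desc _ _

variable (hB : Opens.IsBasis B)

theorem ig_compat {V W : (basisCover B hB).I₀} (f : V ⟶ W) :
    (basisCover B hB).trans f ≫ (D W).i ≫ ιg D W = (D V).i ≫ ιg D V := by
  change Z.homOfLE (leOfHom f) ≫ (D W).i ≫ ιg D W = (D V).i ≫ ιg D V
  rw [← Category.assoc, ← τ_fac₁, Category.assoc, τ_ιg]

/-- The glued thickening morphism. -/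
noncomputable def ig : Z ⟶ Zg D :=
  (basisCover B hB).glueMorphismsOfLocallyDirected (fun V => (D V).i ≫ ιg D V) (ig_compat D hB)

theorem ι_ig (V : B) : V.1.ι ≫ ig D hB = (D V).i ≫ ιg D V :=
  Scheme.OpenCover.map_glueMorphismsOfLocallyDirected (basisCover B hB)
    (fun V => (D V).i ≫ ιg D V) (ig_compat D hB) V

theorem ig_hg : ig D hB ≫ hg D = h := by
  refine Scheme.Cover.hom_ext (basisCover B hB) _ _ fun V => ?_
  change V.1.ι ≫ ig D hB ≫ hg D = V.1.ι ≫ h
  rw [← Category.assoc, ι_ig, Category.assoc, ιg_hg, (D V).univ.2.1]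

theorem ig_apply (V : B) (z : (V.1 : Scheme.{u})) :
    ig D hB z.1 = ιg D V ((D V).i z) := by
  have := congrArg (fun φ : (V.1 : Scheme.{u}) ⟶ Zg D => φ z) (ι_ig D hB V)
  simpa using this

theorem preimage_opensRange (V : B) : ig D hB ⁻¹ᵁ (ιg D V).opensRange = V.1 := by
  ext z
  constructor
  · rintro ⟨y, hy⟩
    obtain ⟨W, hWB, hzW, -⟩ := Opens.isBasis_iff_nbhd.mp hB (Opens.mem_top z)
    have h1 : ig D hB z = ιg D ⟨W, hWB⟩ ((D ⟨W, hWB⟩).i ⟨z, hzW⟩) :=
      ig_apply D hB ⟨W, hWB⟩ ⟨z, hzW⟩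
    have hy' : colimit.ι (F D) V y = colimit.ι (F D) ⟨W, hWB⟩ ((D ⟨W, hWB⟩).i ⟨z, hzW⟩) :=
      hy.trans h1
    obtain ⟨l, fV, fW, x, hxV, hxW⟩ := (Scheme.IsLocallyDirected.ι_eq_ι_iff (F D)).mp hy'
    obtain ⟨z₁, rfl⟩ := i_surjective D l x
    change τ D (leOfHom fW) _ = _ at hxW
    rw [τ_apply] at hxW
    have h3 := i_injective D _ hxW
    have hz : z₁.1 = z := by
      have := congrArg Subtype.val h3
      rwa [Scheme.homOfLE_apply] at this
    exact leOfHom fV (hz ▸ z₁.2)
  · intro hz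
    exact ⟨(D V).i ⟨z, hz⟩, (ig_apply D hB V ⟨z, hz⟩).symm⟩

theorem isPullback (V : B) : IsPullback (D V).i V.1.ι (ιg D V) (ig D hB) :=
  IsOpenImmersion.isPullback _ _ _ _ (ι_ig D hB V)
    (by rw [preimage_opensRange, Scheme.Opens.opensRange_ι])

theorem ig_isClosedImmersion : IsClosedImmersion (ig D hB) := by
  apply (IsZariskiLocalAtTarget.iff_of_openCover (P := @IsClosedImmersion)
    (Scheme.IsLocallyDirected.openCover (F D))).mpr
  intro V
  have hpb := (isPullback D hB V).flip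
  have e : pullback.snd (ig D hB) (ιg D V) = hpb.isoPullback.inv ≫ (D V).i := by simp
  haveI : IsClosedImmersion (D V).i := (D V).univ.1.1.1
  change IsClosedImmersion (pullback.snd (ig D hB) (ιg D V))
  rw [e]
  infer_instance

theorem ig_surjective : Function.Surjective (ig D hB) := by
  intro x
  obtain ⟨V, y, rfl⟩ := Scheme.IsLocallyDirected.ι_jointly_surjective (F D) x
  obtain ⟨z, rfl⟩ := i_surjective D V y
  exact ⟨z.1, ig_apply D hB V z⟩

theorem ig_ker : (ig D hB).ker * (ig D hB).ker = ⊥ := by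
  haveI := ig_isClosedImmersion D hB
  refine Scheme.IdealSheafData.ext_of_iSup_eq_top (ι := Σ V : B, (D V).Z'.affineOpens)
    (fun p => ⟨ιg D p.1 ''ᵁ p.2.1, p.2.2.image_of_isOpenImmersion _⟩) ?_ ?_
  · rw [eq_top_iff]
    intro x _
    obtain ⟨V, y, rfl⟩ := Scheme.IsLocallyDirected.ι_jointly_surjective (F D) x
    obtain ⟨_, ⟨W, hW, rfl⟩, hyW, -⟩ :=
      (D V).Z'.isBasis_affineOpens.exists_subset_of_mem_open (Set.mem_univ y) isOpen_univ
    exact Opens.mem_iSup.mpr ⟨⟨V, ⟨W, hW⟩⟩, ⟨y, hyW, rfl⟩⟩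
  · rintro ⟨V, W⟩
    have hker := Scheme.ker_ideal_of_isPullback_of_isOpenImmersion (ig D hB) (D V).i V.1.ι (ιg D V)
      (isPullback D hB V) W
    rw [Scheme.IdealSheafData.ideal_mul, Scheme.IdealSheafData.ideal_bot, Pi.mul_apply,
      Pi.bot_apply, eq_bot_iff, Ideal.mul_le]
    intro x hx y hy
    have key : ∀ x ∈ (ig D hB).ker.ideal ⟨ιg D V ''ᵁ W.1, W.2.image_of_isOpenImmersion _⟩,
        ((ιg D V).appIso W.1).hom.hom x ∈ (D V).i.ker.ideal W := by
      intro x hx
      rw [hker, Ideal.mem_comap]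
      have : ((ιg D V).appIso W.1).inv.hom (((ιg D V).appIso W.1).hom.hom x) = x := by
        rw [← CommRingCat.comp_apply, Iso.hom_inv_id]
        rfl
      rw [this]
      exact hx
    have h1 : ((ιg D V).appIso W.1).hom.hom (x * y) ∈ ((D V).i.ker * (D V).i.ker).ideal W := by
      rw [map_mul]
      exact Ideal.mul_mem_mul (key x hx) (key y hy)
    rw [(D V).univ.1.2] at h1
    have h2 : ((ιg D V).appIso W.1).hom.hom (x * y) = 0 := h1
    have hinj : Function.Injective ((ιg D V).appIso W.1).hom.hom :=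
      (ConcreteCategory.bijective_of_isIso ((ιg D V).appIso W.1).hom).1
    rw [Ideal.mem_bot]
    exact hinj (by rw [h2, map_zero])

theorem isUnivThickening_glued : OmegaSh.IsUnivThickening h (ig D hB) (hg D) := by
  refine isUnivThickening_of_local h (ig D hB) (hg D)
    ⟨⟨ig_isClosedImmersion D hB, ⟨ig_surjective D hB⟩⟩, ig_ker D hB⟩ (ig_hg D hB) B hB
    (fun V => (ιg D V).opensRange) (fun V => (preimage_opensRange D hB V).ge) (fun V => ?_)
  have key := isUnivThickening_comp_iso (V.1.ι ≫ h) (D V).i (D V).h' (D V).univ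
    (ιg D V).isoOpensRange
  have e1 : (ig D hB).resLE (ιg D V).opensRange V.1 (preimage_opensRange D hB V).ge =
      (D V).i ≫ (ιg D V).isoOpensRange.hom := by
    rw [← cancel_mono (Scheme.Opens.ι _), Scheme.Hom.resLE_comp_ι, Category.assoc,
      Scheme.Hom.isoOpensRange_hom_ι, ι_ig]
  have e2 : (ιg D V).opensRange.ι ≫ hg D = (ιg D V).isoOpensRange.inv ≫ (D V).h' := by
    rw [Iso.eq_inv_comp, ← Category.assoc, Scheme.Hom.isoOpensRange_hom_ι, ιg_hg]
  rw [e1, e2]
  exact key

end Glued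

/-- If `h : Z ⟶ X` admits universal first order thickenings over the members of a basis of `Z`,
then `h` admits a universal first order thickening. -/
theorem exists_isUnivThickening_of_basis (h : Z ⟶ X) (B : Set Z.Opens) (hB : Opens.IsBasis B)
    (hex : ∀ V ∈ B, ∃ (Z'V : Scheme.{u}) (iV : (V : Scheme.{u}) ⟶ Z'V) (h'V : Z'V ⟶ X),
      OmegaSh.IsUnivThickening (V.ι ≫ h) iV h'V) :
    ∃ (Z' : Scheme.{u}) (i : Z ⟶ Z') (h' : Z' ⟶ X), OmegaSh.IsUnivThickening h i h' := by
  choose Z'V iV h'V hu using hex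
  let D : ∀ V : B, Datum h V.1 := fun V => ⟨Z'V V.1 V.2, iV V.1 V.2, h'V V.1 V.2, hu V.1 V.2⟩
  haveI := isLocallyDirected D hB
  exact ⟨Zg D, ig D hB, hg D, isUnivThickening_glued D hB⟩

end Groth.Agent.Lib.UnivThickGlue24
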