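import Groth.Agent.Lib.ExalT1
import Mathlib.RingTheory.Unramified.Basic

/-!
# Universal first order thickening of a formally unramified algebra (Stacks 04EY), in the language of
`Exal.Ext` (helper1)

For `R → S` with `Ω_{S/R} = 0`, take `P = R[x_s]` → `S` with kernel `J`; the conormal map
`J/J² → S ⊗ Ω_P` is split surjective; `J' ⊆ J` is the ideal with `J'/J² =` image of the splitting and
`S' = P/J'`.  Every extension `X` of `S` by an `S`-module admits exactly one `R`-algebra map `S' → X.E`
over `S`.
-/

namespace Groth.Agent.Lib.UnivThick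

open Algebra Algebra.Extension Groth.Agent.Lib.ExalY Groth.Agent.Lib.ExalT1
open scoped TensorProduct

universe u

set_option linter.unusedSectionVars false

variable (R S : Type u) [CommRing R] [CommRing S] [Algebra R S]

/-- the standard extension `R[x_s] → S`. -/
noncomputable abbrev E : Algebra.Extension.{u} R S := (Algebra.Generators.self R S).toExtension

instance : Module.Free S (E R S).CotangentSpace :=
  Module.Free.of_basis (Algebra.Generators.self R S).cotangentSpaceBasis

section Split

variable [Algebra.FormallyUnramified R S]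

theorem cotangentComplex_surjective : Function.Surjective (E R S).cotangentComplex := by
  intro y
  have h := (E R S).exact_cotangentComplex_toKaehler y
  exact h.mp (Subsingleton.elim _ _)

/-- a splitting of the conormal map. -/
noncomputable def sigma : (E R S).CotangentSpace →ₗ[S] (E R S).Cotangent :=
  (Module.projective_lifting_property (E R S).cotangentComplex LinearMap.id
    (cotangentComplex_surjective R S)).choose

theorem cotangentComplex_sigma (ω : (E R S).CotangentSpace) :
    (E R S).cotangentComplex (sigma R S ω) = ω :=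
  LinearMap.congr_fun (Module.projective_lifting_property (E R S).cotangentComplex LinearMap.id
    (cotangentComplex_surjective R S)).choose_spec ω

/-- the ideal `J'`. -/
noncomputable def J' : Ideal (E R S).Ring :=
  (((LinearMap.range (sigma R S)).restrictScalars (E R S).Ring).comap Cotangent.mk).map
    (Submodule.subtype (E R S).ker)

theorem mem_J' {x : (E R S).Ring} :
    x ∈ J' R S ↔ ∃ hx : x ∈ (E R S).ker, Cotangent.mk ⟨x, hx⟩ ∈ LinearMap.range (sigma R S) := by
  unfold J'
  rw [Submodule.mem_map]
  constructor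
  · rintro ⟨y, hy, rfl⟩
    exact ⟨y.2, hy⟩
  · rintro ⟨hx, h⟩
    exact ⟨⟨x, hx⟩, h, rfl⟩

theorem J'_le_ker : J' R S ≤ (E R S).ker := fun _ hx => ((mem_J' R S).mp hx).1

theorem ker_sq_le_J' : (E R S).ker ^ 2 ≤ J' R S := by
  intro x hx
  have hxk : x ∈ (E R S).ker := Ideal.pow_le_self two_ne_zero hx
  rw [mem_J']
  refine ⟨hxk, 0, ?_⟩
  rw [map_zero, eq_comm, Cotangent.mk_eq_zero_iff]
  exact hx

/-- the universal thickening ring. -/
abbrev S' : Type u := (E R S).Ring ⧸ J' R S

/-- the projection `S' → S`. -/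
noncomputable def proj : S' R S →ₐ[R] S :=
  Ideal.Quotient.liftₐ (J' R S) (IsScalarTower.toAlgHom R (E R S).Ring S)
    (fun _ hx => J'_le_ker R S hx)

theorem proj_mk (p : (E R S).Ring) :
    proj R S (Ideal.Quotient.mk (J' R S) p) = algebraMap (E R S).Ring S p := rfl

theorem proj_surjective : Function.Surjective (proj R S) := by
  intro s
  obtain ⟨p, rfl⟩ := (E R S).algebraMap_surjective s
  exact ⟨Ideal.Quotient.mk _ p, rfl⟩

theorem ker_proj_sq : RingHom.ker (proj R S).toRingHom ^ 2 = ⊥ := by
  have h1 : RingHom.ker (proj R S).toRingHom =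
      (E R S).ker.map (Ideal.Quotient.mk (J' R S)) := by
    ext t
    obtain ⟨p, rfl⟩ := Ideal.Quotient.mk_surjective t
    rw [RingHom.mem_ker]
    change algebraMap (E R S).Ring S p = 0 ↔ _
    constructor
    · intro h
      exact Ideal.mem_map_of_mem _ h
    · intro h
      rw [Ideal.mem_map_iff_of_surjective _ Ideal.Quotient.mk_surjective] at h
      obtain ⟨q, hq, hqp⟩ := h
      have : p - q ∈ J' R S := by
        rw [← Ideal.Quotient.eq]; exact hqp.symm
      have h2 := J'_le_ker R S this
      have h3 : algebraMap (E R S).Ring S (p - q) = 0 := h2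
      rw [map_sub, sub_eq_zero] at h3
      rw [h3]; exact hq
  rw [h1, ← Ideal.map_pow, eq_bot_iff]
  refine (Ideal.map_mono (ker_sq_le_J' R S)).trans ?_
  rw [Ideal.map_quotient_self]

end Split

section Universal

variable [Algebra.FormallyUnramified R S]
  {M : Type u} [AddCommGroup M] [Module S M]
  [Module (E R S).Ring M] [IsScalarTower (E R S).Ring S M] [Module R M]
  [IsScalarTower R (E R S).Ring M] [IsScalarTower R S M]

/-- the derivation attached to a linear form on the cotangent space. -/
noncomputable def derOfForm (ψ : (E R S).CotangentSpace →ₗ[S] M) : Derivation R (E R S).Ring M :=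
  ((ψ.restrictScalars (E R S).Ring) ∘ₗ
    (TensorProduct.mk (E R S).Ring S Ω[(E R S).Ring⁄R] 1)).compDer
      (KaehlerDifferential.D R (E R S).Ring)

theorem derOfForm_apply (ψ : (E R S).CotangentSpace →ₗ[S] M) (p : (E R S).Ring) :
    derOfForm R S ψ p = ψ (1 ⊗ₜ KaehlerDifferential.D R (E R S).Ring p) := rfl

theorem derOfForm_ker (ψ : (E R S).CotangentSpace →ₗ[S] M) (x : (E R S).ker) :
    derOfForm R S ψ x = ψ ((E R S).cotangentComplex (Cotangent.mk x)) := by
  rw [derOfForm_apply, cotangentComplex_mk]

/-- a derivation vanishing on `J'` vanishes. -/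
theorem der_eq_zero (D : Derivation R (E R S).Ring M) (hD : ∀ x ∈ J' R S, D x = 0) : D = 0 := by
  let ψ : (E R S).CotangentSpace →ₗ[S] M := LinearMap.liftBaseChange S D.liftKaehlerDifferential
  have hψ : ∀ p : (E R S).Ring, ψ (1 ⊗ₜ KaehlerDifferential.D R (E R S).Ring p) = D p := by
    intro p
    change (LinearMap.liftBaseChange S D.liftKaehlerDifferential) _ = _
    rw [LinearMap.liftBaseChange_tmul, one_smul, Derivation.liftKaehlerDifferential_comp_D]
  have h0 : ∀ ω, ψ ω = 0 := by
    intro ω
    obtain ⟨x, hx⟩ := Cotangent.mk_surjective (sigma R S ω)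
    have hxJ : (x : (E R S).Ring) ∈ J' R S := (mem_J' R S).mpr ⟨x.2, ω, hx.symm⟩
    rw [← cotangentComplex_sigma R S ω, ← hx, cotangentComplex_mk, hψ]
    exact hD _ hxJ
  ext p
  rw [← hψ, h0]
  rfl

variable (X : Exal.Ext R S M)

theorem exists_lift :
    ∃ s : (E R S).Ring →ₐ[R] X.E, ∀ r, X.proj (s r) = algebraMap (E R S).Ring S r := by
  choose y hy using X.isExtension.proj_surjective
  refine ⟨(MvPolynomial.aeval y : MvPolynomial S R →ₐ[R] X.E), fun r => ?_⟩
  have : X.proj.comp (MvPolynomial.aeval y : MvPolynomial S R →ₐ[R] X.E) =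
      IsScalarTower.toAlgHom R (E R S).Ring S := by
    apply MvPolynomial.algHom_ext
    intro b
    change X.proj (MvPolynomial.aeval y (MvPolynomial.X b)) =
      algebraMap (Algebra.Generators.self R S).Ring S (MvPolynomial.X b)
    rw [MvPolynomial.aeval_X, hy, Algebra.Generators.algebraMap_apply, MvPolynomial.aeval_X]
    rfl
  exact congrArg (fun f => f r) this

/-- **Universal property.** -/
theorem existsUnique_lift :
    ∃! b : S' R S →ₐ[R] X.E, ∀ t, X.proj (b t) = proj R S t := by
  obtain ⟨s₀, hs₀⟩ := exists_lift R S X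
  -- existence
  let w₀ : (E R S).Cotangent →ₗ[S] M := cotLift (E R S) (vOf X s₀ hs₀)
  let ψ : (E R S).CotangentSpace →ₗ[S] M := -(w₀ ∘ₗ sigma R S)
  let D := derOfForm R S ψ
  let s := addDer X s₀ hs₀ D
  have hs : ∀ r, X.proj (s r) = algebraMap (E R S).Ring S r := proj_addDer X s₀ hs₀ D
  have hkill : ∀ x ∈ J' R S, s x = 0 := by
    intro x hx
    obtain ⟨hxk, ω, hω⟩ := (mem_J' R S).mp hx
    have h1 : vOf X s hs ⟨x, hxk⟩ = 0 := by
      rw [vOf_addDer]
      change _ + derOfForm R S ψ ((⟨x, hxk⟩ : (E R S).ker) : (E R S).Ring) = 0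
      rw [derOfForm_ker, ← hω, cotangentComplex_sigma]
      change _ + -(w₀ (sigma R S ω)) = 0
      rw [hω]
      change _ + -(cotLift (E R S) (vOf X s₀ hs₀) (Cotangent.mk ⟨x, hxk⟩)) = 0
      rw [cotLift_mk, add_neg_cancel]
    have h2 := incl_vOf X s hs ⟨x, hxk⟩
    rw [h1, map_zero] at h2
    exact h2.symm
  refine ⟨Ideal.Quotient.liftₐ (J' R S) s hkill, ?_, ?_⟩
  · intro t
    obtain ⟨p, rfl⟩ := Ideal.Quotient.mk_surjective t
    exact hs p
  · intro b hb
    -- uniqueness
    let s₁ : (E R S).Ring →ₐ[R] X.E := b.comp (Ideal.Quotient.mkₐ R (J' R S))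
    have hs₁ : ∀ r, X.proj (s₁ r) = algebraMap (E R S).Ring S r := fun r => hb _
    have hkill₁ : ∀ x ∈ J' R S, s₁ x = 0 := by
      intro x hx
      change b (Ideal.Quotient.mk (J' R S) x) = 0
      rw [Ideal.Quotient.eq_zero_iff_mem.mpr hx, map_zero]
    have hD0 : derOf X s₁ hs₁ s hs = 0 := by
      apply der_eq_zero R S
      intro x hx
      apply X.isExtension.incl_injective
      rw [incl_derOf, hkill₁ x hx, hkill x hx, sub_zero, map_zero]
    apply AlgHom.ext
    intro t
    obtain ⟨p, rfl⟩ := Ideal.Quotient.mk_surjective t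
    have := incl_derOf X s₁ hs₁ s hs p
    rw [hD0] at this
    change b (Ideal.Quotient.mk (J' R S) p) = s p
    have h3 : s₁ p - s p = 0 := by rw [← this]; exact map_zero _
    exact sub_eq_zero.mp h3

end Universal

end Groth.Agent.Lib.UnivThick
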