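import Groth.Agent.Lib.H86Formal11
import Groth.Agent.Lib.H86ThickFpqc
import Groth.Agent.Lib.AlgSpFppfCover
import Groth.Agent.Lib.H69QuotPres
import Groth.Agent.S9731
import Groth.Agent.S9868
import Groth.Agent.S9869

/-!
# helper86: existence of the universal first order thickening of a formally unramified morphism of algebraic spaces
-/

set_option autoImplicit false
set_option linter.style.haveILetI false
universe u
open CategoryTheory CategoryTheory.Limits AlgebraicGeometry Opposite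

namespace Groth.Agent.Lib.H86Formal12
open AlgSp Groth.Agent.Lib.AlgSpBasic Groth.Agent.Lib.AlgSpLocP Groth.Agent.Lib.H86Formal
open Groth.Agent.Lib.H86Formal2 Groth.Agent.Lib.H86Formal3 Groth.Agent.Lib.H86Formal4
open Groth.Agent.Lib.H86Formal5 Groth.Agent.Lib.H90AlgSpInf Groth.Agent.Lib.H86Formal7
open Groth.Agent.Lib.H86Formal9 Groth.Agent.Lib.H86Formal10 Groth.Agent.Lib.H86Formal11

variable {S : Scheme.{u}}

set_option backward.isDefEq.respectTransparency false in
/-- A thickening of sheaves which is a first order thickening on one etale surjective chart has square zero kernel on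
all charts. -/
theorem affLocT_sqZero_of_chart {W W' : Sp S} {i : W ⟶ W'} (hi : IsThickMor i) {V'' V''₀ : Over S}
    (c : (yon S).obj V'' ⟶ W') (hce : RepWith @Etale c) (hcs : RepWith @Surjective c)
    (c₀ : (yon S).obj V''₀ ⟶ W) (s'' : V''₀ ⟶ V'') (sq2 : IsPullback c₀ ((yon S).map s'') i c)
    (hFO'' : MoreMor.IsFirstOrderThickening s''.left) : AffLocT sqZero i := by
  intro V V₀ γ γ₀ s _ _ sq
  change s.left.ker * s.left.ker = ⊥
  obtain ⟨V₁, p, γ₁', sq1⟩ := hce.1 γ
  obtain ⟨γ₁, rfl⟩ := (yon S).map_surjective γ₁'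
  haveI hpe : Etale p.left := hce.2 γ _ p sq1
  haveI hps : Surjective p.left := hcs.2 γ _ p sq1
  have hs : MoreMor.IsThickening s.left := hi.2 γ γ₀ s sq
  haveI : IsClosedImmersion s.left := hs.1
  -- the pullback of `s` along `p`
  have sqR := IsPullback.of_hasPullback s p
  have sqR₀ : IsPullback (pullback.snd s p).left (pullback.fst s p).left p.left s.left :=
    (sqR.map (Over.forget S)).flip
  have sqR' : IsPullback ((yon S).map (pullback.fst s p)) ((yon S).map (pullback.snd s p))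
      ((yon S).map s) ((yon S).map p) := sqR.map (yon S)
  have big : IsPullback ((yon S).map (pullback.fst s p) ≫ γ₀) ((yon S).map (pullback.snd s p)) i
      ((yon S).map p ≫ γ) := sqR'.paste_horiz sq
  rw [← sq1.w] at big
  have hcomm : ((yon S).map (pullback.fst s p) ≫ γ₀) ≫ i =
      ((yon S).map (pullback.snd s p) ≫ (yon S).map γ₁) ≫ c := by
    rw [big.w, Category.assoc]
  obtain ⟨ρ, hρ⟩ := (yon S).map_surjective
    (sq2.lift ((yon S).map (pullback.fst s p) ≫ γ₀)
      ((yon S).map (pullback.snd s p) ≫ (yon S).map γ₁) hcomm)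
  have hρ1 : (yon S).map ρ ≫ c₀ = (yon S).map (pullback.fst s p) ≫ γ₀ := by
    rw [hρ]; exact sq2.lift_fst _ _ _
  have hρ2 : (yon S).map ρ ≫ (yon S).map s'' =
      (yon S).map (pullback.snd s p) ≫ (yon S).map γ₁ := by
    rw [hρ]; exact sq2.lift_snd _ _ _
  rw [← hρ1] at big
  have left : IsPullback ((yon S).map ρ) ((yon S).map (pullback.snd s p)) ((yon S).map s'')
      ((yon S).map γ₁) := IsPullback.of_right big hρ2 sq2
  have left₀ : IsPullback ρ.left (pullback.snd s p).left s''.left γ₁.left :=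
    Groth.Agent.Lib.H86Thick.isPullback_left_of_yon left
  have hFO₁ : MoreMor.IsFirstOrderThickening (pullback.snd s p).left :=
    isFirstOrderThickening_of_isPullback left₀.flip hFO''
  have h2 : (pullback.snd s p).left.ker ^ 2 = ⊥ := by rw [pow_two]; exact hFO₁.2
  have := pow_ker_eq_bot_of_flat_surjective sqR₀ 2 h2
  rw [← pow_two]
  exact this

set_option backward.isDefEq.respectTransparency false in
set_option maxHeartbeats 1600000 in
/-- **Existence of the universal first order thickening** of a formally unramified morphism of algebraic spaces. -/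
theorem exists_isUnivFOThick {Z X : Sp S} (hZ : IsAlgSpace Z) (hX : IsAlgSpace X) (h : Z ⟶ X)
    (hh : IsFormallyUnramifiedMor h) :
    ∃ (Z' : Sp S) (_ : IsAlgSpace Z') (i : Z ⟶ Z') (h' : Z' ⟶ X), IsUnivFOThick h i h' := by
  obtain ⟨U, W, u, w, g, hue, hus, hwe, -, e⟩ := exists_surjective_chart hZ hX h
  haveI : FormallyUnramified g.left :=
    (locP_formallyUnramified_of_isFormallyUnramifiedMor h hh) u w g hue hwe e
  obtain ⟨U'sch, i, g', HU0⟩ := Groth.Agent.S9731.result g.left
  let U' : Over S := Over.mk (g' ≫ W.hom)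
  let iO : U ⟶ U' := Over.homMk i (by
    change i ≫ g' ≫ W.hom = U.hom
    rw [← Category.assoc, HU0.2.1, Over.w g])
  let g'O : U' ⟶ W := Over.homMk g' rfl
  have HU0' : OmegaSh.IsUnivThickening g.left iO.left g'O.left := HU0
  have hiO : MoreMor.IsFirstOrderThickening iO.left := HU0.1
  have HU1 := isUnivFOThick_yon_of_isUnivThickening g iO g'O HU0'
  have hwfe : IsFormallyEtaleMor w := isFormallyEtaleMor_of_repWith_etale w hwe
  have HU2 := isUnivFOThick_comp_formallyEtale ((yon S).map g) w ((yon S).map iO) ((yon S).map g'O)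
    HU1 hwfe
  rw [← e] at HU2
  set ρU' : (yon S).obj U' ⟶ X := (yon S).map g'O ≫ w with hρU'
  -- the relation `R = U ×_Z U`
  obtain ⟨R, s, t₀, sqR⟩ := hue.1 u
  obtain ⟨t, rfl⟩ := (yon S).map_surjective t₀
  have hs : Etale s.left := hue.2 _ _ s sqR
  have ht : Etale t.left := hue.2 _ _ t sqR.flip
  -- the two etale lifts of `R`
  obtain ⟨R₁, s', j₁, hs', sq₁⟩ := exists_etale_lift_over iO hiO.1.1 hiO.1.2 s hs
  obtain ⟨R₂, t', j₂, ht', sq₂⟩ := exists_etale_lift_over iO hiO.1.1 hiO.1.2 t ht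
  have sq₁' : IsPullback ((yon S).map s) ((yon S).map j₁) ((yon S).map iO) ((yon S).map s') :=
    Groth.Agent.Lib.AlgSpAffineSpace.isPullback_yon_of_left sq₁.flip
  have sq₂' : IsPullback ((yon S).map t) ((yon S).map j₂) ((yon S).map iO) ((yon S).map t') :=
    Groth.Agent.Lib.AlgSpAffineSpace.isPullback_yon_of_left sq₂.flip
  have HR₁ := isUnivFOThick_etale_baseChange (IsAlgSpace.yon_obj R₁) (IsAlgSpace.yon_obj U')
    ((yon S).map s) (u ≫ h) ((yon S).map iO) ρU' HU2 ((yon S).map j₁) ((yon S).map s')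
    ((isEtaleMor_yon_map_iff s').2 hs') sq₁'
  have HR₂ := isUnivFOThick_etale_baseChange (IsAlgSpace.yon_obj R₂) (IsAlgSpace.yon_obj U')
    ((yon S).map t) (u ≫ h) ((yon S).map iO) ρU' HU2 ((yon S).map j₂) ((yon S).map t')
    ((isEtaleMor_yon_map_iff t').2 ht') sq₂'
  have hts : (yon S).map t ≫ u ≫ h = (yon S).map s ≫ u ≫ h := by
    rw [← Category.assoc, sqR.w, Category.assoc]
  rw [hts] at HR₂
  obtain ⟨θ, θ', h1, h2, h3, h4⟩ := exists_iso_of_isUnivFOThick (IsAlgSpace.yon_obj R)
    (IsAlgSpace.yon_obj R₁) (IsAlgSpace.yon_obj R₂) _ _ _ _ _ HR₁ HR₂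
  obtain ⟨ϑ, rfl⟩ := (yon S).map_surjective θ
  obtain ⟨ϑ', rfl⟩ := (yon S).map_surjective θ'
  have e1 : ϑ ≫ ϑ' = 𝟙 _ := (yon S).map_injective (by rw [Functor.map_comp, h1, (yon S).map_id])
  have e2 : ϑ' ≫ ϑ = 𝟙 _ := (yon S).map_injective (by rw [Functor.map_comp, h2, (yon S).map_id])
  haveI : IsIso ϑ := ⟨ϑ', e1, e2⟩
  haveI : IsIso ϑ.left := inferInstance
  let t'' : R₁ ⟶ U' := ϑ ≫ t'
  have ht'' : Etale t''.left := by
    change Etale (ϑ.left ≫ t'.left)
    haveI := ht'
    infer_instance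
  haveI : IsIso ((yon S).map ϑ) := inferInstance
  have sqS : IsPullback ((yon S).map j₁) ((yon S).map s) ((yon S).map s') ((yon S).map iO) :=
    sq₁'.flip
  have sqT : IsPullback ((yon S).map j₁) ((yon S).map t) ((yon S).map t'') ((yon S).map iO) := by
    have sqθ : IsPullback ((yon S).map j₁) (𝟙 _) ((yon S).map ϑ) ((yon S).map j₂) :=
      IsPullback.of_vert_isIso ⟨by rw [h3, Category.id_comp]⟩
    have := sqθ.paste_vert sq₂'.flip
    rwa [Category.id_comp, ← Functor.map_comp] at this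
  have hρ : (yon S).map s' ≫ ρU' = (yon S).map t'' ≫ ρU' := by
    rw [Functor.map_comp, Category.assoc, h4]
  have hs'fe : IsFormallyEtaleMor ((yon S).map s') :=
    isFormallyEtaleMor_of_repWith_etale _ ((repWith_yon_map_iff _ _).2 hs')
  have hEq : IsEtaleEqvRel s' t'' :=
    isEtaleEqvRel h u ρU' iO s t s' t'' j₁ hiO HU2 sqR sqS sqT hρ HR₁ hs'fe hs' ht''
  -- the quotient
  have hZ' : IsAlgSpace (QuotSh.quot Scheme.fppfPrecoverage s' t'') :=
    Groth.Agent.S9868.result S s' t'' hEq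
  have hpres := Groth.Agent.S9869.result S s' t'' hEq hZ'
  set p' := Groth.Agent.Lib.H69QuotPres.quotMap s' t'' with hp'
  have hp'e : RepWith @Etale p' := hpres.etale
  have hp's : RepWith @Surjective p' := hpres.surjective
  have sqK' : IsPullback ((yon S).map t'') ((yon S).map s') p' p' := hpres.isPullback
  haveI : Epi p' := Groth.Agent.Lib.H69AlgSpColim.epi_of_etale_surjective p' hp'e hp's
  haveI : Epi u := Groth.Agent.Lib.H69AlgSpColim.epi_of_etale_surjective u hue hus
  obtain ⟨hZ'm, hhZ'⟩ := exists_desc_of_kernelPair p' _ _ sqK' ρU' hρ.symm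
  obtain ⟨iZ, hiZ⟩ := exists_desc_of_kernelPair u _ _ sqR ((yon S).map iO ≫ p') (by
    rw [← Category.assoc, ← sqT.w, Category.assoc, sqK'.w, ← Category.assoc, sqS.w, Category.assoc])
  have w' : iZ ≫ hZ'm = h := by
    rw [← cancel_epi u, ← Category.assoc, hiZ, Category.assoc, hhZ', HU2.2.1]
  haveI : Mono ((yon S).map iO) := mono_yon_map iO hiO.1.1
  have sqD : IsPullback u ((yon S).map iO) iZ p' :=
    isPullback_of_cartesian_relation u p' ((yon S).map iO) iZ hiZ _ _ _ _ ((yon S).map j₁) sqR sqK'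
      sqS sqT
  -- `iZ` is a first order thickening
  have hthick : IsThickMor iZ := by
    have hloc := Groth.Agent.Lib.H86ThickFpqc.isLocalOnBase_fpqc_isThickMor (S := S)
      (fun _ : PUnit.{u + 1} => (yon S).obj U') (fun _ => p') hZ' (fun _ => IsAlgSpace.yon_obj U')
      (Groth.Agent.Lib.AlgSpFpqc.isFpqcCover_of_etale_surjective_chart hZ' hp'e hp's) iZ hZ
      (fun _ => (yon S).obj U) (fun _ => (yon S).map iO) (fun _ => u)
      (fun _ => IsAlgSpace.yon_obj U) (fun _ => sqD)
    exact hloc.2 fun _ => (isThickMor_yon_map_iff iO).2 hiO.1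
  have hFO : IsFOThickMor iZ :=
    ⟨hthick, affLocT_sqZero_of_chart hthick p' hp'e hp's u iO sqD hiO⟩
  refine ⟨_, hZ', iZ, hZ'm, ?_⟩
  refine Groth.Agent.Lib.H86Formal6.isUnivFOThick_of_etale_cover (IsAlgSpace.yon_obj U') hZ' u h
    ((yon S).map iO) iZ p' (isEtaleMor_of_repWith_etale hp'e) hiZ.symm hZ'm w' ?_
    (IsAlgSpace.yon_obj U) hZ (isEtaleMor_of_repWith_etale hue)
    (Groth.Agent.Lib.AlgSpQC.surjective_map_of_repWith_surjective hus) hFO
  rw [hhZ']
  exact HU2

end Groth.Agent.Lib.H86Formal12
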