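import Groth.Agent.Lib.H86Formal6

/-!
# helper86: formally smooth morphisms of sheaves lift along arbitrary first order thickenings of affine schemes;
etale-local lifts for `b` when `a ≫ b` is formally smooth with `a` representable etale surjective.
-/

set_option autoImplicit false
set_option linter.style.haveILetI false
universe u
open CategoryTheory CategoryTheory.Limits AlgebraicGeometry Opposite

namespace Groth.Agent.Lib.H86FormalSm
open AlgSp Groth.Agent.Lib.AlgSpBasic Groth.Agent.Lib.AlgSpLocP Groth.Agent.Lib.H86Formal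
open Groth.Agent.Lib.H86Formal2 Groth.Agent.Lib.H86Formal3 Groth.Agent.Lib.H86Formal4
open Groth.Agent.Lib.H90AlgSpInf Groth.Agent.Lib.H86Formal6

variable {S : Scheme.{u}}

/-- A formally smooth morphism of sheaves has the lifting property against every first order thickening of schemes over
`S` with affine target. -/
theorem exists_lift_of_isFormallySmoothMor {F G : Sp S} (f : F ⟶ G) (hf : IsFormallySmoothMor f)
    {W₀ W : Over S} (q : W₀ ⟶ W) (hW : IsAffine W.left) (hq : MoreMor.IsFirstOrderThickening q.left)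
    (top : (yon S).obj W₀ ⟶ F) (bot : (yon S).obj W ⟶ G) (comm : top ≫ f = (yon S).map q ≫ bot) :
    ∃ l : (yon S).obj W ⟶ F, (yon S).map q ≫ l = top ∧ l ≫ f = bot := by
  obtain ⟨A, _, I, hI, str, E, Φ, hEΦ⟩ := exists_infSq_form q hW hq
  let sq' : InfSq f :=
    { A := A
      I := I
      sq_zero := hI
      str := str
      top := (yon S).map E.hom ≫ top
      bot := (yon S).map Φ.hom ≫ bot
      comm := by
        rw [Category.assoc, comm, ← Category.assoc, ← Functor.map_comp, ← hEΦ, Functor.map_comp,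
          Category.assoc] }
  obtain ⟨l₀, hl1, hl2⟩ := hf sq'
  refine ⟨(yon S).map Φ.inv ≫ l₀, ?_, ?_⟩
  · have e1 : q ≫ Φ.inv = E.inv ≫ sq'.j := by
      rw [Iso.eq_inv_comp, ← Category.assoc, ← hEΦ, Category.assoc, Iso.hom_inv_id, Category.comp_id]
    rw [← Category.assoc, ← Functor.map_comp, e1, Functor.map_comp, Category.assoc, hl1]
    change (yon S).map E.inv ≫ (yon S).map E.hom ≫ top = top
    rw [← Category.assoc, ← Functor.map_comp, Iso.inv_hom_id, (yon S).map_id, Category.id_comp]
  · rw [Category.assoc, hl2]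
    change (yon S).map Φ.inv ≫ (yon S).map Φ.hom ≫ bot = bot
    rw [← Category.assoc, ← Functor.map_comp, Iso.inv_hom_id, (yon S).map_id, Category.id_comp]

set_option backward.isDefEq.respectTransparency false in
/-- **Etale-local lifts.**  If `a : F ⟶ G` is representable etale surjective and `a ≫ b` is formally smooth, then every
lifting problem for `b` against a first order thickening `q : W₀ ⟶ W` of schemes over `S` has a solution on an affine
etale neighbourhood of any given point of `W`. -/
theorem exists_etale_local_lift {F G H : Sp S} (a : F ⟶ G) (b : G ⟶ H) (ha : RepWith @Etale a)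
    (ha' : RepWith @Surjective a) (hab : IsFormallySmoothMor (a ≫ b)) {W₀ W : Over S} (q : W₀ ⟶ W)
    (hq : MoreMor.IsFirstOrderThickening q.left) (top : (yon S).obj W₀ ⟶ G) (bot : (yon S).obj W ⟶ H)
    (comm : top ≫ b = (yon S).map q ≫ bot) (t : ↥W.left) :
    ∃ (U' : Over S) (g : U' ⟶ W) (l : (yon S).obj U' ⟶ G),
      IsAffine U'.left ∧ Etale g.left ∧ (∃ u : ↥U'.left, g.left u = t) ∧
        l ≫ b = (yon S).map g ≫ bot ∧
          ∀ (V : Over S) (p : V ⟶ W₀) (r : V ⟶ U'), p ≫ q = r ≫ g →
            (yon S).map r ≫ l = (yon S).map p ≫ top := by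
  obtain ⟨κ, VO, V₀, c, pr₁, pr₂, μ, hc, hsurj, -, sqV, hμ⟩ := exists_local_lifts a ha ha' q hq top
  obtain ⟨k, v, hv⟩ := hsurj t
  obtain ⟨_, ⟨W', hW', rfl⟩, hvW, -⟩ :=
    (VO k).left.isBasis_affineOpens.exists_subset_of_mem_open (Set.mem_univ v) isOpen_univ
  replace hW' : IsAffineOpen (W' : (VO k).left.Opens) := hW'
  set W'' : (VO k).left.Opens := W' with hW''
  let U' : Over S := Over.mk (W''.ι ≫ (VO k).hom)
  let o : U' ⟶ VO k := Over.homMk W''.ι rfl
  have hP := IsPullback.of_hasPullback (pr₁ k) o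
  have hPy := hP.map (yon S)
  have hbig : IsPullback ((yon S).map (pullback.fst (pr₁ k) o ≫ pr₂ k))
      ((yon S).map (pullback.snd (pr₁ k) o)) ((yon S).map q) ((yon S).map (o ≫ c k)) := by
    rw [Functor.map_comp, Functor.map_comp]
    exact hPy.paste_horiz (sqV k)
  have hbig₀ := Groth.Agent.Lib.H86Thick.isPullback_left_of_yon hbig
  have hFO : MoreMor.IsFirstOrderThickening (pullback.snd (pr₁ k) o).left :=
    isFirstOrderThickening_of_isPullback hbig₀.flip hq
  haveI : IsAffine U'.left := hW'
  have comm' : ((yon S).map (pullback.fst (pr₁ k) o) ≫ μ k) ≫ a ≫ b =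
      (yon S).map (pullback.snd (pr₁ k) o) ≫ (yon S).map (o ≫ c k) ≫ bot := by
    rw [Category.assoc, ← Category.assoc (μ k), hμ k, Category.assoc, comm, ← Category.assoc,
      ← Category.assoc, ← Functor.map_comp, ← Category.assoc, hbig.w]
  obtain ⟨l', hl1, hl2⟩ := exists_lift_of_isFormallySmoothMor (a ≫ b) hab
    (pullback.snd (pr₁ k) o) hW' hFO _ _ comm'
  haveI : Etale (c k).left := hc k
  refine ⟨U', o ≫ c k, l' ≫ a, hW', ?_, ⟨⟨v, hvW⟩, hv⟩, ?_, ?_⟩
  · change Etale (W''.ι ≫ (c k).left)
    infer_instance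
  · rw [Category.assoc, hl2]
  · intro V p r hpr
    have e : (yon S).map p ≫ (yon S).map q = (yon S).map r ≫ (yon S).map (o ≫ c k) := by
      rw [← Functor.map_comp, ← Functor.map_comp, hpr]
    have h1 := hbig.lift_fst _ _ e
    have h2 := hbig.lift_snd _ _ e
    rw [← h2, Category.assoc, ← Category.assoc _ l', hl1, Category.assoc, hμ k,
      ← Category.assoc ((yon S).map _) ((yon S).map _), ← Functor.map_comp, ← Category.assoc, h1]

end Groth.Agent.Lib.H86FormalSm
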