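import Groth.Agent.Lib.H86GlueFP

/-!
# helper86: local infinitesimal lifts along a first order thickening of an affine scheme glue
(for a target locally of finite presentation).
-/

set_option autoImplicit false
set_option linter.style.haveILetI false
universe u
open CategoryTheory CategoryTheory.Limits AlgebraicGeometry Opposite

namespace Groth.Agent.Lib.H86GlueLift
open Groth.Agent.Lib.H86GlueFP Groth.Agent.Lib.H86GlueAlg

/-- A closed immersion whose kernel has square zero is surjective. -/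
theorem surjective_of_sqZero {V₀ V : Scheme.{u}} (s : V₀ ⟶ V) [IsClosedImmersion s]
    (h : s.ker * s.ker = ⊥) : Surjective s := by
  have h1 : s.ker.support = ⊤ := by
    have := congrArg Scheme.IdealSheafData.support h
    rwa [Scheme.IdealSheafData.support_mul, Scheme.IdealSheafData.support_bot, sup_idem] at this
  have h2 := Scheme.Hom.support_ker s
  rw [h1] at h2
  have h3 : Set.range s = Set.univ := by
    rw [← (s.isClosedEmbedding.isClosed_range).closure_eq, ← h2]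
    rfl
  exact ⟨fun y => by rw [← Set.mem_range, h3]; trivial⟩

/-- A first order thickening of an affine scheme is affine. -/
theorem isAffine_of_isFirstOrderThickening {T₀ T : Scheme.{u}} (i : T₀ ⟶ T) [IsAffine T₀]
    (hi : MoreMor.IsFirstOrderThickening i) : IsAffine T := by
  haveI : IsClosedImmersion i := hi.1.1
  exact Groth.Agent.Lib.ThickAffine.isAffine_of_isClosedImmersion_of_surjective i hi.1.2.surj

/-- Kernel of the global sections of a first order thickening with affine target. -/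
theorem ker_appTop_sq {T₀ T : Scheme.{u}} (i : T₀ ⟶ T) [IsAffine T]
    (hi : MoreMor.IsFirstOrderThickening i) (x y : Γ(T, ⊤)) (hx : i.appTop.hom x = 0)
    (hy : i.appTop.hom y = 0) : x * y = 0 := by
  have h := (Groth.Agent.Lib.H4FirstOrderBC.ker_mul_ker_eq_bot_iff_of_isAffine i).1 hi.2
  have : x * y ∈ RingHom.ker i.appTop.hom * RingHom.ker i.appTop.hom := Ideal.mul_mem_mul hx hy
  rw [h] at this
  exact this

/-- Morphisms between affine schemes from ring maps: a retraction. -/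
theorem exists_hom_of_ringHom {T₀ T N : Scheme.{u}} [IsAffine T₀] [IsAffine T] [IsAffine N]
    (i : T₀ ⟶ T) (iN : T₀ ⟶ N) (πN : N ⟶ T)
    (σ : Γ(N, ⊤) →+* Γ(T, ⊤)) (h1 : σ.comp πN.appTop.hom = RingHom.id _)
    (h2 : i.appTop.hom.comp σ = iN.appTop.hom) :
    ∃ ν : T ⟶ N, ν ≫ πN = 𝟙 T ∧ i ≫ ν = iN := by
  refine ⟨T.isoSpec.hom ≫ Spec.map (CommRingCat.ofHom σ) ≫ N.isoSpec.inv, ?_, ?_⟩
  · rw [Category.assoc, Category.assoc, ← Scheme.isoSpec_inv_naturality, ← Spec.map_comp_assoc]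
    have : πN.appTop ≫ CommRingCat.ofHom σ = 𝟙 _ := by
      ext x
      exact congrArg (fun f : Γ(T, ⊤) →+* Γ(T, ⊤) => f x) h1
    rw [this, Spec.map_id, Category.id_comp, Iso.hom_inv_id]
  · rw [← Category.assoc, ← Scheme.isoSpec_hom_naturality, Category.assoc, ← Spec.map_comp_assoc]
    have : CommRingCat.ofHom σ ≫ i.appTop = iN.appTop := by
      ext x
      exact congrArg (fun f : Γ(N, ⊤) →+* Γ(T₀, ⊤) => f x) h2
    rw [this, Scheme.isoSpec_inv_naturality, Iso.hom_inv_id_assoc]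

/-- Ring data attached to a local lift on a basic open. -/
theorem exists_local_ring_data {T₀ T N : Scheme.{u}} [IsAffine T]
    (i : T₀ ⟶ T) [IsClosedImmersion i] (iN : T₀ ⟶ N) (πN : N ⟶ T) (g : Γ(T, ⊤))
    (ν : (T.basicOpen g : Scheme.{u}) ⟶ N) (h1 : ν ≫ πN = (T.basicOpen g).ι)
    (h2 : (i ∣_ T.basicOpen g) ≫ ν = (i ⁻¹ᵁ T.basicOpen g).ι ≫ iN) :
    ∃ (Ag : Type u) (_ : CommRing Ag) (_ : Algebra Γ(T, ⊤) Ag) (_ : IsLocalization.Away g Ag)
      (σ : Γ(N, ⊤) →+* Ag), σ.comp πN.appTop.hom = algebraMap Γ(T, ⊤) Ag ∧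
        ∀ k, iN.appTop.hom k = 0 →
          σ k ∈ (RingHom.ker i.appTop.hom).map (algebraMap Γ(T, ⊤) Ag) := by
  have hDaff : IsAffineOpen (T.basicOpen g) := (isAffineOpen_top T).basicOpen g
  haveI : IsLocalization.Away g Γ(T, T.basicOpen g) :=
    (isAffineOpen_top T).isLocalization_basicOpen g
  refine ⟨Γ(T, T.basicOpen g), inferInstance, inferInstance, inferInstance,
    (ν.appTop ≫ (T.basicOpen g).topIso.hom).hom, ?_, ?_⟩
  · have e1 : πN.appTop ≫ ν.appTop = (T.basicOpen g).ι.appTop := by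
      rw [← Scheme.Hom.comp_appTop, h1]
    have e2 : (T.basicOpen g).ι.appTop ≫ (T.basicOpen g).topIso.hom =
        T.presheaf.map (homOfLE (T.basicOpen_le g)).op := by
      exact (T.presheaf.map_comp _ _).symm
    have e3 : πN.appTop ≫ ν.appTop ≫ (T.basicOpen g).topIso.hom =
        T.presheaf.map (homOfLE (T.basicOpen_le g)).op := by
      rw [← Category.assoc, e1, e2]
    ext x
    exact congrArg (fun f : Γ(T, ⊤) ⟶ Γ(T, T.basicOpen g) => f.hom x) e3
  · intro k hk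
    -- the section `σ k` dies on `T₀`
    have e4 : ν.appTop ≫ (i ∣_ T.basicOpen g).appTop =
        iN.appTop ≫ (i ⁻¹ᵁ T.basicOpen g).ι.appTop := by
      rw [← Scheme.Hom.comp_appTop, ← Scheme.Hom.comp_appTop, h2]
    have e5 : (i ∣_ T.basicOpen g).appTop.hom (ν.appTop.hom k) = 0 := by
      have := congrArg (fun f : Γ(N, ⊤) ⟶ Γ(↑(i ⁻¹ᵁ T.basicOpen g), ⊤) => f.hom k) e4
      simp only [CommRingCat.hom_comp, RingHom.comp_apply] at this
      rw [this, hk, map_zero]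
    have e6 : (i ∣_ T.basicOpen g).appTop = (T.basicOpen g).topIso.hom ≫ i.app (T.basicOpen g) ≫
        (i ⁻¹ᵁ T.basicOpen g).topIso.inv := by
      rw [← Scheme.Hom.resLE_eq_morphismRestrict, Scheme.Hom.appTop, Scheme.Hom.resLE_app_top,
        Scheme.Hom.appLE_eq_app]
    have e7 : (i.app (T.basicOpen g)).hom
        (((T.basicOpen g).topIso.hom).hom (ν.appTop.hom k)) = 0 := by
      rw [e6] at e5
      simp only [CommRingCat.hom_comp, RingHom.comp_apply] at e5
      have hinj : Function.Injective ((i ⁻¹ᵁ T.basicOpen g).topIso.inv).hom :=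
        (ConcreteCategory.bijective_of_isIso ((i ⁻¹ᵁ T.basicOpen g).topIso.inv)).1
      exact hinj (by rw [e5, map_zero])
    have k1 := Scheme.Hom.ker_apply i ⟨T.basicOpen g, hDaff⟩
    have k2 := Scheme.Hom.ker_apply i ⟨⊤, isAffineOpen_top T⟩
    have k3 := Scheme.IdealSheafData.map_ideal i.ker (U := ⟨T.basicOpen g, hDaff⟩)
      (V := ⟨⊤, isAffineOpen_top T⟩) (le_top (a := T.basicOpen g))
    have k4 : ((T.basicOpen g).topIso.hom).hom (ν.appTop.hom k) ∈
        i.ker.ideal ⟨T.basicOpen g, hDaff⟩ := by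
      rw [k1]
      exact e7
    rw [← k3, k2] at k4
    exact k4

set_option backward.isDefEq.respectTransparency false in
/-- **Gluing local infinitesimal lifts (basic open version).**  For `f` locally of finite presentation and a first
order thickening `i : T₀ ⟶ T` of an affine scheme, lifts of `a : T ⟶ S` extending `a₀ : T₀ ⟶ X` which exist on basic
opens covering `T` can be replaced by a global lift. -/
theorem exists_lift_of_basicOpen_lifts {S X T T₀ : Scheme.{u}} (f : X ⟶ S)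
    [LocallyOfFinitePresentation f] (i : T₀ ⟶ T) [IsAffine T₀]
    (hi : MoreMor.IsFirstOrderThickening i) (a : T ⟶ S) (a₀ : T₀ ⟶ X) (hsqr : a₀ ≫ f = i ≫ a)
    (s : Set Γ(T, ⊤)) (hs : Ideal.span s = ⊤)
    (H : ∀ g ∈ s, ∃ b : (T.basicOpen g : Scheme.{u}) ⟶ X, b ≫ f = (T.basicOpen g).ι ≫ a ∧
        (i ∣_ T.basicOpen g) ≫ b = (i ⁻¹ᵁ T.basicOpen g).ι ≫ a₀) :
    ∃ b' : T ⟶ X, b' ≫ f = a ∧ i ≫ b' = a₀ := by
  haveI : IsClosedImmersion i := hi.1.1
  haveI : IsAffine T := isAffine_of_isFirstOrderThickening i hi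
  -- the fibre product and the section
  let pr₁ : pullback f a ⟶ X := pullback.fst f a
  let pr₂ : pullback f a ⟶ T := pullback.snd f a
  let s₀ : T₀ ⟶ pullback f a := pullback.lift a₀ i hsqr
  have hs₀1 : s₀ ≫ pr₁ = a₀ := pullback.lift_fst _ _ _
  have hs₀2 : s₀ ≫ pr₂ = i := pullback.lift_snd _ _ _
  haveI : FormallyUnramified (s₀ ≫ pr₂) := by rw [hs₀2]; infer_instance
  haveI : FormallyUnramified s₀ := FormallyUnramified.of_comp s₀ pr₂
  obtain ⟨N, iN, h', hu⟩ := Groth.Agent.S9731.result s₀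
  haveI : IsAffine N := isAffine_of_isFirstOrderThickening iN hu.1
  have hiNh' : iN ≫ h' = s₀ := hu.2.1
  let πN : N ⟶ T := h' ≫ pr₂
  have hπ : iN ≫ πN = i := by rw [← Category.assoc, hiNh', hs₀2]
  suffices hν : ∃ ν : T ⟶ N, ν ≫ πN = 𝟙 T ∧ i ≫ ν = iN by
    obtain ⟨ν, hν1, hν2⟩ := hν
    refine ⟨ν ≫ h' ≫ pr₁, ?_, ?_⟩
    · rw [Category.assoc, Category.assoc, pullback.condition, ← Category.assoc h',
        ← Category.assoc ν, hν1, Category.id_comp]
    · rw [← Category.assoc, hν2, ← Category.assoc, hiNh', hs₀1]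
  -- the finiteness package: base change to `T₀`
  let g₀ : pullback pr₂ i ⟶ pullback f a := pullback.fst pr₂ i
  let r₀ : pullback pr₂ i ⟶ T₀ := pullback.snd pr₂ i
  let sb : T₀ ⟶ pullback pr₂ i := pullback.lift s₀ (𝟙 T₀) (by rw [hs₀2, Category.id_comp])
  have hsb1 : sb ≫ g₀ = s₀ := pullback.lift_fst _ _ _
  have hsb2 : sb ≫ r₀ = 𝟙 T₀ := pullback.lift_snd _ _ _
  have hpb₀ : IsPullback sb (𝟙 T₀) g₀ s₀ := by
    have h2 : IsPullback sb (𝟙 _) (𝟙 _) sb := IsPullback.of_vert_isIso ⟨by simp⟩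
    have := h2.paste_horiz (IsKernelPair.id_of_mono g₀)
    simpa [hsb1] using this
  have hu₀ := Groth.Agent.S9733.result sb (𝟙 T₀) g₀ s₀ hpb₀ iN h' hu
  let j₀ : T₀ ⟶ pullback g₀ h' :=
    pullback.lift sb (𝟙 T₀ ≫ iN) (hpb₀.w.trans (congrArg (𝟙 T₀ ≫ ·) hu.2.1).symm)
  let h₀ : pullback g₀ h' ⟶ pullback pr₂ i := pullback.fst g₀ h'
  let k₀ : pullback g₀ h' ⟶ N := pullback.snd g₀ h'
  have hj₀k₀ : j₀ ≫ k₀ = iN := by
    have : j₀ ≫ k₀ = 𝟙 T₀ ≫ iN := pullback.lift_snd _ _ _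
    rw [this, Category.id_comp]
  haveI : IsAffine (pullback g₀ h') := isAffine_of_isFirstOrderThickening j₀ hu₀.1
  haveI hfp : LocallyOfFinitePresentation (h₀ ≫ r₀) :=
    locallyOfFinitePresentation_of_isUnivThickening_section r₀ sb hsb2 j₀ h₀ hu₀
  have hψ : (h₀ ≫ r₀).appTop.hom.FinitePresentation :=
    (HasRingHomProperty.iff_of_isAffine (P := @LocallyOfFinitePresentation)).1 hfp
  have hsq : IsPullback k₀ (h₀ ≫ r₀) πN i := by
    have hA : IsPullback h₀ k₀ g₀ h' := IsPullback.of_hasPullback g₀ h'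
    have hB : IsPullback r₀ g₀ i pr₂ := (IsPullback.of_hasPullback pr₂ i).flip
    exact (hA.paste_horiz hB).flip
  have hpo := isPushout_appTop_of_isPullback hsq
  -- ring data
  have hq : Function.Surjective i.appTop.hom :=
    (IsClosedImmersion.isAffine_surjective_of_isAffine i).2
  have hr : Function.Surjective k₀.appTop.hom :=
    (IsClosedImmersion.isAffine_surjective_of_isAffine k₀).2
  have hpq : iN.appTop.hom.comp πN.appTop.hom = i.appTop.hom := by
    rw [← CommRingCat.hom_comp, ← Scheme.Hom.comp_appTop, hπ]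
  have hrφ : k₀.appTop.hom.comp πN.appTop.hom = (h₀ ≫ r₀).appTop.hom.comp i.appTop.hom := by
    rw [← CommRingCat.hom_comp, ← CommRingCat.hom_comp, hpo.w]
  have hεr : j₀.appTop.hom.comp k₀.appTop.hom = iN.appTop.hom := by
    rw [← CommRingCat.hom_comp, ← Scheme.Hom.comp_appTop, hj₀k₀]
  have hker : ∀ c, k₀.appTop.hom c = 0 →
      c ∈ (RingHom.ker i.appTop.hom).map πN.appTop.hom := by
    intro c hc
    let 𝔞 : Ideal Γ(N, ⊤) := (RingHom.ker i.appTop.hom).map πN.appTop.hom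
    let m : Γ(N, ⊤) ⟶ CommRingCat.of (Γ(N, ⊤) ⧸ 𝔞) := CommRingCat.ofHom (Ideal.Quotient.mk 𝔞)
    have hle : RingHom.ker i.appTop.hom ≤
        RingHom.ker ((Ideal.Quotient.mk 𝔞).comp πN.appTop.hom) := by
      intro x hx
      rw [RingHom.mem_ker, RingHom.comp_apply, Ideal.Quotient.eq_zero_iff_mem]
      exact Ideal.mem_map_of_mem _ hx
    let n : Γ(T₀, ⊤) ⟶ CommRingCat.of (Γ(N, ⊤) ⧸ 𝔞) := CommRingCat.ofHom
      (i.appTop.hom.liftOfSurjective hq ⟨(Ideal.Quotient.mk 𝔞).comp πN.appTop.hom, hle⟩)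
    have w : πN.appTop ≫ m = i.appTop ≫ n := by
      ext x
      change (Ideal.Quotient.mk 𝔞) (πN.appTop.hom x) =
        (i.appTop.hom.liftOfSurjective hq ⟨(Ideal.Quotient.mk 𝔞).comp πN.appTop.hom, hle⟩)
          (i.appTop.hom x)
      exact (RingHom.liftOfRightInverse_comp_apply i.appTop.hom (Function.surjInv hq)
        (Function.rightInverse_surjInv hq) ⟨(Ideal.Quotient.mk 𝔞).comp πN.appTop.hom, hle⟩ x).symm
    have h1 : k₀.appTop ≫ hpo.desc m n w = m := hpo.inl_desc m n w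
    have h2 : m.hom c = 0 := by
      rw [← h1]
      change (hpo.desc m n w).hom (k₀.appTop.hom c) = 0
      rw [hc, map_zero]
    exact Ideal.Quotient.eq_zero_iff_mem.1 h2
  -- local retractions from the local lifts
  have Hloc : ∀ g ∈ s, ∃ (Ag : Type u) (_ : CommRing Ag) (_ : Algebra Γ(T, ⊤) Ag)
      (_ : IsLocalization.Away g Ag) (σ : Γ(N, ⊤) →+* Ag),
      σ.comp πN.appTop.hom = algebraMap Γ(T, ⊤) Ag ∧
        ∀ k, iN.appTop.hom k = 0 →
          σ k ∈ (RingHom.ker i.appTop.hom).map (algebraMap Γ(T, ⊤) Ag) := by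
    intro g hg
    obtain ⟨b, hb1, hb2⟩ := H g hg
    let bs : (T.basicOpen g : Scheme.{u}) ⟶ pullback f a := pullback.lift b (T.basicOpen g).ι hb1
    have hFO : MoreMor.IsFirstOrderThickening (i ∣_ T.basicOpen g) :=
      Groth.Agent.Lib.H4FirstOrderBC.isFirstOrderThickening_of_isPullback
        (isPullback_morphismRestrict i (T.basicOpen g)) hi
    have hcomm : (i ∣_ T.basicOpen g) ≫ bs = (i ⁻¹ᵁ T.basicOpen g).ι ≫ s₀ := by
      apply pullback.hom_ext
      · rw [Category.assoc, Category.assoc, pullback.lift_fst, hb2]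
        exact congrArg (_ ≫ ·) hs₀1.symm
      · rw [Category.assoc, Category.assoc, pullback.lift_snd, morphismRestrict_ι]
        exact congrArg (_ ≫ ·) hs₀2.symm
    obtain ⟨ν, ⟨hν1, hν2⟩, -⟩ := hu.2.2 _ _ (i ∣_ T.basicOpen g) bs (i ⁻¹ᵁ T.basicOpen g).ι hFO hcomm
    refine exists_local_ring_data i iN πN g ν ?_ hν1
    rw [← Category.assoc, hν2]
    exact pullback.lift_snd _ _ _
  obtain ⟨σ, hσ1, hσ2⟩ := exists_ringHom_retraction πN.appTop.hom iN.appTop.hom i.appTop.hom hpq hq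
    (ker_appTop_sq i hi) (ker_appTop_sq iN hu.1) (h₀ ≫ r₀).appTop.hom k₀.appTop.hom j₀.appTop.hom
    hψ hr hker hrφ hεr s hs Hloc
  exact exists_hom_of_ringHom i iN πN σ hσ1 hσ2

/-- Restriction of a morphism to opens is compatible with the inclusions of opens. -/
theorem morphismRestrict_comp_homOfLE {T₀ T : Scheme.{u}} (i : T₀ ⟶ T) {D U : T.Opens} (hle : D ≤ U) :
    (i ∣_ D) ≫ T.homOfLE hle =
      T₀.homOfLE (show i ⁻¹ᵁ D ≤ i ⁻¹ᵁ U from fun _ hx => hle hx) ≫ (i ∣_ U) := by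
  rw [← Scheme.Hom.resLE_eq_morphismRestrict, ← Scheme.Hom.resLE_eq_morphismRestrict,
    Scheme.Hom.resLE_map, Scheme.Hom.map_resLE]

/-- The kernel ideal sheaf has square zero if it does so on all affine opens. -/
theorem ker_mul_ker_eq_bot {T₀ T : Scheme.{u}} (i : T₀ ⟶ T) [IsClosedImmersion i]
    (hsq : ∀ (U : T.affineOpens) (x y : Γ(T, U.1)),
      x ∈ RingHom.ker (i.app U.1).hom → y ∈ RingHom.ker (i.app U.1).hom → x * y = 0) :
    i.ker * i.ker = ⊥ := by
  ext U : 2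
  rw [Scheme.IdealSheafData.ideal_mul, Pi.mul_apply, Scheme.IdealSheafData.ideal_bot, Pi.bot_apply,
    Scheme.Hom.ker_apply, eq_bot_iff, Ideal.mul_le]
  intro x hx y hy
  exact hsq U x y hx hy

/-- **Gluing local infinitesimal lifts.** -/
theorem exists_lift_of_local_lifts {S X T T₀ : Scheme.{u}} (f : X ⟶ S)
    [LocallyOfFinitePresentation f] (i : T₀ ⟶ T) [IsAffine T₀]
    (hi : MoreMor.IsFirstOrderThickening i) (a : T ⟶ S) (a₀ : T₀ ⟶ X) (hsqr : a₀ ≫ f = i ≫ a)
    (ι : Type u) (U : ι → T.Opens) (hU : iSup U = ⊤) (b : ∀ j, (↑(U j) : Scheme.{u}) ⟶ X)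
    (hb₁ : ∀ j, b j ≫ f = (U j).ι ≫ a)
    (hb₂ : ∀ j, (i ∣_ U j) ≫ b j = (i ⁻¹ᵁ U j).ι ≫ a₀) :
    ∃ b' : T ⟶ X, b' ≫ f = a ∧ i ≫ b' = a₀ := by
  haveI : IsAffine T := isAffine_of_isFirstOrderThickening i hi
  let s : Set Γ(T, ⊤) := {g | ∃ j, T.basicOpen g ≤ U j}
  have hs : Ideal.span s = ⊤ := by
    rw [← (isAffineOpen_top T).self_le_iSup_basicOpen_iff]
    intro t _
    have htU : t ∈ iSup U := by rw [hU]; trivial
    obtain ⟨j, hj⟩ := TopologicalSpace.Opens.mem_iSup.1 htU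
    obtain ⟨_, ⟨_, ⟨g, rfl⟩, rfl⟩, htg, hgU⟩ :=
      (isBasis_basicOpen T).exists_subset_of_mem_open hj (U j).isOpen
    exact TopologicalSpace.Opens.mem_iSup.2 ⟨⟨g, j, hgU⟩, htg⟩
  refine exists_lift_of_basicOpen_lifts f i hi a a₀ hsqr s hs ?_
  rintro g ⟨j, hle⟩
  refine ⟨T.homOfLE hle ≫ b j, ?_, ?_⟩
  · rw [Category.assoc, hb₁, Scheme.homOfLE_ι_assoc]
  · rw [← Category.assoc, morphismRestrict_comp_homOfLE, Category.assoc, hb₂,
      Scheme.homOfLE_ι_assoc]

end Groth.Agent.Lib.H86GlueLift
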