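import Groth.Agent.S1489

/-!
# Local lifts against square-zero thickenings for smooth morphisms (helper86)

Smooth analogue of `Groth.Agent.S1489.exists_localLift`.
-/

set_option autoImplicit false
universe u

namespace Groth.Agent.Lib.H86SmoothLocalLift

open AlgebraicGeometry CategoryTheory Limits
open Groth.Agent.S1489

section forward

variable {X Y : Scheme.{u}} (f : X ⟶ Y) {A : Type u} [CommRing A] (I : Ideal A)
  (a : Spec (CommRingCat.of (A ⧸ I)) ⟶ X) (b : Spec (CommRingCat.of A) ⟶ Y)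

lemma exists_localLift_smooth [Smooth f] (hI : I ^ 2 = ⊥) (hcomm : thick I ≫ b = a ≫ f)
    (t : Spec (CommRingCat.of A)) :
    ∃ (W : (Spec (CommRingCat.of A)).Opens) (l : W.toScheme ⟶ X),
      t ∈ W ∧ IsLocalLift f I a b W l := by
  have hsurj := surjective_thick I hI
  obtain ⟨t₀, rfl⟩ := (thick I).surjective t
  obtain ⟨_, ⟨V, hV, rfl⟩, htV, -⟩ := Y.isBasis_affineOpens.exists_subset_of_mem_open
    (Set.mem_univ (f (a t₀))) isOpen_univ
  obtain ⟨_, ⟨U, hU, rfl⟩, htU, hUV : U ≤ f ⁻¹ᵁ V⟩ :=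
    X.isBasis_affineOpens.exists_subset_of_mem_open htV (f ⁻¹ᵁ V).isOpen
  have hemb : Topology.IsClosedEmbedding (thick I) := (thick I).isClosedEmbedding
  have hhomeo : IsHomeomorph (thick I) :=
    isHomeomorph_iff_isEmbedding_surjective.mpr ⟨hemb.isEmbedding, (thick I).surjective⟩
  let O : (Spec (CommRingCat.of A)).Opens :=
    ⟨thick I '' (a ⁻¹ᵁ U), hhomeo.isOpenMap _ (a ⁻¹ᵁ U).isOpen⟩
  have htO : thick I t₀ ∈ O := ⟨t₀, htU, rfl⟩
  have htbV : thick I t₀ ∈ b ⁻¹ᵁ V := by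
    change b (thick I t₀) ∈ V
    rw [← Scheme.Hom.comp_apply, hcomm]
    exact htV
  obtain ⟨_, ⟨W, hW, rfl⟩, htW, hWle : W ≤ b ⁻¹ᵁ V ⊓ O⟩ :=
    (Spec (CommRingCat.of A)).isBasis_affineOpens.exists_subset_of_mem_open
      (show thick I t₀ ∈ ((b ⁻¹ᵁ V ⊓ O : (Spec (CommRingCat.of A)).Opens) : Set _) from
        ⟨htbV, htO⟩) (b ⁻¹ᵁ V ⊓ O).isOpen
  have hWV : W ≤ b ⁻¹ᵁ V := hWle.trans inf_le_left
  have hW'U : thick I ⁻¹ᵁ W ≤ a ⁻¹ᵁ U := by
    intro z hz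
    obtain ⟨z', hz', hzz'⟩ := (hWle hz).2
    rwa [← hemb.injective hzz']
  have hW' : IsAffineOpen (thick I ⁻¹ᵁ W) := hW.preimage (thick I)
  have hW'V : thick I ⁻¹ᵁ W ≤ (a ≫ f) ⁻¹ᵁ V := fun z hz => hUV (hW'U hz)
  let algB : Algebra Γ(Y, V) Γ(X, U) := (f.appLE V U hUV).hom.toAlgebra
  let algA : Algebra Γ(Y, V) Γ(Spec (CommRingCat.of A), W) := (b.appLE V W hWV).hom.toAlgebra
  let algC : Algebra Γ(Y, V) Γ(Spec (CommRingCat.of (A ⧸ I)), thick I ⁻¹ᵁ W) :=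
    ((a ≫ f).appLE V (thick I ⁻¹ᵁ W) hW'V).hom.toAlgebra
  have hsm : Algebra.Smooth Γ(Y, V) Γ(X, U) := f.smooth_appLE hV hU hUV
  have : Algebra.FormallySmooth Γ(Y, V) Γ(X, U) := hsm.formallySmooth
  let α : Γ(X, U) →ₐ[Γ(Y, V)] Γ(Spec (CommRingCat.of (A ⧸ I)), thick I ⁻¹ᵁ W) :=
    ⟨(a.appLE U (thick I ⁻¹ᵁ W) hW'U).hom, fun r => by
      simp [RingHom.algebraMap_toAlgebra, ← CategoryTheory.comp_apply, -CommRingCat.hom_comp,
        Scheme.Hom.appLE_comp_appLE, -Scheme.Hom.comp_appLE]⟩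
  let ι : Γ(Spec (CommRingCat.of A), W) →ₐ[Γ(Y, V)]
      Γ(Spec (CommRingCat.of (A ⧸ I)), thick I ⁻¹ᵁ W) :=
    ⟨((thick I).app W).hom, fun r => by
      simp [RingHom.algebraMap_toAlgebra, ← CategoryTheory.comp_apply, -CommRingCat.hom_comp,
        Scheme.Hom.app_eq_appLE, Scheme.Hom.appLE_comp_appLE, hcomm, -Scheme.Hom.comp_appLE]⟩
  have hιs : Function.Surjective ι := (thick I).app_surjective W hW
  have hιn : IsNilpotent (RingHom.ker (ι : Γ(Spec (CommRingCat.of A), W) →+*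
      Γ(Spec (CommRingCat.of (A ⧸ I)), thick I ⁻¹ᵁ W))) := ⟨2, ker_app_sq I hI W hW⟩
  let ψ := Algebra.FormallySmooth.liftOfSurjective α ι hιs hιn
  have hψ : ι.comp ψ = α := Algebra.FormallySmooth.comp_liftOfSurjective α ι hιs hιn
  have hψ1 : f.appLE V U hUV ≫ CommRingCat.ofHom ψ.toRingHom = b.appLE V W hWV :=
    CommRingCat.hom_ext ψ.comp_algebraMap
  have hψ2 : CommRingCat.ofHom ψ.toRingHom ≫ (thick I).appLE W (thick I ⁻¹ᵁ W) le_rfl =
      a.appLE U (thick I ⁻¹ᵁ W) hW'U := by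
    rw [← Scheme.Hom.app_eq_appLE]
    exact CommRingCat.hom_ext congr(AlgHom.toRingHom $hψ)
  let l' : Spec Γ(Spec (CommRingCat.of A), W) ⟶ X :=
    Spec.map (CommRingCat.ofHom ψ.toRingHom) ≫ hU.fromSpec
  have e3 : Spec.map ((thick I).appLE W (thick I ⁻¹ᵁ W) le_rfl) ≫ l' =
      hW'.fromSpec ≫ a := by
    have e3' : Spec.map ((thick I).appLE W (thick I ⁻¹ᵁ W) le_rfl) ≫
        Spec.map (CommRingCat.ofHom ψ.toRingHom) = Spec.map (a.appLE U (thick I ⁻¹ᵁ W) hW'U) :=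
      (Spec.map_comp _ _).symm.trans (congrArg Spec.map hψ2)
    rw [← hU.SpecMap_appLE_fromSpec a hW' hW'U, ← e3', Category.assoc]
  have e4 : l' ≫ f = hW.fromSpec ≫ b := by
    have e4' : Spec.map (CommRingCat.ofHom ψ.toRingHom) ≫ Spec.map (f.appLE V U hUV) =
        Spec.map (b.appLE V W hWV) :=
      (Spec.map_comp _ _).symm.trans (congrArg Spec.map hψ1)
    rw [← hV.SpecMap_appLE_fromSpec b hW hWV, ← e4', Category.assoc, Category.assoc,
      hV.SpecMap_appLE_fromSpec f hU hUV]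
    rfl
  refine ⟨W, hW.isoSpec.hom ≫ l', htW, ?_, ?_⟩
  · intro Z' v r hvr
    have hr : Set.range r ⊆ Set.range (thick I ⁻¹ᵁ W).ι := by
      rintro _ ⟨z, rfl⟩
      rw [Scheme.Opens.range_ι]
      change thick I (r z) ∈ W
      rw [← Scheme.Hom.comp_apply, ← hvr, Scheme.Hom.comp_apply]
      exact (v z).2
    let v' := IsOpenImmersion.lift (thick I ⁻¹ᵁ W).ι r hr
    have hv' : v' ≫ (thick I ⁻¹ᵁ W).ι = r := IsOpenImmersion.lift_fac _ _ _
    have key : v ≫ hW.isoSpec.hom =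
        (v' ≫ hW'.isoSpec.hom) ≫ Spec.map ((thick I).appLE W (thick I ⁻¹ᵁ W) le_rfl) := by
      rw [← cancel_mono hW.fromSpec]
      simp only [Category.assoc, IsAffineOpen.isoSpec_hom_fromSpec]
      rw [hW.SpecMap_appLE_fromSpec (thick I) hW' le_rfl,
        IsAffineOpen.isoSpec_hom_fromSpec_assoc, ← Category.assoc, hv', hvr]
    rw [← Category.assoc, key, Category.assoc, e3, Category.assoc,
      IsAffineOpen.isoSpec_hom_fromSpec_assoc, ← Category.assoc, hv']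
  · rw [Category.assoc, e4, IsAffineOpen.isoSpec_hom_fromSpec_assoc]

end forward

end Groth.Agent.Lib.H86SmoothLocalLift
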