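import Groth.Agent.Lib.H86Formal12
import Groth.Agent.Lib.H86FormalSm
import Groth.Agent.S1488

/-!
# helper86: smooth morphisms of schemes over `S` are formally smooth as morphisms of sheaves, and conversely
-/

set_option autoImplicit false
set_option linter.style.haveILetI false
universe u
open CategoryTheory CategoryTheory.Limits AlgebraicGeometry Opposite

namespace Groth.Agent.Lib.H86Formal13
open AlgSp Groth.Agent.Lib.AlgSpBasic Groth.Agent.Lib.AlgSpLocP Groth.Agent.Lib.H86Formal
open Groth.Agent.Lib.H86Formal2 Groth.Agent.Lib.H86Formal3 Groth.Agent.Lib.H86Formal4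
open Groth.Agent.Lib.H86Formal5 Groth.Agent.Lib.H90AlgSpInf Groth.Agent.Lib.H86Formal7
open Groth.Agent.Lib.H86Formal9 Groth.Agent.Lib.H86Formal10 Groth.Agent.Lib.H86Formal11

variable {S : Scheme.{u}}

/-- A morphism of schemes over `S` with the infinitesimal lifting property is formally smooth as a morphism of sheaves. -/
theorem isFormallySmoothMor_yon_map {U V : Over S} (h : U ⟶ V)
    (hs : MoreMor.IsFormallySmoothHom h.left) : IsFormallySmoothMor ((yon S).map h) := by
  intro sq
  obtain ⟨a, ha⟩ := (yon S).map_surjective sq.top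
  obtain ⟨b, hb⟩ := (yon S).map_surjective sq.bot
  have hcomm : sq.j ≫ b = a ≫ h := by
    apply (yon S).map_injective
    rw [Functor.map_comp, Functor.map_comp, ha, hb]
    exact sq.comm.symm
  obtain ⟨l, hl1, hl2⟩ := hs sq.A sq.I sq.sq_zero a.left b.left (congrArg (fun φ => φ.left) hcomm)
  have hl : l ≫ U.hom = sq.ptT'.hom := by
    rw [← Over.w h, ← Category.assoc, hl2, Over.w b]
  refine ⟨(yon S).map (Over.homMk l hl : sq.ptT' ⟶ U), ?_, ?_⟩
  · rw [← ha, ← Functor.map_comp]
    congr 1
    exact Over.OverMorphism.ext hl1
  · rw [← hb, ← Functor.map_comp]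
    congr 1
    exact Over.OverMorphism.ext hl2

/-- A smooth morphism of schemes over `S` is formally smooth as a morphism of sheaves. -/
theorem isFormallySmoothMor_yon_map_of_smooth {U V : Over S} (h : U ⟶ V) (hs : Smooth h.left) :
    IsFormallySmoothMor ((yon S).map h) :=
  isFormallySmoothMor_yon_map h ((Groth.Agent.S1488.result h.left).1 hs).2

/-- Conversely, a morphism of schemes over `S` which is formally smooth as a morphism of sheaves has the infinitesimal
lifting property. -/
theorem isFormallySmoothHom_of_yon_map {U V : Over S} (h : U ⟶ V)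
    (hs : IsFormallySmoothMor ((yon S).map h)) : MoreMor.IsFormallySmoothHom h.left := by
  intro A _ I hI a b hcomm
  let str : Spec (.of A) ⟶ S := b ≫ V.hom
  let bO : Over.mk str ⟶ V := Over.homMk b rfl
  let aO : Over.mk (Spec.map (CommRingCat.ofHom (Ideal.Quotient.mk I)) ≫ str) ⟶ U :=
    Over.homMk a (by
      change a ≫ U.hom = Spec.map (CommRingCat.ofHom (Ideal.Quotient.mk I)) ≫ b ≫ V.hom
      rw [← Over.w h, ← Category.assoc, ← hcomm, Category.assoc])
  let sq : InfSq ((yon S).map h) :=
    { A := A
      I := I
      sq_zero := hI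
      str := str
      top := (yon S).map aO
      bot := (yon S).map bO
      comm := by
        rw [← Functor.map_comp, ← Functor.map_comp]
        congr 1
        apply Over.OverMorphism.ext
        exact hcomm.symm }
  obtain ⟨l, hl1, hl2⟩ := hs sq
  obtain ⟨lO, rfl⟩ := (yon S).map_surjective l
  refine ⟨lO.left, ?_, ?_⟩
  · have : sq.j ≫ lO = aO := by
      apply (yon S).map_injective
      rw [Functor.map_comp]
      exact hl1
    exact congrArg (fun φ => φ.left) this
  · have : lO ≫ h = bO := by
      apply (yon S).map_injective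
      rw [Functor.map_comp]
      exact hl2
    exact congrArg (fun φ => φ.left) this

end Groth.Agent.Lib.H86Formal13
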