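import Mathlib

/-!
# helper86: gluing local retractions of a square-zero module extension (algebra behind the gluing of local
infinitesimal lifts on an affine scheme).
-/

set_option autoImplicit false
set_option linter.style.haveILetI false
universe u

namespace Groth.Agent.Lib.H86GlueAlg

section Twisted

variable {A : Type*} [CommRing A] (I : Ideal A) {M : Type*} [AddCommGroup M] [Module A M]
  (ι : I →ₗ[A] M)

/-- **Clearing denominators.**  A retraction of `ι : I → M` defined over the localization `A_g` comes, after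
multiplication with a power of `g`, from a map `M → I`, provided `M / ι(I)` is "finitely presented modulo `I`". -/
theorem exists_twisted_retraction (hι : Function.Injective ι) (hII : ∀ a ∈ I, ∀ b ∈ I, a * b = 0)
    (hIM : ∀ a ∈ I, ∀ m : M, a • m = 0)
    (g : A) {Ag : Type*} [CommRing Ag] [Algebra A Ag] [IsLocalization.Away g Ag]
    (ρg : M →ₗ[A] Ag) (hρI : ∀ m, ρg m ∈ I.map (algebraMap A Ag))
    (hρι : ∀ a : I, ρg (ι a) = algebraMap A Ag a)
    {n : ℕ} (u : (Fin n → A) →ₗ[A] M) (Z : Finset (Fin n → A))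
    (ha : ∀ m : M, ∃ (a : I) (x : Fin n → A), m = ι a + u x)
    (hb : ∀ z ∈ Z, u z ∈ LinearMap.range ι)
    (hc : ∀ x, u x ∈ LinearMap.range ι →
      x ∈ Submodule.span A (Z : Set (Fin n → A)) ⊔ I • (⊤ : Submodule A (Fin n → A))) :
    ∃ (N : ℕ) (ρ : M →ₗ[A] I), ∀ a : I, ρ (ι a) = g ^ N • a := by
  classical
  -- Step 1: clear denominators on the basis vectors
  have h1 : ∀ i : Fin n, ∃ (k : ℕ) (a : I),
      algebraMap A Ag (g ^ k) * ρg (u (Pi.single i 1)) = algebraMap A Ag a := by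
    intro i
    obtain ⟨⟨a, s⟩, hs⟩ := (IsLocalization.mem_map_algebraMap_iff (Submonoid.powers g) Ag).1
      (hρI (u (Pi.single i 1)))
    obtain ⟨k, hk⟩ := s.2
    refine ⟨k, a, ?_⟩
    rw [mul_comm]
    have hk' : g ^ k = (s : A) := hk
    rw [hk']
    exact hs
  choose k a hka using h1
  let n₀ : ℕ := Finset.univ.sup k
  have hkn : ∀ i, k i ≤ n₀ := fun i => Finset.le_sup (Finset.mem_univ i)
  let a' : Fin n → I := fun i => g ^ (n₀ - k i) • a i
  have ha' : ∀ i, algebraMap A Ag (g ^ n₀) * ρg (u (Pi.single i 1)) = algebraMap A Ag (a' i) := by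
    intro i
    have e : g ^ n₀ = g ^ (n₀ - k i) * g ^ k i := by
      rw [← pow_add, Nat.sub_add_cancel (hkn i)]
    rw [e, map_mul, mul_assoc, hka i]
    simp [a']
  let W : (Fin n → A) →ₗ[A] I := Fintype.linearCombination A a'
  have hW : ∀ x, algebraMap A Ag (W x) = algebraMap A Ag (g ^ n₀) * ρg (u x) := by
    intro x
    have hx : x = ∑ i, x i • (Pi.single i (1 : A) : Fin n → A) := by
      ext j
      simp [Finset.sum_apply, Pi.single_apply]
    conv_rhs => rw [hx]
    rw [map_sum, map_sum, Finset.mul_sum]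
    simp only [W, Fintype.linearCombination_apply, Submodule.coe_sum, Submodule.coe_smul, map_sum]
    refine Finset.sum_congr rfl fun i _ => ?_
    have e3 : ρg (u (x i • Pi.single i 1)) = algebraMap A Ag (x i) * ρg (u (Pi.single i 1)) := by
      rw [LinearMap.map_smul, LinearMap.map_smul, Algebra.smul_def]
    rw [e3, smul_eq_mul, map_mul, ← ha' i]
    ring
  -- Step 2: the relations
  have h2 : ∀ z ∈ Z, ∃ (m : ℕ) (δ : I), ι δ = u z ∧ g ^ m • (W z) = g ^ m • (g ^ n₀ • δ) := by
    intro z hz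
    obtain ⟨δ, hδ⟩ := hb z hz
    have e : algebraMap A Ag (W z : A) = algebraMap A Ag ((g ^ n₀ • δ : I) : A) := by
      rw [hW z, ← hδ, hρι δ]
      simp
    obtain ⟨⟨c, m, rfl⟩, hc⟩ := (IsLocalization.eq_iff_exists (Submonoid.powers g) Ag).1 e
    refine ⟨m, δ, hδ, ?_⟩
    apply Subtype.ext
    simpa using hc
  choose! m δ hδ hm using h2
  let m₀ : ℕ := Z.sup m
  have hmm : ∀ z ∈ Z, m z ≤ m₀ := fun z hz => Finset.le_sup hz
  let W' : (Fin n → A) →ₗ[A] I := g ^ m₀ • W
  let N : ℕ := m₀ + n₀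
  let E : Submodule A (Fin n → A) := LinearMap.ker (ι ∘ₗ W' - g ^ N • u)
  have hZE : Submodule.span A (Z : Set (Fin n → A)) ≤ E := by
    rw [Submodule.span_le]
    intro z hz
    have hz' : z ∈ Z := hz
    have e1 : g ^ m₀ • W z = g ^ m₀ • (g ^ n₀ • δ z) := by
      have e : g ^ m₀ = g ^ (m₀ - m z) * g ^ m z := by
        rw [← pow_add, Nat.sub_add_cancel (hmm z hz')]
      rw [e, mul_smul, mul_smul, hm z hz']
    change (ι ∘ₗ W' - g ^ N • u) z = 0
    simp only [LinearMap.sub_apply, LinearMap.comp_apply, LinearMap.smul_apply, W', N]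
    rw [e1, ← mul_smul, ← pow_add, map_smul, hδ z hz', sub_self]
  have hIE : I • (⊤ : Submodule A (Fin n → A)) ≤ E := by
    rw [Submodule.smul_le]
    intro c hc x _
    change (ι ∘ₗ W' - g ^ N • u) (c • x) = 0
    simp only [LinearMap.sub_apply, LinearMap.comp_apply, LinearMap.smul_apply, map_smul]
    have e1 : c • W' x = 0 := by
      apply Subtype.ext
      simpa using hII c hc _ (W' x).2
    have e2 : c • (g ^ N • u x) = 0 := by rw [smul_comm, hIM c hc, smul_zero]
    first
      | rw [smul_sub, ← map_smul, e1, map_zero, e2, sub_zero]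
      | rw [e1, map_zero, hIM c hc, smul_zero, sub_zero]
  have hE : ∀ x, u x ∈ LinearMap.range ι → ι (W' x) = g ^ N • u x := by
    intro x hx
    have := (sup_le hZE hIE) (hc x hx)
    have h3 : (ι ∘ₗ W' - g ^ N • u) x = 0 := this
    simpa [sub_eq_zero] using h3
  -- Step 3: the retraction
  let Φ : (I × (Fin n → A)) →ₗ[A] M := ι.coprod u
  have hΦ : Function.Surjective Φ := by
    intro y
    obtain ⟨b, x, rfl⟩ := ha y
    exact ⟨(b, x), by simp [Φ]⟩
  let Ψ : (I × (Fin n → A)) →ₗ[A] I := (g ^ N • LinearMap.id).coprod W'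
  have hker : LinearMap.ker Φ ≤ LinearMap.ker Ψ := by
    rintro ⟨b, x⟩ hbx
    have h0 : ι b + u x = 0 := by simpa [Φ] using hbx
    have hux : u x = ι (-b) := by
      rw [map_neg]
      exact eq_neg_of_add_eq_zero_right h0
    have h4 := hE x ⟨-b, hux.symm⟩
    rw [hux, ← map_smul] at h4
    have h5 := hι h4
    change Ψ (b, x) = 0
    simp only [Ψ, LinearMap.coprod_apply, LinearMap.smul_apply, LinearMap.id_apply]
    rw [h5, smul_neg, add_neg_cancel]
  let e := Φ.quotKerEquivOfSurjective hΦ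
  refine ⟨N, (Submodule.liftQ (LinearMap.ker Φ) Ψ hker) ∘ₗ e.symm.toLinearMap, fun b => ?_⟩
  have e1 : e.symm (ι b) = Submodule.Quotient.mk (b, 0) := by
    rw [LinearEquiv.symm_apply_eq]
    simp [e, Φ]
  simp only [LinearMap.comp_apply, LinearEquiv.coe_coe]
  rw [e1, Submodule.liftQ_apply]
  simp [Ψ]

/-- **Partition of unity.** -/
theorem exists_retraction_of_span (s : Set A) (hs : Ideal.span s = ⊤)
    (H : ∀ g ∈ s, ∃ (N : ℕ) (ρ : M →ₗ[A] I), ∀ a : I, ρ (ι a) = g ^ N • a) :
    ∃ ρ : M →ₗ[A] I, ∀ a : I, ρ (ι a) = a := by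
  have key : (LinearMap.id : I →ₗ[A] I) ∈ LinearMap.range (LinearMap.lcomp A I ι) := by
    refine Submodule.mem_of_span_eq_top_of_smul_pow_mem _ s hs _ fun r => ?_
    obtain ⟨N, ρ, hρ⟩ := H r.1 r.2
    refine ⟨N, ρ, ?_⟩
    ext b
    simp [hρ b]
  obtain ⟨ρ, hρ⟩ := key
  refine ⟨ρ, fun b => ?_⟩
  have := congrArg (fun f : I →ₗ[A] I => f b) hρ
  simpa using this

end Twisted

section FinData

variable {A A₀ : Type*} [CommRing A] [CommRing A₀] [Algebra A A₀]
  {M Q : Type*} [AddCommGroup M] [Module A M] [AddCommGroup Q] [Module A₀ Q] [Module A Q]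
  [IsScalarTower A A₀ Q]

/-- A quotient of an `A`-module which is a finitely presented `A₀ = A/I`-module is "finitely presented modulo `I`". -/
theorem exists_fin_data (hq : Function.Surjective (algebraMap A A₀)) [Module.FinitePresentation A₀ Q]
    (π : M →ₗ[A] Q) (hπ : Function.Surjective π) :
    ∃ (n : ℕ) (u : (Fin n → A) →ₗ[A] M) (Z : Finset (Fin n → A)),
      (∀ m : M, ∃ x, m - u x ∈ LinearMap.ker π) ∧ (∀ z ∈ Z, u z ∈ LinearMap.ker π) ∧
      ∀ x, u x ∈ LinearMap.ker π →
        x ∈ Submodule.span A (Z : Set (Fin n → A)) ⊔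
          (RingHom.ker (algebraMap A A₀)) • (⊤ : Submodule A (Fin n → A)) := by
  classical
  obtain ⟨n, v₀, hv₀⟩ := Module.Finite.exists_fin' A₀ Q
  let c : (Fin n → A) →ₗ[A] (Fin n → A₀) := (Algebra.linearMap A A₀).compLeft (Fin n)
  have hc : Function.Surjective c := by
    intro y
    choose x hx using fun i => hq (y i)
    exact ⟨x, funext fun i => by simp [c, hx i]⟩
  let v : (Fin n → A) →ₗ[A] Q := (v₀.restrictScalars A) ∘ₗ c
  obtain ⟨u, hu⟩ := Module.projective_lifting_property π v hπ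
  have huv : ∀ x, π (u x) = v₀ (c x) := fun x => by
    have := congrArg (fun f : (Fin n → A) →ₗ[A] Q => f x) hu
    simpa [v] using this
  obtain ⟨Z₀, hZ₀⟩ := Module.FinitePresentation.fg_ker v₀ hv₀
  choose lift hlift using hc
  let Z : Finset (Fin n → A) := Z₀.image lift
  have hkerc : LinearMap.ker c ≤
      (RingHom.ker (algebraMap A A₀)) • (⊤ : Submodule A (Fin n → A)) := by
    intro x hx
    have hxi : ∀ i, x i ∈ RingHom.ker (algebraMap A A₀) := by
      intro i
      have := congrFun (LinearMap.mem_ker.1 hx) i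
      simpa [c] using this
    have hx' : x = ∑ i, x i • (Pi.single i (1 : A) : Fin n → A) := by
      ext j
      simp [Finset.sum_apply, Pi.single_apply]
    rw [hx']
    exact Submodule.sum_mem _ fun i _ => Submodule.smul_mem_smul (hxi i) Submodule.mem_top
  refine ⟨n, u, Z, fun m => ?_, fun z hz => ?_, fun x hx => ?_⟩
  · obtain ⟨y, hy⟩ := hv₀ (π m)
    refine ⟨lift y, ?_⟩
    rw [LinearMap.mem_ker, map_sub, huv, hlift, hy, sub_self]
  · obtain ⟨z₀, hz₀, rfl⟩ := Finset.mem_image.1 hz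
    rw [LinearMap.mem_ker, huv, hlift]
    have : z₀ ∈ LinearMap.ker v₀ := by
      rw [← hZ₀]
      exact Submodule.subset_span hz₀
    exact this
  · have h1 : c x ∈ LinearMap.ker v₀ := by
      rw [LinearMap.mem_ker, ← huv]
      exact hx
    rw [← hZ₀] at h1
    have h2 : c x ∈ (Submodule.span A₀ (Z₀ : Set (Fin n → A₀))).restrictScalars A := h1
    rw [Submodule.restrictScalars_span A A₀ hq] at h2
    have h3 : (Z₀ : Set (Fin n → A₀)) = c '' (Z : Set (Fin n → A)) := by
      ext y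
      simp only [Finset.mem_coe, Set.mem_image, Z, Finset.mem_image]
      constructor
      · intro hy
        exact ⟨lift y, ⟨y, hy, rfl⟩, hlift y⟩
      · rintro ⟨_, ⟨y', hy', rfl⟩, rfl⟩
        rwa [hlift]
    rw [h3, ← Submodule.map_span] at h2
    obtain ⟨y, hy, hyx⟩ := h2
    have h4 : x - y ∈ LinearMap.ker c := by
      rw [LinearMap.mem_ker, map_sub, hyx, sub_self]
    have : x = y + (x - y) := by abel
    rw [this]
    exact Submodule.add_mem _ (Submodule.mem_sup_left hy) (Submodule.mem_sup_right (hkerc h4))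

end FinData

section Cot

open TensorProduct KaehlerDifferential

/-- The augmentation ideal of a finitely presented augmented algebra, if of square zero, is a finitely presented
module over the base (it is the cotangent module of the augmentation). -/
theorem finitePresentation_ker_of_augmentation {R P : Type u} [CommRing R] [CommRing P] [Algebra R P]
    [Algebra.FinitePresentation R P] (ε : P →ₐ[R] R)
    (hsq : ∀ x y, ε x = 0 → ε y = 0 → x * y = 0) :
    Module.FinitePresentation R (RingHom.ker ε.toRingHom) := by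
  letI : Algebra P R := ε.toRingHom.toAlgebra
  haveI : IsScalarTower R P R := IsScalarTower.of_algebraMap_eq fun r => (ε.commutes r).symm
  have hsurj : Function.Surjective (algebraMap P R) := fun r => ⟨algebraMap R P r, ε.commutes r⟩
  let J : Ideal P := RingHom.ker (algebraMap P R)
  have hJ : J = RingHom.ker ε.toRingHom := rfl
  -- the cotangent map is bijective
  have hex := KaehlerDifferential.exact_kerCotangentToTensor_mapBaseChange R P R hsurj
  have hs1 : Function.Surjective (kerCotangentToTensor R P R) := by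
    intro x
    have : (mapBaseChange R P R) x = 0 := Subsingleton.elim _ _
    exact (hex x).1 this
  have hs2 : Function.Injective (kerCotangentToTensor R P R) := by
    let g : R →ₐ[R] P ⧸ (RingHom.ker (algebraMap P R) ^ 2) := Algebra.ofId R _
    have hg : (IsScalarTower.toAlgHom R P R).kerSquareLift.comp g = AlgHom.id R R :=
      Subsingleton.elim _ _
    obtain ⟨l, hl⟩ := (retractionKerCotangentToTensorEquivSection (R := R) hsurj).symm ⟨g, hg⟩
    exact Function.LeftInverse.injective (g := l) fun x => by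
      have := congrArg (fun f => f x) hl
      simpa using this
  let e : J.Cotangent ≃ₗ[P] R ⊗[P] Ω[P⁄R] :=
    LinearEquiv.ofBijective (kerCotangentToTensor R P R) ⟨hs2, hs1⟩
  -- `J ≃ J.Cotangent` since `J ^ 2 = 0`
  have hJ2 : J ^ 2 = ⊥ := by
    rw [eq_bot_iff, pow_two, Ideal.mul_le]
    intro x hx y hy
    exact hsq x y hx hy
  have hinj : Function.Injective J.toCotangent := by
    rw [← LinearMap.ker_eq_bot, eq_bot_iff]
    intro x hx
    have h1 : (x : P) ∈ J ^ 2 := (Ideal.mem_toCotangent_ker J).1 hx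
    rw [hJ2] at h1
    exact Subtype.ext h1
  let e' : J ≃ₗ[P] J.Cotangent :=
    LinearEquiv.ofBijective J.toCotangent ⟨hinj, Ideal.toCotangent_surjective J⟩
  haveI : Module.FinitePresentation R (R ⊗[P] Ω[P⁄R]) := inferInstance
  exact Module.FinitePresentation.of_equiv ((e'.trans e).restrictScalars R).symm

end Cot

section Main

variable {A C A₀ : Type u} [CommRing A] [CommRing C] [CommRing A₀]

/-- From a linear retraction to a ring retraction. -/
theorem exists_ringHom_of_retraction (φ : A →+* C) (p : C →+* A₀) (q : A →+* A₀)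
    (hpq : p.comp φ = q) (hq : Function.Surjective q)
    (hI : ∀ x y, q x = 0 → q y = 0 → x * y = 0) (hK : ∀ x y, p x = 0 → p y = 0 → x * y = 0)
    (ρ : C → A) (hρadd : ∀ x y, p x = 0 → p y = 0 → ρ (x + y) = ρ x + ρ y)
    (hρsmul : ∀ a x, p x = 0 → ρ (φ a * x) = a * ρ x)
    (hρI : ∀ x, p x = 0 → q (ρ x) = 0)
    (hρι : ∀ a, q a = 0 → ρ (φ a) = a) :
    ∃ σ : C →+* A, σ.comp φ = RingHom.id A ∧ q.comp σ = p := by
  have hpφ : ∀ a, p (φ a) = q a := fun a => by rw [← hpq]; rfl
  have hρ0 : ρ 0 = 0 := by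
    have := hρι 0 (map_zero q)
    rwa [map_zero] at this
  choose lift hlift using fun c => hq (p c)
  have hmem : ∀ c a, q a = p c → p (c - φ a) = 0 := fun c a h => by
    rw [map_sub, hpφ, h, sub_self]
  have key : ∀ c a, q a = p c → lift c + ρ (c - φ (lift c)) = a + ρ (c - φ a) := by
    intro c a h
    have h1 : q (a - lift c) = 0 := by rw [map_sub, h, hlift, sub_self]
    have h2 : c - φ (lift c) = (c - φ a) + φ (a - lift c) := by rw [map_sub]; ring
    rw [h2, hρadd _ _ (hmem c a h) (by rw [hpφ]; exact h1), hρι _ h1]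
    ring
  let σf : C → A := fun c => lift c + ρ (c - φ (lift c))
  have hσ : ∀ c a, q a = p c → σf c = a + ρ (c - φ a) := key
  refine ⟨{ toFun := σf
            map_one' := ?_
            map_mul' := ?_
            map_zero' := ?_
            map_add' := ?_ }, ?_, ?_⟩
  · rw [hσ 1 1 (by rw [map_one, map_one]), map_one, sub_self, hρ0, add_zero]
  · intro c₁ c₂
    obtain ⟨a₁, h₁⟩ := hq (p c₁)
    obtain ⟨a₂, h₂⟩ := hq (p c₂)
    rw [hσ c₁ a₁ h₁, hσ c₂ a₂ h₂, hσ (c₁ * c₂) (a₁ * a₂) (by rw [map_mul, map_mul, h₁, h₂])]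
    have k₁ := hmem c₁ a₁ h₁
    have k₂ := hmem c₂ a₂ h₂
    have e : c₁ * c₂ - φ (a₁ * a₂) = φ a₂ * (c₁ - φ a₁) + φ a₁ * (c₂ - φ a₂) := by
      have := hK _ _ k₁ k₂
      rw [map_mul]
      linear_combination this
    rw [e, hρadd _ _ (by rw [map_mul, k₁, mul_zero]) (by rw [map_mul, k₂, mul_zero]),
      hρsmul _ _ k₁, hρsmul _ _ k₂]
    have := hI _ _ (hρI _ k₁) (hρI _ k₂)
    linear_combination -this
  · rw [hσ 0 0 (by rw [map_zero, map_zero]), map_zero, sub_self, hρ0, add_zero]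
  · intro c₁ c₂
    obtain ⟨a₁, h₁⟩ := hq (p c₁)
    obtain ⟨a₂, h₂⟩ := hq (p c₂)
    rw [hσ c₁ a₁ h₁, hσ c₂ a₂ h₂, hσ (c₁ + c₂) (a₁ + a₂) (by rw [map_add, map_add, h₁, h₂])]
    have e : c₁ + c₂ - φ (a₁ + a₂) = (c₁ - φ a₁) + (c₂ - φ a₂) := by rw [map_add]; ring
    rw [e, hρadd _ _ (hmem c₁ a₁ h₁) (hmem c₂ a₂ h₂)]
    ring
  · ext a
    change σf (φ a) = a
    rw [hσ (φ a) a (hpφ a).symm, sub_self, hρ0, add_zero]
  · ext c
    change q (σf c) = p c
    obtain ⟨a, h⟩ := hq (p c)
    rw [hσ c a h, map_add, hρI _ (hmem c a h), add_zero, h]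

/-- `φ(I)` is an ideal of `C`. -/
theorem exists_eq_of_mem_map (φ : A →+* C) (p : C →+* A₀) (q : A →+* A₀)
    (hpq : p.comp φ = q) (hq : Function.Surjective q)
    (hK : ∀ x y, p x = 0 → p y = 0 → x * y = 0) (c : C) (hc : c ∈ (RingHom.ker q).map φ) :
    ∃ a, q a = 0 ∧ c = φ a := by
  have hpφ : ∀ a, p (φ a) = q a := fun a => by rw [← hpq]; rfl
  unfold Ideal.map at hc
  induction hc using Submodule.span_induction with
  | mem x hx =>
    obtain ⟨a, ha, rfl⟩ := hx
    exact ⟨a, ha, rfl⟩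
  | zero => exact ⟨0, map_zero q, (map_zero φ).symm⟩
  | add x y _ _ hx hy =>
    obtain ⟨a, ha, rfl⟩ := hx
    obtain ⟨b, hb, rfl⟩ := hy
    exact ⟨a + b, by rw [map_add, ha, hb, add_zero], (map_add φ a b).symm⟩
  | smul d x _ hx =>
    obtain ⟨a, ha, rfl⟩ := hx
    obtain ⟨b, hb⟩ := hq (p d)
    refine ⟨b * a, by rw [map_mul, ha, mul_zero], ?_⟩
    have h1 : p (d - φ b) = 0 := by rw [map_sub, hpφ, hb, sub_self]
    have h2 := hK _ _ h1 (show p (φ a) = 0 by rw [hpφ]; exact ha)
    rw [smul_eq_mul, map_mul]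
    linear_combination h2

theorem exists_ringHom_retraction (φ : A →+* C) (p : C →+* A₀) (q : A →+* A₀)
    (hpq : p.comp φ = q) (hq : Function.Surjective q)
    (hI : ∀ x y, q x = 0 → q y = 0 → x * y = 0) (hK : ∀ x y, p x = 0 → p y = 0 → x * y = 0)
    {D : Type u} [CommRing D] (ψ : A₀ →+* D) (r : C →+* D) (ε : D →+* A₀)
    (hψ : ψ.FinitePresentation) (hr : Function.Surjective r)
    (hker : ∀ c, r c = 0 → c ∈ (RingHom.ker q).map φ)
    (hrφ : r.comp φ = ψ.comp q) (hεr : ε.comp r = p)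
    (s : Set A) (hs : Ideal.span s = ⊤)
    (H : ∀ g ∈ s, ∃ (Ag : Type u) (_ : CommRing Ag) (_ : Algebra A Ag)
      (_ : IsLocalization.Away g Ag) (σ : C →+* Ag), σ.comp φ = algebraMap A Ag ∧
        ∀ k, p k = 0 → σ k ∈ (RingHom.ker q).map (algebraMap A Ag)) :
    ∃ σ : C →+* A, σ.comp φ = RingHom.id A ∧ q.comp σ = p := by
  classical
  have hpφ : ∀ a, p (φ a) = q a := fun a => by rw [← hpq]; rfl
  have hrφ' : ∀ a, r (φ a) = ψ (q a) := fun a => by
    have := congrArg (fun f : A →+* D => f a) hrφ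
    simpa using this
  have hεr' : ∀ c, ε (r c) = p c := fun c => by
    have := congrArg (fun f : C →+* A₀ => f c) hεr
    simpa using this
  have hεψ : ∀ x, ε (ψ x) = x := by
    intro x
    obtain ⟨a, rfl⟩ := hq x
    rw [← hrφ', hεr', hpφ]
  letI : Algebra A C := φ.toAlgebra
  letI : Algebra A A₀ := q.toAlgebra
  letI : Algebra A₀ D := ψ.toAlgebra
  letI : Algebra A D := (ψ.comp q).toAlgebra
  haveI : IsScalarTower A A₀ D := IsScalarTower.of_algebraMap_eq fun _ => rfl
  let I : Ideal A := RingHom.ker q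
  let K : Submodule A C := (RingHom.ker p).restrictScalars A
  have hKmem : ∀ c, c ∈ K ↔ p c = 0 := fun c => Iff.rfl
  let ι : I →ₗ[A] K := (Algebra.linearMap A C).restrict (p := I) (q := K) (fun x hx => by
    change p (φ x) = 0
    rw [hpφ]; exact hx)
  have hιa : ∀ a : I, ((ι a : K) : C) = φ a := fun a => rfl
  -- injectivity of `ι`
  have hι : Function.Injective ι := by
    rw [← LinearMap.ker_eq_bot, eq_bot_iff]
    intro a ha
    have h0 : φ a = 0 := by
      have := congrArg (Subtype.val) (LinearMap.mem_ker.1 ha)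
      simpa [hιa] using this
    have h1 : (a : A) ∈ (⊥ : Ideal A) := by
      refine Submodule.mem_of_span_eq_top_of_smul_pow_mem _ s hs _ fun g => ?_
      obtain ⟨Ag, _, _, _, σ, hσ1, -⟩ := H g.1 g.2
      have h2 : algebraMap A Ag (a : A) = 0 := by
        rw [← hσ1]
        change σ (φ a) = 0
        rw [h0, map_zero]
      obtain ⟨⟨c, n, rfl⟩, hc⟩ := (IsLocalization.map_eq_zero_iff (Submonoid.powers g.1) Ag _).1 h2
      exact ⟨n, by simpa using hc⟩
    exact Subtype.ext (by simpa using h1)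
  -- the finitely presented quotient
  let εa : D →ₐ[A₀] A₀ := { ε with commutes' := hεψ }
  have hsq : ∀ x y, εa x = 0 → εa y = 0 → x * y = 0 := by
    intro x y hx hy
    obtain ⟨c, rfl⟩ := hr x
    obtain ⟨c', rfl⟩ := hr y
    have h1 : p c = 0 := by rw [← hεr']; exact hx
    have h2 : p c' = 0 := by rw [← hεr']; exact hy
    rw [← map_mul, hK c c' h1 h2, map_zero]
  haveI : Algebra.FinitePresentation A₀ D := hψ
  haveI hQfp : Module.FinitePresentation A₀ (RingHom.ker εa.toRingHom) :=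
    finitePresentation_ker_of_augmentation εa hsq
  let Qi : Ideal D := RingHom.ker εa.toRingHom
  let rl : C →ₗ[A] D :=
    { toFun := r
      map_add' := map_add r
      map_smul' := fun a c => by
        change r (φ a * c) = ψ (q a) * r c
        rw [map_mul, hrφ'] }
  let π : K →ₗ[A] Qi := rl.restrict (p := K) (q := Qi.restrictScalars A) (fun c hc => by
    change ε (r c) = 0
    rw [hεr']; exact hc)
  have hπ : Function.Surjective π := by
    rintro ⟨x, hx⟩
    obtain ⟨c, rfl⟩ := hr x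
    have hc : p c = 0 := by rw [← hεr']; exact hx
    exact ⟨⟨c, hc⟩, rfl⟩
  have hπker : ∀ k : K, π k = 0 ↔ k ∈ LinearMap.range ι := by
    intro k
    constructor
    · intro hk
      have h1 : r (k : C) = 0 := congrArg Subtype.val hk
      obtain ⟨a, ha, hka⟩ := exists_eq_of_mem_map φ p q hpq hq hK _ (hker _ h1)
      exact ⟨⟨a, ha⟩, Subtype.ext hka.symm⟩
    · rintro ⟨a, rfl⟩
      apply Subtype.ext
      change r (φ a) = 0
      rw [hrφ']
      have : q (a : A) = 0 := a.2
      rw [this, map_zero]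
  obtain ⟨n, u, Z, h1, h2, h3⟩ := exists_fin_data (A := A) (A₀ := A₀) hq π hπ
  have hII : ∀ a ∈ I, ∀ b ∈ I, a * b = 0 := fun a ha b hb => hI a b ha hb
  have hIM : ∀ a ∈ I, ∀ m : K, a • m = 0 := by
    intro a ha m
    apply Subtype.ext
    change φ a * (m : C) = 0
    exact hK _ _ (by rw [hpφ]; exact ha) m.2
  have ha : ∀ m : K, ∃ (a : I) (x : Fin n → A), m = ι a + u x := by
    intro m
    obtain ⟨x, hx⟩ := h1 m
    obtain ⟨a, ha⟩ := (hπker _).1 (LinearMap.mem_ker.1 hx)
    exact ⟨a, x, by rw [ha]; abel⟩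
  have hb : ∀ z ∈ Z, u z ∈ LinearMap.range ι := fun z hz => (hπker _).1 (LinearMap.mem_ker.1 (h2 z hz))
  have hc : ∀ x, u x ∈ LinearMap.range ι →
      x ∈ Submodule.span A (Z : Set (Fin n → A)) ⊔ I • (⊤ : Submodule A (Fin n → A)) :=
    fun x hx => h3 x (LinearMap.mem_ker.2 ((hπker _).2 hx))
  -- local twisted retractions
  have Hloc : ∀ g ∈ s, ∃ (N : ℕ) (ρ : K →ₗ[A] I), ∀ a : I, ρ (ι a) = g ^ N • a := by
    intro g hg
    obtain ⟨Ag, _, _, _, σ, hσ1, hσ2⟩ := H g hg
    have hσφ : ∀ a, σ (φ a) = algebraMap A Ag a := fun a => by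
      have := congrArg (fun f : A →+* Ag => f a) hσ1
      simpa using this
    let σl : C →ₗ[A] Ag :=
      { toFun := σ
        map_add' := map_add σ
        map_smul' := fun a c => by
          change σ (φ a * c) = a • σ c
          rw [map_mul, hσφ, Algebra.smul_def] }
    exact exists_twisted_retraction I ι hι hII hIM g (σl ∘ₗ K.subtype)
      (fun m => hσ2 _ m.2) (fun a => hσφ a) u Z ha hb hc
  obtain ⟨ρ, hρ⟩ := exists_retraction_of_span I ι s hs Hloc
  -- the ring retraction
  let ρf : C → A := fun c => if h : p c = 0 then ((ρ ⟨c, h⟩ : I) : A) else 0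
  have hρf : ∀ c (h : p c = 0), ρf c = ((ρ ⟨c, h⟩ : I) : A) := fun c h => dif_pos h
  refine exists_ringHom_of_retraction φ p q hpq hq hI hK ρf ?_ ?_ ?_ ?_
  · intro x y hx hy
    have hxy : p (x + y) = 0 := by rw [map_add, hx, hy, add_zero]
    rw [hρf _ hx, hρf _ hy, hρf _ hxy]
    have : (⟨x + y, hxy⟩ : K) = ⟨x, hx⟩ + ⟨y, hy⟩ := rfl
    rw [this, map_add]
    rfl
  · intro a x hx
    have hax : p (φ a * x) = 0 := by rw [map_mul, hx, mul_zero]
    rw [hρf _ hx, hρf _ hax]
    have : (⟨φ a * x, hax⟩ : K) = a • ⟨x, hx⟩ := rfl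
    rw [this, map_smul]
    rfl
  · intro x hx
    rw [hρf _ hx]
    exact (ρ ⟨x, hx⟩).2
  · intro a ha
    have h : p (φ a) = 0 := by rw [hpφ]; exact ha
    rw [hρf _ h]
    have : (⟨φ a, h⟩ : K) = ι ⟨a, ha⟩ := rfl
    rw [this, hρ]

end Main

end Groth.Agent.Lib.H86GlueAlg
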