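import Mathlib
import Groth.Agent.Lib.H86GlueAlg

/-!
# helper86: faithfully flat descent of retractions of a square-zero module extension (algebra behind the gluing of
etale-local infinitesimal lifts).
-/

set_option autoImplicit false
set_option linter.style.haveILetI false
set_option linter.unusedSectionVars false
universe u

namespace Groth.Agent.Lib.H86GlueAlgFF

open TensorProduct

section Descent

variable {R : Type*} [CommRing R] (S : Type*) [CommRing S] [Algebra R S] [Module.FaithfullyFlat R S]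
  {F N Q : Type*} [AddCommGroup F] [Module R F] [Module.FinitePresentation R F]
  [AddCommGroup N] [Module R N] [AddCommGroup Q] [Module R Q]

/-- **Liftings through a linear map descend along faithfully flat ring maps**, for a finitely presented source. -/
theorem exists_lift_of_faithfullyFlat (π : N →ₗ[R] Q) (g : F →ₗ[R] Q)
    (h' : S ⊗[R] F →ₗ[S] S ⊗[R] N) (hh' : (π.baseChange S) ∘ₗ h' = g.baseChange S) :
    ∃ h : F →ₗ[R] N, π ∘ₗ h = g := by
  let πs : (F →ₗ[R] N) →ₗ[R] (F →ₗ[R] Q) := LinearMap.compRight R π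
  let P : Submodule R (F →ₗ[R] Q) := LinearMap.range πs
  suffices hg : g ∈ P by
    obtain ⟨h, hh⟩ := hg
    exact ⟨h, hh⟩
  suffices key : (1 : S) ⊗ₜ[R] (Submodule.Quotient.mk g : (F →ₗ[R] Q) ⧸ P) = 0 from
    (Submodule.Quotient.mk_eq_zero P).1 ((Module.FaithfullyFlat.one_tmul_eq_zero_iff R _ _).1 key)
  have hex : Function.Exact (πs.lTensor S) (P.mkQ.lTensor S) :=
    lTensor_exact S (LinearMap.exact_map_mkQ_range πs) (Submodule.mkQ_surjective P)
  have h1 : (1 : S) ⊗ₜ[R] (Submodule.Quotient.mk g : (F →ₗ[R] Q) ⧸ P) =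
      (P.mkQ.lTensor S) ((1 : S) ⊗ₜ[R] g) := rfl
  rw [h1]
  apply (hex _).2
  have hN := Module.FinitePresentation.isBaseChange_map R F N S
  have hQ := Module.FinitePresentation.isBaseChange_map R F Q S
  have nat : ∀ t : S ⊗[R] (F →ₗ[R] N),
      hQ.equiv ((πs.lTensor S) t) = (π.baseChange S) ∘ₗ (hN.equiv t) := by
    intro t
    induction t using TensorProduct.induction_on with
    | zero => simp
    | add x y hx hy => rw [map_add, map_add, hx, hy, map_add, LinearMap.comp_add]
    | tmul s φ =>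
      rw [LinearMap.lTensor_tmul, IsBaseChange.equiv_tmul, IsBaseChange.equiv_tmul]
      change s • (π ∘ₗ φ).baseChange S = _
      rw [LinearMap.baseChange_comp, LinearMap.comp_smul]
      rfl
  refine ⟨hN.equiv.symm h', ?_⟩
  apply hQ.equiv.injective
  rw [nat, LinearEquiv.apply_symm_apply, hh', IsBaseChange.equiv_tmul, one_smul]
  rfl

end Descent

section IdealTensor

variable {A : Type*} [CommRing A] (B : Type*) [CommRing B] [Algebra A B] [Module.Flat A B] (I : Ideal A)

/-- The multiplication map `B ⊗ I → B`. -/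
noncomputable def mulMap : B ⊗[A] I →ₗ[B] B :=
  (AlgebraTensorModule.rid _ _ _).toLinearMap ∘ₗ AlgebraTensorModule.lTensor B B I.subtype

theorem mulMap_tmul (b : B) (x : I) : mulMap B I (b ⊗ₜ x) = b * algebraMap A B x := by
  simp [mulMap, Algebra.smul_def, mul_comm]

theorem mulMap_injective : Function.Injective (mulMap B I) := by
  simp only [mulMap, LinearMap.coe_comp, LinearEquiv.coe_coe, EmbeddingLike.comp_injective]
  exact Module.Flat.lTensor_preserves_injective_linearMap (M := B) I.subtype Subtype.val_injective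

theorem range_mulMap : LinearMap.range (mulMap B I) = I.map (algebraMap A B) := by
  refine le_antisymm ?_ ?_
  · rintro - ⟨x, rfl⟩
    induction x with
    | zero => simp
    | add _ _ hx hy => rw [map_add]; exact Ideal.add_mem _ hx hy
    | tmul s x =>
      rw [mulMap_tmul]
      exact Ideal.mul_mem_left _ _ (Ideal.mem_map_of_mem _ x.2)
  · rw [Ideal.map_le_iff_le_comap]
    intro x hx
    exact ⟨1 ⊗ₜ ⟨x, hx⟩, by rw [mulMap_tmul, one_mul]⟩

/-- For a flat `A`-algebra `B` and an ideal `I` of `A`: `B ⊗ I ≃ I B`. -/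
noncomputable def tensorIdealEquiv : B ⊗[A] I ≃ₗ[B] ↥(I.map (algebraMap A B)) :=
  .ofInjective _ (mulMap_injective B I) ≪≫ₗ .ofEq _ _ (range_mulMap B I)

theorem tensorIdealEquiv_tmul (b : B) (x : I) :
    ((tensorIdealEquiv B I (b ⊗ₜ x) : ↥(I.map (algebraMap A B))) : B) = b * algebraMap A B x := by
  change mulMap B I (b ⊗ₜ x) = _
  exact mulMap_tmul B I b x

theorem tensorIdealEquiv_symm_algebraMap (x : I) (h : algebraMap A B x ∈ I.map (algebraMap A B)) :
    (tensorIdealEquiv B I).symm ⟨algebraMap A B x, h⟩ = 1 ⊗ₜ x := by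
  rw [LinearEquiv.symm_apply_eq]
  apply Subtype.ext
  rw [tensorIdealEquiv_tmul, one_mul]

end IdealTensor

section Retraction

variable {A : Type*} [CommRing A] (I : Ideal A) {K : Type*} [AddCommGroup K] [Module A K]
  (ι : I →ₗ[A] K)

/-- **Faithfully flat descent of a retraction.**  A retraction of `ι : I → K` which exists after a faithfully flat base
change `A → B` (in the form of a map `K → I B` restricting to the canonical map on `I`) exists over `A`, provided
`K / ι(I)` is "finitely presented modulo `I`" and `I` kills `K`. -/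
theorem exists_retraction_ff (hIM : ∀ a ∈ I, ∀ m : K, a • m = 0)
    (B : Type*) [CommRing B] [Algebra A B] [Module.FaithfullyFlat A B]
    (σK : K →ₗ[A] B) (hσI : ∀ m, σK m ∈ I.map (algebraMap A B))
    (hσι : ∀ a : I, σK (ι a) = algebraMap A B a)
    {n : ℕ} (u : (Fin n → A) →ₗ[A] K) (Z : Finset (Fin n → A))
    (ha : ∀ m : K, ∃ (a : I) (x : Fin n → A), m = ι a + u x)
    (hb : ∀ z ∈ Z, u z ∈ LinearMap.range ι)
    (hc : ∀ x, u x ∈ LinearMap.range ι →
      x ∈ Submodule.span A (Z : Set (Fin n → A)) ⊔ I • (⊤ : Submodule A (Fin n → A))) :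
    ∃ ρ : K →ₗ[A] I, ∀ a : I, ρ (ι a) = a := by
  classical
  have hinjB : Function.Injective (algebraMap A B) := FaithfulSMul.algebraMap_injective A B
  have hι : Function.Injective ι := by
    rw [← LinearMap.ker_eq_bot, eq_bot_iff]
    intro a ha0
    have h1 : algebraMap A B a = 0 := by rw [← hσι, LinearMap.mem_ker.1 ha0, map_zero]
    exact Subtype.ext (hinjB (h1.trans (map_zero _).symm))
  -- the quotient and its finitely presented cover
  let R : Submodule A K := LinearMap.range ι
  let π : K →ₗ[A] K ⧸ R := R.mkQ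
  have hπι : π ∘ₗ ι = 0 := by
    ext a
    exact (Submodule.Quotient.mk_eq_zero R).2 ⟨a, rfl⟩
  let ZS : Submodule A (Fin n → A) := Submodule.span A (Z : Set (Fin n → A))
  haveI : Module.FinitePresentation A ((Fin n → A) ⧸ ZS) :=
    Module.finitePresentation_of_free_of_surjective ZS.mkQ (Submodule.mkQ_surjective ZS)
      (by rw [Submodule.ker_mkQ]; exact Submodule.fg_span Z.finite_toSet)
  have hZker : ZS ≤ LinearMap.ker (π ∘ₗ u) := by
    rw [Submodule.span_le]
    intro z hz
    exact (Submodule.Quotient.mk_eq_zero R).2 (hb z hz)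
  let g : ((Fin n → A) ⧸ ZS) →ₗ[A] K ⧸ R := ZS.liftQ (π ∘ₗ u) hZker
  have hg : ∀ x, g (ZS.mkQ x) = π (u x) := fun x => rfl
  -- the lift over `B`
  let IB : Ideal B := I.map (algebraMap A B)
  let σK' : K →ₗ[A] ↥IB := σK.codRestrict (IB.restrictScalars A) hσI
  let e := tensorIdealEquiv B I
  let h₀ : (Fin n → A) →ₗ[A] B ⊗[A] K :=
    (TensorProduct.mk A B K 1) ∘ₗ u -
      ((ι.baseChange B).restrictScalars A) ∘ₗ (e.symm.toLinearMap.restrictScalars A) ∘ₗ σK' ∘ₗ u
  have hh₀ : ∀ x, h₀ x = (1 : B) ⊗ₜ[A] u x - (ι.baseChange B) (e.symm (σK' (u x))) := fun x => rfl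
  have hZker₀ : ZS ≤ LinearMap.ker h₀ := by
    rw [Submodule.span_le]
    intro z hz
    obtain ⟨a, haz⟩ := hb z hz
    rw [SetLike.mem_coe, LinearMap.mem_ker, hh₀, ← haz]
    have h1 : σK' (ι a) = ⟨algebraMap A B a, Ideal.mem_map_of_mem _ a.2⟩ :=
      Subtype.ext (hσι a)
    rw [h1, tensorIdealEquiv_symm_algebraMap, LinearMap.baseChange_tmul, sub_self]
  let h₀' : ((Fin n → A) ⧸ ZS) →ₗ[A] B ⊗[A] K := ZS.liftQ h₀ hZker₀
  let h' : B ⊗[A] ((Fin n → A) ⧸ ZS) →ₗ[B] B ⊗[A] K := h₀'.liftBaseChange B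
  have hπιB : ∀ t, (π.baseChange B) ((ι.baseChange B) t) = 0 := by
    intro t
    rw [← LinearMap.comp_apply, ← LinearMap.baseChange_comp, hπι, LinearMap.baseChange_zero,
      LinearMap.zero_apply]
  have hh' : (π.baseChange B) ∘ₗ h' = g.baseChange B := by
    apply LinearMap.restrictScalars_injective A
    apply TensorProduct.ext'
    intro b f
    obtain ⟨x, rfl⟩ := Submodule.mkQ_surjective ZS f
    change (π.baseChange B) (h' (b ⊗ₜ ZS.mkQ x)) = (g.baseChange B) (b ⊗ₜ ZS.mkQ x)
    rw [LinearMap.liftBaseChange_tmul, LinearMap.baseChange_tmul, hg]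
    change (π.baseChange B) (b • h₀ x) = _
    rw [map_smul, hh₀, map_sub, hπιB, sub_zero, LinearMap.baseChange_tmul, smul_tmul', smul_eq_mul,
      mul_one]
  obtain ⟨h, hh⟩ := exists_lift_of_faithfullyFlat B π g h' hh'
  have hh1 : ∀ f, π (h f) = g f := fun f => by
    rw [← LinearMap.comp_apply, hh]
  -- the section of `π`
  have hgsurj : Function.Surjective g := by
    intro y
    obtain ⟨m, rfl⟩ := Submodule.mkQ_surjective R y
    obtain ⟨a, x, rfl⟩ := ha m
    refine ⟨ZS.mkQ x, ?_⟩
    rw [hg, map_add]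
    have : π (ι a) = 0 := (Submodule.Quotient.mk_eq_zero R).2 ⟨a, rfl⟩
    rw [this, zero_add]
  have hkerle : LinearMap.ker g ≤ LinearMap.ker h := by
    intro f hf
    obtain ⟨x, rfl⟩ := Submodule.mkQ_surjective ZS f
    rw [LinearMap.mem_ker, hg] at hf
    have hx := hc x ((Submodule.Quotient.mk_eq_zero R).1 hf)
    obtain ⟨z, hz, w, hw, rfl⟩ := Submodule.mem_sup.1 hx
    rw [LinearMap.mem_ker, map_add, map_add]
    have h1 : ZS.mkQ z = 0 := (Submodule.Quotient.mk_eq_zero ZS).2 hz
    rw [h1, map_zero, zero_add]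
    refine Submodule.smul_induction_on hw ?_ ?_
    · intro a haI v _
      rw [map_smul, map_smul]
      exact hIM a haI _
    · intro v w hv hw
      rw [map_add, map_add, hv, hw, add_zero]
  let s : (K ⧸ R) →ₗ[A] K :=
    ((LinearMap.ker g).liftQ h hkerle) ∘ₗ (g.quotKerEquivOfSurjective hgsurj).symm.toLinearMap
  have hs : ∀ y, π (s y) = y := by
    intro y
    obtain ⟨f, rfl⟩ := hgsurj y
    have h1 : (g.quotKerEquivOfSurjective hgsurj).symm (g f) = (LinearMap.ker g).mkQ f := by
      rw [LinearEquiv.symm_apply_eq]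
      rfl
    change π (((LinearMap.ker g).liftQ h hkerle) ((g.quotKerEquivOfSurjective hgsurj).symm (g f))) = _
    rw [h1]
    change π (h f) = g f
    exact hh1 f
  -- the retraction
  have hmem : ∀ k : K, k - s (π k) ∈ R := by
    intro k
    rw [← Submodule.Quotient.mk_eq_zero R]
    change π (k - s (π k)) = 0
    rw [map_sub, hs, sub_self]
  let ιe : I ≃ₗ[A] ↥R := LinearEquiv.ofInjective ι hι
  let ρ : K →ₗ[A] I :=
    ιe.symm.toLinearMap ∘ₗ ((LinearMap.id - s ∘ₗ π).codRestrict R hmem)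
  refine ⟨ρ, fun a => ?_⟩
  change ιe.symm (((LinearMap.id - s ∘ₗ π).codRestrict R hmem) (ι a)) = a
  rw [LinearEquiv.symm_apply_eq]
  apply Subtype.ext
  change ι a - s (π (ι a)) = ι a
  have : π (ι a) = 0 := (Submodule.Quotient.mk_eq_zero R).2 ⟨a, rfl⟩
  rw [this, map_zero, sub_zero]

end Retraction

section Main

open Groth.Agent.Lib.H86GlueAlg

variable {A C A₀ : Type u} [CommRing A] [CommRing C] [CommRing A₀]

/-- **Faithfully flat descent of ring retractions** of a square zero extension over `A`, given a finite presentation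
hypothesis on the reduction. -/
theorem exists_ringHom_retraction_ff (φ : A →+* C) (p : C →+* A₀) (q : A →+* A₀)
    (hpq : p.comp φ = q) (hq : Function.Surjective q)
    (hI : ∀ x y, q x = 0 → q y = 0 → x * y = 0) (hK : ∀ x y, p x = 0 → p y = 0 → x * y = 0)
    {D : Type u} [CommRing D] (ψ : A₀ →+* D) (r : C →+* D) (ε : D →+* A₀)
    (hψ : ψ.FinitePresentation) (hr : Function.Surjective r)
    (hker : ∀ c, r c = 0 → c ∈ (RingHom.ker q).map φ)
    (hrφ : r.comp φ = ψ.comp q) (hεr : ε.comp r = p)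
    (B : Type u) [CommRing B] [Algebra A B] [Module.FaithfullyFlat A B]
    (σB : C →+* B) (hσB1 : σB.comp φ = algebraMap A B)
    (hσB2 : ∀ k, p k = 0 → σB k ∈ (RingHom.ker q).map (algebraMap A B)) :
    ∃ σ : C →+* A, σ.comp φ = RingHom.id A ∧ q.comp σ = p := by
  classical
  have hpφ : ∀ a, p (φ a) = q a := fun a => by rw [← hpq]; rfl
  have hrφ' : ∀ a, r (φ a) = ψ (q a) := fun a => by
    have := congrArg (fun f : A →+* D => f a) hrφ
    simpa using this
  have hεr' : ∀ c, ε (r c) = p c := fun c => by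
    have := congrArg (fun f : C →+* A₀ => f c) hεr
    simpa using this
  have hεψ : ∀ x, ε (ψ x) = x := by
    intro x
    obtain ⟨a, rfl⟩ := hq x
    rw [← hrφ', hεr', hpφ]
  letI : Algebra A C := φ.toAlgebra
  letI : Algebra A A₀ := q.toAlgebra
  letI : Algebra A₀ D := ψ.toAlgebra
  letI : Algebra A D := (ψ.comp q).toAlgebra
  haveI : IsScalarTower A A₀ D := IsScalarTower.of_algebraMap_eq fun _ => rfl
  let I : Ideal A := RingHom.ker q
  let K : Submodule A C := (RingHom.ker p).restrictScalars A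
  have hKmem : ∀ c, c ∈ K ↔ p c = 0 := fun c => Iff.rfl
  let ι : I →ₗ[A] K := (Algebra.linearMap A C).restrict (p := I) (q := K) (fun x hx => by
    change p (φ x) = 0
    rw [hpφ]; exact hx)
  have hιa : ∀ a : I, ((ι a : K) : C) = φ a := fun a => rfl
  -- the finitely presented quotient
  let εa : D →ₐ[A₀] A₀ := { ε with commutes' := hεψ }
  have hsq : ∀ x y, εa x = 0 → εa y = 0 → x * y = 0 := by
    intro x y hx hy
    obtain ⟨c, rfl⟩ := hr x
    obtain ⟨c', rfl⟩ := hr y
    have h1 : p c = 0 := by rw [← hεr']; exact hx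
    have h2 : p c' = 0 := by rw [← hεr']; exact hy
    rw [← map_mul, hK c c' h1 h2, map_zero]
  haveI : Algebra.FinitePresentation A₀ D := hψ
  haveI hQfp : Module.FinitePresentation A₀ (RingHom.ker εa.toRingHom) :=
    finitePresentation_ker_of_augmentation εa hsq
  let Qi : Ideal D := RingHom.ker εa.toRingHom
  let rl : C →ₗ[A] D :=
    { toFun := r
      map_add' := map_add r
      map_smul' := fun a c => by
        change r (φ a * c) = ψ (q a) * r c
        rw [map_mul, hrφ'] }
  let π : K →ₗ[A] Qi := rl.restrict (p := K) (q := Qi.restrictScalars A) (fun c hc => by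
    change ε (r c) = 0
    rw [hεr']; exact hc)
  have hπ : Function.Surjective π := by
    rintro ⟨x, hx⟩
    obtain ⟨c, rfl⟩ := hr x
    have hc : p c = 0 := by rw [← hεr']; exact hx
    exact ⟨⟨c, hc⟩, rfl⟩
  have hπker : ∀ k : K, π k = 0 ↔ k ∈ LinearMap.range ι := by
    intro k
    constructor
    · intro hk
      have h1 : r (k : C) = 0 := congrArg Subtype.val hk
      obtain ⟨a, ha, hka⟩ := exists_eq_of_mem_map φ p q hpq hq hK _ (hker _ h1)
      exact ⟨⟨a, ha⟩, Subtype.ext hka.symm⟩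
    · rintro ⟨a, rfl⟩
      apply Subtype.ext
      change r (φ a) = 0
      rw [hrφ']
      have : q (a : A) = 0 := a.2
      rw [this, map_zero]
  obtain ⟨n, u, Z, h1, h2, h3⟩ := exists_fin_data (A := A) (A₀ := A₀) hq π hπ
  have hII : ∀ a ∈ I, ∀ b ∈ I, a * b = 0 := fun a ha b hb => hI a b ha hb
  have hIM : ∀ a ∈ I, ∀ m : K, a • m = 0 := by
    intro a ha m
    apply Subtype.ext
    change φ a * (m : C) = 0
    exact hK _ _ (by rw [hpφ]; exact ha) m.2
  have ha : ∀ m : K, ∃ (a : I) (x : Fin n → A), m = ι a + u x := by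
    intro m
    obtain ⟨x, hx⟩ := h1 m
    obtain ⟨a, ha⟩ := (hπker _).1 (LinearMap.mem_ker.1 hx)
    exact ⟨a, x, by rw [ha]; abel⟩
  have hb : ∀ z ∈ Z, u z ∈ LinearMap.range ι := fun z hz => (hπker _).1 (LinearMap.mem_ker.1 (h2 z hz))
  have hc : ∀ x, u x ∈ LinearMap.range ι →
      x ∈ Submodule.span A (Z : Set (Fin n → A)) ⊔ I • (⊤ : Submodule A (Fin n → A)) :=
    fun x hx => h3 x (LinearMap.mem_ker.2 ((hπker _).2 hx))
  -- descent of the retraction
  have hσφ : ∀ a, σB (φ a) = algebraMap A B a := fun a => by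
    have := congrArg (fun f : A →+* B => f a) hσB1
    simpa using this
  let σl : C →ₗ[A] B :=
    { toFun := σB
      map_add' := map_add σB
      map_smul' := fun a c => by
        change σB (φ a * c) = a • σB c
        rw [map_mul, hσφ, Algebra.smul_def] }
  obtain ⟨ρ, hρ⟩ := exists_retraction_ff I ι hIM B (σl ∘ₗ K.subtype)
    (fun m => hσB2 _ m.2) (fun a => hσφ a) u Z ha hb hc
  -- the ring retraction
  let ρf : C → A := fun c => if h : p c = 0 then ((ρ ⟨c, h⟩ : I) : A) else 0
  have hρf : ∀ c (h : p c = 0), ρf c = ((ρ ⟨c, h⟩ : I) : A) := fun c h => dif_pos h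
  refine exists_ringHom_of_retraction φ p q hpq hq hI hK ρf ?_ ?_ ?_ ?_
  · intro x y hx hy
    have hxy : p (x + y) = 0 := by rw [map_add, hx, hy, add_zero]
    rw [hρf _ hx, hρf _ hy, hρf _ hxy]
    have : (⟨x + y, hxy⟩ : K) = ⟨x, hx⟩ + ⟨y, hy⟩ := rfl
    rw [this, map_add]
    rfl
  · intro a x hx
    have hax : p (φ a * x) = 0 := by rw [map_mul, hx, mul_zero]
    rw [hρf _ hx, hρf _ hax]
    have : (⟨φ a * x, hax⟩ : K) = a • ⟨x, hx⟩ := rfl
    rw [this, map_smul]
    rfl
  · intro x hx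
    rw [hρf _ hx]
    exact (ρ ⟨x, hx⟩).2
  · intro a ha
    have h : p (φ a) = 0 := by rw [hpφ]; exact ha
    rw [hρf _ h]
    have : (⟨φ a, h⟩ : K) = ι ⟨a, ha⟩ := rfl
    rw [this, hρ]

end Main

end Groth.Agent.Lib.H86GlueAlgFF
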