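import Groth.Agent.Lib.H86GlueLift
import Groth.Agent.Lib.H86GlueAlgFF

/-!
# helper86: a section of a first order thickening `N → T` of an affine scheme which exists after a flat surjective
base change `V → T` (compatibly with the given section over `T₀`) exists over `T`, provided the reduction of `N` to
`T₀` is locally of finite presentation.
-/

set_option autoImplicit false
set_option linter.style.haveILetI false
universe u
open CategoryTheory CategoryTheory.Limits AlgebraicGeometry Opposite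

namespace Groth.Agent.Lib.H86GlueLiftFF
open Groth.Agent.Lib.H86GlueLift Groth.Agent.Lib.H86GlueAlgFF

/-- The kernel of the cobase change of a surjection of rings is the extended ideal. -/
theorem mem_map_ker_of_isPushout {A B A₀ B₀ : CommRingCat.{u}} {f : A ⟶ B} {q : A ⟶ A₀}
    {inl : B ⟶ B₀} {inr : A₀ ⟶ B₀} (hpo : IsPushout f q inl inr)
    (hq : Function.Surjective q.hom) (x : B) (hx : inl.hom x = 0) :
    x ∈ (RingHom.ker q.hom).map f.hom := by
  let 𝔞 : Ideal B := (RingHom.ker q.hom).map f.hom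
  let m : B ⟶ CommRingCat.of (B ⧸ 𝔞) := CommRingCat.ofHom (Ideal.Quotient.mk 𝔞)
  have hle : RingHom.ker q.hom ≤ RingHom.ker ((Ideal.Quotient.mk 𝔞).comp f.hom) := by
    intro y hy
    rw [RingHom.mem_ker, RingHom.comp_apply, Ideal.Quotient.eq_zero_iff_mem]
    exact Ideal.mem_map_of_mem _ hy
  let n : A₀ ⟶ CommRingCat.of (B ⧸ 𝔞) := CommRingCat.ofHom
    (q.hom.liftOfSurjective hq ⟨(Ideal.Quotient.mk 𝔞).comp f.hom, hle⟩)
  have w : f ≫ m = q ≫ n := by
    ext y
    change (Ideal.Quotient.mk 𝔞) (f.hom y) =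
      (q.hom.liftOfSurjective hq ⟨(Ideal.Quotient.mk 𝔞).comp f.hom, hle⟩) (q.hom y)
    exact (RingHom.liftOfRightInverse_comp_apply q.hom (Function.surjInv hq)
      (Function.rightInverse_surjInv hq) ⟨(Ideal.Quotient.mk 𝔞).comp f.hom, hle⟩ y).symm
  have h1 : inl ≫ hpo.desc m n w = m := hpo.inl_desc m n w
  have h2 : m.hom x = 0 := by
    rw [← h1]
    change (hpo.desc m n w).hom (inl.hom x) = 0
    rw [hx, map_zero]
  exact Ideal.Quotient.eq_zero_iff_mem.1 h2

/-- A flat surjective morphism of affine schemes is faithfully flat on global sections. -/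
theorem faithfullyFlat_appTop {V T : Scheme.{u}} [IsAffine V] [IsAffine T] (c : V ⟶ T) [Flat c]
    [Surjective c] : c.appTop.hom.FaithfullyFlat := by
  rw [RingHom.FaithfullyFlat.iff_flat_and_comap_surjective]
  refine ⟨(HasRingHomProperty.iff_of_isAffine (P := @Flat)).1 inferInstance, ?_⟩
  have e : Spec.map c.appTop = V.isoSpec.inv ≫ c ≫ T.isoSpec.hom := by
    rw [← Scheme.isoSpec_hom_naturality, Iso.inv_hom_id_assoc]
  have : Surjective (Spec.map c.appTop) := by
    rw [e]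
    infer_instance
  exact (Spec.map c.appTop).surjective

set_option backward.isDefEq.respectTransparency false in
/-- **Descent of sections of a first order thickening along a flat covering.** -/
theorem exists_section_of_flat_cover {T₀ T N V V₀ N₀ : Scheme.{u}} [IsAffine T₀] [IsAffine V]
    (i : T₀ ⟶ T) (hi : MoreMor.IsFirstOrderThickening i)
    (iN : T₀ ⟶ N) (hiN : MoreMor.IsFirstOrderThickening iN) (πN : N ⟶ T) (hπ : iN ≫ πN = i)
    (k₀ : N₀ ⟶ N) (r₀ : N₀ ⟶ T₀) (hsq : IsPullback k₀ r₀ πN i)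
    [LocallyOfFinitePresentation r₀]
    (c : V ⟶ T) [Flat c] [Surjective c] (pr₁ : V₀ ⟶ V) (pr₂ : V₀ ⟶ T₀)
    (hV : IsPullback pr₁ pr₂ c i)
    (ν : V ⟶ N) (hν1 : ν ≫ πN = c) (hν2 : pr₁ ≫ ν = pr₂ ≫ iN) :
    ∃ ν' : T ⟶ N, ν' ≫ πN = 𝟙 T ∧ i ≫ ν' = iN := by
  haveI : IsClosedImmersion i := hi.1.1
  haveI : IsAffine T := isAffine_of_isFirstOrderThickening i hi
  haveI : IsAffine N := isAffine_of_isFirstOrderThickening iN hiN
  haveI : IsClosedImmersion k₀ := MorphismProperty.of_isPullback hsq.flip inferInstance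
  haveI : IsAffine N₀ := isAffine_of_isAffineHom k₀
  let j₀ : T₀ ⟶ N₀ := hsq.lift iN (𝟙 T₀) (by rw [hπ, Category.id_comp])
  have hj₀k₀ : j₀ ≫ k₀ = iN := hsq.lift_fst _ _ _
  have hj₀r₀ : j₀ ≫ r₀ = 𝟙 T₀ := hsq.lift_snd _ _ _
  have hψ : r₀.appTop.hom.FinitePresentation :=
    (HasRingHomProperty.iff_of_isAffine (P := @LocallyOfFinitePresentation)).1 inferInstance
  have hpo := isPushout_appTop_of_isPullback hsq
  have hpoV := isPushout_appTop_of_isPullback hV
  have hq : Function.Surjective i.appTop.hom :=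
    (IsClosedImmersion.isAffine_surjective_of_isAffine i).2
  have hr : Function.Surjective k₀.appTop.hom :=
    (IsClosedImmersion.isAffine_surjective_of_isAffine k₀).2
  have hpq : iN.appTop.hom.comp πN.appTop.hom = i.appTop.hom := by
    rw [← CommRingCat.hom_comp, ← Scheme.Hom.comp_appTop, hπ]
  have hrφ : k₀.appTop.hom.comp πN.appTop.hom = r₀.appTop.hom.comp i.appTop.hom := by
    rw [← CommRingCat.hom_comp, ← CommRingCat.hom_comp, hpo.w]
  have hεr : j₀.appTop.hom.comp k₀.appTop.hom = iN.appTop.hom := by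
    rw [← CommRingCat.hom_comp, ← Scheme.Hom.comp_appTop, hj₀k₀]
  have hker : ∀ x, k₀.appTop.hom x = 0 →
      x ∈ (RingHom.ker i.appTop.hom).map πN.appTop.hom :=
    fun x hx => mem_map_ker_of_isPushout hpo hq x hx
  letI : Algebra Γ(T, ⊤) Γ(V, ⊤) := c.appTop.hom.toAlgebra
  haveI : Module.FaithfullyFlat Γ(T, ⊤) Γ(V, ⊤) := faithfullyFlat_appTop c
  have hσB1 : ν.appTop.hom.comp πN.appTop.hom = algebraMap Γ(T, ⊤) Γ(V, ⊤) := by
    rw [← CommRingCat.hom_comp, ← Scheme.Hom.comp_appTop, hν1]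
    rfl
  have hσB2 : ∀ k, iN.appTop.hom k = 0 →
      ν.appTop.hom k ∈ (RingHom.ker i.appTop.hom).map (algebraMap Γ(T, ⊤) Γ(V, ⊤)) := by
    intro k hk
    refine mem_map_ker_of_isPushout hpoV hq _ ?_
    have e4 : ν.appTop ≫ pr₁.appTop = iN.appTop ≫ pr₂.appTop := by
      rw [← Scheme.Hom.comp_appTop, ← Scheme.Hom.comp_appTop, hν2]
    have := congrArg (fun f : Γ(N, ⊤) ⟶ Γ(V₀, ⊤) => f.hom k) e4
    simp only [CommRingCat.hom_comp, RingHom.comp_apply] at this
    rw [this, hk, map_zero]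
  obtain ⟨σ, hσ1, hσ2⟩ := exists_ringHom_retraction_ff πN.appTop.hom iN.appTop.hom i.appTop.hom hpq hq
    (ker_appTop_sq i hi) (ker_appTop_sq iN hiN) r₀.appTop.hom k₀.appTop.hom j₀.appTop.hom
    hψ hr hker hrφ hεr Γ(V, ⊤) ν.appTop.hom hσB1 hσB2
  exact exists_hom_of_ringHom i iN πN σ hσ1 hσ2

set_option backward.isDefEq.respectTransparency false in
/-- The reduction to `T₀` of the universal first order thickening of the section `T₀ ⟶ X ×_S T` attached to an
infinitesimal lifting problem for a morphism locally of finite presentation is locally of finite presentation over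
`T₀`. -/
theorem exists_lfp_reduction {S X T T₀ N : Scheme.{u}} (f : X ⟶ S)
    [LocallyOfFinitePresentation f] (i : T₀ ⟶ T) [IsAffine T₀]
    (hi : MoreMor.IsFirstOrderThickening i) (a : T ⟶ S) (a₀ : T₀ ⟶ X) (hsqr : a₀ ≫ f = i ≫ a)
    (iN : T₀ ⟶ N) (h' : N ⟶ pullback f a)
    (hu : OmegaSh.IsUnivThickening (pullback.lift a₀ i hsqr) iN h') :
    ∃ (N₀ : Scheme.{u}) (k₀ : N₀ ⟶ N) (r₀ : N₀ ⟶ T₀),
      IsPullback k₀ r₀ (h' ≫ pullback.snd f a) i ∧ LocallyOfFinitePresentation r₀ := by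
  haveI : IsClosedImmersion i := hi.1.1
  haveI : IsAffine T := isAffine_of_isFirstOrderThickening i hi
  let pr₁ : pullback f a ⟶ X := pullback.fst f a
  let pr₂ : pullback f a ⟶ T := pullback.snd f a
  let s₀ : T₀ ⟶ pullback f a := pullback.lift a₀ i hsqr
  have hs₀1 : s₀ ≫ pr₁ = a₀ := pullback.lift_fst _ _ _
  have hs₀2 : s₀ ≫ pr₂ = i := pullback.lift_snd _ _ _
  haveI : FormallyUnramified (s₀ ≫ pr₂) := by rw [hs₀2]; infer_instance
  haveI : FormallyUnramified s₀ := FormallyUnramified.of_comp s₀ pr₂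
  haveI : IsAffine N := isAffine_of_isFirstOrderThickening iN hu.1
  have hiNh' : iN ≫ h' = s₀ := hu.2.1
  let g₀ : pullback pr₂ i ⟶ pullback f a := pullback.fst pr₂ i
  let r₀ : pullback pr₂ i ⟶ T₀ := pullback.snd pr₂ i
  let sb : T₀ ⟶ pullback pr₂ i := pullback.lift s₀ (𝟙 T₀) (by rw [hs₀2, Category.id_comp])
  have hsb1 : sb ≫ g₀ = s₀ := pullback.lift_fst _ _ _
  have hsb2 : sb ≫ r₀ = 𝟙 T₀ := pullback.lift_snd _ _ _
  have hpb₀ : IsPullback sb (𝟙 T₀) g₀ s₀ := by
    have h2 : IsPullback sb (𝟙 _) (𝟙 _) sb := IsPullback.of_vert_isIso ⟨by simp⟩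
    have := h2.paste_horiz (IsKernelPair.id_of_mono g₀)
    simpa [hsb1] using this
  have hu₀ := Groth.Agent.S9733.result sb (𝟙 T₀) g₀ s₀ hpb₀ iN h' hu
  let j₀ : T₀ ⟶ pullback g₀ h' :=
    pullback.lift sb (𝟙 T₀ ≫ iN) (hpb₀.w.trans (congrArg (𝟙 T₀ ≫ ·) hu.2.1).symm)
  let h₀ : pullback g₀ h' ⟶ pullback pr₂ i := pullback.fst g₀ h'
  let k₀ : pullback g₀ h' ⟶ N := pullback.snd g₀ h'
  haveI hfp : LocallyOfFinitePresentation (h₀ ≫ r₀) :=
    Groth.Agent.Lib.H86GlueFP.locallyOfFinitePresentation_of_isUnivThickening_section r₀ sb hsb2 j₀ h₀ hu₀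
  have hsq : IsPullback k₀ (h₀ ≫ r₀) (h' ≫ pr₂) i := by
    have hA : IsPullback h₀ k₀ g₀ h' := IsPullback.of_hasPullback g₀ h'
    have hB : IsPullback r₀ g₀ i pr₂ := (IsPullback.of_hasPullback pr₂ i).flip
    exact (hA.paste_horiz hB).flip
  exact ⟨_, k₀, h₀ ≫ r₀, hsq, hfp⟩

end Groth.Agent.Lib.H86GlueLiftFF
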