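import Groth.Agent.Lib.H86Formal13
import Groth.Agent.Lib.H86GlueLiftFF
import Groth.Agent.Lib.SrcLocal

/-!
# helper86: the universal first order thickening of a section of a smooth morphism of algebraic spaces over an affine
scheme, computed on an affine etale chart of the base
-/

set_option autoImplicit false
set_option linter.style.haveILetI false
universe u
open CategoryTheory CategoryTheory.Limits AlgebraicGeometry Opposite

namespace Groth.Agent.Lib.H86Formal14
open AlgSp Groth.Agent.Lib.AlgSpBasic Groth.Agent.Lib.AlgSpLocP Groth.Agent.Lib.H86Formal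
open Groth.Agent.Lib.H86Formal2 Groth.Agent.Lib.H86Formal3 Groth.Agent.Lib.H86Formal4
open Groth.Agent.Lib.H86Formal5 Groth.Agent.Lib.H90AlgSpInf Groth.Agent.Lib.H86Formal7
open Groth.Agent.Lib.H86Formal9 Groth.Agent.Lib.H86Formal10 Groth.Agent.Lib.H86Formal11
open Groth.Agent.Lib.H86GlueLift Groth.Agent.Lib.H86GlueLiftFF

variable {S : Scheme.{u}}

set_option backward.isDefEq.respectTransparency false in
/-- **An affine etale chart of the base on which the given map to `P` lifts to an atlas.** -/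
theorem exists_affine_local_lift {A P : Sp S} (α : A ⟶ P) (hα1 : RepWith @Etale α)
    (hα2 : RepWith @Surjective α) {T T' : Over S} (j : T ⟶ T') (hT' : IsAffine T'.left)
    (hj : MoreMor.IsFirstOrderThickening j.left) (σ : (yon S).obj T ⟶ P) :
    ∃ (V V₀ : Over S) (c : V ⟶ T') (pr₁ : V₀ ⟶ V) (pr₂ : V₀ ⟶ T) (μ : (yon S).obj V₀ ⟶ A),
      IsAffine V.left ∧ Etale c.left ∧ Surjective c.left ∧
      IsPullback pr₁.left pr₂.left c.left j.left ∧ μ ≫ α = (yon S).map pr₂ ≫ σ := by
  obtain ⟨Q, ρ, ν, sqQ⟩ := hα1.1 σ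
  have hρ1 : Etale ρ.left := hα1.2 _ _ ρ sqQ
  have hρ2 : Surjective ρ.left := hα2.2 _ _ ρ sqQ
  obtain ⟨VO, cO, jQ, hcO, sqO⟩ := exists_etale_lift_over j hj.1.1 hj.1.2 ρ hρ1
  haveI := hcO
  haveI : Surjective cO.left := by
    refine ⟨fun t' => ?_⟩
    obtain ⟨t, rfl⟩ := hj.1.2.surj t'
    obtain ⟨x, rfl⟩ := hρ2.surj t
    refine ⟨jQ.left x, ?_⟩
    rw [← Scheme.Hom.comp_apply, sqO.w, Scheme.Hom.comp_apply]
  haveI : CompactSpace ↥T'.left := by haveI := hT'; infer_instance
  obtain ⟨X'', hX'', q'', hq'', hsurj, -⟩ :=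
    Groth.Agent.Lib.SrcLocal.exists_affine_refinement cO.left
  haveI := hq''
  let V : Over S := Over.mk (q'' ≫ VO.hom)
  let c : V ⟶ T' := Over.homMk (q'' ≫ cO.left) (by
    change (q'' ≫ cO.left) ≫ T'.hom = q'' ≫ VO.hom
    rw [Category.assoc, Over.w cO])
  let V₀ : Over S := Over.mk (pullback.snd c.left j.left ≫ T.hom)
  let pr₂ : V₀ ⟶ T := Over.homMk (pullback.snd c.left j.left) rfl
  let pr₁ : V₀ ⟶ V := Over.homMk (pullback.fst c.left j.left) (by
    change pullback.fst c.left j.left ≫ V.hom = pullback.snd c.left j.left ≫ T.hom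
    rw [← Over.w c, ← Category.assoc, pullback.condition, Category.assoc, Over.w j])
  let m : V₀.left ⟶ Q.left := sqO.lift (pullback.fst c.left j.left ≫ q'') (pullback.snd c.left j.left)
    (by
      rw [Category.assoc]
      exact pullback.condition)
  have hm2 : m ≫ ρ.left = pullback.snd c.left j.left := sqO.lift_snd _ _ _
  let mO : V₀ ⟶ Q := Over.homMk m (by
    change m ≫ Q.hom = pullback.snd c.left j.left ≫ T.hom
    rw [← Over.w ρ, ← Category.assoc, hm2])
  have hmρ : mO ≫ ρ = pr₂ := Over.OverMorphism.ext hm2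
  refine ⟨V, V₀, c, pr₁, pr₂, (yon S).map mO ≫ ν, hX'', ?_, hsurj, IsPullback.of_hasPullback _ _, ?_⟩
  · change Etale (q'' ≫ cO.left)
    infer_instance
  · rw [Category.assoc, sqQ.w, ← Category.assoc, ← Functor.map_comp, hmρ]

set_option backward.isDefEq.respectTransparency false in
/-- **The universal first order thickening on an affine etale chart of the base.**  `M` is the universal first order
thickening of a section `σ` of `g : P ⟶ T'` over `T ⊂ T'`; `c : V ⟶ T'` is an affine etale chart on which `σ`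
lifts to a smooth chart `At` of `P`.  Then `M ×_{T'} V` is an affine scheme `N`, a first order thickening of
`V₀ = V ×_{T'} T`, whose reduction to `V₀` is locally of finite presentation. -/
theorem exists_affine_chart_thickening {P M : Sp S} (hM : IsAlgSpace M)
    {T T' : Over S} (j : T ⟶ T') (g : P ⟶ (yon S).obj T') (σ : (yon S).obj T ⟶ P)
    (hσ : σ ≫ g = (yon S).map j) (iM : (yon S).obj T ⟶ M) (h' : M ⟶ P)
    (HU : IsUnivFOThick σ iM h') {At : Over S} (α : (yon S).obj At ⟶ P) (hα : RepWith @Etale α)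
    (gA : At ⟶ T') (hgA : α ≫ g = (yon S).map gA) (hgAs : Smooth gA.left)
    {V V₀ : Over S} (hV : IsAffine V.left) (c : V ⟶ T') (hc : Etale c.left) (pr₁ : V₀ ⟶ V)
    (pr₂ : V₀ ⟶ T) (sqV : IsPullback pr₁.left pr₂.left c.left j.left)
    (hpr₁ : MoreMor.IsFirstOrderThickening pr₁.left)
    (μ : V₀ ⟶ At) (hμ : (yon S).map μ ≫ α = (yon S).map pr₂ ≫ σ) :
    ∃ (N : Over S) (iN : V₀ ⟶ N) (πN : N ⟶ V) (kN : (yon S).obj N ⟶ M),
      IsAffine N.left ∧ MoreMor.IsFirstOrderThickening iN.left ∧ iN ≫ πN = pr₁ ∧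
      (yon S).map iN ≫ kN = (yon S).map pr₂ ≫ iM ∧
      IsPullback kN ((yon S).map πN) (h' ≫ g) ((yon S).map c) ∧
      ∃ (N₀ : Scheme.{u}) (k₀ : N₀ ⟶ N.left) (r₀ : N₀ ⟶ V₀.left),
        IsPullback k₀ r₀ πN.left pr₁.left ∧ LocallyOfFinitePresentation r₀ := by
  haveI := hV
  haveI := hc
  haveI := hgAs
  haveI : IsClosedImmersion pr₁.left := hpr₁.1.1
  haveI : IsAffine V₀.left := isAffine_of_isAffineHom pr₁.left
  have hiMq : iM ≫ h' ≫ g = (yon S).map j := by rw [← Category.assoc, HU.2.1, hσ]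
  have hsqVO : pr₁ ≫ c = pr₂ ≫ j := Over.OverMorphism.ext sqV.w
  -- the base change of `M` to `V`
  let XV : Sp S := pullback (h' ≫ g) ((yon S).map c)
  let e' : XV ⟶ M := pullback.fst _ _
  let pV : XV ⟶ (yon S).obj V := pullback.snd _ _
  have sqX : IsPullback e' pV (h' ≫ g) ((yon S).map c) := IsPullback.of_hasPullback _ _
  have hXV : IsAlgSpace XV :=
    isAlgSpace_of_isPullback hM (IsAlgSpace.yon_obj V)
      (fun _ a => (IsAlgSpace.yon_obj T').representable_from_yon a) sqX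
  let iZ : (yon S).obj V₀ ⟶ XV := pullback.lift ((yon S).map pr₂ ≫ iM) ((yon S).map pr₁) (by
    rw [Category.assoc, hiMq, ← Functor.map_comp, ← Functor.map_comp, hsqVO])
  have hiZ1 : iZ ≫ e' = (yon S).map pr₂ ≫ iM := pullback.lift_fst _ _ _
  have hiZ2 : iZ ≫ pV = (yon S).map pr₁ := pullback.lift_snd _ _ _
  have sqVy : IsPullback ((yon S).map pr₂) ((yon S).map pr₁) ((yon S).map j) ((yon S).map c) :=
    Groth.Agent.Lib.AlgSpAffineSpace.isPullback_yon_of_left sqV.flip
  have sqZ : IsPullback ((yon S).map pr₂) iZ iM e' := by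
    refine IsPullback.of_bot ?_ hiZ1.symm sqX
    rw [hiZ2, hiMq]
    exact sqVy
  have hyc : RepWith @Etale ((yon S).map c) := (repWith_yon_map_iff _ c).2 hc
  have he' : IsEtaleMor e' := isEtaleMor_of_repWith_etale ((RepWith @Etale).of_isPullback sqX.flip hyc)
  have HX : IsUnivFOThick ((yon S).map pr₂ ≫ σ) iZ (e' ≫ h') :=
    isUnivFOThick_etale_baseChange hXV hM ((yon S).map pr₂) σ iM h' HU iZ e' he' sqZ
  -- the scheme side
  have hμc : μ.left ≫ gA.left = pr₁.left ≫ c.left := by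
    have h1 : μ ≫ gA = pr₂ ≫ j := by
      apply (yon S).map_injective
      rw [Functor.map_comp, ← hgA, ← Category.assoc, hμ, Category.assoc, hσ, Functor.map_comp]
    rw [sqV.w]
    exact congrArg (fun φ => φ.left) h1
  let fA : pullback gA.left c.left ⟶ At.left := pullback.fst gA.left c.left
  let sA : pullback gA.left c.left ⟶ V.left := pullback.snd gA.left c.left
  let s₀ : V₀.left ⟶ pullback gA.left c.left := pullback.lift μ.left pr₁.left hμc
  have hs₀1 : s₀ ≫ fA = μ.left := pullback.lift_fst _ _ _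
  have hs₀2 : s₀ ≫ sA = pr₁.left := pullback.lift_snd _ _ _
  haveI : FormallyUnramified (s₀ ≫ sA) := by rw [hs₀2]; infer_instance
  haveI : FormallyUnramified s₀ := FormallyUnramified.of_comp s₀ sA
  obtain ⟨N, iN, hN, hu⟩ := Groth.Agent.S9731.result s₀
  haveI : IsAffine N := isAffine_of_isFirstOrderThickening iN hu.1
  have hiNhN : iN ≫ hN = s₀ := hu.2.1
  -- structures over `S`
  let AtV : Over S := Over.mk (sA ≫ V.hom)
  let fAO : AtV ⟶ At := Over.homMk fA (by
    change fA ≫ At.hom = sA ≫ V.hom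
    rw [← Over.w gA, ← Category.assoc, pullback.condition, Category.assoc, Over.w c])
  let sAO : AtV ⟶ V := Over.homMk sA rfl
  let NO : Over S := Over.mk (hN ≫ AtV.hom)
  let hNO : NO ⟶ AtV := Over.homMk hN rfl
  let s₀O : V₀ ⟶ AtV := Over.homMk s₀ (by
    change s₀ ≫ sA ≫ V.hom = V₀.hom
    rw [← Category.assoc, hs₀2, Over.w pr₁])
  let iNO : V₀ ⟶ NO := Over.homMk iN (by
    change iN ≫ hN ≫ sA ≫ V.hom = V₀.hom
    rw [← Category.assoc, hiNhN, ← Category.assoc, hs₀2, Over.w pr₁])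
  let πN : NO ⟶ V := hNO ≫ sAO
  have hiNπ : iNO ≫ πN = pr₁ := by
    apply Over.OverMorphism.ext
    change iN ≫ hN ≫ sA = pr₁.left
    rw [← Category.assoc, hiNhN, hs₀2]
  have hs₀f : s₀O ≫ fAO = μ := Over.OverMorphism.ext hs₀1
  have HN1 : IsUnivFOThick ((yon S).map s₀O) ((yon S).map iNO) ((yon S).map hNO) :=
    isUnivFOThick_yon_of_isUnivThickening s₀O iNO hNO hu
  have hfAe : RepWith @Etale ((yon S).map fAO) := by
    refine (repWith_yon_map_iff _ fAO).2 ?_
    change Etale (pullback.fst gA.left c.left)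
    infer_instance
  let β : (yon S).obj AtV ⟶ P := (yon S).map fAO ≫ α
  have hβ : IsFormallyEtaleMor β :=
    isFormallyEtaleMor_of_repWith_etale β (MorphismProperty.comp_mem _ _ _ hfAe hα)
  have HN2 := isUnivFOThick_comp_formallyEtale ((yon S).map s₀O) β ((yon S).map iNO)
    ((yon S).map hNO) HN1 hβ
  have hρ : (yon S).map s₀O ≫ β = (yon S).map pr₂ ≫ σ := by
    change (yon S).map s₀O ≫ (yon S).map fAO ≫ α = _
    rw [← Category.assoc, ← Functor.map_comp, hs₀f, hμ]
  rw [hρ] at HN2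
  obtain ⟨θ, θ', hθ1, hθ2, hθ3, hθ4⟩ := exists_iso_of_isUnivFOThick (IsAlgSpace.yon_obj V₀) hXV
    (IsAlgSpace.yon_obj NO) ((yon S).map pr₂ ≫ σ) iZ (e' ≫ h') ((yon S).map iNO)
    ((yon S).map hNO ≫ β) HX HN2
  -- compatibility with the projections to `V`
  have hfec : IsFormallyEtaleMor ((yon S).map c) := isFormallyEtaleMor_of_repWith_etale _ hyc
  have hβg : β ≫ g = (yon S).map (sAO ≫ c) := by
    change ((yon S).map fAO ≫ α) ≫ g = _
    rw [Category.assoc, hgA, ← Functor.map_comp]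
    congr 1
    apply Over.OverMorphism.ext
    exact pullback.condition
  have hpV : pV = θ ≫ (yon S).map πN := by
    obtain ⟨l, -, hl⟩ := existsUnique_lift_of_isFormallyEtaleMor ((yon S).map c) hfec hXV iZ HX.1
      ((yon S).map pr₁) (e' ≫ h' ≫ g) (by
        rw [← Category.assoc iZ, hiZ1, Category.assoc, hiMq, ← Functor.map_comp, ← Functor.map_comp,
          hsqVO])
    rw [hl pV ⟨hiZ2, sqX.w.symm⟩]
    refine (hl _ ⟨?_, ?_⟩).symm
    · rw [← Category.assoc, hθ3, ← Functor.map_comp, hiNπ]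
    · rw [Category.assoc, ← Functor.map_comp]
      have e1 : (yon S).map (πN ≫ c) = (yon S).map hNO ≫ β ≫ g := by
        rw [hβg, ← Functor.map_comp]
        congr 1
      rw [e1, ← Category.assoc ((yon S).map hNO), ← Category.assoc θ, hθ4, Category.assoc]
  -- conclusion
  have hlfp := exists_lfp_reduction gA.left pr₁.left hpr₁ c.left μ.left hμc iN hN hu
  refine ⟨NO, iNO, πN, θ' ≫ e', ‹IsAffine N›, hu.1, hiNπ, ?_, ?_, hlfp⟩
  · rw [← hθ3, Category.assoc, ← Category.assoc θ, hθ1, Category.id_comp, hiZ1]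
  · refine IsPullback.of_iso sqX ⟨θ, θ', hθ1, hθ2⟩ (Iso.refl _) (Iso.refl _) (Iso.refl _) ?_ ?_ ?_ ?_
    · change e' ≫ 𝟙 _ = θ ≫ θ' ≫ e'
      rw [Category.comp_id, ← Category.assoc, hθ1, Category.id_comp]
    · change pV ≫ 𝟙 _ = θ ≫ (yon S).map πN
      rw [Category.comp_id, hpV]
    · simp
    · simp

end Groth.Agent.Lib.H86Formal14
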