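import Groth.Agent.Lib.H86Formal14
import Groth.Agent.Lib.H86ZarLocBase
import Groth.Agent.S10533

/-!
# helper86: smooth morphisms of algebraic spaces are formally smooth
-/

set_option autoImplicit false
set_option linter.style.haveILetI false
universe u
open CategoryTheory CategoryTheory.Limits AlgebraicGeometry Opposite

namespace Groth.Agent.Lib.H86Formal15
open AlgSp Groth.Agent.Lib.AlgSpBasic Groth.Agent.Lib.AlgSpLocP Groth.Agent.Lib.H86Formal
open Groth.Agent.Lib.H86Formal2 Groth.Agent.Lib.H86Formal3 Groth.Agent.Lib.H86Formal4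
open Groth.Agent.Lib.H86Formal5 Groth.Agent.Lib.H90AlgSpInf Groth.Agent.Lib.H86Formal7
open Groth.Agent.Lib.H86Formal9 Groth.Agent.Lib.H86Formal10 Groth.Agent.Lib.H86Formal11
open Groth.Agent.Lib.H86Formal12 Groth.Agent.Lib.H86Formal13 Groth.Agent.Lib.H86Formal14
open Groth.Agent.Lib.H86GlueLift Groth.Agent.Lib.H86GlueLiftFF Groth.Agent.Lib.H86FormalSm

variable {S : Scheme.{u}}

set_option backward.isDefEq.respectTransparency false in
set_option maxHeartbeats 1600000 in
/-- **Sections of a smooth morphism of algebraic spaces over an affine scheme extend along first order thickenings.** -/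
theorem exists_section_of_smooth {P : Sp S} (hP : IsAlgSpace P) {T T' : Over S} (j : T ⟶ T')
    (hT' : IsAffine T'.left) (hj : MoreMor.IsFirstOrderThickening j.left)
    (g : P ⟶ (yon S).obj T') (hg : LocP @Smooth g) (σ : (yon S).obj T ⟶ P)
    (hσ : σ ≫ g = (yon S).map j) :
    ∃ s : (yon S).obj T' ⟶ P, (yon S).map j ≫ s = σ ∧ s ≫ g = 𝟙 _ := by
  haveI := hT'
  haveI : IsClosedImmersion j.left := hj.1.1
  haveI : IsAffine T.left := isAffine_of_isAffineHom j.left
  -- the universal first order thickening of `σ`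
  have hσfu : IsFormallyUnramifiedMor σ := by
    apply unramified_of_comp (b := g)
    rw [hσ, isFormallyUnramifiedMor_yon_map_iff]
    infer_instance
  obtain ⟨M, hM, iM, h', HU⟩ := exists_isUnivFOThick (IsAlgSpace.yon_obj T) hP σ hσfu
  have hiMq : iM ≫ h' ≫ g = (yon S).map j := by rw [← Category.assoc, HU.2.1, hσ]
  -- a smooth chart and an affine etale chart of the base
  obtain ⟨At, α, hα1, hα2⟩ := hP.atlas
  obtain ⟨gA, hgA⟩ := (yon S).map_surjective (α ≫ g)
  have hgAs : Smooth gA.left := hg α (𝟙 _) gA hα1 (repWith_id _ T') (by rw [hgA, Category.comp_id])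
  obtain ⟨V, V₀, c, pr₁, pr₂, μ', hV, hc, hcs, sqV, hμ'⟩ :=
    exists_affine_local_lift α hα1 hα2 j hT' hj σ
  obtain ⟨μ, rfl⟩ := (yon S).map_surjective μ'
  haveI := hV
  haveI := hc
  haveI := hcs
  have hpr₁ : MoreMor.IsFirstOrderThickening pr₁.left := isFirstOrderThickening_of_isPullback sqV hj
  haveI : IsClosedImmersion pr₁.left := hpr₁.1.1
  haveI : IsAffine V₀.left := isAffine_of_isAffineHom pr₁.left
  obtain ⟨N, iN, πN, kN, hNaff, hiN, hiNπ, hiNk, sqN, N₀, k₀, r₀, sqN₀, hr₀⟩ :=
    exists_affine_chart_thickening hM j g σ hσ iM h' HU α hα1 gA hgA.symm hgAs hV c hc pr₁ pr₂ sqV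
      hpr₁ μ hμ'
  haveI := hNaff
  -- `M` is affine over `T'`
  have hyc : RepWith @Etale ((yon S).map c) := (repWith_yon_map_iff _ c).2 hc
  have hycs : RepWith @Surjective ((yon S).map c) := (repWith_yon_map_iff _ c).2 hcs
  have hcov := Groth.Agent.Lib.AlgSpFpqc.isFpqcCover_of_etale_surjective_chart
    (IsAlgSpace.yon_obj T') hyc hycs
  have haffπ : IsAffineMor ((yon S).map πN) :=
    (Groth.Agent.Lib.H86ZarGlue.isAffineMor_iff_repWith _).2
      ((repWith_yon_map_iff _ πN).2 inferInstance)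
  have haff : IsAffineMor (h' ≫ g) :=
    ((Groth.Agent.S10533.result S) (fun _ : PUnit.{u+1} => (yon S).obj V) (fun _ => (yon S).map c)
      (IsAlgSpace.yon_obj T') (fun _ => IsAlgSpace.yon_obj V) hcov (h' ≫ g) hM
      (fun _ => (yon S).obj N) (fun _ => (yon S).map πN) (fun _ => kN)
      (fun _ => IsAlgSpace.yon_obj N) (fun _ => sqN)).2 (fun _ => haffπ)
  obtain ⟨W, q₀, fstW, sqW, hWaff⟩ := haff hT' (𝟙 _)
  haveI := hWaff
  haveI : IsIso fstW := sqW.isIso_fst_of_isIso
  have hfstW : fstW ≫ h' ≫ g = (yon S).map q₀ := by rw [sqW.w, Category.comp_id]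
  have hinv : inv fstW ≫ (yon S).map q₀ = h' ≫ g := by rw [IsIso.inv_comp_eq, hfstW]
  -- the thickening `T ⟶ W`
  obtain ⟨i₀, hi₀⟩ := (yon S).map_surjective (iM ≫ inv fstW)
  have hi₀q₀ : i₀ ≫ q₀ = j := by
    apply (yon S).map_injective
    rw [Functor.map_comp, hi₀, Category.assoc, hinv, hiMq]
  have hi₀FO : MoreMor.IsFirstOrderThickening i₀.left := by
    refine isFirstOrderThickening_of_isFOThickMor_yon_map hWaff
      (isFOThickMor_of_isPullback_general hM HU.1 (f := 𝟙 _) (pW := fstW) ?_)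
    refine IsPullback.of_vert_isIso ⟨?_⟩
    rw [hi₀, Category.assoc, IsIso.inv_hom_id, Category.comp_id, Category.id_comp]
  -- finite presentation of the reduction
  obtain ⟨kW, hkW⟩ := (yon S).map_surjective (kN ≫ inv fstW)
  have sqNW : IsPullback ((yon S).map kW) ((yon S).map πN) ((yon S).map q₀) ((yon S).map c) := by
    refine IsPullback.of_iso sqN (Iso.refl _) (asIso fstW).symm (Iso.refl _) (Iso.refl _) ?_ ?_ ?_ ?_
    · change kN ≫ inv fstW = 𝟙 _ ≫ (yon S).map kW
      rw [Category.id_comp, hkW]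
    · simp
    · change (h' ≫ g) ≫ 𝟙 _ = inv fstW ≫ (yon S).map q₀
      rw [Category.comp_id, hinv]
    · simp
  have sqNW₀ : IsPullback kW.left πN.left q₀.left c.left :=
    Groth.Agent.Lib.H86Thick.isPullback_left_of_yon sqNW
  have sqW₀ : IsPullback (pullback.fst q₀.left j.left) (pullback.snd q₀.left j.left) q₀.left j.left :=
    IsPullback.of_hasPullback _ _
  have big : IsPullback (k₀ ≫ kW.left) r₀ q₀.left (pr₂.left ≫ j.left) := by
    rw [← sqV.w]
    exact sqN₀.paste_horiz sqNW₀
  have sqD := IsPullback.of_right' big sqW₀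
  haveI : LocallyOfFinitePresentation (pullback.snd q₀.left j.left) := by
    haveI : MorphismProperty.DescendsAlong @LocallyOfFinitePresentation
        (@Surjective ⊓ @Flat ⊓ @QuasiCompact : MorphismProperty Scheme.{u}) :=
      HasRingHomProperty.descendsAlong_flat RingHom.FinitePresentation.codescendsAlong_faithfullyFlat
    refine MorphismProperty.of_isPullback_of_descendsAlong (P := @LocallyOfFinitePresentation)
      (Q := (@Surjective ⊓ @Flat ⊓ @QuasiCompact : MorphismProperty Scheme.{u})) sqD.flip ?_ hr₀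
    have h1 : Surjective pr₂.left := MorphismProperty.of_isPullback sqV inferInstance
    have h2 : Flat pr₂.left := MorphismProperty.of_isPullback sqV inferInstance
    exact ⟨⟨h1, h2⟩, inferInstance⟩
  -- the section over `V`
  have hfs : IsFormallySmoothMor ((yon S).map gA) := isFormallySmoothMor_yon_map_of_smooth gA hgAs
  have hμc : μ ≫ gA = pr₁ ≫ c := by
    apply (yon S).map_injective
    rw [Functor.map_comp, hgA, ← Category.assoc, hμ', Category.assoc, hσ, ← Functor.map_comp]
    congr 1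
    exact (Over.OverMorphism.ext sqV.w).symm
  obtain ⟨l, hl1, hl2⟩ := exists_lift_of_isFormallySmoothMor ((yon S).map gA) hfs pr₁ hV hpr₁
    ((yon S).map μ) ((yon S).map c) (by rw [← Functor.map_comp, ← Functor.map_comp, hμc])
  obtain ⟨t, ⟨ht1, ht2⟩, -⟩ := HU.2.2 (IsAlgSpace.yon_obj V₀) (IsAlgSpace.yon_obj V)
    ((yon S).map pr₁) ((yon S).map pr₂) (l ≫ α) (isFOThickMor_yon_map pr₁ hpr₁)
    (by rw [← Category.assoc, hl1, hμ'])
  obtain ⟨νV, hνV⟩ := (yon S).map_surjective (t ≫ inv fstW)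
  have hν1 : νV ≫ q₀ = c := by
    apply (yon S).map_injective
    rw [Functor.map_comp, hνV, Category.assoc, hinv, ← Category.assoc, ht2, Category.assoc, ← hgA, hl2]
  have hν2 : pr₁ ≫ νV = pr₂ ≫ i₀ := by
    apply (yon S).map_injective
    rw [Functor.map_comp, Functor.map_comp, hνV, hi₀, ← Category.assoc, ht1, Category.assoc]
  -- descent of the section
  obtain ⟨ν', hν'1, hν'2⟩ := exists_section_of_flat_cover j.left hj i₀.left hi₀FO q₀.left
    (congrArg (fun φ => φ.left) hi₀q₀) (pullback.fst q₀.left j.left) (pullback.snd q₀.left j.left)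
    sqW₀ c.left pr₁.left pr₂.left sqV νV.left (congrArg (fun φ => φ.left) hν1)
    (congrArg (fun φ => φ.left) hν2)
  let ν'O : T' ⟶ W := Over.homMk ν' (by
    rw [← Over.w q₀, ← Category.assoc, hν'1, Category.id_comp])
  have hν'O1 : ν'O ≫ q₀ = 𝟙 T' := Over.OverMorphism.ext hν'1
  have hν'O2 : j ≫ ν'O = i₀ := Over.OverMorphism.ext hν'2
  refine ⟨(yon S).map ν'O ≫ fstW ≫ h', ?_, ?_⟩
  · rw [← Category.assoc, ← Functor.map_comp, hν'O2, hi₀, Category.assoc, IsIso.inv_hom_id_assoc,
      HU.2.1]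
  · rw [Category.assoc, Category.assoc, hfstW, ← Functor.map_comp, hν'O1, (yon S).map_id]

end Groth.Agent.Lib.H86Formal15
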