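import Groth.Agent.S1417
import Groth.Agent.Lib.H86AlgSpOpen
import Groth.Agent.Lib.H86AlgSpPoints

/-!
# helper86: pointwise Artinian lifting criterion for smoothness (schemes), and factorization through open subspaces
-/

set_option autoImplicit false
set_option linter.style.haveILetI false
universe u
open CategoryTheory CategoryTheory.Limits AlgebraicGeometry Opposite

namespace Groth.Agent.Lib.H86Formal16

section Scheme

open IsLocalRing Groth.Agent.Lib.SpecLocal50 Groth.Agent.S1417

/-- The pointwise infinitesimal lifting hypothesis: small extensions of Artinian local rings whose closed point maps to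
`x`. -/
def PointLift {X S : Scheme.{u}} (f : X ⟶ S) (x : X) : Prop :=
  ∀ (B B' : Type u) [CommRing B] [CommRing B'] [IsArtinianRing B] [IsArtinianRing B']
    [IsLocalRing B] [IsLocalRing B']
    (φ : B' →+* B) (ε : B'), Function.Surjective φ → RingHom.ker φ = Ideal.span {ε} →
    (∀ m ∈ IsLocalRing.maximalIdeal B', ε * m = 0) →
    ∀ (α : Spec (CommRingCat.of B) ⟶ X) (β : Spec (CommRingCat.of B') ⟶ S),
      α (closedPoint (CommRingCat.of B)) = x →
      Spec.map (CommRingCat.ofHom φ) ≫ β = α ≫ f →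
      ∃ γ : Spec (CommRingCat.of B') ⟶ X,
        Spec.map (CommRingCat.ofHom φ) ≫ γ = α ∧ γ ≫ f = β

theorem pLiftProp_of_pointLift {X S : Scheme.{u}} (f : X ⟶ S) (x : X) (H : PointLift f x) :
    PLiftProp f x := by
  intro A' _ _ _ h _ ε hε hne g₀ hcomp hg₀m hg₀s
  -- the quotient ring
  have hnt : Nontrivial (A' ⧸ Ideal.span {ε}) := Ideal.Quotient.nontrivial_iff.mpr hne
  have hBloc : IsLocalRing (A' ⧸ Ideal.span {ε}) :=
    IsLocalRing.of_surjective' (Ideal.Quotient.mk _) Ideal.Quotient.mk_surjective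
  have hmmap : (maximalIdeal A').map (Ideal.Quotient.mk (Ideal.span {ε})) =
      maximalIdeal (A' ⧸ Ideal.span {ε}) :=
    IsLocalRing.map_maximalIdeal_of_surjective _ Ideal.Quotient.mk_surjective
  have hg₀loc : IsLocalHom g₀ := by
    refine ((IsLocalRing.local_hom_TFAE g₀).out 3 0).mp ?_
    intro b hb
    rw [Ideal.mem_comap, ← hmmap]
    exact hg₀m b hb
  let φ : A' →+* A' ⧸ Ideal.span {ε} := Ideal.Quotient.mk _
  have hφloc : IsLocalHom φ := IsLocalHom.of_surjective φ Ideal.Quotient.mk_surjective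
  let g₀' : X.presheaf.stalk x ⟶ CommRingCat.of (A' ⧸ Ideal.span {ε}) := CommRingCat.ofHom g₀
  let h' : S.presheaf.stalk (f x) ⟶ CommRingCat.of A' := CommRingCat.ofHom h
  have hg₀'loc : IsLocalHom g₀'.hom := hg₀loc
  have hh'loc : IsLocalHom h'.hom := ‹IsLocalHom h›
  have hφ'loc : IsLocalHom (CommRingCat.ofHom φ).hom := hφloc
  have hcomp' : f.stalkMap x ≫ g₀' = h' ≫ CommRingCat.ofHom φ := by
    ext r
    exact RingHom.congr_fun hcomp r
  let α : Spec (CommRingCat.of (A' ⧸ Ideal.span {ε})) ⟶ X := Spec.map g₀' ≫ X.fromSpecStalk x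
  let β : Spec (CommRingCat.of A') ⟶ S := Spec.map h' ≫ S.fromSpecStalk (f x)
  have hc : Spec.map (CommRingCat.ofHom φ) ≫ β = α ≫ f := by
    show Spec.map (CommRingCat.ofHom φ) ≫ Spec.map h' ≫ S.fromSpecStalk (f x) =
      (Spec.map g₀' ≫ X.fromSpecStalk x) ≫ f
    rw [Category.assoc, ← Scheme.SpecMap_stalkMap_fromSpecStalk, ← Spec.map_comp_assoc,
      ← Spec.map_comp_assoc, hcomp']
  have hαcp : α (closedPoint (CommRingCat.of (A' ⧸ Ideal.span {ε}))) = x := by
    calc α (closedPoint (CommRingCat.of (A' ⧸ Ideal.span {ε})))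
        = X.fromSpecStalk x (Spec.map g₀' (closedPoint (CommRingCat.of (A' ⧸ Ideal.span {ε})))) :=
          rfl
      _ = X.fromSpecStalk x (closedPoint (X.presheaf.stalk x)) := by rw [Spec_closedPoint]
      _ = x := Scheme.fromSpecStalk_closedPoint
  obtain ⟨γ, hγ1, hγ2⟩ := H (A' ⧸ Ideal.span {ε}) A' φ ε Ideal.Quotient.mk_surjective
    Ideal.mk_ker hε α β hαcp hc
  have hγcp : γ (closedPoint (CommRingCat.of A')) = x := by
    have h1 : Spec.map (CommRingCat.ofHom φ) (closedPoint (CommRingCat.of (A' ⧸ Ideal.span {ε}))) =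
        closedPoint (CommRingCat.of A') := Spec_closedPoint
    calc γ (closedPoint (CommRingCat.of A'))
        = γ (Spec.map (CommRingCat.ofHom φ)
            (closedPoint (CommRingCat.of (A' ⧸ Ideal.span {ε})))) := by rw [h1]
      _ = (Spec.map (CommRingCat.ofHom φ) ≫ γ)
            (closedPoint (CommRingCat.of (A' ⧸ Ideal.span {ε}))) := rfl
      _ = α (closedPoint (CommRingCat.of (A' ⧸ Ideal.span {ε}))) := by rw [hγ1]
      _ = x := hαcp
  obtain ⟨g, hgloc, hg⟩ := exists_of_closedPoint_eq γ hγcp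
  have e1 : f.stalkMap x ≫ g = h' := by
    have : IsLocalHom (f.stalkMap x ≫ g).hom := by
      rw [CommRingCat.hom_comp]; infer_instance
    apply fromSpecStalk_inj
    rw [Spec.map_comp, Category.assoc, Scheme.SpecMap_stalkMap_fromSpecStalk, ← Category.assoc, hg,
      hγ2]
  have e2 : g ≫ CommRingCat.ofHom φ = g₀' := by
    have : IsLocalHom (g ≫ CommRingCat.ofHom φ).hom := by
      rw [CommRingCat.hom_comp]; infer_instance
    apply fromSpecStalk_inj
    rw [Spec.map_comp, Category.assoc, hg, hγ1]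
  refine ⟨g.hom, ?_, ?_⟩
  · ext r
    exact congrArg (fun k => k.hom r) e1
  · ext b
    exact congrArg (fun k => k.hom b) e2



/-- **Pointwise Artinian criterion.**  A morphism locally of finite type to a locally Noetherian scheme with the
pointwise lifting property at `x` is smooth on an open neighbourhood of `x`. -/
theorem exists_smooth_nbhd_of_pointLift {X S : Scheme.{u}} (f : X ⟶ S) [IsLocallyNoetherian S]
    [LocallyOfFiniteType f] (x : X) (H : PointLift f x) :
    ∃ W : X.Opens, x ∈ W ∧ Smooth (W.ι ≫ f) := by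
  haveI hfp := Groth.Agent.Lib.SmoothNbhdLift.lfp_of_noeth f
  have hsm : x ∈ f.smoothLocus := formallySmooth_of_pLiftProp f x (pLiftProp_of_pointLift f x H)
  refine ⟨f.smoothLocus, hsm, ?_⟩
  rw [← Scheme.Hom.smoothLocus_eq_top_iff, ← Scheme.Hom.preimage_smoothLocus_eq]
  exact Scheme.Opens.ι_preimage_self _

end Scheme

end Groth.Agent.Lib.H86Formal16
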