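import Groth.Agent.Lib.H86Formal16
import Groth.Agent.S10629
import Groth.Agent.Lib.AlgSpDecentSpec
import Groth.Agent.Lib.AlgSpQC

/-!
# helper86: infinitesimal lifting at a point where a morphism of algebraic spaces is smooth
-/

set_option autoImplicit false
set_option linter.style.haveILetI false
universe u
open CategoryTheory CategoryTheory.Limits AlgebraicGeometry Opposite

namespace Groth.Agent.Lib.H86Formal17
open AlgSp Groth.Agent.Lib.AlgSpBasic Groth.Agent.Lib.AlgSpLocP Groth.Agent.Lib.H86Formal
open Groth.Agent.Lib.H86Formal2 Groth.Agent.Lib.H86Formal3 Groth.Agent.Lib.H86Formal4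
open Groth.Agent.Lib.H90AlgSpInf Groth.Agent.Lib.H86FormalSm
open Groth.Agent.Lib.H86AlgSpOpen Groth.Agent.Lib.H86AlgSpPoints

variable {S : Scheme.{u}}

/-- A map from a scheme all of whose points land in `W` factors through the open subsheaf `openSub F W`. -/
theorem exists_lift_openSub {F : Sp S} {W : Set (Points F)} {T : Over S} (g : (yon S).obj T ⟶ F)
    (h : ∀ t : ↥T.left, Points.ofPt g t ∈ W) :
    ∃ g' : (yon S).obj T ⟶ openSub F W, g' ≫ openSubι F W = g := by
  have hmem : yE g ∈ (subW F W).obj (op T) := by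
    intro t
    rw [Equiv.symm_apply_apply]
    exact h t
  let x : (openSub F W).obj.obj (op T) := ⟨yE g, hmem⟩
  refine ⟨yE.symm x, ?_⟩
  apply yE.injective
  rw [yE_comp, Equiv.apply_symm_apply]
  rfl

/-- Every point of the spectrum of a local ring lies in any open set containing the closed point. -/
theorem mem_of_closedPoint_mem {B : Type u} [CommRing B] [IsLocalRing B]
    {D : Set (PrimeSpectrum B)} (hD : IsOpen D) (h : IsLocalRing.closedPoint B ∈ D)
    (t : PrimeSpectrum B) : t ∈ D :=
  (IsLocalRing.specializes_closedPoint t).mem_open hD h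

set_option backward.isDefEq.respectTransparency false in
/-- **Infinitesimal lifting near a point of smoothness.**  If in a chart diagram `(a, b, h)` of `f` the chart morphism
`h` is smooth on the open `W` of the source chart, then every infinitesimal lifting problem for `f` along a
square-zero surjection of local rings whose closed point lands in the image of `W` has a solution. -/
theorem exists_lift_of_smooth_on_chart {X Y : Sp S} (hX : IsAlgSpace X) (hY : IsAlgSpace Y)
    (f : X ⟶ Y) {U V : Over S} (a : (yon S).obj U ⟶ X) (b : (yon S).obj V ⟶ Y) (h : U ⟶ V)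
    (ha : RepWith @Etale a) (hb : RepWith @Etale b) (e : a ≫ f = (yon S).map h ≫ b)
    (W : U.left.Opens) (hW : Smooth (W.ι ≫ h.left))
    {T₀ T : Over S} (q : T₀ ⟶ T) (hT : IsAffine T.left)
    (hq : MoreMor.IsFirstOrderThickening q.left)
    (α : (yon S).obj T₀ ⟶ X) (β : (yon S).obj T ⟶ Y)
    (hx : ∀ t : ↥T₀.left, Points.ofPt α t ∈ Points.ofPt a '' (W : Set ↥U.left))
    (hcomm : α ≫ f = (yon S).map q ≫ β) :
    ∃ γ : (yon S).obj T ⟶ X, (yon S).map q ≫ γ = α ∧ γ ≫ f = β := by
  set WX : Set (Points X) := Points.ofPt a '' (W : Set ↥U.left) with hWXdef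
  have hWX : IsOpen WX := isOpenMap_ofPt ha _ W.isOpen
  have hX' : IsAlgSpace (openSub X WX) := isAlgSpace_openSub hX hWX
  -- the chart of the open subspace
  let WO : Over S := Over.mk (W.ι ≫ U.hom)
  let wι : WO ⟶ U := Over.homMk W.ι rfl
  have hwι : RepWith @Etale ((yon S).map wι) := by
    refine (repWith_yon_map_iff _ wι).2 ?_
    change Etale W.ι
    infer_instance
  obtain ⟨aW, haW⟩ := exists_lift_openSub (W := WX) ((yon S).map wι ≫ a) (fun w => by
    rw [ofPt_map_comp]
    exact ⟨wι.left w, w.2, rfl⟩)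
  have haWe : RepWith @Etale aW := by
    refine repWith_of_comp_mono (openSubι X WX) ?_
    rw [haW]
    exact MorphismProperty.comp_mem _ _ _ hwι ha
  have haWs : RepWith @Surjective aW := by
    refine repWith_surjective_of_surjective haWe.rep ?_
    intro y
    have hy : Points.map (openSubι X WX) y ∈ Set.range (Points.map (openSubι X WX)) := ⟨y, rfl⟩
    rw [range_map_openSubι] at hy
    obtain ⟨w, hw, hwy⟩ := hy
    refine ⟨Points.ofScheme WO ⟨w, hw⟩, ?_⟩
    apply map_injective_of_mono (openSubι X WX)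
    rw [← Points.ofPt_eq_map_ofScheme, Points.map_ofPt, haW, ofPt_map_comp, ← hwy]
    rfl
  have hloc : LocP @Smooth (openSubι X WX ≫ f) :=
    locP_of_chart etLocalClass_smooth (openSubι X WX ≫ f) aW b (wι ≫ h) haWe haWs hb
      (by rw [← Category.assoc, haW, Category.assoc, e, ← Category.assoc, ← Functor.map_comp]) hW
  have hfs : IsFormallySmoothMor (openSubι X WX ≫ f) :=
    ((Groth.Agent.S10629.result (X := ⟨openSub X WX, hX'⟩) (Y := ⟨Y, hY⟩)
      (ObjectProperty.homMk (openSubι X WX ≫ f))).1 hloc).2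
  obtain ⟨α', hα'⟩ := exists_lift_openSub (W := WX) α hx
  obtain ⟨γ, hγ1, hγ2⟩ := exists_lift_of_isFormallySmoothMor (openSubι X WX ≫ f) hfs q hT hq α' β
    (by rw [← Category.assoc, hα', hcomm])
  refine ⟨γ ≫ openSubι X WX, ?_, ?_⟩
  · rw [← Category.assoc, hγ1, hα']
  · rw [Category.assoc, hγ2]

set_option backward.isDefEq.respectTransparency false in
/-- **Pointwise Artinian criterion for algebraic spaces.**  For `f` locally of finite type with locally Noetherian
target, the infinitesimal lifting property along small extensions of Artinian local rings whose closed point maps to `x`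
implies smoothness of a chart morphism near a point over `x`. -/
theorem hasAtMor_smooth_of_pointLift {X Y : Sp S} (hX : IsAlgSpace X) (hY : IsAlgSpace Y)
    (f : X ⟶ Y) (hYN : IsLocNoethSp Y) (hft : LocP @LocallyOfFiniteType f) (x : Points X)
    (H : ∀ (B' B : Type u) [CommRing B'] [CommRing B] [IsLocalRing B'] [IsLocalRing B]
        [IsArtinianRing B'] [IsArtinianRing B] (π : B' →+* B), Function.Surjective π →
        (∃ t : B', RingHom.ker π = Ideal.span {t} ∧ ∀ a ∈ IsLocalRing.maximalIdeal B', a * t = 0) →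
        ∀ (s : Spec (CommRingCat.of B') ⟶ S)
          (α : (yon S).obj (Over.mk (Spec.map (CommRingCat.ofHom π) ≫ s)) ⟶ X)
          (β : (yon S).obj (Over.mk s) ⟶ Y),
          Points.ofPt α (IsLocalRing.closedPoint B) = x →
          α ≫ f = (yon S).map
            (Over.homMk (Spec.map (CommRingCat.ofHom π)) :
              Over.mk (Spec.map (CommRingCat.ofHom π) ≫ s) ⟶ Over.mk s) ≫ β →
          ∃ γ : (yon S).obj (Over.mk s) ⟶ X,
            (yon S).map (Over.homMk (Spec.map (CommRingCat.ofHom π)) :
              Over.mk (Spec.map (CommRingCat.ofHom π) ≫ s) ⟶ Over.mk s) ≫ γ = α ∧ γ ≫ f = β) :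
    HasAtMor (fun U _ h u => ∃ W : U.Opens, u ∈ W ∧ Smooth (W.ι ≫ h)) f x := by
  obtain ⟨U, V, a, b, h, ha, has, hb, -, e⟩ := exists_surjective_chart hX hY f
  obtain ⟨u₀, hu₀⟩ : ∃ u₀ : ↥U.left, Points.ofPt a u₀ = x := by
    have h1 : x ∈ Set.range (Points.map a) :=
      Groth.Agent.Lib.AlgSpQC.surjective_map_of_repWith_surjective has x
    rw [range_map_eq_range_ofPt] at h1
    exact h1
  haveI : IsLocallyNoetherian V.left :=
    Groth.Agent.Lib.AlgSpDecentSpec.isLocallyNoetherian_of_repWith_etale hYN b hb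
  haveI : LocallyOfFiniteType h.left := hft a b h ha hb e
  have hPL : Groth.Agent.Lib.H86Formal16.PointLift h.left u₀ := by
    intro B B' _ _ _ _ _ _ φ ε hφ hker hε α β hα hcomm
    have ht : ∃ t : B', RingHom.ker φ = Ideal.span {t} ∧
        ∀ a ∈ IsLocalRing.maximalIdeal B', a * t = 0 :=
      ⟨ε, hker, fun a ha => by rw [mul_comm]; exact hε a ha⟩
    have hεm : ε ∈ IsLocalRing.maximalIdeal B' := by
      rw [IsLocalRing.mem_maximalIdeal, mem_nonunits_iff]
      intro hu
      have h1 : RingHom.ker φ = ⊤ := by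
        rw [hker]
        exact Ideal.span_singleton_eq_top.mpr hu
      exact RingHom.ker_ne_top φ h1
    have hq : MoreMor.IsFirstOrderThickening (Spec.map (CommRingCat.ofHom φ)) := by
      refine Groth.Agent.Lib.H4FirstOrderBC.isFirstOrderThickening_SpecMap (CommRingCat.ofHom φ) hφ ?_
      intro x y hx hy
      have hx' : x ∈ Ideal.span {ε} := by rw [← hker]; exact hx
      have hy' : y ∈ Ideal.span {ε} := by rw [← hker]; exact hy
      obtain ⟨c, rfl⟩ := Ideal.mem_span_singleton'.1 hx'
      obtain ⟨d, rfl⟩ := Ideal.mem_span_singleton'.1 hy'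
      have : c * ε * (d * ε) = c * d * (ε * ε) := by ring
      rw [this, hε ε hεm, mul_zero]
    obtain ⟨s, hs⟩ : ∃ s : Spec (CommRingCat.of B') ⟶ S, s = β ≫ V.hom := ⟨_, rfl⟩
    let βO : Over.mk s ⟶ V := Over.homMk β hs.symm
    let jO : Over.mk (Spec.map (CommRingCat.ofHom φ) ≫ s) ⟶ Over.mk s :=
      Over.homMk (Spec.map (CommRingCat.ofHom φ))
    let αO : Over.mk (Spec.map (CommRingCat.ofHom φ) ≫ s) ⟶ U := Over.homMk α (by
      change α ≫ U.hom = Spec.map (CommRingCat.ofHom φ) ≫ s
      rw [hs, ← Over.w h, ← Category.assoc, ← hcomm, Category.assoc])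
    have hcommO : jO ≫ βO = αO ≫ h := Over.OverMorphism.ext hcomm
    have hαx : Points.ofPt ((yon S).map αO ≫ a) (IsLocalRing.closedPoint B) = x := by
      rw [ofPt_map_comp, ← hu₀]
      congr 1
    obtain ⟨γ, hγ1, hγ2⟩ := H B' B φ hφ ht s ((yon S).map αO ≫ a) ((yon S).map βO ≫ b) hαx (by
      rw [Category.assoc, e, ← Category.assoc, ← Functor.map_comp, ← hcommO, Functor.map_comp,
        Category.assoc])
    have hae := (isFormallyEtaleMor_iff a).1 (isFormallyEtaleMor_of_repWith_etale a ha)
    have hbe := (isFormallyEtaleMor_iff b).1 (isFormallyEtaleMor_of_repWith_etale b hb)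
    have hW : IsAffine (Over.mk s).left := by change IsAffine (Spec _); infer_instance
    obtain ⟨γU, hγU1, hγU2⟩ := exists_lift_of_isFormallySmoothMor a hae.1 jO hW hq
      ((yon S).map αO) γ hγ1.symm
    obtain ⟨γO, rfl⟩ := (yon S).map_surjective γU
    have hγh : (yon S).map γO ≫ (yon S).map h = (yon S).map βO := by
      refine lift_unique_affine b hbe.2 jO hW hq _ _ ?_ ?_
      · rw [← Category.assoc, hγU1, ← Functor.map_comp, ← Functor.map_comp, hcommO]
      · rw [Category.assoc, ← e, ← Category.assoc, hγU2, hγ2]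
    refine ⟨γO.left, ?_, ?_⟩
    · have : jO ≫ γO = αO := by
        apply (yon S).map_injective
        rw [Functor.map_comp]
        exact hγU1
      exact congrArg (fun ψ => ψ.left) this
    · have : γO ≫ h = βO := by
        apply (yon S).map_injective
        rw [Functor.map_comp]
        exact hγh
      exact congrArg (fun ψ => ψ.left) this
  obtain ⟨W, hW1, hW2⟩ := Groth.Agent.Lib.H86Formal16.exists_smooth_nbhd_of_pointLift h.left u₀ hPL
  exact ⟨U, V, a, b, h, u₀, ha, hb, e, hu₀, W, hW1, hW2⟩

end Groth.Agent.Lib.H86Formal17
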