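import Groth.Agent.Lib.H86Formal
import Groth.Agent.Lib.H86Coprod
import Groth.Agent.Lib.H69DenseFactor

/-!
# helper86: lifting along first order thickenings of algebraic spaces

Generic descent: a lifting problem `(j : T ⟶ T', t : T ⟶ X, β : T' ⟶ Y)` against `f : X ⟶ Y`, with `j` a first order
thickening of algebraic spaces, has exactly one solution as soon as all its base changes to affine schemes etale over
`T'` have exactly one solution.
-/

set_option autoImplicit false
set_option linter.style.haveILetI false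
universe u
open CategoryTheory CategoryTheory.Limits AlgebraicGeometry Opposite

namespace Groth.Agent.Lib.H86Formal2
open AlgSp Groth.Agent.Lib.AlgSpBasic Groth.Agent.Lib.AlgSpLocP

variable {S : Scheme.{u}}

section Zariski

/-- Two maps from `h_W` to a sheaf agree if they agree on a Zariski covering of `W`. -/
theorem hom_ext_of_openCover {W : Over S} {κ : Type*} (V : κ → Over S) (ι : ∀ k, V k ⟶ W)
    (hopen : ∀ k, IsOpenImmersion (ι k).left)
    (hsurj : ∀ w : ↥W.left, ∃ k, w ∈ Set.range (ι k).left)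
    {F : Sp S} (e e' : (yon S).obj W ⟶ F)
    (h : ∀ k, (yon S).map (ι k) ≫ e = (yon S).map (ι k) ≫ e') : e = e' := by
  have hu := Groth.Agent.Lib.H86Coprod.existsUnique_glue V ι hopen hsurj F
    (fun k => (yon S).map (ι k) ≫ e') (by
      intro i k Z a b hab
      rw [← Category.assoc, ← Category.assoc, ← Functor.map_comp, ← Functor.map_comp, hab])
  exact hu.unique h (fun _ => rfl)

/-- The pullback of a Zariski covering is a Zariski covering. -/
theorem openCover_pullback {W Z : Over S} (u : Z ⟶ W) {κ : Type*} (V : κ → Over S)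
    (ι : ∀ k, V k ⟶ W) (hopen : ∀ k, IsOpenImmersion (ι k).left)
    (hsurj : ∀ w : ↥W.left, ∃ k, w ∈ Set.range (ι k).left) :
    (∀ k, IsOpenImmersion (pullback.fst u (ι k)).left) ∧
      ∀ z : ↥Z.left, ∃ k, z ∈ Set.range (pullback.fst u (ι k)).left := by
  have sq : ∀ k, IsPullback (pullback.fst u (ι k)).left (pullback.snd u (ι k)).left u.left
      (ι k).left := fun k => (IsPullback.of_hasPullback u (ι k)).map (Over.forget S)
  refine ⟨fun k => MorphismProperty.of_isPullback (P := @IsOpenImmersion) (sq k).flip (hopen k),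
    fun z => ?_⟩
  obtain ⟨k, v, hv⟩ := hsurj (u.left z)
  obtain ⟨p, hp, -⟩ := Scheme.exists_preimage_of_isPullback (sq k) z v hv.symm
  exact ⟨k, p, hp⟩

/-- The affine open covering of a scheme over `S`, as a family in `Over S`. -/
theorem exists_affine_openCover (W : Over S) :
    ∃ (κ : Type u) (V : κ → Over S) (ι : ∀ k, V k ⟶ W), (∀ k, IsAffine (V k).left) ∧
      (∀ k, IsOpenImmersion (ι k).left) ∧ ∀ w : ↥W.left, ∃ k, w ∈ Set.range (ι k).left := by
  refine ⟨W.left.affineCover.I₀, fun k => Over.mk (W.left.affineCover.f k ≫ W.hom),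
    fun k => Over.homMk (W.left.affineCover.f k), fun k => ?_, fun k => ?_, fun w => ?_⟩
  · change IsAffine (W.left.affineCover.X k)
    infer_instance
  · change IsOpenImmersion (W.left.affineCover.f k)
    infer_instance
  · obtain ⟨y, hy⟩ := W.left.affineCover.covers w
    exact ⟨W.left.affineCover.idx w, y, hy⟩

end Zariski

section Generic

variable {X Y T T' : Sp S} (f : X ⟶ Y) (j : T ⟶ T') (t : T ⟶ X) (β : T' ⟶ Y)

/-- `l` solves the lifting problem `(j, t, β)` against `f`, restricted along `g : W ⟶ T'`. -/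
def IsLiftOn {W : Sp S} (g : W ⟶ T') (l : W ⟶ X) : Prop :=
  (∀ ⦃Z : Sp S⦄ (u : Z ⟶ W) (v : Z ⟶ T), u ≫ g = v ≫ j → u ≫ l = v ≫ t) ∧ l ≫ f = g ≫ β

variable {f j t β}

theorem IsLiftOn.precomp {W W₂ : Sp S} {g : W ⟶ T'} {l : W ⟶ X} (h : IsLiftOn f j t β g l)
    (g' : W₂ ⟶ W) : IsLiftOn f j t β (g' ≫ g) (g' ≫ l) := by
  refine ⟨fun Z u v huv => ?_, by rw [Category.assoc, h.2, Category.assoc]⟩
  rw [← Category.assoc]
  exact h.1 (u ≫ g') v (by rw [Category.assoc, huv])

theorem isLiftOn_id_iff (l : T' ⟶ X) : IsLiftOn f j t β (𝟙 T') l ↔ j ≫ l = t ∧ l ≫ f = β := by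
  constructor
  · rintro ⟨h1, h2⟩
    refine ⟨?_, by rw [h2, Category.id_comp]⟩
    have := h1 j (𝟙 T) (by rw [Category.comp_id, Category.id_comp])
    rw [this, Category.id_comp]
  · rintro ⟨h1, h2⟩
    refine ⟨fun Z u v huv => ?_, by rw [h2, Category.id_comp]⟩
    rw [Category.comp_id] at huv
    rw [huv, Category.assoc, h1]

theorem isLiftOn_iff_of_isPullback {W P : Sp S} {g : W ⟶ T'} {p₁ : P ⟶ T} {p₂ : P ⟶ W}
    (sq : IsPullback p₁ p₂ j g) (l : W ⟶ X) :
    IsLiftOn f j t β g l ↔ p₂ ≫ l = p₁ ≫ t ∧ l ≫ f = g ≫ β := by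
  constructor
  · rintro ⟨h1, h2⟩
    exact ⟨h1 p₂ p₁ sq.w.symm, h2⟩
  · rintro ⟨h1, h2⟩
    refine ⟨fun Z u v huv => ?_, h2⟩
    calc u ≫ l = (sq.lift v u huv.symm ≫ p₂) ≫ l := by rw [sq.lift_snd]
      _ = sq.lift v u huv.symm ≫ p₁ ≫ t := by rw [Category.assoc, h1]
      _ = v ≫ t := by rw [← Category.assoc, sq.lift_fst]

/-- Being a solution is Zariski local on the scheme `W`. -/
theorem isLiftOn_of_openCover {W : Over S} (g : (yon S).obj W ⟶ T') (l : (yon S).obj W ⟶ X)
    {κ : Type*} (V : κ → Over S) (ι : ∀ k, V k ⟶ W)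
    (hopen : ∀ k, IsOpenImmersion (ι k).left)
    (hsurj : ∀ w : ↥W.left, ∃ k, w ∈ Set.range (ι k).left)
    (h : ∀ k, IsLiftOn f j t β ((yon S).map (ι k) ≫ g) ((yon S).map (ι k) ≫ l)) :
    IsLiftOn f j t β g l := by
  refine ⟨fun Z u v huv => ?_, ?_⟩
  · apply Groth.Agent.Lib.H69AlgSp.hom_ext_yon
    intro Z' a
    obtain ⟨u', hu'⟩ := (yon S).map_surjective (a ≫ u)
    obtain ⟨ho, hs⟩ := openCover_pullback u' V ι hopen hsurj
    rw [← Category.assoc, ← Category.assoc, ← hu']
    apply hom_ext_of_openCover _ (fun k => pullback.fst u' (ι k)) ho hs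
    intro k
    have key := (h k).1 ((yon S).map (pullback.snd u' (ι k)))
      ((yon S).map (pullback.fst u' (ι k)) ≫ a ≫ v) (by
        rw [← Category.assoc, ← Functor.map_comp, ← pullback.condition, Functor.map_comp, hu',
          Category.assoc, Category.assoc, Category.assoc, Category.assoc, huv])
    rw [← Category.assoc, ← Functor.map_comp, pullback.condition, Functor.map_comp,
      Category.assoc, key, Category.assoc, Category.assoc]
  · apply hom_ext_of_openCover V ι hopen hsurj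
    intro k
    rw [← Category.assoc, (h k).2, Category.assoc]

end Generic


section Affine

/-- Transport of the unique lifting property along an isomorphism of arrows. -/
theorem existsUnique_lift_of_arrow_iso {X Y : Sp S} (f : X ⟶ Y) {A A' B B' : Sp S} (q : A ⟶ A')
    (p : B ⟶ B') (eA : B ≅ A) (eA' : B' ≅ A') (hcomm : p ≫ eA'.hom = eA.hom ≫ q)
    (t : A ⟶ X) (β : A' ⟶ Y)
    (h : ∃! l' : B' ⟶ X, p ≫ l' = eA.hom ≫ t ∧ l' ≫ f = eA'.hom ≫ β) :
    ∃! l : A' ⟶ X, q ≫ l = t ∧ l ≫ f = β := by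
  obtain ⟨l', ⟨h1, h2⟩, hu⟩ := h
  have hcomm' : q ≫ eA'.inv = eA.inv ≫ p := by
    rw [Iso.comp_inv_eq, Category.assoc, hcomm, Iso.inv_hom_id_assoc]
  refine ⟨eA'.inv ≫ l', ⟨?_, ?_⟩, fun m hm => ?_⟩
  · rw [← Category.assoc, hcomm', Category.assoc, h1, Iso.inv_hom_id_assoc]
  · rw [Category.assoc, h2, Iso.inv_hom_id_assoc]
  · have := hu (eA'.hom ≫ m) ⟨by rw [← Category.assoc, hcomm, Category.assoc, hm.1],
      by rw [Category.assoc, hm.2]⟩
    rw [← this, Iso.inv_hom_id_assoc]

/-- **Affine case.**  A formally etale morphism of sheaves has unique liftings along every first order thickening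
of schemes over `S` with affine target (not only those of the form `Spec (A ⧸ I) ⟶ Spec A`). -/
theorem existsUnique_lift_affine {X Y : Sp S} (f : X ⟶ Y) (hf : IsFormallyEtaleMor f)
    {W₀ W : Over S} (q : W₀ ⟶ W) (hW : IsAffine W.left)
    (hq : MoreMor.IsFirstOrderThickening q.left)
    (t : (yon S).obj W₀ ⟶ X) (β : (yon S).obj W ⟶ Y) (w : t ≫ f = (yon S).map q ≫ β) :
    ∃! l : (yon S).obj W ⟶ X, (yon S).map q ≫ l = t ∧ l ≫ f = β := by
  let A : CommRingCat.{u} := Γ(W.left, ⊤)
  let φ : W.left ≅ Spec A := W.left.isoSpec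
  haveI : IsClosedImmersion q.left := hq.1.1
  have hcl : IsClosedImmersion (q.left ≫ φ.hom) := inferInstance
  obtain ⟨I, e, he⟩ := IsClosedImmersion.Spec_iff.mp hcl
  -- the ideal has square zero
  have hI : I ^ 2 = ⊥ := by
    haveI : IsIso (pullback.fst q.left φ.inv) := inferInstance
    refine Groth.Agent.S1516.sq_zero_of_thickening hq A φ.inv I
      (asIso (pullback.fst q.left φ.inv) ≪≫ e) ?_
    change pullback.snd q.left φ.inv = (pullback.fst q.left φ.inv ≫ e.hom) ≫ _
    rw [Category.assoc, ← he, pullback.condition_assoc, Iso.inv_hom_id, Category.comp_id]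
  have he' : Spec.map (CommRingCat.ofHom (Ideal.Quotient.mk I)) ≫ φ.inv = e.inv ≫ q.left := by
    rw [Iso.eq_inv_comp, ← Category.assoc, ← he, Category.assoc, Iso.hom_inv_id, Category.comp_id]
  let str : Spec (.of A) ⟶ S := φ.inv ≫ W.hom
  let T' : Over S := Over.mk str
  let T₀ : Over S := Over.mk (Spec.map (CommRingCat.ofHom (Ideal.Quotient.mk I)) ≫ str)
  let jj : T₀ ⟶ T' := Over.homMk (Spec.map (CommRingCat.ofHom (Ideal.Quotient.mk I))) rfl
  let Φ : T' ≅ W := Over.isoMk φ.symm rfl
  let E : T₀ ≅ W₀ := Over.isoMk e.symm (by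
    change e.inv ≫ W₀.hom = Spec.map (CommRingCat.ofHom (Ideal.Quotient.mk I)) ≫ φ.inv ≫ W.hom
    rw [← Category.assoc, he', Category.assoc, Over.w q])
  have hcomm : jj ≫ Φ.hom = E.hom ≫ q := by
    apply Over.OverMorphism.ext
    exact he'
  have hc : ((yon S).map E.hom ≫ t) ≫ f = (yon S).map jj ≫ (yon S).map Φ.hom ≫ β := by
    rw [Category.assoc, w, ← Category.assoc, ← Functor.map_comp, ← hcomm, Functor.map_comp,
      Category.assoc]
  let sq : InfSq f :=
    { A := A
      I := I
      sq_zero := hI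
      str := str
      top := (yon S).map E.hom ≫ t
      bot := (yon S).map Φ.hom ≫ β
      comm := hc }
  exact existsUnique_lift_of_arrow_iso f ((yon S).map q) ((yon S).map jj) ((yon S).mapIso E)
    ((yon S).mapIso Φ) (by
      change (yon S).map jj ≫ (yon S).map Φ.hom = (yon S).map E.hom ≫ (yon S).map q
      rw [← Functor.map_comp, ← Functor.map_comp, hcomm]) t β (hf sq)

end Affine

section Main

set_option backward.isDefEq.respectTransparency false in
/-- **Descent of unique liftings along first order thickenings of algebraic spaces.**  If every base change of the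
lifting problem `(j, t, β)` to an affine scheme etale over `T'` has exactly one solution, so does the problem. -/
theorem existsUnique_lift_of_affine {X Y : Sp S} (f : X ⟶ Y) {T T' : Sp S} (hT' : IsAlgSpace T')
    (j : T ⟶ T') (hj : IsThickMor j) (t : T ⟶ X) (β : T' ⟶ Y)
    (H : ∀ (W₀ W : Over S) (q : W₀ ⟶ W) (g : (yon S).obj W ⟶ T') (g₀ : (yon S).obj W₀ ⟶ T),
      IsAffine W.left → RepWith @Etale g → IsPullback g₀ ((yon S).map q) j g →
      ∃! l : (yon S).obj W ⟶ X, (yon S).map q ≫ l = g₀ ≫ t ∧ l ≫ f = g ≫ β) :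
    ∃! l : T' ⟶ X, j ≫ l = t ∧ l ≫ f = β := by
  -- Step A: affine schemes etale over `T'`
  have stepA : ∀ (W : Over S) (g : (yon S).obj W ⟶ T'), IsAffine W.left → RepWith @Etale g →
      ∃! l : (yon S).obj W ⟶ X, IsLiftOn f j t β g l := by
    intro W g hW hg
    obtain ⟨W₀, q, g₀, sq⟩ := hj.1 g
    obtain ⟨l, hl, hlu⟩ := H W₀ W q g g₀ hW hg sq
    exact ⟨l, (isLiftOn_iff_of_isPullback sq l).2 hl,
      fun l' hl' => hlu l' ((isLiftOn_iff_of_isPullback sq l').1 hl')⟩
  -- Step B: uniqueness on schemes etale over `T'`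
  have stepB : ∀ (W : Over S) (g : (yon S).obj W ⟶ T'), RepWith @Etale g →
      ∀ l l' : (yon S).obj W ⟶ X, IsLiftOn f j t β g l → IsLiftOn f j t β g l' → l = l' := by
    intro W g hg l l' hl hl'
    obtain ⟨κ, V, ι, haff, hopen, hsurj⟩ := exists_affine_openCover W
    apply hom_ext_of_openCover V ι hopen hsurj
    intro k
    have hι : RepWith @Etale ((yon S).map (ι k)) :=
      (repWith_yon_map_iff _ _).2 (haveI := hopen k; (inferInstance : Etale (ι k).left))
    have hg' : RepWith @Etale ((yon S).map (ι k) ≫ g) := MorphismProperty.comp_mem _ _ _ hι hg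
    exact (stepA (V k) _ (haff k) hg').unique (hl.precomp _) (hl'.precomp _)
  -- Step C: existence on schemes etale over `T'`
  have stepC : ∀ (W : Over S) (g : (yon S).obj W ⟶ T'), RepWith @Etale g →
      ∃ l : (yon S).obj W ⟶ X, IsLiftOn f j t β g l := by
    intro W g hg
    obtain ⟨κ, V, ι, haff, hopen, hsurj⟩ := exists_affine_openCover W
    have hι : ∀ k, RepWith @Etale ((yon S).map (ι k)) := fun k =>
      (repWith_yon_map_iff _ _).2 (haveI := hopen k; (inferInstance : Etale (ι k).left))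
    have hg' : ∀ k, RepWith @Etale ((yon S).map (ι k) ≫ g) := fun k =>
      MorphismProperty.comp_mem _ _ _ (hι k) hg
    choose lk hlk using fun k => (stepA (V k) _ (haff k) (hg' k)).exists
    have hx : ∀ (i k : κ) (Z : Over S) (a : Z ⟶ V i) (b : Z ⟶ V k), a ≫ ι i = b ≫ ι k →
        (yon S).map a ≫ lk i = (yon S).map b ≫ lk k := by
      intro i k Z a b hab
      have sq : IsPullback (pullback.fst (ι i) (ι k)).left (pullback.snd (ι i) (ι k)).left
          (ι i).left (ι k).left := (IsPullback.of_hasPullback (ι i) (ι k)).map (Over.forget S)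
      haveI : IsOpenImmersion (pullback.fst (ι i) (ι k)).left :=
        MorphismProperty.of_isPullback (P := @IsOpenImmersion) sq.flip (hopen k)
      have h1 : RepWith @Etale ((yon S).map (pullback.fst (ι i) (ι k))) :=
        (repWith_yon_map_iff _ _).2 (inferInstance : Etale (pullback.fst (ι i) (ι k)).left)
      have h2 : RepWith @Etale ((yon S).map (pullback.fst (ι i) (ι k)) ≫ (yon S).map (ι i) ≫ g) :=
        MorphismProperty.comp_mem _ _ _ h1 (hg' i)
      have e1 := (hlk i).precomp ((yon S).map (pullback.fst (ι i) (ι k)))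
      have e2 := (hlk k).precomp ((yon S).map (pullback.snd (ι i) (ι k)))
      have e3 : (yon S).map (pullback.snd (ι i) (ι k)) ≫ (yon S).map (ι k) ≫ g =
          (yon S).map (pullback.fst (ι i) (ι k)) ≫ (yon S).map (ι i) ≫ g := by
        rw [← Category.assoc, ← Category.assoc, ← Functor.map_comp, ← Functor.map_comp,
          pullback.condition]
      rw [e3] at e2
      have e4 := stepB _ _ h2 _ _ e1 e2
      have ea : a = pullback.lift a b hab ≫ pullback.fst (ι i) (ι k) := (pullback.lift_fst _ _ _).symm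
      have eb : b = pullback.lift a b hab ≫ pullback.snd (ι i) (ι k) := (pullback.lift_snd _ _ _).symm
      calc (yon S).map a ≫ lk i
          = (yon S).map (pullback.lift a b hab) ≫ (yon S).map (pullback.fst (ι i) (ι k)) ≫ lk i := by
            rw [← Category.assoc, ← Functor.map_comp, ← ea]
        _ = (yon S).map (pullback.lift a b hab) ≫ (yon S).map (pullback.snd (ι i) (ι k)) ≫ lk k := by
            rw [e4]
        _ = (yon S).map b ≫ lk k := by rw [← Category.assoc, ← Functor.map_comp, ← eb]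
    obtain ⟨l, hl, -⟩ := Groth.Agent.Lib.H86Coprod.existsUnique_glue V ι hopen hsurj X lk hx
    refine ⟨l, isLiftOn_of_openCover g l V ι hopen hsurj fun k => ?_⟩
    rw [hl k]
    exact hlk k
  -- Step D: descent along an atlas
  obtain ⟨V', c, hce, hcs⟩ := hT'.atlas
  haveI : Epi c := (Sheaf.isLocallySurjective_iff_epi _).1
    (Groth.Agent.Lib.H69AlgSp.isLocallySurjective_of_etale_surjective c hce hcs)
  obtain ⟨lV, hlV⟩ := stepC V' c hce
  obtain ⟨R, r₂, r₁, sqR⟩ := hce.1 c
  have hr₂ : Etale r₂.left := hce.2 c r₁ r₂ sqR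
  have hr : RepWith @Etale ((yon S).map r₂ ≫ c) :=
    MorphismProperty.comp_mem _ _ _ ((repWith_yon_map_iff _ _).2 hr₂) hce
  have eR : r₁ ≫ lV = (yon S).map r₂ ≫ lV := by
    have e1 := hlV.precomp r₁
    rw [sqR.w] at e1
    exact stepB R _ hr _ _ e1 (hlV.precomp _)
  have hdesc : pullback.fst c c ≫ lV = pullback.snd c c ≫ lV := by
    calc pullback.fst c c ≫ lV
        = (sqR.lift (pullback.fst c c) (pullback.snd c c) pullback.condition ≫ r₁) ≫ lV := by
          rw [sqR.lift_fst]
      _ = sqR.lift (pullback.fst c c) (pullback.snd c c) pullback.condition ≫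
            (yon S).map r₂ ≫ lV := by rw [Category.assoc, eR]
      _ = pullback.snd c c ≫ lV := by rw [← Category.assoc, sqR.lift_snd]
  obtain ⟨l₀, hl₀⟩ := Groth.Agent.Lib.H69DenseFactor.exists_desc_of_epi c lV hdesc
  obtain ⟨V₀, q, c₀, sq⟩ := hj.1 c
  have hc₀e : RepWith @Etale c₀ := repWith_fst_of_isPullback _ sq hce
  have hc₀s : RepWith @Surjective c₀ := repWith_fst_of_isPullback _ sq hcs
  haveI : Epi c₀ := (Sheaf.isLocallySurjective_iff_epi _).1
    (Groth.Agent.Lib.H69AlgSp.isLocallySurjective_of_etale_surjective c₀ hc₀e hc₀s)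
  refine ⟨l₀, ⟨?_, ?_⟩, ?_⟩
  · rw [← cancel_epi c₀, ← Category.assoc, sq.w, Category.assoc, hl₀]
    exact hlV.1 _ _ sq.w.symm
  · rw [← cancel_epi c, ← Category.assoc, hl₀]
    exact hlV.2
  · rintro l' hl'
    have h1 : IsLiftOn f j t β (𝟙 T') l' := (isLiftOn_id_iff l').2 hl'
    have h2 := h1.precomp c
    rw [Category.comp_id] at h2
    have h3 := stepB V' c hce _ _ h2 hlV
    rw [← cancel_epi c, h3, hl₀]

end Main

section Applications

/-- **Formally etale morphisms lift uniquely along first order thickenings of algebraic spaces.** -/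
theorem existsUnique_lift_of_isFormallyEtaleMor {X Y : Sp S} (f : X ⟶ Y)
    (hf : IsFormallyEtaleMor f) {T T' : Sp S} (hT' : IsAlgSpace T') (j : T ⟶ T')
    (hj : IsFOThickMor j) (a : T ⟶ X) (b : T' ⟶ Y) (w : a ≫ f = j ≫ b) :
    ∃! l : T' ⟶ X, j ≫ l = a ∧ l ≫ f = b := by
  refine existsUnique_lift_of_affine f hT' j hj.1 a b ?_
  intro W₀ W q g g₀ hW hg sq
  have hq : MoreMor.IsFirstOrderThickening q.left := ⟨hj.1.2 g g₀ q sq, hj.2 g g₀ q hW hg sq⟩
  refine existsUnique_lift_affine f hf q hW hq (g₀ ≫ a) (g ≫ b) ?_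
  rw [Category.assoc, w, ← Category.assoc, sq.w, Category.assoc]

set_option backward.isDefEq.respectTransparency false in
/-- Base change of a first order thickening along a representable etale morphism. -/
theorem isFOThickMor_of_isPullback {T T' P P' : Sp S} {j : T ⟶ T'} {g : P' ⟶ T'} {g₀ : P ⟶ T}
    {q : P ⟶ P'} (sq : IsPullback g₀ q j g) (hg : RepWith @Etale g) (hj : IsFOThickMor j) :
    IsFOThickMor q := by
  refine ⟨repWith_snd_of_isPullback _ sq hj.1, ?_⟩
  intro V W b fst snd hV hb sq'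
  exact hj.2 (b ≫ g) (fst ≫ g₀) snd hV (MorphismProperty.comp_mem _ _ _ hb hg) (sq'.paste_horiz sq)

/-- A first order thickening over `X` that has the universal property against first order thickenings of schemes
with affine target is a universal first order thickening. -/
theorem isUnivFOThick_of_affine_test {Z Z' X : Sp S} (h : Z ⟶ X) (i : Z ⟶ Z') (h' : Z' ⟶ X)
    (hi : IsFOThickMor i) (w : i ≫ h' = h)
    (Htest : ∀ (T T' : Over S) (j : T ⟶ T'), IsAffine T'.left → IsFOThickMor ((yon S).map j) →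
      ∀ (a : (yon S).obj T ⟶ Z) (b : (yon S).obj T' ⟶ X), (yon S).map j ≫ b = a ≫ h →
        ∃! a' : (yon S).obj T' ⟶ Z', (yon S).map j ≫ a' = a ≫ i ∧ a' ≫ h' = b) :
    IsUnivFOThick h i h' := by
  refine ⟨hi, w, ?_⟩
  intro T T' _ hT' j a b hj hcomm
  refine existsUnique_lift_of_affine h' hT' j hj.1 (a ≫ i) b ?_
  intro W₀ W q g g₀ hW hg sq
  have hq : IsFOThickMor ((yon S).map q) := isFOThickMor_of_isPullback sq hg hj
  have := Htest W₀ W q hW hq (g₀ ≫ a) (g ≫ b) (by
    rw [← Category.assoc, ← sq.w, Category.assoc, hcomm, Category.assoc])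
  simpa only [Category.assoc] using this

/-- Composing the structure map of a universal first order thickening with a formally etale morphism. -/
theorem isUnivFOThick_comp_formallyEtale {Z Z' Y X : Sp S} (hZ : Z ⟶ Y) (g : Y ⟶ X) (i : Z ⟶ Z')
    (h' : Z' ⟶ Y) (HU : IsUnivFOThick hZ i h') (hg : IsFormallyEtaleMor g) :
    IsUnivFOThick (hZ ≫ g) i (h' ≫ g) := by
  refine ⟨HU.1, by rw [← Category.assoc, HU.2.1], ?_⟩
  intro T T' hT hT' j a b hj hcomm
  obtain ⟨b', ⟨hb'1, hb'2⟩, hb'u⟩ := existsUnique_lift_of_isFormallyEtaleMor g hg hT' j hj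
    (a ≫ hZ) b (by rw [Category.assoc, hcomm])
  obtain ⟨a', ⟨ha'1, ha'2⟩, ha'u⟩ := HU.2.2 hT hT' j a b' hj hb'1
  refine ⟨a', ⟨ha'1, by rw [← Category.assoc, ha'2, hb'2]⟩, ?_⟩
  rintro a'' ⟨h1, h2⟩
  have : a'' ≫ h' = b' := hb'u _ ⟨by rw [← Category.assoc, h1, Category.assoc, HU.2.1],
    by rw [Category.assoc, h2]⟩
  exact ha'u a'' ⟨h1, this⟩

end Applications

end Groth.Agent.Lib.H86Formal2
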