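import Groth.Agent.Lib.H86Formal2
import Groth.Agent.Lib.EtLiftClosed
import Groth.Agent.Lib.H86Thick4
import Groth.Agent.Lib.AlgSpAffineSpace

/-!
# helper86: formally etale / unramified morphisms of sheaves and etale coverings

* gluing morphisms to a sheaf along jointly surjective flat lfp families (`existsUnique_glue_fppf`);
* `exists_lift_of_etale_family`: descent of a solution of a lifting problem from an etale covering family, given
  uniqueness;
* lifting of etale coverings along thickenings (from helper39's `exists_lift_etale_nbhd`);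
* `isFormallyUnramifiedMor_of_comp_etale_surjective`, `isFormallyEtaleMor_of_comp_etale_surjective` (S10617 (4), (5)).
-/

set_option autoImplicit false
set_option linter.style.haveILetI false
universe u
open CategoryTheory CategoryTheory.Limits AlgebraicGeometry Opposite

namespace Groth.Agent.Lib.H86Formal3
open AlgSp Groth.Agent.Lib.AlgSpBasic Groth.Agent.Lib.AlgSpLocP Groth.Agent.Lib.H86Formal2
open Groth.Agent.Lib.H86AlgSpPoints

variable {S : Scheme.{u}}

section Fppf

/-- A jointly surjective family of flat morphisms locally of finite presentation generates a covering sieve for the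
fppf topology over `S`. -/
theorem generate_ofArrows_mem_J_fppf {T : Over S} {κ : Type*} (V : κ → Over S) (g : ∀ k, V k ⟶ T)
    (hflat : ∀ k, Flat (g k).left) (hlfp : ∀ k, LocallyOfFinitePresentation (g k).left)
    (hsurj : ∀ t : ↥T.left, ∃ k, t ∈ Set.range (g k).left) :
    Sieve.generate (Presieve.ofArrows V g) ∈ J S T := by
  rw [GrothendieckTopology.mem_over_iff]
  have hmem : Presieve.ofArrows (fun k => (V k).left) (fun k => (g k).left) ∈
      Scheme.fppfPrecoverage T.left := by
    unfold Scheme.fppfPrecoverage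
    rw [Scheme.ofArrows_mem_precoverage_iff]
    exact ⟨hsurj, fun k => ⟨hflat k, hlfp k⟩⟩
  refine GrothendieckTopology.superset_covering _ ?_
    (Precoverage.generate_mem_toGrothendieck hmem)
  rw [Sieve.generate_le_iff]
  rintro _ _ ⟨k⟩
  rw [Sieve.overEquiv_iff]
  refine ⟨V k, Over.homMk (𝟙 _) (by simp), g k, ⟨k⟩, ?_⟩
  apply Over.OverMorphism.ext
  simp

/-- Gluing morphisms to a sheaf along a jointly surjective flat lfp family of schemes. -/
theorem existsUnique_glue_fppf {T : Over S} {κ : Type*} (V : κ → Over S) (g : ∀ k, V k ⟶ T)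
    (hflat : ∀ k, Flat (g k).left) (hlfp : ∀ k, LocallyOfFinitePresentation (g k).left)
    (hsurj : ∀ t : ↥T.left, ∃ k, t ∈ Set.range (g k).left) (F : Sp S)
    (x : ∀ k, (yon S).obj (V k) ⟶ F)
    (hx : ∀ (i k : κ) (Z : Over S) (a : Z ⟶ V i) (b : Z ⟶ V k), a ≫ g i = b ≫ g k →
      (yon S).map a ≫ x i = (yon S).map b ≫ x k) :
    ∃! e : (yon S).obj T ⟶ F, ∀ k, (yon S).map (g k) ≫ e = x k := by
  have hF : Presieve.IsSheaf (J S) F.obj := (isSheaf_iff_isSheaf_of_type _ _).1 F.property
  have h1 := hF _ (generate_ofArrows_mem_J_fppf V g hflat hlfp hsurj)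
  rw [← Presieve.isSheafFor_iff_generate, Presieve.isSheafFor_arrows_iff] at h1
  obtain ⟨t, ht, htu⟩ := h1 (fun i => yE (x i)) (by
    intro i k Z gi gk hgk
    rw [yE_map, yE_map, hx i k Z gi gk hgk])
  refine ⟨yE.symm t, fun k => ?_, fun e he => ?_⟩
  · apply yE.injective
    rw [← yE_map, Equiv.apply_symm_apply]
    exact ht k
  · apply yE.injective
    rw [Equiv.apply_symm_apply]
    apply htu
    intro k
    rw [yE_map, he k]

theorem hom_ext_of_fppfCover {W : Over S} {κ : Type*} (V : κ → Over S) (ι : ∀ k, V k ⟶ W)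
    (hflat : ∀ k, Flat (ι k).left) (hlfp : ∀ k, LocallyOfFinitePresentation (ι k).left)
    (hsurj : ∀ w : ↥W.left, ∃ k, w ∈ Set.range (ι k).left)
    {F : Sp S} (e e' : (yon S).obj W ⟶ F)
    (h : ∀ k, (yon S).map (ι k) ≫ e = (yon S).map (ι k) ≫ e') : e = e' := by
  have hu := existsUnique_glue_fppf V ι hflat hlfp hsurj F
    (fun k => (yon S).map (ι k) ≫ e') (by
      intro i k Z a b hab
      rw [← Category.assoc, ← Category.assoc, ← Functor.map_comp, ← Functor.map_comp, hab])
  exact hu.unique h (fun _ => rfl)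

/-- The pullback of an fppf covering family is an fppf covering family. -/
theorem fppfCover_pullback {W Z : Over S} (u : Z ⟶ W) {κ : Type*} (V : κ → Over S)
    (ι : ∀ k, V k ⟶ W) (hflat : ∀ k, Flat (ι k).left)
    (hlfp : ∀ k, LocallyOfFinitePresentation (ι k).left)
    (hsurj : ∀ w : ↥W.left, ∃ k, w ∈ Set.range (ι k).left) :
    (∀ k, Flat (pullback.fst u (ι k)).left) ∧
    (∀ k, LocallyOfFinitePresentation (pullback.fst u (ι k)).left) ∧
      ∀ z : ↥Z.left, ∃ k, z ∈ Set.range (pullback.fst u (ι k)).left := by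
  have sq : ∀ k, IsPullback (pullback.fst u (ι k)).left (pullback.snd u (ι k)).left u.left
      (ι k).left := fun k => (IsPullback.of_hasPullback u (ι k)).map (Over.forget S)
  refine ⟨fun k => MorphismProperty.of_isPullback (P := @Flat) (sq k).flip (hflat k),
    fun k => MorphismProperty.of_isPullback (P := @LocallyOfFinitePresentation) (sq k).flip (hlfp k),
    fun z => ?_⟩
  obtain ⟨k, v, hv⟩ := hsurj (u.left z)
  obtain ⟨p, hp, -⟩ := Scheme.exists_preimage_of_isPullback (sq k) z v hv.symm
  exact ⟨k, p, hp⟩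

variable {X Y T T' : Sp S} {f : X ⟶ Y} {j : T ⟶ T'} {t : T ⟶ X} {β : T' ⟶ Y}

/-- Being a solution is fppf local on the scheme `W`. -/
theorem isLiftOn_of_fppfCover {W : Over S} (g : (yon S).obj W ⟶ T') (l : (yon S).obj W ⟶ X)
    {κ : Type*} (V : κ → Over S) (ι : ∀ k, V k ⟶ W)
    (hflat : ∀ k, Flat (ι k).left) (hlfp : ∀ k, LocallyOfFinitePresentation (ι k).left)
    (hsurj : ∀ w : ↥W.left, ∃ k, w ∈ Set.range (ι k).left)
    (h : ∀ k, IsLiftOn f j t β ((yon S).map (ι k) ≫ g) ((yon S).map (ι k) ≫ l)) :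
    IsLiftOn f j t β g l := by
  refine ⟨fun Z u v huv => ?_, ?_⟩
  · apply Groth.Agent.Lib.H69AlgSp.hom_ext_yon
    intro Z' a
    obtain ⟨u', hu'⟩ := (yon S).map_surjective (a ≫ u)
    obtain ⟨hfl, hlf, hs⟩ := fppfCover_pullback u' V ι hflat hlfp hsurj
    rw [← Category.assoc, ← Category.assoc, ← hu']
    apply hom_ext_of_fppfCover _ (fun k => pullback.fst u' (ι k)) hfl hlf hs
    intro k
    have key := (h k).1 ((yon S).map (pullback.snd u' (ι k)))
      ((yon S).map (pullback.fst u' (ι k)) ≫ a ≫ v) (by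
        rw [← Category.assoc, ← Functor.map_comp, ← pullback.condition, Functor.map_comp, hu',
          Category.assoc, Category.assoc, Category.assoc, Category.assoc, huv])
    rw [← Category.assoc, ← Functor.map_comp, pullback.condition, Functor.map_comp,
      Category.assoc, key, Category.assoc, Category.assoc]
  · apply hom_ext_of_fppfCover V ι hflat hlfp hsurj
    intro k
    rw [← Category.assoc, (h k).2, Category.assoc]

end Fppf

section Descent

set_option backward.isDefEq.respectTransparency false in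
/-- **Descent of a solution from an etale covering family**, given uniqueness of solutions on schemes etale over
the target. -/
theorem exists_lift_of_etale_family {X Y T : Sp S} (f : X ⟶ Y) {T' : Over S}
    (j : T ⟶ (yon S).obj T') (t : T ⟶ X) (β : (yon S).obj T' ⟶ Y)
    {κ : Type*} (V : κ → Over S) (c : ∀ k, V k ⟶ T') (het : ∀ k, Etale (c k).left)
    (hsurj : ∀ w : ↥T'.left, ∃ k, w ∈ Set.range (c k).left)
    (l : ∀ k, (yon S).obj (V k) ⟶ X) (hl : ∀ k, IsLiftOn f j t β ((yon S).map (c k)) (l k))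
    (huniq : ∀ (R : Over S) (g : R ⟶ T'), Etale g.left → ∀ l l' : (yon S).obj R ⟶ X,
      IsLiftOn f j t β ((yon S).map g) l → IsLiftOn f j t β ((yon S).map g) l' → l = l') :
    ∃ l₀ : (yon S).obj T' ⟶ X, j ≫ l₀ = t ∧ l₀ ≫ f = β := by
  have hflat : ∀ k, Flat (c k).left := fun k => haveI := het k; inferInstance
  have hlfp : ∀ k, LocallyOfFinitePresentation (c k).left := fun k => haveI := het k; inferInstance
  have hx : ∀ (i k : κ) (Z : Over S) (a : Z ⟶ V i) (b : Z ⟶ V k), a ≫ c i = b ≫ c k →
      (yon S).map a ≫ l i = (yon S).map b ≫ l k := by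
    intro i k Z a b hab
    have sq : IsPullback (pullback.fst (c i) (c k)).left (pullback.snd (c i) (c k)).left
        (c i).left (c k).left := (IsPullback.of_hasPullback (c i) (c k)).map (Over.forget S)
    haveI : Etale (pullback.fst (c i) (c k)).left :=
      MorphismProperty.of_isPullback (P := @Etale) sq.flip (het k)
    haveI := het i
    have hE : Etale (pullback.fst (c i) (c k) ≫ c i).left := by
      rw [Over.comp_left]
      infer_instance
    have e1 := (hl i).precomp ((yon S).map (pullback.fst (c i) (c k)))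
    have e2 := (hl k).precomp ((yon S).map (pullback.snd (c i) (c k)))
    rw [← Functor.map_comp] at e1 e2
    rw [← pullback.condition] at e2
    have e4 := huniq _ _ hE _ _ e1 e2
    have ea : a = pullback.lift a b hab ≫ pullback.fst (c i) (c k) := (pullback.lift_fst _ _ _).symm
    have eb : b = pullback.lift a b hab ≫ pullback.snd (c i) (c k) := (pullback.lift_snd _ _ _).symm
    calc (yon S).map a ≫ l i
        = (yon S).map (pullback.lift a b hab) ≫ (yon S).map (pullback.fst (c i) (c k)) ≫ l i := by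
          rw [← Category.assoc, ← Functor.map_comp, ← ea]
      _ = (yon S).map (pullback.lift a b hab) ≫ (yon S).map (pullback.snd (c i) (c k)) ≫ l k := by
          rw [e4]
      _ = (yon S).map b ≫ l k := by rw [← Category.assoc, ← Functor.map_comp, ← eb]
  obtain ⟨l₀, hl₀, -⟩ := existsUnique_glue_fppf V c hflat hlfp hsurj X l hx
  have key : IsLiftOn f j t β (𝟙 _) l₀ := by
    have := isLiftOn_of_fppfCover (f := f) (j := j) (t := t) (β := β) (𝟙 ((yon S).obj T')) l₀ V c
      hflat hlfp hsurj (fun k => by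
        rw [hl₀ k, Category.comp_id]
        exact hl k)
    exact this
  exact ⟨l₀, (isLiftOn_id_iff l₀).1 key⟩

end Descent

section SchemeFO

open Groth.Agent.Lib.H86Formal

/-- A first order thickening of schemes over `S` is a first order thickening of sheaves. -/
theorem isFOThickMor_yon_map {U V : Over S} (g : U ⟶ V)
    (h : MoreMor.IsFirstOrderThickening g.left) : IsFOThickMor ((yon S).map g) := by
  refine ⟨(isThickMor_yon_map_iff g).2 h.1, ?_⟩
  intro V' W b fst snd _ _ sq
  obtain ⟨b', rfl⟩ := (yon S).map_surjective b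
  obtain ⟨fst', rfl⟩ := (yon S).map_surjective fst
  have sq' := Groth.Agent.Lib.H86Thick.isPullback_left_of_yon sq
  exact (isFirstOrderThickening_of_isPullback sq'.flip h).2

/-- Every first order thickening of schemes over `S` with affine target is isomorphic to one of the form
`Spec (A ⧸ I) ⟶ Spec A` with `I ^ 2 = 0`. -/
theorem exists_infSq_form {W₀ W : Over S} (q : W₀ ⟶ W) (hW : IsAffine W.left)
    (hq : MoreMor.IsFirstOrderThickening q.left) :
    ∃ (A : Type u) (_ : CommRing A) (I : Ideal A) (_ : I ^ 2 = ⊥) (str : Spec (.of A) ⟶ S)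
      (E : Over.mk (Spec.map (CommRingCat.ofHom (Ideal.Quotient.mk I)) ≫ str) ≅ W₀)
      (Φ : Over.mk str ≅ W),
      (Over.homMk (Spec.map (CommRingCat.ofHom (Ideal.Quotient.mk I))) rfl :
        Over.mk (Spec.map (CommRingCat.ofHom (Ideal.Quotient.mk I)) ≫ str) ⟶ Over.mk str) ≫ Φ.hom =
        E.hom ≫ q := by
  let A : CommRingCat.{u} := Γ(W.left, ⊤)
  let φ : W.left ≅ Spec A := W.left.isoSpec
  haveI : IsClosedImmersion q.left := hq.1.1
  have hcl : IsClosedImmersion (q.left ≫ φ.hom) := inferInstance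
  obtain ⟨I, e, he⟩ := IsClosedImmersion.Spec_iff.mp hcl
  have hI : I ^ 2 = ⊥ := by
    haveI : IsIso (pullback.fst q.left φ.inv) := inferInstance
    refine Groth.Agent.S1516.sq_zero_of_thickening hq A φ.inv I
      (asIso (pullback.fst q.left φ.inv) ≪≫ e) ?_
    change pullback.snd q.left φ.inv = (pullback.fst q.left φ.inv ≫ e.hom) ≫ _
    rw [Category.assoc, ← he, pullback.condition_assoc, Iso.inv_hom_id, Category.comp_id]
  have he' : Spec.map (CommRingCat.ofHom (Ideal.Quotient.mk I)) ≫ φ.inv = e.inv ≫ q.left := by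
    rw [Iso.eq_inv_comp, ← Category.assoc, ← he, Category.assoc, Iso.hom_inv_id, Category.comp_id]
  let str : Spec (.of A) ⟶ S := φ.inv ≫ W.hom
  let Φ : Over.mk str ≅ W := Over.isoMk φ.symm rfl
  let E : Over.mk (Spec.map (CommRingCat.ofHom (Ideal.Quotient.mk I)) ≫ str) ≅ W₀ :=
    Over.isoMk e.symm (by
      change e.inv ≫ W₀.hom = Spec.map (CommRingCat.ofHom (Ideal.Quotient.mk I)) ≫ φ.inv ≫ W.hom
      rw [← Category.assoc, he', Category.assoc, Over.w q])
  refine ⟨A, inferInstance, I, hI, str, E, Φ, ?_⟩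
  apply Over.OverMorphism.ext
  exact he'

/-- Uniqueness of liftings against a formally unramified morphism, along a first order thickening of schemes with
affine target. -/
theorem lift_unique_affine {G H : Sp S} (b : G ⟶ H) (hb : IsFormallyUnramifiedMor b)
    {W₀ W : Over S} (q : W₀ ⟶ W) (hW : IsAffine W.left)
    (hq : MoreMor.IsFirstOrderThickening q.left) (l₁ l₂ : (yon S).obj W ⟶ G)
    (h1 : (yon S).map q ≫ l₁ = (yon S).map q ≫ l₂) (h2 : l₁ ≫ b = l₂ ≫ b) : l₁ = l₂ := by
  obtain ⟨A, instA, I, hI, str, E, Φ, hcomm⟩ := exists_infSq_form q hW hq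
  have hc : ((yon S).map E.hom ≫ (yon S).map q ≫ l₁) ≫ b =
      (yon S).map (Over.homMk (Spec.map (CommRingCat.ofHom (Ideal.Quotient.mk I))) rfl :
        Over.mk (Spec.map (CommRingCat.ofHom (Ideal.Quotient.mk I)) ≫ str) ⟶ Over.mk str) ≫
        (yon S).map Φ.hom ≫ l₁ ≫ b := by
    rw [← Category.assoc ((yon S).map _) ((yon S).map Φ.hom), ← Functor.map_comp, hcomm,
      Functor.map_comp]
    simp only [Category.assoc]
  let sq : InfSq b :=
    { A := A
      I := I
      sq_zero := hI
      str := str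
      top := (yon S).map E.hom ≫ (yon S).map q ≫ l₁
      bot := (yon S).map Φ.hom ≫ l₁ ≫ b
      comm := hc }
  have hj : ∀ l : (yon S).obj W ⟶ G, (yon S).map sq.j ≫ (yon S).map Φ.hom ≫ l =
      (yon S).map E.hom ≫ (yon S).map q ≫ l := by
    intro l
    rw [← Category.assoc, ← Functor.map_comp]
    change (yon S).map ((Over.homMk (Spec.map (CommRingCat.ofHom (Ideal.Quotient.mk I))) rfl :
        Over.mk (Spec.map (CommRingCat.ofHom (Ideal.Quotient.mk I)) ≫ str) ⟶ Over.mk str) ≫ Φ.hom) ≫ l = _
    rw [hcomm, Functor.map_comp, Category.assoc]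
  have key := hb sq ((yon S).map Φ.hom ≫ l₁) ((yon S).map Φ.hom ≫ l₂) (hj l₁)
    (by rw [Category.assoc]) (by rw [hj l₂, ← h1]) (by rw [Category.assoc, ← h2])
  have hiso : IsIso ((yon S).map Φ.hom) := inferInstance
  exact (cancel_epi ((yon S).map Φ.hom)).1 key

/-- Uniqueness of liftings against a formally unramified morphism, along any first order thickening of schemes. -/
theorem lift_unique_scheme {G H : Sp S} (b : G ⟶ H) (hb : IsFormallyUnramifiedMor b)
    {W₀ W : Over S} (q : W₀ ⟶ W) (hq : MoreMor.IsFirstOrderThickening q.left)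
    (l₁ l₂ : (yon S).obj W ⟶ G)
    (h1 : (yon S).map q ≫ l₁ = (yon S).map q ≫ l₂) (h2 : l₁ ≫ b = l₂ ≫ b) : l₁ = l₂ := by
  obtain ⟨κ, V, ι, haff, hopen, hsurj⟩ := exists_affine_openCover W
  apply hom_ext_of_openCover V ι hopen hsurj
  intro k
  have sq₀ : IsPullback (pullback.snd q (ι k)).left (pullback.fst q (ι k)).left (ι k).left q.left :=
    ((IsPullback.of_hasPullback q (ι k)).map (Over.forget S)).flip
  have hFO := isFirstOrderThickening_of_isPullback sq₀ hq
  refine lift_unique_affine b hb (pullback.snd q (ι k)) (haff k) hFO _ _ ?_ ?_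
  · rw [← Category.assoc, ← Category.assoc, ← Functor.map_comp, ← pullback.condition,
      Functor.map_comp, Category.assoc, Category.assoc, h1]
  · rw [Category.assoc, Category.assoc, h2]

end SchemeFO

section CompEtale

open Groth.Agent.Lib.H86Formal Groth.Agent.Lib.H69DescentAffine

set_option backward.isDefEq.respectTransparency false in
/-- If `a` is representable, etale and surjective and `a ≫ b` is formally unramified, then liftings against `b` along
first order thickenings of schemes are unique. -/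
theorem lift_unique_of_comp_etale_surjective {F G H : Sp S} (a : F ⟶ G) (b : G ⟶ H)
    (ha : RepWith @Etale a) (has : RepWith @Surjective a)
    (hab : IsFormallyUnramifiedMor (a ≫ b))
    {W₀ W : Over S} (i : W₀ ⟶ W) (hi : MoreMor.IsFirstOrderThickening i.left)
    (l₁ l₂ : (yon S).obj W ⟶ G) (h1 : (yon S).map i ≫ l₁ = (yon S).map i ≫ l₂)
    (h2 : l₁ ≫ b = l₂ ≫ b) : l₁ = l₂ := by
  -- step 1: pull back the chart along `l₁`
  obtain ⟨P, p, u₁, sqP⟩ := ha.1 l₁
  haveI hpe : Etale p.left := ha.2 l₁ _ p sqP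
  haveI hps : Surjective p.left := has.2 l₁ _ p sqP
  -- step 2: the thickening of `P`
  have sq₀ := IsPullback.of_hasPullback p i
  have sq₀' : IsPullback (pullback.fst p i).left (pullback.snd p i).left p.left i.left :=
    sq₀.map (Over.forget S)
  have hi₀ : MoreMor.IsFirstOrderThickening (pullback.fst p i).left :=
    isFirstOrderThickening_of_isPullback sq₀' hi
  haveI : IsClosedImmersion (pullback.fst p i).left := hi₀.1.1
  -- step 3: lift `l₂ ∘ p` through the chart
  obtain ⟨E, ε, uE, sqE⟩ := ha.1 ((yon S).map p ≫ l₂)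
  haveI hεe : Etale ε.left := ha.2 _ _ ε sqE
  have c0 : ((yon S).map (pullback.fst p i) ≫ u₁) ≫ a =
      (yon S).map (pullback.fst p i) ≫ (yon S).map p ≫ l₂ := by
    rw [Category.assoc, sqP.w, ← Category.assoc, ← Functor.map_comp,
      pullback.condition, Functor.map_comp, Category.assoc, h1, ← Category.assoc,
      ← Functor.map_comp, ← pullback.condition, Functor.map_comp, Category.assoc]
  let σ₀' := sqE.lift ((yon S).map (pullback.fst p i) ≫ u₁) ((yon S).map (pullback.fst p i)) c0
  obtain ⟨σ₀, hσ₀⟩ := (yon S).map_surjective σ₀'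
  have hσ₀1 : (yon S).map σ₀ ≫ uE = (yon S).map (pullback.fst p i) ≫ u₁ := by
    rw [hσ₀]
    exact sqE.lift_fst _ _ _
  have hσ₀2 : σ₀ ≫ ε = pullback.fst p i := by
    apply (yon S).map_injective
    rw [Functor.map_comp, hσ₀]
    exact sqE.lift_snd _ _ _
  have hfe : MoreMor.IsFormallyEtaleHom ε.left := ((Groth.Agent.S1489.result ε.left).1 hεe).2
  obtain ⟨σ, ⟨hσ1, hσ2⟩, -⟩ := Groth.Agent.S1516.result ε.left hfe (pullback.fst p i).left hi₀
    σ₀.left (𝟙 _) (by rw [Category.comp_id]; exact (congrArg (fun φ => φ.left) hσ₀2).symm)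
  have hσP : σ ≫ E.hom = P.hom := by
    rw [← Over.w ε, ← Category.assoc, hσ2, Category.id_comp]
  let sgm : P ⟶ E := Over.homMk σ hσP
  have hsg1 : pullback.fst p i ≫ sgm = σ₀ := Over.OverMorphism.ext hσ1
  have hsg2 : sgm ≫ ε = 𝟙 _ := Over.OverMorphism.ext hσ2
  let u₂ : (yon S).obj P ⟶ F := (yon S).map sgm ≫ uE
  have hu₂a : u₂ ≫ a = (yon S).map p ≫ l₂ := by
    rw [Category.assoc, sqE.w, ← Category.assoc, ← Functor.map_comp, hsg2,
      CategoryTheory.Functor.map_id, Category.id_comp]
  have hu₂i : (yon S).map (pullback.fst p i) ≫ u₂ = (yon S).map (pullback.fst p i) ≫ u₁ := by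
    rw [← Category.assoc, ← Functor.map_comp, hsg1, hσ₀1]
  -- step 5
  have hu : u₁ = u₂ := by
    refine lift_unique_scheme (a ≫ b) hab (pullback.fst p i) hi₀ _ _ hu₂i.symm ?_
    rw [← Category.assoc, ← Category.assoc, sqP.w, hu₂a, Category.assoc, Category.assoc, h2]
  -- step 6
  haveI : Flat p.left := inferInstance
  haveI : LocallyOfFinitePresentation p.left := inferInstance
  apply hom_ext_of_fppf p
  rw [← sqP.w, ← hu₂a, hu]

/-- S10617 (4): if `a` is representable, etale and surjective and `a ≫ b` is formally unramified, so is `b`. -/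
theorem isFormallyUnramifiedMor_of_comp_etale_surjective {F G H : Sp S} (a : F ⟶ G) (b : G ⟶ H)
    (ha : RepWith @Etale a) (has : RepWith @Surjective a)
    (hab : IsFormallyUnramifiedMor (a ≫ b)) : IsFormallyUnramifiedMor b := by
  intro sq l l' h1 h2 h1' h2'
  exact lift_unique_of_comp_etale_surjective a b ha has hab sq.j
    (isFirstOrderThickening_thick sq.I sq.sq_zero) l l' (h1.trans h1'.symm) (h2.trans h2'.symm)

end CompEtale

section CompEtaleExist

open Groth.Agent.Lib.H86Formal Groth.Agent.Lib.H90AlgSpInf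

set_option backward.isDefEq.respectTransparency false in
/-- S10617 (5): if `a` is representable, etale and surjective and `a ≫ b` is formally etale, so is `b`. -/
theorem isFormallyEtaleMor_of_comp_etale_surjective {F G H : Sp S} (a : F ⟶ G) (b : G ⟶ H)
    (ha : RepWith @Etale a) (has : RepWith @Surjective a)
    (hab : IsFormallyEtaleMor (a ≫ b)) : IsFormallyEtaleMor b := by
  have habu : IsFormallyUnramifiedMor (a ≫ b) := ((isFormallyEtaleMor_iff _).1 hab).2
  rw [isFormallyEtaleMor_iff]
  refine ⟨?_, isFormallyUnramifiedMor_of_comp_etale_surjective a b ha has habu⟩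
  intro sq
  have hjFO : MoreMor.IsFirstOrderThickening sq.j.left :=
    isFirstOrderThickening_thick sq.I sq.sq_zero
  haveI : IsClosedImmersion sq.j.left := hjFO.1.1
  haveI : Surjective sq.j.left := hjFO.1.2
  obtain ⟨Q, q, v, sqQ⟩ := ha.1 sq.top
  haveI hqe : Etale q.left := ha.2 _ _ q sqQ
  haveI hqs : Surjective q.left := has.2 _ _ q sqQ
  have hx : ∀ x : ↥Q.left, ∃ (V : sq.ptT'.left.Etale)
      (h : (EtCoh.bc sq.j.left).obj V ⟶ Scheme.Etale.mk q.left)
      (p : ↥((EtCoh.bc sq.j.left).obj V).left), h.left p = x :=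
    fun x => Groth.Agent.Lib.EtLiftClosed.exists_lift_etale_nbhd sq.j.left (Scheme.Etale.mk q.left) x
  choose V h p hp using hx
  let VO : ↥Q.left → Over S := fun x => Over.mk ((V x).hom ≫ sq.ptT'.hom)
  let c : ∀ x, VO x ⟶ sq.ptT' := fun x => Over.homMk (V x).hom rfl
  let V₀ : ↥Q.left → Over S := fun x => Over.mk (pullback.snd (V x).hom sq.j.left ≫ sq.ptT.hom)
  let pr₁ : ∀ x, V₀ x ⟶ VO x := fun x => Over.homMk (pullback.fst (V x).hom sq.j.left) (by
    change pullback.fst (V x).hom sq.j.left ≫ (V x).hom ≫ sq.ptT'.hom =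
      pullback.snd (V x).hom sq.j.left ≫ sq.ptT.hom
    rw [← Category.assoc, pullback.condition, Category.assoc, Over.w sq.j])
  let pr₂ : ∀ x, V₀ x ⟶ sq.ptT := fun x => Over.homMk (pullback.snd (V x).hom sq.j.left) rfl
  have hhw : ∀ x, (h x).left ≫ q.left = pullback.snd (V x).hom sq.j.left := fun x => Over.w (h x).hom
  let m : ∀ x, V₀ x ⟶ Q := fun x => Over.homMk (h x).left (by
    change (h x).left ≫ Q.hom = pullback.snd (V x).hom sq.j.left ≫ sq.ptT.hom
    rw [← Over.w q, ← Category.assoc, hhw x])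
  have hm : ∀ x, m x ≫ q = pr₂ x := fun x => Over.OverMorphism.ext (hhw x)
  have sqV : ∀ x, IsPullback (pr₁ x).left (pr₂ x).left (c x).left sq.j.left := fun x =>
    IsPullback.of_hasPullback (V x).hom sq.j.left
  have hFO : ∀ x, MoreMor.IsFirstOrderThickening (pr₁ x).left := fun x =>
    isFirstOrderThickening_of_isPullback (sqV x) hjFO
  have sqV' : ∀ x, IsPullback ((yon S).map (pr₂ x)) ((yon S).map (pr₁ x)) ((yon S).map sq.j)
      ((yon S).map (c x)) := fun x =>
    Groth.Agent.Lib.AlgSpAffineSpace.isPullback_yon_of_left (sqV x).flip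
  -- the local solutions
  have hloc : ∀ x, ∃ l : (yon S).obj (VO x) ⟶ G,
      IsLiftOn b ((yon S).map sq.j) sq.top sq.bot ((yon S).map (c x)) l := by
    intro x
    have comm : ((yon S).map (m x) ≫ v) ≫ a ≫ b =
        (yon S).map (pr₁ x) ≫ (yon S).map (c x) ≫ sq.bot := by
      rw [Category.assoc, ← Category.assoc v, sqQ.w, Category.assoc, ← Category.assoc,
        ← Functor.map_comp, hm x, sq.comm, ← Category.assoc, ← Category.assoc, (sqV' x).w]
    obtain ⟨lam, ⟨hl1, hl2⟩, -⟩ := existsUnique_lift_of_isFormallyEtaleMor (a ≫ b) hab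
      (IsAlgSpace.yon_obj (VO x)) ((yon S).map (pr₁ x)) (isFOThickMor_yon_map _ (hFO x))
      ((yon S).map (m x) ≫ v) ((yon S).map (c x) ≫ sq.bot) comm
    refine ⟨lam ≫ a, (isLiftOn_iff_of_isPullback (sqV' x) _).2 ⟨?_, ?_⟩⟩
    · rw [← Category.assoc, hl1, Category.assoc, sqQ.w, ← Category.assoc, ← Functor.map_comp, hm x]
    · rw [Category.assoc, hl2]
  choose l hl using hloc
  have hsurj : ∀ w : ↥sq.ptT'.left, ∃ x, w ∈ Set.range (c x).left := by
    intro w
    obtain ⟨t, rfl⟩ := ‹Surjective sq.j.left›.surj w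
    obtain ⟨x, rfl⟩ := hqs.surj t
    refine ⟨x, (pr₁ x).left (p x), ?_⟩
    have e1 : (pr₁ x).left ≫ (c x).left = (pr₂ x).left ≫ sq.j.left := (sqV x).w
    have e2 : (c x).left ((pr₁ x).left (p x)) = sq.j.left ((pr₂ x).left (p x)) := by
      rw [← Scheme.Hom.comp_apply, ← Scheme.Hom.comp_apply, e1]
    rw [e2]
    have e3 : (pr₂ x).left (p x) = q.left ((h x).left (p x)) := by
      change (pullback.snd (V x).hom sq.j.left) (p x) = _
      rw [← hhw x]
      rfl
    rw [e3, hp x]
  have huniq : ∀ (R : Over S) (g : R ⟶ sq.ptT'), Etale g.left → ∀ l l' : (yon S).obj R ⟶ G,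
      IsLiftOn b ((yon S).map sq.j) sq.top sq.bot ((yon S).map g) l →
      IsLiftOn b ((yon S).map sq.j) sq.top sq.bot ((yon S).map g) l' → l = l' := by
    intro R g _ l l' hl hl'
    have sqR := IsPullback.of_hasPullback g sq.j
    have sqR₀ : IsPullback (pullback.fst g sq.j).left (pullback.snd g sq.j).left g.left sq.j.left :=
      sqR.map (Over.forget S)
    have hFOR : MoreMor.IsFirstOrderThickening (pullback.fst g sq.j).left :=
      isFirstOrderThickening_of_isPullback sqR₀ hjFO
    have sqR' := (sqR.map (yon S)).flip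
    have e1 := (isLiftOn_iff_of_isPullback sqR' l).1 hl
    have e2 := (isLiftOn_iff_of_isPullback sqR' l').1 hl'
    exact lift_unique_of_comp_etale_surjective a b ha has habu (pullback.fst g sq.j) hFOR l l'
      (e1.1.trans e2.1.symm) (e1.2.trans e2.2.symm)
  exact exists_lift_of_etale_family b ((yon S).map sq.j) sq.top sq.bot VO c
    (fun x => (V x).prop) hsurj l hl huniq

end CompEtaleExist

end Groth.Agent.Lib.H86Formal3
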