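import Groth.Agent.Lib.H86Formal3
import Groth.Agent.S9771

/-!
# helper86: formally etale morphisms of algebraic spaces versus charts
-/

set_option autoImplicit false
set_option linter.style.haveILetI false
universe u
open CategoryTheory CategoryTheory.Limits AlgebraicGeometry Opposite

namespace Groth.Agent.Lib.H86Formal4
open AlgSp Groth.Agent.Lib.AlgSpBasic Groth.Agent.Lib.AlgSpLocP Groth.Agent.Lib.H86Formal
open Groth.Agent.Lib.H86Formal3 Groth.Agent.Lib.H90AlgSpInf

variable {S : Scheme.{u}}

section YonMap

variable {U V : Over S} (h : U ⟶ V)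

/-- For a morphism of schemes over `S`, formal etaleness of `h_h` in the lifting sense is the frozen
`MoreMor.IsFormallyEtaleHom`. -/
theorem isFormallyEtaleMor_yon_map_iff :
    IsFormallyEtaleMor ((yon S).map h) ↔ MoreMor.IsFormallyEtaleHom h.left := by
  constructor
  · intro hh A _ I hI a b comm
    have ha : a ≫ U.hom = Spec.map (CommRingCat.ofHom (Ideal.Quotient.mk I)) ≫ b ≫ V.hom := by
      rw [← Over.w h, ← Category.assoc, ← comm, Category.assoc]
    let T' : Over S := Over.mk (b ≫ V.hom)
    let T : Over S := Over.mk (Spec.map (CommRingCat.ofHom (Ideal.Quotient.mk I)) ≫ b ≫ V.hom)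
    let jj : T ⟶ T' := Over.homMk (Spec.map (CommRingCat.ofHom (Ideal.Quotient.mk I))) rfl
    let aO : T ⟶ U := Over.homMk a ha
    let bO : T' ⟶ V := Over.homMk b rfl
    have hcomm : aO ≫ h = jj ≫ bO := by
      apply Over.OverMorphism.ext
      exact comm.symm
    have hc : (yon S).map aO ≫ (yon S).map h = (yon S).map jj ≫ (yon S).map bO := by
      rw [← Functor.map_comp, ← Functor.map_comp, hcomm]
    let sq : InfSq ((yon S).map h) :=
      { A := A
        I := I
        sq_zero := hI
        str := b ≫ V.hom
        top := (yon S).map aO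
        bot := (yon S).map bO
        comm := hc }
    obtain ⟨l, ⟨hl1, hl2⟩, hlu⟩ := hh sq
    obtain ⟨L, rfl⟩ := (yon S).map_surjective l
    have hL1 : jj ≫ L = aO := by
      apply (yon S).map_injective
      rw [Functor.map_comp]
      exact hl1
    have hL2 : L ≫ h = bO := by
      apply (yon S).map_injective
      rw [Functor.map_comp]
      exact hl2
    refine ⟨L.left, ⟨congrArg (fun φ => φ.left) hL1, congrArg (fun φ => φ.left) hL2⟩, ?_⟩
    rintro m ⟨hm1, hm2⟩
    have hmO : m ≫ U.hom = T'.hom := by
      rw [← Over.w h, ← Category.assoc, hm2]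
      rfl
    let M : T' ⟶ U := Over.homMk m hmO
    have hM1 : jj ≫ M = aO := Over.OverMorphism.ext hm1
    have hM2 : M ≫ h = bO := Over.OverMorphism.ext hm2
    have := hlu ((yon S).map M) ⟨by
      change (yon S).map jj ≫ (yon S).map M = (yon S).map aO
      rw [← Functor.map_comp, hM1], by
      change (yon S).map M ≫ (yon S).map h = (yon S).map bO
      rw [← Functor.map_comp, hM2]⟩
    have hML : M = L := (yon S).map_injective this
    exact congrArg (fun φ => φ.left) hML
  · intro hh sq
    obtain ⟨topO, htop⟩ := (yon S).map_surjective sq.top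
    obtain ⟨botO, hbot⟩ := (yon S).map_surjective sq.bot
    have hcomm : topO ≫ h = sq.j ≫ botO := by
      apply (yon S).map_injective
      rw [Functor.map_comp, Functor.map_comp, htop, hbot]
      exact sq.comm
    obtain ⟨l, ⟨hl1, hl2⟩, hlu⟩ := hh sq.A sq.I sq.sq_zero topO.left botO.left
      (congrArg (fun φ => φ.left) hcomm).symm
    have hlO : l ≫ U.hom = sq.ptT'.hom := by
      rw [← Over.w h, ← Category.assoc, hl2]
      exact Over.w botO
    let L : sq.ptT' ⟶ U := Over.homMk l hlO
    have hL1 : sq.j ≫ L = topO := Over.OverMorphism.ext hl1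
    have hL2 : L ≫ h = botO := Over.OverMorphism.ext hl2
    refine ⟨(yon S).map L, ⟨by rw [← Functor.map_comp, hL1, htop],
      by rw [← Functor.map_comp, hL2, hbot]⟩, ?_⟩
    rintro m ⟨hm1, hm2⟩
    obtain ⟨M, rfl⟩ := (yon S).map_surjective m
    have hM1 : sq.j ≫ M = topO := by
      apply (yon S).map_injective
      rw [Functor.map_comp, hm1, htop]
    have hM2 : M ≫ h = botO := by
      apply (yon S).map_injective
      rw [Functor.map_comp, hm2, hbot]
    have := hlu M.left ⟨congrArg (fun φ => φ.left) hM1, congrArg (fun φ => φ.left) hM2⟩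
    have hML : M = L := Over.OverMorphism.ext this
    rw [hML]

end YonMap

section Charts

/-- One chart diagram with surjective source chart and formally etale top arrow suffices for formal etaleness in the
lifting sense. -/
theorem isFormallyEtaleMor_of_chart {X Y : Sp S} (f : X ⟶ Y) {U V : Over S}
    (a : (yon S).obj U ⟶ X) (b : (yon S).obj V ⟶ Y) (h : U ⟶ V)
    (ha : RepWith @Etale a) (has : RepWith @Surjective a) (hb : RepWith @Etale b)
    (e : a ≫ f = (yon S).map h ≫ b) (hh : MoreMor.IsFormallyEtaleHom h.left) :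
    IsFormallyEtaleMor f := by
  have h1 : IsFormallyEtaleMor ((yon S).map h ≫ b) :=
    etale_comp _ _ ((isFormallyEtaleMor_yon_map_iff h).2 hh) (isFormallyEtaleMor_of_repWith_etale b hb)
  rw [← e] at h1
  exact isFormallyEtaleMor_of_comp_etale_surjective a f ha has h1

/-- Formally etale in the lifting sense implies formally etale on all charts. -/
theorem locP_formallyEtaleHom_of_isFormallyEtaleMor {X Y : Sp S} (f : X ⟶ Y)
    (hf : IsFormallyEtaleMor f) : LocP @MoreMor.IsFormallyEtaleHom f := by
  intro U V a b h ha hb e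
  have h1 : IsFormallyEtaleMor (a ≫ f) := etale_comp a f (isFormallyEtaleMor_of_repWith_etale a ha) hf
  rw [e] at h1
  have h2 : IsFormallyEtaleMor ((yon S).map h) :=
    etale_of_comp ((yon S).map h) b (isFormallyUnramifiedMor_of_repWith_etale b hb) h1
  exact (isFormallyEtaleMor_yon_map_iff h).1 h2

theorem isFormallyEtaleMor_iff_locP {X Y : Sp S} (hX : IsAlgSpace X) (hY : IsAlgSpace Y)
    (f : X ⟶ Y) : IsFormallyEtaleMor f ↔ LocP @MoreMor.IsFormallyEtaleHom f := by
  refine ⟨locP_formallyEtaleHom_of_isFormallyEtaleMor f, fun hloc => ?_⟩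
  obtain ⟨U, V, a, b, h, ha, has, hb, -, e⟩ := exists_surjective_chart hX hY f
  exact isFormallyEtaleMor_of_chart f a b h ha has hb e (hloc a b h ha hb e)

/-- An etale morphism of algebraic spaces is formally etale (lifting sense). -/
theorem isFormallyEtaleMor_of_isEtaleMor {X Y : Sp S} (hX : IsAlgSpace X) (hY : IsAlgSpace Y)
    (f : X ⟶ Y) (hf : IsEtaleMor f) : IsFormallyEtaleMor f := by
  rw [isFormallyEtaleMor_iff_locP hX hY]
  have hloc := (isEtaleMor_iff_locP hY f).1 hf
  intro U V a b h ha hb e
  have : Etale h.left := hloc a b h ha hb e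
  exact ((Groth.Agent.S1489.result h.left).1 this).2

/-- An unramified flat morphism of algebraic spaces is formally etale. -/
theorem isFormallyEtaleMor_of_unramified_flat {X Y : Sp S} (hX : IsAlgSpace X) (hY : IsAlgSpace Y)
    (f : X ⟶ Y) (h1 : LocP (@LocallyOfFiniteType ⊓ @FormallyUnramified) f) (h2 : LocP @Flat f) :
    IsFormallyEtaleMor f := by
  rw [isFormallyEtaleMor_iff_locP hX hY]
  intro U V a b h ha hb e
  have h3 := h1 a b h ha hb e
  haveI : LocallyOfFiniteType h.left := h3.1
  haveI : FormallyUnramified h.left := h3.2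
  haveI : Flat h.left := h2 a b h ha hb e
  exact Groth.Agent.S9771.result h.left

/-- Etale iff locally of finite presentation and formally etale. -/
theorem isEtaleMor_iff_lfp_and_formallyEtale {X Y : Sp S} (hX : IsAlgSpace X) (hY : IsAlgSpace Y)
    (f : X ⟶ Y) :
    IsEtaleMor f ↔ LocP @LocallyOfFinitePresentation f ∧ IsFormallyEtaleMor f := by
  constructor
  · intro hf
    refine ⟨?_, isFormallyEtaleMor_of_isEtaleMor hX hY f hf⟩
    have hloc := (isEtaleMor_iff_locP hY f).1 hf
    intro U V a b h ha hb e
    have : Etale h.left := hloc a b h ha hb e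
    infer_instance
  · rintro ⟨h1, h2⟩
    rw [isEtaleMor_iff_locP hY f]
    have h3 := locP_formallyEtaleHom_of_isFormallyEtaleMor f h2
    intro U V a b h ha hb e
    exact (Groth.Agent.S1489.result h.left).2 ⟨h1 a b h ha hb e, h3 a b h ha hb e⟩

end Charts

end Groth.Agent.Lib.H86Formal4
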