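import Groth.Agent.Lib.H86Formal4

/-!
# helper86: formally smooth morphisms and universal first order thickenings versus etale morphisms
-/

set_option autoImplicit false
set_option linter.style.haveILetI false
universe u
open CategoryTheory CategoryTheory.Limits AlgebraicGeometry Opposite

namespace Groth.Agent.Lib.H86Formal5
open AlgSp Groth.Agent.Lib.AlgSpBasic Groth.Agent.Lib.AlgSpLocP Groth.Agent.Lib.H86Formal
open Groth.Agent.Lib.H86Formal2 Groth.Agent.Lib.H86Formal3 Groth.Agent.Lib.H86Formal4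
open Groth.Agent.Lib.H90AlgSpInf

variable {S : Scheme.{u}}

/-- Formal smoothness passes to etale charts. -/
theorem isFormallySmoothMor_of_etale_charts {X Y U V : Sp S} (hU : IsAlgSpace U)
    (hX : IsAlgSpace X) (hV : IsAlgSpace V) (hY : IsAlgSpace Y) (f : X ⟶ Y)
    (hf : IsFormallySmoothMor f) (p : U ⟶ X) (q : V ⟶ Y) (hp : IsEtaleMor p) (hq : IsEtaleMor q)
    (ψ : U ⟶ V) (w : ψ ≫ q = p ≫ f) : IsFormallySmoothMor ψ := by
  have hpe := (isFormallyEtaleMor_iff p).1 (isFormallyEtaleMor_of_isEtaleMor hU hX p hp)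
  have hqe := (isFormallyEtaleMor_iff q).1 (isFormallyEtaleMor_of_isEtaleMor hV hY q hq)
  intro sq
  have c1 : (sq.top ≫ p) ≫ f = (yon S).map sq.j ≫ sq.bot ≫ q := by
    rw [Category.assoc, ← w, ← Category.assoc, sq.comm, Category.assoc]
  obtain ⟨l, hl1, hl2⟩ := exists_lift hf sq (sq.top ≫ p) (sq.bot ≫ q) c1
  obtain ⟨m, hm1, hm2⟩ := exists_lift hpe.1 sq sq.top l hl1.symm
  refine ⟨m, hm1, ?_⟩
  have c2 : (sq.top ≫ ψ) ≫ q = (yon S).map sq.j ≫ sq.bot ≫ q := by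
    rw [sq.comm, Category.assoc]
  refine lift_unique hqe.2 sq (sq.top ≫ ψ) (sq.bot ≫ q) c2 (m ≫ ψ) sq.bot ?_ ?_ sq.comm.symm rfl
  · rw [← Category.assoc, hm1]
  · rw [Category.assoc, w, ← Category.assoc, hm2, hl2]

set_option backward.isDefEq.respectTransparency false in
/-- Etale base change of a universal first order thickening. -/
theorem isUnivFOThick_etale_baseChange {Z Y Y' Z' X : Sp S} (hZ' : IsAlgSpace Z')
    (hY' : IsAlgSpace Y') (e : Z ⟶ Y) (hY : Y ⟶ X) (iY : Y ⟶ Y') (hY'm : Y' ⟶ X)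
    (HU : IsUnivFOThick hY iY hY'm) (iZ : Z ⟶ Z') (e' : Z' ⟶ Y') (he' : IsEtaleMor e')
    (sq : IsPullback e iZ iY e') : IsUnivFOThick (e ≫ hY) iZ (e' ≫ hY'm) := by
  have hfe : IsFormallyEtaleMor e' := isFormallyEtaleMor_of_isEtaleMor hZ' hY' e' he'
  refine ⟨⟨repWith_snd_of_isPullback _ sq HU.1.1, ?_⟩, ?_, ?_⟩
  · intro V W b fst snd hV hb sq'
    exact HU.1.2 (b ≫ e') (fst ≫ e) snd hV (he' b hb) (sq'.paste_horiz sq)
  · rw [← Category.assoc, ← sq.w, Category.assoc, HU.2.1]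
  · intro T T' hT hT' j a b hj hcomm
    obtain ⟨y', ⟨hy1, hy2⟩, hyu⟩ := HU.2.2 hT hT' j (a ≫ e) b hj (by rw [hcomm, Category.assoc])
    obtain ⟨a', ⟨ha1, ha2⟩, hau⟩ := existsUnique_lift_of_isFormallyEtaleMor e' hfe hT' j hj
      (a ≫ iZ) y' (by rw [Category.assoc, ← sq.w, ← Category.assoc, hy1])
    refine ⟨a', ⟨ha1, by rw [← Category.assoc, ha2, hy2]⟩, ?_⟩
    rintro a'' ⟨h1, h2⟩
    have : a'' ≫ e' = y' := hyu _ ⟨by
      rw [← Category.assoc, h1, Category.assoc, ← sq.w, Category.assoc], by rw [Category.assoc, h2]⟩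
    exact hau a'' ⟨h1, this⟩

end Groth.Agent.Lib.H86Formal5
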