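import Groth.Agent.Lib.H86Formal5
import Groth.Agent.Lib.AlgSpQC

/-!
# helper86: lifting etale coverings along thickenings (families), and etale descent of universal first order thickenings
-/

set_option autoImplicit false
set_option linter.style.haveILetI false
universe u
open CategoryTheory CategoryTheory.Limits AlgebraicGeometry Opposite

namespace Groth.Agent.Lib.H86Formal6
open AlgSp Groth.Agent.Lib.AlgSpBasic Groth.Agent.Lib.AlgSpLocP Groth.Agent.Lib.H86Formal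
open Groth.Agent.Lib.H86Formal2 Groth.Agent.Lib.H86Formal3 Groth.Agent.Lib.H86Formal4
open Groth.Agent.Lib.H90AlgSpInf

variable {S : Scheme.{u}}

section KL

set_option backward.isDefEq.respectTransparency false in
/-- **Lifting an etale covering along a thickening.**  For a surjective closed immersion `q : W₀ ⟶ W` of schemes over
`S` and an etale surjective `ρ : Q ⟶ W₀`, there is a jointly surjective family of etale `c k : VO k ⟶ W` whose base
changes `V₀ k = VO k ×_W W₀` map to `Q` over `W₀`. -/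
theorem exists_etale_family_lift {W₀ W Q : Over S} (q : W₀ ⟶ W) (hq1 : IsClosedImmersion q.left)
    (hq2 : Surjective q.left) (ρ : Q ⟶ W₀) (hρ1 : Etale ρ.left) (hρ2 : Surjective ρ.left) :
    ∃ (VO V₀ : ↥Q.left → Over S) (c : ∀ k, VO k ⟶ W) (pr₁ : ∀ k, V₀ k ⟶ VO k)
      (pr₂ : ∀ k, V₀ k ⟶ W₀) (m : ∀ k, V₀ k ⟶ Q),
      (∀ k, Etale (c k).left) ∧ (∀ w : ↥W.left, ∃ k, w ∈ Set.range (c k).left) ∧
      (∀ k, IsPullback (pr₁ k).left (pr₂ k).left (c k).left q.left) ∧ ∀ k, m k ≫ ρ = pr₂ k := by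
  have hx : ∀ x : ↥Q.left, ∃ (V : W.left.Etale)
      (h : (EtCoh.bc q.left).obj V ⟶ Scheme.Etale.mk ρ.left)
      (p : ↥((EtCoh.bc q.left).obj V).left), h.left p = x :=
    fun x => Groth.Agent.Lib.EtLiftClosed.exists_lift_etale_nbhd q.left (Scheme.Etale.mk ρ.left) x
  choose V h p hp using hx
  let VO : ↥Q.left → Over S := fun x => Over.mk ((V x).hom ≫ W.hom)
  let c : ∀ x, VO x ⟶ W := fun x => Over.homMk (V x).hom rfl
  let V₀ : ↥Q.left → Over S := fun x => Over.mk (pullback.snd (V x).hom q.left ≫ W₀.hom)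
  let pr₁ : ∀ x, V₀ x ⟶ VO x := fun x => Over.homMk (pullback.fst (V x).hom q.left) (by
    change pullback.fst (V x).hom q.left ≫ (V x).hom ≫ W.hom =
      pullback.snd (V x).hom q.left ≫ W₀.hom
    rw [← Category.assoc, pullback.condition, Category.assoc, Over.w q])
  let pr₂ : ∀ x, V₀ x ⟶ W₀ := fun x => Over.homMk (pullback.snd (V x).hom q.left) rfl
  have hhw : ∀ x, (h x).left ≫ ρ.left = pullback.snd (V x).hom q.left := fun x => Over.w (h x).hom
  let m : ∀ x, V₀ x ⟶ Q := fun x => Over.homMk (h x).left (by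
    change (h x).left ≫ Q.hom = pullback.snd (V x).hom q.left ≫ W₀.hom
    rw [← Over.w ρ, ← Category.assoc, hhw x])
  have hm : ∀ x, m x ≫ ρ = pr₂ x := fun x => Over.OverMorphism.ext (hhw x)
  have sqV : ∀ x, IsPullback (pr₁ x).left (pr₂ x).left (c x).left q.left := fun x =>
    IsPullback.of_hasPullback (V x).hom q.left
  refine ⟨VO, V₀, c, pr₁, pr₂, m, fun x => (V x).prop, ?_, sqV, hm⟩
  intro w
  obtain ⟨t, rfl⟩ := hq2.surj w
  obtain ⟨x, rfl⟩ := hρ2.surj t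
  refine ⟨x, (pr₁ x).left (p x), ?_⟩
  have e1 : (pr₁ x).left ≫ (c x).left = (pr₂ x).left ≫ q.left := (sqV x).w
  have e2 : (c x).left ((pr₁ x).left (p x)) = q.left ((pr₂ x).left (p x)) := by
    rw [← Scheme.Hom.comp_apply, ← Scheme.Hom.comp_apply, e1]
  rw [e2]
  have e3 : (pr₂ x).left (p x) = ρ.left ((h x).left (p x)) := by
    change (pullback.snd (V x).hom q.left) (p x) = _
    rw [← hhw x]
    rfl
  rw [e3, hp x]

set_option backward.isDefEq.respectTransparency false in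
/-- **Local lifts through an etale covering.**  For a first order thickening `q : W₀ ⟶ W` of schemes over `S`, a
representable etale surjective `α : A ⟶ Y` and `a₀ : h_{W₀} ⟶ Y`, there is an etale covering family `c k : VO k ⟶ W`
such that on the base changes `V₀ k = VO k ×_W W₀` the map `a₀` lifts to `A`. -/
theorem exists_local_lifts {A Y : Sp S} (α : A ⟶ Y) (hα1 : RepWith @Etale α)
    (hα2 : RepWith @Surjective α) {W₀ W : Over S} (q : W₀ ⟶ W)
    (hq : MoreMor.IsFirstOrderThickening q.left) (a₀ : (yon S).obj W₀ ⟶ Y) :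
    ∃ (κ : Type u) (VO V₀ : κ → Over S) (c : ∀ k, VO k ⟶ W) (pr₁ : ∀ k, V₀ k ⟶ VO k)
      (pr₂ : ∀ k, V₀ k ⟶ W₀) (μ : ∀ k, (yon S).obj (V₀ k) ⟶ A),
      (∀ k, Etale (c k).left) ∧ (∀ w : ↥W.left, ∃ k, w ∈ Set.range (c k).left) ∧
      (∀ k, MoreMor.IsFirstOrderThickening (pr₁ k).left) ∧
      (∀ k, IsPullback ((yon S).map (pr₂ k)) ((yon S).map (pr₁ k)) ((yon S).map q)
        ((yon S).map (c k))) ∧
      ∀ k, μ k ≫ α = (yon S).map (pr₂ k) ≫ a₀ := by
  obtain ⟨Q, ρ, ν, sqQ⟩ := hα1.1 a₀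
  have hρ1 : Etale ρ.left := hα1.2 _ _ ρ sqQ
  have hρ2 : Surjective ρ.left := hα2.2 _ _ ρ sqQ
  obtain ⟨VO, V₀, c, pr₁, pr₂, m, hc, hsurj, sqV, hm⟩ :=
    exists_etale_family_lift q hq.1.1 hq.1.2 ρ hρ1 hρ2
  refine ⟨_, VO, V₀, c, pr₁, pr₂, fun k => (yon S).map (m k) ≫ ν, hc, hsurj,
    fun k => isFirstOrderThickening_of_isPullback (sqV k) hq,
    fun k => Groth.Agent.Lib.AlgSpAffineSpace.isPullback_yon_of_left (sqV k).flip, fun k => ?_⟩
  rw [Category.assoc, sqQ.w, ← Category.assoc, ← Functor.map_comp, hm k]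

end KL

section EtaleDescent

variable {Z Y Z' Y' X : Sp S}

/-- The composite of an atlas of `Z` with a surjective etale morphism `Z ⟶ Y` is representable, etale, surjective. -/
theorem exists_cover_of_etale_surjective (hZ : IsAlgSpace Z) (hYa : IsAlgSpace Y) (e : Z ⟶ Y)
    (he : IsEtaleMor e) (hes : IsSurjectiveMor e) :
    ∃ (U : Over S) (u : (yon S).obj U ⟶ Z), RepWith @Etale (u ≫ e) ∧ RepWith @Surjective (u ≫ e) := by
  obtain ⟨U, u, hu1, hu2⟩ := hZ.atlas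
  refine ⟨U, u, he u hu1, ?_⟩
  refine Groth.Agent.Lib.AlgSpQC.repWith_surjective_of_isSurjectiveMor
    (hYa.representable_from_yon (u ≫ e)) ?_
  intro x
  obtain ⟨y, hy⟩ := hes x
  obtain ⟨w, hw⟩ := Groth.Agent.Lib.AlgSpQC.surjective_map_of_repWith_surjective hu2 y
  exact ⟨w, by rw [Points.map_comp, hw, hy]⟩

variable (hZ' : IsAlgSpace Z') (hY'a : IsAlgSpace Y') {U : Over S} (u : (yon S).obj U ⟶ Z)
  (e : Z ⟶ Y) (hα1 : RepWith @Etale (u ≫ e)) (hα2 : RepWith @Surjective (u ≫ e)) (hY : Y ⟶ X)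
  (iZ : Z ⟶ Z') (iY : Y ⟶ Y') (f' : Z' ⟶ Y') (hf' : IsEtaleMor f') (w : iZ ≫ f' = e ≫ iY)
  (hY' : Y' ⟶ X) (w' : iY ≫ hY' = hY) (HU : IsUnivFOThick (e ≫ hY) iZ (f' ≫ hY'))

include hZ' hY'a hα1 hα2 hf' w w' HU

set_option backward.isDefEq.respectTransparency false in
theorem core_unique {W₀ W : Over S} (q : W₀ ⟶ W) (hq : MoreMor.IsFirstOrderThickening q.left)
    (a₀ : (yon S).obj W₀ ⟶ Y) (y₁ y₂ : (yon S).obj W ⟶ Y')
    (h1 : (yon S).map q ≫ y₁ = a₀ ≫ iY) (h1' : (yon S).map q ≫ y₂ = a₀ ≫ iY)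
    (h2 : y₁ ≫ hY' = y₂ ≫ hY') : y₁ = y₂ := by
  have hfe : IsFormallyEtaleMor f' := isFormallyEtaleMor_of_isEtaleMor hZ' hY'a f' hf'
  obtain ⟨κ, VO, V₀, c, pr₁, pr₂, μ, hc, hsurj, hFO, sqV', hμ⟩ :=
    exists_local_lifts (u ≫ e) hα1 hα2 q hq a₀
  apply hom_ext_of_fppfCover VO c (fun k => haveI := hc k; inferInstance)
    (fun k => haveI := hc k; inferInstance) hsurj
  intro k
  have hζ : (μ k ≫ u) ≫ e = (yon S).map (pr₂ k) ≫ a₀ := by rw [Category.assoc, hμ k]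
  have hFO' : IsFOThickMor ((yon S).map (pr₁ k)) := isFOThickMor_yon_map _ (hFO k)
  have comm : ∀ y : (yon S).obj W ⟶ Y', (yon S).map q ≫ y = a₀ ≫ iY →
      ((μ k ≫ u) ≫ iZ) ≫ f' = (yon S).map (pr₁ k) ≫ (yon S).map (c k) ≫ y := by
    intro y hy
    calc ((μ k ≫ u) ≫ iZ) ≫ f' = ((μ k ≫ u) ≫ e) ≫ iY := by
          rw [Category.assoc, w, ← Category.assoc]
      _ = (yon S).map (pr₂ k) ≫ (yon S).map q ≫ y := by rw [hζ, Category.assoc, ← hy]
      _ = ((yon S).map (pr₂ k) ≫ (yon S).map q) ≫ y := by rw [Category.assoc]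
      _ = (yon S).map (pr₁ k) ≫ (yon S).map (c k) ≫ y := by rw [(sqV' k).w, Category.assoc]
  obtain ⟨ζ₁, ⟨h11, h12⟩, -⟩ := existsUnique_lift_of_isFormallyEtaleMor f' hfe
    (IsAlgSpace.yon_obj (VO k)) ((yon S).map (pr₁ k)) hFO' ((μ k ≫ u) ≫ iZ)
    ((yon S).map (c k) ≫ y₁) (comm y₁ h1)
  obtain ⟨ζ₂, ⟨h21, h22⟩, -⟩ := existsUnique_lift_of_isFormallyEtaleMor f' hfe
    (IsAlgSpace.yon_obj (VO k)) ((yon S).map (pr₁ k)) hFO' ((μ k ≫ u) ≫ iZ)
    ((yon S).map (c k) ≫ y₂) (comm y₂ h1')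
  have commHU : (yon S).map (pr₁ k) ≫ (yon S).map (c k) ≫ y₁ ≫ hY' = (μ k ≫ u) ≫ e ≫ hY := by
    symm
    calc (μ k ≫ u) ≫ e ≫ hY = ((μ k ≫ u) ≫ e) ≫ iY ≫ hY' := by simp only [Category.assoc, w']
      _ = (yon S).map (pr₂ k) ≫ (a₀ ≫ iY) ≫ hY' := by rw [hζ]; simp only [Category.assoc]
      _ = ((yon S).map (pr₂ k) ≫ (yon S).map q) ≫ y₁ ≫ hY' := by
          rw [← h1]; simp only [Category.assoc]
      _ = (yon S).map (pr₁ k) ≫ (yon S).map (c k) ≫ y₁ ≫ hY' := by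
          rw [(sqV' k).w, Category.assoc]
  have hu := HU.2.2 (IsAlgSpace.yon_obj (V₀ k)) (IsAlgSpace.yon_obj (VO k)) ((yon S).map (pr₁ k))
    (μ k ≫ u) ((yon S).map (c k) ≫ y₁ ≫ hY') hFO' commHU
  have e12 : ζ₁ = ζ₂ := by
    refine hu.unique ⟨h11, ?_⟩ ⟨h21, ?_⟩
    · rw [← Category.assoc, h12, Category.assoc]
    · rw [← Category.assoc, h22, Category.assoc, h2]
  rw [← h12, ← h22, e12]

set_option backward.isDefEq.respectTransparency false in
theorem core_exists {W₀ W : Over S} (q : W₀ ⟶ W) (hq : MoreMor.IsFirstOrderThickening q.left)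
    (a₀ : (yon S).obj W₀ ⟶ Y) (b₀ : (yon S).obj W ⟶ X) (comm : (yon S).map q ≫ b₀ = a₀ ≫ hY) :
    ∃ y : (yon S).obj W ⟶ Y', (yon S).map q ≫ y = a₀ ≫ iY ∧ y ≫ hY' = b₀ := by
  obtain ⟨κ, VO, V₀, c, pr₁, pr₂, μ, hc, hsurj, hFO, sqV', hμ⟩ :=
    exists_local_lifts (u ≫ e) hα1 hα2 q hq a₀
  have hloc : ∀ k, ∃ l : (yon S).obj (VO k) ⟶ Y',
      IsLiftOn hY' ((yon S).map q) (a₀ ≫ iY) b₀ ((yon S).map (c k)) l := by
    intro k
    have hζ : (μ k ≫ u) ≫ e = (yon S).map (pr₂ k) ≫ a₀ := by rw [Category.assoc, hμ k]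
    have hFO' : IsFOThickMor ((yon S).map (pr₁ k)) := isFOThickMor_yon_map _ (hFO k)
    have commHU : (yon S).map (pr₁ k) ≫ (yon S).map (c k) ≫ b₀ = (μ k ≫ u) ≫ e ≫ hY := by
      symm
      calc (μ k ≫ u) ≫ e ≫ hY = ((μ k ≫ u) ≫ e) ≫ hY := by simp only [Category.assoc]
        _ = ((yon S).map (pr₂ k) ≫ (yon S).map q) ≫ b₀ := by
            rw [hζ, Category.assoc, ← comm, Category.assoc]
        _ = (yon S).map (pr₁ k) ≫ (yon S).map (c k) ≫ b₀ := by rw [(sqV' k).w, Category.assoc]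
    obtain ⟨z', ⟨hz1, hz2⟩, -⟩ := HU.2.2 (IsAlgSpace.yon_obj (V₀ k)) (IsAlgSpace.yon_obj (VO k))
      ((yon S).map (pr₁ k)) (μ k ≫ u) ((yon S).map (c k) ≫ b₀) hFO' commHU
    refine ⟨z' ≫ f', (isLiftOn_iff_of_isPullback (sqV' k) _).2 ⟨?_, ?_⟩⟩
    · rw [← Category.assoc, hz1, Category.assoc, w, ← Category.assoc, hζ, Category.assoc]
    · rw [Category.assoc, hz2]
  choose l hl using hloc
  have huniq : ∀ (R : Over S) (g : R ⟶ W), Etale g.left → ∀ l l' : (yon S).obj R ⟶ Y',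
      IsLiftOn hY' ((yon S).map q) (a₀ ≫ iY) b₀ ((yon S).map g) l →
      IsLiftOn hY' ((yon S).map q) (a₀ ≫ iY) b₀ ((yon S).map g) l' → l = l' := by
    intro R g _ l l' hl hl'
    have sqR := IsPullback.of_hasPullback g q
    have sqR₀ : IsPullback (pullback.fst g q).left (pullback.snd g q).left g.left q.left :=
      sqR.map (Over.forget S)
    have hFOR : MoreMor.IsFirstOrderThickening (pullback.fst g q).left :=
      isFirstOrderThickening_of_isPullback sqR₀ hq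
    have sqR' := (sqR.map (yon S)).flip
    have e1 := (isLiftOn_iff_of_isPullback sqR' l).1 hl
    have e2 := (isLiftOn_iff_of_isPullback sqR' l').1 hl'
    refine core_unique hZ' hY'a u e hα1 hα2 hY iZ iY f' hf' w hY' w' HU (pullback.fst g q) hFOR
      ((yon S).map (pullback.snd g q) ≫ a₀) l l' ?_ ?_ (e1.2.trans e2.2.symm)
    · rw [Category.assoc]; exact e1.1
    · rw [Category.assoc]; exact e2.1
  exact exists_lift_of_etale_family hY' ((yon S).map q) (a₀ ≫ iY) b₀ VO c hc hsurj l hl huniq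

omit hα1 hα2 in
set_option backward.isDefEq.respectTransparency false in
/-- **Etale descent of universal first order thickenings** (S10633 at the level of sheaves). -/
theorem isUnivFOThick_of_etale_cover (hZ : IsAlgSpace Z) (hYa : IsAlgSpace Y)
    (he : IsEtaleMor e) (hes : IsSurjectiveMor e) (hiY : IsFOThickMor iY) :
    IsUnivFOThick hY iY hY' := by
  obtain ⟨U, u, hα1, hα2⟩ := exists_cover_of_etale_surjective hZ hYa e he hes
  refine ⟨hiY, w', ?_⟩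
  intro T T' _ hT' j a b hj hcomm
  refine existsUnique_lift_of_affine hY' hT' j hj.1 (a ≫ iY) b ?_
  intro W₀ W q g g₀ hW hg sq
  have hq : MoreMor.IsFirstOrderThickening q.left := ⟨hj.1.2 g g₀ q sq, hj.2 g g₀ q hW hg sq⟩
  obtain ⟨y, hy1, hy2⟩ := core_exists hZ' hY'a u e hα1 hα2 hY iZ iY f' hf' w hY' w' HU q hq
    (g₀ ≫ a) (g ≫ b) (by rw [← Category.assoc, ← sq.w, Category.assoc, hcomm, Category.assoc])
  refine ⟨y, ⟨by rw [hy1, Category.assoc], hy2⟩, ?_⟩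
  rintro y' ⟨hy'1, hy'2⟩
  exact core_unique hZ' hY'a u e hα1 hα2 hY iZ iY f' hf' w hY' w' HU q hq (g₀ ≫ a) y' y
    (by rw [hy'1, Category.assoc]) hy1 (hy'2.trans hy2.symm)

end EtaleDescent

end Groth.Agent.Lib.H86Formal6
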