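import Groth.Agent.Lib.H86Formal6

/-!
# helper86: arbitrary base change of first order thickenings of algebraic spaces; base change of universal first
order thickenings
-/

set_option autoImplicit false
set_option linter.style.haveILetI false
universe u
open CategoryTheory CategoryTheory.Limits AlgebraicGeometry Opposite

namespace Groth.Agent.Lib.H86Formal7
open AlgSp Groth.Agent.Lib.AlgSpBasic Groth.Agent.Lib.AlgSpLocP Groth.Agent.Lib.H86Formal
open Groth.Agent.Lib.H86Formal2 Groth.Agent.Lib.H86Formal3 Groth.Agent.Lib.H86Formal4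

variable {S : Scheme.{u}}

section SchemeLevel

variable {X Y : Scheme.{u}}

/-- A flat surjective morphism of schemes is injective on sections. -/
theorem app_injective_of_flat_surjective (p : X ⟶ Y) [Flat p] [Surjective p] (U : Y.Opens) :
    Function.Injective (p.app U).hom := by
  rw [injective_iff_map_eq_zero]
  intro s hs
  refine TopCat.Presheaf.section_ext Y.sheaf U s 0 ?_
  intro y hy
  obtain ⟨x, rfl⟩ := ‹Surjective p›.surj y
  have hinj : Function.Injective (p.stalkMap x).hom := by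
    algebraize [(p.stalkMap x).hom]
    have : Module.FaithfullyFlat (Y.presheaf.stalk (p x)) (X.presheaf.stalk x) :=
      @Module.FaithfullyFlat.of_flat_of_isLocalHom _ _ _ _ _ _ _
        (Flat.stalkMap p x) (p.toLRSHom.prop x)
    exact ‹RingHom.FaithfullyFlat _›.injective
  apply hinj
  have h1 := Scheme.Hom.germ_stalkMap_apply p U x hy s
  have h2 := Scheme.Hom.germ_stalkMap_apply p U x hy 0
  have h0 : (ConcreteCategory.hom (p.app U)) s = (ConcreteCategory.hom (p.app U)) 0 :=
    hs.trans (map_zero _).symm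
  have h3 := congrArg (ConcreteCategory.hom (X.presheaf.germ (p ⁻¹ᵁ U) x hy)) h0
  exact (h1.trans h3).trans h2.symm

/-- A flat surjective morphism of schemes has zero kernel ideal sheaf. -/
theorem ker_eq_bot_of_flat_surjective (p : X ⟶ Y) [Flat p] [Surjective p] : p.ker = ⊥ := by
  rw [← le_bot_iff]
  intro U
  refine (Scheme.Hom.ideal_ker_le p U).trans ?_
  intro x hx
  rw [RingHom.mem_ker] at hx
  have := app_injective_of_flat_surjective p U.1 (hx.trans (map_zero _).symm)
  simp [this]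

/-- Descent of nilpotency of the kernel of a closed immersion along a flat surjective base change. -/
theorem pow_ker_eq_bot_of_flat_surjective {V₀ V V₁ V₁₀ : Scheme.{u}} {s : V₀ ⟶ V} {p : V₁ ⟶ V}
    {s₁ : V₁₀ ⟶ V₁} {p₀ : V₁₀ ⟶ V₀} (sq : IsPullback s₁ p₀ p s) [IsClosedImmersion s] [Flat p]
    [Surjective p] (n : ℕ) (h : s₁.ker ^ n = ⊥) : s.ker ^ n = ⊥ := by
  have e : s₁ = sq.isoPullback.hom ≫ pullback.fst p s := by simp
  have h1 : s₁.ker = s.ker.comap p := by
    rw [e, Scheme.Hom.ker_comp_of_isIso, Scheme.IdealSheafData.ker_fst_of_isClosedImmersion]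
  have h2 : (s.ker ^ n).comap p = ⊥ := by
    rw [Groth.Agent.Lib.IdealSheafComap.comap_pow, ← h1, h]
  have h3 : s.ker ^ n ≤ ((s.ker ^ n).comap p).map p := Scheme.IdealSheafData.le_map_comap _ _
  rw [h2, Scheme.IdealSheafData.map_bot, ker_eq_bot_of_flat_surjective p] at h3
  exact le_bot_iff.1 h3

end SchemeLevel

section BaseChange

set_option backward.isDefEq.respectTransparency false in
/-- For a first order thickening `i : W ⟶ W'` of algebraic spaces, the pullback along ANY morphism from a scheme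
has square zero kernel. -/
theorem sqZero_of_isPullback_of_isFOThickMor {W W' : Sp S} (hW' : IsAlgSpace W') {i : W ⟶ W'}
    (hi : IsFOThickMor i) {V V₀ : Over S} (γ : (yon S).obj V ⟶ W') (γ₀ : (yon S).obj V₀ ⟶ W)
    (s : V₀ ⟶ V) (sq : IsPullback γ₀ ((yon S).map s) i γ) : s.left.ker * s.left.ker = ⊥ := by
  obtain ⟨V'', c, hce, hcs⟩ := hW'.atlas
  obtain ⟨V₁, p, γ₁', sq1⟩ := hce.1 γ
  obtain ⟨γ₁, rfl⟩ := (yon S).map_surjective γ₁'
  haveI hpe : Etale p.left := hce.2 γ _ p sq1
  haveI hps : Surjective p.left := hcs.2 γ _ p sq1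
  obtain ⟨V''₀, s'', c₀, sq2⟩ := hi.1.1 c
  have hthick'' : MoreMor.IsThickening s''.left := hi.1.2 c c₀ s'' sq2
  have hpow'' : s''.left.ker ^ (1 + 1) = ⊥ :=
    Groth.Agent.Lib.H86Deform.pow_ker_eq_bot_of_isNThickMor ((isNThickMor_one_iff i).2 hi) c hce c₀ s'' sq2
  have hFO'' : MoreMor.IsFirstOrderThickening s''.left := ⟨hthick'', by rw [← pow_two]; exact hpow''⟩
  have hs : MoreMor.IsThickening s.left := hi.1.2 γ γ₀ s sq
  haveI : IsClosedImmersion s.left := hs.1
  -- the pullback of `s` along `p`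
  have sqR := IsPullback.of_hasPullback s p
  have sqR₀ : IsPullback (pullback.snd s p).left (pullback.fst s p).left p.left s.left :=
    (sqR.map (Over.forget S)).flip
  have sqR' : IsPullback ((yon S).map (pullback.fst s p)) ((yon S).map (pullback.snd s p))
      ((yon S).map s) ((yon S).map p) := sqR.map (yon S)
  have big : IsPullback ((yon S).map (pullback.fst s p) ≫ γ₀) ((yon S).map (pullback.snd s p)) i
      ((yon S).map p ≫ γ) := sqR'.paste_horiz sq
  rw [← sq1.w] at big
  have hcomm : ((yon S).map (pullback.fst s p) ≫ γ₀) ≫ i =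
      ((yon S).map (pullback.snd s p) ≫ (yon S).map γ₁) ≫ c := by
    rw [big.w, Category.assoc]
  obtain ⟨ρ, hρ⟩ := (yon S).map_surjective
    (sq2.lift ((yon S).map (pullback.fst s p) ≫ γ₀)
      ((yon S).map (pullback.snd s p) ≫ (yon S).map γ₁) hcomm)
  have hρ1 : (yon S).map ρ ≫ c₀ = (yon S).map (pullback.fst s p) ≫ γ₀ := by
    rw [hρ]; exact sq2.lift_fst _ _ _
  have hρ2 : (yon S).map ρ ≫ (yon S).map s'' =
      (yon S).map (pullback.snd s p) ≫ (yon S).map γ₁ := by
    rw [hρ]; exact sq2.lift_snd _ _ _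
  rw [← hρ1] at big
  have left : IsPullback ((yon S).map ρ) ((yon S).map (pullback.snd s p)) ((yon S).map s'')
      ((yon S).map γ₁) := IsPullback.of_right big hρ2 sq2
  have left₀ : IsPullback ρ.left (pullback.snd s p).left s''.left γ₁.left :=
    Groth.Agent.Lib.H86Thick.isPullback_left_of_yon left
  have hFO₁ : MoreMor.IsFirstOrderThickening (pullback.snd s p).left :=
    isFirstOrderThickening_of_isPullback left₀.flip hFO''
  have h2 : (pullback.snd s p).left.ker ^ 2 = ⊥ := by rw [pow_two]; exact hFO₁.2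
  have := pow_ker_eq_bot_of_flat_surjective sqR₀ 2 h2
  rw [← pow_two]
  exact this

/-- **Arbitrary base change of a first order thickening of algebraic spaces.** -/
theorem isFOThickMor_of_isPullback_general {W W' Z P : Sp S} (hW' : IsAlgSpace W') {iW : W ⟶ W'}
    (hi : IsFOThickMor iW) {iZ : Z ⟶ P} {f : Z ⟶ W} {pW : P ⟶ W'}
    (sq : IsPullback iZ f pW iW) : IsFOThickMor iZ := by
  refine ⟨repWith_fst_of_isPullback _ sq hi.1, ?_⟩
  intro V V₀ b fst snd _ _ sq'
  exact sqZero_of_isPullback_of_isFOThickMor hW' hi (b ≫ pW) (fst ≫ f) snd (sq'.paste_horiz sq.flip)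

/-- **Base change of a universal first order thickening** (S10637 at the level of sheaves). -/
theorem isUnivFOThick_baseChange {Z X W Y W' P : Sp S} (hW' : IsAlgSpace W') (h : Z ⟶ X)
    (f : Z ⟶ W) (g : X ⟶ Y) (h' : W ⟶ Y) (sq : IsPullback h f g h') (iW : W ⟶ W') (hW'm : W' ⟶ Y)
    (HU : IsUnivFOThick h' iW hW'm) (pX : P ⟶ X) (pW : P ⟶ W')
    (sq' : IsPullback pX pW g hW'm) (iZ : Z ⟶ P) (w1 : iZ ≫ pX = h) (w2 : iZ ≫ pW = f ≫ iW) :
    IsUnivFOThick h iZ pX := by
  have sqL : IsPullback iZ f pW iW := by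
    refine IsPullback.of_right ?_ w2 sq'
    rw [w1, HU.2.1]
    exact sq
  refine ⟨isFOThickMor_of_isPullback_general hW' HU.1 sqL, w1, ?_⟩
  intro T T' hT hT' j a b hj hcomm
  obtain ⟨w', ⟨hw1, hw2⟩, hwu⟩ := HU.2.2 hT hT' j (a ≫ f) (b ≫ g) hj (by
    rw [← Category.assoc, hcomm, Category.assoc, sq.w, Category.assoc])
  refine ⟨sq'.lift b w' hw2.symm, ⟨?_, sq'.lift_fst _ _ _⟩, ?_⟩
  · apply sq'.hom_ext
    · rw [Category.assoc, sq'.lift_fst, Category.assoc, w1, hcomm]
    · rw [Category.assoc, sq'.lift_snd, Category.assoc, w2, hw1, Category.assoc]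
  · rintro a'' ⟨h1, h2⟩
    have : a'' ≫ pW = w' := hwu _ ⟨by rw [← Category.assoc, h1, Category.assoc, w2, Category.assoc],
      by rw [Category.assoc, ← sq'.w, ← Category.assoc, h2]⟩
    apply sq'.hom_ext
    · rw [h2, sq'.lift_fst]
    · rw [this, sq'.lift_snd]

end BaseChange

end Groth.Agent.Lib.H86Formal7
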