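import Groth.Agent.Lib.EffDescGlueSubmH52
import Groth.Agent.S9436

/-!
# Étale schemes lift along thickenings (helper52)

* `exists_etale_isPushout`: ring level — `φ : A ⟶ A₀` surjective, `ψ : A₀ ⟶ C` étale; then there are
  `α : A ⟶ B` étale and `β : B ⟶ C` with `IsPushout φ α ψ β` (from S9436).
* `exists_etale_isPullback_of_isAffine`: `i : S₀ ⟶ S` closed immersion, `S` affine, `V₁` affine and
  étale over `S₀`; then `V₁ = S₀ ×_S U₁` for some `U₁` étale over `S`.
* `monoDD i V`: the (unique) descent datum on `V : Over S₀` relative to a monomorphism `i`.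
* `univSubmersive_of_isClosedImmersion_of_surjective`: thickenings are universally submersive.
* `exists_etale_iso_monoDD`: **topological invariance of the étale site, essential surjectivity**:
  for a thickening `i : S₀ ⟶ S` (surjective closed immersion) every étale `V` over `S₀` is
  `S₀ ×_S U` for an étale `U` over `S` (no finiteness, separatedness or quasi-compactness).
-/

set_option autoImplicit false
set_option linter.style.haveILetI false
set_option backward.isDefEq.respectTransparency false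
set_option backward.isDefEq.respectTransparency.types false

universe u

open CategoryTheory CategoryTheory.Limits AlgebraicGeometry Opposite TensorProduct

namespace Groth.Agent.Lib.ThickeningEtH52

open Desc Groth.Agent.Lib.EffDescH52 Groth.Agent.Lib.SubmDescH52

section Ring

/-- Étale algebras lift along surjections, pushout form. -/
theorem exists_etale_isPushout {A A₀ C : CommRingCat.{u}} (φ : A ⟶ A₀)
    (hφ : Function.Surjective φ.hom) (ψ : A₀ ⟶ C) (hψ : ψ.hom.Etale) :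
    ∃ (B : CommRingCat.{u}) (α : A ⟶ B) (β : B ⟶ C), α.hom.Etale ∧ IsPushout φ α ψ β := by
  let I : Ideal A := RingHom.ker φ.hom
  let κ : (A ⧸ I) ≃+* A₀ := RingHom.quotientKerEquivOfSurjective hφ
  have hκ : ∀ a : A, κ (Ideal.Quotient.mk I a) = φ.hom a := fun a =>
    RingHom.quotientKerEquivOfSurjective_apply_mk hφ a
  let χ : (A ⧸ I) →+* C := ψ.hom.comp κ.toRingHom
  have hχ : χ.Etale :=
    RingHom.Etale.stableUnderComposition _ _ (RingHom.Etale.of_bijective κ.bijective) hψ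
  letI : Algebra (A ⧸ I) C := χ.toAlgebra
  haveI : Algebra.Etale (A ⧸ I) C := hχ
  obtain ⟨S, _, _, hét, ⟨e⟩⟩ := Groth.Agent.S9436.result A I C
  let α : A ⟶ CommRingCat.of S := CommRingCat.ofHom (algebraMap A S)
  let β : CommRingCat.of S ⟶ C := CommRingCat.ofHom
    (e.toRingEquiv.toRingHom.comp
      (Algebra.TensorProduct.includeRight : S →ₐ[A] (A ⧸ I) ⊗[A] S).toRingHom)
  refine ⟨CommRingCat.of S, α, β, RingHom.etale_algebraMap.2 hét, ?_⟩
  have h0 := CommRingCat.isPushout_tensorProduct A (A ⧸ I) S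
  refine h0.of_iso (Iso.refl _) κ.toCommRingCatIso (Iso.refl _) e.toRingEquiv.toCommRingCatIso
    ?_ ?_ ?_ ?_
  · ext a
    exact hκ a
  · rfl
  · ext x
    change e (x ⊗ₜ[A] (1 : S)) = ψ.hom (κ x)
    have := e.commutes x
    rw [Algebra.TensorProduct.algebraMap_apply] at this
    exact this
  · rfl

end Ring

section Affine

/-- **Local lifting of étale schemes along a closed immersion.** -/
theorem exists_etale_isPullback_of_isAffine {S S₀ V₁ : Scheme.{u}} (i : S₀ ⟶ S)
    [IsClosedImmersion i] [IsAffine S] [IsAffine V₁] (π₁ : V₁ ⟶ S₀) [Etale π₁] :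
    ∃ (U₁ : Scheme.{u}) (t : U₁ ⟶ S) (b : V₁ ⟶ U₁), Etale t ∧ IsPullback π₁ b i t := by
  obtain ⟨hS₀, hsurj⟩ := IsClosedImmersion.isAffine_surjective_of_isAffine i
  haveI : IsAffine S₀ := hS₀
  have hψ : π₁.appTop.hom.Etale :=
    (HasRingHomProperty.iff_of_isAffine (P := @Etale) (f := π₁)).1 inferInstance
  obtain ⟨B, α, β, hα, hpo⟩ := exists_etale_isPushout i.appTop hsurj π₁.appTop hψ
  have h0 : IsPullback (Spec.map π₁.appTop) (Spec.map β) (Spec.map i.appTop) (Spec.map α) :=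
    isPullback_SpecMap_of_isPushout _ _ _ _ hpo
  haveI : Etale (Spec.map α) := (HasRingHomProperty.Spec_iff (P := @Etale)).2 hα
  refine ⟨Spec B, Spec.map α ≫ S.isoSpec.inv, V₁.isoSpec.hom ≫ Spec.map β, inferInstance, ?_⟩
  refine h0.of_iso V₁.isoSpec.symm S₀.isoSpec.symm (Iso.refl _) S.isoSpec.symm ?_ ?_ ?_ ?_
  · exact Scheme.isoSpec_inv_naturality π₁
  · simp
  · exact Scheme.isoSpec_inv_naturality i
  · simp

end Affine

section MonoDD

variable {S S₀ : Scheme.{u}} (i : S₀ ⟶ S) [Mono i]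

/-- The unique descent datum on a scheme over `S₀` relative to a monomorphism `i : S₀ ⟶ S`. -/
noncomputable def monoDD (V : Over S₀) : SchDD i where
  obj := V
  φ := fun _ _ _ h =>
    { toFun := fun v => ⟨v.1, v.2.trans ((cancel_mono i).1 h)⟩
      invFun := fun v => ⟨v.1, v.2.trans ((cancel_mono i).1 h).symm⟩
      left_inv := fun _ => rfl
      right_inv := fun _ => rfl }
  φ_natural := fun _ _ _ _ _ _ _ _ _ hv => hv
  φ_self := fun _ _ _ => rfl
  φ_comp := fun _ _ _ _ _ _ _ => rfl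

@[simp] theorem monoDD_obj (V : Over S₀) : (monoDD i V).obj = V := rfl

theorem monoDD_φ_val (V : Over S₀) {T : Scheme.{u}} (x₀ x₁ : T ⟶ S₀) (h : x₀ ≫ i = x₁ ≫ i)
    (v : Lifts V x₀) : ((monoDD i V).φ x₀ x₁ h v).1 = v.1 := rfl

/-- A section of `monoDD i V` over `t : T ⟶ S` is just an `S₀`-morphism `S₀ ×_S T ⟶ V`. -/
noncomputable def monoSec (V : Over S₀) {T : Scheme.{u}} (t : T ⟶ S) (m : pullback i t ⟶ V.left)
    (hm : m ≫ V.hom = pullback.fst i t) : Sec (monoDD i V) T :=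
  Sec.mk' t m hm (fun Z x₀ x₁ y h₀ h₁ => by
    have e : x₀ = x₁ := (cancel_mono i).1 (h₀.trans h₁.symm)
    subst e
    rfl)

@[simp] theorem monoSec_t (V : Over S₀) {T : Scheme.{u}} (t : T ⟶ S) (m : pullback i t ⟶ V.left)
    (hm : m ≫ V.hom = pullback.fst i t) : (monoSec i V t m hm).t = t := rfl

@[simp] theorem monoSec_map (V : Over S₀) {T : Scheme.{u}} (t : T ⟶ S)
    (m : pullback i t ⟶ V.left) (hm : m ≫ V.hom = pullback.fst i t) :
    (monoSec i V t m hm).map = m := rfl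

end MonoDD

section Thickening

variable {S S₀ : Scheme.{u}} (i : S₀ ⟶ S) [IsClosedImmersion i]

/-- A surjective closed immersion is universally submersive. -/
theorem univSubmersive_of_isClosedImmersion_of_surjective [Surjective i] :
    SGA1.UnivSubmersive i := by
  intro X' Y' i₁ i₂ f' h
  haveI : IsClosedImmersion f' := MorphismProperty.of_isPullback (P := @IsClosedImmersion) h.flip
    inferInstance
  haveI : Surjective f' := MorphismProperty.of_isPullback (P := @Surjective) h.flip inferInstance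
  exact (f'.isClosedEmbedding.isClosedMap).isQuotientMap f'.continuous f'.surjective

/-- Every point of an étale `S₀`-scheme has an open neighbourhood which lifts to an étale
`S`-scheme. -/
theorem exists_monoSec_nbhd (V : Over S₀) [Etale V.hom] (v : V.left) :
    ∃ (U₁ : Scheme.{u}) (ζ : Sec (monoDD i V) U₁), Etale ζ.t ∧ IsOpenImmersion ζ.map ∧
      v ∈ Set.range ζ.map := by
  -- affine opens
  obtain ⟨W, hW, hsW⟩ : ∃ W : S.Opens, IsAffineOpen W ∧ i (V.hom v) ∈ W := by
    obtain ⟨_, ⟨W, hW, rfl⟩, hsW, -⟩ :=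
      (AlgebraicGeometry.Scheme.isBasis_affineOpens S).exists_subset_of_mem_open
        (Set.mem_univ (i (V.hom v))) isOpen_univ
    exact ⟨W, hW, hsW⟩
  have hvW : v ∈ V.hom ⁻¹ᵁ (i ⁻¹ᵁ W) := hsW
  obtain ⟨V₁, hV₁, hvV₁, hle⟩ : ∃ V₁ : V.left.Opens, IsAffineOpen V₁ ∧ v ∈ V₁ ∧
      V₁ ≤ V.hom ⁻¹ᵁ (i ⁻¹ᵁ W) := by
    obtain ⟨_, ⟨V₁, hV₁, rfl⟩, hvV₁, hV₁W⟩ :=
      (AlgebraicGeometry.Scheme.isBasis_affineOpens V.left).exists_subset_of_mem_open
        hvW (V.hom ⁻¹ᵁ (i ⁻¹ᵁ W)).2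
    exact ⟨V₁, hV₁, hvV₁, hV₁W⟩
  haveI : IsAffine (W : Scheme.{u}) := hW
  haveI : IsAffine (V₁ : Scheme.{u}) := hV₁
  let π₁ : (V₁ : Scheme.{u}) ⟶ (i ⁻¹ᵁ W : Scheme.{u}) := V.hom.resLE (i ⁻¹ᵁ W) V₁ hle
  haveI : Etale π₁ := by
    dsimp only [π₁]
    infer_instance
  obtain ⟨U₁, t', b, ht', hpb⟩ := exists_etale_isPullback_of_isAffine (i ∣_ W) π₁
  -- paste with the restriction square
  have hpb2 : IsPullback (π₁ ≫ (i ⁻¹ᵁ W).ι) b i (t' ≫ W.ι) :=
    hpb.paste_horiz (isPullback_morphismRestrict i W).flip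
  have hπ₁ : π₁ ≫ (i ⁻¹ᵁ W).ι = V₁.ι ≫ V.hom := Scheme.Hom.resLE_comp_ι _ _
  rw [hπ₁] at hpb2
  let t : U₁ ⟶ S := t' ≫ W.ι
  let m : pullback i t ⟶ V.left := hpb2.isoPullback.inv ≫ V₁.ι
  have hm : m ≫ V.hom = pullback.fst i t := by
    dsimp only [m]
    rw [Category.assoc]
    exact hpb2.isoPullback_inv_fst
  refine ⟨U₁, monoSec i V t m hm, ?_, ?_, ?_⟩
  · change Etale (t' ≫ W.ι)
    infer_instance
  · change IsOpenImmersion (hpb2.isoPullback.inv ≫ V₁.ι)
    infer_instance
  · refine ⟨hpb2.isoPullback.hom ⟨v, hvV₁⟩, ?_⟩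
    change (hpb2.isoPullback.inv ≫ V₁.ι) (hpb2.isoPullback.hom ⟨v, hvV₁⟩) = v
    rw [← Scheme.Hom.comp_apply, Iso.hom_inv_id_assoc]
    rfl

/-- **Topological invariance of the étale site (essential surjectivity).** For a thickening
`i : S₀ ⟶ S`, every étale `S₀`-scheme is the base change of an étale `S`-scheme. -/
theorem exists_etale_iso_monoDD [Surjective i] (V : Over S₀) [Etale V.hom] :
    ∃ U : Over S, Etale U.hom ∧ Nonempty ((toDD i).obj U ≅ monoDD i V) := by
  have hp := univSubmersive_of_isClosedImmersion_of_surjective i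
  choose U₁ ζ hét hopen hmem using exists_monoSec_nbhd i V
  haveI : ∀ v, IsOpenImmersion (ζ v).map := hopen
  haveI : ∀ v, Etale (ζ v).t := hét
  exact Subm.exists_iso_of_openCover hp ζ (fun v => ⟨v, hmem v⟩)

/-- Scheme form: `V ≅ S₀ ×_S U` over `S₀`. -/
theorem exists_etale_pullback_iso [Surjective i] {V : Scheme.{u}} (π : V ⟶ S₀) [Etale π] :
    ∃ (U : Scheme.{u}) (t : U ⟶ S) (_ : Etale t) (e : pullback t i ≅ V),
      e.hom ≫ π = pullback.snd t i := by
  haveI : Etale (Over.mk π).hom := inferInstanceAs (Etale π)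
  obtain ⟨U, hU, ⟨e⟩⟩ := exists_etale_iso_monoDD i (Over.mk π)
  haveI : IsIso e.hom.hom.left := isIso_left_of_isIso e.hom
  refine ⟨U.left, U.hom, hU, pullbackSymmetry _ _ ≪≫ asIso e.hom.hom.left, ?_⟩
  have h1 : e.hom.hom.left ≫ π = pullback.fst i U.hom := Over.w e.hom.hom
  simp only [Iso.trans_hom, asIso_hom, Category.assoc, h1]
  exact pullbackSymmetry_hom_comp_fst _ _

end Thickening

end Groth.Agent.Lib.ThickeningEtH52
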