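import Groth.Agent.Lib.H86Formal6
import Groth.Agent.Lib.ThickeningEtH52
import Groth.Agent.S10554

/-!
# helper86: etale localization of universal first order thickenings of algebraic spaces (S10638)
-/

set_option autoImplicit false
set_option linter.style.haveILetI false
universe u
open CategoryTheory CategoryTheory.Limits AlgebraicGeometry Opposite

namespace Groth.Agent.Lib.H86Formal9
open AlgSp Groth.Agent.Lib.AlgSpBasic Groth.Agent.Lib.AlgSpLocP Groth.Agent.Lib.H86Formal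
open Groth.Agent.Lib.H86Formal2 Groth.Agent.Lib.H86Formal3 Groth.Agent.Lib.H86Formal4
open Groth.Agent.Lib.H86Formal5 Groth.Agent.Lib.H90AlgSpInf

variable {S : Scheme.{u}}

/-- **Global etale lift along a thickening (over `S`).**  For a surjective closed immersion `q : W₀ ⟶ W` over `S` and an
etale `r : R ⟶ W₀` there is an etale `c : R' ⟶ W` with `R = R' ×_W W₀`. -/
theorem exists_etale_lift_over {W₀ W R : Over S} (q : W₀ ⟶ W) (hq1 : IsClosedImmersion q.left)
    (hq2 : Surjective q.left) (r : R ⟶ W₀) (hr : Etale r.left) :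
    ∃ (R' : Over S) (c : R' ⟶ W) (j : R ⟶ R'), Etale c.left ∧
      IsPullback j.left r.left c.left q.left := by
  haveI := hq1
  haveI := hq2
  haveI := hr
  obtain ⟨U, t, ht, e, he⟩ :=
    Groth.Agent.Lib.ThickeningEtH52.exists_etale_pullback_iso q.left r.left
  have hw : (e.inv ≫ pullback.fst t q.left) ≫ t ≫ W.hom = R.hom := by
    have h1 : pullback.fst t q.left ≫ t ≫ W.hom = pullback.snd t q.left ≫ W₀.hom := by
      rw [← Category.assoc, pullback.condition, Category.assoc, Over.w q]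
    rw [Category.assoc, h1, ← he, Category.assoc, ← Category.assoc, e.inv_hom_id, Category.id_comp,
      Over.w r]
  refine ⟨Over.mk (t ≫ W.hom), Over.homMk t rfl, Over.homMk (e.inv ≫ pullback.fst t q.left) hw,
    ht, ?_⟩
  refine IsPullback.of_iso_pullback ⟨?_⟩ e.symm ?_ ?_
  · change (e.inv ≫ pullback.fst t q.left) ≫ t = r.left ≫ q.left
    rw [Category.assoc, pullback.condition, ← he, Category.assoc, ← Category.assoc e.inv,
      e.inv_hom_id, Category.id_comp]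
  · rfl
  · change e.inv ≫ pullback.snd t q.left = r.left
    rw [← he, ← Category.assoc, e.inv_hom_id, Category.id_comp]

set_option backward.isDefEq.respectTransparency false in
/-- A representable etale morphism is etale. -/
theorem isEtaleMor_of_repWith_etale {F G : Sp S} {a : F ⟶ G} (ha : RepWith @Etale a) :
    IsEtaleMor a :=
  fun _ _ hφ => MorphismProperty.comp_mem _ _ _ hφ ha

theorem isEtaleMor_comp {F G H : Sp S} {a : F ⟶ G} {b : G ⟶ H} (ha : IsEtaleMor a)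
    (hb : IsEtaleMor b) : IsEtaleMor (a ≫ b) := by
  intro U φ hφ
  rw [← Category.assoc]
  exact hb _ (ha φ hφ)

set_option backward.isDefEq.respectTransparency false in
/-- An etale atlas of a universal first order thickening restricts to a universal first order thickening of
schemes. -/
theorem exists_chart_univFOThick {Z Z' X : Sp S} (hZ' : IsAlgSpace Z') (h : Z ⟶ X) (iZ : Z ⟶ Z')
    (hZ'm : Z' ⟶ X) (HZ : IsUnivFOThick h iZ hZ'm) :
    ∃ (A A' : Over S) (a' : (yon S).obj A' ⟶ Z') (qA : A ⟶ A') (νA : (yon S).obj A ⟶ Z),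
      RepWith @Etale a' ∧ RepWith @Surjective a' ∧ IsPullback νA ((yon S).map qA) iZ a' ∧
      IsClosedImmersion qA.left ∧ Surjective qA.left ∧
      IsUnivFOThick (νA ≫ h) ((yon S).map qA) (a' ≫ hZ'm) := by
  obtain ⟨A', a', ha1, ha2⟩ := hZ'.atlas
  obtain ⟨A, qA, νA, sq⟩ := HZ.1.1.1 a'
  have hth : thick qA.left := HZ.1.1.2 a' νA qA sq
  refine ⟨A, A', a', qA, νA, ha1, ha2, sq, hth.1, hth.2, ?_⟩
  exact isUnivFOThick_etale_baseChange (IsAlgSpace.yon_obj A') hZ' νA h iZ hZ'm HZ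
    ((yon S).map qA) a' (isEtaleMor_of_repWith_etale ha1) sq

set_option backward.isDefEq.respectTransparency false in
/-- **Etale localization of universal first order thickenings.**  If `(Z ⊂ Z')` is the universal first order
thickening of `h : Z ⟶ X`, `v : V ⟶ Z` is etale and `(V ⊂ V')` is the universal first order thickening of
`v ≫ h`, then the canonical map `V' ⟶ Z'` is etale. -/
theorem isEtaleMor_of_isUnivFOThick {Z Z' V V' X : Sp S} (hZ'a : IsAlgSpace Z')
    (hV'a : IsAlgSpace V') (h : Z ⟶ X) (iZ : Z ⟶ Z') (hZ' : Z' ⟶ X)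
    (HZ : IsUnivFOThick h iZ hZ') (v : V ⟶ Z) (hv : IsEtaleMor v) (iV : V ⟶ V') (hV' : V' ⟶ X)
    (HV : IsUnivFOThick (v ≫ h) iV hV') (e' : V' ⟶ Z') (h1 : iV ≫ e' = v ≫ iZ)
    (h2 : e' ≫ hZ' = hV') : IsEtaleMor e' := by
  obtain ⟨A, A', a', qA, νA, ha1, ha2, sqA, hqA1, hqA2, HA⟩ :=
    exists_chart_univFOThick hZ'a h iZ hZ' HZ
  obtain ⟨B, B', b', qB, νB, hb1, hb2, sqB, hqB1, hqB2, HB⟩ :=
    exists_chart_univFOThick hV'a (v ≫ h) iV hV' HV
  -- the base changes of the atlases are etale surjective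
  have hνA1 : RepWith @Etale νA := repWith_fst_of_isPullback _ sqA ha1
  have hνA2 : RepWith @Surjective νA := repWith_fst_of_isPullback _ sqA ha2
  have hνB1 : RepWith @Etale νB := repWith_fst_of_isPullback _ sqB hb1
  have hνBv : RepWith @Etale (νB ≫ v) := hv νB hνB1
  -- the scheme `R = B ×_Z A`
  obtain ⟨R, rB, ρA, sqR⟩ := hνA1.1 (νB ≫ v)
  have hrB1 : Etale rB.left := hνA1.2 _ _ rB sqR
  have hrB2 : Surjective rB.left := hνA2.2 _ _ rB sqR
  obtain ⟨rA, rfl⟩ := (yon S).map_surjective ρA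
  have hrA1 : Etale rA.left := hνBv.2 _ _ rA sqR.flip
  -- etale lifts of `R` over `B'` and over `A'`
  obtain ⟨R₁, cB, jB, hcB, sq₁⟩ := exists_etale_lift_over qB hqB1 hqB2 rB hrB1
  obtain ⟨R₂, cA, jA, hcA, sq₂⟩ := exists_etale_lift_over qA hqA1 hqA2 rA hrA1
  have sq₁' : IsPullback ((yon S).map rB) ((yon S).map jB) ((yon S).map qB) ((yon S).map cB) :=
    Groth.Agent.Lib.AlgSpAffineSpace.isPullback_yon_of_left sq₁.flip
  have sq₂' : IsPullback ((yon S).map rA) ((yon S).map jA) ((yon S).map qA) ((yon S).map cA) :=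
    Groth.Agent.Lib.AlgSpAffineSpace.isPullback_yon_of_left sq₂.flip
  have hcBe : IsEtaleMor ((yon S).map cB) := (isEtaleMor_yon_map_iff cB).2 hcB
  have hcAe : IsEtaleMor ((yon S).map cA) := (isEtaleMor_yon_map_iff cA).2 hcA
  have HR₁ := isUnivFOThick_etale_baseChange (IsAlgSpace.yon_obj R₁) (IsAlgSpace.yon_obj B')
    ((yon S).map rB) (νB ≫ v ≫ h) ((yon S).map qB) (b' ≫ hV') HB ((yon S).map jB)
    ((yon S).map cB) hcBe sq₁'
  have HR₂ := isUnivFOThick_etale_baseChange (IsAlgSpace.yon_obj R₂) (IsAlgSpace.yon_obj A')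
    ((yon S).map rA) (νA ≫ h) ((yon S).map qA) (a' ≫ hZ') HA ((yon S).map jA)
    ((yon S).map cA) hcAe sq₂'
  -- the two structure maps `R ⟶ X` agree
  have hstr : (yon S).map rA ≫ νA ≫ h = (yon S).map rB ≫ νB ≫ v ≫ h := by
    rw [← Category.assoc, sqR.w, Category.assoc, Category.assoc]
  -- comparison maps
  have hR : IsAlgSpace ((yon S).obj R) := IsAlgSpace.yon_obj R
  have hR₁ : IsAlgSpace ((yon S).obj R₁) := IsAlgSpace.yon_obj R₁
  have hR₂ : IsAlgSpace ((yon S).obj R₂) := IsAlgSpace.yon_obj R₂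
  obtain ⟨θ, ⟨hθ1, hθ2⟩, -⟩ := HR₂.2.2 hR hR₁ ((yon S).map jB) (𝟙 _)
    ((yon S).map cB ≫ b' ≫ hV') HR₁.1 (by rw [HR₁.2.1, Category.id_comp, hstr])
  obtain ⟨θ', ⟨hθ'1, hθ'2⟩, -⟩ := HR₁.2.2 hR hR₂ ((yon S).map jA) (𝟙 _)
    ((yon S).map cA ≫ a' ≫ hZ') HR₂.1 (by rw [HR₂.2.1, Category.id_comp, hstr])
  rw [Category.id_comp] at hθ1 hθ'1
  have hθθ' : θ ≫ θ' = 𝟙 _ := by
    obtain ⟨x, -, hx⟩ := HR₁.2.2 hR hR₁ ((yon S).map jB) (𝟙 _)
      ((yon S).map cB ≫ b' ≫ hV') HR₁.1 (by rw [HR₁.2.1, Category.id_comp])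
    rw [hx (θ ≫ θ') ⟨by rw [← Category.assoc, hθ1, hθ'1, Category.id_comp],
      by rw [Category.assoc, hθ'2, hθ2]⟩,
      hx (𝟙 _) ⟨by rw [Category.comp_id, Category.id_comp], by rw [Category.id_comp]⟩]
  have hθ'θ : θ' ≫ θ = 𝟙 _ := by
    obtain ⟨x, -, hx⟩ := HR₂.2.2 hR hR₂ ((yon S).map jA) (𝟙 _)
      ((yon S).map cA ≫ a' ≫ hZ') HR₂.1 (by rw [HR₂.2.1, Category.id_comp])
    rw [hx (θ' ≫ θ) ⟨by rw [← Category.assoc, hθ'1, hθ1, Category.id_comp],
      by rw [Category.assoc, hθ2, hθ'2]⟩,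
      hx (𝟙 _) ⟨by rw [Category.comp_id, Category.id_comp], by rw [Category.id_comp]⟩]
  -- `θ` is etale
  have hθe : IsEtaleMor θ := by
    obtain ⟨ϑ, rfl⟩ := (yon S).map_surjective θ
    obtain ⟨ϑ', rfl⟩ := (yon S).map_surjective θ'
    rw [isEtaleMor_yon_map_iff]
    have e1 : ϑ ≫ ϑ' = 𝟙 _ := (yon S).map_injective (by rw [Functor.map_comp, hθθ', (yon S).map_id])
    have e2 : ϑ' ≫ ϑ = 𝟙 _ := (yon S).map_injective (by rw [Functor.map_comp, hθ'θ, (yon S).map_id])
    haveI : IsIso ϑ := ⟨ϑ', e1, e2⟩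
    haveI : IsIso ϑ.left := inferInstance
    infer_instance
  -- the key identity
  have key : ((yon S).map cB ≫ b') ≫ e' = θ ≫ (yon S).map cA ≫ a' := by
    obtain ⟨x, -, hx⟩ := HZ.2.2 hR hR₁ ((yon S).map jB) ((yon S).map rB ≫ νB ≫ v)
      ((yon S).map cB ≫ b' ≫ hV') HR₁.1 (by rw [HR₁.2.1]; simp only [Category.assoc])
    rw [hx (((yon S).map cB ≫ b') ≫ e') ⟨?_, ?_⟩, hx (θ ≫ (yon S).map cA ≫ a') ⟨?_, ?_⟩]
    · calc (yon S).map jB ≫ θ ≫ (yon S).map cA ≫ a'
          = ((yon S).map jB ≫ θ) ≫ (yon S).map cA ≫ a' := by simp only [Category.assoc]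
        _ = ((yon S).map jA ≫ (yon S).map cA) ≫ a' := by rw [hθ1, Category.assoc]
        _ = ((yon S).map rA ≫ (yon S).map qA) ≫ a' := by rw [sq₂'.w]
        _ = (yon S).map rA ≫ (νA ≫ iZ) := by rw [Category.assoc, sqA.w]
        _ = ((yon S).map rA ≫ νA) ≫ iZ := by rw [Category.assoc]
        _ = _ := by rw [sqR.w]
    · simp only [Category.assoc]
      rw [hθ2]
    · calc (yon S).map jB ≫ ((yon S).map cB ≫ b') ≫ e'
          = ((yon S).map jB ≫ (yon S).map cB) ≫ b' ≫ e' := by simp only [Category.assoc]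
        _ = ((yon S).map rB ≫ (yon S).map qB) ≫ b' ≫ e' := by rw [sq₁'.w]
        _ = (yon S).map rB ≫ ((yon S).map qB ≫ b') ≫ e' := by simp only [Category.assoc]
        _ = (yon S).map rB ≫ (νB ≫ iV) ≫ e' := by rw [sqB.w]
        _ = (yon S).map rB ≫ νB ≫ (iV ≫ e') := by simp only [Category.assoc]
        _ = _ := by rw [h1]; simp only [Category.assoc]
    · simp only [Category.assoc]
      rw [h2]
  -- conclusion: etale locality on the source
  have hloc := Groth.Agent.S10554.result S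
  have hg1 : IsEtaleMor ((yon S).map cB ≫ b') := isEtaleMor_comp hcBe (isEtaleMor_of_repWith_etale hb1)
  have hcBs : Surjective cB.left := by
    refine ⟨fun y' => ?_⟩
    obtain ⟨y, rfl⟩ := hqB2.surj y'
    obtain ⟨x, rfl⟩ := hrB2.surj y
    refine ⟨jB.left x, ?_⟩
    rw [← Scheme.Hom.comp_apply, sq₁.w, Scheme.Hom.comp_apply]
  have hg2 : RepWith @Surjective ((yon S).map cB ≫ b') :=
    MorphismProperty.comp_mem _ _ _ ((repWith_yon_map_iff _ cB).2 hcBs) hb2
  have hcov : IsEtCover (fun _ : PUnit.{u + 1} => (yon S).obj R₁)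
      (fun _ => (yon S).map cB ≫ b') :=
    ⟨fun _ => hg1, fun x => ⟨PUnit.unit,
      Groth.Agent.Lib.AlgSpQC.surjective_map_of_repWith_surjective hg2 x⟩⟩
  refine (hloc (fun _ : PUnit.{u + 1} => (yon S).obj R₁) (fun _ => (yon S).map cB ≫ b') hV'a
    (fun _ => hR₁) hcov e' hZ'a).2 fun _ => ?_
  rw [key]
  exact isEtaleMor_comp hθe (isEtaleMor_comp hcAe (isEtaleMor_of_repWith_etale ha1))

end Groth.Agent.Lib.H86Formal9
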