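import Groth.Agent.S9731
import Groth.Agent.S9733
import Groth.Agent.Lib.ThickAffine
import Groth.Agent.Lib.H86GlueAlg

/-!
# helper86: the universal first order thickening of a section of a morphism locally of finite presentation is
locally of finite presentation over the base.
-/

set_option autoImplicit false
set_option linter.style.haveILetI false
universe u
open CategoryTheory CategoryTheory.Limits AlgebraicGeometry Opposite

namespace Groth.Agent.Lib.H86GlueFP

/-- For a surjection `B → G` with kernel `J`, the quotient `B ⧸ J ^ 2` is the universal first order thickening of `G`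
over `B`. -/
theorem isUnivThickeningRing_quotient_sq (B G : Type u) [CommRing B] [CommRing G] [Algebra B G]
    (hsurj : Function.Surjective (algebraMap B G)) :
    OmegaSh.IsUnivThickeningRing B G (B ⧸ (RingHom.ker (algebraMap B G)) ^ 2)
      (Ideal.Quotient.liftₐ ((RingHom.ker (algebraMap B G)) ^ 2) (Algebra.ofId B G)
        (fun x hx => Ideal.pow_le_self two_ne_zero hx)) := by
  set J : Ideal B := RingHom.ker (algebraMap B G) with hJ
  set π : (B ⧸ J ^ 2) →ₐ[B] G := Ideal.Quotient.liftₐ (J ^ 2) (Algebra.ofId B G)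
    (fun x hx => Ideal.pow_le_self two_ne_zero hx) with hπdef
  have hπmk : ∀ b : B, π (Ideal.Quotient.mk (J ^ 2) b) = algebraMap B G b := fun b => rfl
  have hext : ∀ {A' : Type u} [CommRing A'] [Algebra B A'] (f₁ f₂ : (B ⧸ J ^ 2) →ₐ[B] A'), f₁ = f₂ := by
    intro A' _ _ f₁ f₂
    apply AlgHom.ext
    intro x
    obtain ⟨b, rfl⟩ := Ideal.Quotient.mk_surjective x
    have h1 : (Ideal.Quotient.mk (J ^ 2) b) = algebraMap B (B ⧸ J ^ 2) b := rfl
    rw [h1, f₁.commutes, f₂.commutes]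
  refine ⟨?_, ?_, ?_⟩
  · intro y
    obtain ⟨b, rfl⟩ := hsurj y
    exact ⟨Ideal.Quotient.mk _ b, hπmk b⟩
  · refine eq_bot_iff.2 ((pow_two (RingHom.ker π.toRingHom)).le.trans (Ideal.mul_le.2 ?_))
    intro x hx y hy
    obtain ⟨b, rfl⟩ := Ideal.Quotient.mk_surjective x
    obtain ⟨b', rfl⟩ := Ideal.Quotient.mk_surjective y
    have hb : b ∈ J := by
      have : π (Ideal.Quotient.mk _ b) = 0 := hx
      rwa [hπmk] at this
    have hb' : b' ∈ J := by
      have : π (Ideal.Quotient.mk _ b') = 0 := hy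
      rwa [hπmk] at this
    rw [Ideal.mem_bot, ← map_mul, Ideal.Quotient.eq_zero_iff_mem]
    exact (pow_two J).ge (Ideal.mul_mem_mul hb hb')
  · intro A' _ _ I' hI' a
    have hJI : ∀ x ∈ J, algebraMap B A' x ∈ I' := by
      intro x hx
      have h1 : a (algebraMap B G x) = 0 := by
        rw [show algebraMap B G x = 0 from hx, map_zero]
      rw [a.commutes] at h1
      exact Ideal.Quotient.eq_zero_iff_mem.1 h1
    have hJ2 : ∀ x ∈ J ^ 2, (Algebra.ofId B A') x = 0 := by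
      intro x hx
      have h2 : algebraMap B A' x ∈ I' ^ 2 := by
        have : J * J ≤ (I' * I').comap (algebraMap B A') := by
          rw [Ideal.mul_le]
          intro r hr s hs
          rw [Ideal.mem_comap, map_mul]
          exact Ideal.mul_mem_mul (hJI r hr) (hJI s hs)
        exact (pow_two I').ge (this ((pow_two J).le hx))
      rw [hI'] at h2
      exact h2
    refine ⟨Ideal.Quotient.liftₐ (J ^ 2) (Algebra.ofId B A') hJ2, hext _ _, fun y _ => hext _ _⟩

open Groth.Agent.Lib.UnivThickLocal24 Groth.Agent.Lib.UnivThickAffine24 in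
/-- The local statement: near a point of the section, the universal thickening is `Spec (B ⧸ J²)` with `J` finitely
generated. -/
theorem exists_open_locallyOfFinitePresentation {Y T₀ M : Scheme.{u}} [IsAffine T₀]
    (r : Y ⟶ T₀) [LocallyOfFinitePresentation r] (s : T₀ ⟶ Y) (hs : s ≫ r = 𝟙 T₀)
    (j : T₀ ⟶ M) (h : M ⟶ Y) (hu : OmegaSh.IsUnivThickening s j h) (t : T₀) :
    ∃ V' : M.Opens, j t ∈ V' ∧ LocallyOfFinitePresentation (V'.ι ≫ h ≫ r) := by
  have hjh : j ≫ h = s := hu.2.1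
  have hjsurj : Function.Surjective j := hu.1.1.2.surj
  -- an affine open neighbourhood of `s t`
  obtain ⟨_, ⟨U₀, hU₀, rfl⟩, htU₀, -⟩ :=
    Y.isBasis_affineOpens.exists_subset_of_mem_open (Set.mem_univ (s t)) isOpen_univ
  replace hU₀ : IsAffineOpen (U₀ : Y.Opens) := hU₀
  -- a basic open neighbourhood of `t` mapping into it
  obtain ⟨_, ⟨_, ⟨g, rfl⟩, rfl⟩, htg, hgU₀⟩ :=
    (isBasis_basicOpen T₀).exists_subset_of_mem_open (show t ∈ ((s ⁻¹ᵁ U₀ : T₀.Opens) : Set T₀) from htU₀)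
      (s ⁻¹ᵁ U₀).isOpen
  set V : T₀.Opens := T₀.basicOpen g with hVdef
  have hV : IsAffineOpen V := (isAffineOpen_top T₀).basicOpen g
  have hU₀top : U₀ ≤ r ⁻¹ᵁ ⊤ := fun _ _ => trivial
  set gY : Γ(Y, U₀) := r.appLE ⊤ U₀ hU₀top g with hgY
  set U' : Y.Opens := Y.basicOpen gY with hU'def
  have hU' : IsAffineOpen U' := hU₀.basicOpen gY
  have hU'eq : U' = U₀ ⊓ r ⁻¹ᵁ V := by
    rw [hU'def, hgY]
    exact Scheme.basicOpen_appLE r U₀ ⊤ hU₀top g
  have hsr : ∀ z, r (s z) = z := fun z => by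
    rw [← Scheme.Hom.comp_apply, hs]; rfl
  have hjs : ∀ z, h (j z) = s z := fun z => by
    rw [← Scheme.Hom.comp_apply, hjh]
  set V' : M.Opens := (h ≫ r) ⁻¹ᵁ V with hV'def
  have hmemV' : ∀ z, j z ∈ V' ↔ z ∈ V := by
    intro z
    change (h ≫ r) (j z) ∈ V ↔ z ∈ V
    rw [Scheme.Hom.comp_apply, hjs, hsr]
  set V₁ : T₀.Opens := j ⁻¹ᵁ V' with hV₁def
  have hV₁ : V₁ = V := by
    ext z
    exact hmemV' z
  have hV₁aff : IsAffineOpen V₁ := hV₁ ▸ hV
  have hVU' : V₁ ≤ s ⁻¹ᵁ U' := by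
    intro z hz
    have hzV : z ∈ V := hV₁ ▸ hz
    rw [hU'eq]
    exact ⟨hgU₀ hzV, by change r (s z) ∈ V; rw [hsr]; exact hzV⟩
  have hU'V : U' ≤ r ⁻¹ᵁ V₁ := by
    intro y hy
    rw [hU'eq] at hy
    rw [hV₁]
    exact hy.2
  refine ⟨V', (hmemV' t).2 htg, ?_⟩
  -- the restricted universal thickening
  have hpb : IsPullback (j ∣_ V') (j ⁻¹ᵁ V').ι V'.ι j := isPullback_morphismRestrict j V'
  have hu₁ := isUnivThickening_of_isPullback s j h hu (j ⁻¹ᵁ V').ι V'.ι (j ∣_ V') hpb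
  -- the model
  let ψ : Γ(Y, U') ⟶ Γ(T₀, V₁) := s.appLE U' V₁ hVU'
  let ρ' : Γ(T₀, V₁) ⟶ Γ(Y, U') := r.appLE V₁ U' hU'V
  have hρψ : ρ' ≫ ψ = 𝟙 _ := by
    rw [Scheme.Hom.appLE_comp_appLE]
    have : ∀ (f : T₀ ⟶ T₀) (hf : f = 𝟙 T₀) (e : V₁ ≤ f ⁻¹ᵁ V₁), f.appLE V₁ V₁ e = 𝟙 _ := by
      intro f hf e
      subst hf
      simp only [Scheme.Hom.appLE, Scheme.Hom.id_app]
      exact T₀.presheaf.map_id (op V₁)
    exact this _ hs _
  letI : Algebra Γ(Y, U') Γ(T₀, V₁) := ψ.hom.toAlgebra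
  have hsurj : Function.Surjective (algebraMap Γ(Y, U') Γ(T₀, V₁)) := by
    intro x
    refine ⟨ρ'.hom x, ?_⟩
    change (ρ' ≫ ψ).hom x = x
    rw [hρψ]
    rfl
  have hπ := isUnivThickeningRing_quotient_sq Γ(Y, U') Γ(T₀, V₁) hsurj
  have key := isUnivThickening_Spec Γ(Y, U') Γ(T₀, V₁) _ _ hπ
  have key2 := isUnivThickening_comp_openImmersion _ _ _ key hU'.fromSpec
  have key3 := isUnivThickening_iso_comp _ _ _ key2 hV₁aff.isoSpec
  have e : V₁.ι ≫ s = hV₁aff.isoSpec.hom ≫ Spec.map (s.appLE U' V₁ hVU') ≫ hU'.fromSpec := by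
    rw [IsAffineOpen.SpecMap_appLE_fromSpec s hU' hV₁aff hVU', ← Category.assoc,
      IsAffineOpen.isoSpec_hom_fromSpec]
  rw [e] at hu₁
  obtain ⟨ee, -, hee2⟩ := exists_iso_of_isUnivThickening _ _ _ _ _ hu₁ key3
  -- finite presentation of the model
  have hJfg : (RingHom.ker (algebraMap Γ(Y, U') Γ(T₀, V₁))).FG := by
    letI : Algebra Γ(T₀, V₁) Γ(Y, U') := ρ'.hom.toAlgebra
    haveI : Algebra.FinitePresentation Γ(T₀, V₁) Γ(Y, U') :=
      HasRingHomProperty.appLE (P := @LocallyOfFinitePresentation) r inferInstance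
        ⟨V₁, hV₁aff⟩ ⟨U', hU'⟩ hU'V
    let ψa : Γ(Y, U') →ₐ[Γ(T₀, V₁)] Γ(T₀, V₁) :=
      { ψ.hom with
        commutes' := fun x => by
          change (ρ' ≫ ψ).hom x = x
          rw [hρψ]
          rfl }
    exact Algebra.FinitePresentation.ker_fG_of_surjective ψa hsurj
  have hfp : (algebraMap Γ(Y, U')
      (Γ(Y, U') ⧸ (RingHom.ker (algebraMap Γ(Y, U') Γ(T₀, V₁))) ^ 2)).FinitePresentation := by
    refine RingHom.FinitePresentation.of_surjective _ Ideal.Quotient.mk_surjective ?_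
    have : RingHom.ker (algebraMap Γ(Y, U')
        (Γ(Y, U') ⧸ (RingHom.ker (algebraMap Γ(Y, U') Γ(T₀, V₁))) ^ 2)) =
        (RingHom.ker (algebraMap Γ(Y, U') Γ(T₀, V₁))) ^ 2 := Ideal.mk_ker
    rw [this]
    exact hJfg.pow
  haveI : LocallyOfFinitePresentation (Spec.map (CommRingCat.ofHom (algebraMap Γ(Y, U')
      (Γ(Y, U') ⧸ (RingHom.ker (algebraMap Γ(Y, U') Γ(T₀, V₁))) ^ 2)))) :=
    (HasRingHomProperty.Spec_iff (P := @LocallyOfFinitePresentation)).2 hfp
  rw [← Category.assoc, ← hee2]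
  infer_instance

set_option backward.isDefEq.respectTransparency false in
/-- **The universal first order thickening of a section of a morphism locally of finite presentation is locally of
finite presentation over the base.** -/
theorem locallyOfFinitePresentation_of_isUnivThickening_section {Y T₀ M : Scheme.{u}} [IsAffine T₀]
    (r : Y ⟶ T₀) [LocallyOfFinitePresentation r] (s : T₀ ⟶ Y) (hs : s ≫ r = 𝟙 T₀)
    (j : T₀ ⟶ M) (h : M ⟶ Y) (hu : OmegaSh.IsUnivThickening s j h) :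
    LocallyOfFinitePresentation (h ≫ r) := by
  have hjsurj : Function.Surjective j := hu.1.1.2.surj
  choose V' hV'mem hV' using exists_open_locallyOfFinitePresentation r s hs j h hu
  refine IsZariskiLocalAtSource.of_iSup_eq_top (P := @LocallyOfFinitePresentation) V' ?_ hV'
  rw [eq_top_iff]
  intro m _
  obtain ⟨t, rfl⟩ := hjsurj m
  exact TopologicalSpace.Opens.mem_iSup.2 ⟨t, hV'mem t⟩

end Groth.Agent.Lib.H86GlueFP
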