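import Groth.Agent.Lib.H86Formal8

/-!
# helper86: first order infinitesimal neighbourhoods of closed subspaces of algebraic spaces
-/

set_option autoImplicit false
set_option linter.style.haveILetI false
universe u
open CategoryTheory CategoryTheory.Limits AlgebraicGeometry Opposite

namespace Groth.Agent.Lib.H86InfNbhd
open AlgSp Groth.Agent.Lib.AlgSpBasic Groth.Agent.Lib.AlgSpLocP Groth.Agent.Lib.H86Formal
open Groth.Agent.Lib.H86Formal2 Groth.Agent.Lib.H86Formal3 Groth.Agent.Lib.H86Formal4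

variable {S : Scheme.{u}}

section SchemeLevel

/-- The kernel of a base change of a closed immersion is the inverse image ideal sheaf. -/
theorem ker_eq_comap_of_isPullback {V₀ V V₁ V₁₀ : Scheme.{u}} {s : V₀ ⟶ V} {p : V₁ ⟶ V}
    {s₁ : V₁₀ ⟶ V₁} {p₀ : V₁₀ ⟶ V₀} (sq : IsPullback s₁ p₀ p s) [IsClosedImmersion s] :
    s₁.ker = s.ker.comap p := by
  have e : s₁ = sq.isoPullback.hom ≫ pullback.fst p s := by simp
  rw [e, Scheme.Hom.ker_comp_of_isIso, Scheme.IdealSheafData.ker_fst_of_isClosedImmersion]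

/-- An ideal sheaf vanishes as soon as its inverse images along a jointly surjective family of flat morphisms
vanish. -/
theorem eq_bot_of_flat_local {V : Scheme.{u}} (K : V.IdealSheafData)
    (H : ∀ v : V, ∃ (V₁ : Scheme.{u}) (p : V₁ ⟶ V), Flat p ∧ v ∈ Set.range p ∧ K.comap p = ⊥) :
    K = ⊥ := by
  rw [← le_bot_iff]
  intro U x hx
  have hx0 : x = 0 := by
    refine TopCat.Presheaf.section_ext V.sheaf U.1 x 0 ?_
    intro y hy
    obtain ⟨V₁, p, hp, ⟨x', rfl⟩, hK⟩ := H y
    have hle : K ≤ p.ker := by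
      have := Scheme.IdealSheafData.le_map_comap (f := p) (J := K)
      rwa [hK, Scheme.IdealSheafData.map_bot] at this
    have hker : (p.app U.1).hom x = 0 := Scheme.Hom.ideal_ker_le p U (hle U hx)
    have hinj : Function.Injective (p.stalkMap x').hom := by
      algebraize [(p.stalkMap x').hom]
      have : Module.FaithfullyFlat (V.presheaf.stalk (p x')) (V₁.presheaf.stalk x') :=
        @Module.FaithfullyFlat.of_flat_of_isLocalHom _ _ _ _ _ _ _
          (Flat.stalkMap p x') (p.toLRSHom.prop x')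
      exact ‹RingHom.FaithfullyFlat _›.injective
    apply hinj
    have h1 := Scheme.Hom.germ_stalkMap_apply p U.1 x' hy x
    have h2 := Scheme.Hom.germ_stalkMap_apply p U.1 x' hy 0
    have h0 : (ConcreteCategory.hom (p.app U.1)) x = (ConcreteCategory.hom (p.app U.1)) 0 :=
      hker.trans (map_zero _).symm
    have h3 := congrArg (ConcreteCategory.hom (V₁.presheaf.germ (p ⁻¹ᵁ U.1) x' hy)) h0
    exact (h1.trans h3).trans h2.symm
  rw [hx0]
  exact zero_mem _

/-- A closed immersion whose kernel has square zero is surjective. -/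
theorem surjective_of_sqZero {V₀ V : Scheme.{u}} (s : V₀ ⟶ V) [IsClosedImmersion s]
    (h : s.ker * s.ker = ⊥) : Surjective s := by
  have h1 : s.ker.support = ⊤ := by
    have := congrArg Scheme.IdealSheafData.support h
    rwa [Scheme.IdealSheafData.support_mul, Scheme.IdealSheafData.support_bot, sup_idem] at this
  have h2 := Scheme.Hom.support_ker s
  rw [h1] at h2
  have h3 : Set.range s = Set.univ := by
    rw [← (s.isClosedEmbedding.isClosed_range).closure_eq, ← h2]
    rfl
  exact ⟨fun y => by rw [← Set.mem_range, h3]; trivial⟩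

end SchemeLevel

section SheafLevel

set_option backward.isDefEq.respectTransparency false in
/-- Comparison of the kernels of two represented base changes of a representable closed immersion. -/
theorem comap_ker_eq {F G : Sp S} {κ : F ⟶ G} (hκ : RepWith @IsClosedImmersion κ)
    {V V₀ O W V₁ : Over S} (β : (yon S).obj V ⟶ G) (fst : (yon S).obj V₀ ⟶ F) (n : V₀ ⟶ V)
    (sqn : IsPullback fst ((yon S).map n) κ β)
    (b : (yon S).obj O ⟶ G) (fst' : (yon S).obj W ⟶ F) (snd : W ⟶ O)
    (sqs : IsPullback fst' ((yon S).map snd) κ b)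
    (p : V₁ ⟶ V) (g : V₁ ⟶ O) (hpg : (yon S).map p ≫ β = (yon S).map g ≫ b) :
    n.left.ker.comap p.left = snd.left.ker.comap g.left := by
  haveI : IsClosedImmersion n.left := hκ.2 β fst n sqn
  haveI : IsClosedImmersion snd.left := hκ.2 b fst' snd sqs
  have sqR := IsPullback.of_hasPullback n p
  have sqR₀ : IsPullback (pullback.snd n p).left (pullback.fst n p).left p.left n.left :=
    (sqR.map (Over.forget S)).flip
  have sqR' : IsPullback ((yon S).map (pullback.fst n p)) ((yon S).map (pullback.snd n p))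
      ((yon S).map n) ((yon S).map p) := sqR.map (yon S)
  have big : IsPullback ((yon S).map (pullback.fst n p) ≫ fst) ((yon S).map (pullback.snd n p)) κ
      ((yon S).map p ≫ β) := sqR'.paste_horiz sqn
  rw [hpg] at big
  have hcomm : ((yon S).map (pullback.fst n p) ≫ fst) ≫ κ =
      ((yon S).map (pullback.snd n p) ≫ (yon S).map g) ≫ b := by
    rw [big.w, Category.assoc]
  obtain ⟨ρ, hρ⟩ := (yon S).map_surjective
    (sqs.lift ((yon S).map (pullback.fst n p) ≫ fst)
      ((yon S).map (pullback.snd n p) ≫ (yon S).map g) hcomm)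
  have hρ1 : (yon S).map ρ ≫ fst' = (yon S).map (pullback.fst n p) ≫ fst := by
    rw [hρ]; exact sqs.lift_fst _ _ _
  have hρ2 : (yon S).map ρ ≫ (yon S).map snd =
      (yon S).map (pullback.snd n p) ≫ (yon S).map g := by
    rw [hρ]; exact sqs.lift_snd _ _ _
  rw [← hρ1] at big
  have left : IsPullback ((yon S).map ρ) ((yon S).map (pullback.snd n p)) ((yon S).map snd)
      ((yon S).map g) := IsPullback.of_right big hρ2 sqs
  have left₀ : IsPullback ρ.left (pullback.snd n p).left snd.left g.left :=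
    Groth.Agent.Lib.H86Thick.isPullback_left_of_yon left
  rw [← ker_eq_comap_of_isPullback sqR₀, ← ker_eq_comap_of_isPullback left₀.flip]

set_option backward.isDefEq.respectTransparency false in
/-- Through every point of a scheme `V` mapping to an algebraic space `U` there is an etale neighbourhood
`V₁ ⟶ V` over which the map factors through an affine etale chart of `U`. -/
theorem exists_local_chart {U : Sp S} (hU : IsAlgSpace U) {V : Over S} (β : (yon S).obj V ⟶ U)
    (v : V.left) :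
    ∃ (V₁ O : Over S) (p : V₁ ⟶ V) (g : V₁ ⟶ O) (b : (yon S).obj O ⟶ U), IsAffine O.left ∧
      RepWith @Etale b ∧ Etale p.left ∧ v ∈ Set.range p.left ∧
      (yon S).map p ≫ β = (yon S).map g ≫ b := by
  obtain ⟨A, α, hαe, hαs⟩ := hU.atlas
  obtain ⟨V', p', g', sq'⟩ := hαe.1 β
  obtain ⟨g'', rfl⟩ := (yon S).map_surjective g'
  haveI : Etale p'.left := hαe.2 β _ p' sq'
  haveI hs : Surjective p'.left := hαs.2 β _ p' sq'
  obtain ⟨v', rfl⟩ := hs.surj v
  obtain ⟨κ, Vk, ι, haff, hopen, hsurj⟩ := exists_affine_openCover A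
  obtain ⟨hopen', hsurj'⟩ := openCover_pullback g'' Vk ι hopen hsurj
  obtain ⟨k, z, hz⟩ := hsurj' v'
  haveI := hopen k
  haveI := hopen' k
  refine ⟨pullback g'' (ι k), Vk k, pullback.fst g'' (ι k) ≫ p', pullback.snd g'' (ι k),
    (yon S).map (ι k) ≫ α, haff k, ?_, ?_, ⟨z, ?_⟩, ?_⟩
  · exact MorphismProperty.comp_mem _ _ _
      ((repWith_yon_map_iff _ _).2 (inferInstance : Etale (ι k).left)) hαe
  · rw [Over.comp_left]
    infer_instance
  · rw [Over.comp_left, Scheme.Hom.comp_apply, hz]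
  · rw [Functor.map_comp, Category.assoc, ← sq'.w, ← Category.assoc, ← Functor.map_comp,
      pullback.condition, Functor.map_comp, Category.assoc]

variable {Z U Z₁ : Sp S} {c : Z ⟶ U} {j : Z ⟶ Z₁} {k : Z₁ ⟶ U}

/-- Etale locally, the ideal of the base change of the first order neighbourhood is the square of the ideal of the
base change of the closed subspace, for base changes to arbitrary schemes. -/
theorem comap_ker_sq_local (hU : IsAlgSpace U) (hN : IsInfNbhd 1 c j k) {V Vc Vk : Over S}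
    (β : (yon S).obj V ⟶ U) (fc : (yon S).obj Vc ⟶ Z) (n : Vc ⟶ V)
    (sqc : IsPullback fc ((yon S).map n) c β) (fk : (yon S).obj Vk ⟶ Z₁) (m : Vk ⟶ V)
    (sqk : IsPullback fk ((yon S).map m) k β) (v : V.left) :
    ∃ (V₁ : Scheme.{u}) (p : V₁ ⟶ V.left), Etale p ∧ v ∈ Set.range p ∧
      m.left.ker.comap p = (n.left.ker.comap p) ^ 2 := by
  obtain ⟨V₁, O, p, g, b, hO, hb, hp, hv, hpg⟩ := exists_local_chart hU β v
  obtain ⟨Wc, snd, fst, sq1⟩ := hN.2.1.1 b
  obtain ⟨Wk, sndn, fstn, sq2⟩ := hN.2.2.1.1 b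
  have hker := hN.2.2.2 b fst snd fstn sndn hO hb sq1 sq2
  refine ⟨V₁.left, p.left, hp, hv, ?_⟩
  rw [comap_ker_eq hN.2.2.1 β fk m sqk b fstn sndn sq2 p g hpg,
    comap_ker_eq hN.2.1 β fc n sqc b fst snd sq1 p g hpg, hker,
    Groth.Agent.Lib.IdealSheafComap.comap_pow]

/-- The base change of the closed subspace to a scheme has square zero ideal exactly when the base change of its first
order neighbourhood is an isomorphism. -/
theorem ker_sq_eq_bot_iff (hU : IsAlgSpace U) (hN : IsInfNbhd 1 c j k) {V Vc Vk : Over S}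
    (β : (yon S).obj V ⟶ U) (fc : (yon S).obj Vc ⟶ Z) (n : Vc ⟶ V)
    (sqc : IsPullback fc ((yon S).map n) c β) (fk : (yon S).obj Vk ⟶ Z₁) (m : Vk ⟶ V)
    (sqk : IsPullback fk ((yon S).map m) k β) :
    n.left.ker ^ 2 = ⊥ ↔ m.left.ker = ⊥ := by
  constructor
  · intro h
    apply eq_bot_of_flat_local
    intro v
    obtain ⟨V₁, p, hp, hv, e⟩ := comap_ker_sq_local hU hN β fc n sqc fk m sqk v
    refine ⟨V₁, p, inferInstance, hv, ?_⟩
    rw [e, ← Groth.Agent.Lib.IdealSheafComap.comap_pow, h, Scheme.IdealSheafData.comap_bot]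
  · intro h
    apply eq_bot_of_flat_local
    intro v
    obtain ⟨V₁, p, hp, hv, e⟩ := comap_ker_sq_local hU hN β fc n sqc fk m sqk v
    refine ⟨V₁, p, inferInstance, hv, ?_⟩
    rw [Groth.Agent.Lib.IdealSheafComap.comap_pow, ← e, h, Scheme.IdealSheafData.comap_bot]

/-- For a monomorphism `k`, the pullback of `k` along `γ ≫ k` is `γ`. -/
theorem isPullback_of_mono {A B C : Sp S} (γ : A ⟶ B) (k : B ⟶ C) [Mono k] :
    IsPullback γ (𝟙 A) k (γ ≫ k) := by
  refine IsPullback.of_isLimit' ⟨by rw [Category.id_comp]⟩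
    (PullbackCone.IsLimit.mk _ (fun s => s.snd) ?_ ?_ ?_)
  · intro s
    rw [← cancel_mono k, Category.assoc, s.condition]
  · intro s
    exact Category.comp_id _
  · intro s m _ h2
    rw [← h2, Category.comp_id]

set_option backward.isDefEq.respectTransparency false in
/-- Every represented base change of `j : Z ⟶ Z₁` (first order neighbourhood) to a scheme is a closed immersion with
square zero kernel. -/
theorem closedImmersion_and_sqZero (hU : IsAlgSpace U) (hN : IsInfNbhd 1 c j k) {V V₀ : Over S}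
    (γ : (yon S).obj V ⟶ Z₁) (γ₀ : (yon S).obj V₀ ⟶ Z) (s : V₀ ⟶ V)
    (sq : IsPullback γ₀ ((yon S).map s) j γ) :
    IsClosedImmersion s.left ∧ s.left.ker * s.left.ker = ⊥ := by
  haveI : Mono k := Groth.Agent.Lib.H69AlgSp.mono_of_repWith_isClosedImmersion hN.2.2.1
  have sqJ : IsPullback j (𝟙 Z) k c := by
    have := isPullback_of_mono j k
    rwa [hN.1] at this
  have sqc : IsPullback γ₀ ((yon S).map s) c (γ ≫ k) := by
    have := sq.paste_horiz sqJ.flip
    rwa [Category.comp_id] at this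
  have sqk : IsPullback γ ((yon S).map (𝟙 V)) k (γ ≫ k) := by
    rw [(yon S).map_id]
    exact isPullback_of_mono γ k
  have hci : IsClosedImmersion s.left := hN.2.1.2 _ _ _ sqc
  refine ⟨hci, ?_⟩
  rw [← pow_two]
  refine (ker_sq_eq_bot_iff hU hN (γ ≫ k) γ₀ s sqc γ (𝟙 V) sqk).2 ?_
  rw [Over.id_left]
  exact Scheme.Hom.ker_eq_bot_of_isIso _

set_option backward.isDefEq.respectTransparency false in
/-- The first order infinitesimal neighbourhood is a first order thickening. -/
theorem isFOThickMor_of_isInfNbhd (hU : IsAlgSpace U) (hN : IsInfNbhd 1 c j k) : IsFOThickMor j := by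
  haveI : Mono k := Groth.Agent.Lib.H69AlgSp.mono_of_repWith_isClosedImmersion hN.2.2.1
  have sqJ : IsPullback j (𝟙 Z) k c := by
    have := isPullback_of_mono j k
    rwa [hN.1] at this
  refine ⟨⟨?_, ?_⟩, ?_⟩
  · intro V γ
    obtain ⟨V₀, s, γ₀, sq⟩ := hN.2.1.1 (γ ≫ k)
    refine ⟨V₀, s, γ₀, ?_⟩
    have hcomm : (yon S).map s ≫ γ = γ₀ ≫ j := by
      rw [← cancel_mono k, Category.assoc, Category.assoc, hN.1, sq.w]
    have h1 : IsPullback ((yon S).map s) (γ₀ ≫ 𝟙 Z) (γ ≫ k) c := by
      rw [Category.comp_id]; exact sq.flip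
    exact (IsPullback.of_bot h1 hcomm sqJ).flip
  · intro V V₀ γ γ₀ s sq
    obtain ⟨h1, h2⟩ := closedImmersion_and_sqZero hU hN γ γ₀ s sq
    exact ⟨h1, surjective_of_sqZero s.left h2⟩
  · intro V V₀ γ γ₀ s _ _ sq
    exact (closedImmersion_and_sqZero hU hN γ γ₀ s sq).2

set_option backward.isDefEq.respectTransparency false in
/-- **The first order infinitesimal neighbourhood of an immersion is a universal first order thickening.** -/
theorem isUnivFOThick_infNbhd {X : Sp S} (hU : IsAlgSpace U) (u : U ⟶ X)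
    (hu : RepWith @IsOpenImmersion u) (hN : IsInfNbhd 1 c j k) :
    IsUnivFOThick (c ≫ u) j (k ≫ u) := by
  haveI : Mono k := Groth.Agent.Lib.H69AlgSp.mono_of_repWith_isClosedImmersion hN.2.2.1
  haveI : Mono u := Groth.Agent.Lib.H69AlgSp.mono_of_repWith_isOpenImmersion hu
  refine ⟨isFOThickMor_of_isInfNbhd hU hN, by rw [← Category.assoc, hN.1], ?_⟩
  intro T T' _ hT' jT a b hjT hcomm
  refine existsUnique_lift_of_affine (k ≫ u) hT' jT hjT.1 (a ≫ j) b ?_
  intro W₀ W q g g₀ hW hg sq
  have hq : MoreMor.IsFirstOrderThickening q.left := ⟨hjT.1.2 g g₀ q sq, hjT.2 g g₀ q hW hg sq⟩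
  suffices ∃ l : (yon S).obj W ⟶ Z₁, (yon S).map q ≫ l = g₀ ≫ a ≫ j ∧ l ≫ k ≫ u = g ≫ b by
    obtain ⟨l, h1, h2⟩ := this
    refine ⟨l, ⟨h1, h2⟩, ?_⟩
    rintro l' ⟨-, h2'⟩
    rw [← cancel_mono (k ≫ u)]
    exact h2'.trans h2.symm
  -- (a) factor through `u`
  have hcommW : (yon S).map q ≫ (g ≫ b) = (g₀ ≫ a ≫ c) ≫ u := by
    rw [← Category.assoc, ← sq.w, Category.assoc, hcomm]
    simp only [Category.assoc]
  obtain ⟨Wu, o, fu, squ⟩ := hu.1 (g ≫ b)
  haveI : IsOpenImmersion o.left := hu.2 _ _ _ squ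
  obtain ⟨q', hq'⟩ := (yon S).map_surjective (squ.lift (g₀ ≫ a ≫ c) ((yon S).map q) hcommW.symm)
  have hq'2 : q' ≫ o = q := (yon S).map_injective (by
    rw [Functor.map_comp, hq']; exact squ.lift_snd _ _ _)
  haveI : Surjective q.left := hq.1.2
  haveI : Surjective o.left := by
    refine ⟨fun w => ?_⟩
    obtain ⟨w₀, rfl⟩ := ‹Surjective q.left›.surj w
    refine ⟨q'.left w₀, ?_⟩
    rw [← Scheme.Hom.comp_apply, ← Over.comp_left, hq'2]
  haveI : IsIso o.left := (isIso_iff_isOpenImmersion_and_surjective _).mpr ⟨inferInstance, inferInstance⟩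
  haveI : IsIso ((Over.forget S).map o) := ‹IsIso o.left›
  haveI : IsIso o := isIso_of_reflects_iso o (Over.forget S)
  have hbU : ((yon S).map (inv o) ≫ fu) ≫ u = g ≫ b := by
    rw [Category.assoc, squ.w, ← Category.assoc, ← Functor.map_comp, IsIso.inv_hom_id,
      (yon S).map_id, Category.id_comp]
  have hqbU : (yon S).map q ≫ ((yon S).map (inv o) ≫ fu) = g₀ ≫ a ≫ c := by
    rw [← cancel_mono u, Category.assoc, hbU, hcommW]
  generalize (yon S).map (inv o) ≫ fu = bU at hbU hqbU
  -- (b) factor `bU` through `k`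
  obtain ⟨Wc, n, fc, sqc⟩ := hN.2.1.1 bU
  obtain ⟨Wk, m, fk, sqk⟩ := hN.2.2.1.1 bU
  haveI : IsClosedImmersion n.left := hN.2.1.2 _ _ _ sqc
  haveI : IsClosedImmersion m.left := hN.2.2.1.2 _ _ _ sqk
  obtain ⟨q'', hq''⟩ := (yon S).map_surjective
    (sqc.lift (g₀ ≫ a) ((yon S).map q) (by rw [Category.assoc, hqbU]))
  have hq''2 : q'' ≫ n = q := (yon S).map_injective (by
    rw [Functor.map_comp, hq'']; exact sqc.lift_snd _ _ _)
  have hle : n.left.ker ≤ q.left.ker := by
    rw [← hq''2, Over.comp_left, Scheme.Hom.ker_comp]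
    calc n.left.ker = (⊥ : Scheme.IdealSheafData _).map n.left :=
          (Scheme.IdealSheafData.map_bot _).symm
      _ ≤ q''.left.ker.map n.left := Scheme.IdealSheafData.map_mono _ bot_le
  have hn2 : n.left.ker ^ 2 = ⊥ := by
    rw [← le_bot_iff, pow_two, ← hq.2]
    intro O
    rw [Scheme.IdealSheafData.ideal_mul, Scheme.IdealSheafData.ideal_mul]
    exact Ideal.mul_mono (hle O) (hle O)
  have hm : m.left.ker = ⊥ := (ker_sq_eq_bot_iff hU hN bU fc n sqc fk m sqk).1 hn2
  haveI : IsIso m.left := IsClosedImmersion.isIso_iff_ker_eq_bot.2 hm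
  haveI : IsIso ((Over.forget S).map m) := ‹IsIso m.left›
  haveI : IsIso m := isIso_of_reflects_iso m (Over.forget S)
  have hl : ((yon S).map (inv m) ≫ fk) ≫ k = bU := by
    rw [Category.assoc, sqk.w, ← Category.assoc, ← Functor.map_comp, IsIso.inv_hom_id,
      (yon S).map_id, Category.id_comp]
  refine ⟨(yon S).map (inv m) ≫ fk, ?_, ?_⟩
  · rw [← cancel_mono k, Category.assoc, hl, hqbU, Category.assoc, Category.assoc, hN.1]
  · rw [← Category.assoc, hl, hbU]

end SheafLevel

end Groth.Agent.Lib.H86InfNbhd
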