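import Groth.Agent.Lib.H86CoprodSp
import Groth.Agent.Lib.H86ZarLocBase

/-!
# helper86: cofiltered limits of fppf sheaves with affine transition maps

* `preservesLimitsOfShape_yon`: `U ↦ h_U` preserves limits.
* `hasLimit_of_isAffine`, `exists_isLimit_isAffine`: small (connected) diagrams of affine schemes (over `S`)
  have affine limits.
* `exists_lift_yon`: lifting diagrams of representable sheaves to diagrams of schemes.
* `exists_iso_yon_affine_of_isLimit`: a small connected limit of sheaves represented by affine schemes is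
  represented by an affine scheme.
-/

set_option autoImplicit false
set_option linter.style.haveILetI false
universe w w' u
open CategoryTheory CategoryTheory.Limits AlgebraicGeometry Opposite

namespace Groth.Agent.Lib.H86Limits
open AlgSp

variable {S : Scheme.{u}}

/-- `U ↦ h_U` preserves limits. -/
theorem preservesLimitsOfShape_yon (J : Type w) [Category.{w'} J] :
    PreservesLimitsOfShape J (yon S) := by
  have h1 : PreservesLimitsOfShape J (yon S ⋙ sheafToPresheaf (AlgSp.J S) _) :=
    preservesLimitsOfShape_of_natIso (GrothendieckTopology.uliftYonedaCompSheafToPresheaf (AlgSp.J S)).symm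
  exact preservesLimitsOfShape_of_reflects_of_preserves (yon S) (sheafToPresheaf (AlgSp.J S) _)

/-- Small diagrams of affine schemes have limits in schemes. -/
theorem hasLimit_of_isAffine {J : Type u} [Category.{u} J] (D : J ⥤ Scheme.{u})
    [∀ j, IsAffine (D.obj j)] : HasLimit D := by
  let α : D ⟶ (D ⋙ Scheme.Γ.rightOp) ⋙ Scheme.Spec := D.whiskerLeft ΓSpec.adjunction.unit
  have (i : _) : IsIso (α.app i) := IsAffine.affine
  have : IsIso α := NatIso.isIso_of_isIso_app α
  have : HasLimit ((D ⋙ Scheme.Γ.rightOp) ⋙ Scheme.Spec) := inferInstance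
  exact hasLimit_of_iso (asIso α).symm

/-- Small connected diagrams of affine schemes over `S` have a limit over `S`, which is affine. -/
theorem exists_isLimit_isAffine {J : Type u} [Category.{u} J] [IsConnected J] (W : J ⥤ Over S)
    (hW : ∀ j, IsAffine (W.obj j).left) :
    ∃ c : Cone W, Nonempty (IsLimit c) ∧ IsAffine c.pt.left := by
  haveI : ∀ j, IsAffine ((W ⋙ Over.forget S).obj j) := hW
  haveI : HasLimit (W ⋙ Over.forget S) := hasLimit_of_isAffine _
  haveI : HasLimit W := hasLimit_of_created W (Over.forget S)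
  refine ⟨limit.cone W, ⟨limit.isLimit W⟩, ?_⟩
  have h : IsLimit ((Over.forget S).mapCone (limit.cone W)) :=
    isLimitOfPreserves (Over.forget S) (limit.isLimit W)
  exact Scheme.isAffine_of_isLimit _ h

/-- A diagram of sheaves with representable values lifts to a diagram of schemes over `S`. -/
theorem exists_lift_yon {J : Type w} [Category.{w'} J] (P : J ⥤ Sp S) (W : J → Over S)
    (e : ∀ j, (yon S).obj (W j) ≅ P.obj j) :
    ∃ (W' : J ⥤ Over S) (_ : ∀ j, W'.obj j = W j), Nonempty (W' ⋙ yon S ≅ P) := by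
  let W' : J ⥤ Over S :=
    { obj := W
      map := fun {j k} φ => (yon S).preimage ((e j).hom ≫ P.map φ ≫ (e k).inv)
      map_id := fun j => by
        apply (yon S).map_injective
        simp
      map_comp := fun {i j k} φ ψ => by
        apply (yon S).map_injective
        simp }
  refine ⟨W', fun _ => rfl, ⟨NatIso.ofComponents e ?_⟩⟩
  intro j k φ
  simp [W']

/-- A small connected limit of sheaves represented by affine schemes is represented by an affine scheme. -/
theorem exists_iso_yon_affine_of_isLimit {J : Type u} [Category.{u} J] [IsConnected J] (P : J ⥤ Sp S)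
    (W : J → Over S) (hW : ∀ j, IsAffine (W j).left) (e : ∀ j, (yon S).obj (W j) ≅ P.obj j)
    (c : Cone P) (hc : IsLimit c) :
    ∃ Wl : Over S, IsAffine Wl.left ∧ Nonempty ((yon S).obj Wl ≅ c.pt) := by
  obtain ⟨W', hW', ⟨iso⟩⟩ := exists_lift_yon P W e
  obtain ⟨cW, ⟨hcW⟩, haff⟩ := exists_isLimit_isAffine W' (fun j => by rw [hW' j]; exact hW j)
  have := preservesLimitsOfShape_yon (S := S) J
  have h1 : IsLimit ((yon S).mapCone cW) := isLimitOfPreserves (yon S) hcW
  exact ⟨cW.pt, haff, ⟨IsLimit.conePointsIsoOfNatIso h1 hc iso⟩⟩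

section PullbackLimit

variable {C : Type*} [Category C] [HasPullbacks C] {I : Type u} [SmallCategory I]
  (D : I ⥤ C) (c : Cone D) (i : I) {Z : C} (z : Z ⟶ D.obj i)

/-- The diagram `j ↦ D j ×_{D i} Z` indexed by `j ⟶ i`. -/
noncomputable def pbDiagram : Over i ⥤ C where
  obj j := pullback (D.map j.hom) z
  map {j k} φ := pullback.lift (pullback.fst _ _ ≫ D.map φ.left) (pullback.snd _ _)
    (by rw [Category.assoc, ← D.map_comp, Over.w φ, pullback.condition])
  map_id j := by
    apply pullback.hom_ext
    · rw [pullback.lift_fst, Category.id_comp]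
      change _ ≫ D.map (𝟙 j.left) = _
      rw [D.map_id, Category.comp_id]
    · rw [pullback.lift_snd, Category.id_comp]
  map_comp {j k l} φ ψ := by
    apply pullback.hom_ext
    · rw [pullback.lift_fst, Category.assoc, pullback.lift_fst, pullback.lift_fst_assoc,
        Category.assoc, ← D.map_comp]
      rfl
    · rw [pullback.lift_snd, Category.assoc, pullback.lift_snd, pullback.lift_snd]

/-- First projection of the `j`-th member. -/
noncomputable def pbFst (j : Over i) : (pbDiagram D i z).obj j ⟶ D.obj j.left := pullback.fst _ _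

/-- Second projection of the `j`-th member. -/
noncomputable def pbSnd (j : Over i) : (pbDiagram D i z).obj j ⟶ Z := pullback.snd _ _

theorem pb_condition (j : Over i) : pbFst D i z j ≫ D.map j.hom = pbSnd D i z j ≫ z :=
  pullback.condition

theorem pbDiagram_map_fst {j k : Over i} (φ : j ⟶ k) :
    (pbDiagram D i z).map φ ≫ pbFst D i z k = pbFst D i z j ≫ D.map φ.left :=
  pullback.lift_fst _ _ _

theorem pbDiagram_map_snd {j k : Over i} (φ : j ⟶ k) :
    (pbDiagram D i z).map φ ≫ pbSnd D i z k = pbSnd D i z j :=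
  pullback.lift_snd _ _ _

theorem pb_hom_ext {j : Over i} {A : C} {a b : A ⟶ (pbDiagram D i z).obj j}
    (h1 : a ≫ pbFst D i z j = b ≫ pbFst D i z j) (h2 : a ≫ pbSnd D i z j = b ≫ pbSnd D i z j) :
    a = b :=
  pullback.hom_ext h1 h2

/-- The legs of the cone on `pbDiagram` with apex `c.pt ×_{D i} Z`. -/
noncomputable def pbLeg (j : Over i) : pullback (c.π.app i) z ⟶ (pbDiagram D i z).obj j :=
  pullback.lift (pullback.fst _ _ ≫ c.π.app j.left) (pullback.snd _ _)
    (by rw [Category.assoc, c.w, pullback.condition])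

theorem pbLeg_fst (j : Over i) :
    pbLeg D c i z j ≫ pbFst D i z j = pullback.fst (c.π.app i) z ≫ c.π.app j.left :=
  pullback.lift_fst _ _ _

theorem pbLeg_snd (j : Over i) :
    pbLeg D c i z j ≫ pbSnd D i z j = pullback.snd (c.π.app i) z :=
  pullback.lift_snd _ _ _

/-- The cone on `pbDiagram` with apex `c.pt ×_{D i} Z`. -/
noncomputable def pbCone : Cone (pbDiagram D i z) where
  pt := pullback (c.π.app i) z
  π :=
    { app := fun j => pbLeg D c i z j
      naturality := fun j k φ => by
        apply pb_hom_ext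
        · change (𝟙 _ ≫ pbLeg D c i z k) ≫ _ = (pbLeg D c i z j ≫ _) ≫ _
          rw [Category.id_comp, pbLeg_fst, Category.assoc, pbDiagram_map_fst, ← Category.assoc,
            pbLeg_fst, Category.assoc, c.w]
        · change (𝟙 _ ≫ pbLeg D c i z k) ≫ _ = (pbLeg D c i z j ≫ _) ≫ _
          rw [Category.id_comp, pbLeg_snd, Category.assoc, pbDiagram_map_snd, pbLeg_snd] }

/-- First projection of the apex. -/
noncomputable def pbConeFst : (pbCone D c i z).pt ⟶ c.pt := pullback.fst _ _

/-- Second projection of the apex. -/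
noncomputable def pbConeSnd : (pbCone D c i z).pt ⟶ Z := pullback.snd _ _

theorem pbCone_condition : pbConeFst D c i z ≫ c.π.app i = pbConeSnd D c i z ≫ z :=
  pullback.condition

theorem pbCone_π_fst (j : Over i) :
    (pbCone D c i z).π.app j ≫ pbFst D i z j = pbConeFst D c i z ≫ c.π.app j.left :=
  pbLeg_fst D c i z j

theorem pbCone_π_snd (j : Over i) :
    (pbCone D c i z).π.app j ≫ pbSnd D i z j = pbConeSnd D c i z :=
  pbLeg_snd D c i z j

/-- Maps into the apex. -/
noncomputable def pbConeLift {A : C} (a : A ⟶ c.pt) (b : A ⟶ Z) (w : a ≫ c.π.app i = b ≫ z) :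
    A ⟶ (pbCone D c i z).pt := pullback.lift a b w

theorem pbConeLift_fst {A : C} (a : A ⟶ c.pt) (b : A ⟶ Z) (w : a ≫ c.π.app i = b ≫ z) :
    pbConeLift D c i z a b w ≫ pbConeFst D c i z = a := pullback.lift_fst _ _ _

theorem pbConeLift_snd {A : C} (a : A ⟶ c.pt) (b : A ⟶ Z) (w : a ≫ c.π.app i = b ≫ z) :
    pbConeLift D c i z a b w ≫ pbConeSnd D c i z = b := pullback.lift_snd _ _ _

theorem pbCone_hom_ext {A : C} {a b : A ⟶ (pbCone D c i z).pt}
    (h1 : a ≫ pbConeFst D c i z = b ≫ pbConeFst D c i z)
    (h2 : a ≫ pbConeSnd D c i z = b ≫ pbConeSnd D c i z) : a = b :=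
  pullback.hom_ext h1 h2

variable {D c}

/-- Base change commutes with cofiltered limits. -/
noncomputable def isLimitPbCone [IsCofiltered I] (hc : IsLimit c) : IsLimit (pbCone D c i z) := by
  have hc' : IsLimit (c.whisker (Over.forget i)) :=
    (Functor.Initial.isLimitWhiskerEquiv (Over.forget i) c).symm hc
  let j₀ : Over i := Over.mk (𝟙 i)
  -- the cone over `Over.forget i ⋙ D` induced by a cone over the pullback diagram
  let t : ∀ s : Cone (pbDiagram D i z), Cone (Over.forget i ⋙ D) := fun s =>
    { pt := s.pt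
      π :=
        { app := fun j => s.π.app j ≫ pbFst D i z j
          naturality := fun j k φ => by
            change 𝟙 _ ≫ s.π.app k ≫ pbFst D i z k = (s.π.app j ≫ pbFst D i z j) ≫ D.map φ.left
            rw [Category.id_comp, ← s.w φ, Category.assoc, pbDiagram_map_fst, Category.assoc] } }
  have hsnd : ∀ (s : Cone (pbDiagram D i z)) (j : Over i),
      s.π.app j ≫ pbSnd D i z j = s.π.app j₀ ≫ pbSnd D i z j₀ := by
    intro s j
    let φ : j ⟶ j₀ := Over.homMk j.hom
    rw [← s.w φ, Category.assoc, pbDiagram_map_snd]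
  have hfac : ∀ (s : Cone (pbDiagram D i z)) (j : Over i),
      hc'.lift (t s) ≫ c.π.app j.left = s.π.app j ≫ pbFst D i z j := fun s j => hc'.fac (t s) j
  have hfst : ∀ s : Cone (pbDiagram D i z), hc'.lift (t s) ≫ c.π.app i =
      (s.π.app j₀ ≫ pbSnd D i z j₀) ≫ z := by
    intro s
    have h1 : hc'.lift (t s) ≫ c.π.app i = s.π.app j₀ ≫ pbFst D i z j₀ := hfac s j₀
    have h3 := pb_condition D i z j₀
    have h4 : D.map j₀.hom = 𝟙 _ := D.map_id i
    rw [h4, Category.comp_id] at h3
    rw [h1, Category.assoc, ← h3]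
  refine
    { lift := fun s => pbConeLift D c i z (hc'.lift (t s)) (s.π.app j₀ ≫ pbSnd D i z j₀) (hfst s)
      fac := fun s j => ?_
      uniq := fun s m hm => ?_ }
  · apply pb_hom_ext
    · rw [Category.assoc, pbCone_π_fst, ← Category.assoc, pbConeLift_fst]
      exact hfac s j
    · rw [Category.assoc, pbCone_π_snd, pbConeLift_snd]
      exact (hsnd s j).symm
  · apply pbCone_hom_ext
    · rw [pbConeLift_fst]
      apply hc'.hom_ext
      intro j
      rw [hc'.fac]
      change (m ≫ pbConeFst D c i z) ≫ c.π.app j.left = s.π.app j ≫ pbFst D i z j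
      rw [← hm j, Category.assoc, Category.assoc, pbCone_π_fst]
    · rw [pbConeLift_snd, ← hm j₀, Category.assoc, pbCone_π_snd]

end PullbackLimit

variable {S : Scheme.{u}}

/-- The projections of a cofiltered limit of fppf sheaves with affine transition maps are affine. -/
theorem isAffineMor_π_of_isLimit {I : Type u} [SmallCategory I] [IsCofiltered I] (D : I ⥤ Sp S)
    (hDa : ∀ (i j : I) (φ : i ⟶ j), IsAffineMor (D.map φ)) (c : Cone D) (hc : IsLimit c) (i : I) :
    IsAffineMor (c.π.app i) := by
  intro Z hZ z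
  -- for each `j ⟶ i`, the fibre product is an affine scheme
  choose W w fst sq hWaff using fun j : Over i => hDa j.left i j.hom hZ z
  have e : ∀ j : Over i, (yon S).obj (W j) ≅ (pbDiagram D i z).obj j := fun j =>
    (sq j).isoPullback
  haveI : IsConnected (Over i) := IsCofiltered.isConnected _
  obtain ⟨Wl, hWl, ⟨el⟩⟩ := exists_iso_yon_affine_of_isLimit (pbDiagram D i z) W hWaff e
    (pbCone D c i z) (isLimitPbCone i z hc)
  let wl : Wl ⟶ Z := (yon S).preimage (el.hom ≫ pbConeSnd D c i z)
  have hwl : (yon S).map wl = el.hom ≫ pbConeSnd D c i z := (yon S).map_preimage _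
  refine ⟨Wl, wl, el.hom ≫ pbConeFst D c i z, ?_, hWl⟩
  rw [hwl]
  exact IsPullback.of_iso_pullback
    ⟨by rw [Category.assoc, Category.assoc, pbCone_condition]⟩ el rfl rfl

/-- A cofiltered limit of algebraic spaces with affine transition maps is an algebraic space with
affine projections. -/
theorem isAlgSpace_of_isLimit_of_isAffineMor {I : Type u} [SmallCategory I] [IsCofiltered I]
    (D : I ⥤ Sp S) (hD : ∀ i, IsAlgSpace (D.obj i))
    (hDa : ∀ (i j : I) (φ : i ⟶ j), IsAffineMor (D.map φ)) (c : Cone D) (hc : IsLimit c) :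
    IsAlgSpace c.pt ∧ ∀ i, IsAffineMor (c.π.app i) := by
  have hπ := isAffineMor_π_of_isLimit D hDa c hc
  refine ⟨?_, hπ⟩
  obtain ⟨i₀⟩ := IsCofiltered.nonempty (C := I)
  have hrep : RepWith @IsAffineHom (c.π.app i₀) :=
    (Groth.Agent.Lib.H86ZarGlue.isAffineMor_iff_repWith (c.π.app i₀)).1 (hπ i₀)
  exact Groth.Agent.Lib.H86Coprod.isAlgSpace_of_representable (c.π.app i₀) hrep.1 (hD i₀)

end Groth.Agent.Lib.H86Limits
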