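import Groth.Agent.Lib.H86Limits

/-!
# helper86: limits of sheaves represented by affine schemes, with the limit cone exposed

* `liftYon P W e`: the diagram of schemes lifting a diagram `P` of sheaves with `P j ≅ h_{W j}`.
* `exists_limit_liftYon`: its limit cone in `Over S`, affine, and representing the limit of `P`.
-/

set_option autoImplicit false
set_option linter.style.haveILetI false
universe w w' u
open CategoryTheory CategoryTheory.Limits AlgebraicGeometry Opposite

namespace Groth.Agent.Lib.H86Limits
open AlgSp

variable {S : Scheme.{u}}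

section Lift

variable {J : Type w} [Category.{w'} J] (P : J ⥤ Sp S) (W : J → Over S)
  (e : ∀ j, (yon S).obj (W j) ≅ P.obj j)

/-- The diagram of schemes over `S` lifting a diagram of representable sheaves. -/
noncomputable def liftYon : J ⥤ Over S where
  obj := W
  map {j k} φ := (yon S).preimage ((e j).hom ≫ P.map φ ≫ (e k).inv)
  map_id j := by
    apply (yon S).map_injective
    simp
  map_comp {i j k} φ ψ := by
    apply (yon S).map_injective
    simp

theorem yon_map_liftYon_map {j k : J} (φ : j ⟶ k) :
    (yon S).map ((liftYon P W e).map φ) = (e j).hom ≫ P.map φ ≫ (e k).inv :=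
  (yon S).map_preimage _

/-- The lifted diagram represents the original one. -/
noncomputable def liftYonIso : liftYon P W e ⋙ yon S ≅ P :=
  NatIso.ofComponents e (by
    intro j k φ
    change (yon S).map ((liftYon P W e).map φ) ≫ (e k).hom = (e j).hom ≫ P.map φ
    have h := yon_map_liftYon_map P W e φ
    have h2 : ((e j).hom ≫ P.map φ ≫ (e k).inv) ≫ (e k).hom = (e j).hom ≫ P.map φ := by
      rw [Category.assoc, Category.assoc, Iso.inv_hom_id, Category.comp_id]
    exact (congrArg (· ≫ (e k).hom) h).trans h2)

end Lift

/-- The limit of a small connected diagram of sheaves represented by affine schemes is represented by the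
(affine) limit of the lifted diagram of schemes. -/
theorem exists_limit_liftYon {J : Type u} [Category.{u} J] [IsConnected J] (P : J ⥤ Sp S)
    (W : J → Over S) (hW : ∀ j, IsAffine (W j).left) (e : ∀ j, (yon S).obj (W j) ≅ P.obj j)
    (c : Cone P) (hc : IsLimit c) :
    ∃ (cW : Cone (liftYon P W e)) (_ : IsLimit cW) (el : (yon S).obj cW.pt ≅ c.pt),
      IsAffine cW.pt.left ∧
        ∀ j, el.hom ≫ c.π.app j = (yon S).map (cW.π.app j) ≫ (e j).hom := by
  obtain ⟨cW, ⟨hcW⟩, haff⟩ := exists_isLimit_isAffine (liftYon P W e) hW
  have := preservesLimitsOfShape_yon (S := S) J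
  have h1 : IsLimit ((yon S).mapCone cW) := isLimitOfPreserves (yon S) hcW
  refine ⟨cW, hcW, IsLimit.conePointsIsoOfNatIso h1 hc (liftYonIso P W e), haff, fun j => ?_⟩
  exact IsLimit.conePointsIsoOfNatIso_hom_comp h1 hc (liftYonIso P W e) j

/-- The underlying cone of schemes of a limit cone of affine schemes over `S` is a limit cone. -/
noncomputable def isLimitMapConeForget {J : Type u} [Category.{u} J] [IsConnected J]
    {W : J ⥤ Over S} {cW : Cone W} (hcW : IsLimit cW) :
    IsLimit ((Over.forget S).mapCone cW) :=
  isLimitOfPreserves (Over.forget S) hcW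

end Groth.Agent.Lib.H86Limits
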