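import Groth.Agent.Lib.H86Limits2
import Groth.Agent.Lib.H86ZarGlueRep
import Mathlib.AlgebraicGeometry.AffineTransitionLimit

/-!
# helper86: limits of closed immersions

* `pb2Diagram τ cY t`: the diagram `i ↦ X_i ×_{Y_i} T` for a morphism of diagrams `τ : X ⟶ Y` and `t : T ⟶ lim Y`.
* `isLimitPb2Cone`: `(lim X) ×_{lim Y} T = lim (X_i ×_{Y_i} T)` over a cofiltered index category.
* `repWith_isClosedImmersion_of_isLimit`: a cofiltered limit of closed immersions of sheaves is a closed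
  immersion.
-/

set_option autoImplicit false
set_option linter.style.haveILetI false
universe w w' u
open CategoryTheory CategoryTheory.Limits AlgebraicGeometry Opposite

namespace Groth.Agent.Lib.H86Limits
open AlgSp

section PullbackLimit2

variable {C : Type*} [Category C] [HasPullbacks C] {I : Type w} [Category.{w'} I]
  {DX DY : I ⥤ C} (τ : DX ⟶ DY) (cX : Cone DX) (cY : Cone DY)
  (g : cX.pt ⟶ cY.pt) (hg : ∀ i, g ≫ cY.π.app i = cX.π.app i ≫ τ.app i) {T : C} (t : T ⟶ cY.pt)

/-- The diagram `i ↦ X_i ×_{Y_i} T`. -/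
noncomputable def pb2Diagram : I ⥤ C where
  obj i := pullback (τ.app i) (t ≫ cY.π.app i)
  map {i j} φ := pullback.lift (pullback.fst _ _ ≫ DX.map φ) (pullback.snd _ _)
    (by rw [Category.assoc, τ.naturality, ← Category.assoc, pullback.condition, Category.assoc,
      Category.assoc, cY.w])
  map_id i := by
    apply pullback.hom_ext
    · rw [pullback.lift_fst, Category.id_comp, DX.map_id, Category.comp_id]
    · rw [pullback.lift_snd, Category.id_comp]
  map_comp {i j k} φ ψ := by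
    apply pullback.hom_ext
    · rw [pullback.lift_fst, Category.assoc, pullback.lift_fst, pullback.lift_fst_assoc,
        Category.assoc, ← DX.map_comp]
    · rw [pullback.lift_snd, Category.assoc, pullback.lift_snd, pullback.lift_snd]

/-- First projection of the `i`-th member. -/
noncomputable def pb2Fst (i : I) : (pb2Diagram τ cY t).obj i ⟶ DX.obj i := pullback.fst _ _

/-- Second projection of the `i`-th member. -/
noncomputable def pb2Snd (i : I) : (pb2Diagram τ cY t).obj i ⟶ T := pullback.snd _ _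

theorem pb2_condition (i : I) :
    pb2Fst τ cY t i ≫ τ.app i = pb2Snd τ cY t i ≫ t ≫ cY.π.app i :=
  pullback.condition

theorem pb2_isPullback (i : I) :
    IsPullback (pb2Fst τ cY t i) (pb2Snd τ cY t i) (τ.app i) (t ≫ cY.π.app i) :=
  IsPullback.of_hasPullback _ _

theorem pb2Diagram_map_fst {i j : I} (φ : i ⟶ j) :
    (pb2Diagram τ cY t).map φ ≫ pb2Fst τ cY t j = pb2Fst τ cY t i ≫ DX.map φ :=
  pullback.lift_fst _ _ _

theorem pb2Diagram_map_snd {i j : I} (φ : i ⟶ j) :
    (pb2Diagram τ cY t).map φ ≫ pb2Snd τ cY t j = pb2Snd τ cY t i :=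
  pullback.lift_snd _ _ _

theorem pb2_hom_ext {i : I} {A : C} {a b : A ⟶ (pb2Diagram τ cY t).obj i}
    (h1 : a ≫ pb2Fst τ cY t i = b ≫ pb2Fst τ cY t i)
    (h2 : a ≫ pb2Snd τ cY t i = b ≫ pb2Snd τ cY t i) : a = b :=
  pullback.hom_ext h1 h2

/-- The legs of the cone on `pb2Diagram` with apex `cX.pt ×_{cY.pt} T`. -/
noncomputable def pb2Leg (i : I) : pullback g t ⟶ (pb2Diagram τ cY t).obj i :=
  pullback.lift (pullback.fst _ _ ≫ cX.π.app i) (pullback.snd _ _)
    (by rw [Category.assoc, ← hg, ← Category.assoc, pullback.condition, Category.assoc])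

theorem pb2Leg_fst (i : I) :
    pb2Leg τ cX cY g hg t i ≫ pb2Fst τ cY t i = pullback.fst g t ≫ cX.π.app i :=
  pullback.lift_fst _ _ _

theorem pb2Leg_snd (i : I) :
    pb2Leg τ cX cY g hg t i ≫ pb2Snd τ cY t i = pullback.snd g t :=
  pullback.lift_snd _ _ _

/-- The cone on `pb2Diagram` with apex `cX.pt ×_{cY.pt} T`. -/
noncomputable def pb2Cone : Cone (pb2Diagram τ cY t) where
  pt := pullback g t
  π :=
    { app := fun i => pb2Leg τ cX cY g hg t i
      naturality := fun i j φ => by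
        apply pb2_hom_ext
        · change (𝟙 _ ≫ pb2Leg τ cX cY g hg t j) ≫ _ = (pb2Leg τ cX cY g hg t i ≫ _) ≫ _
          rw [Category.id_comp, pb2Leg_fst, Category.assoc, pb2Diagram_map_fst, ← Category.assoc,
            pb2Leg_fst, Category.assoc, cX.w]
        · change (𝟙 _ ≫ pb2Leg τ cX cY g hg t j) ≫ _ = (pb2Leg τ cX cY g hg t i ≫ _) ≫ _
          rw [Category.id_comp, pb2Leg_snd, Category.assoc, pb2Diagram_map_snd, pb2Leg_snd] }

/-- First projection of the apex. -/
noncomputable def pb2ConeFst : (pb2Cone τ cX cY g hg t).pt ⟶ cX.pt := pullback.fst _ _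

/-- Second projection of the apex. -/
noncomputable def pb2ConeSnd : (pb2Cone τ cX cY g hg t).pt ⟶ T := pullback.snd _ _

theorem pb2Cone_isPullback :
    IsPullback (pb2ConeFst τ cX cY g hg t) (pb2ConeSnd τ cX cY g hg t) g t :=
  IsPullback.of_hasPullback _ _

theorem pb2Cone_π_fst (i : I) :
    (pb2Cone τ cX cY g hg t).π.app i ≫ pb2Fst τ cY t i = pb2ConeFst τ cX cY g hg t ≫ cX.π.app i :=
  pb2Leg_fst τ cX cY g hg t i

theorem pb2Cone_π_snd (i : I) :
    (pb2Cone τ cX cY g hg t).π.app i ≫ pb2Snd τ cY t i = pb2ConeSnd τ cX cY g hg t :=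
  pb2Leg_snd τ cX cY g hg t i

/-- Maps into the apex. -/
noncomputable def pb2ConeLift {A : C} (a : A ⟶ cX.pt) (b : A ⟶ T) (w : a ≫ g = b ≫ t) :
    A ⟶ (pb2Cone τ cX cY g hg t).pt := pullback.lift a b w

theorem pb2ConeLift_fst {A : C} (a : A ⟶ cX.pt) (b : A ⟶ T) (w : a ≫ g = b ≫ t) :
    pb2ConeLift τ cX cY g hg t a b w ≫ pb2ConeFst τ cX cY g hg t = a := pullback.lift_fst _ _ _

theorem pb2ConeLift_snd {A : C} (a : A ⟶ cX.pt) (b : A ⟶ T) (w : a ≫ g = b ≫ t) :
    pb2ConeLift τ cX cY g hg t a b w ≫ pb2ConeSnd τ cX cY g hg t = b := pullback.lift_snd _ _ _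

theorem pb2Cone_hom_ext {A : C} {a b : A ⟶ (pb2Cone τ cX cY g hg t).pt}
    (h1 : a ≫ pb2ConeFst τ cX cY g hg t = b ≫ pb2ConeFst τ cX cY g hg t)
    (h2 : a ≫ pb2ConeSnd τ cX cY g hg t = b ≫ pb2ConeSnd τ cX cY g hg t) : a = b :=
  pullback.hom_ext h1 h2

variable {cX cY}

/-- `(lim X) ×_{lim Y} T = lim (X_i ×_{Y_i} T)` over a cofiltered index category. -/
noncomputable def isLimitPb2Cone [IsCofiltered I] (hcX : IsLimit cX) (hcY : IsLimit cY) :
    IsLimit (pb2Cone τ cX cY g hg t) := by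
  let i₀ : I := Classical.choice (IsCofiltered.nonempty (C := I))
  let tX : ∀ s : Cone (pb2Diagram τ cY t), Cone DX := fun s =>
    { pt := s.pt
      π :=
        { app := fun i => s.π.app i ≫ pb2Fst τ cY t i
          naturality := fun i j φ => by
            change 𝟙 _ ≫ s.π.app j ≫ pb2Fst τ cY t j = (s.π.app i ≫ pb2Fst τ cY t i) ≫ DX.map φ
            rw [Category.id_comp, ← s.w φ, Category.assoc, pb2Diagram_map_fst, Category.assoc] } }
  have hsnd : ∀ (s : Cone (pb2Diagram τ cY t)) (i : I),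
      s.π.app i ≫ pb2Snd τ cY t i = s.π.app i₀ ≫ pb2Snd τ cY t i₀ := by
    intro s i
    rw [← s.w (IsCofiltered.minToLeft i i₀), ← s.w (IsCofiltered.minToRight i i₀), Category.assoc,
      Category.assoc, pb2Diagram_map_snd, pb2Diagram_map_snd]
  have hfac : ∀ (s : Cone (pb2Diagram τ cY t)) (i : I),
      hcX.lift (tX s) ≫ cX.π.app i = s.π.app i ≫ pb2Fst τ cY t i := fun s i => hcX.fac (tX s) i
  have hcond : ∀ s : Cone (pb2Diagram τ cY t),
      hcX.lift (tX s) ≫ g = (s.π.app i₀ ≫ pb2Snd τ cY t i₀) ≫ t := by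
    intro s
    apply hcY.hom_ext
    intro i
    rw [Category.assoc, hg, ← Category.assoc, hfac, Category.assoc, pb2_condition,
      ← Category.assoc, hsnd s i, Category.assoc, Category.assoc, Category.assoc]
  refine
    { lift := fun s => pb2ConeLift τ cX cY g hg t (hcX.lift (tX s))
        (s.π.app i₀ ≫ pb2Snd τ cY t i₀) (hcond s)
      fac := fun s i => ?_
      uniq := fun s m hm => ?_ }
  · apply pb2_hom_ext
    · rw [Category.assoc, pb2Cone_π_fst, ← Category.assoc, pb2ConeLift_fst]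
      exact hfac s i
    · rw [Category.assoc, pb2Cone_π_snd, pb2ConeLift_snd]
      exact (hsnd s i).symm
  · apply pb2Cone_hom_ext
    · rw [pb2ConeLift_fst]
      apply hcX.hom_ext
      intro i
      rw [hcX.fac]
      change (m ≫ pb2ConeFst τ cX cY g hg t) ≫ cX.π.app i = s.π.app i ≫ pb2Fst τ cY t i
      rw [← hm i, Category.assoc, Category.assoc, pb2Cone_π_fst]
    · rw [pb2ConeLift_snd, ← hm i₀, Category.assoc, pb2Cone_π_snd]

end PullbackLimit2

variable {S : Scheme.{u}}

/-- A morphism from a cofiltered limit of affine schemes to an affine scheme which factors through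
closed immersions at every stage is a closed immersion. -/
theorem isClosedImmersion_of_isLimit_of_isAffine {J : Type u} [Category.{u} J] [IsCofiltered J]
    (F : J ⥤ Scheme.{u}) [∀ j, IsAffine (F.obj j)] (c : Cone F) (hc : IsLimit c)
    {Z : Scheme.{u}} [IsAffine Z] (s : c.pt ⟶ Z) (k : ∀ j, F.obj j ⟶ Z)
    (hk : ∀ j, IsClosedImmersion (k j)) (hs : ∀ j, c.π.app j ≫ k j = s) :
    IsClosedImmersion s := by
  haveI : IsAffine c.pt := Scheme.isAffine_of_isLimit c hc
  refine IsClosedImmersion.of_surjective_of_isAffine _ fun a => ?_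
  obtain ⟨j, b, rfl⟩ := exists_appTop_π_eq_of_isAffine_of_isLimit F c hc a
  haveI : IsClosedImmersion (k j) := hk j
  obtain ⟨c', rfl⟩ := (k j).app_surjective ⊤ (isAffineOpen_top _) b
  refine ⟨c', ?_⟩
  rw [← hs j, Scheme.Hom.comp_appTop]
  rfl

/-- A cofiltered limit of closed immersions of sheaves is a closed immersion. -/
theorem repWith_isClosedImmersion_of_isLimit {I : Type u} [SmallCategory I] [IsCofiltered I]
    {DX DY : I ⥤ Sp S} (τ : DX ⟶ DY) (hτ : ∀ i, RepWith @IsClosedImmersion (τ.app i))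
    {cX : Cone DX} (hcX : IsLimit cX) {cY : Cone DY} (hcY : IsLimit cY)
    (g : cX.pt ⟶ cY.pt) (hg : ∀ i, g ≫ cY.π.app i = cX.π.app i ≫ τ.app i) :
    RepWith @IsClosedImmersion g := by
  refine H86ZarGlue.repWith_of_forall_affine_isPullback g @IsClosedImmersion fun Z hZ t => ?_
  haveI : IsConnected I := IsCofiltered.isConnected _
  haveI : IsAffine Z.left := hZ
  -- the stages
  have hrep : ∀ i, ∃ (W : Over S) (k : W ⟶ Z) (fst : (yon S).obj W ⟶ DX.obj i),
      IsPullback fst ((yon S).map k) (τ.app i) (t ≫ cY.π.app i) ∧ IsClosedImmersion k.left := by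
    intro i
    obtain ⟨W, k, fst, sq⟩ := (hτ i).1 (t ≫ cY.π.app i)
    exact ⟨W, k, fst, sq, (hτ i).2 _ _ _ sq⟩
  choose W k fst sq hk using hrep
  have hWaff : ∀ i, IsAffine (W i).left := fun i => by
    haveI : IsClosedImmersion (k i).left := hk i
    exact isAffine_of_isAffineHom (k i).left
  let e : ∀ i, (yon S).obj (W i) ≅ (pb2Diagram τ cY t).obj i := fun i => (sq i).isoPullback
  have he : ∀ i, (e i).hom ≫ pb2Snd τ cY t i = (yon S).map (k i) := fun i =>
    (sq i).isoPullback_hom_snd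
  obtain ⟨cW, hcW, el, hcWaff, hel⟩ := exists_limit_liftYon (pb2Diagram τ cY t) W hWaff e
    (pb2Cone τ cX cY g hg t) (isLimitPb2Cone τ g hg t hcX hcY)
  obtain ⟨s, hs⟩ := (yon S).map_surjective (el.hom ≫ pb2ConeSnd τ cX cY g hg t)
  let kk : ∀ j, (liftYon (pb2Diagram τ cY t) W e).obj j ⟶ Z := k
  have hsk : ∀ j, cW.π.app j ≫ kk j = s := by
    intro j
    apply (yon S).map_injective
    refine (Functor.map_comp _ _ _).trans (Eq.trans ?_ hs.symm)
    calc (yon S).map (cW.π.app j) ≫ (yon S).map (kk j)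
        = (yon S).map (cW.π.app j) ≫ ((e j).hom ≫ pb2Snd τ cY t j) :=
          congrArg ((yon S).map (cW.π.app j) ≫ ·) (he j).symm
      _ = ((yon S).map (cW.π.app j) ≫ (e j).hom) ≫ pb2Snd τ cY t j := (Category.assoc _ _ _).symm
      _ = (el.hom ≫ (pb2Cone τ cX cY g hg t).π.app j) ≫ pb2Snd τ cY t j :=
          congrArg (· ≫ pb2Snd τ cY t j) (hel j).symm
      _ = el.hom ≫ ((pb2Cone τ cX cY g hg t).π.app j ≫ pb2Snd τ cY t j) := Category.assoc _ _ _
      _ = el.hom ≫ pb2ConeSnd τ cX cY g hg t :=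
          congrArg (el.hom ≫ ·) (pb2Cone_π_snd τ cX cY g hg t j)
  have hlim : IsLimit ((Over.forget S).mapCone cW) := isLimitMapConeForget hcW
  haveI : ∀ j, IsAffine ((liftYon (pb2Diagram τ cY t) W e ⋙ Over.forget S).obj j) := hWaff
  have hci : IsClosedImmersion s.left :=
    isClosedImmersion_of_isLimit_of_isAffine (liftYon (pb2Diagram τ cY t) W e ⋙ Over.forget S)
      _ hlim s.left (fun j => (kk j).left) hk (fun j => congrArg (fun a => a.left) (hsk j))
  refine ⟨cW.pt, s, el.hom ≫ pb2ConeFst τ cX cY g hg t, ?_, hci⟩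
  rw [hs]
  exact IsPullback.of_iso_pullback
    ⟨by rw [Category.assoc, Category.assoc, (pb2Cone_isPullback τ cX cY g hg t).w]⟩ el rfl rfl

end Groth.Agent.Lib.H86Limits
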