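import Mathlib.AlgebraicGeometry.Morphisms.FinitePresentation
import Mathlib.AlgebraicGeometry.Morphisms.Etale
import Mathlib.AlgebraicGeometry.Morphisms.UniversallyOpen

/-!
# Locally constructible sets on schemes: pullback along arbitrary morphisms and etale descent

* `isLocallyConstructible_preimage` : the preimage of a locally constructible set under a morphism of
  schemes is locally constructible.
* `isLocallyConstructible_of_preimage_etale_surjective` : for an etale surjective `π : W ⟶ V`, a subset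
  of `V` whose preimage is locally constructible is locally constructible.
-/

set_option autoImplicit false
set_option linter.style.haveILetI false
universe u
open CategoryTheory CategoryTheory.Limits AlgebraicGeometry Topology TopologicalSpace
open Set.Notation

namespace Groth.Agent.Lib.H86LocConstr

/-- The preimage of a locally constructible set under a morphism of schemes is locally constructible. -/
theorem isLocallyConstructible_preimage {X Y : Scheme.{u}} (f : X ⟶ Y) {s : Set ↥Y}
    (hs : IsLocallyConstructible s) : IsLocallyConstructible (f ⁻¹' s) := by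
  intro x
  obtain ⟨U, hUx, hU, hUs⟩ := hs (f x)
  let U' : Y.Opens := ⟨U, hU⟩
  refine ⟨f ⁻¹' U, f.continuous.continuousAt.preimage_mem_nhds hUx, hU.preimage f.continuous, ?_⟩
  have h := (f ∣_ U').isConstructible_preimage (s := (U ↓∩ s)) hUs
  have e : ((f ∣_ U') ⁻¹' (U ↓∩ s) : Set ↥(f ⁻¹ᵁ U')) = ((f ⁻¹' U) ↓∩ (f ⁻¹' s)) := by
    ext ⟨y, hy⟩
    show (f ∣_ U') ⟨y, hy⟩ ∈ (U ↓∩ s) ↔ f y ∈ s
    have : ((f ∣_ U') ⟨y, hy⟩ : ↥U').1 = f y := by
      simp
    show ((f ∣_ U') ⟨y, hy⟩ : ↥U').1 ∈ s ↔ f y ∈ s
    rw [this]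
  exact e ▸ h

/-- Etale descent of local constructibility: for an etale surjective `π : W ⟶ V`, a subset of `V` with
locally constructible preimage in `W` is locally constructible. -/
theorem isLocallyConstructible_of_preimage {W V : Scheme.{u}} (π : W ⟶ V) [Etale π] [Surjective π]
    {T : Set ↥V} (hT : IsLocallyConstructible (π ⁻¹' T)) : IsLocallyConstructible T := by
  have key : ∀ v : ↥V, ∃ N : V.Opens, v ∈ N ∧ IsLocallyConstructible ((N : Set ↥V) ↓∩ T) := by
    intro v
    obtain ⟨w, rfl⟩ := π.surjective v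
    obtain ⟨O', hO', hvO', -⟩ := exists_isAffineOpen_mem_and_subset (X := V) (x := π w)
      (U := ⊤) trivial
    obtain ⟨O, hO, hwO, hOO'⟩ := exists_isAffineOpen_mem_and_subset (X := W) (x := w)
      (U := π ⁻¹ᵁ O') hvO'
    haveI : IsAffine (O : Scheme.{u}) := hO
    haveI : IsAffine (O' : Scheme.{u}) := hO'
    let g : (O : Scheme.{u}) ⟶ O' := π.resLE O' O hOO'
    haveI : QuasiCompact g :=
      (HasAffineProperty.iff_of_isAffine (P := @QuasiCompact)).mpr (inferInstance : CompactSpace (O : Scheme.{u}))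
    have h1 : IsLocallyConstructible ((O : Set ↥W) ↓∩ (π ⁻¹' T)) :=
      hT.preimage_of_isOpenEmbedding O.isOpen.isOpenEmbedding_subtypeVal
    have h2 : IsLocallyConstructible (g '' ((O : Set ↥W) ↓∩ (π ⁻¹' T))) :=
      g.isLocallyConstructible_image h1
    have hNO' : π '' (O : Set ↥W) ⊆ O' := by
      rintro _ ⟨y, hy, rfl⟩
      exact hOO' hy
    let N : V.Opens := ⟨π '' (O : Set ↥W), π.isOpenMap _ O.isOpen⟩
    refine ⟨N, ⟨w, hwO, rfl⟩, ?_⟩
    let j : ↥N → ↥O' := fun x => ⟨x.1, hNO' x.2⟩
    have hj : IsOpenEmbedding j := IsOpenEmbedding.inclusion hNO' (by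
      exact N.isOpen.preimage continuous_subtype_val)
    have h3 := h2.preimage_of_isOpenEmbedding hj
    have e : ((N : Set ↥V) ↓∩ T) = j ⁻¹' (g '' ((O : Set ↥W) ↓∩ (π ⁻¹' T))) := ?_
    · rw [e]; exact h3
    ext ⟨x, y, hy, rfl⟩
    simp only [Set.mem_preimage, Set.mem_image]
    constructor
    · intro hx
      exact ⟨⟨y, hy⟩, hx, Subtype.ext (Scheme.Hom.coe_resLE_apply _ _ _)⟩
    · rintro ⟨⟨z, hz⟩, hzT, hzy⟩
      have : π z = π y := by
        have := congrArg Subtype.val hzy
        rwa [Scheme.Hom.coe_resLE_apply] at this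
      rw [← this]
      exact hzT
  choose N hvN hN using key
  exact IsLocallyConstructible.of_isOpenCover (U := N)
    (IsOpenCover.mk (by
      refine eq_top_iff.2 fun v _ => ?_
      exact Opens.mem_iSup.2 ⟨v, hvN v⟩)) hN

end Groth.Agent.Lib.H86LocConstr
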