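import Groth.Agent.Lib.AlgSpLocP
import Groth.Agent.Lib.AlgSpQC
import Groth.Agent.Lib.AlgSpAtPt
import Groth.Agent.Lib.AlgSpPoints
import Groth.Agent.Lib.H86AlgSpPoints
import Groth.Prelude.Def_AlgSpDec
import Mathlib.AlgebraicGeometry.Morphisms.QuasiFinite
import Mathlib.AlgebraicGeometry.Noetherian

/-!
# Finiteness of the fibre of a finite type morphism over a field-valued point, at a quasi-finite point
-/

set_option autoImplicit false
set_option linter.style.haveILetI false
universe u
open CategoryTheory CategoryTheory.Limits AlgebraicGeometry TopologicalSpace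
open AlgSp

namespace Groth.Agent.Lib.H86QFFibre

open Groth.Agent.Lib.AlgSpLocP Groth.Agent.Lib.AlgSpAtPt

variable {S : Scheme.{u}}

/-- A scheme locally quasi-finite over the spectrum of a field is discrete. -/
theorem discreteTopology_of_lqf_field {K : Type u} [Field K] {T : Scheme.{u}}
    (c : T ⟶ Spec (CommRingCat.of K)) [LocallyQuasiFinite c] : DiscreteTopology ↥T := by
  let y : ↥(Spec (CommRingCat.of K)) := IsLocalRing.closedPoint K
  have h := c.isDiscrete_preimage_singleton y
  have huniv : (c ⁻¹' {y} : Set ↥T) = Set.univ :=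
    Set.eq_univ_of_forall (fun t => Subsingleton.elim _ _)
  rw [huniv] at h
  exact isDiscrete_univ_iff.mp h

/-- A quasi-compact scheme locally of finite type over the spectrum of a field has a Noetherian underlying
space. -/
theorem noetherianSpace_of_lft_field {K : Type u} [Field K] {T : Scheme.{u}}
    (c : T ⟶ Spec (CommRingCat.of K)) [LocallyOfFiniteType c] [CompactSpace ↥T] :
    NoetherianSpace ↥T := by
  haveI : IsLocallyNoetherian T := LocallyOfFiniteType.isLocallyNoetherian c
  haveI : IsNoetherian T := {}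
  infer_instance

set_option backward.isDefEq.respectTransparency false in
/-- Core: for `f : X ⟶ Y` of finite type and quasi-finite at `x`, and a field-valued point `c` of `Y`, the points of
`X ×_Y Spec K` over `x` are finitely many. -/
theorem finite_fibre_core {X Y : Sp S} (hX : IsAlgSpace X) (hY : IsAlgSpace Y) (f : X ⟶ Y)
    (hft : IsFiniteTypeMor f) (x : Points X)
    (hf : HasAtMor (fun U _ h u => ∃ W : U.Opens, u ∈ W ∧ LocallyQuasiFinite (W.ι ≫ h) ∧
      LocallyOfFiniteType (W.ι ≫ h)) f x)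
    {K : Type u} [Field K] (str : Spec (CommRingCat.of K) ⟶ S)
    (c : (yon S).obj (Over.mk str) ⟶ Y) {P : Sp S} (pr1 : P ⟶ X)
    (pr2 : P ⟶ (yon S).obj (Over.mk str)) (sq : IsPullback pr1 pr2 f c) :
    {w : Points P | Points.map pr1 w = x}.Finite := by
  obtain ⟨U, V, a, b, h, u, hae, hbe, comm, hux, W', huW', hlqf, hlft⟩ := hf
  let T₀ : Over S := Over.mk str
  have hT₀ : IsAlgSpace ((yon S).obj T₀) := IsAlgSpace.yon_obj T₀
  have hT₀qc : IsQuasiCompactSp ((yon S).obj T₀) :=
    (Groth.Agent.Lib.AlgSpQC.isQuasiCompactSp_yon_iff T₀).2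
      (inferInstanceAs (CompactSpace ↥(Spec (CommRingCat.of K))))
  have hP : IsAlgSpace P := Groth.Agent.Lib.AlgSpFibre.isAlgSpace_of_isPullback hY.diag hX hT₀ sq
  -- `|P|` is a Noetherian space
  obtain ⟨T, p, hpe, hps, hTc⟩ := hft.2 hT₀ hT₀qc c pr1 pr2 sq
  have hlocP : LocP @LocallyOfFiniteType pr2 :=
    locP_of_isPullback etLocalClass_lft hX hY hT₀ sq hft.1
  obtain ⟨τ, hτ⟩ := (yon S).map_surjective (p ≫ pr2)
  haveI hτlft : LocallyOfFiniteType τ.left :=
    hlocP p (𝟙 _) τ hpe (Groth.Agent.Lib.AlgSpQC.repWith_id _ T₀) (by rw [hτ, Category.comp_id])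
  haveI : CompactSpace ↥T.left := hTc
  haveI hTN : NoetherianSpace ↥T.left :=
    noetherianSpace_of_lft_field (K := K) (T := T.left) τ.left
  haveI hPN : NoetherianSpace (Points P) :=
    noetherianSpace_of_surjective (Points.ofPt p) (Points.continuous_ofPt p)
      (Groth.Agent.Lib.AlgSpQC.surjective_ofPt_of_repWith_surjective hps)
  -- the discrete chart `Wk`
  let U' : Over S := opensOver U W'
  let ι' : U' ⟶ U := opensOverι U W'
  have ha'e : RepWith @Etale ((yon S).map ι' ≫ a) :=
    (RepWith @Etale).comp_mem _ _ (repWith_etale_opensOverι U W') hae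
  obtain ⟨Wk, q, wU, wV, hqe, e1, e2, sqW⟩ :=
    Groth.Agent.Lib.AlgSpFibre.exists_chart_of_isPullback @Etale hY.diag sq ((yon S).map ι' ≫ a)
      (𝟙 ((yon S).obj T₀)) ha'e (Groth.Agent.Lib.AlgSpQC.repWith_id _ T₀)
  rw [Category.comp_id] at e2
  rw [Category.id_comp] at sqW
  have hcomm' : ((yon S).map ι' ≫ a) ≫ f = (yon S).map (ι' ≫ h) ≫ b := by
    rw [Category.assoc, comm, Functor.map_comp, Category.assoc]
  -- `Vk`
  have sqV := hbe.rep.isPullback' c
  haveI hvKe : Etale (hbe.rep.snd c).left := hbe.property_snd c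
  have hlift : (yon S).map (wU ≫ ι' ≫ h) ≫ b = (yon S).map wV ≫ c := by
    rw [Functor.map_comp, Category.assoc, ← hcomm']; exact sqW.w
  set g := hbe.rep.lift' (wU ≫ ι' ≫ h) wV hlift with hg
  have hg1 : g ≫ hbe.rep.fst' c = wU ≫ ι' ≫ h := hbe.rep.lift'_fst _ _ _
  have hg2 : g ≫ hbe.rep.snd c = wV := hbe.rep.lift'_snd _ _ _
  have sqG : IsPullback ((yon S).map g) ((yon S).map wU) ((yon S).map (hbe.rep.fst' c))
      ((yon S).map (ι' ≫ h)) := by
    refine IsPullback.of_right ?_ ?_ sqV.flip
    · rw [← Functor.map_comp, hg2, ← hcomm']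
      exact sqW.flip
    · rw [← Functor.map_comp, ← Functor.map_comp, hg1]
  have hcommO : g ≫ hbe.rep.fst' c = wU ≫ (ι' ≫ h) := hg1
  have sqG' : IsPullback g wU (hbe.rep.fst' c) (ι' ≫ h) := IsPullback.of_map (yon S) hcommO sqG
  have sqG'' := sqG'.map (Over.forget S)
  have hlqf' : LocallyQuasiFinite ((Over.forget S).map (ι' ≫ h)) := hlqf
  have hlft' : LocallyOfFiniteType ((Over.forget S).map (ι' ≫ h)) := hlft
  haveI hglqf : LocallyQuasiFinite g.left :=
    MorphismProperty.of_isPullback (P := @LocallyQuasiFinite) sqG''.flip hlqf'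
  haveI hglft : LocallyOfFiniteType g.left :=
    MorphismProperty.of_isPullback (P := @LocallyOfFiniteType) sqG''.flip hlft'
  haveI : LocallyQuasiFinite (hbe.rep.snd c).left :=
    Groth.Agent.Lib.AlgSpBasic.locallyQuasiFinite_of_etale _
  have hwV : wV.left = g.left ≫ (hbe.rep.snd c).left := by rw [← Over.comp_left, hg2]
  haveI : LocallyQuasiFinite wV.left := by rw [hwV]; infer_instance
  haveI hWkd : DiscreteTopology ↥Wk.left := discreteTopology_of_lqf_field (K := K) wV.left
  -- the fibre is contained in the range of `ofPt q`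
  have sqQ : IsPullback q ((yon S).map wU) pr1 ((yon S).map ι' ≫ a) := by
    refine IsPullback.of_right ?_ e1 sq.flip
    rw [e2]
    exact sqW.flip
  have hsub : {w : Points P | Points.map pr1 w = x} ⊆ Set.range (Points.ofPt q) := by
    intro w' hw'
    have hxu : x = Points.map ((yon S).map ι' ≫ a) (Points.ofScheme U' ⟨u, huW'⟩) := by
      rw [← Points.ofPt_eq_map_ofScheme, Groth.Agent.Lib.H86AlgSpPoints.ofPt_map_comp]
      exact hux.symm
    obtain ⟨ω, -, hω2⟩ := Groth.Agent.Lib.AlgSpPoints.exists_point_of_isPullback sqQ.flip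
      (Points.ofScheme U' ⟨u, huW'⟩) w' (by rw [← hxu]; exact hw'.symm)
    refine ⟨Points.toScheme Wk ω, ?_⟩
    rw [Points.ofPt_eq_map_ofScheme, Points.ofScheme_toScheme]
    exact hω2
  have hdisc : IsDiscrete (Set.range (Points.ofPt q)) :=
    (Groth.Agent.Lib.AlgSpQC.isOpenMap_ofPt_of_repWith_etale hqe).isDiscrete_range
  exact ((NoetherianSpace.isCompact (Set.range (Points.ofPt q))).finite hdisc).subset hsub

end Groth.Agent.Lib.H86QFFibre
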