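import Groth.Agent.Lib.H86QFFibre

/-!
# Quasi-finite points in fibres: open points and finiteness

* `isOpen_singleton_of_quasiFiniteAt`: a point of `X ×_Y Spec K` over a point of `X` at which `f` is quasi-finite is an
  open point.
* `noetherianSpace_points_of_finiteType`: for `f` of finite type, `|X ×_Y Spec K|` is a Noetherian space.
* `finite_setOf_isOpen_singleton`: a Noetherian space has finitely many open points.
-/

set_option autoImplicit false
set_option linter.style.haveILetI false
universe u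
open CategoryTheory CategoryTheory.Limits AlgebraicGeometry TopologicalSpace
open AlgSp

namespace Groth.Agent.Lib.H86QFFibre2

open Groth.Agent.Lib.AlgSpLocP Groth.Agent.Lib.AlgSpAtPt Groth.Agent.Lib.H86QFFibre

variable {S : Scheme.{u}}

/-- A Noetherian space has finitely many open points. -/
theorem finite_setOf_isOpen_singleton {α : Type*} [TopologicalSpace α] [NoetherianSpace α] :
    {a : α | IsOpen ({a} : Set α)}.Finite := by
  refine (NoetherianSpace.isCompact _).finite ⟨?_⟩
  rw [discreteTopology_iff_isOpen_singleton]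
  rintro ⟨a, ha⟩
  have : ({⟨a, ha⟩} : Set {a : α | IsOpen ({a} : Set α)}) = Subtype.val ⁻¹' {a} := by
    ext ⟨b, hb⟩
    simp [Subtype.ext_iff]
  rw [this]
  exact (ha : IsOpen ({a} : Set α)).preimage continuous_subtype_val

set_option backward.isDefEq.respectTransparency false in
/-- For `f` of finite type, the space of points of `X ×_Y Spec K` is Noetherian. -/
theorem noetherianSpace_points_of_finiteType {X Y : Sp S} (hX : IsAlgSpace X) (hY : IsAlgSpace Y)
    (f : X ⟶ Y) (hft : IsFiniteTypeMor f)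
    {K : Type u} [Field K] (str : Spec (CommRingCat.of K) ⟶ S)
    (c : (yon S).obj (Over.mk str) ⟶ Y) {P : Sp S} (pr1 : P ⟶ X)
    (pr2 : P ⟶ (yon S).obj (Over.mk str)) (sq : IsPullback pr1 pr2 f c) :
    NoetherianSpace (Points P) := by
  let T₀ : Over S := Over.mk str
  have hT₀ : IsAlgSpace ((yon S).obj T₀) := IsAlgSpace.yon_obj T₀
  have hT₀qc : IsQuasiCompactSp ((yon S).obj T₀) :=
    (Groth.Agent.Lib.AlgSpQC.isQuasiCompactSp_yon_iff T₀).2
      (inferInstanceAs (CompactSpace ↥(Spec (CommRingCat.of K))))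
  obtain ⟨T, p, hpe, hps, hTc⟩ := hft.2 hT₀ hT₀qc c pr1 pr2 sq
  have hlocP : LocP @LocallyOfFiniteType pr2 :=
    locP_of_isPullback etLocalClass_lft hX hY hT₀ sq hft.1
  obtain ⟨τ, hτ⟩ := (yon S).map_surjective (p ≫ pr2)
  haveI hτlft : LocallyOfFiniteType τ.left :=
    hlocP p (𝟙 _) τ hpe (Groth.Agent.Lib.AlgSpQC.repWith_id _ T₀) (by rw [hτ, Category.comp_id])
  haveI : CompactSpace ↥T.left := hTc
  haveI hTN : NoetherianSpace ↥T.left :=
    noetherianSpace_of_lft_field (K := K) (T := T.left) τ.left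
  exact noetherianSpace_of_surjective (Points.ofPt p) (Points.continuous_ofPt p)
      (Groth.Agent.Lib.AlgSpQC.surjective_ofPt_of_repWith_surjective hps)

set_option backward.isDefEq.respectTransparency false in
/-- A point of `X ×_Y Spec K` over a point of `X` at which `f` is quasi-finite is an open point. -/
theorem isOpen_singleton_of_quasiFiniteAt {X Y : Sp S} (hY : IsAlgSpace Y) (f : X ⟶ Y)
    (x : Points X)
    (hf : HasAtMor (fun U _ h u => ∃ W : U.Opens, u ∈ W ∧ LocallyQuasiFinite (W.ι ≫ h) ∧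
      LocallyOfFiniteType (W.ι ≫ h)) f x)
    {K : Type u} [Field K] (str : Spec (CommRingCat.of K) ⟶ S)
    (c : (yon S).obj (Over.mk str) ⟶ Y) {P : Sp S} (pr1 : P ⟶ X)
    (pr2 : P ⟶ (yon S).obj (Over.mk str)) (sq : IsPullback pr1 pr2 f c)
    (w' : Points P) (hw' : Points.map pr1 w' = x) : IsOpen ({w'} : Set (Points P)) := by
  obtain ⟨U, V, a, b, h, u, hae, hbe, comm, hux, W', huW', hlqf, hlft⟩ := hf
  let T₀ : Over S := Over.mk str
  -- the discrete chart `Wk`
  let U' : Over S := opensOver U W'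
  let ι' : U' ⟶ U := opensOverι U W'
  have ha'e : RepWith @Etale ((yon S).map ι' ≫ a) :=
    (RepWith @Etale).comp_mem _ _ (repWith_etale_opensOverι U W') hae
  obtain ⟨Wk, q, wU, wV, hqe, e1, e2, sqW⟩ :=
    Groth.Agent.Lib.AlgSpFibre.exists_chart_of_isPullback @Etale hY.diag sq ((yon S).map ι' ≫ a)
      (𝟙 ((yon S).obj T₀)) ha'e (Groth.Agent.Lib.AlgSpQC.repWith_id _ T₀)
  rw [Category.comp_id] at e2
  rw [Category.id_comp] at sqW
  have hcomm' : ((yon S).map ι' ≫ a) ≫ f = (yon S).map (ι' ≫ h) ≫ b := by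
    rw [Category.assoc, comm, Functor.map_comp, Category.assoc]
  -- `Vk`
  have sqV := hbe.rep.isPullback' c
  haveI hvKe : Etale (hbe.rep.snd c).left := hbe.property_snd c
  have hlift : (yon S).map (wU ≫ ι' ≫ h) ≫ b = (yon S).map wV ≫ c := by
    rw [Functor.map_comp, Category.assoc, ← hcomm']; exact sqW.w
  set g := hbe.rep.lift' (wU ≫ ι' ≫ h) wV hlift with hg
  have hg1 : g ≫ hbe.rep.fst' c = wU ≫ ι' ≫ h := hbe.rep.lift'_fst _ _ _
  have hg2 : g ≫ hbe.rep.snd c = wV := hbe.rep.lift'_snd _ _ _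
  have sqG : IsPullback ((yon S).map g) ((yon S).map wU) ((yon S).map (hbe.rep.fst' c))
      ((yon S).map (ι' ≫ h)) := by
    refine IsPullback.of_right ?_ ?_ sqV.flip
    · rw [← Functor.map_comp, hg2, ← hcomm']
      exact sqW.flip
    · rw [← Functor.map_comp, ← Functor.map_comp, hg1]
  have hcommO : g ≫ hbe.rep.fst' c = wU ≫ (ι' ≫ h) := hg1
  have sqG' : IsPullback g wU (hbe.rep.fst' c) (ι' ≫ h) := IsPullback.of_map (yon S) hcommO sqG
  have sqG'' := sqG'.map (Over.forget S)
  have hlqf' : LocallyQuasiFinite ((Over.forget S).map (ι' ≫ h)) := hlqf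
  have hlft' : LocallyOfFiniteType ((Over.forget S).map (ι' ≫ h)) := hlft
  haveI hglqf : LocallyQuasiFinite g.left :=
    MorphismProperty.of_isPullback (P := @LocallyQuasiFinite) sqG''.flip hlqf'
  haveI hglft : LocallyOfFiniteType g.left :=
    MorphismProperty.of_isPullback (P := @LocallyOfFiniteType) sqG''.flip hlft'
  haveI : LocallyQuasiFinite (hbe.rep.snd c).left :=
    Groth.Agent.Lib.AlgSpBasic.locallyQuasiFinite_of_etale _
  have hwV : wV.left = g.left ≫ (hbe.rep.snd c).left := by rw [← Over.comp_left, hg2]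
  haveI : LocallyQuasiFinite wV.left := by rw [hwV]; infer_instance
  haveI hWkd : DiscreteTopology ↥Wk.left := discreteTopology_of_lqf_field (K := K) wV.left
  -- the fibre is contained in the range of `ofPt q`
  have sqQ : IsPullback q ((yon S).map wU) pr1 ((yon S).map ι' ≫ a) := by
    refine IsPullback.of_right ?_ e1 sq.flip
    rw [e2]
    exact sqW.flip
  have hxu : x = Points.map ((yon S).map ι' ≫ a) (Points.ofScheme U' ⟨u, huW'⟩) := by
    rw [← Points.ofPt_eq_map_ofScheme, Groth.Agent.Lib.H86AlgSpPoints.ofPt_map_comp]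
    exact hux.symm
  obtain ⟨ω, -, hω2⟩ := Groth.Agent.Lib.AlgSpPoints.exists_point_of_isPullback sqQ.flip
    (Points.ofScheme U' ⟨u, huW'⟩) w' (by rw [← hxu]; exact hw'.symm)
  have hw'eq : w' = Points.ofPt q (Points.toScheme Wk ω) := by
    rw [Points.ofPt_eq_map_ofScheme, Points.ofScheme_toScheme]
    exact hω2.symm
  have himg : ({w'} : Set (Points P)) = Points.ofPt q '' {Points.toScheme Wk ω} := by
    rw [Set.image_singleton, ← hw'eq]
  rw [himg]
  exact Groth.Agent.Lib.AlgSpQC.isOpenMap_ofPt_of_repWith_etale hqe _ (isOpen_discrete _)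

end Groth.Agent.Lib.H86QFFibre2
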