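import Groth.Prelude.Def_AlgSpRep
import Mathlib.CategoryTheory.Limits.Types.Filtered
import Mathlib.CategoryTheory.Limits.Types.Pullbacks
import Mathlib.CategoryTheory.Filtered.Final

/-!
# helper86: relatively limit preserving transformations of presheaves
-/

set_option autoImplicit false
set_option linter.style.haveILetI false
universe u
open CategoryTheory CategoryTheory.Limits AlgebraicGeometry Opposite

namespace Groth.Agent.Lib.H86RelLimPres
open AlgSp

variable {S : Scheme.{u}}

section Restrict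

variable {I : Type u} [SmallCategory I] (D : I ⥤ Over S) (c : Cone D) (i : I)

/-- The diagram `j ↦ (T_j → T_i)` over `T_i`, indexed by `Over i`. -/
def resDiagram : Over i ⥤ Over (D.obj i).left where
  obj j := Over.mk (D.map j.hom).left
  map {j k} φ := Over.homMk (D.map φ.left).left (by
    dsimp; rw [← Over.comp_left, ← D.map_comp, Over.w])
  map_id j := by
    ext
    change (D.map (𝟙 j.left)).left = 𝟙 _
    rw [D.map_id]; rfl
  map_comp φ ψ := by
    ext
    change (D.map (φ.left ≫ ψ.left)).left = (D.map φ.left).left ≫ (D.map ψ.left).left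
    rw [D.map_comp]; rfl

/-- The cone `T → T_i` over the restricted diagram. -/
def resCone : Cone (resDiagram D i) where
  pt := Over.mk (c.π.app i).left
  π :=
    { app := fun j => Over.homMk (c.π.app j.left).left (by
        dsimp [resDiagram]; rw [← Over.comp_left, c.w])
      naturality := fun j k φ => by
        ext
        change (𝟙 _ : c.pt.left ⟶ c.pt.left) ≫ (c.π.app k.left).left =
          (c.π.app j.left).left ≫ (D.map φ.left).left
        rw [Category.id_comp, ← Over.comp_left, c.w] }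

/-- The restricted cone is still a limit cone of schemes. -/
noncomputable def isLimitResCone [IsCofiltered I] (hc : IsLimit ((Over.forget S).mapCone c)) :
    IsLimit ((Over.forget (D.obj i).left).mapCone (resCone D c i)) := by
  have hc' : IsLimit (((Over.forget S).mapCone c).whisker (Over.forget i)) :=
    (Functor.Initial.isLimitWhiskerEquiv (Over.forget i) _).symm hc
  exact hc'

/-- `T_j`, viewed over `T_i` and then over `S` again, is `T_j`. -/
def liftIso (j : Over i) :
    (Over.map (D.obj i).hom).obj ((resDiagram D i).obj j) ≅ D.obj j.left :=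
  Over.isoMk (Iso.refl _) (by
    change 𝟙 _ ≫ (D.obj j.left).hom = (D.map j.hom).left ≫ (D.obj i).hom
    rw [Category.id_comp, Over.w])

/-- `T`, viewed over `T_i` and then over `S` again, is `T`. -/
def liftIsoPt : (Over.map (D.obj i).hom).obj (resCone D c i).pt ≅ c.pt :=
  Over.isoMk (Iso.refl _) (by
    change 𝟙 _ ≫ c.pt.hom = (c.π.app i).left ≫ (D.obj i).hom
    rw [Category.id_comp, Over.w]; rfl)

theorem liftIso_inv_overHom (j : Over i) :
    (liftIso D i j).inv ≫ overHom (D.obj i) ((resDiagram D i).obj j) = D.map j.hom := by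
  ext
  change 𝟙 _ ≫ (D.map j.hom).left = _
  rw [Category.id_comp]

theorem liftIsoPt_hom_π : (liftIsoPt D c i).hom ≫ c.π.app i = overHom (D.obj i) (resCone D c i).pt := by
  ext
  change 𝟙 _ ≫ (c.π.app i).left = (c.π.app i).left
  rw [Category.id_comp]

theorem liftIsoPt_hom_π_liftIso_inv (j : Over i) :
    (liftIsoPt D c i).hom ≫ c.π.app j.left ≫ (liftIso D i j).inv =
      (Over.map (D.obj i).hom).map ((resCone D c i).π.app j) := by
  ext
  change 𝟙 _ ≫ (c.π.app j.left).left ≫ 𝟙 _ = (c.π.app j.left).left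
  rw [Category.id_comp, Category.comp_id]

theorem liftIso_inv_map_liftIso_hom {k j : Over i} (φ : k ⟶ j) :
    (liftIso D i k).inv ≫ (Over.map (D.obj i).hom).map ((resDiagram D i).map φ) ≫
      (liftIso D i j).hom = D.map φ.left := by
  ext
  change 𝟙 _ ≫ (D.map φ.left).left ≫ 𝟙 _ = (D.map φ.left).left
  rw [Category.id_comp, Category.comp_id]

theorem overHom_resDiagram_id :
    overHom (D.obj i) ((resDiagram D i).obj (Over.mk (𝟙 i))) = (liftIso D i (Over.mk (𝟙 i))).hom := by
  ext
  change (D.map (𝟙 i)).left = 𝟙 _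
  rw [D.map_id]; rfl

theorem map_resCone_liftIso_hom (j : Over i) :
    (Over.map (D.obj i).hom).map ((resCone D c i).π.app j) ≫ (liftIso D i j).hom =
      (liftIsoPt D c i).hom ≫ c.π.app j.left := by
  rw [← liftIsoPt_hom_π_liftIso_inv, Category.assoc, Category.assoc, Iso.inv_hom_id,
    Category.comp_id]

end Restrict

section Elem

variable {F G : PSp S}

theorem map_map_apply (F : PSp S) {X Y Z : Over S} (f : X ⟶ Y) (g : Y ⟶ Z) (x : F.obj (op Z)) :
    F.map f.op (F.map g.op x) = F.map (f ≫ g).op x := by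
  rw [op_comp, Functor.map_comp_apply]

theorem map_id_apply' (F : PSp S) {X : Over S} (x : F.obj (op X)) :
    F.map (𝟙 X).op x = x := by
  rw [op_id, Functor.map_id_apply]

theorem nat_apply (a : F ⟶ G) {X Y : Over S} (f : X ⟶ Y) (x : F.obj (op Y)) :
    a.app (op X) (F.map f.op x) = G.map f.op (a.app (op Y) x) :=
  NatTrans.naturality_apply a f.op x

/-- Elementwise surjectivity for a relatively limit preserving map. -/
theorem exists_lift_of_isRelLimitPreserving {a : F ⟶ G} (ha : IsRelLimitPreserving a)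
    {I : Type u} [SmallCategory I] [IsCofiltered I] (D : I ⥤ Over S) (c : Cone D)
    (hc : IsLimit ((Over.forget S).mapCone c)) (hD : ∀ i, IsAffine (D.obj i).left)
    (hT : IsAffine c.pt.left) (i : I) (y : G.obj (op (D.obj i))) (x : F.obj (op c.pt))
    (hx : a.app _ x = G.map (c.π.app i).op y) :
    ∃ (j : Over i) (xj : F.obj (op (D.obj j.left))),
      a.app _ xj = G.map (D.map j.hom).op y ∧ F.map (c.π.app j.left).op xj = x := by
  obtain ⟨hcol⟩ := ha (D.obj i) y (resDiagram D i) (resCone D c i) (isLimitResCone D c i hc)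
    (fun j => hD j.left) hT
  let x' : (fiberFun a (D.obj i) y).obj (op (resCone D c i).pt) :=
    ⟨F.map (liftIsoPt D c i).hom.op x, by
      rw [nat_apply, hx, map_map_apply, liftIsoPt_hom_π]⟩
  obtain ⟨⟨j⟩, xj0, hxj⟩ := Types.jointly_surjective_of_isColimit hcol x'
  let xj : (fiberFun a (D.obj i) y).obj (op ((resDiagram D i).obj j)) := xj0
  have hxj2 : a.app _ xj.1 = G.map (overHom (D.obj i) ((resDiagram D i).obj j)).op y := xj.2
  have h1 : F.map ((Over.map (D.obj i).hom).map ((resCone D c i).π.app j)).op xj.1 =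
      F.map (liftIsoPt D c i).hom.op x := congrArg Subtype.val hxj
  refine ⟨j, F.map (liftIso D i j).inv.op xj.1, ?_, ?_⟩
  · rw [nat_apply, hxj2, map_map_apply, liftIso_inv_overHom]
  · rw [← liftIsoPt_hom_π_liftIso_inv] at h1
    have h2 := congrArg (F.map (liftIsoPt D c i).inv.op) h1
    rw [map_map_apply, map_map_apply, Iso.inv_hom_id_assoc, Iso.inv_hom_id, map_id_apply'] at h2
    rw [map_map_apply]
    exact h2

/-- Elementwise injectivity for a relatively limit preserving map. -/
theorem exists_eq_of_isRelLimitPreserving {a : F ⟶ G} (ha : IsRelLimitPreserving a)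
    {I : Type u} [SmallCategory I] [IsCofiltered I] (D : I ⥤ Over S) (c : Cone D)
    (hc : IsLimit ((Over.forget S).mapCone c)) (hD : ∀ i, IsAffine (D.obj i).left)
    (hT : IsAffine c.pt.left) (i : I) (x₁ x₂ : F.obj (op (D.obj i)))
    (h1 : a.app _ x₁ = a.app _ x₂)
    (h2 : F.map (c.π.app i).op x₁ = F.map (c.π.app i).op x₂) :
    ∃ j : Over i, F.map (D.map j.hom).op x₁ = F.map (D.map j.hom).op x₂ := by
  obtain ⟨hcol⟩ := ha (D.obj i) (a.app _ x₁) (resDiagram D i) (resCone D c i)
    (isLimitResCone D c i hc) (fun j => hD j.left) hT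
  let j₀ : Over i := Over.mk (𝟙 i)
  let ξ₁ : (fiberFun a (D.obj i) (a.app _ x₁)).obj (op ((resDiagram D i).obj j₀)) :=
    ⟨F.map (liftIso D i j₀).hom.op x₁, by rw [nat_apply, overHom_resDiagram_id]; rfl⟩
  let ξ₂ : (fiberFun a (D.obj i) (a.app _ x₁)).obj (op ((resDiagram D i).obj j₀)) :=
    ⟨F.map (liftIso D i j₀).hom.op x₂, by rw [nat_apply, overHom_resDiagram_id, h1]; rfl⟩
  have heq : (Functor.mapCocone (fiberFun a (D.obj i) (a.app _ x₁)) (resCone D c i).op).ι.app (op j₀) ξ₁ =
      (Functor.mapCocone (fiberFun a (D.obj i) (a.app _ x₁)) (resCone D c i).op).ι.app (op j₀) ξ₂ := by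
    apply Subtype.ext
    change F.map ((Over.map (D.obj i).hom).map ((resCone D c i).π.app j₀)).op
        (F.map (liftIso D i j₀).hom.op x₁) =
      F.map ((Over.map (D.obj i).hom).map ((resCone D c i).π.app j₀)).op
        (F.map (liftIso D i j₀).hom.op x₂)
    rw [map_map_apply, map_map_apply, map_resCone_liftIso_hom, ← map_map_apply, ← map_map_apply]
    exact congrArg _ h2
  obtain ⟨⟨l⟩, f, hf⟩ := (Types.FilteredColimit.isColimit_eq_iff' hcol ξ₁ ξ₂).1 heq
  refine ⟨l, ?_⟩
  have hf' : F.map ((Over.map (D.obj i).hom).map ((resDiagram D i).map f.unop)).op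
        (F.map (liftIso D i j₀).hom.op x₁) =
      F.map ((Over.map (D.obj i).hom).map ((resDiagram D i).map f.unop)).op
        (F.map (liftIso D i j₀).hom.op x₂) := congrArg Subtype.val hf
  have h3 := congrArg (F.map (liftIso D i l).inv.op) hf'
  have key := liftIso_inv_map_liftIso_hom D i (k := l) (j := j₀) f.unop
  rw [map_map_apply, map_map_apply, map_map_apply, map_map_apply, Category.assoc, key] at h3
  have h4 : f.unop.left = l.hom := by
    have := Over.w f.unop
    rw [← this]
    exact (Category.comp_id _).symm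
  rw [h4] at h3
  exact h3

/-- Elementwise surjectivity condition for `a : F ⟶ G`. -/
def ElemSurj (a : F ⟶ G) : Prop :=
  ∀ ⦃I : Type u⦄ [SmallCategory I] [IsCofiltered I] (D : I ⥤ Over S) (c : Cone D),
    IsLimit ((Over.forget S).mapCone c) → (∀ i, IsAffine (D.obj i).left) → IsAffine c.pt.left →
    ∀ (i : I) (y : G.obj (op (D.obj i))) (x : F.obj (op c.pt)),
      a.app _ x = G.map (c.π.app i).op y →
      ∃ (j : Over i) (xj : F.obj (op (D.obj j.left))),
        a.app _ xj = G.map (D.map j.hom).op y ∧ F.map (c.π.app j.left).op xj = x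

/-- Elementwise injectivity condition for `a : F ⟶ G`. -/
def ElemInj (a : F ⟶ G) : Prop :=
  ∀ ⦃I : Type u⦄ [SmallCategory I] [IsCofiltered I] (D : I ⥤ Over S) (c : Cone D),
    IsLimit ((Over.forget S).mapCone c) → (∀ i, IsAffine (D.obj i).left) → IsAffine c.pt.left →
    ∀ (i : I) (x₁ x₂ : F.obj (op (D.obj i))),
      a.app _ x₁ = a.app _ x₂ → F.map (c.π.app i).op x₁ = F.map (c.π.app i).op x₂ →
      ∃ j : Over i, F.map (D.map j.hom).op x₁ = F.map (D.map j.hom).op x₂

theorem elemSurj_of_isRelLimitPreserving {a : F ⟶ G} (ha : IsRelLimitPreserving a) : ElemSurj a :=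
  fun _ _ _ D c hc hD hT i y x hx => exists_lift_of_isRelLimitPreserving ha D c hc hD hT i y x hx

theorem elemInj_of_isRelLimitPreserving {a : F ⟶ G} (ha : IsRelLimitPreserving a) : ElemInj a :=
  fun _ _ _ D c hc hD hT i x₁ x₂ h1 h2 => exists_eq_of_isRelLimitPreserving ha D c hc hD hT i x₁ x₂ h1 h2

/-- The elementwise conditions imply relative limit preservation. -/
theorem isRelLimitPreserving_of_elem {a : F ⟶ G} (hs : ElemSurj a) (hi : ElemInj a) :
    IsRelLimitPreserving a := by
  intro T₀ y I _ _ D c hc hD hT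
  let D' : I ⥤ Over S := D ⋙ Over.map T₀.hom
  let c' : Cone D' := (Over.map T₀.hom).mapCone c
  have hc' : IsLimit ((Over.forget S).mapCone c') := hc
  have hD' : ∀ i, IsAffine (D'.obj i).left := hD
  have hT' : IsAffine c'.pt.left := hT
  have hy : ∀ {i j : I} (φ : i ⟶ j),
      G.map (D'.map φ).op (G.map (overHom T₀ (D.obj j)).op y) = G.map (overHom T₀ (D.obj i)).op y := by
    intro i j φ
    rw [map_map_apply]
    exact congrArg (fun t => G.map t.op y) (map_comp_overHom T₀ (D.map φ))
  have hyc : ∀ (i : I),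
      G.map (c'.π.app i).op (G.map (overHom T₀ (D.obj i)).op y) = G.map (overHom T₀ c.pt).op y := by
    intro i
    rw [map_map_apply]
    exact congrArg (fun t => G.map t.op y) (map_comp_overHom T₀ (c.π.app i))
  refine ⟨Types.FilteredColimit.isColimitOf _ _ ?_ ?_⟩
  · intro x
    let x0 : (fiberFun a T₀ y).obj (op c.pt) := x
    let i₀ : I := (IsCofiltered.nonempty (C := I)).some
    have hx : a.app _ x0.1 = G.map (c'.π.app i₀).op (G.map (overHom T₀ (D.obj i₀)).op y) := by
      rw [hyc]; exact x0.2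
    obtain ⟨j, xj, hxj1, hxj2⟩ := hs D' c' hc' hD' hT' i₀ _ x0.1 hx
    rw [hy] at hxj1
    refine ⟨op j.left, (⟨xj, hxj1⟩ : (fiberFun a T₀ y).obj (op (D.obj j.left))), ?_⟩
    apply Subtype.ext
    exact hxj2.symm
  · intro i j xi0 xj0 heq
    let xi : (fiberFun a T₀ y).obj (op (D.obj i.unop)) := xi0
    let xj : (fiberFun a T₀ y).obj (op (D.obj j.unop)) := xj0
    let xi1 : F.obj (op (D'.obj i.unop)) := xi.1
    let xj1 : F.obj (op (D'.obj j.unop)) := xj.1
    have hxi2 : a.app (op (D'.obj i.unop)) xi1 = G.map (overHom T₀ (D.obj i.unop)).op y := xi.2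
    have hxj2 : a.app (op (D'.obj j.unop)) xj1 = G.map (overHom T₀ (D.obj j.unop)).op y := xj.2
    have heq' : F.map (c'.π.app i.unop).op xi1 = F.map (c'.π.app j.unop).op xj1 :=
      congrArg Subtype.val heq
    let k₀ : I := IsCofiltered.min i.unop j.unop
    let f₀ : k₀ ⟶ i.unop := IsCofiltered.minToLeft _ _
    let g₀ : k₀ ⟶ j.unop := IsCofiltered.minToRight _ _
    have e1 : a.app _ (F.map (D'.map f₀).op xi1) = a.app _ (F.map (D'.map g₀).op xj1) := by
      rw [nat_apply, nat_apply, hxi2, hxj2, hy, hy]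
    have e2 : F.map (c'.π.app k₀).op (F.map (D'.map f₀).op xi1) =
        F.map (c'.π.app k₀).op (F.map (D'.map g₀).op xj1) := by
      rw [map_map_apply, map_map_apply, c'.w, c'.w]
      exact heq'
    obtain ⟨l, hl⟩ := hi D' c' hc' hD' hT' k₀ _ _ e1 e2
    refine ⟨op l.left, (l.hom ≫ f₀).op, (l.hom ≫ g₀).op, ?_⟩
    apply Subtype.ext
    change F.map (D'.map (l.hom ≫ f₀)).op xi1 = F.map (D'.map (l.hom ≫ g₀)).op xj1
    rw [D'.map_comp, D'.map_comp, ← map_map_apply, ← map_map_apply]
    exact hl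

section Comp

variable {H : PSp S}

theorem comp_app_apply (a : F ⟶ G) (b : G ⟶ H) (X : (Over S)ᵒᵖ) (x : F.obj X) :
    (a ≫ b).app X x = b.app X (a.app X x) := rfl

theorem elemSurj_comp {a : F ⟶ G} {b : G ⟶ H} (hsa : ElemSurj a) (hsb : ElemSurj b) :
    ElemSurj (a ≫ b) := by
  intro I _ _ D c hc hD hT i z x hx
  rw [comp_app_apply] at hx
  obtain ⟨j, yj, hyj1, hyj2⟩ := hsb D c hc hD hT i z (a.app _ x) hx
  obtain ⟨k, xk, hxk1, hxk2⟩ := hsa D c hc hD hT j.left yj x hyj2.symm
  refine ⟨Over.mk (k.hom ≫ j.hom), xk, ?_, hxk2⟩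
  change b.app _ (a.app (op (D.obj k.left)) xk) = H.map (D.map (k.hom ≫ j.hom)).op z
  rw [hxk1, nat_apply, hyj1, map_map_apply, ← D.map_comp]

theorem elemInj_comp {a : F ⟶ G} {b : G ⟶ H} (hia : ElemInj a) (hib : ElemInj b) :
    ElemInj (a ≫ b) := by
  intro I _ _ D c hc hD hT i x₁ x₂ h1 h2
  rw [comp_app_apply, comp_app_apply] at h1
  have h3 : G.map (c.π.app i).op (a.app _ x₁) = G.map (c.π.app i).op (a.app _ x₂) := by
    have e1 : G.map (c.π.app i).op (a.app _ x₁) = a.app (op c.pt) (F.map (c.π.app i).op x₁) :=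
      (nat_apply a (c.π.app i) x₁).symm
    have e2 : G.map (c.π.app i).op (a.app _ x₂) = a.app (op c.pt) (F.map (c.π.app i).op x₂) :=
      (nat_apply a (c.π.app i) x₂).symm
    rw [e1, e2, h2]
  obtain ⟨j, hj⟩ := hib D c hc hD hT i _ _ h1 h3
  have h4 : a.app _ (F.map (D.map j.hom).op x₁) = a.app _ (F.map (D.map j.hom).op x₂) := by
    rw [nat_apply, nat_apply, hj]
  have h5 : F.map (c.π.app j.left).op (F.map (D.map j.hom).op x₁) =
      F.map (c.π.app j.left).op (F.map (D.map j.hom).op x₂) := by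
    rw [map_map_apply, map_map_apply, c.w]
    exact h2
  obtain ⟨k, hk⟩ := hia D c hc hD hT j.left _ _ h4 h5
  refine ⟨Over.mk (k.hom ≫ j.hom), ?_⟩
  rw [map_map_apply, map_map_apply, ← D.map_comp] at hk
  exact hk

theorem elemSurj_of_comp {a : F ⟶ G} {b : G ⟶ H} (hsab : ElemSurj (a ≫ b)) (hib : ElemInj b) :
    ElemSurj a := by
  intro I _ _ D c hc hD hT i y x hx
  have hx' : (a ≫ b).app _ x = H.map (c.π.app i).op (b.app _ y) := by
    rw [comp_app_apply, hx, nat_apply]
  obtain ⟨j, xj, hxj1, hxj2⟩ := hsab D c hc hD hT i (b.app _ y) x hx'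
  rw [comp_app_apply] at hxj1
  have h1 : b.app _ (a.app _ xj) = b.app _ (G.map (D.map j.hom).op y) := by
    rw [hxj1, nat_apply]
  have h2 : G.map (c.π.app j.left).op (a.app _ xj) =
      G.map (c.π.app j.left).op (G.map (D.map j.hom).op y) := by
    have e : G.map (c.π.app j.left).op (a.app _ xj) =
        a.app (op c.pt) (F.map (c.π.app j.left).op xj) := (nat_apply a (c.π.app j.left) xj).symm
    rw [e, hxj2, hx, map_map_apply, c.w]
  obtain ⟨k, hk⟩ := hib D c hc hD hT j.left _ _ h1 h2
  refine ⟨Over.mk (k.hom ≫ j.hom), F.map (D.map k.hom).op xj, ?_, ?_⟩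
  · change a.app _ (F.map (D.map k.hom).op xj) = G.map (D.map (k.hom ≫ j.hom)).op y
    rw [nat_apply, hk, map_map_apply, ← D.map_comp]
  · change F.map (c.π.app k.left).op (F.map (D.map k.hom).op xj) = x
    rw [map_map_apply, c.w]
    exact hxj2

theorem elemInj_of_comp {a : F ⟶ G} {b : G ⟶ H} (hiab : ElemInj (a ≫ b)) : ElemInj a := by
  intro I _ _ D c hc hD hT i x₁ x₂ h1 h2
  exact hiab D c hc hD hT i x₁ x₂ (by rw [comp_app_apply, comp_app_apply, h1]) h2

theorem isRelLimitPreserving_comp {a : F ⟶ G} {b : G ⟶ H} (ha : IsRelLimitPreserving a)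
    (hb : IsRelLimitPreserving b) : IsRelLimitPreserving (a ≫ b) :=
  isRelLimitPreserving_of_elem
    (elemSurj_comp (elemSurj_of_isRelLimitPreserving ha) (elemSurj_of_isRelLimitPreserving hb))
    (elemInj_comp (elemInj_of_isRelLimitPreserving ha) (elemInj_of_isRelLimitPreserving hb))

theorem isRelLimitPreserving_of_comp {a : F ⟶ G} {b : G ⟶ H}
    (hab : IsRelLimitPreserving (a ≫ b)) (hb : IsRelLimitPreserving b) :
    IsRelLimitPreserving a :=
  isRelLimitPreserving_of_elem
    (elemSurj_of_comp (elemSurj_of_isRelLimitPreserving hab) (elemInj_of_isRelLimitPreserving hb))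
    (elemInj_of_comp (elemInj_of_isRelLimitPreserving hab))

end Comp

end Elem

end Groth.Agent.Lib.H86RelLimPres
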