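import Groth.Agent.Lib.H86RelLimPres

/-!
# helper86: relatively limit preserving transformations, part 2 (fibre products; cartesian squares)
-/

set_option autoImplicit false
set_option linter.style.haveILetI false
universe u
open CategoryTheory CategoryTheory.Limits AlgebraicGeometry Opposite

namespace Groth.Agent.Lib.H86RelLimPres
open AlgSp

variable {S : Scheme.{u}}

section Pullback

variable {F G H P : PSp S} {a : F ⟶ G} {b : H ⟶ G} {fst : P ⟶ F} {snd : P ⟶ H}

theorem isPullback_app (hP : IsPullback fst snd a b) (X : (Over S)ᵒᵖ) :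
    IsPullback (fst.app X) (snd.app X) (a.app X) (b.app X) :=
  hP.map ((evaluation _ _).obj X)

theorem elemSurj_fst_comp (hP : IsPullback fst snd a b) (hsa : ElemSurj a) (hsb : ElemSurj b) :
    ElemSurj (fst ≫ a) := by
  intro I _ _ D c hc hD hT i y w hw
  rw [comp_app_apply] at hw
  have hw' : b.app _ (snd.app _ w) = G.map (c.π.app i).op y := by
    rw [← hw]
    exact (ConcreteCategory.congr_hom (isPullback_app hP (op c.pt)).w w).symm
  obtain ⟨j₁, x₁, hx1, hx2⟩ := hsa D c hc hD hT i y _ hw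
  obtain ⟨j₂, h₂, hh1, hh2⟩ := hsb D c hc hD hT i y _ hw'
  let k : Over i := IsCofiltered.min j₁ j₂
  let f₁ : k ⟶ j₁ := IsCofiltered.minToLeft _ _
  let f₂ : k ⟶ j₂ := IsCofiltered.minToRight _ _
  have hk1 : f₁.left ≫ j₁.hom = k.hom := Over.w f₁
  have hk2 : f₂.left ≫ j₂.hom = k.hom := Over.w f₂
  have e1 : a.app _ (F.map (D.map f₁.left).op x₁) = G.map (D.map k.hom).op y := by
    rw [nat_apply, hx1, map_map_apply, ← D.map_comp, hk1]
  have e2 : b.app _ (H.map (D.map f₂.left).op h₂) = G.map (D.map k.hom).op y := by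
    rw [nat_apply, hh1, map_map_apply, ← D.map_comp, hk2]
  obtain ⟨wk, hwk1, hwk2⟩ := Types.exists_of_isPullback (isPullback_app hP (op (D.obj k.left)))
    (F.map (D.map f₁.left).op x₁) (H.map (D.map f₂.left).op h₂) (e1.trans e2.symm)
  refine ⟨k, wk, ?_, ?_⟩
  · rw [comp_app_apply, hwk1, e1]
  · apply Types.ext_of_isPullback (isPullback_app hP (op c.pt))
    · have := nat_apply fst (c.π.app k.left) wk
      refine this.trans ?_
      rw [hwk1, map_map_apply, c.w]
      exact hx2
    · have := nat_apply snd (c.π.app k.left) wk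
      refine this.trans ?_
      rw [hwk2, map_map_apply, c.w]
      exact hh2

theorem elemInj_fst_comp (hP : IsPullback fst snd a b) (hia : ElemInj a) (hib : ElemInj b) :
    ElemInj (fst ≫ a) := by
  intro I _ _ D c hc hD hT i w₁ w₂ h1 h2
  rw [comp_app_apply, comp_app_apply] at h1
  have hb1 : b.app _ (snd.app _ w₁) = b.app _ (snd.app _ w₂) := by
    have e1 := ConcreteCategory.congr_hom (isPullback_app hP (op (D.obj i))).w w₁
    have e2 := ConcreteCategory.congr_hom (isPullback_app hP (op (D.obj i))).w w₂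
    exact e1.symm.trans (h1.trans e2)
  have hF : F.map (c.π.app i).op (fst.app _ w₁) = F.map (c.π.app i).op (fst.app _ w₂) := by
    have e1 := nat_apply fst (c.π.app i) w₁
    have e2 := nat_apply fst (c.π.app i) w₂
    rw [← e1, ← e2, h2]
  have hH : H.map (c.π.app i).op (snd.app _ w₁) = H.map (c.π.app i).op (snd.app _ w₂) := by
    have e1 := nat_apply snd (c.π.app i) w₁
    have e2 := nat_apply snd (c.π.app i) w₂
    rw [← e1, ← e2, h2]
  obtain ⟨j₁, hj1⟩ := hia D c hc hD hT i _ _ h1 hF
  obtain ⟨j₂, hj2⟩ := hib D c hc hD hT i _ _ hb1 hH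
  let k : Over i := IsCofiltered.min j₁ j₂
  let f₁ : k ⟶ j₁ := IsCofiltered.minToLeft _ _
  let f₂ : k ⟶ j₂ := IsCofiltered.minToRight _ _
  have hk1 : f₁.left ≫ j₁.hom = k.hom := Over.w f₁
  have hk2 : f₂.left ≫ j₂.hom = k.hom := Over.w f₂
  refine ⟨k, ?_⟩
  apply Types.ext_of_isPullback (isPullback_app hP (op (D.obj k.left)))
  · have e1 := nat_apply fst (D.map k.hom) w₁
    have e2 := nat_apply fst (D.map k.hom) w₂
    refine e1.trans (Eq.trans ?_ e2.symm)
    rw [← hk1, D.map_comp, ← map_map_apply, ← map_map_apply, hj1]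
  · have e1 := nat_apply snd (D.map k.hom) w₁
    have e2 := nat_apply snd (D.map k.hom) w₂
    refine e1.trans (Eq.trans ?_ e2.symm)
    rw [← hk2, D.map_comp, ← map_map_apply, ← map_map_apply, hj2]

/-- The fibre product of relatively limit preserving maps over a base `E`. -/
theorem isRelLimitPreserving_fst_comp {E : PSp S} (c : G ⟶ E) (hP : IsPullback fst snd a b)
    (hc : IsRelLimitPreserving c) (hac : IsRelLimitPreserving (a ≫ c))
    (hbc : IsRelLimitPreserving (b ≫ c)) : IsRelLimitPreserving (fst ≫ a ≫ c) := by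
  have hsa : ElemSurj a := elemSurj_of_comp (elemSurj_of_isRelLimitPreserving hac)
    (elemInj_of_isRelLimitPreserving hc)
  have hia : ElemInj a := elemInj_of_comp (elemInj_of_isRelLimitPreserving hac)
  have hsb : ElemSurj b := elemSurj_of_comp (elemSurj_of_isRelLimitPreserving hbc)
    (elemInj_of_isRelLimitPreserving hc)
  have hib : ElemInj b := elemInj_of_comp (elemInj_of_isRelLimitPreserving hbc)
  rw [← Category.assoc]
  exact isRelLimitPreserving_of_elem
    (elemSurj_comp (elemSurj_fst_comp hP hsa hsb) (elemSurj_of_isRelLimitPreserving hc))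
    (elemInj_comp (elemInj_fst_comp hP hia hib) (elemInj_of_isRelLimitPreserving hc))

end Pullback

section Square

variable {F G : PSp S} (a : F ⟶ G)

variable {I : Type u} [SmallCategory I] (D : I ⥤ Over S) (c : Cone D)

theorem colimMap_ι_apply (i : Iᵒᵖ) (x : (D.op ⋙ F).obj i) :
    colimMap (Functor.whiskerLeft D.op a) (colimit.ι (D.op ⋙ F) i x) =
      colimit.ι (D.op ⋙ G) i (a.app _ x) :=
  ConcreteCategory.congr_hom (ι_colimMap (Functor.whiskerLeft D.op a) i) x

theorem desc_ι_apply (F : PSp S) (i : Iᵒᵖ) (x : (D.op ⋙ F).obj i) :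
    colimit.desc (D.op ⋙ F) (F.mapCocone c.op) (colimit.ι (D.op ⋙ F) i x) =
      F.map (c.π.app i.unop).op x :=
  ConcreteCategory.congr_hom (colimit.ι_desc (F.mapCocone c.op) i) x

theorem ι_map_apply (F : PSp S) {i j : Iᵒᵖ} (f : i ⟶ j) (x : (D.op ⋙ F).obj i) :
    colimit.ι (D.op ⋙ F) j (F.map (D.map f.unop).op x) = colimit.ι (D.op ⋙ F) i x :=
  ConcreteCategory.congr_hom (colimit.w (D.op ⋙ F) f) x

theorem square_w :
    colimMap (Functor.whiskerLeft D.op a) ≫ colimit.desc (D.op ⋙ G) (G.mapCocone c.op) =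
      colimit.desc (D.op ⋙ F) (F.mapCocone c.op) ≫ a.app (op c.pt) := by
  apply colimit.hom_ext
  intro i
  rw [ι_colimMap_assoc, colimit.ι_desc, colimit.ι_desc_assoc]
  exact (a.naturality (c.π.app i.unop).op).symm

variable [IsCofiltered I]

theorem isPullback_of_elem (hs : ElemSurj a) (hi : ElemInj a)
    (hc : IsLimit ((Over.forget S).mapCone c)) (hD : ∀ i, IsAffine (D.obj i).left)
    (hT : IsAffine c.pt.left) :
    IsPullback (colimMap (Functor.whiskerLeft D.op a)) (colimit.desc (D.op ⋙ F) (F.mapCocone c.op))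
      (colimit.desc (D.op ⋙ G) (G.mapCocone c.op)) (a.app (op c.pt)) := by
  rw [Types.isPullback_iff]
  refine ⟨square_w a D c, ?_, ?_⟩
  · rintro z₁ z₂ ⟨h1, h2⟩
    obtain ⟨⟨j⟩, x₁', x₂', rfl, rfl⟩ :=
      Types.FilteredColimit.jointly_surjective_of_isColimit₂ (colimit.isColimit (D.op ⋙ F)) z₁ z₂
    change colimMap (Functor.whiskerLeft D.op a) (colimit.ι (D.op ⋙ F) (op j) x₁') =
      colimMap (Functor.whiskerLeft D.op a) (colimit.ι (D.op ⋙ F) (op j) x₂') at h1
    change colimit.desc (D.op ⋙ F) (F.mapCocone c.op) (colimit.ι (D.op ⋙ F) (op j) x₁') =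
      colimit.desc (D.op ⋙ F) (F.mapCocone c.op) (colimit.ι (D.op ⋙ F) (op j) x₂') at h2
    change colimit.ι (D.op ⋙ F) (op j) x₁' = colimit.ι (D.op ⋙ F) (op j) x₂'
    rw [colimMap_ι_apply, colimMap_ι_apply] at h1
    rw [desc_ι_apply, desc_ι_apply] at h2
    obtain ⟨⟨k⟩, f, hf⟩ := (Types.FilteredColimit.isColimit_eq_iff' (colimit.isColimit (D.op ⋙ G))
      _ _).1 h1
    let x₁ : F.obj (op (D.obj k)) := F.map (D.map f.unop).op x₁'
    let x₂ : F.obj (op (D.obj k)) := F.map (D.map f.unop).op x₂'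
    have e1 : a.app _ x₁ = a.app _ x₂ := by
      have := nat_apply a (D.map f.unop) x₁'
      rw [nat_apply a (D.map f.unop) x₁', nat_apply a (D.map f.unop) x₂']
      exact hf
    have e2 : F.map (c.π.app k).op x₁ = F.map (c.π.app k).op x₂ := by
      change F.map (c.π.app k).op (F.map (D.map f.unop).op x₁') =
        F.map (c.π.app k).op (F.map (D.map f.unop).op x₂')
      rw [map_map_apply, map_map_apply, c.w]
      exact h2
    obtain ⟨l, hl⟩ := hi D c hc hD hT k x₁ x₂ e1 e2
    rw [← ι_map_apply D F f x₁', ← ι_map_apply D F f x₂',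
      ← ι_map_apply D F (i := op k) (j := op l.left) l.hom.op, ← ι_map_apply D F (i := op k)
        (j := op l.left) l.hom.op (F.map (D.map f.unop).op x₂')]
    exact congrArg _ hl
  · intro g x hgx
    obtain ⟨⟨i⟩, y, rfl⟩ := Types.jointly_surjective_of_isColimit (colimit.isColimit (D.op ⋙ G)) g
    change colimit.desc (D.op ⋙ G) (G.mapCocone c.op) (colimit.ι (D.op ⋙ G) (op i) y) =
      a.app (op c.pt) x at hgx
    rw [desc_ι_apply] at hgx
    obtain ⟨j, xj, hxj1, hxj2⟩ := hs D c hc hD hT i y x hgx.symm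
    refine ⟨colimit.ι (D.op ⋙ F) (op j.left) xj, ?_, ?_⟩
    · change colimMap (Functor.whiskerLeft D.op a) (colimit.ι (D.op ⋙ F) (op j.left) xj) =
        colimit.ι (D.op ⋙ G) (op i) y
      rw [colimMap_ι_apply]
      change colimit.ι (D.op ⋙ G) (op j.left) (a.app (op (D.obj j.left)) xj) = _
      rw [hxj1]
      exact ι_map_apply D G (i := op i) (j := op j.left) j.hom.op y
    · rw [desc_ι_apply]
      exact hxj2

end Square

section Converse

variable {F G : PSp S} (a : F ⟶ G)

/-- The cartesian-square condition of the statement. -/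
def SquareCond : Prop :=
  ∀ ⦃I : Type u⦄ [SmallCategory I] [IsCofiltered I] (D : I ⥤ Over S) (c : Cone D),
    IsLimit ((Over.forget S).mapCone c) → (∀ i, IsAffine (D.obj i).left) → IsAffine c.pt.left →
      IsPullback (colimMap (Functor.whiskerLeft D.op a)) (colimit.desc (D.op ⋙ F) (F.mapCocone c.op))
        (colimit.desc (D.op ⋙ G) (G.mapCocone c.op)) (a.app (Opposite.op c.pt))

theorem elemSurj_of_squareCond (h : SquareCond a) : ElemSurj a := by
  intro I _ _ D c hc hD hT i y x hx
  have hpb := h D c hc hD hT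
  have hgx : colimit.desc (D.op ⋙ G) (G.mapCocone c.op) (colimit.ι (D.op ⋙ G) (op i) y) =
      a.app (op c.pt) x := by
    rw [desc_ι_apply]
    exact hx.symm
  obtain ⟨z, hz1, hz2⟩ := Types.exists_of_isPullback hpb _ _ hgx
  obtain ⟨⟨j⟩, xj, rfl⟩ := Types.jointly_surjective_of_isColimit (colimit.isColimit (D.op ⋙ F)) z
  change colimMap (Functor.whiskerLeft D.op a) (colimit.ι (D.op ⋙ F) (op j) xj) =
    colimit.ι (D.op ⋙ G) (op i) y at hz1
  change colimit.desc (D.op ⋙ F) (F.mapCocone c.op) (colimit.ι (D.op ⋙ F) (op j) xj) = x at hz2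
  rw [colimMap_ι_apply] at hz1
  rw [desc_ι_apply] at hz2
  obtain ⟨⟨k⟩, f, f', hff⟩ := (Types.FilteredColimit.isColimit_eq_iff _
    (colimit.isColimit (D.op ⋙ G))).1 hz1
  have hff' : G.map (D.map f.unop).op (a.app (op (D.obj j)) xj) = G.map (D.map f'.unop).op y := hff
  refine ⟨Over.mk f'.unop, F.map (D.map f.unop).op xj, ?_, ?_⟩
  · change a.app _ (F.map (D.map f.unop).op xj) = G.map (D.map f'.unop).op y
    rw [nat_apply, hff']
  · change F.map (c.π.app k).op (F.map (D.map f.unop).op xj) = x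
    rw [map_map_apply, c.w]
    exact hz2

theorem elemInj_of_squareCond (h : SquareCond a) : ElemInj a := by
  intro I _ _ D c hc hD hT i x₁ x₂ h1 h2
  have hpb := h D c hc hD hT
  have hz : colimit.ι (D.op ⋙ F) (op i) x₁ = colimit.ι (D.op ⋙ F) (op i) x₂ := by
    apply Types.ext_of_isPullback hpb
    · rw [colimMap_ι_apply, colimMap_ι_apply]
      exact congrArg _ h1
    · rw [desc_ι_apply, desc_ι_apply]
      exact h2
  obtain ⟨⟨k⟩, f, hf⟩ := (Types.FilteredColimit.isColimit_eq_iff' (colimit.isColimit (D.op ⋙ F))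
    _ _).1 hz
  exact ⟨Over.mk f.unop, hf⟩

theorem squareCond_of_elem (hs : ElemSurj a) (hi : ElemInj a) : SquareCond a :=
  fun _ _ _ D c hc hD hT => isPullback_of_elem a D c hs hi hc hD hT

/-- Relative limit preservation is the cartesian-square condition on colimits of sections. -/
theorem isRelLimitPreserving_iff_squareCond : IsRelLimitPreserving a ↔ SquareCond a :=
  ⟨fun ha => squareCond_of_elem a (elemSurj_of_isRelLimitPreserving ha)
      (elemInj_of_isRelLimitPreserving ha),
    fun h => isRelLimitPreserving_of_elem (elemSurj_of_squareCond a h) (elemInj_of_squareCond a h)⟩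

end Converse

end Groth.Agent.Lib.H86RelLimPres
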