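import Groth.Agent.S2043
import Groth.Agent.Lib.H86InfNbhd
import Groth.Agent.Lib.EtLiftClosed

/-!
# helper86: etale local lifting of maps to smooth morphisms along closed immersions
-/

set_option autoImplicit false
set_option linter.style.haveILetI false
universe u
open CategoryTheory CategoryTheory.Limits AlgebraicGeometry Opposite TensorProduct

namespace Groth.Agent.Lib.H86SmoothLift

section Algebra

/-- **Algebra core.**  `A₀ → B` smooth, `A₀ → A`, `π : A → G` surjective, `φa : B → G` compatible.  Then there are an etale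
`A`-algebra `A'` and `τ : B → A'` over `A₀` which agrees with `φa` on every ring receiving compatible maps from `A'` and
`G`, and every prime of `G` lifts to `A'`. -/
theorem exists_etale_lift_smooth {A₀ A B G : Type u} [CommRing A₀] [CommRing A] [CommRing B] [CommRing G]
    (φb : A₀ →+* A) (φψ : A₀ →+* B) (hψ : φψ.Smooth) (π : A →+* G) (hπ : Function.Surjective π)
    (φa : B →+* G) (hcomm : φa.comp φψ = π.comp φb) :
    ∃ (A' : Type u) (_ : CommRing A') (α : A →+* A') (τ : B →+* A'), α.Etale ∧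
      τ.comp φψ = α.comp φb ∧
      (∀ (R : Type u) [CommRing R] (U' : A' →+* R) (V' : G →+* R), U'.comp α = V'.comp π →
        U'.comp τ = V'.comp φa) ∧
      ∀ z : PrimeSpectrum G, ∃ y : PrimeSpectrum A', PrimeSpectrum.comap α y = PrimeSpectrum.comap π z := by
  letI : Algebra A₀ A := φb.toAlgebra
  letI : Algebra A₀ B := φψ.toAlgebra
  haveI : Algebra.Smooth A₀ B := hψ
  let I : Ideal A := RingHom.ker π
  let e : (A ⧸ I) ≃+* G := RingHom.quotientKerEquivOfSurjective hπ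
  have he : ∀ x : A, e (Ideal.Quotient.mk I x) = π x := fun x => rfl
  let φa' : B →ₐ[A₀] A ⧸ I :=
    { (e.symm.toRingHom.comp φa) with
      commutes' := by
        intro r
        show e.symm (φa (φψ r)) = Ideal.Quotient.mk I (φb r)
        rw [e.symm_apply_eq, he]
        exact congrArg (fun h : A₀ →+* G => h r) hcomm }
  have hφa' : ∀ b : B, e (φa' b) = φa b := fun b => e.apply_symm_apply _
  let σ : A ⊗[A₀] B →ₐ[A] A ⧸ I :=
    Algebra.TensorProduct.lift (Algebra.ofId A (A ⧸ I)) φa' (fun _ _ => Commute.all _ _)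
  obtain ⟨A', _, _, hA', hbij, τ, hτ⟩ := Groth.Agent.S2043.result I σ
  let τB : B →+* A' := τ.toRingHom.comp (Algebra.TensorProduct.includeRight : B →ₐ[A₀] A ⊗[A₀] B).toRingHom
  refine ⟨A', inferInstance, algebraMap A A', τB, ?_, ?_, ?_, ?_⟩
  · exact RingHom.etale_algebraMap.2 hA'
  · ext r
    show τ ((1 : A) ⊗ₜ[A₀] (algebraMap A₀ B r)) = algebraMap A A' (algebraMap A₀ A r)
    rw [← Algebra.TensorProduct.tmul_one_eq_one_tmul r]
    have : (algebraMap A₀ A r) ⊗ₜ[A₀] (1 : B) = algebraMap A (A ⊗[A₀] B) (algebraMap A₀ A r) := rfl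
    rw [this, τ.commutes]
  · intro R _ U' V' hUV
    have hkill : ∀ x ∈ I.map (algebraMap A A'), U' x = 0 := by
      intro x hx
      have hle : I.map (algebraMap A A') ≤ RingHom.ker U' := by
        rw [Ideal.map_le_iff_le_comap]
        intro y hy
        rw [Ideal.mem_comap, RingHom.mem_ker]
        have := congrArg (fun h : A →+* R => h y) hUV
        simp only [RingHom.comp_apply] at this
        rw [this, (RingHom.mem_ker).1 hy, map_zero]
      exact hle hx
    let Ubar : A' ⧸ I.map (algebraMap A A') →+* R := Ideal.Quotient.lift _ U' hkill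
    have h1 : ∀ y : A ⧸ I, Ubar (algebraMap (A ⧸ I) (A' ⧸ I.map (algebraMap A A')) y) = V' (e y) := by
      intro y
      obtain ⟨x, rfl⟩ := Ideal.Quotient.mk_surjective y
      rw [he]
      have : algebraMap (A ⧸ I) (A' ⧸ I.map (algebraMap A A')) (Ideal.Quotient.mk I x) =
          Ideal.Quotient.mk _ (algebraMap A A' x) := by simp
      rw [this]
      show U' (algebraMap A A' x) = V' (π x)
      exact congrArg (fun h : A →+* R => h x) hUV
    ext b
    show U' (τ ((1 : A) ⊗ₜ[A₀] b)) = V' (φa b)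
    have h2 : U' (τ ((1 : A) ⊗ₜ[A₀] b)) = Ubar (Ideal.Quotient.mk _ (τ ((1 : A) ⊗ₜ[A₀] b))) := rfl
    rw [h2, hτ, h1]
    have : σ ((1 : A) ⊗ₜ[A₀] b) = φa' b := by simp [σ]
    rw [this, hφa']
  · intro z
    let eq' : (A ⧸ I) ≃+* (A' ⧸ I.map (algebraMap A A')) :=
      RingEquiv.ofBijective (algebraMap (A ⧸ I) (A' ⧸ I.map (algebraMap A A'))) hbij
    let z1 : PrimeSpectrum (A ⧸ I) := PrimeSpectrum.comap e.toRingHom z
    let y1 : PrimeSpectrum (A' ⧸ I.map (algebraMap A A')) := PrimeSpectrum.comap eq'.symm.toRingHom z1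
    refine ⟨PrimeSpectrum.comap (Ideal.Quotient.mk _) y1, ?_⟩
    ext x
    simp only [PrimeSpectrum.comap_asIdeal, Ideal.mem_comap, y1, z1]
    have : eq'.symm.toRingHom (Ideal.Quotient.mk _ (algebraMap A A' x)) = Ideal.Quotient.mk I x := by
      show eq'.symm _ = _
      rw [RingEquiv.symm_apply_eq]
      show _ = algebraMap (A ⧸ I) (A' ⧸ I.map (algebraMap A A')) (Ideal.Quotient.mk I x)
      simp
    rw [this]
    rfl

end Algebra

section SchemeLevel

variable {U VY W W' : Scheme.{u}}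

set_option backward.isDefEq.respectTransparency false in
/-- **Etale local lifting along a closed immersion, for schemes.**  `ψ : U ⟶ VY` smooth, `q : W ⟶ W'` a closed
immersion, `a : W ⟶ U`, `b : W' ⟶ VY` compatible, `w` a point of `W`.  Then there are an etale neighbourhood
`e : V ⟶ W'` of `q w` and `ℓ : V ⟶ U` over `b` restricting to `a` on `V ×_{W'} W`. -/
theorem exists_etale_nbhd_lift (ψ : U ⟶ VY) [Smooth ψ] (q : W ⟶ W') [IsClosedImmersion q] (a : W ⟶ U)
    (b : W' ⟶ VY) (hcomm : a ≫ ψ = q ≫ b) (w : W) :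
    ∃ (V : Scheme.{u}) (e : V ⟶ W') (ℓ : V ⟶ U), Etale e ∧ q w ∈ Set.range e ∧ ℓ ≫ ψ = e ≫ b ∧
      ∀ (Z : Scheme.{u}) (u : Z ⟶ V) (v : Z ⟶ W), u ≫ e = v ≫ q → u ≫ ℓ = v ≫ a := by
  -- affine opens
  obtain ⟨OY, hOY, hwOY, -⟩ := exists_isAffineOpen_mem_and_subset
    (show ψ (a w) ∈ (⊤ : VY.Opens) from trivial)
  obtain ⟨OU, hOU, hwOU, hOUle⟩ := exists_isAffineOpen_mem_and_subset
    (show a w ∈ ψ ⁻¹ᵁ OY from hwOY)
  have hind := q.isClosedEmbedding.isInducing
  obtain ⟨N, hN, hNeq⟩ : ∃ N : Set W', IsOpen N ∧ q ⁻¹' N = ((a ⁻¹ᵁ OU : W.Opens) : Set W) :=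
    hind.isOpen_iff.1 (a ⁻¹ᵁ OU).isOpen
  have hbq : b (q w) = ψ (a w) := by
    rw [← Scheme.Hom.comp_apply, ← hcomm, Scheme.Hom.comp_apply]
  have hqw : q w ∈ (⟨N, hN⟩ : W'.Opens) ⊓ b ⁻¹ᵁ OY := by
    refine ⟨?_, ?_⟩
    · show w ∈ q ⁻¹' N
      rw [hNeq]
      exact hwOU
    · show b (q w) ∈ OY
      rw [hbq]
      exact hwOY
  obtain ⟨O', hO', hwO', hO'le⟩ := exists_isAffineOpen_mem_and_subset hqw
  have hOW : IsAffineOpen (q ⁻¹ᵁ O') := hO'.preimage q
  have hle_a : q ⁻¹ᵁ O' ≤ a ⁻¹ᵁ OU := by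
    intro x hx
    have h1 : q x ∈ N := (hO'le hx).1
    show x ∈ ((a ⁻¹ᵁ OU : W.Opens) : Set W)
    rw [← hNeq]
    exact h1
  have hle_b : O' ≤ b ⁻¹ᵁ OY := fun x hx => (hO'le hx).2
  -- rings
  let φb : Γ(VY, OY) ⟶ Γ(W', O') := b.appLE OY O' hle_b
  let φψ : Γ(VY, OY) ⟶ Γ(U, OU) := ψ.appLE OY OU hOUle
  let π : Γ(W', O') ⟶ Γ(W, q ⁻¹ᵁ O') := q.appLE O' (q ⁻¹ᵁ O') le_rfl
  let φa : Γ(U, OU) ⟶ Γ(W, q ⁻¹ᵁ O') := a.appLE OU (q ⁻¹ᵁ O') hle_a
  have hπ : Function.Surjective π.hom := by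
    have := q.app_surjective O' hO'
    rwa [Scheme.Hom.app_eq_appLE] at this
  have hφψ : φψ.hom.Smooth :=
    HasRingHomProperty.appLE (P := @Smooth) ψ inferInstance ⟨_, hOY⟩ ⟨_, hOU⟩ hOUle
  have hcomm' : φψ ≫ φa = φb ≫ π := by
    show ψ.appLE OY OU hOUle ≫ a.appLE OU (q ⁻¹ᵁ O') hle_a =
      b.appLE OY O' hle_b ≫ q.appLE O' (q ⁻¹ᵁ O') le_rfl
    rw [Scheme.Hom.appLE_comp_appLE, Scheme.Hom.appLE_comp_appLE]
    simp only [hcomm]
  obtain ⟨A', _, α, τ, hα, h1, h2, h3⟩ := exists_etale_lift_smooth φb.hom φψ.hom hφψ π.hom hπ φa.hom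
    (by
      ext x
      exact congrArg (fun h : Γ(VY, OY) ⟶ Γ(W, q ⁻¹ᵁ O') => h.hom x) hcomm')
  let αc : Γ(W', O') ⟶ CommRingCat.of A' := CommRingCat.ofHom α
  let τc : Γ(U, OU) ⟶ CommRingCat.of A' := CommRingCat.ofHom τ
  haveI hαe : Etale (Spec.map αc) := (HasRingHomProperty.Spec_iff (P := @Etale)).2 hα
  have eψ : Spec.map φψ ≫ hOY.fromSpec = hOU.fromSpec ≫ ψ :=
    IsAffineOpen.SpecMap_appLE_fromSpec ψ hOY hOU hOUle
  have eb : Spec.map φb ≫ hOY.fromSpec = hO'.fromSpec ≫ b :=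
    IsAffineOpen.SpecMap_appLE_fromSpec b hOY hO' hle_b
  have eq_ : Spec.map π ≫ hO'.fromSpec = hOW.fromSpec ≫ q :=
    IsAffineOpen.SpecMap_appLE_fromSpec q hO' hOW le_rfl
  have ea : Spec.map φa ≫ hOU.fromSpec = hOW.fromSpec ≫ a :=
    IsAffineOpen.SpecMap_appLE_fromSpec a hOU hOW hle_a
  -- the affine case of the restriction property
  have aff : ∀ (R : CommRingCat.{u}) (u : Spec R ⟶ Spec (CommRingCat.of A')) (v : Spec R ⟶ W),
      u ≫ (Spec.map αc ≫ hO'.fromSpec) = v ≫ q →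
        u ≫ (Spec.map τc ≫ hOU.fromSpec) = v ≫ a := by
    intro R u v huv
    obtain ⟨Uf, rfl⟩ := Spec.map_surjective u
    have hrange : Set.range v ⊆ Set.range hOW.fromSpec := by
      rintro _ ⟨x, rfl⟩
      rw [hOW.range_fromSpec]
      show q (v x) ∈ O'
      have hx : q (v x) = hO'.fromSpec (Spec.map αc (Spec.map Uf x)) := by
        have := congrArg (fun k : Spec R ⟶ W' => k x) huv
        exact this.symm
      rw [hx]
      have h2 : hO'.fromSpec (Spec.map αc (Spec.map Uf x)) ∈ Set.range hO'.fromSpec := ⟨_, rfl⟩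
      rw [hO'.range_fromSpec] at h2
      exact h2
    let v' : Spec R ⟶ Spec Γ(W, q ⁻¹ᵁ O') := IsOpenImmersion.lift hOW.fromSpec v hrange
    have hv' : v' ≫ hOW.fromSpec = v := IsOpenImmersion.lift_fac _ _ _
    obtain ⟨Vf, hVf⟩ := Spec.map_surjective v'
    have hUV : αc ≫ Uf = π ≫ Vf := by
      apply Spec.map_injective
      rw [Spec.map_comp, Spec.map_comp, hVf, ← cancel_mono hO'.fromSpec, Category.assoc, Category.assoc,
        eq_, ← Category.assoc v', hv']
      exact huv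
    have hUV' : Uf.hom.comp α = Vf.hom.comp π.hom := by
      ext x
      exact congrArg (fun h : Γ(W', O') ⟶ R => h.hom x) hUV
    have h4 : τc ≫ Uf = φa ≫ Vf := by
      ext x
      exact congrArg (fun h : Γ(U, OU) →+* R => h x) (h2 R Uf.hom Vf.hom hUV')
    rw [← Category.assoc, ← Spec.map_comp, h4, Spec.map_comp, Category.assoc, ea, hVf,
      ← Category.assoc, hv']
  refine ⟨Spec (CommRingCat.of A'), Spec.map αc ≫ hO'.fromSpec, Spec.map τc ≫ hOU.fromSpec,
    inferInstance, ?_, ?_, ?_⟩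
  · have hw : w ∈ Set.range hOW.fromSpec := by
      rw [hOW.range_fromSpec]
      exact hwO'
    obtain ⟨z, rfl⟩ := hw
    obtain ⟨y, hy⟩ := h3 z
    refine ⟨y, ?_⟩
    have h5 : q (hOW.fromSpec z) = hO'.fromSpec (Spec.map π z) := by
      rw [← Scheme.Hom.comp_apply, ← eq_, Scheme.Hom.comp_apply]
    rw [h5, Scheme.Hom.comp_apply]
    exact congrArg (fun k => hO'.fromSpec k) hy
  · rw [Category.assoc, ← eψ, Category.assoc, ← eb, ← Spec.map_comp_assoc, ← Spec.map_comp_assoc]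
    have h6 : φψ ≫ τc = φb ≫ αc := by
      ext x
      exact congrArg (fun h : Γ(VY, OY) →+* A' => h x) h1
    rw [h6]
  · intro Z u v huv
    apply Z.affineCover.hom_ext
    intro k
    rw [← cancel_epi ((Z.affineCover.X k).isoSpec.inv)]
    have := aff _ ((Z.affineCover.X k).isoSpec.inv ≫ Z.affineCover.f k ≫ u)
      ((Z.affineCover.X k).isoSpec.inv ≫ Z.affineCover.f k ≫ v) (by
        simp only [Category.assoc]
        rw [huv])
    simpa only [Category.assoc] using this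

end SchemeLevel

section SheafLevel

open AlgSp Groth.Agent.Lib.AlgSpBasic

variable {S : Scheme.{u}}

set_option backward.isDefEq.respectTransparency false in
/-- Etale local lifting for an algebraic space `X` over a scheme `VY` with a smooth atlas, along a closed
immersion of schemes. -/
theorem exists_lift_over_scheme {X : Sp S} {VY Uα W W' : Over S} (g : X ⟶ (yon S).obj VY)
    (α : (yon S).obj Uα ⟶ X) (hαe : RepWith @Etale α) (hαs : RepWith @Surjective α) (ψ : Uα ⟶ VY)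
    (hψ : (yon S).map ψ = α ≫ g) (hψs : Smooth ψ.left)
    (q : W ⟶ W') (hq : IsClosedImmersion q.left) (a : (yon S).obj W ⟶ X) (b : W' ⟶ VY)
    (hab : a ≫ g = (yon S).map (q ≫ b)) (w : W.left) :
    ∃ (V : Over S) (e : V ⟶ W') (ℓ : (yon S).obj V ⟶ X), Etale e.left ∧
      q.left w ∈ Set.range e.left ∧ ℓ ≫ g = (yon S).map (e ≫ b) ∧
      ∀ (Z : Over S) (u : Z ⟶ V) (v : Z ⟶ W), u ≫ e = v ≫ q →
        (yon S).map u ≫ ℓ = (yon S).map v ≫ a := by
  obtain ⟨W₂, r₂, a₂', sq₂⟩ := hαe.1 a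
  obtain ⟨a₂, rfl⟩ := (yon S).map_surjective a₂'
  haveI : Etale r₂.left := hαe.2 a _ r₂ sq₂
  haveI hr₂s : Surjective r₂.left := hαs.2 a _ r₂ sq₂
  obtain ⟨w₂, hw₂⟩ := hr₂s.surj w
  have h1 : a₂ ≫ ψ = r₂ ≫ q ≫ b := (yon S).map_injective (by
    rw [Functor.map_comp, hψ, ← Category.assoc, sq₂.w, Category.assoc, hab, ← Functor.map_comp])
  have h1' : a₂.left ≫ ψ.left = r₂.left ≫ q.left ≫ b.left := by
    have := congrArg (fun k => k.left) h1
    simpa only [Over.comp_left] using this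
  obtain ⟨V₃, h, p, hp⟩ := Groth.Agent.Lib.EtLiftClosed.exists_lift_etale_nbhd q.left
    (Scheme.Etale.mk r₂.left) w₂
  have hh : h.left ≫ r₂.left = pullback.snd V₃.hom q.left := Over.w h.hom
  haveI : Etale V₃.hom := V₃.prop
  have hcomm : (h.left ≫ a₂.left) ≫ ψ.left = pullback.fst V₃.hom q.left ≫ V₃.hom ≫ b.left := by
    rw [Category.assoc, h1', ← Category.assoc, hh, ← Category.assoc, ← pullback.condition,
      Category.assoc]
  obtain ⟨V, e, ℓ₀, he, hpt, hℓ, hres⟩ := exists_etale_nbhd_lift ψ.left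
    (pullback.fst V₃.hom q.left) (h.left ≫ a₂.left) (V₃.hom ≫ b.left) hcomm p
  have hℓO : ℓ₀ ≫ Uα.hom = e ≫ V₃.hom ≫ W'.hom := by
    rw [← Over.w ψ, ← Category.assoc, hℓ, Category.assoc, Category.assoc, Over.w b]
  let VO : Over S := Over.mk (e ≫ V₃.hom ≫ W'.hom)
  let eO : VO ⟶ W' := Over.homMk (e ≫ V₃.hom) (by simp [VO])
  let ℓO : VO ⟶ Uα := Over.homMk ℓ₀ hℓO
  have hℓψ : ℓO ≫ ψ = eO ≫ b := by
    ext
    simp only [Over.comp_left, ℓO, eO, Over.homMk_left]
    rw [hℓ, Category.assoc]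
  refine ⟨VO, eO, (yon S).map ℓO ≫ α, ?_, ?_, ?_, ?_⟩
  · show Etale (e ≫ V₃.hom)
    infer_instance
  · obtain ⟨y, hy⟩ := hpt
    refine ⟨y, ?_⟩
    show (e ≫ V₃.hom) y = q.left w
    rw [Scheme.Hom.comp_apply, hy, ← Scheme.Hom.comp_apply, pullback.condition, ← hh,
      Scheme.Hom.comp_apply, Scheme.Hom.comp_apply]
    exact congrArg (fun k => q.left k) ((congrArg (fun k => r₂.left k) hp).trans hw₂)
  · rw [Category.assoc, ← hψ, ← Functor.map_comp, hℓψ]
  · intro Z u v huv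
    have huv' : (u.left ≫ e) ≫ V₃.hom = v.left ≫ q.left := by
      have := congrArg (fun k => k.left) huv
      simpa only [Over.comp_left, eO, Over.homMk_left, Category.assoc] using this
    let v₃ : Z.left ⟶ pullback V₃.hom q.left := pullback.lift (u.left ≫ e) v.left huv'
    have hv₃1 : v₃ ≫ pullback.fst V₃.hom q.left = u.left ≫ e := pullback.lift_fst _ _ _
    have hv₃2 : v₃ ≫ pullback.snd V₃.hom q.left = v.left := pullback.lift_snd _ _ _
    have hr := hres Z.left u.left v₃ hv₃1.symm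
    have hvO : (v₃ ≫ h.left) ≫ W₂.hom = Z.hom := by
      rw [← Over.w r₂, ← Category.assoc, Category.assoc v₃, hh, hv₃2, Over.w v]
    let vO : Z ⟶ W₂ := Over.homMk (v₃ ≫ h.left) hvO
    have e1 : u ≫ ℓO = vO ≫ a₂ := by
      ext
      simp only [Over.comp_left, ℓO, vO, Over.homMk_left]
      rw [hr, Category.assoc]
    have e2 : vO ≫ r₂ = v := by
      ext
      simp only [Over.comp_left, vO, Over.homMk_left]
      rw [Category.assoc, hh, hv₃2]
    rw [← Category.assoc, ← Functor.map_comp, e1, Functor.map_comp, Category.assoc, sq₂.w,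
      ← Category.assoc, ← Functor.map_comp, e2]

set_option backward.isDefEq.respectTransparency false in
/-- Etale local lifting for a smooth morphism of algebraic spaces along a closed immersion of schemes. -/
theorem exists_lift_scheme_closedImmersion {X Y : Sp S} (hX : IsAlgSpace X) (hY : IsAlgSpace Y)
    (f : X ⟶ Y) (hf : LocP @Smooth f) {W W' : Over S} (q : W ⟶ W') (hq : IsClosedImmersion q.left)
    (a : (yon S).obj W ⟶ X) (b : (yon S).obj W' ⟶ Y) (hab : a ≫ f = (yon S).map q ≫ b)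
    (w : W.left) :
    ∃ (V : Over S) (e : V ⟶ W') (ℓ : (yon S).obj V ⟶ X), Etale e.left ∧
      q.left w ∈ Set.range e.left ∧ ℓ ≫ f = (yon S).map e ≫ b ∧
      ∀ (Z : Over S) (u : Z ⟶ V) (v : Z ⟶ W), u ≫ e = v ≫ q →
        (yon S).map u ≫ ℓ = (yon S).map v ≫ a := by
  obtain ⟨VY, β, hβe, hβs⟩ := hY.atlas
  obtain ⟨W'₁, r', b₁', sq₁⟩ := hβe.1 b
  obtain ⟨b₁, rfl⟩ := (yon S).map_surjective b₁'
  haveI : Etale r'.left := hβe.2 b _ r' sq₁
  haveI hr's : Surjective r'.left := hβs.2 b _ r' sq₁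
  have sqL : IsPullback (pullback.fst q r').left (pullback.snd q r').left q.left r'.left :=
    (IsPullback.of_hasPullback q r').map (Over.forget S)
  haveI : IsClosedImmersion (pullback.snd q r').left :=
    MorphismProperty.of_isPullback (P := @IsClosedImmersion) sqL hq
  obtain ⟨w'₁, hw'₁⟩ := hr's.surj (q.left w)
  obtain ⟨w₁, hw₁1, hw₁2⟩ := Scheme.exists_preimage_of_isPullback sqL w w'₁ hw'₁.symm
  -- the base change of `X` to `VY`
  have sqX := IsPullback.of_hasPullback f β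
  have hXV : IsAlgSpace (pullback f β) :=
    Groth.Agent.Lib.AlgSpFibre.isAlgSpace_of_isPullback hY.diag hX (IsAlgSpace.yon_obj VY) sqX
  have hpr₁ : RepWith @Etale (pullback.fst f β) := repWith_fst_of_isPullback _ sqX hβe
  obtain ⟨Uα, α, hαe, hαs⟩ := hXV.atlas
  obtain ⟨ψ, hψ⟩ := (yon S).map_surjective (α ≫ pullback.snd f β)
  have hψs : Smooth ψ.left := by
    refine hf (α ≫ pullback.fst f β) β ψ (MorphismProperty.comp_mem _ _ _ hαe hpr₁) hβe ?_
    rw [Category.assoc, pullback.condition, ← Category.assoc, hψ]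
  have hcomm : ((yon S).map (pullback.fst q r') ≫ a) ≫ f =
      (yon S).map (pullback.snd q r' ≫ b₁) ≫ β := by
    rw [Category.assoc, hab, ← Category.assoc, ← Functor.map_comp, pullback.condition,
      Functor.map_comp, Category.assoc, ← sq₁.w, Functor.map_comp, Category.assoc]
  obtain ⟨V, e₁, ℓ₁, he₁, hpt, hℓ₁, hres⟩ := exists_lift_over_scheme (pullback.snd f β) α hαe hαs ψ hψ hψs
    (pullback.snd q r') inferInstance
    (pullback.lift ((yon S).map (pullback.fst q r') ≫ a) ((yon S).map (pullback.snd q r' ≫ b₁)) hcomm)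
    b₁ (pullback.lift_snd _ _ _) w₁
  refine ⟨V, e₁ ≫ r', ℓ₁ ≫ pullback.fst f β, ?_, ?_, ?_, ?_⟩
  · rw [Over.comp_left]
    infer_instance
  · obtain ⟨y, hy⟩ := hpt
    refine ⟨y, ?_⟩
    rw [Over.comp_left, Scheme.Hom.comp_apply, hy, hw₁2, hw'₁]
  · rw [Category.assoc, pullback.condition, ← Category.assoc, hℓ₁, Functor.map_comp, Category.assoc,
      sq₁.w, ← Category.assoc, ← Functor.map_comp]
  · intro Z u v huv
    have hr := hres Z u (pullback.lift v (u ≫ e₁) (by rw [Category.assoc, huv]))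
      (pullback.lift_snd _ _ _).symm
    rw [← Category.assoc, hr, Category.assoc, pullback.lift_fst, ← Category.assoc,
      ← Functor.map_comp, pullback.lift_fst]

set_option backward.isDefEq.respectTransparency false in
/-- **Smooth morphisms of algebraic spaces lift etale locally along thickenings** (S10615 at the level of
sheaves). -/
theorem smooth_lift_etale_locally {X Y T T' : Sp S} (hX : IsAlgSpace X) (hY : IsAlgSpace Y)
    (hT' : IsAlgSpace T') (f : X ⟶ Y) (hf : LocP @Smooth f) (i : T ⟶ T') (hi : IsThickMor i)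
    (a : T ⟶ X) (b : T' ⟶ Y) (w : a ≫ f = i ≫ b) (t' : Points T') :
    ∃ (V : Over S) (e : (yon S).obj V ⟶ T') (ℓ : (yon S).obj V ⟶ X), RepWith @Etale e ∧
      t' ∈ Set.range (Points.ofPt e) ∧ ℓ ≫ f = e ≫ b ∧
      ∀ (P : Sp S) (p₁ : P ⟶ T) (p₂ : P ⟶ (yon S).obj V), IsPullback p₁ p₂ i e →
        p₂ ≫ ℓ = p₁ ≫ a := by
  obtain ⟨W', c, hce, hcs⟩ := hT'.atlas
  obtain ⟨w', rfl⟩ := Groth.Agent.Lib.H86AlgSpPoints.ofPt_surjective hcs t'
  obtain ⟨W, q, c₀, sq⟩ := hi.1 c
  have hq : thick q.left := hi.2 c c₀ q sq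
  obtain ⟨w₀, hw₀⟩ := hq.2.surj w'
  obtain ⟨V, e, ℓ, he, hpt, hℓ, hres⟩ := exists_lift_scheme_closedImmersion hX hY f hf q hq.1 (c₀ ≫ a)
    (c ≫ b) (by rw [Category.assoc, w, ← Category.assoc, sq.w, Category.assoc]) w₀
  refine ⟨V, (yon S).map e ≫ c, ℓ, ?_, ?_, ?_, ?_⟩
  · exact MorphismProperty.comp_mem _ _ _ ((repWith_yon_map_iff _ _).2 he) hce
  · obtain ⟨y, hy⟩ := hpt
    refine ⟨y, ?_⟩
    rw [Groth.Agent.Lib.AlgSpPoints.ofPt_yon_map_comp, hy, hw₀]
  · rw [hℓ, Category.assoc]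
  · intro P p₁ p₂ hP
    apply Groth.Agent.Lib.H69AlgSp.hom_ext_yon
    intro Z z
    obtain ⟨u, hu⟩ := (yon S).map_surjective (z ≫ p₂)
    have hcomm : (z ≫ p₁) ≫ i = (yon S).map (u ≫ e) ≫ c := by
      rw [Category.assoc, hP.w, ← Category.assoc, ← Category.assoc, ← hu, ← Functor.map_comp]
    obtain ⟨v, hv⟩ := (yon S).map_surjective (sq.lift (z ≫ p₁) ((yon S).map (u ≫ e)) hcomm)
    have hv1 : (yon S).map v ≫ c₀ = z ≫ p₁ := by rw [hv]; exact sq.lift_fst _ _ _
    have hv2 : v ≫ q = u ≫ e := (yon S).map_injective (by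
      rw [Functor.map_comp, hv]; exact sq.lift_snd _ _ _)
    have hr := hres Z u v hv2.symm
    rw [← Category.assoc, ← hu, hr, ← Category.assoc, hv1, Category.assoc]

end SheafLevel

end Groth.Agent.Lib.H86SmoothLift
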