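import Groth.Prelude.Def_AlgSpInf
import Groth.Agent.Lib.H86AlgSpOpen
import Groth.Agent.Lib.H86AlgSpSub
import Groth.Agent.Lib.H86AlgSpPoints
import Groth.Agent.Lib.H69AlgSp
import Groth.Agent.Lib.AlgSpBasic
import Groth.Agent.Lib.AlgSpPoints

/-!
# helper86: thickenings of algebraic spaces and open subspaces
-/

set_option autoImplicit false
set_option linter.style.haveILetI false
universe u
open CategoryTheory CategoryTheory.Limits AlgebraicGeometry Opposite

namespace Groth.Agent.Lib.H86Thick
open AlgSp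

variable {S : Scheme.{u}} {F G : Sp S}

theorem repWith_isClosedImmersion_of_isThickMor {i : F ⟶ G} (hi : IsThickMor i) :
    RepWith @IsClosedImmersion i :=
  AlgSpBasic.repWith_mono (fun _ _ _ h => h.1) hi

theorem repWith_surjective_of_isThickMor {i : F ⟶ G} (hi : IsThickMor i) :
    RepWith @Surjective i :=
  AlgSpBasic.repWith_mono (fun _ _ _ h => h.2) hi

theorem mono_of_isThickMor {i : F ⟶ G} (hi : IsThickMor i) : Mono i :=
  H69AlgSp.mono_of_repWith_isClosedImmersion (repWith_isClosedImmersion_of_isThickMor hi)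

theorem map_injective_of_isThickMor {i : F ⟶ G} (hi : IsThickMor i) :
    Function.Injective (Points.map i) :=
  haveI := mono_of_isThickMor hi
  H86AlgSpOpen.map_injective_of_mono i

theorem map_surjective_of_isThickMor {i : F ⟶ G} (hi : IsThickMor i) :
    Function.Surjective (Points.map i) :=
  H86AlgSpPoints.map_surjective_of_repWith (repWith_surjective_of_isThickMor hi)

theorem isOpenMap_map_of_isThickMor {i : F ⟶ G} (hi : IsThickMor i) :
    IsOpenMap (Points.map i) := by
  refine H86AlgSpPoints.isOpenMap_map_of_repWith (P := thick) ?_ hi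
  intro X Y f hf
  haveI : IsClosedImmersion f := hf.1
  haveI : Surjective f := hf.2
  have hce : Topology.IsClosedEmbedding f := f.isClosedEmbedding
  exact (hce.isEmbedding.toHomeomorphOfSurjective f.surjective).isOpenMap

theorem isOpenMap_map_of_repWith_isOpenImmersion {j : F ⟶ G} (hj : RepWith @IsOpenImmersion j) :
    IsOpenMap (Points.map j) :=
  H86AlgSpPoints.isOpenMap_map_of_repWith
    (fun φ (_ : IsOpenImmersion φ) => φ.isOpenEmbedding.isOpenMap) hj

theorem range_map_comp {H : Sp S} (f : F ⟶ G) (g : G ⟶ H) :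
    Set.range (Points.map (f ≫ g)) = Points.map g '' Set.range (Points.map f) := by
  ext z
  constructor
  · rintro ⟨x, rfl⟩
    exact ⟨Points.map f x, ⟨x, rfl⟩, (Points.map_comp f g x).symm⟩
  · rintro ⟨_, ⟨x, rfl⟩, rfl⟩
    exact ⟨x, Points.map_comp f g x⟩

/-- Two open subspaces with the same image on points are isomorphic over the ambient space. -/
theorem exists_iso_of_range_eq {X U₁ U₂ : Sp S} {u₁ : U₁ ⟶ X} {u₂ : U₂ ⟶ X}
    (h₁ : RepWith @IsOpenImmersion u₁) (h₂ : RepWith @IsOpenImmersion u₂)
    (h : Set.range (Points.map u₁) = Set.range (Points.map u₂)) :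
    ∃ e : U₁ ≅ U₂, e.hom ≫ u₂ = u₁ := by
  haveI := H69AlgSp.mono_of_repWith_isOpenImmersion h₁
  haveI := H69AlgSp.mono_of_repWith_isOpenImmersion h₂
  obtain ⟨g₁₂, hg₁₂⟩ := H86AlgSpSub.exists_factor_of_range_subset h₂ u₁ h.le
  obtain ⟨g₂₁, hg₂₁⟩ := H86AlgSpSub.exists_factor_of_range_subset h₁ u₂ h.ge
  refine ⟨⟨g₁₂, g₂₁, ?_, ?_⟩, hg₁₂⟩
  · rw [← cancel_mono u₁, Category.assoc, hg₂₁, hg₁₂, Category.id_comp]
  · rw [← cancel_mono u₂, Category.assoc, hg₁₂, hg₂₁, Category.id_comp]

/-- An open subspace of `X` extends uniquely along a thickening `X ⟶ X'`: existence. -/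
theorem exists_open_of_thick {X X' U : Sp S} (hX' : IsAlgSpace X') {i : X ⟶ X'}
    (hi : IsThickMor i) {u : U ⟶ X} (hu : RepWith @IsOpenImmersion u) :
    ∃ (U' : Sp S) (u' : U' ⟶ X') (k : U ⟶ U'), IsAlgSpace U' ∧ RepWith @IsOpenImmersion u' ∧
      IsPullback u k i u' := by
  haveI := mono_of_isThickMor hi
  haveI := H69AlgSp.mono_of_repWith_isOpenImmersion hu
  have hW : IsOpen (Set.range (Points.map u)) := (isOpenMap_map_of_repWith_isOpenImmersion hu).isOpen_range
  have hW' : IsOpen (Set.range (Points.map (u ≫ i))) := by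
    rw [range_map_comp]
    exact isOpenMap_map_of_isThickMor hi _ hW
  have hj := H86AlgSpOpen.openSubι_repWith (F := X') hW'
  have hU' := H86AlgSpOpen.isAlgSpace_openSub hX' hW'
  set j := H86AlgSpOpen.openSubι X' (Set.range (Points.map (u ≫ i))) with hjdef
  have hrange : Set.range (Points.map j) = Set.range (Points.map (u ≫ i)) :=
    H86AlgSpOpen.range_map_openSubι
  haveI : Mono j := H69AlgSp.mono_of_repWith_isOpenImmersion hj
  obtain ⟨k, hk⟩ := H86AlgSpSub.exists_factor_of_range_subset hj (u ≫ i) hrange.ge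
  refine ⟨_, j, k, hU', hj, ?_⟩
  -- compare with the pullback
  have sq := IsPullback.of_hasPullback i j
  have hfst : RepWith @IsOpenImmersion (pullback.fst i j) :=
    AlgSpBasic.repWith_fst_of_isPullback _ sq hj
  haveI : Mono (pullback.fst i j) := H69AlgSp.mono_of_repWith_isOpenImmersion hfst
  let l : U ⟶ pullback i j := pullback.lift u k hk.symm
  have hl1 : l ≫ pullback.fst i j = u := pullback.lift_fst _ _ _
  have hl2 : l ≫ pullback.snd i j = k := pullback.lift_snd _ _ _
  have hlrep : RepWith @IsOpenImmersion l := by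
    apply H86AlgSpOpen.repWith_of_comp_mono (pullback.fst i j)
    rw [hl1]
    exact hu
  have hlsurj : Function.Surjective (Points.map l) := by
    intro p
    have h1 : Points.map i (Points.map (pullback.fst i j) p) ∈ Set.range (Points.map (u ≫ i)) := by
      refine hrange.le ?_
      rw [← Points.map_comp, pullback.condition, Points.map_comp]
      exact ⟨_, rfl⟩
    obtain ⟨x, hx⟩ := h1
    rw [Points.map_comp] at hx
    have h2 := map_injective_of_isThickMor hi hx
    refine ⟨x, ?_⟩
    apply H86AlgSpOpen.map_injective_of_mono (pullback.fst i j)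
    rw [← Points.map_comp, hl1, h2]
  haveI : IsIso l := H86AlgSpSub.isIso_of_repWith_isOpenImmersion_of_surjective hlrep hlsurj
  exact IsPullback.of_iso sq (asIso l).symm (Iso.refl _) (Iso.refl _) (Iso.refl _)
    (by simp [hl1]) (by simp [hl2]) (by simp) (by simp)

/-- An open subspace of `X` extends uniquely along a thickening `X ⟶ X'`: uniqueness. -/
theorem range_eq_of_isPullback_thick {X X' U U₁ : Sp S} {i : X ⟶ X'}
    (hi : IsThickMor i) {u : U ⟶ X} {u₁ : U₁ ⟶ X'} {k₁ : U ⟶ U₁}
    (sq : IsPullback u k₁ i u₁) :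
    Set.range (Points.map u₁) = Points.map i '' Set.range (Points.map u) := by
  rw [H86AlgSpSub.range_map_fst_of_isPullback sq,
    Set.image_preimage_eq _ (map_surjective_of_isThickMor hi)]

end Groth.Agent.Lib.H86Thick
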