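import Groth.Agent.Lib.H86Thick
import Groth.Agent.Lib.AlgSpQC

/-!
# helper86: morphisms of thickenings of algebraic spaces: topological properties
-/

set_option autoImplicit false
set_option linter.style.haveILetI false
universe u
open CategoryTheory CategoryTheory.Limits AlgebraicGeometry Opposite

namespace Groth.Agent.Lib.H86Thick
open AlgSp

variable {S : Scheme.{u}}

/-- A morphism of sheaves inducing a homeomorphism on points. -/
def IsHomeoPts {F G : Sp S} (τ : F ⟶ G) : Prop :=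
  Function.Bijective (Points.map τ) ∧ IsOpenMap (Points.map τ)

theorem isHomeoPts_id (F : Sp S) : IsHomeoPts (𝟙 F) := by
  have : Points.map (𝟙 F) = id := funext fun x => Points.map_id x
  refine ⟨?_, ?_⟩
  · rw [this]; exact Function.bijective_id
  · rw [this]; exact IsOpenMap.id

theorem isHomeoPts_of_isThickMor {F G : Sp S} {i : F ⟶ G} (hi : IsThickMor i) : IsHomeoPts i :=
  ⟨⟨map_injective_of_isThickMor hi, map_surjective_of_isThickMor hi⟩, isOpenMap_map_of_isThickMor hi⟩

/-- The homeomorphism on points. -/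
noncomputable def IsHomeoPts.homeo {F G : Sp S} {τ : F ⟶ G} (h : IsHomeoPts τ) :
    Points F ≃ₜ Points G :=
  (Equiv.ofBijective _ h.1).toHomeomorphOfContinuousOpen (Points.continuous_map τ) h.2

theorem IsHomeoPts.homeo_apply {F G : Sp S} {τ : F ⟶ G} (h : IsHomeoPts τ) (x : Points F) :
    h.homeo x = Points.map τ x := rfl

section Transfer

variable {A B C D : Sp S} {τ : A ⟶ B} {π : C ⟶ D} {a : A ⟶ C} {b : B ⟶ D}

theorem map_b_eq (w : a ≫ π = τ ≫ b) (hτ : IsHomeoPts τ) (hπ : IsHomeoPts π) :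
    Points.map b = hπ.homeo ∘ Points.map a ∘ hτ.homeo.symm := by
  funext y
  obtain ⟨x, rfl⟩ := hτ.homeo.surjective y
  simp only [Function.comp_apply, Homeomorph.symm_apply_apply]
  rw [IsHomeoPts.homeo_apply, IsHomeoPts.homeo_apply, ← Points.map_comp, ← Points.map_comp, w]

theorem map_a_eq (w : a ≫ π = τ ≫ b) (hτ : IsHomeoPts τ) (hπ : IsHomeoPts π) :
    Points.map a = hπ.homeo.symm ∘ Points.map b ∘ hτ.homeo := by
  funext x
  simp only [Function.comp_apply]
  rw [Homeomorph.eq_symm_apply, IsHomeoPts.homeo_apply, IsHomeoPts.homeo_apply,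
    ← Points.map_comp, ← Points.map_comp, w]

theorem isOpenMap_iff (w : a ≫ π = τ ≫ b) (hτ : IsHomeoPts τ) (hπ : IsHomeoPts π) :
    IsOpenMap (Points.map a) ↔ IsOpenMap (Points.map b) := by
  constructor
  · intro h
    rw [map_b_eq w hτ hπ]
    exact hπ.homeo.isOpenMap.comp (h.comp hτ.homeo.symm.isOpenMap)
  · intro h
    rw [map_a_eq w hτ hπ]
    exact hπ.homeo.symm.isOpenMap.comp (h.comp hτ.homeo.isOpenMap)

theorem isClosedMap_iff (w : a ≫ π = τ ≫ b) (hτ : IsHomeoPts τ) (hπ : IsHomeoPts π) :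
    IsClosedMap (Points.map a) ↔ IsClosedMap (Points.map b) := by
  constructor
  · intro h
    rw [map_b_eq w hτ hπ]
    exact hπ.homeo.isClosedMap.comp (h.comp hτ.homeo.symm.isClosedMap)
  · intro h
    rw [map_a_eq w hτ hπ]
    exact hπ.homeo.symm.isClosedMap.comp (h.comp hτ.homeo.isClosedMap)

theorem injective_iff (w : a ≫ π = τ ≫ b) (hτ : IsHomeoPts τ) (hπ : IsHomeoPts π) :
    Function.Injective (Points.map a) ↔ Function.Injective (Points.map b) := by
  constructor
  · intro h
    rw [map_b_eq w hτ hπ]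
    exact hπ.homeo.injective.comp (h.comp hτ.homeo.symm.injective)
  · intro h
    rw [map_a_eq w hτ hπ]
    exact hπ.homeo.symm.injective.comp (h.comp hτ.homeo.injective)

theorem surjective_iff (w : a ≫ π = τ ≫ b) (hτ : IsHomeoPts τ) (hπ : IsHomeoPts π) :
    Function.Surjective (Points.map a) ↔ Function.Surjective (Points.map b) := by
  constructor
  · intro h
    rw [map_b_eq w hτ hπ]
    exact hπ.homeo.surjective.comp (h.comp hτ.homeo.symm.surjective)
  · intro h
    rw [map_a_eq w hτ hπ]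
    exact hπ.homeo.symm.surjective.comp (h.comp hτ.homeo.surjective)

end Transfer

/-- Quasi-compactness transfers along morphisms of algebraic spaces that are homeomorphisms on points. -/
theorem isQuasiCompactSp_iff_of_isHomeoPts {A B : Sp S} (hA : IsAlgSpace A) (hB : IsAlgSpace B)
    {τ : A ⟶ B} (hτ : IsHomeoPts τ) : IsQuasiCompactSp A ↔ IsQuasiCompactSp B := by
  constructor
  · intro h
    haveI := AlgSpQC.compactSpace_points_of_isQuasiCompactSp h
    haveI : CompactSpace (Points B) := hτ.homeo.compactSpace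
    exact AlgSpQC.isQuasiCompactSp_of_compactSpace_points hB
  · intro h
    haveI := AlgSpQC.compactSpace_points_of_isQuasiCompactSp h
    haveI : CompactSpace (Points A) := hτ.homeo.symm.compactSpace
    exact AlgSpQC.isQuasiCompactSp_of_compactSpace_points hA

section Squares

variable {X X' Y Y' : Sp S} {i : X ⟶ X'} {j : Y ⟶ Y'} {f : X ⟶ Y} {f' : X' ⟶ Y'}

/-- (A) A base change of `f` along `g : Z ⟶ Y` maps by a thickening to the base change of `f'`
along `g ≫ j`, compatibly with the projections to `Z`. -/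
theorem exists_thick_of_isPullback (hi : IsThickMor i) (hj : IsThickMor j) (w : i ≫ f' = f ≫ j)
    {Z Z₁ : Sp S} {g : Z ⟶ Y} {fst₁ : Z₁ ⟶ X} {snd₁ : Z₁ ⟶ Z} (sq₁ : IsPullback fst₁ snd₁ f g) :
    ∃ t : Z₁ ⟶ pullback f' (g ≫ j), IsThickMor t ∧ t ≫ pullback.snd f' (g ≫ j) = snd₁ := by
  haveI := mono_of_isThickMor hj
  have hw : (fst₁ ≫ i) ≫ f' = snd₁ ≫ g ≫ j := by
    rw [Category.assoc, w, ← Category.assoc, sq₁.w, Category.assoc]
  let t : Z₁ ⟶ pullback f' (g ≫ j) := pullback.lift (fst₁ ≫ i) snd₁ hw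
  have ht1 : t ≫ pullback.fst f' (g ≫ j) = fst₁ ≫ i := pullback.lift_fst _ _ _
  have ht2 : t ≫ pullback.snd f' (g ≫ j) = snd₁ := pullback.lift_snd _ _ _
  refine ⟨t, ?_, ht2⟩
  have hright : IsPullback (pullback.snd f' (g ≫ j)) (pullback.fst f' (g ≫ j)) (g ≫ j) f' :=
    (IsPullback.of_hasPullback f' (g ≫ j)).flip
  have houter : IsPullback (t ≫ pullback.snd f' (g ≫ j)) fst₁ (g ≫ j) (i ≫ f') := by
    rw [ht2, w]
    exact H86AlgSpOpen.isPullback_comp_mono j sq₁.flip
  have hleft : IsPullback t fst₁ (pullback.fst f' (g ≫ j)) i :=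
    IsPullback.of_right houter ht1 hright
  exact (RepWith (S := S) thick).of_isPullback hleft.flip hi

/-- (B) For `g' : Z ⟶ Y'`, the base change of `f'` along `g'` receives a thickening from the base
change of `f` along `Z ×_{Y'} Y ⟶ Y`. -/
theorem exists_thick_of_isPullback' (hi : IsThickMor i) (hj : IsThickMor j) (w : i ≫ f' = f ≫ j)
    {Z Z₂ : Sp S} {g' : Z ⟶ Y'} {fst₂ : Z₂ ⟶ X'} {snd₂ : Z₂ ⟶ Z} (sq₂ : IsPullback fst₂ snd₂ f' g') :
    ∃ t : pullback f (pullback.snd g' j) ⟶ Z₂, IsThickMor t ∧ IsThickMor (pullback.fst g' j) ∧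
      t ≫ snd₂ = pullback.snd f (pullback.snd g' j) ≫ pullback.fst g' j := by
  have hp : IsThickMor (pullback.fst g' j) :=
    (RepWith (S := S) thick).of_isPullback (IsPullback.of_hasPullback g' j).flip hj
  have hw : (pullback.fst f (pullback.snd g' j) ≫ i) ≫ f' =
      (pullback.snd f (pullback.snd g' j) ≫ pullback.fst g' j) ≫ g' := by
    rw [Category.assoc, w, ← Category.assoc, pullback.condition, Category.assoc, Category.assoc,
      pullback.condition]
  let t : pullback f (pullback.snd g' j) ⟶ Z₂ := sq₂.lift _ _ hw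
  have ht1 : t ≫ fst₂ = pullback.fst f (pullback.snd g' j) ≫ i := sq₂.lift_fst _ _ _
  have ht2 : t ≫ snd₂ = pullback.snd f (pullback.snd g' j) ≫ pullback.fst g' j := sq₂.lift_snd _ _ _
  refine ⟨t, ?_, hp, ht2⟩
  have hright : IsPullback snd₂ fst₂ g' f' := sq₂.flip
  have h1 : IsPullback (pullback.snd f (pullback.snd g' j)) (pullback.fst f (pullback.snd g' j))
      (pullback.snd g' j) f := (IsPullback.of_hasPullback f (pullback.snd g' j)).flip
  have h2 : IsPullback (pullback.fst g' j) (pullback.snd g' j) g' j := IsPullback.of_hasPullback g' j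
  have houter : IsPullback (t ≫ snd₂) (pullback.fst f (pullback.snd g' j)) g' (i ≫ f') := by
    rw [ht2, w]
    exact h1.paste_horiz h2
  have hleft : IsPullback t (pullback.fst f (pullback.snd g' j)) fst₂ i :=
    IsPullback.of_right houter ht1 hright
  exact (RepWith (S := S) thick).of_isPullback hleft.flip hi

/-- Universal topological properties transfer between the two morphisms of a morphism of
thickenings. -/
theorem univSp_iff_of_thick (Q : MorphismProperty (Sp S))
    (hQ : ∀ {A B C D : Sp S} {τ : A ⟶ B} {π : C ⟶ D} {a : A ⟶ C} {b : B ⟶ D},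
      a ≫ π = τ ≫ b → IsHomeoPts τ → IsHomeoPts π → (Q a ↔ Q b))
    (hY : IsAlgSpace Y) (hY' : IsAlgSpace Y')
    (hi : IsThickMor i) (hj : IsThickMor j) (w : i ≫ f' = f ≫ j) :
    UnivSp Q f ↔ UnivSp Q f' := by
  constructor
  · intro h Z Z₂ hZ g' fst₂ snd₂ sq₂
    obtain ⟨t, ht, hp, e⟩ := exists_thick_of_isPullback' hi hj w sq₂
    have hZ₀ : IsAlgSpace (pullback g' j) :=
      AlgSpBasic.isAlgSpace_of_isPullback hZ hY (fun _ a => hY'.representable_from_yon a)
        (IsPullback.of_hasPullback g' j)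
    have h1 : Q (pullback.snd f (pullback.snd g' j)) :=
      h hZ₀ (pullback.snd g' j) _ _ (IsPullback.of_hasPullback _ _)
    exact (hQ e.symm (isHomeoPts_of_isThickMor ht) (isHomeoPts_of_isThickMor hp)).1 h1
  · intro h Z Z₁ hZ g fst₁ snd₁ sq₁
    obtain ⟨t, ht, e⟩ := exists_thick_of_isPullback hi hj w sq₁
    have h1 : Q (pullback.snd f' (g ≫ j)) := h hZ (g ≫ j) _ _ (IsPullback.of_hasPullback _ _)
    refine (hQ (π := 𝟙 Z) ?_ (isHomeoPts_of_isThickMor ht) (isHomeoPts_id Z)).2 h1
    rw [Category.comp_id, e]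

theorem isQuasiCompactMor_iff_of_thick (hX : IsAlgSpace X) (hX' : IsAlgSpace X')
    (hY : IsAlgSpace Y) (hY' : IsAlgSpace Y')
    (hi : IsThickMor i) (hj : IsThickMor j) (w : i ≫ f' = f ≫ j) :
    IsQuasiCompactMor f ↔ IsQuasiCompactMor f' := by
  constructor
  · intro h Z Z₂ hZ hZqc g' fst₂ snd₂ sq₂
    obtain ⟨t, ht, hp, e⟩ := exists_thick_of_isPullback' hi hj w sq₂
    have hZ₀ : IsAlgSpace (pullback g' j) :=
      AlgSpBasic.isAlgSpace_of_isPullback hZ hY (fun _ a => hY'.representable_from_yon a)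
        (IsPullback.of_hasPullback g' j)
    have hZ₀qc : IsQuasiCompactSp (pullback g' j) :=
      (isQuasiCompactSp_iff_of_isHomeoPts hZ₀ hZ (isHomeoPts_of_isThickMor hp)).2 hZqc
    have hZ₁ : IsAlgSpace (pullback f (pullback.snd g' j)) :=
      AlgSpBasic.isAlgSpace_of_isPullback hX hZ₀ (fun _ a => hY.representable_from_yon a)
        (IsPullback.of_hasPullback _ _)
    have hZ₂ : IsAlgSpace Z₂ :=
      AlgSpBasic.isAlgSpace_of_isPullback hX' hZ (fun _ a => hY'.representable_from_yon a) sq₂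
    have h1 : IsQuasiCompactSp (pullback f (pullback.snd g' j)) :=
      h hZ₀ hZ₀qc (pullback.snd g' j) _ _ (IsPullback.of_hasPullback _ _)
    exact (isQuasiCompactSp_iff_of_isHomeoPts hZ₁ hZ₂ (isHomeoPts_of_isThickMor ht)).1 h1
  · intro h Z Z₁ hZ hZqc g fst₁ snd₁ sq₁
    obtain ⟨t, ht, e⟩ := exists_thick_of_isPullback hi hj w sq₁
    have hZ₁ : IsAlgSpace Z₁ :=
      AlgSpBasic.isAlgSpace_of_isPullback hX hZ (fun _ a => hY.representable_from_yon a) sq₁
    have hZ₂ : IsAlgSpace (pullback f' (g ≫ j)) :=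
      AlgSpBasic.isAlgSpace_of_isPullback hX' hZ (fun _ a => hY'.representable_from_yon a)
        (IsPullback.of_hasPullback _ _)
    have h1 : IsQuasiCompactSp (pullback f' (g ≫ j)) :=
      h hZ hZqc (g ≫ j) _ _ (IsPullback.of_hasPullback _ _)
    exact (isQuasiCompactSp_iff_of_isHomeoPts hZ₁ hZ₂ (isHomeoPts_of_isThickMor ht)).2 h1

/-- Morphisms of thickenings: topological properties of `f` and `f'` agree. -/
theorem thick_morphism_props (hX : IsAlgSpace X) (hX' : IsAlgSpace X')
    (hY : IsAlgSpace Y) (hY' : IsAlgSpace Y')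
    (hi : IsThickMor i) (hj : IsThickMor j) (w : i ≫ f' = f ≫ j) :
    (IsSurjectiveMor f ↔ IsSurjectiveMor f') ∧
    (IsQuasiCompactMor f ↔ IsQuasiCompactMor f') ∧
    (IsUnivClosedMor f ↔ IsUnivClosedMor f') ∧
    (IsUnivInjectiveMor f ↔ IsUnivInjectiveMor f') ∧
    (IsUnivOpenMor f ↔ IsUnivOpenMor f') := by
  refine ⟨?_, isQuasiCompactMor_iff_of_thick hX hX' hY hY' hi hj w, ?_, ?_, ?_⟩
  · exact surjective_iff w.symm (isHomeoPts_of_isThickMor hi) (isHomeoPts_of_isThickMor hj)
  · exact univSp_iff_of_thick IsClosedMor (fun w hτ hπ => isClosedMap_iff w hτ hπ) hY hY' hi hj w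
  · exact univSp_iff_of_thick (fun _ _ f => Function.Injective (Points.map f))
      (fun w hτ hπ => injective_iff w hτ hπ) hY hY' hi hj w
  · exact univSp_iff_of_thick IsOpenMor (fun w hτ hπ => isOpenMap_iff w hτ hπ) hY hY' hi hj w

end Squares

end Groth.Agent.Lib.H86Thick
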