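import Groth.Agent.Lib.H86Thick2
import Groth.Agent.Lib.AlgSpProper2

/-!
# helper86: morphisms of thickenings of algebraic spaces: separatedness
-/

set_option autoImplicit false
set_option linter.style.haveILetI false
universe u
open CategoryTheory CategoryTheory.Limits AlgebraicGeometry Opposite

namespace Groth.Agent.Lib.H86Thick
open AlgSp

variable {S : Scheme.{u}}

set_option backward.isDefEq.respectTransparency false in
instance thick_isMultiplicative : (thick.{u}).IsMultiplicative := by
  unfold thick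
  infer_instance

theorem isThickMor_comp {A B C : Sp S} {a : A ⟶ B} {b : B ⟶ C} (ha : IsThickMor a)
    (hb : IsThickMor b) : IsThickMor (a ≫ b) :=
  (RepWith (S := S) thick).comp_mem _ _ ha hb

section Diag

variable {X X' Y Y' : Sp S} {i : X ⟶ X'} {j : Y ⟶ Y'} {f : X ⟶ Y} {f' : X' ⟶ Y'}

/-- The map `X ×_Y X ⟶ X' ×_{Y'} X'` induced by a morphism of thickenings. -/
noncomputable def prodMap (w : i ≫ f' = f ≫ j) : pullback f f ⟶ pullback f' f' :=
  pullback.lift (pullback.fst f f ≫ i) (pullback.snd f f ≫ i) (by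
    rw [Category.assoc, Category.assoc, w, ← Category.assoc, ← Category.assoc, pullback.condition])

theorem prodMap_fst (w : i ≫ f' = f ≫ j) :
    prodMap w ≫ pullback.fst f' f' = pullback.fst f f ≫ i := pullback.lift_fst _ _ _

theorem prodMap_snd (w : i ≫ f' = f ≫ j) :
    prodMap w ≫ pullback.snd f' f' = pullback.snd f f ≫ i := pullback.lift_snd _ _ _

theorem diagonal_prodMap (w : i ≫ f' = f ≫ j) :
    pullback.diagonal f ≫ prodMap w = i ≫ pullback.diagonal f' := by
  apply pullback.hom_ext
  · rw [Category.assoc, prodMap_fst, ← Category.assoc, pullback.diagonal_fst, Category.id_comp,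
      Category.assoc, pullback.diagonal_fst, Category.comp_id]
  · rw [Category.assoc, prodMap_snd, ← Category.assoc, pullback.diagonal_snd, Category.id_comp,
      Category.assoc, pullback.diagonal_snd, Category.comp_id]

/-- Variant of `exists_thick_of_isPullback` recording both projections. -/
theorem exists_thick_of_isPullback₂ (hi : IsThickMor i) (hj : IsThickMor j) (w : i ≫ f' = f ≫ j)
    {Z Z₁ : Sp S} {g : Z ⟶ Y} {fst₁ : Z₁ ⟶ X} {snd₁ : Z₁ ⟶ Z} (sq₁ : IsPullback fst₁ snd₁ f g) :
    ∃ t : Z₁ ⟶ pullback f' (g ≫ j), IsThickMor t ∧ t ≫ pullback.snd f' (g ≫ j) = snd₁ ∧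
      t ≫ pullback.fst f' (g ≫ j) = fst₁ ≫ i := by
  haveI := mono_of_isThickMor hj
  have hw : (fst₁ ≫ i) ≫ f' = snd₁ ≫ g ≫ j := by
    rw [Category.assoc, w, ← Category.assoc, sq₁.w, Category.assoc]
  let t : Z₁ ⟶ pullback f' (g ≫ j) := pullback.lift (fst₁ ≫ i) snd₁ hw
  have ht1 : t ≫ pullback.fst f' (g ≫ j) = fst₁ ≫ i := pullback.lift_fst _ _ _
  have ht2 : t ≫ pullback.snd f' (g ≫ j) = snd₁ := pullback.lift_snd _ _ _
  refine ⟨t, ?_, ht2, ht1⟩
  have hright : IsPullback (pullback.snd f' (g ≫ j)) (pullback.fst f' (g ≫ j)) (g ≫ j) f' :=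
    (IsPullback.of_hasPullback f' (g ≫ j)).flip
  have houter : IsPullback (t ≫ pullback.snd f' (g ≫ j)) fst₁ (g ≫ j) (i ≫ f') := by
    rw [ht2, w]
    exact H86AlgSpOpen.isPullback_comp_mono j sq₁.flip
  have hleft : IsPullback t fst₁ (pullback.fst f' (g ≫ j)) i :=
    IsPullback.of_right houter ht1 hright
  exact (RepWith (S := S) thick).of_isPullback hleft.flip hi

theorem isThickMor_prodMap (hi : IsThickMor i) (hj : IsThickMor j) (w : i ≫ f' = f ≫ j) :
    IsThickMor (prodMap w) := by
  obtain ⟨t, ht, e, e'⟩ := exists_thick_of_isPullback₂ hi hj w (IsPullback.of_hasPullback f f)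
  -- second step: base change of `i` along the second projection
  have hw' : f ≫ j = i ≫ f' := w.symm
  let r : pullback f' (f ≫ j) ⟶ pullback f' f' :=
    pullback.lift (pullback.fst f' (f ≫ j)) (pullback.snd f' (f ≫ j) ≫ i) (by
      rw [Category.assoc, w, pullback.condition])
  have hr1 : r ≫ pullback.fst f' f' = pullback.fst f' (f ≫ j) := pullback.lift_fst _ _ _
  have hr2 : r ≫ pullback.snd f' f' = pullback.snd f' (f ≫ j) ≫ i := pullback.lift_snd _ _ _
  have hright : IsPullback (pullback.fst f' f') (pullback.snd f' f') f' f' :=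
    IsPullback.of_hasPullback f' f'
  have houter : IsPullback (r ≫ pullback.fst f' f') (pullback.snd f' (f ≫ j)) f' (i ≫ f') := by
    rw [hr1, w]
    exact IsPullback.of_hasPullback f' (f ≫ j)
  have hleft : IsPullback r (pullback.snd f' (f ≫ j)) (pullback.snd f' f') i :=
    IsPullback.of_right houter hr2 hright
  have hrthick : IsThickMor r := (RepWith (S := S) thick).of_isPullback hleft.flip hi
  have hfac : prodMap w = t ≫ r := by
    apply pullback.hom_ext
    · rw [Category.assoc, hr1, e', prodMap_fst]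
    · rw [Category.assoc, hr2, ← Category.assoc, e, prodMap_snd]
  rw [hfac]
  exact isThickMor_comp ht hrthick

theorem isSeparatedMor_iff_of_thick (hX : IsAlgSpace X) (hX' : IsAlgSpace X')
    (hY : IsAlgSpace Y) (hY' : IsAlgSpace Y')
    (hi : IsThickMor i) (hj : IsThickMor j) (w : i ≫ f' = f ≫ j) :
    IsSeparatedMor f ↔ IsSeparatedMor f' := by
  have hP : IsAlgSpace (pullback f f) :=
    AlgSpBasic.isAlgSpace_of_isPullback hX hX (fun _ a => hY.representable_from_yon a)
      (IsPullback.of_hasPullback f f)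
  have hP' : IsAlgSpace (pullback f' f') :=
    AlgSpBasic.isAlgSpace_of_isPullback hX' hX' (fun _ a => hY'.representable_from_yon a)
      (IsPullback.of_hasPullback f' f')
  rw [AlgSpProper.isSeparatedMor_iff_isUnivClosedMor_diagonal hX hY f,
    AlgSpProper.isSeparatedMor_iff_isUnivClosedMor_diagonal hX' hY' f']
  exact univSp_iff_of_thick IsClosedMor (fun w hτ hπ => isClosedMap_iff w hτ hπ) hP hP' hi
    (isThickMor_prodMap hi hj w) (diagonal_prodMap w).symm

theorem isQuasiSeparatedMor_iff_of_thick (hX : IsAlgSpace X) (hX' : IsAlgSpace X')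
    (hY : IsAlgSpace Y) (hY' : IsAlgSpace Y')
    (hi : IsThickMor i) (hj : IsThickMor j) (w : i ≫ f' = f ≫ j) :
    IsQuasiSeparatedMor f ↔ IsQuasiSeparatedMor f' := by
  have hP : IsAlgSpace (pullback f f) :=
    AlgSpBasic.isAlgSpace_of_isPullback hX hX (fun _ a => hY.representable_from_yon a)
      (IsPullback.of_hasPullback f f)
  have hP' : IsAlgSpace (pullback f' f') :=
    AlgSpBasic.isAlgSpace_of_isPullback hX' hX' (fun _ a => hY'.representable_from_yon a)
      (IsPullback.of_hasPullback f' f')
  have hrep : Representable (pullback.diagonal f) := AlgSpBasic.representable_diagonal hX.diag f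
  have hrep' : Representable (pullback.diagonal f') := AlgSpBasic.representable_diagonal hX'.diag f'
  have key := isQuasiCompactMor_iff_of_thick hX hX' hP hP' hi (isThickMor_prodMap hi hj w)
    (diagonal_prodMap w).symm
  constructor
  · intro h
    exact AlgSpQC.repWith_quasiCompact_of_isQuasiCompactMor hrep'
      (key.1 (AlgSpQC.isQuasiCompactMor_of_repWith h))
  · intro h
    exact AlgSpQC.repWith_quasiCompact_of_isQuasiCompactMor hrep
      (key.2 (AlgSpQC.isQuasiCompactMor_of_repWith h))

end Diag

end Groth.Agent.Lib.H86Thick
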