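import Groth.Agent.Lib.H86Thick4
import Groth.Agent.Lib.ThickeningBC
import Mathlib.RingTheory.FiniteType
import Mathlib.RingTheory.RingHom.FiniteType

/-!
# helper86: cartesian morphisms of thickenings where the TOP thickening has finite order

`X ⊂ X'` of finite order, `X = Y ×_{Y'} X'`, `f` locally of finite type ⟹ `f'` locally of finite
type (schemes and algebraic spaces).
-/

set_option autoImplicit false
set_option linter.style.haveILetI false
universe u
open CategoryTheory CategoryTheory.Limits AlgebraicGeometry Opposite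

namespace Groth.Agent.Lib.H86ThickFO
open AlgSp Groth.Agent.Lib.ThickeningBC

section Nakayama

variable {R M : Type*} [CommRing R] [AddCommGroup M] [Module R M]

/-- Nakayama for an ideal acting nilpotently on the module. -/
lemma eq_top_of_top_le_sup_smul' (I : Ideal R) (n : ℕ)
    (hI : (I ^ n) • (⊤ : Submodule R M) = ⊥) (N : Submodule R M)
    (h : (⊤ : Submodule R M) ≤ N ⊔ I • (⊤ : Submodule R M)) : N = ⊤ := by
  have key : ∀ k : ℕ, (⊤ : Submodule R M) ≤ N ⊔ (I ^ k) • (⊤ : Submodule R M) := by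
    intro k
    induction k with
    | zero => simp
    | succ k ih =>
      calc (⊤ : Submodule R M) ≤ N ⊔ I • (⊤ : Submodule R M) := h
        _ ≤ N ⊔ I • (N ⊔ (I ^ k) • (⊤ : Submodule R M)) := by
            gcongr
        _ = N ⊔ (I • N ⊔ I • (I ^ k) • (⊤ : Submodule R M)) := by
            rw [Submodule.smul_sup]
        _ ≤ N ⊔ (I ^ (k + 1)) • (⊤ : Submodule R M) := by
            rw [pow_succ', Submodule.mul_smul]
            refine sup_le le_sup_left (sup_le ?_ le_sup_right)
            exact le_sup_of_le_left Submodule.smul_le_right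
  have := key n
  rw [hI, sup_bot_eq] at this
  exact top_le_iff.mp this

end Nakayama

lemma finiteType_of_surjective_of_nilpotent' {R S T : Type*} [CommRing R] [CommRing S] [CommRing T]
    [Algebra R S] [Algebra R T] (ψ : S →ₐ[R] T) (hψ : Function.Surjective ψ) (I : Ideal R)
    (hnil : IsNilpotent (RingHom.ker (ψ : S →+* T)))
    (hker : RingHom.ker (ψ : S →+* T) ≤ I.map (algebraMap R S))
    (hker' : I.map (algebraMap R S) ≤ RingHom.ker (ψ : S →+* T))
    [Algebra.FiniteType R T] : Algebra.FiniteType R S := by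
  classical
  obtain ⟨t, ht⟩ := (Algebra.FiniteType.out : (⊤ : Subalgebra R T).FG)
  let t' : Finset S := t.image (Function.surjInv hψ)
  have ht' : ψ '' (t' : Set S) = (t : Set T) := by
    ext x
    simp only [t', Finset.coe_image, Set.mem_image, Finset.mem_coe]
    constructor
    · rintro ⟨_, ⟨y, hy, rfl⟩, rfl⟩
      rwa [Function.surjInv_eq hψ]
    · intro hx
      exact ⟨_, ⟨x, hx, rfl⟩, Function.surjInv_eq hψ x⟩
  let C : Subalgebra R S := Algebra.adjoin R (t' : Set S)
  have hC : C.map ψ = ⊤ := by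
    rw [AlgHom.map_adjoin, ht', ht]
  suffices h : Subalgebra.toSubmodule C = ⊤ by
    refine ⟨⟨t', ?_⟩⟩
    apply Subalgebra.toSubmodule_injective
    rw [h]; rfl
  obtain ⟨n, hn⟩ := hnil
  have hIn : (I ^ n) • (⊤ : Submodule R S) = ⊥ := by
    rw [Ideal.smul_top_eq_map, Ideal.map_pow]
    have h1 : (I.map (algebraMap R S)) ^ n ≤ (RingHom.ker (ψ : S →+* T)) ^ n :=
      Ideal.pow_right_mono hker' n
    rw [hn] at h1
    have h2 : (I.map (algebraMap R S)) ^ n = ⊥ := le_bot_iff.mp h1
    rw [h2]
    rfl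
  apply eq_top_of_top_le_sup_smul' I n hIn
  intro b _
  have hb : ψ b ∈ C.map ψ := by rw [hC]; trivial
  obtain ⟨c, hc, hcb⟩ := hb
  have hk : b - c ∈ RingHom.ker (ψ : S →+* T) := by
    rw [RingHom.mem_ker, map_sub]
    have : ψ c = ψ b := hcb
    simp [this]
  have hk' : b - c ∈ I • (⊤ : Submodule R S) := by
    rw [Ideal.smul_top_eq_map]
    exact hker hk
  have : b = c + (b - c) := by ring
  rw [this]
  exact Submodule.add_mem_sup hc hk'

lemma finiteType_of_isPushout' {A' A B' B : CommRingCat.{u}} {α : A' ⟶ B'} {φ : A' ⟶ A}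
    {ψ : B' ⟶ B} {β : A ⟶ B} (h : IsPushout α φ ψ β) (hφ : Function.Surjective φ.hom)
    (hψ : Function.Surjective ψ.hom) (hI : IsNilpotent (RingHom.ker ψ.hom))
    (hβ : β.hom.FiniteType) : α.hom.FiniteType := by
  have hcomp : (ψ.hom.comp α.hom).FiniteType := by
    have : ψ.hom.comp α.hom = β.hom.comp φ.hom := by
      rw [← CommRingCat.hom_comp, ← CommRingCat.hom_comp, h.w]
    rw [this]
    exact hβ.comp (RingHom.FiniteType.of_surjective _ hφ)
  letI := α.hom.toAlgebra
  letI := (ψ.hom.comp α.hom).toAlgebra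
  let ψ' : B' →ₐ[A'] B := ⟨ψ.hom, fun _ => rfl⟩
  have : Algebra.FiniteType A' B := hcomp
  refine finiteType_of_surjective_of_nilpotent' ψ' hψ (RingHom.ker φ.hom) hI
    (ker_le_map_of_isPushout h hφ) ?_
  rw [Ideal.map_le_iff_le_comap]
  intro x hx
  rw [Ideal.mem_comap, RingHom.mem_ker]
  have h1 : ψ.hom (α.hom x) = β.hom (φ.hom x) := by
    have := congrArg (fun g => g.hom x) h.w
    exact this
  change ψ.hom (α.hom x) = 0
  rw [h1, RingHom.mem_ker.mp hx, map_zero]

section Geometry

variable {X X' S S' : Scheme.{u}} {iX : X ⟶ X'} {iS : S ⟶ S'} {f : X ⟶ S} {f' : X' ⟶ S'}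

/-- If `X = S ×_{S'} X'` with `S ⊂ S'` a closed immersion and `X ⊂ X'` has nilpotent ideal sheaf,
then `f` locally of finite type implies `f'` locally of finite type. -/
theorem lft_of_isPullback_of_isNilpotent_ker (hc : IsPullback iX f f' iS) [IsClosedImmersion iS]
    (hnil : IsNilpotent iX.ker) (hf : LocallyOfFiniteType f) : LocallyOfFiniteType f' := by
  have hiX : IsClosedImmersion iX := MorphismProperty.of_isPullback hc.flip inferInstance
  rw [HasRingHomProperty.iff_appLE (P := @LocallyOfFiniteType)]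
  intro V' U' e
  exact finiteType_of_isPushout' (isPushout_appLE hc V'.2 U'.2 e) (iS.app_surjective _ V'.2)
    (iX.app_surjective _ U'.2) (isNilpotent_ker_app hnil U'.2)
    (HasRingHomProperty.appLE @LocallyOfFiniteType f hf ⟨_, V'.2.preimage iS⟩
      ⟨_, U'.2.preimage iX⟩ _)

end Geometry

section AlgSpLevel

open Groth.Agent.Lib.H86Thick Groth.Agent.Lib.AlgSpBasic

variable {S : Scheme.{u}} {X X' Y Y' : Sp S} {i : X ⟶ X'} {j : Y ⟶ Y'} {f : X ⟶ Y} {f' : X' ⟶ Y'}

set_option backward.isDefEq.respectTransparency false in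
/-- Variant of `H86Thick.exists_chart_pullback` also exposing the pullback square of the source
chart. -/
theorem exists_chart_pullback' (hi : IsThickMor i) (hj : IsThickMor j) (hcart : IsPullback i f f' j)
    {U' V' : Over S} (a' : (yon S).obj U' ⟶ X') (b' : (yon S).obj V' ⟶ Y') (h' : U' ⟶ V')
    (ha' : RepWith @Etale a') (hb' : RepWith @Etale b') (e' : a' ≫ f' = (yon S).map h' ≫ b') :
    ∃ (U V : Over S) (a : (yon S).obj U ⟶ X) (b : (yon S).obj V ⟶ Y) (h : U ⟶ V) (p : U ⟶ U')
      (q : V ⟶ V'), RepWith @Etale a ∧ RepWith @Etale b ∧ a ≫ f = (yon S).map h ≫ b ∧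
      MoreMor.IsThickening q.left ∧ IsPullback p.left h.left h'.left q.left ∧
      IsPullback a ((yon S).map p) i a' ∧ IsPullback b ((yon S).map q) j b' := by
  obtain ⟨U, p, a, sqU⟩ := hi.1 a'
  obtain ⟨V, q, b, sqV⟩ := hj.1 b'
  have ha : RepWith @Etale a := (RepWith (S := S) @Etale).of_isPullback sqU.flip ha'
  have hb : RepWith @Etale b := (RepWith (S := S) @Etale).of_isPullback sqV.flip hb'
  have hq : MoreMor.IsThickening q.left := hj.2 b' b q sqV
  have cond : (a ≫ f) ≫ j = (yon S).map (p ≫ h') ≫ b' := by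
    rw [Category.assoc, ← hcart.w, ← Category.assoc, sqU.w, Category.assoc, e', Functor.map_comp,
      Category.assoc]
  let k : (yon S).obj U ⟶ (yon S).obj V := sqV.lift (a ≫ f) ((yon S).map (p ≫ h')) cond
  have hk1 : k ≫ b = a ≫ f := sqV.lift_fst _ _ _
  have hk2 : k ≫ (yon S).map q = (yon S).map (p ≫ h') := sqV.lift_snd _ _ _
  obtain ⟨h, hh⟩ := (yon S).map_surjective k
  refine ⟨U, V, a, b, h, p, q, ha, hb, by rw [hh, hk1], hq, ?_, sqU, sqV⟩
  apply isPullback_left_of_yon
  rw [hh]
  have houter : IsPullback ((yon S).map p) (a ≫ f) (a' ≫ f') j := sqU.flip.paste_vert hcart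
  rw [← hk1, e'] at houter
  refine IsPullback.of_bot houter ?_ sqV.flip
  rw [hk2, Functor.map_comp]

set_option backward.isDefEq.respectTransparency false in
/-- **Cartesian morphism of thickenings with top thickening of finite order**: `f` locally of
finite type implies `f'` locally of finite type. -/
theorem locP_lft_of_thick_cart_finOrder (hi : IsThickMor i) (hj : IsThickMor j)
    (hcart : IsPullback i f f' j) (n : ℕ) (hfo : AffLocT (powZero n) i)
    (hft : LocP @LocallyOfFiniteType f) : LocP @LocallyOfFiniteType f' := by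
  intro U' V' a' b' h' ha' hb' e'
  rw [IsZariskiLocalAtSource.iff_of_openCover (P := @LocallyOfFiniteType) U'.left.affineCover]
  intro k
  let O' : Over S := Over.mk (U'.left.affineCover.f k ≫ U'.hom)
  let ι' : O' ⟶ U' := Over.homMk (U'.left.affineCover.f k)
  have hι : RepWith @Etale ((yon S).map ι') :=
    (repWith_yon_map_iff _ _).2 (inferInstance : Etale (U'.left.affineCover.f k))
  have ha'' : RepWith @Etale ((yon S).map ι' ≫ a') := MorphismProperty.comp_mem _ _ _ hι ha'
  have e'' : ((yon S).map ι' ≫ a') ≫ f' = (yon S).map (ι' ≫ h') ≫ b' := by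
    rw [Category.assoc, e', Functor.map_comp, Category.assoc]
  obtain ⟨U, V, a, b, h, p, q, ha, hb, e, hq, sq, sqU, -⟩ :=
    exists_chart_pullback' hi hj hcart ((yon S).map ι' ≫ a') b' (ι' ≫ h') ha'' hb' e''
  have hO : IsAffine O'.left := by
    change IsAffine (U'.left.affineCover.X k)
    infer_instance
  have hpow : powZero n p.left := hfo ((yon S).map ι' ≫ a') a p hO ha'' sqU
  haveI : IsClosedImmersion q.left := hq.1
  have hlft : LocallyOfFiniteType h.left := hft a b h ha hb e
  have := lft_of_isPullback_of_isNilpotent_ker sq ⟨n + 1, hpow⟩ hlft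
  exact this

end AlgSpLevel

end Groth.Agent.Lib.H86ThickFO
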