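import Groth.Prelude.Def_W4decUnivBdd
import Groth.Agent.Lib.H86AlgSpPoints
import Groth.Agent.Lib.AlgSpQC
import Groth.Agent.Lib.H69AlgSp
import Groth.Agent.Lib.H86FinDeg5

/-!
# Universally bounded fibres of morphisms from schemes to sheaves: open covers, schemes
-/

set_option autoImplicit false
set_option linter.style.haveILetI false
universe u
open CategoryTheory CategoryTheory.Limits AlgebraicGeometry
open AlgSp

namespace Groth.Agent.Lib.H86UnivBdd

open Groth.Agent.Lib.H86AlgSpPoints Groth.Agent.Lib.H86FinDeg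

variable {S : Scheme.{u}}

/-- the morphism of a field valued point of a representable sheaf -/
theorem toHom_yon (U : Over S) (p : FieldPt ((yon S).obj U)) :
    p.toHom = (yon S).map p.val.down := by
  have : p.toHom = yE.symm p.val := rfl
  rw [this, Equiv.symm_apply_eq, yE_yon_map]
  rfl

/-- a morphism of schemes whose fibres over field valued points are bounded has universally bounded fibres -/
theorem degFibresLE_yon_map_of_bddFib {U V : Over S} (f : V ⟶ U) {m : ℕ} (h : BddFib m f.left) :
    W4dec.DegFibresLE m ((yon S).map f) := by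
  intro p T c snd hsq
  obtain ⟨s, rfl⟩ := (yon S).map_surjective snd
  rw [toHom_yon] at hsq
  have sq : IsPullback c s p.val.down f :=
    IsPullback.of_map (yon S) ((yon S).map_injective (by simpa using hsq.w)) hsq
  have sq' : IsPullback c.left s.left p.val.down.left f.left := sq.map (Over.forget S)
  exact h p.K p.val.down.left T.left s.left c.left sq'.flip

/-- universally bounded fibres can be checked on a finite open cover of the source -/
theorem hasUnivBddFibres_of_openCover {F : Sp S} {V : Over S} (a : (yon S).obj V ⟶ F)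
    {ι : Type*} [Finite ι] (N : ι → V.left.Opens) (hN : ∀ v : ↥V.left, ∃ j, v ∈ N j)
    (h : ∀ j, W4dec.HasUnivBddFibres
      ((yon S).map (Over.homMk (N j).ι rfl : Over.mk ((N j).ι ≫ V.hom) ⟶ V) ≫ a)) :
    W4dec.HasUnivBddFibres a := by
  haveI := Fintype.ofFinite ι
  choose n hn using h
  refine ⟨∑ j, n j, ?_⟩
  intro q T c snd hsq
  obtain ⟨s, rfl⟩ := (yon S).map_surjective snd
  refine finDegLE_of_openCover (K := q.K) c.left (fun j => s.left ⁻¹ᵁ N j) ?_ n ?_
  · intro t
    obtain ⟨j, hj⟩ := hN (s.left t)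
    exact ⟨j, hj⟩
  · intro j
    have H := isPullback_morphismRestrict s.left (N j)
    have hw := Groth.Agent.Lib.AlgSpQC.isPullback_w_over s (s.left ⁻¹ᵁ N j).ι (N j).ι
      (s.left ∣_ N j) H
    have sq1 := Groth.Agent.Lib.AlgSpQC.isPullback_yon_overMk s (s.left ⁻¹ᵁ N j).ι (N j).ι
      (s.left ∣_ N j) H hw
    have sq2 := sq1.paste_horiz hsq
    rw [← Functor.map_comp] at sq2
    exact hn j q _ _ _ sq2

/-- bounded degree of fibres is preserved by composing with a representable open immersion -/
theorem degFibresLE_comp_openImmersion {F G : Sp S} {A : Over S} (χ : (yon S).obj A ⟶ F) {n : ℕ}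
    (hχ : W4dec.DegFibresLE n χ) (m : F ⟶ G) (hm : RepWith @IsOpenImmersion m) :
    W4dec.DegFibresLE n (χ ≫ m) := by
  haveI : Mono m := Groth.Agent.Lib.H69AlgSp.mono_of_repWith_isOpenImmersion hm
  intro q T c snd hsq
  by_cases hT : IsEmpty ↥T.left
  · exact finDegLE_of_isEmpty (K := q.K) c.left n
  rw [not_isEmpty_iff] at hT
  obtain ⟨t⟩ := hT
  obtain ⟨Gs, gK, gF, hpbG⟩ := hm.1 q.toHom
  haveI hopen : IsOpenImmersion gK.left := hm.2 _ gF gK hpbG
  have hw : (snd ≫ χ) ≫ m = (yon S).map c ≫ q.toHom := by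
    rw [Category.assoc]; exact hsq.w.symm
  obtain ⟨τ, hτ⟩ := (yon S).map_surjective (hpbG.lift _ _ hw)
  have hτ2 : (yon S).map τ ≫ (yon S).map gK = (yon S).map c := by
    rw [hτ]; exact hpbG.lift_snd _ _ _
  haveI : Subsingleton ↥q.pt.left := inferInstanceAs (Subsingleton (PrimeSpectrum q.K))
  haveI : Surjective gK.left := ⟨fun s => ⟨τ.left t, Subsingleton.elim _ _⟩⟩
  haveI : IsIso gK.left := (isIso_iff_isOpenImmersion_and_surjective _).2 ⟨inferInstance, inferInstance⟩
  haveI : IsIso ((Over.forget S).map gK) := (inferInstance : IsIso gK.left)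
  haveI : IsIso gK := isIso_of_reflects_iso gK (Over.forget S)
  have hq : q.toHom = ((yon S).map (inv gK) ≫ gF) ≫ m := by
    rw [Category.assoc, hpbG.w, ← Category.assoc, ← Functor.map_comp, IsIso.inv_hom_id,
      CategoryTheory.Functor.map_id, Category.id_comp]
  let q' : FieldPt F := ⟨q.K, q.str, yE ((yon S).map (inv gK) ≫ gF)⟩
  have hq' : q'.toHom = (yon S).map (inv gK) ≫ gF := by
    have : q'.toHom = yE.symm q'.val := rfl
    rw [this]
    exact Equiv.symm_apply_apply _ _
  rw [hq, ← hq'] at hsq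
  exact hχ q' T c snd (isPullback_of_comp_mono' m hsq)

theorem hasUnivBddFibres_comp_openImmersion {F G : Sp S} {A : Over S} (χ : (yon S).obj A ⟶ F)
    (hχ : W4dec.HasUnivBddFibres χ) (m : F ⟶ G) (hm : RepWith @IsOpenImmersion m) :
    W4dec.HasUnivBddFibres (χ ≫ m) := by
  obtain ⟨n, hn⟩ := hχ
  exact ⟨n, degFibresLE_comp_openImmersion χ hn m hm⟩

end Groth.Agent.Lib.H86UnivBdd
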