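import Groth.Agent.Lib.OmegaDer81E
import Groth.Agent.Lib.H90OXModQcqs

/-!
# helper81: OmegaSh — vanishing of a sheaf derivation from affine charts; power rule

* `zeroDer f F`: the zero derivation.
* `der_app_pow`: `D (a ^ n) = n • (a ^ (n - 1) • D a)`.
* `der_app_one`.
* `der_eq_zero_of_charts`: a derivation whose values on the sections over the members of an affine
  open cover vanish is zero on all sections.
-/

set_option autoImplicit false
set_option linter.style.haveILetI false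
universe u

open CategoryTheory AlgebraicGeometry TopologicalSpace Opposite

namespace Groth.Agent.Lib.OmegaDer81

open Groth.Agent.Lib.QCohStalk

variable {X S : Scheme.{u}} {f : X ⟶ S} {F : X.Modules}

/-- the zero derivation -/
noncomputable def zeroDer (f : X ⟶ S) (F : X.Modules) : OmegaSh.Der f F where
  d := 0
  d_mul a b := by simp
  d_map i s := by
    simp only [AddMonoidHom.zero_apply, map_zero]
    rfl
  d_app c := by simp

theorem zeroDer_app (W : X.Opens) (s : Γ(X, W)) : (zeroDer f F).app W s = 0 := rfl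

theorem der_app_one (D : OmegaSh.Der f F) (W : X.Opens) : D.app W 1 = 0 := by
  have h := der_app_mul D W 1 1
  rw [one_mul, one_smul] at h
  have h2 : D.app W 1 + 0 = D.app W 1 + D.app W 1 := by rw [add_zero]; exact h
  exact (add_left_cancel h2).symm

theorem der_app_pow (D : OmegaSh.Der f F) (W : X.Opens) (a : Γ(X, W)) (n : ℕ) :
    D.app W (a ^ n) = n • (a ^ (n - 1) • D.app W a) := by
  induction n with
  | zero => rw [pow_zero, der_app_one, zero_smul]
  | succ k ih =>
    rw [pow_succ, der_app_mul, ih]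
    rcases k with _ | k
    · simp
    · simp only [Nat.add_sub_cancel]
      rw [smul_comm a (k + 1), smul_smul, ← pow_succ', succ_nsmul ((a ^ (k + 1)) • D.app W a) (k + 1),
        add_comm]

theorem der_app_pow_of_natCast_eq_zero (D : OmegaSh.Der f F) (W : X.Opens) (a : Γ(X, W)) (p : ℕ)
    (hp : (p : Γ(X, W)) = 0) : D.app W (a ^ p) = 0 := by
  rw [der_app_pow, ← Nat.cast_smul_eq_nsmul Γ(X, W), hp, zero_smul]

/-- a derivation whose values over an affine open `W` vanish, vanishes over all opens inside `W` -/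
theorem der_eq_zero_of_le (D : OmegaSh.Der f F) {W : X.Opens} (hW : IsAffineOpen W)
    (h0 : ∀ x : Γ(X, W), D.app W x = 0) {O : X.Opens} (hO : O ≤ W) (y : Γ(X, O)) :
    D.app O y = 0 := by
  haveI : IsAffine (W : Scheme) := hW
  have key : restrictDer W.ι D = zeroDer (W.ι ≫ f) (F.restrict W.ι) := by
    apply der_ext
    ext s
    rw [restrictDer_app, zeroDer_app]
    -- transport along `W.ι ''ᵁ ⊤ = W`
    have e1 : W.ι ''ᵁ ⊤ ≤ W := W.ι_image_top.le
    have e2 : W ≤ W.ι ''ᵁ ⊤ := W.ι_image_top.ge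
    set t : Γ(X, W.ι ''ᵁ ⊤) := (W.ι.appIso ⊤).inv s
    have ht : t = resO X e1 (resO X e2 t) := by
      rw [resO_resO]
      change t = X.presheaf.map (𝟙 _) t
      rw [X.presheaf.map_id]; rfl
    rw [ht, der_app_map, h0]
    exact res_zero F e1
  -- now evaluate on `W.ι ⁻¹ᵁ O`
  have himg : W.ι ''ᵁ (W.ι ⁻¹ᵁ O) = O := by
    rw [Scheme.Hom.image_preimage_eq_opensRange_inf, Scheme.Opens.opensRange_ι]
    exact inf_eq_right.mpr hO
  have h1 : ∀ s, (restrictDer W.ι D).app (W.ι ⁻¹ᵁ O) s = 0 := fun s => by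
    rw [key, zeroDer_app]
  have e1 : W.ι ''ᵁ (W.ι ⁻¹ᵁ O) ≤ O := himg.le
  have e2 : O ≤ W.ι ''ᵁ (W.ι ⁻¹ᵁ O) := himg.ge
  have hy : y = resO X e2 (resO X e1 y) := by
    rw [resO_resO]
    change y = X.presheaf.map (𝟙 _) y
    rw [X.presheaf.map_id]; rfl
  rw [hy, der_app_map]
  have h2 := h1 ((W.ι.appIso (W.ι ⁻¹ᵁ O)).hom (resO X e1 y))
  rw [restrictDer_app] at h2
  have h3 : (W.ι.appIso (W.ι ⁻¹ᵁ O)).inv ((W.ι.appIso (W.ι ⁻¹ᵁ O)).hom (resO X e1 y)) =
      resO X e1 y := congr($((W.ι.appIso (W.ι ⁻¹ᵁ O)).hom_inv_id) (resO X e1 y))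
  rw [h3] at h2
  have h4 : D.app (W.ι ''ᵁ W.ι ⁻¹ᵁ O) (resO X e1 y) = (0 : Γ(F, W.ι ''ᵁ W.ι ⁻¹ᵁ O)) := h2
  rw [h4]
  exact res_zero F e2

/-- a derivation whose values over the members of an affine open cover vanish is zero -/
theorem der_eq_zero_of_charts (D : OmegaSh.Der f F)
    (h : ∀ x : X, ∃ W : X.Opens, x ∈ W ∧ IsAffineOpen W ∧ ∀ s : Γ(X, W), D.app W s = 0)
    (O : X.Opens) (y : Γ(X, O)) : D.app O y = 0 := by
  choose W hxW hW h0 using h
  apply Groth.Agent.Lib.H90OXModQcqs.res_ext F O (fun x : O => O ⊓ W x.1) (fun x => inf_le_left)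
    (fun x hx => Opens.mem_iSup.mpr ⟨⟨x, hx⟩, hx, hxW x⟩)
  intro x
  rw [res_zero, ← der_app_map]
  exact der_eq_zero_of_le D (hW x.1) (h0 x.1) inf_le_right _

end Groth.Agent.Lib.OmegaDer81
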