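import Groth.Agent.Lib.H87SplitConormal
import Groth.Agent.Lib.OmegaDer81H

set_option autoImplicit false
universe u
open CategoryTheory AlgebraicGeometry TopologicalSpace Opposite

namespace Groth.Agent.Lib.H87ConormalDiff

open Groth.Agent.Lib.OmegaDer81 Groth.Agent.Lib.QCohStalk Groth.Agent.Lib.IdealMod
  Groth.Agent.Lib.UnitBaseChange Groth.Agent.Lib.Conormal81 Groth.Agent.Lib.H87SplitConormal

section construct
variable {Z X S : Scheme.{u}} {f : X ⟶ S} (i : Z ⟶ X) {ΩX : X.Modules} (dX : OmegaSh.Der f ΩX)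

/-- `t ↦ i^*(d t)` on sections -/
noncomputable def cdFun (U : X.Opens) (t : Γ(ClSub.idealMod i.ker, U)) :
    Γ((Scheme.Modules.pullback i).obj ΩX, i ⁻¹ᵁ U) :=
  unitSecFun i ΩX (le_refl (i ⁻¹ᵁ U)) (dX.app U (idealFn i.ker U t))

theorem cdFun_eq (U : X.Opens) (t : Γ(ClSub.idealMod i.ker, U)) :
    cdFun i dX U t = OmegaSh.pullSect i ΩX U (dX.app U (idealFn i.ker U t)) := by
  unfold cdFun
  rw [unitSecFun_eq]
  exact res_self _ _

theorem cdFun_add (U : X.Opens) (s t : Γ(ClSub.idealMod i.ker, U)) :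
    cdFun i dX U (s + t) = cdFun i dX U s + cdFun i dX U t := by
  unfold cdFun
  rw [idealFn_add, map_add, unitSecFun_add']

theorem cdFun_smul (U : X.Opens) (a : Γ(X, U)) (t : Γ(ClSub.idealMod i.ker, U)) :
    cdFun i dX U (a • t) = (i.app U a) • cdFun i dX U t := by
  unfold cdFun
  rw [idealFn_smul, der_app_mul, unitSecFun_add', unitSecFun_smul, unitSecFun_smul,
    appLE_apply, appLE_apply, app_idealFn, resO_zero, zero_smul, add_zero, resO_self]

theorem cdFun_map {U V : X.Opens} (h : V ≤ U) (t : Γ(ClSub.idealMod i.ker, U)) :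
    cdFun i dX V (res (ClSub.idealMod i.ker) h t) =
      res ((Scheme.Modules.pullback i).obj ΩX) (i.preimage_mono h) (cdFun i dX U t) := by
  unfold cdFun
  have h1 : idealFn i.ker V (res (ClSub.idealMod i.ker) h t) = resO X h (idealFn i.ker U t) :=
    idealFn_map i.ker h t
  rw [h1, der_app_map, unitSecFun_res, res_unitSecFun]

/-- the `O_X`-linear map `𝓘 ⟶ i_* i^* Ω`, `t ↦ i^*(d t)` -/
noncomputable def cdHom₀ : ClSub.idealMod i.ker ⟶
    (Scheme.Modules.pushforward i).obj ((Scheme.Modules.pullback i).obj ΩX) :=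
  ⟨PresheafOfModules.homMk
    { app := fun U => AddCommGrpCat.ofHom
        (AddMonoidHom.mk' (cdFun i dX U.unop) (cdFun_add i dX U.unop))
      naturality := by
        intro U V j
        ext t
        exact cdFun_map i dX j.unop.le t }
    (fun U a t => cdFun_smul i dX U.unop a t)⟩

theorem cdHom₀_app (U : X.Opens) (t : Γ(ClSub.idealMod i.ker, U)) :
    (cdHom₀ i dX).app U t = cdFun i dX U t := rfl

/-- the canonical map `C_{Z/X} ⟶ i^*Ω` exists, for any `i` and any derivation -/
theorem exists_isConormalDiff :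
    ∃ φ : Omega.conormal i ⟶ (Scheme.Modules.pullback i).obj ΩX,
      OmegaSh.IsConormalDiff i dX φ := by
  refine ⟨((Scheme.Modules.pullbackPushforwardAdjunction i).homEquiv (ClSub.idealMod i.ker)
    ((Scheme.Modules.pullback i).obj ΩX)).symm (cdHom₀ i dX), ?_⟩
  intro U s
  change (((Scheme.Modules.pullbackPushforwardAdjunction i).homEquiv (ClSub.idealMod i.ker)
    ((Scheme.Modules.pullback i).obj ΩX)).symm (cdHom₀ i dX)).app (i ⁻¹ᵁ U)
      (OmegaSh.pullSect i (ClSub.idealMod i.ker) U s) = _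
  rw [← pbHomEquiv_app, Equiv.apply_symm_apply, cdHom₀_app, cdFun_eq, idealSect_eq_idealFn]

end construct

section sectionCase

open ZeroObject

/-- every derivation relative to a morphism equal to the identity vanishes -/
theorem der_eq_zero_of_eq_id {S : Scheme.{u}} (h : S ⟶ S) (hh : h = 𝟙 S) {F : S.Modules}
    (D : OmegaSh.Der h F) (W : S.Opens) (s : Γ(S, W)) : D.app W s = 0 := by
  subst hh
  exact der_app_app D W s

/-- the zero module with the zero derivation is universal relative to the identity -/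
theorem isUniversal_zeroDer {S : Scheme.{u}} (h : S ⟶ S) (hh : h = 𝟙 S) {Z : S.Modules}
    (hZ : Limits.IsZero Z) : OmegaSh.IsUniversal (zeroDer h Z) := by
  intro F D
  refine ⟨0, ?_, fun α _ => hZ.eq_of_src _ _⟩
  apply der_ext'
  intro W s
  rw [der_eq_zero_of_eq_id h hh D W s, postcomp_app, zeroDer_app, map_zero]

variable {X S : Scheme.{u}} (f : X ⟶ S) (e : S ⟶ X)

/-- the conormal sheaf of a section `e` of `f` is `e^*Ω_{X/S}` -/
theorem nonempty_conormal_iso_of_section (hef : e ≫ f = 𝟙 S) [IsImmersion e] [QuasiCompact e]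
    {ΩX : X.Modules} (dX : OmegaSh.Der f ΩX) (hX : OmegaSh.IsUniversal dX) :
    Nonempty (Omega.conormal e ≅ (Scheme.Modules.pullback e).obj ΩX) := by
  obtain ⟨φ, hφ⟩ := exists_isConormalDiff e dX
  have hc : OmegaSh.IsDiffCompat e dX (zeroDer (e ≫ f) (0 : S.Modules))
      (0 : (Scheme.Modules.pullback e).obj ΩX ⟶ 0) := by
    intro U s
    rw [zeroDer_app]
    rfl
  obtain ⟨w, hex, -⟩ := second_sequence_exact f e dX (zeroDer (e ≫ f) (0 : S.Modules)) φ 0 hX
    (isUniversal_zeroDer (e ≫ f) hef (Limits.isZero_zero _)) hφ hc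
  obtain ⟨r, hr⟩ := exists_retraction f e f hef (by rw [hef, Category.comp_id]) dX hX φ hφ
  haveI : Epi φ := hex.epi_f rfl
  haveI : Mono φ := mono_of_mono_fac hr
  haveI : IsIso φ := isIso_of_mono_of_epi φ
  exact ⟨asIso φ⟩

end sectionCase

end Groth.Agent.Lib.H87ConormalDiff
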