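import Groth.Agent.Lib.Conormal81D

/-!
# helper87: the conormal sequence of an immersion with a global left inverse is split

For `i : Z ⟶ X` over `S` with `g : X ⟶ Z`, `i ≫ g = 𝟙 Z`, `g ≫ i ≫ f = f`:
* `sigmaDer`: the `S`-derivation `z ↦ i^*(d_X (g♯ z))` of `O_Z` into `i^*Ω_X`;
* `exists_section`: a section `σ` of the canonical `c : i^*Ω_X ⟶ Ω_Z`;
* `retrDer`: the `S`-derivation `x ↦ class of (x - g♯ i♯ x)` of `O_X` into `i_* C_{Z/X}`;
* `exists_retraction`: a retraction `r` of the canonical `φ : C_{Z/X} ⟶ i^*Ω_X`.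
-/

set_option autoImplicit false
set_option linter.style.haveILetI false
set_option linter.unusedSectionVars false
universe u

open CategoryTheory AlgebraicGeometry TopologicalSpace Opposite

namespace Groth.Agent.Lib.H87SplitConormal

open Groth.Agent.Lib.OmegaDer81 Groth.Agent.Lib.QCohStalk Groth.Agent.Lib.IdealMod
  Groth.Agent.Lib.UnitBaseChange Groth.Agent.Lib.Conormal81

section sigma

variable {Z X S : Scheme.{u}} (f : X ⟶ S) (i : Z ⟶ X) (g : X ⟶ Z)

/-- the iso `g_* i_* M ≅ M` for `i ≫ g = 𝟙` -/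
noncomputable def pushIso (hgi : i ≫ g = 𝟙 Z) (M : Z.Modules) :
    (Scheme.Modules.pushforward g).obj ((Scheme.Modules.pushforward i).obj M) ≅ M :=
  (Scheme.Modules.pushforwardComp i g).app M ≪≫ (Scheme.Modules.pushforwardCongr hgi).app M ≪≫
    (Scheme.Modules.pushforwardId Z).app M

theorem preimage_preimage_eq (hgi : i ≫ g = 𝟙 Z) (W : Z.Opens) : i ⁻¹ᵁ (g ⁻¹ᵁ W) = W := by
  rw [← Scheme.Hom.comp_preimage, hgi]
  rfl

theorem pushIso_hom_app (hgi : i ≫ g = 𝟙 Z) (M : Z.Modules) (W : Z.Opens)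
    (m : Γ(M, i ⁻¹ᵁ (g ⁻¹ᵁ W))) :
    (pushIso i g hgi M).hom.app W m = res M (preimage_preimage_eq i g hgi W).ge m := by
  rfl

/-- the derivation `z ↦ i^*(d_X(g♯ z))` -/
noncomputable def sigmaDer (hgi : i ≫ g = 𝟙 Z) (hgS : g ≫ i ≫ f = f) {ΩX : X.Modules}
    (dX : OmegaSh.Der f ΩX) : OmegaSh.Der (i ≫ f) ((Scheme.Modules.pullback i).obj ΩX) :=
  (pushDer' (f := i ≫ f) (f' := f) g (𝟙 S) (by rw [Category.comp_id, hgS])
    (dX.postcomp ((Scheme.Modules.pullbackPushforwardAdjunction i).unit.app ΩX).val)).postcomp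
    (pushIso i g hgi ((Scheme.Modules.pullback i).obj ΩX)).hom.val

theorem sigmaDer_app (hgi : i ≫ g = 𝟙 Z) (hgS : g ≫ i ≫ f = f) {ΩX : X.Modules}
    (dX : OmegaSh.Der f ΩX) (W : Z.Opens) (z : Γ(Z, W)) :
    (sigmaDer f i g hgi hgS dX).app W z =
      res ((Scheme.Modules.pullback i).obj ΩX) (preimage_preimage_eq i g hgi W).ge
        (OmegaSh.pullSect i ΩX (g ⁻¹ᵁ W) (dX.app (g ⁻¹ᵁ W) (g.app W z))) := by
  rfl

theorem resO_app_of_eq_id (h : Z ⟶ Z) (e : h = 𝟙 Z) (W : Z.Opens) (hle : W ≤ h ⁻¹ᵁ W)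
    (z : Γ(Z, W)) : resO Z hle (h.app W z) = z := by
  subst e
  have h1 : (𝟙 Z : Z ⟶ Z).app W z = z := by
    rw [Scheme.Hom.id_app]; rfl
  rw [h1]
  change Z.presheaf.map _ z = z
  have : ∀ (e : op W ⟶ op W), Z.presheaf.map e z = z := by
    intro e
    rw [Subsingleton.elim e (𝟙 _), Z.presheaf.map_id]
    rfl
  exact this _

theorem app_app_eq (hgi : i ≫ g = 𝟙 Z) (W : Z.Opens) (z : Γ(Z, W)) :
    resO Z (preimage_preimage_eq i g hgi W).ge (i.app (g ⁻¹ᵁ W) (g.app W z)) = z := by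
  have h1 : i.app (g ⁻¹ᵁ W) (g.app W z) = (i ≫ g).app W z := by
    rw [Scheme.Hom.comp_app]; rfl
  rw [h1]
  exact resO_app_of_eq_id (i ≫ g) hgi W _ z

theorem exists_section (hgi : i ≫ g = 𝟙 Z) (hgS : g ≫ i ≫ f = f) {ΩX : X.Modules}
    (dX : OmegaSh.Der f ΩX) {ΩZ : Z.Modules} (dZ : OmegaSh.Der (i ≫ f) ΩZ)
    (hZ : OmegaSh.IsUniversal dZ)
    (c : (Scheme.Modules.pullback i).obj ΩX ⟶ ΩZ) (hc : OmegaSh.IsDiffCompat i dX dZ c) :
    ∃ σ : ΩZ ⟶ (Scheme.Modules.pullback i).obj ΩX, σ ≫ c = 𝟙 _ := by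
  obtain ⟨σ, hσ, -⟩ := hZ _ (sigmaDer f i g hgi hgS dX)
  refine ⟨σ, ?_⟩
  obtain ⟨α, -, hα⟩ := hZ ΩZ dZ
  rw [hα (σ ≫ c) ?_, hα (𝟙 _) ?_]
  · apply der_ext'
    intro W z
    rw [postcomp_app]
    rfl
  · apply der_ext'
    intro W z
    rw [postcomp_app]
    change c.app W (σ.app W (dZ.app W z)) = dZ.app W z
    have h1 : σ.app W (dZ.app W z) = (sigmaDer f i g hgi hgS dX).app W z := by
      rw [← postcomp_app, hσ]
    rw [h1, sigmaDer_app, hom_app_res', hc (g ⁻¹ᵁ W) (g.app W z), ← der_app_map,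
      app_app_eq i g hgi]

end sigma

section general

variable {X S : Scheme.{u}}

theorem app_of_eq {h h' : X ⟶ S} (e : h = h') (V : S.Opens) (c : Γ(S, V))
    (hle : h ⁻¹ᵁ V ≤ h' ⁻¹ᵁ V) : h.app V c = resO X hle (h'.app V c) := by
  subst e
  change _ = X.presheaf.map _ _
  have : ∀ (e : op (h ⁻¹ᵁ V) ⟶ op (h ⁻¹ᵁ V)) (y : Γ(X, h ⁻¹ᵁ V)), X.presheaf.map e y = y := by
    intro e y
    rw [Subsingleton.elim e (𝟙 _), X.presheaf.map_id]
    rfl
  exact (this _ _).symm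

theorem resO_self {U : X.Opens} (x : Γ(X, U)) (h : U ≤ U) : resO X h x = x := by
  change X.presheaf.map _ x = x
  rw [Subsingleton.elim (homOfLE h).op (𝟙 _), X.presheaf.map_id]
  rfl

theorem resO_zero {U V : X.Opens} (h : V ≤ U) : resO X h (0 : Γ(X, U)) = 0 :=
  map_zero (X.presheaf.map (homOfLE h).op).hom

theorem resO_add {U V : X.Opens} (h : V ≤ U) (a b : Γ(X, U)) :
    resO X h (a + b) = resO X h a + resO X h b :=
  map_add (X.presheaf.map (homOfLE h).op).hom a b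

theorem resO_sub {U V : X.Opens} (h : V ≤ U) (a b : Γ(X, U)) :
    resO X h (a - b) = resO X h a - resO X h b :=
  map_sub (X.presheaf.map (homOfLE h).op).hom a b

theorem resO_mul {U V : X.Opens} (h : V ≤ U) (a b : Γ(X, U)) :
    resO X h (a * b) = resO X h a * resO X h b :=
  map_mul (X.presheaf.map (homOfLE h).op).hom a b

end general

section retraction

variable {Z X S : Scheme.{u}} (f : X ⟶ S) (i : Z ⟶ X) (g : X ⟶ Z)

/-- sections of the ideal sheaf of `i` are killed by `i♯`, over any open -/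
theorem app_idealFn (U : X.Opens) (t : Γ(ClSub.idealMod i.ker, U)) :
    i.app U (idealFn i.ker U t) = 0 := by
  have h0 : (i.ker.subschemeι.app U).hom (idealFn i.ker U t) = 0 :=
    (exists_idealFn_eq_iff i.ker U _).mp ⟨t, rfl⟩
  have e : i = i.toImage ≫ i.imageι := (Scheme.Hom.toImage_imageι i).symm
  have hle : i ⁻¹ᵁ U ≤ (i.toImage ≫ i.imageι) ⁻¹ᵁ U := by rw [← e]
  rw [app_of_eq e U _ hle]
  have h1 : (i.toImage ≫ i.imageι).app U (idealFn i.ker U t) =
      i.toImage.app (i.imageι ⁻¹ᵁ U) (i.imageι.app U (idealFn i.ker U t)) := by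
    rw [Scheme.Hom.comp_app]; rfl
  rw [h1]
  have h2 : i.imageι.app U (idealFn i.ker U t) = 0 := h0
  rw [h2, map_zero]
  exact resO_zero _

theorem app_app_eq' (hgi : i ≫ g = 𝟙 Z) (W : Z.Opens) (z : Γ(Z, W)) :
    i.app (g ⁻¹ᵁ W) (g.app W z) = resO Z (preimage_preimage_eq i g hgi W).le z := by
  have h := congrArg (resO Z (preimage_preimage_eq i g hgi W).le) (app_app_eq i g hgi W z)
  rw [resO_resO, resO_self] at h
  exact h

/-- the open neighbourhood of `Z ∩ U` on which `x - g♯ i♯ x` is defined -/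
def nbhd (U : X.Opens) : X.Opens := U ⊓ g ⁻¹ᵁ (i ⁻¹ᵁ U)

theorem nbhd_le_left (U : X.Opens) : nbhd i g U ≤ U := inf_le_left

theorem nbhd_le_right (U : X.Opens) : nbhd i g U ≤ g ⁻¹ᵁ (i ⁻¹ᵁ U) := inf_le_right

theorem nbhd_mono {U₁ U₂ : X.Opens} (h : U₂ ≤ U₁) : nbhd i g U₂ ≤ nbhd i g U₁ :=
  inf_le_inf h (g.preimage_mono (i.preimage_mono h))

theorem le_preimage_nbhd (hgi : i ≫ g = 𝟙 Z) (U : X.Opens) : i ⁻¹ᵁ U ≤ i ⁻¹ᵁ (nbhd i g U) := by
  unfold nbhd
  rw [Scheme.Hom.preimage_inf, preimage_preimage_eq i g hgi]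
  exact le_inf le_rfl le_rfl

/-- the function `x - g♯ i♯ x` on `nbhd U` -/
noncomputable def diffFn (U : X.Opens) (x : Γ(X, U)) : Γ(X, nbhd i g U) :=
  resO X (nbhd_le_left i g U) x - resO X (nbhd_le_right i g U) (g.app (i ⁻¹ᵁ U) (i.app U x))

theorem app_diffFn (hgi : i ≫ g = 𝟙 Z) (U : X.Opens) (x : Γ(X, U)) :
    i.app (nbhd i g U) (diffFn i g U x) = 0 := by
  unfold diffFn
  rw [map_sub, app_resO, app_resO, app_app_eq' i g hgi, resO_resO, sub_self]

variable [QuasiCompact i]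

/-- the value of the retraction derivation on `x` -/
noncomputable def retrFun (hgi : i ≫ g = 𝟙 Z) (U : X.Opens) (x : Γ(X, U)) :
    Γ((Scheme.Modules.pullback i).obj (ClSub.idealMod i.ker), i ⁻¹ᵁ U) :=
  unitSecFun i (ClSub.idealMod i.ker) (le_preimage_nbhd i g hgi U)
    (Classical.choose (exists_idealFn_eq_of_app_eq_zero i (nbhd i g U) (diffFn i g U x)
      (app_diffFn i g hgi U x)))

/-- characterization of `retrFun` -/
theorem retrFun_eq (hgi : i ≫ g = 𝟙 Z) (U : X.Opens) (x : Γ(X, U)) (O : X.Opens)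
    (hO : O ≤ nbhd i g U) (hO' : i ⁻¹ᵁ U ≤ i ⁻¹ᵁ O) (t : Γ(ClSub.idealMod i.ker, O))
    (ht : idealFn i.ker O t = resO X hO (diffFn i g U x)) :
    retrFun i g hgi U x = unitSecFun i (ClSub.idealMod i.ker) hO' t := by
  unfold retrFun
  have hs := Classical.choose_spec (exists_idealFn_eq_of_app_eq_zero i (nbhd i g U)
    (diffFn i g U x) (app_diffFn i g hgi U x))
  set s := Classical.choose (exists_idealFn_eq_of_app_eq_zero i (nbhd i g U)
    (diffFn i g U x) (app_diffFn i g hgi U x)) with hsdef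
  have h1 : t = res (ClSub.idealMod i.ker) hO s := by
    apply idealFn_injective i.ker O
    rw [ht]
    change _ = idealFn i.ker O ((ClSub.idealMod i.ker).presheaf.map (homOfLE hO).op s)
    rw [idealFn_map, hs]
  rw [h1, unitSecFun_res]

theorem diffFn_add (U : X.Opens) (a b : Γ(X, U)) :
    diffFn i g U (a + b) = diffFn i g U a + diffFn i g U b := by
  unfold diffFn
  rw [map_add, map_add, resO_add, resO_add]
  ring

theorem diffFn_mul (U : X.Opens) (a b : Γ(X, U)) :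
    diffFn i g U (a * b) = resO X (nbhd_le_left i g U) a * diffFn i g U b +
      (resO X (nbhd_le_left i g U) b - diffFn i g U b) * diffFn i g U a := by
  unfold diffFn
  rw [map_mul, map_mul, resO_mul, resO_mul]
  ring

theorem diffFn_map {U₁ U₂ : X.Opens} (h : U₂ ≤ U₁) (x : Γ(X, U₁)) :
    diffFn i g U₂ (resO X h x) = resO X (nbhd_mono i g h) (diffFn i g U₁ x) := by
  unfold diffFn
  rw [resO_sub, resO_resO, resO_resO, app_resO, app_resO, resO_resO]
  congr 1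
  exact (resO_resO X _ _ _).symm

theorem diffFn_app (hgS : g ≫ i ≫ f = f) (V : S.Opens) (c : Γ(S, V)) :
    diffFn i g (f ⁻¹ᵁ V) (f.app V c) = 0 := by
  unfold diffFn
  have h1 : g.app (i ⁻¹ᵁ (f ⁻¹ᵁ V)) (i.app (f ⁻¹ᵁ V) (f.app V c)) = (g ≫ i ≫ f).app V c := by
    rw [Scheme.Hom.comp_app, Scheme.Hom.comp_app]; rfl
  have hle : (g ≫ i ≫ f) ⁻¹ᵁ V ≤ f ⁻¹ᵁ V := by rw [hgS]
  rw [h1, app_of_eq hgS V c hle]
  refine sub_eq_zero.mpr ?_
  exact (resO_resO X (nbhd_le_right i g (f ⁻¹ᵁ V)) hle (f.app V c)).symm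

theorem unitSecFun_add' {X Y : Scheme.{u}} (h : X ⟶ Y) (G : Y.Modules) {U : X.Opens} {V : Y.Opens}
    (hUV : U ≤ h ⁻¹ᵁ V) (m n : Γ(G, V)) :
    unitSecFun h G hUV (m + n) = unitSecFun h G hUV m + unitSecFun h G hUV n :=
  map_add (unitSec h G hUV) m n

theorem unitSecFun_zero' {X Y : Scheme.{u}} (h : X ⟶ Y) (G : Y.Modules) {U : X.Opens} {V : Y.Opens}
    (hUV : U ≤ h ⁻¹ᵁ V) : unitSecFun h G hUV (0 : Γ(G, V)) = 0 :=
  map_zero (unitSec h G hUV)

theorem appLE_apply {X Y : Scheme.{u}} (h : X ⟶ Y) {U : X.Opens} {V : Y.Opens}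
    (hUV : U ≤ h ⁻¹ᵁ V) (r : Γ(Y, V)) :
    (h.appLE V U hUV).hom r = resO X hUV (h.app V r) := rfl

theorem retrFun_add (hgi : i ≫ g = 𝟙 Z) (U : X.Opens) (a b : Γ(X, U)) :
    retrFun i g hgi U (a + b) = retrFun i g hgi U a + retrFun i g hgi U b := by
  obtain ⟨ta, hta⟩ := exists_idealFn_eq_of_app_eq_zero i (nbhd i g U) (diffFn i g U a)
    (app_diffFn i g hgi U a)
  obtain ⟨tb, htb⟩ := exists_idealFn_eq_of_app_eq_zero i (nbhd i g U) (diffFn i g U b)
    (app_diffFn i g hgi U b)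
  rw [retrFun_eq i g hgi U a (nbhd i g U) le_rfl (le_preimage_nbhd i g hgi U) ta
      (by rw [hta, resO_self]),
    retrFun_eq i g hgi U b (nbhd i g U) le_rfl (le_preimage_nbhd i g hgi U) tb
      (by rw [htb, resO_self]),
    retrFun_eq i g hgi U (a + b) (nbhd i g U) le_rfl (le_preimage_nbhd i g hgi U) (ta + tb)
      (by rw [idealFn_add, hta, htb, resO_self, diffFn_add]),
    unitSecFun_add']

theorem retrFun_mul (hgi : i ≫ g = 𝟙 Z) (U : X.Opens) (a b : Γ(X, U)) :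
    retrFun i g hgi U (a * b) =
      (i.app U a) • retrFun i g hgi U b + (i.app U b) • retrFun i g hgi U a := by
  obtain ⟨ta, hta⟩ := exists_idealFn_eq_of_app_eq_zero i (nbhd i g U) (diffFn i g U a)
    (app_diffFn i g hgi U a)
  obtain ⟨tb, htb⟩ := exists_idealFn_eq_of_app_eq_zero i (nbhd i g U) (diffFn i g U b)
    (app_diffFn i g hgi U b)
  have hA : ∀ c : Γ(X, U), (i.appLE (nbhd i g U) (i ⁻¹ᵁ U) (le_preimage_nbhd i g hgi U)).hom
      (resO X (nbhd_le_left i g U) c) = i.app U c := by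
    intro c
    rw [appLE_apply, app_resO, resO_resO, resO_self]
  have hB : ∀ c : Γ(X, U), (i.appLE (nbhd i g U) (i ⁻¹ᵁ U) (le_preimage_nbhd i g hgi U)).hom
      (diffFn i g U c) = 0 := by
    intro c
    rw [appLE_apply, app_diffFn i g hgi, resO_zero]
  rw [retrFun_eq i g hgi U a (nbhd i g U) le_rfl (le_preimage_nbhd i g hgi U) ta
      (by rw [hta, resO_self]),
    retrFun_eq i g hgi U b (nbhd i g U) le_rfl (le_preimage_nbhd i g hgi U) tb
      (by rw [htb, resO_self]),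
    retrFun_eq i g hgi U (a * b) (nbhd i g U) le_rfl (le_preimage_nbhd i g hgi U)
      (resO X (nbhd_le_left i g U) a • tb +
        (resO X (nbhd_le_left i g U) b - diffFn i g U b) • ta)
      (by rw [idealFn_add, idealFn_smul, idealFn_smul, hta, htb, resO_self, diffFn_mul]),
    unitSecFun_add', unitSecFun_smul, unitSecFun_smul, hA, map_sub, hA, hB, sub_zero]

theorem retrFun_map (hgi : i ≫ g = 𝟙 Z) {U₁ U₂ : X.Opens} (h : U₂ ≤ U₁) (x : Γ(X, U₁)) :
    retrFun i g hgi U₂ (resO X h x) =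
      res ((Scheme.Modules.pullback i).obj (ClSub.idealMod i.ker)) (i.preimage_mono h)
        (retrFun i g hgi U₁ x) := by
  obtain ⟨t, ht⟩ := exists_idealFn_eq_of_app_eq_zero i (nbhd i g U₁) (diffFn i g U₁ x)
    (app_diffFn i g hgi U₁ x)
  rw [retrFun_eq i g hgi U₁ x (nbhd i g U₁) le_rfl (le_preimage_nbhd i g hgi U₁) t
      (by rw [ht, resO_self]),
    retrFun_eq i g hgi U₂ (resO X h x) (nbhd i g U₂) le_rfl (le_preimage_nbhd i g hgi U₂)
      (res (ClSub.idealMod i.ker) (nbhd_mono i g h) t)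
      (by
        change idealFn i.ker _ ((ClSub.idealMod i.ker).presheaf.map (homOfLE _).op t) = _
        rw [idealFn_map, ht, resO_self, diffFn_map]),
    unitSecFun_res, res_unitSecFun]

theorem retrFun_app (hgi : i ≫ g = 𝟙 Z) (hgS : g ≫ i ≫ f = f) (V : S.Opens) (c : Γ(S, V)) :
    retrFun i g hgi (f ⁻¹ᵁ V) (f.app V c) = 0 := by
  rw [retrFun_eq i g hgi (f ⁻¹ᵁ V) (f.app V c) (nbhd i g (f ⁻¹ᵁ V)) le_rfl
      (le_preimage_nbhd i g hgi (f ⁻¹ᵁ V)) 0
      (by rw [idealFn_zero, diffFn_app f i g hgS, resO_zero]),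
    unitSecFun_zero']

/-- the derivation `x ↦ class of (x - g♯ i♯ x)` of `O_X` into `i_* C_{Z/X}` -/
noncomputable def retrDer (hgi : i ≫ g = 𝟙 Z) (hgS : g ≫ i ≫ f = f) :
    OmegaSh.Der f ((Scheme.Modules.pushforward i).obj
      ((Scheme.Modules.pullback i).obj (ClSub.idealMod i.ker))) where
  d {U} := AddMonoidHom.mk' (fun x => retrFun i g hgi U.unop x) (retrFun_add i g hgi U.unop)
  d_mul {U} a b := retrFun_mul i g hgi U.unop a b
  d_map {U U'} j x := retrFun_map i g hgi j.unop.le x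
  d_app {V} c := retrFun_app f i g hgi hgS V.unop c

theorem retrDer_app (hgi : i ≫ g = 𝟙 Z) (hgS : g ≫ i ≫ f = f) (U : X.Opens) (x : Γ(X, U)) :
    (retrDer f i g hgi hgS).app U x = retrFun i g hgi U x := rfl

theorem exists_retraction_aux (hgi : i ≫ g = 𝟙 Z) (hgS : g ≫ i ≫ f = f) {ΩX : X.Modules}
    (dX : OmegaSh.Der f ΩX) (hX : OmegaSh.IsUniversal dX)
    (φ : (Scheme.Modules.pullback i).obj (ClSub.idealMod i.ker) ⟶
      (Scheme.Modules.pullback i).obj ΩX)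
    (hφ : ∀ (U : X.Opens) (t : Γ(ClSub.idealMod i.ker, U)),
      φ.app (i ⁻¹ᵁ U) (OmegaSh.pullSect i (ClSub.idealMod i.ker) U t) =
        OmegaSh.pullSect i ΩX U (dX.app U (idealFn i.ker U t))) :
    ∃ r : (Scheme.Modules.pullback i).obj ΩX ⟶
      (Scheme.Modules.pullback i).obj (ClSub.idealMod i.ker), φ ≫ r = 𝟙 _ := by
  obtain ⟨r', hr', -⟩ := hX _ (retrDer f i g hgi hgS)
  refine ⟨((Scheme.Modules.pullbackPushforwardAdjunction i).homEquiv ΩX
    ((Scheme.Modules.pullback i).obj (ClSub.idealMod i.ker))).symm r', ?_⟩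
  apply ((Scheme.Modules.pullbackPushforwardAdjunction i).homEquiv (ClSub.idealMod i.ker)
    ((Scheme.Modules.pullback i).obj (ClSub.idealMod i.ker))).injective
  apply Scheme.Modules.hom_ext
  intro U
  ext t
  change ((((Scheme.Modules.pullbackPushforwardAdjunction i).homEquiv _ _) _).app U) t =
    ((((Scheme.Modules.pullbackPushforwardAdjunction i).homEquiv _ _) _).app U) t
  rw [pbHomEquiv_app, pbHomEquiv_app]
  change (((Scheme.Modules.pullbackPushforwardAdjunction i).homEquiv ΩX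
      ((Scheme.Modules.pullback i).obj (ClSub.idealMod i.ker))).symm r').app (i ⁻¹ᵁ U)
        (φ.app (i ⁻¹ᵁ U) (OmegaSh.pullSect i (ClSub.idealMod i.ker) U t)) =
    OmegaSh.pullSect i (ClSub.idealMod i.ker) U t
  rw [hφ U t, ← pbHomEquiv_app, Equiv.apply_symm_apply]
  have h1 : r'.app U (dX.app U (idealFn i.ker U t)) =
      (retrDer f i g hgi hgS).app U (idealFn i.ker U t) := by
    rw [← hr', postcomp_app]
  rw [h1, retrDer_app]
  rw [retrFun_eq i g hgi U (idealFn i.ker U t) (nbhd i g U) le_rfl (le_preimage_nbhd i g hgi U)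
    (res (ClSub.idealMod i.ker) (nbhd_le_left i g U) t) ?_, unitSecFun_res, unitSecFun_eq]
  · exact res_self _ _
  · change idealFn i.ker _ ((ClSub.idealMod i.ker).presheaf.map (homOfLE _).op t) = _
    rw [idealFn_map, resO_self]
    unfold diffFn
    rw [app_idealFn, map_zero, resO_zero, sub_zero]

theorem exists_retraction (hgi : i ≫ g = 𝟙 Z) (hgS : g ≫ i ≫ f = f) {ΩX : X.Modules}
    (dX : OmegaSh.Der f ΩX) (hX : OmegaSh.IsUniversal dX)
    (φ : Omega.conormal i ⟶ (Scheme.Modules.pullback i).obj ΩX)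
    (hφ : OmegaSh.IsConormalDiff i dX φ) :
    ∃ r : (Scheme.Modules.pullback i).obj ΩX ⟶ Omega.conormal i, φ ≫ r = 𝟙 _ :=
  exists_retraction_aux f i g hgi hgS dX hX φ hφ

end retraction

end Groth.Agent.Lib.H87SplitConormal
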