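import Groth.Agent.Lib.Conormal81F
import Groth.Agent.Lib.KoszulRel2
import Groth.Agent.Lib.H87SplitConormal
import Groth.Prelude.Def_RegImm

/-!
# helper87: `j^* C_{Y/X} → C_{Y'/X}` is a monomorphism for `H_1`-regular immersions `j : Y' → Y`

Ring level:
* `mem_mul_of_isH1Regular`: `I ⊆ J ⊆ B`, `J/I` generated by an `H_1`-regular sequence ⟹ `I ∩ J² ⊆ I·J`.
* `injective_of_inter_le`: base-change form of injectivity of `I/IJ → J/J²`.
* `isH1Regular_map_of_isLocalization`: `H_1`-regular sequences localize.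
-/

set_option autoImplicit false
set_option linter.style.haveILetI false
set_option linter.unusedSectionVars false
universe u

open CategoryTheory AlgebraicGeometry TopologicalSpace Opposite TensorProduct

namespace Groth.Agent.Lib.H87ConormalMono

section ring1

variable {B A₁ : Type*} [CommRing B] [CommRing A₁] [Algebra B A₁]

/-- trivial relations -/
def trivRelSet {R : Type*} [CommRing R] {n : ℕ} (f : Fin n → R) : Set (Fin n → R) :=
  {v | ∃ i j : Fin n, v = Pi.single i (f j) - Pi.single j (f i)}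

theorem sum_trivRel_eq_zero {R : Type*} [CommRing R] {n : ℕ} (f : Fin n → R) (v : Fin n → R)
    (hv : v ∈ Submodule.span R (trivRelSet f)) : ∑ i, v i * f i = 0 := by
  induction hv using Submodule.span_induction with
  | mem x hx =>
    obtain ⟨i, j, rfl⟩ := hx
    simp only [Pi.sub_apply, sub_mul, Finset.sum_sub_distrib]
    rw [Finset.sum_eq_single i, Finset.sum_eq_single j]
    · simp [mul_comm]
    · intro b _ hb; simp [Pi.single_apply, hb]
    · simp
    · intro b _ hb; simp [Pi.single_apply, hb]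
    · simp
  | zero => simp
  | add x y _ _ hx hy => simp only [Pi.add_apply, add_mul, Finset.sum_add_distrib, hx, hy, add_zero]
  | smul a x _ hx =>
    simp only [Pi.smul_apply, smul_eq_mul, mul_assoc]
    rw [← Finset.mul_sum, hx, mul_zero]

/-- lifting trivial relations along a surjection -/
theorem exists_lift_trivRel (hsurj : Function.Surjective (algebraMap B A₁)) {n : ℕ}
    (f : Fin n → B) (v : Fin n → A₁)
    (hv : v ∈ Submodule.span A₁ (trivRelSet fun i => algebraMap B A₁ (f i))) :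
    ∃ t ∈ Submodule.span B (trivRelSet f), ∀ i, algebraMap B A₁ (t i) = v i := by
  induction hv using Submodule.span_induction with
  | mem x hx =>
    obtain ⟨i, j, rfl⟩ := hx
    refine ⟨Pi.single i (f j) - Pi.single j (f i), Submodule.subset_span ⟨i, j, rfl⟩, fun k => ?_⟩
    simp only [Pi.sub_apply, map_sub, Pi.single_apply]
    split_ifs <;> simp
  | zero => exact ⟨0, Submodule.zero_mem _, fun i => by simp⟩
  | add x y _ _ hx hy =>
    obtain ⟨t, ht, ht'⟩ := hx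
    obtain ⟨s, hs, hs'⟩ := hy
    exact ⟨t + s, Submodule.add_mem _ ht hs, fun i => by simp [ht', hs']⟩
  | smul a x _ hx =>
    obtain ⟨t, ht, ht'⟩ := hx
    obtain ⟨b, rfl⟩ := hsurj a
    exact ⟨b • t, Submodule.smul_mem _ b ht, fun i => by simp [ht']⟩

end ring1

section ring2

theorem range_get_eq {R : Type*} (rs : List R) : Set.range rs.get = {r | r ∈ rs} := by
  ext x
  simp only [Set.mem_range, Set.mem_setOf_eq, List.mem_iff_get]

/-- the linear map `b ↦ Σ b_i f_i` -/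
def sumMul {B : Type*} [CommRing B] {n : ℕ} (f : Fin n → B) : (Fin n → B) →ₗ[B] B where
  toFun b := ∑ i, b i * f i
  map_add' a b := by simp only [Pi.add_apply, add_mul, Finset.sum_add_distrib]
  map_smul' a b := by
    simp only [Pi.smul_apply, smul_eq_mul, RingHom.id_apply, Finset.mul_sum, mul_assoc]

theorem sumMul_apply {B : Type*} [CommRing B] {n : ℕ} (f : Fin n → B) (b : Fin n → B) :
    sumMul f b = ∑ i, b i * f i := rfl

theorem exists_of_mem_span_mul_span {B : Type*} [CommRing B] {n : ℕ} (f : Fin n → B) (w : B)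
    (hw : w ∈ Ideal.span (Set.range f) * Ideal.span (Set.range f)) :
    ∃ b : Fin n → B, (∀ i, b i ∈ Ideal.span (Set.range f)) ∧ w = ∑ i, b i * f i := by
  induction hw using Submodule.mul_induction_on' with
  | mem_mul_mem r hr s hs =>
    rw [Ideal.mem_span_range_iff_exists_fun] at hs
    obtain ⟨c, rfl⟩ := hs
    refine ⟨fun i => r * c i, fun i => Ideal.mul_mem_right _ _ hr, ?_⟩
    rw [Finset.mul_sum]
    exact Finset.sum_congr rfl fun i _ => (mul_assoc _ _ _).symm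
  | add x y _ _ hx hy =>
    obtain ⟨b, hb, rfl⟩ := hx
    obtain ⟨c, hc, rfl⟩ := hy
    refine ⟨b + c, fun i => Ideal.add_mem _ (hb i) (hc i), ?_⟩
    simp only [Pi.add_apply, add_mul, Finset.sum_add_distrib]

theorem mul_le_core {B : Type*} [CommRing B] (I J F : Ideal B) (hFJ : F ≤ J)
    (hJle : J ≤ I ⊔ F) : J * J ≤ I * J ⊔ F * F := by
  calc J * J ≤ (I ⊔ F) * J := Ideal.mul_mono_left hJle
    _ = I * J ⊔ F * J := Ideal.sup_mul _ _ _
    _ ≤ I * J ⊔ F * F := by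
      refine sup_le le_sup_left ?_
      calc F * J ≤ F * (I ⊔ F) := Ideal.mul_mono_right hJle
        _ = F * I ⊔ F * F := Ideal.mul_sup _ _ _
        _ ≤ I * J ⊔ F * F := by
          refine sup_le_sup ?_ le_rfl
          rw [mul_comm]
          exact Ideal.mul_mono_right hFJ

/-- abstract core: `I ∩ J² ⊆ I·J`. -/
theorem mem_mul_core {B : Type*} [CommRing B] (I J : Ideal B) {n : ℕ} (f : Fin n → B)
    (hfJ : ∀ i, f i ∈ J) (hJle : J ≤ I ⊔ Ideal.span (Set.range f))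
    (hrel : ∀ b : Fin n → B, ∑ i, b i * f i ∈ I →
      ∃ t ∈ Submodule.span B (trivRelSet f), ∀ i, b i - t i ∈ I)
    (x : B) (hx : x ∈ I) (hxJ : x ∈ J * J) : x ∈ I * J := by
  have hFJ : Ideal.span (Set.range f) ≤ J :=
    Ideal.span_le.mpr (by rintro _ ⟨i, rfl⟩; exact hfJ i)
  have hx2 := mul_le_core I J _ hFJ hJle hxJ
  rw [Submodule.mem_sup] at hx2
  obtain ⟨y, hy, w, hw, hyw⟩ := hx2
  obtain ⟨b, hb, hbw⟩ := exists_of_mem_span_mul_span f w hw
  have hyI : y ∈ I := Ideal.mul_le_left hy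
  have hwI : ∑ i, b i * f i ∈ I := by
    have h1 : w = x - y := by
      rw [← hyw]
      exact (add_sub_cancel_left y w).symm
    rw [← hbw, h1]
    exact Ideal.sub_mem _ hx hyI
  obtain ⟨t, ht, ht'⟩ := hrel b hwI
  have hΦt : ∑ i, t i * f i = 0 := sum_trivRel_eq_zero f t ht
  have h2 : w = ∑ i, (b i - t i) * f i := by
    simp only [sub_mul, Finset.sum_sub_distrib, hΦt, sub_zero, hbw]
  rw [← hyw]
  refine Ideal.add_mem _ hy ?_
  rw [h2]
  exact Ideal.sum_mem _ fun i _ => Ideal.mul_mem_mul (ht' i) (hfJ i)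

variable {B A₁ A : Type*} [CommRing B] [CommRing A₁] [CommRing A] [Algebra B A₁] [Algebra A₁ A]
  [Algebra B A] [IsScalarTower B A₁ A]

/-- `I ∩ J² ⊆ I·J` when `J/I` is generated by an `H_1`-regular sequence. -/
theorem mem_mul_of_isH1Regular (hsurj : Function.Surjective (algebraMap B A₁)) {n : ℕ}
    (g : Fin n → A₁)
    (hrs : CAlgX.IsH1Regular g) (hker : RingHom.ker (algebraMap A₁ A) = Ideal.span (Set.range g))
    (x : B) (hx : algebraMap B A₁ x = 0)
    (hxJ : x ∈ RingHom.ker (algebraMap B A) * RingHom.ker (algebraMap B A)) :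
    x ∈ RingHom.ker (algebraMap B A₁) * RingHom.ker (algebraMap B A) := by
  classical
  choose f hf using fun i : Fin n => hsurj (g i)
  refine mem_mul_core _ _ f ?_ ?_ ?_ x (RingHom.mem_ker.mpr hx) hxJ
  · intro i
    rw [RingHom.mem_ker, IsScalarTower.algebraMap_apply B A₁ A, hf, ← RingHom.mem_ker, hker]
    exact Ideal.subset_span ⟨i, rfl⟩
  · intro y hy
    have h1 : algebraMap B A₁ y ∈ Ideal.span (Set.range g) := by
      rw [← hker, RingHom.mem_ker, ← IsScalarTower.algebraMap_apply]; exact hy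
    rw [Ideal.mem_span_range_iff_exists_fun] at h1
    obtain ⟨c, hc⟩ := h1
    choose c' hc' using fun i => hsurj (c i)
    have h2 : y - ∑ i, c' i * f i ∈ RingHom.ker (algebraMap B A₁) := by
      rw [RingHom.mem_ker, map_sub, map_sum, ← hc, sub_eq_zero]
      refine Finset.sum_congr rfl fun i _ => ?_
      rw [map_mul, hc', hf]
    have h3 : ∑ i, c' i * f i ∈ Ideal.span (Set.range f) :=
      Ideal.sum_mem _ fun i _ => Ideal.mul_mem_left _ _ (Ideal.subset_span ⟨i, rfl⟩)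
    have : y = (y - ∑ i, c' i * f i) + ∑ i, c' i * f i := by ring
    rw [this]
    exact Submodule.add_mem_sup h2 h3
  · intro b hb
    have hrel : ∑ i, algebraMap B A₁ (b i) * g i = 0 := by
      rw [RingHom.mem_ker, map_sum] at hb
      rw [← hb]
      refine Finset.sum_congr rfl fun i _ => ?_
      rw [map_mul, hf]
    have hmem := hrs (fun i => algebraMap B A₁ (b i)) hrel
    have hset : {v : Fin n → A₁ | ∃ i j : Fin n,
        v = Pi.single i (g j) - Pi.single j (g i)} =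
        trivRelSet fun i => algebraMap B A₁ (f i) := by
      ext v
      simp only [trivRelSet, Set.mem_setOf_eq, hf]
    rw [hset] at hmem
    obtain ⟨t, ht, ht'⟩ := exists_lift_trivRel hsurj f _ hmem
    exact ⟨t, ht, fun i => by rw [RingHom.mem_ker, map_sub, ht', sub_self]⟩

end ring2

section ring3

variable {B A : Type*} [CommRing B] [CommRing A] [Algebra B A]

/-- the kernel of `N → A ⊗[B] N` (in base change form) is `J • ⊤`, `J = ker (B → A)`, for `B → A` onto -/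
theorem mem_smul_top_of_isBaseChange (hsurj : Function.Surjective (algebraMap B A))
    {N M : Type*} [AddCommGroup N] [Module B N] [AddCommGroup M] [Module A M] [Module B M]
    [IsScalarTower B A M] (u : N →ₗ[B] M) (hu : IsBaseChange A u) (x : N) (hx : u x = 0) :
    x ∈ (RingHom.ker (algebraMap B A)) • (⊤ : Submodule B N) := by
  set J := RingHom.ker (algebraMap B A) with hJ
  have h1 : (1 : A) ⊗ₜ[B] x = 0 := by
    apply hu.equiv.injective
    rw [hu.equiv_tmul, one_smul, hx, map_zero]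
  have hex : Function.Exact (Submodule.subtype J) (Algebra.linearMap B A) := by
    intro b
    rw [Set.mem_range]
    constructor
    · intro hb
      exact ⟨⟨b, hb⟩, rfl⟩
    · rintro ⟨y, rfl⟩
      exact y.2
  have hex2 := rTensor_exact N hex hsurj
  have h2 : (LinearMap.rTensor N (Algebra.linearMap B A)) ((1 : B) ⊗ₜ[B] x) = 0 := by
    rw [LinearMap.rTensor_tmul, Algebra.linearMap_apply, map_one, h1]
  obtain ⟨y, hy⟩ := (hex2 _).mp h2
  rw [← Ideal.subtype_rTensor_range N J]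
  refine ⟨y, ?_⟩
  rw [LinearMap.comp_apply, hy]
  simp

theorem map_subtype_smul_top (J I : Ideal B) :
    Submodule.map (Submodule.subtype I) (J • (⊤ : Submodule B I)) = J * I := by
  rw [Submodule.map_smul'', Submodule.map_top, Submodule.range_subtype, smul_eq_mul]

theorem eq_zero_of_mem_smul_top {N M : Type*} [AddCommGroup N] [Module B N] [AddCommGroup M]
    [Module A M] [Module B M] [IsScalarTower B A M] (u : N →ₗ[B] M) (x : N)
    (hx : x ∈ (RingHom.ker (algebraMap B A)) • (⊤ : Submodule B N)) : u x = 0 := by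
  refine Submodule.smul_induction_on hx ?_ ?_
  · intro b hb y _
    rw [map_smul, ← algebraMap_smul A b (u y), RingHom.mem_ker.mp hb, zero_smul]
  · intro y z hy hz
    rw [map_add, hy, hz, add_zero]

/-- a semilinear map whose image spans is onto, for `B → A` onto -/
theorem surjective_of_span_eq_top (hsurj : Function.Surjective (algebraMap B A))
    {N M₁ : Type*} [AddCommGroup N] [Module B N] [AddCommGroup M₁] [Module A M₁] [Module B M₁]
    [IsScalarTower B A M₁] (u : N →ₗ[B] M₁)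
    (hspan : Submodule.span A (Set.range u) = ⊤) : Function.Surjective u := by
  intro m
  have hm : m ∈ Submodule.span A (Set.range u) := by rw [hspan]; trivial
  induction hm using Submodule.span_induction with
  | mem x hx => exact hx
  | zero => exact ⟨0, map_zero _⟩
  | add x y _ _ hx hy =>
    obtain ⟨x', rfl⟩ := hx
    obtain ⟨y', rfl⟩ := hy
    exact ⟨x' + y', map_add _ _ _⟩
  | smul a x _ hx =>
    obtain ⟨x', rfl⟩ := hx
    obtain ⟨b, rfl⟩ := hsurj a
    exact ⟨b • x', by rw [map_smul, algebraMap_smul]⟩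

/-- injectivity of `I/IJ → J/J²` in base change form -/
theorem injective_of_inter_le (hsurj : Function.Surjective (algebraMap B A))
    (I : Ideal B) (hIJ : I ≤ RingHom.ker (algebraMap B A))
    {M₁ M : Type*} [AddCommGroup M₁] [Module A M₁] [Module B M₁] [IsScalarTower B A M₁]
    [AddCommGroup M] [Module A M] [Module B M] [IsScalarTower B A M]
    (u₁ : I →ₗ[B] M₁) (hu₁ : Function.Surjective u₁)
    (uI : RingHom.ker (algebraMap B A) →ₗ[B] M) (huI : IsBaseChange A uI)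
    (φ : M₁ →ₗ[A] M) (hφ : ∀ x : I, φ (u₁ x) = uI ⟨x, hIJ x.2⟩)
    (hinter : ∀ x : B, x ∈ I →
      x ∈ RingHom.ker (algebraMap B A) * RingHom.ker (algebraMap B A) →
      x ∈ I * RingHom.ker (algebraMap B A)) :
    Function.Injective φ := by
  rw [injective_iff_map_eq_zero]
  intro m hm
  obtain ⟨x, rfl⟩ := hu₁ m
  rw [hφ] at hm
  have h1 := mem_smul_top_of_isBaseChange hsurj uI huI _ hm
  have h2 : (x : B) ∈ RingHom.ker (algebraMap B A) * RingHom.ker (algebraMap B A) := by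
    rw [← map_subtype_smul_top]
    exact ⟨_, h1, rfl⟩
  have h3 := hinter x x.2 h2
  rw [mul_comm, ← map_subtype_smul_top] at h3
  obtain ⟨x', hx', hxx'⟩ := h3
  have : x' = x := Subtype.ext hxx'
  subst this
  exact eq_zero_of_mem_smul_top u₁ x' hx'

end ring3

section ring4

variable {R R' : Type u} [CommRing R] [CommRing R'] [Algebra R R']

theorem map_mem_span_trivRel {n : ℕ} (f : Fin n → R) (v : Fin n → R)
    (hv : v ∈ Submodule.span R (trivRelSet f)) :
    (fun i => algebraMap R R' (v i)) ∈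
      Submodule.span R' (trivRelSet fun i => algebraMap R R' (f i)) := by
  induction hv using Submodule.span_induction with
  | mem x hx =>
    obtain ⟨i, j, rfl⟩ := hx
    refine Submodule.subset_span ⟨i, j, ?_⟩
    funext k
    simp only [Pi.sub_apply, map_sub, Pi.single_apply]
    split_ifs <;> simp
  | zero =>
    have : (fun i => algebraMap R R' ((0 : Fin n → R) i)) = 0 := by
      funext i; simp
    rw [this]; exact Submodule.zero_mem _
  | add x y _ _ hx hy =>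
    have : (fun i => algebraMap R R' ((x + y) i)) =
        (fun i => algebraMap R R' (x i)) + fun i => algebraMap R R' (y i) := by
      funext i; simp
    rw [this]; exact Submodule.add_mem _ hx hy
  | smul a x _ hx =>
    have : (fun i => algebraMap R R' ((a • x) i)) =
        algebraMap R R' a • fun i => algebraMap R R' (x i) := by
      funext i; simp
    rw [this]; exact Submodule.smul_mem _ _ hx

/-- `H_1`-regular sequences localize. -/
theorem isH1Regular_map_of_isLocalization (M : Submonoid R) [IsLocalization M R'] {n : ℕ}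
    (f : Fin n → R) (hf : CAlgX.IsH1Regular f) :
    CAlgX.IsH1Regular (fun i => algebraMap R R' (f i)) := by
  intro a' ha'
  obtain ⟨b, hb⟩ := IsLocalization.exist_integer_multiples_of_finite M a'
  choose a ha using hb
  have h1 : algebraMap R R' (∑ i, a i * f i) = 0 := by
    rw [map_sum]
    have : ∀ i, algebraMap R R' (a i * f i) = (b : R) • (a' i * algebraMap R R' (f i)) := by
      intro i
      rw [map_mul, ha, smul_mul_assoc]
    simp only [this]
    rw [← Finset.smul_sum, ha', smul_zero]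
  obtain ⟨c, hc⟩ := (IsLocalization.map_eq_zero_iff M R' _).mp h1
  have hrel : ∑ i, ((c : R) * a i) * f i = 0 := by
    rw [Finset.mul_sum] at hc
    rw [← hc]
    exact Finset.sum_congr rfl fun i _ => mul_assoc _ _ _
  have h2 := hf (fun i => (c : R) * a i) hrel
  have h3 := map_mem_span_trivRel (R' := R') f _ h2
  have hset : {v : Fin n → R' | ∃ i j : Fin n, v = Pi.single i (algebraMap R R' (f j)) -
      Pi.single j (algebraMap R R' (f i))} = trivRelSet fun i => algebraMap R R' (f i) := rfl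
  rw [hset]
  have hu : IsUnit (algebraMap R R' ((c : R) * (b : R))) := by
    rw [map_mul]
    exact (IsLocalization.map_units R' c).mul (IsLocalization.map_units R' b)
  obtain ⟨w, hw⟩ := hu
  have h4 : a' = (↑w⁻¹ : R') • fun i => algebraMap R R' ((c : R) * a i) := by
    funext i
    rw [Pi.smul_apply, smul_eq_mul, map_mul, ha, Algebra.smul_def, ← mul_assoc, ← mul_assoc]
    have : (↑w⁻¹ : R') * algebraMap R R' c * algebraMap R R' b = 1 := by
      rw [mul_assoc, ← map_mul, ← hw, Units.inv_mul]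
    rw [this, one_mul]
  rw [h4]
  exact Submodule.smul_mem _ _ h3

end ring4

section chartMono

open Groth.Agent.Lib.OmegaDer81 Groth.Agent.Lib.QCohStalk Groth.Agent.Lib.IdealMod
  Groth.Agent.Lib.UnitBaseChange Groth.Agent.Lib.H90OXModSections Groth.Agent.Lib.Conormal81

variable {Y' Y X : Scheme.{u}} (f : Y ⟶ X) [IsImmersion f] [QuasiCompact f]
  (j : Y' ⟶ Y) [IsImmersion j] [QuasiCompact j]
  (φ₁ : (Scheme.Modules.pullback j).obj (Omega.conormal f) ⟶ Omega.conormal (j ≫ f))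

set_option backward.isDefEq.respectTransparency false in
set_option maxHeartbeats 1600000 in
theorem chart_mono (hφ₁ : OmegaSh.IsConormalMap (j ≫ f) f (𝟙 X) j φ₁)
    {U : X.Opens} (hf : IsGoodChart f U) (hjf : IsGoodChart (j ≫ f) U)
    (hj : IsGoodChart j (f ⁻¹ᵁ U))
    {n : ℕ} (rs : Fin n → Γ(Y, f ⁻¹ᵁ U)) (hrs : CAlgX.IsH1Regular rs)
    (hker : RingHom.ker (j.app (f ⁻¹ᵁ U)).hom = Ideal.span (Set.range rs)) :
    Function.Injective (φ₁.app ((j ≫ f) ⁻¹ᵁ U)) := by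
  have hWa : IsAffineOpen ((j ≫ f) ⁻¹ᵁ U) := hjf.isAffineOpen_preimage
  have hV : f ⁻¹ᵁ U = f ⁻¹ᵁ U := rfl
  have hW : (j ≫ f) ⁻¹ᵁ U = (j ≫ f) ⁻¹ᵁ U := rfl
  have hWj : j ⁻¹ᵁ (f ⁻¹ᵁ U) = (j ≫ f) ⁻¹ᵁ U := rfl
  letI algBA₁ : Algebra Γ(X, U) Γ(Y, f ⁻¹ᵁ U) := (f.appLE U (f ⁻¹ᵁ U) hV.ge).hom.toAlgebra
  letI algA₁A : Algebra Γ(Y, f ⁻¹ᵁ U) Γ(Y', (j ≫ f) ⁻¹ᵁ U) :=
    (j.appLE (f ⁻¹ᵁ U) ((j ≫ f) ⁻¹ᵁ U) hWj.ge).hom.toAlgebra
  letI algBA : Algebra Γ(X, U) Γ(Y', (j ≫ f) ⁻¹ᵁ U) :=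
    ((j ≫ f).appLE U ((j ≫ f) ⁻¹ᵁ U) hW.ge).hom.toAlgebra
  haveI tower : IsScalarTower Γ(X, U) Γ(Y, f ⁻¹ᵁ U) Γ(Y', (j ≫ f) ⁻¹ᵁ U) := by
    apply IsScalarTower.of_algebraMap_eq'
    have := Scheme.Hom.appLE_comp_appLE j f U (f ⁻¹ᵁ U) ((j ≫ f) ⁻¹ᵁ U) hV.ge hWj.ge
    exact congrArg CommRingCat.Hom.hom this.symm
  letI : Module Γ(X, U)
      Γ((Scheme.Modules.pullback (j ≫ f)).obj (ClSub.idealMod (j ≫ f).ker), (j ≫ f) ⁻¹ᵁ U) :=
    Module.compHom _ ((j ≫ f).appLE U ((j ≫ f) ⁻¹ᵁ U) hW.ge).hom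
  haveI : IsScalarTower Γ(X, U) Γ(Y', (j ≫ f) ⁻¹ᵁ U)
      Γ((Scheme.Modules.pullback (j ≫ f)).obj (ClSub.idealMod (j ≫ f).ker), (j ≫ f) ⁻¹ᵁ U) :=
    .of_algebraMap_smul fun _ _ => rfl
  letI : Module Γ(X, U)
      Γ((Scheme.Modules.pullback j).obj ((Scheme.Modules.pullback f).obj (ClSub.idealMod f.ker)),
        (j ≫ f) ⁻¹ᵁ U) :=
    Module.compHom _ ((j ≫ f).appLE U ((j ≫ f) ⁻¹ᵁ U) hW.ge).hom
  haveI : IsScalarTower Γ(X, U) Γ(Y', (j ≫ f) ⁻¹ᵁ U)
      Γ((Scheme.Modules.pullback j).obj ((Scheme.Modules.pullback f).obj (ClSub.idealMod f.ker)),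
        (j ≫ f) ⁻¹ᵁ U) :=
    .of_algebraMap_smul fun _ _ => rfl
  obtain ⟨uI, hI, huI⟩ := exists_uI (j ≫ f) hjf.1 hWa hW
  have hJ := span_unitSecFun_comp j f (ClSub.idealMod f.ker) hWa hj.1 hf.1 hWj.ge hV.ge
  have hBA₁ : Function.Surjective (algebraMap Γ(X, U) Γ(Y, f ⁻¹ᵁ U)) :=
    appLE_surjective_of_eq f hf.app_surjective hV
  have hBA : Function.Surjective (algebraMap Γ(X, U) Γ(Y', (j ≫ f) ⁻¹ᵁ U)) :=
    appLE_surjective_of_eq (j ≫ f) hjf.app_surjective hW
  -- φ₁ on generators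
  have hφ₁' : ∀ (t : Γ(ClSub.idealMod f.ker, U))
      (x : RingHom.ker (algebraMap Γ(X, U) Γ(Y', (j ≫ f) ⁻¹ᵁ U))),
      (x : Γ(X, U)) = idealFn f.ker U t →
      (appLin φ₁ ((j ≫ f) ⁻¹ᵁ U)) (unitSecFun j ((Scheme.Modules.pullback f).obj (ClSub.idealMod f.ker))
        hWj.ge (unitSecFun f (ClSub.idealMod f.ker) hV.ge t)) = uI x := by
    intro t x hx
    have hg : ((j ≫ f).app U).hom (idealFn f.ker U t) = 0 := by
      have h0 := idealFn_mem f.ker ⟨U, hf.1⟩ t
      rw [Scheme.Hom.ker_apply, RingHom.mem_ker] at h0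
      rw [Scheme.Hom.comp_app]
      change (j.app (f ⁻¹ᵁ U)).hom ((f.app U).hom (idealFn f.ker U t)) = 0
      rw [h0, map_zero]
    obtain ⟨s, hs⟩ := exists_idealFn_eq_of_app_eq_zero (j ≫ f) U _ hg
    have h₁ : (j ≫ f) ⁻¹ᵁ U ≤ j ⁻¹ᵁ (f ⁻¹ᵁ U) := le_rfl
    have h₂ : (j ≫ f) ⁻¹ᵁ U ≤ (j ≫ f) ⁻¹ᵁ ((𝟙 X) ⁻¹ᵁ U) := le_rfl
    have key := hφ₁.2 U t s hs ((j ≫ f) ⁻¹ᵁ U) h₁ h₂
    have hL : (appLin φ₁ ((j ≫ f) ⁻¹ᵁ U)) (unitSecFun j
        ((Scheme.Modules.pullback f).obj (ClSub.idealMod f.ker)) hWj.ge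
        (unitSecFun f (ClSub.idealMod f.ker) hV.ge t)) =
        (Omega.conormal (j ≫ f)).presheaf.map (homOfLE h₁).op
          (φ₁.app (j ⁻¹ᵁ (f ⁻¹ᵁ U))
            (OmegaSh.pullSect j (Omega.conormal f) (f ⁻¹ᵁ U) (OmegaSh.conormalSect f U t))) := by
      rw [appLin_apply, unitSecFun_eq f, unitSecFun_res]
      exact hom_app_res' φ₁ h₁ _
    rw [hL, key]
    exact (huI s x (hx.trans hs.symm)).symm
  -- the semilinear generator map
  let eI : Γ(ClSub.idealMod f.ker, U) ≃ₗ[Γ(X, U)] RingHom.ker (algebraMap Γ(X, U) Γ(Y, f ⁻¹ᵁ U)) :=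
    Groth.Agent.Lib.H77OmegaSections.idealSectionsEquiv' f hf.1 hV
  let uJ : Γ(ClSub.idealMod f.ker, U) →ₗ[Γ(X, U)]
      Γ((Scheme.Modules.pullback j).obj ((Scheme.Modules.pullback f).obj (ClSub.idealMod f.ker)),
        (j ≫ f) ⁻¹ᵁ U) :=
    { toFun := fun t => unitSecFun j ((Scheme.Modules.pullback f).obj (ClSub.idealMod f.ker))
        hWj.ge (unitSecFun f (ClSub.idealMod f.ker) hV.ge t)
      map_add' := fun s t => by
        rw [Groth.Agent.Lib.H87SplitConormal.unitSecFun_add',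
          Groth.Agent.Lib.H87SplitConormal.unitSecFun_add']
      map_smul' := fun b t => by
        rw [unitSecFun_smul, unitSecFun_smul]
        have e : (j.appLE (f ⁻¹ᵁ U) ((j ≫ f) ⁻¹ᵁ U) hWj.ge).hom
            ((f.appLE U (f ⁻¹ᵁ U) hV.ge).hom b) =
            ((j ≫ f).appLE U ((j ≫ f) ⁻¹ᵁ U) hW.ge).hom b :=
          (IsScalarTower.algebraMap_apply Γ(X, U) Γ(Y, f ⁻¹ᵁ U) Γ(Y', (j ≫ f) ⁻¹ᵁ U) b).symm
        rw [e]
        rfl }
  have huJ : Function.Surjective uJ := by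
    apply surjective_of_span_eq_top hBA uJ
    exact hJ
  let u₁ : RingHom.ker (algebraMap Γ(X, U) Γ(Y, f ⁻¹ᵁ U)) →ₗ[Γ(X, U)]
      Γ((Scheme.Modules.pullback j).obj ((Scheme.Modules.pullback f).obj (ClSub.idealMod f.ker)),
        (j ≫ f) ⁻¹ᵁ U) := uJ ∘ₗ eI.symm.toLinearMap
  have hu₁ : Function.Surjective u₁ := huJ.comp eI.symm.surjective
  have hIJ : RingHom.ker (algebraMap Γ(X, U) Γ(Y, f ⁻¹ᵁ U)) ≤
      RingHom.ker (algebraMap Γ(X, U) Γ(Y', (j ≫ f) ⁻¹ᵁ U)) := by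
    intro y hy
    rw [RingHom.mem_ker, IsScalarTower.algebraMap_apply Γ(X, U) Γ(Y, f ⁻¹ᵁ U)
      Γ(Y', (j ≫ f) ⁻¹ᵁ U), RingHom.mem_ker.mp hy, map_zero]
  have hker' : RingHom.ker (algebraMap Γ(Y, f ⁻¹ᵁ U) Γ(Y', (j ≫ f) ⁻¹ᵁ U)) =
      Ideal.span (Set.range rs) := by
    rw [← hker]
    change RingHom.ker (j.appLE (f ⁻¹ᵁ U) (j ⁻¹ᵁ (f ⁻¹ᵁ U)) le_rfl).hom = _
    rw [← Scheme.Hom.app_eq_appLE]
  have hinj := injective_of_inter_le (B := Γ(X, U)) (A := Γ(Y', (j ≫ f) ⁻¹ᵁ U)) hBA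
    (RingHom.ker (algebraMap Γ(X, U) Γ(Y, f ⁻¹ᵁ U))) hIJ u₁ hu₁ uI hI
    (appLin φ₁ ((j ≫ f) ⁻¹ᵁ U)) ?_ ?_
  · exact hinj
  · intro x
    have hx : ((⟨x, hIJ x.2⟩ : RingHom.ker (algebraMap Γ(X, U) Γ(Y', (j ≫ f) ⁻¹ᵁ U))) : Γ(X, U)) =
        idealFn f.ker U (eI.symm x) := by
      have := congrArg Subtype.val (eI.apply_symm_apply x)
      exact this.symm
    exact hφ₁' (eI.symm x) ⟨x, hIJ x.2⟩ hx
  · intro x hx hxJ
    exact mem_mul_of_isH1Regular hBA₁ rs hrs hker' x (RingHom.mem_ker.mp hx) hxJ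

end chartMono

section restrictH1

open Groth.Agent.Lib.QCohStalk

variable {Y' Y : Scheme.{u}} (j : Y' ⟶ Y) [QuasiCompact j]

set_option backward.isDefEq.respectTransparency false in
/-- an `H_1`-regular generating sequence of the ideal of `j` on an affine open restricts to one on
a basic open -/
theorem restrict_h1 {UY : Y.Opens} (hUY : IsAffineOpen UY) (r : Γ(Y, UY)) (V : Y.Opens)
    (hV : V = Y.basicOpen r) (hle : V ≤ UY) {n : ℕ} (g : Fin n → Γ(Y, UY))
    (hg : CAlgX.IsH1Regular g)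
    (hker : RingHom.ker (j.app UY).hom = Ideal.span (Set.range g)) :
    CAlgX.IsH1Regular (fun i => resO Y hle (g i)) ∧
      RingHom.ker (j.app V).hom = Ideal.span (Set.range fun i => resO Y hle (g i)) := by
  subst hV
  haveI := hUY.isLocalization_basicOpen r
  refine ⟨isH1Regular_map_of_isLocalization (R' := Γ(Y, Y.basicOpen r)) (Submonoid.powers r) g hg,
    ?_⟩
  have h1 := j.ker.map_ideal_basicOpen ⟨UY, hUY⟩ r
  rw [Scheme.Hom.ker_apply, Scheme.Hom.ker_apply, hker, Ideal.map_span] at h1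
  have h3 : (⇑(CommRingCat.Hom.hom (Y.presheaf.map (homOfLE (Y.basicOpen_le r)).op)) ''
      Set.range g) = Set.range fun i => resO Y hle (g i) := by
    ext x
    simp only [Set.mem_image, Set.mem_range]
    constructor
    · rintro ⟨_, ⟨i, rfl⟩, rfl⟩
      exact ⟨i, rfl⟩
    · rintro ⟨i, rfl⟩
      exact ⟨_, ⟨i, rfl⟩, rfl⟩
  rw [h3] at h1
  exact h1.symm

end restrictH1

section mainMono

open Groth.Agent.Lib.OmegaDer81 Groth.Agent.Lib.QCohStalk Groth.Agent.Lib.IdealMod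
  Groth.Agent.Lib.UnitBaseChange Groth.Agent.Lib.H90OXModSections Groth.Agent.Lib.Conormal81

variable {Y' Y X : Scheme.{u}} (f : Y ⟶ X) [IsImmersion f] [QuasiCompact f]
  (j : Y' ⟶ Y) [IsImmersion j] [QuasiCompact j]

/-- around `j y'` the ideal of `j` is generated by an `H_1`-regular sequence on some affine open -/
def H1At (y' : Y') : Prop :=
  ∃ UY : Y.Opens, IsAffineOpen UY ∧ j y' ∈ UY ∧ ∃ (n : ℕ) (g : Fin n → Γ(Y, UY)),
    CAlgX.IsH1Regular g ∧ RingHom.ker (j.app UY).hom = Ideal.span (Set.range g)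

theorem exists_chart_mono (y' : Y') (h1 : H1At j y') (O : Y'.Opens) (hy' : y' ∈ O) :
    ∃ U : X.Opens, IsGoodChart f U ∧ IsGoodChart (j ≫ f) U ∧ IsGoodChart j (f ⁻¹ᵁ U) ∧
      y' ∈ (j ≫ f) ⁻¹ᵁ U ∧ (j ≫ f) ⁻¹ᵁ U ≤ O ∧ ∃ (n : ℕ) (g : Fin n → Γ(Y, f ⁻¹ᵁ U)),
        CAlgX.IsH1Regular g ∧ RingHom.ker (j.app (f ⁻¹ᵁ U)).hom = Ideal.span (Set.range g) := by
  obtain ⟨UY, hUY, hyUY, n, g, hg, hker⟩ := h1
  obtain ⟨tX, htX, hteX⟩ := f.isEmbedding.isInducing.isOpen_iff.mp UY.2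
  let OX : X.Opens := ⟨tX, htX⟩
  obtain ⟨t, ht, hte⟩ := f.isEmbedding.isInducing.isOpen_iff.mp j.coborderRange.2
  let O₂ : X.Opens := ⟨t, ht⟩
  have h1 : (j ≫ f) y' ∈ O₂ ⊓ f.coborderRange ⊓ OX := by
    have e : (j ≫ f) y' = f (j y') := rfl
    rw [e]
    refine ⟨⟨?_, subset_coborder ⟨j y', rfl⟩⟩, ?_⟩
    · change j y' ∈ f ⁻¹' t
      rw [hte]
      exact subset_coborder ⟨y', rfl⟩
    · change j y' ∈ f ⁻¹' tX
      rw [hteX]
      exact hyUY
  obtain ⟨U₀, hU₀, hyU₀, hU₀O, hU₀le⟩ :=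
    exists_goodChart' (j ≫ f) y' O (O₂ ⊓ f.coborderRange ⊓ OX) hy' h1
  have hfU₀ : IsGoodChart f U₀ := ⟨hU₀.1, hU₀le.trans (inf_le_left.trans inf_le_right)⟩
  have hjV₀ : IsGoodChart j (f ⁻¹ᵁ U₀) := by
    refine ⟨hfU₀.isAffineOpen_preimage, ?_⟩
    intro y hy
    have h2 : f y ∈ O₂ := (hU₀le hy).1.1
    have h3 : y ∈ f ⁻¹' t := h2
    rw [hte] at h3
    exact h3
  have hV₀UY : f ⁻¹ᵁ U₀ ≤ UY := by
    intro y hy
    have h2 : f y ∈ OX := (hU₀le hy).2
    have h3 : y ∈ f ⁻¹' tX := h2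
    rw [hteX] at h3
    exact h3
  have hyV₀ : j y' ∈ f ⁻¹ᵁ U₀ := hyU₀
  obtain ⟨a, r, har, hya⟩ := exists_basicOpen_le_affine_inter hfU₀.isAffineOpen_preimage hUY (j y')
    ⟨hyV₀, hyUY⟩
  obtain ⟨b, hb⟩ := hfU₀.app_surjective a
  have hpre : f ⁻¹ᵁ X.basicOpen b = Y.basicOpen a := by
    rw [Scheme.preimage_basicOpen, hb]
  have hleV : f ⁻¹ᵁ X.basicOpen b ≤ UY := (f.preimage_mono (X.basicOpen_le b)).trans hV₀UY
  have haff : IsAffineOpen (f ⁻¹ᵁ X.basicOpen b) := by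
    rw [hpre]
    exact hfU₀.isAffineOpen_preimage.basicOpen a
  refine ⟨X.basicOpen b, hfU₀.basicOpen b, hU₀.basicOpen b,
    hjV₀.of_le haff (f.preimage_mono (X.basicOpen_le b)), ?_,
    ((j ≫ f).preimage_mono (X.basicOpen_le b)).trans hU₀O, n,
    fun i => resO Y hleV (g i), ?_⟩
  · change j y' ∈ f ⁻¹ᵁ X.basicOpen b
    rw [hpre]
    exact hya
  · exact restrict_h1 j hUY r _ (hpre.trans har) hleV g hg hker

/-- **`j^* C_{Y/X} → C_{Y'/X}` is a monomorphism** when `j` is `H_1`-regular at every point. -/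
theorem mono_of_h1
    (φ₁ : (Scheme.Modules.pullback j).obj (Omega.conormal f) ⟶ Omega.conormal (j ≫ f))
    (hφ₁ : OmegaSh.IsConormalMap (j ≫ f) f (𝟙 X) j φ₁) (h1 : ∀ y' : Y', H1At j y') : Mono φ₁ := by
  let ι := {U : X.Opens // IsGoodChart f U ∧ IsGoodChart (j ≫ f) U ∧ IsGoodChart j (f ⁻¹ᵁ U) ∧
    ∃ (n : ℕ) (g : Fin n → Γ(Y, f ⁻¹ᵁ U)),
      CAlgX.IsH1Regular g ∧ RingHom.ker (j.app (f ⁻¹ᵁ U)).hom = Ideal.span (Set.range g)}
  refine mono_of_injective_on_basis φ₁ (fun U : ι => (j ≫ f) ⁻¹ᵁ U.1) ?_ ?_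
  · intro O z hz
    obtain ⟨U, h1, h2, h3, hzU, hUO, h4⟩ := exists_chart_mono f j z (h1 z) O hz
    exact ⟨⟨U, h1, h2, h3, h4⟩, hzU, hUO⟩
  · rintro ⟨U, h1, h2, h3, n, g, hg, hker⟩
    exact chart_mono f j φ₁ hφ₁ h1 h2 h3 g hg hker

theorem h1At_of_isRegularImmersionAt_h1 (y' : Y')
    (h : RegImm.IsRegularImmersionAt RegImm.Kind.h1 j y') : H1At j y' := by
  obtain ⟨U, hyU, -, rs, hrs, hker⟩ := h
  refine ⟨U.1, U.2, hyU, rs.length, rs.get, hrs, ?_⟩
  rw [hker, Ideal.ofList, range_get_eq]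

theorem h1At_of_isRegularImmersionAt_koszul (y' : Y')
    (h : RegImm.IsRegularImmersionAt RegImm.Kind.koszul j y') : H1At j y' := by
  obtain ⟨U, hyU, -, rs, hrs, hker⟩ := h
  refine ⟨U.1, U.2, hyU, rs.length, rs.get,
    Groth.Agent.Lib.KoszulRel.isH1Regular_get_of_isKoszulRegularSeq rs hrs, ?_⟩
  rw [hker, Ideal.ofList, range_get_eq]

end mainMono

end Groth.Agent.Lib.H87ConormalMono
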