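/-
helper87: the conormal sequence `C_{X'/X} → j^*Ω_{X/Y} → Ω_{X'/Y} → 0` of a quasi-compact immersion
`j : X' → X` is left exact when `j ≫ f` is formally smooth.

* `injective_kerCotangentToTensor_of_formallySmooth`: ring level, `I/I² → A ⊗ Ω_{B/C}` injective when
  `A = B/I` is formally smooth over `C` (no hypothesis on `B`)
* `injective_phi_of_formallySmooth`: base change form
* `chart_injective_of_formallySmooth`, `mono_conormalDiff_of_formallySmooth`
-/
import Mathlib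
import Groth.Agent.Lib.H87ConormalMono
import Groth.Agent.Lib.Conormal81D
import Groth.Agent.Lib.FormallySmoothHomAffine

set_option autoImplicit false
set_option linter.style.haveILetI false
universe u

open CategoryTheory AlgebraicGeometry TopologicalSpace Opposite TensorProduct KaehlerDifferential

namespace Groth.Agent.Lib.H87ConormalSmooth

section ring

variable (C B A : Type*) [CommRing C] [CommRing B] [CommRing A] [Algebra C B] [Algebra B A]
  [Algebra C A] [IsScalarTower C B A]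

/-- `I/I² → A ⊗ Ω_{B/C}` is injective when `A = B/I` is formally smooth over `C` -/
theorem injective_kerCotangentToTensor_of_formallySmooth [Algebra.FormallySmooth C A]
    (hBA : Function.Surjective (algebraMap B A)) :
    Function.Injective (kerCotangentToTensor C B A) := by
  let f := IsScalarTower.toAlgHom C B A
  have hsurj : Function.Surjective f.kerSquareLift := by
    intro a
    obtain ⟨b, rfl⟩ := hBA a
    exact ⟨Ideal.Quotient.mk _ b, f.kerSquareLift_mk b⟩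
  have hnil : IsNilpotent
      (RingHom.ker (f.kerSquareLift : (B ⧸ RingHom.ker f.toRingHom ^ 2) →+* A)) :=
    ⟨2, by
      have := f.ker_kerSquareLift
      change RingHom.ker f.kerSquareLift.toRingHom ^ 2 = 0
      rw [this, Ideal.cotangentIdeal_square]
      rfl⟩
  let g : A →ₐ[C] B ⧸ RingHom.ker f.toRingHom ^ 2 :=
    Algebra.FormallySmooth.liftOfSurjective (AlgHom.id C A) f.kerSquareLift hsurj hnil
  have hg : f.kerSquareLift.comp g = AlgHom.id C A := by
    ext a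
    exact Algebra.FormallySmooth.liftOfSurjective_apply (AlgHom.id C A) f.kerSquareLift hsurj hnil a
  obtain ⟨l, hl⟩ := (retractionKerCotangentToTensorEquivSection (R := C) (P := B) (S := A)
    hBA).symm ⟨g, hg⟩
  exact Function.LeftInverse.injective (g := l) (fun x => LinearMap.congr_fun hl x)

variable {C B A}
variable {MI MΩ : Type*}
  [AddCommGroup MI] [Module A MI] [Module B MI] [IsScalarTower B A MI]
  [AddCommGroup MΩ] [Module A MΩ] [Module B MΩ] [IsScalarTower B A MΩ]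

open Groth.Agent.Lib.H87ConormalMono in
/-- base change form of the previous lemma -/
theorem injective_phi_of_formallySmooth [Algebra.FormallySmooth C A]
    (hBA : Function.Surjective (algebraMap B A))
    (uI : RingHom.ker (algebraMap B A) →ₗ[B] MI) (hI : IsBaseChange A uI)
    (uΩ : Ω[B⁄C] →ₗ[B] MΩ) (hΩ : IsBaseChange A uΩ)
    (φ : MI →ₗ[A] MΩ) (hφ : ∀ x, φ (uI x) = uΩ (KaehlerDifferential.D C B x)) :
    Function.Injective φ := by
  rw [injective_iff_map_eq_zero]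
  intro m hm
  have huIs : Function.Surjective uI := by
    apply surjective_of_span_eq_top hBA uI
    rw [eq_top_iff]
    intro m _
    exact hI.inductionOn m (fun m => m ∈ Submodule.span A (Set.range uI))
      (Submodule.zero_mem _) (fun x => Submodule.subset_span ⟨x, rfl⟩)
      (fun a n hn => Submodule.smul_mem _ a hn) (fun n₁ n₂ h₁ h₂ => Submodule.add_mem _ h₁ h₂)
  obtain ⟨x, rfl⟩ := huIs m
  rw [hφ] at hm
  -- `1 ⊗ D x = 0`
  have h1 : (1 : A) ⊗ₜ[B] (KaehlerDifferential.D C B (x : B)) = 0 := by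
    apply hΩ.equiv.injective
    rw [hΩ.equiv_tmul, one_smul, hm, map_zero]
  have h2 : kerCotangentToTensor C B A ((RingHom.ker (algebraMap B A)).toCotangent x) = 0 := by
    rw [kerCotangentToTensor_toCotangent]
    exact h1
  have h3 := injective_kerCotangentToTensor_of_formallySmooth C B A hBA
    (h2.trans (map_zero _).symm)
  apply eq_zero_of_mem_smul_top (A := A) uI x
  exact (Submodule.Quotient.mk_eq_zero _).mp h3

end ring


open Groth.Agent.Lib.Conormal81 Groth.Agent.Lib.OmegaDer81 Groth.Agent.Lib.QCohStalk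
  Groth.Agent.Lib.IdealMod Groth.Agent.Lib.UnitBaseChange Groth.Agent.Lib.H90OXModSections

section chart

variable {X' X Y : Scheme.{u}} (j : X' ⟶ X) [IsImmersion j] [QuasiCompact j] (f : X ⟶ Y)
  {Ω' : X.Modules} (d : OmegaSh.Der f Ω')
  (φ : Omega.conormal j ⟶ (Scheme.Modules.pullback j).obj Ω')

set_option backward.isDefEq.respectTransparency false in
set_option maxHeartbeats 1600000 in
theorem chart_injective_of_formallySmooth (hf : MoreMor.IsFormallySmoothHom (j ≫ f))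
    (hd : OmegaSh.IsUniversal d) (hφ : OmegaSh.IsConormalDiff j d φ)
    {UY : X.Opens} {VZ : Y.Opens} (hU : IsGoodChart j UY) (hV : IsAffineOpen VZ)
    (e : UY ≤ f ⁻¹ᵁ VZ) :
    Function.Injective (φ.app (j ⁻¹ᵁ UY)) := by
  have hWa : IsAffineOpen (j ⁻¹ᵁ UY) := hU.isAffineOpen_preimage
  have hW : j ⁻¹ᵁ UY = j ⁻¹ᵁ UY := rfl
  have e' : j ⁻¹ᵁ UY ≤ (j ≫ f) ⁻¹ᵁ VZ := j.preimage_mono e
  letI algCB : Algebra Γ(Y, VZ) Γ(X, UY) := (f.appLE VZ UY e).hom.toAlgebra
  letI algBA : Algebra Γ(X, UY) Γ(X', j ⁻¹ᵁ UY) := (j.appLE UY (j ⁻¹ᵁ UY) hW.ge).hom.toAlgebra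
  letI algCA : Algebra Γ(Y, VZ) Γ(X', j ⁻¹ᵁ UY) :=
    ((j ≫ f).appLE VZ (j ⁻¹ᵁ UY) e').hom.toAlgebra
  haveI : IsScalarTower Γ(Y, VZ) Γ(X, UY) Γ(X', j ⁻¹ᵁ UY) := by
    apply IsScalarTower.of_algebraMap_eq'
    have := Scheme.Hom.appLE_comp_appLE j f VZ UY (j ⁻¹ᵁ UY) e hW.ge
    exact congrArg CommRingCat.Hom.hom this.symm
  letI : Module Γ(X, UY) Γ((Scheme.Modules.pullback j).obj (ClSub.idealMod j.ker), j ⁻¹ᵁ UY) :=
    Module.compHom _ (j.appLE UY (j ⁻¹ᵁ UY) hW.ge).hom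
  haveI : IsScalarTower Γ(X, UY) Γ(X', j ⁻¹ᵁ UY)
      Γ((Scheme.Modules.pullback j).obj (ClSub.idealMod j.ker), j ⁻¹ᵁ UY) :=
    .of_algebraMap_smul fun _ _ => rfl
  letI : Module Γ(X, UY) Γ((Scheme.Modules.pullback j).obj Ω', j ⁻¹ᵁ UY) :=
    Module.compHom _ (j.appLE UY (j ⁻¹ᵁ UY) hW.ge).hom
  haveI : IsScalarTower Γ(X, UY) Γ(X', j ⁻¹ᵁ UY) Γ((Scheme.Modules.pullback j).obj Ω', j ⁻¹ᵁ UY) :=
    .of_algebraMap_smul fun _ _ => rfl
  obtain ⟨uI, hI, huI⟩ := exists_uI j hU.1 hWa hW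
  obtain ⟨uΩ, hΩ, huΩ⟩ := exists_uΩ j f d hd hV hU.1 e hWa hW
  have hBA : Function.Surjective (algebraMap Γ(X, UY) Γ(X', j ⁻¹ᵁ UY)) :=
    appLE_surjective_of_eq j hU.app_surjective hW
  have hφ' : ∀ x : RingHom.ker (algebraMap Γ(X, UY) Γ(X', j ⁻¹ᵁ UY)),
      (appLin φ (j ⁻¹ᵁ UY)) (uI x) = uΩ (KaehlerDifferential.D Γ(Y, VZ) Γ(X, UY) x) := by
    intro x
    obtain ⟨s, hs⟩ : ∃ s : Γ(ClSub.idealMod j.ker, UY), idealFn j.ker UY s = x := by
      refine ⟨(Groth.Agent.Lib.H77OmegaSections.idealSectionsEquiv' j hU.1 hW).symm x, ?_⟩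
      exact congrArg Subtype.val
        ((Groth.Agent.Lib.H77OmegaSections.idealSectionsEquiv' j hU.1 hW).apply_symm_apply x)
    rw [huI s x hs.symm, huΩ, appLin_apply, unitSecFun_eq, unitSecFun_eq]
    have h2 := hom_app_res' φ hW.ge (OmegaSh.pullSect j (ClSub.idealMod j.ker) UY s)
    refine h2.trans ?_
    have h3 := hφ UY s
    rw [OmegaSh.conormalSect_eq] at h3
    have h4 : d.app UY (OmegaSh.idealSect j.ker UY s) = d.app UY x := by
      rw [idealSect_eq_idealFn, hs]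
    exact congrArg (res ((Scheme.Modules.pullback j).obj Ω') hW.ge) (h3.trans (congrArg _ h4))
  haveI : Algebra.FormallySmooth Γ(Y, VZ) Γ(X', j ⁻¹ᵁ UY) :=
    Groth.Agent.Lib.FormallySmoothHomAffine.formallySmooth_appLE (j ≫ f) hf (j ⁻¹ᵁ UY) VZ hWa hV e'
  exact injective_phi_of_formallySmooth (C := Γ(Y, VZ)) (B := Γ(X, UY)) (A := Γ(X', j ⁻¹ᵁ UY))
    hBA uI hI uΩ hΩ (appLin φ (j ⁻¹ᵁ UY)) hφ'

/-- **The conormal sequence is left exact when `j ≫ f` is formally smooth.** -/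
theorem mono_conormalDiff_of_formallySmooth (hf : MoreMor.IsFormallySmoothHom (j ≫ f))
    (hd : OmegaSh.IsUniversal d) (hφ : OmegaSh.IsConormalDiff j d φ) : Mono φ := by
  let ι := {p : X.Opens × Y.Opens // IsGoodChart j p.1 ∧ IsAffineOpen p.2 ∧ p.1 ≤ f ⁻¹ᵁ p.2}
  let B : ι → X'.Opens := fun p => j ⁻¹ᵁ p.1.1
  have hcharts : ∀ (O : X'.Opens) (x : X'), x ∈ O → ∃ p : ι, x ∈ B p ∧ B p ≤ O := by
    intro O x hx
    obtain ⟨V, hV, hxV, -⟩ := Opens.isBasis_iff_nbhd.mp Y.isBasis_affineOpens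
      (show f (j x) ∈ (⊤ : Y.Opens) from trivial)
    obtain ⟨U, hU, hxU, hUO, hUV⟩ := exists_goodChart' j x O (f ⁻¹ᵁ V) hx hxV
    exact ⟨⟨(U, V), hU, hV, hUV⟩, hxU, hUO⟩
  exact mono_of_injective_on_basis φ B hcharts
    (fun p => chart_injective_of_formallySmooth j f d φ hf hd hφ p.2.1 p.2.2.1 p.2.2.2)

end chart

end Groth.Agent.Lib.H87ConormalSmooth
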