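/-
helper87: conormal sequence vs smoothness on charts, both directions.

* `injective_kerCotangentToTensor_of_injective_phi`, `formallySmooth_of_injective_phi` (ring level:
  `B` formally smooth over `C`, `A = B/I`, `Ω_{A/C}` projective and `I/I² → A ⊗ Ω_{B/C}` injective
  ⟹ `A` formally smooth over `C`)
* `chart_both`: chart form of both directions for a quasi-compact immersion `j : X' → X` over `Y`
* `mono_conormalDiff_of_smooth`: `j ≫ f` smooth ⟹ `C_{X'/X} → j^*Ω_{X/Y}` mono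
-/
import Mathlib
import Groth.Agent.Lib.H87ConormalSmooth

set_option autoImplicit false
set_option linter.style.haveILetI false
set_option backward.isDefEq.respectTransparency.types false
universe u

open CategoryTheory AlgebraicGeometry TopologicalSpace Opposite TensorProduct KaehlerDifferential

namespace Groth.Agent.Lib.H87ConormalSmooth

section ring

variable {C B A : Type*} [CommRing C] [CommRing B] [CommRing A] [Algebra C B] [Algebra B A]
  [Algebra C A] [IsScalarTower C B A]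
variable {MI MΩ : Type*}
  [AddCommGroup MI] [Module A MI] [Module B MI] [IsScalarTower B A MI]
  [AddCommGroup MΩ] [Module A MΩ] [Module B MΩ] [IsScalarTower B A MΩ]

open Groth.Agent.Lib.H87ConormalMono in
/-- converse of `injective_phi_of_formallySmooth`: injectivity in base change form gives injectivity
of `I/I² → A ⊗ Ω_{B/C}` -/
theorem injective_kerCotangentToTensor_of_injective_phi
    (hBA : Function.Surjective (algebraMap B A))
    (uI : RingHom.ker (algebraMap B A) →ₗ[B] MI) (hI : IsBaseChange A uI)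
    (uΩ : Ω[B⁄C] →ₗ[B] MΩ) (hΩ : IsBaseChange A uΩ)
    (φ : MI →ₗ[A] MΩ) (hφ : ∀ x, φ (uI x) = uΩ (KaehlerDifferential.D C B x))
    (hinj : Function.Injective φ) :
    Function.Injective (kerCotangentToTensor C B A) := by
  rw [injective_iff_map_eq_zero]
  intro z hz
  obtain ⟨x, rfl⟩ := Ideal.toCotangent_surjective _ z
  rw [kerCotangentToTensor_toCotangent] at hz
  have h1 : uΩ (KaehlerDifferential.D C B (x : B)) = 0 := by
    have := congrArg hΩ.equiv hz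
    rwa [hΩ.equiv_tmul, one_smul, map_zero] at this
  have h2 : uI x = 0 := hinj (by rw [hφ, h1, map_zero])
  have h3 := mem_smul_top_of_isBaseChange hBA uI hI x h2
  exact (Submodule.Quotient.mk_eq_zero _).mpr h3

/-- the quotient `A = B/I` of a formally smooth `C`-algebra `B` is formally smooth as soon as
`Ω_{A/C}` is projective and `I/I² → A ⊗ Ω_{B/C}` is injective (in base change form) -/
theorem formallySmooth_of_injective_phi [Algebra.FormallySmooth C B]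
    [Module.Projective A Ω[A⁄C]]
    (hBA : Function.Surjective (algebraMap B A))
    (uI : RingHom.ker (algebraMap B A) →ₗ[B] MI) (hI : IsBaseChange A uI)
    (uΩ : Ω[B⁄C] →ₗ[B] MΩ) (hΩ : IsBaseChange A uΩ)
    (φ : MI →ₗ[A] MΩ) (hφ : ∀ x, φ (uI x) = uΩ (KaehlerDifferential.D C B x))
    (hinj : Function.Injective φ) : Algebra.FormallySmooth C A := by
  rw [Algebra.formallySmooth_iff]
  refine ⟨inferInstance, ?_⟩
  rw [← Algebra.FormallySmooth.kerCotangentToTensor_injective_iff (P := B) hBA]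
  exact injective_kerCotangentToTensor_of_injective_phi hBA uI hI uΩ hΩ φ hφ hinj

end ring


open Groth.Agent.Lib.Conormal81 Groth.Agent.Lib.OmegaDer81 Groth.Agent.Lib.QCohStalk
  Groth.Agent.Lib.IdealMod Groth.Agent.Lib.UnitBaseChange Groth.Agent.Lib.H90OXModSections

section chart2

variable {X' X Y : Scheme.{u}} (j : X' ⟶ X) [IsImmersion j] [QuasiCompact j] (f : X ⟶ Y)
  {Ω' : X.Modules} (d : OmegaSh.Der f Ω')
  (φ : Omega.conormal j ⟶ (Scheme.Modules.pullback j).obj Ω')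

set_option backward.isDefEq.respectTransparency false in
set_option maxHeartbeats 1600000 in
/-- chart form: on a good chart, injectivity of `φ` on sections is equivalent to formal smoothness of
the chart of `X'` (given that of `X` and projectivity of the differentials) -/
theorem chart_both (hd : OmegaSh.IsUniversal d) (hφ : OmegaSh.IsConormalDiff j d φ)
    {UY : X.Opens} {VZ : Y.Opens} (hU : IsGoodChart j UY) (hV : IsAffineOpen VZ)
    (e : UY ≤ f ⁻¹ᵁ VZ) :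
    letI algCB : Algebra Γ(Y, VZ) Γ(X, UY) := (f.appLE VZ UY e).hom.toAlgebra
    letI algCA : Algebra Γ(Y, VZ) Γ(X', j ⁻¹ᵁ UY) :=
      ((j ≫ f).appLE VZ (j ⁻¹ᵁ UY) (j.preimage_mono e)).hom.toAlgebra
    (Algebra.FormallySmooth Γ(Y, VZ) Γ(X', j ⁻¹ᵁ UY) → Function.Injective (φ.app (j ⁻¹ᵁ UY))) ∧
    (Algebra.FormallySmooth Γ(Y, VZ) Γ(X, UY) →
      Module.Projective Γ(X', j ⁻¹ᵁ UY) Ω[Γ(X', j ⁻¹ᵁ UY)⁄Γ(Y, VZ)] →
      Function.Injective (φ.app (j ⁻¹ᵁ UY)) →
      Algebra.FormallySmooth Γ(Y, VZ) Γ(X', j ⁻¹ᵁ UY)) := by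
  have hWa : IsAffineOpen (j ⁻¹ᵁ UY) := hU.isAffineOpen_preimage
  have hW : j ⁻¹ᵁ UY = j ⁻¹ᵁ UY := rfl
  have e' : j ⁻¹ᵁ UY ≤ (j ≫ f) ⁻¹ᵁ VZ := j.preimage_mono e
  letI algCB : Algebra Γ(Y, VZ) Γ(X, UY) := (f.appLE VZ UY e).hom.toAlgebra
  letI algBA : Algebra Γ(X, UY) Γ(X', j ⁻¹ᵁ UY) := (j.appLE UY (j ⁻¹ᵁ UY) hW.ge).hom.toAlgebra
  letI algCA : Algebra Γ(Y, VZ) Γ(X', j ⁻¹ᵁ UY) :=
    ((j ≫ f).appLE VZ (j ⁻¹ᵁ UY) e').hom.toAlgebra
  haveI : IsScalarTower Γ(Y, VZ) Γ(X, UY) Γ(X', j ⁻¹ᵁ UY) := by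
    apply IsScalarTower.of_algebraMap_eq'
    have := Scheme.Hom.appLE_comp_appLE j f VZ UY (j ⁻¹ᵁ UY) e hW.ge
    exact congrArg CommRingCat.Hom.hom this.symm
  letI : Module Γ(X, UY) Γ((Scheme.Modules.pullback j).obj (ClSub.idealMod j.ker), j ⁻¹ᵁ UY) :=
    Module.compHom _ (j.appLE UY (j ⁻¹ᵁ UY) hW.ge).hom
  haveI : IsScalarTower Γ(X, UY) Γ(X', j ⁻¹ᵁ UY)
      Γ((Scheme.Modules.pullback j).obj (ClSub.idealMod j.ker), j ⁻¹ᵁ UY) :=
    .of_algebraMap_smul fun _ _ => rfl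
  letI : Module Γ(X, UY) Γ((Scheme.Modules.pullback j).obj Ω', j ⁻¹ᵁ UY) :=
    Module.compHom _ (j.appLE UY (j ⁻¹ᵁ UY) hW.ge).hom
  haveI : IsScalarTower Γ(X, UY) Γ(X', j ⁻¹ᵁ UY) Γ((Scheme.Modules.pullback j).obj Ω', j ⁻¹ᵁ UY) :=
    .of_algebraMap_smul fun _ _ => rfl
  obtain ⟨uI, hI, huI⟩ := exists_uI j hU.1 hWa hW
  obtain ⟨uΩ, hΩ, huΩ⟩ := exists_uΩ j f d hd hV hU.1 e hWa hW
  have hBA : Function.Surjective (algebraMap Γ(X, UY) Γ(X', j ⁻¹ᵁ UY)) :=
    appLE_surjective_of_eq j hU.app_surjective hW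
  have hφ' : ∀ x : RingHom.ker (algebraMap Γ(X, UY) Γ(X', j ⁻¹ᵁ UY)),
      (appLin φ (j ⁻¹ᵁ UY)) (uI x) = uΩ (KaehlerDifferential.D Γ(Y, VZ) Γ(X, UY) x) := by
    intro x
    obtain ⟨s, hs⟩ : ∃ s : Γ(ClSub.idealMod j.ker, UY), idealFn j.ker UY s = x := by
      refine ⟨(Groth.Agent.Lib.H77OmegaSections.idealSectionsEquiv' j hU.1 hW).symm x, ?_⟩
      exact congrArg Subtype.val
        ((Groth.Agent.Lib.H77OmegaSections.idealSectionsEquiv' j hU.1 hW).apply_symm_apply x)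
    rw [huI s x hs.symm, huΩ, appLin_apply, unitSecFun_eq, unitSecFun_eq]
    have h2 := hom_app_res' φ hW.ge (OmegaSh.pullSect j (ClSub.idealMod j.ker) UY s)
    refine h2.trans ?_
    have h3 := hφ UY s
    rw [OmegaSh.conormalSect_eq] at h3
    have h4 : d.app UY (OmegaSh.idealSect j.ker UY s) = d.app UY x := by
      rw [idealSect_eq_idealFn, hs]
    exact congrArg (res ((Scheme.Modules.pullback j).obj Ω') hW.ge) (h3.trans (congrArg _ h4))
  refine ⟨fun hA => ?_, fun hB hP hinj => ?_⟩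
  · exact injective_phi_of_formallySmooth (C := Γ(Y, VZ)) (B := Γ(X, UY)) (A := Γ(X', j ⁻¹ᵁ UY))
      hBA uI hI uΩ hΩ (appLin φ (j ⁻¹ᵁ UY)) hφ'
  · exact formallySmooth_of_injective_phi (C := Γ(Y, VZ)) (B := Γ(X, UY)) (A := Γ(X', j ⁻¹ᵁ UY))
      hBA uI hI uΩ hΩ (appLin φ (j ⁻¹ᵁ UY)) hφ' hinj

/-- **The conormal sequence is left exact when `j ≫ f` is smooth.** -/
theorem mono_conormalDiff_of_smooth [Smooth (j ≫ f)]
    (hd : OmegaSh.IsUniversal d) (hφ : OmegaSh.IsConormalDiff j d φ) : Mono φ := by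
  let ι := {p : X.Opens × Y.Opens // IsGoodChart j p.1 ∧ IsAffineOpen p.2 ∧ p.1 ≤ f ⁻¹ᵁ p.2}
  let B : ι → X'.Opens := fun p => j ⁻¹ᵁ p.1.1
  have hcharts : ∀ (O : X'.Opens) (x : X'), x ∈ O → ∃ p : ι, x ∈ B p ∧ B p ≤ O := by
    intro O x hx
    obtain ⟨V, hV, hxV, -⟩ := Opens.isBasis_iff_nbhd.mp Y.isBasis_affineOpens
      (show f (j x) ∈ (⊤ : Y.Opens) from trivial)
    obtain ⟨U, hU, hxU, hUO, hUV⟩ := exists_goodChart' j x O (f ⁻¹ᵁ V) hx hxV
    exact ⟨⟨(U, V), hU, hV, hUV⟩, hxU, hUO⟩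
  refine mono_of_injective_on_basis φ B hcharts (fun p => ?_)
  refine (chart_both j f d φ hd hφ p.2.1 p.2.2.1 p.2.2.2).1 ?_
  have := (j ≫ f).smooth_appLE p.2.2.1 p.2.1.isAffineOpen_preimage (j.preimage_mono p.2.2.2)
  exact this.1

end chart2

end Groth.Agent.Lib.H87ConormalSmooth
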