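import Mathlib
import Groth.Agent.Lib.H87FirstSeqSmooth
import Groth.Agent.Lib.H87ConormalSmooth

set_option autoImplicit false

set_option linter.style.haveILetI false
universe u

open TensorProduct KaehlerDifferential IsLocalRing

namespace Groth.Agent.Lib.H87CotSmooth

section local_alg

variable {K A R : Type u} [Field K] [CommRing A] [CommRing R] [IsLocalRing A] [IsLocalRing R]
  [Algebra K A] [Algebra K R] [Algebra A R] [IsScalarTower K A R]

/-- the cotangent map `𝔫/𝔫² → 𝔪/𝔪²` is injective, in elementary terms -/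
def CotInj (A R : Type u) [CommRing A] [CommRing R] [IsLocalRing A] [IsLocalRing R]
    [Algebra A R] : Prop :=
  ∀ a ∈ maximalIdeal A, algebraMap A R a ∈ maximalIdeal R ^ 2 → a ∈ maximalIdeal A ^ 2

theorem exists_sub_mem_maximalIdeal
    (hres : Function.Surjective (algebraMap K (ResidueField R))) (r : R) :
    ∃ c : K, r - algebraMap K R c ∈ maximalIdeal R := by
  obtain ⟨c, hc⟩ := hres (residue R r)
  refine ⟨c, ?_⟩
  rw [← residue_eq_zero_iff, map_sub, ← hc, IsScalarTower.algebraMap_apply K R (ResidueField R)]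
  exact sub_self _

theorem mem_maximalIdeal_iff_of_isLocalHom [IsLocalHom (algebraMap A R)] (a : A) :
    a ∈ maximalIdeal A ↔ algebraMap A R a ∈ maximalIdeal R := by
  rw [mem_maximalIdeal, mem_maximalIdeal, mem_nonunits_iff, mem_nonunits_iff, not_iff_not]
  exact ⟨fun h => h.map _, fun h => IsLocalHom.map_nonunit a h⟩

theorem exists_sub_mem_maximalIdeal' [IsLocalHom (algebraMap A R)]
    (hres : Function.Surjective (algebraMap K (ResidueField R))) (a : A) :
    ∃ c : K, a - algebraMap K A c ∈ maximalIdeal A := by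
  obtain ⟨c, hc⟩ := exists_sub_mem_maximalIdeal hres (algebraMap A R a)
  refine ⟨c, ?_⟩
  rw [mem_maximalIdeal_iff_of_isLocalHom (R := R), map_sub,
    ← IsScalarTower.algebraMap_apply K A R]
  exact hc

/-- `D b ∈ 𝔪 Ω` for `b ∈ 𝔪²` -/
theorem D_mem_smul_top_of_mem_sq (I : Ideal R) (b : R) (hb : b ∈ I ^ 2) :
    D K R b ∈ (I • ⊤ : Submodule R Ω[R⁄K]) := by
  rw [pow_two] at hb
  refine Submodule.mul_induction_on hb ?_ ?_
  · intro x hx y hy
    rw [Derivation.leibniz]
    exact Submodule.add_mem _ (Submodule.smul_mem_smul hx Submodule.mem_top)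
      (Submodule.smul_mem_smul hy Submodule.mem_top)
  · intro x y hx hy
    rw [map_add]
    exact Submodule.add_mem _ hx hy

/-- for a local `K`-algebra with residue field `K`: `b ∈ 𝔪` with `D b ∈ 𝔪 Ω` lies in `𝔪²` -/
theorem mem_sq_of_D_mem_smul_top (hres : Function.Bijective (algebraMap K (ResidueField R)))
    (b : R) (hb : b ∈ maximalIdeal R)
    (hD : D K R b ∈ (maximalIdeal R • ⊤ : Submodule R Ω[R⁄K])) : b ∈ maximalIdeal R ^ 2 := by
  haveI : Algebra.FormallySmooth K (ResidueField R) :=
    Algebra.FormallySmooth.of_equiv (AlgEquiv.ofBijective (Algebra.ofId K (ResidueField R)) hres)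
  have hinj := Groth.Agent.Lib.H87ConormalSmooth.injective_kerCotangentToTensor_of_formallySmooth
    K R (ResidueField R) (Ideal.Quotient.mk_surjective)
  have hker : RingHom.ker (algebraMap R (ResidueField R)) = maximalIdeal R := ker_residue
  have hb' : b ∈ RingHom.ker (algebraMap R (ResidueField R)) := hker ▸ hb
  have h0 : kerCotangentToTensor K R (ResidueField R)
      ((RingHom.ker (algebraMap R (ResidueField R))).toCotangent ⟨b, hb'⟩) = 0 := by
    rw [kerCotangentToTensor_toCotangent]
    have h1 := TensorProduct.quotTensorEquivQuotSMul_mk_tmul (M := Ω[R⁄K]) (maximalIdeal R) 1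
      (D K R b)
    rw [one_smul, (Submodule.Quotient.mk_eq_zero _).mpr hD] at h1
    have h2 := (TensorProduct.quotTensorEquivQuotSMul Ω[R⁄K] (maximalIdeal R)).injective
      (h1.trans (map_zero _).symm)
    exact h2
  have h1 := hinj (h0.trans (map_zero _).symm)
  rw [Ideal.toCotangent_eq_zero] at h1
  rw [← hker]
  exact h1

end local_alg


section main_alg

variable {K A R : Type u} [Field K] [CommRing A] [CommRing R] [IsLocalRing A] [IsLocalRing R]
  [Algebra K A] [Algebra K R] [Algebra A R] [IsScalarTower K A R] [IsLocalHom (algebraMap A R)]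

theorem one_tmul_smul (c : K) (ω : Ω[A⁄K]) :
    (1 : R) ⊗ₜ[A] (c • ω) = (algebraMap K R c) ⊗ₜ[A] ω := by
  rw [← algebraMap_smul A c ω, ← TensorProduct.smul_tmul, Algebra.smul_def, mul_one,
    ← IsScalarTower.algebraMap_apply]

/-- every element of `R ⊗ Ω[A/K]` is congruent mod `𝔪` to some `1 ⊗ D a` with `a ∈ 𝔫` -/
theorem exists_sub_mem_smul_top (hres : Function.Surjective (algebraMap K (ResidueField R)))
    (ω : R ⊗[A] Ω[A⁄K]) :
    ∃ a ∈ maximalIdeal A, ω - (1 : R) ⊗ₜ[A] D K A a ∈
      (maximalIdeal R • ⊤ : Submodule R (R ⊗[A] Ω[A⁄K])) := by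
  induction ω using TensorProduct.induction_on with
  | zero => exact ⟨0, zero_mem _, by simp⟩
  | add x y hx hy =>
    obtain ⟨a, ha, h1⟩ := hx
    obtain ⟨b, hb, h2⟩ := hy
    refine ⟨a + b, add_mem ha hb, ?_⟩
    have := add_mem h1 h2
    convert this using 1
    rw [map_add, TensorProduct.tmul_add]
    abel
  | tmul r ω' =>
    have hω' : ω' ∈ Submodule.span A (Set.range (D K A)) := by
      rw [KaehlerDifferential.span_range_derivation]; trivial
    induction hω' using Submodule.span_induction generalizing r with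
    | mem x hx =>
      obtain ⟨a'', rfl⟩ := hx
      obtain ⟨c, hc⟩ := exists_sub_mem_maximalIdeal hres r
      obtain ⟨c₀, hc₀⟩ := exists_sub_mem_maximalIdeal' (R := R) hres (c • a'')
      refine ⟨c • a'' - algebraMap K A c₀, hc₀, ?_⟩
      have h1 : D K A (c • a'' - algebraMap K A c₀) = c • D K A a'' := by
        rw [map_sub, Derivation.map_algebraMap, sub_zero, Derivation.map_smul]
      rw [h1, one_tmul_smul, ← TensorProduct.sub_tmul]
      have h2 : (r - algebraMap K R c) ⊗ₜ[A] D K A a'' =
          (r - algebraMap K R c) • ((1 : R) ⊗ₜ[A] D K A a'') := by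
        rw [TensorProduct.smul_tmul', smul_eq_mul, mul_one]
      rw [h2]
      exact Submodule.smul_mem_smul hc Submodule.mem_top
    | zero => exact ⟨0, zero_mem _, by simp⟩
    | add x y _ _ hx hy =>
      obtain ⟨a, ha, h1⟩ := hx r
      obtain ⟨b, hb, h2⟩ := hy r
      refine ⟨a + b, add_mem ha hb, ?_⟩
      have := add_mem h1 h2
      convert this using 1
      rw [map_add, TensorProduct.tmul_add, TensorProduct.tmul_add]
      abel
    | smul a' x _ hx =>
      have : r ⊗ₜ[A] (a' • x) = (r * algebraMap A R a') ⊗ₜ[A] x := by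
        rw [← TensorProduct.smul_tmul, Algebra.smul_def, mul_comm]
      rw [this]
      exact hx _

theorem one_tmul_mem_smul_top (ω : Ω[A⁄K])
    (hω : ω ∈ (maximalIdeal A • ⊤ : Submodule A Ω[A⁄K])) :
    (1 : R) ⊗ₜ[A] ω ∈ (maximalIdeal R • ⊤ : Submodule R (R ⊗[A] Ω[A⁄K])) := by
  refine Submodule.smul_induction_on hω ?_ ?_
  · intro ν hν x _
    have : (1 : R) ⊗ₜ[A] (ν • x) = (algebraMap A R ν) • ((1 : R) ⊗ₜ[A] x) := by
      rw [← TensorProduct.smul_tmul, Algebra.smul_def, mul_one, TensorProduct.smul_tmul',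
        smul_eq_mul, mul_one]
    rw [this]
    exact Submodule.smul_mem_smul ((mem_maximalIdeal_iff_of_isLocalHom ν).mp hν)
      Submodule.mem_top
  · intro x y hx hy
    rw [TensorProduct.tmul_add]
    exact add_mem hx hy

theorem map_mem_smul_top {M N : Type*} [AddCommGroup M] [Module R M] [AddCommGroup N] [Module R N]
    (g : M →ₗ[R] N) (I : Ideal R) (x : M) (hx : x ∈ (I • ⊤ : Submodule R M)) :
    g x ∈ (I • ⊤ : Submodule R N) := by
  refine Submodule.smul_induction_on hx ?_ ?_
  · intro r hr y _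
    rw [map_smul]
    exact Submodule.smul_mem_smul hr Submodule.mem_top
  · intro y z hy hz
    rw [map_add]
    exact add_mem hy hz

theorem one_tmul_eq_zero_iff {M : Type*} [AddCommGroup M] [Module R M] (I : Ideal R) (x : M) :
    (1 : R ⧸ I) ⊗ₜ[R] x = 0 ↔ x ∈ (I • ⊤ : Submodule R M) := by
  have h1 := TensorProduct.quotTensorEquivQuotSMul_mk_tmul (M := M) I 1 x
  rw [one_smul, map_one] at h1
  rw [← (TensorProduct.quotTensorEquivQuotSMul M I).map_eq_zero_iff, h1,
    Submodule.Quotient.mk_eq_zero]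

theorem injective_lTensor_quot_iff {M N : Type*} [AddCommGroup M] [Module R M] [AddCommGroup N]
    [Module R N] (g : M →ₗ[R] N) (I : Ideal R) :
    Function.Injective (g.lTensor (R ⧸ I)) ↔
      ∀ x, g x ∈ (I • ⊤ : Submodule R N) → x ∈ (I • ⊤ : Submodule R M) := by
  constructor
  · intro hinj x hx
    rw [← one_tmul_eq_zero_iff] at hx ⊢
    apply hinj
    rw [LinearMap.lTensor_tmul, hx, map_zero]
  · intro h
    rw [injective_iff_map_eq_zero]
    intro t ht
    obtain ⟨q, rfl⟩ := (TensorProduct.quotTensorEquivQuotSMul M I).symm.surjective t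
    obtain ⟨ω, rfl⟩ := Submodule.Quotient.mk_surjective _ q
    rw [TensorProduct.quotTensorEquivQuotSMul_symm_mk] at ht ⊢
    rw [LinearMap.lTensor_tmul] at ht
    exact (one_tmul_eq_zero_iff I _).mpr (h ω ((one_tmul_eq_zero_iff I _).mp ht))

/-- **cotangent injective ⇒ `κ ⊗ (R ⊗ Ω[A/K]) → κ ⊗ Ω[R/K]` injective** -/
theorem injective_lTensor_of_cotInj (hres : Function.Bijective (algebraMap K (ResidueField R)))
    (h : CotInj A R) :
    Function.Injective ((mapBaseChange K A R).lTensor (ResidueField R)) := by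
  have key : ∀ ω, mapBaseChange K A R ω ∈ (maximalIdeal R • ⊤ : Submodule R Ω[R⁄K]) →
      ω ∈ (maximalIdeal R • ⊤ : Submodule R (R ⊗[A] Ω[A⁄K])) := by
    intro ω hgω
    obtain ⟨a, ha, hω⟩ := exists_sub_mem_smul_top hres.2 ω
    have h1 := map_mem_smul_top (mapBaseChange K A R) _ _ hω
    rw [map_sub, mapBaseChange_tmul, one_smul, KaehlerDifferential.map_D] at h1
    have h2 : D K R (algebraMap A R a) ∈ (maximalIdeal R • ⊤ : Submodule R Ω[R⁄K]) := by
      have := sub_mem hgω h1
      rwa [sub_sub_cancel] at this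
    have h3 := mem_sq_of_D_mem_smul_top hres _ ((mem_maximalIdeal_iff_of_isLocalHom a).mp ha) h2
    have h4 := h a ha h3
    have h5 := one_tmul_mem_smul_top (R := R) _ (D_mem_smul_top_of_mem_sq (K := K) _ a h4)
    have := add_mem hω h5
    rwa [sub_add_cancel] at this
  exact (injective_lTensor_quot_iff (mapBaseChange K A R) (maximalIdeal R)).mpr key

/-- **Jacobian-type criterion**: `R/K` formally smooth with `Ω[R/K]` finite free, `R` local and
`κ ⊗ (R ⊗ Ω[A/K]) → κ ⊗ Ω[R/K]` injective imply `R/A` formally smooth. -/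
theorem formallySmooth_of_injective_lTensor [Algebra.FormallySmooth K R] [Module.Finite R Ω[R⁄K]]
    [Module.Free R Ω[R⁄K]] [Module.Finite A Ω[A⁄K]]
    (h : Function.Injective ((mapBaseChange K A R).lTensor (ResidueField R))) :
    Algebra.FormallySmooth A R := by
  obtain ⟨l', hl'⟩ :=
    (IsLocalRing.split_injective_iff_lTensor_residueField_injective (mapBaseChange K A R)).mpr h
  have hinj : Function.Injective (mapBaseChange K A R) := by
    intro x y hxy
    have := congrArg l' hxy
    rwa [← LinearMap.comp_apply, ← LinearMap.comp_apply, hl'] at this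
  haveI : Module.Projective R Ω[R⁄A] := by
    have hex := KaehlerDifferential.exact_mapBaseChange_map K A R
    have hsurj := KaehlerDifferential.map_surjective K A R
    have htfae := hex.split_tfae hinj hsurj
    have h10 : (∃ l, l ∘ₗ mapBaseChange K A R = LinearMap.id) →
        ∃ l, KaehlerDifferential.map K A R R ∘ₗ l = LinearMap.id := (htfae.out 1 0).mp
    obtain ⟨s, hs⟩ := h10 ⟨l', hl'⟩
    exact Module.Projective.of_split s (KaehlerDifferential.map K A R R) hs
  exact Groth.Agent.Lib.H87FirstSeqSmooth.formallySmooth_of_injective_mapBaseChange K A R hinj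

/-- cotangent map injective ⇒ formally smooth -/
theorem formallySmooth_of_cotInj [Algebra.FormallySmooth K R] [Module.Finite R Ω[R⁄K]]
    [Module.Free R Ω[R⁄K]] [Module.Finite A Ω[A⁄K]]
    (hres : Function.Bijective (algebraMap K (ResidueField R))) (h : CotInj A R) :
    Algebra.FormallySmooth A R :=
  formallySmooth_of_injective_lTensor (injective_lTensor_of_cotInj hres h)

end main_alg


section converse

theorem sq_le_of_mul_mem {S : Type*} [CommRing S] (I J : Ideal S)
    (h : ∀ x ∈ I, ∀ y ∈ I, x * y ∈ J) : I ^ 2 ≤ J := by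
  rw [pow_two, Ideal.mul_le]
  exact h

theorem mul_mem_sq {S : Type*} [CommRing S] (I : Ideal S) {x y : S} (hx : x ∈ I) (hy : y ∈ I) :
    x * y ∈ I ^ 2 := by
  rw [pow_two]
  exact Ideal.mul_mem_mul hx hy

variable {A R : Type u} [CommRing A] [CommRing R] [IsLocalRing A] [IsLocalRing R]
  [Algebra A R] [IsLocalHom (algebraMap A R)]

/-- **formally smooth (with trivial residue field extension) ⇒ cotangent map injective** -/
theorem cotInj_of_formallySmooth [Algebra.FormallySmooth A R]
    (hAR : Function.Surjective (algebraMap A (ResidueField R))) : CotInj A R := by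
  intro a _ hφa
  let g : (A ⧸ maximalIdeal A ^ 2) →ₐ[A] ResidueField R :=
    Ideal.Quotient.liftₐ (maximalIdeal A ^ 2) (Algebra.ofId A (ResidueField R)) (by
      intro x hx
      have hx' : x ∈ maximalIdeal A := Ideal.pow_le_self two_ne_zero hx
      change algebraMap A (ResidueField R) x = 0
      rw [IsScalarTower.algebraMap_apply A R (ResidueField R)]
      exact (residue_eq_zero_iff _).mpr ((mem_maximalIdeal_iff_of_isLocalHom x).mp hx'))
  have hg : Function.Surjective g := by
    intro y
    obtain ⟨x, rfl⟩ := hAR y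
    exact ⟨Ideal.Quotient.mk _ x, rfl⟩
  have hgmk : ∀ x : A, g (Ideal.Quotient.mk _ x) = algebraMap A (ResidueField R) x := fun x => rfl
  have hker : ∀ z, z ∈ RingHom.ker (g : (A ⧸ maximalIdeal A ^ 2) →+* ResidueField R) →
      ∃ x ∈ maximalIdeal A, Ideal.Quotient.mk _ x = z := by
    intro z hz
    obtain ⟨x, rfl⟩ := Ideal.Quotient.mk_surjective z
    refine ⟨x, ?_, rfl⟩
    rw [RingHom.mem_ker] at hz
    have h1 : algebraMap A (ResidueField R) x = 0 := hz
    rw [IsScalarTower.algebraMap_apply A R (ResidueField R)] at h1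
    exact (mem_maximalIdeal_iff_of_isLocalHom x).mpr ((residue_eq_zero_iff _).mp h1)
  have hsq : RingHom.ker (g : (A ⧸ maximalIdeal A ^ 2) →+* ResidueField R) ^ 2 = ⊥ := by
    rw [eq_bot_iff]
    apply sq_le_of_mul_mem
    intro z hz w hw
    obtain ⟨x, hx, rfl⟩ := hker z hz
    obtain ⟨y, hy, rfl⟩ := hker w hw
    rw [Ideal.mem_bot, ← map_mul, Ideal.Quotient.eq_zero_iff_mem]
    exact mul_mem_sq _ hx hy
  have hnil : IsNilpotent (RingHom.ker (g : (A ⧸ maximalIdeal A ^ 2) →+* ResidueField R)) :=
    ⟨2, hsq⟩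
  let f : R →ₐ[A] ResidueField R := IsScalarTower.toAlgHom A R (ResidueField R)
  let σ := Algebra.FormallySmooth.liftOfSurjective f g hg hnil
  have hσ : ∀ r, g (σ r) = f r := Algebra.FormallySmooth.liftOfSurjective_apply f g hg hnil
  have hσm : ∀ r ∈ maximalIdeal R,
      σ r ∈ RingHom.ker (g : (A ⧸ maximalIdeal A ^ 2) →+* ResidueField R) := by
    intro r hr
    rw [RingHom.mem_ker]
    change g (σ r) = 0
    rw [hσ]
    exact (residue_eq_zero_iff _).mpr hr
  have hσ2 : ∀ b ∈ maximalIdeal R ^ 2, σ b = 0 := by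
    intro b hb
    have hle : maximalIdeal R ^ 2 ≤ RingHom.ker (σ : R →+* A ⧸ maximalIdeal A ^ 2) := by
      apply sq_le_of_mul_mem
      intro x hx y hy
      rw [RingHom.mem_ker, map_mul, ← Ideal.mem_bot, ← hsq]
      exact mul_mem_sq _ (hσm x hx) (hσm y hy)
    exact hle hb
  have h1 := hσ2 _ hφa
  rw [AlgHom.commutes] at h1
  exact Ideal.Quotient.eq_zero_iff_mem.mp h1

end converse

end Groth.Agent.Lib.H87CotSmooth
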