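import Groth.Agent.Lib.OmegaDer81C
import Groth.Agent.Lib.H90OXModExact

set_option autoImplicit false
set_option linter.style.haveILetI false
universe u

open CategoryTheory AlgebraicGeometry TopologicalSpace Opposite

namespace Groth.Agent.Lib.OmegaDer81

open Groth.Agent.Lib.QCohStalk

section uniq

variable {X S : Scheme.{u}} {f : X ⟶ S}

theorem postcomp_comp_app {F G H : X.Modules} (D : OmegaSh.Der f F) (α : F ⟶ G) (β : G ⟶ H)
    (W : X.Opens) (s : Γ(X, W)) :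
    OmegaSh.Der.app (f := f) (F := H) (D.postcomp (α ≫ β).val) W s =
      β.app W (α.app W (D.app W s)) := rfl

theorem IsUniversal.exists_iso {Ω₁ Ω₂ : X.Modules} {d₁ : OmegaSh.Der f Ω₁} {d₂ : OmegaSh.Der f Ω₂}
    (h₁ : OmegaSh.IsUniversal d₁) (h₂ : OmegaSh.IsUniversal d₂) :
    ∃ θ : Ω₁ ≅ Ω₂, d₁.postcomp θ.hom.val = d₂ := by
  obtain ⟨α, hα, -⟩ := h₁ Ω₂ d₂
  obtain ⟨β, hβ, -⟩ := h₂ Ω₁ d₁
  have e1 : α ≫ β = 𝟙 Ω₁ := by
    obtain ⟨γ, -, hγu⟩ := h₁ Ω₁ d₁
    rw [hγu (α ≫ β), hγu (𝟙 Ω₁)]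
    · apply der_ext'
      intro W s
      rfl
    · apply der_ext'
      intro W s
      rw [postcomp_comp_app]
      have h1 : α.app W (d₁.app W s) = d₂.app W s := by
        rw [← postcomp_app, hα]
      have h2 : β.app W (d₂.app W s) = d₁.app W s := by
        rw [← postcomp_app, hβ]
      rw [h1, h2]
  have e2 : β ≫ α = 𝟙 Ω₂ := by
    obtain ⟨γ, -, hγu⟩ := h₂ Ω₂ d₂
    rw [hγu (β ≫ α), hγu (𝟙 Ω₂)]
    · apply der_ext'
      intro W s
      rfl
    · apply der_ext'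
      intro W s
      rw [postcomp_comp_app]
      have h1 : α.app W (d₁.app W s) = d₂.app W s := by
        rw [← postcomp_app, hα]
      have h2 : β.app W (d₂.app W s) = d₁.app W s := by
        rw [← postcomp_app, hβ]
      rw [h2, h1]
  exact ⟨⟨α, β, e1, e2⟩, hα⟩

end uniq


section bridge

variable {X S : Scheme.{u}} (f : X ⟶ S) {Ω : X.Modules} (d : OmegaSh.Der f Ω)
  {U : X.Opens} (hU : IsAffineOpen U) {V : S.Opens} (hV : IsAffineOpen V) (e : U ≤ f ⁻¹ᵁ V)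

/-- the derivation on the chart `Spec Γ(X,U) ⟶ Spec Γ(S,V)` induced by `d` -/
noncomputable def chartDer : OmegaSh.Der (Spec.map (f.appLE V U e)) (Ω.restrict hU.fromSpec) :=
  (sameDer_comp_openImmersion (Spec.map (f.appLE V U e)) hV.fromSpec).der
    ((sameDer_of_eq (hV.SpecMap_appLE_fromSpec f hU e).symm).der (restrictDer hU.fromSpec d))

theorem chartDer_app (W : (Spec Γ(X, U)).Opens) (s : Γ(Spec Γ(X, U), W)) :
    (chartDer f d hU hV e).app W s =
      d.app (hU.fromSpec ''ᵁ W) ((hU.fromSpec.appIso W).inv s) := rfl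

theorem isUniversal_chartDer (hd : OmegaSh.IsUniversal d) :
    OmegaSh.IsUniversal (chartDer f d hU hV e) :=
  (sameDer_comp_openImmersion (Spec.map (f.appLE V U e)) hV.fromSpec).isUniversal _
    ((sameDer_of_eq (hV.SpecMap_appLE_fromSpec f hU e).symm).isUniversal _
      (isUniversal_restrictDer hU.fromSpec d hd))

end bridge


section bridge2

variable {X S : Scheme.{u}} (f : X ⟶ S) {Ω : X.Modules} (d : OmegaSh.Der f Ω)
  {U : X.Opens} (hU : IsAffineOpen U) {V : S.Opens} (hV : IsAffineOpen V) (e : U ≤ f ⁻¹ᵁ V)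

set_option backward.isDefEq.respectTransparency false in
theorem exists_iso_tilde (hd : OmegaSh.IsUniversal d) :
    letI : Algebra Γ(S, V) Γ(X, U) := (f.appLE V U e).hom.toAlgebra
    ∃ θ : tildeOf Γ(X, U) Ω[Γ(X, U)⁄Γ(S, V)] ≅ Ω.restrict hU.fromSpec,
      ∀ s : Γ(Spec Γ(X, U), ⊤), θ.hom.app ⊤ ((dSpec Γ(S, V) Γ(X, U)).app ⊤ s) =
        (chartDer f d hU hV e).app ⊤ s := by
  letI : Algebra Γ(S, V) Γ(X, U) := (f.appLE V U e).hom.toAlgebra
  have h1 := isUniversal_dSpec Γ(S, V) Γ(X, U)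
  have h2 : OmegaSh.IsUniversal (f := specMap Γ(S, V) Γ(X, U)) (Ω' := Ω.restrict hU.fromSpec)
      (chartDer f d hU hV e) := isUniversal_chartDer f d hU hV e hd
  obtain ⟨θ, hθ⟩ := IsUniversal.exists_iso h1 h2
  refine ⟨θ, fun s => ?_⟩
  have := congrArg (fun D => OmegaSh.Der.app D ⊤ s) hθ
  exact this

end bridge2


section bridge3

variable {X S : Scheme.{u}} (f : X ⟶ S) {Ω : X.Modules} (d : OmegaSh.Der f Ω)
  {U : X.Opens} (hU : IsAffineOpen U) {V : S.Opens} (hV : IsAffineOpen V) (e : U ≤ f ⁻¹ᵁ V)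

theorem fromSpec_image_top_eq : hU.fromSpec ''ᵁ ⊤ = U := by
  rw [Scheme.Hom.image_top_eq_opensRange, hU.opensRange_fromSpec]

theorem appIso_inv_ΓSpecIso_inv (s : Γ(X, U)) :
    (hU.fromSpec.appIso ⊤).inv ((Scheme.ΓSpecIso Γ(X, U)).inv s) =
      resO X (image_fromSpec_le hU ⊤) s := by
  have h := congr($(appIso_inv_fromSpec hU ⊤) s)
  simp only [CommRingCat.comp_apply] at h
  refine Eq.trans ?_ h
  congr 1

include hU hV in
set_option backward.isDefEq.respectTransparency false in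
/-- **Bridge**: sections of a sheaf of differentials over an affine open are the Kähler
differentials, compatibly with the derivations. -/
theorem exists_linearEquiv_sections (hd : OmegaSh.IsUniversal d) :
    letI : Algebra Γ(S, V) Γ(X, U) := (f.appLE V U e).hom.toAlgebra
    ∃ ε : Ω[Γ(X, U)⁄Γ(S, V)] ≃ₗ[Γ(X, U)] Γ(Ω, U),
      ∀ s : Γ(X, U), ε (KaehlerDifferential.D Γ(S, V) Γ(X, U) s) = d.app U s := by
  letI : Algebra Γ(S, V) Γ(X, U) := (f.appLE V U e).hom.toAlgebra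
  obtain ⟨θ, hθ⟩ := exists_iso_tilde f d hU hV e hd
  have e' : hU.fromSpec ''ᵁ ⊤ = U := fromSpec_image_top_eq hU
  -- the underlying function
  let ψ₀ : Ω[Γ(X, U)⁄Γ(S, V)] → Γ(Ω, U) := fun m =>
    res Ω e'.ge (show Γ(Ω, hU.fromSpec ''ᵁ ⊤) from
      θ.hom.app ⊤ (toTop Γ(X, U) Ω[Γ(X, U)⁄Γ(S, V)] m))
  have hadd : ∀ a b, ψ₀ (a + b) = ψ₀ a + ψ₀ b := by
    intro a b
    simp only [ψ₀, map_add]
  have hsmul : ∀ (b : Γ(X, U)) (m), ψ₀ (b • m) = b • ψ₀ m := by
    intro b m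
    simp only [ψ₀, map_smul]
    have h1 : θ.hom.app ⊤ (b • toTop Γ(X, U) Ω[Γ(X, U)⁄Γ(S, V)] m) =
        b • θ.hom.app ⊤ (toTop Γ(X, U) Ω[Γ(X, U)⁄Γ(S, V)] m) := by
      rw [smul_top_eq, Scheme.Modules.Hom.app_smul, ← smul_top_eq]
    rw [h1]
    have h2 := smul_restrict_fromSpec Ω hU ⊤ b
      (θ.hom.app ⊤ (toTop Γ(X, U) Ω[Γ(X, U)⁄Γ(S, V)] m))
    refine (congrArg (res Ω e'.ge) h2).trans ?_
    rw [res_smul]
    congr 1
    have := resO_resO X e'.ge (image_fromSpec_le hU ⊤) b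
    refine this.trans ?_
    change X.presheaf.map (𝟙 _) b = b
    rw [X.presheaf.map_id]; rfl
  let ψ : Ω[Γ(X, U)⁄Γ(S, V)] →ₗ[Γ(X, U)] Γ(Ω, U) :=
    { toFun := ψ₀, map_add' := hadd, map_smul' := hsmul }
  have hbij : Function.Bijective ψ := by
    have hb1 := toTop_bijective Γ(X, U) Ω[Γ(X, U)⁄Γ(S, V)]
    have hb2 : Function.Bijective (θ.hom.app ⊤) := by
      constructor
      · intro a b hab
        have := congrArg (θ.inv.app ⊤) hab
        have e1 : ∀ x, θ.inv.app ⊤ (θ.hom.app ⊤ x) = x := fun x => by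
          rw [← ConcreteCategory.comp_apply, ← Scheme.Modules.Hom.comp_app, θ.hom_inv_id]
          rfl
        rwa [e1, e1] at this
      · intro y
        refine ⟨θ.inv.app ⊤ y, ?_⟩
        rw [← ConcreteCategory.comp_apply, ← Scheme.Modules.Hom.comp_app, θ.inv_hom_id]
        rfl
    have hb3 : Function.Bijective (res Ω e'.ge) := by
      constructor
      · exact res_injective_of_eq Ω e'.symm
      · intro y
        refine ⟨res Ω e'.le y, ?_⟩
        rw [res_res]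
        exact res_self Ω y
    exact hb3.comp (hb2.comp hb1)
  refine ⟨LinearEquiv.ofBijective ψ hbij, fun s => ?_⟩
  change ψ₀ (KaehlerDifferential.D Γ(S, V) Γ(X, U) s) = d.app U s
  have h3 : toTop Γ(X, U) Ω[Γ(X, U)⁄Γ(S, V)] (KaehlerDifferential.D Γ(S, V) Γ(X, U) s) =
      (dSpec Γ(S, V) Γ(X, U)).app ⊤ ((Scheme.ΓSpecIso Γ(X, U)).inv s) := by
    rw [dSpec_app_top]
    congr 2
    exact (congr($((Scheme.ΓSpecIso Γ(X, U)).inv_hom_id) s)).symm
  simp only [ψ₀]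
  rw [h3, hθ, chartDer_app, appIso_inv_ΓSpecIso_inv, der_app_map, res_res]
  exact res_self Ω _

end bridge3


section qcoh

variable {X S : Scheme.{u}} (f : X ⟶ S) {Ω : X.Modules} (d : OmegaSh.Der f Ω)

set_option backward.isDefEq.respectTransparency false in
theorem isQuasicoherent_restrict_of_isUniversal (hd : OmegaSh.IsUniversal d)
    {U : X.Opens} (hU : IsAffineOpen U) {V : S.Opens} (hV : IsAffineOpen V) (e : U ≤ f ⁻¹ᵁ V) :
    (Ω.restrict hU.fromSpec).IsQuasicoherent := by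
  letI : Algebra Γ(S, V) Γ(X, U) := (f.appLE V U e).hom.toAlgebra
  obtain ⟨θ, -⟩ := exists_iso_tilde f d hU hV e hd
  exact (SheafOfModules.isQuasicoherent (Spec Γ(X, U)).ringCatSheaf).prop_of_iso θ
    (inferInstanceAs (tilde (ModuleCat.of Γ(X, U) Ω[Γ(X, U)⁄Γ(S, V)])).IsQuasicoherent)

/-- every sheaf of differentials is quasi-coherent -/
theorem isQuasicoherent_of_isUniversal (hd : OmegaSh.IsUniversal d) : Ω.IsQuasicoherent := by
  let ι : Type u := {U : X.affineOpens // ∃ V : S.affineOpens, U.1 ≤ f ⁻¹ᵁ V.1}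
  have hU : ⨆ i : ι, i.1.1 = ⊤ := by
    rw [eq_top_iff]
    intro x _
    obtain ⟨_, ⟨V, hV, rfl⟩, hxV, -⟩ :=
      S.isBasis_affineOpens.exists_subset_of_mem_open (Set.mem_univ (f x)) isOpen_univ
    obtain ⟨_, ⟨W, hW, rfl⟩, hxW, hWV⟩ :=
      X.isBasis_affineOpens.exists_subset_of_mem_open (show x ∈ f ⁻¹ᵁ V from hxV)
        (f ⁻¹ᵁ V).isOpen
    exact Opens.mem_iSup.mpr ⟨⟨⟨W, hW⟩, ⟨V, hV⟩, hWV⟩, hxW⟩
  refine Groth.Agent.Lib.H90OXModExact.isQuasicoherent_of_forall_restrict Ω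
    (fun i : ι => i.1.1) hU (fun i => i.1.2) fun i => ?_
  obtain ⟨V, hle⟩ := i.2
  exact isQuasicoherent_restrict_of_isUniversal f d hd i.1.2 V.2 hle

end qcoh

end Groth.Agent.Lib.OmegaDer81
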