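/-
helper87: differentials locally free of rank `dim X` at a closed point of a finite type scheme over an
algebraically closed field force the local ring to be regular (Hartshorne II.8.8 / II.8.15, the
direction "Ω locally free ⇒ nonsingular").

* `bijective_algebraMap_residueField`: residue fields at maximal ideals of f.t. algebras over
  an algebraically closed field are trivial
* `isRegularLocalRing_of_span_kaehler`: ring-level criterion
* `exists_span_sections_of_restrict_iso`: `M|_V ≅ O_V^n` gives `n` spanning sections of `Γ(M, V)`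
* `isMaximal_primeIdealOf`: closed points give maximal ideals in affine charts
* `isRegularLocalRing_stalk_of_isClosed`: the scheme-level statement at closed points
-/
import Mathlib
import Groth.Agent.Lib.H56RegSmooth2
import Groth.Agent.Lib.GammaRetract
import Groth.Agent.Lib.QCohStalk
import Groth.Agent.Lib.LocFreeCrit
import Groth.Agent.Lib.H30DimFieldRing
import Groth.Agent.Lib.OmegaDer81D

set_option autoImplicit false
universe u

open CategoryTheory CategoryTheory.Limits AlgebraicGeometry TopologicalSpace Opposite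
open IsLocalRing TensorProduct KaehlerDifferential

namespace Groth.Agent.Lib.H87OmegaReg

open Groth.Agent.Lib.GammaRetract Groth.Agent.Lib.QCohStalk

section ring

variable (R A : Type u) [Field R] [IsAlgClosed R] [CommRing A] [Algebra R A]
  [Algebra.FiniteType R A] (m : Ideal A) [hm : m.IsMaximal]

/-- residue field at a maximal ideal of a finite type algebra over an algebraically closed field -/
theorem bijective_algebraMap_residueField :
    Function.Bijective (algebraMap R (ResidueField (Localization.AtPrime m))) := by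
  haveI : Algebra.FiniteType R (A ⧸ m) := inferInstance
  letI : Field (A ⧸ m) := Ideal.Quotient.field m
  haveI : Module.Finite R (A ⧸ m) := finite_of_finite_type_of_isJacobsonRing R (A ⧸ m)
  let e' : (A ⧸ m) ≃ₐ[R] m.ResidueField :=
    AlgEquiv.ofBijective (IsScalarTower.toAlgHom R (A ⧸ m) m.ResidueField)
      m.bijective_algebraMap_quotient_residueField
  haveI : Module.Finite R m.ResidueField := Module.Finite.equiv e'.toLinearEquiv
  haveI : Algebra.IsIntegral R m.ResidueField := Algebra.IsIntegral.of_finite R _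
  exact IsAlgClosed.algebraMap_bijective_of_isIntegral (k := R) (K := m.ResidueField)

/-- if `Ω[A/R]` is generated by `n` elements and the local ring at the maximal ideal `m` has
dimension `n`, the local ring at `m` is regular -/
theorem isRegularLocalRing_of_span_kaehler {n : ℕ} (t : Fin n → Ω[A⁄R])
    (ht : Submodule.span A (Set.range t) = ⊤)
    (hdim : ringKrullDim (Localization.AtPrime m) = (n : WithBot ℕ∞)) :
    IsRegularLocalRing (Localization.AtPrime m) := by
  set B := Localization.AtPrime m with hB
  have hres := bijective_algebraMap_residueField R A m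
  haveI : IsNoetherianRing A := Algebra.FiniteType.isNoetherianRing R A
  haveI : IsNoetherianRing B := IsLocalization.isNoetherianRing m.primeCompl B inferInstance
  -- `Ω[B/R]` is spanned by `n` elements
  have h1 : Submodule.span B ((KaehlerDifferential.map R R A B) '' Set.range t) = ⊤ :=
    span_eq_top_of_isLocalizedModule B m.primeCompl (KaehlerDifferential.map R R A B) ht
  have h2 : Module.finrank (ResidueField B) (ResidueField B ⊗[B] Ω[B⁄R]) ≤ n := by
    have h3 : Submodule.span (ResidueField B)
        (Set.range fun i : Fin n => (1 : ResidueField B) ⊗ₜ[B]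
          (KaehlerDifferential.map R R A B (t i))) = ⊤ := by
      have := Submodule.baseChange_span (A := ResidueField B) (R := B)
        ((KaehlerDifferential.map R R A B) '' Set.range t)
      rw [h1, Submodule.baseChange_top] at this
      rw [this]
      congr 1
      ext z
      simp only [Set.mem_range, Set.mem_image, TensorProduct.mk_apply]
      constructor
      · rintro ⟨i, rfl⟩
        exact ⟨_, ⟨_, ⟨i, rfl⟩, rfl⟩, rfl⟩
      · rintro ⟨_, ⟨_, ⟨i, rfl⟩, rfl⟩, rfl⟩
        exact ⟨i, rfl⟩
    have := finrank_range_le_card (R := ResidueField B) (fun i : Fin n => (1 : ResidueField B) ⊗ₜ[B]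
          (KaehlerDifferential.map R R A B (t i)))
    unfold Set.finrank at this
    rw [h3, finrank_top, Fintype.card_fin] at this
    exact this
  rw [Groth.Agent.Lib.H56RegSmooth.finrank_tensor_kaehler_eq R B hres] at h2
  apply IsRegularLocalRing.of_spanFinrank_maximalIdeal_le
  rw [IsLocalRing.spanFinrank_maximalIdeal_eq_finrank_cotangentSpace, hdim]
  exact_mod_cast h2

end ring


/-- if `M` is free of rank `n` over the open `V`, then `Γ(M, V)` is spanned by `n` sections -/
theorem exists_span_sections_of_restrict_iso {X : Scheme.{u}} (M : X.Modules) (V : X.Opens) {n : ℕ}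
    (e : M.restrict V.ι ≅ FlatMod.freeMod V n) :
    ∃ t : Fin n → Γ(M, V), Submodule.span Γ(X, V) (Set.range t) = ⊤ := by
  have hV : V.ι ''ᵁ ⊤ = V := Scheme.Opens.ι_image_top V
  let ε : (Γfun V.toScheme).obj (M.restrict V.ι) ≃ₗ[Γ(V.toScheme, ⊤)]
      (Γfun V.toScheme).obj (FlatMod.freeMod V.toScheme n) :=
    ((Γfun V.toScheme).mapIso e).toLinearEquiv
  let s₀ : Fin n → (Γfun V.toScheme).obj (M.restrict V.ι) :=
    ⇑((basisΓ V.toScheme n).map ε.symm)
  have hs₀ : Submodule.span Γ(V.toScheme, ⊤) (Set.range s₀) = ⊤ :=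
    ((basisΓ V.toScheme n).map ε.symm).span_eq
  let s : Fin n → Γ(M.restrict V.ι, ⊤) := s₀
  have hs : Submodule.span Γ(V.toScheme, ⊤) (Set.range s) = ⊤ := hs₀
  let t : Fin n → Γ(M, V) := fun i => res M hV.ge (s i)
  refine ⟨t, ?_⟩
  rw [eq_top_iff]
  rintro z -
  have key : ∀ w : Γ(M.restrict V.ι, ⊤), w ∈ Submodule.span Γ(V.toScheme, ⊤) (Set.range s) →
      res M hV.ge w ∈ Submodule.span Γ(X, V) (Set.range t) := by
    intro w hw
    induction hw using Submodule.span_induction with
    | mem w hw =>
      obtain ⟨i, rfl⟩ := hw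
      exact Submodule.subset_span ⟨i, rfl⟩
    | zero =>
      have : res M hV.ge (0 : Γ(M.restrict V.ι, ⊤)) = 0 := res_zero M hV.ge
      rw [this]
      exact Submodule.zero_mem _
    | add w₁ w₂ _ _ h₁ h₂ =>
      have : res M hV.ge (w₁ + w₂) = res M hV.ge w₁ + res M hV.ge w₂ :=
        map_add (M.presheaf.map (homOfLE hV.ge).op).hom w₁ w₂
      rw [this]
      exact Submodule.add_mem _ h₁ h₂
    | smul a w _ h =>
      have h1 : a • w = ((V.ι.appIso ⊤).inv a) • (show Γ(M, V.ι ''ᵁ ⊤) from w) := rfl
      rw [h1, res_smul]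
      exact Submodule.smul_mem _ _ h
  have hz : res M hV.ge (res M hV.le z) = z := (res_res M hV.ge hV.le z).trans (res_self M z)
  have := key (res M hV.le z) (hs ▸ Submodule.mem_top)
  exact hz ▸ this


section sheaf

open Groth.Agent.Lib.LocFreeCrit Groth.Agent.Lib.OmegaDer81

/-- a closed point of an affine open gives a maximal ideal -/
theorem isMaximal_primeIdealOf {X : Scheme.{u}} {V : X.Opens} (hV : IsAffineOpen V) (y : V)
    (hc : IsClosed ({y.1} : Set X)) :
    (hV.primeIdealOf y).asIdeal.IsMaximal := by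
  rw [← PrimeSpectrum.isClosed_singleton_iff_isMaximal]
  let y' : V.toScheme := y
  have h1 : IsClosed ({y'} : Set V.toScheme) := by
    have : ({y'} : Set V.toScheme) = V.ι ⁻¹' {y.1} := by
      ext z
      constructor
      · intro h
        rw [Set.mem_singleton_iff] at h
        rw [h]
        rfl
      · intro h
        rw [Set.mem_singleton_iff]
        exact Subtype.ext h
    rw [this]
    exact hc.preimage V.ι.continuous
  have h2 := (hV.isoSpec.hom.homeomorph).isClosedMap _ h1
  have h3 : (hV.isoSpec.hom.homeomorph) '' ({y'} : Set V.toScheme) = {hV.primeIdealOf y} :=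
    Set.image_singleton
  rw [h3] at h2
  exact h2

set_option backward.isDefEq.respectTransparency false in
theorem isRegularLocalRing_stalk_of_isClosed (k : Type u) [Field k] [IsAlgClosed k] (X : Scheme.{u})
    [X.Over (Spec (CommRingCat.of k))] [LocallyOfFiniteType (X ↘ Spec (CommRingCat.of k))]
    (Ω' : X.Modules) (d : OmegaSh.Der (X ↘ Spec (CommRingCat.of k)) Ω') (hd : OmegaSh.IsUniversal d)
    (n : ℕ) (c : X) (hc : IsClosed ({c} : Set X))
    (hdim : FlatMor.localDim X c = (n : WithBot ℕ∞))
    (U : X.Opens) (hcU : c ∈ U) (e : Ω'.restrict U.ι ≅ FlatMod.freeMod U n) :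
    IsRegularLocalRing (X.presheaf.stalk c) := by
  obtain ⟨W, hcW, hW⟩ := locFreeAt_of_restrict_iso U hcU e
  obtain ⟨_, ⟨(V : X.Opens), hV, rfl⟩, hcV, hVW⟩ :=
    X.isBasis_affineOpens.exists_subset_of_mem_open hcW W.2
  obtain ⟨e'⟩ := hW V.ι (by rw [Scheme.Opens.opensRange_ι]; exact hVW)
  obtain ⟨t, ht⟩ := exists_span_sections_of_restrict_iso Ω' V e'
  have hS := isAffineOpen_top (Spec (CommRingCat.of k))
  have eV : V ≤ (X ↘ Spec (CommRingCat.of k)) ⁻¹ᵁ ⊤ := le_top
  let eR : Γ(Spec (CommRingCat.of k), ⊤) ≃+* k :=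
    (Scheme.ΓSpecIso (CommRingCat.of k)).commRingCatIsoToRingEquiv
  have hR : IsField Γ(Spec (CommRingCat.of k), ⊤) :=
    MulEquiv.isField (Field.toIsField k) eR.toMulEquiv
  letI : Field Γ(Spec (CommRingCat.of k), ⊤) := hR.toField
  haveI : IsAlgClosed Γ(Spec (CommRingCat.of k), ⊤) := IsAlgClosed.of_ringEquiv _ _ eR.symm
  letI : Algebra Γ(Spec (CommRingCat.of k), ⊤) Γ(X, V) :=
    ((X ↘ Spec (CommRingCat.of k)).appLE ⊤ V eV).hom.toAlgebra
  haveI : Algebra.FiniteType Γ(Spec (CommRingCat.of k), ⊤) Γ(X, V) :=
    (X ↘ Spec (CommRingCat.of k)).finiteType_appLE hS hV eV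
  obtain ⟨ε, -⟩ := exists_linearEquiv_sections (X ↘ Spec (CommRingCat.of k)) d hV hS eV hd
  obtain ⟨y, hy⟩ : ∃ y : V, y.1 = c := ⟨⟨c, hcV⟩, rfl⟩
  subst hy
  haveI hm := isMaximal_primeIdealOf hV y hc
  haveI := hV.isLocalization_stalk y
  let φ : Localization.AtPrime (hV.primeIdealOf y).asIdeal ≃ₐ[Γ(X, V)] X.presheaf.stalk y.1 :=
    IsLocalization.algEquiv (hV.primeIdealOf y).asIdeal.primeCompl _ _
  have hdim' : ringKrullDim (Localization.AtPrime (hV.primeIdealOf y).asIdeal) =
      (n : WithBot ℕ∞) := by
    rw [ringKrullDim_eq_of_ringEquiv φ.toRingEquiv,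
      ← Groth.Agent.Lib.H30DimFieldRing.localDim_closed k X y.1 hc, hdim]
  have hspan : Submodule.span Γ(X, V) (Set.range fun i => ε.symm (t i)) = ⊤ := by
    have : (Set.range fun i => ε.symm (t i)) = ε.symm.toLinearMap '' Set.range t := by
      rw [← Set.range_comp]
      rfl
    rw [this, ← Submodule.map_span, ht, Submodule.map_top, LinearMap.range_eq_top]
    exact ε.symm.surjective
  have := isRegularLocalRing_of_span_kaehler Γ(Spec (CommRingCat.of k), ⊤) Γ(X, V)
    (hV.primeIdealOf y).asIdeal (fun i => ε.symm (t i)) hspan hdim'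
  exact IsRegularLocalRing.of_ringEquiv φ.toRingEquiv

end sheaf

end Groth.Agent.Lib.H87OmegaReg
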