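import Mathlib
import Groth.Prelude.Def_FixPt
import Groth.Agent.Lib.H87CotSmooth
import Groth.Agent.Lib.H87OmegaReg
import Groth.Agent.Lib.H30DimField
import Groth.Agent.Lib.Conormal81C

/-!
# helper87: Hartshorne III.10.4 — smoothness via injectivity of cotangent maps at closed points

* `bijective_algebraMap_residueField_of_isLocalization`
* `stalkMapAt_rfl`, `cotangentMapAt_injective_iff` (elementary form of injectivity of
  `FixPt.cotangentMapAt f x (f x) rfl`)
* `formallySmooth_stalkMap_iff_cotangentMapAt`: at a closed point `x` of `X` smooth over an algebraically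
  closed field `k`, `Y` lft over `k`: `O_{Y,f x} → O_{X,x}` formally smooth iff cotangent map injective
* `locallyOfFinitePresentation_of_comp_field`
* `smooth_iff_forall_cotangentMapAt_injective`
-/

set_option autoImplicit false
set_option linter.style.haveILetI false
universe u

open CategoryTheory CategoryTheory.Limits AlgebraicGeometry TopologicalSpace Opposite IsLocalRing

namespace Groth.Agent.Lib.H87CotSmoothSch

section ring

/-- residue field of a localization at a maximal ideal of a finite type algebra over an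
algebraically closed field -/
theorem bijective_algebraMap_residueField_of_isLocalization (K B : Type u) [Field K] [IsAlgClosed K]
    [CommRing B] [Algebra K B] [Algebra.FiniteType K B] (m : Ideal B) [m.IsMaximal]
    (S : Type u) [CommRing S] [IsLocalRing S] [Algebra B S] [IsLocalization.AtPrime S m]
    [Algebra K S] [IsScalarTower K B S] :
    Function.Bijective (algebraMap K (ResidueField S)) := by
  have h := Groth.Agent.Lib.H87OmegaReg.bijective_algebraMap_residueField K B m
  let φ : Localization.AtPrime m ≃ₐ[B] S := IsLocalization.algEquiv m.primeCompl _ _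
  let ψ : ResidueField (Localization.AtPrime m) ≃+* ResidueField S :=
    ResidueField.mapEquiv φ.toRingEquiv
  have : (algebraMap K (ResidueField S) : K → ResidueField S) =
      ψ ∘ algebraMap K (ResidueField (Localization.AtPrime m)) := by
    funext c
    rw [Function.comp_apply, IsScalarTower.algebraMap_apply K S (ResidueField S),
      IsScalarTower.algebraMap_apply K (Localization.AtPrime m)
        (ResidueField (Localization.AtPrime m)),
      IsScalarTower.algebraMap_apply K B S,
      IsScalarTower.algebraMap_apply K B (Localization.AtPrime m)]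
    change _ = ResidueField.map (φ.toRingEquiv : Localization.AtPrime m →+* S) (residue _ _)
    rw [ResidueField.map_residue]
    congr 1
    exact (φ.commutes _).symm
  rw [this]
  exact ψ.bijective.comp h

end ring


section cot

variable {X Y : Scheme.{u}} (f : X ⟶ Y) (x : X)

theorem stalkMapAt_rfl : FixPt.stalkMapAt f x (f.base x) rfl = (f.stalkMap x).hom := by
  unfold FixPt.stalkMapAt
  have : (Y.presheaf.stalkCongr (Inseparable.of_eq (rfl : f.base x = f.base x))).inv = 𝟙 _ := by
    change Y.presheaf.stalkSpecializes (specializes_refl (f.base x)) = 𝟙 _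
    exact TopCat.Presheaf.stalkSpecializes_refl _ _
  rw [this, Category.id_comp]

theorem cotangentMapAt_injective_iff :
    Function.Injective (FixPt.cotangentMapAt f x (f.base x) rfl) ↔
      ∀ a ∈ maximalIdeal (Y.presheaf.stalk (f.base x)),
        (f.stalkMap x).hom a ∈ maximalIdeal (X.presheaf.stalk x) ^ 2 →
        a ∈ maximalIdeal (Y.presheaf.stalk (f.base x)) ^ 2 := by
  rw [injective_iff_map_eq_zero]
  constructor
  · intro h a ha ha2
    have h1 := h ((maximalIdeal (Y.presheaf.stalk (f.base x))).toCotangent ⟨a, ha⟩) (by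
      unfold FixPt.cotangentMapAt
      rw [Ideal.mapCotangent_toCotangent, Ideal.toCotangent_eq_zero]
      change FixPt.stalkMapAt f x (f.base x) rfl a ∈ _
      rw [stalkMapAt_rfl]
      exact ha2)
    exact (Ideal.toCotangent_eq_zero _ _).mp h1
  · intro h v hv
    obtain ⟨⟨a, ha⟩, rfl⟩ := Ideal.toCotangent_surjective _ v
    unfold FixPt.cotangentMapAt at hv
    rw [Ideal.mapCotangent_toCotangent, Ideal.toCotangent_eq_zero] at hv
    change FixPt.stalkMapAt f x (f.base x) rfl a ∈ _ at hv
    rw [stalkMapAt_rfl] at hv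
    rw [Ideal.toCotangent_eq_zero]
    exact h a ha hv


end cot

section stalk

open Groth.Agent.Lib.H87CotSmooth

set_option maxHeartbeats 1600000 in
/-- **Hartshorne III.10.4 (local form)**: for `f : X → Y` over an algebraically closed field `k`,
`X` smooth and `Y` locally of finite type over `k`, and a closed point `x`: the stalk map of `f` at
`x` is formally smooth iff the cotangent map at `x` is injective. -/
theorem formallySmooth_stalkMap_iff_cotangentMapAt (k : Type u) [Field k] [IsAlgClosed k]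
    {X Y : Scheme.{u}} (f : X ⟶ Y) (qY : Y ⟶ Spec (CommRingCat.of k)) [LocallyOfFiniteType qY]
    [Smooth (f ≫ qY)] (x : X) (hx : IsClosed ({x} : Set X)) :
    (f.stalkMap x).hom.FormallySmooth ↔
      Function.Injective (FixPt.cotangentMapAt f x (f.base x) rfl) := by
  rw [cotangentMapAt_injective_iff]
  -- the base field
  have hS := isAffineOpen_top (Spec (CommRingCat.of k))
  let eR : Γ(Spec (CommRingCat.of k), ⊤) ≃+* k :=
    (Scheme.ΓSpecIso (CommRingCat.of k)).commRingCatIsoToRingEquiv
  have hR : IsField Γ(Spec (CommRingCat.of k), ⊤) :=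
    MulEquiv.isField (Field.toIsField k) eR.toMulEquiv
  letI : Field Γ(Spec (CommRingCat.of k), ⊤) := hR.toField
  haveI : IsAlgClosed Γ(Spec (CommRingCat.of k), ⊤) := IsAlgClosed.of_ringEquiv _ _ eR.symm
  -- charts
  obtain ⟨_, ⟨UY, hUY, rfl⟩, hyU, -⟩ :=
    Y.isBasis_affineOpens.exists_subset_of_mem_open (Set.mem_univ (f.base x)) isOpen_univ
  obtain ⟨_, ⟨UX, hUX, rfl⟩, hxU, e1⟩ :=
    X.isBasis_affineOpens.exists_subset_of_mem_open (show x ∈ f ⁻¹ᵁ UY from hyU) (f ⁻¹ᵁ UY).2
  have eY : UY ≤ qY ⁻¹ᵁ ⊤ := le_top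
  have eX : UX ≤ (f ≫ qY) ⁻¹ᵁ ⊤ := le_top
  letI : Algebra Γ(Spec (CommRingCat.of k), ⊤) Γ(Y, UY) := (qY.appLE ⊤ UY eY).hom.toAlgebra
  letI : Algebra Γ(Spec (CommRingCat.of k), ⊤) Γ(X, UX) :=
    ((f ≫ qY).appLE ⊤ UX eX).hom.toAlgebra
  letI : Algebra Γ(Y, UY) (Y.presheaf.stalk (f.base x)) :=
    (Y.presheaf.germ UY (f.base x) hyU).hom.toAlgebra
  letI : Algebra Γ(X, UX) (X.presheaf.stalk x) := (X.presheaf.germ UX x hxU).hom.toAlgebra
  haveI hlocY : IsLocalization.AtPrime (Y.presheaf.stalk (f.base x))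
      (hUY.primeIdealOf ⟨f.base x, hyU⟩).asIdeal := hUY.isLocalization_stalk ⟨f.base x, hyU⟩
  haveI hlocX : IsLocalization.AtPrime (X.presheaf.stalk x)
      (hUX.primeIdealOf ⟨x, hxU⟩).asIdeal := hUX.isLocalization_stalk ⟨x, hxU⟩
  letI : Algebra Γ(Spec (CommRingCat.of k), ⊤) (Y.presheaf.stalk (f.base x)) :=
    ((algebraMap Γ(Y, UY) (Y.presheaf.stalk (f.base x))).comp
      (algebraMap Γ(Spec (CommRingCat.of k), ⊤) Γ(Y, UY))).toAlgebra
  letI : Algebra Γ(Spec (CommRingCat.of k), ⊤) (X.presheaf.stalk x) :=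
    ((algebraMap Γ(X, UX) (X.presheaf.stalk x)).comp
      (algebraMap Γ(Spec (CommRingCat.of k), ⊤) Γ(X, UX))).toAlgebra
  haveI : IsScalarTower Γ(Spec (CommRingCat.of k), ⊤) Γ(Y, UY) (Y.presheaf.stalk (f.base x)) :=
    .of_algebraMap_eq' rfl
  haveI : IsScalarTower Γ(Spec (CommRingCat.of k), ⊤) Γ(X, UX) (X.presheaf.stalk x) :=
    .of_algebraMap_eq' rfl
  letI : Algebra (Y.presheaf.stalk (f.base x)) (X.presheaf.stalk x) :=
    (f.stalkMap x).hom.toAlgebra
  haveI : IsScalarTower Γ(Spec (CommRingCat.of k), ⊤) (Y.presheaf.stalk (f.base x))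
      (X.presheaf.stalk x) := .of_algebraMap_eq' (by
    change (X.presheaf.germ UX x hxU).hom.comp ((f ≫ qY).appLE ⊤ UX eX).hom =
      (f.stalkMap x).hom.comp ((Y.presheaf.germ UY (f.base x) hyU).hom.comp
        (qY.appLE ⊤ UY eY).hom)
    rw [← CommRingCat.hom_comp, ← CommRingCat.hom_comp, ← CommRingCat.hom_comp,
      ← Scheme.Hom.appLE_comp_appLE f qY ⊤ UY UX eY e1, Category.assoc, Category.assoc]
    congr 2
    rw [Scheme.Hom.germ_stalkMap, Scheme.Hom.appLE, Category.assoc, X.presheaf.germ_res])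
  haveI : IsLocalHom (algebraMap (Y.presheaf.stalk (f.base x)) (X.presheaf.stalk x)) :=
    (inferInstance : IsLocalHom (f.stalkMap x).hom)
  -- finiteness and smoothness
  haveI : Algebra.FiniteType Γ(Spec (CommRingCat.of k), ⊤) Γ(Y, UY) :=
    qY.finiteType_appLE hS hUY eY
  have hsm : Algebra.Smooth Γ(Spec (CommRingCat.of k), ⊤) Γ(X, UX) :=
    HasRingHomProperty.appLE (P := @Smooth) (f ≫ qY) inferInstance ⟨⊤, hS⟩ ⟨UX, hUX⟩ eX
  haveI : Algebra.FormallySmooth Γ(Spec (CommRingCat.of k), ⊤) Γ(X, UX) := hsm.formallySmooth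
  haveI : Algebra.FinitePresentation Γ(Spec (CommRingCat.of k), ⊤) Γ(X, UX) :=
    hsm.finitePresentation
  haveI : Algebra.EssFiniteType Γ(Y, UY) (Y.presheaf.stalk (f.base x)) :=
    .of_isLocalization _ (hUY.primeIdealOf ⟨f.base x, hyU⟩).asIdeal.primeCompl
  haveI : Algebra.EssFiniteType Γ(Spec (CommRingCat.of k), ⊤) (Y.presheaf.stalk (f.base x)) :=
    .comp _ Γ(Y, UY) _
  haveI : Algebra.EssFiniteType Γ(X, UX) (X.presheaf.stalk x) :=
    .of_isLocalization _ (hUX.primeIdealOf ⟨x, hxU⟩).asIdeal.primeCompl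
  haveI : Algebra.EssFiniteType Γ(Spec (CommRingCat.of k), ⊤) (X.presheaf.stalk x) :=
    .comp _ Γ(X, UX) _
  haveI : Algebra.FormallySmooth Γ(X, UX) (X.presheaf.stalk x) :=
    .of_isLocalization (hUX.primeIdealOf ⟨x, hxU⟩).asIdeal.primeCompl
  haveI : Algebra.FormallySmooth Γ(Spec (CommRingCat.of k), ⊤) (X.presheaf.stalk x) :=
    .comp _ Γ(X, UX) _
  haveI : Module.Free (X.presheaf.stalk x)
      Ω[(X.presheaf.stalk x)⁄Γ(Spec (CommRingCat.of k), ⊤)] := Module.free_of_flat_of_isLocalRing
  -- residue field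
  haveI hm := Groth.Agent.Lib.H87OmegaReg.isMaximal_primeIdealOf hUX ⟨x, hxU⟩ hx
  have hres : Function.Bijective (algebraMap Γ(Spec (CommRingCat.of k), ⊤)
      (ResidueField (X.presheaf.stalk x))) :=
    bijective_algebraMap_residueField_of_isLocalization Γ(Spec (CommRingCat.of k), ⊤) Γ(X, UX)
      (hUX.primeIdealOf ⟨x, hxU⟩).asIdeal (X.presheaf.stalk x)
  constructor
  · intro h
    haveI : Algebra.FormallySmooth (Y.presheaf.stalk (f.base x)) (X.presheaf.stalk x) := h
    have hAR : Function.Surjective (algebraMap (Y.presheaf.stalk (f.base x))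
        (ResidueField (X.presheaf.stalk x))) := by
      intro r
      obtain ⟨c, rfl⟩ := hres.2 r
      refine ⟨algebraMap _ _ c, ?_⟩
      rw [IsScalarTower.algebraMap_apply (Y.presheaf.stalk (f.base x)) (X.presheaf.stalk x)
        (ResidueField (X.presheaf.stalk x)),
        ← IsScalarTower.algebraMap_apply Γ(Spec (CommRingCat.of k), ⊤)
          (Y.presheaf.stalk (f.base x)) (X.presheaf.stalk x),
        ← IsScalarTower.algebraMap_apply]
    exact cotInj_of_formallySmooth hAR
  · intro h
    exact formallySmooth_of_cotInj hres h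

end stalk


section glob

/-- a morphism to a finite type `k`-scheme from a scheme locally of finite presentation over `k` is
locally of finite presentation -/
theorem locallyOfFinitePresentation_of_comp_field (k : Type u) [Field k] {X Y : Scheme.{u}}
    (f : X ⟶ Y) (qY : Y ⟶ Spec (CommRingCat.of k)) [LocallyOfFiniteType qY]
    [LocallyOfFinitePresentation (f ≫ qY)] : LocallyOfFinitePresentation f := by
  rw [HasRingHomProperty.iff_appLE (P := @LocallyOfFinitePresentation)]
  intro U V e1
  have hS := isAffineOpen_top (Spec (CommRingCat.of k))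
  have eY : U.1 ≤ qY ⁻¹ᵁ ⊤ := le_top
  have eX : V.1 ≤ (f ≫ qY) ⁻¹ᵁ ⊤ := le_top
  letI : Algebra Γ(Spec (CommRingCat.of k), ⊤) Γ(Y, U.1) := (qY.appLE ⊤ U.1 eY).hom.toAlgebra
  letI : Algebra Γ(Spec (CommRingCat.of k), ⊤) Γ(X, V.1) :=
    ((f ≫ qY).appLE ⊤ V.1 eX).hom.toAlgebra
  letI : Algebra Γ(Y, U.1) Γ(X, V.1) := (f.appLE U.1 V.1 e1).hom.toAlgebra
  haveI : IsScalarTower Γ(Spec (CommRingCat.of k), ⊤) Γ(Y, U.1) Γ(X, V.1) := by
    apply IsScalarTower.of_algebraMap_eq'
    have := Scheme.Hom.appLE_comp_appLE f qY ⊤ U.1 V.1 eY e1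
    exact congrArg CommRingCat.Hom.hom this.symm
  haveI : Algebra.FiniteType Γ(Spec (CommRingCat.of k), ⊤) Γ(Y, U.1) :=
    qY.finiteType_appLE hS U.2 eY
  haveI : Algebra.FinitePresentation Γ(Spec (CommRingCat.of k), ⊤) Γ(X, V.1) :=
    (f ≫ qY).finitePresentation_appLE hS V.2 eX
  have : Algebra.FinitePresentation Γ(Y, U.1) Γ(X, V.1) :=
    Algebra.FinitePresentation.of_restrict_scalars_finitePresentation
      Γ(Spec (CommRingCat.of k), ⊤) Γ(Y, U.1) Γ(X, V.1)
  exact this

/-- **Hartshorne III.10.4 (global form, smoothness)**: `f` is smooth iff the cotangent maps at all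
closed points are injective. -/
theorem smooth_iff_forall_cotangentMapAt_injective (k : Type u) [Field k] [IsAlgClosed k]
    {X Y : Scheme.{u}} (f : X ⟶ Y) (qY : Y ⟶ Spec (CommRingCat.of k)) [LocallyOfFiniteType qY]
    [Smooth (f ≫ qY)] :
    Smooth f ↔ ∀ x : X, IsClosed ({x} : Set X) →
      Function.Injective (FixPt.cotangentMapAt f x (f.base x) rfl) := by
  haveI : LocallyOfFinitePresentation f := locallyOfFinitePresentation_of_comp_field k f qY
  constructor
  · intro hf x hx
    rw [← formallySmooth_stalkMap_iff_cotangentMapAt k f qY x hx, ← Scheme.Hom.mem_smoothLocus,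
      f.smoothLocus_eq_top]
    trivial
  · intro h
    rw [← Scheme.Hom.smoothLocus_eq_top_iff]
    ext z
    simp only [TopologicalSpace.Opens.coe_top, Set.mem_univ, iff_true, SetLike.mem_coe]
    letI : X.Over (Spec (CommRingCat.of k)) := ⟨f ≫ qY⟩
    haveI : LocallyOfFiniteType (X ↘ Spec (CommRingCat.of k)) :=
      (inferInstance : LocallyOfFiniteType (f ≫ qY))
    obtain ⟨c, -, hzc, hc⟩ := Groth.Agent.Lib.H30DimField.exists_closed_point k X z Set.univ
      isOpen_univ trivial
    have hcS : c ∈ f.smoothLocus := by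
      rw [Scheme.Hom.mem_smoothLocus, formallySmooth_stalkMap_iff_cotangentMapAt k f qY c hc]
      exact h c hc
    exact hzc.mem_open f.smoothLocus.2 hcS

end glob

end Groth.Agent.Lib.H87CotSmoothSch
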