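import Mathlib
import Groth.Agent.S2680
import Groth.Agent.Lib.CartierH44
import Groth.Agent.Lib.H56RegSmooth

/-!
# Smoothness over a field from locally free differentials (Stacks 00TT-type criteria) — helper6

* `kerCotangentToTensor_injective_of_formallySmooth`: `P → S` onto, `S` formally smooth over `k`
  ⇒ `I/I² → S ⊗ Ω[P/k]` injective.
* `finrank_cotangentSpace_le`: local `k`-algebra `P` with residue field formally smooth over `k`,
  `Ω[P/k]` finite free ⇒ `embdim P ≤ rank Ω[P/k]`.
* `finrank_kaehler_eq_trdeg`: f.g. formally smooth field extension: `dim Ω = trdeg` (via helper44's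
  Cartier equality).
* `isRegularLocalRing_of_projective_kaehler`: `B` f.t. over a field `K`, `Ω[B/K]` projective, `m` maximal
  with separable residue field, `p ≤ m` prime with `B_p` a field formally smooth over `K` ⇒ `B_m`
  regular.  (`embdim ≤ rank Ω = trdeg κ(p) = dim (B/p)_m ≤ dim B_m`.)
* `smooth_of_projective_kaehler`, `smooth_of_projective_of_geomReduced` (general field, via base
  change to the algebraic closure and faithfully flat descent of smoothness).
* `under_mem_minimalPrimes_of_flat`, `isReduced_localization_atPrime_of_isReduced`,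
  `height_le_height_comap_of_surjective`, `smooth_of_forall_isMaximal_isSmoothAt`.
-/

set_option autoImplicit false
set_option linter.style.haveILetI false
universe u

namespace Groth.Agent.Lib.SmoothOmega6

open TensorProduct KaehlerDifferential IsLocalRing

/-- If `S` is formally smooth over `k` and `P → S` is surjective, then `I/I² → S ⊗ Ω[P/k]` is
injective (indeed split). -/
theorem kerCotangentToTensor_injective_of_formallySmooth
    {k P S : Type*} [CommRing k] [CommRing P] [CommRing S] [Algebra k P] [Algebra P S] [Algebra k S]
    [IsScalarTower k P S] (hf : Function.Surjective (algebraMap P S)) [Algebra.FormallySmooth k S] :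
    Function.Injective (kerCotangentToTensor k P S) := by
  have hsurj : Function.Surjective (IsScalarTower.toAlgHom k P S).kerSquareLift := by
    intro s
    obtain ⟨x, rfl⟩ := hf s
    exact ⟨Ideal.Quotient.mk _ x, AlgHom.kerSquareLift_mk _ x⟩
  have hnil : IsNilpotent (RingHom.ker ((IsScalarTower.toAlgHom k P S).kerSquareLift :
      P ⧸ RingHom.ker (IsScalarTower.toAlgHom k P S).toRingHom ^ 2 →+* S)) := by
    refine ⟨2, ?_⟩
    have := AlgHom.ker_kerSquareLift (IsScalarTower.toAlgHom k P S)
    change RingHom.ker (IsScalarTower.toAlgHom k P S).kerSquareLift.toRingHom ^ 2 = ⊥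
    rw [this, Ideal.cotangentIdeal_square]
  let g : S →ₐ[k] P ⧸ RingHom.ker (IsScalarTower.toAlgHom k P S).toRingHom ^ 2 :=
    Algebra.FormallySmooth.liftOfSurjective (AlgHom.id k S)
      (IsScalarTower.toAlgHom k P S).kerSquareLift hsurj hnil
  have hg : (IsScalarTower.toAlgHom k P S).kerSquareLift.comp g = AlgHom.id k S :=
    Algebra.FormallySmooth.comp_liftOfSurjective _ _ hsurj hnil
  obtain ⟨l, hl⟩ := (retractionKerCotangentToTensorEquivSection (R := k) hf).symm ⟨g, hg⟩
  exact Function.LeftInverse.injective (g := l) (fun x => LinearMap.congr_fun hl x)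


theorem exists_injective_of_ideal_eq {P : Type*} [CommRing P] {I J : Ideal P} (h : J = I)
    {M : Type*} [AddCommGroup M] [Module P M] (f : J.Cotangent →ₗ[P] M)
    (hf : Function.Injective f) : ∃ g : I.Cotangent →ₗ[P] M, Function.Injective g := by
  subst h
  exact ⟨f, hf⟩

/-- For a local `k`-algebra `P` with residue field formally smooth over `k` and `Ω[P/k]` finite
free, the embedding dimension of `P` is at most the rank of `Ω[P/k]`. -/
theorem finrank_cotangentSpace_le
    (k : Type u) (P : Type u) [CommRing k] [CommRing P] [IsLocalRing P] [Algebra k P]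
    [Algebra.FormallySmooth k (ResidueField P)] [Module.Finite P Ω[P⁄k]] [Module.Free P Ω[P⁄k]] :
    Module.finrank (ResidueField P) (CotangentSpace P) ≤ Module.finrank P Ω[P⁄k] := by
  have hinj := kerCotangentToTensor_injective_of_formallySmooth (k := k) (P := P)
    (S := ResidueField P) residue_surjective
  have hker : RingHom.ker (algebraMap P (ResidueField P)) = maximalIdeal P := ker_residue (R := P)
  obtain ⟨g, hg⟩ := exists_injective_of_ideal_eq hker _ hinj
  let g' : CotangentSpace P →ₗ[ResidueField P] (ResidueField P) ⊗[P] Ω[P⁄k] :=
    LinearMap.extendScalarsOfSurjective residue_surjective g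
  have hg' : Function.Injective g' := hg
  have h1 := LinearMap.finrank_le_finrank_of_injective hg'
  have h2 : Module.finrank (ResidueField P) ((ResidueField P) ⊗[P] Ω[P⁄k]) =
      Module.finrank P Ω[P⁄k] := Module.finrank_baseChange
  rw [h2] at h1
  exact h1


/-- Cartier's equality in the formally smooth case: for a finitely generated, formally smooth
field extension, `dim Ω = trdeg`. -/
theorem finrank_kaehler_eq_trdeg (K L : Type u) [Field K] [Field L] [Algebra K L]
    [Algebra.EssFiniteType K L] [Algebra.FormallySmooth K L] :
    Module.finrank L Ω[L⁄K] = Cardinal.toNat (Algebra.trdeg K L) := by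
  obtain ⟨_, _, h⟩ := Groth.Agent.Lib.CartierH44.cartier K L
  unfold Groth.Agent.Lib.SixTermH44.chi at h
  have h0 : Module.finrank L (Algebra.H1Cotangent K L) = 0 := Module.finrank_zero_of_subsingleton
  rw [h0] at h
  simpa using h


theorem height_le_height_comap_of_surjective {R S : Type*} [CommRing R] [CommRing S] (f : R →+* S)
    (hf : Function.Surjective f) (q : Ideal S) [q.IsPrime] :
    q.height ≤ (q.comap f).height := by
  have hsm : StrictMono (PrimeSpectrum.comap f) := by
    intro a b hab
    refine lt_of_le_of_ne ?_ ?_
    · exact Ideal.comap_mono hab.le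
    · intro h
      exact hab.ne (PrimeSpectrum.comap_injective_of_surjective f hf h)
  have h1 := Order.height_le_height_apply_of_strictMono _ hsm (⟨q, inferInstance⟩ : PrimeSpectrum S)
  rw [← PrimeSpectrum.height_eq_orderHeight, ← PrimeSpectrum.height_eq_orderHeight] at h1
  exact h1

/-- finrank of Ω of a localization at a prime = rank of Ω at that prime. -/
theorem finrank_kaehler_localization (K B : Type u) [CommRing K] [CommRing B] [Algebra K B]
    (p : Ideal B) [p.IsPrime] :
    Module.finrank (Localization.AtPrime p) Ω[Localization.AtPrime p⁄K] =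
      Module.rankAtStalk Ω[B⁄K] ⟨p, inferInstance⟩ := by
  haveI : Algebra.FormallyEtale B (Localization.AtPrime p) :=
    Algebra.FormallyEtale.of_isLocalization p.primeCompl
  rw [Module.rankAtStalk_eq_finrank_tensorProduct]
  exact (KaehlerDifferential.tensorKaehlerEquivOfFormallyEtale K B (Localization.AtPrime p)).finrank_eq.symm


/-- trdeg of a field which is the local ring at a prime `p` equals that of `Frac (B/p)`. -/
theorem trdeg_localization_eq_of_isField (K B : Type u) [Field K] [CommRing B] [Algebra K B]
    (p : Ideal B) [p.IsPrime] (hfield : IsField (Localization.AtPrime p)) :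
    Algebra.trdeg K (Localization.AtPrime p) = Algebra.trdeg K (FractionRing (B ⧸ p)) := by
  have hmax : maximalIdeal (Localization.AtPrime p) = ⊥ := isField_iff_maximalIdeal_eq.mp hfield
  have hbij : Function.Bijective (IsScalarTower.toAlgHom K (Localization.AtPrime p) p.ResidueField) := by
    constructor
    · rw [← AlgHom.coe_toRingHom, RingHom.injective_iff_ker_eq_bot]
      have : RingHom.ker (IsScalarTower.toAlgHom K (Localization.AtPrime p) p.ResidueField).toRingHom =
          maximalIdeal (Localization.AtPrime p) := ker_residue
      exact this.trans hmax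
    · exact residue_surjective
  let e₁ : Localization.AtPrime p ≃ₐ[K] p.ResidueField := AlgEquiv.ofBijective _ hbij
  let e₂ : FractionRing (B ⧸ p) ≃ₐ[K] p.ResidueField :=
    (FractionRing.algEquiv (B ⧸ p) p.ResidueField).restrictScalars K
  rw [e₁.trdeg_eq, e₂.trdeg_eq]


set_option maxHeartbeats 1000000 in
/-- **Key regularity criterion.** `B` of finite type over a field `K` with `Ω[B/K]` projective,
`m` a maximal ideal with residue field formally smooth (separable) over `K`, and `p ≤ m` a minimal
prime such that `B_p` is a field formally smooth over `K`.  Then `B_m` is a regular local ring. -/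
theorem isRegularLocalRing_of_projective_kaehler
    (K B : Type u) [Field K] [CommRing B] [Algebra K B] [Algebra.FiniteType K B]
    [Module.Projective B Ω[B⁄K]]
    (m : Ideal B) [m.IsMaximal] [Algebra.FormallySmooth K m.ResidueField]
    (p : Ideal B) [p.IsPrime] (hpm : p ≤ m)
    (hfield : IsField (Localization.AtPrime p))
    [Algebra.FormallySmooth K (Localization.AtPrime p)] :
    IsRegularLocalRing (Localization.AtPrime m) := by
  have hN : IsNoetherianRing B := Algebra.FiniteType.isNoetherianRing K B
  have hNS : IsNoetherianRing (Localization.AtPrime m) :=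
    IsLocalization.isNoetherianRing m.primeCompl _ hN
  have hEt : Algebra.FormallyEtale B (Localization.AtPrime m) :=
    Algebra.FormallyEtale.of_isLocalization m.primeCompl
  -- Ω[S/K] is finite free
  have hfinS : Module.Finite (Localization.AtPrime m) Ω[Localization.AtPrime m⁄K] := inferInstance
  have hprojS : Module.Projective (Localization.AtPrime m) Ω[Localization.AtPrime m⁄K] :=
    Module.Projective.of_equiv
      (KaehlerDifferential.tensorKaehlerEquivOfFormallyEtale K B (Localization.AtPrime m))
  have hfreeS : Module.Free (Localization.AtPrime m) Ω[Localization.AtPrime m⁄K] :=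
    Module.free_of_flat_of_isLocalRing
  -- embedding dimension bound
  have h1 : Module.finrank (ResidueField (Localization.AtPrime m))
      (CotangentSpace (Localization.AtPrime m)) ≤
      Module.finrank (Localization.AtPrime m) Ω[Localization.AtPrime m⁄K] :=
    finrank_cotangentSpace_le K (Localization.AtPrime m)
  have h2 := finrank_kaehler_localization K B m
  have h3 := finrank_kaehler_localization K B p
  have h4 : Module.rankAtStalk Ω[B⁄K] ⟨p, inferInstance⟩ =
      Module.rankAtStalk Ω[B⁄K] ⟨m, inferInstance⟩ :=
    Module.rankAtStalk_eq_of_le_of_finite_of_flat' Ω[B⁄K] hpm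
  -- trdeg
  letI : Field (Localization.AtPrime p) := hfield.toField
  have h5 : Module.finrank (Localization.AtPrime p) Ω[Localization.AtPrime p⁄K] =
      Cardinal.toNat (Algebra.trdeg K (Localization.AtPrime p)) :=
    finrank_kaehler_eq_trdeg K (Localization.AtPrime p)
  have h6 := trdeg_localization_eq_of_isField K B p hfield
  obtain ⟨n, hn1, -, hn3⟩ := Groth.Agent.S2680.result K (B ⧸ p)
  -- the maximal ideal m/p
  have hker : RingHom.ker (Ideal.Quotient.mk p) ≤ m := by rw [Ideal.mk_ker]; exact hpm
  have hm'max : (m.map (Ideal.Quotient.mk p)).IsMaximal :=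
    Ideal.IsMaximal.map_of_surjective_of_ker_le Ideal.Quotient.mk_surjective hker
  have hcomap : (m.map (Ideal.Quotient.mk p)).comap (Ideal.Quotient.mk p) = m := by
    rw [Ideal.comap_map_of_surjective _ Ideal.Quotient.mk_surjective, ← RingHom.ker_eq_comap_bot,
      sup_eq_left]
    exact hker
  have h7 := hn3 (m.map (Ideal.Quotient.mk p))
  rw [IsLocalization.AtPrime.ringKrullDim_eq_height (m.map (Ideal.Quotient.mk p))
    (Localization.AtPrime (m.map (Ideal.Quotient.mk p)))] at h7
  have h8 := height_le_height_comap_of_surjective (Ideal.Quotient.mk p)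
    Ideal.Quotient.mk_surjective (m.map (Ideal.Quotient.mk p))
  rw [hcomap] at h8
  have h9 : ringKrullDim (Localization.AtPrime m) = m.height :=
    IsLocalization.AtPrime.ringKrullDim_eq_height m (Localization.AtPrime m)
  -- assemble
  apply IsRegularLocalRing.of_spanFinrank_maximalIdeal_le
  rw [spanFinrank_maximalIdeal_eq_finrank_cotangentSpace, h9]
  have hle : Module.finrank (ResidueField (Localization.AtPrime m))
      (CotangentSpace (Localization.AtPrime m)) ≤ n := by
    calc _ ≤ Module.finrank (Localization.AtPrime m) Ω[Localization.AtPrime m⁄K] := h1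
      _ = Module.rankAtStalk Ω[B⁄K] ⟨m, inferInstance⟩ := h2
      _ = Module.rankAtStalk Ω[B⁄K] ⟨p, inferInstance⟩ := h4.symm
      _ = Module.finrank (Localization.AtPrime p) Ω[Localization.AtPrime p⁄K] := h3.symm
      _ = Cardinal.toNat (Algebra.trdeg K (Localization.AtPrime p)) := h5
      _ = n := by rw [h6, hn1]; simp
  have hn : ((n : ℕ∞) : WithBot ℕ∞) ≤ m.height := by
    have : ((m.map (Ideal.Quotient.mk p)).height : WithBot ℕ∞) = ((n : ℕ∞) : WithBot ℕ∞) := by
      rw [h7]; rfl
    rw [← this]
    exact_mod_cast h8
  calc ((Module.finrank (ResidueField (Localization.AtPrime m))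
      (CotangentSpace (Localization.AtPrime m)) : ℕ) : WithBot ℕ∞)
      ≤ ((n : ℕ) : WithBot ℕ∞) := by exact_mod_cast hle
    _ ≤ m.height := hn


/-- If the smooth locus (open) contains all maximal ideals then the algebra is smooth. -/
theorem smooth_of_forall_isMaximal_isSmoothAt (K B : Type u) [CommRing K] [CommRing B] [Algebra K B]
    [Algebra.FinitePresentation K B]
    (h : ∀ (m : Ideal B) [m.IsMaximal], Algebra.IsSmoothAt K m) : Algebra.Smooth K B := by
  have hopen : IsOpen (Algebra.smoothLocus K B) := Algebra.isOpen_smoothLocus
  have huniv : Algebra.smoothLocus K B = Set.univ := by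
    by_contra hne
    have hcl : IsClosed (Algebra.smoothLocus K B)ᶜ := hopen.isClosed_compl
    obtain ⟨I, hI⟩ := (PrimeSpectrum.isClosed_iff_zeroLocus_ideal _).mp hcl
    have hIne : I ≠ ⊤ := by
      intro htop
      rw [htop] at hI
      simp only [Submodule.top_coe, PrimeSpectrum.zeroLocus_univ, Set.compl_empty_iff] at hI
      exact hne hI
    obtain ⟨m, hm, hIm⟩ := Ideal.exists_le_maximal I hIne
    have hmem : (⟨m, hm.isPrime⟩ : PrimeSpectrum B) ∈ (Algebra.smoothLocus K B)ᶜ := by
      rw [hI, PrimeSpectrum.mem_zeroLocus]
      exact hIm
    exact hmem (h m)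
  exact ⟨(Algebra.smoothLocus_eq_univ_iff).mp huniv, inferInstance⟩

/-- **Smoothness from locally free differentials.** `B` of finite type over a field `K` with
`Ω[B/K]` projective; every maximal ideal has residue field formally smooth over `K` and contains a
prime `p` such that `B_p` is a field formally smooth over `K`.  Then `B` is smooth over `K`. -/
theorem smooth_of_projective_kaehler
    (K B : Type u) [Field K] [CommRing B] [Algebra K B] [Algebra.FiniteType K B]
    [Module.Projective B Ω[B⁄K]]
    (hres : ∀ (m : Ideal B) [m.IsMaximal], Algebra.FormallySmooth K m.ResidueField)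
    (hgen : ∀ (m : Ideal B) [m.IsMaximal], ∃ (p : Ideal B) (_ : p.IsPrime), p ≤ m ∧
      IsField (Localization.AtPrime p) ∧ Algebra.FormallySmooth K (Localization.AtPrime p)) :
    Algebra.Smooth K B := by
  have hfp : Algebra.FinitePresentation K B :=
    Algebra.FinitePresentation.of_finiteType.mp inferInstance
  apply smooth_of_forall_isMaximal_isSmoothAt
  intro m hm
  have h1 := hres m
  obtain ⟨p, hp, hpm, hfield, hsm⟩ := hgen m
  have hreg : IsRegularLocalRing (Localization.AtPrime m) :=
    isRegularLocalRing_of_projective_kaehler K B m p hpm hfield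
  exact Groth.Agent.Lib.H56RegSmooth.isSmoothAt_of_isRegularLocalRing K B m


/-- Going-down: the contraction of a minimal prime along a flat map is a minimal prime. -/
theorem under_mem_minimalPrimes_of_flat {A B : Type*} [CommRing A] [CommRing B] [Algebra A B]
    [Module.Flat A B] (P : Ideal B) (hP : P ∈ minimalPrimes B) :
    P.under A ∈ minimalPrimes A := by
  have hPp : P.IsPrime := hP.1.1
  refine ⟨⟨inferInstance, bot_le⟩, ?_⟩
  rintro q ⟨hq, -⟩ hqle
  by_contra hnle
  have hlt : q < P.under A := lt_of_le_of_ne hqle (fun h => hnle (h ▸ le_refl _))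
  obtain ⟨P', hP'le, hP'prime, hP'over⟩ :=
    Algebra.HasGoingDown.exists_ideal_le_liesOver_of_lt (p := q) P hlt
  have hPle : P ≤ P' := hP.2 ⟨hP'prime, bot_le⟩ hP'le
  have heq : P' = P := le_antisymm hP'le hPle
  have h1 : q = P'.under A := hP'over.over
  rw [heq] at h1
  exact hnle (h1 ▸ le_refl _)

/-- If a localization `C` of `B` at a submonoid disjoint from the prime `P` is reduced, so is
`B_P`. -/
theorem isReduced_localization_atPrime_of_isReduced {B C : Type*} [CommRing B] [CommRing C]
    [Algebra B C] (M : Submonoid B) [IsLocalization M C] [IsReduced C] (P : Ideal B) [P.IsPrime]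
    (hdisj : ∀ t ∈ M, t ∉ P) : IsReduced (Localization.AtPrime P) := by
  constructor
  intro y hy
  obtain ⟨x, s, rfl⟩ := IsLocalization.exists_mk'_eq P.primeCompl y
  obtain ⟨n, hn⟩ := hy
  rw [← IsLocalization.mk'_pow, IsLocalization.mk'_eq_zero_iff] at hn
  obtain ⟨s₁, hs₁⟩ := hn
  have hnil : IsNilpotent ((s₁ : B) * x) := by
    refine ⟨n + 1, ?_⟩
    have : ((s₁ : B) * x) ^ (n + 1) = (s₁ : B) ^ n * x * ((s₁ : B) * x ^ n) := by ring
    rw [this, hs₁, mul_zero]
  have h0 : algebraMap B C ((s₁ : B) * x) = 0 := (hnil.map (algebraMap B C)).eq_zero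
  rw [IsLocalization.map_eq_zero_iff M] at h0
  obtain ⟨t, ht⟩ := h0
  rw [IsLocalization.mk'_eq_zero_iff]
  refine ⟨⟨(t : B) * (s₁ : B), ?_⟩, ?_⟩
  · exact ‹P.IsPrime›.mul_notMem (hdisj t t.2) s₁.2
  · simp only
    rw [mul_assoc]; exact ht


attribute [local instance] Algebra.TensorProduct.rightAlgebra in
set_option maxHeartbeats 1000000 in
/-- Stacks 00TT-type criterion: a finite type algebra over a field with projective differentials
which is geometrically reduced at its minimal primes is smooth. -/
theorem smooth_of_projective_of_geomReduced (k A : Type u) [Field k] [CommRing A] [Algebra k A]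
    [Algebra.FiniteType k A] [Module.Projective A Ω[A⁄k]]
    (h : ∀ (p : Ideal A) [p.IsPrime], p ∈ minimalPrimes A →
      Algebra.IsGeometricallyReduced k (Localization.AtPrime p)) :
    Algebra.Smooth k A := by
  have hsm : Algebra.Smooth (AlgebraicClosure k) (AlgebraicClosure k ⊗[k] A) := by
    have hproj : Module.Projective (AlgebraicClosure k ⊗[k] A)
        Ω[AlgebraicClosure k ⊗[k] A⁄AlgebraicClosure k] :=
      Module.Projective.of_equiv
        (KaehlerDifferential.tensorKaehlerEquiv k (AlgebraicClosure k) A (AlgebraicClosure k ⊗[k] A))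
    refine smooth_of_projective_kaehler (AlgebraicClosure k) (AlgebraicClosure k ⊗[k] A) ?_ ?_
    · intro m hm
      have : Algebra.EssFiniteType (AlgebraicClosure k) m.ResidueField :=
        Algebra.EssFiniteType.comp (AlgebraicClosure k) (AlgebraicClosure k ⊗[k] A) m.ResidueField
      infer_instance
    · intro m hm
      obtain ⟨P, hP, hPm⟩ := Ideal.exists_minimalPrimes_le (bot_le : ⊥ ≤ m)
      have hPp : P.IsPrime := hP.1.1
      have hflat : Module.Flat A (AlgebraicClosure k ⊗[k] A) :=
        Module.Flat.isBaseChange (R := k) (S := A) (M := AlgebraicClosure k)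
          (N := AlgebraicClosure k ⊗[k] A)
          (Algebra.IsPushout.out (R := k) (S := A) (R' := AlgebraicClosure k)
            (S' := AlgebraicClosure k ⊗[k] A))
      have hp := under_mem_minimalPrimes_of_flat (A := A) P hP
      have hpp : (P.under A).IsPrime := hp.1.1
      have hgr := h (P.under A) hp
      have hredT : IsReduced (AlgebraicClosure k ⊗[k] Localization.AtPrime (P.under A)) :=
        inferInstance
      have hredC : IsReduced (Localization ((P.under A).primeCompl.map
          (Algebra.TensorProduct.includeRight (R := k) (A := AlgebraicClosure k) (B := A)))) :=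
        isReduced_of_injective
          (IsLocalization.tensorProductEquivOfMapIncludeRight k (AlgebraicClosure k)
            (P.under A).primeCompl (Localization.AtPrime (P.under A))
            (Localization ((P.under A).primeCompl.map
              (Algebra.TensorProduct.includeRight (R := k) (A := AlgebraicClosure k)
                (B := A))))).symm.toRingEquiv.toRingHom
          (IsLocalization.tensorProductEquivOfMapIncludeRight k (AlgebraicClosure k)
            (P.under A).primeCompl (Localization.AtPrime (P.under A))
            (Localization ((P.under A).primeCompl.map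
              (Algebra.TensorProduct.includeRight (R := k) (A := AlgebraicClosure k)
                (B := A))))).symm.injective
      have hred : IsReduced (Localization.AtPrime P) :=
        isReduced_localization_atPrime_of_isReduced
          (C := Localization ((P.under A).primeCompl.map
            (Algebra.TensorProduct.includeRight (R := k) (A := AlgebraicClosure k) (B := A))))
          ((P.under A).primeCompl.map
            (Algebra.TensorProduct.includeRight (R := k) (A := AlgebraicClosure k) (B := A))) P (by
          rintro t ⟨s, hs, rfl⟩ htP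
          exact hs htP)
      have hdim : Ring.KrullDimLE 0 (Localization.AtPrime P) :=
        Ring.KrullDimLE.of_isLocalization P hP (Localization.AtPrime P)
      have hf : IsField (Localization.AtPrime P) := Ring.KrullDimLE.isField_of_isReduced
      refine ⟨P, hPp, hPm, hf, ?_⟩
      letI : Field (Localization.AtPrime P) := hf.toField
      have : Algebra.EssFiniteType (AlgebraicClosure k) (Localization.AtPrime P) :=
        Algebra.EssFiniteType.comp (AlgebraicClosure k) (AlgebraicClosure k ⊗[k] A)
          (Localization.AtPrime P)
      exact Algebra.FormallySmooth.of_perfectField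
  exact Algebra.Smooth.of_smooth_tensorProduct_of_faithfullyFlat (AlgebraicClosure k)

end Groth.Agent.Lib.SmoothOmega6
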