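import Mathlib
import Groth.Agent.Lib.SmoothOmega6
import Groth.Agent.Lib.H87SmoothRank
set_option autoImplicit false

open TensorProduct KaehlerDifferential IsLocalRing

namespace Groth.Agent.Lib.H87CurveDs

universe u

section R1

theorem exists_bijective_of_ideal_eq {k P κ : Type*} [CommRing k] [CommRing P] [CommRing κ]
    [Algebra k P] [Algebra P κ] {I : Ideal P} (h : RingHom.ker (algebraMap P κ) = I)
    (hb : Function.Bijective (kerCotangentToTensor k P κ)) :
    ∃ g : I.Cotangent →ₗ[P] κ ⊗[P] Ω[P⁄k], Function.Bijective g ∧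
      ∀ x : I, g (I.toCotangent x) = (1 : κ) ⊗ₜ[P] D k P x.1 := by
  subst h
  exact ⟨kerCotangentToTensor k P κ, hb, fun x => kerCotangentToTensor_toCotangent k P κ x⟩

/-- In a Noetherian local `k`-algebra `O` with separable residue field and `Ω[O/k]` free of rank
one, `d s` is a basis of `Ω[O/k]` for every irreducible `s`. -/
theorem bijective_smul_D_of_irreducible (k O : Type u) [Field k] [CommRing O] [IsLocalRing O]
    [IsNoetherianRing O] [Algebra k O] [Algebra.IsSeparable k (ResidueField O)]
    [Module.Free O Ω[O⁄k]] [Module.Finite O Ω[O⁄k]] (hrank : Module.finrank O Ω[O⁄k] = 1)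
    (s : O) (hs : Irreducible s) :
    Function.Bijective (fun a : O => a • D k O s) := by
  haveI : Algebra.FormallyEtale k (ResidueField O) := Algebra.FormallyEtale.of_isSeparable k _
  have hinj := Groth.Agent.Lib.SmoothOmega6.kerCotangentToTensor_injective_of_formallySmooth
    (k := k) (P := O) (S := ResidueField O) residue_surjective
  have hex := KaehlerDifferential.exact_kerCotangentToTensor_mapBaseChange k O
    (ResidueField O) residue_surjective
  have hsurj : Function.Surjective (kerCotangentToTensor k O (ResidueField O)) := by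
    intro x
    exact (hex x).mp (Subsingleton.elim _ _)
  have hker : RingHom.ker (algebraMap O (ResidueField O)) = maximalIdeal O := ker_residue (R := O)
  obtain ⟨g, hg, hgD⟩ := exists_bijective_of_ideal_eq (k := k) hker ⟨hinj, hsurj⟩
  let g' : CotangentSpace O ≃ₗ[ResidueField O] (ResidueField O) ⊗[O] Ω[O⁄k] :=
    LinearEquiv.ofBijective (LinearMap.extendScalarsOfSurjective residue_surjective g) hg
  have hg'D : ∀ x : maximalIdeal O, g' ((maximalIdeal O).toCotangent x) =
      (1 : ResidueField O) ⊗ₜ[O] D k O x.1 := hgD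
  have h2 : Module.finrank (ResidueField O) ((ResidueField O) ⊗[O] Ω[O⁄k]) = 1 := by
    rw [Module.finrank_baseChange, hrank]
  have h1 : Module.finrank (ResidueField O) (CotangentSpace O) = 1 := by
    rw [g'.finrank_eq, h2]
  -- the maximal ideal is principal, generated by `s`
  have hprin : (maximalIdeal O).IsPrincipal :=
    finrank_cotangentSpace_le_one_iff.mp h1.le
  obtain ⟨t, ht⟩ := hprin
  have hsm : s ∈ maximalIdeal O := (mem_maximalIdeal s).mpr hs.not_isUnit
  have htm : t ∈ maximalIdeal O := by
    rw [ht]; exact Submodule.mem_span_singleton_self t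
  obtain ⟨c, hc⟩ : ∃ c, s = c * t := by
    have : s ∈ Submodule.span O {t} := ht ▸ hsm
    obtain ⟨c, hc⟩ := Submodule.mem_span_singleton.mp this
    exact ⟨c, hc.symm⟩
  have hcu : IsUnit c := by
    rcases hs.isUnit_or_isUnit hc with h | h
    · exact h
    · exact absurd h ((mem_maximalIdeal t).mp htm)
  -- the class of `s` in `m/m²` is non-zero
  have hsne : (maximalIdeal O).toCotangent ⟨s, hsm⟩ ≠ 0 := by
    intro h0
    have hall : ∀ y : CotangentSpace O, y = 0 := by
      intro y
      obtain ⟨⟨z, hz⟩, rfl⟩ := (maximalIdeal O).toCotangent_surjective y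
      have hz' : z ∈ Submodule.span O {t} := ht ▸ hz
      obtain ⟨a, ha⟩ := Submodule.mem_span_singleton.mp hz'
      obtain ⟨c', hc'⟩ := hcu.exists_left_inv
      have hzs : (⟨z, hz⟩ : maximalIdeal O) = (a * c') • ⟨s, hsm⟩ := by
        apply Subtype.ext
        change z = (a * c') * s
        rw [hc, ← ha, smul_eq_mul, mul_assoc, ← mul_assoc c', hc', one_mul]
      rw [hzs, map_smul, h0, smul_zero]
    haveI : Subsingleton (CotangentSpace O) := ⟨fun a b => (hall a).trans (hall b).symm⟩
    have := Module.finrank_zero_of_subsingleton (R := ResidueField O) (M := CotangentSpace O)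
    omega
  have hvne : (1 : ResidueField O) ⊗ₜ[O] D k O s ≠ 0 := by
    rw [← hg'D ⟨s, hsm⟩]
    exact fun h => hsne (g'.map_eq_zero_iff.mp h)
  -- Nakayama
  let b : Module.Basis Unit (ResidueField O) ((ResidueField O) ⊗[O] Ω[O⁄k]) :=
    FiniteDimensional.basisSingleton Unit h2 _ hvne
  have hspan : Submodule.span O (Set.range fun _ : Unit => D k O s) = ⊤ :=
    span_eq_top_of_tmul_eq_basis (R := O) (fun _ : Unit => D k O s) b (fun i => by
      simp [b, FiniteDimensional.basisSingleton_apply])
  have hsurjL : Function.Surjective (fun a : O => a • D k O s) := by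
    intro ω
    have hω : ω ∈ Submodule.span O (Set.range fun _ : Unit => D k O s) := by
      rw [hspan]; trivial
    rw [Set.range_const, Submodule.mem_span_singleton] at hω
    exact hω
  refine ⟨?_, hsurjL⟩
  let bΩ := Module.finBasisOfFinrankEq O Ω[O⁄k] hrank
  let e : O ≃ₗ[O] Ω[O⁄k] := (LinearEquiv.funUnique (Fin 1) O O).symm ≪≫ₗ bΩ.equivFun.symm
  exact OrzechProperty.injective_of_surjective_of_injective e.toLinearMap
    (LinearMap.toSpanSingleton O Ω[O⁄k] (D k O s)) e.injective hsurjL

end R1

section R2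

/-- `Ω[O/k]` is free of rank `n` when `O` is a localization at a prime of a standard smooth algebra
`B` of relative dimension `n` over `A₀` and `k → A₀` is onto. -/
theorem free_kaehler_localization (k A₀ B O : Type u) [CommRing k] [CommRing A₀] [CommRing B]
    [CommRing O] [Algebra k A₀] [Algebra A₀ B] [Algebra B O] [Algebra k O] [Algebra A₀ O]
    [IsScalarTower A₀ B O] [IsScalarTower k A₀ O]
    (hk : Function.Surjective (algebraMap k A₀)) (n : ℕ)
    [Algebra.IsStandardSmoothOfRelativeDimension n A₀ B]
    (q : Ideal B) [q.IsPrime] [IsLocalization.AtPrime O q] :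
    Module.Free O Ω[O⁄k] ∧ Module.Finite O Ω[O⁄k] ∧ Module.finrank O Ω[O⁄k] = n := by
  haveI : Nontrivial B := ⟨⟨0, 1, fun h => (‹q.IsPrime›.ne_top) ((Ideal.eq_top_iff_one q).mpr
    (h ▸ q.zero_mem))⟩⟩
  haveI : Nontrivial O := by
    haveI := IsLocalization.AtPrime.isLocalRing O q
    infer_instance
  obtain ⟨bB⟩ := Groth.Agent.Lib.H87SmoothRank.nonempty_basis_kaehler (R := A₀) (S := B) n
  haveI : Algebra.FormallyEtale B O := Algebra.FormallyEtale.of_isLocalization q.primeCompl
  let e₁ : O ⊗[B] Ω[B⁄A₀] ≃ₗ[O] Ω[O⁄A₀] :=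
    KaehlerDifferential.tensorKaehlerEquivOfFormallyEtale A₀ B O
  haveI : Subsingleton Ω[A₀⁄k] := KaehlerDifferential.subsingleton_of_surjective k A₀ hk
  have hinj : Function.Injective (KaehlerDifferential.map k A₀ O O) := by
    rw [injective_iff_map_eq_zero]
    intro x hx
    obtain ⟨y, rfl⟩ := (KaehlerDifferential.exact_mapBaseChange_map k A₀ O x).mp hx
    rw [Subsingleton.elim y 0, map_zero]
  let e₂ : Ω[O⁄k] ≃ₗ[O] Ω[O⁄A₀] :=
    LinearEquiv.ofBijective (KaehlerDifferential.map k A₀ O O)
      ⟨hinj, KaehlerDifferential.map_surjective k A₀ O⟩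
  let b : Module.Basis (Fin n) O Ω[O⁄k] := ((bB.baseChange O).map e₁).map e₂.symm
  refine ⟨Module.Free.of_basis b, Module.Finite.of_basis b, ?_⟩
  rw [Module.finrank_eq_card_basis b, Fintype.card_fin]

end R2

end Groth.Agent.Lib.H87CurveDs
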