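/-
helper87: for an N-2 DVR `B`, the generic formal fibre is geometrically reduced (ingredients).

* `isDomain_of_maximalIdeal_eq_span`: Noetherian local ring with principal maximal ideal generated by a
  nonzerodivisor is a domain.
* `isDomain_tensor`: `C ⊗_B B'` is a domain (`B'` a DVR finite over the DVR `B`, `C` like the completion).
* `isReduced_tensor_of_finite`: `C ⊗_B L'` reduced.
-/
import Mathlib
import Groth.Agent.Lib.H87DVRJap

set_option autoImplicit false
set_option linter.style.haveILetI false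
set_option linter.unusedSectionVars false
universe u

namespace Groth.Agent.Lib.H87DVRExt

open TensorProduct IsLocalRing

/-- A Noetherian local ring whose maximal ideal is generated by a nonzerodivisor is a domain. -/
theorem isDomain_of_maximalIdeal_eq_span (T : Type u) [CommRing T] [IsNoetherianRing T]
    [IsLocalRing T] (ϖ : T) (hmax : maximalIdeal T = Ideal.span {ϖ})
    (hreg : ϖ ∈ nonZeroDivisors T) : IsDomain T := by
  have hkey : ∀ x : T, x ≠ 0 → ∃ (n : ℕ) (a : T), IsUnit a ∧ x = a * ϖ ^ n := by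
    intro x hx
    have hinf : ⨅ i, maximalIdeal T ^ i = ⊥ :=
      Ideal.iInf_pow_eq_bot_of_isLocalRing _ (Ideal.IsPrime.ne_top inferInstance)
    have hex : ∃ n, x ∉ maximalIdeal T ^ n := by
      by_contra h
      push Not at h
      apply hx
      have : x ∈ ⨅ i, maximalIdeal T ^ i := (Ideal.mem_iInf).mpr h
      rw [hinf] at this
      exact this
    classical
    let n := Nat.find hex
    have hn : x ∉ maximalIdeal T ^ n := Nat.find_spec hex
    have hn0 : n ≠ 0 := by
      intro h0
      rw [h0, pow_zero, Ideal.one_eq_top] at hn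
      exact hn trivial
    obtain ⟨k, hk⟩ := Nat.exists_eq_succ_of_ne_zero hn0
    have hk' : x ∈ maximalIdeal T ^ k := by
      by_contra h
      have := Nat.find_min' hex h
      omega
    rw [hmax, Ideal.span_singleton_pow, Ideal.mem_span_singleton'] at hk'
    obtain ⟨a, ha⟩ := hk'
    refine ⟨k, a, ?_, ha.symm⟩
    by_contra hu
    have ham : a ∈ maximalIdeal T := (IsLocalRing.mem_maximalIdeal _).mpr hu
    apply hn
    rw [hk, pow_succ, ← ha]
    rw [hmax, Ideal.span_singleton_pow] at *
    rw [Ideal.mem_span_singleton'] at ham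
    obtain ⟨b, hb⟩ := ham
    rw [← hb]
    rw [show b * ϖ * ϖ ^ k = b * (ϖ ^ k * ϖ) by ring]
    exact Ideal.mul_mem_left _ _ (Ideal.mul_mem_mul (Ideal.mem_span_singleton_self _)
      (Ideal.mem_span_singleton_self _))
  haveI : NoZeroDivisors T := by
    refine ⟨fun {x y} hxy => ?_⟩
    by_contra h
    push Not at h
    obtain ⟨n, a, ha, rfl⟩ := hkey x h.1
    obtain ⟨m, b, hb, rfl⟩ := hkey y h.2
    have h1 : (a * b) * ϖ ^ (n + m) = 0 := by rw [← hxy, pow_add]; ring
    have h2 : ϖ ^ (n + m) ∈ nonZeroDivisors T := pow_mem hreg _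
    have h3 : a * b = 0 := (mem_nonZeroDivisors_iff_right.mp h2) _ h1
    exact (ha.mul hb).ne_zero h3
  exact NoZeroDivisors.to_isDomain T

section tensor

variable (B : Type u) [CommRing B] [IsDomain B] [IsDiscreteValuationRing B]
  (B' : Type u) [CommRing B'] [IsDomain B'] [IsDiscreteValuationRing B'] [Algebra B B']
  [Module.Finite B B']
  (C : Type u) [CommRing C] [Algebra B C] [Module.FaithfullyFlat B C] [IsNoetherianRing C]

/-- `C ⊗_B B'` is a domain, for `B'` a DVR finite over the DVR `B` and `C` "like the completion". -/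
theorem isDomain_tensor (hinj : Function.Injective (algebraMap B B')) (π : B) (hπ : Irreducible π)
    (hjac : algebraMap B C π ∈ Ideal.jacobson (⊥ : Ideal C))
    (hres : ∀ c : C, ∃ b : B, c - algebraMap B C b ∈ Ideal.span {algebraMap B C π}) :
    IsDomain (C ⊗[B] B') := by
  haveI : Module.Finite C (C ⊗[B] B') := inferInstance
  haveI : IsNoetherianRing (C ⊗[B] B') := IsNoetherianRing.of_finite C _
  haveI : Nontrivial (C ⊗[B] B') := inferInstance
  haveI : Algebra.IsIntegral B B' := inferInstance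
  haveI : Algebra.IsIntegral C (C ⊗[B] B') := inferInstance
  obtain ⟨π', hπ'⟩ := IsDiscreteValuationRing.exists_irreducible B'
  -- `π` is a nonunit of `B'`
  have hπm : algebraMap B B' π ∈ maximalIdeal B' := by
    haveI := Ideal.isMaximal_comap_of_isIntegral_of_isMaximal (R := B) (maximalIdeal B')
    have h1 : (maximalIdeal B').comap (algebraMap B B') = maximalIdeal B :=
      IsLocalRing.eq_maximalIdeal inferInstance
    have h2 : π ∈ maximalIdeal B := (IsLocalRing.mem_maximalIdeal _).mpr hπ.not_isUnit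
    rw [← h1] at h2
    exact h2
  have hπ0 : algebraMap B B' π ≠ 0 := (map_ne_zero_iff _ hinj).mpr hπ.ne_zero
  obtain ⟨e, u, hu⟩ := IsDiscreteValuationRing.associated_pow_irreducible hπ0 hπ'
  have he : e ≠ 0 := by
    intro h0
    rw [h0, pow_zero] at hu
    exact (IsLocalRing.mem_maximalIdeal _).mp hπm (IsUnit.of_mul_eq_one _ hu)
  -- notation
  set ϖ' : C ⊗[B] B' := (1 : C) ⊗ₜ[B] π' with hϖ'
  set πT : C ⊗[B] B' := algebraMap B (C ⊗[B] B') π with hπT
  have hπT1 : πT = (1 : C) ⊗ₜ[B] (algebraMap B B' π) := by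
    rw [hπT, Algebra.TensorProduct.algebraMap_apply, Algebra.algebraMap_eq_smul_one,
      Algebra.algebraMap_eq_smul_one (A := B'), TensorProduct.smul_tmul]
  have hπT2 : πT = algebraMap C (C ⊗[B] B') (algebraMap B C π) := by
    rw [hπT, ← IsScalarTower.algebraMap_apply]
  -- (L3)
  have hL3 : πT ∈ Ideal.span {ϖ'} := by
    have h1 : πT * ((1 : C) ⊗ₜ[B] (u : B')) = ϖ' ^ e := by
      rw [hπT1, Algebra.TensorProduct.tmul_mul_tmul, one_mul, hu, hϖ',
        Algebra.TensorProduct.tmul_pow, one_pow]
    have h2 : πT = ϖ' ^ e * ((1 : C) ⊗ₜ[B] ((u⁻¹ : B'ˣ) : B')) := by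
      rw [← h1, mul_assoc, Algebra.TensorProduct.tmul_mul_tmul, one_mul, Units.mul_inv,
        ← Algebra.TensorProduct.one_def, mul_one]
    rw [h2, Ideal.mem_span_singleton]
    exact Dvd.dvd.mul_right (dvd_pow_self _ he) _
  -- (L2)
  have hL2 : πT ∈ Ideal.jacobson (⊥ : Ideal (C ⊗[B] B')) := by
    rw [Ideal.jacobson, Ideal.mem_sInf]
    rintro J ⟨-, hJ⟩
    haveI := hJ
    haveI := Ideal.isMaximal_comap_of_isIntegral_of_isMaximal (R := C) J
    have h1 : algebraMap B C π ∈ J.comap (algebraMap C (C ⊗[B] B')) := by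
      have : Ideal.jacobson (⊥ : Ideal C) ≤ J.comap (algebraMap C (C ⊗[B] B')) :=
        sInf_le ⟨bot_le, inferInstance⟩
      exact this hjac
    rw [hπT2]
    exact h1
  -- (L1)
  have hL1 : ∀ t : C ⊗[B] B', ∃ (b' : B') (t₁ : C ⊗[B] B'), t = (1 : C) ⊗ₜ[B] b' + πT * t₁ := by
    intro t
    induction t using TensorProduct.induction_on with
    | zero => exact ⟨0, 0, by simp⟩
    | tmul c b'' =>
      obtain ⟨b, hb⟩ := hres c
      rw [Ideal.mem_span_singleton'] at hb
      obtain ⟨c₁, hc₁⟩ := hb
      refine ⟨b • b'', c₁ ⊗ₜ[B] b'', ?_⟩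
      have hc : c = algebraMap B C b + c₁ * algebraMap B C π := by rw [hc₁]; ring
      conv_lhs => rw [hc]
      rw [TensorProduct.add_tmul, hπT, Algebra.TensorProduct.algebraMap_apply,
        Algebra.TensorProduct.tmul_mul_tmul, one_mul, mul_comm c₁, Algebra.algebraMap_eq_smul_one,
        TensorProduct.smul_tmul]
    | add x y hx hy =>
      obtain ⟨a, t₁, h1⟩ := hx
      obtain ⟨b, t₂, h2⟩ := hy
      refine ⟨a + b, t₁ + t₂, ?_⟩
      rw [h1, h2, TensorProduct.tmul_add]; ring
  -- (L4)
  have hL4 : ∀ t : C ⊗[B] B', t ∉ Ideal.span {ϖ'} → IsUnit t := by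
    intro t ht
    obtain ⟨b', t₁, rfl⟩ := hL1 t
    have hb' : IsUnit b' := by
      by_contra hnu
      apply ht
      have h1 : b' ∈ maximalIdeal B' := (IsLocalRing.mem_maximalIdeal _).mpr hnu
      rw [hπ'.maximalIdeal_eq, Ideal.mem_span_singleton'] at h1
      obtain ⟨a, rfl⟩ := h1
      refine Ideal.add_mem _ ?_ (Ideal.mul_mem_right _ _ hL3)
      rw [Ideal.mem_span_singleton]
      refine ⟨(1 : C) ⊗ₜ[B] a, ?_⟩
      rw [hϖ', Algebra.TensorProduct.tmul_mul_tmul, one_mul, mul_comm]
    have hv : IsUnit ((1 : C) ⊗ₜ[B] b' : C ⊗[B] B') :=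
      hb'.map (Algebra.TensorProduct.includeRight : B' →ₐ[B] C ⊗[B] B')
    obtain ⟨v, hv'⟩ := hv
    have h2 := (Ideal.mem_jacobson_bot.mp hL2) ((v⁻¹ : (C ⊗[B] B')ˣ) * t₁)
    have h3 : (1 : C) ⊗ₜ[B] b' + πT * t₁ = v * (πT * (↑v⁻¹ * t₁) + 1) := by
      rw [← hv']
      have : (v : C ⊗[B] B') * (πT * (↑v⁻¹ * t₁)) = πT * t₁ := by
        rw [mul_left_comm, ← mul_assoc (v : C ⊗[B] B'), Units.mul_inv, one_mul]
      rw [mul_add, this, mul_one, add_comm]
    rw [h3]
    exact v.isUnit.mul h2
  -- (L5)
  have hL5 : Ideal.span {ϖ'} ≠ (⊤ : Ideal (C ⊗[B] B')) := by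
    intro htop
    have h1 : IsUnit πT := by
      have : (1 : C ⊗[B] B') ∈ Ideal.span {ϖ'} := by rw [htop]; trivial
      rw [Ideal.mem_span_singleton] at this
      have hu1 : IsUnit ϖ' := isUnit_of_dvd_one this
      have h1 : πT * ((1 : C) ⊗ₜ[B] (u : B')) = ϖ' ^ e := by
        rw [hπT1, Algebra.TensorProduct.tmul_mul_tmul, one_mul, hu, hϖ',
          Algebra.TensorProduct.tmul_pow, one_pow]
      exact isUnit_of_mul_isUnit_left (h1 ▸ hu1.pow e)
    obtain ⟨w, hw⟩ := h1
    have h2 := (Ideal.mem_jacobson_bot.mp hL2) (-(w⁻¹ : (C ⊗[B] B')ˣ))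
    rw [← hw, mul_neg, Units.mul_inv, neg_add_cancel] at h2
    exact not_isUnit_zero h2
  -- local ring
  have hmaxI : (Ideal.span {ϖ'} : Ideal (C ⊗[B] B')).IsMaximal := by
    obtain ⟨M, hM, hle⟩ := Ideal.exists_le_maximal _ hL5
    have : M ≤ Ideal.span {ϖ'} := by
      intro x hx
      by_contra hx'
      exact hM.ne_top (Ideal.eq_top_of_isUnit_mem _ hx (hL4 x hx'))
    rw [le_antisymm hle this]
    exact hM
  haveI : IsLocalRing (C ⊗[B] B') := by
    refine IsLocalRing.of_unique_max_ideal ⟨_, hmaxI, fun J hJ => ?_⟩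
    have : J ≤ Ideal.span {ϖ'} := by
      intro x hx
      by_contra hx'
      exact hJ.ne_top (Ideal.eq_top_of_isUnit_mem _ hx (hL4 x hx'))
    exact hJ.eq_of_le hL5 this
  have hmax : maximalIdeal (C ⊗[B] B') = Ideal.span {ϖ'} :=
    (IsLocalRing.eq_maximalIdeal hmaxI).symm
  -- regularity
  have hreg : ϖ' ∈ nonZeroDivisors (C ⊗[B] B') := by
    rw [mem_nonZeroDivisors_iff_right]
    intro t ht
    have hg : Function.Injective (LinearMap.mulLeft B π') :=
      fun a b hab => mul_left_cancel₀ hπ'.ne_zero hab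
    have hinj' := Module.Flat.lTensor_preserves_injective_linearMap (M := C)
      (LinearMap.mulLeft B π') hg
    have heq : ∀ t : C ⊗[B] B', LinearMap.lTensor C (LinearMap.mulLeft B π') t = t * ϖ' := by
      intro t
      induction t using TensorProduct.induction_on with
      | zero => simp
      | tmul c b' =>
        rw [LinearMap.lTensor_tmul, hϖ', Algebra.TensorProduct.tmul_mul_tmul, mul_one,
          LinearMap.mulLeft_apply, mul_comm]
      | add x y hx hy => rw [map_add, hx, hy, add_mul]
    apply hinj'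
    rw [heq, ht, map_zero]
  exact isDomain_of_maximalIdeal_eq_span _ ϖ' hmax hreg

end tensor

section reduced

open Groth.Agent.Lib.H87DVRJap in
/-- If the integral closure `B'` of the DVR `B` in the finite purely inseparable extension `L'` is
finite over `B`, then `C ⊗_B L'` is reduced (`C` "like the completion"). -/
theorem isReduced_tensor_of_finite (B : Type u) [CommRing B] [IsDomain B]
    [IsDiscreteValuationRing B] (L L' : Type u) [Field L] [Algebra B L] [IsFractionRing B L]
    [Field L'] [Algebra L L'] [Algebra B L'] [IsScalarTower B L L'] [FiniteDimensional L L']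
    [IsPurelyInseparable L L']
    (C : Type u) [CommRing C] [Algebra B C] [Module.FaithfullyFlat B C] [IsNoetherianRing C]
    (hfin : Module.Finite B (integralClosure B L')) (π : B) (hπ : Irreducible π)
    (hjac : algebraMap B C π ∈ Ideal.jacobson (⊥ : Ideal C))
    (hres : ∀ c : C, ∃ b : B, c - algebraMap B C b ∈ Ideal.span {algebraMap B C π}) :
    IsReduced (C ⊗[B] L') := by
  haveI := hfin
  haveI : IsDiscreteValuationRing (integralClosure B L') :=
    isDiscreteValuationRing_integralClosure B L L' hfin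
  have hBL' : Function.Injective (algebraMap B L') := by
    rw [IsScalarTower.algebraMap_eq B L L']
    exact (algebraMap L L').injective.comp (IsFractionRing.injective B L)
  have hinj : Function.Injective (algebraMap B (integralClosure B L')) := by
    intro a b hab
    apply hBL'
    have := congrArg (Subtype.val) hab
    simpa using this
  haveI hdom := isDomain_tensor B (integralClosure B L') C hinj π hπ hjac hres
  have hπL' : algebraMap B L' π ≠ 0 := (map_ne_zero_iff _ hBL').mpr hπ.ne_zero
  -- every element has a multiple in the range of `ι`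
  set ρ : C := algebraMap B C π with hρ
  have hsm : ∀ (N : ℕ) (c : C) (l : L'),
      c ⊗ₜ[B] ((π ^ N) • l) = (ρ ^ N) • (c ⊗ₜ[B] l) := by
    intro N c l
    rw [TensorProduct.smul_tmul', smul_eq_mul, hρ, ← map_pow, ← Algebra.smul_def,
      TensorProduct.smul_tmul]
  have key : ∀ x : C ⊗[B] L', ∃ (N : ℕ) (t : C ⊗[B] integralClosure B L'),
      ι B L' C t = (ρ ^ N) • x := by
    intro x
    induction x using TensorProduct.induction_on with
    | zero => exact ⟨0, 0, by simp⟩
    | tmul c l =>
      have halg : IsAlgebraic B l := by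
        have h1 : IsAlgebraic L l := Algebra.IsAlgebraic.isAlgebraic l
        exact (IsFractionRing.isAlgebraic_iff B L L').mpr h1
      obtain ⟨b, hb0, hb⟩ := halg.exists_integral_multiple
      obtain ⟨N, v, hv⟩ := IsDiscreteValuationRing.associated_pow_irreducible hb0 hπ
      have hint : IsIntegral B ((π ^ N) • l) := by
        rw [← hv, mul_comm, mul_smul]
        exact hb.smul _
      refine ⟨N, c ⊗ₜ[B] ⟨(π ^ N) • l, hint⟩, ?_⟩
      rw [ι_tmul]
      exact hsm N c l
    | add x y hx hy =>
      obtain ⟨N₁, t₁, h1⟩ := hx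
      obtain ⟨N₂, t₂, h2⟩ := hy
      refine ⟨N₁ + N₂, (ρ ^ N₂) • t₁ + (ρ ^ N₁) • t₂, ?_⟩
      rw [map_add, map_smul, map_smul, h1, h2, smul_add, smul_smul, smul_smul, ← pow_add,
        ← pow_add, add_comm N₂ N₁]
  -- multiplication by `ρ ^ N` is injective
  have hsmul : ∀ (N : ℕ) (x : C ⊗[B] L'), (ρ ^ N) • x = 0 → x = 0 := by
    intro N x hx
    have hg : Function.Injective (LinearMap.lsmul B L' (π ^ N)) := by
      intro a b hab
      simp only [LinearMap.lsmul_apply, Algebra.smul_def] at hab
      exact mul_left_cancel₀ (by rw [map_pow]; exact pow_ne_zero _ hπL') hab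
    have hinj' := Module.Flat.lTensor_preserves_injective_linearMap (M := C)
      (LinearMap.lsmul B L' (π ^ N)) hg
    have heq : ∀ t : C ⊗[B] L', LinearMap.lTensor C (LinearMap.lsmul B L' (π ^ N)) t =
        (ρ ^ N) • t := by
      intro t
      induction t using TensorProduct.induction_on with
      | zero => simp
      | tmul c l =>
        rw [LinearMap.lTensor_tmul, LinearMap.lsmul_apply]
        exact hsm N c l
      | add x y hx hy => rw [map_add, hx, hy, smul_add]
    apply hinj'
    rw [heq, hx, map_zero]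
  refine ⟨fun x hx => ?_⟩
  obtain ⟨k, hk⟩ := hx
  obtain ⟨N, t, ht⟩ := key x
  have h1 : (ι B L' C t) ^ k = 0 := by
    rw [ht, smul_pow, hk, smul_zero]
  have h2 : t ^ k = 0 := by
    apply ι_injective B L' C
    rw [map_pow, h1, map_zero]
  have h3 : t = 0 := by
    by_cases hk0 : k = 0
    · rw [hk0, pow_zero] at h2; exact absurd h2 one_ne_zero
    · exact (pow_eq_zero_iff hk0).mp h2
  rw [h3, map_zero] at ht
  exact hsmul N x ht.symm

end reduced

end Groth.Agent.Lib.H87DVRExt
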