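/-
helper87: G-ring / N-2 / J-2 for DVRs with geometrically reduced generic formal fibre
(part 3 of H87DVRJap).
-/
import Mathlib
import Groth.Prelude.Def_Found
import Groth.Agent.Lib.ComplUC33
import Groth.Agent.Lib.H87GRingDed
import Groth.Agent.Lib.H87DVRJap2

set_option autoImplicit false
set_option linter.style.haveILetI false
set_option linter.unusedSectionVars false
universe u

namespace Groth.Agent.Lib.H87DVRJap

open TensorProduct IsLocalRing

/-- Geometrically regular implies geometrically reduced. -/
theorem isGeometricallyReduced_of_isGeometricallyRegular (κ : Type u) [Field κ] (F : Type u)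
    [CommRing F] [Algebra κ F] (h : CAlg.IsGeometricallyRegular κ F) :
    Algebra.IsGeometricallyReduced κ F := by
  rw [Algebra.isGeometricallyReduced_field_iff]
  have h1 : IsReduced (F ⊗[κ] AlgebraicClosure κ) := by
    apply IsReduced.tensorProduct_of_flat_of_forall_fg
    intro B hB
    letI : Field B := (Subalgebra.isField_of_algebraic B).toField
    haveI : Algebra.FiniteType κ B := (Subalgebra.fg_iff_finiteType B).mp hB
    haveI : Algebra.IsIntegral κ B :=
      ⟨fun x => (isIntegral_algHom_iff B.val Subtype.val_injective).mp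
        (Algebra.IsIntegral.isIntegral (R := κ) (x : AlgebraicClosure κ))⟩
    haveI : Module.Finite κ B := Algebra.IsIntegral.finite
    haveI : IsRegularRing (B ⊗[κ] F) := h B inferInstance
    haveI : IsReduced (B ⊗[κ] F) := isReduced_of_isRegularRing _
    exact isReduced_of_injective (Algebra.TensorProduct.comm κ F B).toRingEquiv
      (RingEquiv.injective _)
  exact isReduced_of_injective
    (Algebra.TensorProduct.comm κ (AlgebraicClosure κ) F).toRingEquiv
    (RingEquiv.injective _)

/-- A reduced Artinian ring is regular. -/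
theorem isRegularRing_of_isArtinianRing_of_isReduced (B : Type u) [CommRing B] [IsArtinianRing B]
    [IsReduced B] : IsRegularRing B := by
  rw [isRegularRing_iff]
  intro p hp
  haveI : IsReduced (Localization.AtPrime p) :=
    isReduced_localizationPreserves p.primeCompl _ inferInstance
  exact Groth.Agent.Lib.ComplUC33.isRegularLocalRing_of_isField _
    (IsArtinianRing.isField_of_isReduced_of_isLocalRing _)

/-- A field which is geometrically reduced over `κ` is geometrically regular. -/
theorem geomRegular_of_isGeometricallyReduced_of_isField (κ : Type u) [Field κ] (F : Type u)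
    [CommRing F] [Algebra κ F] (hF : IsField F) [Algebra.IsGeometricallyReduced κ F] :
    IsNoetherianRing F ∧ CAlg.IsGeometricallyRegular κ F := by
  letI := hF.toField
  refine ⟨inferInstance, fun k' _ _ hfin => ?_⟩
  haveI := hfin
  haveI : IsReduced (k' ⊗[κ] F) := inferInstance
  haveI : IsReduced (F ⊗[κ] k') :=
    isReduced_of_injective (Algebra.TensorProduct.comm κ F k').toRingEquiv
      (RingEquiv.injective _)
  haveI : Module.Finite F (F ⊗[κ] k') := inferInstance
  haveI : IsArtinianRing (F ⊗[κ] k') := IsArtinianRing.of_finite F _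
  haveI := isRegularRing_of_isArtinianRing_of_isReduced (F ⊗[κ] k')
  exact IsRegularRing.of_ringEquiv (Algebra.TensorProduct.comm κ F k').toRingEquiv

/-- A localization of a DVR inverting a nonzero nonunit is a field. -/
theorem isField_localization_of_dvr (C : Type u) [CommRing C] [IsDomain C]
    [IsDiscreteValuationRing C] (M : Submonoid C) (hM : M ≤ nonZeroDivisors C) (ϖ : C)
    (hϖM : ϖ ∈ M) (hϖ : ¬ IsUnit ϖ) (T : Type u) [CommRing T] [Algebra C T]
    [IsLocalization M T] : IsField T := by
  haveI : IsDomain T := IsLocalization.isDomain_of_le_nonZeroDivisors (M := M) T hM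
  by_contra hnf
  obtain ⟨P, hP0, hPp⟩ := Ring.not_isField_iff_exists_prime.mp hnf
  have hc : (P.comap (algebraMap C T)).IsPrime := inferInstance
  have hc0 : P.comap (algebraMap C T) ≠ ⊥ := by
    intro h
    apply hP0
    have h' : P.under C = ⊥ := h
    rw [← IsLocalization.map_under M T P, h', Ideal.map_bot]
  have hmax : P.comap (algebraMap C T) = maximalIdeal C :=
    IsLocalRing.eq_maximalIdeal (hc.isMaximal hc0)
  have hmem : ϖ ∈ P.comap (algebraMap C T) := by
    rw [hmax]; exact (IsLocalRing.mem_maximalIdeal _).mpr hϖ
  have hu : IsUnit (algebraMap C T ϖ) := IsLocalization.map_units T ⟨ϖ, hϖM⟩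
  exact hPp.ne_top (Ideal.eq_top_of_isUnit_mem _ hmem hu)

attribute [local instance] Algebra.TensorProduct.rightAlgebra in
/-- The fibre over the zero ideal is a localization. -/
theorem nonempty_fiber_bot_equiv (R : Type u) [CommRing R] [IsDomain R] (S : Type u) [CommRing S]
    [Algebra R S] :
    Nonempty ((⊥ : Ideal R).Fiber S ≃+*
      Localization (Algebra.algebraMapSubmonoid S (⊥ : Ideal R).primeCompl)) := by
  have h1 : maximalIdeal (Localization (⊥ : Ideal R).primeCompl) = ⊥ := by
    have := Localization.AtPrime.map_eq_maximalIdeal (I := (⊥ : Ideal R))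
    rw [← this, Ideal.map_bot]
  have h2 : (maximalIdeal (Localization (⊥ : Ideal R).primeCompl)).map
      (algebraMap (Localization (⊥ : Ideal R).primeCompl)
        (Localization (Algebra.algebraMapSubmonoid S (⊥ : Ideal R).primeCompl))) = ⊥ := by
    rw [h1, Ideal.map_bot]
  let e1 := (Ideal.Fiber.algEquivQuotient (S := S) (⊥ : Ideal R)).toRingEquiv
  let e2 := Ideal.quotEquivOfEq h2
  let e3 := RingEquiv.quotientBot
    (Localization (Algebra.algebraMapSubmonoid S (⊥ : Ideal R).primeCompl))
  exact ⟨(e1.trans e2).trans e3⟩

/-- The generic formal fibre of a DVR is a field. -/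
theorem isField_fiber_bot_cpl (R : Type u) [CommRing R] [IsDomain R] [IsDiscreteValuationRing R] :
    IsField ((⊥ : Ideal R).Fiber (AdicCompletion (maximalIdeal R) R)) := by
  obtain ⟨hdom, hdvr⟩ := (Groth.Agent.Lib.AdicDim.isDiscreteValuationRing_iff_adicCompletion
    (A := R)).mp ⟨inferInstance, inferInstance⟩
  obtain ⟨e⟩ := nonempty_fiber_bot_equiv R (AdicCompletion (maximalIdeal R) R)
  have hinj : Function.Injective (algebraMap R (AdicCompletion (maximalIdeal R) R)) :=
    AdicCompletion.of_injective (maximalIdeal R) R
  obtain ⟨π, hπ⟩ := IsDiscreteValuationRing.exists_irreducible R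
  have hM : Algebra.algebraMapSubmonoid (AdicCompletion (maximalIdeal R) R)
      (⊥ : Ideal R).primeCompl ≤ nonZeroDivisors (AdicCompletion (maximalIdeal R) R) := by
    rintro _ ⟨r, hr, rfl⟩
    have hr0 : r ≠ 0 := fun h => hr (by rw [h]; exact Ideal.zero_mem _)
    exact mem_nonZeroDivisors_of_ne_zero ((map_ne_zero_iff _ hinj).mpr hr0)
  haveI : IsLocalHom (algebraMap R (AdicCompletion (maximalIdeal R) R)) := inferInstance
  have hfield := isField_localization_of_dvr (AdicCompletion (maximalIdeal R) R) _ hM
    (algebraMap R (AdicCompletion (maximalIdeal R) R) π)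
    ⟨π, fun h => hπ.ne_zero (by simpa using h), rfl⟩
    (fun hu => hπ.not_isUnit (isUnit_of_map_unit _ _ hu))
    (Localization (Algebra.algebraMapSubmonoid (AdicCompletion (maximalIdeal R) R)
      (⊥ : Ideal R).primeCompl))
  exact e.toMulEquiv.isField hfield

end Groth.Agent.Lib.H87DVRJap
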