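/-
helper87: excellence of DVRs with geometrically reduced generic formal fibre
(part 4 of H87DVRJap): G-ring, N-2, J-2.
-/
import Mathlib
import Groth.Prelude.Def_Found
import Groth.Agent.S4562
import Groth.Agent.Lib.H87J2b
import Groth.Agent.Lib.H87DVRJap3

set_option autoImplicit false
set_option linter.style.haveILetI false
set_option linter.unusedSectionVars false
universe u

namespace Groth.Agent.Lib.H87DVRJap

open TensorProduct IsLocalRing

/-- Variant of `H87GRingDed.isRegularHom_adicCompletion`: only the non-maximal primes matter. -/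
theorem isRegularHom_adicCompletion_of (R : Type u) [CommRing R] [IsLocalRing R]
    [IsNoetherianRing R]
    (h0 : ∀ (q : Ideal R) [q.IsPrime], q ≠ maximalIdeal R →
      IsNoetherianRing (q.Fiber (AdicCompletion (maximalIdeal R) R)) ∧
        CAlg.IsGeometricallyRegular q.ResidueField
          (q.Fiber (AdicCompletion (maximalIdeal R) R))) :
    CAlg.IsRegularHom R (AdicCompletion (maximalIdeal R) R) := by
  haveI : Module.FaithfullyFlat R (AdicCompletion (maximalIdeal R) R) :=
    Module.FaithfullyFlat.of_flat_of_isLocalHom
  refine ⟨inferInstance, fun q hq => ?_⟩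
  by_cases hqm : q = maximalIdeal R
  · have hsurj : ∀ s : AdicCompletion (maximalIdeal R) R, ∃ r : R,
        s - algebraMap R (AdicCompletion (maximalIdeal R) R) r ∈
          q.map (algebraMap R (AdicCompletion (maximalIdeal R) R)) := by
      intro s
      obtain ⟨a, ha⟩ := Groth.Agent.Lib.H14AdicLocal.exists_sub_mem_map R (maximalIdeal R)
        (IsNoetherian.noetherian _) s
      exact ⟨a, by rw [hqm]; exact ha⟩
    exact Groth.Agent.Lib.H87GRingDed.geomRegular_of_bijective _ _
      (Groth.Agent.Lib.H87GRingDed.bijective_algebraMap_fiber R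
        (AdicCompletion (maximalIdeal R) R) q hsurj)
  · exact h0 q hqm

/-- The completion map of a DVR with geometrically reduced generic formal fibre is regular. -/
theorem isRegularHom_cpl_of_dvr (R : Type u) [CommRing R] [IsDomain R]
    [IsDiscreteValuationRing R]
    [Algebra.IsGeometricallyReduced (⊥ : Ideal R).ResidueField
      ((⊥ : Ideal R).Fiber (AdicCompletion (maximalIdeal R) R))] :
    CAlg.IsRegularHom R (AdicCompletion (maximalIdeal R) R) := by
  apply isRegularHom_adicCompletion_of
  intro q hq hqm
  have hq0 : q = ⊥ := by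
    by_contra h
    exact hqm (IsLocalRing.eq_maximalIdeal (hq.isMaximal h))
  subst hq0
  exact geomRegular_of_isGeometricallyReduced_of_isField _ _ (isField_fiber_bot_cpl R)

/-- A DVR with geometrically reduced generic formal fibre is a G-ring. -/
theorem isGRing_of_dvr (R : Type u) [CommRing R] [IsDomain R] [IsDiscreteValuationRing R]
    [Algebra.IsGeometricallyReduced (⊥ : Ideal R).ResidueField
      ((⊥ : Ideal R).Fiber (AdicCompletion (maximalIdeal R) R))] : CAlg.IsGRing R := by
  refine ⟨inferInstance, fun p hp => ?_⟩
  by_cases hp0 : p = ⊥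
  · subst hp0
    apply isRegularHom_adicCompletion_of
    intro q hq hqm
    exfalso
    apply hqm
    have hmax : maximalIdeal (Localization.AtPrime (⊥ : Ideal R)) = ⊥ := by
      rw [← Localization.AtPrime.map_eq_maximalIdeal, Ideal.map_bot]
    have hfield : IsField (Localization.AtPrime (⊥ : Ideal R)) :=
      IsLocalRing.isField_iff_maximalIdeal_eq.mpr hmax
    rw [hmax]
    letI := hfield.toField
    exact Ideal.eq_bot_of_prime q
  · have hpm : p = maximalIdeal R := IsLocalRing.eq_maximalIdeal (hp.isMaximal hp0)
    subst hpm
    exact isRegularHom_localization_maximalIdeal R (isRegularHom_cpl_of_dvr R)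

/-- The core finiteness statement with `C` the completion of `R`. -/
theorem finite_integralClosure_cpl (R : Type u) [CommRing R] [IsDomain R]
    [IsDiscreteValuationRing R] (K L : Type u) [Field K] [Algebra R K] [IsFractionRing R K]
    [Field L] [Algebra K L] [Algebra R L] [IsScalarTower R K L] [FiniteDimensional K L]
    [IsPurelyInseparable K L]
    (hred : IsReduced (AdicCompletion (maximalIdeal R) R ⊗[R] L)) :
    Module.Finite R (integralClosure R L) := by
  haveI : Module.FaithfullyFlat R (AdicCompletion (IsLocalRing.maximalIdeal R) R) :=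
    Module.FaithfullyFlat.of_flat_of_isLocalHom
  obtain ⟨π, hπ⟩ := IsDiscreteValuationRing.exists_irreducible R
  have hmax : IsLocalRing.maximalIdeal R = Ideal.span {π} := hπ.maximalIdeal_eq
  haveI : IsAdicComplete
      (Ideal.span {algebraMap R (AdicCompletion (IsLocalRing.maximalIdeal R) R) π})
      (AdicCompletion (IsLocalRing.maximalIdeal R) R) := by
    have h1 := AdicCompletion.isAdicComplete_self (IsLocalRing.maximalIdeal R)
      (IsNoetherian.noetherian _)
    have h2 : (IsLocalRing.maximalIdeal R).map
        (algebraMap R (AdicCompletion (IsLocalRing.maximalIdeal R) R)) =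
        Ideal.span {algebraMap R (AdicCompletion (IsLocalRing.maximalIdeal R) R) π} := by
      have h3 : (Ideal.span {π}).map
          (algebraMap R (AdicCompletion (IsLocalRing.maximalIdeal R) R)) =
          Ideal.span {algebraMap R (AdicCompletion (IsLocalRing.maximalIdeal R) R) π} := by
        rw [Ideal.map_span, Set.image_singleton]
      rw [← h3]
      exact congrArg _ hmax
    rw [← h2]
    exact h1
  exact finite_integralClosure R K L (AdicCompletion (IsLocalRing.maximalIdeal R) R) π hmax hred

/-- From geometric reducedness of the generic fibre to reducedness of `C ⊗ L`. -/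
theorem isReduced_tensor_of_isGeometricallyReduced (R : Type u) [CommRing R] [IsDomain R]
    (C : Type u) [CommRing C] [Algebra R C] (L : Type u) [Field L] [Algebra R L]
    [Algebra (⊥ : Ideal R).ResidueField L] [IsScalarTower R (⊥ : Ideal R).ResidueField L]
    [Algebra.IsAlgebraic (⊥ : Ideal R).ResidueField L]
    [Algebra.IsGeometricallyReduced (⊥ : Ideal R).ResidueField ((⊥ : Ideal R).Fiber C)] :
    IsReduced (C ⊗[R] L) := by
  haveI : IsReduced (L ⊗[(⊥ : Ideal R).ResidueField] ((⊥ : Ideal R).ResidueField ⊗[R] C)) :=
    inferInstance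
  let e1 : L ⊗[(⊥ : Ideal R).ResidueField] ((⊥ : Ideal R).ResidueField ⊗[R] C) ≃ₐ[L] L ⊗[R] C :=
    Algebra.TensorProduct.cancelBaseChange R (⊥ : Ideal R).ResidueField L L C
  let e2 : L ⊗[R] C ≃ₐ[R] C ⊗[R] L := Algebra.TensorProduct.comm R L C
  exact isReduced_of_injective (e2.symm.toRingEquiv.trans e1.symm.toRingEquiv)
    (RingEquiv.injective _)

/-- A DVR with geometrically reduced generic formal fibre is N-2. -/
theorem isN2_of_dvr (R : Type u) [CommRing R] [IsDomain R] [IsDiscreteValuationRing R]
    [Algebra.IsGeometricallyReduced (⊥ : Ideal R).ResidueField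
      ((⊥ : Ideal R).Fiber (AdicCompletion (maximalIdeal R) R))] : CAlg.IsN2 R := by
  apply Groth.Agent.S4562.result
  intro K' _ _ _ _ hfd hpi
  haveI := hfd
  haveI := hpi
  have hRL : Function.Injective (algebraMap R K') := by
    rw [IsScalarTower.algebraMap_eq R (FractionRing R) K']
    exact (algebraMap (FractionRing R) K').injective.comp
      (IsFractionRing.injective R (FractionRing R))
  letI algκ : Algebra (⊥ : Ideal R).ResidueField K' :=
    (IsFractionRing.lift (K := (⊥ : Ideal R).ResidueField) hRL).toAlgebra
  haveI : IsScalarTower R (⊥ : Ideal R).ResidueField K' :=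
    IsScalarTower.of_algebraMap_eq (fun r => by
      rw [RingHom.algebraMap_toAlgebra, IsFractionRing.lift_algebraMap])
  haveI : Module.Finite (⊥ : Ideal R).ResidueField K' :=
    finite_of_isFractionRing R (FractionRing R) (⊥ : Ideal R).ResidueField K'
  haveI : Algebra.IsAlgebraic (⊥ : Ideal R).ResidueField K' := inferInstance
  have hred : IsReduced (AdicCompletion (maximalIdeal R) R ⊗[R] K') :=
    isReduced_tensor_of_isGeometricallyReduced R _ K'
  exact finite_integralClosure_cpl R (FractionRing R) K' hred

/-- An N-2 Dedekind domain is J-2. -/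
theorem isJ2_of_isN2 (A : Type u) [CommRing A] [IsDedekindDomain A] (hN2 : CAlg.IsN2 A) :
    EGA4.IsJ2 A := by
  apply Groth.Agent.Lib.H87J2.isJ2_of_forall_finite A
  intro A' _ _ _ hfin
  have hint : Algebra.IsIntegral A A' := inferInstance
  have hdimA : ringKrullDim A ≤ 1 := Ring.krullDimLE_iff.mp inferInstance
  have hdimA' : ringKrullDim A' ≤ 1 := by
    refine le_trans ?_ hdimA
    exact Order.krullDim_le_of_strictMono
      (fun I => ⟨Ideal.comap (algebraMap A A') I.asIdeal, inferInstance⟩)
      (fun I J hIJ => Ideal.IsIntegral.comap_lt_comap (R := A) hIJ)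
  have hA'N : IsNoetherianRing A' := Algebra.FiniteType.isNoetherianRing A A'
  have hprime : (RingHom.ker (algebraMap A A')).IsPrime := RingHom.ker_isPrime _
  by_cases hker : RingHom.ker (algebraMap A A') = ⊥
  · -- injective case
    have hinj : Function.Injective (algebraMap A A') := (RingHom.injective_iff_ker_eq_bot _).mpr hker
    have hfaith : FaithfulSMul A A' := (faithfulSMul_iff_algebraMap_injective _ _).mpr hinj
    have hinjK : Function.Injective (algebraMap A (FractionRing A')) := by
      rw [IsScalarTower.algebraMap_eq A A' (FractionRing A')]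
      exact (IsFractionRing.injective A' (FractionRing A')).comp hinj
    have hfaithK : FaithfulSMul A (FractionRing A') :=
      (faithfulSMul_iff_algebraMap_injective _ _).mpr hinjK
    letI algK : Algebra (FractionRing A) (FractionRing A') := FractionRing.liftAlgebra _ _
    have hfd : FiniteDimensional (FractionRing A) (FractionRing A') :=
      Groth.Agent.Lib.H87J2.finiteDimensional_of_finite A A' _ _
    have h1 : Module.Finite A (integralClosure A (FractionRing A')) :=
      hN2 (FractionRing A') hfd
    have h2 := Groth.Agent.Lib.H87J2.finite_integralClosure_of_tower A A' (FractionRing A') h1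
    exact Groth.Agent.Lib.H87J2.J0_of_finite_integralClosure A' hdimA' (FractionRing A') h2
  · -- A' is a field
    have hmax : (RingHom.ker (algebraMap A A')).IsMaximal := hprime.isMaximal hker
    letI alg0 : Algebra (A ⧸ RingHom.ker (algebraMap A A')) A' :=
      (RingHom.kerLift (algebraMap A A')).toAlgebra
    have htow : IsScalarTower A (A ⧸ RingHom.ker (algebraMap A A')) A' :=
      IsScalarTower.of_algebraMap_eq (fun x => rfl)
    have hfin0 : Module.Finite (A ⧸ RingHom.ker (algebraMap A A')) A' :=
      Module.Finite.of_restrictScalars_finite A _ _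
    have hF0 : IsField (A ⧸ RingHom.ker (algebraMap A A')) :=
      (Ideal.Quotient.maximal_ideal_iff_isField_quotient _).mp hmax
    have hfield : IsField A' :=
      isField_of_isIntegral_of_isField' (R := A ⧸ RingHom.ker (algebraMap A A')) hF0
    refine ⟨Set.univ, isOpen_univ, ⟨⟨⊥, Ideal.isPrime_bot⟩, trivial⟩, fun p _ => ?_⟩
    have hp : p = ⟨⊥, Ideal.isPrime_bot⟩ := by
      apply PrimeSpectrum.ext
      letI := hfield.toField
      have := p.2
      exact Ideal.eq_bot_of_prime p.asIdeal
    rw [hp]
    exact Groth.Agent.Lib.H87Nagata.bot_mem_regLocus A'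

end Groth.Agent.Lib.H87DVRJap
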