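/-
helper87: N-2 DVRs have geometrically reduced formal fibres; descent of N-2 along separable
extensions of DVRs.
-/
import Mathlib
import Groth.Prelude.Def_Found
import Groth.Agent.S4562
import Groth.Agent.Lib.MacLane5H44
import Groth.Agent.Lib.GeomReducedFibres
import Groth.Agent.Lib.H87FieldN2
import Groth.Agent.Lib.H87DVRJap4
import Groth.Agent.Lib.H87DVRExt1

set_option autoImplicit false
set_option linter.style.haveILetI false
set_option linter.unusedSectionVars false
universe u

namespace Groth.Agent.Lib.H87DVRExt

open TensorProduct IsLocalRing Groth.Agent.Lib.H87DVRJap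

section cpl

variable (B : Type u) [CommRing B] [IsDomain B] [IsDiscreteValuationRing B]

theorem map_maximalIdeal_cpl (π : B) (hπ : Irreducible π) :
    (maximalIdeal B).map (algebraMap B (AdicCompletion (maximalIdeal B) B)) =
      Ideal.span {algebraMap B (AdicCompletion (maximalIdeal B) B) π} := by
  have h3 : (Ideal.span {π}).map (algebraMap B (AdicCompletion (maximalIdeal B) B)) =
      Ideal.span {algebraMap B (AdicCompletion (maximalIdeal B) B) π} := by
    rw [Ideal.map_span, Set.image_singleton]
  rw [← h3]
  exact congrArg _ hπ.maximalIdeal_eq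

theorem isAdicComplete_cpl (π : B) (hπ : Irreducible π) :
    IsAdicComplete (Ideal.span {algebraMap B (AdicCompletion (maximalIdeal B) B) π})
      (AdicCompletion (maximalIdeal B) B) := by
  rw [← map_maximalIdeal_cpl B π hπ]
  exact AdicCompletion.isAdicComplete_self (maximalIdeal B) (IsNoetherian.noetherian _)

theorem mem_jacobson_cpl (π : B) (hπ : Irreducible π) :
    algebraMap B (AdicCompletion (maximalIdeal B) B) π ∈
      Ideal.jacobson (⊥ : Ideal (AdicCompletion (maximalIdeal B) B)) := by
  haveI := isAdicComplete_cpl B π hπ
  exact IsAdicComplete.le_jacobson_bot _ (Ideal.mem_span_singleton_self _)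

theorem exists_sub_mem_cpl (π : B) (hπ : Irreducible π) (c : AdicCompletion (maximalIdeal B) B) :
    ∃ b : B, c - algebraMap B (AdicCompletion (maximalIdeal B) B) b ∈
      Ideal.span {algebraMap B (AdicCompletion (maximalIdeal B) B) π} := by
  obtain ⟨a, ha⟩ := Groth.Agent.Lib.H14AdicLocal.exists_sub_mem_map B (maximalIdeal B)
    (IsNoetherian.noetherian _) c
  rw [map_maximalIdeal_cpl B π hπ] at ha
  exact ⟨a, ha⟩

end cpl

section fibres

variable (B : Type u) [CommRing B] [IsDomain B] [IsDiscreteValuationRing B]

/-- For an N-2 DVR `B` and a finite purely inseparable extension `k'` of its fraction field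
`κ(⊥)`, `B̂ ⊗_B k'` is reduced. -/
theorem isReduced_cpl_tensor_of_isN2 (hN2 : CAlg.IsN2 B) (k' : Type u) [Field k']
    [Algebra (⊥ : Ideal B).ResidueField k'] [Algebra B k']
    [IsScalarTower B (⊥ : Ideal B).ResidueField k']
    [Module.Finite (⊥ : Ideal B).ResidueField k']
    [IsPurelyInseparable (⊥ : Ideal B).ResidueField k'] :
    IsReduced (AdicCompletion (maximalIdeal B) B ⊗[B] k') := by
  have hBk : Function.Injective (algebraMap B k') := by
    rw [IsScalarTower.algebraMap_eq B (⊥ : Ideal B).ResidueField k']
    exact (algebraMap (⊥ : Ideal B).ResidueField k').injective.comp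
      (IsFractionRing.injective B _)
  letI algF : Algebra (FractionRing B) k' :=
    (IsFractionRing.lift (K := FractionRing B) hBk).toAlgebra
  haveI : IsScalarTower B (FractionRing B) k' :=
    IsScalarTower.of_algebraMap_eq (fun r => by
      rw [RingHom.algebraMap_toAlgebra, IsFractionRing.lift_algebraMap])
  haveI : Module.Finite (FractionRing B) k' :=
    finite_of_isFractionRing B (⊥ : Ideal B).ResidueField (FractionRing B) k'
  have hfin : Module.Finite B (integralClosure B k') := hN2 k' inferInstance
  obtain ⟨π, hπ⟩ := IsDiscreteValuationRing.exists_irreducible B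
  haveI : Module.FaithfullyFlat B (AdicCompletion (maximalIdeal B) B) :=
    Module.FaithfullyFlat.of_flat_of_isLocalHom
  haveI : IsNoetherianRing (AdicCompletion (maximalIdeal B) B) :=
    Groth.Agent.Lib.AdicNoeth.isNoetherianRing_adicCompletion _
  exact isReduced_tensor_of_finite B (⊥ : Ideal B).ResidueField k' _ hfin π hπ
    (mem_jacobson_cpl B π hπ) (exists_sub_mem_cpl B π hπ)

/-- The formal fibres of an N-2 DVR are geometrically reduced. -/
theorem geomReducedFibres_of_isN2 (hN2 : CAlg.IsN2 B) (q : Ideal B) [q.IsPrime] :
    Algebra.IsGeometricallyReduced q.ResidueField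
      (q.Fiber (AdicCompletion (maximalIdeal B) B)) := by
  by_cases hq0 : q = ⊥
  · subst hq0
    apply Groth.Agent.Lib.MacLane5H44.isGeometricallyReduced_of_forall_finite_purelyInseparable
    intro k' _ _ _ _
    letI : Algebra B k' :=
      ((algebraMap (⊥ : Ideal B).ResidueField k').comp
        (algebraMap B (⊥ : Ideal B).ResidueField)).toAlgebra
    haveI : IsScalarTower B (⊥ : Ideal B).ResidueField k' :=
      IsScalarTower.of_algebraMap_eq (fun r => rfl)
    haveI := isReduced_cpl_tensor_of_isN2 B hN2 k'
    let e1 : k' ⊗[(⊥ : Ideal B).ResidueField] ((⊥ : Ideal B).ResidueField ⊗[B]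
        (AdicCompletion (maximalIdeal B) B)) ≃ₐ[k'] k' ⊗[B] (AdicCompletion (maximalIdeal B) B) :=
      Algebra.TensorProduct.cancelBaseChange B (⊥ : Ideal B).ResidueField k' k' _
    let e2 : k' ⊗[B] (AdicCompletion (maximalIdeal B) B) ≃ₐ[B]
        (AdicCompletion (maximalIdeal B) B) ⊗[B] k' := Algebra.TensorProduct.comm B k' _
    exact isReduced_of_injective (e1.toRingEquiv.trans e2.toRingEquiv) (RingEquiv.injective _)
  · have hqm : q = maximalIdeal B := IsLocalRing.eq_maximalIdeal (‹q.IsPrime›.isMaximal hq0)
    have hsurj : ∀ s : AdicCompletion (maximalIdeal B) B, ∃ r : B,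
        s - algebraMap B (AdicCompletion (maximalIdeal B) B) r ∈
          q.map (algebraMap B (AdicCompletion (maximalIdeal B) B)) := by
      intro s
      obtain ⟨a, ha⟩ := Groth.Agent.Lib.H14AdicLocal.exists_sub_mem_map B (maximalIdeal B)
        (IsNoetherian.noetherian _) s
      exact ⟨a, by rw [hqm]; exact ha⟩
    haveI : Module.FaithfullyFlat B (AdicCompletion (maximalIdeal B) B) :=
      Module.FaithfullyFlat.of_flat_of_isLocalHom
    have hbij := Groth.Agent.Lib.H87GRingDed.bijective_algebraMap_fiber B
      (AdicCompletion (maximalIdeal B) B) q hsurj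
    let e : q.ResidueField ≃ₐ[q.ResidueField] q.Fiber (AdicCompletion (maximalIdeal B) B) :=
      AlgEquiv.ofBijective (Algebra.ofId _ _) hbij
    haveI : Algebra.IsGeometricallyReduced q.ResidueField q.ResidueField := by
      rw [Algebra.isGeometricallyReduced_field_iff]
      exact isReduced_of_injective (Algebra.TensorProduct.rid q.ResidueField q.ResidueField
        (AlgebraicClosure q.ResidueField)).toRingEquiv (RingEquiv.injective _)
    exact Algebra.IsGeometricallyReduced.of_injective e.symm.toAlgHom e.symm.injective

end fibres

section core'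

variable (R : Type u) [CommRing R] [IsDomain R] [IsDiscreteValuationRing R]
  (K L : Type u) [Field K] [Algebra R K] [IsFractionRing R K] [Field L] [Algebra K L] [Algebra R L]
  [IsScalarTower R K L] [FiniteDimensional K L] [IsPurelyInseparable K L]
  (C : Type u) [CommRing C] [Algebra R C] [Module.FaithfullyFlat R C]

include K in
/-- Variant of `H87DVRJap.finite_integralClosure`: `C` complete with respect to a principal ideal
`(ϖ)` containing the image of `π`. -/
theorem finite_integralClosure' (π : R) (hπ : maximalIdeal R = Ideal.span {π}) (ϖ : C)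
    (hdiv : ϖ ∣ algebraMap R C π)
    [IsAdicComplete (Ideal.span {ϖ}) C] (hred : IsReduced (C ⊗[R] L)) :
    Module.Finite R (integralClosure R L) := by
  have hRL : Function.Injective (algebraMap R L) := by
    rw [IsScalarTower.algebraMap_eq R K L]
    exact (algebraMap K L).injective.comp (IsFractionRing.injective R K)
  haveI : FaithfulSMul R L := (faithfulSMul_iff_algebraMap_injective R L).mpr hRL
  haveI : Module.IsTorsionFree R (integralClosure R L) := inferInstance
  haveI : Module.Flat R (integralClosure R L) := inferInstance
  obtain ⟨m, x, hx⟩ := exists_fin_span_mod R K L (integralClosure R L)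
    (integralClosure R L).val.toLinearMap Subtype.val_injective
  set J : Ideal C := Ideal.span {ϖ} with hJ
  haveI : IsHausdorff J (C ⊗[R] integralClosure R L) :=
    isHausdorff_tensor R K L C ϖ inferInstance hred
  haveI : IsPrecomplete J (Fin m → C) :=
    (Groth.Agent.Lib.NormalDecomp58.isAdicComplete_pi J (Fin m)).toIsPrecomplete
  let f : (Fin m → C) →ₗ[C] C ⊗[R] integralClosure R L :=
    Fintype.linearCombination C (fun i => (1 : C) ⊗ₜ[R] x i)
  have key : ∀ t : C ⊗[R] integralClosure R L, ∃ c : Fin m → C,
      t - f c ∈ (J • ⊤ : Submodule C (C ⊗[R] integralClosure R L)) := by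
    intro t
    induction t using TensorProduct.induction_on with
    | zero => exact ⟨0, by simp⟩
    | tmul a s =>
      obtain ⟨r, hr⟩ := hx s
      rw [hπ, Submodule.ideal_span_singleton_smul, Submodule.mem_smul_pointwise_iff_exists] at hr
      obtain ⟨s', -, hs'⟩ := hr
      refine ⟨fun i => a * algebraMap R C (r i), ?_⟩
      have h1 : s = ∑ i, r i • x i + π • s' := by rw [hs']; abel
      have h2 : a ⊗ₜ[R] s - f (fun i => a * algebraMap R C (r i)) =
          algebraMap R C π • (a ⊗ₜ[R] s') := by
        rw [h1, TensorProduct.tmul_add, TensorProduct.tmul_sum, Fintype.linearCombination_apply]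
        have : ∀ i, a ⊗ₜ[R] (r i • x i) = (a * algebraMap R C (r i)) • ((1 : C) ⊗ₜ[R] x i) := by
          intro i
          rw [TensorProduct.smul_tmul', smul_eq_mul, mul_one, TensorProduct.tmul_smul,
            TensorProduct.smul_tmul', Algebra.smul_def, mul_comm]
        simp_rw [this]
        rw [add_sub_cancel_left, TensorProduct.tmul_smul, TensorProduct.smul_tmul',
          TensorProduct.smul_tmul', smul_eq_mul, Algebra.smul_def]
      rw [h2]
      exact Submodule.smul_mem_smul (Ideal.mem_span_singleton.mpr hdiv) trivial
    | add y z hy hz =>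
      obtain ⟨c, hc⟩ := hy
      obtain ⟨d, hd⟩ := hz
      refine ⟨c + d, ?_⟩
      have : y + z - f (c + d) = (y - f c) + (z - f d) := by rw [map_add]; abel
      rw [this]
      exact add_mem hc hd
  have hsurj : Function.Surjective
      ((J • ⊤ : Submodule C (C ⊗[R] integralClosure R L)).mkQ ∘ₗ f) := by
    intro y
    obtain ⟨t, rfl⟩ := Submodule.mkQ_surjective _ y
    obtain ⟨c, hc⟩ := key t
    refine ⟨c, ?_⟩
    rw [LinearMap.comp_apply, eq_comm, Submodule.mkQ_apply, Submodule.mkQ_apply,
      Submodule.Quotient.eq]
    exact hc
  have hf : Function.Surjective f := surjective_of_mkQ_comp_surjective (I := J) hsurj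
  haveI : Module.Finite C (C ⊗[R] integralClosure R L) := Module.Finite.of_surjective f hf
  exact Module.Finite.of_finite_tensorProduct_of_faithfullyFlat C

end core'

section ext

/-- **N-2 descends along separable algebraic extensions of DVRs.** -/
theorem isN2_of_ext (A B K L : Type u) [CommRing A] [IsDomain A] [IsDiscreteValuationRing A]
    [CommRing B] [IsDomain B] [IsDiscreteValuationRing B] [Algebra A B]
    [IsLocalHom (algebraMap A B)] (hinj : Function.Injective (algebraMap A B))
    [Field K] [Field L] [Algebra A K] [IsFractionRing A K] [Algebra B L] [IsFractionRing B L]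
    [Algebra K L] [Algebra A L] [IsScalarTower A K L] [IsScalarTower A B L]
    [Algebra.IsSeparable K L] (hB : CAlg.IsN2 B) : CAlg.IsN2 A := by
  apply Groth.Agent.S4562.result
  intro K' _ _ _ _ hfd hpi
  haveI := hfd
  haveI := hpi
  -- `K'` as a `K`-algebra
  have hAK' : Function.Injective (algebraMap A K') := by
    rw [IsScalarTower.algebraMap_eq A (FractionRing A) K']
    exact (algebraMap (FractionRing A) K').injective.comp
      (IsFractionRing.injective A (FractionRing A))
  letI algK : Algebra K K' := (IsFractionRing.lift (K := K) hAK').toAlgebra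
  haveI : IsScalarTower A K K' :=
    IsScalarTower.of_algebraMap_eq (fun r => by
      rw [RingHom.algebraMap_toAlgebra, IsFractionRing.lift_algebraMap])
  -- the completion of `B`
  haveI : FaithfulSMul A B := (faithfulSMul_iff_algebraMap_injective A B).mpr hinj
  haveI : Module.IsTorsionFree A B := inferInstance
  haveI : Module.Flat A B := inferInstance
  haveI : IsScalarTower A B (AdicCompletion (maximalIdeal B) B) :=
    IsScalarTower.of_algebraMap_eq (fun r => rfl)
  haveI : Module.Flat A (AdicCompletion (maximalIdeal B) B) :=
    Module.Flat.trans A B (AdicCompletion (maximalIdeal B) B)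
  haveI : IsLocalHom (algebraMap A (AdicCompletion (maximalIdeal B) B)) := by
    rw [IsScalarTower.algebraMap_eq A B (AdicCompletion (maximalIdeal B) B)]
    exact RingHom.isLocalHom_comp _ _
  haveI : Module.FaithfullyFlat A (AdicCompletion (maximalIdeal B) B) :=
    Module.FaithfullyFlat.of_flat_of_isLocalHom
  haveI : Module.FaithfullyFlat B (AdicCompletion (maximalIdeal B) B) :=
    Module.FaithfullyFlat.of_flat_of_isLocalHom
  -- reducedness
  have hred : IsReduced (AdicCompletion (maximalIdeal B) B ⊗[A] K') := by
    -- (a)
    haveI : Algebra.FormallyEtale K L := Algebra.FormallyEtale.of_isSeparable K L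
    haveI : Algebra.FormallySmooth K L := inferInstance
    haveI : Algebra.IsGeometricallyReduced K L :=
      (Groth.Agent.Lib.MacLane4H44.formallySmooth_iff_isGeometricallyReduced K L).mp inferInstance
    have ha : IsReduced (L ⊗[K] K') :=
      Groth.Agent.Lib.MacLane5H44.isReduced_tensor_of_isGeometricallyReduced_field K L K'
    -- (b)
    have hb : IsReduced (L ⊗[A] K') :=
      isReduced_of_injective
        (IsLocalization.algebraTensorEquiv (nonZeroDivisors A) K L K').symm.toRingEquiv
        (RingEquiv.injective _)
    -- (c)
    haveI : FaithfulSMul A K' := (faithfulSMul_iff_algebraMap_injective A K').mpr hAK'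
    haveI : Module.IsTorsionFree A K' := inferInstance
    haveI : Module.Flat A K' := inferInstance
    have hBL : Function.Injective (IsScalarTower.toAlgHom A B L) :=
      IsFractionRing.injective B L
    have hc : IsReduced (B ⊗[A] K') := by
      refine isReduced_of_injective
        (Algebra.TensorProduct.map (IsScalarTower.toAlgHom A B L) (AlgHom.id A K')) ?_
      exact Module.Flat.rTensor_preserves_injective_linearMap (M := K')
        (IsScalarTower.toAlgHom A B L).toLinearMap hBL
    -- (e)
    have he : IsReduced (AdicCompletion (maximalIdeal B) B ⊗[B] (B ⊗[A] K')) :=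
      Groth.Agent.Lib.GeomReducedFibres.isReduced_tensorProduct_of_geomReducedFibres B
        (AdicCompletion (maximalIdeal B) B) (fun q _ => geomReducedFibres_of_isN2 B hB q)
        (B ⊗[A] K')
    -- (f)
    exact isReduced_of_injective
      (Algebra.TensorProduct.cancelBaseChange A B (AdicCompletion (maximalIdeal B) B)
        (AdicCompletion (maximalIdeal B) B) K').symm.toRingEquiv (RingEquiv.injective _)
  -- apply the core
  obtain ⟨πA, hπA⟩ := IsDiscreteValuationRing.exists_irreducible A
  obtain ⟨πB, hπB⟩ := IsDiscreteValuationRing.exists_irreducible B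
  haveI := isAdicComplete_cpl B πB hπB
  have hdiv : algebraMap B (AdicCompletion (maximalIdeal B) B) πB ∣
      algebraMap A (AdicCompletion (maximalIdeal B) B) πA := by
    have h1 : algebraMap A B πA ∈ maximalIdeal B := by
      rw [IsLocalRing.mem_maximalIdeal, mem_nonunits_iff]
      intro hu
      exact hπA.not_isUnit (isUnit_of_map_unit (algebraMap A B) _ hu)
    rw [hπB.maximalIdeal_eq, Ideal.mem_span_singleton] at h1
    obtain ⟨b, hb⟩ := h1
    rw [IsScalarTower.algebraMap_apply A B (AdicCompletion (maximalIdeal B) B), hb, map_mul]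
    exact dvd_mul_right _ _
  exact finite_integralClosure' A (FractionRing A) K' (AdicCompletion (maximalIdeal B) B) πA
    hπA.maximalIdeal_eq _ hdiv hred

end ext

end Groth.Agent.Lib.H87DVRExt
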