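import Mathlib
import Groth.Agent.Lib.H87FirstSeqSmooth

/-!
# helper87: smooth effective Cartier divisors through a point (Stacks 0FUE-type)

* `formallySmooth_of_lTensor_injective`: `T` local, formally smooth over `R` with finite differentials,
  `κ ⊗ (T ⊗_P Ω[P/R]) → κ ⊗ Ω[T/R]` injective ⇒ `T` formally smooth over `P`.
* `lTensor_mapBaseChange_injective`: for `P = R[X]`, injectivity follows from `1 ⊗ d(image of X) ≠ 0`.
* `mem_nonZeroDivisors_of_flat`, `smooth_quotient_of_smooth`: for `B` flat (smooth) over `R[X]`, the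
  image of `X` is a nonzerodivisor (and `B/(X)` is smooth over `R`).
* `exists_away_smooth_quotient`: `A` smooth over `R`, `p` prime, `dh₀ ≠ 0` in `κ(p) ⊗ Ω`: on some
  `D(a) ∋ p`, `h₀` is a nonzerodivisor and `A_a/(h₀)` is smooth over `R`.
* `smooth_appLE_of_le`: `f` smooth on `W` ⇒ ring maps of affine charts inside `W` are smooth.
* `exists_smooth_divisor`: scheme version (statement of S9725).
-/

set_option autoImplicit false
set_option linter.style.haveILetI false
universe u
open TensorProduct KaehlerDifferential Polynomial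

namespace Groth.Agent.Lib.H87SmoothDiv

section loc

variable (R P T : Type u) [CommRing R] [CommRing P] [CommRing T] [Algebra R P] [Algebra P T]
  [Algebra R T] [IsScalarTower R P T] [IsLocalRing T]

/-- `T` local, formally smooth over `R` with finite differentials; if
`κ ⊗ (T ⊗_P Ω[P/R]) → κ ⊗ Ω[T/R]` is injective then `T` is formally smooth over `P`. -/
theorem formallySmooth_of_lTensor_injective [Algebra.FormallySmooth R T] [Module.Finite T Ω[T⁄R]]
    [Module.Finite P Ω[P⁄R]]
    (hinj : Function.Injective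
      ((mapBaseChange R P T).lTensor (IsLocalRing.ResidueField T))) :
    Algebra.FormallySmooth P T := by
  haveI : Module.Projective T Ω[T⁄R] := inferInstance
  haveI : Module.Free T Ω[T⁄R] := Module.free_of_flat_of_isLocalRing
  obtain ⟨l', hl'⟩ := (IsLocalRing.split_injective_iff_lTensor_residueField_injective
    (mapBaseChange R P T)).mpr hinj
  have hex := KaehlerDifferential.exact_mapBaseChange_map R P T
  have hsurj := KaehlerDifferential.map_surjective R P T
  have h12 := (hex.split_tfae').out 1 0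
  obtain ⟨hi, s, hs⟩ := h12.mp ⟨hsurj, l', hl'⟩
  haveI : Module.Projective T Ω[T⁄P] := Module.Projective.of_split s _ hs
  exact Groth.Agent.Lib.H87FirstSeqSmooth.formallySmooth_of_injective_mapBaseChange R P T hi

end loc

section onevar

variable {R T : Type u} [CommRing R] [CommRing T] [Algebra R T] [IsLocalRing T]
  [Algebra R[X] T] [IsScalarTower R R[X] T]

/-- every element of `κ ⊗ (T ⊗ Ω[R[X]/R])` is a multiple of `1 ⊗ (1 ⊗ dX)`. -/
theorem exists_eq_tmul_DX (z : (IsLocalRing.ResidueField T) ⊗[T] (T ⊗[R[X]] Ω[R[X]⁄R])) :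
    ∃ c : IsLocalRing.ResidueField T, z = c ⊗ₜ[T] ((1 : T) ⊗ₜ[R[X]] D R R[X] X) := by
  induction z using TensorProduct.induction_on with
  | zero => exact ⟨0, by simp⟩
  | add x y hx hy =>
    obtain ⟨c, rfl⟩ := hx
    obtain ⟨d, rfl⟩ := hy
    exact ⟨c + d, by rw [TensorProduct.add_tmul]⟩
  | tmul c m =>
    induction m using TensorProduct.induction_on with
    | zero => exact ⟨0, by simp⟩
    | add x y hx hy =>
      obtain ⟨c', hc'⟩ := hx
      obtain ⟨d', hd'⟩ := hy
      exact ⟨c' + d', by rw [TensorProduct.tmul_add, hc', hd', TensorProduct.add_tmul]⟩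
    | tmul t ω =>
      obtain ⟨q, rfl⟩ := (KaehlerDifferential.polynomialEquiv R).symm.surjective ω
      rw [KaehlerDifferential.polynomialEquiv_symm]
      refine ⟨c * IsLocalRing.residue T (t * algebraMap R[X] T q), ?_⟩
      have h1 : t ⊗ₜ[R[X]] (q • D R R[X] X) =
          (t * algebraMap R[X] T q) • ((1 : T) ⊗ₜ[R[X]] D R R[X] X) := by
        rw [TensorProduct.smul_tmul', ← TensorProduct.smul_tmul, smul_eq_mul, mul_one,
          Algebra.smul_def, mul_comm]
      rw [h1, TensorProduct.tmul_smul, TensorProduct.smul_tmul', Algebra.smul_def, mul_comm]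
      rfl

/-- if `1 ⊗ d(image of X) ≠ 0` in `κ ⊗ Ω[T/R]`, the residue map of `T ⊗ Ω[R[X]/R] → Ω[T/R]` is
injective. -/
theorem lTensor_mapBaseChange_injective
    (hne : (1 : IsLocalRing.ResidueField T) ⊗ₜ[T] D R T (algebraMap R[X] T X) ≠ 0) :
    Function.Injective ((mapBaseChange R R[X] T).lTensor (IsLocalRing.ResidueField T)) := by
  rw [injective_iff_map_eq_zero]
  intro z hz
  obtain ⟨c, rfl⟩ := exists_eq_tmul_DX z
  rw [LinearMap.lTensor_tmul, mapBaseChange_tmul, one_smul, map_D] at hz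
  by_cases hc : c = 0
  · rw [hc, TensorProduct.zero_tmul]
  · exfalso
    apply hne
    have : c⁻¹ • (c ⊗ₜ[T] D R T (algebraMap R[X] T X)) = 0 := by rw [hz, smul_zero]
    rwa [TensorProduct.smul_tmul', smul_eq_mul, inv_mul_cancel₀ hc] at this

end onevar

section quot

variable {R B : Type u} [CommRing R] [CommRing B] [Algebra R B] [Algebra R[X] B]
  [IsScalarTower R R[X] B]

theorem mem_nonZeroDivisors_of_flat [Module.Flat R[X] B] :
    algebraMap R[X] B X ∈ nonZeroDivisors B := by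
  have h0 : (X : R[X]) ∈ nonZeroDivisors R[X] := Polynomial.X_mem_nonzeroDivisors
  have h1 : IsSMulRegular B (X : R[X]) :=
    Module.Flat.isSMulRegular_of_nonZeroDivisors (R := R[X]) (M := B) h0
  rw [mem_nonZeroDivisors_iff_right]
  intro z hz
  apply h1
  simp only [smul_zero]
  rw [Algebra.smul_def, mul_comm]
  exact hz

theorem smooth_quotient_of_smooth [Algebra.Smooth R[X] B] :
    Algebra.Smooth R (B ⧸ Ideal.span {algebraMap R[X] B X}) := by
  let I : Ideal R[X] := Ideal.span {X - C (0 : R)}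
  have hI : I.map (algebraMap R[X] B) = Ideal.span {algebraMap R[X] B X} := by
    simp [I, Ideal.map_span]
  haveI : Algebra.Smooth R (R[X] ⧸ I) :=
    Algebra.Smooth.of_equiv (Polynomial.quotientSpanXSubCAlgEquiv (0 : R)).symm
  let e : (B ⧸ I.map (algebraMap R[X] B)) ≃ₐ[R[X] ⧸ I] (R[X] ⧸ I) ⊗[R[X]] B :=
    Algebra.TensorProduct.quotIdealMapEquivQuotTensor B I
  haveI : Algebra.Smooth (R[X] ⧸ I) (B ⧸ I.map (algebraMap R[X] B)) :=
    Algebra.Smooth.of_equiv (A := (R[X] ⧸ I) ⊗[R[X]] B) e.symm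
  haveI : IsScalarTower R (R[X] ⧸ I) (B ⧸ I.map (algebraMap R[X] B)) := by
    refine IsScalarTower.of_algebraMap_eq (R := R) (S := R[X] ⧸ I)
      (A := B ⧸ I.map (algebraMap R[X] B)) (fun r => ?_)
    have h1 : algebraMap R (B ⧸ I.map (algebraMap R[X] B)) r =
        Ideal.Quotient.mk _ (algebraMap R B r) := rfl
    have h2 : algebraMap R (R[X] ⧸ I) r = Ideal.Quotient.mk I (C r) := rfl
    rw [h1, h2, IsScalarTower.algebraMap_apply R R[X] B]
    rfl
  haveI : Algebra.Smooth R (B ⧸ I.map (algebraMap R[X] B)) :=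
    Algebra.Smooth.comp R (R[X] ⧸ I) _
  exact Algebra.Smooth.of_equiv (Ideal.quotientEquivAlgOfEq R hI)

end quot

section main

variable {R A : Type u} [CommRing R] [CommRing A] [Algebra R A]

theorem exists_away_smooth_quotient [Algebra.Smooth R A] (p : Ideal A) [p.IsPrime]
    (T : Type u) [CommRing T] [Algebra A T] [Algebra R T] [IsScalarTower R A T]
    [IsLocalization.AtPrime T p] [IsLocalRing T] (h₀ : A)
    (hne : (1 : IsLocalRing.ResidueField T) ⊗ₜ[T] D R T (algebraMap A T h₀) ≠ 0) :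
    ∃ a ∉ p, ∀ (B : Type u) [CommRing B] [Algebra A B] [IsLocalization.Away a B],
      algebraMap A B h₀ ∈ nonZeroDivisors B ∧
      ((Ideal.Quotient.mk (Ideal.span {algebraMap A B h₀})).comp
        ((algebraMap A B).comp (algebraMap R A))).Smooth := by
  letI : Algebra R[X] A := (Polynomial.aeval (R := R) h₀).toRingHom.toAlgebra
  have hX : algebraMap R[X] A X = h₀ := by
    change Polynomial.aeval (R := R) h₀ X = h₀
    simp
  haveI : IsScalarTower R R[X] A := IsScalarTower.of_algebraMap_eq (fun r => by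
    change _ = Polynomial.aeval (R := R) h₀ (C r)
    simp)
  letI : Algebra R[X] T := ((algebraMap A T).comp (algebraMap R[X] A)).toAlgebra
  haveI : IsScalarTower R[X] A T := IsScalarTower.of_algebraMap_eq' rfl
  haveI : IsScalarTower R R[X] T := IsScalarTower.of_algebraMap_eq (fun r => by
    rw [IsScalarTower.algebraMap_apply R A T, IsScalarTower.algebraMap_apply R R[X] A]
    rfl)
  haveI : Algebra.FormallySmooth A T := Algebra.FormallySmooth.of_isLocalization p.primeCompl
  haveI : Algebra.FormallySmooth R T := Algebra.FormallySmooth.comp R A T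
  haveI : Algebra.EssFiniteType A T := Algebra.EssFiniteType.of_isLocalization T p.primeCompl
  haveI : Algebra.EssFiniteType R T := Algebra.EssFiniteType.comp R A T
  have hsm : Algebra.FormallySmooth R[X] T :=
    formallySmooth_of_lTensor_injective R R[X] T (lTensor_mapBaseChange_injective (by
      rwa [IsScalarTower.algebraMap_apply R[X] A T, hX]))
  haveI : Algebra.IsSmoothAt R[X] p := by
    let e : T ≃ₐ[A] Localization.AtPrime p := IsLocalization.algEquiv p.primeCompl T _
    exact Algebra.FormallySmooth.of_equiv (e.restrictScalars R[X])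
  haveI : Algebra.FinitePresentation R[X] A :=
    Algebra.FinitePresentation.of_restrict_scalars_finitePresentation R R[X] A
  obtain ⟨a, hap, ha⟩ := Algebra.IsSmoothAt.exists_notMem_smooth R[X] p
  refine ⟨a, hap, fun B _ _ _ => ?_⟩
  letI : Algebra R[X] B := ((algebraMap A B).comp (algebraMap R[X] A)).toAlgebra
  haveI : IsScalarTower R[X] A B := IsScalarTower.of_algebraMap_eq' rfl
  letI : Algebra R B := ((algebraMap A B).comp (algebraMap R A)).toAlgebra
  haveI : IsScalarTower R A B := IsScalarTower.of_algebraMap_eq' rfl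
  haveI : IsScalarTower R R[X] B := IsScalarTower.of_algebraMap_eq (fun r => by
    rw [IsScalarTower.algebraMap_apply R A B, IsScalarTower.algebraMap_apply R R[X] A]
    rfl)
  let e : Localization.Away a ≃ₐ[A] B := IsLocalization.algEquiv (.powers a) _ _
  haveI : Algebra.Smooth R[X] B := Algebra.Smooth.of_equiv (e.restrictScalars R[X])
  have hXB : algebraMap R[X] B X = algebraMap A B h₀ := by
    rw [IsScalarTower.algebraMap_apply R[X] A B, hX]
  refine ⟨?_, ?_⟩
  · rw [← hXB]
    exact mem_nonZeroDivisors_of_flat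
  · have h1 : Algebra.Smooth R (B ⧸ Ideal.span {algebraMap R[X] B X}) :=
      smooth_quotient_of_smooth
    rw [hXB] at h1
    rw [← RingHom.smooth_algebraMap] at h1
    exact h1

end main

section scheme
open AlgebraicGeometry CategoryTheory

variable {X S : Scheme.{u}} (f : X ⟶ S)

/-- smooth on `W` ⇒ the ring maps of affine charts inside `W` are smooth -/
theorem smooth_appLE_of_le (W : X.Opens) (hW : Smooth (W.ι ≫ f)) {V : S.Opens}
    (hV : IsAffineOpen V) {U : X.Opens} (hU : IsAffineOpen U) (hUW : U ≤ W) (e : U ≤ f ⁻¹ᵁ V) :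
    (f.appLE V U e).hom.Smooth := by
  have h1 : Smooth (hU.fromSpec ≫ f) := by
    have h0 : hU.fromSpec ≫ f = hU.isoSpec.inv ≫ X.homOfLE hUW ≫ (W.ι ≫ f) := by
      rw [IsAffineOpen.fromSpec, Category.assoc, ← Category.assoc (X.homOfLE hUW),
        Scheme.homOfLE_ι]
    rw [h0]
    infer_instance
  rw [← IsAffineOpen.SpecMap_appLE_fromSpec f hV hU e] at h1
  have h2 : Smooth (Spec.map (f.appLE V U e)) :=
    MorphismProperty.of_postcomp (W := @Smooth) (W' := MorphismProperty.monomorphisms Scheme)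
      _ hV.fromSpec (inferInstanceAs (Mono hV.fromSpec)) h1
  exact (HasRingHomProperty.Spec_iff (P := @Smooth)).mp h2

theorem exists_smooth_divisor (x : X) (W : X.Opens) (hxW : x ∈ W) (hW : Smooth (W.ι ≫ f))
    (h : ↑(X.presheaf.stalk x))
    (hd : letI := (f.stalkMap x).hom.toAlgebra
      (1 : IsLocalRing.ResidueField ↑(X.presheaf.stalk x)) ⊗ₜ[↑(X.presheaf.stalk x)]
          (KaehlerDifferential.D ↑(S.presheaf.stalk (f x)) ↑(X.presheaf.stalk x) h) ≠ 0) :
    ∃ (U : X.Opens) (hU : IsAffineOpen U) (hx : x ∈ U) (h' : Γ(X, U)),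
      X.presheaf.germ U x hx h' = h ∧ h' ∈ nonZeroDivisors Γ(X, U) ∧
      Smooth (Spec.map (CommRingCat.ofHom (Ideal.Quotient.mk (Ideal.span {h'}))) ≫
        hU.fromSpec ≫ f) := by
  obtain ⟨_, ⟨V, hV, rfl⟩, hxV, -⟩ :=
    S.isBasis_affineOpens.exists_subset_of_mem_open (Set.mem_univ (f x)) isOpen_univ
  obtain ⟨O, hxO, s, hs⟩ := X.presheaf.germ_exist (x := x) h
  obtain ⟨_, ⟨U₀, hU₀, rfl⟩, hxU₀, hU₀le⟩ :=
    X.isBasis_affineOpens.exists_subset_of_mem_open
      (show x ∈ (O ⊓ W ⊓ f ⁻¹ᵁ V : X.Opens) from ⟨⟨hxO, hxW⟩, hxV⟩) (O ⊓ W ⊓ f ⁻¹ᵁ V).isOpen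
  have hU₀O : U₀ ≤ O := fun y hy => (hU₀le hy).1.1
  have hU₀W : U₀ ≤ W := fun y hy => (hU₀le hy).1.2
  have e₀ : U₀ ≤ f ⁻¹ᵁ V := fun y hy => (hU₀le hy).2
  let h₀ : Γ(X, U₀) := X.presheaf.map (homOfLE hU₀O).op s
  have hh₀ : X.presheaf.germ U₀ x hxU₀ h₀ = h := by
    rw [← hs]
    exact TopCat.Presheaf.germ_res_apply _ _ _ _ _
  letI : Algebra Γ(S, V) Γ(X, U₀) := (f.appLE V U₀ e₀).hom.toAlgebra
  haveI : Algebra.Smooth Γ(S, V) Γ(X, U₀) := smooth_appLE_of_le f W hW hV hU₀ hU₀W e₀
  letI : Algebra Γ(X, U₀) (X.presheaf.stalk x) := (X.presheaf.germ U₀ x hxU₀).hom.toAlgebra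
  haveI : IsLocalization.AtPrime (X.presheaf.stalk x) (hU₀.primeIdealOf ⟨x, hxU₀⟩).asIdeal :=
    hU₀.isLocalization_stalk ⟨x, hxU₀⟩
  letI : Algebra Γ(S, V) (X.presheaf.stalk x) :=
    ((algebraMap Γ(X, U₀) (X.presheaf.stalk x)).comp (algebraMap Γ(S, V) Γ(X, U₀))).toAlgebra
  haveI : IsScalarTower Γ(S, V) Γ(X, U₀) (X.presheaf.stalk x) := IsScalarTower.of_algebraMap_eq' rfl
  letI : Algebra (S.presheaf.stalk (f x)) (X.presheaf.stalk x) := (f.stalkMap x).hom.toAlgebra
  letI : Algebra Γ(S, V) (S.presheaf.stalk (f x)) := (S.presheaf.germ V (f x) hxV).hom.toAlgebra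
  haveI : IsScalarTower Γ(S, V) (S.presheaf.stalk (f x)) (X.presheaf.stalk x) := by
    refine IsScalarTower.of_algebraMap_eq (fun r => ?_)
    change X.presheaf.germ U₀ x hxU₀ (f.appLE V U₀ e₀ r) =
      f.stalkMap x (S.presheaf.germ V (f x) hxV r)
    rw [Scheme.Hom.germ_stalkMap_apply, Scheme.Hom.appLE]
    exact TopCat.Presheaf.germ_res_apply _ _ _ _ _
  have hne : (1 : IsLocalRing.ResidueField (X.presheaf.stalk x)) ⊗ₜ[X.presheaf.stalk x]
      D Γ(S, V) (X.presheaf.stalk x) (algebraMap Γ(X, U₀) (X.presheaf.stalk x) h₀) ≠ 0 := by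
    intro h0
    apply hd
    have := congrArg ((KaehlerDifferential.map Γ(S, V) (S.presheaf.stalk (f x))
      (X.presheaf.stalk x) (X.presheaf.stalk x)).lTensor
        (IsLocalRing.ResidueField (X.presheaf.stalk x))) h0
    rw [LinearMap.lTensor_tmul, map_D, map_zero] at this
    have h2 : algebraMap Γ(X, U₀) (X.presheaf.stalk x) h₀ = h := hh₀
    rw [h2] at this
    exact this
  obtain ⟨a, hap, hB⟩ := exists_away_smooth_quotient (hU₀.primeIdealOf ⟨x, hxU₀⟩).asIdeal
    (X.presheaf.stalk x) h₀ hne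
  have hxa : x ∈ X.basicOpen a := by
    rw [Scheme.mem_basicOpen _ _ _ hxU₀]
    exact (IsLocalization.AtPrime.isUnit_to_map_iff (X.presheaf.stalk x)
      (hU₀.primeIdealOf ⟨x, hxU₀⟩).asIdeal a).mpr hap
  haveI : IsLocalization.Away a Γ(X, X.basicOpen a) := hU₀.isLocalization_basicOpen a
  obtain ⟨hnzd, hsm⟩ := hB Γ(X, X.basicOpen a)
  refine ⟨X.basicOpen a, hU₀.basicOpen a, hxa, algebraMap Γ(X, U₀) Γ(X, X.basicOpen a) h₀,
    ?_, hnzd, ?_⟩
  · rw [← hh₀]
    exact TopCat.Presheaf.germ_res_apply _ _ _ _ _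
  · have e₁ : X.basicOpen a ≤ f ⁻¹ᵁ V := (X.basicOpen_le a).trans e₀
    rw [← IsAffineOpen.SpecMap_appLE_fromSpec f hV (hU₀.basicOpen a) e₁, ← Category.assoc,
      ← Spec.map_comp]
    haveI : Smooth (Spec.map (f.appLE V (X.basicOpen a) e₁ ≫
        CommRingCat.ofHom (Ideal.Quotient.mk (Ideal.span
          {algebraMap Γ(X, U₀) Γ(X, X.basicOpen a) h₀})))) := by
      rw [HasRingHomProperty.Spec_iff (P := @Smooth)]
      have hψ : (f.appLE V (X.basicOpen a) e₁ ≫
          CommRingCat.ofHom (Ideal.Quotient.mk (Ideal.span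
            {algebraMap Γ(X, U₀) Γ(X, X.basicOpen a) h₀}))).hom =
          (Ideal.Quotient.mk (Ideal.span {algebraMap Γ(X, U₀) Γ(X, X.basicOpen a) h₀})).comp
            ((algebraMap Γ(X, U₀) Γ(X, X.basicOpen a)).comp (algebraMap Γ(S, V) Γ(X, U₀))) := by
        rw [← f.appLE_map e₀ (homOfLE (X.basicOpen_le a)).op]
        rfl
      rw [hψ]
      exact hsm
    infer_instance

end scheme

end Groth.Agent.Lib.H87SmoothDiv
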