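import Mathlib
import Groth.Agent.Lib.H87SecReg
import Groth.Agent.Lib.H87SmoothRank
import Groth.Agent.Lib.H87FirstSeqSmooth
import Groth.Agent.Lib.H77OmegaSections
import Groth.Agent.Lib.RegSpreadGeom

/-!
# H87DiagReg: the diagonal of a separated smooth morphism of relative dimension `n` is a regular
immersion of codimension `n`

`exists_regular_at_diagonal f n z`: for `f : X ⟶ S` separated and smooth of relative dimension `n`
and `z : X`, there is an affine open `U ∋ Δ z` of `X ×_S X` on which the ideal of the diagonal is
generated by a regular sequence of length `n`.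
-/

set_option autoImplicit false
set_option linter.style.haveILetI false
universe u
open TensorProduct KaehlerDifferential IsLocalRing
open CategoryTheory CategoryTheory.Limits AlgebraicGeometry TopologicalSpace

namespace Groth.Agent.Lib.H87DiagReg

/-- the fibre of `Ω` at a prime of a standard smooth algebra of relative dimension `n` has
dimension `n` -/
theorem finrank_tensor_kaehler_of_isStandardSmooth (A B' T : Type u) [CommRing A] [CommRing B']
    [CommRing T] [Algebra A B'] [Algebra B' T] [Algebra A T] [IsScalarTower A B' T] [IsLocalRing T]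
    (q : Ideal B') [q.IsPrime] [IsLocalization.AtPrime T q] (n : ℕ)
    [Algebra.IsStandardSmoothOfRelativeDimension n A B'] :
    Module.finrank (ResidueField T) (ResidueField T ⊗[T] Ω[T⁄A]) = n := by
  haveI : Nontrivial B' := (algebraMap B' T).domain_nontrivial
  obtain ⟨b⟩ := Groth.Agent.Lib.H87SmoothRank.nonempty_basis_kaehler (R := A) (S := B') n
  haveI : Algebra.FormallyEtale B' T := Algebra.FormallyEtale.of_isLocalization q.primeCompl
  let e := KaehlerDifferential.tensorKaehlerEquivOfFormallyEtale A B' T
  let bT : Module.Basis (Fin n) T Ω[T⁄A] := (b.baseChange T).map e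
  let bκ := bT.baseChange (ResidueField T)
  rw [Module.finrank_eq_card_basis bκ, Fintype.card_fin]

open Groth.Agent.Lib.H77OmegaSections

variable {X S : Scheme.{u}} (f : X ⟶ S)

/-- **The diagonal of a separated smooth morphism of relative dimension `n` is regular of
codimension `n`** (local form at a point). -/
theorem exists_regular_at_diagonal (n : ℕ) [SmoothOfRelativeDimension n f] [IsSeparated f] (z : X) :
    ∃ U : (pullback f f).affineOpens, pullback.diagonal f z ∈ U.1 ∧
      IsClosedImmersion (pullback.diagonal f ∣_ U.1) ∧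
      ∃ rs : List Γ(pullback f f, U.1), rs.length = n ∧
        RingTheory.Sequence.IsRegular Γ(pullback f f, U.1) rs ∧
        RingHom.ker ((pullback.diagonal f).app U.1).hom = Ideal.ofList rs := by
  haveI : Smooth f := SmoothOfRelativeDimension.smooth n f
  -- charts
  obtain ⟨_, ⟨U₀, hU₀, rfl⟩, hzU₀, -⟩ :=
    S.isBasis_affineOpens.exists_subset_of_mem_open (Set.mem_univ (f z)) isOpen_univ
  obtain ⟨_, ⟨V, hV, rfl⟩, hzV, hVU⟩ :=
    X.isBasis_affineOpens.exists_subset_of_mem_open (show z ∈ f ⁻¹ᵁ U₀ from hzU₀) (f ⁻¹ᵁ U₀).isOpen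
  have e : V ≤ f ⁻¹ᵁ U₀ := hVU
  have hW : IsAffineOpen (WW f V) := isAffineOpen_WW f e hU₀ hV
  have hwW : pullback.diagonal f z ∈ WW f V := le_diag_preimage f hzV
  haveI : SmoothOfRelativeDimension n (pullback.snd f f) := by
    haveI := smoothOfRelativeDimension_isStableUnderBaseChange (n := n)
    exact MorphismProperty.pullback_snd (P := @SmoothOfRelativeDimension n) f f inferInstance
  haveI : Smooth (pullback.snd f f) := SmoothOfRelativeDimension.smooth n _
  -- rings
  let φ := (pullback.snd f f).appLE V (WW f V) (WW_le_snd f V)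
  let σ₀ := (pullback.diagonal f).appLE (WW f V) V (le_diag_preimage f)
  have hφσ : ∀ a, σ₀.hom (φ.hom a) = a := by
    intro a
    have h1 : φ ≫ σ₀ = Scheme.Hom.appLE (𝟙 X) V V (by simp) := by
      simp only [φ, σ₀]
      rw [Scheme.Hom.appLE_comp_appLE]
      simp only [pullback.diagonal_snd]
    have h2 := congr($(h1).hom a)
    rw [id_appLE_apply] at h2
    exact h2
  letI algAB : Algebra Γ(X, V) Γ(pullback f f, WW f V) := φ.hom.toAlgebra
  let σ : Γ(pullback f f, WW f V) →ₐ[Γ(X, V)] Γ(X, V) :=
    { σ₀.hom with commutes' := fun a => hφσ a }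
  letI algBT : Algebra Γ(pullback f f, WW f V) ((pullback f f).presheaf.stalk (pullback.diagonal f z)) :=
    (pullback f f).presheaf.algebra_section_stalk ⟨pullback.diagonal f z, hwW⟩
  haveI hloc : IsLocalization.AtPrime ((pullback f f).presheaf.stalk (pullback.diagonal f z))
      (hW.primeIdealOf ⟨pullback.diagonal f z, hwW⟩).asIdeal :=
    hW.isLocalization_stalk ⟨pullback.diagonal f z, hwW⟩
  letI algAT : Algebra Γ(X, V) ((pullback f f).presheaf.stalk (pullback.diagonal f z)) :=
    ((algebraMap Γ(pullback f f, WW f V)
      ((pullback f f).presheaf.stalk (pullback.diagonal f z))).comp φ.hom).toAlgebra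
  haveI : IsScalarTower Γ(X, V) Γ(pullback f f, WW f V)
      ((pullback f f).presheaf.stalk (pullback.diagonal f z)) := IsScalarTower.of_algebraMap_eq' rfl
  have hp : RingHom.ker σ.toRingHom ≤ (hW.primeIdealOf ⟨pullback.diagonal f z, hwW⟩).asIdeal := by
    have h := IsAffineOpen.comap_primeIdealOf_appLE (f := pullback.diagonal f) (x := z) (WW f V) hW V hV
      (le_diag_preimage f) hzV
    rw [← h]
    intro b hb
    change σ₀.hom b ∈ (hV.primeIdealOf ⟨z, hzV⟩).asIdeal
    rw [show σ₀.hom b = 0 from hb]
    exact zero_mem _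
  -- the rank
  have hsmAB : Algebra.Smooth Γ(X, V) Γ(pullback f f, WW f V) := by
    have : RingHom.Smooth φ.hom := HasRingHomProperty.appLE (P := @Smooth) (pullback.snd f f)
      inferInstance ⟨V, hV⟩ ⟨WW f V, hW⟩ (WW_le_snd f V)
    exact this
  have hrank : Module.finrank (ResidueField ((pullback f f).presheaf.stalk (pullback.diagonal f z)))
      (ResidueField ((pullback f f).presheaf.stalk (pullback.diagonal f z))
        ⊗[(pullback f f).presheaf.stalk (pullback.diagonal f z)]
        Ω[(pullback f f).presheaf.stalk (pullback.diagonal f z)⁄Γ(X, V)]) = n := by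
    obtain ⟨r, m, hwr, hstd, hdim⟩ :=
      Groth.Agent.Lib.H87SmoothRank.exists_basicOpen_isStandardSmooth (pullback.snd f f)
        (pullback.diagonal f z) hV hW (WW_le_snd f V) hwW
    have hdim' := Groth.Agent.Lib.H87FirstSeqSmooth.fibreDimAt_eq_of_smoothOfRelativeDimension n
      (pullback.snd f f) (pullback.diagonal f z)
    rw [hdim'] at hdim
    have hnm : n = m := by exact_mod_cast hdim
    subst hnm
    have hWr : IsAffineOpen ((pullback f f).basicOpen r) := hW.basicOpen r
    letI algABr : Algebra Γ(X, V) Γ(pullback f f, (pullback f f).basicOpen r) :=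
      ((pullback.snd f f).appLE V ((pullback f f).basicOpen r)
        (((pullback f f).basicOpen_le r).trans (WW_le_snd f V))).hom.toAlgebra
    haveI : Algebra.IsStandardSmoothOfRelativeDimension n Γ(X, V)
      Γ(pullback f f, (pullback f f).basicOpen r) := hstd
    letI algBrT : Algebra Γ(pullback f f, (pullback f f).basicOpen r)
        ((pullback f f).presheaf.stalk (pullback.diagonal f z)) :=
      (pullback f f).presheaf.algebra_section_stalk ⟨pullback.diagonal f z, hwr⟩
    haveI : IsLocalization.AtPrime ((pullback f f).presheaf.stalk (pullback.diagonal f z))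
        (hWr.primeIdealOf ⟨pullback.diagonal f z, hwr⟩).asIdeal :=
      hWr.isLocalization_stalk ⟨pullback.diagonal f z, hwr⟩
    haveI : IsScalarTower Γ(X, V) Γ(pullback f f, (pullback f f).basicOpen r)
        ((pullback f f).presheaf.stalk (pullback.diagonal f z)) :=
      IsScalarTower.of_algebraMap_eq (fun a => by
        change ((pullback f f).presheaf.germ (WW f V) (pullback.diagonal f z) hwW).hom (φ.hom a) =
          ((pullback f f).presheaf.germ ((pullback f f).basicOpen r) (pullback.diagonal f z) hwr).hom
            (((pullback.snd f f).appLE V ((pullback f f).basicOpen r)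
              (((pullback f f).basicOpen_le r).trans (WW_le_snd f V))).hom a)
        rw [← (pullback.snd f f).appLE_map (WW_le_snd f V)
          (homOfLE ((pullback f f).basicOpen_le r)).op]
        rw [CommRingCat.comp_apply, TopCat.Presheaf.germ_res_apply])
    exact finrank_tensor_kaehler_of_isStandardSmooth Γ(X, V)
      Γ(pullback f f, (pullback f f).basicOpen r) _
      (hWr.primeIdealOf ⟨pullback.diagonal f z, hwr⟩).asIdeal n
  -- apply the ring lemma
  obtain ⟨a, hs, hap, hmem, hB'⟩ := Groth.Agent.Lib.H87SecReg.exists_away_isWeaklyRegular σ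
    (hW.primeIdealOf ⟨pullback.diagonal f z, hwW⟩).asIdeal hp
    ((pullback f f).presheaf.stalk (pullback.diagonal f z)) n hrank
  have hWa : IsAffineOpen ((pullback f f).basicOpen a) := hW.basicOpen a
  letI algBB' : Algebra Γ(pullback f f, WW f V) Γ(pullback f f, (pullback f f).basicOpen a) :=
    ((pullback f f).presheaf.map (homOfLE ((pullback f f).basicOpen_le a)).op).hom.toAlgebra
  haveI : IsLocalization.Away a Γ(pullback f f, (pullback f f).basicOpen a) :=
    hW.isLocalization_basicOpen a
  obtain ⟨hreg, hker⟩ := hB' Γ(pullback f f, (pullback f f).basicOpen a)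
  have hΔ : IsClosedImmersion (pullback.diagonal f) := inferInstance
  haveI hcl : IsClosedImmersion (pullback.diagonal f ∣_ WW f V) :=
    IsZariskiLocalAtTarget.restrict hΔ _
  have hwa : pullback.diagonal f z ∈ (pullback f f).basicOpen a :=
    (Groth.Agent.Lib.ClosedImmStalk.mem_basicOpen_iff_notMem_primeIdealOf (WW f V) hW
      (pullback.diagonal f z) hwW a).mpr hap
  have hkerfinal : RingHom.ker ((pullback.diagonal f).app ((pullback f f).basicOpen a)).hom =
      Ideal.ofList (List.ofFn (fun i => algebraMap Γ(pullback f f, WW f V)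
        Γ(pullback f f, (pullback f f).basicOpen a) (hs i))) := by
    rw [← hker, Groth.Agent.Lib.RegSpreadGeom.ker_app_basicOpen (pullback.diagonal f) ⟨WW f V, hW⟩ a,
      ← ker_appLE_eq (pullback.diagonal f) (diag_preimage_WW f V)]
    rfl
  refine ⟨⟨(pullback f f).basicOpen a, hWa⟩, hwa, IsZariskiLocalAtTarget.restrict hΔ _,
    List.ofFn (fun i => algebraMap Γ(pullback f f, WW f V)
      Γ(pullback f f, (pullback f f).basicOpen a) (hs i)), List.length_ofFn, ⟨hreg, ?_⟩, hkerfinal⟩
  intro htop
  have h1 : Ideal.ofList (List.ofFn (fun i => algebraMap Γ(pullback f f, WW f V)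
      Γ(pullback f f, (pullback f f).basicOpen a) (hs i))) = ⊤ := by
    have := htop.symm
    rwa [smul_eq_mul, Ideal.mul_top] at this
  have h2 : (1 : Γ(pullback f f, (pullback f f).basicOpen a)) ∈
      RingHom.ker ((pullback.diagonal f).app ((pullback f f).basicOpen a)).hom := by
    rw [hkerfinal, h1]
    trivial
  rw [RingHom.mem_ker, map_one] at h2
  haveI : Nontrivial Γ(X, pullback.diagonal f ⁻¹ᵁ (pullback f f).basicOpen a) :=
    (X.presheaf.germ _ z hwa).hom.domain_nontrivial
  exact one_ne_zero h2

end Groth.Agent.Lib.H87DiagReg
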