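import Mathlib
import Groth.Agent.Lib.H87EtCoord

set_option autoImplicit false

universe u

open TensorProduct KaehlerDifferential IsLocalRing

namespace Groth.Agent.Lib.H87EtCoord2

open Groth.Agent.Lib.H87EtCoord

section main

variable {A B C : Type u} [CommRing A] [CommRing B] [CommRing C] [Algebra A B] [Algebra A C]

/-- **Étale coordinates adapted to a smooth quotient.** `B` f.p. over `A`, `φ : B ↠ C` with `C`
formally smooth and f.p. over `A`, `q ⊇ ker φ` a prime at which `B` is smooth. Then there are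
`f ∉ q`, `b₁,…,b_m ∈ B` and `g₁,…,g_n ∈ ker φ` such that `A[X,Y] → B_f`, `X ↦ b`, `Y ↦ g` is étale
and `ker φ · B_f = (g)`. -/
theorem exists_etale_coordinates_of_surjective [Algebra.FinitePresentation A B]
    [Algebra.FinitePresentation A C] [Algebra.FormallySmooth A C]
    (φ : B →ₐ[A] C) (hφ : Function.Surjective φ)
    (q : Ideal B) [q.IsPrime] (hq : RingHom.ker φ.toRingHom ≤ q) [Algebra.IsSmoothAt A q] :
    ∃ (f : B) (_ : f ∉ q) (m n : ℕ) (b : Fin m → B) (g : Fin n → B), (∀ k, φ (g k) = 0) ∧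
      ∀ (B' : Type u) [CommRing B'] [Algebra B B'] [IsLocalization.Away f B'],
        ((algebraMap B B').comp
          (MvPolynomial.aeval (R := A) (Sum.elim b g) :
            MvPolynomial (Fin m ⊕ Fin n) A →ₐ[A] B).toRingHom).Etale ∧
        (RingHom.ker φ.toRingHom).map (algebraMap B B') =
          Ideal.span (Set.range fun k => algebraMap B B' (g k)) := by
  classical
  set J : Ideal B := RingHom.ker φ.toRingHom with hJdef
  have hJ : J.FG := Algebra.FinitePresentation.ker_fG_of_surjective φ hφ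
  set T := Localization.AtPrime q with hT
  haveI : Algebra.FormallySmooth A T := ‹Algebra.IsSmoothAt A q›
  haveI : Algebra.EssFiniteType B T := Algebra.EssFiniteType.of_isLocalization T q.primeCompl
  haveI : Algebra.EssFiniteType A T := Algebra.EssFiniteType.comp A B T
  haveI : Algebra.FormallySmooth A (B ⧸ J) :=
    Algebra.FormallySmooth.of_equiv (Ideal.quotientKerAlgEquivOfSurjective hφ).symm
  haveI : Algebra.FormallySmooth B T := Algebra.FormallySmooth.of_isLocalization q.primeCompl
  haveI : Algebra.FormallySmooth A (T ⧸ J.map (algebraMap B T)) :=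
    Groth.Agent.Lib.H87SecReg.formallySmooth_quotient_map J
  obtain ⟨n, g, hmem, hli, hsp⟩ :=
    Groth.Agent.Lib.H87RegSmooth.exists_basis_D (A := A) (T := T) J q hq
  have hgen := Groth.Agent.Lib.H87RegSmooth.map_eq_span_of_tmul_D_mem (A := A) (T := T) J q hq hJ
    g hmem hsp
  obtain ⟨m, b, hli2, hsp2⟩ := exists_extend_basis A q _ hli
  -- the chart
  let h : Fin m ⊕ Fin n → B := Sum.elim b g
  letI : Algebra (MvPolynomial (Fin m ⊕ Fin n) A) B :=
    (MvPolynomial.aeval (R := A) h).toRingHom.toAlgebra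
  have hX : ∀ i, algebraMap (MvPolynomial (Fin m ⊕ Fin n) A) B (MvPolynomial.X i) = h i := by
    intro i
    change MvPolynomial.aeval (R := A) h (MvPolynomial.X i) = h i
    simp
  haveI : IsScalarTower A (MvPolynomial (Fin m ⊕ Fin n) A) B :=
    IsScalarTower.of_algebraMap_eq (fun r => by
      change _ = MvPolynomial.aeval (R := A) h (MvPolynomial.C r)
      simp)
  have hfam : (fun i : Fin m ⊕ Fin n => (1 : ResidueField T) ⊗ₜ[T] D A T (algebraMap B T
      (algebraMap (MvPolynomial (Fin m ⊕ Fin n) A) B (MvPolynomial.X i)))) =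
      (Sum.elim (fun i => (1 : ResidueField T) ⊗ₜ[T] D A T (algebraMap B T (g i)))
        (fun j => (1 : ResidueField T) ⊗ₜ[T] D A T (algebraMap B T (b j)))) ∘
        (Equiv.sumComm (Fin m) (Fin n)) := by
    funext i
    rw [hX]
    cases i <;> rfl
  haveI : Algebra.IsEtaleAt (MvPolynomial (Fin m ⊕ Fin n) A) q :=
    isEtaleAt_of_basis A q (by
      rw [hfam]
      exact hli2.comp _ (Equiv.sumComm (Fin m) (Fin n)).injective) (by
      rw [hfam, (Equiv.sumComm (Fin m) (Fin n)).surjective.range_comp]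
      exact hsp2)
  haveI : Algebra.FinitePresentation (MvPolynomial (Fin m ⊕ Fin n) A) B :=
    Algebra.FinitePresentation.of_restrict_scalars_finitePresentation A
      (MvPolynomial (Fin m ⊕ Fin n) A) B
  obtain ⟨f₁, hf₁q, hf₁⟩ :=
    Algebra.exists_etale_of_isEtaleAt (R := MvPolynomial (Fin m ⊕ Fin n) A) q
  obtain ⟨f₂, hf₂q, hf₂⟩ := Groth.Agent.Lib.H87SecReg.exists_notMem_mul_mem
    (T := T) J q hJ (Ideal.span (Set.range g)) (by
      rw [hgen, Ideal.map_span, ← Set.range_comp]
      rfl)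
  refine ⟨f₁ * f₂, ?_, m, n, b, g, fun k => hmem k, fun B' _ _ _ => ⟨?_, ?_⟩⟩
  · exact (Ideal.IsPrime.mul_mem_iff_mem_or_mem ‹q.IsPrime›).not.mpr (not_or.mpr ⟨hf₁q, hf₂q⟩)
  · have h1 : (PrimeSpectrum.basicOpen (f₁ * f₂) : Set (PrimeSpectrum B)) ⊆
        Algebra.etaleLocus (MvPolynomial (Fin m ⊕ Fin n) A) B :=
      fun x hx => Algebra.basicOpen_subset_etaleLocus_iff_etale.mpr hf₁
        (PrimeSpectrum.basicOpen_mul_le_left f₁ f₂ hx)
    have h2 : Algebra.Etale (MvPolynomial (Fin m ⊕ Fin n) A) (Localization.Away (f₁ * f₂)) :=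
      Algebra.basicOpen_subset_etaleLocus_iff_etale.mp h1
    letI : Algebra (MvPolynomial (Fin m ⊕ Fin n) A) B' :=
      ((algebraMap B B').comp (algebraMap (MvPolynomial (Fin m ⊕ Fin n) A) B)).toAlgebra
    haveI : IsScalarTower (MvPolynomial (Fin m ⊕ Fin n) A) B B' :=
      IsScalarTower.of_algebraMap_eq' rfl
    let e : Localization.Away (f₁ * f₂) ≃ₐ[B] B' :=
      IsLocalization.algEquiv (.powers (f₁ * f₂)) _ _
    haveI : Algebra.Etale (MvPolynomial (Fin m ⊕ Fin n) A) B' :=
      Algebra.Etale.of_equiv (e.restrictScalars (MvPolynomial (Fin m ⊕ Fin n) A))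
    exact (RingHom.etale_algebraMap (R := MvPolynomial (Fin m ⊕ Fin n) A) (S := B')).mpr
      inferInstance
  · refine le_antisymm ?_ ?_
    · rw [Ideal.map_le_iff_le_comap]
      intro x hx
      rw [Ideal.mem_comap]
      have h1 := Ideal.mem_map_of_mem (algebraMap B B') (hf₂ x hx)
      rw [Ideal.map_span, ← Set.range_comp, map_mul] at h1
      have hu : IsUnit (algebraMap B B' f₂) := by
        have := IsLocalization.Away.algebraMap_isUnit (S := B') (f₁ * f₂)
        rw [map_mul] at this
        exact isUnit_of_mul_isUnit_right this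
      exact (Ideal.unit_mul_mem_iff_mem _ hu).mp h1
    · rw [Ideal.span_le]
      rintro _ ⟨i, rfl⟩
      exact Ideal.mem_map_of_mem _ (hmem i)

end main

end Groth.Agent.Lib.H87EtCoord2
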