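import Mathlib
import Groth.Agent.Lib.H87SecReg
import Groth.Agent.Lib.ClosedImmStalk

/-!
# H87SecChart: étale charts adapted to a section of a morphism smooth along the section

* `exists_etale_chart` (rings): `B` f.p. over `A`, `σ : B → A` a retraction, `p ⊇ ker σ` a prime at
  which `B` is smooth: there are `hᵢ ∈ ker σ` and `b ∉ p` with `A[X] → B`, `Xᵢ ↦ hᵢ` étale on `D(b)`.
* `etale_homOfVector_of_isAffine`: affine criterion for `homOfVector f v` to be étale.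
* `smooth_affineSpace_over`: `𝔸(n; S) ⟶ S` is smooth (`n` finite).
* `isOpenImmersion_map`: `𝔸(n; S) ⟶ 𝔸(n; T)` is an open immersion when `S ⟶ T` is.
* `etale_chart_of_ring`: ring-level étaleness ⇒ étaleness of the chart `V₂ ⟶ 𝔸(n; U₂)`.
* `exists_chart`: `f : X ⟶ Y` l.f.p., `i` a section, `f` smooth at `i y`: there are opens `y ∈ U`,
  `i(U) ⊆ V ⊆ f⁻¹ U` and an étale `U`-morphism `V ⟶ 𝔸ᵐ_U` whose coordinates vanish along `i`.
-/

set_option autoImplicit false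
set_option linter.style.haveILetI false
universe u
open TensorProduct KaehlerDifferential IsLocalRing
open AlgebraicGeometry CategoryTheory CategoryTheory.Limits

namespace Groth.Agent.Lib.H87SecChart

section ring

variable {A B : Type u} [CommRing A] [CommRing B] [Algebra A B]

/-- **Étale chart adapted to a section.** `B` f.p. over `A`, `σ : B → A` a retraction, `p ⊇ ker σ` a
prime at which `B` is smooth over `A`. Then there are `h₁,…,hₙ ∈ ker σ` and `b ∉ p` such that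
`A[X₁,…,Xₙ] → B`, `Xᵢ ↦ hᵢ` is étale on `D(b)` (in the form: étale after any localization away from a
multiple of `b`). -/
theorem exists_etale_chart [Algebra.FinitePresentation A B] (σ : B →ₐ[A] A) (p : Ideal B)
    [p.IsPrime] (hp : RingHom.ker σ.toRingHom ≤ p) [Algebra.IsSmoothAt A p] :
    ∃ (n : ℕ) (hs : Fin n → B) (b : B), b ∉ p ∧ (∀ i, σ (hs i) = 0) ∧
      ∀ (c : B) (B' : Type u) [CommRing B'] [Algebra B B'] [IsLocalization.Away (b * c) B'],
        ((algebraMap B B').comp (MvPolynomial.aeval (R := A) hs).toRingHom).Etale := by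
  let T := Localization.AtPrime p
  haveI : Algebra.FormallySmooth A T := ‹Algebra.IsSmoothAt A p›
  haveI : Algebra.EssFiniteType B T := Algebra.EssFiniteType.of_isLocalization T p.primeCompl
  haveI : Algebra.EssFiniteType A T := Algebra.EssFiniteType.comp A B T
  obtain ⟨n, hn⟩ : ∃ n, Module.finrank (ResidueField T) (ResidueField T ⊗[T] Ω[T⁄A]) = n :=
    ⟨_, rfl⟩
  obtain ⟨hs, hmem, hli, hsp⟩ := Groth.Agent.Lib.H87SecReg.exists_basis_D_ker (T := T) σ p n hn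
  -- the chart `A[X₁,…,Xₙ] → B`
  letI : Algebra (MvPolynomial (Fin n) A) B := (MvPolynomial.aeval (R := A) hs).toRingHom.toAlgebra
  have hX : ∀ i, algebraMap (MvPolynomial (Fin n) A) B (MvPolynomial.X i) = hs i := by
    intro i
    change MvPolynomial.aeval (R := A) hs (MvPolynomial.X i) = hs i
    simp
  haveI : IsScalarTower A (MvPolynomial (Fin n) A) B := IsScalarTower.of_algebraMap_eq (fun r => by
    change _ = MvPolynomial.aeval (R := A) hs (MvPolynomial.C r)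
    simp)
  haveI : IsScalarTower A (MvPolynomial (Fin n) A) T := IsScalarTower.of_algebraMap_eq (fun r => by
    rw [IsScalarTower.algebraMap_apply A B T,
      IsScalarTower.algebraMap_apply A (MvPolynomial (Fin n) A) B,
      ← IsScalarTower.algebraMap_apply (MvPolynomial (Fin n) A) B T])
  have hXT : ∀ i, algebraMap (MvPolynomial (Fin n) A) T (MvPolynomial.X i) =
      algebraMap B T (hs i) := fun i => by
    rw [IsScalarTower.algebraMap_apply (MvPolynomial (Fin n) A) B T, hX]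
  have hsmT : Algebra.FormallySmooth (MvPolynomial (Fin n) A) T :=
    Groth.Agent.Lib.H87SmoothDiv.formallySmooth_of_lTensor_injective A (MvPolynomial (Fin n) A) T
      (Groth.Agent.Lib.H87SecReg.lTensor_mapBaseChange_injective_mv (by
        simp_rw [hXT]
        exact hli))
  haveI : Algebra.FinitePresentation (MvPolynomial (Fin n) A) B :=
    Algebra.FinitePresentation.of_restrict_scalars_finitePresentation A (MvPolynomial (Fin n) A) B
  haveI : Algebra.EssFiniteType (MvPolynomial (Fin n) A) T :=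
    Algebra.EssFiniteType.comp (MvPolynomial (Fin n) A) B T
  -- unramified at `p`
  have hsub : Subsingleton Ω[T⁄MvPolynomial (Fin n) A] := by
    haveI : Module.Finite T Ω[T⁄MvPolynomial (Fin n) A] := inferInstance
    rw [← IsLocalRing.subsingleton_tensorProduct (R := T) (M := Ω[T⁄MvPolynomial (Fin n) A])]
    let ψ : ResidueField T ⊗[T] Ω[T⁄A] →ₗ[ResidueField T]
        ResidueField T ⊗[T] Ω[T⁄MvPolynomial (Fin n) A] :=
      (KaehlerDifferential.map A (MvPolynomial (Fin n) A) T T).baseChange (ResidueField T)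
    have hψs : Function.Surjective ψ :=
      LinearMap.lTensor_surjective _ (KaehlerDifferential.map_surjective A (MvPolynomial (Fin n) A) T)
    have hψ0 : ψ = 0 := by
      apply LinearMap.ext_on_range hsp
      intro i
      change ψ ((1 : ResidueField T) ⊗ₜ[T] D A T (algebraMap B T (hs i))) = 0
      rw [← hXT]
      change (1 : ResidueField T) ⊗ₜ[T] (KaehlerDifferential.map A (MvPolynomial (Fin n) A) T T)
        (D A T (algebraMap (MvPolynomial (Fin n) A) T (MvPolynomial.X i))) = 0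
      rw [KaehlerDifferential.map_D, Algebra.algebraMap_self_apply, Derivation.map_algebraMap,
        TensorProduct.tmul_zero]
    refine ⟨fun x y => ?_⟩
    obtain ⟨x', rfl⟩ := hψs x
    obtain ⟨y', rfl⟩ := hψs y
    rw [hψ0]
    rfl
  haveI : Algebra.FormallyUnramified (MvPolynomial (Fin n) A) T := ⟨hsub⟩
  haveI : Algebra.IsEtaleAt (MvPolynomial (Fin n) A) p :=
    Algebra.FormallyEtale.of_formallyUnramified_and_formallySmooth
  obtain ⟨b, hbp, hb⟩ := Algebra.exists_etale_of_isEtaleAt (R := MvPolynomial (Fin n) A) p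
  refine ⟨n, hs, b, hbp, fun i => hmem i, fun c B' _ _ _ => ?_⟩
  have h1 : (PrimeSpectrum.basicOpen (b * c) : Set (PrimeSpectrum B)) ⊆
      Algebra.etaleLocus (MvPolynomial (Fin n) A) B :=
    fun x hx => Algebra.basicOpen_subset_etaleLocus_iff_etale.mpr hb
      (PrimeSpectrum.basicOpen_mul_le_left b c hx)
  have h2 : Algebra.Etale (MvPolynomial (Fin n) A) (Localization.Away (b * c)) :=
    Algebra.basicOpen_subset_etaleLocus_iff_etale.mp h1
  letI : Algebra (MvPolynomial (Fin n) A) B' :=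
    ((algebraMap B B').comp (algebraMap (MvPolynomial (Fin n) A) B)).toAlgebra
  haveI : IsScalarTower (MvPolynomial (Fin n) A) B B' := IsScalarTower.of_algebraMap_eq' rfl
  let e : Localization.Away (b * c) ≃ₐ[B] B' := IsLocalization.algEquiv (.powers (b * c)) _ _
  haveI : Algebra.Etale (MvPolynomial (Fin n) A) B' :=
    Algebra.Etale.of_equiv (e.restrictScalars (MvPolynomial (Fin n) A))
  exact (RingHom.etale_algebraMap (R := MvPolynomial (Fin n) A) (S := B')).mpr inferInstance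

end ring


section aff

open AffineSpace

/-- affine criterion: `X ⟶ 𝔸(n; S)` is étale if the ring map `Γ(S)[Xᵢ] → Γ(X)` is. -/
theorem etale_homOfVector_of_isAffine {n : Type u} {X S : Scheme.{u}} [IsAffine X] [IsAffine S]
    (f : X ⟶ S) (v : n → Γ(X, ⊤))
    (h : (MvPolynomial.eval₂Hom f.appTop.hom v).Etale) :
    Etale (AffineSpace.homOfVector f v) := by
  rw [HasRingHomProperty.iff_of_isAffine (P := @Etale)]
  let E : MvPolynomial n Γ(S, ⊤) →+* Γ(𝔸(n; S), ⊤) :=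
    MvPolynomial.eval₂Hom ((𝔸(n; S) ↘ S).appTop).hom (coord S)
  have hE : CommRingCat.ofHom E = (Scheme.ΓSpecIso _).inv ≫ (isoOfIsAffine n S).hom.appTop := by
    rw [isoOfIsAffine_hom_appTop, Iso.inv_hom_id_assoc]
  haveI : IsIso (isoOfIsAffine n S).hom.appTop :=
    inferInstanceAs (IsIso ((isoOfIsAffine n S).hom.app ⊤))
  haveI : IsIso (CommRingCat.ofHom E) := by rw [hE]; infer_instance
  rw [← RingHom.Etale.respectsIso.cancel_left_isIso (CommRingCat.ofHom E)]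
  have hcomp : (CommRingCat.ofHom E ≫ (homOfVector f v).appTop).hom =
      MvPolynomial.eval₂Hom f.appTop.hom v := ?_
  · rw [← CommRingCat.hom_comp, hcomp]; exact h
  apply MvPolynomial.ringHom_ext
  · intro a
    change (homOfVector f v).appTop (E (MvPolynomial.C a)) = _
    simp only [E, MvPolynomial.coe_eval₂Hom, MvPolynomial.eval₂_C]
    rw [← CommRingCat.comp_apply, ← Scheme.Hom.comp_appTop, homOfVector_over]
  · intro i
    change (homOfVector f v).appTop (E (MvPolynomial.X i)) = _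
    simp only [E, MvPolynomial.coe_eval₂Hom, MvPolynomial.eval₂_X]
    exact homOfVector_appTop_coord f v i

/-- affine space over any base is smooth. -/
theorem smooth_affineSpace_over {n : Type u} [Finite n] (S : Scheme.{u}) :
    Smooth (𝔸(n; S) ↘ S) :=
  MorphismProperty.pullback_fst _ _ <| by
  have := isIso_of_isTerminal specULiftZIsTerminal.{u} terminalIsTerminal (terminal.from _)
  rw [← terminal.comp_from (Spec.map (CommRingCat.ofHom MvPolynomial.C)),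
    MorphismProperty.cancel_right_of_respectsIso (P := @Smooth),
    HasRingHomProperty.Spec_iff (P := @Smooth)]
  change RingHom.Smooth (MvPolynomial.C : ULift.{u} ℤ →+* MvPolynomial n (ULift.{u} ℤ))
  have : Algebra.Smooth (ULift.{u} ℤ) (MvPolynomial n (ULift.{u} ℤ)) :=
    ⟨inferInstance, inferInstance⟩
  exact RingHom.smooth_algebraMap.mpr this

end aff


section fin

open AffineSpace

variable {X Y : Scheme.{u}} (f : X ⟶ Y)

theorem isOpenImmersion_map (n : Type u) {S T : Scheme.{u}} (g : S ⟶ T) [IsOpenImmersion g] :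
    IsOpenImmersion (AffineSpace.map n g) :=
  MorphismProperty.of_isPullback (P := @IsOpenImmersion) (AffineSpace.isPullback_map (n := n) g).flip
    inferInstance

theorem etale_chart_of_ring {U₁ U₂ : Y.Opens} {V₁ V₂ : X.Opens} (hU₁ : IsAffineOpen U₁)
    (hU₂ : IsAffineOpen U₂) (hV₂ : IsAffineOpen V₂) (hU₂U₁ : U₂ ≤ U₁) (hV₂V₁ : V₂ ≤ V₁)
    (hVU₁ : V₁ ≤ f ⁻¹ᵁ U₁) (hVU₂ : V₂ ≤ f ⁻¹ᵁ U₂) (n : ℕ) (hs : Fin n → Γ(X, V₁))
    (hEt : ((X.presheaf.map (homOfLE hV₂V₁).op).hom.comp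
      (MvPolynomial.eval₂Hom (f.appLE U₁ V₁ hVU₁).hom hs)).Etale) :
    Etale (AffineSpace.homOfVector (f.resLE U₂ V₂ hVU₂)
      (fun j : ULift.{u} (Fin n) => V₂.topIso.inv (X.presheaf.map (homOfLE hV₂V₁).op (hs j.down)))) := by
  set v : ULift.{u} (Fin n) → Γ(V₂, ⊤) :=
    fun j => V₂.topIso.inv (X.presheaf.map (homOfLE hV₂V₁).op (hs j.down)) with hv
  have hVU₂₁ : V₂ ≤ f ⁻¹ᵁ U₁ := hVU₂.trans (f.preimage_mono hU₂U₁)
  haveI : IsAffine U₁ := hU₁
  haveI : IsAffine U₂ := hU₂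
  haveI : IsAffine V₂ := hV₂
  let j : 𝔸(ULift.{u} (Fin n); U₂) ⟶ 𝔸(ULift.{u} (Fin n); U₁) :=
    AffineSpace.map _ (Y.homOfLE hU₂U₁)
  haveI : IsOpenImmersion j := isOpenImmersion_map _ _
  have hcomp : homOfVector (f.resLE U₂ V₂ hVU₂) v ≫ j = homOfVector (f.resLE U₁ V₂ hVU₂₁) v := by
    apply AffineSpace.hom_ext
    · rw [Category.assoc, AffineSpace.map_over, homOfVector_over_assoc, homOfVector_over,
        Scheme.Hom.resLE_map]
    · intro k
      rw [Scheme.Hom.comp_appTop, CommRingCat.comp_apply, AffineSpace.map_appTop_coord,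
        homOfVector_appTop_coord, homOfVector_appTop_coord]
  have h1 : Etale (homOfVector (f.resLE U₁ V₂ hVU₂₁) v) := by
    apply etale_homOfVector_of_isAffine
    let e₁ : Γ(U₁, ⊤) ≃+* Γ(Y, U₁) := U₁.topIso.commRingCatIsoToRingEquiv
    let e₂ : Γ(X, V₂) ≃+* Γ(V₂, ⊤) := V₂.topIso.symm.commRingCatIsoToRingEquiv
    let Θ : MvPolynomial (ULift.{u} (Fin n)) Γ(U₁, ⊤) ≃+* MvPolynomial (Fin n) Γ(Y, U₁) :=
      (MvPolynomial.renameEquiv Γ(U₁, ⊤) Equiv.ulift).toRingEquiv.trans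
        (MvPolynomial.mapEquiv (Fin n) e₁)
    have hΘC : ∀ r, Θ (MvPolynomial.C r) = MvPolynomial.C (U₁.topIso.hom r) := by
      intro r
      simp [Θ, e₁]
    have hΘX : ∀ k, Θ (MvPolynomial.X k) = MvPolynomial.X k.down := by
      intro k
      simp [Θ]
    have key : MvPolynomial.eval₂Hom (f.resLE U₁ V₂ hVU₂₁).appTop.hom v =
        e₂.toRingHom.comp (((X.presheaf.map (homOfLE hV₂V₁).op).hom.comp
          (MvPolynomial.eval₂Hom (f.appLE U₁ V₁ hVU₁).hom hs)).comp Θ.toRingHom) := by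
      apply MvPolynomial.ringHom_ext
      · intro r
        simp only [MvPolynomial.coe_eval₂Hom, MvPolynomial.eval₂_C, RingHom.comp_apply,
          RingEquiv.toRingHom_eq_coe, RingHom.coe_coe, hΘC]
        change ((f.resLE U₁ V₂ hVU₂₁).app ⊤) r = _
        rw [Scheme.Hom.resLE_app_top, ← Scheme.Hom.appLE_map f hVU₁ (homOfLE hV₂V₁).op]
        rfl
      · intro k
        simp only [MvPolynomial.coe_eval₂Hom, MvPolynomial.eval₂_X, RingHom.comp_apply,
          RingEquiv.toRingHom_eq_coe, RingHom.coe_coe, hΘX]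
        rfl
    rw [key]
    exact RingHom.Etale.respectsIso.1 _ e₂ (RingHom.Etale.respectsIso.2 _ Θ hEt)
  rw [← hcomp] at h1
  exact Etale.of_comp _ j

end fin


section main

open AffineSpace

theorem appLE_eq_id {Y : Scheme.{u}} (g : Y ⟶ Y) (hg : g = 𝟙 Y) (U : Y.Opens) (e : U ≤ g ⁻¹ᵁ U) :
    g.appLE U U e = 𝟙 _ := by
  subst hg
  simp only [Scheme.Hom.appLE, Scheme.Hom.id_app, Category.id_comp]
  exact Y.presheaf.map_id _

variable {X Y : Scheme.{u}} (f : X ⟶ Y) [LocallyOfFinitePresentation f] (i : Y ⟶ X)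

include f in
theorem exists_chart (hi : i ≫ f = 𝟙 Y) (y : Y) (hx : i.base y ∈ f.smoothLocus) :
    ∃ (U : Y.Opens) (V : X.Opens) (_ : y ∈ U) (hUV : U ≤ i ⁻¹ᵁ V) (hVU : V ≤ f ⁻¹ᵁ U) (m : ℕ)
        (v : ULift.{u} (Fin m) → Γ(V, ⊤)),
        Etale (AffineSpace.homOfVector (f.resLE U V hVU) v) ∧
          ∀ j, (i.resLE V U hUV).appTop (v j) = 0 := by
  have hfi : ∀ W : Y.Opens, i ⁻¹ᵁ (f ⁻¹ᵁ W) = W := fun W => by
    rw [← Scheme.Hom.comp_preimage, hi]; rfl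
  obtain ⟨_, ⟨U₀, hU₀, rfl⟩, hyU₀, -⟩ :=
    Y.isBasis_affineOpens.exists_subset_of_mem_open (Set.mem_univ y) isOpen_univ
  have hxU₀ : i.base y ∈ f ⁻¹ᵁ U₀ := by
    have : y ∈ i ⁻¹ᵁ (f ⁻¹ᵁ U₀) := by rw [hfi]; exact hyU₀
    exact this
  obtain ⟨_, ⟨V₀, hV₀, rfl⟩, hxV₀, hV₀U₀⟩ :=
    X.isBasis_affineOpens.exists_subset_of_mem_open hxU₀ (f ⁻¹ᵁ U₀).2
  obtain ⟨a, haV, hya⟩ := hU₀.exists_basicOpen_le (V := i ⁻¹ᵁ V₀) ⟨y, hxV₀⟩ hyU₀
  -- first shrink
  have hU₁ : IsAffineOpen (Y.basicOpen a) := hU₀.basicOpen a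
  have hV₁ : IsAffineOpen (X.basicOpen (f.appLE U₀ V₀ hV₀U₀ a)) := hV₀.basicOpen _
  have hV₁eq : X.basicOpen (f.appLE U₀ V₀ hV₀U₀ a) = V₀ ⊓ f ⁻¹ᵁ (Y.basicOpen a) :=
    Scheme.basicOpen_appLE f V₀ U₀ hV₀U₀ a
  generalize X.basicOpen (f.appLE U₀ V₀ hV₀U₀ a) = V₁ at hV₁ hV₁eq
  generalize Y.basicOpen a = U₁ at hU₁ hV₁eq haV hya
  have hVU₁ : V₁ ≤ f ⁻¹ᵁ U₁ := hV₁eq.le.trans inf_le_right
  have hUV₁ : U₁ ≤ i ⁻¹ᵁ V₁ := by
    rw [hV₁eq]
    intro z hz
    exact ⟨haV hz, by change z ∈ i ⁻¹ᵁ (f ⁻¹ᵁ U₁); rw [hfi]; exact hz⟩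
  have hyU₁ : y ∈ U₁ := hya
  have hxV₁ : i.base y ∈ V₁ := hUV₁ hyU₁
  clear hV₁eq haV hya hxV₀ hV₀U₀ hV₀ V₀ hxU₀ hyU₀ hU₀ a U₀
  -- rings
  have hφσ : f.appLE U₁ V₁ hVU₁ ≫ i.appLE V₁ U₁ hUV₁ = 𝟙 _ := by
    rw [Scheme.Hom.appLE_comp_appLE]
    exact appLE_eq_id (i ≫ f) hi U₁ _
  letI : Algebra Γ(Y, U₁) Γ(X, V₁) := (f.appLE U₁ V₁ hVU₁).hom.toAlgebra
  let σ : Γ(X, V₁) →ₐ[Γ(Y, U₁)] Γ(Y, U₁) :=
    { (i.appLE V₁ U₁ hUV₁).hom with
      commutes' := fun r => by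
        change (i.appLE V₁ U₁ hUV₁).hom ((f.appLE U₁ V₁ hVU₁).hom r) = r
        rw [← CommRingCat.comp_apply, hφσ]
        rfl }
  have hσ : ∀ b, σ b = (i.appLE V₁ U₁ hUV₁).hom b := fun _ => rfl
  let p : Ideal Γ(X, V₁) := (hV₁.primeIdealOf ⟨i.base y, hxV₁⟩).asIdeal
  haveI : p.IsPrime := (hV₁.primeIdealOf ⟨i.base y, hxV₁⟩).isPrime
  have hmemp : ∀ b : Γ(X, V₁), b ∉ p ↔ i.base y ∈ X.basicOpen b := fun b =>
    (Groth.Agent.Lib.ClosedImmStalk.mem_basicOpen_iff_notMem_primeIdealOf V₁ hV₁ (i.base y) hxV₁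
      b).symm
  have hbo : ∀ b : Γ(X, V₁), Y.basicOpen (σ b) = U₁ ⊓ i ⁻¹ᵁ (X.basicOpen b) := fun b =>
    Scheme.basicOpen_appLE i U₁ V₁ hUV₁ b
  have hker : RingHom.ker σ.toRingHom ≤ p := by
    intro b hb
    by_contra hbp
    rw [hmemp] at hbp
    have h0 : σ b = 0 := hb
    have h1 : y ∈ Y.basicOpen (σ b) := by
      rw [hbo]; exact ⟨hyU₁, hbp⟩
    rw [h0, Scheme.basicOpen_zero] at h1
    exact h1
  haveI : Algebra.FinitePresentation Γ(Y, U₁) Γ(X, V₁) :=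
    f.finitePresentation_appLE hU₁ hV₁ hVU₁
  haveI : Algebra.IsSmoothAt Γ(Y, U₁) p :=
    (formallySmooth_stalkMap_iff U₁ hU₁ V₁ hV₁ hVU₁ hxV₁).mp hx
  obtain ⟨n, hs, b₀, hb₀p, hσ0, hEt⟩ := exists_etale_chart σ p hker
  -- second shrink
  have hxb₀ : i.base y ∈ X.basicOpen b₀ := (hmemp b₀).mp hb₀p
  have hyU₂ : y ∈ Y.basicOpen (σ b₀) := by rw [hbo]; exact ⟨hyU₁, hxb₀⟩
  have hU₂ : IsAffineOpen (Y.basicOpen (σ b₀)) := hU₁.basicOpen _
  have hU₂U₁ : Y.basicOpen (σ b₀) ≤ U₁ := Y.basicOpen_le _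
  have hV₂ : IsAffineOpen (X.basicOpen (b₀ * algebraMap Γ(Y, U₁) Γ(X, V₁) (σ b₀))) :=
    hV₁.basicOpen _
  have hV₂V₁ : X.basicOpen (b₀ * algebraMap Γ(Y, U₁) Γ(X, V₁) (σ b₀)) ≤ V₁ := X.basicOpen_le _
  have hφbo : X.basicOpen (algebraMap Γ(Y, U₁) Γ(X, V₁) (σ b₀)) =
      V₁ ⊓ f ⁻¹ᵁ (Y.basicOpen (σ b₀)) :=
    Scheme.basicOpen_appLE f V₁ U₁ hVU₁ (σ b₀)
  have hVU₂ : X.basicOpen (b₀ * algebraMap Γ(Y, U₁) Γ(X, V₁) (σ b₀)) ≤
      f ⁻¹ᵁ (Y.basicOpen (σ b₀)) := by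
    rw [Scheme.basicOpen_mul, hφbo]
    exact inf_le_right.trans inf_le_right
  have hUV₂ : Y.basicOpen (σ b₀) ≤
      i ⁻¹ᵁ (X.basicOpen (b₀ * algebraMap Γ(Y, U₁) Γ(X, V₁) (σ b₀))) := by
    rw [Scheme.basicOpen_mul, hφbo]
    intro z hz
    have hz' := hz
    rw [hbo] at hz'
    refine ⟨hz'.2, X.basicOpen_le b₀ hz'.2, ?_⟩
    have : z ∈ i ⁻¹ᵁ (f ⁻¹ᵁ (Y.basicOpen (σ b₀))) := by rw [hfi]; exact hz
    exact this
  haveI hloc : IsLocalization.Away (b₀ * algebraMap Γ(Y, U₁) Γ(X, V₁) (σ b₀))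
      Γ(X, X.basicOpen (b₀ * algebraMap Γ(Y, U₁) Γ(X, V₁) (σ b₀))) :=
    hV₁.isLocalization_basicOpen _
  have hEt' : ((X.presheaf.map (homOfLE hV₂V₁).op).hom.comp
      (MvPolynomial.aeval (R := Γ(Y, U₁)) hs).toRingHom).Etale :=
    hEt (algebraMap Γ(Y, U₁) Γ(X, V₁) (σ b₀))
      Γ(X, X.basicOpen (b₀ * algebraMap Γ(Y, U₁) Γ(X, V₁) (σ b₀)))
  clear hloc hEt hφbo
  generalize X.basicOpen (b₀ * algebraMap Γ(Y, U₁) Γ(X, V₁) (σ b₀)) = V₂ at *
  generalize Y.basicOpen (σ b₀) = U₂ at *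
  refine ⟨U₂, V₂, hyU₂, hUV₂, hVU₂, n,
    fun j => V₂.topIso.inv (X.presheaf.map (homOfLE hV₂V₁).op (hs j.down)), ?_, ?_⟩
  · exact etale_chart_of_ring f hU₁ hU₂ hV₂ hU₂U₁ hV₂V₁ hVU₁ hVU₂ n hs hEt'
  · intro j
    have happ : (i.resLE V₂ U₂ hUV₂).appTop =
        V₂.topIso.hom ≫ i.appLE V₂ U₂ hUV₂ ≫ U₂.topIso.inv := Scheme.Hom.resLE_app_top i hUV₂
    rw [happ]
    simp only [CommRingCat.comp_apply]
    rw [← CommRingCat.comp_apply V₂.topIso.inv V₂.topIso.hom, Iso.inv_hom_id,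
      CommRingCat.id_apply, ← CommRingCat.comp_apply (X.presheaf.map (homOfLE hV₂V₁).op),
      Scheme.Hom.map_appLE, ← Scheme.Hom.appLE_map i hUV₁ (homOfLE hU₂U₁).op,
      CommRingCat.comp_apply]
    have h0 : (i.appLE V₁ U₁ hUV₁) (hs j.down) = 0 := hσ0 j.down
    rw [h0, map_zero, map_zero]

end main


end Groth.Agent.Lib.H87SecChart
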