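import Mathlib
import Groth.Agent.Lib.H87EtCoord2
import Groth.Agent.Lib.H87SecChart

/-!
# H87EtCoordSch — étale local structure of a smooth closed subscheme of a smooth scheme

* `etale_chart_of_ring`: ring-level étale map `A[X_σ] → Γ(X, V₂)` ⟹ `V₂ → 𝔸(ULift σ; Y)` étale.
* `isPullback_of_ker_le`: a closed subscheme of an affine `U` whose ideal is generated by the last
  `n` coordinates of a chart `U → 𝔸^{m+n}_S` is the pullback of `𝔸^m_S ⊆ 𝔸^{m+n}_S`
  (via `IsClosedImmersion.lift`).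
* `exists_etale_chart_of_closedImmersion`: EGA IV 17.12.2 d), scheme form.
-/

set_option autoImplicit false

universe u

open AlgebraicGeometry CategoryTheory CategoryTheory.Limits AffineSpace

namespace Groth.Agent.Lib.H87EtCoordSch

section chart

variable {X Y : Scheme.{u}} (f : X ⟶ Y)

/-- étale chart `V₂ → 𝔸_Y` from the ring-level étale map (general finite index type). -/
theorem etale_chart_of_ring {U₁ : Y.Opens} {V₁ V₂ : X.Opens} (hU₁ : IsAffineOpen U₁)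
    (hV₂ : IsAffineOpen V₂) (hV₂V₁ : V₂ ≤ V₁)
    (hVU₁ : V₁ ≤ f ⁻¹ᵁ U₁) {σ : Type} (hs : σ → Γ(X, V₁))
    (hEt : ((X.presheaf.map (homOfLE hV₂V₁).op).hom.comp
      (MvPolynomial.eval₂Hom (f.appLE U₁ V₁ hVU₁).hom hs)).Etale) :
    Etale (AffineSpace.homOfVector (V₂.ι ≫ f)
      (fun j : ULift.{u} σ => V₂.topIso.inv (X.presheaf.map (homOfLE hV₂V₁).op (hs j.down)))) := by
  set v : ULift.{u} σ → Γ(V₂, ⊤) :=
    fun j => V₂.topIso.inv (X.presheaf.map (homOfLE hV₂V₁).op (hs j.down)) with hv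
  have hVU₂₁ : V₂ ≤ f ⁻¹ᵁ U₁ := hV₂V₁.trans hVU₁
  haveI : IsAffine U₁ := hU₁
  haveI : IsAffine V₂ := hV₂
  let j : 𝔸(ULift.{u} σ; U₁) ⟶ 𝔸(ULift.{u} σ; Y) := AffineSpace.map _ U₁.ι
  haveI : IsOpenImmersion j := Groth.Agent.Lib.H87SecChart.isOpenImmersion_map _ _
  have hcomp : homOfVector (f.resLE U₁ V₂ hVU₂₁) v ≫ j = homOfVector (V₂.ι ≫ f) v := by
    apply AffineSpace.hom_ext
    · rw [Category.assoc, AffineSpace.map_over, homOfVector_over_assoc, homOfVector_over,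
        Scheme.Hom.resLE_comp_ι]
    · intro k
      rw [Scheme.Hom.comp_appTop, CommRingCat.comp_apply, AffineSpace.map_appTop_coord,
        homOfVector_appTop_coord, homOfVector_appTop_coord]
  have h1 : Etale (homOfVector (f.resLE U₁ V₂ hVU₂₁) v) := by
    apply Groth.Agent.Lib.H87SecChart.etale_homOfVector_of_isAffine
    let e₁ : Γ(U₁, ⊤) ≃+* Γ(Y, U₁) := U₁.topIso.commRingCatIsoToRingEquiv
    let e₂ : Γ(X, V₂) ≃+* Γ(V₂, ⊤) := V₂.topIso.symm.commRingCatIsoToRingEquiv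
    let Θ : MvPolynomial (ULift.{u} σ) Γ(U₁, ⊤) ≃+* MvPolynomial σ Γ(Y, U₁) :=
      (MvPolynomial.renameEquiv Γ(U₁, ⊤) Equiv.ulift).toRingEquiv.trans
        (MvPolynomial.mapEquiv σ e₁)
    have hΘC : ∀ r, Θ (MvPolynomial.C r) = MvPolynomial.C (U₁.topIso.hom r) := by
      intro r
      simp [Θ, e₁]
    have hΘX : ∀ k, Θ (MvPolynomial.X k) = MvPolynomial.X k.down := by
      intro k
      simp [Θ]
    have key : MvPolynomial.eval₂Hom (f.resLE U₁ V₂ hVU₂₁).appTop.hom v =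
        e₂.toRingHom.comp (((X.presheaf.map (homOfLE hV₂V₁).op).hom.comp
          (MvPolynomial.eval₂Hom (f.appLE U₁ V₁ hVU₁).hom hs)).comp Θ.toRingHom) := by
      apply MvPolynomial.ringHom_ext
      · intro r
        simp only [MvPolynomial.coe_eval₂Hom, MvPolynomial.eval₂_C, RingHom.comp_apply,
          RingEquiv.toRingHom_eq_coe, RingHom.coe_coe, hΘC]
        change ((f.resLE U₁ V₂ hVU₂₁).app ⊤) r = _
        rw [Scheme.Hom.resLE_app_top, ← Scheme.Hom.appLE_map f hVU₁ (homOfLE hV₂V₁).op]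
        rfl
      · intro k
        simp only [MvPolynomial.coe_eval₂Hom, MvPolynomial.eval₂_X, RingHom.comp_apply,
          RingEquiv.toRingHom_eq_coe, RingHom.coe_coe, hΘX]
        rfl
    rw [key]
    exact RingHom.Etale.respectsIso.1 _ e₂ (RingHom.Etale.respectsIso.2 _ Θ hEt)
  rw [← hcomp]
  infer_instance

end chart

section pb

variable {S U Z : Scheme.{u}} [IsAffine U] (p : U ⟶ S) (c : Z ⟶ U) [IsClosedImmersion c]
  {m n : ℕ} (v : ULift.{u} (Fin m ⊕ Fin n) → Γ(U, ⊤))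

/-- abstract form of `isPullback_of_ker_le`. -/
theorem isPullback_of_ker_le_aux
    (h0 : ∀ k : Fin n, c.appTop (v ⟨Sum.inr k⟩) = 0)
    (hker : ∀ x : Γ(U, ⊤), c.appTop x = 0 →
      x ∈ Ideal.span (Set.range fun k : Fin n => v ⟨Sum.inr k⟩))
    (ρ : Z ⟶ 𝔸(ULift.{u} (Fin m); S))
    (ζ : 𝔸(ULift.{u} (Fin m); S) ⟶ 𝔸(ULift.{u} (Fin m ⊕ Fin n); S))
    (π : U ⟶ 𝔸(ULift.{u} (Fin m ⊕ Fin n); S))
    (hρo : ρ ≫ 𝔸(ULift.{u} (Fin m); S) ↘ S = c ≫ p)
    (hρc : ∀ a : Fin m, ρ.appTop (coord S ⟨a⟩) = c.appTop (v ⟨Sum.inl a⟩))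
    (hζo : ζ ≫ 𝔸(ULift.{u} (Fin m ⊕ Fin n); S) ↘ S = 𝔸(ULift.{u} (Fin m); S) ↘ S)
    (hζl : ∀ a : Fin m, ζ.appTop (coord S ⟨Sum.inl a⟩) = coord S ⟨a⟩)
    (hζr : ∀ b : Fin n, ζ.appTop (coord S ⟨Sum.inr b⟩) = 0)
    (hπo : π ≫ 𝔸(ULift.{u} (Fin m ⊕ Fin n); S) ↘ S = p)
    (hπc : ∀ k, π.appTop (coord S k) = v k) :
    IsPullback ρ c ζ π := by
  have comm : ρ ≫ ζ = c ≫ π := by
    apply AffineSpace.hom_ext
    · rw [Category.assoc, Category.assoc, hζo, hπo, hρo]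
    · rintro ⟨a | b⟩
      · rw [Scheme.Hom.comp_appTop, Scheme.Hom.comp_appTop, CommRingCat.comp_apply,
          CommRingCat.comp_apply, hζl, hπc, hρc]
      · rw [Scheme.Hom.comp_appTop, Scheme.Hom.comp_appTop, CommRingCat.comp_apply,
          CommRingCat.comp_apply, hζr, hπc, h0, map_zero]
  -- the lift
  have hsnd : ∀ s : PullbackCone ζ π, ∀ k : ULift.{u} (Fin m ⊕ Fin n),
      s.snd.appTop (v k) = s.fst.appTop (ζ.appTop (coord S k)) := by
    intro s k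
    rw [← hπc k, ← CommRingCat.comp_apply,
      ← Scheme.Hom.comp_appTop, ← s.condition, Scheme.Hom.comp_appTop, CommRingCat.comp_apply]
  have hle : ∀ s : PullbackCone ζ π, c.ker ≤ s.snd.ker := by
    intro s
    rw [Scheme.ker_of_isAffine c, Scheme.ker_of_isAffine s.snd]
    refine (map_le_map_iff (Scheme.IdealSheafData.equivOfIsAffine (X := U)).symm).mpr ?_
    intro x hx
    have hx' : c.appTop x = 0 := hx
    have h1 := hker x hx'
    have h2 : Ideal.span (Set.range fun k : Fin n => v ⟨Sum.inr k⟩) ≤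
        RingHom.ker s.snd.appTop.hom := by
      rw [Ideal.span_le]
      rintro _ ⟨k, rfl⟩
      change s.snd.appTop (v ⟨Sum.inr k⟩) = 0
      rw [hsnd, hζr, map_zero]
    exact h2 h1
  refine ⟨⟨comm⟩, ⟨PullbackCone.IsLimit.mk comm
    (fun s => IsClosedImmersion.lift c s.snd (hle s)) (fun s => ?_)
    (fun s => IsClosedImmersion.lift_fac c s.snd (hle s)) (fun s l _ h2 => ?_)⟩⟩
  · apply AffineSpace.hom_ext
    · rw [Category.assoc, hρo, IsClosedImmersion.lift_fac_assoc, ← hζo, ← Category.assoc,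
        s.condition, Category.assoc, hπo]
    · rintro ⟨a⟩
      rw [Scheme.Hom.comp_appTop, CommRingCat.comp_apply, hρc,
        ← CommRingCat.comp_apply, ← Scheme.Hom.comp_appTop, IsClosedImmersion.lift_fac, hsnd, hζl]
  · rw [← cancel_mono c, h2, IsClosedImmersion.lift_fac]

/-- a closed subscheme of an affine `U` cut out by the last `n` coordinates of a chart
`U → 𝔸^{m+n}_S` is the pullback of the coordinate subspace `𝔸^m_S ⊆ 𝔸^{m+n}_S`. -/
theorem isPullback_of_ker_le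
    (h0 : ∀ k : Fin n, c.appTop (v ⟨Sum.inr k⟩) = 0)
    (hker : ∀ x : Γ(U, ⊤), c.appTop x = 0 →
      x ∈ Ideal.span (Set.range fun k : Fin n => v ⟨Sum.inr k⟩)) :
    IsPullback (homOfVector (c ≫ p) (fun j : ULift.{u} (Fin m) => c.appTop (v ⟨Sum.inl j.down⟩))) c
      (homOfVector (𝔸(ULift.{u} (Fin m); S) ↘ S)
        (fun j : ULift.{u} (Fin m ⊕ Fin n) =>
          Sum.elim (fun a => AffineSpace.coord S (ULift.up a)) (fun _ => 0) j.down))
      (homOfVector p v) := by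
  refine isPullback_of_ker_le_aux p c v h0 hker _ _ _ (homOfVector_over _ _) (fun a => ?_)
    (homOfVector_over _ _) (fun a => ?_) (fun b => ?_) (homOfVector_over _ _)
    (fun k => homOfVector_appTop_coord _ _ _)
  · rw [homOfVector_appTop_coord]
  · rw [homOfVector_appTop_coord]
    rfl
  · rw [homOfVector_appTop_coord]
    rfl

end pb

section main

theorem morphismRestrict_appTop' {X Y : Scheme.{u}} (i : Y ⟶ X) (U : X.Opens) :
    (i ∣_ U).appTop = U.topIso.hom ≫ i.app U ≫ (i ⁻¹ᵁ U).topIso.inv := by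
  have h := Scheme.Hom.resLE_app_top (f := i) (U := U) (V := i ⁻¹ᵁ U) (e := le_rfl)
  rw [Scheme.Hom.resLE_eq_morphismRestrict] at h
  rw [Scheme.Hom.appTop, h, Scheme.Hom.appLE]
  simp

theorem exists_etale_chart_of_closedImmersion {S X Y : Scheme.{u}} (pX : X ⟶ S) (pY : Y ⟶ S)
    [Smooth pX] [Smooth pY] (i : Y ⟶ X) [IsClosedImmersion i] (w : i ≫ pX = pY) (y : Y) :
    ∃ (U : X.Opens) (m n : ℕ) (π : (U : Scheme.{u}) ⟶ 𝔸(ULift.{u} (Fin m ⊕ Fin n); S))
      (ρ : (↑(i ⁻¹ᵁ U) : Scheme.{u}) ⟶ 𝔸(ULift.{u} (Fin m); S)),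
      i y ∈ U ∧ Etale π ∧ π ≫ (𝔸(ULift.{u} (Fin m ⊕ Fin n); S) ↘ S) = U.ι ≫ pX ∧
      IsPullback ρ (i ∣_ U)
        (AffineSpace.homOfVector (𝔸(ULift.{u} (Fin m); S) ↘ S)
          (fun j : ULift.{u} (Fin m ⊕ Fin n) =>
            Sum.elim (fun a => AffineSpace.coord S (ULift.up a)) (fun _ => 0) j.down))
        π := by
  subst w
  obtain ⟨_, ⟨V, hV, rfl⟩, hsV, -⟩ := S.isBasis_affineOpens.exists_subset_of_mem_open
    (Set.mem_univ (pX (i y))) isOpen_univ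
  have hxV : i y ∈ pX ⁻¹ᵁ V := hsV
  obtain ⟨_, ⟨W, hW, rfl⟩, hxW, hWV⟩ :=
    X.isBasis_affineOpens.exists_subset_of_mem_open hxV (pX ⁻¹ᵁ V).2
  have hW' : IsAffineOpen (i ⁻¹ᵁ W) := hW.preimage i
  have hW'V : i ⁻¹ᵁ W ≤ (i ≫ pX) ⁻¹ᵁ V := fun z hz => hWV hz
  letI : Algebra Γ(S, V) Γ(X, W) := (pX.appLE V W hWV).hom.toAlgebra
  letI : Algebra Γ(S, V) Γ(Y, i ⁻¹ᵁ W) := ((i ≫ pX).appLE V (i ⁻¹ᵁ W) hW'V).hom.toAlgebra
  have hcomp : pX.appLE V W hWV ≫ i.app W = (i ≫ pX).appLE V (i ⁻¹ᵁ W) hW'V := by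
    rw [Scheme.Hom.app_eq_appLE, Scheme.Hom.appLE_comp_appLE]
  let φ : Γ(X, W) →ₐ[Γ(S, V)] Γ(Y, i ⁻¹ᵁ W) :=
    { (i.app W).hom with
      commutes' := fun r => by
        change (i.app W).hom ((pX.appLE V W hWV).hom r) = ((i ≫ pX).appLE V (i ⁻¹ᵁ W) hW'V).hom r
        rw [← hcomp]
        rfl }
  have hφ : Function.Surjective φ := i.app_surjective W hW
  have hφapp : ∀ b, φ b = (i.app W).hom b := fun _ => rfl
  haveI : Algebra.Smooth Γ(S, V) Γ(X, W) := RingHom.smooth_algebraMap.mp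
    (HasRingHomProperty.appLE (P := @Smooth) pX inferInstance ⟨V, hV⟩ ⟨W, hW⟩ hWV)
  haveI : Algebra.Smooth Γ(S, V) Γ(Y, i ⁻¹ᵁ W) := RingHom.smooth_algebraMap.mp
    (HasRingHomProperty.appLE (P := @Smooth) (i ≫ pX) inferInstance ⟨V, hV⟩ ⟨_, hW'⟩ hW'V)
  let q : Ideal Γ(X, W) := (hW.primeIdealOf ⟨i y, hxW⟩).asIdeal
  haveI : q.IsPrime := (hW.primeIdealOf ⟨i y, hxW⟩).isPrime
  have hmemq : ∀ b : Γ(X, W), b ∉ q ↔ i y ∈ X.basicOpen b := fun b =>
    (Groth.Agent.Lib.ClosedImmStalk.mem_basicOpen_iff_notMem_primeIdealOf W hW (i y) hxW b).symm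
  have hker : RingHom.ker φ.toRingHom ≤ q := by
    intro b hb
    by_contra hbq
    rw [hmemq] at hbq
    have h0 : (i.app W).hom b = 0 := hb
    have h1 : y ∈ i ⁻¹ᵁ (X.basicOpen b) := hbq
    rw [Scheme.preimage_basicOpen, h0, Scheme.basicOpen_zero] at h1
    exact h1
  haveI : Algebra.IsSmoothAt Γ(S, V) q := by
    haveI : Algebra.FormallySmooth Γ(X, W) (Localization.AtPrime q) :=
      Algebra.FormallySmooth.of_isLocalization q.primeCompl
    exact Algebra.FormallySmooth.comp Γ(S, V) Γ(X, W) (Localization.AtPrime q)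
  obtain ⟨f, hfq, m, n, b, g, hg0, hB'⟩ :=
    Groth.Agent.Lib.H87EtCoord2.exists_etale_coordinates_of_surjective φ hφ q hker
  -- the open `U`
  have hUW : X.basicOpen f ≤ W := X.basicOpen_le f
  have hU : IsAffineOpen (X.basicOpen f) := hW.basicOpen f
  have hxU : i y ∈ X.basicOpen f := (hmemq f).mp hfq
  haveI hloc : IsLocalization.Away f Γ(X, X.basicOpen f) := hW.isLocalization_basicOpen f
  obtain ⟨hEt, hkerU⟩ := hB' Γ(X, X.basicOpen f)
  have hEt' : ((X.presheaf.map (homOfLE hUW).op).hom.comp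
      (MvPolynomial.aeval (R := Γ(S, V)) (Sum.elim b g)).toRingHom).Etale := hEt
  have hkerU' : (RingHom.ker (i.app W).hom).map (X.presheaf.map (homOfLE hUW).op).hom =
      Ideal.span (Set.range fun k => X.presheaf.map (homOfLE hUW).op (g k)) := hkerU
  clear hloc hB' hEt hkerU
  generalize X.basicOpen f = U at *
  haveI : IsAffine U := hU
  let v : ULift.{u} (Fin m ⊕ Fin n) → Γ(U, ⊤) :=
    fun j => U.topIso.inv (X.presheaf.map (homOfLE hUW).op (Sum.elim b g j.down))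
  have hEtπ : Etale (homOfVector (U.ι ≫ pX) v) :=
    etale_chart_of_ring pX hV hU hUW hWV (Sum.elim b g) hEt'
  refine ⟨U, m, n, homOfVector (U.ι ≫ pX) v,
    homOfVector ((i ∣_ U) ≫ U.ι ≫ pX) (fun j => (i ∣_ U).appTop (v ⟨Sum.inl j.down⟩)),
    hxU, hEtπ, homOfVector_over _ _, ?_⟩
  have happ : ∀ z : Γ(X, U), (i ∣_ U).appTop (U.topIso.inv z) =
      (i ⁻¹ᵁ U).topIso.inv (i.app U z) := by
    intro z
    rw [morphismRestrict_appTop']
    simp only [CommRingCat.comp_apply]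
    rw [← CommRingCat.comp_apply U.topIso.inv U.topIso.hom, Iso.inv_hom_id, CommRingCat.id_apply]
  refine isPullback_of_ker_le (U.ι ≫ pX) (i ∣_ U) v (fun k => ?_) (fun x hx => ?_)
  · change (i ∣_ U).appTop (U.topIso.inv (X.presheaf.map (homOfLE hUW).op (g k))) = 0
    rw [happ, ← CommRingCat.comp_apply (X.presheaf.map (homOfLE hUW).op), i.naturality,
      CommRingCat.comp_apply]
    have : (i.app W) (g k) = 0 := hg0 k
    rw [this, map_zero, map_zero]
  · have hx1 : x = U.topIso.inv (U.topIso.hom x) := by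
      rw [← CommRingCat.comp_apply, Iso.hom_inv_id, CommRingCat.id_apply]
    rw [hx1, happ] at hx
    have hx2 : (i.app U) (U.topIso.hom x) = 0 := by
      have hinj : Function.Injective (i ⁻¹ᵁ U).topIso.inv :=
        (ConcreteCategory.bijective_of_isIso (i ⁻¹ᵁ U).topIso.inv).1
      apply hinj
      rw [hx, map_zero]
    have hx3 : U.topIso.hom x ∈ i.ker.ideal ⟨U, hU⟩ := by
      rw [Scheme.Hom.ker_apply]
      exact hx2
    rw [← i.ker.map_ideal (U := ⟨U, hU⟩) (V := ⟨W, hW⟩) hUW, Scheme.Hom.ker_apply] at hx3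
    have hx4 : U.topIso.hom x ∈ Ideal.span (Set.range fun k =>
        X.presheaf.map (homOfLE hUW).op (g k)) := by
      rw [← hkerU']
      exact hx3
    have hx5 := Ideal.mem_map_of_mem U.topIso.inv.hom hx4
    rw [Ideal.map_span, ← Set.range_comp] at hx5
    rw [hx1]
    exact hx5

end main

end Groth.Agent.Lib.H87EtCoordSch
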