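import Mathlib
import Groth.Agent.Lib.H87EtCoord

/-!
# H87EtCoordU — universe-polymorphic étale coordinates

Universe-polymorphic copies (`A : Type u`, `B T : Type v`) of
`H87FirstSeqSmooth.formallySmooth_of_injective_mapBaseChange`,
`H87SmoothDiv.formallySmooth_of_lTensor_injective`, `H87EtCoord.{exists_eq_sum_tmul_DX,
lTensor_mapBaseChange_injective_mv, isEtaleAt_of_basis, span_tmul_D_eq_top}`; plus
* `span_tmul_D_ideal_eq_top`, `exists_basis_D_ideal`: if `A → B/J` is surjective then `κ(q) ⊗ Ω[B_q/A]`
  has a basis `1 ⊗ d(h_i)`, `h_i ∈ J`.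
* `exists_etale_quotient`: `C → B` smooth, `C ↠ B/J` ⟹ near each prime of `B/J` some `B_f/J₀`
  (`J₀ ⊆ J B_f`) is étale over `C` (S18416).
-/

set_option autoImplicit false

universe u v w

open TensorProduct KaehlerDifferential IsLocalRing

namespace Groth.Agent.Lib.H87EtCoordU

section tower

variable (R : Type u) (S : Type v) (T : Type w) [CommRing R] [CommRing S] [CommRing T] [Algebra R S]
  [Algebra S T] [Algebra R T] [IsScalarTower R S T]

/-- `T` formally smooth over `R`, `T ⊗ Ω_{S/R} → Ω_{T/R}` injective and `Ω_{T/S}` projective imply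
`T` formally smooth over `S` (universe polymorphic) -/
theorem formallySmooth_of_injective_mapBaseChange [Algebra.FormallySmooth R T]
    [Module.Projective T Ω[T⁄S]]
    (hinj : Function.Injective (KaehlerDifferential.mapBaseChange R S T)) :
    Algebra.FormallySmooth S T := by
  rw [Algebra.formallySmooth_iff]
  refine ⟨inferInstance, ⟨fun x y => ?_⟩⟩
  have key : ∀ z : Algebra.H1Cotangent S T, z = 0 := by
    intro z
    have h1 : Algebra.H1Cotangent.δ R S T z = 0 := by
      apply hinj
      rw [map_zero]
      exact (Algebra.H1Cotangent.exact_δ_mapBaseChange R S T).apply_apply_eq_zero z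
    obtain ⟨w, rfl⟩ := (Algebra.H1Cotangent.exact_map_δ R S T z).mp h1
    haveI : Subsingleton (Algebra.H1Cotangent R T) :=
      Algebra.FormallySmooth.subsingleton_h1Cotangent
    rw [Subsingleton.elim w 0, map_zero]
  rw [key x, key y]

variable [IsLocalRing T]

theorem formallySmooth_of_lTensor_injective [Algebra.FormallySmooth R T] [Module.Finite T Ω[T⁄R]]
    [Module.Finite S Ω[S⁄R]]
    (hinj : Function.Injective
      ((mapBaseChange R S T).lTensor (IsLocalRing.ResidueField T))) :
    Algebra.FormallySmooth S T := by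
  haveI : Module.Projective T Ω[T⁄R] := inferInstance
  haveI : Module.Free T Ω[T⁄R] := Module.free_of_flat_of_isLocalRing
  obtain ⟨l', hl'⟩ := (IsLocalRing.split_injective_iff_lTensor_residueField_injective
    (mapBaseChange R S T)).mpr hinj
  have hex := KaehlerDifferential.exact_mapBaseChange_map R S T
  have hsurj := KaehlerDifferential.map_surjective R S T
  have h12 := (hex.split_tfae').out 1 0
  obtain ⟨hi, s, hs⟩ := h12.mp ⟨hsurj, l', hl'⟩
  haveI : Module.Projective T Ω[T⁄S] := Module.Projective.of_split s _ hs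
  exact formallySmooth_of_injective_mapBaseChange R S T hi

end tower

section mv

variable {A : Type u} {T : Type v} [CommRing A] [CommRing T] [Algebra A T] [IsLocalRing T] {σ : Type}
  [Fintype σ]
  [Algebra (MvPolynomial σ A) T] [IsScalarTower A (MvPolynomial σ A) T]

/-- every element of `κ ⊗ (T ⊗ Ω[A[X]/A])` is a combination of the `1 ⊗ (1 ⊗ dX_i)`. -/
theorem exists_eq_sum_tmul_DX
    (z : (ResidueField T) ⊗[T] (T ⊗[MvPolynomial σ A] Ω[MvPolynomial σ A⁄A])) :
    ∃ c : σ → ResidueField T, z = ∑ i, c i ⊗ₜ[T]
      ((1 : T) ⊗ₜ[MvPolynomial σ A] D A (MvPolynomial σ A) (MvPolynomial.X i)) := by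
  induction z using TensorProduct.induction_on with
  | zero => exact ⟨0, by simp⟩
  | add x y hx hy =>
    obtain ⟨c, rfl⟩ := hx
    obtain ⟨d, rfl⟩ := hy
    refine ⟨c + d, ?_⟩
    rw [← Finset.sum_add_distrib]
    exact Finset.sum_congr rfl fun i _ => by rw [Pi.add_apply, TensorProduct.add_tmul]
  | tmul c m =>
    induction m using TensorProduct.induction_on with
    | zero => exact ⟨0, by simp⟩
    | add x y hx hy =>
      obtain ⟨c', hc'⟩ := hx
      obtain ⟨d', hd'⟩ := hy
      refine ⟨c' + d', ?_⟩
      rw [TensorProduct.tmul_add, hc', hd', ← Finset.sum_add_distrib]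
      exact Finset.sum_congr rfl fun i _ => by rw [Pi.add_apply, TensorProduct.add_tmul]
    | tmul t ω =>
      let b := KaehlerDifferential.mvPolynomialBasis A σ
      refine ⟨fun i => c * residue T (t * algebraMap (MvPolynomial σ A) T (b.repr ω i)), ?_⟩
      have h0 : ω = ∑ i, b.repr ω i • D A (MvPolynomial σ A) (MvPolynomial.X i) := by
        conv_lhs => rw [← b.sum_repr ω]
        exact Finset.sum_congr rfl fun i _ => by rw [KaehlerDifferential.mvPolynomialBasis_apply]
      conv_lhs => rw [h0]
      rw [TensorProduct.tmul_sum, TensorProduct.tmul_sum]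
      refine Finset.sum_congr rfl fun i _ => ?_
      have h1 : t ⊗ₜ[MvPolynomial σ A]
          (b.repr ω i • D A (MvPolynomial σ A) (MvPolynomial.X i)) =
          (t * algebraMap (MvPolynomial σ A) T (b.repr ω i)) •
            ((1 : T) ⊗ₜ[MvPolynomial σ A]
              D A (MvPolynomial σ A) (MvPolynomial.X i)) := by
        rw [TensorProduct.smul_tmul', ← TensorProduct.smul_tmul, smul_eq_mul, mul_one,
          Algebra.smul_def, mul_comm]
      rw [h1, TensorProduct.tmul_smul, TensorProduct.smul_tmul', Algebra.smul_def, mul_comm]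
      rfl

/-- if the `1 ⊗ d(image of X_i)` are linearly independent in `κ ⊗ Ω[T/A]`, the residue map of
`T ⊗ Ω[A[X]/A] → Ω[T/A]` is injective. -/
theorem lTensor_mapBaseChange_injective_mv
    (hli : LinearIndependent (ResidueField T) (fun i : σ =>
      (1 : ResidueField T) ⊗ₜ[T] D A T (algebraMap (MvPolynomial σ A) T (MvPolynomial.X i)))) :
    Function.Injective ((mapBaseChange A (MvPolynomial σ A) T).lTensor (ResidueField T)) := by
  rw [injective_iff_map_eq_zero]
  intro z hz
  obtain ⟨c, rfl⟩ := exists_eq_sum_tmul_DX z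
  rw [map_sum] at hz
  have h1 : ∀ i, ((mapBaseChange A (MvPolynomial σ A) T).lTensor (ResidueField T))
      (c i ⊗ₜ[T] ((1 : T) ⊗ₜ[MvPolynomial σ A]
        D A (MvPolynomial σ A) (MvPolynomial.X i))) =
      c i • ((1 : ResidueField T) ⊗ₜ[T]
        D A T (algebraMap (MvPolynomial σ A) T (MvPolynomial.X i))) := by
    intro i
    rw [LinearMap.lTensor_tmul, mapBaseChange_tmul, one_smul, map_D, TensorProduct.smul_tmul',
      smul_eq_mul, mul_one]
  simp_rw [h1] at hz
  have h2 := (Fintype.linearIndependent_iff.mp hli) c hz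
  refine Finset.sum_eq_zero fun i _ => ?_
  rw [h2 i, TensorProduct.zero_tmul]

end mv

section etale

variable (A : Type u) {B : Type v} [CommRing A] [CommRing B] [Algebra A B]

/-- **Étale coordinates from a basis of differentials.** If the `1 ⊗ d(h_i/1)` form a basis of
`κ(q) ⊗ Ω[B_q/A]` and `B_q` is formally smooth over `A`, then `A[X_i] → B`, `X_i ↦ h_i` is étale
at `q`. -/
theorem isEtaleAt_of_basis [Algebra.FinitePresentation A B] {σ : Type} [Fintype σ]
    [Algebra (MvPolynomial σ A) B] [IsScalarTower A (MvPolynomial σ A) B]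
    (q : Ideal B) [q.IsPrime] [Algebra.FormallySmooth A (Localization.AtPrime q)]
    (hli : LinearIndependent (ResidueField (Localization.AtPrime q)) (fun i : σ =>
      (1 : ResidueField (Localization.AtPrime q)) ⊗ₜ[Localization.AtPrime q]
        D A (Localization.AtPrime q) (algebraMap B (Localization.AtPrime q)
          (algebraMap (MvPolynomial σ A) B (MvPolynomial.X i)))))
    (hsp : Submodule.span (ResidueField (Localization.AtPrime q)) (Set.range (fun i : σ =>
      (1 : ResidueField (Localization.AtPrime q)) ⊗ₜ[Localization.AtPrime q]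
        D A (Localization.AtPrime q) (algebraMap B (Localization.AtPrime q)
          (algebraMap (MvPolynomial σ A) B (MvPolynomial.X i))))) = ⊤) :
    Algebra.IsEtaleAt (MvPolynomial σ A) q := by
  set T := Localization.AtPrime q with hT
  haveI : Algebra.EssFiniteType B T := Algebra.EssFiniteType.of_isLocalization T q.primeCompl
  haveI : Algebra.EssFiniteType A T := Algebra.EssFiniteType.comp A B T
  haveI : IsScalarTower A (MvPolynomial σ A) T := IsScalarTower.of_algebraMap_eq (fun r => by
    rw [IsScalarTower.algebraMap_apply A B T,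
      IsScalarTower.algebraMap_apply A (MvPolynomial σ A) B,
      ← IsScalarTower.algebraMap_apply (MvPolynomial σ A) B T])
  have hXT : ∀ i, algebraMap (MvPolynomial σ A) T (MvPolynomial.X i) =
      algebraMap B T (algebraMap (MvPolynomial σ A) B (MvPolynomial.X i)) := fun i => by
    rw [IsScalarTower.algebraMap_apply (MvPolynomial σ A) B T]
  have hsmT : Algebra.FormallySmooth (MvPolynomial σ A) T :=
    formallySmooth_of_lTensor_injective A (MvPolynomial σ A) T
      (lTensor_mapBaseChange_injective_mv (by
        simp_rw [hXT]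
        exact hli))
  haveI : Algebra.FinitePresentation (MvPolynomial σ A) B :=
    Algebra.FinitePresentation.of_restrict_scalars_finitePresentation A (MvPolynomial σ A) B
  haveI : Algebra.EssFiniteType (MvPolynomial σ A) T :=
    Algebra.EssFiniteType.comp (MvPolynomial σ A) B T
  -- unramified at `q`
  have hsub : Subsingleton Ω[T⁄MvPolynomial σ A] := by
    haveI : Module.Finite T Ω[T⁄MvPolynomial σ A] := inferInstance
    rw [← IsLocalRing.subsingleton_tensorProduct (R := T) (M := Ω[T⁄MvPolynomial σ A])]
    let ψ : ResidueField T ⊗[T] Ω[T⁄A] →ₗ[ResidueField T]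
        ResidueField T ⊗[T] Ω[T⁄MvPolynomial σ A] :=
      (KaehlerDifferential.map A (MvPolynomial σ A) T T).baseChange (ResidueField T)
    have hψs : Function.Surjective ψ :=
      LinearMap.lTensor_surjective _ (KaehlerDifferential.map_surjective A (MvPolynomial σ A) T)
    have hψ0 : ψ = 0 := by
      apply LinearMap.ext_on_range hsp
      intro i
      change ψ ((1 : ResidueField T) ⊗ₜ[T] D A T (algebraMap B T
        (algebraMap (MvPolynomial σ A) B (MvPolynomial.X i)))) = 0
      rw [← hXT]
      change (1 : ResidueField T) ⊗ₜ[T] (KaehlerDifferential.map A (MvPolynomial σ A) T T)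
        (D A T (algebraMap (MvPolynomial σ A) T (MvPolynomial.X i))) = 0
      rw [KaehlerDifferential.map_D, Algebra.algebraMap_self_apply, Derivation.map_algebraMap,
        TensorProduct.tmul_zero]
    refine ⟨fun x y => ?_⟩
    obtain ⟨x', rfl⟩ := hψs x
    obtain ⟨y', rfl⟩ := hψs y
    rw [hψ0]
    rfl
  haveI : Algebra.FormallyUnramified (MvPolynomial σ A) T := ⟨hsub⟩
  exact Algebra.FormallyEtale.of_formallyUnramified_and_formallySmooth

end etale

section conormal

variable (A : Type u) {B T : Type v} [CommRing A] [CommRing B] [CommRing T] [Algebra A B]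
  [Algebra B T] [Algebra A T] [IsScalarTower A B T] [IsLocalRing T]
  (p : Ideal B) [p.IsPrime] [IsLocalization.AtPrime T p]

include p in
/-- the vectors `1 ⊗ d(b/1)`, `b ∈ B`, span `κ ⊗ Ω[T/A]` -/
theorem span_tmul_D_eq_top :
    Submodule.span (ResidueField T) (Set.range (fun b : B =>
      (1 : ResidueField T) ⊗ₜ[T] D A T (algebraMap B T b))) = ⊤ := by
  rw [eq_top_iff]
  rintro z -
  have key : ∀ ω : Ω[T⁄A], (1 : ResidueField T) ⊗ₜ[T] ω ∈
      Submodule.span (ResidueField T) (Set.range (fun b : B =>
        (1 : ResidueField T) ⊗ₜ[T] D A T (algebraMap B T b))) := by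
    intro ω
    have hω : ω ∈ Submodule.span T (Set.range (KaehlerDifferential.map A A B T ∘ D A B)) := by
      rw [KaehlerDifferential.span_range_map_derivation_of_isLocalization A B T p.primeCompl]
      trivial
    induction hω using Submodule.span_induction with
    | mem ω hω =>
      obtain ⟨b, rfl⟩ := hω
      simp only [Function.comp_apply, map_D]
      exact Submodule.subset_span ⟨b, rfl⟩
    | zero => rw [TensorProduct.tmul_zero]; exact Submodule.zero_mem _
    | add x y _ _ hx hy => rw [TensorProduct.tmul_add]; exact Submodule.add_mem _ hx hy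
    | smul t x _ hx =>
      have : (1 : ResidueField T) ⊗ₜ[T] (t • x) = residue T t • ((1 : ResidueField T) ⊗ₜ[T] x) := by
        rw [TensorProduct.tmul_smul, TensorProduct.smul_tmul', TensorProduct.smul_tmul',
          smul_eq_mul, mul_one, Algebra.smul_def, mul_one]
        rfl
      rw [this]
      exact Submodule.smul_mem _ _ hx
  induction z using TensorProduct.induction_on with
  | zero => exact Submodule.zero_mem _
  | add x y hx hy => exact Submodule.add_mem _ hx hy
  | tmul c ω =>
    have : c ⊗ₜ[T] ω = c • ((1 : ResidueField T) ⊗ₜ[T] ω) := by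
      rw [TensorProduct.smul_tmul', smul_eq_mul, mul_one]
    rw [this]
    exact Submodule.smul_mem _ _ (key ω)

include p in
/-- if `A → B/J` is surjective, the `1 ⊗ d(j/1)`, `j ∈ J`, span `κ ⊗ Ω[T/A]`. -/
theorem span_tmul_D_ideal_eq_top (J : Ideal B)
    (hsurj : Function.Surjective ((Ideal.Quotient.mk J).comp (algebraMap A B))) :
    Submodule.span (ResidueField T) (Set.range (fun x : J =>
      (1 : ResidueField T) ⊗ₜ[T] D A T (algebraMap B T x))) = ⊤ := by
  rw [eq_top_iff, ← span_tmul_D_eq_top A p, Submodule.span_le]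
  rintro _ ⟨b, rfl⟩
  obtain ⟨a, ha⟩ := hsurj (Ideal.Quotient.mk J b)
  have hb : b - algebraMap A B a ∈ J := by
    rw [← Ideal.Quotient.eq]
    exact ha.symm
  have h1 : D A T (algebraMap B T b) = D A T (algebraMap B T (b - algebraMap A B a)) := by
    rw [map_sub, map_sub, ← IsScalarTower.algebraMap_apply A B T,
      Derivation.map_algebraMap, sub_zero]
  change (1 : ResidueField T) ⊗ₜ[T] D A T (algebraMap B T b) ∈ _
  rw [h1]
  exact Submodule.subset_span ⟨⟨_, hb⟩, rfl⟩

include p in
/-- a basis of `κ ⊗ Ω[T/A]` of the form `1 ⊗ d(h_i/1)` with `h_i ∈ J` -/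
theorem exists_basis_D_ideal [Module.Finite T Ω[T⁄A]] (J : Ideal B)
    (hsurj : Function.Surjective ((Ideal.Quotient.mk J).comp (algebraMap A B))) :
    ∃ (n : ℕ) (hs : Fin n → B), (∀ i, hs i ∈ J) ∧
      LinearIndependent (ResidueField T) (fun i =>
        (1 : ResidueField T) ⊗ₜ[T] D A T (algebraMap B T (hs i))) ∧
      Submodule.span (ResidueField T) (Set.range (fun i =>
        (1 : ResidueField T) ⊗ₜ[T] D A T (algebraMap B T (hs i)))) = ⊤ := by
  obtain ⟨κ', a, -, hsp, hli⟩ := exists_linearIndependent' (ResidueField T)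
    (fun x : J => (1 : ResidueField T) ⊗ₜ[T] D A T (algebraMap B T x))
  rw [span_tmul_D_ideal_eq_top A p J hsurj] at hsp
  haveI : Finite κ' := hli.finite
  haveI : Fintype κ' := Fintype.ofFinite κ'
  let e : Fin (Fintype.card κ') ≃ κ' := (Fintype.equivFin κ').symm
  refine ⟨Fintype.card κ', fun i => (a (e i) : B), fun i => (a (e i)).2, ?_, ?_⟩
  · exact hli.comp e e.injective
  · rw [← hsp]
    congr 1
    ext v
    constructor
    · rintro ⟨i, rfl⟩
      exact ⟨e i, rfl⟩
    · rintro ⟨k, rfl⟩
      exact ⟨e.symm k, by simp⟩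

end conormal

section main

variable (C : Type v) (B : Type w) [CommRing C] [CommRing B] [Algebra C B]

/-- `C → B` smooth, `C ↠ B/J`: near every prime of `B/J` there is a quotient `B_f/J₀` of `B_f`,
`J₀ ⊆ J B_f`, étale over `C`. -/
theorem exists_etale_quotient [Algebra.Smooth C B] (J : Ideal B)
    (hsurj : Function.Surjective ((Ideal.Quotient.mk J).comp (algebraMap C B)))
    (x : PrimeSpectrum (B ⧸ J)) :
    ∃ f : B, Ideal.Quotient.mk J f ∉ x.asIdeal ∧
      ∃ J₀ : Ideal (Localization.Away f), J₀ ≤ J.map (algebraMap B (Localization.Away f)) ∧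
        ((Ideal.Quotient.mk J₀).comp
          ((algebraMap B (Localization.Away f)).comp (algebraMap C B))).Etale := by
  classical
  let q : Ideal B := x.asIdeal.comap (Ideal.Quotient.mk J)
  haveI : q.IsPrime := Ideal.comap_isPrime _ _
  set T := Localization.AtPrime q with hT
  haveI : Algebra.FormallySmooth B T := Algebra.FormallySmooth.of_isLocalization q.primeCompl
  haveI : Algebra.FormallySmooth C T := Algebra.FormallySmooth.comp C B T
  haveI : Algebra.EssFiniteType B T := Algebra.EssFiniteType.of_isLocalization T q.primeCompl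
  haveI : Algebra.EssFiniteType C T := Algebra.EssFiniteType.comp C B T
  obtain ⟨n, hs, hmem, hli, hsp⟩ := exists_basis_D_ideal (T := T) C q J hsurj
  letI : Algebra (MvPolynomial (Fin n) C) B := (MvPolynomial.aeval (R := C) hs).toRingHom.toAlgebra
  have hX : ∀ i, algebraMap (MvPolynomial (Fin n) C) B (MvPolynomial.X i) = hs i := by
    intro i
    change MvPolynomial.aeval (R := C) hs (MvPolynomial.X i) = hs i
    simp
  have hP : ∀ p, algebraMap (MvPolynomial (Fin n) C) B p = MvPolynomial.aeval (R := C) hs p :=
    fun _ => rfl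
  haveI : IsScalarTower C (MvPolynomial (Fin n) C) B := IsScalarTower.of_algebraMap_eq (fun r => by
    change _ = MvPolynomial.aeval (R := C) hs (MvPolynomial.C r)
    simp)
  haveI : Algebra.IsEtaleAt (MvPolynomial (Fin n) C) q :=
    isEtaleAt_of_basis C q (by simp_rw [hX]; exact hli) (by simp_rw [hX]; exact hsp)
  haveI : Algebra.FinitePresentation (MvPolynomial (Fin n) C) B :=
    Algebra.FinitePresentation.of_restrict_scalars_finitePresentation C (MvPolynomial (Fin n) C) B
  obtain ⟨f, hfq, hf⟩ := Algebra.exists_etale_of_isEtaleAt (R := MvPolynomial (Fin n) C) q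
  refine ⟨f, hfq, ?_⟩
  let ε : MvPolynomial (Fin n) C →ₐ[C] C := MvPolynomial.aeval (0 : Fin n → C)
  have hεsurj : Function.Surjective ε := fun c => ⟨MvPolynomial.C c, by simp [ε]⟩
  let I : Ideal (MvPolynomial (Fin n) C) := RingHom.ker ε.toRingHom
  refine ⟨I.map (algebraMap (MvPolynomial (Fin n) C) (Localization.Away f)), ?_, ?_⟩
  · rw [Ideal.map_le_iff_le_comap]
    intro p hp
    rw [Ideal.mem_comap, IsScalarTower.algebraMap_apply (MvPolynomial (Fin n) C) B
      (Localization.Away f) p]
    apply Ideal.mem_map_of_mem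
    rw [hP, ← Ideal.Quotient.eq_zero_iff_mem]
    have h1 : (Ideal.Quotient.mkₐ C J) (MvPolynomial.aeval (R := C) hs p) =
        MvPolynomial.aeval (fun i => Ideal.Quotient.mkₐ C J (hs i)) p :=
      MvPolynomial.comp_aeval_apply _ _ _
    have h2 : (fun i => Ideal.Quotient.mkₐ C J (hs i)) = 0 :=
      funext fun i => Ideal.Quotient.eq_zero_iff_mem.mpr (hmem i)
    rw [h2, MvPolynomial.aeval_zero] at h1
    have h3 : MvPolynomial.constantCoeff p = 0 := by
      have h4 : ε p = 0 := hp
      rw [MvPolynomial.aeval_zero] at h4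
      exact h4
    rw [h3, map_zero] at h1
    exact h1
  · haveI : Algebra.Etale (MvPolynomial (Fin n) C) (Localization.Away f) := hf
    let e1 : (MvPolynomial (Fin n) C ⧸ I) ≃ₐ[C] C := Ideal.quotientKerAlgEquivOfSurjective hεsurj
    haveI : Algebra.Etale C (MvPolynomial (Fin n) C ⧸ I) := Algebra.Etale.of_equiv e1.symm
    let e2 : (Localization.Away f ⧸
        I.map (algebraMap (MvPolynomial (Fin n) C) (Localization.Away f))) ≃ₐ[MvPolynomial (Fin n) C ⧸ I]
        (MvPolynomial (Fin n) C ⧸ I) ⊗[MvPolynomial (Fin n) C] Localization.Away f :=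
      Algebra.TensorProduct.quotIdealMapEquivQuotTensor (Localization.Away f) I
    haveI : Algebra.Etale (MvPolynomial (Fin n) C ⧸ I)
        (Localization.Away f ⧸ I.map (algebraMap (MvPolynomial (Fin n) C) (Localization.Away f))) :=
      Algebra.Etale.of_equiv
        (A := (MvPolynomial (Fin n) C ⧸ I) ⊗[MvPolynomial (Fin n) C] Localization.Away f) e2.symm
    haveI : IsScalarTower C (MvPolynomial (Fin n) C) (Localization.Away f) :=
      IsScalarTower.of_algebraMap_eq (fun r => by
        rw [IsScalarTower.algebraMap_apply C B (Localization.Away f),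
          IsScalarTower.algebraMap_apply C (MvPolynomial (Fin n) C) B,
          ← IsScalarTower.algebraMap_apply (MvPolynomial (Fin n) C) B (Localization.Away f)])
    haveI : IsScalarTower C (MvPolynomial (Fin n) C ⧸ I)
        (Localization.Away f ⧸ I.map (algebraMap (MvPolynomial (Fin n) C) (Localization.Away f))) := by
      refine IsScalarTower.of_algebraMap_eq (R := C) (S := MvPolynomial (Fin n) C ⧸ I)
        (A := Localization.Away f ⧸
          I.map (algebraMap (MvPolynomial (Fin n) C) (Localization.Away f))) (fun r => ?_)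
      have h1 : algebraMap C (Localization.Away f ⧸
          I.map (algebraMap (MvPolynomial (Fin n) C) (Localization.Away f))) r =
          Ideal.Quotient.mk _ (algebraMap C (Localization.Away f) r) := rfl
      have h2 : algebraMap C (MvPolynomial (Fin n) C ⧸ I) r =
          Ideal.Quotient.mk I (algebraMap C (MvPolynomial (Fin n) C) r) := rfl
      rw [h1, h2, IsScalarTower.algebraMap_apply C (MvPolynomial (Fin n) C) (Localization.Away f)]
      rfl
    haveI : Algebra.Etale C
        (Localization.Away f ⧸ I.map (algebraMap (MvPolynomial (Fin n) C) (Localization.Away f))) :=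
      Algebra.Etale.comp C (MvPolynomial (Fin n) C ⧸ I) _
    have h5 := (RingHom.etale_algebraMap (R := C) (S := Localization.Away f ⧸
      I.map (algebraMap (MvPolynomial (Fin n) C) (Localization.Away f)))).mpr inferInstance
    convert h5 using 1
    ext r
    change _ = Ideal.Quotient.mk _ (algebraMap C (Localization.Away f) r)
    rw [IsScalarTower.algebraMap_apply C B (Localization.Away f)]
    rfl

end main

end Groth.Agent.Lib.H87EtCoordU
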