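import Groth.Agent.Lib.OmegaDer81F
import Groth.Agent.Lib.H90OXModAffineIso
import Mathlib.AlgebraicGeometry.Morphisms.Etale

/-!
# helper87: the canonical map `f^*Ω_{X₁/S₁} → Ω_{X₂/S₂}` is an isomorphism for étale squares

* `bijective_lift_of_etale`: ring level, `B₂ ⊗[B₁] Ω[B₁/A₁] → Ω[B₂/A₂]` is bijective when
  `B₁ → B₂` is formally étale and `A₁ → A₂` is formally unramified.
* `isIso_of_etale`: sheaf level (receptacle form).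
-/

set_option autoImplicit false
set_option linter.style.haveILetI false
universe u

open CategoryTheory AlgebraicGeometry TopologicalSpace Opposite TensorProduct

namespace Groth.Agent.Lib.H87EtaleDiff

open Groth.Agent.Lib.OmegaDer81

section ring

open KaehlerDifferential

variable {A₁ A₂ B₁ B₂ : Type u} [CommRing A₁] [CommRing A₂] [CommRing B₁] [CommRing B₂]
  [Algebra A₁ B₁] [Algebra A₂ B₂] [Algebra B₁ B₂] [Algebra A₁ A₂] [Algebra A₁ B₂]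
  [IsScalarTower A₁ B₁ B₂] [IsScalarTower A₁ A₂ B₂]

theorem bijective_map_of_formallyUnramified [Algebra.FormallyUnramified A₁ A₂] :
    Function.Bijective (KaehlerDifferential.map A₁ A₂ B₂ B₂) := by
  refine ⟨?_, KaehlerDifferential.map_surjective A₁ A₂ B₂⟩
  rw [← LinearMap.ker_eq_bot, eq_bot_iff]
  intro x hx
  obtain ⟨y, rfl⟩ := (KaehlerDifferential.exact_mapBaseChange_map A₁ A₂ B₂ x).mp hx
  have : Subsingleton (B₂ ⊗[A₂] Ω[A₂⁄A₁]) := inferInstance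
  rw [Subsingleton.elim y 0, map_zero]
  exact Submodule.zero_mem _

theorem bijective_lift_of_etale [Algebra.FormallySmooth B₁ B₂] [Algebra.FormallyUnramified B₁ B₂]
    [Algebra.FormallyUnramified A₁ A₂]
    (κ : Ω[B₁⁄A₁] →ₗ[B₁] Ω[B₂⁄A₂])
    (hκ : ∀ s, κ (D A₁ B₁ s) = D A₂ B₂ (algebraMap B₁ B₂ s)) :
    Function.Bijective (κ.liftBaseChange B₂) := by
  let κ₀ : Ω[B₁⁄A₁] →ₗ[B₁] Ω[B₂⁄A₁] := KaehlerDifferential.map A₁ A₁ B₁ B₂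
  have hκ₀ : ∀ s, κ₀ (D A₁ B₁ s) = D A₁ B₂ (algebraMap B₁ B₂ s) := fun s =>
    KaehlerDifferential.map_D A₁ A₁ B₁ B₂ s
  have h1 : κ = ((KaehlerDifferential.map A₁ A₂ B₂ B₂).restrictScalars B₁) ∘ₗ κ₀ :=
    linearMap_ext_D κ _ fun s => by
      rw [hκ]
      change _ = KaehlerDifferential.map A₁ A₂ B₂ B₂ (κ₀ (D A₁ B₁ s))
      rw [hκ₀, KaehlerDifferential.map_D]
      rfl
  have h2 : κ.liftBaseChange B₂ =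
      (KaehlerDifferential.map A₁ A₂ B₂ B₂) ∘ₗ (κ₀.liftBaseChange B₂) := by
    refine LinearMap.ext fun t => ?_
    induction t using TensorProduct.induction_on with
    | zero => simp
    | tmul x y =>
      rw [LinearMap.liftBaseChange_tmul, h1]
      change x • KaehlerDifferential.map A₁ A₂ B₂ B₂ (κ₀ y) =
        KaehlerDifferential.map A₁ A₂ B₂ B₂ (κ₀.liftBaseChange B₂ (x ⊗ₜ y))
      rw [LinearMap.liftBaseChange_tmul, map_smul]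
    | add x y hx hy => rw [map_add, map_add, hx, hy]
  rw [h2]
  have h3 : Function.Bijective (κ₀.liftBaseChange B₂) :=
    ⟨injective_lift_of_formallySmooth κ₀ hκ₀,
      (surjective_lift_iff_formallyUnramified κ₀ hκ₀).mpr inferInstance⟩
  exact (bijective_map_of_formallyUnramified (A₁ := A₁) (A₂ := A₂) (B₂ := B₂)).comp h3

end ring

section geo

variable {X₁ S₁ X₂ S₂ : Scheme.{u}} (p₁ : X₁ ⟶ S₁) (p₂ : X₂ ⟶ S₂) (f : X₂ ⟶ X₁) (g : S₂ ⟶ S₁)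
  [Etale f] [Etale g] (hsq : f ≫ p₁ = p₂ ≫ g)
  {Ω₁ : X₁.Modules} (d₁ : OmegaSh.Der p₁ Ω₁) (hd₁ : OmegaSh.IsUniversal d₁)
  {Ω₂ : X₂.Modules} (d₂ : OmegaSh.Der p₂ Ω₂) (hd₂ : OmegaSh.IsUniversal d₂)
  (c : (Scheme.Modules.pullback f).obj Ω₁ ⟶ Ω₂) (hc : OmegaSh.IsDiffCompat f d₁ d₂ c)
  {V₁ : S₁.Opens} {V₂ : S₂.Opens} {U₁ : X₁.Opens} {U₂ : X₂.Opens}
  (hV₁ : IsAffineOpen V₁) (hV₂ : IsAffineOpen V₂) (hU₁ : IsAffineOpen U₁) (hU₂ : IsAffineOpen U₂)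
  (hV : V₂ ≤ g ⁻¹ᵁ V₁) (e₁ : U₁ ≤ p₁ ⁻¹ᵁ V₁) (e₂ : U₂ ≤ p₂ ⁻¹ᵁ V₂) (hU : U₂ ≤ f ⁻¹ᵁ U₁)

include hsq hd₁ hd₂ hc hV₁ hV₂ hU₁ hU₂ hV e₁ e₂ hU in
set_option backward.isDefEq.respectTransparency false in
theorem bijective_app_chart : Function.Bijective (c.app U₂) := by
  letI : Algebra Γ(S₁, V₁) Γ(X₁, U₁) := (p₁.appLE V₁ U₁ e₁).hom.toAlgebra
  letI : Algebra Γ(S₂, V₂) Γ(X₂, U₂) := (p₂.appLE V₂ U₂ e₂).hom.toAlgebra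
  letI : Algebra Γ(X₁, U₁) Γ(X₂, U₂) := (f.appLE U₁ U₂ hU).hom.toAlgebra
  letI : Algebra Γ(S₁, V₁) Γ(S₂, V₂) := (g.appLE V₁ V₂ hV).hom.toAlgebra
  letI : Algebra Γ(S₁, V₁) Γ(X₂, U₂) :=
    ((f.appLE U₁ U₂ hU).hom.comp (p₁.appLE V₁ U₁ e₁).hom).toAlgebra
  haveI : IsScalarTower Γ(S₁, V₁) Γ(X₁, U₁) Γ(X₂, U₂) := .of_algebraMap_eq' rfl
  haveI : IsScalarTower Γ(S₁, V₁) Γ(S₂, V₂) Γ(X₂, U₂) := .of_algebraMap_eq' (by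
    change (f.appLE U₁ U₂ hU).hom.comp (p₁.appLE V₁ U₁ e₁).hom =
      (p₂.appLE V₂ U₂ e₂).hom.comp (g.appLE V₁ V₂ hV).hom
    rw [← CommRingCat.hom_comp, ← CommRingCat.hom_comp, Scheme.Hom.appLE_comp_appLE,
      Scheme.Hom.appLE_comp_appLE]
    simp only [hsq])
  haveI h1 : Algebra.Etale Γ(X₁, U₁) Γ(X₂, U₂) := f.etale_appLE hU₁ hU₂ hU
  haveI h2 : Algebra.Etale Γ(S₁, V₁) Γ(S₂, V₂) := g.etale_appLE hV₁ hV₂ hV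
  obtain ⟨κ, h1, -, -, h2⟩ := exists_chart_kappa f d₁ hd₁ d₂ hd₂ c hc hU₁ hV₁ hU₂ hV₂ e₁ e₂ hU
  rw [h2]
  exact bijective_lift_of_etale κ h1

include hsq hd₁ hd₂ hc in
theorem isIso_of_etale : IsIso c := by
  haveI : Ω₁.IsQuasicoherent := isQuasicoherent_of_isUniversal p₁ d₁ hd₁
  haveI : Ω₂.IsQuasicoherent := isQuasicoherent_of_isUniversal p₂ d₂ hd₂
  let ι : Type u := {t : S₁.affineOpens × S₂.affineOpens × X₁.affineOpens × X₂.affineOpens //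
    t.2.1.1 ≤ g ⁻¹ᵁ t.1.1 ∧ t.2.2.1.1 ≤ p₁ ⁻¹ᵁ t.1.1 ∧ t.2.2.2.1 ≤ p₂ ⁻¹ᵁ t.2.1.1 ∧
      t.2.2.2.1 ≤ f ⁻¹ᵁ t.2.2.1.1}
  refine Groth.Agent.Lib.H90OXModAffineIso.isIso_of_bijective_app_affine_cover c
    (fun i : ι => i.1.2.2.2.1) ?_ (fun i => i.1.2.2.2.2)
    (fun i => bijective_app_chart p₁ p₂ f g hsq d₁ hd₁ d₂ hd₂ c hc i.1.1.2 i.1.2.1.2 i.1.2.2.1.2
      i.1.2.2.2.2 i.2.1 i.2.2.1 i.2.2.2.1 i.2.2.2.2)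
  rw [eq_top_iff]
  intro x _
  obtain ⟨_, ⟨V₁, hV₁, rfl⟩, hxV₁, -⟩ :=
    S₁.isBasis_affineOpens.exists_subset_of_mem_open (Set.mem_univ (p₁ (f x))) isOpen_univ
  have hw : g (p₂ x) = p₁ (f x) := by
    rw [← Scheme.Hom.comp_apply, ← Scheme.Hom.comp_apply, hsq]
  obtain ⟨_, ⟨V₂, hV₂, rfl⟩, hxV₂, hV⟩ :=
    S₂.isBasis_affineOpens.exists_subset_of_mem_open (show p₂ x ∈ g ⁻¹ᵁ V₁ from by
      change g (p₂ x) ∈ V₁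
      rw [hw]
      exact hxV₁) (g ⁻¹ᵁ V₁).isOpen
  obtain ⟨_, ⟨U₁, hU₁, rfl⟩, hxU₁, e₁⟩ :=
    X₁.isBasis_affineOpens.exists_subset_of_mem_open (show f x ∈ p₁ ⁻¹ᵁ V₁ from hxV₁)
      (p₁ ⁻¹ᵁ V₁).isOpen
  obtain ⟨_, ⟨U₂, hU₂, rfl⟩, hxU₂, e₂⟩ :=
    X₂.isBasis_affineOpens.exists_subset_of_mem_open
      (show x ∈ p₂ ⁻¹ᵁ V₂ ⊓ f ⁻¹ᵁ U₁ from ⟨hxV₂, hxU₁⟩) (p₂ ⁻¹ᵁ V₂ ⊓ f ⁻¹ᵁ U₁).isOpen
  exact TopologicalSpace.Opens.mem_iSup.mpr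
    ⟨⟨⟨⟨V₁, hV₁⟩, ⟨V₂, hV₂⟩, ⟨U₁, hU₁⟩, ⟨U₂, hU₂⟩⟩, hV, e₁, fun y hy => (e₂ hy).1,
      fun y hy => (e₂ hy).2⟩, hxU₂⟩

end geo

end Groth.Agent.Lib.H87EtaleDiff
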