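import Groth.Agent.Lib.OmegaDer81I
import Groth.Agent.Lib.ModHomBasis

/-!
# Converse bridge for sheaves of differentials (helper81)

`isUniversal_of_chart_equivs`: a `Y`-derivation `d : O_X → Ω` which on every affine chart `U ⊆ f⁻¹ V`
identifies `Γ(Ω, U)` with `Ω[Γ(X,U)⁄Γ(S,V)]` (compatibly with `d`) is a universal derivation.
-/

set_option autoImplicit false
set_option linter.style.haveILetI false
universe u

open CategoryTheory AlgebraicGeometry TopologicalSpace Opposite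

namespace Groth.Agent.Lib.OmegaDer81

open Groth.Agent.Lib.QCohStalk

section converse

variable {X S : Scheme.{u}} {f : X ⟶ S} {Ω : X.Modules} (d : OmegaSh.Der f Ω)

theorem hom_app_res' {M N : X.Modules} (φ : M ⟶ N) {V U : X.Opens} (h : V ≤ U) (s : Γ(M, U)) :
    φ.app V (res M h s) = res N h (φ.app U s) := by
  have := ConcreteCategory.congr_hom (φ.mapPresheaf.naturality (homOfLE h).op) s
  rw [ConcreteCategory.comp_apply, ConcreteCategory.comp_apply] at this
  exact this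

theorem chart_lift {F : X.Modules} (D : OmegaSh.Der f F) {U : X.Opens} {V : S.Opens}
    (e : U ≤ f ⁻¹ᵁ V)
    (hch : letI := (f.appLE V U e).hom.toAlgebra
      ∃ ε : Ω[Γ(X, U)⁄Γ(S, V)] ≃ₗ[Γ(X, U)] Γ(Ω, U),
        ∀ s, ε (KaehlerDifferential.D _ _ s) = d.app U s) :
    ∃ φ : Γ(Ω, U) →ₗ[Γ(X, U)] Γ(F, U), ∀ s, φ (d.app U s) = D.app U s := by
  letI := (f.appLE V U e).hom.toAlgebra
  obtain ⟨ε, hε⟩ := hch
  have h0 : ∀ a : Γ(S, V), D.app U (algebraMap Γ(S, V) Γ(X, U) a) = 0 := by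
    intro a
    have : algebraMap Γ(S, V) Γ(X, U) a = resO X e (f.app V a) := rfl
    rw [this, der_app_map, der_app_app]
    exact res_zero F e
  obtain ⟨ℓ, hℓ, -⟩ := existsUnique_lift_kaehler (A := Γ(S, V)) (D.app U) (isLeibniz_app D U) h0
  refine ⟨ℓ ∘ₗ ε.symm.toLinearMap, fun s => ?_⟩
  rw [← hε]
  simp [hℓ]

theorem chart_span {U : X.Opens} {V : S.Opens} (e : U ≤ f ⁻¹ᵁ V)
    (hch : letI := (f.appLE V U e).hom.toAlgebra
      ∃ ε : Ω[Γ(X, U)⁄Γ(S, V)] ≃ₗ[Γ(X, U)] Γ(Ω, U),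
        ∀ s, ε (KaehlerDifferential.D _ _ s) = d.app U s) :
    Submodule.span Γ(X, U) (Set.range (d.app U)) = ⊤ := by
  letI := (f.appLE V U e).hom.toAlgebra
  obtain ⟨ε, hε⟩ := hch
  have h1 := KaehlerDifferential.span_range_derivation Γ(S, V) Γ(X, U)
  have h2 := congrArg (Submodule.map ε.toLinearMap) h1
  rw [Submodule.map_span, Submodule.map_top, LinearMap.range_eq_top.mpr ε.surjective] at h2
  rw [← h2]
  congr 1
  ext x
  constructor
  · rintro ⟨s, rfl⟩
    exact ⟨_, ⟨s, rfl⟩, hε s⟩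
  · rintro ⟨_, ⟨s, rfl⟩, rfl⟩
    exact ⟨s, (hε s).symm⟩


theorem isUniversal_of_chart_equivs
    (hchart : ∀ (U : X.Opens) (V : S.Opens) (_ : IsAffineOpen U) (_ : IsAffineOpen V)
      (e : U ≤ f ⁻¹ᵁ V), letI := (f.appLE V U e).hom.toAlgebra
      ∃ ε : Ω[Γ(X, U)⁄Γ(S, V)] ≃ₗ[Γ(X, U)] Γ(Ω, U),
        ∀ s, ε (KaehlerDifferential.D _ _ s) = d.app U s) :
    OmegaSh.IsUniversal d := by
  intro F D
  let ι := {p : X.Opens × S.Opens // IsAffineOpen p.1 ∧ IsAffineOpen p.2 ∧ p.1 ≤ f ⁻¹ᵁ p.2}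
  let B : ι → X.Opens := fun p => p.1.1
  have hB : Opens.IsBasis (Set.range B) := by
    rw [Opens.isBasis_iff_nbhd]
    intro W x hx
    obtain ⟨V, hV, hxV, -⟩ := Opens.isBasis_iff_nbhd.mp S.isBasis_affineOpens
      (show f x ∈ (⊤ : S.Opens) from trivial)
    obtain ⟨U, hU, hxU, hUW⟩ := Opens.isBasis_iff_nbhd.mp X.isBasis_affineOpens
      (show x ∈ W ⊓ f ⁻¹ᵁ V from ⟨hx, hxV⟩)
    exact ⟨U, ⟨⟨(U, V), hU, hV, hUW.trans inf_le_right⟩, rfl⟩, hxU, hUW.trans inf_le_left⟩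
  have hch : ∀ i : ι, letI := (f.appLE i.1.2 (B i) i.2.2.2).hom.toAlgebra
      ∃ ε : Ω[Γ(X, B i)⁄Γ(S, i.1.2)] ≃ₗ[Γ(X, B i)] Γ(Ω, B i),
        ∀ s, ε (KaehlerDifferential.D _ _ s) = d.app (B i) s :=
    fun i => hchart (B i) i.1.2 i.2.1 i.2.2.1 i.2.2.2
  have hspan : ∀ i : ι, Submodule.span Γ(X, B i) (Set.range (d.app (B i))) = ⊤ :=
    fun i => chart_span d i.2.2.2 (hch i)
  choose φ hφ using fun i : ι => chart_lift d D i.2.2.2 (hch i)
  -- naturality
  have nat : ∀ (i j : ι) (h : B j ≤ B i) (ω : Γ(Ω, B i)),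
      res F h (φ i ω) = φ j (res Ω h ω) := by
    intro i j h ω
    have hω : ω ∈ Submodule.span Γ(X, B i) (Set.range (d.app (B i))) := by
      rw [hspan i]; trivial
    induction hω using Submodule.span_induction with
    | mem x hx =>
      obtain ⟨s, rfl⟩ := hx
      rw [hφ, ← der_app_map, ← der_app_map, hφ]
    | zero =>
      rw [map_zero, res_zero, res_zero, map_zero]
    | add x y _ _ hx hy =>
      rw [map_add]
      have e1 : res F h (φ i x + φ i y) = res F h (φ i x) + res F h (φ i y) :=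
        map_add (F.presheaf.map (homOfLE h).op).hom _ _
      have e2 : res Ω h (x + y) = res Ω h x + res Ω h y :=
        map_add (Ω.presheaf.map (homOfLE h).op).hom _ _
      rw [e1, e2, map_add, hx, hy]
    | smul r x _ hx =>
      rw [map_smul, res_smul, res_smul, map_smul, hx]
  obtain ⟨α, hα⟩ := Groth.Agent.Lib.ModHomBasis.exists_hom_of_basis (M := Ω) (N := F) hB
    (fun i => AddCommGrpCat.ofHom (φ i).toAddMonoidHom)
    (fun i j h ω => nat i j h ω)
    (fun i r ω => map_smul (φ i) r ω)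
  have hα' : ∀ (i : ι) (ω : Γ(Ω, B i)), α.app (B i) ω = φ i ω := by
    intro i ω
    rw [hα i]
    rfl
  have hcomp : ∀ (β : Ω ⟶ F), (∀ (i : ι) (s : Γ(X, B i)), β.app (B i) (d.app (B i) s) =
      D.app (B i) s) → d.postcomp β.val = D := by
    intro β hβ
    apply der_ext'
    intro W s
    rw [postcomp_app]
    apply Groth.Agent.Lib.H90OXModQcqs.res_ext F W (fun i : {i : ι // B i ≤ W} => B i.1)
      (fun i => i.2)
    · intro x hx
      obtain ⟨_, ⟨i, rfl⟩, hxi, hiW⟩ := Opens.isBasis_iff_nbhd.mp hB hx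
      exact Opens.mem_iSup.mpr ⟨⟨i, hiW⟩, hxi⟩
    · rintro ⟨i, hi⟩
      rw [← hom_app_res', ← der_app_map, ← der_app_map, hβ]
  refine ⟨α, hcomp α (fun i s => by rw [hα', hφ]), ?_⟩
  intro β hβ
  apply Groth.Agent.Lib.ModHomBasis.hom_ext_of_basis hB
  intro i
  ext ω
  change β.app (B i) ω = α.app (B i) ω
  have hω : ω ∈ Submodule.span Γ(X, B i) (Set.range (d.app (B i))) := by
    rw [hspan i]; trivial
  induction hω using Submodule.span_induction with
  | mem x hx =>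
    obtain ⟨s, rfl⟩ := hx
    rw [hα', hφ, ← postcomp_app, hβ]
  | zero => rw [map_zero, map_zero]
  | add x y _ _ hx hy => rw [map_add, map_add, hx, hy]
  | smul r x _ hx =>
    rw [Scheme.Modules.Hom.app_smul, Scheme.Modules.Hom.app_smul, hx]

end converse


section frozen

variable {X Y : Scheme.{u}} (f : X ⟶ Y) [QuasiSeparated f]

theorem dOmega_app (U : X.Opens) (s : Γ(X, U)) :
    (OmegaSh.dOmega f).app U s = OmegaSh.dSect f U s := rfl

/-- **The frozen derivation `d_{X/Y} : O_X → Omega.sheaf f` is universal** (for quasi-separated `f`). -/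
theorem isUniversal_dOmega : OmegaSh.IsUniversal (OmegaSh.dOmega f) := by
  apply isUniversal_of_chart_equivs
  intro U V hU hV e
  exact exists_kaehler_equiv_dSect f hU hV e

/-- chart description of the frozen derivation, in terms of `dOmega`. -/
theorem exists_kaehler_equiv_dOmega {U : X.Opens} {V : Y.Opens}
    (hU : IsAffineOpen U) (hV : IsAffineOpen V) (h : U ≤ f ⁻¹ᵁ V) :
    letI : Algebra Γ(Y, V) Γ(X, U) := (f.appLE V U h).hom.toAlgebra
    ∃ ε : Ω[Γ(X, U)⁄Γ(Y, V)] ≃ₗ[Γ(X, U)] Γ(Omega.sheaf f, U),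
      ∀ s, ε (KaehlerDifferential.D Γ(Y, V) Γ(X, U) s) = (OmegaSh.dOmega f).app U s :=
  exists_kaehler_equiv_dSect f hU hV h

end frozen

end Groth.Agent.Lib.OmegaDer81
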