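import Mathlib
import Groth.Agent.S14437
import Groth.Agent.Lib.H30DimField
import Groth.Agent.Lib.QCohStalk
import Groth.Agent.Lib.OmegaDer81J
import Groth.Agent.Lib.H77OmegaStalk

/-!
# H87FibOmega: lower bounds for the fibre `Ω_{X/Y}(x)` of the sheaf of relative differentials

* `le_finrank_tensor_kaehler`: `R → T` local homomorphism of Noetherian local `k`-algebras with
  residue fields `k`, `T ↠ C` local quotient killing `𝔪_R`: `dim C ≤ dim_κ (κ ⊗ Ω[T/R])`
  (from `S14437` applied to `R → T` and to `T → C`).
* `bijective_algebraMap_residueField_stalk`: residue fields at closed points over an algebraically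
  closed field.
* `exists_surjective_stalk_omega`: the stalk of `Omega.sheaf f` at `x` is a finite module
  surjecting onto `Ω[O_{X,x}/O_{Y,f x}]`.
* `finrank_le_of_surjective_fiber`: dimension count for fibres `M/𝔪M`.
-/

set_option autoImplicit false
set_option linter.style.haveILetI false
universe u
open TensorProduct KaehlerDifferential IsLocalRing
open CategoryTheory CategoryTheory.Limits AlgebraicGeometry TopologicalSpace

namespace Groth.Agent.Lib.H87FibOmega

/-- a module over a local `k`-algebra with residue field `k`, killed by the maximal ideal and finite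
over the local ring, is finite over `k` -/
theorem finite_of_residue (k T M : Type*) [Field k] [CommRing T] [IsLocalRing T] [Algebra k T]
    [AddCommGroup M] [Module T M] [Module k M] [IsScalarTower k T M]
    (hT : Function.Surjective (algebraMap k (ResidueField T)))
    (hM : ∀ t ∈ maximalIdeal T, ∀ m : M, t • m = 0) [hfin : Module.Finite T M] :
    Module.Finite k M := by
  obtain ⟨S, hS⟩ := hfin.fg_top
  refine ⟨⟨S, eq_top_iff.2 fun v hvtop => ?_⟩⟩
  clear hvtop
  have hv : v ∈ Submodule.span T (S : Set M) := hS ▸ Submodule.mem_top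
  induction hv using Submodule.span_induction with
  | mem x hx => exact Submodule.subset_span hx
  | zero => exact Submodule.zero_mem _
  | add x y _ _ hx hy => exact Submodule.add_mem _ hx hy
  | smul b x _ hx =>
    obtain ⟨c, hc⟩ := hT (residue T b)
    have hmem : b - algebraMap k T c ∈ maximalIdeal T := by
      rw [← residue_eq_zero_iff, map_sub, sub_eq_zero, ← hc]
      exact (IsScalarTower.algebraMap_apply k T (ResidueField T) c)
    have h0 := hM _ hmem x
    rw [sub_smul, sub_eq_zero, algebraMap_smul] at h0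
    rw [h0]
    exact Submodule.smul_mem _ _ hx

/-- `k`-dimension and `κ`-dimension of the cotangent space agree when `k ≃ κ` -/
theorem finrank_cotangentSpace_eq (k C : Type u) [Field k] [CommRing C] [IsLocalRing C]
    [Algebra k C] (hC : Function.Bijective (algebraMap k (ResidueField C))) :
    Module.finrank k (CotangentSpace C) = Module.finrank (ResidueField C) (CotangentSpace C) := by
  unfold Module.finrank
  congr 1
  refine rank_eq_of_equiv_equiv (algebraMap k (ResidueField C)) (AddEquiv.refl _) hC ?_
  intro c v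
  change c • v = algebraMap k (ResidueField C) c • v
  rw [IsScalarTower.algebraMap_apply k C (ResidueField C), algebraMap_smul, algebraMap_smul]

/-- **Lower bound for the fibre of `Ω`.** `R → T` a local homomorphism of Noetherian local
`k`-algebras with residue fields `k`, `T → C` a surjection onto a local ring killing `𝔪_R`. Then
`dim C ≤ dim_κ (κ ⊗ Ω[T/R])`. -/
theorem le_finrank_tensor_kaehler (k R T C : Type u) [Field k] [CommRing R] [CommRing T] [CommRing C]
    [IsLocalRing R] [IsLocalRing T] [IsLocalRing C]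
    [IsNoetherianRing R] [IsNoetherianRing T] [IsNoetherianRing C]
    [Algebra k R] [Algebra k T] [Algebra R T] [IsScalarTower k R T]
    [Algebra k C] [Algebra T C] [IsScalarTower k T C]
    (hloc : ∀ a ∈ maximalIdeal R, algebraMap R T a ∈ maximalIdeal T)
    (hR : Function.Bijective (algebraMap k (ResidueField R)))
    (hT : Function.Bijective (algebraMap k (ResidueField T)))
    (hsurj : Function.Surjective (algebraMap T C))
    (hzero : ∀ a ∈ maximalIdeal R, algebraMap T C (algebraMap R T a) = 0)
    (r : ℕ) (hr : ringKrullDim C = r) :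
    r ≤ Module.finrank (ResidueField T) (ResidueField T ⊗[T] Ω[T⁄R]) := by
  have hle : maximalIdeal R ≤ Ideal.comap (IsScalarTower.toAlgHom k R T) (maximalIdeal T) :=
    fun a ha => hloc a ha
  haveI : IsLocalHom (algebraMap T C) := IsLocalHom.of_surjective _ hsurj
  have hle' : maximalIdeal T ≤ Ideal.comap (IsScalarTower.toAlgHom k T C) (maximalIdeal C) := by
    intro t ht
    change algebraMap T C t ∈ maximalIdeal C
    exact ((IsLocalRing.maximalIdeal_comap (algebraMap T C)).ge ht)
  have hC : Function.Bijective (algebraMap k (ResidueField C)) := by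
    refine ⟨(algebraMap k (ResidueField C)).injective, fun c' => ?_⟩
    obtain ⟨c, rfl⟩ := residue_surjective c'
    obtain ⟨t, rfl⟩ := hsurj c
    obtain ⟨l, hl⟩ := hT.2 (residue T t)
    refine ⟨l, ?_⟩
    have hmem : t - algebraMap k T l ∈ maximalIdeal T := by
      rw [← residue_eq_zero_iff, map_sub, sub_eq_zero, ← hl]
      exact (IsScalarTower.algebraMap_apply k T (ResidueField T) l)
    have h1 := hle' hmem
    change algebraMap T C (t - algebraMap k T l) ∈ maximalIdeal C at h1
    rw [← residue_eq_zero_iff, map_sub, map_sub, sub_eq_zero,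
      ← IsScalarTower.algebraMap_apply k T C] at h1
    rw [h1]
    exact (IsScalarTower.algebraMap_apply k C (ResidueField C) l)
  have h1 := Groth.Agent.S14437.result k R T hle hR hT
  have h2 := Groth.Agent.S14437.result k T C hle' hT hC
  haveI : Subsingleton Ω[C⁄T] := KaehlerDifferential.subsingleton_of_surjective T C hsurj
  rw [Module.finrank_zero_of_subsingleton, zero_add] at h2
  set φ₁ := Ideal.mapCotangent (maximalIdeal R) (maximalIdeal T) (IsScalarTower.toAlgHom k R T) hle
  set φ₂ := Ideal.mapCotangent (maximalIdeal T) (maximalIdeal C) (IsScalarTower.toAlgHom k T C) hle'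
  have hcomp : LinearMap.range φ₁ ≤ LinearMap.ker φ₂ := by
    rintro _ ⟨u, rfl⟩
    obtain ⟨a, rfl⟩ := Ideal.toCotangent_surjective _ u
    rw [LinearMap.mem_ker, Ideal.mapCotangent_toCotangent, Ideal.mapCotangent_toCotangent]
    have : (⟨(IsScalarTower.toAlgHom k T C) ((IsScalarTower.toAlgHom k R T) a), hle' (hle a.2)⟩ :
        maximalIdeal C) = 0 := by
      apply Subtype.ext
      exact hzero a a.2
    rw [this, map_zero]
  haveI : Module.Finite T (CotangentSpace T) :=
    Module.Finite.of_surjective (maximalIdeal T).toCotangent (Ideal.toCotangent_surjective _)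
  haveI : Module.Finite k (CotangentSpace T) :=
    finite_of_residue k T (CotangentSpace T) hT.2
      (fun t ht v => Ideal.Cotangent.smul_eq_zero_of_mem ht v)
  have h3 : Module.finrank k (LinearMap.range φ₂) + Module.finrank k (LinearMap.ker φ₂) =
      Module.finrank k (CotangentSpace T) := LinearMap.finrank_range_add_finrank_ker φ₂
  have h4 := Submodule.finrank_mono hcomp
  have h5 : (r : WithBot ℕ∞) ≤ (Module.finrank k (CotangentSpace C) : ℕ) := by
    rw [finrank_cotangentSpace_eq k C hC, ← spanFinrank_maximalIdeal_eq_finrank_cotangentSpace C,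
      ← hr]
    exact ringKrullDim_le_spanFinrank_maximalIdeal C
  have h6 : r ≤ Module.finrank k (CotangentSpace C) := by exact_mod_cast h5
  omega

open Groth.Agent.Lib.H30DimField

/-- residue fields at closed points of a scheme locally of finite type over an algebraically
closed field -/
theorem bijective_algebraMap_residueField_stalk (k : Type u) [Field k] [IsAlgClosed k]
    (X : Scheme.{u}) [X.Over (Spec (CommRingCat.of k))]
    [LocallyOfFiniteType (X ↘ Spec (CommRingCat.of k))] (x : X) (hx : IsClosed ({x} : Set X)) :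
    letI := (Curv2.stalkMap k X x).toAlgebra
    Function.Bijective (algebraMap k (ResidueField (X.presheaf.stalk x))) := by
  letI := (Curv2.stalkMap k X x).toAlgebra
  letI := Curv2.resAlgebra k X x
  have h0 := td_eq_zero_of_isClosed k X x hx
  have h1 := trdeg_eq_td k X x
  rw [h0] at h1
  simp only [Int.toNat_zero, Nat.cast_zero] at h1
  haveI : Algebra.IsAlgebraic k (X.residueField x) := trdeg_eq_zero_iff.mp h1
  have h2 : Function.Bijective (algebraMap k (X.residueField x)) :=
    IsAlgClosed.algebraMap_bijective_of_isIntegral (k := k) (K := X.residueField x)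
  exact h2

open Groth.Agent.Lib.QCohStalk Groth.Agent.Lib.OmegaDer81

/-- the stalk of `Ω_{X/Y}` at `x` surjects onto `Ω[O_{X,x}/O_{Y,f x}]` (it is in fact isomorphic
to it), and is a finite module -/
theorem exists_surjective_stalk_omega {X Y : Scheme.{u}} (f : X ⟶ Y) [QuasiSeparated f]
    [LocallyOfFiniteType f] (x : X) :
    letI := (f.stalkMap x).hom.toAlgebra
    Module.Finite (X.presheaf.stalk x) ((Omega.sheaf f).presheaf.stalk x) ∧
    ∃ Ψ : (Omega.sheaf f).presheaf.stalk x →ₗ[X.presheaf.stalk x]
        Ω[X.presheaf.stalk x⁄Y.presheaf.stalk (f x)], Function.Surjective Ψ := by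
  letI algRT : Algebra (Y.presheaf.stalk (f x)) (X.presheaf.stalk x) := (f.stalkMap x).hom.toAlgebra
  obtain ⟨_, ⟨U, hU, rfl⟩, hyU, -⟩ :=
    Y.isBasis_affineOpens.exists_subset_of_mem_open (Set.mem_univ (f x)) isOpen_univ
  obtain ⟨_, ⟨V, hV, rfl⟩, hxV, e⟩ :=
    X.isBasis_affineOpens.exists_subset_of_mem_open (show x ∈ f ⁻¹ᵁ U from hyU) (f ⁻¹ᵁ U).2
  haveI : (Omega.sheaf f).IsQuasicoherent := Groth.Agent.Lib.H77OmegaStalk.isQuasicoherent_omega f
  letI algAB : Algebra Γ(Y, U) Γ(X, V) := (f.appLE U V e).hom.toAlgebra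
  haveI : Algebra.FiniteType Γ(Y, U) Γ(X, V) := f.finiteType_appLE hU hV e
  obtain ⟨ε, -⟩ := exists_kaehler_equiv_dOmega f hV hU e
  obtain ⟨y, hy⟩ : ∃ y : V, y.1 = x := ⟨⟨x, hxV⟩, rfl⟩
  subst hy
  -- algebra structures
  letI algAR : Algebra Γ(Y, U) (Y.presheaf.stalk (f y.1)) :=
    (Y.presheaf.germ U (f y.1) hyU).hom.toAlgebra
  haveI hlocX : IsLocalization.AtPrime (X.presheaf.stalk y.1) (hV.primeIdealOf y).asIdeal :=
    hV.isLocalization_stalk y
  letI algAT : Algebra Γ(Y, U) (X.presheaf.stalk y.1) :=
    ((algebraMap Γ(X, V) (X.presheaf.stalk y.1)).comp (algebraMap Γ(Y, U) Γ(X, V))).toAlgebra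
  haveI : IsScalarTower Γ(Y, U) Γ(X, V) (X.presheaf.stalk y.1) := .of_algebraMap_eq' rfl
  haveI : IsScalarTower Γ(Y, U) (Y.presheaf.stalk (f y.1)) (X.presheaf.stalk y.1) :=
    .of_algebraMap_eq' (by
      change (X.presheaf.germ V y.1 y.2).hom.comp (f.appLE U V e).hom =
        (f.stalkMap y.1).hom.comp (Y.presheaf.germ U (f y.1) hyU).hom
      rw [← CommRingCat.hom_comp, ← CommRingCat.hom_comp, Scheme.Hom.germ_stalkMap,
        Scheme.Hom.appLE, Category.assoc, X.presheaf.germ_res])
  -- modules
  letI modBM := moduleSectionStalk (Omega.sheaf f) y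
  haveI := isScalarTower_sectionStalk (Omega.sheaf f) y
  haveI hloc1 := isLocalizedModule_germ (Omega.sheaf f) hV y
  haveI hloc1' : IsLocalizedModule (hV.primeIdealOf y).asIdeal.primeCompl
      ((germLinear (Omega.sheaf f) y) ∘ₗ ε.toLinearMap) :=
    IsLocalizedModule.of_linearEquiv_right _ _ ε
  haveI hloc2 : IsLocalizedModule (hV.primeIdealOf y).asIdeal.primeCompl
      (KaehlerDifferential.map Γ(Y, U) Γ(Y, U) Γ(X, V) (X.presheaf.stalk y.1)) :=
    KaehlerDifferential.isLocalizedModule_map _ _ _ _
  let e₁ := IsLocalizedModule.linearEquiv (hV.primeIdealOf y).asIdeal.primeCompl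
      ((germLinear (Omega.sheaf f) y) ∘ₗ ε.toLinearMap)
      (KaehlerDifferential.map Γ(Y, U) Γ(Y, U) Γ(X, V) (X.presheaf.stalk y.1))
  let e₁T := e₁.extendScalarsOfIsLocalization (hV.primeIdealOf y).asIdeal.primeCompl
    (X.presheaf.stalk y.1)
  haveI : Algebra.EssFiniteType Γ(X, V) (X.presheaf.stalk y.1) :=
    .of_isLocalization _ (hV.primeIdealOf y).asIdeal.primeCompl
  haveI : Algebra.EssFiniteType Γ(Y, U) (X.presheaf.stalk y.1) := .comp _ Γ(X, V) _
  refine ⟨Module.Finite.equiv e₁T.symm, ?_⟩
  refine ⟨(KaehlerDifferential.map Γ(Y, U) (Y.presheaf.stalk (f y.1)) (X.presheaf.stalk y.1)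
    (X.presheaf.stalk y.1)).comp e₁T.toLinearMap, ?_⟩
  rw [LinearMap.coe_comp]
  exact (KaehlerDifferential.map_surjective _ _ _).comp e₁T.surjective

set_option backward.isDefEq.respectTransparency false in
/-- comparing the `k`-dimension of the fibre `M/𝔪M` with the `κ`-dimension of `κ ⊗ N` for a
surjection `M → N`, when `k ≃ κ` -/
theorem finrank_le_of_surjective_fiber {T : Type u} [CommRing T] [IsLocalRing T] {M N : Type u}
    [AddCommGroup M] [Module T M] [AddCommGroup N] [Module T N] [Module.Finite T M]
    (Ψ : M →ₗ[T] N) (hΨ : Function.Surjective Ψ) (k : Type u) [Field k] (ρ : k →+* T)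
    (hρ : Function.Bijective ((Ideal.Quotient.mk (maximalIdeal T)).comp ρ)) :
    letI : Module k (M ⧸ (maximalIdeal T • (⊤ : Submodule T M))) := Module.compHom _ ρ
    Module.finrank (ResidueField T) (ResidueField T ⊗[T] N) ≤
      Module.finrank k (M ⧸ (maximalIdeal T • (⊤ : Submodule T M))) := by
  letI : Module k (M ⧸ (maximalIdeal T • (⊤ : Submodule T M))) := Module.compHom _ ρ
  letI : Module (ResidueField T) (M ⧸ maximalIdeal T • (⊤ : Submodule T M)) :=
    inferInstanceAs (Module (T ⧸ maximalIdeal T) _)
  haveI : IsScalarTower T (ResidueField T) (M ⧸ maximalIdeal T • (⊤ : Submodule T M)) :=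
    inferInstanceAs (IsScalarTower T (T ⧸ maximalIdeal T) _)
  let e : ResidueField T ⊗[T] M ≃ₗ[ResidueField T] M ⧸ (maximalIdeal T) • (⊤ : Submodule T M) :=
    (quotTensorEquivQuotSMul M (maximalIdeal T)).extendScalarsOfSurjective residue_surjective
  have h1 : Module.rank (ResidueField T) (ResidueField T ⊗[T] N) ≤
      Module.rank (ResidueField T) (ResidueField T ⊗[T] M) := by
    apply LinearMap.rank_le_of_surjective (Ψ.baseChange (ResidueField T))
    rw [LinearMap.baseChange_eq_ltensor]
    exact LinearMap.lTensor_surjective _ hΨ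
  have h2 : Module.rank (ResidueField T) (ResidueField T ⊗[T] M) =
      Module.rank (ResidueField T) (M ⧸ (maximalIdeal T) • (⊤ : Submodule T M)) := e.rank_eq
  have h3 : Module.rank k (M ⧸ (maximalIdeal T) • (⊤ : Submodule T M)) =
      Module.rank (ResidueField T) (M ⧸ (maximalIdeal T) • (⊤ : Submodule T M)) := by
    refine rank_eq_of_equiv_equiv ((Ideal.Quotient.mk (maximalIdeal T)).comp ρ) (AddEquiv.refl _) hρ ?_
    intro c v
    change ρ c • v = (residue T (ρ c)) • v
    rw [← algebraMap_smul (ResidueField T) (ρ c) v]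
    rfl
  have h4 : Module.rank (ResidueField T) (ResidueField T ⊗[T] M) < Cardinal.aleph0 :=
    Module.rank_lt_aleph0 _ _
  unfold Module.finrank
  apply Cardinal.toNat_le_toNat
  · rw [h3, ← h2]
    exact h1
  · rw [h3, ← h2]
    exact h4

end Groth.Agent.Lib.H87FibOmega
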