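import Mathlib

/-!
# Fibre rank of a module and local generators; Kähler differentials at closed points (helper87)

* `exists_finset_of_finrank_le`: `dim κ(p) ⊗ M ≤ n` ⟹ `≤ n` elements generate `M` after inverting
  some `f ∉ p` (`M` finite).
* `finrank_le_card_of_smul_mem`: converse / semicontinuity of the fibre rank.
* `finrank_residueField_baseChange`: the fibre rank is invariant under base change `R → S`.
* `finrank_tensor_kaehler_le_cotangentSpace(_atPrime)`: if `k → κ(m)` is onto then
  `dim κ(m) ⊗ Ω[B/k] ≤ embdim B_m`.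
* `algebraMap_residueField_surjective_of_isAlgClosed`: Nullstellensatz form.
* `ringKrullDim_le_of_isIntegral`.
* `span_localizedModule_eq_top`: generators after inverting `f ∉ p` generate the localization at `p`.
-/

set_option autoImplicit false

open TensorProduct KaehlerDifferential IsLocalRing

namespace Groth.Agent.Lib.H87FibreGen


section A

variable {R M : Type*} [CommRing R] [AddCommGroup M] [Module R M]

/-- elements `1 ⊗ m` span `κ ⊗ M`. -/
theorem span_one_tmul_eq_top (κ : Type*) [Field κ] [Algebra R κ] :
    Submodule.span κ (Set.range fun m : M => (1 : κ) ⊗ₜ[R] m) = ⊤ := by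
  rw [eq_top_iff]
  rintro z -
  induction z using TensorProduct.induction_on with
  | zero => exact Submodule.zero_mem _
  | add x y hx hy => exact Submodule.add_mem _ hx hy
  | tmul k m =>
    have hk : k ⊗ₜ[R] m = k • ((1 : κ) ⊗ₜ[R] m) := by
      rw [TensorProduct.smul_tmul', smul_eq_mul, mul_one]
    rw [hk]
    exact Submodule.smul_mem _ _ (Submodule.subset_span ⟨m, rfl⟩)

/-- **Fibre rank bounds local generators.**  If `κ(p) ⊗ M` has dimension `≤ n`, then there are
`≤ n` elements of `M` generating `M` after inverting one `f ∉ p`. -/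
theorem exists_finset_of_finrank_le [Module.Finite R M] (p : Ideal R) [p.IsPrime] (n : ℕ)
    (h : Module.finrank p.ResidueField (p.ResidueField ⊗[R] M) ≤ n) :
    ∃ (s : Finset M) (f : R), s.card ≤ n ∧ f ∉ p ∧
      ∀ m : M, f • m ∈ Submodule.span R (s : Set M) := by
  classical
  set κ := p.ResidueField
  obtain ⟨b, hbT, hbspan, hbli⟩ := exists_linearIndependent κ
    (Set.range fun m : M => (1 : κ) ⊗ₜ[R] m)
  rw [span_one_tmul_eq_top] at hbspan
  have hbfin : b.Finite := hbli.setFinite
  have hcard : hbfin.toFinset.card = Module.finrank κ (κ ⊗[R] M) := by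
    haveI := hbfin.fintype
    have := finrank_span_set_eq_card hbli
    rw [hbspan, finrank_top] at this
    rw [this, Set.Finite.toFinset_eq_toFinset]
  choose g hg using fun x : b => hbT x.2
  let s : Finset M := hbfin.toFinset.attach.image fun x => g ⟨x.1, hbfin.mem_toFinset.mp x.2⟩
  have hscard : s.card ≤ n := by
    refine (Finset.card_image_le).trans ?_
    rw [Finset.card_attach, hcard]
    exact h
  set N : Submodule R M := Submodule.span R (s : Set M)
  -- `κ ⊗ (M/N) = 0`
  have hsub : Subsingleton (κ ⊗[R] (M ⧸ N)) := by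
    have hsurj : Function.Surjective (N.mkQ.baseChange κ) :=
      LinearMap.lTensor_surjective _ N.mkQ_surjective
    have hzero : ∀ z : κ ⊗[R] M, N.mkQ.baseChange κ z = 0 := by
      intro z
      have hz : z ∈ Submodule.span κ b := by rw [hbspan]; trivial
      induction hz using Submodule.span_induction with
      | mem x hx =>
        have hx' : g ⟨x, hx⟩ ∈ N := by
          refine Submodule.subset_span ?_
          simp only [s, Finset.coe_image, Set.mem_image, Finset.mem_coe, Finset.mem_attach,
            true_and, Subtype.exists]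
          exact ⟨x, hbfin.mem_toFinset.mpr hx, rfl⟩
        have hg' : (1 : κ) ⊗ₜ[R] g ⟨x, hx⟩ = x := hg ⟨x, hx⟩
        calc N.mkQ.baseChange κ x = N.mkQ.baseChange κ ((1 : κ) ⊗ₜ[R] g ⟨x, hx⟩) := by rw [hg']
          _ = (1 : κ) ⊗ₜ[R] N.mkQ (g ⟨x, hx⟩) := LinearMap.baseChange_tmul _ _ _
          _ = 0 := by
            rw [Submodule.mkQ_apply, (Submodule.Quotient.mk_eq_zero N).mpr hx',
              TensorProduct.tmul_zero]
      | zero => simp
      | add x y _ _ hx hy => rw [map_add, hx, hy, add_zero]
      | smul a x _ hx => rw [map_smul, hx, smul_zero]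
    refine ⟨fun x y => ?_⟩
    obtain ⟨x', rfl⟩ := hsurj x
    obtain ⟨y', rfl⟩ := hsurj y
    rw [hzero, hzero]
  have hsupp : (⟨p, inferInstance⟩ : PrimeSpectrum R) ∉ Module.support R (M ⧸ N) := by
    rw [Module.mem_support_iff_nontrivial_residueField_tensorProduct]
    exact not_nontrivial _
  rw [Module.mem_support_iff_of_finite, SetLike.not_le_iff_exists] at hsupp
  obtain ⟨f, hfann, hfp⟩ := hsupp
  refine ⟨s, f, hscard, hfp, fun m => ?_⟩
  have := Module.mem_annihilator.mp hfann (N.mkQ m)
  rw [← map_smul, Submodule.mkQ_apply, Submodule.Quotient.mk_eq_zero] at this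
  exact this

/-- **Semicontinuity of the fibre rank**: if `s` generates `M` after inverting `f`, then
`dim κ(q) ⊗ M ≤ #s` at every prime `q` not containing `f`. -/
theorem finrank_le_card_of_smul_mem (q : Ideal R) [q.IsPrime] (s : Finset M) (f : R)
    (hf : f ∉ q) (h : ∀ m : M, f • m ∈ Submodule.span R (s : Set M)) :
    Module.finrank q.ResidueField (q.ResidueField ⊗[R] M) ≤ s.card := by
  classical
  set κ := q.ResidueField
  have hfne : algebraMap R κ f ≠ 0 := by
    rw [Ne, Ideal.algebraMap_residueField_eq_zero]
    exact hf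
  let t : Finset (κ ⊗[R] M) := s.image fun m => (1 : κ) ⊗ₜ[R] m
  have htop : Submodule.span κ (t : Set (κ ⊗[R] M)) = ⊤ := by
    rw [eq_top_iff, ← span_one_tmul_eq_top (R := R) (M := M) κ, Submodule.span_le]
    rintro _ ⟨m, rfl⟩
    have key : ∀ y ∈ Submodule.span R (s : Set M),
        (1 : κ) ⊗ₜ[R] y ∈ Submodule.span κ (t : Set (κ ⊗[R] M)) := by
      intro y hy
      induction hy using Submodule.span_induction with
      | mem x hx =>
        refine Submodule.subset_span ?_
        simp only [t, Finset.coe_image, Set.mem_image, Finset.mem_coe]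
        exact ⟨x, hx, rfl⟩
      | zero => rw [TensorProduct.tmul_zero]; exact Submodule.zero_mem _
      | add x y _ _ hx hy => rw [TensorProduct.tmul_add]; exact Submodule.add_mem _ hx hy
      | smul a x _ hx =>
        have : (1 : κ) ⊗ₜ[R] (a • x) = algebraMap R κ a • ((1 : κ) ⊗ₜ[R] x) := by
          rw [TensorProduct.tmul_smul, algebraMap_smul]
        rw [this]
        exact Submodule.smul_mem _ _ hx
    have h1 : (1 : κ) ⊗ₜ[R] (f • m) ∈ Submodule.span κ (t : Set (κ ⊗[R] M)) := key _ (h m)
    have h2 : (1 : κ) ⊗ₜ[R] m = (algebraMap R κ f)⁻¹ • ((1 : κ) ⊗ₜ[R] (f • m)) := by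
      rw [TensorProduct.tmul_smul, ← algebraMap_smul κ f ((1 : κ) ⊗ₜ[R] m), smul_smul,
        inv_mul_cancel₀ hfne, one_smul]
    show (1 : κ) ⊗ₜ[R] m ∈ Submodule.span κ (t : Set (κ ⊗[R] M))
    rw [h2]
    exact Submodule.smul_mem _ _ h1
  have h3 := finrank_span_finset_le_card (R := κ) t
  rw [Set.finrank, htop, finrank_top] at h3
  exact h3.trans Finset.card_image_le

end A



section C

variable {R S M : Type*} [CommRing R] [CommRing S] [Algebra R S] [AddCommGroup M] [Module R M]

/-- **Fibre rank is invariant under base change**: for `q` over `p`,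
`dim_{κ(q)} κ(q) ⊗_S (S ⊗_R M) = dim_{κ(p)} κ(p) ⊗_R M`. -/
theorem finrank_residueField_baseChange (p : Ideal R) [p.IsPrime] (q : Ideal S) [q.IsPrime]
    (hpq : p = q.comap (algebraMap R S)) :
    Module.finrank q.ResidueField (q.ResidueField ⊗[S] (S ⊗[R] M)) =
      Module.finrank p.ResidueField (p.ResidueField ⊗[R] M) := by
  letI : Algebra p.ResidueField q.ResidueField :=
    (Ideal.ResidueField.map p q (algebraMap R S) hpq).toAlgebra
  haveI : IsScalarTower R p.ResidueField q.ResidueField := by
    refine IsScalarTower.of_algebraMap_eq fun r => ?_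
    rw [RingHom.algebraMap_toAlgebra, Ideal.ResidueField.map_algebraMap,
      ← IsScalarTower.algebraMap_apply]
  let e₁ : q.ResidueField ⊗[S] (S ⊗[R] M) ≃ₗ[q.ResidueField] q.ResidueField ⊗[R] M :=
    AlgebraTensorModule.cancelBaseChange R S q.ResidueField q.ResidueField M
  let e₂ : q.ResidueField ⊗[p.ResidueField] (p.ResidueField ⊗[R] M) ≃ₗ[q.ResidueField]
      q.ResidueField ⊗[R] M :=
    AlgebraTensorModule.cancelBaseChange R p.ResidueField q.ResidueField q.ResidueField M
  rw [e₁.finrank_eq, ← e₂.finrank_eq, Module.finrank_baseChange]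

end C



section D

theorem exists_surjective_of_ideal_eq {P : Type*} [CommRing P] {I J : Ideal P} (h : J = I)
    {M : Type*} [AddCommGroup M] [Module P M] (f : J.Cotangent →ₗ[P] M)
    (hf : Function.Surjective f) : ∃ g : I.Cotangent →ₗ[P] M, Function.Surjective g := by
  subst h
  exact ⟨f, hf⟩

/-- For a Noetherian local `k`-algebra `P` with `k → κ(P)` surjective, `𝔪/𝔪² → κ ⊗ Ω[P/k]` is onto,
so `dim κ ⊗ Ω[P/k] ≤ embdim P`. -/
theorem finrank_tensor_kaehler_le_cotangentSpace
    (k : Type*) (P : Type*) [CommRing k] [CommRing P] [IsLocalRing P] [Algebra k P]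
    [IsNoetherianRing P]
    (hk : Function.Surjective (algebraMap k (ResidueField P))) :
    Module.finrank (ResidueField P) ((ResidueField P) ⊗[P] Ω[P⁄k]) ≤
      Module.finrank (ResidueField P) (CotangentSpace P) := by
  have hex := KaehlerDifferential.exact_kerCotangentToTensor_mapBaseChange k P
    (ResidueField P) residue_surjective
  haveI : Subsingleton Ω[ResidueField P⁄k] := KaehlerDifferential.subsingleton_of_surjective _ _ hk
  have hsurj : Function.Surjective (kerCotangentToTensor k P (ResidueField P)) := by
    intro x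
    exact (hex x).mp (Subsingleton.elim _ _)
  have hker : RingHom.ker (algebraMap P (ResidueField P)) = maximalIdeal P := ker_residue (R := P)
  obtain ⟨g, hg⟩ := exists_surjective_of_ideal_eq hker _ hsurj
  let g' : CotangentSpace P →ₗ[ResidueField P] (ResidueField P) ⊗[P] Ω[P⁄k] :=
    LinearMap.extendScalarsOfSurjective residue_surjective g
  have hg' : Function.Surjective g' := hg
  exact LinearMap.finrank_le_finrank_of_surjective hg'

/-- Global version: `B` a `k`-algebra, `m` a prime with `B_m` Noetherian and `k → κ(m)` onto. -/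
theorem finrank_tensor_kaehler_le_cotangentSpace_atPrime
    (k : Type*) (B : Type*) [CommRing k] [CommRing B] [Algebra k B] (m : Ideal B) [m.IsPrime]
    [IsNoetherianRing (Localization.AtPrime m)]
    (hk : Function.Surjective (algebraMap k m.ResidueField)) :
    Module.finrank m.ResidueField (m.ResidueField ⊗[B] Ω[B⁄k]) ≤
      Module.finrank (ResidueField (Localization.AtPrime m))
        (CotangentSpace (Localization.AtPrime m)) := by
  refine le_trans (le_of_eq ?_)
    (finrank_tensor_kaehler_le_cotangentSpace k (Localization.AtPrime m) hk)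
  haveI : Algebra.FormallyEtale B (Localization.AtPrime m) :=
    Algebra.FormallyEtale.of_isLocalization m.primeCompl
  let e₀ : Localization.AtPrime m ⊗[B] Ω[B⁄k] ≃ₗ[Localization.AtPrime m]
      Ω[Localization.AtPrime m⁄k] :=
    KaehlerDifferential.tensorKaehlerEquivOfFormallyEtale k B (Localization.AtPrime m)
  let e₁ : m.ResidueField ⊗[Localization.AtPrime m] (Localization.AtPrime m ⊗[B] Ω[B⁄k])
      ≃ₗ[m.ResidueField] m.ResidueField ⊗[B] Ω[B⁄k] :=
    AlgebraTensorModule.cancelBaseChange B (Localization.AtPrime m) m.ResidueField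
      m.ResidueField Ω[B⁄k]
  let e₂ : m.ResidueField ⊗[Localization.AtPrime m] (Localization.AtPrime m ⊗[B] Ω[B⁄k])
      ≃ₗ[m.ResidueField] m.ResidueField ⊗[Localization.AtPrime m] Ω[Localization.AtPrime m⁄k] :=
    AlgebraTensorModule.congr (LinearEquiv.refl m.ResidueField m.ResidueField) e₀
  rw [← e₁.finrank_eq, e₂.finrank_eq]

end D



section E

/-- Nullstellensatz: residue fields at maximal ideals of a f.t. algebra over an algebraically
closed field are the base field. -/
theorem algebraMap_residueField_surjective_of_isAlgClosed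
    (k : Type*) (B : Type*) [Field k] [IsAlgClosed k] [CommRing B] [Algebra k B]
    [Algebra.FiniteType k B] (m : Ideal B) [m.IsMaximal] :
    Function.Surjective (algebraMap k m.ResidueField) := by
  haveI : Algebra.FiniteType k m.ResidueField :=
    Algebra.FiniteType.of_surjective (IsScalarTower.toAlgHom k B m.ResidueField)
      m.algebraMap_residueField_surjective
  haveI : Module.Finite k m.ResidueField := finite_of_finite_type_of_isJacobsonRing k _
  haveI : Algebra.IsIntegral k m.ResidueField := Algebra.IsIntegral.of_finite k _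
  exact (IsAlgClosed.algebraMap_bijective_of_isIntegral (k := k) (K := m.ResidueField)).2

theorem ringKrullDim_le_of_isIntegral {R S : Type*} [CommRing R] [CommRing S] [Algebra R S]
    [Algebra.IsIntegral R S] : ringKrullDim S ≤ ringKrullDim R :=
  Order.krullDim_le_of_strictMono
    (fun I ↦ ⟨Ideal.comap (algebraMap R S) I.asIdeal, inferInstance⟩)
    (fun I J hIJ ↦ by
      have : I.asIdeal < J.asIdeal := hIJ
      exact Ideal.IsIntegral.comap_lt_comap (R := R) this)

end E


section F

variable {R M : Type*} [CommRing R] [AddCommGroup M] [Module R M]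

/-- generators of `M` after inverting `f ∉ p` generate `M_p`. -/
theorem span_localizedModule_eq_top (p : Ideal R) [p.IsPrime] (s : Finset M) (f : R)
    (hf : f ∉ p) (h : ∀ m : M, f • m ∈ Submodule.span R (s : Set M)) :
    Submodule.span (Localization.AtPrime p)
      ((LocalizedModule.mkLinearMap p.primeCompl M) '' (s : Set M)) = ⊤ := by
  set T := Submodule.span (Localization.AtPrime p)
      ((LocalizedModule.mkLinearMap p.primeCompl M) '' (s : Set M))
  have key : ∀ y ∈ Submodule.span R (s : Set M),
      LocalizedModule.mkLinearMap p.primeCompl M y ∈ T := by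
    intro y hy
    induction hy using Submodule.span_induction with
    | mem x hx => exact Submodule.subset_span ⟨x, hx, rfl⟩
    | zero => rw [map_zero]; exact Submodule.zero_mem _
    | add x y _ _ hx hy => rw [map_add]; exact Submodule.add_mem _ hx hy
    | smul a x _ hx =>
      rw [map_smul, ← algebraMap_smul (Localization.AtPrime p) a]
      exact Submodule.smul_mem _ _ hx
  rw [eq_top_iff]
  rintro x -
  induction x using LocalizedModule.induction_on with
  | h m t =>
    have h1 : LocalizedModule.mk m t =
        Localization.mk (1 : R) (t * ⟨f, hf⟩) • LocalizedModule.mk (f • m) (1 : p.primeCompl) := by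
      rw [LocalizedModule.mk_smul_mk, one_smul, mul_one]
      exact (LocalizedModule.mk_cancel_common_right t ⟨f, hf⟩ m).symm
    rw [h1]
    exact Submodule.smul_mem _ _ (key _ (h m))

end F

end Groth.Agent.Lib.H87FibreGen
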