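import Mathlib
import Groth.Agent.S2195
import Groth.Agent.Lib.DblCovRing37

/-
# Purity for finite flat morphisms (helper87)

* `etale_of_forall_height_le_one` (ring level): `B` finite free over Noetherian `A`, étale over a
  basic open neighbourhood of every prime of height `≤ 1` ⇒ `B` étale over `A`
  (discriminant + Krull's Hauptidealsatz; uses helper50's S2195 étale ⇔ discriminant unit).
* `etale_app_of_le`, `flat_app`, `app_res`, `exists_good` (affine opens over which `f_*O_X` is free;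
  uses helper37's `DblCovRing37.exists_isFree_away`), `etale_app_of_basis`.
* `etale_of_finite_flat`: finite flat `f : X ⟶ Y`, `Y` locally Noetherian, étale over an open `U`
  whose complement has local dimension `≥ 2` everywhere ⇒ `f` étale.
-/
set_option autoImplicit false

open Module CategoryTheory AlgebraicGeometry

namespace Groth.Agent.Lib.H87FinFlatPurity

universe u

theorem etale_of_forall_height_le_one {A B : Type u} [CommRing A] [CommRing B] [Algebra A B]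
    [IsNoetherianRing A] {ι : Type} [Fintype ι] [DecidableEq ι] (b : Basis ι A B)
    (h : ∀ p : Ideal A, p.IsPrime → p.height ≤ 1 → ∃ g : A, g ∉ p ∧
      ∃ (A' B' : Type u) (_ : CommRing A') (_ : CommRing B') (_ : Algebra A A') (_ : Algebra B B')
        (_ : Algebra A' B') (_ : Algebra A B') (_ : IsScalarTower A A' B')
        (_ : IsScalarTower A B B') (_ : IsLocalization.Away g A')
        (_ : IsLocalization.Away (algebraMap A B g) B'), Algebra.Etale A' B') :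
    Algebra.Etale A B := by
  rw [Groth.Agent.S2195.result b]
  by_contra hd
  have hne : Ideal.span {Algebra.discr A b} ≠ ⊤ := by
    rwa [Ne, Ideal.span_singleton_eq_top]
  obtain ⟨m, hm, hle⟩ := Ideal.exists_le_maximal _ hne
  haveI : m.IsPrime := hm.isPrime
  obtain ⟨p, hp, -⟩ := Ideal.exists_minimalPrimes_le (I := Ideal.span {Algebra.discr A b})
    (J := m) hle
  have hpprime : p.IsPrime := hp.1.1
  have hht : p.height ≤ 1 :=
    Ideal.height_le_one_of_isPrincipal_of_mem_minimalPrimes (Ideal.span {Algebra.discr A b}) p hp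
  have hdp : Algebra.discr A b ∈ p := hp.1.2 (Ideal.subset_span rfl)
  obtain ⟨g, hg, A', B', _, _, _, _, _, _, _, _, _, _, het⟩ := h p hpprime hht
  haveI : IsLocalization (Algebra.algebraMapSubmonoid B (Submonoid.powers g)) B' := by
    rw [Algebra.algebraMapSubmonoid_powers]
    infer_instance
  have hunit : IsUnit (Algebra.discr A' (b.localizationLocalization A' (Submonoid.powers g) B')) :=
    (Groth.Agent.S2195.result (b.localizationLocalization A' (Submonoid.powers g) B')).mp het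
  rw [Algebra.discr_localizationLocalization A (Submonoid.powers g) B' b] at hunit
  have hdisj : Disjoint (Submonoid.powers g : Set A) (p : Set A) := by
    rw [Set.disjoint_left]
    rintro x ⟨n, rfl⟩ hx
    exact hg (hpprime.mem_of_pow_mem n hx)
  have hcomap := IsLocalization.comap_map_of_isPrime_disjoint (Submonoid.powers g) A' hpprime hdisj
  have htop : Ideal.map (algebraMap A A') p = ⊤ :=
    Ideal.eq_top_of_isUnit_mem _ (Ideal.mem_map_of_mem _ hdp) hunit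
  rw [htop] at hcomap
  exact hpprime.ne_top (hcomap.symm.trans (Ideal.comap_top (f := algebraMap A A')))

variable {X Y : Scheme.{u}} (f : X ⟶ Y)

/-- étaleness of `f ∣_ U` gives étale ring maps over affine opens contained in `U` -/
theorem etale_app_of_le [IsAffineHom f] (U : Y.Opens) [Etale (f ∣_ U)] {W : Y.Opens}
    (hW : IsAffineOpen W) (hWU : W ≤ U) : (f.app W).hom.Etale := by
  have hV : IsAffineOpen (U.ι ⁻¹ᵁ W) :=
    hW.preimage_of_isOpenImmersion U.ι (by rw [Scheme.Opens.opensRange_ι]; exact hWU)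
  have hW' : IsAffineOpen ((f ⁻¹ᵁ U).ι ⁻¹ᵁ (f ⁻¹ᵁ W)) :=
    (hW.preimage f).preimage_of_isOpenImmersion _
      (by rw [Scheme.Opens.opensRange_ι]; exact f.preimage_mono hWU)
  have e : (f ⁻¹ᵁ U).ι ⁻¹ᵁ (f ⁻¹ᵁ W) ≤ (f ∣_ U) ⁻¹ᵁ (U.ι ⁻¹ᵁ W) := by
    intro x hx
    change (U.ι) ((f ∣_ U) x) ∈ W
    have : (f ∣_ U) ≫ U.ι = (f ⁻¹ᵁ U).ι ≫ f := morphismRestrict_ι f U
    have h2 : (U.ι) ((f ∣_ U) x) = f ((f ⁻¹ᵁ U).ι x) := by
      rw [← Scheme.Hom.comp_apply, this, Scheme.Hom.comp_apply]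
    rw [h2]
    exact hx
  have h := (f ∣_ U).etale_appLE hV hW' e
  rw [morphismRestrict_appLE] at h
  have key : ∀ (U₁ : Y.Opens) (V₁ : X.Opens) (e₁ : V₁ ≤ f ⁻¹ᵁ U₁), U₁ = W → V₁ = f ⁻¹ᵁ W →
      (f.appLE U₁ V₁ e₁).hom.Etale → (f.app W).hom.Etale := by
    rintro _ _ e₁ rfl rfl h
    rwa [Scheme.Hom.appLE_eq_app] at h
  refine key _ _ _ ?_ ?_ h
  · rw [Scheme.Hom.image_preimage_eq_opensRange_inf, Scheme.Opens.opensRange_ι]
    exact inf_eq_right.mpr hWU
  · rw [Scheme.Hom.image_preimage_eq_opensRange_inf, Scheme.Opens.opensRange_ι]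
    exact inf_eq_right.mpr (f.preimage_mono hWU)

theorem flat_app [IsAffineHom f] [Flat f] {V : Y.Opens} (hV : IsAffineOpen V) :
    (f.app V).hom.Flat := by
  have := f.flat_appLE hV (hV.preimage f) le_rfl
  rwa [Scheme.Hom.appLE_eq_app] at this

theorem app_res {V' V : Y.Opens} (h : V' ≤ V) (a : Γ(Y, V)) :
    (f.app V').hom ((Y.presheaf.map (homOfLE h).op).hom a) =
      (X.presheaf.map (homOfLE (f.preimage_mono h)).op).hom ((f.app V).hom a) := by
  have := f.naturality (homOfLE h).op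
  exact congrArg (fun φ : Γ(Y, V) ⟶ Γ(X, f ⁻¹ᵁ V') => φ.hom a) this

/-- affine opens of the base over which `f_* O_X` is free -/
theorem exists_good [IsLocallyNoetherian Y] [IsFinite f] [Flat f] (y : Y) :
    ∃ (V : Y.Opens) (_ : IsAffineOpen V), y ∈ V ∧ ∃ n : ℕ,
      letI := (f.app V).hom.toAlgebra
      Nonempty (Basis (Fin n) Γ(Y, V) Γ(X, f ⁻¹ᵁ V)) := by
  obtain ⟨V₀, hV₀, hy⟩ : ∃ V₀ : Y.Opens, IsAffineOpen V₀ ∧ y ∈ V₀ := by
    obtain ⟨_, ⟨V₀, hV₀, rfl⟩, hy, -⟩ :=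
      Y.isBasis_affineOpens.exists_subset_of_mem_open (Set.mem_univ y) isOpen_univ
    exact ⟨V₀, hV₀, hy⟩
  have hU₀ : IsAffineOpen (f ⁻¹ᵁ V₀) := hV₀.preimage f
  haveI : IsNoetherianRing Γ(Y, V₀) := IsLocallyNoetherian.component_noetherian ⟨V₀, hV₀⟩
  have hfin : (f.app V₀).hom.Finite := f.finite_app V₀ hV₀
  have hfp : (f.app V₀).hom.FinitePresentation :=
    RingHom.FinitePresentation.of_finiteType.mp hfin.to_finiteType
  obtain ⟨r, hr, H⟩ := Groth.Agent.Lib.DblCovRing37.exists_isFree_away (f.app V₀).hom hfin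
    (flat_app f hV₀) hfp (hV₀.primeIdealOf ⟨y, hy⟩)
    ((f.app V₀).hom.finrank (hV₀.primeIdealOf ⟨y, hy⟩)) rfl
  refine ⟨Y.basicOpen r, hV₀.basicOpen r, ?_,
    ((f.app V₀).hom.finrank (hV₀.primeIdealOf ⟨y, hy⟩)), ?_⟩
  · have h1 : hV₀.fromSpec (hV₀.primeIdealOf ⟨y, hy⟩) = y := hV₀.fromSpec_primeIdealOf ⟨y, hy⟩
    have h2 : hV₀.primeIdealOf ⟨y, hy⟩ ∈ hV₀.fromSpec ⁻¹ᵁ Y.basicOpen r := by
      rw [hV₀.fromSpec_preimage_basicOpen]
      exact hr
    rw [← h1]
    exact h2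
  · have hle : Y.basicOpen r ≤ V₀ := Y.basicOpen_le r
    have hle' : f ⁻¹ᵁ Y.basicOpen r ≤ f ⁻¹ᵁ V₀ := f.preimage_mono hle
    letI algA : Algebra Γ(X, f ⁻¹ᵁ V₀) Γ(X, f ⁻¹ᵁ Y.basicOpen r) :=
      (X.presheaf.map (homOfLE hle').op).hom.toAlgebra
    haveI locB : IsLocalization.Away r Γ(Y, Y.basicOpen r) := hV₀.isLocalization_basicOpen r
    haveI locA : IsLocalization.Away ((f.app V₀).hom r) Γ(X, f ⁻¹ᵁ Y.basicOpen r) :=
      IsAffineOpen.isLocalization_of_eq_basicOpen hU₀ _ _ (Scheme.preimage_basicOpen f r)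
    exact H Γ(Y, Y.basicOpen r) Γ(X, f ⁻¹ᵁ Y.basicOpen r) (f.app (Y.basicOpen r)).hom
      (fun b => app_res f hle b)

/-- over an affine open `V` of the base over which `f_* O_X` is free, the ring map is étale
provided `f` is étale off a closed subset of local dimension `≥ 2` -/
theorem etale_app_of_basis [IsLocallyNoetherian Y] [IsAffineHom f] (U : Y.Opens)
    (hU : ∀ y : Y, y ∉ U → (2 : WithBot ℕ∞) ≤ ringKrullDim (Y.presheaf.stalk y))
    [Etale (f ∣_ U)] {V : Y.Opens} (hV : IsAffineOpen V) {n : ℕ}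
    (hb : letI := (f.app V).hom.toAlgebra
      Nonempty (Basis (Fin n) Γ(Y, V) Γ(X, f ⁻¹ᵁ V))) :
    (f.app V).hom.Etale := by
  letI alg := (f.app V).hom.toAlgebra
  obtain ⟨b⟩ := hb
  haveI : IsNoetherianRing Γ(Y, V) := IsLocallyNoetherian.component_noetherian ⟨V, hV⟩
  have hUX : IsAffineOpen (f ⁻¹ᵁ V) := hV.preimage f
  rw [RingHom.etale_algebraMap.symm.trans (by rw [RingHom.algebraMap_toAlgebra] :
    (algebraMap Γ(Y, V) Γ(X, f ⁻¹ᵁ V)).Etale ↔ (f.app V).hom.Etale) |>.symm]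
  apply etale_of_forall_height_le_one b
  intro p hp hht
  have hyV : hV.fromSpec ⟨p, hp⟩ ∈ V := by
    have h0 : hV.fromSpec ⟨p, hp⟩ ∈ hV.fromSpec.opensRange := ⟨_, rfl⟩
    rwa [hV.opensRange_fromSpec] at h0
  have hyU : hV.fromSpec ⟨p, hp⟩ ∈ U := by
    by_contra hnot
    have h2 := hU _ hnot
    letI := TopCat.Presheaf.algebra_section_stalk Y.presheaf ⟨hV.fromSpec ⟨p, hp⟩, hyV⟩
    haveI hloc : IsLocalization.AtPrime (Y.presheaf.stalk (hV.fromSpec ⟨p, hp⟩)) p :=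
      hV.isLocalization_stalk' ⟨p, hp⟩ hyV
    rw [IsLocalization.AtPrime.ringKrullDim_eq_height p] at h2
    have h3 : ((2 : ℕ∞) : WithBot ℕ∞) ≤ (p.height : WithBot ℕ∞) := h2
    rw [WithBot.coe_le_coe] at h3
    have h4 := h3.trans hht
    norm_num at h4
  obtain ⟨g, hgU, hyg⟩ := hV.exists_basicOpen_le (V := U) ⟨_, hyU⟩ hyV
  have hgp : g ∉ p := by
    have h1 : (⟨p, hp⟩ : PrimeSpectrum Γ(Y, V)) ∈ hV.fromSpec ⁻¹ᵁ Y.basicOpen g := hyg
    rw [hV.fromSpec_preimage_basicOpen] at h1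
    exact h1
  refine ⟨g, hgp, Γ(Y, Y.basicOpen g), Γ(X, f ⁻¹ᵁ Y.basicOpen g), inferInstance, inferInstance,
    ?_⟩
  have hle : Y.basicOpen g ≤ V := Y.basicOpen_le g
  have hle' : f ⁻¹ᵁ Y.basicOpen g ≤ f ⁻¹ᵁ V := f.preimage_mono hle
  letI algA : Algebra Γ(Y, V) Γ(Y, Y.basicOpen g) :=
    (Y.presheaf.map (homOfLE hle).op).hom.toAlgebra
  letI algB : Algebra Γ(X, f ⁻¹ᵁ V) Γ(X, f ⁻¹ᵁ Y.basicOpen g) :=
    (X.presheaf.map (homOfLE hle').op).hom.toAlgebra
  letI algAB' : Algebra Γ(Y, Y.basicOpen g) Γ(X, f ⁻¹ᵁ Y.basicOpen g) :=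
    (f.app (Y.basicOpen g)).hom.toAlgebra
  letI algAB'' : Algebra Γ(Y, V) Γ(X, f ⁻¹ᵁ Y.basicOpen g) :=
    ((f.app (Y.basicOpen g)).hom.comp (Y.presheaf.map (homOfLE hle).op).hom).toAlgebra
  haveI t1 : IsScalarTower Γ(Y, V) Γ(Y, Y.basicOpen g) Γ(X, f ⁻¹ᵁ Y.basicOpen g) :=
    .of_algebraMap_eq fun _ => rfl
  haveI t2 : IsScalarTower Γ(Y, V) Γ(X, f ⁻¹ᵁ V) Γ(X, f ⁻¹ᵁ Y.basicOpen g) :=
    .of_algebraMap_eq fun a => app_res f hle a
  haveI locA : IsLocalization.Away g Γ(Y, Y.basicOpen g) := hV.isLocalization_basicOpen g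
  haveI locB : IsLocalization.Away (algebraMap Γ(Y, V) Γ(X, f ⁻¹ᵁ V) g)
      Γ(X, f ⁻¹ᵁ Y.basicOpen g) :=
    IsAffineOpen.isLocalization_of_eq_basicOpen hUX _ _ (Scheme.preimage_basicOpen f g)
  refine ⟨algA, algB, algAB', algAB'', t1, t2, locA, locB, ?_⟩
  rw [← RingHom.etale_algebraMap]
  exact etale_app_of_le f U (hV.basicOpen g) hgU

/-- **Purity for finite flat morphisms**: a finite flat morphism to a locally Noetherian scheme
which is étale over the complement of a closed subset of local dimension `≥ 2` is étale. -/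
theorem etale_of_finite_flat [IsLocallyNoetherian Y] [IsFinite f] [Flat f] (U : Y.Opens)
    (hU : ∀ y : Y, y ∉ U → (2 : WithBot ℕ∞) ≤ ringKrullDim (Y.presheaf.stalk y))
    [Etale (f ∣_ U)] : Etale f := by
  have hQ : RingHom.StableUnderCompositionWithLocalizationAwaySource RingHom.Etale :=
    (RingHom.Etale.stableUnderComposition.stableUnderCompositionWithLocalizationAway
      (RingHom.Etale.propertyIsLocal.HoldsForLocalizationAway
        RingHom.Etale.containsIdentities)).1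
  rw [HasRingHomProperty.iff_exists_appLE (P := @Etale) hQ]
  intro x
  obtain ⟨V, hV, hxV, n, hb⟩ := exists_good f (f x)
  refine ⟨⟨V, hV⟩, ⟨f ⁻¹ᵁ V, hV.preimage f⟩, hxV, le_rfl, ?_⟩
  rw [Scheme.Hom.appLE_eq_app]
  exact etale_app_of_basis f U hU hV hb

end Groth.Agent.Lib.H87FinFlatPurity
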