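import Mathlib
import Groth.Agent.Lib.H87FirstSeqSmooth
import Groth.Agent.Lib.Conormal81C

/-!
# helper87: the first fundamental sequence of a smooth morphism is left exact; fibre dimension

* `mono_of_smooth`: for `f` smooth, `c₁ : f^*Ω_{Y/Z} → Ω_{X/Z}` is a monomorphism.
* `fibreDimAt_add_eq_of_smooth`: if moreover `Ω_{Y/Z}`, `Ω_{X/Z}` are locally free of ranks `a`, `b`
  then the fibre dimension `m` of `f` at any point satisfies `b = a + m`.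
-/

set_option autoImplicit false
set_option linter.style.haveILetI false
universe u

open CategoryTheory CategoryTheory.Limits AlgebraicGeometry TopologicalSpace Opposite TensorProduct

namespace Groth.Agent.Lib.H87FirstSeqSmooth

open Groth.Agent.Lib.OmegaDer81 Groth.Agent.Lib.Conormal81 Groth.Agent.Lib.ModStalk
  Groth.Agent.Lib.ModStalkLin

variable {X Y Z : Scheme.{u}} (f : X ⟶ Y) (g : Y ⟶ Z)
  {ΩY : Y.Modules} (dY : OmegaSh.Der g ΩY) {ΩX : X.Modules} (dX : OmegaSh.Der (f ≫ g) ΩX)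
  {ΩXY : X.Modules} (dXY : OmegaSh.Der f ΩXY)

/-- for smooth `f`, the map `f^*Ω_{Y/Z} → Ω_{X/Z}` is a monomorphism -/
theorem mono_of_smooth [Smooth f] (hY : OmegaSh.IsUniversal dY) (hX : OmegaSh.IsUniversal dX)
    (c₁ : (Scheme.Modules.pullback f).obj ΩY ⟶ ΩX) (hc₁ : OmegaSh.IsDiffCompat f dY dX c₁) :
    Mono c₁ := by
  let ι := {p : X.Opens × Y.Opens × Z.Opens // IsAffineOpen p.1 ∧ IsAffineOpen p.2.1 ∧
    IsAffineOpen p.2.2 ∧ p.1 ≤ f ⁻¹ᵁ p.2.1 ∧ p.2.1 ≤ g ⁻¹ᵁ p.2.2}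
  let B : ι → X.Opens := fun p => p.1.1
  have hcharts : ∀ (O : X.Opens) (x : X), x ∈ O → ∃ p : ι, x ∈ B p ∧ B p ≤ O := by
    intro O x hx
    obtain ⟨UZ, hUZ, hxZ, -⟩ := Opens.isBasis_iff_nbhd.mp Z.isBasis_affineOpens
      (show g (f x) ∈ (⊤ : Z.Opens) from trivial)
    obtain ⟨UY, hUY, hxY, hYZ⟩ := Opens.isBasis_iff_nbhd.mp Y.isBasis_affineOpens
      (show f x ∈ g ⁻¹ᵁ UZ from hxZ)
    obtain ⟨UX, hUX, hxX, hXle⟩ := Opens.isBasis_iff_nbhd.mp X.isBasis_affineOpens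
      (show x ∈ O ⊓ f ⁻¹ᵁ UY from ⟨hx, hxY⟩)
    exact ⟨⟨(UX, UY, UZ), hUX, hUY, hUZ, hXle.trans inf_le_right, hYZ⟩, hxX,
      hXle.trans inf_le_left⟩
  apply mono_of_injective_on_basis c₁ B hcharts
  rintro ⟨⟨UX, UY, UZ⟩, hUX, hUY, hUZ, e1, e2⟩
  change Function.Injective (c₁.app UX)
  have e3 : UX ≤ (f ≫ g) ⁻¹ᵁ UZ := e1.trans (f.preimage_mono e2)
  letI algCB : Algebra Γ(Z, UZ) Γ(Y, UY) := (g.appLE UZ UY e2).hom.toAlgebra
  letI algCA : Algebra Γ(Z, UZ) Γ(X, UX) := ((f ≫ g).appLE UZ UX e3).hom.toAlgebra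
  letI algBA : Algebra Γ(Y, UY) Γ(X, UX) := (f.appLE UY UX e1).hom.toAlgebra
  haveI : IsScalarTower Γ(Z, UZ) Γ(Y, UY) Γ(X, UX) := by
    apply IsScalarTower.of_algebraMap_eq'
    have := Scheme.Hom.appLE_comp_appLE f g UZ UY UX e2 e1
    exact congrArg CommRingCat.Hom.hom this.symm
  have hsm : Algebra.Smooth Γ(Y, UY) Γ(X, UX) :=
    HasRingHomProperty.appLE (P := @Smooth) f inferInstance ⟨UY, hUY⟩ ⟨UX, hUX⟩ e1
  haveI : Algebra.FormallySmooth Γ(Y, UY) Γ(X, UX) := hsm.formallySmooth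
  obtain ⟨κ, h1, -, h2, -⟩ := exists_chart_kappa f dY hY dX hX c₁ hc₁ hUY hUZ hUX hUZ e2 e3 e1
  rw [h2]
  exact injective_lift_of_formallySmooth κ h1

/-- for smooth `f` with `Ω_{Y/Z}`, `Ω_{X/Z}` locally free of ranks `a`, `b`: the fibre dimension `m`
at any point satisfies `b = a + m` -/
theorem fibreDimAt_add_eq_of_smooth [Smooth f]
    (hY : OmegaSh.IsUniversal dY) (hX : OmegaSh.IsUniversal dX) (hXY : OmegaSh.IsUniversal dXY)
    {a b : ℕ} (hrY : FlatMod.IsFinLocFreeOfRank a ΩY) (hrX : FlatMod.IsFinLocFreeOfRank b ΩX)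
    (x : X) : ∃ m : ℕ, FlatMor.fibreDimAt f x = (m : WithBot ℕ∞) ∧ b = a + m := by
  obtain ⟨c₁, hc₁, -⟩ := existsUnique_isDiffCompat f (𝟙 Z) (Category.comp_id _) dY hY dX
  obtain ⟨c₂, hc₂, -⟩ := existsUnique_isDiffCompat (𝟙 X) g (Category.id_comp _).symm dX hX dXY
  have hc₂' : ∀ (U : X.Opens) (s : Γ(X, U)),
      ((Scheme.Modules.pullbackId X).inv.app ΩX ≫ c₂).app U (dX.app U s) = dXY.app U s := by
    intro U s
    change c₂.app U (((Scheme.Modules.pullbackId X).inv.app ΩX).app U (dX.app U s)) = _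
    rw [pullbackId_inv_app]
    exact hc₂ U s
  obtain ⟨w, hex, hepi⟩ := first_sequence_exact f g dY dX dXY c₁
    ((Scheme.Modules.pullbackId X).inv.app ΩX ≫ c₂) hY hX hXY hc₁ hc₂'
  haveI := hepi
  haveI : Mono c₁ := mono_of_smooth f g dY dX hY hX c₁ hc₁
  obtain ⟨U, m, hxU, ⟨e⟩, hm⟩ :=
    Groth.Agent.Lib.H87SmoothRank.exists_free_omega_of_smooth f ΩXY dXY hXY x
  refine ⟨m, hm, ?_⟩
  obtain ⟨U₁, hx₁, ⟨e₁⟩⟩ := Groth.Agent.Lib.H90Invertible.isFinLocFreeOfRank_pullback f hrY x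
  obtain ⟨U₂, hx₂, ⟨e₂⟩⟩ := hrX x
  obtain ⟨hP1, hP2, hP3⟩ :=
    Groth.Agent.Lib.H87LocFreeExact.stalk_free_finite_finrank U₁ e₁ ⟨x, hx₁⟩
  obtain ⟨-, -, hQ3⟩ := Groth.Agent.Lib.H87LocFreeExact.stalk_free_finite_finrank U₂ e₂ ⟨x, hx₂⟩
  obtain ⟨hT1, hT2, hT3⟩ := Groth.Agent.Lib.H87LocFreeExact.stalk_free_finite_finrank U e ⟨x, hxU⟩
  have hexx : Function.Exact (stalkLin c₁ x)
      (stalkLin ((Scheme.Modules.pullbackId X).inv.app ΩX ≫ c₂) x) := by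
    have h1 := hex.map (stalkFunctor x)
    exact (ShortComplex.ab_exact_iff_function_exact _).mp h1
  have h := Groth.Agent.Lib.H87LocFreeExact.finrank_eq_add_of_exact (stalkLin c₁ x)
    (stalkLin ((Scheme.Modules.pullbackId X).inv.app ΩX ≫ c₂) x)
    (stalkLin_injective_of_mono c₁ x) hexx (stalkLin_surjective_of_epi _ x)
  rw [hP3, hQ3, hT3] at h
  exact h

end Groth.Agent.Lib.H87FirstSeqSmooth
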