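import Groth.Agent.Lib.H56RegSmooth
import Mathlib.Topology.Constructible
import Mathlib.Topology.Sober
import Mathlib.RingTheory.Smooth.Field
import Mathlib.RingTheory.EssentialFiniteness

/-!
# Generic smoothness for a regular source over a perfect function field: ring/topology parts
(helper87)
-/

set_option autoImplicit false
universe u

namespace Groth.Agent.Lib.H87GenSmoothReg

open IsLocalRing

/-- A regular local ring essentially of finite type over a perfect field is formally smooth. -/
theorem formallySmooth_of_isRegularLocalRing (K : Type u) [Field K] [PerfectField K]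
    (R : Type u) [CommRing R] [Algebra K R] [Algebra.EssFiniteType K R] [IsRegularLocalRing R] :
    Algebra.FormallySmooth K R := by
  let C := Algebra.EssFiniteType.subalgebra K R
  let M := Algebra.EssFiniteType.submonoid K R
  let q : Ideal C := (maximalIdeal R).comap (algebraMap C R)
  haveI hq : q.IsPrime := Ideal.comap_isPrime _ _
  have hMq : M = q.primeCompl := by
    ext c
    show IsUnit (algebraMap C R c) ↔ c ∉ q
    rw [Ideal.mem_comap, mem_maximalIdeal, mem_nonunits_iff, not_not]
  haveI : IsLocalization q.primeCompl R := by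
    rw [← hMq]; infer_instance
  let e : Localization.AtPrime q ≃ₐ[C] R := IsLocalization.algEquiv q.primeCompl _ _
  haveI : IsRegularLocalRing (Localization.AtPrime q) :=
    IsRegularLocalRing.of_ringEquiv e.symm.toRingEquiv
  haveI : Algebra.EssFiniteType K C := inferInstance
  haveI : Algebra.EssFiniteType K q.ResidueField := Algebra.EssFiniteType.comp K C _
  haveI : Algebra.FormallySmooth K q.ResidueField := Algebra.FormallySmooth.of_perfectField
  have hsm : Algebra.IsSmoothAt K q :=
    Groth.Agent.Lib.H56RegSmooth.isSmoothAt_of_isRegularLocalRing K C q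
  have hsm' : Algebra.FormallySmooth K (Localization.AtPrime q) := hsm
  exact Algebra.FormallySmooth.of_equiv (e.restrictScalars K)

section Topology

open Topology

variable {X : Type*} [TopologicalSpace X]

/-- In a space with a generic point `η`, a constructible set either contains an open
neighbourhood of `η` or is disjoint from one. -/
theorem exists_open_of_isConstructible {η : X} (hη : IsGenericPoint η (Set.univ : Set X))
    {s : Set X} (hs : IsConstructible s) :
    (η ∈ s → ∃ U : Set X, IsOpen U ∧ η ∈ U ∧ U ⊆ s) ∧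
      (η ∉ s → ∃ U : Set X, IsOpen U ∧ η ∈ U ∧ Disjoint U s) := by
  induction hs using IsConstructible.empty_union_induction with
  | open_retrocompact U hUo _ =>
    refine ⟨fun h => ⟨U, hUo, h, subset_rfl⟩, fun h => ⟨Set.univ, isOpen_univ, trivial, ?_⟩⟩
    rw [Set.univ_disjoint]
    by_contra hne
    exact h ((hη.mem_open_set_iff hUo).mpr (by simpa using Set.nonempty_iff_ne_empty.mpr hne))
  | union s _ t _ ihs iht =>
    refine ⟨fun h => ?_, fun h => ?_⟩
    · rcases h with h | h
      · obtain ⟨U, hU, hηU, hUs⟩ := ihs.1 h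
        exact ⟨U, hU, hηU, hUs.trans Set.subset_union_left⟩
      · obtain ⟨U, hU, hηU, hUs⟩ := iht.1 h
        exact ⟨U, hU, hηU, hUs.trans Set.subset_union_right⟩
    · obtain ⟨U, hU, hηU, hUs⟩ := ihs.2 (fun h' => h (Or.inl h'))
      obtain ⟨W, hW, hηW, hWt⟩ := iht.2 (fun h' => h (Or.inr h'))
      refine ⟨U ∩ W, hU.inter hW, ⟨hηU, hηW⟩, ?_⟩
      rw [Set.disjoint_union_right]
      exact ⟨hUs.mono_left Set.inter_subset_left, hWt.mono_left Set.inter_subset_right⟩
  | compl s _ ih =>
    refine ⟨fun h => ?_, fun h => ?_⟩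
    · obtain ⟨U, hU, hηU, hUs⟩ := ih.2 h
      exact ⟨U, hU, hηU, fun x hx => Set.disjoint_left.mp hUs hx⟩
    · obtain ⟨U, hU, hηU, hUs⟩ := ih.1 (not_not.mp h)
      exact ⟨U, hU, hηU, Set.disjoint_left.mpr fun x hx hxs => hxs (hUs hx)⟩

/-- A locally constructible set not containing the generic point is not dense near it. -/
theorem notMem_closure_of_isLocallyConstructible {η : X}
    (hη : IsGenericPoint η (Set.univ : Set X)) {s : Set X} (hs : IsLocallyConstructible s)
    (h : η ∉ s) : η ∉ closure s := by
  obtain ⟨U, hUn, hUo, hUc⟩ := hs η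
  have hηU : η ∈ U := mem_of_mem_nhds hUn
  have hη' : IsGenericPoint (⟨η, hηU⟩ : U) (Set.univ : Set U) := by
    rw [isGenericPoint_def, Set.eq_univ_iff_forall]
    intro x
    rw [mem_closure_iff]
    intro o ho hxo
    have ho' : IsOpen (Subtype.val '' o) := hUo.isOpenMap_subtype_val o ho
    have hne : (Set.univ ∩ Subtype.val '' o).Nonempty := ⟨x.1, trivial, x, hxo, rfl⟩
    obtain ⟨y, hyo, hy⟩ := (hη.mem_open_set_iff ho').mpr hne
    refine ⟨⟨η, hηU⟩, ?_, rfl⟩
    have : y = ⟨η, hηU⟩ := Subtype.ext hy
    rwa [← this]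
  obtain ⟨O, hO, hηO, hOs⟩ := (exists_open_of_isConstructible hη' hUc).2 h
  rw [mem_closure_iff]
  intro hcl
  obtain ⟨z, ⟨w, hwO, rfl⟩, hzs⟩ := hcl (Subtype.val '' O) (hUo.isOpenMap_subtype_val O hO)
    ⟨⟨η, hηU⟩, hηO, rfl⟩
  exact Set.disjoint_left.mp hOs hwO hzs

end Topology

end Groth.Agent.Lib.H87GenSmoothReg
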