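import Mathlib.AlgebraicGeometry.FunctionField
import Mathlib.AlgebraicGeometry.ResidueField
import Mathlib.AlgebraicGeometry.Morphisms.Smooth
import Mathlib.RingTheory.Etale.Field
import Mathlib.RingTheory.Etale.Kaehler
import Mathlib.RingTheory.Smooth.Kaehler
import Groth.Agent.Lib.OmegaDer81F

/-!
# helper87: injectivity of `φ^*Ω_Y → Ω_X` for a dominant generically separable morphism

* ring lemma `injective_mapBaseChange_of_formallyEtale`: `A → B → B' → L` with `Ω[B/A]` flat,
  `L` formally étale over `B` and `B' → L` injective ⇒ `B' ⊗_B Ω[B/A] → Ω[B'/A]` injective.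
* `map_genericPoint_of_denseRange`, `formallyEtale_evaluation_genericPoint`.
* `injective_app_of_generic`: the chart statement for integral `X`, `Y` over a field, `Y` smooth.
-/

set_option autoImplicit false
set_option linter.style.haveILetI false
universe u
open CategoryTheory AlgebraicGeometry TopologicalSpace TensorProduct KaehlerDifferential

namespace Groth.Agent.Lib.H87GenericDiff

section ring

variable {A B B' L : Type u} [CommRing A] [CommRing B] [CommRing B'] [CommRing L]
  [Algebra A B] [Algebra A B'] [Algebra B B'] [IsScalarTower A B B']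
  [Algebra A L] [Algebra B L] [Algebra B' L] [IsScalarTower A B L] [IsScalarTower A B' L]
  [IsScalarTower B B' L]

theorem map_map_eq (ω : Ω[B⁄A]) :
    KaehlerDifferential.map A A B' L (KaehlerDifferential.map A A B B' ω) =
      KaehlerDifferential.map A A B L ω := by
  have h : ((KaehlerDifferential.map A A B' L).restrictScalars B) ∘ₗ
      (KaehlerDifferential.map A A B B') = KaehlerDifferential.map A A B L := by
    apply LinearMap.ext_on (KaehlerDifferential.span_range_derivation A B)
    rintro _ ⟨s, rfl⟩
    change KaehlerDifferential.map A A B' L (KaehlerDifferential.map A A B B' (D A B s)) =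
      KaehlerDifferential.map A A B L (D A B s)
    rw [KaehlerDifferential.map_D, KaehlerDifferential.map_D, KaehlerDifferential.map_D,
      ← IsScalarTower.algebraMap_apply]
  exact LinearMap.congr_fun h ω

theorem mapBaseChange_rTensor (x : B' ⊗[B] Ω[B⁄A]) :
    mapBaseChange A B L (LinearMap.rTensor Ω[B⁄A] (IsScalarTower.toAlgHom B B' L).toLinearMap x) =
      KaehlerDifferential.map A A B' L (mapBaseChange A B B' x) := by
  induction x using TensorProduct.induction_on with
  | zero => simp
  | add x y hx hy => rw [map_add, map_add, map_add, map_add, hx, hy]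
  | tmul b' ω =>
    rw [LinearMap.rTensor_tmul, mapBaseChange_tmul, mapBaseChange_tmul]
    change algebraMap B' L b' • _ = _
    rw [(KaehlerDifferential.map A A B' L).map_smul_of_tower, map_map_eq, algebraMap_smul]

/-- if `Ω[B/A]` is flat, `L` is formally étale over `B` and `B' → L` is injective, then
`B' ⊗ Ω[B/A] → Ω[B'/A]` is injective -/
theorem injective_mapBaseChange_of_formallyEtale [Module.Flat B Ω[B⁄A]] [Algebra.FormallyEtale B L]
    (hinj : Function.Injective (algebraMap B' L)) :
    Function.Injective (mapBaseChange A B B') := by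
  rw [injective_iff_map_eq_zero]
  intro x hx
  have h1 := mapBaseChange_rTensor (A := A) (B := B) (B' := B') (L := L) x
  rw [hx, map_zero] at h1
  have h2 : LinearMap.rTensor Ω[B⁄A] (IsScalarTower.toAlgHom B B' L).toLinearMap x = 0 :=
    (tensorKaehlerEquivOfFormallyEtale A B L).injective (by
      rw [map_zero]
      exact h1)
  have h3 : Function.Injective
      (LinearMap.rTensor Ω[B⁄A] (IsScalarTower.toAlgHom B B' L).toLinearMap) :=
    Module.Flat.rTensor_preserves_injective_linearMap _ hinj
  exact h3 (by rw [h2, map_zero])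

end ring

section generic

theorem map_genericPoint_of_denseRange {X Y : Scheme.{u}} [IrreducibleSpace X]
    [IrreducibleSpace Y] (φ : X ⟶ Y) (hdom : DenseRange φ.base) :
    φ.base (genericPoint X) = genericPoint Y := by
  apply ((genericPoint_spec Y).eq _).symm
  have := (genericPoint_spec X).image φ.continuous
  rwa [Set.image_univ, hdom.closure_range] at this

theorem genericPoint_mem_of_nonempty {X : Scheme.{u}} [IrreducibleSpace X] (U : X.Opens)
    (h : (U : Set X).Nonempty) : genericPoint X ∈ U :=
  ((genericPoint_spec X).mem_open_set_iff U.isOpen).mpr (by simpa using h)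

/-- for an integral scheme, the residue field at the generic point is formally étale over the
sections over any affine open -/
theorem formallyEtale_evaluation_genericPoint {Y : Scheme.{u}} [IsIntegral Y] {U : Y.Opens}
    (hU : IsAffineOpen U) (y : Y) (hy : y = genericPoint Y) (hyU : y ∈ U) :
    (Y.evaluation U y hyU).hom.FormallyEtale := by
  subst hy
  haveI : Nonempty U := ⟨⟨_, hyU⟩⟩
  haveI := functionField_isFractionRing_of_isAffineOpen Y U hU
  haveI h1 : Algebra.FormallyEtale Γ(Y, U) Y.functionField :=
    Algebra.FormallyEtale.of_isLocalization (nonZeroDivisors Γ(Y, U))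
  letI : Algebra Γ(Y, U) (Y.residueField (genericPoint Y)) :=
    (Y.evaluation U (genericPoint Y) hyU).hom.toAlgebra
  have hbij : Function.Bijective (Y.residue (genericPoint Y)).hom :=
    ⟨RingHom.injective _, Y.residue_surjective _⟩
  let e : Y.functionField ≃ₐ[Γ(Y, U)] Y.residueField (genericPoint Y) :=
    AlgEquiv.ofRingEquiv (f := RingEquiv.ofBijective (Y.residue (genericPoint Y)).hom hbij)
      (fun x => rfl)
  exact Algebra.FormallyEtale.of_equiv e

theorem injective_evaluation_genericPoint {X : Scheme.{u}} [IsIntegral X] {U : X.Opens}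
    (hxU : genericPoint X ∈ U) :
    Function.Injective (X.evaluation U (genericPoint X) hxU).hom := by
  have h1 : Function.Injective (X.presheaf.germ U (genericPoint X) hxU).hom :=
    germ_injective_of_isIntegral X _ hxU
  have h2 : Function.Injective (X.residue (genericPoint X)).hom :=
    RingHom.injective (X.residue (genericPoint X)).hom
  exact h2.comp h1

end generic

section chart

open Groth.Agent.Lib.OmegaDer81

variable {k : Type u} [Field k] {X Y : Scheme.{u}} (pY : Y ⟶ Spec (CommRingCat.of k))
  (φ : X ⟶ Y) [IsIntegral X] [IsIntegral Y] [Smooth pY]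
  (hdom : DenseRange φ.base)
  (hsep : letI := (φ.residueFieldMap (genericPoint X)).hom.toAlgebra
      Algebra.IsSeparable (Y.residueField (φ.base (genericPoint X)))
        (X.residueField (genericPoint X)))
  {ΩY : Y.Modules} (dY : OmegaSh.Der pY ΩY) (hY : OmegaSh.IsUniversal dY)
  {ΩX : X.Modules} (dX : OmegaSh.Der (φ ≫ pY) ΩX) (hX : OmegaSh.IsUniversal dX)
  (c : (Scheme.Modules.pullback φ).obj ΩY ⟶ ΩX) (hc : OmegaSh.IsDiffCompat φ dY dX c)
  {U : Y.Opens} {U' : X.Opens} (hU : IsAffineOpen U) (hU' : IsAffineOpen U')
  (hUU' : U' ≤ φ ⁻¹ᵁ U) (hne : (U' : Set X).Nonempty)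

include hdom hsep hY hX hc hU hU' hUU' hne in
set_option backward.isDefEq.respectTransparency false in
/-- chart statement: for `φ : X ⟶ Y` dominant and generically separable between integral
`k`-schemes with `Y` smooth, `φ^*Ω_Y → Ω_X` is injective on sections over any nonempty affine
`U' ⊆ φ⁻¹U`, `U` affine. -/
theorem injective_app_of_generic : Function.Injective (c.app U') := by
  have hηU' : genericPoint X ∈ U' := genericPoint_mem_of_nonempty U' hne
  have hφη : φ.base (genericPoint X) = genericPoint Y := map_genericPoint_of_denseRange φ hdom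
  have hyU : φ.base (genericPoint X) ∈ U := hUU' hηU'
  have hV : IsAffineOpen (⊤ : (Spec (CommRingCat.of k)).Opens) := isAffineOpen_top _
  have e : U ≤ pY ⁻¹ᵁ ⊤ := fun _ _ => trivial
  have e' : U' ≤ (φ ≫ pY) ⁻¹ᵁ ⊤ := fun _ _ => trivial
  letI : Algebra Γ(Spec (CommRingCat.of k), ⊤) Γ(Y, U) := (pY.appLE ⊤ U e).hom.toAlgebra
  letI : Algebra Γ(Spec (CommRingCat.of k), ⊤) Γ(X, U') :=
    ((φ ≫ pY).appLE ⊤ U' e').hom.toAlgebra
  letI : Algebra Γ(Y, U) Γ(X, U') := (φ.appLE U U' hUU').hom.toAlgebra
  haveI : IsScalarTower Γ(Spec (CommRingCat.of k), ⊤) Γ(Y, U) Γ(X, U') :=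
    .of_algebraMap_eq' (by
      change ((φ ≫ pY).appLE ⊤ U' e').hom = (φ.appLE U U' hUU').hom.comp (pY.appLE ⊤ U e).hom
      rw [← CommRingCat.hom_comp, Scheme.Hom.appLE_comp_appLE])
  -- the field `L = κ(η)`
  letI : Algebra Γ(X, U') (X.residueField (genericPoint X)) :=
    (X.evaluation U' (genericPoint X) hηU').hom.toAlgebra
  letI : Algebra Γ(Y, U) (X.residueField (genericPoint X)) :=
    ((X.evaluation U' (genericPoint X) hηU').hom.comp (φ.appLE U U' hUU').hom).toAlgebra
  letI : Algebra Γ(Spec (CommRingCat.of k), ⊤) (X.residueField (genericPoint X)) :=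
    ((X.evaluation U' (genericPoint X) hηU').hom.comp ((φ ≫ pY).appLE ⊤ U' e').hom).toAlgebra
  haveI : IsScalarTower Γ(Spec (CommRingCat.of k), ⊤) Γ(X, U') (X.residueField (genericPoint X)) :=
    .of_algebraMap_eq' rfl
  haveI : IsScalarTower Γ(Y, U) Γ(X, U') (X.residueField (genericPoint X)) :=
    .of_algebraMap_eq' rfl
  haveI : IsScalarTower Γ(Spec (CommRingCat.of k), ⊤) Γ(Y, U) (X.residueField (genericPoint X)) :=
    .of_algebraMap_eq' (by
      change (X.evaluation U' (genericPoint X) hηU').hom.comp ((φ ≫ pY).appLE ⊤ U' e').hom =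
        ((X.evaluation U' (genericPoint X) hηU').hom.comp (φ.appLE U U' hUU').hom).comp
          (pY.appLE ⊤ U e).hom
      rw [RingHom.comp_assoc, ← CommRingCat.hom_comp (pY.appLE ⊤ U e),
        Scheme.Hom.appLE_comp_appLE])
  -- the field `K = κ(φ η)`
  letI : Algebra Γ(Y, U) (Y.residueField (φ.base (genericPoint X))) :=
    (Y.evaluation U (φ.base (genericPoint X)) hyU).hom.toAlgebra
  letI : Algebra (Y.residueField (φ.base (genericPoint X))) (X.residueField (genericPoint X)) :=
    (φ.residueFieldMap (genericPoint X)).hom.toAlgebra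
  haveI : IsScalarTower Γ(Y, U) (Y.residueField (φ.base (genericPoint X)))
      (X.residueField (genericPoint X)) := .of_algebraMap_eq' (by
    change (X.evaluation U' (genericPoint X) hηU').hom.comp (φ.appLE U U' hUU').hom =
      (φ.residueFieldMap (genericPoint X)).hom.comp
        (Y.evaluation U (φ.base (genericPoint X)) hyU).hom
    rw [← CommRingCat.hom_comp, ← CommRingCat.hom_comp, Scheme.evaluation_naturality,
      Scheme.Hom.appLE, Category.assoc]
    congr 2
    rw [Scheme.evaluation, ← Category.assoc, X.presheaf.germ_res]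
    rfl)
  haveI : Algebra.IsSeparable (Y.residueField (φ.base (genericPoint X)))
      (X.residueField (genericPoint X)) := hsep
  haveI : Algebra.FormallyEtale (Y.residueField (φ.base (genericPoint X)))
      (X.residueField (genericPoint X)) := Algebra.FormallyEtale.of_isSeparable _ _
  haveI : Algebra.FormallyEtale Γ(Y, U) (Y.residueField (φ.base (genericPoint X))) :=
    formallyEtale_evaluation_genericPoint hU _ hφη hyU
  haveI : Algebra.FormallyEtale Γ(Y, U) (X.residueField (genericPoint X)) :=
    Algebra.FormallyEtale.comp Γ(Y, U) (Y.residueField (φ.base (genericPoint X)))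
      (X.residueField (genericPoint X))
  -- flatness of `Ω`
  haveI : Algebra.Smooth Γ(Spec (CommRingCat.of k), ⊤) Γ(Y, U) :=
    HasRingHomProperty.appLE (P := @Smooth) pY inferInstance ⟨⊤, hV⟩ ⟨U, hU⟩ e
  have hinj : Function.Injective (algebraMap Γ(X, U') (X.residueField (genericPoint X))) :=
    injective_evaluation_genericPoint hηU'
  obtain ⟨κ, h1, -, h2, -⟩ := exists_chart_kappa φ dY hY dX hX c hc hU hV hU' hV e e' hUU'
  rw [h2, lift_eq_mapBaseChange κ h1]
  exact injective_mapBaseChange_of_formallyEtale (L := X.residueField (genericPoint X)) hinj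

end chart

end Groth.Agent.Lib.H87GenericDiff
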