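import Groth.Agent.Lib.H87ConormalDiff
import Groth.Agent.Lib.OmegaDer81J
import Groth.Agent.S9386
import Mathlib.CategoryTheory.Monoidal.Cartesian.Grp
import Mathlib.CategoryTheory.Monoidal.Cartesian.Over
import Mathlib.AlgebraicGeometry.Pullbacks
import Groth.Agent.Lib.ModPullback
import Groth.Agent.Lib.H77QCohKernel
import Groth.Agent.Lib.H72PullbackQCoh
import Mathlib.AlgebraicGeometry.Modules.Tilde

/-!
# helper87: `Ω_{G/S} ≅ f^* C_{S/G}` for group schemes

* `nonempty_pullback_iso_of_isPullback`: base change iso for differentials (from `S9386`), any receptacles;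
* `exists_iso_coprod_of_field`, `pullbackCoprodIso`, `exists_omega_iso_coprod`: freeness over a field;
* `nonempty_omega_iso_of_translation`: abstract form of the group scheme argument: if `P = X ×_S X` carries an
  automorphism `a` over `p₁` with `Δ ≫ a ≫ p₂ = f ≫ e` then `Ω_{X/S} ≅ f^* C_{S/X}`.
-/

set_option autoImplicit false
set_option linter.style.haveILetI false
universe u

open CategoryTheory CategoryTheory.Limits AlgebraicGeometry TopologicalSpace Opposite

namespace Groth.Agent.Lib.H87GroupOmega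

open Groth.Agent.Lib.OmegaDer81 Groth.Agent.Lib.H87ConormalDiff

/-- base change iso for differentials, for arbitrary receptacles -/
theorem nonempty_pullback_iso_of_isPullback {X S X' S' : Scheme.{u}} (f : X ⟶ S) (g : S' ⟶ S)
    (g' : X' ⟶ X) (f' : X' ⟶ S') (hsq : IsPullback g' f' f g)
    {Ω : X.Modules} (d : OmegaSh.Der f Ω) (hd : OmegaSh.IsUniversal d)
    {Ω' : X'.Modules} (d' : OmegaSh.Der f' Ω') (hd' : OmegaSh.IsUniversal d') :
    Nonempty ((Scheme.Modules.pullback g').obj Ω ≅ Ω') := by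
  obtain ⟨c, hc, -⟩ := existsUnique_isDiffCompat g' g hsq.w.symm d hd d'
  haveI := Groth.Agent.S9386.result f g g' f' hsq Ω d hd Ω' d' hd' c hc
  exact ⟨asIso c⟩

/-- abstract form of the group scheme argument -/
theorem nonempty_omega_iso_of_translation {X S P : Scheme.{u}} (f : X ⟶ S) [QuasiSeparated f]
    (e : S ⟶ X) (hef : e ≫ f = 𝟙 S) (p₁ p₂ : P ⟶ X) (hsq : IsPullback p₂ p₁ f f)
    (a : P ≅ P) (ha : a.hom ≫ p₁ = p₁) (Δ : X ⟶ P) (hΔ₂ : Δ ≫ p₂ = 𝟙 X)
    (hΔτ : Δ ≫ a.hom ≫ p₂ = f ≫ e) :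
    Nonempty (Omega.sheaf f ≅ (Scheme.Modules.pullback f).obj (Omega.conormal e)) := by
  haveI : QuasiSeparated p₁ := MorphismProperty.of_isPullback hsq inferInstance
  haveI : IsImmersion (e ≫ f) := by rw [hef]; infer_instance
  haveI : IsImmersion e := IsImmersion.of_comp e f
  haveI : QuasiCompact (e ≫ f) := by rw [hef]; infer_instance
  haveI : QuasiCompact e := QuasiCompact.of_comp e f
  have hsq' : IsPullback (a.hom ≫ p₂) p₁ f f :=
    IsPullback.of_iso hsq a.symm (Iso.refl _) (Iso.refl _) (Iso.refl _)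
      (by simp) (by simp [Iso.eq_inv_comp, ha]) (by simp) (by simp)
  obtain ⟨ι₁⟩ := nonempty_pullback_iso_of_isPullback f f p₂ p₁ hsq (OmegaSh.dOmega f)
    (isUniversal_dOmega f) (OmegaSh.dOmega p₁) (isUniversal_dOmega p₁)
  obtain ⟨ι₂⟩ := nonempty_pullback_iso_of_isPullback f f (a.hom ≫ p₂) p₁ hsq' (OmegaSh.dOmega f)
    (isUniversal_dOmega f) (OmegaSh.dOmega p₁) (isUniversal_dOmega p₁)
  obtain ⟨κ⟩ := nonempty_conormal_iso_of_section f e hef (OmegaSh.dOmega f) (isUniversal_dOmega f)
  exact ⟨(Scheme.Modules.pullbackId X).symm.app (Omega.sheaf f) ≪≫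
    (Scheme.Modules.pullbackCongr hΔ₂.symm).app (Omega.sheaf f) ≪≫
    (Scheme.Modules.pullbackComp Δ p₂).symm.app (Omega.sheaf f) ≪≫
    (Scheme.Modules.pullback Δ).mapIso (ι₁ ≪≫ ι₂.symm) ≪≫
    (Scheme.Modules.pullbackComp Δ (a.hom ≫ p₂)).app (Omega.sheaf f) ≪≫
    (Scheme.Modules.pullbackCongr hΔτ).app (Omega.sheaf f) ≪≫
    (Scheme.Modules.pullbackComp f e).symm.app (Omega.sheaf f) ≪≫
    (Scheme.Modules.pullback f).mapIso κ.symm⟩

section grp

open MonoidalCategory CartesianMonoidalCategory MonObj GrpObj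

variable {C : Type*} [Category C] [CartesianMonoidalCategory C] (G : C) [GrpObj G]

/-- the automorphism `(g, h) ↦ (g, g⁻¹h)` of `G × G` -/
noncomputable def translIso : G ⊗ G ≅ G ⊗ G where
  hom := lift (fst G G) ((fst G G)⁻¹ * snd G G)
  inv := lift (fst G G) (fst G G * snd G G)
  hom_inv_id := by
    apply CartesianMonoidalCategory.hom_ext
    · simp
    · simp [comp_mul]
  inv_hom_id := by
    apply CartesianMonoidalCategory.hom_ext
    · simp
    · simp [comp_mul, GrpObj.comp_inv]

theorem translIso_hom_fst : (translIso G).hom ≫ fst G G = fst G G := lift_fst _ _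

theorem diag_translIso_snd :
    lift (𝟙 G) (𝟙 G) ≫ (translIso G).hom ≫ snd G G = toUnit G ≫ η[G] := by
  simp [translIso, comp_mul, GrpObj.comp_inv, Hom.one_def]

end grp

section overS

open MonoidalCategory CartesianMonoidalCategory MonObj GrpObj

/-- **`Ω_{G/S} ≅ f^* C_{S/G}` for a group scheme `G` over `S` with `G → S` quasi-separated.** -/
theorem nonempty_omega_iso_grp (S : Scheme.{u}) (G : Over S) [GrpObj G] [QuasiSeparated G.hom] :
    Nonempty (Omega.sheaf G.hom ≅
      (Scheme.Modules.pullback G.hom).obj (Omega.conormal η[G].left)) := by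
  have hef : η[G].left ≫ G.hom = 𝟙 S := Over.w η[G]
  have hsq : IsPullback (snd G G).left (fst G G).left G.hom G.hom :=
    (IsPullback.of_hasPullback G.hom G.hom).flip
  refine nonempty_omega_iso_of_translation G.hom η[G].left hef (fst G G).left (snd G G).left hsq
    ((Over.forget S).mapIso (translIso G)) ?_ (lift (𝟙 G) (𝟙 G)).left ?_ ?_
  · change ((translIso G).hom ≫ fst G G).left = _
    rw [translIso_hom_fst]
  · change (lift (𝟙 G) (𝟙 G) ≫ snd G G).left = _
    rw [lift_snd]
    rfl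
  · change (lift (𝟙 G) (𝟙 G) ≫ (translIso G).hom ≫ snd G G).left = _
    rw [diag_translIso_snd]
    rfl

end overS

/-- a quasi-coherent module on the spectrum of a field is free -/
theorem exists_iso_coprod_of_field (K : Type u) [Field K]
    (N : (Spec (CommRingCat.of K)).Modules) [N.IsQuasicoherent] :
    ∃ I : Type u, Nonempty (N ≅ ∐ fun _ : I => Coh.structureModule (Spec (CommRingCat.of K))) := by
  let R : CommRingCat.{u} := CommRingCat.of K
  let M₀ : ModuleCat.{u} R := (modulesSpecToSheaf.obj N).presheaf.obj (.op ⊤)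
  let I := Module.Free.ChooseBasisIndex K M₀
  let b : M₀ ≃ₗ[K] (I →₀ K) := (Module.Free.chooseBasis K M₀).repr
  haveI : IsIso (Scheme.Modules.fromTildeΓ (R := R) N) :=
    Scheme.Modules.isIso_fromTildeΓ_of_isQuasicoherent (R := R) N
  refine ⟨I, ⟨(asIso (Scheme.Modules.fromTildeΓ (R := R) N)).symm ≪≫
    (tilde.functor R).mapIso b.toModuleIso ≪≫ tildeFinsupp I⟩⟩

/-- the pullback of a free module is free -/
noncomputable def pullbackCoprodIso {X Y : Scheme.{u}} (h : X ⟶ Y) (I : Type u) :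
    (Scheme.Modules.pullback h).obj (∐ fun _ : I => Coh.structureModule Y) ≅
      ∐ fun _ : I => Coh.structureModule X :=
  PreservesCoproduct.iso (Scheme.Modules.pullback h) (fun _ : I => Coh.structureModule Y) ≪≫
    Sigma.mapIso (fun _ => (Groth.Agent.Lib.ModPullback.pullbackUnitIso h).symm)

section overS

open MonoidalCategory CartesianMonoidalCategory MonObj GrpObj

/-- over a field, `Ω_{G/S}` is free -/
theorem exists_omega_iso_coprod (S : Scheme.{u}) (G : Over S) [GrpObj G] [QuasiSeparated G.hom]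
    (K : Type u) [Field K] (α : S ≅ Spec (CommRingCat.of K)) :
    ∃ I : Type u, Nonempty (Omega.sheaf G.hom ≅ ∐ fun _ : I => Coh.structureModule G.left) := by
  obtain ⟨j₀⟩ := nonempty_omega_iso_grp S G
  let e : S ⟶ G.left := η[G].left
  haveI : (ClSub.idealMod e.ker).IsQuasicoherent :=
    Groth.Agent.Lib.H77QCohKernel.isQuasicoherent_idealMod e.ker
  haveI : (Omega.conormal e).IsQuasicoherent :=
    Groth.Agent.Lib.H72PullbackQCoh.isQuasicoherent_pullback e (ClSub.idealMod e.ker)
  haveI : ((Scheme.Modules.pullback α.inv).obj (Omega.conormal e)).IsQuasicoherent :=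
    Groth.Agent.Lib.H72PullbackQCoh.isQuasicoherent_pullback α.inv (Omega.conormal e)
  obtain ⟨I, ⟨β⟩⟩ := exists_iso_coprod_of_field K
    ((Scheme.Modules.pullback α.inv).obj (Omega.conormal e))
  have hh : G.hom = (G.hom ≫ α.hom) ≫ α.inv := by simp
  exact ⟨I, ⟨j₀ ≪≫ (Scheme.Modules.pullbackCongr hh).app (Omega.conormal e) ≪≫
    (Scheme.Modules.pullbackComp (G.hom ≫ α.hom) α.inv).symm.app (Omega.conormal e) ≪≫
    (Scheme.Modules.pullback (G.hom ≫ α.hom)).mapIso β ≪≫ pullbackCoprodIso _ I⟩⟩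

end overS

end Groth.Agent.Lib.H87GroupOmega
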