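import Groth.Agent.Lib.H87GroupOmega
import Groth.Prelude.Def_Grpd

/-!
# helper87: `Ω_{R/U} ≅ s^* C_{U/R}` for groupoid schemes (`R` over `U` via `t`)

* `nonempty_omega_iso_of_translation'`: abstract form: `f : X ⟶ S` quasi-separated with a section `e`, `P = X ×_S X`,
  `q : P ⟶ X` with `(q, p₁)` cartesian over `(f, s)` and `Δ ≫ q = s ≫ e`; then `Ω_{X/S} ≅ s^* C_{S/X}`.
* T-point calculus for `Grpd.GroupoidScheme` and the application.
-/

set_option autoImplicit false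
set_option linter.style.haveILetI false
universe u

open CategoryTheory CategoryTheory.Limits AlgebraicGeometry TopologicalSpace Opposite

namespace Groth.Agent.Lib.H87GroupoidOmega

open Groth.Agent.Lib.OmegaDer81 Groth.Agent.Lib.H87ConormalDiff Groth.Agent.Lib.H87GroupOmega

/-- abstract form of the groupoid scheme argument -/
theorem nonempty_omega_iso_of_translation' {X S P : Scheme.{u}} (f : X ⟶ S) [QuasiSeparated f]
    (e : S ⟶ X) (hef : e ≫ f = 𝟙 S) (s : X ⟶ S) (p₁ p₂ q : P ⟶ X) (hsq : IsPullback p₂ p₁ f f)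
    (hsq' : IsPullback q p₁ f s) (Δ : X ⟶ P) (hΔ₂ : Δ ≫ p₂ = 𝟙 X) (hΔq : Δ ≫ q = s ≫ e) :
    Nonempty (Omega.sheaf f ≅ (Scheme.Modules.pullback s).obj (Omega.conormal e)) := by
  haveI : QuasiSeparated p₁ := MorphismProperty.of_isPullback hsq inferInstance
  haveI : IsImmersion (e ≫ f) := by rw [hef]; infer_instance
  haveI : IsImmersion e := IsImmersion.of_comp e f
  haveI : QuasiCompact (e ≫ f) := by rw [hef]; infer_instance
  haveI : QuasiCompact e := QuasiCompact.of_comp e f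
  obtain ⟨ι₁⟩ := nonempty_pullback_iso_of_isPullback f f p₂ p₁ hsq (OmegaSh.dOmega f)
    (isUniversal_dOmega f) (OmegaSh.dOmega p₁) (isUniversal_dOmega p₁)
  obtain ⟨ι₂⟩ := nonempty_pullback_iso_of_isPullback f s q p₁ hsq' (OmegaSh.dOmega f)
    (isUniversal_dOmega f) (OmegaSh.dOmega p₁) (isUniversal_dOmega p₁)
  obtain ⟨κ⟩ := nonempty_conormal_iso_of_section f e hef (OmegaSh.dOmega f) (isUniversal_dOmega f)
  exact ⟨(Scheme.Modules.pullbackId X).symm.app (Omega.sheaf f) ≪≫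
    (Scheme.Modules.pullbackCongr hΔ₂.symm).app (Omega.sheaf f) ≪≫
    (Scheme.Modules.pullbackComp Δ p₂).symm.app (Omega.sheaf f) ≪≫
    (Scheme.Modules.pullback Δ).mapIso (ι₁ ≪≫ ι₂.symm) ≪≫
    (Scheme.Modules.pullbackComp Δ q).app (Omega.sheaf f) ≪≫
    (Scheme.Modules.pullbackCongr hΔq).app (Omega.sheaf f) ≪≫
    (Scheme.Modules.pullbackComp s e).symm.app (Omega.sheaf f) ≪≫
    (Scheme.Modules.pullback s).mapIso κ.symm⟩

section groupoid

variable {S : Scheme.{u}} (G : Grpd.GroupoidScheme S)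

/-- composition of `T`-points -/
noncomputable def tcomp {T : Scheme.{u}} (α β : T ⟶ G.R) (h : α ≫ G.s = β ≫ G.t) : T ⟶ G.R :=
  pullback.lift α β h ≫ G.c

variable {T T' : Scheme.{u}}

theorem tcomp_congr {α α' β β' : T ⟶ G.R} (hα : α = α') (hβ : β = β')
    (h : α ≫ G.s = β ≫ G.t) (h' : α' ≫ G.s = β' ≫ G.t) :
    tcomp G α β h = tcomp G α' β' h' := by
  subst hα hβ
  rfl

theorem precomp_tcomp (u : T' ⟶ T) (α β : T ⟶ G.R) (h : α ≫ G.s = β ≫ G.t)
    (h' : (u ≫ α) ≫ G.s = (u ≫ β) ≫ G.t) :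
    u ≫ tcomp G α β h = tcomp G (u ≫ α) (u ≫ β) h' := by
  unfold tcomp
  rw [← Category.assoc]
  congr 1
  apply pullback.hom_ext
  · rw [Category.assoc, pullback.lift_fst, pullback.lift_fst]
  · rw [Category.assoc, pullback.lift_snd, pullback.lift_snd]

theorem tcomp_s (α β : T ⟶ G.R) (h : α ≫ G.s = β ≫ G.t) : tcomp G α β h ≫ G.s = β ≫ G.s :=
  G.comp_s α β h

theorem tcomp_t (α β : T ⟶ G.R) (h : α ≫ G.s = β ≫ G.t) : tcomp G α β h ≫ G.t = α ≫ G.t :=
  G.comp_t α β h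

theorem tcomp_assoc (α β γ : T ⟶ G.R) (h₁ : α ≫ G.s = β ≫ G.t) (h₂ : β ≫ G.s = γ ≫ G.t)
    (h₃ : tcomp G α β h₁ ≫ G.s = γ ≫ G.t) (h₄ : α ≫ G.s = tcomp G β γ h₂ ≫ G.t) :
    tcomp G (tcomp G α β h₁) γ h₃ = tcomp G α (tcomp G β γ h₂) h₄ :=
  G.assoc α β γ h₁ h₂

theorem e_tcomp (α : T ⟶ G.R) (h : (α ≫ G.t ≫ G.e) ≫ G.s = α ≫ G.t) :
    tcomp G (α ≫ G.t ≫ G.e) α h = α :=
  G.e_comp α

theorem tcomp_i (α : T ⟶ G.R) (h : α ≫ G.s = (α ≫ G.i) ≫ G.t) :
    tcomp G α (α ≫ G.i) h = α ≫ G.t ≫ G.e :=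
  G.comp_i α

theorem i_tcomp (α : T ⟶ G.R) (h : (α ≫ G.i) ≫ G.s = α ≫ G.t) :
    tcomp G (α ≫ G.i) α h = α ≫ G.s ≫ G.e :=
  G.i_comp α

/-- `a ∘ (a⁻¹ ∘ b) = b` for `t(a) = t(b)` -/
theorem tcomp_inv_cancel (α β : T ⟶ G.R) (h : α ≫ G.t = β ≫ G.t)
    (h₁ : (α ≫ G.i) ≫ G.s = β ≫ G.t) (h₂ : α ≫ G.s = tcomp G (α ≫ G.i) β h₁ ≫ G.t) :
    tcomp G α (tcomp G (α ≫ G.i) β h₁) h₂ = β := by
  have h₃ : α ≫ G.s = (α ≫ G.i) ≫ G.t := by rw [Category.assoc, G.i_t]
  have h₄ : tcomp G α (α ≫ G.i) h₃ ≫ G.s = β ≫ G.t := by rw [tcomp_s]; exact h₁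
  rw [← tcomp_assoc G α (α ≫ G.i) β h₃ h₁ h₄ h₂]
  have h₅ : (β ≫ G.t ≫ G.e) ≫ G.s = β ≫ G.t := by
    rw [Category.assoc, Category.assoc, G.e_s, Category.comp_id]
  rw [tcomp_congr G (β := β) (β' := β) (α' := β ≫ G.t ≫ G.e)
    (by rw [tcomp_i, reassoc_of% h]) rfl h₄ h₅]
  exact e_tcomp G β h₅

/-- `a⁻¹ ∘ (a ∘ b) = b` for `s(a) = t(b)` -/
theorem inv_tcomp_cancel (α β : T ⟶ G.R) (h : α ≫ G.s = β ≫ G.t)
    (h₂ : (α ≫ G.i) ≫ G.s = tcomp G α β h ≫ G.t) :
    tcomp G (α ≫ G.i) (tcomp G α β h) h₂ = β := by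
  have h₃ : (α ≫ G.i) ≫ G.s = α ≫ G.t := by rw [Category.assoc, G.i_s]
  have h₄ : tcomp G (α ≫ G.i) α h₃ ≫ G.s = β ≫ G.t := by rw [tcomp_s]; exact h
  rw [← tcomp_assoc G (α ≫ G.i) α β h₃ h h₄ h₂]
  have h₅ : (β ≫ G.t ≫ G.e) ≫ G.s = β ≫ G.t := by
    rw [Category.assoc, Category.assoc, G.e_s, Category.comp_id]
  rw [tcomp_congr G (β := β) (β' := β) (α' := β ≫ G.t ≫ G.e)
    (by rw [i_tcomp, reassoc_of% h]) rfl h₄ h₅]
  exact e_tcomp G β h₅

end groupoid

section main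

variable {S : Scheme.{u}} (G : Grpd.GroupoidScheme S)

theorem transl_h₁ :
    (pullback.fst G.t G.t ≫ G.i) ≫ G.s = pullback.snd G.t G.t ≫ G.t := by
  rw [Category.assoc, G.i_s, pullback.condition]

/-- `(a, b) ↦ a⁻¹ ∘ b` on `R ×_{t,U,t} R` -/
noncomputable def translMap : pullback G.t G.t ⟶ G.R :=
  tcomp G (pullback.fst G.t G.t ≫ G.i) (pullback.snd G.t G.t) (transl_h₁ G)

theorem translMap_t : translMap G ≫ G.t = pullback.fst G.t G.t ≫ G.s := by
  unfold translMap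
  rw [tcomp_t, Category.assoc, G.i_t]

/-- the iso `(a, b) ↦ (a, a⁻¹ ∘ b)` from `R ×_{t,U,t} R` to `R ×_{s,U,t} R` -/
noncomputable def translIso' : pullback G.t G.t ≅ pullback G.s G.t where
  hom := pullback.lift (pullback.fst G.t G.t) (translMap G) (translMap_t G).symm
  inv := pullback.lift (pullback.fst G.s G.t)
    (tcomp G (pullback.fst G.s G.t) (pullback.snd G.s G.t) pullback.condition)
    (tcomp_t G _ _ _).symm
  hom_inv_id := by
    apply pullback.hom_ext
    · rw [Category.assoc, pullback.lift_fst, pullback.lift_fst, Category.id_comp]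
    · rw [Category.assoc, pullback.lift_snd, Category.id_comp]
      have h' : (pullback.lift (pullback.fst G.t G.t) (translMap G) (translMap_t G).symm ≫
          pullback.fst G.s G.t) ≫ G.s =
          (pullback.lift (pullback.fst G.t G.t) (translMap G) (translMap_t G).symm ≫
            pullback.snd G.s G.t) ≫ G.t := by
        rw [Category.assoc, Category.assoc, pullback.condition]
      rw [precomp_tcomp G _ _ _ _ h']
      have h'' : pullback.fst G.t G.t ≫ G.s = translMap G ≫ G.t := (translMap_t G).symm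
      rw [tcomp_congr G (pullback.lift_fst _ _ _) (pullback.lift_snd _ _ _) h' h'']
      exact tcomp_inv_cancel G _ _ pullback.condition (transl_h₁ G) h''
  inv_hom_id := by
    apply pullback.hom_ext
    · rw [Category.assoc, pullback.lift_fst, pullback.lift_fst, Category.id_comp]
    · rw [Category.assoc, pullback.lift_snd, Category.id_comp]
      unfold translMap
      set inv' := pullback.lift (pullback.fst G.s G.t)
        (tcomp G (pullback.fst G.s G.t) (pullback.snd G.s G.t) pullback.condition)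
        (tcomp_t G _ _ _).symm with hinv
      have h' : (inv' ≫ pullback.fst G.t G.t ≫ G.i) ≫ G.s =
          (inv' ≫ pullback.snd G.t G.t) ≫ G.t := by
        rw [Category.assoc, Category.assoc, Category.assoc, G.i_s, pullback.condition]
      rw [precomp_tcomp G _ _ _ _ h']
      have e₁ : inv' ≫ pullback.fst G.t G.t ≫ G.i = pullback.fst G.s G.t ≫ G.i := by
        rw [← Category.assoc, hinv, pullback.lift_fst]
      have e₂ : inv' ≫ pullback.snd G.t G.t =
          tcomp G (pullback.fst G.s G.t) (pullback.snd G.s G.t) pullback.condition := by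
        rw [hinv, pullback.lift_snd]
      have h'' : (pullback.fst G.s G.t ≫ G.i) ≫ G.s =
          tcomp G (pullback.fst G.s G.t) (pullback.snd G.s G.t) pullback.condition ≫ G.t := by
        rw [tcomp_t, Category.assoc, G.i_s]
      rw [tcomp_congr G e₁ e₂ h' h'']
      exact inv_tcomp_cancel G _ _ pullback.condition h''

theorem translIso'_hom_snd : (translIso' G).hom ≫ pullback.snd G.s G.t = translMap G :=
  pullback.lift_snd _ _ _

theorem translIso'_inv_fst : (translIso' G).inv ≫ pullback.fst G.t G.t = pullback.fst G.s G.t :=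
  pullback.lift_fst _ _ _

/-- the translation square is cartesian -/
theorem isPullback_translMap :
    IsPullback (translMap G) (pullback.fst G.t G.t) G.t G.s :=
  IsPullback.of_iso (IsPullback.of_hasPullback G.s G.t).flip (translIso' G).symm (Iso.refl _)
    (Iso.refl _) (Iso.refl _)
    (by
      change pullback.snd G.s G.t ≫ 𝟙 _ = (translIso' G).inv ≫ translMap G
      rw [Category.comp_id, ← translIso'_hom_snd, Iso.inv_hom_id_assoc])
    (by
      change pullback.fst G.s G.t ≫ 𝟙 _ = (translIso' G).inv ≫ pullback.fst G.t G.t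
      rw [Category.comp_id, translIso'_inv_fst])
    (by simp) (by simp)

theorem diag_translMap :
    pullback.lift (𝟙 G.R) (𝟙 G.R) rfl ≫ translMap G = G.s ≫ G.e := by
  unfold translMap
  have h' : (pullback.lift (𝟙 G.R) (𝟙 G.R) rfl ≫ pullback.fst G.t G.t ≫ G.i) ≫ G.s =
      (pullback.lift (𝟙 G.R) (𝟙 G.R) rfl ≫ pullback.snd G.t G.t) ≫ G.t := by
    rw [Category.assoc, Category.assoc, G.i_s, pullback.condition, Category.assoc]
  rw [precomp_tcomp G _ _ _ _ h']
  have h'' : (𝟙 G.R ≫ G.i) ≫ G.s = 𝟙 G.R ≫ G.t := by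
    rw [Category.assoc, G.i_s]
  rw [tcomp_congr G (α' := 𝟙 G.R ≫ G.i) (β' := 𝟙 G.R)
    (by rw [pullback.lift_fst_assoc]) (by rw [pullback.lift_snd]) h' h'', i_tcomp,
    Category.id_comp]

/-- **`Ω_{R/U} ≅ s^* C_{U/R}` for a groupoid scheme, `R` over `U` via `t` quasi-separated.** -/
theorem nonempty_omega_iso_groupoid [QuasiSeparated G.t] :
    Nonempty (Omega.sheaf G.t ≅ (Scheme.Modules.pullback G.s).obj (Omega.conormal G.e)) :=
  nonempty_omega_iso_of_translation' G.t G.e G.e_t G.s (pullback.fst G.t G.t)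
    (pullback.snd G.t G.t) (translMap G) (IsPullback.of_hasPullback G.t G.t).flip
    (isPullback_translMap G) (pullback.lift (𝟙 G.R) (𝟙 G.R) rfl) (pullback.lift_snd _ _ _)
    (diag_translMap G)

end main

end Groth.Agent.Lib.H87GroupoidOmega
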