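import Mathlib
import Groth.Agent.Lib.H30DimField
import Groth.Agent.Lib.H30LocDimTop

/-!
# helper87: dimension of an irreducible component of a scheme locally of finite type over a field

`exists_mem_dim_eq_localDim`: an irreducible component `Z` of `F` (lft over a field) has a point `η`
(its generic point) with `dim Z = localDim F η`.
-/

set_option autoImplicit false
set_option linter.style.haveILetI false
universe u

open CategoryTheory AlgebraicGeometry TopologicalSpace

namespace Groth.Agent.Lib.H87IrrCompDim

open Groth.Agent.Lib.H30DimField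

theorem exists_mem_dim_eq_localDim (k : Type u) [Field k] (F : Scheme.{u})
    [F.Over (Spec (CommRingCat.of k))] [LocallyOfFiniteType (F ↘ Spec (CommRingCat.of k))]
    (Z : Set F) (hZ : Z ∈ irreducibleComponents F) :
    ∃ η ∈ Z, topologicalKrullDim ↥Z = FlatMor.localDim F η := by
  haveI := jacobsonSpace k F
  haveI := isLocallyNoetherian k F
  obtain ⟨η, hη⟩ : ∃ η, IsGenericPoint η Z :=
    QuasiSober.sober hZ.1 (isClosed_of_mem_irreducibleComponents Z hZ)
  have hηeq : closure {η} = Z := hη.def
  refine ⟨η, hηeq ▸ subset_closure rfl, ?_⟩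
  have hmax : ∀ ξ : F, ξ ⤳ η → ξ = η :=
    (closure_mem_irreducibleComponents_iff η).mp (hηeq ▸ hZ)
  have hδ := isDimFun k F
  obtain ⟨ξ, -, hξη, hdim⟩ := stalk_dim_exists hδ η
  rw [hmax ξ hξη, sub_self] at hdim
  rw [localDim_eq k F η, hdim, ← hηeq,
    Groth.Agent.Lib.H30LocDimTop.krullDim_closure (td k F)
      (isDimensionFunction_of_isDimFun hδ) (td_eq_zero_of_isClosed k F) η]
  simp

end Groth.Agent.Lib.H87IrrCompDim
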