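import Groth.Agent.Lib.H87J0
import Groth.Agent.Lib.H77GenFreeMain
import Groth.Agent.Lib.H14GeomP2

/-!
# J-0 descends along injective finite type maps of domains (helper87)

Via generic freeness (helper77) and faithfully flat descent of regularity.
-/

set_option autoImplicit false
universe u
open PrimeSpectrum

namespace Groth.Agent.Lib.H87J0c

open Groth.Agent.Lib.H87J0 Groth.Agent.Lib.H87Nagata Groth.Agent.Lib.H77GenFree TensorProduct

attribute [local instance] Algebra.TensorProduct.rightAlgebra in
/-- If `R → S` is injective of finite type, `R` a Noetherian domain, `S` a regular domain, then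
some `R_f` (`f ≠ 0`) is regular. -/
theorem exists_isRegularRing_away (R S : Type u) [CommRing R] [CommRing S] [IsDomain R]
    [IsDomain S] [Algebra R S] [FaithfulSMul R S] [Algebra.FiniteType R S]
    [IsRegularRing S] : ∃ f : R, f ≠ 0 ∧ IsRegularRing (Localization.Away f) := by
  have hinj : Function.Injective (algebraMap R S) := FaithfulSMul.algebraMap_injective R S
  obtain ⟨f, hf, s, hb⟩ := genFree_of_finiteType (R := R) S S
  refine ⟨f, hf, ?_⟩
  have hloc : IsLocalizedModule (Submonoid.powers f)
      (TensorProduct.mk R (Localization.Away f) S 1) :=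
    (isLocalizedModule_iff_isBaseChange (Submonoid.powers f) (Localization.Away f) _).mpr
      (TensorProduct.isBaseChange R S (Localization.Away f))
  have hfree : Module.Free (Localization.Away f) (Localization.Away f ⊗[R] S) :=
    hb.free_of_isLocalizedModule (Localization.Away f)
      (TensorProduct.mk R (Localization.Away f) S 1)
  have hlocT : IsLocalization (Algebra.algebraMapSubmonoid S (Submonoid.powers f))
      (Localization.Away f ⊗[R] S) := IsLocalization.tensorRight _ (Submonoid.powers f)
  have hle : Algebra.algebraMapSubmonoid S (Submonoid.powers f) ≤ nonZeroDivisors S := by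
    rintro _ ⟨_, ⟨n, rfl⟩, rfl⟩
    apply mem_nonZeroDivisors_of_ne_zero
    rw [Ne, map_eq_zero_iff _ hinj]
    exact pow_ne_zero n hf
  have hdom : IsDomain (Localization.Away f ⊗[R] S) :=
    IsLocalization.isDomain_of_le_nonZeroDivisors _ hle
  have hreg : IsRegularRing (Localization.Away f ⊗[R] S) :=
    Groth.Agent.Lib.H14GeomP.isRegularRing_of_isLocalization
      (Algebra.algebraMapSubmonoid S (Submonoid.powers f)) _
  have hnt : Nontrivial (Localization.Away f ⊗[R] S) := inferInstance
  have hff : Module.FaithfullyFlat (Localization.Away f) (Localization.Away f ⊗[R] S) :=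
    Module.FaithfullyFlat.instOfNontrivialOfFree _ _
  exact Groth.Agent.Lib.H87Serre2.isRegularRing_of_faithfullyFlat (Localization.Away f)
    (Localization.Away f ⊗[R] S)

/-- **J-0 descends along injective finite type maps of Noetherian domains.** -/
theorem J0_of_finiteType_injective_descent (R S : Type u) [CommRing R] [CommRing S] [IsDomain R]
    [IsDomain S] [IsNoetherianRing R] [Algebra R S] [FaithfulSMul R S] [Algebra.FiniteType R S]
    (hS : J0 S) : J0 R := by
  have hinj : Function.Injective (algebraMap R S) := FaithfulSMul.algebraMap_injective R S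
  have hSN : IsNoetherianRing S := Algebra.FiniteType.isNoetherianRing R S
  obtain ⟨g, hg, hreg⟩ := (J0_iff_exists_ne_zero S).mp hS
  have hS'reg : IsRegularRing (Localization.Away g) :=
    isRegularRing_of_isLocalization_away g hreg _
  have hle : Submonoid.powers g ≤ nonZeroDivisors S :=
    powers_le_nonZeroDivisors_of_noZeroDivisors hg
  have hS'dom : IsDomain (Localization.Away g) :=
    IsLocalization.isDomain_of_le_nonZeroDivisors _ hle
  have hft : Algebra.FiniteType R (Localization.Away g) :=
    Algebra.FiniteType.trans (S := S) inferInstance
      (IsLocalization.finiteType_of_monoid_fg (Submonoid.powers g) (Localization.Away g))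
  have hfaith : FaithfulSMul R (Localization.Away g) := by
    rw [faithfulSMul_iff_algebraMap_injective, IsScalarTower.algebraMap_eq R S]
    exact (IsLocalization.injective _ hle).comp hinj
  obtain ⟨f, hf, hRf⟩ := exists_isRegularRing_away R (Localization.Away g)
  rw [J0_iff_exists_ne_zero]
  refine ⟨f, hf, fun p hp => ?_⟩
  obtain ⟨q, rfl⟩ : p ∈ Set.range (comap (algebraMap R (Localization.Away f))) := by
    rw [localization_away_comap_range _ f]
    exact hp
  exact (mem_regLocus_comap_of_isLocalization (Submonoid.powers f) q).mpr
    (hRf.isRegularLocalRing_localization q.asIdeal)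

end Groth.Agent.Lib.H87J0c
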