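import Groth.Prelude.Def_W4c1nerontoraddGraph
import Groth.Prelude.Def_W4c4cptpiccptjacBI
import Mathlib.Tactic

/-!
# helper87: basic lemmas on `LabGraph.cut`, `canDeg`, `endCount`, `twist`, exceptional vertices
-/

set_option autoImplicit false
universe u

namespace Groth.Agent.Lib.H87LabGraph

open LabGraph

variable {V E : Type u} [Fintype V] [Fintype E] [DecidableEq V] [DecidableEq E]

/-- Sum of all end counts is twice the number of edges. -/
theorem sum_endCount (ends : E → V × V) :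
    ∑ v : V, endCount ends Finset.univ v = 2 * Fintype.card E := by
  unfold endCount
  rw [Finset.sum_comm]
  simp only [Finset.sum_add_distrib, Finset.sum_ite_eq, Finset.mem_univ, if_true]
  simp only [Finset.sum_const, Finset.card_univ, smul_eq_mul]
  ring

theorem canDeg_univ (ends : E → V × V) (w : V → ℕ) :
    canDeg ends w Finset.univ = 2 * genus ends w - 2 := by
  unfold canDeg genus
  rw [Finset.sum_add_distrib, Finset.sum_sub_distrib, ← Finset.mul_sum]
  have h := sum_endCount ends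
  have h' : ∑ v : V, (endCount ends Finset.univ v : ℤ) = 2 * (Fintype.card E : ℤ) := by
    exact_mod_cast h
  rw [h']
  simp only [Finset.sum_const, Finset.card_univ, nsmul_eq_mul]
  ring

theorem endCount_of_isExceptional (ends : E → V × V) (w : V → ℕ) {x : V}
    (hx : IsExceptional ends w x) : endCount ends Finset.univ x = 2 := by
  obtain ⟨-, hloop, hcut⟩ := hx
  rw [← hcut]
  unfold endCount cut
  rw [Finset.card_filter]
  apply Finset.sum_congr rfl
  intro e _
  have hl := hloop e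
  by_cases h1 : (ends e).1 = x <;> by_cases h2 : (ends e).2 = x
  · exact absurd (Prod.ext h1 h2) hl
  · simp [h1, h2]
  · simp [h1, h2]
  · simp [h1, h2]

theorem canDeg_insert_exceptional (ends : E → V × V) (w : V → ℕ) {x : V} {Z : Finset V}
    (hx : IsExceptional ends w x) (hxZ : x ∉ Z) :
    canDeg ends w (insert x Z) = canDeg ends w Z := by
  unfold canDeg
  rw [Finset.sum_insert hxZ, endCount_of_isExceptional ends w hx, hx.1]
  simp

/-- Adding to `Z` an exceptional vertex adjacent to `Z` does not increase the cut. -/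
theorem cut_insert_le (ends : E → V × V) (w : V → ℕ) {x o : V} {Z : Finset V}
    (hx : IsExceptional ends w x) (hxZ : x ∉ Z) (ho : o ∈ Z) (e₀ : E)
    (he₀ : ends e₀ = (x, o) ∨ ends e₀ = (o, x)) :
    cut ends (insert x Z) ≤ cut ends Z := by
  have hox : o ≠ x := fun h => hxZ (h ▸ ho)
  have hcutx := hx.2.2
  unfold cut at hcutx ⊢
  set AY := Finset.univ.filter (fun e : E =>
    ((ends e).1 ∈ insert x Z ∧ (ends e).2 ∉ insert x Z) ∨
      ((ends e).1 ∉ insert x Z ∧ (ends e).2 ∈ insert x Z)) with hAY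
  set AZ := Finset.univ.filter (fun e : E =>
    ((ends e).1 ∈ Z ∧ (ends e).2 ∉ Z) ∨ ((ends e).1 ∉ Z ∧ (ends e).2 ∈ Z)) with hAZ
  set Ax := Finset.univ.filter (fun e : E =>
    ((ends e).1 ∈ ({x} : Finset V) ∧ (ends e).2 ∉ ({x} : Finset V)) ∨
      ((ends e).1 ∉ ({x} : Finset V) ∧ (ends e).2 ∈ ({x} : Finset V))) with hAx
  have h0Z : e₀ ∈ AZ := by
    rw [hAZ, Finset.mem_filter]
    refine ⟨Finset.mem_univ _, ?_⟩
    rcases he₀ with h | h
    · right; rw [h]; exact ⟨hxZ, ho⟩
    · left; rw [h]; exact ⟨ho, hxZ⟩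
  have h0x : e₀ ∈ Ax := by
    rw [hAx, Finset.mem_filter]
    refine ⟨Finset.mem_univ _, ?_⟩
    simp only [Finset.mem_singleton]
    rcases he₀ with h | h
    · left; rw [h]; exact ⟨rfl, hox⟩
    · right; rw [h]; exact ⟨hox, rfl⟩
  have hsub : AY ⊆ AZ.erase e₀ ∪ Ax.erase e₀ := by
    intro e he
    rw [hAY, Finset.mem_filter] at he
    obtain ⟨-, he⟩ := he
    simp only [Finset.mem_insert, not_or] at he
    rw [Finset.mem_union, Finset.mem_erase, Finset.mem_erase, hAZ, hAx, Finset.mem_filter,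
      Finset.mem_filter]
    simp only [Finset.mem_singleton, Finset.mem_univ, true_and]
    have hne : ∀ (a b : V), ends e = (a, b) → True := fun _ _ _ => trivial
    rcases he with ⟨h1 | h1, h2, h3⟩ | ⟨⟨h1, h2⟩, h3 | h3⟩
    · -- e.1 = x, e.2 ≠ x, e.2 ∉ Z
      right
      refine ⟨?_, Or.inl ⟨h1, h2⟩⟩
      rintro rfl
      rcases he₀ with h | h
      · rw [h] at h3; exact h3 ho
      · rw [h] at h2; exact h2 rfl
    · -- e.1 ∈ Z, e.2 ≠ x, e.2 ∉ Z
      left
      refine ⟨?_, Or.inl ⟨h1, h3⟩⟩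
      rintro rfl
      rcases he₀ with h | h
      · rw [h] at h1; exact hxZ h1
      · rw [h] at h2; exact h2 rfl
    · -- e.1 ≠ x, e.1 ∉ Z, e.2 = x
      right
      refine ⟨?_, Or.inr ⟨h1, h3⟩⟩
      rintro rfl
      rcases he₀ with h | h
      · rw [h] at h1; exact h1 rfl
      · rw [h] at h2; exact h2 ho
    · -- e.1 ≠ x, e.1 ∉ Z, e.2 ∈ Z
      left
      refine ⟨?_, Or.inr ⟨h2, h3⟩⟩
      rintro rfl
      rcases he₀ with h | h
      · rw [h] at h1; exact h1 rfl
      · rw [h] at h3; exact hxZ h3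
  have hcard := (Finset.card_le_card hsub).trans (Finset.card_union_le _ _)
  rw [Finset.card_erase_of_mem h0Z, Finset.card_erase_of_mem h0x, hcutx] at hcard
  have hpos : 0 < AZ.card := Finset.card_pos.2 ⟨e₀, h0Z⟩
  omega

/-- In a connected graph a nonempty proper vertex set has a crossing edge. -/
theorem exists_crossing (ends : E → V × V) (hc : Connected ends) (Z : Finset V)
    (hne : Z.Nonempty) (hnu : Z ≠ Finset.univ) :
    ∃ e : E, ((ends e).1 ∈ Z ∧ (ends e).2 ∉ Z) ∨ ((ends e).1 ∉ Z ∧ (ends e).2 ∈ Z) := by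
  obtain ⟨v, hv⟩ := hne
  obtain ⟨w', hw'⟩ : ∃ w', w' ∉ Z := by
    by_contra hcon
    push Not at hcon
    exact hnu (Finset.eq_univ_iff_forall.2 hcon)
  have hpath := hc.2 v w'
  have key : ∀ b, Relation.ReflTransGen (Adj ends) v b → b ∉ Z →
      ∃ e : E, ((ends e).1 ∈ Z ∧ (ends e).2 ∉ Z) ∨ ((ends e).1 ∉ Z ∧ (ends e).2 ∈ Z) := by
    intro b hb
    induction hb with
    | refl => intro h; exact absurd hv h
    | tail hab hbc ih =>
      rename_i b c
      intro hc'
      by_cases hbZ : b ∈ Z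
      · obtain ⟨e, he | he⟩ := hbc
        · exact ⟨e, Or.inl (by rw [he]; exact ⟨hbZ, hc'⟩)⟩
        · exact ⟨e, Or.inr (by rw [he]; exact ⟨hc', hbZ⟩)⟩
      · exact ih hbZ
  exact key w' hpath hw'

/-- The twist of the indicator function of the empty set vanishes. -/
theorem twist_ind_empty (ends : E → V × V) (v : V) :
    twist ends (fun u => if u ∈ (∅ : Finset V) then (1 : ℤ) else 0) v = 0 := by
  unfold twist
  simp

theorem twist_ind_univ (ends : E → V × V) (v : V) :
    twist ends (fun u => if u ∈ (Finset.univ : Finset V) then (1 : ℤ) else 0) v = 0 := by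
  unfold twist
  simp

theorem twist_ind_term_nonpos (ends : E → V × V) (Z : Finset V) {x : V} (hx : x ∈ Z) (e : E) :
    ((if (ends e).1 = x then (if (ends e).2 ∈ Z then (1 : ℤ) else 0) -
        (if (ends e).1 ∈ Z then (1 : ℤ) else 0) else 0) +
      (if (ends e).2 = x then (if (ends e).1 ∈ Z then (1 : ℤ) else 0) -
        (if (ends e).2 ∈ Z then (1 : ℤ) else 0) else 0)) ≤ 0 := by
  have a1 : (if (ends e).1 = x then (if (ends e).2 ∈ Z then (1 : ℤ) else 0) -
        (if (ends e).1 ∈ Z then (1 : ℤ) else 0) else 0) ≤ 0 := by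
    split_ifs with h1 h2 h3 h3
    · simp
    · exact absurd (h1 ▸ hx) h3
    · simp
    · exact absurd (h1 ▸ hx) h3
    · simp
  have a2 : (if (ends e).2 = x then (if (ends e).1 ∈ Z then (1 : ℤ) else 0) -
        (if (ends e).2 ∈ Z then (1 : ℤ) else 0) else 0) ≤ 0 := by
    split_ifs with h1 h2 h3 h3
    · simp
    · exact absurd (h1 ▸ hx) h3
    · simp
    · exact absurd (h1 ▸ hx) h3
    · simp
  linarith

/-- For `x ∈ Z` the twist of the indicator of `Z` is nonpositive at `x`. -/
theorem twist_ind_nonpos (ends : E → V × V) (Z : Finset V) {x : V} (hx : x ∈ Z) :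
    twist ends (fun u => if u ∈ Z then (1 : ℤ) else 0) x ≤ 0 := by
  unfold twist
  exact Finset.sum_nonpos (fun e _ => twist_ind_term_nonpos ends Z hx e)

/-- For `x ∈ Z` joined by an edge to a vertex outside `Z`, the twist of the indicator of `Z`
is negative at `x`. -/
theorem twist_ind_neg (ends : E → V × V) (Z : Finset V) {x : V} (hx : x ∈ Z) (e₀ : E)
    (he₀ : ((ends e₀).1 = x ∧ (ends e₀).2 ∉ Z) ∨ ((ends e₀).2 = x ∧ (ends e₀).1 ∉ Z)) :
    twist ends (fun u => if u ∈ Z then (1 : ℤ) else 0) x ≤ -1 := by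
  unfold twist
  rw [← Finset.add_sum_erase _ _ (Finset.mem_univ e₀)]
  have hrest := Finset.sum_nonpos (s := Finset.univ.erase e₀)
    (fun e _ => twist_ind_term_nonpos ends Z hx e)
  have h0 : ((if (ends e₀).1 = x then (if (ends e₀).2 ∈ Z then (1 : ℤ) else 0) -
        (if (ends e₀).1 ∈ Z then (1 : ℤ) else 0) else 0) +
      (if (ends e₀).2 = x then (if (ends e₀).1 ∈ Z then (1 : ℤ) else 0) -
        (if (ends e₀).2 ∈ Z then (1 : ℤ) else 0) else 0)) ≤ -1 := by
    rcases he₀ with ⟨h1, h2⟩ | ⟨h1, h2⟩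
    · have hx1 : (ends e₀).1 ∈ Z := h1 ▸ hx
      have hne : (ends e₀).2 ≠ x := fun h => h2 (h ▸ hx)
      simp [h1, h2, hne, hx]
    · have hx2 : (ends e₀).2 ∈ Z := h1 ▸ hx
      have hne : (ends e₀).1 ≠ x := fun h => h2 (h ▸ hx)
      simp [h1, h2, hne, hx]
  linarith

end Groth.Agent.Lib.H87LabGraph

namespace Groth.Agent.Lib.H87LabGraph

open LabGraph

variable {V E : Type u} [Fintype V] [Fintype E] [DecidableEq V] [DecidableEq E]

/-- The cut of the complement equals the cut. -/
theorem cut_compl (ends : E → V × V) (Y : Finset V) : cut ends Yᶜ = cut ends Y := by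
  unfold cut
  congr 1
  ext e
  simp only [Finset.mem_filter, Finset.mem_compl, not_not, Finset.mem_univ, true_and]
  tauto

/-- Removing from `Z` an exceptional vertex adjacent to the complement of `Z` does not increase
the cut. -/
theorem cut_erase_le (ends : E → V × V) (w : V → ℕ) {x o : V} {Z : Finset V}
    (hx : IsExceptional ends w x) (hxZ : x ∈ Z) (ho : o ∉ Z) (e₀ : E)
    (he₀ : ends e₀ = (x, o) ∨ ends e₀ = (o, x)) :
    cut ends (Z.erase x) ≤ cut ends Z := by
  have h := cut_insert_le ends w hx (Z := Zᶜ) (by simp [hxZ]) (by simp [ho]) e₀ he₀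
  rw [← cut_compl ends (Z.erase x), ← cut_compl ends Z]
  have : (Z.erase x)ᶜ = insert x Zᶜ := by
    ext v
    simp only [Finset.mem_compl, Finset.mem_erase, Finset.mem_insert]
    tauto
  rw [this]
  exact h

/-- An exceptional vertex has an edge to another vertex. -/
theorem exists_edge_of_isExceptional (ends : E → V × V) (w : V → ℕ) {x : V}
    (hx : IsExceptional ends w x) :
    ∃ (e : E) (o : V), o ≠ x ∧ (ends e = (x, o) ∨ ends e = (o, x)) := by
  have hcut := hx.2.2
  unfold cut at hcut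
  have hpos : 0 < (Finset.univ.filter (fun e : E =>
    ((ends e).1 ∈ ({x} : Finset V) ∧ (ends e).2 ∉ ({x} : Finset V)) ∨
      ((ends e).1 ∉ ({x} : Finset V) ∧ (ends e).2 ∈ ({x} : Finset V)))).card := by
    rw [hcut]; norm_num
  obtain ⟨e, he⟩ := Finset.card_pos.1 hpos
  rw [Finset.mem_filter] at he
  simp only [Finset.mem_singleton, Finset.mem_univ, true_and] at he
  rcases he with ⟨h1, h2⟩ | ⟨h1, h2⟩
  · exact ⟨e, (ends e).2, h2, Or.inl (Prod.ext h1 rfl)⟩
  · exact ⟨e, (ends e).1, h1, Or.inr (Prod.ext rfl h2)⟩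

end Groth.Agent.Lib.H87LabGraph
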