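import Mathlib
import Groth.Agent.Lib.H87PerfDescent
import Groth.Agent.Lib.H87GenSmoothPI

/-!
# Perfect-closure descent, Noetherian version (helper87)
-/

set_option autoImplicit false
universe u
open TensorProduct

namespace Groth.Agent.Lib.H87PerfDescent

/-- Variant of `exists_finite_isGeometricallyReduced_aux` assuming only that `E ⊗[k] A` is
Noetherian. -/
theorem exists_finite_isGeometricallyReduced_of_isNoetherianRing (k : Type u) [Field k]
    (A : Type u) [CommRing A] [Algebra k A] (E : Type u) [Field E] [Algebra k E]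
    [PerfectField E] [IsPurelyInseparable k E] (hN : IsNoetherianRing (E ⊗[k] A)) :
    ∃ (k' : Type u) (_ : Field k') (_ : Algebra k k') (_ : Module.Finite k k')
      (_ : IsPurelyInseparable k k'),
      Algebra.IsGeometricallyReduced k' ((k' ⊗[k] A) ⧸ nilradical (k' ⊗[k] A)) := by
  classical
  have halg : Algebra.IsAlgebraic k E := inferInstance
  obtain ⟨s, hs⟩ : (nilradical (E ⊗[k] A)).FG := IsNoetherian.noetherian _
  choose t ht using fun x : E ⊗[k] A => exists_finset_mem_range k A E x
  let T : Finset E := s.biUnion t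
  let F : IntermediateField k E := IntermediateField.adjoin k (T : Set E)
  have hfin : FiniteDimensional k F :=
    IntermediateField.finiteDimensional_adjoin (fun x _ => Algebra.IsIntegral.isIntegral x)
  have hpi : IsPurelyInseparable k F := IsPurelyInseparable.tower_bot k F E
  refine ⟨F, inferInstance, inferInstance, hfin, hpi, ?_⟩
  refine isGeometricallyReduced_of_span k F E A (s : Set (E ⊗[k] A)) hs ?_
  intro x hx
  apply ht x F
  intro z hz
  apply IntermediateField.subset_adjoin k (T : Set E)
  exact Finset.mem_coe.mpr (Finset.mem_biUnion.mpr ⟨x, hx, Finset.mem_coe.mp hz⟩)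

/-- For a field `K` and a purely inseparable extension `k'/k`, every proper ideal of `k' ⊗[k] K`
consists of nilpotent elements. -/
theorem le_nilradical_of_ne_top (k K k' : Type u) [Field k] [Field K] [Algebra k K] [Field k']
    [Algebra k k'] [IsPurelyInseparable k k'] (m : Ideal (k' ⊗[k] K)) (hm : m ≠ ⊤) :
    m ≤ nilradical (k' ⊗[k] K) := by
  intro x hx
  obtain ⟨n, hn, a, ha⟩ := IsPurelyInseparable.exists_pow_mem_range_tensorProduct (k := k)
    (K := k') (R := K) (Algebra.TensorProduct.comm k k' K x)
  have h1 : (Algebra.TensorProduct.comm k k' K) (x ^ n) =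
      (Algebra.TensorProduct.comm k k' K) ((1 : k') ⊗ₜ[k] a) := by
    rw [map_pow, ← ha]
    simp [Algebra.TensorProduct.algebraMap_apply]
  have h2 : x ^ n = (1 : k') ⊗ₜ[k] a := (Algebra.TensorProduct.comm k k' K).injective h1
  have h3 : (1 : k') ⊗ₜ[k] a ∈ m := h2 ▸ Ideal.pow_mem_of_mem m hx n hn
  have ha0 : a = 0 := by
    by_contra hne
    apply hm
    apply Ideal.eq_top_of_isUnit_mem _ h3
    have hu : IsUnit a := IsUnit.mk0 a hne
    exact hu.map (Algebra.TensorProduct.includeRight : K →ₐ[k] k' ⊗[k] K)
  rw [mem_nilradical]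
  refine ⟨n, ?_⟩
  rw [h2, ha0, TensorProduct.tmul_zero]

theorem eq_nilradical_of_isMaximal (k K k' : Type u) [Field k] [Field K] [Algebra k K] [Field k']
    [Algebra k k'] [IsPurelyInseparable k k'] (m : Ideal (k' ⊗[k] K)) [hm : m.IsMaximal] :
    m = nilradical (k' ⊗[k] K) :=
  le_antisymm (le_nilradical_of_ne_top k K k' m hm.ne_top) (nilradical_le_prime m)

end Groth.Agent.Lib.H87PerfDescent
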