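import Mathlib
import Groth.Agent.Lib.H87PerfDescent2

/-!
# `P ⊗ R` is Artinian for `R` Artinian local with separable residue field, `P` purely
inseparable (helper87)
-/

set_option autoImplicit false
universe u
open TensorProduct

namespace Groth.Agent.Lib.H87PerfArtin

/-- Let `P/k'` be a purely inseparable field extension and `R` a Noetherian `k'`-algebra whose
nilradical is a maximal ideal and nilpotent, with `R_red` geometrically reduced over `k'`.
Then `P ⊗[k'] R` is Artinian. -/
theorem isArtinianRing_tensor (k' P R : Type u) [Field k'] [Field P] [Algebra k' P]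
    [IsPurelyInseparable k' P] [CommRing R] [Algebra k' R] [IsNoetherianRing R]
    (hmax : (nilradical R).IsMaximal)
    (hGR : Algebra.IsGeometricallyReduced k' (R ⧸ nilradical R)) :
    IsArtinianRing (P ⊗[k'] R) := by
  have halg : Algebra.IsAlgebraic k' P := inferInstance
  letI fC : Field (R ⧸ nilradical R) := Ideal.Quotient.field _
  have hredD : IsReduced (P ⊗[k'] (R ⧸ nilradical R)) := inferInstance
  have hnilD : ∀ m : Ideal (P ⊗[k'] (R ⧸ nilradical R)), m ≠ ⊤ → m = ⊥ := by
    intro m hm
    have h1 := Groth.Agent.Lib.H87PerfDescent.le_nilradical_of_ne_top k' (R ⧸ nilradical R) P m hm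
    have h0 : nilradical (P ⊗[k'] (R ⧸ nilradical R)) = ⊥ := nilradical_eq_zero _
    exact le_bot_iff.mp (h0 ▸ h1)
  have hsurj : Function.Surjective (Ideal.Quotient.mkₐ k' (nilradical R)) :=
    Ideal.Quotient.mkₐ_surjective k' _
  have hker := Algebra.TensorProduct.lTensor_ker (A := P)
    (Ideal.Quotient.mkₐ k' (nilradical R)) hsurj
  have hk : RingHom.ker (Ideal.Quotient.mkₐ k' (nilradical R)) = nilradical R := by
    ext x
    rw [RingHom.mem_ker, Ideal.Quotient.mkₐ_eq_mk, Ideal.Quotient.eq_zero_iff_mem]
  rw [hk] at hker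
  set π := Algebra.TensorProduct.map (AlgHom.id k' P) (Ideal.Quotient.mkₐ k' (nilradical R))
    with hπdef
  have hπ : Function.Surjective π :=
    Algebra.TensorProduct.map_surjective _ _ Function.surjective_id hsurj
  -- the kernel `J` is contained in the nilradical
  have hJnil : RingHom.ker π ≤ nilradical (P ⊗[k'] R) := by
    rw [hker, Ideal.map_le_iff_le_comap]
    intro m hm
    rw [Ideal.mem_comap, mem_nilradical]
    exact (mem_nilradical.mp hm).map _
  have hJfg : (RingHom.ker π).FG := by
    rw [hker]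
    exact Ideal.FG.map (IsNoetherian.noetherian _) _
  -- every prime equals `J`
  have hprime : ∀ 𝔭 : Ideal (P ⊗[k'] R), 𝔭.IsPrime → 𝔭 = RingHom.ker π := by
    intro 𝔭 h𝔭
    have hle : RingHom.ker π ≤ 𝔭 := hJnil.trans (nilradical_le_prime 𝔭)
    refine le_antisymm ?_ hle
    intro x hx
    have hne : Ideal.map π 𝔭 ≠ ⊤ := by
      intro htop
      have h1 : Ideal.comap π (Ideal.map π 𝔭) = 𝔭 :=
        Ideal.comap_map_of_surjective' π hπ 𝔭 ▸ (by rw [sup_eq_left.mpr]; exact hle)
      rw [htop, Ideal.comap_top] at h1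
      exact h𝔭.ne_top h1.symm
    have h2 := hnilD _ hne
    have h3 : π x ∈ Ideal.map π 𝔭 := Ideal.mem_map_of_mem π hx
    rw [h2] at h3
    exact h3
  rw [isArtinianRing_iff_isNoetherianRing_krullDimLE_zero]
  constructor
  · apply IsNoetherianRing.of_prime
    intro I hI
    rw [hprime I hI]
    exact hJfg
  · rw [Ring.krullDimLE_zero_iff]
    intro I hI
    obtain ⟨M, hM, hIM⟩ := Ideal.exists_le_maximal I hI.ne_top
    have h1 := hprime I hI
    have h2 := hprime M hM.isPrime
    rw [h1, ← h2]
    exact hM

end Groth.Agent.Lib.H87PerfArtin
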