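import Groth.Agent.Lib.H87AB
import Groth.Agent.Lib.H47Reflexive

/-!
# Reflexive modules over regular local rings of dimension ≤ 2 are free (helper87)

* `free_of_depth_le` : over a Noetherian local ring, `pd M < ∞` and `depth R ≤ depth M` ⇒ `M` free.
* `depth_le_depth_of_isReflexive` : over a Noetherian local ring of depth ≤ 2, a finite reflexive
  module has `depth M ≥ depth R`.
* `free_of_isReflexive_of_dim_le_two` : finite reflexive modules over regular local rings of
  dimension ≤ 2 are free.
-/

set_option autoImplicit false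
universe u
open CategoryTheory IsLocalRing

namespace Groth.Agent.Lib.H87Reflexive

variable {R : Type u} [CommRing R] [IsLocalRing R] [IsNoetherianRing R]

/-- If `pd M < ∞` and `depth R ≤ depth M`, then `M` is free. -/
theorem free_of_depth_le (M : Type u) [AddCommGroup M] [Module R M] [Module.Finite R M]
    (n : ℕ) (h : HasProjectiveDimensionLT (ModuleCat.of R M) n)
    (hd : LocCoh.depth R R ≤ LocCoh.depth R M) : Module.Free R M := by
  rcases subsingleton_or_nontrivial M with hM | hM
  · exact Module.Free.of_subsingleton R M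
  obtain ⟨e, -, h1, h2⟩ := H87AB.exists_projectiveDimension_eq M n h
  obtain ⟨dR, hdR, hR⟩ := H87AB.exists_isDepth_self (R := R)
  have hAB := H87AB.auslander_buchsbaum' M e h1 h2
  have he : e = 0 := by
    rw [hdR] at hAB hd
    have h3 : (e : ℕ∞) + LocCoh.depth R M ≤ LocCoh.depth R M := by
      rw [← hAB]; exact hd
    have h4 : LocCoh.depth R M ≠ ⊤ := by
      intro htop
      rw [htop] at hAB
      simp at hAB
    have h5 : LocCoh.depth R M ≤ dR := by
      rw [hAB]; exact le_add_self
    obtain ⟨dM, hdM⟩ := ENat.ne_top_iff_exists.mp h4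
    rw [← hdM] at h3
    have : e + dM ≤ dM := by exact_mod_cast h3
    omega
  subst he
  have hp : Projective (ModuleCat.of R M) :=
    projective_iff_hasProjectiveDimensionLT_one.mpr h1
  have : Module.Projective R M := (IsProjective.iff_projective M).mpr hp
  exact Module.free_of_flat_of_isLocalRing

/-- Over a Noetherian local ring of depth at most two, a finite reflexive module has depth at
least the depth of the ring. -/
theorem depth_le_depth_of_isReflexive (hR : LocCoh.depth R R ≤ 2) (M : Type u) [AddCommGroup M]
    [Module R M] [Module.Finite R M] [Module.IsReflexive R M] :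
    LocCoh.depth R R ≤ LocCoh.depth R M := by
  let e : M ≃ₗ[R] ((Module.Dual R M) →ₗ[R] R) := Module.evalEquiv R M
  unfold LocCoh.depth at hR ⊢
  set I := maximalIdeal R
  have h1 : 1 ≤ LocCoh.idealDepth I R → 1 ≤ LocCoh.idealDepth I M := by
    intro h
    rw [H47Reflexive.one_le_idealDepth_iff] at h ⊢
    exact (H47Reflexive.TF.linearMap h).of_equiv e
  have h2 : 2 ≤ LocCoh.idealDepth I R → 2 ≤ LocCoh.idealDepth I M := by
    intro h
    rw [H47Reflexive.two_le_idealDepth_iff] at h ⊢
    exact ⟨(H47Reflexive.TF.linearMap h.1).of_equiv e,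
      (H47Reflexive.E1.linearMap h.1 h.2).of_equiv e⟩
  have hcases : LocCoh.idealDepth I R = 0 ∨ LocCoh.idealDepth I R = 1 ∨
      LocCoh.idealDepth I R = 2 := by
    generalize LocCoh.idealDepth I R = d at hR
    have hne : d ≠ ⊤ := fun h => by rw [h] at hR; simp at hR
    obtain ⟨k, rfl⟩ := ENat.ne_top_iff_exists.mp hne
    have : k ≤ 2 := by exact_mod_cast hR
    interval_cases k <;> simp
  rcases hcases with h | h | h
  · rw [h]; exact zero_le
  · rw [h]; exact h1 h.ge
  · rw [h]; exact h2 h.ge

/-- Finite reflexive modules over a regular local ring of dimension at most two are free. -/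
theorem free_of_isReflexive_of_dim_le_two (R : Type u) [CommRing R] [IsRegularLocalRing R]
    (hdim : ringKrullDim R ≤ 2) (M : Type u) [AddCommGroup M] [Module R M] [Module.Finite R M]
    [Module.IsReflexive R M] : Module.Free R M := by
  have hd : ringKrullDim R = ((maximalIdeal R).spanFinrank : ℕ) :=
    IsRegularLocalRing.spanFinrank_maximalIdeal.symm
  have hpd := H87GlDim2.hasProjectiveDimensionLT_of_isRegularLocalRing (A := R) _ hd
    (ModuleCat.of R M)
  apply free_of_depth_le M _ hpd
  apply depth_le_depth_of_isReflexive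
  have h := H87AB.depth_self_of_isRegularLocalRing R
  rw [← h] at hdim
  have h2 : ((LocCoh.depth R R : ℕ∞) : WithBot ℕ∞) ≤ ((2 : ℕ∞) : WithBot ℕ∞) := hdim
  exact WithBot.coe_le_coe.mp h2

end Groth.Agent.Lib.H87Reflexive
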