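import Mathlib
import Groth.Agent.Lib.H87RegSmooth
import Groth.Agent.Lib.ClosedImmStalk

set_option autoImplicit false
universe u
open CategoryTheory CategoryTheory.Limits AlgebraicGeometry TopologicalSpace

namespace Groth.Agent.Lib.H87RegSmoothSch

/-- `j : Y → X` closed immersion over `S`, `Y` smooth over `S` at `y`, and the ideal of `j` on an affine
open nbhd of `j y` generated by a regular sequence: then `X` is smooth over `S` at `j y`. -/
theorem mem_smoothLocus_of_isRegular {X Y S : Scheme.{u}} (f : X ⟶ S) (h : Y ⟶ S)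
    [LocallyOfFinitePresentation f] [LocallyOfFinitePresentation h] (j : Y ⟶ X) [IsClosedImmersion j]
    (hj : j ≫ f = h) (y : ↥Y) (hy : y ∈ h.smoothLocus)
    (U : X.Opens) (hU : IsAffineOpen U) (hxU : j y ∈ U) (rs : List Γ(X, U))
    (hreg : RingTheory.Sequence.IsRegular Γ(X, U) rs)
    (hI : j.ker.ideal ⟨U, hU⟩ = Ideal.ofList rs) :
    j y ∈ f.smoothLocus := by
  subst hj
  -- affine charts
  obtain ⟨_, ⟨V, hV, rfl⟩, hsV, -⟩ := S.isBasis_affineOpens.exists_subset_of_mem_open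
    (Set.mem_univ (f (j y))) isOpen_univ
  have hx0 : j y ∈ U ⊓ f ⁻¹ᵁ V := ⟨hxU, hsV⟩
  obtain ⟨_, ⟨W, hW, rfl⟩, hxW, hW0⟩ :=
    X.isBasis_affineOpens.exists_subset_of_mem_open hx0 (U ⊓ f ⁻¹ᵁ V).2
  have hWU : W ≤ U := fun z hz => (hW0 hz).1
  have hWV : W ≤ f ⁻¹ᵁ V := fun z hz => (hW0 hz).2
  -- rings
  letI : Algebra Γ(S, V) Γ(X, W) := (f.appLE V W hWV).hom.toAlgebra
  letI : Algebra Γ(X, W) (X.presheaf.stalk (j y)) :=
    X.presheaf.algebra_section_stalk ⟨j y, hxW⟩
  letI : Algebra Γ(S, V) (X.presheaf.stalk (j y)) :=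
    ((algebraMap Γ(X, W) (X.presheaf.stalk (j y))).comp
      (algebraMap Γ(S, V) Γ(X, W))).toAlgebra
  haveI : IsScalarTower Γ(S, V) Γ(X, W) (X.presheaf.stalk (j y)) :=
    IsScalarTower.of_algebraMap_eq' rfl
  haveI hloc : IsLocalization.AtPrime (X.presheaf.stalk (j y))
      (hW.primeIdealOf ⟨j y, hxW⟩).asIdeal :=
    hW.isLocalization_stalk ⟨j y, hxW⟩
  letI : Algebra (X.presheaf.stalk (j y)) (Y.presheaf.stalk y) :=
    (j.stalkMap y).hom.toAlgebra
  letI : Algebra Γ(S, V) (Y.presheaf.stalk y) :=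
    ((algebraMap (X.presheaf.stalk (j y)) (Y.presheaf.stalk y)).comp
      (algebraMap Γ(S, V) (X.presheaf.stalk (j y)))).toAlgebra
  haveI : IsScalarTower Γ(S, V) (X.presheaf.stalk (j y))
      (Y.presheaf.stalk y) := IsScalarTower.of_algebraMap_eq' rfl
  haveI : Algebra.FinitePresentation Γ(S, V) Γ(X, W) := f.finitePresentation_appLE hV hW hWV
  -- the ideal on `W`
  have hmapI : (j.ker.ideal ⟨U, hU⟩).map (X.presheaf.map (homOfLE hWU).op).hom =
      j.ker.ideal ⟨W, hW⟩ := j.ker.map_ideal (U := ⟨W, hW⟩) (V := ⟨U, hU⟩) hWU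
  have hfg : (j.ker.ideal ⟨W, hW⟩).FG := by
    rw [← hmapI, hI]
    exact Ideal.FG.map (Submodule.fg_span (List.finite_toSet rs)) _
  -- `I(W) ⊆ p`
  have hIp : ∀ (W' : X.Opens) (hW' : IsAffineOpen W') (hxW' : j y ∈ W'),
      j.ker.ideal ⟨W', hW'⟩ ≤ (hW'.primeIdealOf ⟨j y, hxW'⟩).asIdeal := by
    intro W' hW' hxW' b hb
    by_contra hbp
    rw [← Groth.Agent.Lib.ClosedImmStalk.mem_basicOpen_iff_notMem_primeIdealOf W' hW' _ hxW' b] at hbp
    have h1 : y ∈ j ⁻¹ᵁ (X.basicOpen b) := hbp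
    rw [Scheme.preimage_basicOpen] at h1
    have h2 : (j.app W').hom b = 0 := by
      rwa [Scheme.Hom.ker_apply, RingHom.mem_ker] at hb
    change y ∈ Y.basicOpen ((j.app W').hom b) at h1
    rw [h2, Scheme.basicOpen_zero] at h1
    exact h1
  have hπ : Function.Surjective (algebraMap (X.presheaf.stalk (j y))
      (Y.presheaf.stalk y)) := j.stalkMap_surjective y
  have hker : RingHom.ker (algebraMap (X.presheaf.stalk (j y))
      (Y.presheaf.stalk y)) = (j.ker.ideal ⟨W, hW⟩).map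
        (algebraMap Γ(X, W) (X.presheaf.stalk (j y))) :=
    Groth.Agent.Lib.ClosedImmStalk.ker_stalkMap_eq_map j ⟨W, hW⟩ y hxW
  -- formal smoothness of `𝒪_{Y,y}` over `Γ(S, V)`
  haveI : Algebra.FormallySmooth Γ(S, V) (Y.presheaf.stalk y) := by
    letI : Algebra Γ(S, V) (S.presheaf.stalk (f (j y))) :=
      S.presheaf.algebra_section_stalk ⟨f (j y), hsV⟩
    haveI : IsLocalization.AtPrime (S.presheaf.stalk (f (j y)))
        (hV.primeIdealOf ⟨f (j y), hsV⟩).asIdeal :=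
      hV.isLocalization_stalk ⟨f (j y), hsV⟩
    haveI : Algebra.FormallySmooth Γ(S, V) (S.presheaf.stalk (f (j y))) :=
      Algebra.FormallySmooth.of_isLocalization
        (hV.primeIdealOf ⟨f (j y), hsV⟩).asIdeal.primeCompl
    letI : Algebra (S.presheaf.stalk (f (j y)))
        (Y.presheaf.stalk y) := ((j ≫ f).stalkMap y).hom.toAlgebra
    haveI : Algebra.FormallySmooth (S.presheaf.stalk (f (j y)))
        (Y.presheaf.stalk y) := hy
    haveI : IsScalarTower Γ(S, V) (S.presheaf.stalk (f (j y)))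
        (Y.presheaf.stalk y) := by
      refine IsScalarTower.of_algebraMap_eq (fun a => ?_)
      change (j.stalkMap y).hom ((X.presheaf.germ W _ hxW).hom
        ((f.appLE V W hWV).hom a)) = ((j ≫ f).stalkMap y).hom
          ((S.presheaf.germ V _ hsV).hom a)
      rw [Scheme.Hom.stalkMap_comp]
      change _ = (j.stalkMap y).hom ((f.stalkMap (j y)).hom
        ((S.presheaf.germ V _ hsV).hom a))
      congr 1
      have := Scheme.Hom.germ_stalkMap_apply f V (j y) hsV a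
      erw [this]
      rw [Scheme.Hom.appLE, CommRingCat.comp_apply]
      exact TopCat.Presheaf.germ_res_apply X.presheaf (homOfLE hWV) _ hxW _
    exact Algebra.FormallySmooth.comp Γ(S, V) (S.presheaf.stalk (f (j y))) _
  have key := Groth.Agent.Lib.H87RegSmooth.formallySmooth_iff_isRegularIdeal
    (A := Γ(S, V)) (B := Γ(X, W)) (T := X.presheaf.stalk (j y))
    (Tb := Y.presheaf.stalk y) (j.ker.ideal ⟨W, hW⟩) hfg
    (hW.primeIdealOf ⟨j y, hxW⟩).asIdeal (hIp W hW hxW) hπ hker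
  -- the regular sequence in the stalk
  have hregT : CInt.IsRegularIdeal ((j.ker.ideal ⟨W, hW⟩).map
      (algebraMap Γ(X, W) (X.presheaf.stalk (j y)))) := by
    have h1 : (j.ker.ideal ⟨W, hW⟩).map (algebraMap Γ(X, W) (X.presheaf.stalk (j y))) =
        (j.ker.ideal ⟨U, hU⟩).map (X.presheaf.germ U (j y) hxU).hom := by
      rw [← hker]
      exact Groth.Agent.Lib.ClosedImmStalk.ker_stalkMap_eq_map j ⟨U, hU⟩ y hxU
    rw [h1, hI]
    letI : Algebra Γ(X, U) (X.presheaf.stalk (j y)) :=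
      X.presheaf.algebra_section_stalk ⟨j y, hxU⟩
    haveI : IsLocalization.AtPrime (X.presheaf.stalk (j y))
        (hU.primeIdealOf ⟨j y, hxU⟩).asIdeal := hU.isLocalization_stalk ⟨j y, hxU⟩
    have hmem : ∀ r ∈ rs, r ∈ (hU.primeIdealOf ⟨j y, hxU⟩).asIdeal := by
      intro r hr
      apply hIp U hU hxU
      rw [hI]
      exact Ideal.subset_span hr
    have h2 := RingTheory.Sequence.IsWeaklyRegular.isRegular_of_isLocalization_of_mem
      (X.presheaf.stalk (j y)) (hU.primeIdealOf ⟨j y, hxU⟩).asIdeal hreg.toIsWeaklyRegular hmem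
    refine ⟨rs.map (algebraMap Γ(X, U) (X.presheaf.stalk (j y))), h2, ?_⟩
    rw [← Ideal.map_ofList]
    rfl
  have hsm := key.mpr hregT
  rw [Scheme.Hom.mem_smoothLocus, formallySmooth_stalkMap_iff V hV W hW hWV hxW]
  let e : X.presheaf.stalk (j y) ≃ₐ[Γ(X, W)]
      Localization.AtPrime (hW.primeIdealOf ⟨j y, hxW⟩).asIdeal :=
    IsLocalization.algEquiv (hW.primeIdealOf ⟨j y, hxW⟩).asIdeal.primeCompl _ _
  exact Algebra.FormallySmooth.of_equiv (e.restrictScalars Γ(S, V))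

end Groth.Agent.Lib.H87RegSmoothSch
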