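import Mathlib
set_option autoImplicit false

/-!
# Étaleness along a section from a bijective conormal map (helper87)

* `bijective_of_lTensor_residueField_bijective`: Nakayama for maps finite → finite projective.
* `phi_bijective`: for a section `σ : B → A` with kernel `b` and a `B`-algebra `κ` killed by `b`,
  `κ ⊗_A b/b² ≃ κ ⊗_B Ω_{B/A}`.
* `tensorMap_bijective`, `mapBaseChange_baseChange_bijective`,
  `formallyEtale_of_mapBaseChange_bijective`.
-/

open TensorProduct KaehlerDifferential IsLocalRing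

namespace Groth.Agent.Lib.H87SectionEtale


section Nakayama

variable {R M N : Type*} [CommRing R] [IsLocalRing R] [AddCommGroup M] [Module R M]
  [AddCommGroup N] [Module R N]

/-- Nakayama: a linear map into a finite module over a local ring which is surjective modulo the
maximal ideal is surjective. -/
theorem surjective_of_lTensor_residueField_surjective [Module.Finite R N] (u : M →ₗ[R] N)
    (h : Function.Surjective (u.lTensor (ResidueField R))) : Function.Surjective u := by
  rw [← LinearMap.range_eq_top, ← Submodule.Quotient.subsingleton_iff,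
    ← IsLocalRing.subsingleton_tensorProduct (R := R)]
  refine ⟨fun a b => ?_⟩
  have key : ∀ z : ResidueField R ⊗[R] (N ⧸ LinearMap.range u), z = 0 := by
    intro z
    obtain ⟨y, rfl⟩ := LinearMap.lTensor_surjective (ResidueField R)
      (Submodule.mkQ_surjective (LinearMap.range u)) z
    obtain ⟨w, rfl⟩ := h y
    rw [← LinearMap.comp_apply, ← LinearMap.lTensor_comp]
    have : (LinearMap.range u).mkQ ∘ₗ u = 0 := by
      ext m
      simp
    rw [this, LinearMap.lTensor_zero, LinearMap.zero_apply]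
  rw [key a, key b]

/-- A linear map from a finite module to a finite projective module over a local ring which is
bijective modulo the maximal ideal is bijective. -/
theorem bijective_of_lTensor_residueField_bijective [Module.Finite R M] [Module.Finite R N]
    [Module.Projective R N] (u : M →ₗ[R] N)
    (h : Function.Bijective (u.lTensor (ResidueField R))) : Function.Bijective u := by
  have hsurj : Function.Surjective u := surjective_of_lTensor_residueField_surjective u h.2
  obtain ⟨s, hs⟩ := Module.projective_lifting_property u LinearMap.id hsurj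
  -- `s` is a section; it is surjective modulo the maximal ideal
  have hs' : (u.lTensor (ResidueField R)) ∘ₗ (s.lTensor (ResidueField R)) = LinearMap.id := by
    rw [← LinearMap.lTensor_comp, hs, LinearMap.lTensor_id]
  have hssurj : Function.Surjective (s.lTensor (ResidueField R)) := by
    intro z
    refine ⟨u.lTensor (ResidueField R) z, h.1 ?_⟩
    have := congrArg (fun f => f (u.lTensor (ResidueField R) z)) hs'
    simpa using this
  have hs2 : Function.Surjective s := surjective_of_lTensor_residueField_surjective s hssurj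
  refine ⟨fun a b hab => ?_, hsurj⟩
  obtain ⟨a', rfl⟩ := hs2 a
  obtain ⟨b', rfl⟩ := hs2 b
  have h1 : ∀ n, u (s n) = n := fun n => congrArg (fun f => f n) hs
  rw [h1, h1] at hab
  rw [hab]

end Nakayama



section SectionCotangent

variable {A B κ : Type*} [CommRing A] [CommRing B] [CommRing κ] [Algebra A B] [Algebra B κ]
  [Algebra A κ] [IsScalarTower A B κ] (σ : B →ₐ[A] A)

theorem sub_mem_ker (y : B) : y - algebraMap A B (σ y) ∈ RingHom.ker σ := by
  rw [RingHom.mem_ker, map_sub, AlgHom.commutes, Algebra.algebraMap_self_apply, sub_self]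

theorem algebraMap_eq_of_ker (hκ : ∀ x ∈ RingHom.ker σ, algebraMap B κ x = 0) (y : B) :
    algebraMap B κ y = algebraMap A κ (σ y) := by
  have := hκ _ (sub_mem_ker σ y)
  rw [map_sub, sub_eq_zero, ← IsScalarTower.algebraMap_apply] at this
  exact this

theorem toCotangent_smul' (I : Ideal B) (a : A) (x : I) :
    I.toCotangent (a • x) = a • I.toCotangent x := by
  rw [← algebraMap_smul B a x, map_smul, algebraMap_smul]

theorem smul_one_tmul (hκ : ∀ x ∈ RingHom.ker σ, algebraMap B κ x = 0) (y : B)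
    (t : (RingHom.ker σ).Cotangent) :
    y • ((1 : κ) ⊗ₜ[A] t) = (1 : κ) ⊗ₜ[A] (σ y • t) := by
  rw [TensorProduct.smul_tmul', Algebra.smul_def, mul_one, algebraMap_eq_of_ker σ hκ,
    ← mul_one (algebraMap A κ (σ y)), ← Algebra.smul_def, TensorProduct.smul_tmul]

/-- the derivation `y ↦ 1 ⊗ [y - σ y]` -/
noncomputable def sectionDer (hκ : ∀ x ∈ RingHom.ker σ, algebraMap B κ x = 0) :
    Derivation A B (κ ⊗[A] (RingHom.ker σ).Cotangent) where
  toFun y := (1 : κ) ⊗ₜ[A] (RingHom.ker σ).toCotangent ⟨y - algebraMap A B (σ y), sub_mem_ker σ y⟩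
  map_add' y z := by
    rw [← tmul_add, ← map_add]
    congr 2
    ext
    simp only [map_add, Submodule.coe_add]
    ring
  map_smul' a y := by
    rw [RingHom.id_apply, ← tmul_smul, ← toCotangent_smul']
    congr 2
    ext
    simp only [map_smul, Submodule.coe_smul_of_tower, smul_sub, Algebra.smul_def, map_mul, AlgHom.commutes,
      Algebra.algebraMap_self_apply]
    ring
  map_one_eq_zero' := by
    simp only [LinearMap.coe_mk, AddHom.coe_mk]
    have : (⟨(1 : B) - algebraMap A B (σ 1), sub_mem_ker σ 1⟩ : RingHom.ker σ) = 0 := by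
      ext
      simp
    rw [this, map_zero, tmul_zero]
  leibniz' y z := by
    simp only [LinearMap.coe_mk, AddHom.coe_mk]
    rw [smul_one_tmul σ hκ, smul_one_tmul σ hκ, ← tmul_add, ← toCotangent_smul',
      ← toCotangent_smul', ← map_add]
    congr 1
    rw [Ideal.toCotangent_eq, pow_two]
    have h1 : ((⟨y * z - algebraMap A B (σ (y * z)), sub_mem_ker σ (y * z)⟩ : RingHom.ker σ) : B) -
        ((σ y • (⟨z - algebraMap A B (σ z), sub_mem_ker σ z⟩ : RingHom.ker σ) +
          σ z • (⟨y - algebraMap A B (σ y), sub_mem_ker σ y⟩ : RingHom.ker σ) : RingHom.ker σ) : B) =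
        (y - algebraMap A B (σ y)) * (z - algebraMap A B (σ z)) := by
      simp only [Submodule.coe_add, Submodule.coe_smul_of_tower, Algebra.smul_def, map_mul]
      ring
    rw [h1]
    exact Ideal.mul_mem_mul (sub_mem_ker σ y) (sub_mem_ker σ z)

@[simp]
theorem sectionDer_apply (hκ : ∀ x ∈ RingHom.ker σ, algebraMap B κ x = 0) (y : B) :
    sectionDer (κ := κ) σ hκ y =
      (1 : κ) ⊗ₜ[A] (RingHom.ker σ).toCotangent ⟨y - algebraMap A B (σ y), sub_mem_ker σ y⟩ := rfl

variable (κ) in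
/-- the map `[x] ↦ 1 ⊗ d x` -/
noncomputable def cotToTensor (hκ : ∀ x ∈ RingHom.ker σ, algebraMap B κ x = 0) :
    (RingHom.ker σ).Cotangent →ₗ[A] κ ⊗[B] Ω[B⁄A] :=
  Ideal.Cotangent.lift
    (((TensorProduct.mk B κ Ω[B⁄A] 1).restrictScalars A) ∘ₗ (D A B).toLinearMap ∘ₗ
      ((Submodule.subtype (RingHom.ker σ)).restrictScalars A))
    (fun x y => by
      change (1 : κ) ⊗ₜ[B] D A B (x.1 * y.1) = 0
      rw [Derivation.leibniz, tmul_add, tmul_smul, tmul_smul, TensorProduct.smul_tmul',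
        TensorProduct.smul_tmul', Algebra.smul_def, Algebra.smul_def,
        hκ _ x.2, hκ _ y.2, zero_mul, zero_tmul, zero_tmul, add_zero])

@[simp]
theorem cotToTensor_toCotangent (hκ : ∀ x ∈ RingHom.ker σ, algebraMap B κ x = 0)
    (x : RingHom.ker σ) :
    cotToTensor κ σ hκ ((RingHom.ker σ).toCotangent x) = (1 : κ) ⊗ₜ[B] D A B x.1 := rfl

variable (κ) in
/-- `κ ⊗_A b/b² → κ ⊗_B Ω_{B/A}`, `c ⊗ [x] ↦ c ⊗ d x` -/
noncomputable def phi (hκ : ∀ x ∈ RingHom.ker σ, algebraMap B κ x = 0) :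
    κ ⊗[A] (RingHom.ker σ).Cotangent →ₗ[κ] κ ⊗[B] Ω[B⁄A] :=
  LinearMap.liftBaseChange κ (cotToTensor κ σ hκ)

variable (κ) in
/-- the inverse of `phi` -/
noncomputable def phiInv (hκ : ∀ x ∈ RingHom.ker σ, algebraMap B κ x = 0) :
    κ ⊗[B] Ω[B⁄A] →ₗ[κ] κ ⊗[A] (RingHom.ker σ).Cotangent :=
  LinearMap.liftBaseChange κ (sectionDer (κ := κ) σ hκ).liftKaehlerDifferential

theorem phiInv_comp_phi (hκ : ∀ x ∈ RingHom.ker σ, algebraMap B κ x = 0) :
    phiInv κ σ hκ ∘ₗ phi κ σ hκ = LinearMap.id := by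
  refine (LinearMap.liftBaseChangeEquiv κ).symm.injective ?_
  refine LinearMap.ext fun t => ?_
  obtain ⟨x, rfl⟩ := Ideal.toCotangent_surjective _ t
  simp only [phi, phiInv, LinearMap.liftBaseChangeEquiv_symm_apply, LinearMap.coe_comp,
    Function.comp_apply, LinearMap.liftBaseChange_tmul, one_smul,
    cotToTensor_toCotangent, Derivation.liftKaehlerDifferential_comp_D, sectionDer_apply,
    LinearMap.id_coe, id_eq]
  congr 2
  ext
  have : σ x.1 = 0 := x.2
  simp [this]

theorem phi_comp_phiInv (hκ : ∀ x ∈ RingHom.ker σ, algebraMap B κ x = 0) :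
    phi κ σ hκ ∘ₗ phiInv κ σ hκ = LinearMap.id := by
  refine (LinearMap.liftBaseChangeEquiv κ).symm.injective ?_
  refine Derivation.liftKaehlerDifferential_unique _ _ ?_
  refine Derivation.ext fun y => ?_
  change ((LinearMap.liftBaseChangeEquiv κ).symm (phi κ σ hκ ∘ₗ phiInv κ σ hκ)) (D A B y) =
    ((LinearMap.liftBaseChangeEquiv κ).symm LinearMap.id) (D A B y)
  simp only [phi, phiInv, LinearMap.liftBaseChangeEquiv_symm_apply, LinearMap.coe_comp,
    Function.comp_apply, LinearMap.liftBaseChange_tmul, one_smul,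
    cotToTensor_toCotangent, Derivation.liftKaehlerDifferential_comp_D, sectionDer_apply,
    LinearMap.id_coe, id_eq, map_sub, Derivation.map_algebraMap, sub_zero]

theorem phi_bijective (hκ : ∀ x ∈ RingHom.ker σ, algebraMap B κ x = 0) :
    Function.Bijective (phi κ σ hκ) := by
  refine ⟨Function.LeftInverse.injective (g := phiInv κ σ hκ) fun x => ?_,
    Function.RightInverse.surjective (g := phiInv κ σ hκ) fun x => ?_⟩
  · exact congrArg (fun f => f x) (phiInv_comp_phi σ hκ)
  · exact congrArg (fun f => f x) (phi_comp_phiInv σ hκ)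

end SectionCotangent



section Natural

theorem baseChange_bijective {R M N : Type*} (κ : Type*) [CommRing R] [CommRing κ] [Algebra R κ]
    [AddCommGroup M] [Module R M] [AddCommGroup N] [Module R N] (f : M →ₗ[R] N)
    (hf : Function.Bijective f) : Function.Bijective (f.baseChange κ) := by
  rw [LinearMap.baseChange_eq_ltensor]
  exact (LinearEquiv.lTensor κ (LinearEquiv.ofBijective f hf)).bijective

variable {A B₁ B₂ κ : Type*} [CommRing A] [CommRing B₁] [CommRing B₂] [CommRing κ]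
  [Algebra A B₁] [Algebra A B₂] [Algebra B₂ B₁] [IsScalarTower A B₂ B₁]
  [Algebra A κ] [Algebra B₁ κ] [Algebra B₂ κ] [IsScalarTower A B₁ κ] [IsScalarTower A B₂ κ]
  [IsScalarTower B₂ B₁ κ]
  (σ₁ : B₁ →ₐ[A] A) (σ₂ : B₂ →ₐ[A] A)

variable (A B₁ B₂ κ) in
/-- `κ ⊗_{B₂} Ω_{B₂/A} → κ ⊗_{B₁} Ω_{B₁/A}` -/
noncomputable def tensorMap : κ ⊗[B₂] Ω[B₂⁄A] →ₗ[κ] κ ⊗[B₁] Ω[B₁⁄A] :=
  LinearMap.liftBaseChange κ (((TensorProduct.mk B₁ κ Ω[B₁⁄A] 1).restrictScalars B₂) ∘ₗ
    (KaehlerDifferential.map A A B₂ B₁))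

@[simp]
theorem tensorMap_one_tmul_D (y : B₂) :
    tensorMap A B₁ B₂ κ ((1 : κ) ⊗ₜ[B₂] D A B₂ y) = (1 : κ) ⊗ₜ[B₁] D A B₁ (algebraMap B₂ B₁ y) := by
  simp [tensorMap]

theorem ker_le_of_le (hle : RingHom.ker σ₂ ≤ (RingHom.ker σ₁).comap (IsScalarTower.toAlgHom A B₂ B₁))
    (hκ₁ : ∀ x ∈ RingHom.ker σ₁, algebraMap B₁ κ x = 0) :
    ∀ x ∈ RingHom.ker σ₂, algebraMap B₂ κ x = 0 := by
  intro x hx
  rw [IsScalarTower.algebraMap_apply B₂ B₁ κ]
  exact hκ₁ _ (hle hx)

theorem tensorMap_bijective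
    (hle : RingHom.ker σ₂ ≤ (RingHom.ker σ₁).comap (IsScalarTower.toAlgHom A B₂ B₁))
    (hcot : Function.Bijective
      (Ideal.mapCotangent (RingHom.ker σ₂) (RingHom.ker σ₁) (IsScalarTower.toAlgHom A B₂ B₁) hle))
    (hκ₁ : ∀ x ∈ RingHom.ker σ₁, algebraMap B₁ κ x = 0) :
    Function.Bijective (tensorMap A B₁ B₂ κ) := by
  have hκ₂ := ker_le_of_le σ₁ σ₂ hle hκ₁
  have hcomm : tensorMap A B₁ B₂ κ ∘ₗ phi κ σ₂ hκ₂ = phi κ σ₁ hκ₁ ∘ₗ
      (Ideal.mapCotangent (RingHom.ker σ₂) (RingHom.ker σ₁)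
        (IsScalarTower.toAlgHom A B₂ B₁) hle).baseChange κ := by
    refine (LinearMap.liftBaseChangeEquiv κ).symm.injective ?_
    refine LinearMap.ext fun t => ?_
    obtain ⟨x, rfl⟩ := Ideal.toCotangent_surjective _ t
    simp only [phi, LinearMap.liftBaseChangeEquiv_symm_apply, LinearMap.coe_comp,
      Function.comp_apply, LinearMap.liftBaseChange_tmul, one_smul, cotToTensor_toCotangent,
      tensorMap_one_tmul_D, LinearMap.baseChange_tmul, Ideal.mapCotangent_toCotangent,
      IsScalarTower.coe_toAlgHom']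
  have h1 : Function.Bijective (tensorMap A B₁ B₂ κ ∘ phi κ σ₂ hκ₂) := by
    have : (tensorMap A B₁ B₂ κ ∘ phi κ σ₂ hκ₂ : _ → _) = ⇑(phi κ σ₁ hκ₁ ∘ₗ
      (Ideal.mapCotangent (RingHom.ker σ₂) (RingHom.ker σ₁)
        (IsScalarTower.toAlgHom A B₂ B₁) hle).baseChange κ) := by
      rw [← hcomm]; rfl
    rw [this, LinearMap.coe_comp]
    exact (phi_bijective σ₁ hκ₁).comp (baseChange_bijective κ _ hcot)
  exact (Function.Bijective.of_comp_iff _ (phi_bijective σ₂ hκ₂)).mp h1

end Natural

section Local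

variable {A B₁ B₂ T κ : Type*} [CommRing A] [CommRing B₁] [CommRing B₂] [CommRing T] [CommRing κ]
  [Algebra A B₁] [Algebra A B₂] [Algebra B₂ B₁] [IsScalarTower A B₂ B₁]
  [Algebra A T] [Algebra B₁ T] [Algebra B₂ T] [IsScalarTower A B₁ T] [IsScalarTower A B₂ T]
  [IsScalarTower B₂ B₁ T]
  [Algebra A κ] [Algebra B₁ κ] [Algebra B₂ κ] [Algebra T κ] [IsScalarTower A B₁ κ]
  [IsScalarTower A B₂ κ] [IsScalarTower B₂ B₁ κ] [IsScalarTower B₁ T κ] [IsScalarTower B₂ T κ]
  [Algebra.FormallyEtale B₁ T]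

theorem mapBaseChange_baseChange_bijective (h : Function.Bijective (tensorMap A B₁ B₂ κ)) :
    Function.Bijective ((mapBaseChange A B₂ T).baseChange κ) := by
  let e₂ := AlgebraTensorModule.cancelBaseChange B₂ T κ κ Ω[B₂⁄A]
  let e₁ := AlgebraTensorModule.cancelBaseChange B₁ T κ κ Ω[B₁⁄A]
  let w := tensorKaehlerEquivOfFormallyEtale A B₁ T
  have hcomm : ((mapBaseChange A B₂ T).baseChange κ) ∘ₗ e₂.symm.toLinearMap =
      (w.toLinearMap.baseChange κ) ∘ₗ e₁.symm.toLinearMap ∘ₗ tensorMap A B₁ B₂ κ := by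
    refine (LinearMap.liftBaseChangeEquiv κ).symm.injective ?_
    refine Derivation.liftKaehlerDifferential_unique _ _ ?_
    refine Derivation.ext fun y => ?_
    change ((LinearMap.liftBaseChangeEquiv κ).symm
      (((mapBaseChange A B₂ T).baseChange κ) ∘ₗ e₂.symm.toLinearMap)) (D A B₂ y) =
      ((LinearMap.liftBaseChangeEquiv κ).symm ((w.toLinearMap.baseChange κ) ∘ₗ
        e₁.symm.toLinearMap ∘ₗ tensorMap A B₁ B₂ κ)) (D A B₂ y)
    simp only [LinearMap.liftBaseChangeEquiv_symm_apply, LinearMap.coe_comp, LinearEquiv.coe_coe,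
      Function.comp_apply, tensorMap_one_tmul_D, e₁, e₂, w,
      AlgebraTensorModule.cancelBaseChange_symm_tmul, LinearMap.baseChange_tmul,
      mapBaseChange_tmul, one_smul, map_D, tensorKaehlerEquivOfFormallyEtale_apply,
      ← IsScalarTower.algebraMap_apply]
  have h1 : Function.Bijective (((mapBaseChange A B₂ T).baseChange κ) ∘ e₂.symm) := by
    have : (((mapBaseChange A B₂ T).baseChange κ) ∘ e₂.symm : _ → _) =
        ⇑((w.toLinearMap.baseChange κ) ∘ₗ e₁.symm.toLinearMap ∘ₗ tensorMap A B₁ B₂ κ) := by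
      rw [← hcomm]; rfl
    rw [this, LinearMap.coe_comp, LinearMap.coe_comp]
    exact (baseChange_bijective κ _ w.bijective).comp (e₁.symm.bijective.comp h)
  exact (Function.Bijective.of_comp_iff _ e₂.symm.bijective).mp h1

end Local


section Final

/-- If `T` is formally smooth over `A` and `T ⊗_{B₂} Ω_{B₂/A} → Ω_{T/A}` is bijective, then `T` is
formally étale over `B₂`. -/
theorem formallyEtale_of_mapBaseChange_bijective (A B₂ T : Type*) [CommRing A] [CommRing B₂]
    [CommRing T] [Algebra A B₂] [Algebra A T] [Algebra B₂ T] [IsScalarTower A B₂ T]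
    [Algebra.FormallySmooth A T] (hu : Function.Bijective (mapBaseChange A B₂ T)) :
    Algebra.FormallyEtale B₂ T := by
  refine ⟨⟨fun a b => ?_⟩, ⟨fun a b => ?_⟩⟩
  · have key : ∀ z : Ω[T⁄B₂], z = 0 := by
      intro z
      obtain ⟨y, rfl⟩ := KaehlerDifferential.map_surjective A B₂ T z
      obtain ⟨w, rfl⟩ := hu.2 y
      exact (KaehlerDifferential.exact_mapBaseChange_map A B₂ T _).mpr ⟨w, rfl⟩
    rw [key a, key b]
  · have key : ∀ z : Algebra.H1Cotangent B₂ T, z = 0 := by
      intro z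
      have h1 : mapBaseChange A B₂ T (Algebra.H1Cotangent.δ A B₂ T z) = 0 :=
        (Algebra.H1Cotangent.exact_δ_mapBaseChange A B₂ T _).mpr ⟨z, rfl⟩
      have h2 : Algebra.H1Cotangent.δ A B₂ T z = 0 := hu.1 (h1.trans (map_zero _).symm)
      obtain ⟨y, rfl⟩ := (Algebra.H1Cotangent.exact_map_δ A B₂ T z).mp h2
      rw [Subsingleton.elim y 0, map_zero]
    rw [key a, key b]

end Final

end Groth.Agent.Lib.H87SectionEtale
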