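import Groth.Agent.Lib.H87GlDim
import Groth.Agent.Lib.RegularLocal
import Groth.Agent.S0560
import Mathlib.RingTheory.Ideal.AssociatedPrime.Finiteness
import Mathlib.RingTheory.Regular.Free
import Mathlib.RingTheory.Ideal.Cotangent

set_option autoImplicit false
universe u
open CategoryTheory Abelian IsLocalRing Pointwise

namespace Groth.Agent.Lib.H87Serre

open Groth.Agent.Lib.H87GlDim

variable {A : Type u} [CommRing A] [IsLocalRing A] [IsNoetherianRing A]

/-- If the maximal ideal kills a nonzero element and the residue field has finite projective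
dimension, then the ring is a field. -/
theorem maximalIdeal_eq_bot_of_socle (n : ℕ) :
    HasProjectiveDimensionLT (ModuleCat.of A (ResidueField A)) (n + 1) →
    ∀ (a : A), a ≠ 0 → (∀ r ∈ maximalIdeal A, r * a = 0) → maximalIdeal A = ⊥ := by
  induction n with
  | zero =>
    intro hk a _ _
    have hproj : Projective (ModuleCat.of A (ResidueField A)) := by
      rw [projective_iff_hasProjectiveDimensionLT_one]
      exact hk
    have : Module.Projective A (ResidueField A) := by
      rw [IsProjective.iff_projective]
      exact hproj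
    have : Module.Free A (ResidueField A) := Module.free_of_flat_of_isLocalRing
    have h1 : Module.annihilator A (ResidueField A) = ⊥ :=
      Module.annihilator_eq_bot.mpr inferInstance
    have h2 : Module.annihilator A (A ⧸ maximalIdeal A) = maximalIdeal A :=
      Ideal.annihilator_quotient
    rw [← h2]
    exact h1
  | succ n ih =>
    intro hk a ha hma
    refine ih ?_ a ha hma
    apply hasProjectiveDimensionLT_of_enoughInjectives
    intro N
    -- the embedding of the residue field into A
    let g : A →ₗ[A] A := LinearMap.toSpanSingleton A A a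
    have hg : maximalIdeal A ≤ LinearMap.ker g := by
      intro r hr
      rw [LinearMap.mem_ker]
      simpa [g] using hma r hr
    let ι : ResidueField A →ₗ[A] A := Submodule.liftQ (maximalIdeal A) g hg
    have hι : Function.Injective ι := by
      rw [← LinearMap.ker_eq_bot]
      apply Submodule.ker_liftQ_eq_bot
      intro r hr
      rw [LinearMap.mem_ker] at hr
      by_contra hrm
      have hu : IsUnit r := by
        by_contra hnu
        exact hrm ((IsLocalRing.mem_maximalIdeal r).mpr hnu)
      apply ha
      have : r * a = 0 := by simpa [g] using hr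
      exact (hu.mul_right_eq_zero).mp this
    let S : ShortComplex (ModuleCat.{u} A) :=
      ModuleCat.shortComplexOfCompEqZero ι (LinearMap.range ι).mkQ
        ι.exact_map_mkQ_range.linearMap_comp_eq_zero
    have hS : S.ShortExact := ModuleCat.shortComplex_shortExact S
      ι.exact_map_mkQ_range hι (Submodule.mkQ_surjective _)
    have hgl : HasProjectiveDimensionLT S.X₃ (n + 1 + 1) :=
      hasProjectiveDimensionLT_of_residueField (n + 1) hk S.X₃
    have hsub : Subsingleton (Ext S.X₃ N (n + 2)) :=
      HasProjectiveDimensionLT.subsingleton S.X₃ (n + 2) (n + 2) le_rfl N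
    have key : ∀ x₁ : Ext (ModuleCat.of A (ResidueField A)) N (n + 1), x₁ = 0 := fun x₁ => by
      obtain ⟨x₂, rfl⟩ := Ext.contravariant_sequence_exact₁ hS N x₁ (add_comm 1 (n + 1))
        (Subsingleton.elim _ _)
      have hP : Projective S.X₂ := by
        change Projective (ModuleCat.of A A)
        infer_instance
      rw [Ext.eq_zero_of_projective x₂, Ext.comp_zero]
    exact ⟨fun x y => by rw [key x, key y]⟩

end Groth.Agent.Lib.H87Serre

namespace Groth.Agent.Lib.H87Serre

variable {A : Type u} [CommRing A] [IsLocalRing A] [IsNoetherianRing A]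

/-- Prime avoidance: a nonzerodivisor in `m \ m²`. -/
theorem exists_nonZeroDivisor_mem_notMem_sq (hm : maximalIdeal A ≠ ⊥)
    (hsoc : ∀ a : A, a ≠ 0 → ∃ r ∈ maximalIdeal A, r * a ≠ 0) :
    ∃ x ∈ maximalIdeal A, x ∉ maximalIdeal A ^ 2 ∧ x ∈ nonZeroDivisors A := by
  by_contra hcon
  push Not at hcon
  have hsub : (maximalIdeal A : Set A) ⊆
      ⋃ I ∈ insert (maximalIdeal A ^ 2) (associatedPrimes A A), (I : Set A) := by
    intro x hx
    by_cases hx2 : x ∈ maximalIdeal A ^ 2
    · exact Set.mem_biUnion (Set.mem_insert _ _) hx2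
    · have hnz : x ∉ nonZeroDivisors A := hcon x hx hx2
      have : x ∈ ⋃ p ∈ associatedPrimes A A, (p : Set A) := by
        rw [biUnion_associatedPrimes_eq_compl_nonZeroDivisors]
        exact hnz
      obtain ⟨p, hp, hxp⟩ := Set.mem_iUnion₂.mp this
      exact Set.mem_biUnion (Set.mem_insert_of_mem _ hp) hxp
  have hfin : (insert (maximalIdeal A ^ 2) (associatedPrimes A A)).Finite :=
    (associatedPrimes.finite A A).insert _
  obtain ⟨I, hI, hle⟩ := (Ideal.subset_union_prime_finite hfin (f := id) (maximalIdeal A ^ 2)
    (maximalIdeal A ^ 2) (fun I hI h1 _ => by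
      rcases hI with rfl | hI
      · exact absurd rfl h1
      · exact hI.isPrime)).mp hsub
  rcases hI with rfl | hI
  · -- m ≤ m^2 : Nakayama
    apply hm
    apply Submodule.eq_bot_of_le_smul_of_le_jacobson_bot (maximalIdeal A) (maximalIdeal A)
      (Ideal.fg_of_isNoetherianRing _) _ (IsLocalRing.maximalIdeal_le_jacobson _)
    rw [smul_eq_mul, ← pow_two]
    exact hle
  · -- m is an associated prime
    rw [AssociatedPrimes.mem_iff, isAssociatedPrime_iff] at hI
    obtain ⟨prime, a, rfl⟩ := hI
    have ha : a ≠ 0 := by
      rintro rfl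
      apply prime.ne_top
      rw [eq_top_iff]
      intro r _
      simp [Submodule.mem_colon_singleton]
    obtain ⟨r, hr, hra⟩ := hsoc a ha
    apply hra
    have := hle hr
    simpa only [id, Submodule.mem_colon_singleton, Submodule.mem_bot, smul_eq_mul] using this

end Groth.Agent.Lib.H87Serre

namespace Groth.Agent.Lib.H87Serre

section ChangeOfRings

variable {A : Type u} [CommRing A]

theorem isSMulRegular_of_free (x : A) (hx : IsSMulRegular A x) (F : Type*) [AddCommGroup F]
    [Module A F] [Module.Free A F] : IsSMulRegular F x := by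
  let b := Module.Free.chooseBasis A F
  rw [b.repr.isSMulRegular_congr]
  intro f g h
  ext i
  exact hx (by simpa using DFunLike.congr_fun h i)

/-- Change of rings: if `x` is regular on `A` and on `M` then
`pd_{A/x} (M/xM) ≤ pd_A M`. -/
theorem hasProjectiveDimensionLT_quotSMulTop (x : A) (hx : IsSMulRegular A x) (n : ℕ) :
    ∀ (M : ModuleCat.{u} A), IsSMulRegular M x → HasProjectiveDimensionLT M (n + 1) →
      HasProjectiveDimensionLT (ModuleCat.of (A ⧸ Ideal.span {x}) (QuotSMulTop x M)) (n + 1) := by
  have hsurj : Function.Surjective (algebraMap A (A ⧸ Ideal.span {x})) :=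
    Ideal.Quotient.mk_surjective
  induction n with
  | zero =>
    intro M hM hpd
    have hproj : Projective M := projective_iff_hasProjectiveDimensionLT_one.mpr hpd
    have : Module.Projective A M := (IsProjective.iff_projective M).mpr hproj
    have : Module.Projective (A ⧸ Ideal.span {x}) (QuotSMulTop x M) :=
      Module.Projective.of_equiv
        ((QuotSMulTop.equivQuotTensor x M).extendScalarsOfSurjective hsurj).symm
    rw [zero_add, ← projective_iff_hasProjectiveDimensionLT_one, ← IsProjective.iff_projective]
    exact this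
  | succ n ih =>
    intro M hM hpd
    have hS := M.shortExact_projectiveShortComplex
    have hP2 : Projective M.projectiveShortComplex.X₂ := by
      rw [← IsProjective.iff_projective]
      infer_instance
    have hK : HasProjectiveDimensionLT M.projectiveShortComplex.X₁ (n + 1) :=
      (hS.hasProjectiveDimensionLT_X₃_iff n hP2).mp hpd
    have hFreg : IsSMulRegular M.projectiveShortComplex.X₂ x :=
      isSMulRegular_of_free x hx M.projectiveShortComplex.X₂
    have hinj : Function.Injective M.projectiveShortComplex.f.hom :=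
      (ModuleCat.mono_iff_injective _).mp hS.mono_f
    have hsurjg : Function.Surjective M.projectiveShortComplex.g.hom :=
      (ModuleCat.epi_iff_surjective _).mp hS.epi_g
    have hex : Function.Exact M.projectiveShortComplex.f.hom M.projectiveShortComplex.g.hom :=
      (ShortComplex.ShortExact.moduleCat_exact_iff_function_exact _).mp hS.exact
    have hKreg : IsSMulRegular M.projectiveShortComplex.X₁ x :=
      hFreg.of_injective M.projectiveShortComplex.f.hom hinj
    have ihK := ih M.projectiveShortComplex.X₁ hKreg hK
    let f' : QuotSMulTop x M.projectiveShortComplex.X₁ →ₗ[A ⧸ Ideal.span {x}]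
        QuotSMulTop x M.projectiveShortComplex.X₂ :=
      (QuotSMulTop.map x M.projectiveShortComplex.f.hom).extendScalarsOfSurjective hsurj
    let g' : QuotSMulTop x M.projectiveShortComplex.X₂ →ₗ[A ⧸ Ideal.span {x}]
        QuotSMulTop x M :=
      (QuotSMulTop.map x M.projectiveShortComplex.g.hom).extendScalarsOfSurjective hsurj
    have hex' : Function.Exact f' g' := QuotSMulTop.map_exact x hex hsurjg
    have hinj' : Function.Injective f' := by
      have h0 : Function.Exact (0 : PUnit.{u+1} →ₗ[A] M.projectiveShortComplex.X₁)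
          M.projectiveShortComplex.f.hom := by
        intro y
        constructor
        · intro hy
          have hy0 : y = 0 := hinj (by rw [hy, map_zero])
          exact ⟨0, by rw [hy0]; rfl⟩
        · rintro ⟨z, rfl⟩
          simp
      have := QuotSMulTop.map_first_exact_on_four_term_exact_of_isSMulRegular_last h0 hex hM
      intro a b hab
      have h1 : QuotSMulTop.map x M.projectiveShortComplex.f.hom (a - b) = 0 := by
        rw [map_sub, sub_eq_zero]
        exact hab
      obtain ⟨z, hz⟩ := (this (a - b)).mp h1
      have : a - b = 0 := by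
        rw [← hz]
        have : z = 0 := Subsingleton.elim _ _
        rw [this, map_zero]
      exact sub_eq_zero.mp this
    have hsurj' : Function.Surjective g' := QuotSMulTop.map_surjective x hsurjg
    let S' : ShortComplex (ModuleCat.{u} (A ⧸ Ideal.span {x})) :=
      ModuleCat.shortComplexOfCompEqZero f' g' hex'.linearMap_comp_eq_zero
    have hS' : S'.ShortExact := ModuleCat.shortComplex_shortExact S' hex' hinj' hsurj'
    have hproj' : Projective S'.X₂ := by
      change Projective (ModuleCat.of (A ⧸ Ideal.span {x})
        (QuotSMulTop x M.projectiveShortComplex.X₂))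
      rw [← IsProjective.iff_projective]
      infer_instance
    exact (hS'.hasProjectiveDimensionLT_X₃_iff n hproj').mpr ihK

end ChangeOfRings

end Groth.Agent.Lib.H87Serre

namespace Groth.Agent.Lib.H87Serre

variable {A : Type u} [CommRing A] [IsLocalRing A] [IsNoetherianRing A]

/-- A functional on the maximal ideal with values in the residue field taking the value `1`
at a given element outside `m²`. -/
theorem exists_functional (x : A) (hx : x ∈ maximalIdeal A) (hx2 : x ∉ maximalIdeal A ^ 2) :
    ∃ π : maximalIdeal A →ₗ[A] ResidueField A, π ⟨x, hx⟩ = 1 := by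
  set v : CotangentSpace A := (maximalIdeal A).toCotangent ⟨x, hx⟩ with hv
  have hv0 : v ≠ 0 := by
    intro h
    exact hx2 ((Ideal.toCotangent_eq_zero _ _).mp h)
  let f : ResidueField A →ₗ[ResidueField A] CotangentSpace A :=
    LinearMap.toSpanSingleton (ResidueField A) (CotangentSpace A) v
  have hf : LinearMap.ker f = ⊥ := by
    rw [LinearMap.ker_eq_bot]
    intro a b hab
    have h1 : (a - b) • v = 0 := by
      rw [sub_smul, sub_eq_zero]
      simpa [f] using hab
    rcases smul_eq_zero.mp h1 with h2 | h2
    · exact sub_eq_zero.mp h2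
    · exact absurd h2 hv0
  obtain ⟨g, hg⟩ := LinearMap.exists_leftInverse_of_injective f hf
  refine ⟨(g.restrictScalars A).comp (maximalIdeal A).toCotangent, ?_⟩
  have := LinearMap.congr_fun hg 1
  simpa [f] using this

end Groth.Agent.Lib.H87Serre

namespace Groth.Agent.Lib.H87Serre

variable {A : Type u} [CommRing A] [IsLocalRing A] [IsNoetherianRing A]

/-- For `x ∈ m \ m²`, the residue field of `A/x` (in the form of a cyclic module with
annihilator the maximal ideal) is a retract of `m/xm`. -/
theorem exists_retract_quotSMulTop (x : A) (hx : x ∈ maximalIdeal A)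
    (hx2 : x ∉ maximalIdeal A ^ 2) [IsLocalRing (A ⧸ Ideal.span {x})] :
    ∃ (K : ModuleCat.{u} (A ⧸ Ideal.span {x})) (f : (A ⧸ Ideal.span {x}) →ₗ[A ⧸ Ideal.span {x}] K),
      Function.Surjective f ∧ LinearMap.ker f = maximalIdeal (A ⧸ Ideal.span {x}) ∧
      Nonempty (Retract K
        (ModuleCat.of (A ⧸ Ideal.span {x}) (QuotSMulTop x (maximalIdeal A)))) := by
  have hsurj : Function.Surjective (algebraMap A (A ⧸ Ideal.span {x})) :=
    Ideal.Quotient.mk_surjective
  obtain ⟨π, hπ⟩ := exists_functional x hx hx2
  -- π kills x • m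
  have hπx : (x • ⊤ : Submodule A (maximalIdeal A)) ≤ LinearMap.ker π := by
    intro y hy
    rw [Submodule.mem_smul_pointwise_iff_exists] at hy
    obtain ⟨z, -, rfl⟩ := hy
    rw [LinearMap.mem_ker, map_smul]
    have : (algebraMap A (ResidueField A)) x = 0 := by
      rw [IsLocalRing.ResidueField.algebraMap_eq, IsLocalRing.residue_eq_zero_iff]
      exact hx
    rw [Algebra.smul_def, this, zero_mul]
  let π' : QuotSMulTop x (maximalIdeal A) →ₗ[A] ResidueField A :=
    Submodule.liftQ _ π hπx
  let q₀ : QuotSMulTop x (maximalIdeal A) := Submodule.Quotient.mk ⟨x, hx⟩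
  have hπq₀ : π' q₀ = 1 := hπ
  have hmq₀ : ∀ r ∈ maximalIdeal A, r • q₀ = 0 := by
    intro r hr
    change r • Submodule.Quotient.mk (⟨x, hx⟩ : maximalIdeal A) = 0
    rw [← Submodule.Quotient.mk_smul, Submodule.Quotient.mk_eq_zero,
      Submodule.mem_smul_pointwise_iff_exists]
    refine ⟨⟨r, hr⟩, trivial, ?_⟩
    apply Subtype.ext
    simp [mul_comm]
  let i₁ : ResidueField A →ₗ[A] QuotSMulTop x (maximalIdeal A) :=
    Submodule.liftQ (maximalIdeal A) (LinearMap.toSpanSingleton A _ q₀) (by
      intro r hr
      rw [LinearMap.mem_ker, LinearMap.toSpanSingleton_apply]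
      exact hmq₀ r hr)
  have hi₁ : ∀ a : A, i₁ (Ideal.Quotient.mk _ a) = a • q₀ := fun a => rfl
  have hπi : ∀ c : ResidueField A, π' (i₁ c) = c := by
    intro c
    obtain ⟨a, rfl⟩ := Ideal.Quotient.mk_surjective c
    rw [hi₁, map_smul, hπq₀, Algebra.smul_def, mul_one]
    rfl
  let e : QuotSMulTop x (maximalIdeal A) →ₗ[A ⧸ Ideal.span {x}] QuotSMulTop x (maximalIdeal A) :=
    (i₁.comp π').extendScalarsOfSurjective hsurj
  have he : ∀ z, e z = i₁ (π' z) := fun z => rfl
  have hee : ∀ z, e (e z) = e z := by
    intro z
    rw [he, he, hπi]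
  have heq₀ : e q₀ = q₀ := by
    rw [he, hπq₀]
    have : (1 : ResidueField A) = Ideal.Quotient.mk _ 1 := rfl
    rw [this, hi₁, one_smul]
  let K : Submodule (A ⧸ Ideal.span {x}) (QuotSMulTop x (maximalIdeal A)) := LinearMap.range e
  let k₀ : K := ⟨q₀, ⟨q₀, heq₀⟩⟩
  let f : (A ⧸ Ideal.span {x}) →ₗ[A ⧸ Ideal.span {x}] K :=
    LinearMap.toSpanSingleton _ K k₀
  have hq₀ne : q₀ ≠ 0 := by
    intro h
    have : π' q₀ = 0 := by rw [h, map_zero]
    rw [hπq₀] at this
    exact one_ne_zero this
  refine ⟨ModuleCat.of _ K, f, ?_, ?_, ⟨?_⟩⟩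
  · rintro ⟨y, z, rfl⟩
    obtain ⟨a, ha⟩ := Ideal.Quotient.mk_surjective (π' z)
    refine ⟨Ideal.Quotient.mk _ a, ?_⟩
    apply Subtype.ext
    change (Ideal.Quotient.mk (Ideal.span {x}) a) • q₀ = e z
    rw [he, ← ha, hi₁]
    rfl
  · apply le_antisymm
    · intro b hb
      rw [LinearMap.mem_ker] at hb
      by_contra hbm
      have hu : IsUnit b := by
        by_contra hnu
        exact hbm ((IsLocalRing.mem_maximalIdeal b).mpr hnu)
      have h1 : b • k₀ = 0 := hb
      have h2 : k₀ = 0 := (hu.smul_eq_zero).mp h1
      apply hq₀ne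
      exact congrArg Subtype.val h2
    · intro b hb
      obtain ⟨a, rfl⟩ := Ideal.Quotient.mk_surjective b
      have ha : a ∈ maximalIdeal A := by
        rw [IsLocalRing.mem_maximalIdeal] at hb ⊢
        intro hu
        exact hb (hu.map _)
      rw [LinearMap.mem_ker]
      apply Subtype.ext
      change (Ideal.Quotient.mk (Ideal.span {x}) a) • q₀ = 0
      have : (Ideal.Quotient.mk (Ideal.span {x}) a) • q₀ = a • q₀ := rfl
      rw [this]
      exact hmq₀ a ha
  · refine
      { i := ModuleCat.ofHom K.subtype
        r := ModuleCat.ofHom e.rangeRestrict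
        retract := ?_ }
    ext ⟨y, z, rfl⟩
    exact hee z

end Groth.Agent.Lib.H87Serre

namespace Groth.Agent.Lib.H87Serre

open Groth.Agent.Lib.H87GlDim

theorem isRegularLocalRing_aux (t : ℕ) : ∀ (A : Type u) [CommRing A] [IsLocalRing A]
    [IsNoetherianRing A], (maximalIdeal A).spanFinrank = t →
    ∀ (K : ModuleCat.{u} A) (f : A →ₗ[A] K), Function.Surjective f →
      LinearMap.ker f = maximalIdeal A →
      ∀ n, HasProjectiveDimensionLT K n → IsRegularLocalRing A := by
  induction t with
  | zero =>
    intro A _ _ _ ht K f hf hker n hK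
    apply IsRegularLocalRing.of_spanFinrank_maximalIdeal_le
    rw [ht]
    exact_mod_cast ringKrullDim_nonneg_of_nontrivial
  | succ t ih =>
    intro A _ _ _ ht K f hf hker n hK
    let eK : (A ⧸ maximalIdeal A) ≃ₗ[A] K :=
      (Submodule.quotEquivOfEq _ _ hker.symm).trans (f.quotKerEquivOfSurjective hf)
    have hk : HasProjectiveDimensionLT (ModuleCat.of A (ResidueField A)) (n + 1) := by
      have : HasProjectiveDimensionLT (ModuleCat.of A (ResidueField A)) n :=
        hasProjectiveDimensionLT_of_iso eK.toModuleIso.symm n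
      exact hasProjectiveDimensionLT_of_ge _ n (n + 1) (Nat.le_succ n)
    have hm : maximalIdeal A ≠ ⊥ := by
      intro h
      rw [h] at ht
      simp at ht
    have hsoc : ∀ a : A, a ≠ 0 → ∃ r ∈ maximalIdeal A, r * a ≠ 0 := by
      intro a ha
      by_contra hcon
      push Not at hcon
      exact hm (maximalIdeal_eq_bot_of_socle n hk a ha hcon)
    obtain ⟨x, hx, hx2, hxreg⟩ := exists_nonZeroDivisor_mem_notMem_sq hm hsoc
    have hxr : IsSMulRegular A x :=
      (isRegular_iff_mem_nonZeroDivisors.mpr hxreg).left.isSMulRegular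
    have hnt : Nontrivial (A ⧸ Ideal.span {x}) := by
      apply Ideal.Quotient.nontrivial_iff.mpr
      intro h
      have : (1 : A) ∈ Ideal.span {x} := by rw [h]; trivial
      have h1 : (1 : A) ∈ maximalIdeal A :=
        (Ideal.span_singleton_le_iff_mem _).mpr hx this
      exact (Ideal.ne_top_iff_one _).mp (IsLocalRing.maximalIdeal.isMaximal A).ne_top h1
    have hlocB : IsLocalRing (A ⧸ Ideal.span {x}) :=
      IsLocalRing.of_surjective' (Ideal.Quotient.mk (Ideal.span {x})) Ideal.Quotient.mk_surjective
    have htB : (maximalIdeal (A ⧸ Ideal.span {x})).spanFinrank = t := by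
      have hmap : (maximalIdeal A).map (Ideal.Quotient.mk (Ideal.span {x})) =
          maximalIdeal (A ⧸ Ideal.span {x}) :=
        IsLocalRing.map_maximalIdeal_of_surjective _ Ideal.Quotient.mk_surjective
      have h1 := Groth.Agent.Lib.RegularLocal.spanFinrank_map_mk_add_one_le hx hx2
      have h2 := Groth.Agent.Lib.RegularLocal.spanFinrank_le_map_mk_add_one (maximalIdeal A) x hx
        (Ideal.fg_of_isNoetherianRing _)
      rw [hmap] at h1 h2
      omega
    have hpdm : HasProjectiveDimensionLT (ModuleCat.of A (maximalIdeal A)) (n + 1) :=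
      hasProjectiveDimensionLT_of_residueField n hk _
    have hmreg : IsSMulRegular (maximalIdeal A) x :=
      hxr.of_injective (maximalIdeal A).subtype Subtype.val_injective
    have hpdB := hasProjectiveDimensionLT_quotSMulTop x hxr n (ModuleCat.of A (maximalIdeal A))
      hmreg hpdm
    obtain ⟨KB, fB, hfB, hkerB, ⟨r⟩⟩ := exists_retract_quotSMulTop x hx hx2
    have hKB : HasProjectiveDimensionLT KB (n + 1) := r.hasProjectiveDimensionLT (n + 1)
    have hregB : IsRegularLocalRing (A ⧸ Ideal.span {x}) :=
      ih (A ⧸ Ideal.span {x}) htB KB fB hfB hkerB (n + 1) hKB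
    exact Groth.Agent.S0560.result A x hx hxreg

/-- Serre: a Noetherian local ring whose residue field has finite projective dimension is
regular. -/
theorem isRegularLocalRing_of_hasProjectiveDimensionLT (A : Type u) [CommRing A] [IsLocalRing A]
    [IsNoetherianRing A] (n : ℕ)
    (h : HasProjectiveDimensionLT (ModuleCat.of A (ResidueField A)) n) : IsRegularLocalRing A :=
  isRegularLocalRing_aux _ A rfl (ModuleCat.of A (ResidueField A)) (Submodule.mkQ _)
    (Submodule.mkQ_surjective _) (Submodule.ker_mkQ _) n h

end Groth.Agent.Lib.H87Serre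

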