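import Mathlib
import Groth.Agent.Lib.H87SmoothDiv

/-!
# helper87: smooth effective Cartier divisors through a point, II

* `exists_mem_maximalIdeal_tmul_D_ne_zero`: for a local `R`-algebra `T` with residue field `κ`, if the
  kernel of `κ ⊗ Ω[T/R] → Ω[κ/R]` is nonzero then some `h ∈ 𝔪` has `1 ⊗ dh ≠ 0`.
-/

set_option autoImplicit false
set_option linter.style.haveILetI false
universe u
open TensorProduct KaehlerDifferential

namespace Groth.Agent.Lib.H87SmoothDiv

/-- kernel of `κ ⊗ Ω[T/R] → Ω[κ/R]` nonzero ⇒ some `h ∈ 𝔪` has `1 ⊗ dh ≠ 0`. -/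
theorem exists_mem_maximalIdeal_tmul_D_ne_zero (R T : Type u) [CommRing R] [CommRing T]
    [IsLocalRing T] [Algebra R T] [Algebra R (IsLocalRing.ResidueField T)]
    [IsScalarTower R T (IsLocalRing.ResidueField T)]
    (hker : LinearMap.ker (mapBaseChange R T (IsLocalRing.ResidueField T)) ≠ ⊥) :
    ∃ h ∈ IsLocalRing.maximalIdeal T,
      (1 : IsLocalRing.ResidueField T) ⊗ₜ[T] D R T h ≠ 0 := by
  rw [Ne, Submodule.eq_bot_iff] at hker
  push_neg at hker
  obtain ⟨z, hz, hz0⟩ := hker
  have hex := KaehlerDifferential.exact_kerCotangentToTensor_mapBaseChange R T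
    (IsLocalRing.ResidueField T) IsLocalRing.residue_surjective
  obtain ⟨c, rfl⟩ := (hex z).mp hz
  obtain ⟨y, rfl⟩ := Ideal.toCotangent_surjective _ c
  refine ⟨y.1, ?_, ?_⟩
  · have := y.2
    rw [RingHom.mem_ker] at this
    exact (IsLocalRing.residue_eq_zero_iff _).mp this
  · rwa [kerCotangentToTensor_toCotangent] at hz0

end Groth.Agent.Lib.H87SmoothDiv
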