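import Mathlib
import Groth.Agent.Lib.H87SmoothDiv2
import Groth.Agent.Lib.H87CotSmooth
import Groth.Agent.Lib.H80SmoothFiber2

/-!
# helper87: smooth effective Cartier divisors through a point, III (separable residue field)

* `exists_mem_maximalIdeal_notMem_sq`: noetherian local ring with `𝔪 ≠ 0` has an element of `𝔪 ∖ 𝔪²`.
* `exists_tmul_D_ne_zero_of_quotient`: local algebra core: `R' → T` local, `T ↠ T̄` a noetherian local
  quotient which is formally smooth over a field `k₁` (a quotient of `R'`), `κ(T)/κ(R')` formally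
  smooth, `𝔪_{T̄} ≠ 0` ⇒ some `h ∈ 𝔪_T` has `1 ⊗ dh ≠ 0` in `κ(T) ⊗ Ω[T/R']`.
* `formallySmooth_stalkMap_of_smooth_ι`: `f` smooth on `W ∋ x` ⇒ stalk map at `x` formally smooth.
* `smooth_fiber_restrict`: `f` smooth on `W` ⇒ the fibre `X_s` is smooth over `κ(s)` on the preimage
  of `W`.
* `exists_tmul_D_ne_zero_of_fiber`: scheme version of the core, at a point of a fibre.
-/

set_option autoImplicit false
set_option linter.style.haveILetI false
universe u
open TensorProduct KaehlerDifferential IsLocalRing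

namespace Groth.Agent.Lib.H87SmoothDiv

section cot

/-- a nonzero maximal ideal of a noetherian local ring contains an element outside its square -/
theorem exists_mem_maximalIdeal_notMem_sq (A : Type u) [CommRing A] [IsLocalRing A]
    [IsNoetherianRing A] (h : maximalIdeal A ≠ ⊥) :
    ∃ a ∈ maximalIdeal A, a ∉ maximalIdeal A ^ 2 := by
  by_contra hcon
  push_neg at hcon
  apply h
  have hle : maximalIdeal A ≤ maximalIdeal A • maximalIdeal A := by
    intro a ha
    have := hcon a ha
    rwa [pow_two, ← smul_eq_mul] at this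
  exact Submodule.eq_bot_of_le_smul_of_le_jacobson_bot (maximalIdeal A) (maximalIdeal A)
    (IsNoetherian.noetherian _) hle (IsLocalRing.jacobson_eq_maximalIdeal ⊥ bot_ne_top).ge

end cot

section alg

variable {R' T Tb k₁ : Type u} [CommRing R'] [CommRing T] [CommRing Tb] [Field k₁]
  [IsLocalRing R'] [IsLocalRing T] [IsLocalRing Tb] [IsNoetherianRing Tb]

theorem exists_tmul_D_ne_zero_of_quotient
    (φ : R' →+* T) [IsLocalHom φ] (π : T →+* Tb) (hπ : Function.Surjective π)
    (ρ₀ : R' →+* k₁) (hρ : Function.Surjective ρ₀) (ψ : k₁ →+* Tb)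
    (hcomm : π.comp φ = ψ.comp ρ₀) (hψ : ψ.FormallySmooth)
    (hsep : (IsLocalRing.ResidueField.map φ).FormallySmooth)
    (hgen : maximalIdeal Tb ≠ ⊥) :
    letI := φ.toAlgebra
    ∃ h ∈ maximalIdeal T, (1 : ResidueField T) ⊗ₜ[T] D R' T h ≠ 0 := by
  letI : Algebra R' T := φ.toAlgebra
  letI : Algebra T Tb := π.toAlgebra
  letI : Algebra R' k₁ := ρ₀.toAlgebra
  letI : Algebra k₁ Tb := ψ.toAlgebra
  letI : Algebra R' Tb := (π.comp φ).toAlgebra
  haveI : IsScalarTower R' T Tb := IsScalarTower.of_algebraMap_eq' rfl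
  haveI : IsScalarTower R' k₁ Tb := IsScalarTower.of_algebraMap_eq' hcomm
  haveI : Algebra.FormallySmooth k₁ Tb := hψ
  haveI : IsLocalHom π := IsLocalHom.of_surjective π hπ
  haveI : IsLocalHom ρ₀ := IsLocalHom.of_surjective ρ₀ hρ
  -- residue fields
  have hbijπ : Function.Bijective (ResidueField.map π) := by
    refine ⟨(ResidueField.map π).injective, fun z => ?_⟩
    obtain ⟨t, rfl⟩ := residue_surjective z
    obtain ⟨a, rfl⟩ := hπ t
    exact ⟨residue T a, rfl⟩
  have hbijρ : Function.Bijective (ResidueField.lift ρ₀) := by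
    refine ⟨(ResidueField.lift ρ₀).injective, fun z => ?_⟩
    obtain ⟨a, rfl⟩ := hρ z
    exact ⟨residue R' a, rfl⟩
  let eπ : ResidueField T ≃+* ResidueField Tb := RingEquiv.ofBijective _ hbijπ
  let eρ : ResidueField R' ≃+* k₁ := RingEquiv.ofBijective _ hbijρ
  have hsq : (algebraMap k₁ (ResidueField Tb)).comp eρ.toRingHom =
      eπ.toRingHom.comp (ResidueField.map φ) := by
    refine Ideal.Quotient.ringHom_ext (RingHom.ext fun r => ?_)
    change residue Tb (ψ (ρ₀ r)) = residue Tb (π (φ r))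
    have := congrArg (fun g => g r) hcomm
    simp only [RingHom.comp_apply] at this
    rw [this]
  haveI : Algebra.FormallySmooth k₁ (ResidueField Tb) := by
    rw [← RingHom.formallySmooth_algebraMap]
    have h1 : (eπ.toRingHom.comp (ResidueField.map φ)).FormallySmooth :=
      RingHom.FormallySmooth.respectsIso.1 _ eπ hsep
    rw [← hsq] at h1
    have h2 := RingHom.FormallySmooth.respectsIso.2 _ eρ.symm h1
    convert h2 using 1
    ext z
    simp
  -- injectivity of the conormal map
  obtain ⟨l, hl⟩ := (Algebra.FormallySmooth.iff_split_injection (R := k₁) (P := Tb)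
    (A := ResidueField Tb) residue_surjective).mp inferInstance
  have hinj : Function.Injective (kerCotangentToTensor k₁ Tb (ResidueField Tb)) := by
    intro a b hab
    have := congrArg l hab
    rwa [← LinearMap.comp_apply, ← LinearMap.comp_apply, hl] at this
  obtain ⟨hb, hbm, hbsq⟩ := exists_mem_maximalIdeal_notMem_sq Tb hgen
  have hker : RingHom.ker (algebraMap Tb (ResidueField Tb)) = maximalIdeal Tb :=
    IsLocalRing.ker_residue (R := Tb)
  have hbk : hb ∈ RingHom.ker (algebraMap Tb (ResidueField Tb)) := hker ▸ hbm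
  have hne : (1 : ResidueField Tb) ⊗ₜ[Tb] D k₁ Tb hb ≠ 0 := by
    intro h0
    have h1 : kerCotangentToTensor k₁ Tb (ResidueField Tb)
        (Ideal.toCotangent _ ⟨hb, hbk⟩) = 0 := by
      rw [kerCotangentToTensor_toCotangent]
      exact h0
    have h2 := hinj (h1.trans (map_zero _).symm)
    have h2' : hb ∈ (RingHom.ker (algebraMap Tb (ResidueField Tb))) ^ 2 :=
      (Ideal.toCotangent_eq_zero _ _).mp h2
    rw [hker] at h2'
    exact hbsq h2'
  obtain ⟨h, rfl⟩ := hπ hb
  refine ⟨h, ?_, ?_⟩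
  · by_contra hnm
    have hu : IsUnit h := by
      by_contra hnu
      exact hnm ((mem_maximalIdeal _).mpr hnu)
    exact (mem_maximalIdeal _).mp hbm (hu.map π)
  · intro h0
    apply hne
    have h1 : D R' T h ∈ (maximalIdeal T • ⊤ : Submodule T Ω[T⁄R']) :=
      (Groth.Agent.Lib.H87CotSmooth.one_tmul_eq_zero_iff (maximalIdeal T) _).mp h0
    have h2 : ∀ x ∈ (maximalIdeal T • ⊤ : Submodule T Ω[T⁄R']),
        KaehlerDifferential.map R' k₁ T Tb x ∈
          (maximalIdeal Tb • ⊤ : Submodule Tb Ω[Tb⁄k₁]) := by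
      intro x hx
      refine Submodule.smul_induction_on hx ?_ ?_
      · intro r hr y _
        rw [map_smul, ← algebraMap_smul Tb r]
        refine Submodule.smul_mem_smul ?_ Submodule.mem_top
        exact map_nonunit π r hr
      · intro y z hy hz
        rw [map_add]
        exact add_mem hy hz
    have h3 := h2 _ h1
    rw [map_D] at h3
    exact (Groth.Agent.Lib.H87CotSmooth.one_tmul_eq_zero_iff (maximalIdeal Tb) _).mpr h3

end alg

section scheme
open AlgebraicGeometry CategoryTheory

variable {X S : Scheme.{u}} (f : X ⟶ S)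

/-- `f` smooth on `W ∋ x` ⇒ the stalk map at `x` is formally smooth. -/
theorem formallySmooth_stalkMap_of_smooth_ι (W : X.Opens) (hW : Smooth (W.ι ≫ f)) (x : X)
    (hx : x ∈ W) : (f.stalkMap x).hom.FormallySmooth := by
  let y : W.toScheme := ⟨x, hx⟩
  have h1 : ((W.ι ≫ f).stalkMap y).hom.FormallySmooth := by
    have : y ∈ (W.ι ≫ f).smoothLocus := by
      rw [Scheme.Hom.smoothLocus_eq_top]; trivial
    exact this
  rw [Scheme.Hom.stalkMap_comp] at h1
  exact (RingHom.FormallySmooth.respectsIso.cancel_right_isIso (f.stalkMap (W.ι y))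
    (W.ι.stalkMap y)).mp h1

theorem smooth_fiber_restrict (s : S) (W : X.Opens) (hW : Smooth (W.ι ≫ f)) :
    Smooth (((f.fiberι s) ⁻¹ᵁ W).ι ≫ f.fiberToSpecResidueField s) := by
  have sq1 := isPullback_morphismRestrict (f.fiberι s) W
  have sq2 : IsPullback (f.fiberι s) (f.fiberToSpecResidueField s) f
      (S.fromSpecResidueField s) := IsPullback.of_hasPullback _ _
  exact MorphismProperty.of_isPullback (P := @Smooth) (sq1.paste_vert sq2) hW

theorem exists_tmul_D_ne_zero_of_fiber (s : S) (y : f.fiber s) (W : X.Opens)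
    (hyW : f.fiberι s y ∈ W) (hW : Smooth (W.ι ≫ f))
    (hsep : (f.residueFieldMap (f.fiberι s y)).hom.FormallySmooth)
    (hgen : maximalIdeal ((f.fiber s).presheaf.stalk y) ≠ ⊥) :
    letI := (f.stalkMap (f.fiberι s y)).hom.toAlgebra
    ∃ h ∈ maximalIdeal (X.presheaf.stalk (f.fiberι s y)),
      (1 : ResidueField (X.presheaf.stalk (f.fiberι s y))) ⊗ₜ[X.presheaf.stalk (f.fiberι s y)]
        D (S.presheaf.stalk (f (f.fiberι s y))) (X.presheaf.stalk (f.fiberι s y)) h ≠ 0 := by
  have hyFW : y ∈ (f.fiberι s) ⁻¹ᵁ W := hyW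
  have hsm := smooth_fiber_restrict f s W hW
  have hψ : ((f.fiberToSpecResidueField s).stalkMap y).hom.FormallySmooth :=
    formallySmooth_stalkMap_of_smooth_ι _ ((f.fiberι s) ⁻¹ᵁ W) hsm y hyFW
  haveI : IsNoetherianRing ((f.fiber s).presheaf.stalk y) := by
    haveI : IsLocallyNoetherian ((f.fiberι s) ⁻¹ᵁ W).toScheme :=
      LocallyOfFiniteType.isLocallyNoetherian
        (((f.fiberι s) ⁻¹ᵁ W).ι ≫ f.fiberToSpecResidueField s)
    have : IsNoetherianRing (((f.fiberι s) ⁻¹ᵁ W).toScheme.presheaf.stalk ⟨y, hyFW⟩) :=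
      inferInstance
    exact isNoetherianRing_of_ringEquiv _
      (asIso (((f.fiberι s) ⁻¹ᵁ W).ι.stalkMap ⟨y, hyFW⟩)).commRingCatIsoToRingEquiv.symm
  obtain ⟨ρ₀, hρ₀, hfac⟩ := Groth.Agent.Lib.H80SmoothFiber.exists_stalk_factorization f s y
  have hK := Groth.Agent.Lib.H80SmoothFiber.isField_stalk_Spec_of_isField (S.residueField s)
    (Field.toIsField _) (f.fiberToSpecResidueField s y)
  letI := hK.toField
  exact exists_tmul_D_ne_zero_of_quotient (f.stalkMap (f.fiberι s y)).hom
    ((f.fiberι s).stalkMap y).hom ((f.fiberι s).stalkMap_surjective y) ρ₀.hom hρ₀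
    ((f.fiberToSpecResidueField s).stalkMap y).hom
    (by rw [← CommRingCat.hom_comp, ← CommRingCat.hom_comp, hfac]) hψ hsep hgen

end scheme

end Groth.Agent.Lib.H87SmoothDiv
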