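import Mathlib.RingTheory.Smooth.Basic
import Mathlib.LinearAlgebra.SymmetricAlgebra.Basis
import Mathlib.RingTheory.FinitePresentation
import Mathlib.RingTheory.Finiteness.Cardinality
import Mathlib.Algebra.Module.Projective

/-!
# The symmetric algebra of a finite projective module is smooth (helper28)

* `formallySmooth_symmetricAlgebra`: `Sym_R(M)` is formally smooth for `M` projective;
* `ker_fg_of_retract`, `finitePresentation_of_retract`: a retract of a finitely presented algebra is finitely presented;
* `smooth_symmetricAlgebra`: `Sym_R(M)` is smooth for `M` finite projective.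
-/

set_option autoImplicit false
universe u v

namespace Groth.Agent.Lib.SymSmooth

section FormallySmooth

variable (R : Type u) (M : Type v) [CommRing R] [AddCommGroup M] [Module R M]

theorem formallySmooth_symmetricAlgebra [Module.Projective R M] :
    Algebra.FormallySmooth R (SymmetricAlgebra R M) := by
  refine Algebra.FormallySmooth.of_comp_surjective fun B _ _ I _ f => ?_
  have hsurj : Function.Surjective (Ideal.Quotient.mkₐ R I).toLinearMap :=
    Ideal.Quotient.mkₐ_surjective R I
  obtain ⟨l, hl⟩ := Module.projective_lifting_property (Ideal.Quotient.mkₐ R I).toLinearMap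
    (f.toLinearMap.comp (SymmetricAlgebra.ι R M)) hsurj
  refine ⟨SymmetricAlgebra.lift l, ?_⟩
  apply SymmetricAlgebra.algHom_ext
  apply LinearMap.ext
  intro m
  have := congr($hl m)
  simpa using this

end FormallySmooth

section Retract

variable {R : Type*} {A B : Type*} [CommRing R] [CommRing A] [CommRing B] [Algebra R A] [Algebra R B]
  (π : B →ₐ[R] A) (σ : A →ₐ[R] B) (h : π.comp σ = AlgHom.id R A)

include h in
theorem ker_fg_of_retract [Algebra.FiniteType R B] : (RingHom.ker π.toRingHom).FG := by
  classical
  obtain ⟨s, hs⟩ := (Algebra.FiniteType.out : (⊤ : Subalgebra R B).FG)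
  have hπσ : ∀ a, π (σ a) = a := fun a => congr($h a)
  let J : Ideal B := Ideal.span ((fun b => b - σ (π b)) '' (s : Set B))
  let T : Subalgebra R B :=
    { carrier := {b | b - σ (π b) ∈ J}
      mul_mem' := by
        intro a b ha hb
        have e : a * b - σ (π (a * b)) = a * (b - σ (π b)) + (a - σ (π a)) * σ (π b) := by
          rw [map_mul, map_mul]; ring
        change a * b - σ (π (a * b)) ∈ J
        rw [e]
        exact J.add_mem (J.mul_mem_left _ hb) (J.mul_mem_right _ ha)
      add_mem' := by
        intro a b ha hb
        have e : a + b - σ (π (a + b)) = (a - σ (π a)) + (b - σ (π b)) := by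
          rw [map_add, map_add]; ring
        change a + b - σ (π (a + b)) ∈ J
        rw [e]
        exact J.add_mem ha hb
      algebraMap_mem' := by
        intro r
        change algebraMap R B r - σ (π (algebraMap R B r)) ∈ J
        rw [AlgHom.commutes, AlgHom.commutes, sub_self]
        exact J.zero_mem }
  have hT : T = ⊤ := by
    rw [eq_top_iff, ← hs]
    refine Algebra.adjoin_le fun b hb => ?_
    exact Ideal.subset_span ⟨b, hb, rfl⟩
  have hker : RingHom.ker π.toRingHom = J := by
    apply le_antisymm
    · intro b hb
      have hb0 : π b = 0 := hb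
      have hbT : b ∈ T := by rw [hT]; trivial
      have : b - σ (π b) ∈ J := hbT
      rwa [hb0, map_zero, sub_zero] at this
    · rw [Ideal.span_le]
      rintro _ ⟨b, -, rfl⟩
      change π (b - σ (π b)) = 0
      rw [map_sub, hπσ, sub_self]
  rw [hker]
  exact ⟨s.image fun b => b - σ (π b), by rw [Finset.coe_image]⟩

include h in
theorem finitePresentation_of_retract [Algebra.FinitePresentation R B] :
    Algebra.FinitePresentation R A := by
  have hsurj : Function.Surjective π := fun a => ⟨σ a, congr($h a)⟩
  exact Algebra.FinitePresentation.of_surjective hsurj (ker_fg_of_retract π σ h)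

end Retract

section Smooth

variable (R : Type u) (M : Type v) [CommRing R] [AddCommGroup M] [Module R M]

theorem finitePresentation_symmetricAlgebra [Module.Finite R M] [Module.Projective R M] :
    Algebra.FinitePresentation R (SymmetricAlgebra R M) := by
  obtain ⟨n, f, hf⟩ := Module.Finite.exists_fin' R M
  obtain ⟨g, hg⟩ := Module.projective_lifting_property f LinearMap.id hf
  let F := Fin n → R
  haveI : Algebra.FinitePresentation R (SymmetricAlgebra R F) :=
    Algebra.FinitePresentation.equiv (SymmetricAlgebra.equivMvPolynomial (Pi.basisFun R (Fin n))).symm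
  let π : SymmetricAlgebra R F →ₐ[R] SymmetricAlgebra R M :=
    SymmetricAlgebra.lift ((SymmetricAlgebra.ι R M).comp f)
  let σ : SymmetricAlgebra R M →ₐ[R] SymmetricAlgebra R F :=
    SymmetricAlgebra.lift ((SymmetricAlgebra.ι R F).comp g)
  refine finitePresentation_of_retract π σ ?_
  apply SymmetricAlgebra.algHom_ext
  apply LinearMap.ext
  intro m
  have := congr($hg m)
  simp only [LinearMap.coe_comp, Function.comp_apply, LinearMap.id_coe, id_eq] at this
  simp [π, σ, this]

theorem smooth_symmetricAlgebra [Module.Finite R M] [Module.Projective R M] :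
    Algebra.Smooth R (SymmetricAlgebra R M) where
  formallySmooth := formallySmooth_symmetricAlgebra R M
  finitePresentation := finitePresentation_symmetricAlgebra R M

end Smooth

end Groth.Agent.Lib.SymSmooth
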