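import Mathlib
import Groth.Agent.Lib.SymSmooth

/-!
# Kähler differentials of symmetric algebras (helper87)

* `exists_derivation`: a linear map `M → W` extends to a derivation `Sym_B M → W`.
* `kaehlerEquiv : Ω[Sym_B M / B] ≃ Sym_B M ⊗_B M`.
* `nonempty_kaehler_equiv_prod`: `Ω[T/R] ≃ (T ⊗ Ω[S/R]) × Ω[T/S]` for `T/S` formally smooth.
* `nonempty_tensor_cotangentSpace_equiv`: for a presentation `P` of `A/R` and a formally smooth
  localization `B` of `A`: `B ⊗ CotangentSpace ≃ (B ⊗ I/I²) × Ω[B/R]`.
* `free_kaehler_symmetricAlgebra`: `Ω[Sym_B(B ⊗ I/I²)/R]` is free.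
-/

set_option autoImplicit false

open TensorProduct

namespace Groth.Agent.Lib.H87SymOmega


section Deriv

variable (B : Type*) (M : Type*) [CommRing B] [AddCommGroup M] [Module B M]
variable {W : Type*} [AddCommGroup W] [Module (SymmetricAlgebra B M) W] [Module B W]
  [IsScalarTower B (SymmetricAlgebra B M) W]

/-- the opposite module structure (local use only). -/
@[reducible] def opModule (D : Type*) [CommRing D] (N : Type*) [AddCommGroup N] [Module D N] :
    Module Dᵐᵒᵖ N :=
  Module.compHom N ((RingHom.id D).fromOpposite fun _ _ => mul_comm _ _)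

/-- auxiliary: the `B`-algebra map `Sym_B M → Sym_B M ⊕ ε W` attached to a linear map `M → W`. -/
theorem exists_derivation (φ : M →ₗ[B] W) :
    ∃ δ : Derivation B (SymmetricAlgebra B M) W, ∀ m, δ (SymmetricAlgebra.ι B M m) = φ m := by
  letI : Module (SymmetricAlgebra B M)ᵐᵒᵖ W := opModule (SymmetricAlgebra B M) W
  haveI : IsCentralScalar (SymmetricAlgebra B M) W := ⟨fun _ _ => rfl⟩
  have halg : ∀ b : B, algebraMap B (TrivSqZeroExt (SymmetricAlgebra B M) W) b =
      TrivSqZeroExt.inl (algebraMap B (SymmetricAlgebra B M) b) := fun b => rfl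
  have hsmul : ∀ (b : B) (w : W), algebraMap B (SymmetricAlgebra B M) b • w = b • w := by
    intro b w
    rw [algebraMap_smul]
  let l : M →ₗ[B] TrivSqZeroExt (SymmetricAlgebra B M) W :=
    { toFun := fun m => TrivSqZeroExt.inl (SymmetricAlgebra.ι B M m) + TrivSqZeroExt.inr (φ m)
      map_add' := fun x y => by
        rw [map_add, map_add, TrivSqZeroExt.inl_add, TrivSqZeroExt.inr_add]
        abel
      map_smul' := fun b m => by
        rw [RingHom.id_apply]
        ext
        · simp
        · simp }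
  let ψ : SymmetricAlgebra B M →ₐ[B] TrivSqZeroExt (SymmetricAlgebra B M) W :=
    SymmetricAlgebra.lift l
  have hψι : ∀ m, ψ (SymmetricAlgebra.ι B M m) =
      TrivSqZeroExt.inl (SymmetricAlgebra.ι B M m) + TrivSqZeroExt.inr (φ m) := fun m =>
    SymmetricAlgebra.lift_ι_apply l m
  have hfst : ∀ x, (ψ x).fst = x := by
    intro x
    induction x using SymmetricAlgebra.induction with
    | algebraMap b => rw [AlgHom.commutes, halg, TrivSqZeroExt.fst_inl]
    | ι m => rw [hψι]; simp
    | mul x y hx hy => rw [map_mul, TrivSqZeroExt.fst_mul, hx, hy]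
    | add x y hx hy => rw [map_add, TrivSqZeroExt.fst_add, hx, hy]
  let δ₀ : SymmetricAlgebra B M →ₗ[B] W :=
    { toFun := fun x => (ψ x).snd
      map_add' := fun x y => by rw [map_add, TrivSqZeroExt.snd_add]
      map_smul' := fun b x => by
        rw [RingHom.id_apply, map_smul, TrivSqZeroExt.snd_smul] }
  refine ⟨Derivation.mk' δ₀ ?_, ?_⟩
  · intro a b
    change (ψ (a * b)).snd = a • (ψ b).snd + b • (ψ a).snd
    rw [map_mul, TrivSqZeroExt.snd_mul, hfst, hfst]
    rfl
  · intro m
    change (ψ (SymmetricAlgebra.ι B M m)).snd = φ m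
    rw [hψι]
    simp

end Deriv

section Kaehler

variable (B : Type*) (M : Type*) [CommRing B] [AddCommGroup M] [Module B M]

/-- the derivation `Sym_B M → Sym_B M ⊗ M`, `ι m ↦ 1 ⊗ m`. -/
noncomputable def symDeriv :
    Derivation B (SymmetricAlgebra B M) ((SymmetricAlgebra B M) ⊗[B] M) :=
  Classical.choose (exists_derivation B M (TensorProduct.mk B (SymmetricAlgebra B M) M 1))

theorem symDeriv_ι (m : M) :
    symDeriv B M (SymmetricAlgebra.ι B M m) = (1 : SymmetricAlgebra B M) ⊗ₜ[B] m :=
  Classical.choose_spec (exists_derivation B M (TensorProduct.mk B (SymmetricAlgebra B M) M 1)) m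

/-- `Sym ⊗ M → Ω[Sym/B]`, `a ⊗ m ↦ a • d(ι m)`. -/
noncomputable def toKaehler :
    (SymmetricAlgebra B M) ⊗[B] M →ₗ[SymmetricAlgebra B M] Ω[SymmetricAlgebra B M⁄B] :=
  LinearMap.liftBaseChange (SymmetricAlgebra B M)
    (((KaehlerDifferential.D B (SymmetricAlgebra B M)) :
      SymmetricAlgebra B M →ₗ[B] Ω[SymmetricAlgebra B M⁄B]).comp (SymmetricAlgebra.ι B M))

theorem toKaehler_tmul (a : SymmetricAlgebra B M) (m : M) :
    toKaehler B M (a ⊗ₜ[B] m) =
      a • KaehlerDifferential.D B (SymmetricAlgebra B M) (SymmetricAlgebra.ι B M m) := by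
  simp [toKaehler]

theorem toKaehler_symDeriv (x : SymmetricAlgebra B M) :
    toKaehler B M (symDeriv B M x) = KaehlerDifferential.D B (SymmetricAlgebra B M) x := by
  induction x using SymmetricAlgebra.induction with
  | algebraMap b => rw [Derivation.map_algebraMap, Derivation.map_algebraMap, map_zero]
  | ι m => rw [symDeriv_ι, toKaehler_tmul, one_smul]
  | mul x y hx hy =>
    rw [Derivation.leibniz, Derivation.leibniz, map_add, map_smul, map_smul, hx, hy]
  | add x y hx hy => rw [map_add, map_add, map_add, hx, hy]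

/-- **Kähler differentials of a symmetric algebra**: `Ω[Sym_B M / B] ≃ Sym_B M ⊗_B M`. -/
noncomputable def kaehlerEquiv :
    Ω[SymmetricAlgebra B M⁄B] ≃ₗ[SymmetricAlgebra B M] (SymmetricAlgebra B M) ⊗[B] M :=
  LinearEquiv.ofLinear (symDeriv B M).liftKaehlerDifferential (toKaehler B M)
    (by
      apply TensorProduct.AlgebraTensorModule.ext
      intro a m
      rw [LinearMap.comp_apply, toKaehler_tmul, map_smul,
        Derivation.liftKaehlerDifferential_comp_D, symDeriv_ι, LinearMap.id_apply,
        TensorProduct.smul_tmul', smul_eq_mul, mul_one])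
    (by
      apply LinearMap.ext_on (KaehlerDifferential.span_range_derivation B (SymmetricAlgebra B M))
      rintro _ ⟨x, rfl⟩
      rw [LinearMap.comp_apply, Derivation.liftKaehlerDifferential_comp_D, toKaehler_symDeriv,
        LinearMap.id_apply])

end Kaehler



section Split

theorem nonempty_equiv_prod_of_projective {R M N P : Type*} [Ring R] [AddCommGroup M]
    [AddCommGroup N] [AddCommGroup P] [Module R M] [Module R N] [Module R P]
    {f : M →ₗ[R] N} {g : N →ₗ[R] P} (h : Function.Exact f g) (hf : Function.Injective f)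
    (hg : Function.Surjective g) [Module.Projective R P] : Nonempty (N ≃ₗ[R] M × P) := by
  obtain ⟨l, hl⟩ := Module.projective_lifting_property g LinearMap.id hg
  exact ⟨(h.splitSurjectiveEquiv hf ⟨l, hl⟩).1⟩

/-- first fundamental sequence splits for a formally smooth `T/S`. -/
theorem nonempty_kaehler_equiv_prod (R S T : Type*) [CommRing R] [CommRing S] [CommRing T]
    [Algebra R S] [Algebra R T] [Algebra S T] [IsScalarTower R S T] [Algebra.FormallySmooth S T] :
    Nonempty (Ω[T⁄R] ≃ₗ[T] (T ⊗[S] Ω[S⁄R]) × Ω[T⁄S]) := by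
  haveI : Subsingleton (Algebra.H1Cotangent S T) := Algebra.FormallySmooth.subsingleton_h1Cotangent
  refine nonempty_equiv_prod_of_projective (KaehlerDifferential.exact_mapBaseChange_map R S T) ?_
    (KaehlerDifferential.map_surjective R S T)
  rw [injective_iff_map_eq_zero]
  intro x hx
  obtain ⟨y, rfl⟩ := (Algebra.H1Cotangent.exact_δ_mapBaseChange R S T x).1 hx
  rw [Subsingleton.elim y 0, map_zero]

end Split

section Loc

open Algebra

variable {R A : Type*} [CommRing R] [CommRing A] [Algebra R A] {ι : Type*}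
  (P : Generators R A ι) (B : Type*) [CommRing B] [Algebra A B] [Algebra R B] [IsScalarTower R A B]

/-- For a presentation `P` of `A` and a formally smooth localization `B` of `A`:
`B ⊗ (CotangentSpace) ≃ (B ⊗ I/I²) × Ω[B/R]`. -/
theorem nonempty_tensor_cotangentSpace_equiv (M : Submonoid A) [IsLocalization M B]
    [Algebra.FormallySmooth R B] :
    Nonempty ((B ⊗[A] P.toExtension.CotangentSpace) ≃ₗ[B]
      (B ⊗[A] P.toExtension.Cotangent) × Ω[B⁄R]) := by
  haveI : Algebra.FormallyEtale A B := Algebra.FormallyEtale.of_isLocalization M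
  haveI : Module.Flat A B := IsLocalization.flat B M
  let e := KaehlerDifferential.tensorKaehlerEquivOfFormallyEtale R A B
  let f : B ⊗[A] P.toExtension.Cotangent →ₗ[B] B ⊗[A] P.toExtension.CotangentSpace :=
    P.toExtension.cotangentComplex.baseChange B
  let g : B ⊗[A] P.toExtension.CotangentSpace →ₗ[B] Ω[B⁄R] :=
    e.toLinearMap ∘ₗ P.toExtension.toKaehler.baseChange B
  have hex₀ : Function.Exact (P.toExtension.cotangentComplex.baseChange B)
      (P.toExtension.toKaehler.baseChange B) :=
    lTensor_exact B P.toExtension.exact_cotangentComplex_toKaehler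
      P.toExtension.toKaehler_surjective
  have hex : Function.Exact f g := by
    intro x
    rw [← hex₀ x]
    simp [g]
  have hg : Function.Surjective g :=
    e.surjective.comp (LinearMap.lTensor_surjective B P.toExtension.toKaehler_surjective)
  have hf : Function.Injective f := by
    have hex₁ : Function.Exact (P.toExtension.h1Cotangentι.baseChange B)
        (P.toExtension.cotangentComplex.baseChange B) :=
      Module.Flat.lTensor_exact B (LinearMap.exact_subtype_ker_map _)
    haveI : Subsingleton (H1Cotangent R B) := Algebra.FormallySmooth.subsingleton_h1Cotangent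
    have hsub : Subsingleton (B ⊗[A] P.toExtension.H1Cotangent) := by
      let e₁ : B ⊗[A] P.toExtension.H1Cotangent ≃ₗ[B] B ⊗[A] H1Cotangent R A :=
        TensorProduct.AlgebraTensorModule.congr (LinearEquiv.refl B B) P.equivH1Cotangent
      let e₂ : B ⊗[A] H1Cotangent R A ≃ₗ[B] H1Cotangent R B :=
        Algebra.tensorH1CotangentOfIsLocalization R B M
      exact (e₁ ≪≫ₗ e₂).toEquiv.subsingleton
    rw [injective_iff_map_eq_zero]
    intro x hx
    obtain ⟨y, rfl⟩ := (hex₁ x).mp hx
    rw [Subsingleton.elim y 0, map_zero]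
  exact nonempty_equiv_prod_of_projective hex hf hg

end Loc


section Free

open Algebra

variable {R A : Type*} [CommRing R] [CommRing A] [Algebra R A] {ι : Type*}
  (P : Generators R A ι) (B : Type*) [CommRing B] [Algebra A B] [Algebra R B] [IsScalarTower R A B]

theorem projective_tensor_cotangent (M : Submonoid A) [IsLocalization M B]
    [Algebra.FormallySmooth R B] : Module.Projective B (B ⊗[A] P.toExtension.Cotangent) := by
  obtain ⟨e⟩ := nonempty_tensor_cotangentSpace_equiv P B M
  haveI : Module.Free A P.toExtension.CotangentSpace := Module.Free.of_basis P.cotangentSpaceBasis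
  refine Module.Projective.of_split
    (e.symm.toLinearMap ∘ₗ LinearMap.inl B (B ⊗[A] P.toExtension.Cotangent) Ω[B⁄R])
    (LinearMap.fst B (B ⊗[A] P.toExtension.Cotangent) Ω[B⁄R] ∘ₗ e.toLinearMap) ?_
  ext x
  simp

/-- `Ω[Sym_B(B ⊗ I/I²)/R]` is free when `B` is a formally smooth localization of `A = P/I`. -/
theorem free_kaehler_symmetricAlgebra (M : Submonoid A) [IsLocalization M B]
    [Algebra.FormallySmooth R B] :
    Module.Free (SymmetricAlgebra B (B ⊗[A] P.toExtension.Cotangent))
      Ω[SymmetricAlgebra B (B ⊗[A] P.toExtension.Cotangent)⁄R] := by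
  obtain ⟨e⟩ := nonempty_tensor_cotangentSpace_equiv P B M
  haveI : Module.Free A P.toExtension.CotangentSpace := Module.Free.of_basis P.cotangentSpaceBasis
  haveI : Module.Projective B (B ⊗[A] P.toExtension.Cotangent) :=
    projective_tensor_cotangent P B M
  haveI : Algebra.FormallySmooth B (SymmetricAlgebra B (B ⊗[A] P.toExtension.Cotangent)) :=
    Groth.Agent.Lib.SymSmooth.formallySmooth_symmetricAlgebra B _
  obtain ⟨e₂⟩ := nonempty_kaehler_equiv_prod R B
    (SymmetricAlgebra B (B ⊗[A] P.toExtension.Cotangent))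
  let e₃ := kaehlerEquiv B (B ⊗[A] P.toExtension.Cotangent)
  let e₄ : (SymmetricAlgebra B (B ⊗[A] P.toExtension.Cotangent)) ⊗[B]
      (Ω[B⁄R] × (B ⊗[A] P.toExtension.Cotangent)) ≃ₗ[SymmetricAlgebra B (B ⊗[A] P.toExtension.Cotangent)]
      _ × _ :=
    TensorProduct.prodRight B (SymmetricAlgebra B (B ⊗[A] P.toExtension.Cotangent)) _ _ _
  let e₅ : (SymmetricAlgebra B (B ⊗[A] P.toExtension.Cotangent)) ⊗[B]
      (B ⊗[A] P.toExtension.CotangentSpace) ≃ₗ[SymmetricAlgebra B (B ⊗[A] P.toExtension.Cotangent)]
      (SymmetricAlgebra B (B ⊗[A] P.toExtension.Cotangent)) ⊗[B]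
      (Ω[B⁄R] × (B ⊗[A] P.toExtension.Cotangent)) :=
    TensorProduct.AlgebraTensorModule.congr (LinearEquiv.refl _ _)
      (e ≪≫ₗ LinearEquiv.prodComm B _ _)
  exact Module.Free.of_equiv
    (e₅ ≪≫ₗ e₄ ≪≫ₗ (LinearEquiv.prodCongr (LinearEquiv.refl _ _) e₃.symm) ≪≫ₗ e₂.symm)

end Free

end Groth.Agent.Lib.H87SymOmega
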