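import Mathlib.Algebra.Homology.ExactSequence
import Mathlib.Algebra.Homology.ShortComplex.ShortExact
import Mathlib.Algebra.Homology.ShortComplex.ExactFunctor
import Mathlib.CategoryTheory.Abelian.Basic

/-!
# Syzygy induction along exact sequences in an abelian category (helper87)

* `shortExact_kernel` : for an exact short complex `X₁ ⟶ X₂ ⟶ X₃` the sequence
  `0 ⟶ ker f ⟶ X₁ ⟶ ker g ⟶ 0` is short exact.
* `kernel_prop` : abstract dimension shifting along an exact sequence
  `T₀ ⟶ T₁ ⟶ ⋯ ⟶ T_{m+1} ⟶ 0` whose terms `T₀, …, T_m` are "acyclic" (`E`): if `P (k+1+(m+1))`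
  holds for `T_{m+1}` then `P (k+1)` holds for `ker (T₀ ⟶ T₁)`.
-/

set_option autoImplicit false
universe v u
open CategoryTheory Limits

namespace Groth.Agent.Lib.H87Syz

variable {C : Type u} [Category.{v} C] [Abelian C]

/-- For an exact short complex, `0 ⟶ ker f ⟶ X₁ ⟶ ker g ⟶ 0` is short exact. -/
theorem shortExact_kernel (T : ShortComplex C) (hT : T.Exact) :
    (ShortComplex.mk (kernel.ι T.f) (kernel.lift T.g T.f T.zero)
      (by ext; simp)).ShortExact := by
  have hepi : Epi (kernel.lift T.g T.f T.zero) := hT.epi_kernelLift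
  refine ⟨?_⟩
  let S₁ : ShortComplex C := ShortComplex.mk (kernel.ι T.f) (kernel.lift T.g T.f T.zero)
      (by ext; simp)
  let S₂ : ShortComplex C := ShortComplex.mk (kernel.ι T.f) T.f (kernel.condition T.f)
  let φ : S₁ ⟶ S₂ :=
    { τ₁ := 𝟙 _
      τ₂ := 𝟙 _
      τ₃ := kernel.ι T.g
      comm₁₂ := by simp [S₁, S₂]
      comm₂₃ := by simp [S₁, S₂] }
  have h1 : Epi φ.τ₁ := by dsimp [φ]; infer_instance
  have h2 : IsIso φ.τ₂ := by dsimp [φ]; infer_instance
  have h3 : Mono φ.τ₃ := by dsimp [φ]; infer_instance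
  exact (ShortComplex.exact_iff_of_epi_of_isIso_of_mono φ).mpr (ShortComplex.exact_kernel T.f)

open ComposableArrows in
/-- Abstract dimension shifting along an exact sequence. -/
theorem kernel_prop (E : C → Prop) (P : ℕ → C → Prop)
    (hP : ∀ (T : ShortComplex C), T.ShortExact → E T.X₂ → ∀ k, P (k + 2) T.X₃ → P (k + 1) T.X₁) :
    ∀ (m : ℕ) (T : ComposableArrows C (m + 1)), T.Exact →
      Epi (T.map' m (m + 1)) → (∀ i (hi : i ≤ m), E (T.obj' i)) →
      ∀ k, P (k + 1 + (m + 1)) (T.obj' (m + 1)) → P (k + 1) (kernel (T.map' 0 1)) := by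
  intro m
  induction m with
  | zero =>
    intro T hT hepi hE k hk
    have hS : (ShortComplex.mk (kernel.ι (T.map' 0 1)) (T.map' 0 1)
        (kernel.condition _)).ShortExact := ⟨ShortComplex.exact_kernel _⟩
    exact hP _ hS (hE 0 le_rfl) k hk
  | succ m ih =>
    intro T hT hepi hE k hk
    have hT₀ : T.δ₀.Exact := hT.δ₀
    have h1 := ih T.δ₀ hT₀ hepi (fun i hi => hE (i + 1) (by omega)) (k + 1)
      (by
        have : k + 1 + 1 + (m + 1) = k + 1 + (m + 1 + 1) := by omega
        rw [this]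
        exact hk)
    have hex : (T.sc hT.toIsComplex 0).Exact := hT.exact 0
    have hS := shortExact_kernel _ hex
    exact hP _ hS (hE 0 (by omega)) k h1

end Groth.Agent.Lib.H87Syz
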