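import Groth.Agent.Lib.TensorPurelyInsepLocal61

/-!
# Tensor products of local rings: one factor integral, one residue extension purely inseparable
(helper87; generalises helper61's `TensorPurelyInsepLocal61`, where the same factor is both
integral and has the purely inseparable residue extension)

`R → P` local with `κ(P)/κ(R)` purely inseparable, `R → I` local, and one of `P`, `I` integral
over `R`.  Then `P ⊗[R] I` is local and both inclusions are local homomorphisms.
-/

set_option autoImplicit false
universe u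

namespace Groth.Agent.Lib.H87TensorLocal

open IsLocalRing TensorProduct Groth.Agent.Lib.TensorPurelyInsepLocal61

variable (R P I : Type u) [CommRing R] [IsLocalRing R]
  [CommRing P] [IsLocalRing P] [Algebra R P] [IsLocalHom (algebraMap R P)]
  [IsPurelyInseparable (ResidueField R) (ResidueField P)]
  [CommRing I] [IsLocalRing I] [Algebra R I] [IsLocalHom (algebraMap R I)]

/-- Every element of `P ⊗[R] I` has a `q^n`-th power congruent to some `1 ⊗ c` modulo `J`
(no integrality needed; proof as in helper61's `exists_pow_sub_mem`). -/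
theorem exists_pow_sub_mem' (q : ℕ) [hq : ExpChar (ResidueField I) q] (x : P ⊗[R] I) :
    ∃ (n : ℕ) (c : I), x ^ q ^ n - (1 : P) ⊗ₜ[R] c ∈ J R P I := by
  by_cases hJ : J R P I = ⊤
  · exact ⟨0, 0, by rw [hJ]; trivial⟩
  have hnt : Nontrivial ((P ⊗[R] I) ⧸ J R P I) := Ideal.Quotient.nontrivial_iff.mpr hJ
  let π : P ⊗[R] I →+* (P ⊗[R] I) ⧸ J R P I := Ideal.Quotient.mk _
  let ψ : ResidueField I →+* (P ⊗[R] I) ⧸ J R P I :=
    Ideal.Quotient.lift (maximalIdeal I)
      (π.comp (Algebra.TensorProduct.includeRight : I →ₐ[R] P ⊗[R] I).toRingHom)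
      (fun b hb => by
        change π ((1 : P) ⊗ₜ[R] b) = 0
        exact Ideal.Quotient.eq_zero_iff_mem.mpr (tmul_mem_J_right R P I 1 hb))
  have hF : ExpChar ((P ⊗[R] I) ⧸ J R P I) q := expChar_of_injective_ringHom ψ.injective q
  have hRq : ExpChar (ResidueField R) q :=
    (algebraMap (ResidueField R) (ResidueField I)).expChar
      (algebraMap (ResidueField R) (ResidueField I)).injective q
  suffices h : ∃ (n : ℕ) (b : I), π x ^ q ^ n = π ((1 : P) ⊗ₜ[R] b) by
    obtain ⟨n, b, h⟩ := h
    refine ⟨n, b, ?_⟩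
    rw [← Ideal.Quotient.eq, map_pow]
    exact h
  have hone : ∀ (b : I) (m : ℕ), π ((1 : P) ⊗ₜ[R] b) ^ m = π ((1 : P) ⊗ₜ[R] (b ^ m)) := by
    intro b m
    rw [← map_pow, Algebra.TensorProduct.tmul_pow, one_pow]
  induction x using TensorProduct.induction_on with
  | zero =>
    refine ⟨0, 0, ?_⟩
    simp
  | tmul a b =>
    obtain ⟨n, y, hy⟩ := IsPurelyInseparable.pow_mem (ResidueField R) q (residue P a)
    obtain ⟨r, rfl⟩ := residue_surjective y
    have hmem : a ^ q ^ n - algebraMap R P r ∈ maximalIdeal P := by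
      rw [← Ideal.Quotient.eq]
      change residue P (a ^ q ^ n) = residue P (algebraMap R P r)
      rw [map_pow]
      exact hy.symm
    refine ⟨n, r • b ^ q ^ n, ?_⟩
    rw [← map_pow, Algebra.TensorProduct.tmul_pow, Ideal.Quotient.eq]
    have e : (a ^ q ^ n) ⊗ₜ[R] (b ^ q ^ n) - (1 : P) ⊗ₜ[R] (r • b ^ q ^ n)
        = (a ^ q ^ n - algebraMap R P r) ⊗ₜ[R] (b ^ q ^ n) := by
      rw [TensorProduct.sub_tmul, Algebra.algebraMap_eq_smul_one, TensorProduct.smul_tmul]
    rw [e]
    exact tmul_mem_J_left R P I hmem _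
  | add x y hx hy =>
    obtain ⟨n₁, b₁, h₁⟩ := hx
    obtain ⟨n₂, b₂, h₂⟩ := hy
    refine ⟨n₁ + n₂, b₁ ^ q ^ n₂ + b₂ ^ q ^ n₁, ?_⟩
    rw [map_add, add_pow_expChar_pow, TensorProduct.tmul_add, map_add]
    congr 1
    · rw [pow_add, pow_mul, h₁, hone]
    · rw [add_comm n₁ n₂, pow_add, pow_mul, h₂, hone]

/-- `P ⊗[R] I` is nontrivial (no integrality needed). -/
theorem nontrivial_tensor' : Nontrivial (P ⊗[R] I) := by
  let T := AlgebraicClosure (ResidueField I)
  have halg : Algebra.IsAlgebraic (ResidueField R) (ResidueField P) :=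
    (inferInstance : IsPurelyInseparable (ResidueField R) (ResidueField P)).isAlgebraic
  let σ : ResidueField P →ₐ[ResidueField R] T := IsAlgClosed.lift
  let _ : Algebra R T :=
    (((algebraMap (ResidueField I) T).comp (residue I)).comp (algebraMap R I)).toAlgebra
  let g : I →ₐ[R] T :=
    { (algebraMap (ResidueField I) T).comp (residue I) with commutes' := fun _ => rfl }
  let f : P →ₐ[R] T :=
    { (σ : ResidueField P →+* T).comp (residue P) with
      commutes' := fun r => by
        change σ (residue P (algebraMap R P r)) = _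
        have e1 : residue P (algebraMap R P r)
            = algebraMap (ResidueField R) (ResidueField P) (residue R r) := rfl
        rw [e1, σ.commutes]
        rfl }
  let Φ : P ⊗[R] I →ₐ[R] T := Algebra.TensorProduct.lift f g (fun _ _ => Commute.all _ _)
  exact Φ.toRingHom.domain_nontrivial

/-- The hypothesis that maximal ideals contract to the maximal ideals of both factors. -/
def ContractsToMax : Prop :=
  ∀ (M : Ideal (P ⊗[R] I)) [M.IsMaximal],
    M.comap (Algebra.TensorProduct.includeLeft : P →ₐ[R] P ⊗[R] I).toRingHom = maximalIdeal P ∧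
    M.comap (Algebra.TensorProduct.includeRight : I →ₐ[R] P ⊗[R] I).toRingHom = maximalIdeal I

omit [IsPurelyInseparable (ResidueField R) (ResidueField P)] in
theorem comap_comap_eq (M : Ideal (P ⊗[R] I)) :
    (M.comap (Algebra.TensorProduct.includeLeft : P →ₐ[R] P ⊗[R] I).toRingHom).comap
        (algebraMap R P) =
      (M.comap (Algebra.TensorProduct.includeRight : I →ₐ[R] P ⊗[R] I).toRingHom).comap
        (algebraMap R I) := by
  ext r
  simp only [Ideal.mem_comap, AlgHom.toRingHom_eq_coe, RingHom.coe_coe,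
    Algebra.TensorProduct.includeLeft_apply, Algebra.TensorProduct.includeRight_apply]
  rw [Algebra.algebraMap_eq_smul_one, Algebra.algebraMap_eq_smul_one (A := I),
    TensorProduct.smul_tmul]

omit [IsPurelyInseparable (ResidueField R) (ResidueField P)] in
/-- If `I` is integral over `R`, maximal ideals contract to the maximal ideals. -/
theorem contractsToMax_of_isIntegral_right [Algebra.IsIntegral R I] : ContractsToMax R P I := by
  intro M hM
  have hint : Algebra.IsIntegral P (P ⊗[R] I) := inferInstance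
  have hmax : (M.comap (algebraMap P (P ⊗[R] I))).IsMaximal :=
    Ideal.isMaximal_comap_of_isIntegral_of_isMaximal M
  have h1 : M.comap (Algebra.TensorProduct.includeLeft : P →ₐ[R] P ⊗[R] I).toRingHom
      = maximalIdeal P := IsLocalRing.eq_maximalIdeal hmax
  refine ⟨h1, ?_⟩
  set N := M.comap (Algebra.TensorProduct.includeRight : I →ₐ[R] P ⊗[R] I).toRingHom with hN
  have hprime : N.IsPrime := Ideal.comap_isPrime _ M
  have h2 : N.comap (algebraMap R I) = maximalIdeal R := by
    rw [hN, ← comap_comap_eq, h1, IsLocalRing.maximalIdeal_comap]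
  have hmaxN : N.IsMaximal :=
    Ideal.isMaximal_of_isIntegral_of_isMaximal_comap N (h2 ▸ maximalIdeal.isMaximal R)
  exact IsLocalRing.eq_maximalIdeal hmaxN

omit [IsPurelyInseparable (ResidueField R) (ResidueField P)] in
/-- If `P` is integral over `R`, maximal ideals contract to the maximal ideals. -/
theorem contractsToMax_of_isIntegral_left [Algebra.IsIntegral R P] : ContractsToMax R P I := by
  intro M hM
  let _ : Algebra I (P ⊗[R] I) := Algebra.TensorProduct.rightAlgebra
  have hint : Algebra.IsIntegral I (P ⊗[R] I) := isIntegral_right R P I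
  have hmax : (M.comap (algebraMap I (P ⊗[R] I))).IsMaximal :=
    Ideal.isMaximal_comap_of_isIntegral_of_isMaximal M
  have h1 : M.comap (Algebra.TensorProduct.includeRight : I →ₐ[R] P ⊗[R] I).toRingHom
      = maximalIdeal I := IsLocalRing.eq_maximalIdeal hmax
  refine ⟨?_, h1⟩
  set N := M.comap (Algebra.TensorProduct.includeLeft : P →ₐ[R] P ⊗[R] I).toRingHom with hN
  have hprime : N.IsPrime := Ideal.comap_isPrime _ M
  have h2 : N.comap (algebraMap R P) = maximalIdeal R := by
    rw [hN, comap_comap_eq, h1, IsLocalRing.maximalIdeal_comap]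
  have hmaxN : N.IsMaximal :=
    Ideal.isMaximal_of_isIntegral_of_isMaximal_comap N (h2 ▸ maximalIdeal.isMaximal R)
  exact IsLocalRing.eq_maximalIdeal hmaxN

variable {R P I}

/-- `P ⊗[R] I` is local, and both inclusions are local homomorphisms. -/
theorem isLocalRing_tensor' (hc : ContractsToMax R P I) :
    IsLocalRing (P ⊗[R] I) ∧
      IsLocalHom (Algebra.TensorProduct.includeLeft : P →ₐ[R] P ⊗[R] I).toRingHom ∧
      IsLocalHom (Algebra.TensorProduct.includeRight : I →ₐ[R] P ⊗[R] I).toRingHom := by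
  have hnt := nontrivial_tensor' R P I
  have hJle : ∀ (M : Ideal (P ⊗[R] I)) [M.IsMaximal], J R P I ≤ M := by
    intro M hM
    refine sup_le ?_ ?_
    · rw [Ideal.map_le_iff_le_comap]
      exact (hc M).1.ge
    · rw [Ideal.map_le_iff_le_comap]
      exact (hc M).2.ge
  have hmem : ∀ (M : Ideal (P ⊗[R] I)) [M.IsMaximal] (x : P ⊗[R] I) (n : ℕ) (c : I),
      x ^ (ringExpChar (ResidueField I)) ^ n - (1 : P) ⊗ₜ[R] c ∈ J R P I →
      (x ∈ M ↔ c ∈ maximalIdeal I) := by
    intro M hM x n c h
    have hJ := hJle M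
    have h1 : x ∈ M ↔ x ^ (ringExpChar (ResidueField I)) ^ n ∈ M :=
      ⟨fun hx => Ideal.pow_mem_of_mem _ hx _
        (expChar_pow_pos (ResidueField I) (ringExpChar (ResidueField I)) n),
        fun hx => hM.isPrime.mem_of_pow_mem _ hx⟩
    have h2 : x ^ (ringExpChar (ResidueField I)) ^ n ∈ M ↔ (1 : P) ⊗ₜ[R] c ∈ M := by
      constructor
      · intro hx
        have := M.sub_mem hx (hJ h)
        simpa using this
      · intro hx
        have := M.add_mem (hJ h) hx
        simpa using this
    rw [h1, h2, ← (hc M).2]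
    rfl
  have hloc : IsLocalRing (P ⊗[R] I) := by
    obtain ⟨M, hM⟩ := Ideal.exists_maximal (P ⊗[R] I)
    refine IsLocalRing.of_unique_max_ideal ⟨M, hM, fun M' hM' => ?_⟩
    ext x
    obtain ⟨n, c, h⟩ := exists_pow_sub_mem' R P I (ringExpChar (ResidueField I)) x
    rw [hmem M x n c h, hmem M' x n c h]
  refine ⟨hloc, ⟨fun p hp => ?_⟩, ⟨fun c hc' => ?_⟩⟩
  · by_contra hnu
    have hpm : p ∈ maximalIdeal P := (mem_maximalIdeal p).mpr hnu
    have hM := maximalIdeal.isMaximal (P ⊗[R] I)
    rw [← (hc (maximalIdeal (P ⊗[R] I))).1] at hpm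
    exact (mem_maximalIdeal _).mp hpm hp
  · by_contra hnu
    have hcm : c ∈ maximalIdeal I := (mem_maximalIdeal c).mpr hnu
    have hM := maximalIdeal.isMaximal (P ⊗[R] I)
    rw [← (hc (maximalIdeal (P ⊗[R] I))).2] at hcm
    exact (mem_maximalIdeal _).mp hcm hc'

end Groth.Agent.Lib.H87TensorLocal
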