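import Groth.Agent.Lib.H87Vasc
import Groth.Agent.Lib.H87Serre

/-!
# Vasconcelos' theorem, local form (helper87)

Over a Noetherian local ring `R`, for an ideal `I` of finite projective dimension:
* `exists_nonZeroDivisor_sub_mem_sq` : an element `v ∈ I`, `v ∉ 𝔪 v + I²`, is congruent modulo `I²` to a
  nonzerodivisor of `I`.
* `piMap`, `ker_algebraMap_quot`, `exists_psi'`, `hasProjectiveDimensionLT_map_quot` : passage to
  `R/(x0)`, `I/(x0)`; `I/(x0)` is a retract of `I/x0 I`, so finite projective dimension is preserved.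
* `exists_weaklyRegular_aux` : inductive form of the theorem.
* `exists_isRegular_span_eq` : a free rank `r` direct summand of `I/I²` is generated by the classes of
  a regular sequence of length `r` contained in `I`.
-/

set_option autoImplicit false
universe u
open CategoryTheory Abelian IsLocalRing Pointwise RingTheory.Sequence

namespace Groth.Agent.Lib.H87Vasc

section Descend

variable {R : Type*} [CommRing R] {M N P : Type*} [AddCommGroup M] [Module R M]
  [AddCommGroup N] [Module R N] [AddCommGroup P] [Module R P]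

/-- Descend a linear map along a surjective linear map. -/
noncomputable def descend (π : M →ₗ[R] N) (hπ : Function.Surjective π) (f : M →ₗ[R] P)
    (h : LinearMap.ker π ≤ LinearMap.ker f) : N →ₗ[R] P :=
  (Submodule.liftQ _ f h) ∘ₗ (π.quotKerEquivOfSurjective hπ).symm.toLinearMap

@[simp]
theorem descend_apply (π : M →ₗ[R] N) (hπ : Function.Surjective π) (f : M →ₗ[R] P)
    (h : LinearMap.ker π ≤ LinearMap.ker f) (a : M) : descend π hπ f h (π a) = f a := by
  unfold descend
  rw [LinearMap.comp_apply, LinearEquiv.coe_coe, LinearMap.quotKerEquivOfSurjective_symm_apply,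
    Submodule.liftQ_apply]

end Descend

variable {R : Type u} [CommRing R] [IsLocalRing R] [IsNoetherianRing R]

/-- In an ideal of finite projective dimension, an element `v ∉ 𝔪 v + I²` can be modified by an
element of `I²` to a nonzerodivisor. -/
theorem exists_nonZeroDivisor_sub_mem_sq (I : Ideal R) (n : ℕ)
    (hpd : HasProjectiveDimensionLT (ModuleCat.of R I) n) (v : R) (hvI : v ∈ I)
    (hv : ∀ a ∈ maximalIdeal R, ∀ b ∈ I ^ 2, v ≠ a * v + b) :
    ∃ x ∈ I, x ∈ nonZeroDivisors R ∧ x - v ∈ I ^ 2 := by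
  have hne : I ≠ ⊥ := by
    rintro rfl
    have : v = 0 := by simpa using hvI
    exact hv 0 (Ideal.zero_mem _) 0 (Ideal.zero_mem _) (by simp [this])
  obtain ⟨y, hyI, hy⟩ := (eq_bot_or_exists_nonZeroDivisor I n hpd).resolve_left hne
  let J : Ideal R := Ideal.span {v} ⊔ I ^ 2
  let J' : Ideal R := maximalIdeal R • Ideal.span {v} ⊔ I ^ 2
  have hJI : J ≤ I := sup_le ((Ideal.span_singleton_le_iff_mem _).mpr hvI) (Ideal.pow_le_self two_ne_zero)
  have hfin : (insert J' (associatedPrimes R R)).Finite :=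
    (associatedPrimes.finite R R).insert _
  have hnot : ¬ ((J : Set R) ⊆ ⋃ K ∈ insert J' (associatedPrimes R R), (K : Set R)) := by
    intro hsub
    obtain ⟨K, hK, hle⟩ := (Ideal.subset_union_prime_finite hfin (f := id) J' J'
      (fun K hK h1 _ => by
        rcases hK with rfl | hK
        · exact absurd rfl h1
        · exact hK.isPrime)).mp hsub
    rcases hK with rfl | hK
    · have hvJ : v ∈ J := Ideal.mem_sup_left (Ideal.mem_span_singleton_self v)
      have hvJ' : v ∈ J' := hle hvJ
      obtain ⟨c, hc, b, hb, hcb⟩ := Submodule.mem_sup.mp hvJ'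
      rw [smul_eq_mul, Ideal.mul_comm, Ideal.mem_span_singleton_mul] at hc
      obtain ⟨a, ha, rfl⟩ := hc
      exact hv a ha b hb (by rw [mul_comm a v]; exact hcb.symm)
    · have hyy : y * y ∈ J := Ideal.mem_sup_right (by rw [pow_two]; exact Ideal.mul_mem_mul hyI hyI)
      have hyK : y * y ∈ K := hle hyy
      have hK' : K.IsPrime := hK.isPrime
      have hyK' : y ∈ K := by
        rcases hK'.mem_or_mem hyK with h | h <;> exact h
      have : y ∈ ⋃ p ∈ associatedPrimes R R, (p : Set R) := Set.mem_biUnion hK hyK'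
      rw [biUnion_associatedPrimes_eq_compl_nonZeroDivisors] at this
      exact this hy
  rw [Set.not_subset] at hnot
  obtain ⟨x, hxJ, hxU⟩ := hnot
  obtain ⟨c, hc, b, hb, rfl⟩ := Submodule.mem_sup.mp hxJ
  obtain ⟨a, rfl⟩ := Ideal.mem_span_singleton'.mp hc
  have ham : a ∉ maximalIdeal R := by
    intro ham
    apply hxU
    refine Set.mem_biUnion (Set.mem_insert _ _) ?_
    refine Ideal.mem_sup_left ?_ |> fun h => Submodule.add_mem _ h (Ideal.mem_sup_right hb)
    rw [smul_eq_mul]
    exact Ideal.mul_mem_mul ham (Ideal.mem_span_singleton_self v)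
  have hau : IsUnit a := by
    by_contra h
    exact ham ((IsLocalRing.mem_maximalIdeal a).mpr h)
  obtain ⟨u, rfl⟩ := hau
  have hnzd : (u : R) * v + b ∈ nonZeroDivisors R := by
    by_contra hzd
    have : (u : R) * v + b ∈ ⋃ p ∈ associatedPrimes R R, (p : Set R) := by
      rw [biUnion_associatedPrimes_eq_compl_nonZeroDivisors]
      exact hzd
    obtain ⟨p, hp, hbp⟩ := Set.mem_iUnion₂.mp this
    exact hxU (Set.mem_biUnion (Set.mem_insert_of_mem _ hp) hbp)
  refine ⟨v + (↑u⁻¹ : R) * b, I.add_mem hvI (I.mul_mem_left _ (Ideal.pow_le_self two_ne_zero hb)),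
    ?_, ?_⟩
  · have h1 : v + (↑u⁻¹ : R) * b = (↑u⁻¹ : R) * ((u : R) * v + b) := by
      rw [mul_add, ← mul_assoc, Units.inv_mul, one_mul]
    rw [h1]
    exact mul_mem (IsUnit.mem_nonZeroDivisors (Units.isUnit _)) hnzd
  · rw [add_sub_cancel_left]
    exact Ideal.mul_mem_left _ _ hb

end Groth.Agent.Lib.H87Vasc

namespace Groth.Agent.Lib.H87Vasc

section Quot

variable {R : Type u} [CommRing R] (I : Ideal R) (x0 : R) (hx0I : x0 ∈ I)

/-- The projection `I → I/(x0)` (image of `I` in `R/(x0)`). -/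
def piMap : I →ₗ[R] (I.map (Ideal.Quotient.mk (Ideal.span {x0}))) where
  toFun a := ⟨Ideal.Quotient.mk _ a.1, Ideal.mem_map_of_mem _ a.2⟩
  map_add' a b := by
    apply Subtype.ext
    simp
  map_smul' c a := by
    apply Subtype.ext
    simp [Algebra.smul_def]

theorem piMap_surjective : Function.Surjective (piMap I x0) := by
  rintro ⟨y, hy⟩
  obtain ⟨a, ha, rfl⟩ := (Ideal.mem_map_iff_of_surjective _ Ideal.Quotient.mk_surjective).mp hy
  exact ⟨⟨a, ha⟩, rfl⟩

include hx0I in
theorem mem_ker_piMap (a : I) : a ∈ LinearMap.ker (piMap I x0) ↔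
    ∃ c : R, a = c • (⟨x0, hx0I⟩ : I) := by
  rw [LinearMap.mem_ker]
  constructor
  · intro h
    have h1 : Ideal.Quotient.mk (Ideal.span {x0}) a.1 = 0 := congrArg Subtype.val h
    rw [Ideal.Quotient.eq_zero_iff_mem, Ideal.mem_span_singleton'] at h1
    obtain ⟨c, hc⟩ := h1
    exact ⟨c, Subtype.ext (by simp [hc])⟩
  · rintro ⟨c, rfl⟩
    apply Subtype.ext
    change Ideal.Quotient.mk (Ideal.span {x0}) (c • x0) = 0
    rw [Ideal.Quotient.eq_zero_iff_mem, smul_eq_mul]
    exact Ideal.mul_mem_left _ _ (Ideal.mem_span_singleton_self x0)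

end Quot

end Groth.Agent.Lib.H87Vasc

namespace Groth.Agent.Lib.H87Vasc

section Quot

variable {R : Type u} [CommRing R] (I : Ideal R) (x0 : R) (hx0I : x0 ∈ I)
variable (A : Type u) [CommRing A] [Algebra R A] [Algebra (R ⧸ Ideal.span {x0}) A]
  [IsScalarTower R (R ⧸ Ideal.span {x0}) A]

include hx0I in
theorem ker_algebraMap_quot (hI : RingHom.ker (algebraMap R A) = I) :
    RingHom.ker (algebraMap (R ⧸ Ideal.span {x0}) A) =
      I.map (Ideal.Quotient.mk (Ideal.span {x0})) := by
  have hle : Ideal.span {x0} ≤ I := (Ideal.span_singleton_le_iff_mem _).mpr hx0I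
  ext y
  obtain ⟨a, rfl⟩ := Ideal.Quotient.mk_surjective y
  rw [RingHom.mem_ker, Ideal.mem_quotient_iff_mem hle, ← hI, RingHom.mem_ker,
    IsScalarTower.algebraMap_apply R (R ⧸ Ideal.span {x0}) A]
  rfl

theorem surjective_algebraMap_quot (hA : Function.Surjective (algebraMap R A)) :
    Function.Surjective (algebraMap (R ⧸ Ideal.span {x0}) A) := by
  intro y
  obtain ⟨a, rfl⟩ := hA y
  exact ⟨Ideal.Quotient.mk _ a, (IsScalarTower.algebraMap_apply R (R ⧸ Ideal.span {x0}) A a).symm⟩

include hx0I in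
theorem exists_psi' {r : ℕ} (ψ : I →ₗ[R] (Fin (r + 1) → A))
    (hψ0 : ψ ⟨x0, hx0I⟩ = Pi.single 0 1) :
    ∃ ψ' : (I.map (Ideal.Quotient.mk (Ideal.span {x0}))) →ₗ[R ⧸ Ideal.span {x0}] (Fin r → A),
      ∀ a : I, ψ' (piMap I x0 a) = fun j => ψ a j.succ := by
  let ψs : I →ₗ[R] (Fin r → A) := (LinearMap.funLeft R A Fin.succ) ∘ₗ ψ
  have hker : LinearMap.ker (piMap I x0) ≤ LinearMap.ker ψs := by
    intro a ha
    obtain ⟨c, rfl⟩ := (mem_ker_piMap I x0 hx0I a).mp ha
    rw [LinearMap.mem_ker, map_smul]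
    have : ψs ⟨x0, hx0I⟩ = 0 := by
      funext j
      change ψ ⟨x0, hx0I⟩ j.succ = 0
      rw [hψ0]
      simp [Fin.succ_ne_zero]
    rw [this, smul_zero]
  let ψR := descend (piMap I x0) (piMap_surjective I x0) ψs hker
  refine ⟨ψR.extendScalarsOfSurjective Ideal.Quotient.mk_surjective, ?_⟩
  intro a
  rw [LinearMap.extendScalarsOfSurjective_apply, descend_apply]
  rfl

end Quot

end Groth.Agent.Lib.H87Vasc

namespace Groth.Agent.Lib.H87Vasc

section Quot

variable {R : Type u} [CommRing R] (I : Ideal R) (x0 : R) (hx0I : x0 ∈ I)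
variable (A : Type u) [CommRing A] [Algebra R A]

include hx0I in
/-- If `x0 ∈ I` is regular and `φ : I → R/I` is a functional with `φ x0 = 1`, then `I/(x0)` is a
retract of `I/x0 I`; hence finite projective dimension passes from `I` to `I/(x0)` over
`R/(x0)`. -/
theorem hasProjectiveDimensionLT_map_quot (hx0 : IsSMulRegular R x0)
    (hA : Function.Surjective (algebraMap R A)) (hI : RingHom.ker (algebraMap R A) = I)
    (φ : I →ₗ[R] A) (hφ : φ ⟨x0, hx0I⟩ = 1) (n : ℕ)
    (hpd : HasProjectiveDimensionLT (ModuleCat.of R I) (n + 1)) :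
    HasProjectiveDimensionLT (ModuleCat.of (R ⧸ Ideal.span {x0})
      (I.map (Ideal.Quotient.mk (Ideal.span {x0})))) (n + 1) := by
  have hsurj : Function.Surjective (algebraMap R (R ⧸ Ideal.span {x0})) :=
    Ideal.Quotient.mk_surjective
  have hIreg : IsSMulRegular (ModuleCat.of R I) x0 :=
    hx0.of_injective I.subtype Subtype.val_injective
  have hQ := H87Serre.hasProjectiveDimensionLT_quotSMulTop x0 hx0 n (ModuleCat.of R I) hIreg hpd
  let q0 : QuotSMulTop x0 I := Submodule.Quotient.mk ⟨x0, hx0I⟩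
  have hIq0 : ∀ c ∈ I, c • q0 = 0 := by
    intro c hc
    change c • Submodule.Quotient.mk (⟨x0, hx0I⟩ : I) = 0
    rw [← Submodule.Quotient.mk_smul, Submodule.Quotient.mk_eq_zero,
      Submodule.mem_smul_pointwise_iff_exists]
    refine ⟨⟨c, hc⟩, trivial, ?_⟩
    apply Subtype.ext
    simp [mul_comm]
  let j : A →ₗ[R] QuotSMulTop x0 I :=
    descend (Algebra.linearMap R A) hA (LinearMap.toSpanSingleton R _ q0) (by
      intro c hc
      rw [LinearMap.mem_ker, Algebra.linearMap_apply] at hc
      rw [LinearMap.mem_ker, LinearMap.toSpanSingleton_apply]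
      apply hIq0
      rw [← hI]
      exact hc)
  have hj : ∀ c : R, j (algebraMap R A c) = c • q0 := by
    intro c
    have := descend_apply (Algebra.linearMap R A) hA (LinearMap.toSpanSingleton R _ q0) (by
      intro c hc
      rw [LinearMap.mem_ker, Algebra.linearMap_apply] at hc
      rw [LinearMap.mem_ker, LinearMap.toSpanSingleton_apply]
      apply hIq0
      rw [← hI]
      exact hc) c
    simpa using this
  let σ : I →ₗ[R] QuotSMulTop x0 I := Submodule.mkQ _ - j ∘ₗ φ
  have hσker : LinearMap.ker (piMap I x0) ≤ LinearMap.ker σ := by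
    intro a ha
    obtain ⟨c, rfl⟩ := (mem_ker_piMap I x0 hx0I a).mp ha
    rw [LinearMap.mem_ker, map_smul]
    have : σ ⟨x0, hx0I⟩ = 0 := by
      change Submodule.Quotient.mk (⟨x0, hx0I⟩ : I) - j (φ ⟨x0, hx0I⟩) = 0
      rw [hφ, ← map_one (algebraMap R A), hj, one_smul, sub_self]
    rw [this, smul_zero]
  let sR := descend (piMap I x0) (piMap_surjective I x0) σ hσker
  let tR : QuotSMulTop x0 I →ₗ[R] (I.map (Ideal.Quotient.mk (Ideal.span {x0}))) :=
    Submodule.liftQ _ (piMap I x0) (by
      intro a ha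
      rw [Submodule.mem_smul_pointwise_iff_exists] at ha
      obtain ⟨b, -, rfl⟩ := ha
      rw [mem_ker_piMap I x0 hx0I]
      refine ⟨b.1, ?_⟩
      apply Subtype.ext
      simp [mul_comm])
  have htq0 : tR q0 = 0 := by
    change piMap I x0 ⟨x0, hx0I⟩ = 0
    rw [← LinearMap.mem_ker, mem_ker_piMap I x0 hx0I]
    exact ⟨1, by simp⟩
  have hts : ∀ y, tR (sR y) = y := by
    intro y
    obtain ⟨a, rfl⟩ := piMap_surjective I x0 y
    rw [descend_apply]
    change tR (Submodule.Quotient.mk a - j (φ a)) = _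
    obtain ⟨c, hc⟩ := hA (φ a)
    rw [map_sub, ← hc, hj, map_smul, htq0, smul_zero, sub_zero]
    rfl
  let s := sR.extendScalarsOfSurjective hsurj
  let t := tR.extendScalarsOfSurjective hsurj
  have retr : Retract (ModuleCat.of (R ⧸ Ideal.span {x0})
      (I.map (Ideal.Quotient.mk (Ideal.span {x0}))))
      (ModuleCat.of (R ⧸ Ideal.span {x0}) (QuotSMulTop x0 I)) :=
    { i := ModuleCat.ofHom s
      r := ModuleCat.ofHom t
      retract := by
        apply ModuleCat.hom_ext
        apply LinearMap.ext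
        intro y
        exact hts y }
  exact retr.hasProjectiveDimensionLT (n + 1)

end Quot

end Groth.Agent.Lib.H87Vasc

namespace Groth.Agent.Lib.H87Vasc

/-- Vasconcelos, inductive form: a split surjection `ψ : I → (R/I)^r` from an ideal of finite
projective dimension, with `ψ (v i) = e_i`, can be realized by a regular sequence `x` with
`x i ≡ v i` modulo `I²`. -/
theorem exists_weaklyRegular_aux (r : ℕ) :
    ∀ (R : Type u) [CommRing R] [IsLocalRing R] [IsNoetherianRing R] (I : Ideal R)
      (A : Type u) [CommRing A] [Nontrivial A] [Algebra R A]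
      (_ : Function.Surjective (algebraMap R A)) (_ : RingHom.ker (algebraMap R A) = I)
      (n : ℕ) (_ : HasProjectiveDimensionLT (ModuleCat.of R I) (n + 1))
      (ψ : I →ₗ[R] (Fin r → A)) (v : Fin r → I) (_ : ∀ i, ψ (v i) = Pi.single i 1),
    ∃ x : Fin r → R, (∀ i, x i ∈ I ∧ x i - v i ∈ I ^ 2) ∧
      IsWeaklyRegular R (List.ofFn x) := by
  induction r with
  | zero =>
    intro R _ _ _ I A _ _ _ hA hI n hpd ψ v hv
    exact ⟨Fin.elim0, fun i => i.elim0, by simp⟩
  | succ r ih =>
    intro R _ _ _ I A _ _ _ hA hI n hpd ψ v hv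
    have hItop : I ≠ ⊤ := by
      intro h
      have : (1 : R) ∈ RingHom.ker (algebraMap R A) := by rw [hI, h]; trivial
      rw [RingHom.mem_ker, map_one] at this
      exact one_ne_zero this
    have hIm : I ≤ maximalIdeal R := le_maximalIdeal hItop
    have hkerI : ∀ a ∈ I, algebraMap R A a = 0 := by
      intro a ha
      rw [← RingHom.mem_ker, hI]
      exact ha
    -- ψ kills I²
    have hψ2 : ∀ c : I, (c : R) ∈ I ^ 2 → ψ c = 0 := by
      intro c hc
      have hle : I ^ 2 ≤ (LinearMap.ker ψ).map I.subtype := by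
        rw [pow_two, Ideal.mul_le]
        intro a ha b hb
        refine ⟨a • ⟨b, hb⟩, ?_, by simp⟩
        change a • (⟨b, hb⟩ : I) ∈ LinearMap.ker ψ
        rw [LinearMap.mem_ker, map_smul, ← algebraMap_smul A a (ψ ⟨b, hb⟩), hkerI a ha, zero_smul]
      obtain ⟨c', hc', hcc⟩ := hle hc
      have : c' = c := Subtype.ext hcc
      rw [← this]
      exact hc'
    -- Step 1 : a nonzerodivisor congruent to `v 0`
    have hv0 : ∀ a ∈ maximalIdeal R, ∀ b ∈ I ^ 2, ((v 0 : I) : R) ≠ a * (v 0 : R) + b := by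
      intro a ha b hb heq
      have hb' : (((1 - a) • v 0 : I) : R) ∈ I ^ 2 := by
        have : (((1 - a) • v 0 : I) : R) = b := by
          simp only [Submodule.coe_smul, smul_eq_mul]
          linear_combination heq
        rw [this]
        exact hb
      have h1 := hψ2 _ hb'
      rw [map_smul, hv 0] at h1
      have h2 := congrFun h1 0
      simp only [Pi.smul_apply, Pi.single_eq_same, Pi.zero_apply] at h2
      rw [Algebra.smul_def, mul_one] at h2
      have hu : IsUnit (1 - a) := by
        by_contra hnu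
        have h3 : 1 - a ∈ maximalIdeal R := (IsLocalRing.mem_maximalIdeal _).mpr hnu
        have h4 : (1 : R) ∈ maximalIdeal R := by
          have h5 := (maximalIdeal R).add_mem h3 ha
          rwa [sub_add_cancel] at h5
        exact (Ideal.ne_top_iff_one _).mp (IsLocalRing.maximalIdeal.isMaximal R).ne_top h4
      have := hu.map (algebraMap R A)
      rw [h2] at this
      exact not_isUnit_zero this
    obtain ⟨x0, hx0I, hx0, hx0v⟩ :=
      exists_nonZeroDivisor_sub_mem_sq I (n + 1) hpd (v 0) (v 0).2 hv0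
    have hψx0 : ψ ⟨x0, hx0I⟩ = Pi.single 0 1 := by
      have : (⟨x0, hx0I⟩ : I) = v 0 + ⟨x0 - v 0, I.sub_mem hx0I (v 0).2⟩ :=
        Subtype.ext (by simp)
      have h0 := hψ2 ⟨x0 - v 0, I.sub_mem hx0I (v 0).2⟩ hx0v
      rw [this, map_add, h0, add_zero, hv 0]
    -- the quotient ring
    have hx0m : x0 ∈ maximalIdeal R := hIm hx0I
    have hntR' : Nontrivial (R ⧸ Ideal.span {x0}) := by
      apply Ideal.Quotient.nontrivial_iff.mpr
      intro h
      have : (1 : R) ∈ Ideal.span {x0} := by rw [h]; trivial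
      have h1 : (1 : R) ∈ maximalIdeal R :=
        (Ideal.span_singleton_le_iff_mem _).mpr hx0m this
      exact (Ideal.ne_top_iff_one _).mp (IsLocalRing.maximalIdeal.isMaximal R).ne_top h1
    have hlocR' : IsLocalRing (R ⧸ Ideal.span {x0}) :=
      IsLocalRing.of_surjective' (Ideal.Quotient.mk (Ideal.span {x0}))
        Ideal.Quotient.mk_surjective
    let algR'A : Algebra (R ⧸ Ideal.span {x0}) A :=
      (Ideal.Quotient.lift (Ideal.span {x0}) (algebraMap R A) (by
        intro a ha
        obtain ⟨c, rfl⟩ := Ideal.mem_span_singleton'.mp ha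
        rw [map_mul, hkerI x0 hx0I, mul_zero])).toAlgebra
    have : IsScalarTower R (R ⧸ Ideal.span {x0}) A :=
      IsScalarTower.of_algebraMap_eq (fun c => rfl)
    have hA' := surjective_algebraMap_quot x0 A hA
    have hI' := ker_algebraMap_quot I x0 hx0I A hI
    obtain ⟨ψ', hψ'⟩ := exists_psi' I x0 hx0I A ψ hψx0
    have hx0reg : IsSMulRegular R x0 :=
      (isRegular_iff_mem_nonZeroDivisors.mpr hx0).left.isSMulRegular
    have hpd' := hasProjectiveDimensionLT_map_quot I x0 hx0I A hx0reg hA hI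
      ((LinearMap.proj 0) ∘ₗ ψ) (by simp [hψx0]) n hpd
    let v' : Fin r → I.map (Ideal.Quotient.mk (Ideal.span {x0})) :=
      fun i => piMap I x0 (v i.succ)
    have hv' : ∀ i, ψ' (v' i) = Pi.single i 1 := by
      intro i
      rw [hψ']
      funext j
      rw [hv i.succ]
      simp [Pi.single_apply, Fin.succ_inj]
    obtain ⟨x', hx'1, hx'2⟩ := ih (R ⧸ Ideal.span {x0})
      (I.map (Ideal.Quotient.mk (Ideal.span {x0}))) A hA' hI' n hpd' ψ' v' hv'
    -- lift the sequence
    have hlift : ∀ i, ∃ b ∈ I ^ 2,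
        Ideal.Quotient.mk (Ideal.span {x0}) ((v i.succ : R) + b) = x' i := by
      intro i
      have h1 := (hx'1 i).2
      rw [← Ideal.map_pow] at h1
      obtain ⟨b, hb, hbe⟩ :=
        (Ideal.mem_map_iff_of_surjective _ Ideal.Quotient.mk_surjective).mp h1
      refine ⟨b, hb, ?_⟩
      rw [map_add, hbe]
      change Ideal.Quotient.mk (Ideal.span {x0}) (v i.succ : R) +
        (x' i - Ideal.Quotient.mk (Ideal.span {x0}) (v i.succ : R)) = x' i
      ring
    choose b hb hbx using hlift
    refine ⟨Fin.cons x0 (fun i => (v i.succ : R) + b i), ?_, ?_⟩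
    · intro i
      refine Fin.cases ?_ (fun j => ?_) i
      · simp only [Fin.cons_zero]
        exact ⟨hx0I, hx0v⟩
      · simp only [Fin.cons_succ, add_sub_cancel_left]
        exact ⟨I.add_mem (v j.succ).2 (Ideal.pow_le_self two_ne_zero (hb j)), hb j⟩
    · rw [List.ofFn_succ]
      simp only [Fin.cons_zero, Fin.cons_succ]
      rw [isWeaklyRegular_cons_iff]
      refine ⟨hx0reg, ?_⟩
      have hlist : List.ofFn x' = (List.ofFn (fun i => (v i.succ : R) + b i)).map
          (algebraMap R (R ⧸ Ideal.span {x0})) := by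
        rw [List.map_ofFn]
        congr 1
        funext i
        exact (hbx i).symm
      rw [hlist, isWeaklyRegular_map_algebraMap_iff] at hx'2
      have h : Ideal.span {x0} = x0 • (⊤ : Ideal R) := by
        simp [← Submodule.ideal_span_singleton_smul]
      let e : (R ⧸ Ideal.span ({x0} : Set R)) ≃ₗ[R] QuotSMulTop x0 R :=
        Submodule.quotEquivOfEq _ _ h
      exact (e.isWeaklyRegular_congr _).mp hx'2

end Groth.Agent.Lib.H87Vasc

namespace Groth.Agent.Lib.H87Vasc

variable {R : Type u} [CommRing R] [IsLocalRing R] [IsNoetherianRing R]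

/-- **Vasconcelos**: a free rank `r` direct summand of the conormal module `I/I²` of an ideal of
finite projective dimension is generated by the classes of a regular sequence of length `r`
in `I`. -/
theorem exists_isRegular_span_eq (I : Ideal R) (hI : I ≠ ⊤) (n : ℕ)
    (hpd : HasProjectiveDimensionLT (ModuleCat.of R I) n)
    (F G : Submodule (R ⧸ I) I.Cotangent) (hFG : IsCompl F G) (r : ℕ)
    (e : F ≃ₗ[R ⧸ I] (Fin r → R ⧸ I)) :
    ∃ (x : Fin r → R) (hx : ∀ i, x i ∈ I), IsRegular R (List.ofFn x) ∧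
      Submodule.span (R ⧸ I) (Set.range fun i => I.toCotangent ⟨x i, hx i⟩) = F := by
  have hnt : Nontrivial (R ⧸ I) := Ideal.Quotient.nontrivial_iff.mpr hI
  have hIm : I ≤ maximalIdeal R := le_maximalIdeal hI
  have hker : RingHom.ker (algebraMap R (R ⧸ I)) = I := by
    rw [Ideal.Quotient.algebraMap_eq, Ideal.mk_ker]
  have hpd' : HasProjectiveDimensionLT (ModuleCat.of R I) (n + 1) :=
    hasProjectiveDimensionLT_of_ge _ n (n + 1) (by omega)
  let ψ : I →ₗ[R] (Fin r → R ⧸ I) :=
    ((e.toLinearMap ∘ₗ Submodule.projectionOnto F G hFG).restrictScalars R) ∘ₗ I.toCotangent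
  have hvex : ∀ i : Fin r, ∃ a : I, I.toCotangent a = ((e.symm (Pi.single i 1) : F) : I.Cotangent) :=
    fun i => I.toCotangent_surjective _
  choose v hv using hvex
  have hψv : ∀ i, ψ (v i) = Pi.single i 1 := by
    intro i
    change e (Submodule.projectionOnto F G hFG (I.toCotangent (v i))) = _
    rw [hv i, Submodule.projectionOnto_apply_left, LinearEquiv.apply_symm_apply]
  obtain ⟨x, hx1, hx2⟩ := exists_weaklyRegular_aux r R I (R ⧸ I)
    Ideal.Quotient.mk_surjective hker n hpd' ψ v hψv
  refine ⟨x, fun i => (hx1 i).1, ?_, ?_⟩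
  · rw [IsLocalRing.isRegular_iff_isWeaklyRegular_of_subset_maximalIdeal]
    · exact hx2
    · intro y hy
      rw [List.mem_ofFn] at hy
      obtain ⟨i, rfl⟩ := hy
      exact hIm (hx1 i).1
  · have hcot : ∀ i, I.toCotangent ⟨x i, (hx1 i).1⟩ =
        ((e.symm (Pi.single i 1) : F) : I.Cotangent) := by
      intro i
      rw [← hv i, Ideal.toCotangent_eq]
      exact (hx1 i).2
    let b : Module.Basis (Fin r) (R ⧸ I) F := (Pi.basisFun (R ⧸ I) (Fin r)).map e.symm
    have hb : ∀ i, b i = e.symm (Pi.single i 1) := by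
      intro i
      simp [b]
    have hrange : (Set.range fun i => I.toCotangent ⟨x i, (hx1 i).1⟩) =
        F.subtype '' (Set.range b) := by
      rw [← Set.range_comp]
      congr 1
      funext i
      rw [hcot i, Function.comp_apply, hb i]
      rfl
    rw [hrange, ← Submodule.map_span, b.span_eq, Submodule.map_subtype_top]

end Groth.Agent.Lib.H87Vasc
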