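/-
helper8: the affine dimension theorem at ring level: for primes `P`, `Q` of `k[x_1..x_N]` and
a minimal prime `𝔭` over `P + Q`, `dim A/P + dim A/Q ≤ dim A/𝔭 + N` (diagonal trick).
-/
import Mathlib
import Groth.Agent.Lib.FTDim
import Groth.Agent.Lib.H8ProjDim

set_option autoImplicit false
set_option linter.style.haveILetI false
set_option linter.unusedSectionVars false
universe u

namespace Groth.Agent.Lib.H8AffDim

open MvPolynomial

attribute [local instance] MvPolynomial.algebraMvPolynomial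

variable (k : Type u) [Field k]

/-- For a finite type `k`-domain `B` and a prime `Q` of `A = k[y_1..y_N]`, every minimal prime `𝔮`
over `Q B[y]` has `dim B[y]/𝔮 ≥ dim B + dim A/Q`. -/
theorem dim_add_dim_le_of_mem_minimalPrimes_map (B : Type u) [CommRing B] [IsDomain B]
    [Algebra k B] [Algebra.FiniteType k B] (N : ℕ) (Q : Ideal (MvPolynomial (Fin N) k))
    [hQ : Q.IsPrime] (𝔮 : Ideal (MvPolynomial (Fin N) B))
    (h𝔮 : 𝔮 ∈ (Q.map (algebraMap (MvPolynomial (Fin N) k) (MvPolynomial (Fin N) B))).minimalPrimes) :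
    ringKrullDim B + ringKrullDim (MvPolynomial (Fin N) k ⧸ Q) ≤
      ringKrullDim (MvPolynomial (Fin N) B ⧸ 𝔮) := by
  set A := MvPolynomial (Fin N) k with hA
  set R := MvPolynomial (Fin N) B with hR
  haveI : IsNoetherianRing B := Algebra.FiniteType.isNoetherianRing k B
  haveI : Module.Flat A R :=
    Module.Flat.isBaseChange k A B R (Algebra.IsPushout.out (R := k) (S := A) (R' := B) (S' := R))
  haveI h𝔮p : 𝔮.IsPrime := h𝔮.1.1
  have hQ𝔮 : Q ≤ 𝔮.under A := Ideal.map_le_iff_le_comap.mp h𝔮.1.2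
  haveI : 𝔮.LiesOver (𝔮.under A) := ⟨rfl⟩
  obtain ⟨𝔮₀, h𝔮₀le, h𝔮₀p, h𝔮₀over⟩ := Ideal.exists_ideal_le_liesOver_of_le (p := Q) (q := 𝔮.under A)
    𝔮 hQ𝔮
  have h𝔮₀ : 𝔮₀ = 𝔮 := by
    refine le_antisymm h𝔮₀le (h𝔮.2 ⟨h𝔮₀p, ?_⟩ h𝔮₀le)
    rw [Ideal.map_le_iff_le_comap]
    exact (h𝔮₀over.over).le
  subst h𝔮₀
  have hht := Ideal.height_le_height_add_of_liesOver Q 𝔮₀
  have h0 : (𝔮₀.map (Ideal.Quotient.mk (Q.map (algebraMap A R)))).height = 0 := by
    haveI : (𝔮₀.map (Ideal.Quotient.mk (Q.map (algebraMap A R)))).IsPrime :=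
      Ideal.isPrime_map_quotientMk_of_isPrime h𝔮.1.2
    rw [Ideal.height_eq_zero_iff]
    have := Ideal.minimalPrimes_map_of_surjective
      (f := Ideal.Quotient.mk (Q.map (algebraMap A R))) Ideal.Quotient.mk_surjective
      (I := Q.map (algebraMap A R))
    rw [Ideal.mk_ker, sup_idem, Ideal.map_quotient_self] at this
    change _ ∈ (⊥ : Ideal _).minimalPrimes
    rw [this]
    exact ⟨𝔮₀, h𝔮, rfl⟩
  rw [h0, add_zero] at hht
  haveI : Algebra.FiniteType k R :=
    Algebra.FiniteType.trans (inferInstance : Algebra.FiniteType k B) inferInstance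
  haveI : Algebra.FiniteType k (R ⧸ 𝔮₀) :=
    Algebra.FiniteType.of_surjective (Ideal.Quotient.mkₐ k 𝔮₀) (Ideal.Quotient.mkₐ_surjective k 𝔮₀)
  haveI : Algebra.FiniteType k (A ⧸ Q) :=
    Algebra.FiniteType.of_surjective (Ideal.Quotient.mkₐ k Q) (Ideal.Quotient.mkₐ_surjective k Q)
  have h1 := FTDim.height_add_ringKrullDim_quotient k R 𝔮₀
  have h2 := FTDim.height_add_ringKrullDim_quotient k A Q
  have h3 : ringKrullDim R = ringKrullDim B + N := by
    have := MvPolynomial.ringKrullDim_of_isNoetherianRing (R := B) (ι := Fin N)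
    rw [Nat.card_eq_fintype_card, Fintype.card_fin] at this
    exact this
  have h4 : ringKrullDim A = N := FTDim.ringKrullDim_mvPolynomial k N
  obtain ⟨b, hb, -⟩ := FTDim.exists_ringKrullDim_eq k B
  obtain ⟨x, hx, -⟩ := FTDim.exists_ringKrullDim_eq k (R ⧸ 𝔮₀)
  obtain ⟨y, hy, -⟩ := FTDim.exists_ringKrullDim_eq k (A ⧸ Q)
  obtain ⟨a, ha⟩ := ENat.ne_top_iff_exists.mp (Ideal.height_ne_top h𝔮p.ne_top)
  obtain ⟨c, hc⟩ := ENat.ne_top_iff_exists.mp (Ideal.height_ne_top hQ.ne_top)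
  rw [← ha, hx, h3, hb] at h1
  rw [← hc, hy, h4] at h2
  rw [← ha, ← hc] at hht
  rw [hb, hx, hy]
  have h1' : a + x = b + N := by exact_mod_cast h1
  have h2' : c + y = N := by exact_mod_cast h2
  have h3' : a ≤ c := by exact_mod_cast hht
  have : b + y ≤ x := by omega
  exact_mod_cast this

/-- `f - C (aeval b f)` lies in the ideal generated by the `X i - C (b i)`. -/
theorem sub_C_aeval_mem {B : Type*} [CommRing B] {σ : Type*} (b : σ → B) (f : MvPolynomial σ B) :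
    f - C (aeval b f) ∈ Ideal.span (Set.range fun i => (X i - C (b i) : MvPolynomial σ B)) := by
  induction f using MvPolynomial.induction_on with
  | C a => simp
  | add p q hp hq =>
    rw [map_add, map_add, add_sub_add_comm]
    exact Ideal.add_mem _ hp hq
  | mul_X p i hp =>
    have : p * X i - C (aeval b (p * X i)) =
        (p - C (aeval b p)) * X i + C (aeval b p) * (X i - C (b i)) := by
      rw [map_mul, aeval_X, map_mul]; ring
    rw [this]
    exact Ideal.add_mem _ (Ideal.mul_mem_right _ _ hp)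
      (Ideal.mul_mem_left _ _ (Ideal.subset_span ⟨i, rfl⟩))

/-- Auxiliary form of the affine dimension theorem, with `A/P` replaced by a surjection
`π : A → B` onto a domain. -/
theorem dim_add_dim_le_aux (N : ℕ) (B : Type u) [CommRing B] [IsDomain B] [Algebra k B]
    (π : MvPolynomial (Fin N) k →ₐ[k] B) (hπ : Function.Surjective π)
    (Q : Ideal (MvPolynomial (Fin N) k)) [hQ : Q.IsPrime]
    (𝔭 : Ideal (MvPolynomial (Fin N) k))
    (h𝔭 : 𝔭 ∈ (RingHom.ker (π : MvPolynomial (Fin N) k →+* B) ⊔ Q).minimalPrimes) :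
    ringKrullDim B + ringKrullDim (MvPolynomial (Fin N) k ⧸ Q) ≤
      ringKrullDim (MvPolynomial (Fin N) k ⧸ 𝔭) + N := by
  classical
  set A := MvPolynomial (Fin N) k with hA
  set R := MvPolynomial (Fin N) B with hR
  haveI : Algebra.FiniteType k B := Algebra.FiniteType.of_surjective π hπ
  haveI h𝔭p : 𝔭.IsPrime := h𝔭.1.1
  let b : Fin N → B := fun i => π (X i)
  let ev : R →ₐ[B] B := aeval b
  have hev : ∀ a : A, ev (algebraMap A R a) = π a := by
    intro a
    change aeval b (map (algebraMap k B) a) = _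
    rw [aeval_map_algebraMap]
    have h1 : π = aeval b := by
      apply MvPolynomial.algHom_ext
      intro i
      rw [aeval_X]
    rw [← h1]
  set D : Ideal R := Ideal.span (Set.range fun i => (X i - C (b i) : R)) with hD
  have hDmem : ∀ f g : R, ev f = ev g → f - g ∈ D := by
    intro f g hfg
    have h1 := sub_C_aeval_mem b f
    have h2 := sub_C_aeval_mem b g
    have : f - g = (f - C (aeval b f)) - (g - C (aeval b g)) := by
      have : aeval b f = aeval b g := hfg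
      rw [this]; ring
    rw [this]
    exact Ideal.sub_mem _ h1 h2
  have hP𝔭 : RingHom.ker (π : A →+* B) ≤ 𝔭 := le_sup_left.trans h𝔭.1.2
  have hQ𝔭 : Q ≤ 𝔭 := le_sup_right.trans h𝔭.1.2
  set 𝔭b : Ideal B := 𝔭.map (π : A →+* B) with h𝔭b
  haveI h𝔭bp : 𝔭b.IsPrime := Ideal.map_isPrime_of_surjective hπ hP𝔭
  have hmem𝔭b : ∀ a : A, π a ∈ 𝔭b ↔ a ∈ 𝔭 := by
    intro a
    constructor
    · intro h
      obtain ⟨a', ha', haa'⟩ := (Ideal.mem_map_iff_of_surjective (π : A →+* B) hπ).mp h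
      have : a - a' ∈ RingHom.ker (π : A →+* B) := by
        rw [RingHom.mem_ker, map_sub, sub_eq_zero]
        exact haa'.symm
      have h2 := Ideal.add_mem _ (hP𝔭 this) ha'
      rwa [sub_add_cancel] at h2
    · intro h
      exact Ideal.mem_map_of_mem (π : A →+* B) h
  set 𝔭' : Ideal R := 𝔭b.comap ev with h𝔭'
  haveI h𝔭'p : 𝔭'.IsPrime := Ideal.comap_isPrime _ _
  have hQ𝔭' : Q.map (algebraMap A R) ≤ 𝔭' := by
    rw [Ideal.map_le_iff_le_comap]
    intro a ha
    change ev (algebraMap A R a) ∈ 𝔭b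
    rw [hev, hmem𝔭b]
    exact hQ𝔭 ha
  obtain ⟨𝔮, h𝔮, h𝔮le⟩ := Ideal.exists_minimalPrimes_le hQ𝔭'
  haveI h𝔮p : 𝔮.IsPrime := h𝔮.1.1
  have hstep1 := dim_add_dim_le_of_mem_minimalPrimes_map k B N Q 𝔮 h𝔮
  let s : Finset R := Finset.univ.image fun i => (X i - C (b i) : R)
  have hs : Ideal.span (s : Set R) = D := by
    rw [hD]; congr 1; ext x; simp [s]
  have hD𝔭' : D ≤ 𝔭' := by
    rw [hD, Ideal.span_le]
    rintro _ ⟨i, rfl⟩
    change ev (X i - C (b i)) ∈ 𝔭b
    have : ev (X i - C (b i)) = 0 := by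
      rw [map_sub]
      change aeval b (X i) - aeval b (C (b i)) = 0
      rw [aeval_X, aeval_C]
      simp
    rw [this]
    exact Ideal.zero_mem _
  have hmin : 𝔭' ∈ (𝔮 ⊔ Ideal.span (s : Set R)).minimalPrimes := by
    rw [hs]
    refine ⟨⟨h𝔭'p, sup_le h𝔮le hD𝔭'⟩, ?_⟩
    rintro 𝔯 ⟨h𝔯p, h𝔯le⟩ h𝔯𝔭'
    have hD𝔯 : D ≤ 𝔯 := le_sup_right.trans h𝔯le
    have h𝔮𝔯 : 𝔮 ≤ 𝔯 := le_sup_left.trans h𝔯le
    haveI : (𝔯.comap (algebraMap A R)).IsPrime := Ideal.comap_isPrime _ _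
    have h1 : RingHom.ker (π : A →+* B) ⊔ Q ≤ 𝔯.comap (algebraMap A R) := by
      refine sup_le ?_ ?_
      · intro a ha
        rw [Ideal.mem_comap]
        have : algebraMap A R a - 0 ∈ D := hDmem _ _ (by
          rw [hev, map_zero]; exact ha)
        have h2 : algebraMap A R a - 0 = algebraMap A R a := sub_zero _
        rw [h2] at this
        exact hD𝔯 this
      · exact Ideal.map_le_iff_le_comap.mp (h𝔮.1.2.trans h𝔮𝔯)
    have h2 : 𝔯.comap (algebraMap A R) ≤ 𝔭 := by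
      intro a ha
      have : algebraMap A R a ∈ 𝔭' := h𝔯𝔭' ha
      change ev (algebraMap A R a) ∈ 𝔭b at this
      rwa [hev, hmem𝔭b] at this
    have h3 : 𝔭 ≤ 𝔯.comap (algebraMap A R) := h𝔭.2 ⟨inferInstance, h1⟩ h2
    intro f hf
    change ev f ∈ 𝔭b at hf
    obtain ⟨a, ha⟩ := hπ (ev f)
    rw [← ha, hmem𝔭b] at hf
    have h4 : algebraMap A R a ∈ 𝔯 := h3 hf
    have h5 : f - algebraMap A R a ∈ D := hDmem _ _ (by rw [hev, ha])
    have : f = (f - algebraMap A R a) + algebraMap A R a := by ring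
    rw [this]
    exact Ideal.add_mem _ (hD𝔯 h5) h4
  haveI : Algebra.FiniteType k R :=
    Algebra.FiniteType.trans (inferInstance : Algebra.FiniteType k B) inferInstance
  have hstep2 := Groth.Agent.Lib.H8ProjDim.ringKrullDim_quotient_le_add_card k s hmin
  have hcard : (s.card : WithBot ℕ∞) ≤ (N : WithBot ℕ∞) := by
    have : s.card ≤ N := by
      refine Finset.card_image_le.trans ?_
      simp
    exact_mod_cast this
  have hevsurj : Function.Surjective ev := fun x => ⟨C x, by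
    change aeval b (C x) = x
    rw [aeval_C]; rfl⟩
  have hdim1 : ringKrullDim (R ⧸ 𝔭') = ringKrullDim (B ⧸ 𝔭b) := by
    refine ringKrullDim_eq_of_ringEquiv (RingEquiv.ofBijective
      (Ideal.quotientMap 𝔭b (ev : R →+* B) le_rfl) ⟨?_, ?_⟩)
    · exact Ideal.quotientMap_injective
    · exact Ideal.quotientMap_surjective hevsurj
  have hcomap : 𝔭b.comap (π : A →+* B) = 𝔭 := by
    ext a
    rw [Ideal.mem_comap]
    exact hmem𝔭b a
  have hdim2 : ringKrullDim (A ⧸ 𝔭) = ringKrullDim (B ⧸ 𝔭b) := by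
    refine ringKrullDim_eq_of_ringEquiv (RingEquiv.ofBijective
      (Ideal.quotientMap 𝔭b (π : A →+* B) hcomap.ge) ⟨?_, ?_⟩)
    · exact Ideal.quotientMap_injective' hcomap.le
    · exact Ideal.quotientMap_surjective hπ
  calc ringKrullDim B + ringKrullDim (A ⧸ Q) ≤ ringKrullDim (R ⧸ 𝔮) := hstep1
    _ ≤ ringKrullDim (R ⧸ 𝔭') + (s.card : WithBot ℕ∞) := hstep2
    _ ≤ ringKrullDim (R ⧸ 𝔭') + (N : WithBot ℕ∞) := by gcongr
    _ = ringKrullDim (A ⧸ 𝔭) + N := by rw [hdim1, hdim2]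

/-- **Affine dimension theorem**, ring level: for primes `P`, `Q` of `A = k[x_1..x_N]` and a
minimal prime `𝔭` over `P + Q`: `dim A/P + dim A/Q ≤ dim A/𝔭 + N`. -/
theorem dim_add_dim_le (N : ℕ) (P Q : Ideal (MvPolynomial (Fin N) k)) [hP : P.IsPrime]
    [hQ : Q.IsPrime] (𝔭 : Ideal (MvPolynomial (Fin N) k)) (h𝔭 : 𝔭 ∈ (P ⊔ Q).minimalPrimes) :
    ringKrullDim (MvPolynomial (Fin N) k ⧸ P) + ringKrullDim (MvPolynomial (Fin N) k ⧸ Q) ≤
      ringKrullDim (MvPolynomial (Fin N) k ⧸ 𝔭) + N := by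
  haveI : IsDomain (MvPolynomial (Fin N) k ⧸ P) := Ideal.Quotient.isDomain P
  refine dim_add_dim_le_aux k N (MvPolynomial (Fin N) k ⧸ P) (Ideal.Quotient.mkₐ k P)
    (Ideal.Quotient.mkₐ_surjective k P) Q 𝔭 ?_
  have : RingHom.ker ((Ideal.Quotient.mkₐ k P : MvPolynomial (Fin N) k →ₐ[k] _) :
      MvPolynomial (Fin N) k →+* (MvPolynomial (Fin N) k ⧸ P)) = P := by
    ext a
    rw [RingHom.mem_ker]
    exact Ideal.Quotient.eq_zero_iff_mem
  rw [this]
  exact h𝔭

end Groth.Agent.Lib.H8AffDim
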