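import Groth.Agent.Lib.AffGrpd13b
import Groth.Agent.Lib.AffGrpd13e
import Mathlib.RingTheory.TensorProduct.MvPolynomial
import Mathlib.Algebra.Category.Ring.Constructions
import Mathlib.FieldTheory.IsAlgClosed.Basic
import Mathlib.RingTheory.Ideal.GoingUp

/-!
# Polynomial extension of an abstract affine groupoid (helper8)

On top of helper13's `AffGrpd` (ring-level affine groupoids):
* `isPushout_C_map`: the square `R → R[X], R → S, R[X] → S[X], S → S[X]` is a pushout;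
* `AffGrpd.mvPoly σ`: the groupoid `𝒢 × 𝔸^σ`;
* `mem_inv_mvPoly_iff`: its invariants are the polynomials with invariant coefficients.
-/

set_option autoImplicit false
universe u

namespace Groth.Agent.Lib.H8AffGrpdPoly

open CategoryTheory Groth.Agent.Lib.AffGrpd13

section pushout

variable {R S : Type u} [CommRing R] [CommRing S]

attribute [local instance] MvPolynomial.algebraMvPolynomial in
/-- The polynomial extension square is a pushout. -/
theorem isPushout_C_map (σ : Type u) (f : R →+* S) :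
    IsPushout (CommRingCat.ofHom (MvPolynomial.C : R →+* MvPolynomial σ R)) (CommRingCat.ofHom f)
      (CommRingCat.ofHom (MvPolynomial.map (σ := σ) f))
      (CommRingCat.ofHom (MvPolynomial.C : S →+* MvPolynomial σ S)) := by
  algebraize [f]
  exact (CommRingCat.isPushout_iff_isPushout (R := R) (S := S) (R' := MvPolynomial σ R)
    (S' := MvPolynomial σ S)).mpr inferInstance

end pushout

section mvPoly

variable {A B P : CommRingCat.{u}} (𝒢 : AffGrpd A B P) (σ : Type u)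

/-- Polynomial extension of a morphism of `CommRingCat`. -/
noncomputable abbrev pmap {X Y : CommRingCat.{u}} (f : X ⟶ Y) :
    CommRingCat.of (MvPolynomial σ X) ⟶ CommRingCat.of (MvPolynomial σ Y) :=
  CommRingCat.ofHom (MvPolynomial.map (σ := σ) f.hom)

/-- The constants. -/
noncomputable abbrev cst (X : CommRingCat.{u}) : X ⟶ CommRingCat.of (MvPolynomial σ X) :=
  CommRingCat.ofHom (MvPolynomial.C : X →+* MvPolynomial σ X)

theorem pmap_comp {X Y Z : CommRingCat.{u}} (f : X ⟶ Y) (g : Y ⟶ Z) :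
    pmap σ f ≫ pmap σ g = pmap σ (f ≫ g) := by
  apply CommRingCat.hom_ext
  simp only [pmap, CommRingCat.hom_comp, CommRingCat.hom_ofHom]
  ext x
  · simp
  · simp

theorem pmap_id (X : CommRingCat.{u}) : pmap σ (𝟙 X) = 𝟙 _ := by
  apply CommRingCat.hom_ext
  simp only [pmap, CommRingCat.hom_id, CommRingCat.hom_ofHom]
  ext x
  · simp
  · simp

theorem cst_pmap {X Y : CommRingCat.{u}} (f : X ⟶ Y) :
    f ≫ cst σ Y = cst σ X ≫ pmap σ f := by
  apply CommRingCat.hom_ext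
  ext a
  simp

theorem isPushout_cst {X Y : CommRingCat.{u}} (f : X ⟶ Y) :
    IsPushout (cst σ X) f (pmap σ f) (cst σ Y) :=
  isPushout_C_map σ f.hom

/-- The groupoid `𝒢 × 𝔸^σ`. -/
noncomputable def mvPoly : AffGrpd (CommRingCat.of (MvPolynomial σ A))
    (CommRingCat.of (MvPolynomial σ B)) (CommRingCat.of (MvPolynomial σ P)) where
  s := pmap σ 𝒢.s
  t := pmap σ 𝒢.t
  e := pmap σ 𝒢.e
  p0 := pmap σ 𝒢.p0
  p1 := pmap σ 𝒢.p1
  cc := pmap σ 𝒢.cc
  het := by rw [pmap_comp, 𝒢.het, pmap_id]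
  hes := by rw [pmap_comp, 𝒢.hes, pmap_id]
  h1 := by rw [pmap_comp, pmap_comp, 𝒢.h1]
  h2 := by rw [pmap_comp, pmap_comp, 𝒢.h2]
  h3 := by rw [pmap_comp, pmap_comp, 𝒢.h3]
  sq1 := by
    have big := 𝒢.sq1.flip.paste_horiz (isPushout_cst σ 𝒢.p1)
    rw [cst_pmap, cst_pmap] at big
    refine (IsPushout.of_left big ?_ (isPushout_cst σ 𝒢.s)).flip
    rw [pmap_comp, pmap_comp, 𝒢.h1]
  sq2 := by
    have big := 𝒢.sq2.flip.paste_horiz (isPushout_cst σ 𝒢.p1)
    rw [cst_pmap, cst_pmap] at big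
    refine (IsPushout.of_left big ?_ (isPushout_cst σ 𝒢.s)).flip
    rw [pmap_comp, pmap_comp, 𝒢.h2]

theorem mem_inv_mvPoly_iff (g : MvPolynomial σ A) :
    g ∈ (mvPoly 𝒢 σ).inv ↔ ∀ d, MvPolynomial.coeff d g ∈ 𝒢.inv := by
  rw [AffGrpd.mem_inv]
  change MvPolynomial.map 𝒢.s.hom g = MvPolynomial.map 𝒢.t.hom g ↔ _
  rw [MvPolynomial.ext_iff]
  simp only [MvPolynomial.coeff_map, AffGrpd.mem_inv]

/-- A retraction of `B` over `A` induces one of `B[X]` over `A[X]`. -/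
theorem exists_retract_mvPoly {n : ℕ}
    (i : letI := 𝒢.s.hom.toAlgebra; B →ₗ[A] (Fin n → A))
    (τ : letI := 𝒢.s.hom.toAlgebra; (Fin n → A) →ₗ[A] B)
    (hτi : letI := 𝒢.s.hom.toAlgebra; τ ∘ₗ i = LinearMap.id) :
    letI := (mvPoly 𝒢 σ).s.hom.toAlgebra
    ∃ (i' : MvPolynomial σ B →ₗ[MvPolynomial σ A] (Fin n → MvPolynomial σ A))
      (τ' : (Fin n → MvPolynomial σ A) →ₗ[MvPolynomial σ A] MvPolynomial σ B),
      τ' ∘ₗ i' = LinearMap.id := by
  obtain ⟨i', τ', h, -⟩ :=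
    Lib.DetRetract13.exists_retract_det_commRingCat (isPushout_cst σ 𝒢.s).flip n i τ hτi
  exact ⟨i', τ', h⟩

end mvPoly

section orbits

variable {A B P : CommRingCat.{u}} (𝒢 : AffGrpd A B P)

/-- Two primes of `A` with the same contraction to the invariants are in the same orbit
(Stacks 03BK (1)). -/
theorem exists_prime_of_comap_inv_eq {n : ℕ}
    (i : letI := 𝒢.s.hom.toAlgebra; B →ₗ[A] (Fin n → A))
    (τ : letI := 𝒢.s.hom.toAlgebra; (Fin n → A) →ₗ[A] B)
    (hτi : letI := 𝒢.s.hom.toAlgebra; τ ∘ₗ i = LinearMap.id)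
    (p₀ p₁ : PrimeSpectrum A)
    (h : ∀ c ∈ 𝒢.inv, c ∈ p₀.asIdeal ↔ c ∈ p₁.asIdeal) :
    ∃ q : PrimeSpectrum B, q.comap 𝒢.t.hom = p₀ ∧ q.comap 𝒢.s.hom = p₁ := by
  classical
  let alg : Algebra A B := 𝒢.s.hom.toAlgebra
  have hτsurj : Function.Surjective τ := fun b => ⟨i b, LinearMap.congr_fun hτi b⟩
  have hfin : Module.Finite A B := Module.Finite.of_surjective τ hτsurj
  have hproj : Module.Projective A B := Module.Projective.of_split i τ hτi
  have hint : Algebra.IsIntegral 𝒢.inv A := 𝒢.isIntegral hfin hproj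
  by_contra hne
  push Not at hne
  have hQfin : (PrimeSpectrum.comap (algebraMap A B) ⁻¹' {p₁}).Finite :=
    Algebra.QuasiFinite.finite_comap_preimage_singleton p₁
  let Q : Finset (PrimeSpectrum B) := hQfin.toFinset
  have hQ : ∀ q, q ∈ Q ↔ q.comap 𝒢.s.hom = p₁ := fun q => by
    simp only [Q, Set.Finite.mem_toFinset, Set.mem_preimage, Set.mem_singleton_iff]
    rfl
  have hnot : ¬ ((p₀.asIdeal : Set A) ⊆
      ⋃ q ∈ (Q : Set (PrimeSpectrum B)), ((q.comap 𝒢.t.hom).asIdeal : Set A)) := by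
    rw [Ideal.subset_union_prime (𝒢.idPrime p₀) (𝒢.idPrime p₀)
      (fun q _ _ _ => (q.comap 𝒢.t.hom).isPrime)]
    rintro ⟨q, hq, hle⟩
    have hq1 : q.comap 𝒢.s.hom = p₁ := (hQ q).mp hq
    apply hne q _ hq1
    apply PrimeSpectrum.ext
    by_contra hne2
    have hlt : p₀.asIdeal < (q.comap 𝒢.t.hom).asIdeal := lt_of_le_of_ne hle (Ne.symm hne2)
    have := Ideal.IsIntegral.comap_lt_comap (R := 𝒢.inv) hlt
    obtain ⟨c, hc1, hc0⟩ := SetLike.exists_of_lt this
    apply hc0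
    rw [Ideal.mem_comap]
    rw [Ideal.mem_comap] at hc1
    change 𝒢.t.hom c.1 ∈ q.asIdeal at hc1
    rw [← (𝒢.mem_inv.mp c.2)] at hc1
    have : c.1 ∈ (q.comap 𝒢.s.hom).asIdeal := hc1
    rw [hq1] at this
    exact (h c.1 c.2).mpr this
  rw [Set.not_subset] at hnot
  obtain ⟨f, hfI, hf⟩ := hnot
  have hf' : ∀ q : PrimeSpectrum B, q.comap 𝒢.s.hom = p₁ → 𝒢.t.hom f ∉ q.asIdeal := by
    intro q hq hmem
    apply hf
    simp only [Set.mem_iUnion, Finset.mem_coe]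
    exact ⟨q, (hQ q).mpr hq, hmem⟩
  have hN := 𝒢.det_ext_mem_inv i τ hτi f
  have h1 : LinearMap.det (NormLocus13.ext i τ (Algebra.lmul A B (𝒢.t.hom f))) ∉ p₁.asIdeal := by
    rw [Lib.DetRetract13.det_ext_notMem_iff i τ hτi]
    intro q hq
    exact hf' q hq
  have h0 : LinearMap.det (NormLocus13.ext i τ (Algebra.lmul A B (𝒢.t.hom f))) ∈ p₀.asIdeal := by
    by_contra hc
    rw [Lib.DetRetract13.det_ext_notMem_iff i τ hτi] at hc
    apply hc (𝒢.idPrime p₀) (𝒢.idPrime_comap_s p₀)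
    change 𝒢.e.hom (𝒢.t.hom f) ∈ p₀.asIdeal
    rw [𝒢.het']
    exact hfI
  exact h1 ((h _ hN).mp h0)

end orbits

section ext

/-- Extension of a ring homomorphism to an algebraically closed field along an integral ring
map, with prescribed kernel. -/
theorem exists_ringHom_ext_of_isIntegral {R S k : Type*} [CommRing R] [CommRing S] [Field k]
    [IsAlgClosed k] (φ : R →+* S) (hφ : φ.IsIntegral) (ξ : R →+* k) (q : Ideal S) [q.IsPrime]
    (hq : q.comap φ = RingHom.ker ξ) :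
    ∃ ρ : S →+* k, ρ.comp φ = ξ ∧ RingHom.ker ρ = q := by
  have hle : ∀ a ∈ q.comap φ, ξ a = 0 := fun a ha => by
    rw [hq] at ha; exact ha
  let ξ' : R ⧸ q.comap φ →+* k := Ideal.Quotient.lift (q.comap φ) ξ hle
  have hξ'inj : Function.Injective ξ' := by
    rw [injective_iff_map_eq_zero]
    intro x hx
    obtain ⟨a, rfl⟩ := Ideal.Quotient.mk_surjective x
    rw [Ideal.Quotient.eq_zero_iff_mem, hq]
    simpa [ξ'] using hx
  let φ' : R ⧸ q.comap φ →+* S ⧸ q := Ideal.quotientMap q φ le_rfl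
  have hφ'inj : Function.Injective φ' := Ideal.quotientMap_injective
  have hφ'int : φ'.IsIntegral := hφ.quotient
  let _ : Algebra (R ⧸ q.comap φ) (S ⧸ q) := φ'.toAlgebra
  let _ : Algebra (R ⧸ q.comap φ) k := ξ'.toAlgebra
  have : IsDomain (R ⧸ q.comap φ) := Ideal.Quotient.isDomain _
  have : Algebra.IsIntegral (R ⧸ q.comap φ) (S ⧸ q) := ⟨hφ'int⟩
  have : Module.IsTorsionFree (R ⧸ q.comap φ) (S ⧸ q) :=
    Module.isTorsionFree_iff_algebraMap_injective.mpr hφ'inj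
  have : Module.IsTorsionFree (R ⧸ q.comap φ) k :=
    Module.isTorsionFree_iff_algebraMap_injective.mpr hξ'inj
  let l : S ⧸ q →ₐ[R ⧸ q.comap φ] k := IsAlgClosed.lift
  have hlinj : Function.Injective l := by
    rw [injective_iff_map_eq_zero]
    intro x hx
    have hker : RingHom.ker (l : S ⧸ q →+* k) = ⊥ := by
      apply Ideal.eq_bot_of_comap_eq_bot (R := R ⧸ q.comap φ)
      rw [eq_bot_iff]
      intro y hy
      rw [Ideal.mem_comap, RingHom.mem_ker] at hy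
      have h2 : l (algebraMap _ _ y) = ξ' y := l.commutes y
      have h3 : ξ' y = 0 := by rw [← h2]; exact hy
      rw [Ideal.mem_bot]
      exact hξ'inj (by rw [h3, map_zero])
    have : x ∈ RingHom.ker (l : S ⧸ q →+* k) := hx
    rw [hker] at this
    exact this
  refine ⟨(l : S ⧸ q →+* k).comp (Ideal.Quotient.mk q), ?_, ?_⟩
  · ext a
    have h2 : l (algebraMap _ _ (Ideal.Quotient.mk (q.comap φ) a)) = ξ' (Ideal.Quotient.mk _ a) :=
      l.commutes _
    simpa [ξ', φ', RingHom.algebraMap_toAlgebra] using h2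
  · ext x
    rw [RingHom.mem_ker, RingHom.comp_apply]
    constructor
    · intro hx
      have : Ideal.Quotient.mk q x = 0 := hlinj (by rw [map_zero]; exact hx)
      exact Ideal.Quotient.eq_zero_iff_mem.mp this
    · intro hx
      rw [Ideal.Quotient.eq_zero_iff_mem.mpr hx, map_zero]

end ext

section kpoints

variable {A B P : CommRingCat.{u}} (𝒢 : AffGrpd A B P)

/-- Two `k`-points of `Spec A` (`k` algebraically closed) agreeing on the invariants are the
target and source of a `k`-point of `Spec B` (Stacks 03BK (2)). -/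
theorem exists_ringHom_of_eqOn_inv {n : ℕ}
    (i : letI := 𝒢.s.hom.toAlgebra; B →ₗ[A] (Fin n → A))
    (τ : letI := 𝒢.s.hom.toAlgebra; (Fin n → A) →ₗ[A] B)
    (hτi : letI := 𝒢.s.hom.toAlgebra; τ ∘ₗ i = LinearMap.id)
    {k : Type*} [Field k] [IsAlgClosed k] (x₀ x₁ : A →+* k)
    (h : ∀ c ∈ 𝒢.inv, x₀ c = x₁ c) :
    ∃ ρ : B →+* k, ρ.comp 𝒢.t.hom = x₀ ∧ ρ.comp 𝒢.s.hom = x₁ := by
  classical
  let 𝒢' := mvPoly 𝒢 (A : Type u)
  obtain ⟨i', τ', hτi'⟩ := exists_retract_mvPoly 𝒢 (A : Type u) i τ hτi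
  let ξ₀ : MvPolynomial A A →+* k := MvPolynomial.eval₂Hom x₀ (fun a => x₀ a)
  let ξ₁ : MvPolynomial A A →+* k := MvPolynomial.eval₂Hom x₁ (fun a => x₀ a)
  let 𝔭₀ : PrimeSpectrum (MvPolynomial A A) := ⟨RingHom.ker ξ₀, RingHom.ker_isPrime ξ₀⟩
  let 𝔭₁ : PrimeSpectrum (MvPolynomial A A) := ⟨RingHom.ker ξ₁, RingHom.ker_isPrime ξ₁⟩
  have hinv : ∀ g ∈ 𝒢'.inv, g ∈ 𝔭₀.asIdeal ↔ g ∈ 𝔭₁.asIdeal := by
    intro g hg
    have hg' := (mem_inv_mvPoly_iff 𝒢 (A : Type u) g).mp hg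
    have : ξ₀ g = ξ₁ g := by
      simp only [ξ₀, ξ₁, MvPolynomial.coe_eval₂Hom, MvPolynomial.eval₂_eq]
      refine Finset.sum_congr rfl fun d _ => ?_
      rw [h _ (hg' d)]
    change ξ₀ g = 0 ↔ ξ₁ g = 0
    rw [this]
  obtain ⟨𝔮, h𝔮t, h𝔮s⟩ := exists_prime_of_comap_inv_eq 𝒢' i' τ' hτi' 𝔭₀ 𝔭₁ hinv
  let alg' : Algebra (MvPolynomial A A) (MvPolynomial A B) := 𝒢'.s.hom.toAlgebra
  have hτsurj : Function.Surjective τ' := fun b => ⟨i' b, LinearMap.congr_fun hτi' b⟩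
  have hfin' : Module.Finite (MvPolynomial A A) (MvPolynomial A B) :=
    Module.Finite.of_surjective τ' hτsurj
  have hint : 𝒢'.s.hom.IsIntegral :=
    algebraMap_isIntegral_iff.mpr (Algebra.IsIntegral.of_finite _ _)
  have : 𝔮.asIdeal.IsPrime := 𝔮.isPrime
  obtain ⟨ρ', hρ's, hρ'ker⟩ := exists_ringHom_ext_of_isIntegral 𝒢'.s.hom hint ξ₁ 𝔮.asIdeal
    (congrArg PrimeSpectrum.asIdeal h𝔮s)
  refine ⟨ρ'.comp MvPolynomial.C, ?_, ?_⟩
  · ext a
    have h1 : (MvPolynomial.C a - MvPolynomial.X a : MvPolynomial A A) ∈ 𝔭₀.asIdeal := by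
      change ξ₀ _ = 0
      simp [ξ₀]
    rw [← h𝔮t] at h1
    have h2 : ρ' (𝒢'.t.hom (MvPolynomial.C a - MvPolynomial.X a)) = 0 := by
      have : 𝒢'.t.hom (MvPolynomial.C a - MvPolynomial.X a) ∈ 𝔮.asIdeal := h1
      rw [← hρ'ker] at this
      exact this
    have h3 : 𝒢'.t.hom (MvPolynomial.C a - MvPolynomial.X a) =
        MvPolynomial.C (𝒢.t.hom a) - MvPolynomial.X a := by
      simp [𝒢', mvPoly, pmap]
    have h4 : ρ' (MvPolynomial.X a) = x₀ a := by
      have := congrArg (fun φ => φ (MvPolynomial.X a)) hρ's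
      simpa [𝒢', mvPoly, pmap, ξ₁] using this
    rw [h3, map_sub, h4, sub_eq_zero] at h2
    exact h2
  · ext a
    have := congrArg (fun φ => φ (MvPolynomial.C a)) hρ's
    simpa [𝒢', mvPoly, pmap, ξ₁] using this

end kpoints

end Groth.Agent.Lib.H8AffGrpdPoly
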