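/-
helper8: topological form of a ring-level "dimension of intersections" inequality: for a space
`T` homeomorphic to `Spec A`, transfer `dim A/P + dim A/Q ≤ dim A/𝔭 + D` (𝔭 minimal over `P + Q`)
to irreducible components of intersections of equidimensional closed subsets of `T`.
-/
import Mathlib

set_option autoImplicit false
set_option linter.style.haveILetI false
set_option linter.unusedSectionVars false
universe u v

namespace Groth.Agent.Lib.H8AffTop

open Topology PrimeSpectrum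

section top

variable {T : Type*} [TopologicalSpace T]

/-- A subset of a subspace whose image is irreducible is irreducible. -/
theorem isIrreducible_of_image_val {S : Set T} {W : Set ↥S}
    (h : IsIrreducible (Subtype.val '' W)) : IsIrreducible W := by
  refine ⟨Set.image_nonempty.mp h.1, ?_⟩
  rintro u v hu hv ⟨a, haW, hau⟩ ⟨b, hbW, hbv⟩
  obtain ⟨u', hu', rfl⟩ := isOpen_induced_iff.mp hu
  obtain ⟨v', hv', rfl⟩ := isOpen_induced_iff.mp hv
  obtain ⟨_, ⟨c, hcW, rfl⟩, hcu, hcv⟩ := h.2 u' v' hu' hv' ⟨a.1, ⟨a, haW, rfl⟩, hau⟩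
    ⟨b.1, ⟨b, hbW, rfl⟩, hbv⟩
  exact ⟨c, hcW, hcu, hcv⟩

theorem topologicalKrullDim_image_val {S : Set T} (C : Set ↥S) :
    topologicalKrullDim ↥(Subtype.val '' C) = topologicalKrullDim ↥C :=
  (IsHomeomorph.topologicalKrullDim_eq _
    (IsEmbedding.subtypeVal.homeomorphImage C).isHomeomorph).symm

/-- Every irreducible subset of a closed set `S` lies in (the image of) an irreducible component of
the subspace `S`. -/
theorem exists_component_of_subset {S : Set T} (hS : IsClosed S) {W : Set T} (hW : IsIrreducible W)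
    (hWS : W ⊆ S) : ∃ C ∈ irreducibleComponents ↥S, W ⊆ Subtype.val '' C ∧
      IsClosed (Subtype.val '' C) ∧ IsIrreducible (Subtype.val '' C) := by
  have himg : Subtype.val '' ((Subtype.val : ↥S → T) ⁻¹' W) = W := by
    rw [Subtype.image_preimage_coe]
    exact Set.inter_eq_right.mpr hWS
  have hW₀ : IsIrreducible ((Subtype.val : ↥S → T) ⁻¹' W) :=
    isIrreducible_of_image_val (himg.symm ▸ hW)
  obtain ⟨C, hC, hWC⟩ := exists_mem_irreducibleComponents_subset_of_isIrreducible _ hW₀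
  refine ⟨C, hC, ?_, ?_, ?_⟩
  · rw [← himg]
    exact Set.image_mono hWC
  · exact hS.isClosedEmbedding_subtypeVal.isClosedMap C
      (isClosed_of_mem_irreducibleComponents C hC)
  · exact hC.1.image _ continuous_subtype_val.continuousOn

/-- The image in `T` of an irreducible component of a closed subspace `S` is closed, irreducible
and maximal among the irreducible subsets of `S`. -/
theorem image_component {S : Set T} (hS : IsClosed S) (Z : Set ↥S)
    (hZ : Z ∈ irreducibleComponents ↥S) :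
    IsClosed (Subtype.val '' Z) ∧ IsIrreducible (Subtype.val '' Z) ∧
      ∀ W : Set T, IsIrreducible W → W ⊆ S → Subtype.val '' Z ⊆ W → W ⊆ Subtype.val '' Z := by
  refine ⟨hS.isClosedEmbedding_subtypeVal.isClosedMap Z
      (isClosed_of_mem_irreducibleComponents Z hZ),
    hZ.1.image _ continuous_subtype_val.continuousOn, ?_⟩
  intro W hW hWS hZW
  have himg : Subtype.val '' ((Subtype.val : ↥S → T) ⁻¹' W) = W := by
    rw [Subtype.image_preimage_coe]
    exact Set.inter_eq_right.mpr hWS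
  have hW₀ : IsIrreducible ((Subtype.val : ↥S → T) ⁻¹' W) :=
    isIrreducible_of_image_val (himg.symm ▸ hW)
  have hZW₀ : Z ⊆ (Subtype.val : ↥S → T) ⁻¹' W := fun z hz => hZW ⟨z, hz, rfl⟩
  have := hZ.2 hW₀ hZW₀
  rw [← himg]
  exact Set.image_mono this

end top

section dict

variable {T : Type u} [TopologicalSpace T] {A : Type u} [CommRing A] (h : T ≃ₜ PrimeSpectrum A)

theorem image_eq_zeroLocus {W : Set T} (hWc : IsClosed W) :
    h '' W = zeroLocus (vanishingIdeal (h '' W) : Set A) := by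
  rw [zeroLocus_vanishingIdeal_eq_closure, (h.isClosed_image.mpr hWc).closure_eq]

theorem isPrime_vanishingIdeal {W : Set T} (hWi : IsIrreducible W) :
    (vanishingIdeal (h '' W)).IsPrime :=
  isIrreducible_iff_vanishingIdeal_isPrime.mp (hWi.image h h.continuous.continuousOn)

/-- The dimension of a closed subset of `T ≃ Spec A` is the dimension of the quotient by its
vanishing ideal. -/
theorem topologicalKrullDim_eq {W : Set T} (hWc : IsClosed W) :
    topologicalKrullDim ↥W = ringKrullDim (A ⧸ vanishingIdeal (h '' W)) := by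
  set P := vanishingIdeal (h '' W) with hP
  have e1 : ↥W ≃ₜ ↥(h '' W) := h.image W
  have hrange : Set.range (comap (Ideal.Quotient.mk P)) = h '' W := by
    rw [range_comap_of_surjective _ _ Ideal.Quotient.mk_surjective, Ideal.mk_ker,
      ← image_eq_zeroLocus h hWc]
  have e2 : PrimeSpectrum (A ⧸ P) ≃ₜ ↥(Set.range (comap (Ideal.Quotient.mk P))) :=
    (isClosedEmbedding_comap_of_surjective _ _
      Ideal.Quotient.mk_surjective).isEmbedding.toHomeomorph
  have e3 : ↥(Set.range (comap (Ideal.Quotient.mk P))) ≃ₜ ↥(h '' W) := Homeomorph.setCongr hrange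
  rw [← PrimeSpectrum.topologicalKrullDim_eq_ringKrullDim]
  exact IsHomeomorph.topologicalKrullDim_eq _ (e1.trans (e3.symm.trans e2.symm)).isHomeomorph

include h in
/-- Transfer of a ring-level intersection inequality to a space homeomorphic to `Spec A`. -/
theorem dim_le_of_homeomorph (D : ℕ)
    (hdim : ∀ (P Q 𝔭 : Ideal A) [P.IsPrime] [Q.IsPrime], 𝔭 ∈ (P ⊔ Q).minimalPrimes →
      ringKrullDim (A ⧸ P) + ringKrullDim (A ⧸ Q) ≤ ringKrullDim (A ⧸ 𝔭) + D)
    (r s : ℕ) (X Y : Set T) (hX : IsClosed X) (hY : IsClosed Y)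
    (hXr : ∀ Z ∈ irreducibleComponents ↥X, topologicalKrullDim ↥Z = r)
    (hYs : ∀ Z ∈ irreducibleComponents ↥Y, topologicalKrullDim ↥Z = s)
    (Z : Set ↥(X ∩ Y)) (hZ : Z ∈ irreducibleComponents ↥(X ∩ Y)) :
    ((r + s : ℕ) : WithBot ℕ∞) ≤ topologicalKrullDim ↥Z + (D : WithBot ℕ∞) := by
  obtain ⟨hZc, hZi, hZmax⟩ := image_component (hX.inter hY) Z hZ
  have hZX : Subtype.val '' Z ⊆ X := by rintro _ ⟨c, -, rfl⟩; exact c.2.1
  have hZY : Subtype.val '' Z ⊆ Y := by rintro _ ⟨c, -, rfl⟩; exact c.2.2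
  obtain ⟨C₁, hC₁, hZC₁, hC₁c, hC₁i⟩ := exists_component_of_subset hX hZi hZX
  obtain ⟨C₂, hC₂, hZC₂, hC₂c, hC₂i⟩ := exists_component_of_subset hY hZi hZY
  have hX₁X : Subtype.val '' C₁ ⊆ X := by rintro _ ⟨c, -, rfl⟩; exact c.2
  have hY₁Y : Subtype.val '' C₂ ⊆ Y := by rintro _ ⟨c, -, rfl⟩; exact c.2
  set P := vanishingIdeal (h '' (Subtype.val '' C₁)) with hP
  set Q := vanishingIdeal (h '' (Subtype.val '' C₂)) with hQ
  set 𝔭 := vanishingIdeal (h '' (Subtype.val '' Z)) with h𝔭
  haveI hPp : P.IsPrime := isPrime_vanishingIdeal h hC₁i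
  haveI hQp : Q.IsPrime := isPrime_vanishingIdeal h hC₂i
  haveI h𝔭p : 𝔭.IsPrime := isPrime_vanishingIdeal h hZi
  have hP𝔭 : P ≤ 𝔭 := vanishingIdeal_anti_mono (Set.image_mono hZC₁)
  have hQ𝔭 : Q ≤ 𝔭 := vanishingIdeal_anti_mono (Set.image_mono hZC₂)
  have hmin : 𝔭 ∈ (P ⊔ Q).minimalPrimes := by
    refine ⟨⟨h𝔭p, sup_le hP𝔭 hQ𝔭⟩, ?_⟩
    rintro 𝔯 ⟨h𝔯p, h𝔯le⟩ h𝔯𝔭
    set W := h ⁻¹' (zeroLocus (𝔯 : Set A)) with hW
    have hWimg : h '' W = zeroLocus (𝔯 : Set A) := h.image_preimage _
    have hWi : IsIrreducible W := by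
      have h1 : IsIrreducible (zeroLocus (𝔯 : Set A)) :=
        (isIrreducible_zeroLocus_iff_of_radical 𝔯 h𝔯p.isRadical).mpr h𝔯p
      have h2 : W = h.symm '' (zeroLocus (𝔯 : Set A)) := (h.symm.image_eq_preimage_symm _).symm
      rw [h2]
      exact h1.image h.symm h.symm.continuous.continuousOn
    have hsub : ∀ (V : Set T), IsClosed V → vanishingIdeal (h '' V) ≤ 𝔯 → W ⊆ V := by
      intro V hV hle x hx
      have h1 : h x ∈ zeroLocus (vanishingIdeal (h '' V) : Set A) :=
        zeroLocus_anti_mono hle hx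
      rw [← image_eq_zeroLocus h hV] at h1
      obtain ⟨x', hx', hxx'⟩ := h1
      rwa [← h.injective hxx']
    have hWX : W ⊆ Subtype.val '' C₁ := hsub _ hC₁c (le_sup_left.trans h𝔯le)
    have hWY : W ⊆ Subtype.val '' C₂ := hsub _ hC₂c (le_sup_right.trans h𝔯le)
    have hZW : Subtype.val '' Z ⊆ W := by
      intro x hx
      change h x ∈ zeroLocus (𝔯 : Set A)
      have h1 : h x ∈ zeroLocus (𝔭 : Set A) := by
        rw [h𝔭, ← image_eq_zeroLocus h hZc]
        exact ⟨x, hx, rfl⟩
      exact zeroLocus_anti_mono h𝔯𝔭 h1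
    have hWZ := hZmax W hWi (fun x hx => ⟨hX₁X (hWX hx), hY₁Y (hWY hx)⟩) hZW
    calc 𝔭 ≤ vanishingIdeal (h '' W) := vanishingIdeal_anti_mono (Set.image_mono hWZ)
      _ = vanishingIdeal (zeroLocus (𝔯 : Set A)) := by rw [hWimg]
      _ = 𝔯.radical := vanishingIdeal_zeroLocus_eq_radical 𝔯
      _ = 𝔯 := h𝔯p.isRadical.radical
  have key := hdim P Q 𝔭 hmin
  rw [← topologicalKrullDim_eq h hC₁c, ← topologicalKrullDim_eq h hC₂c,
    ← topologicalKrullDim_eq h hZc, topologicalKrullDim_image_val, topologicalKrullDim_image_val,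
    topologicalKrullDim_image_val, hXr C₁ hC₁, hYs C₂ hC₂] at key
  exact_mod_cast key

end dict

end Groth.Agent.Lib.H8AffTop
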