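import Mathlib

/-!
# Extending isomorphisms of subfields to automorphisms of a big algebraically closed field (helper8)

* `exists_algEquiv_of_trdeg_eq` : algebraically closed extensions of `k` with the same transcendence
  degree are `k`-isomorphic.
* `exists_algClosed_aut` : for two ring homs `σ τ : k →+* K` of fields there are an algebraically
  closed field `Ω ⊇ K` and an automorphism `β` of `Ω` with `β ∘ τ = σ` on `k`.
-/

set_option autoImplicit false
universe u

open Cardinal

namespace Groth.Agent.Lib.H8AlgClosedExt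

theorem exists_algEquiv_of_trdeg_eq (k : Type u) [Field k] (L M : Type u) [Field L] [Field M]
    [Algebra k L] [Algebra k M] [IsAlgClosed L] [IsAlgClosed M]
    (h : Algebra.trdeg k L = Algebra.trdeg k M) : Nonempty (L ≃ₐ[k] M) := by
  obtain ⟨s, hs⟩ := exists_isTranscendenceBasis k L
  obtain ⟨t, ht⟩ := exists_isTranscendenceBasis k M
  have hcard : #s = #t := by
    rw [hs.cardinalMk_eq_trdeg, ht.cardinalMk_eq_trdeg, h]
  obtain ⟨e⟩ := Cardinal.eq.mp hcard
  letI := IsAlgClosed.isAlgClosure_of_transcendence_basis (Subtype.val : s → L) hs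
  letI := IsAlgClosed.isAlgClosure_of_transcendence_basis (Subtype.val : t → M) ht
  let e' : Algebra.adjoin k (Set.range (Subtype.val : s → L)) ≃ₐ[k]
      Algebra.adjoin k (Set.range (Subtype.val : t → M)) :=
    (hs.1.aevalEquiv.symm.trans (MvPolynomial.renameEquiv k e)).trans ht.1.aevalEquiv
  let E : L ≃+* M := IsAlgClosure.equivOfEquiv L M e'.toRingEquiv
  refine ⟨{ E with commutes' := fun c => ?_ }⟩
  have h1 : algebraMap k L c = algebraMap (Algebra.adjoin k (Set.range (Subtype.val : s → L))) L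
      (algebraMap k _ c) := rfl
  have h2 : algebraMap k M c = algebraMap (Algebra.adjoin k (Set.range (Subtype.val : t → M))) M
      (algebraMap k _ c) := rfl
  show E (algebraMap k L c) = algebraMap k M c
  rw [h1, h2, IsAlgClosure.equivOfEquiv_algebraMap]
  congr 1
  exact e'.commutes c

theorem trdeg_comp_eq {k K Ω : Type u} [Field k] [Field K] [Field Ω] [Algebra K Ω] (φ : k →+* K)
    (h1 : ℵ₀ ≤ Algebra.trdeg K Ω) (h2 : #K ≤ Algebra.trdeg K Ω) :
    letI := ((algebraMap K Ω).comp φ).toAlgebra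
    Algebra.trdeg k Ω = Algebra.trdeg K Ω := by
  letI := φ.toAlgebra
  letI : Algebra k Ω := ((algebraMap K Ω).comp φ).toAlgebra
  haveI : IsScalarTower k K Ω := IsScalarTower.of_algebraMap_eq (fun _ => rfl)
  have h := _root_.trdeg_add_eq k K (A := Ω)
  rw [← h]
  have h3 : Algebra.trdeg k K ≤ #K := by
    obtain ⟨s, hs⟩ := exists_isTranscendenceBasis k K
    rw [← hs.cardinalMk_eq_trdeg]
    exact Cardinal.mk_set_le s
  exact Cardinal.add_eq_right h1 (h3.trans h2)

/-- a big algebraically closed extension -/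
theorem exists_big_algClosed (K : Type u) [Field K] :
    ∃ (Ω : Type u) (_ : Field Ω) (_ : IsAlgClosed Ω) (_ : Algebra K Ω),
      ℵ₀ ≤ Algebra.trdeg K Ω ∧ #K ≤ Algebra.trdeg K Ω := by
  let I : Type u := K ⊕ ULift.{u} ℕ
  let F := FractionRing (MvPolynomial I K)
  let Ω := AlgebraicClosure F
  refine ⟨Ω, inferInstance, inferInstance, inferInstance, ?_⟩
  have hinj : Function.Injective (algebraMap (MvPolynomial I K) Ω) := by
    rw [IsScalarTower.algebraMap_eq (MvPolynomial I K) F Ω]
    exact (algebraMap F Ω).injective.comp (IsFractionRing.injective (MvPolynomial I K) F)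
  have hind : AlgebraicIndependent K (fun i : I => algebraMap (MvPolynomial I K) Ω (MvPolynomial.X i)) := by
    have h0 := MvPolynomial.algebraicIndependent_X I K
    exact h0.map' (f := IsScalarTower.toAlgHom K (MvPolynomial I K) Ω) hinj
  have hle : #I ≤ Algebra.trdeg K Ω := hind.cardinalMk_le_trdeg
  have hI : #I = #K + ℵ₀ := by simp [I]
  rw [hI] at hle
  exact ⟨(self_le_add_left _ _).trans hle, (self_le_add_right _ _).trans hle⟩

/-- two embeddings of `k` into `K` become conjugate under an automorphism of a big algebraically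
closed extension of `K` -/
theorem exists_algClosed_aut {k K : Type u} [Field k] [Field K] (σ τ : k →+* K) :
    ∃ (Ω : Type u) (_ : Field Ω) (_ : IsAlgClosed Ω) (ι : K →+* Ω) (β : Ω ≃+* Ω),
      ∀ c, β (ι (τ c)) = ι (σ c) := by
  obtain ⟨Ω, _, _, _, h1, h2⟩ := exists_big_algClosed K
  refine ⟨Ω, inferInstance, inferInstance, algebraMap K Ω, ?_⟩
  have hτ := trdeg_comp_eq (Ω := Ω) τ h1 h2
  have hσ := trdeg_comp_eq (Ω := Ω) σ h1 h2
  obtain ⟨E⟩ := @exists_algEquiv_of_trdeg_eq k _ Ω Ω _ _
    ((algebraMap K Ω).comp τ).toAlgebra ((algebraMap K Ω).comp σ).toAlgebra _ _ (hτ.trans hσ.symm)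
  refine ⟨@AlgEquiv.toRingEquiv k Ω Ω _ _ _ ((algebraMap K Ω).comp τ).toAlgebra
    ((algebraMap K Ω).comp σ).toAlgebra E, fun c => ?_⟩
  exact @AlgEquiv.commutes k Ω Ω _ _ _ ((algebraMap K Ω).comp τ).toAlgebra
    ((algebraMap K Ω).comp σ).toAlgebra E c

end Groth.Agent.Lib.H8AlgClosedExt
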