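import Mathlib

/-!
# Chase–Harrison–Rosenberg: free finite group actions give étale quotients (helper8)

`G` a finite group acting on a commutative ring `R` by `B`-algebra automorphisms, `B → R`
injective with image the invariants.  If `b : B` maps to `f ∈ R` lying in every ideal
`I_g = (g x - x)`, `g ≠ 1`, then `R_f` is flat and formally unramified over `B`.
-/

set_option autoImplicit false
universe u v w
open scoped TensorProduct

namespace Groth.Agent.Lib.H8CHR

variable {B : Type v} {R : Type v} {G : Type w} [CommRing B] [CommRing R] [Algebra B R]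
  [Group G] [MulSemiringAction G R] [SMulCommClass G B R]

variable (B) in
/-- `a ⊗ y ↦ a * g y` -/
noncomputable def mu (g : G) : R ⊗[B] R →ₐ[B] R :=
  Algebra.TensorProduct.productMap (AlgHom.id B R) (MulSemiringAction.toAlgHom B R g)

@[simp] theorem mu_tmul (g : G) (a y : R) : mu B g (a ⊗ₜ[B] y) = a * g • y := by
  simp [mu]

variable (R) in
/-- the ideal generated by the `g x - x` -/
def Ig (g : G) : Ideal R := Ideal.span (Set.range fun x : R => g • x - x)

/-- elements `r` such that some tensor has `mu 1 = r` and `mu g = 0` form an ideal containing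
`I_g` -/
theorem exists_tensor_of_mem_Ig (g : G) {r : R} (hr : r ∈ Ig R g) :
    ∃ e : R ⊗[B] R, mu B (1 : G) e = r ∧ mu B g e = 0 := by
  unfold Ig at hr
  induction hr using Submodule.span_induction with
  | mem x hx =>
    obtain ⟨x, rfl⟩ := hx
    refine ⟨(g • x) ⊗ₜ[B] 1 - 1 ⊗ₜ[B] x, ?_, ?_⟩
    · simp [one_smul]
    · simp
  | zero => exact ⟨0, by simp, by simp⟩
  | add x y _ _ hx hy =>
    obtain ⟨e₁, h₁, h₁'⟩ := hx
    obtain ⟨e₂, h₂, h₂'⟩ := hy
    exact ⟨e₁ + e₂, by rw [map_add, h₁, h₂], by rw [map_add, h₁', h₂', add_zero]⟩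
  | smul c x _ hx =>
    obtain ⟨e, h, h'⟩ := hx
    refine ⟨(c ⊗ₜ[B] 1) * e, ?_, ?_⟩
    · rw [map_mul, h]; simp [one_smul]
    · rw [map_mul, h', mul_zero]

/-- **The Galois element.** If `f` lies in all `I_g`, `g ≠ 1`, there is a tensor `e` with
`mu 1 e = f ^ N` and `mu g e = 0` for `g ≠ 1`. -/
theorem exists_galois_elt [Finite G] (f : R) (hf : ∀ g : G, g ≠ 1 → f ∈ Ig R g) :
    ∃ (e : R ⊗[B] R) (N : ℕ), mu B (1 : G) e = f ^ N ∧ ∀ g : G, g ≠ 1 → mu B g e = 0 := by
  classical
  cases nonempty_fintype G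
  have h : ∀ g : G, ∃ e : R ⊗[B] R, g ≠ 1 → (mu B (1 : G) e = f ∧ mu B g e = 0) := by
    intro g
    by_cases hg : g = 1
    · exact ⟨0, fun h => absurd hg h⟩
    · obtain ⟨e, h1, h2⟩ := exists_tensor_of_mem_Ig (B := B) g (hf g hg)
      exact ⟨e, fun _ => ⟨h1, h2⟩⟩
  choose e he using h
  refine ⟨∏ g ∈ Finset.univ.erase (1 : G), e g, (Finset.univ.erase (1 : G)).card, ?_, ?_⟩
  · rw [map_prod, ← Finset.prod_const]
    refine Finset.prod_congr rfl fun g hg => ?_
    exact (he g (Finset.ne_of_mem_erase hg)).1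
  · intro g hg
    rw [map_prod]
    exact Finset.prod_eq_zero (Finset.mem_erase.mpr ⟨hg, Finset.mem_univ g⟩) (he g hg).2

section Trace

variable [Fintype G] [Algebra.IsInvariant B R G]

theorem exists_tr (r : R) : ∃ a : B, algebraMap B R a = ∑ g : G, g • r := by
  refine Algebra.IsInvariant.isInvariant (A := B) (G := G) (∑ g : G, g • r) fun h => ?_
  rw [Finset.smul_sum]
  refine Fintype.sum_equiv (Equiv.mulLeft h) _ _ fun g => ?_
  simp [mul_smul]

variable (B G) in
/-- the trace as a function to `B` -/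
noncomputable def trFun (r : R) : B := (exists_tr (B := B) (G := G) r).choose

theorem algebraMap_trFun (r : R) : algebraMap B R (trFun B G r) = ∑ g : G, g • r :=
  (exists_tr (B := B) (G := G) r).choose_spec

variable (G) in
/-- the trace `R → B` -/
noncomputable def tr (hinj : Function.Injective (algebraMap B R)) : R →ₗ[B] B where
  toFun := trFun B G
  map_add' x y := by
    apply hinj
    rw [map_add, algebraMap_trFun, algebraMap_trFun, algebraMap_trFun, ← Finset.sum_add_distrib]
    simp [smul_add]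
  map_smul' c x := by
    apply hinj
    rw [RingHom.id_apply, smul_eq_mul, map_mul, algebraMap_trFun, algebraMap_trFun,
      Finset.mul_sum]
    refine Finset.sum_congr rfl fun g _ => ?_
    rw [smul_comm, Algebra.smul_def]

theorem algebraMap_tr (hinj : Function.Injective (algebraMap B R)) (r : R) :
    algebraMap B R (tr G hinj r) = ∑ g : G, g • r := algebraMap_trFun r

/-- the dual-basis identity `c r = ∑ x_p tr(y_p r)` -/
theorem key_identity (hinj : Function.Injective (algebraMap B R)) {e : R ⊗[B] R} {c : R}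
    (h1 : mu B (1 : G) e = c) (hg : ∀ g : G, g ≠ 1 → mu B g e = 0)
    {S : Finset (R × R)} (hS : e = ∑ p ∈ S, p.1 ⊗ₜ[B] p.2) (r : R) :
    c * r = ∑ p ∈ S, p.1 * algebraMap B R (tr G hinj (p.2 * r)) := by
  classical
  have hmu : ∀ g : G, mu B g e = ∑ p ∈ S, p.1 * g • p.2 := by
    intro g
    rw [hS, map_sum]
    simp
  calc c * r = ∑ g : G, mu B g e * g • r := by
        rw [Finset.sum_eq_single (1 : G)]
        · rw [h1, one_smul]
        · intro g _ hg1
          rw [hg g hg1, zero_mul]
        · intro h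
          exact absurd (Finset.mem_univ _) h
    _ = ∑ g : G, ∑ p ∈ S, p.1 * g • (p.2 * r) := by
        refine Finset.sum_congr rfl fun g _ => ?_
        rw [hmu g, Finset.sum_mul]
        refine Finset.sum_congr rfl fun p _ => ?_
        rw [smul_mul', mul_assoc]
    _ = ∑ p ∈ S, p.1 * algebraMap B R (tr G hinj (p.2 * r)) := by
        rw [Finset.sum_comm]
        refine Finset.sum_congr rfl fun p _ => ?_
        rw [algebraMap_tr, Finset.mul_sum]

/-- tensors killed by all `mu g` are killed by `1 ⊗ c` -/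
theorem one_tmul_mul_eq_zero (hinj : Function.Injective (algebraMap B R)) {e : R ⊗[B] R} {c : R}
    (h1 : mu B (1 : G) e = c) (hg : ∀ g : G, g ≠ 1 → mu B g e = 0)
    (z : R ⊗[B] R) (hz : ∀ g : G, mu B g z = 0) : ((1 : R) ⊗ₜ[B] c) * z = 0 := by
  classical
  obtain ⟨S, hS⟩ := TensorProduct.exists_finset e
  have key : ∀ z : R ⊗[B] R, ((1 : R) ⊗ₜ[B] c) * z =
      ∑ p ∈ S, (∑ g : G, g • p.2 * mu B g z) ⊗ₜ[B] p.1 := by
    intro z
    induction z using TensorProduct.induction_on with
    | zero => simp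
    | tmul a r =>
      rw [Algebra.TensorProduct.tmul_mul_tmul, one_mul, key_identity hinj h1 hg hS r,
        TensorProduct.tmul_sum]
      refine Finset.sum_congr rfl fun p _ => ?_
      rw [mul_comm p.1, ← Algebra.smul_def, TensorProduct.tmul_smul, TensorProduct.smul_tmul',
        Algebra.smul_def, algebraMap_tr, Finset.sum_mul]
      congr 1
      refine Finset.sum_congr rfl fun g _ => ?_
      rw [mu_tmul, smul_mul']
      ring
    | add x y hx hy =>
      rw [mul_add, hx, hy, ← Finset.sum_add_distrib]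
      refine Finset.sum_congr rfl fun p _ => ?_
      rw [← TensorProduct.add_tmul, ← Finset.sum_add_distrib]
      congr 1
      refine Finset.sum_congr rfl fun g _ => ?_
      rw [map_add, mul_add]
  rw [key z]
  refine Finset.sum_eq_zero fun p _ => ?_
  rw [Finset.sum_eq_zero (fun g _ => by rw [hz g, mul_zero]), TensorProduct.zero_tmul]

end Trace

section Away

variable [Finite G] [Algebra.IsInvariant B R G]

/-- `R[1/f]` is a retract of a free `B[1/b]`-module, hence flat over `B`. -/
theorem flat_away (hinj : Function.Injective (algebraMap B R))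
    (b : B) (hb : ∀ g : G, g ≠ 1 → algebraMap B R b ∈ Ig R g)
    (R' : Type v) [CommRing R'] [Algebra R R'] [Algebra B R'] [IsScalarTower B R R']
    [IsLocalization.Away (algebraMap B R b) R'] : Module.Flat B R' := by
  classical
  cases nonempty_fintype G
  obtain ⟨e, N, h1, hg⟩ := exists_galois_elt (B := B) (algebraMap B R b) hb
  obtain ⟨S, hS⟩ := TensorProduct.exists_finset e
  let B' := Localization.Away b
  have hloc : IsLocalization (Algebra.algebraMapSubmonoid R (Submonoid.powers b)) R' := by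
    have : Algebra.algebraMapSubmonoid R (Submonoid.powers b) =
        Submonoid.powers (algebraMap B R b) := by
      rw [Algebra.algebraMapSubmonoid, Submonoid.map_powers]
    rw [this]
    infer_instance
  have hu : IsUnit (algebraMap R R' (algebraMap B R b ^ N)) := by
    rw [map_pow]
    exact (IsLocalization.Away.algebraMap_isUnit (algebraMap B R b)).pow N
  let ι : R →ₗ[B] R' := (IsScalarTower.toAlgHom B R R').toLinearMap
  let φ : S → (R' →ₗ[B] B') := fun p =>
    IsLocalizedModule.map (Submonoid.powers b) ι (Algebra.linearMap B B')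
      ((tr G hinj) ∘ₗ (LinearMap.mulLeft B p.1.2))
  have hunitB : ∀ y : Submonoid.powers b, IsUnit (Algebra.ofId B R' y) := by
    rintro ⟨_, k, rfl⟩
    change IsUnit (algebraMap B R' (b ^ k))
    rw [IsScalarTower.algebraMap_apply B R R', map_pow, map_pow]
    exact (IsLocalization.Away.algebraMap_isUnit (algebraMap B R b)).pow k
  let ψ : B' →ₐ[B] R' :=
    IsLocalization.liftAlgHom (M := Submonoid.powers b) (f := Algebra.ofId B R') hunitB
  let i : R' →ₗ[B] (S → B') := LinearMap.pi φ
  let s : (S → B') →ₗ[B] R' :=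
    ∑ p : S, (LinearMap.mulRight B (algebraMap R R' p.1.1 * ↑hu.unit⁻¹)) ∘ₗ ψ.toLinearMap ∘ₗ
      (LinearMap.proj p)
  have hflat : Module.Flat B (S → B') := by
    haveI : Module.Flat B B' := IsLocalization.flat B' (Submonoid.powers b)
    exact Module.Flat.trans B B' (S → B')
  refine Module.Flat.of_retract i s ?_
  refine IsLocalizedModule.ext (Submonoid.powers b) ι (IsLocalizedModule.map_units ι) ?_
  ext r
  simp only [LinearMap.comp_apply, LinearMap.id_apply]
  change s (i (algebraMap R R' r)) = algebraMap R R' r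
  have hi : ∀ p : S, i (algebraMap R R' r) p = algebraMap B B' (tr G hinj (p.1.2 * r)) := by
    intro p
    change φ p (ι r) = _
    rw [IsLocalizedModule.map_apply]
    rfl
  have hs : s (i (algebraMap R R' r)) =
      ∑ p : S, ψ (i (algebraMap R R' r) p) * (algebraMap R R' p.1.1 * ↑hu.unit⁻¹) := by
    simp [s, mul_assoc]
  rw [hs]
  have hψ : ∀ a : B, ψ (algebraMap B B' a) = algebraMap R R' (algebraMap B R a) := by
    intro a
    rw [AlgHom.commutes, IsScalarTower.algebraMap_apply B R R']
  simp only [hi, hψ]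
  have key := key_identity hinj h1 hg hS r
  have : ∑ p : S, algebraMap R R' (algebraMap B R (tr G hinj (p.1.2 * r))) *
      (algebraMap R R' p.1.1 * ↑hu.unit⁻¹) =
      algebraMap R R' (∑ p ∈ S, p.1 * algebraMap B R (tr G hinj (p.2 * r))) * ↑hu.unit⁻¹ := by
    rw [map_sum, Finset.sum_mul, ← Finset.sum_coe_sort S]
    refine Finset.sum_congr rfl fun p _ => ?_
    rw [map_mul (algebraMap R R')]
    ring
  rw [this, ← key, map_mul, mul_comm (algebraMap R R' (algebraMap B R b ^ N)), mul_assoc]
  rw [IsUnit.mul_val_inv hu, mul_one]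

end Away

section Unram

variable [Finite G] [Algebra.IsInvariant B R G]

/-- `R[1/f]` is formally unramified over `B`. -/
theorem formallyUnramified_away (hinj : Function.Injective (algebraMap B R))
    (b : B) (hb : ∀ g : G, g ≠ 1 → algebraMap B R b ∈ Ig R g)
    (R' : Type v) [CommRing R'] [Algebra R R'] [Algebra B R'] [IsScalarTower B R R']
    [IsLocalization.Away (algebraMap B R b) R'] [Algebra.EssFiniteType B R'] :
    Algebra.FormallyUnramified B R' := by
  classical
  cases nonempty_fintype G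
  obtain ⟨e, N, h1, hg⟩ := exists_galois_elt (B := B) (algebraMap B R b) hb
  have hu : IsUnit (algebraMap R R' (algebraMap B R b ^ N)) := by
    rw [map_pow]
    exact (IsLocalization.Away.algebraMap_isUnit (algebraMap B R b)).pow N
  let j : R →ₐ[B] R' := IsScalarTower.toAlgHom B R R'
  let κ : R ⊗[B] R →ₐ[B] R' ⊗[B] R' := Algebra.TensorProduct.map j j
  have hκ : ∀ a y : R, κ (a ⊗ₜ[B] y) = algebraMap R R' a ⊗ₜ[B] algebraMap R R' y := by
    intro a y
    simp [κ, j]
  have hlm : ∀ x : R ⊗[B] R, Algebra.TensorProduct.lmul' B (κ x) = algebraMap R R' (mu B (1 : G) x) := by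
    intro x
    induction x using TensorProduct.induction_on with
    | zero => simp
    | tmul a y => rw [hκ, Algebra.TensorProduct.lmul'_apply_tmul, mu_tmul, one_smul, map_mul]
    | add x y hx hy => rw [map_add, map_add, hx, hy, map_add, map_add]
  -- tensors killed by all `mu g` die in `R' ⊗ R'`
  have hkill : ∀ z : R ⊗[B] R, (∀ g : G, mu B g z = 0) → κ z = 0 := by
    intro z hz
    have h0 := one_tmul_mul_eq_zero hinj h1 hg z hz
    have h2 := congrArg κ h0
    rw [map_mul, hκ, map_zero, map_one] at h2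
    have hunit : IsUnit ((1 : R') ⊗ₜ[B] algebraMap R R' (algebraMap B R b ^ N)) :=
      hu.map (Algebra.TensorProduct.includeRight : R' →ₐ[B] R' ⊗[B] R')
    exact (hunit.mul_right_eq_zero).mp h2
  rw [Algebra.FormallyUnramified.iff_exists_tensorProduct]
  refine ⟨κ e * ((↑hu.unit⁻¹ : R') ⊗ₜ[B] 1), ?_, ?_⟩
  · intro s
    suffices h : ((1 : R') ⊗ₜ[B] s - s ⊗ₜ[B] (1 : R')) * κ e = 0 by
      rw [← mul_assoc, h, zero_mul]
    obtain ⟨k, r, hk⟩ := IsLocalization.Away.surj (algebraMap B R b) s
    have huk : IsUnit (algebraMap R R' (algebraMap B R b) ^ k) :=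
      (IsLocalization.Away.algebraMap_isUnit (algebraMap B R b)).pow k
    have huk' : IsUnit ((algebraMap R R' (algebraMap B R b) ^ k) ⊗ₜ[B] (1 : R')) :=
      huk.map (Algebra.TensorProduct.includeLeft : R' →ₐ[B] R' ⊗[B] R')
    have hbk : algebraMap R R' (algebraMap B R b) ^ k = b ^ k • (1 : R') := by
      rw [Algebra.smul_def, mul_one, IsScalarTower.algebraMap_apply B R R', map_pow, map_pow]
    have hD : ((1 : R') ⊗ₜ[B] s - s ⊗ₜ[B] (1 : R')) *
        ((algebraMap R R' (algebraMap B R b) ^ k) ⊗ₜ[B] (1 : R')) =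
        κ ((1 : R) ⊗ₜ[B] r - r ⊗ₜ[B] (1 : R)) := by
      rw [sub_mul, Algebra.TensorProduct.tmul_mul_tmul, Algebra.TensorProduct.tmul_mul_tmul,
        one_mul, mul_one, mul_one, hk, map_sub, hκ, hκ, map_one]
      congr 1
      rw [hbk, TensorProduct.smul_tmul]
      congr 1
      rw [← hk, hbk, Algebra.smul_def, Algebra.smul_def, mul_one, mul_comm]
    have hz : ∀ g : G, mu B g (((1 : R) ⊗ₜ[B] r - r ⊗ₜ[B] (1 : R)) * e) = 0 := by
      intro g
      rw [map_mul]
      by_cases hg1 : g = 1
      · subst hg1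
        rw [map_sub, mu_tmul, mu_tmul, one_smul, one_smul, one_mul, mul_one, sub_self, zero_mul]
      · rw [hg g hg1, mul_zero]
    have h3 := hkill _ hz
    rw [map_mul, ← hD] at h3
    have h4 : ((algebraMap R R' (algebraMap B R b) ^ k) ⊗ₜ[B] (1 : R')) *
        (((1 : R') ⊗ₜ[B] s - s ⊗ₜ[B] (1 : R')) * κ e) = 0 := by
      rw [← h3]
      ring
    exact (huk'.mul_right_eq_zero).mp h4
  · rw [map_mul, hlm, h1, Algebra.TensorProduct.lmul'_apply_tmul, mul_one]
    exact IsUnit.mul_val_inv hu

end Unram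

section Avoid

open scoped Pointwise

variable [Finite G] [Algebra.IsInvariant B R G]

/-- if `I_g ⊆ h • m` then `h⁻¹ g h` stabilizes `m` -/
theorem conj_mem_stabilizer_of_Ig_le (m : Ideal R) (g h : G) (hle : Ig R g ≤ h • m) :
    h⁻¹ * g * h ∈ MulAction.stabilizer G m := by
  have hsub : ∀ y : R, g • y - y ∈ h • m := fun y => hle (Ideal.subset_span ⟨y, rfl⟩)
  have h1 : ∀ y ∈ h • m, g • y ∈ h • m := by
    intro y hy
    have := (h • m).add_mem (hsub y) hy
    rwa [sub_add_cancel] at this
  have h2 : ∀ y ∈ h • m, g⁻¹ • y ∈ h • m := by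
    intro y hy
    have := (h • m).sub_mem hy (hsub (g⁻¹ • y))
    rwa [smul_inv_smul, sub_sub_cancel] at this
  rw [MulAction.mem_stabilizer_iff]
  apply le_antisymm
  · intro x hx
    rw [Ideal.mem_pointwise_smul_iff_inv_smul_mem] at hx
    have hx' : h • (h⁻¹ * g * h)⁻¹ • x ∈ h • m := Ideal.smul_mem_pointwise_smul _ _ _ hx
    have := h1 _ hx'
    rw [← Ideal.smul_mem_pointwise_smul_iff (a := h)]
    convert this using 1
    rw [smul_smul, smul_smul]
    congr 1
    group
  · intro x hx
    rw [Ideal.mem_pointwise_smul_iff_inv_smul_mem]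
    have hx' : h • x ∈ h • m := Ideal.smul_mem_pointwise_smul _ _ _ hx
    have := h2 _ hx'
    rw [← Ideal.smul_mem_pointwise_smul_iff (a := h)]
    convert this using 1
    rw [smul_smul, smul_smul]
    congr 1
    group

/-- **Invariant element cutting out the free locus.** If the stabilizer of the prime `m` is
trivial, there is `b : B` with `b ∉ m` and `b ∈ I_g` for all `g ≠ 1`. -/
theorem exists_invariant_mem_Ig (m : Ideal R) [m.IsPrime]
    (hstab : MulAction.stabilizer G m = ⊥) :
    ∃ b : B, algebraMap B R b ∉ m ∧ ∀ g : G, g ≠ 1 → algebraMap B R b ∈ Ig R g := by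
  classical
  cases nonempty_fintype G
  let J : Ideal R := ∏ g ∈ Finset.univ.erase (1 : G), Ig R g
  have hJ : ∀ h : G, ¬ J ≤ h • m := by
    intro h hle
    obtain ⟨g, hg, hgle⟩ := (Ideal.IsPrime.prod_le (inferInstance : (h • m).IsPrime)).mp hle
    have := conj_mem_stabilizer_of_Ig_le m g h hgle
    rw [hstab, Subgroup.mem_bot] at this
    have hg1 : g = 1 := by
      have h3 : g * h = h := by
        have := congrArg (fun t => h * t) this
        simpa [mul_assoc] using this
      exact mul_right_cancel (b := h) (by rw [h3, one_mul])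
    exact (Finset.ne_of_mem_erase hg) hg1
  have hav : ¬ ((J : Set R) ⊆ ⋃ h ∈ ((Finset.univ : Finset G) : Set G), ((h • m : Ideal R) : Set R)) := by
    rw [Ideal.subset_union_prime (1 : G) (1 : G) (fun h _ _ _ => inferInstance)]
    rintro ⟨h, -, hle⟩
    exact hJ h hle
  obtain ⟨a, haJ, ha⟩ := Set.not_subset.mp hav
  have ha' : ∀ h : G, a ∉ h • m := by
    intro h hh
    exact ha (Set.mem_iUnion₂.mpr ⟨h, Finset.mem_coe.mpr (Finset.mem_univ h), hh⟩)
  let f : R := ∏ h : G, h • a
  have hfinv : ∀ g : G, g • f = f := by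
    intro g
    change g • ∏ h : G, h • a = ∏ h : G, h • a
    rw [Finset.smul_prod']
    refine Fintype.prod_equiv (Equiv.mulLeft g) _ _ fun h => ?_
    simp [mul_smul]
  obtain ⟨b, hb⟩ := Algebra.IsInvariant.isInvariant (A := B) (G := G) f hfinv
  refine ⟨b, ?_, ?_⟩
  · rw [hb]
    intro hfm
    obtain ⟨h, -, hh⟩ := (Ideal.IsPrime.prod_mem_iff).mp hfm
    apply ha' h⁻¹
    rw [Ideal.mem_inv_pointwise_smul_iff]
    exact hh
  · intro g hg
    rw [hb]
    have hfJ : f ∈ J := by
      have : f = a * ∏ h ∈ Finset.univ.erase (1 : G), h • a := by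
        change ∏ h : G, h • a = _
        rw [← Finset.mul_prod_erase Finset.univ (fun h : G => h • a) (Finset.mem_univ 1), one_smul]
      rw [this]
      exact J.mul_mem_right _ haJ
    exact (Ideal.prod_le_inf.trans (Finset.inf_le (Finset.mem_erase.mpr ⟨hg, Finset.mem_univ g⟩)))
      hfJ

end Avoid

end Groth.Agent.Lib.H8CHR
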