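import Groth.Agent.Lib.H8CM3
import Groth.Agent.S5754

/-!
# Cohen–Macaulay modules, part 7 (helper8): saturated chains of primes

If `M` is a finite Cohen–Macaulay module over a Noetherian local ring, every saturated chain of
primes from an associated prime of `M` to the maximal ideal has length `dim M`.
-/

set_option autoImplicit false
set_option linter.unusedSectionVars false
universe u

namespace Groth.Agent.Lib.H8CM

open RingTheory.Sequence IsLocalRing Pointwise Module Groth.Agent.Lib.DepthBasic
  Groth.Agent.Lib.DepthRees LocCoh

variable {R : Type u} [CommRing R] [IsLocalRing R] [IsNoetherianRing R]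

/-- Saturated chains of primes from an associated prime of a CM module `M` to the maximal ideal
have length `dim M`. -/
theorem length_eq_supportDim_of_saturated_chain (n : ℕ) :
    ∀ (M : Type u) [AddCommGroup M] [Module R M] [Module.Finite R M],
      IsCohenMacaulayModule R M → ∀ f : Fin (n + 1) → PrimeSpectrum R,
      (f 0).asIdeal ∈ associatedPrimes R M → (f (Fin.last n)).asIdeal = maximalIdeal R →
      (∀ i : Fin n, f i.castSucc ⋖ f i.succ) → (n : WithBot ℕ∞) = supportDim R M := by
  induction n with
  | zero =>
    intro M _ _ _ hM f h0 hlast _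
    have h1 := ringKrullDim_quotient_eq_of_isCM hM h0
    rw [← h1]
    have : (f 0).asIdeal = maximalIdeal R := hlast
    rw [this]
    have : ringKrullDim (R ⧸ maximalIdeal R) = 0 := ringKrullDim_eq_zero_of_isField
      ((Ideal.Quotient.maximal_ideal_iff_isField_quotient _).mp inferInstance)
    rw [this]; rfl
  | succ n ih =>
    intro M _ _ _ hM f h0 hlast hsat
    have hnt := nontrivial_of_isCM hM
    have h01 : f 0 ⋖ f 1 := by
      have := hsat 0
      simpa using this
    -- a regular element in `f 1`
    obtain ⟨t, ht1, htreg⟩ := exists_isSMulRegular_mem_of_forall_not_le (M := M) (f 1).asIdeal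
      (by
        intro p hp hle
        have hle0 : (f 0).asIdeal ≤ p := le_trans (le_of_lt h01.lt) hle
        have := eq_of_le_of_mem_associatedPrimes_of_isCM hM h0 hp hle0
        have hlt : (f 0).asIdeal < (f 1).asIdeal := h01.lt
        rw [← this] at hle
        exact absurd hle (not_le_of_gt hlt))
    have ht0 : t ∉ (f 0).asIdeal := by
      intro ht0
      obtain ⟨_, m0, hm0⟩ := isAssociatedPrime_iff.mp h0
      have hm0ne : m0 ≠ 0 := by
        rintro rfl
        apply (f 0).2.ne_top
        rw [hm0, Ideal.eq_top_iff_one, Submodule.mem_colon_singleton]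
        simp
      rw [hm0, Submodule.mem_colon_singleton, Submodule.mem_bot] at ht0
      exact hm0ne (htreg (by simpa using ht0))
    have hle_max : ∀ p : PrimeSpectrum R, p.asIdeal ≤ maximalIdeal R :=
      fun p ↦ IsLocalRing.le_maximalIdeal p.2.ne_top
    have htm : t ∈ maximalIdeal R := hle_max _ ht1
    have hmin : (f 1).asIdeal ∈ ((f 0).asIdeal ⊔ Ideal.span {t}).minimalPrimes := by
      refine ⟨⟨(f 1).2, ?_⟩, ?_⟩
      · rw [sup_le_iff, Ideal.span_le, Set.singleton_subset_iff]
        exact ⟨le_of_lt h01.lt, ht1⟩
      · intro r ⟨hr1, hr2⟩ hr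
        rw [sup_le_iff, Ideal.span_le, Set.singleton_subset_iff] at hr2
        have hr0 : f 0 < ⟨r, hr1⟩ := by
          refine lt_of_le_of_ne hr2.1 ?_
          intro h
          apply ht0
          rw [h]
          exact hr2.2
        by_contra hcon
        have : (⟨r, hr1⟩ : PrimeSpectrum R) < f 1 := lt_of_le_of_ne hr (fun h ↦ hcon (h ▸ le_rfl))
        exact h01.2 hr0 this
    have hass := Groth.Agent.S5754.result R M t htreg _ h0 _ hmin
    have hCM := isCM_quotSMulTop hM htm htreg
    have hdim := supportDim_quotSMulTop_succ_eq_supportDim htreg htm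
    have := ih (QuotSMulTop t M) hCM (fun i ↦ f i.succ) (by simpa using hass)
      (by simpa using hlast) (fun i ↦ by simpa using hsat i.succ)
    rw [← hdim, ← this]
    push_cast
    rfl

end Groth.Agent.Lib.H8CM
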