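import Mathlib

/-!
# Goldman-type lemma (helper8)

`D` a Noetherian domain, `L` a field which is a finitely generated `D`-algebra, `D → L` injective.
Then `L` is algebraic over `D` and `dim D ≤ 1`.
-/

set_option autoImplicit false
universe u

namespace Groth.Agent.Lib.H8Goldman

open Polynomial

section Alg

variable (D L : Type*) [CommRing D] [IsDomain D] [Field L] [Algebra D L]

theorem isAlgebraic_of_finiteType [Algebra.FiniteType D L]
    (hinj : Function.Injective (algebraMap D L)) : Algebra.IsAlgebraic D L := by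
  let K := FractionRing D
  letI : Algebra K L := (IsFractionRing.lift hinj).toAlgebra
  haveI : IsScalarTower D K L :=
    IsScalarTower.of_algebraMap_eq (fun x => (IsFractionRing.lift_algebraMap hinj x).symm)
  haveI : Algebra.FiniteType K L := Algebra.FiniteType.of_restrictScalars_finiteType D K L
  haveI : Module.Finite K L := finite_of_finite_type_of_isJacobsonRing K L
  haveI : Algebra.IsAlgebraic K L := Algebra.IsAlgebraic.of_finite K L
  exact (IsFractionRing.comap_isAlgebraic_iff (A := D) (K := K) (C := L)).mpr inferInstance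

/-- There is a nonzero element of `D` contained in every nonzero prime. -/
theorem exists_mem_all_primes [Algebra.FiniteType D L]
    (hinj : Function.Injective (algebraMap D L)) :
    ∃ y : D, y ≠ 0 ∧ ∀ P : Ideal D, P.IsPrime → P ≠ ⊥ → y ∈ P := by
  classical
  haveI := isAlgebraic_of_finiteType D L hinj
  obtain ⟨s, hs⟩ := (Algebra.FiniteType.out : (⊤ : Subalgebra D L).FG)
  obtain ⟨y, hy0, hy⟩ := Algebra.IsAlgebraic.exists_integral_multiples D s
  refine ⟨y, hy0, ?_⟩
  -- every element of `L` becomes integral after multiplication by a power of `y`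
  have key : ∀ l : L, ∃ N : ℕ, y ^ N • l ∈ integralClosure D L := by
    intro l
    have hl : l ∈ Algebra.adjoin D (s : Set L) := by rw [hs]; trivial
    induction hl using Algebra.adjoin_induction with
    | mem x hx => exact ⟨1, by rw [pow_one]; exact hy x hx⟩
    | algebraMap r => exact ⟨0, by rw [pow_zero, one_smul]; exact (integralClosure D L).algebraMap_mem r⟩
    | add a b _ _ iha ihb =>
      obtain ⟨Na, ha⟩ := iha
      obtain ⟨Nb, hb⟩ := ihb
      refine ⟨Na + Nb, ?_⟩
      have h1 : y ^ (Na + Nb) • (a + b) = y ^ Nb • (y ^ Na • a) + y ^ Na • (y ^ Nb • b) := by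
        simp only [smul_add, smul_smul, pow_add]
        rw [mul_comm (y ^ Nb) (y ^ Na)]
      rw [h1]
      exact add_mem ((integralClosure D L).smul_mem ha _) ((integralClosure D L).smul_mem hb _)
    | mul a b _ _ iha ihb =>
      obtain ⟨Na, ha⟩ := iha
      obtain ⟨Nb, hb⟩ := ihb
      refine ⟨Na + Nb, ?_⟩
      have h1 : y ^ (Na + Nb) • (a * b) = (y ^ Na • a) * (y ^ Nb • b) := by
        rw [smul_mul_smul_comm, pow_add]
      rw [h1]
      exact mul_mem ha hb
  intro P hP hPne
  obtain ⟨p, hpP, hp0⟩ := Submodule.exists_mem_ne_zero_of_ne_bot hPne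
  have hpL : algebraMap D L p ≠ 0 := fun h => hp0 (hinj (by rw [h, map_zero]))
  obtain ⟨N, hN⟩ := key (algebraMap D L p)⁻¹
  let C := integralClosure D L
  let c : C := ⟨y ^ N • (algebraMap D L p)⁻¹, hN⟩
  have hc : algebraMap D C p * c = algebraMap D C (y ^ N) := by
    apply Subtype.ext
    show algebraMap D L p * (y ^ N • (algebraMap D L p)⁻¹) = algebraMap D L (y ^ N)
    rw [mul_smul_comm, mul_inv_cancel₀ hpL, Algebra.smul_def, mul_one]
  have hker : RingHom.ker (algebraMap D C) ≤ P := by
    intro x hx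
    rw [RingHom.mem_ker] at hx
    have h1 : algebraMap D L x = 0 := by
      have := congrArg (Subtype.val) hx
      exact this
    have : x = 0 := hinj (by rw [h1, map_zero])
    rw [this]
    exact zero_mem _
  obtain ⟨Q, -, hQ, hQP⟩ := Ideal.exists_ideal_over_prime_of_isIntegral P (⊥ : Ideal C)
    (by
      intro x hx
      apply hker
      rw [RingHom.mem_ker]
      exact hx)
  have h1 : algebraMap D C p ∈ Q := by
    have : p ∈ Q.comap (algebraMap D C) := by rw [hQP]; exact hpP
    exact this
  have h2 : algebraMap D C (y ^ N) ∈ Q := by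
    rw [← hc]
    exact Q.mul_mem_right _ h1
  have h3 : y ^ N ∈ P := by
    rw [← hQP]
    exact h2
  exact hP.mem_of_pow_mem N h3

end Alg

section PIT

variable (D : Type*) [CommRing D] [IsDomain D] [IsNoetherianRing D]

/-- A Noetherian domain in which some nonzero element lies in every nonzero prime has dimension
at most one. -/
theorem ringKrullDim_le_one_of_mem_all_primes (y : D) (hy0 : y ≠ 0)
    (hy : ∀ P : Ideal D, P.IsPrime → P ≠ ⊥ → y ∈ P) : ringKrullDim D ≤ 1 := by
  classical
  rw [ringKrullDim_le_iff_height_le]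
  intro P hP
  by_cases hPb : P = ⊥
  · rw [hPb, Ideal.height_bot]
    exact zero_le_one
  have hfin : (Ideal.span {y}).minimalPrimes.Finite :=
    Ideal.finite_minimalPrimes_of_isNoetherianRing D _
  have hM1 : ∀ Q ∈ (Ideal.span {y}).minimalPrimes, Q.height ≤ 1 := fun Q hQ =>
    Ideal.height_le_one_of_isPrincipal_of_mem_minimalPrimes _ Q hQ
  have hsub : (P : Set D) ⊆ ⋃ Q ∈ (hfin.toFinset : Set (Ideal D)), (Q : Set D) := by
    by_contra hcon
    rw [Set.not_subset] at hcon
    obtain ⟨h, hhP, hh⟩ := hcon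
    simp only [Set.mem_iUnion, not_exists] at hh
    have hh0 : h ≠ 0 := by
      rintro rfl
      obtain ⟨Q, hQ, -⟩ := Ideal.exists_minimalPrimes_le
        (show Ideal.span {y} ≤ P from (Ideal.span_singleton_le_iff_mem _).mpr (hy P hP hPb))
      exact hh Q (by simpa using hQ) (zero_mem Q)
    obtain ⟨Q', hQ', hQ'P⟩ := Ideal.exists_minimalPrimes_le
      (show Ideal.span {h} ≤ P from (Ideal.span_singleton_le_iff_mem _).mpr hhP)
    haveI : Q'.IsPrime := hQ'.1.1
    have hQ'1 : Q'.height ≤ 1 :=
      Ideal.height_le_one_of_isPrincipal_of_mem_minimalPrimes _ Q' hQ'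
    have hhQ' : h ∈ Q' := hQ'.1.2 (Ideal.mem_span_singleton_self h)
    have hQ'ne : Q' ≠ ⊥ := by
      rintro rfl
      exact hh0 (by simpa using hhQ')
    have hyQ' : y ∈ Q' := hy Q' inferInstance hQ'ne
    obtain ⟨Q, hQ, hQQ'⟩ := Ideal.exists_minimalPrimes_le
      (show Ideal.span {y} ≤ Q' from (Ideal.span_singleton_le_iff_mem _).mpr hyQ')
    haveI : Q.IsPrime := hQ.1.1
    have hyQ : y ∈ Q := hQ.1.2 (Ideal.mem_span_singleton_self y)
    have hQne : Q ≠ ⊥ := by
      rintro rfl
      exact hy0 (by simpa using hyQ)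
    have hQQ : Q = Q' := by
      by_contra hne
      have hlt : Q < Q' := lt_of_le_of_ne hQQ' hne
      have h1 := Ideal.height_add_one_le_of_lt_of_isPrime hlt
      have h2 : 1 ≤ Q.height := by
        rw [Order.one_le_iff_ne_zero, ne_eq, Ideal.height_eq_zero_iff_eq_bot]
        exact hQne
      have h3 : (2 : ℕ∞) ≤ Q'.height := by
        calc (2 : ℕ∞) = 1 + 1 := by norm_num
          _ ≤ Q.height + 1 := by gcongr
          _ ≤ Q'.height := h1
      have := h3.trans hQ'1
      norm_num at this
    exact hh Q (by simpa using hQ) (hQQ ▸ hhQ')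
  obtain ⟨Q, hQ, hPQ⟩ := (Ideal.subset_union_prime (s := hfin.toFinset) (f := fun Q => Q)
    ⊥ ⊥ (fun Q hQ _ _ => by
      have : Q ∈ (Ideal.span {y}).minimalPrimes := by simpa using hQ
      exact this.1.1)).mp hsub
  have hQ' : Q ∈ (Ideal.span {y}).minimalPrimes := by simpa using hQ
  calc ((P.height : ℕ∞) : WithBot ℕ∞) ≤ Q.height := by exact_mod_cast Ideal.height_mono hPQ
    _ ≤ 1 := by exact_mod_cast hM1 Q hQ'

end PIT

/-- **Goldman-type lemma.** -/
theorem ringKrullDim_le_one (D L : Type*) [CommRing D] [IsDomain D] [IsNoetherianRing D] [Field L]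
    [Algebra D L] [Algebra.FiniteType D L] (hinj : Function.Injective (algebraMap D L)) :
    ringKrullDim D ≤ 1 := by
  obtain ⟨y, hy0, hy⟩ := exists_mem_all_primes D L hinj
  exact ringKrullDim_le_one_of_mem_all_primes D y hy0 hy

end Groth.Agent.Lib.H8Goldman
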