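import Mathlib
import Groth.Agent.Lib.H8Goldman
import Groth.Agent.Lib.H30DimRel

/-!
# Closed points of schemes locally of finite type over a Noetherian ring (helper8)

For `f : X ⟶ Spec A` locally of finite type with `A` Noetherian and `z` a closed point of `X`:
`dim A/f(z) ≤ 1` and `κ(z)` is algebraic over `κ(f z)`.
-/

set_option autoImplicit false
universe u
open CategoryTheory AlgebraicGeometry

namespace Groth.Agent.Lib.H8ClosedPtDim

open Groth.Agent.Lib.H30DimRel

theorem closed_point (A : Type u) [CommRing A] [IsNoetherianRing A] {X : Scheme.{u}}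
    (f : X ⟶ Spec (CommRingCat.of A)) [LocallyOfFiniteType f] (z : X)
    (hz : IsClosed ({z} : Set X)) :
    ringKrullDim (A ⧸ (f z).asIdeal) ≤ 1 ∧ rt f z = 0 := by
  haveI hci : IsClosedImmersion (X.fromSpecResidueField z) :=
    isClosed_singleton_iff_isClosedImmersion.mp hz
  let g : Spec (X.residueField z) ⟶ Spec (CommRingCat.of A) := X.fromSpecResidueField z ≫ f
  haveI : LocallyOfFiniteType g := inferInstanceAs (LocallyOfFiniteType (X.fromSpecResidueField z ≫ f))
  let χ : CommRingCat.of A ⟶ X.residueField z := Spec.preimage g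
  have hχg : Spec.map χ = g := Spec.map_preimage g
  have hχ : χ.hom.FiniteType := by
    rw [← HasRingHomProperty.Spec_iff (P := @LocallyOfFiniteType), hχg]
    infer_instance
  -- the kernel
  let pt : Spec (X.residueField z) := ⟨⊥, Ideal.bot_prime⟩
  have hpt : (Spec.map χ) pt = f z := by
    rw [hχg, Scheme.Hom.comp_apply, Scheme.fromSpecResidueField_apply]
  have hker : RingHom.ker χ.hom = (f z).asIdeal := by
    rw [← hpt]
    rfl
  -- the residue map of `Spec A`
  let ρ : CommRingCat.of A ⟶ (Spec (CommRingCat.of A)).residueField (f z) :=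
    Spec.preimage ((Spec (CommRingCat.of A)).fromSpecResidueField (f z))
  have hρ : Spec.map ρ = (Spec (CommRingCat.of A)).fromSpecResidueField (f z) :=
    Spec.map_preimage _
  have hfac : χ = ρ ≫ f.residueFieldMap z := by
    apply Spec.map_injective
    rw [Spec.map_comp, hρ, hχg, Scheme.Hom.SpecMap_residueFieldMap_fromSpecResidueField]
  haveI : (f z).asIdeal.IsPrime := (f z).isPrime
  -- algebra structures
  let φ : (A ⧸ (f z).asIdeal) →+* X.residueField z :=
    Ideal.Quotient.lift _ χ.hom (fun a ha => by
      rw [← hker] at ha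
      exact ha)
  have hφinj : Function.Injective φ := by
    apply RingHom.lift_injective_of_ker_le_ideal
    intro a ha
    rw [← hker]
    exact ha
  letI : Algebra (A ⧸ (f z).asIdeal) (X.residueField z) := φ.toAlgebra
  letI : Algebra A (X.residueField z) := χ.hom.toAlgebra
  haveI : IsScalarTower A (A ⧸ (f z).asIdeal) (X.residueField z) :=
    IsScalarTower.of_algebraMap_eq (fun a => rfl)
  haveI : Algebra.FiniteType A (X.residueField z) := RingHom.finiteType_algebraMap.mp hχ
  haveI : Algebra.FiniteType (A ⧸ (f z).asIdeal) (X.residueField z) :=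
    Algebra.FiniteType.of_restrictScalars_finiteType A _ _
  refine ⟨Groth.Agent.Lib.H8Goldman.ringKrullDim_le_one _ (X.residueField z) hφinj, ?_⟩
  haveI halg : Algebra.IsAlgebraic (A ⧸ (f z).asIdeal) (X.residueField z) :=
    Groth.Agent.Lib.H8Goldman.isAlgebraic_of_finiteType _ _ hφinj
  -- the tower through `κ(f z)`
  let ψ : (A ⧸ (f z).asIdeal) →+* (Spec (CommRingCat.of A)).residueField (f z) :=
    Ideal.Quotient.lift _ ρ.hom (fun a ha => by
      rw [← hker, RingHom.mem_ker, hfac] at ha
      have h1 : (f.residueFieldMap z).hom (ρ.hom a) = 0 := ha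
      exact (map_eq_zero_iff _ (f.residueFieldMap z).hom.injective).mp h1)
  letI : Algebra (A ⧸ (f z).asIdeal) ((Spec (CommRingCat.of A)).residueField (f z)) :=
    ψ.toAlgebra
  letI : Algebra ((Spec (CommRingCat.of A)).residueField (f z)) (X.residueField z) :=
    (f.residueFieldMap z).hom.toAlgebra
  haveI : IsScalarTower (A ⧸ (f z).asIdeal) ((Spec (CommRingCat.of A)).residueField (f z))
      (X.residueField z) := IsScalarTower.of_algebraMap_eq (fun a => by
    obtain ⟨a, rfl⟩ := Ideal.Quotient.mk_surjective a
    show χ.hom a = (f.residueFieldMap z).hom (ρ.hom a)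
    rw [hfac]
    rfl)
  have hψinj : Function.Injective (algebraMap (A ⧸ (f z).asIdeal)
      ((Spec (CommRingCat.of A)).residueField (f z))) := by
    have h1 : Function.Injective ((f.residueFieldMap z).hom ∘ ψ) := by
      have : ((f.residueFieldMap z).hom ∘ ψ) = φ := by
        funext a
        exact (IsScalarTower.algebraMap_apply (A ⧸ (f z).asIdeal)
          ((Spec (CommRingCat.of A)).residueField (f z)) (X.residueField z) a).symm
      rw [this]
      exact hφinj
    exact Function.Injective.of_comp h1
  haveI : Algebra.IsAlgebraic ((Spec (CommRingCat.of A)).residueField (f z)) (X.residueField z) :=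
    Algebra.IsAlgebraic.extendScalars hψinj
  apply rt_eq_of_trdeg_eq f z 0
  rw [Nat.cast_zero]
  exact _root_.trdeg_eq_zero

end Groth.Agent.Lib.H8ClosedPtDim
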