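import Mathlib
import Groth.Agent.Lib.DeltaZDim
import Groth.Agent.Lib.H30DimRel
import Groth.Agent.Lib.H30IrrFib
import Groth.Agent.S12447
import Groth.Agent.S12459

/-!
# The dimension formula for codimensions of points (helper8)

`Y` locally Noetherian with universally catenary local rings, `f : Y' ⟶ Y` locally of finite type,
`w' ⤳ v'` in `Y'`.  Then `cod w' v' + trdeg κ(v')/κ(f v') = cod (f w') (f v') + trdeg κ(w')/κ(f w')`
(all finite), where `cod` is the codimension of `closure {v'}` in `closure {w'}`.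
-/

set_option autoImplicit false
universe u
open CategoryTheory AlgebraicGeometry

namespace Groth.Agent.Lib.H8CodFormula

open Groth.Agent.Lib.DeltaZ Groth.Agent.Lib.H30DimRel Groth.Agent.Lib.H30IrrFib

theorem cod_eq_of_isDimFn {T : Type u} [TopologicalSpace T] [T0Space T] {δ : T → ℤ}
    (hδ : IsDimFn δ) {w v : T} (h : w ⤳ v) : cod w v = (((δ w - δ v).toNat : ℕ) : ℕ∞) :=
  le_antisymm (cod_le_toNat_sub hδ h) (toNat_sub_le_cod hδ h)

theorem rt_morphismRestrict {Y Y' : Scheme.{u}} (f : Y' ⟶ Y) [LocallyOfFiniteType f]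
    (U : Y.Opens) (x : (f ⁻¹ᵁ U : Scheme.{u})) :
    rt (f ∣_ U) x = rt f x.1 := by
  have h1 := rt_comp (f ∣_ U) U.ι x
  have h2 := rt_comp (f ⁻¹ᵁ U).ι f x
  rw [rt_of_isPreimmersion U.ι] at h1
  rw [rt_of_isPreimmersion (f ⁻¹ᵁ U).ι] at h2
  have h3 : rt (f ∣_ U ≫ U.ι) x = rt ((f ⁻¹ᵁ U).ι ≫ f) x := by
    rw [morphismRestrict_ι]
  rw [h1, h2] at h3
  simpa using h3

theorem cod_formula {Y Y' : Scheme.{u}} [IsLocallyNoetherian Y]
    (hY : ∀ y : Y, CAlg.IsUniversallyCatenary (Y.presheaf.stalk y))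
    (f : Y' ⟶ Y) [LocallyOfFiniteType f] (w' v' : Y') (h : w' ⤳ v') :
    ∃ n n' : ℕ, cod w' v' = (n' : ℕ∞) ∧ cod (f w') (f v') = (n : ℕ∞) ∧
      n' + rt f v' = n + rt f w' := by
  have hcat : PtTop.IsCatenarySpace Y :=
    Groth.Agent.S12459.catenary_of_uc
      (fun V hV => Groth.Agent.S12459.uc_affine_of_stalks hV hY) Y (𝟙 Y) inferInstance
  obtain ⟨U, hsU, δ, hδ⟩ := Groth.Agent.S12447.exists_dim_scheme Y hcat (f v')
  -- the setup on `U`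
  have hS : Cyc.IsSetup (U : Scheme.{u}) δ := by
    refine ⟨inferInstance, fun x => ?_, fun x y hxy hne => ?_⟩
    · exact Groth.Agent.S12459.uc_of_ringEquiv
        (U.stalkIso x).symm.commRingCatIsoToRingEquiv (hY x.1)
    · exact ⟨hδ.1 x y hxy hne, fun himm => hδ.2 x y ⟨hxy, hne, himm⟩⟩
  have hδ' : Cyc.IsDimFun (f ⁻¹ᵁ U : Scheme.{u}) (ind (f ∣_ U) δ) := isDimFun_ind (f ∣_ U) δ hS
  have hv'U : v' ∈ f ⁻¹ᵁ U := hsU
  have hw'U : w' ∈ f ⁻¹ᵁ U := h.mem_open (f ⁻¹ᵁ U).2 hv'U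
  let w'' : (f ⁻¹ᵁ U : Scheme.{u}) := ⟨w', hw'U⟩
  let v'' : (f ⁻¹ᵁ U : Scheme.{u}) := ⟨v', hv'U⟩
  have h'' : w'' ⤳ v'' := (subtype_specializes_iff _ _).mpr h
  have hf'' : (f ∣_ U) w'' ⤳ (f ∣_ U) v'' := h''.map (f ∣_ U).continuous
  -- codimensions via dimension functions
  have hc1 : cod w'' v'' = _ := cod_eq_of_isDimFn (δ := ind (f ∣_ U) δ) hδ' h''
  have hc2 : cod ((f ∣_ U) w'') ((f ∣_ U) v'') = _ :=
    cod_eq_of_isDimFn (T := ↥(U : Scheme.{u})) (δ := δ) hS.2.2 hf''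
  -- transfer to `Y'` and `Y`
  have hc1' : cod w' v' = cod w'' v'' :=
    cod_map_eq (f := (Subtype.val : ↥(f ⁻¹ᵁ U) → Y')) Topology.IsEmbedding.subtypeVal
      (by rw [Subtype.range_coe]; exact (f ⁻¹ᵁ U).2.stableUnderGeneralization) w'' v'' h''
  have hc2' : cod (f w') (f v') = cod ((f ∣_ U) w'') ((f ∣_ U) v'') := by
    have := cod_map_eq (f := (Subtype.val : ↥U → Y)) Topology.IsEmbedding.subtypeVal
      (by rw [Subtype.range_coe]; exact U.2.stableUnderGeneralization)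
      ((f ∣_ U) w'') ((f ∣_ U) v'') hf''
    have e : ∀ x : (f ⁻¹ᵁ U : Scheme.{u}), ((f ∣_ U) x).1 = f x.1 :=
      fun x => morphismRestrict_base_coe f U x
    calc cod (f w') (f v') = cod ((f ∣_ U) w'').1 ((f ∣_ U) v'').1 := by rw [e, e]
      _ = _ := this
  refine ⟨_, _, hc1'.trans hc1, hc2'.trans hc2, ?_⟩
  have e1 : ind (f ∣_ U) δ w'' = δ ((f ∣_ U) w'') + (rt f w' : ℤ) := by
    show δ ((f ∣_ U) w'') + (rt (f ∣_ U) w'' : ℤ) = _
    rw [rt_morphismRestrict]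
  have e2 : ind (f ∣_ U) δ v'' = δ ((f ∣_ U) v'') + (rt f v' : ℤ) := by
    show δ ((f ∣_ U) v'') + (rt (f ∣_ U) v'' : ℤ) = _
    rw [rt_morphismRestrict]
  have m1 : ind (f ∣_ U) δ v'' ≤ ind (f ∣_ U) δ w'' := IsDimFn.mono (δ := ind (f ∣_ U) δ) hδ' h''
  have m2 : δ ((f ∣_ U) v'') ≤ δ ((f ∣_ U) w'') := IsDimFn.mono (δ := δ) hS.2.2 hf''
  omega

end Groth.Agent.Lib.H8CodFormula
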