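import Groth.Agent.S16211
import Mathlib.RingTheory.Smooth.Basic
import Mathlib.RingTheory.FinitePresentation
import Mathlib.Algebra.Algebra.Subalgebra.Basic

/-!
# Smoothness of the coinvariant quotient (helper8)

`B` smooth over `R`, a finite group `G` (order invertible in `R`) acting through `R`-algebra
endomorphisms `a g` (contravariantly: `a (g * h) = (a h).comp (a g)`); then
`B ⧸ (a g b - b)` is smooth over `R`.  Uses S16211 (helper65) for formal smoothness.
-/

set_option autoImplicit false
universe v u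

namespace Groth.Agent.Lib.H8CoinvSmooth

variable {R B : Type u} [CommRing R] [CommRing B] [Algebra R B]
variable {G : Type v} [Group G]

/-- The coinvariant ideal of a family of endomorphisms. -/
def coinvIdeal (a : G → (B →ₐ[R] B)) : Ideal B :=
  Ideal.span {x : B | ∃ (g : G) (b : B), x = a g b - b}

lemma sub_mem_coinvIdeal (a : G → (B →ₐ[R] B)) (g : G) (b : B) : a g b - b ∈ coinvIdeal a :=
  Ideal.subset_span ⟨g, b, rfl⟩

theorem coinvIdeal_fg [Finite G] [Algebra.FiniteType R B] (a : G → (B →ₐ[R] B)) :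
    (coinvIdeal a).FG := by
  classical
  obtain ⟨s, hs⟩ := (Algebra.FiniteType.out : (⊤ : Subalgebra R B).FG)
  set T : Set B := ⋃ g : G, (fun x => a g x - x) '' (s : Set B) with hT
  have hTfin : T.Finite := Set.finite_iUnion fun g => (Finset.finite_toSet s).image _
  have hle : coinvIdeal a ≤ Ideal.span T := by
    refine Ideal.span_le.2 ?_
    rintro _ ⟨g, b, rfl⟩
    have hb : b ∈ Algebra.adjoin R (s : Set B) := by rw [hs]; trivial
    refine Algebra.adjoin_induction (p := fun b _ => a g b - b ∈ Ideal.span T) ?_ ?_ ?_ ?_ hb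
    · intro x hx
      exact Ideal.subset_span (Set.mem_iUnion.2 ⟨g, ⟨x, hx, rfl⟩⟩)
    · intro r
      rw [AlgHom.commutes, sub_self]
      exact Ideal.zero_mem _
    · intro x y _ _ hx hy
      have : a g (x + y) - (x + y) = (a g x - x) + (a g y - y) := by rw [map_add]; ring
      rw [this]
      exact Ideal.add_mem _ hx hy
    · intro x y _ _ hx hy
      have : a g (x * y) - x * y = a g x * (a g y - y) + (a g x - x) * y := by rw [map_mul]; ring
      rw [this]
      exact Ideal.add_mem _ (Ideal.mul_mem_left _ _ hy) (Ideal.mul_mem_right _ _ hx)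
  have hge : Ideal.span T ≤ coinvIdeal a := by
    refine Ideal.span_le.2 ?_
    intro x hx
    obtain ⟨g, hx⟩ := Set.mem_iUnion.1 hx
    obtain ⟨y, -, rfl⟩ := hx
    exact sub_mem_coinvIdeal a g y
  rw [le_antisymm hle hge]
  exact ⟨hTfin.toFinset, by simp⟩

theorem smooth_quotient_coinvIdeal [Finite G] [Algebra.Smooth R B] (a : G → (B →ₐ[R] B))
    (ha1 : a 1 = AlgHom.id R B) (hamul : ∀ g h, a (g * h) = (a h).comp (a g))
    (hG : IsUnit (Nat.card G : R)) :
    Algebra.Smooth R (B ⧸ coinvIdeal a) := by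
  let θ : G →* (B →+* B) :=
    { toFun := fun g => (a g⁻¹ : B →+* B)
      map_one' := by rw [inv_one, ha1]; rfl
      map_mul' := fun g h => by rw [mul_inv_rev, hamul]; rfl }
  letI : MulSemiringAction G B := MulSemiringAction.compHom B θ
  have hsmul : ∀ (g : G) (b : B), g • b = a g⁻¹ b := fun g b => rfl
  haveI : SMulCommClass G R B := ⟨fun g r b => by
    rw [hsmul, hsmul, map_smul]⟩
  have hfs := Groth.Agent.S16211.result R B G hG
  have hI : Ideal.span {x : B | ∃ (g : G) (f : B), x = g • f - f} = coinvIdeal a := by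
    unfold coinvIdeal
    congr 1
    ext x
    constructor
    · rintro ⟨g, f, rfl⟩
      exact ⟨g⁻¹, f, by rw [hsmul]⟩
    · rintro ⟨g, f, rfl⟩
      exact ⟨g⁻¹, f, by rw [hsmul, inv_inv]⟩
  rw [hI] at hfs
  haveI : Algebra.FinitePresentation R (B ⧸ coinvIdeal a) :=
    Algebra.FinitePresentation.quotient (coinvIdeal_fg a)
  exact ⟨hfs, inferInstance⟩

end Groth.Agent.Lib.H8CoinvSmooth
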