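import Mathlib.RingTheory.Ideal.Pointwise
import Mathlib.RingTheory.Ideal.Over
import Mathlib.RingTheory.Invariant.Basic
import Mathlib.GroupTheory.GroupAction.Quotient
import Mathlib.Algebra.BigOperators.GroupWithZero.Action
import Mathlib.RingTheory.Ideal.Operations

/-!
# Trace and norm over the cosets of a subgroup (helper8)

For a group `G` acting on a commutative ring `R` and a subgroup `H` of finite index, the
"relative trace" `tr H y = ∑_{c ∈ G/H} c • y` and "relative norm" `nm H y = ∏_{c ∈ G/H} c • y`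
of an `H`-invariant element `y` are `G`-invariant; congruences modulo a prime whose decomposition
group lies in `H`; existence of auxiliary invariant elements by prime avoidance.
-/

set_option autoImplicit false
open scoped Pointwise

namespace Groth.Agent.Lib.H8CosetTrace

variable {G R : Type*} [Group G] [CommRing R] [MulSemiringAction G R] (H : Subgroup G)

/-- the function on cosets `c ↦ c.out • y` -/
noncomputable def cosetFun (y : R) (c : G ⧸ H) : R := c.out • y

variable {H}

lemma cosetFun_mk {y : R} (hy : ∀ h ∈ H, h • y = y) (g : G) :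
    cosetFun H y (g : G ⧸ H) = g • y := by
  obtain ⟨h, hh⟩ := QuotientGroup.mk_out_eq_mul H g
  unfold cosetFun
  rw [hh, mul_smul, hy h h.2]

lemma smul_cosetFun {y : R} (hy : ∀ h ∈ H, h • y = y) (g : G) (c : G ⧸ H) :
    g • cosetFun H y c = cosetFun H y (g • c) := by
  obtain ⟨a, rfl⟩ := QuotientGroup.mk_surjective c
  rw [cosetFun_mk hy, ← mul_smul, MulAction.Quotient.smul_mk, cosetFun_mk hy, smul_eq_mul]

lemma cosetFun_add (y z : R) (c : G ⧸ H) :
    cosetFun H (y + z) c = cosetFun H y c + cosetFun H z c := smul_add _ _ _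

lemma cosetFun_mul (y z : R) (c : G ⧸ H) :
    cosetFun H (y * z) c = cosetFun H y c * cosetFun H z c := smul_mul' _ _ _

lemma mk_ne_one_iff (g : G) : (g : G ⧸ H) ≠ ((1 : G) : G ⧸ H) ↔ g ∉ H := by
  rw [Ne, QuotientGroup.eq, mul_one, inv_mem_iff]

variable (H) [Fintype (G ⧸ H)]

/-- relative trace -/
noncomputable def tr (y : R) : R := ∑ c : G ⧸ H, cosetFun H y c

/-- relative norm -/
noncomputable def nm (y : R) : R := ∏ c : G ⧸ H, cosetFun H y c

variable {H}

lemma smul_tr {y : R} (hy : ∀ h ∈ H, h • y = y) (g : G) : g • tr H y = tr H y := by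
  unfold tr
  rw [Finset.smul_sum]
  simp_rw [smul_cosetFun hy]
  exact Fintype.sum_equiv (MulAction.toPerm g) _ _ (fun c => rfl)

lemma smul_nm {y : R} (hy : ∀ h ∈ H, h • y = y) (g : G) : g • nm H y = nm H y := by
  unfold nm
  rw [Finset.smul_prod']
  simp_rw [smul_cosetFun hy]
  exact Fintype.prod_equiv (MulAction.toPerm g) _ _ (fun c => rfl)

lemma tr_add (y z : R) : tr H (y + z) = tr H y + tr H z := by
  unfold tr
  simp_rw [cosetFun_add]
  exact Finset.sum_add_distrib

/-- `tr` is linear over the `G`-invariants -/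
lemma tr_mul_of_invariant {b : R} (hb : ∀ g : G, g • b = b) (y : R) :
    tr H (b * y) = b * tr H y := by
  unfold tr
  rw [Finset.mul_sum]
  refine Finset.sum_congr rfl fun c _ => ?_
  rw [cosetFun_mul]
  congr 1
  exact hb _

/-- `tr y ≡ y` modulo an ideal containing all the non-trivial conjugates of `y` -/
lemma tr_sub_self_mem {y : R} (hy : ∀ h ∈ H, h • y = y) (q : Ideal R)
    (hq : ∀ g : G, g ∉ H → g • y ∈ q) : tr H y - y ∈ q := by
  classical
  unfold tr
  rw [← Finset.add_sum_erase Finset.univ _ (Finset.mem_univ ((1 : G) : G ⧸ H)),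
    cosetFun_mk hy, one_smul, add_sub_cancel_left]
  refine Ideal.sum_mem _ fun c hc => ?_
  obtain ⟨g, rfl⟩ := QuotientGroup.mk_surjective c
  rw [cosetFun_mk hy]
  exact hq g ((mk_ne_one_iff g).mp (Finset.ne_of_mem_erase hc))

/-- the cofactor of `y` in `nm y` -/
noncomputable def cof (y : R) : R := by
  classical
  exact ∏ c ∈ (Finset.univ : Finset (G ⧸ H)).erase ((1 : G) : G ⧸ H), cosetFun H y c

lemma mul_cof {y : R} (hy : ∀ h ∈ H, h • y = y) : y * cof (H := H) y = nm H y := by
  classical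
  unfold cof nm
  rw [← Finset.mul_prod_erase Finset.univ _ (Finset.mem_univ ((1 : G) : G ⧸ H)),
    cosetFun_mk hy, one_smul]

lemma smul_cof {y : R} (hy : ∀ h ∈ H, h • y = y) (h : G) (hh : h ∈ H) :
    h • cof (H := H) y = cof (H := H) y := by
  classical
  unfold cof
  rw [Finset.smul_prod']
  simp_rw [smul_cosetFun hy]
  refine Finset.prod_bij (fun c _ => h • c) ?_ ?_ ?_ ?_
  · intro c hc
    rw [Finset.mem_erase] at hc ⊢
    refine ⟨fun hc' => hc.1 ?_, Finset.mem_univ _⟩
    have : c = h⁻¹ • (((1 : G) : G ⧸ H)) := by rw [← hc', inv_smul_smul]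
    rw [this, MulAction.Quotient.smul_mk, QuotientGroup.eq]
    simpa using hh
  · intro c _ c' _ hcc'
    exact (MulAction.injective h) hcc'
  · intro c hc
    refine ⟨h⁻¹ • c, ?_, smul_inv_smul _ _⟩
    rw [Finset.mem_erase] at hc ⊢
    refine ⟨fun hc' => hc.1 ?_, Finset.mem_univ _⟩
    have : c = h • (((1 : G) : G ⧸ H)) := by rw [← hc', smul_inv_smul]
    rw [this, MulAction.Quotient.smul_mk, QuotientGroup.eq]
    simpa using hh
  · intro c _
    rfl

lemma cof_notMem {y : R} (hy : ∀ h ∈ H, h • y = y) (q : Ideal R) [q.IsPrime]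
    (hq : ∀ g : G, g ∉ H → g • y ∉ q) : cof (H := H) y ∉ q := by
  classical
  unfold cof
  rw [Ideal.IsPrime.prod_mem_iff]
  rintro ⟨c, hc, hcq⟩
  obtain ⟨g, rfl⟩ := QuotientGroup.mk_surjective c
  rw [cosetFun_mk hy] at hcq
  exact hq g ((mk_ne_one_iff g).mp (Finset.ne_of_mem_erase hc)) hcq

section Avoid

variable {G R : Type*} [Group G] [Finite G] [CommRing R] [MulSemiringAction G R]
  {H : Subgroup G} (q : Ideal R) [q.IsPrime]

omit [q.IsPrime] in
/-- a conjugate contained in `q` equals `q` -/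
lemma smul_eq_of_smul_le (g : G) (h : g • q ≤ q) : g • q = q := by
  refine le_antisymm h ?_
  obtain ⟨n, hn, hgn⟩ := (isOfFinOrder_of_finite g).exists_pow_eq_one
  have hk : ∀ k : ℕ, g ^ k • q ≤ q := by
    intro k
    induction k with
    | zero => rw [pow_zero, one_smul]
    | succ k ih =>
      rw [pow_succ, mul_smul]
      exact le_trans (Ideal.pointwise_smul_le_pointwise_smul_iff.mpr h) ih
  obtain ⟨m, rfl⟩ := Nat.exists_eq_succ_of_ne_zero hn.ne'
  have h1 := Ideal.pointwise_smul_le_pointwise_smul_iff (a := g).mpr (hk m)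
  rw [← mul_smul, ← pow_succ', hgn, one_smul] at h1
  exact h1

variable (hD : MulAction.stabilizer G q ≤ H)

include hD in
lemma exists_avoid₁ : ∃ a : R, (∀ g : G, g ∉ H → g • a ∈ q) ∧ ∀ h ∈ H, h • a ∉ q := by
  classical
  cases nonempty_fintype G
  by_contra hcon
  push_neg at hcon
  let s : Finset G := Finset.univ.filter (· ∉ H)
  let s' : Finset G := Finset.univ.filter (· ∈ H)
  let f : G → Ideal R := fun g => g⁻¹ • q
  have hsub : ((s.inf f : Ideal R) : Set R) ⊆ ⋃ h ∈ (↑s' : Set G), (f h : Set R) := by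
    intro a ha
    obtain ⟨h, hh, hha⟩ := hcon a (fun g hg => by
      have := (Submodule.mem_finsetInf.mp ha) g (Finset.mem_filter.mpr ⟨Finset.mem_univ _, hg⟩)
      rwa [Ideal.mem_inv_pointwise_smul_iff] at this)
    refine Set.mem_biUnion (x := h) ?_ ?_
    · exact Finset.mem_coe.mpr (Finset.mem_filter.mpr ⟨Finset.mem_univ _, hh⟩)
    · exact Ideal.mem_inv_pointwise_smul_iff.mpr hha
  obtain ⟨h, hh, hle⟩ := (Ideal.subset_union_prime (1 : G) (1 : G)
    (fun i _ _ _ => (inferInstance : (i⁻¹ • q).IsPrime))).mp hsub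
  obtain ⟨g, hg, hgle⟩ := (Ideal.IsPrime.inf_le' (inferInstance : (h⁻¹ • q).IsPrime)).mp hle
  have hhH : h ∈ H := (Finset.mem_filter.mp hh).2
  have hgH : g ∉ H := (Finset.mem_filter.mp hg).2
  have h1 : (h * g⁻¹) • q ≤ q := by
    rw [mul_smul, Ideal.pointwise_smul_subset_iff]
    exact hgle
  have h2 : h * g⁻¹ ∈ MulAction.stabilizer G q := smul_eq_of_smul_le q _ h1
  have h3 := hD h2
  rw [H.mul_mem_cancel_left hhH, inv_mem_iff] at h3
  exact hgH h3

include hD in
lemma exists_avoid₂ : ∃ a : R, a ∈ q ∧ ∀ g : G, g ∉ H → g • a ∉ q := by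
  classical
  cases nonempty_fintype G
  by_contra hcon
  push_neg at hcon
  let s : Finset G := Finset.univ.filter (· ∉ H)
  let f : G → Ideal R := fun g => g⁻¹ • q
  have hsub : ((q : Ideal R) : Set R) ⊆ ⋃ g ∈ (↑s : Set G), (f g : Set R) := by
    intro a ha
    obtain ⟨g, hg, hga⟩ := hcon a ha
    refine Set.mem_biUnion (x := g) ?_ ?_
    · exact Finset.mem_coe.mpr (Finset.mem_filter.mpr ⟨Finset.mem_univ _, hg⟩)
    · exact Ideal.mem_inv_pointwise_smul_iff.mpr hga
  obtain ⟨g, hg, hle⟩ := (Ideal.subset_union_prime (1 : G) (1 : G)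
    (fun i _ _ _ => (inferInstance : (i⁻¹ • q).IsPrime))).mp hsub
  have hgH : g ∉ H := (Finset.mem_filter.mp hg).2
  have h1 : g • q ≤ q := by
    rw [Ideal.pointwise_smul_subset_iff]
    exact hle
  exact hgH (hD (smul_eq_of_smul_le q _ h1 : g ∈ MulAction.stabilizer G q))

include hD in
/-- an `H`-invariant element outside `q` lying in all the conjugates `g⁻¹ q`, `g ∉ H` -/
theorem exists_e : ∃ e : R, (∀ h ∈ H, h • e = e) ∧ e ∉ q ∧ ∀ g : G, g ∉ H → g • e ∈ q := by
  classical
  obtain ⟨a, ha₁, ha₂⟩ := exists_avoid₁ q hD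
  haveI : Fintype H := Fintype.ofFinite H
  refine ⟨∏ h : H, h • a, ?_, ?_, ?_⟩
  · intro h hh
    exact Finset.smul_prod_perm a (⟨h, hh⟩ : H)
  · rw [Ideal.IsPrime.prod_mem_iff]
    rintro ⟨h, -, hha⟩
    exact ha₂ h h.2 hha
  · intro g hg
    rw [Finset.smul_prod', Ideal.IsPrime.prod_mem_iff]
    refine ⟨1, Finset.mem_univ _, ?_⟩
    rw [one_smul]
    exact ha₁ g hg

include hD in
/-- an `H`-invariant element of `q` lying in none of the conjugates `g⁻¹ q`, `g ∉ H` -/
theorem exists_t : ∃ t : R, (∀ h ∈ H, h • t = t) ∧ t ∈ q ∧ ∀ g : G, g ∉ H → g • t ∉ q := by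
  classical
  obtain ⟨a, ha₁, ha₂⟩ := exists_avoid₂ q hD
  haveI : Fintype H := Fintype.ofFinite H
  refine ⟨∏ h : H, h • a, ?_, ?_, ?_⟩
  · intro h hh
    exact Finset.smul_prod_perm a (⟨h, hh⟩ : H)
  · rw [Ideal.IsPrime.prod_mem_iff]
    refine ⟨1, Finset.mem_univ _, ?_⟩
    rw [one_smul]
    exact ha₁
  · intro g hg
    rw [Finset.smul_prod', Ideal.IsPrime.prod_mem_iff]
    rintro ⟨h, -, hha⟩
    have : (g * (h : G)) • a ∈ q := by
      rw [mul_smul]
      exact hha
    refine ha₂ (g * h) (fun hgh => hg ?_) this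
    rwa [H.mul_mem_cancel_right h.2] at hgh

include hD in
/-- every `H`-invariant element is congruent mod `q` to a fraction of `G`-invariants -/
theorem exists_frac_congr (x : R) (hx : ∀ h ∈ H, h • x = x) :
    ∃ b c : R, (∀ g : G, g • b = b) ∧ (∀ g : G, g • c = c) ∧ c ∉ q ∧ c * x - b ∈ q := by
  haveI : Fintype (G ⧸ H) := Fintype.ofFinite _
  obtain ⟨e, he, heq, heg⟩ := exists_e q hD
  have hex : ∀ h ∈ H, h • (e * x) = e * x := fun h hh => by
    rw [smul_mul', he h hh, hx h hh]
  have h1 : tr H e - e ∈ q := tr_sub_self_mem he q heg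
  have h2 : tr H (e * x) - e * x ∈ q := tr_sub_self_mem hex q fun g hg => by
    rw [smul_mul']
    exact Ideal.mul_mem_right _ _ (heg g hg)
  refine ⟨tr H (e * x), tr H e, smul_tr hex, smul_tr he, ?_, ?_⟩
  · intro h
    apply heq
    have := Ideal.sub_mem _ h h1
    rwa [sub_sub_cancel] at this
  · have : tr H e * x - tr H (e * x) = (tr H e - e) * x - (tr H (e * x) - e * x) := by ring
    rw [this]
    exact Ideal.sub_mem _ (Ideal.mul_mem_right _ _ h1) h2

include hD in
/-- every `H`-invariant element of `q` is, up to units at `q` and squares of elements of `q`,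
a fraction with `G`-invariant numerator in `q` -/
theorem exists_norm_eq (x : R) (hx : ∀ h ∈ H, h • x = x) (hxq : x ∈ q) :
    ∃ s b e t : R, (∀ h ∈ H, h • s = s) ∧ (∀ g : G, g • b = b) ∧ (∀ h ∈ H, h • e = e) ∧
      (∀ h ∈ H, h • t = t) ∧ s ∉ q ∧ e ∉ q ∧ t ∈ q ∧ b ∈ q ∧ s * (e * x + t ^ 2) = b := by
  haveI : Fintype (G ⧸ H) := Fintype.ofFinite _
  obtain ⟨e, he, heq, heg⟩ := exists_e q hD
  obtain ⟨t, ht, htq, htg⟩ := exists_t q hD
  set y := e * x + t ^ 2 with hy
  have hyH : ∀ h ∈ H, h • y = y := fun h hh => by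
    rw [hy, smul_add, smul_mul', smul_pow', he h hh, hx h hh, ht h hh]
  have hyq : y ∈ q := Ideal.add_mem _ (Ideal.mul_mem_left _ _ hxq) (Ideal.pow_mem_of_mem _ htq 2 (by norm_num))
  have hyg : ∀ g : G, g ∉ H → g • y ∉ q := by
    intro g hg hgy
    rw [hy, smul_add, smul_mul', smul_pow'] at hgy
    have h1 : (g • t) ^ 2 ∈ q := by
      have := Ideal.sub_mem _ hgy (Ideal.mul_mem_right (g • x) _ (heg g hg))
      rwa [add_sub_cancel_left] at this
    exact htg g hg (Ideal.IsPrime.mem_of_pow_mem inferInstance 2 h1)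
  refine ⟨cof (H := H) y, nm H y, e, t, smul_cof hyH, smul_nm hyH, he, ht,
    cof_notMem hyH q hyg, heq, htq, ?_, ?_⟩
  · rw [← mul_cof hyH]
    exact Ideal.mul_mem_right _ _ hyq
  · rw [mul_comm, mul_cof hyH]

include hD in
/-- a retraction-like map onto the `G`-invariants, linear over them -/
theorem exists_retraction : ∃ T : R → R, T 0 = 0 ∧ (∀ y z, T (y + z) = T y + T z) ∧
    (∀ b y, (∀ g : G, g • b = b) → T (b * y) = b * T y) ∧
    (∀ y, (∀ h ∈ H, h • y = y) → ∀ g : G, g • T y = T y) ∧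
    (∀ s, (∀ h ∈ H, h • s = s) → s ∉ q → T s ∉ q) := by
  haveI : Fintype (G ⧸ H) := Fintype.ofFinite _
  obtain ⟨e, he, heq, heg⟩ := exists_e q hD
  have hT0 : tr H (e * 0) = 0 := by
    have := tr_add (H := H) (e * 0) (e * 0)
    rw [← mul_add, add_zero] at this
    exact left_eq_add.mp this
  refine ⟨fun y => tr H (e * y), hT0, ?_, ?_, ?_, ?_⟩
  · intro y z
    change tr H (e * (y + z)) = _
    rw [mul_add, tr_add]
  · intro b y hb
    change tr H (e * (b * y)) = b * tr H (e * y)
    rw [mul_left_comm, tr_mul_of_invariant hb]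
  · intro y hy g
    exact smul_tr (fun h hh => by rw [smul_mul', he h hh, hy h hh]) g
  · intro s hs hsq h
    have hes : ∀ h ∈ H, h • (e * s) = e * s := fun h hh => by
      rw [smul_mul', he h hh, hs h hh]
    have h1 : tr H (e * s) - e * s ∈ q := tr_sub_self_mem hes q fun g hg => by
      rw [smul_mul']
      exact Ideal.mul_mem_right _ _ (heg g hg)
    have h2 : e * s ∈ q := by
      have := Ideal.sub_mem _ h h1
      rwa [sub_sub_cancel] at this
    rcases Ideal.IsPrime.mem_or_mem inferInstance h2 with h3 | h3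
    · exact heq h3
    · exact hsq h3

end Avoid

end Groth.Agent.Lib.H8CosetTrace
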