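import Mathlib
import Groth.Agent.Lib.DeltaZ

/-!
# A shift lemma for the combinatorial value `val` (helper8)

If `c' i + tv i = c i + tw i`, `b' i + tv (i+1) = b i + tw i`, `tv ≤ e` and `tw last ≤ e`, then
`val k c b + tw last ≤ val k c' b' + e`.
-/

set_option autoImplicit false

namespace Groth.Agent.Lib.H8DeltaShift

open Groth.Agent.Lib.DeltaZ

/-- natural-number tail sums -/
def tsN {m : ℕ} (f : Fin m → ℕ) (n : ℕ) : ℕ :=
  ∑ j ∈ Finset.univ.filter (fun j : Fin m => n ≤ j.val), f j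

theorem tailSum_coe {m : ℕ} (f : Fin m → ℕ) (n : ℕ) :
    tailSum (fun j => (f j : ℕ∞)) n = (tsN f n : ℕ∞) := by
  unfold tailSum tsN
  push_cast
  rfl

theorem tsN_peel {m : ℕ} (f : Fin m → ℕ) (n : ℕ) (hn : n < m) :
    tsN f n = f ⟨n, hn⟩ + tsN f (n + 1) := by
  unfold tsN
  rw [Finset.sum_filter, Finset.sum_filter]
  have key : ∀ j : Fin m, (if n ≤ j.val then f j else 0) =
      (if j = ⟨n, hn⟩ then f j else 0) + (if n + 1 ≤ j.val then f j else 0) := by
    intro j
    by_cases h1 : j = ⟨n, hn⟩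
    · subst h1; simp
    · have h3 : j.val ≠ n := fun h => h1 (Fin.ext h)
      simp only [h1, if_false, zero_add]
      by_cases h2 : n ≤ j.val
      · have : n + 1 ≤ j.val := by omega
        simp [h2, this]
      · have : ¬ n + 1 ≤ j.val := by omega
        simp [h2, this]
  rw [Finset.sum_congr rfl (fun j _ => key j), Finset.sum_add_distrib, Finset.sum_ite_eq']
  simp

theorem tsN_of_le {m : ℕ} (f : Fin m → ℕ) (n : ℕ) (hn : m ≤ n) : tsN f n = 0 := by
  unfold tsN
  apply Finset.sum_eq_zero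
  intro j hj
  rw [Finset.mem_filter] at hj
  exact absurd hj.2 (by have := j.2; omega)

theorem identity {k : ℕ} (c c' tv tw : Fin (k + 1) → ℕ) (b b' : Fin k → ℕ)
    (hc : ∀ i, c' i + tv i = c i + tw i)
    (hb : ∀ i : Fin k, b' i + tv i.succ = b i + tw i.castSucc) :
    ∀ d : ℕ, ∀ i : Fin (k + 1), i.val + d = k →
      tsN c i.val + tsN b' i.val + tw (Fin.last k) = tsN c' i.val + tsN b i.val + tv i := by
  intro d
  induction d with
  | zero =>
    intro i hi
    have hi' : i = Fin.last k := Fin.ext (by simpa using hi)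
    subst hi'
    rw [tsN_peel c _ (Fin.last k).2, tsN_peel c' _ (Fin.last k).2,
      tsN_of_le c _ (by simp), tsN_of_le c' _ (by simp), tsN_of_le b _ (by simp),
      tsN_of_le b' _ (by simp)]
    have := hc (Fin.last k)
    simp only [Fin.eta] at *
    omega
  | succ d ih =>
    intro i hi
    have hik : i.val < k := by omega
    have h1 := ih ⟨i.val + 1, by omega⟩ (by simp; omega)
    rw [tsN_peel c _ i.2, tsN_peel c' _ i.2, tsN_peel b _ hik, tsN_peel b' _ hik]
    have h2 := hc i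
    have h3 := hb ⟨i.val, hik⟩
    have e1 : (⟨i.val, hik⟩ : Fin k).succ = ⟨i.val + 1, by omega⟩ := rfl
    have e2 : (⟨i.val, hik⟩ : Fin k).castSucc = i := rfl
    rw [e1, e2] at h3
    simp only [Fin.eta] at *
    omega

theorem val_shift {k : ℕ} (c c' tv tw : Fin (k + 1) → ℕ) (b b' : Fin k → ℕ) (e : ℕ)
    (hc : ∀ i, c' i + tv i = c i + tw i)
    (hb : ∀ i : Fin k, b' i + tv i.succ = b i + tw i.castSucc)
    (hv : ∀ i, tv i ≤ e) (hw : tw (Fin.last k) ≤ e) :
    val k (fun i => (c i : ℕ∞)) (fun i => (b i : ℕ∞)) + (tw (Fin.last k) : ℕ∞) ≤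
      val k (fun i => (c' i : ℕ∞)) (fun i => (b' i : ℕ∞)) + (e : ℕ∞) := by
  unfold val
  obtain ⟨i, -, hi⟩ := Finset.exists_mem_eq_sup (Finset.univ : Finset (Fin (k + 1)))
    Finset.univ_nonempty (fun i : Fin (k + 1) =>
      tailSum (fun i => (c i : ℕ∞)) i.val - tailSum (fun i => (b i : ℕ∞)) i.val)
  rw [hi]
  have hle : tailSum (fun i => (c' i : ℕ∞)) i.val - tailSum (fun i => (b' i : ℕ∞)) i.val ≤
      Finset.univ.sup (fun i : Fin (k + 1) =>
      tailSum (fun i => (c' i : ℕ∞)) i.val - tailSum (fun i => (b' i : ℕ∞)) i.val) :=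
    Finset.le_sup (f := fun i : Fin (k + 1) =>
      tailSum (fun i => (c' i : ℕ∞)) i.val - tailSum (fun i => (b' i : ℕ∞)) i.val)
      (Finset.mem_univ i)
  have hid := identity c c' tv tw b b' hc hb (k - i.val) i (by have := i.2; omega)
  have key : tailSum (fun i => (c i : ℕ∞)) i.val - tailSum (fun i => (b i : ℕ∞)) i.val +
      (tw (Fin.last k) : ℕ∞) ≤
      tailSum (fun i => (c' i : ℕ∞)) i.val - tailSum (fun i => (b' i : ℕ∞)) i.val + (e : ℕ∞) := by
    rw [tailSum_coe, tailSum_coe, tailSum_coe, tailSum_coe]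
    have h1 : ((tsN c i.val : ℕ) : ℕ∞) - ((tsN b i.val : ℕ) : ℕ∞) =
        ((tsN c i.val - tsN b i.val : ℕ) : ℕ∞) := by push_cast; rfl
    have h2 : ((tsN c' i.val : ℕ) : ℕ∞) - ((tsN b' i.val : ℕ) : ℕ∞) =
        ((tsN c' i.val - tsN b' i.val : ℕ) : ℕ∞) := by push_cast; rfl
    rw [h1, h2]
    have := hv i
    exact_mod_cast (by omega : tsN c i.val - tsN b i.val + tw (Fin.last k) ≤
      tsN c' i.val - tsN b' i.val + e)
  rw [add_assoc, add_assoc]
  refine add_le_add le_rfl (key.trans ?_)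
  exact add_le_add hle le_rfl

end Groth.Agent.Lib.H8DeltaShift
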