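/-
helper8: `𝔠 : (𝔠 : I) ≤ I` when `R/𝔠` is Gorenstein and the associated primes of `R/I` are
minimal over `𝔠`.
-/
import Mathlib
import Groth.Agent.Lib.H8DoubleAnn

set_option autoImplicit false
set_option linter.style.haveILetI false
universe u

namespace Groth.Agent.Lib.H8DoubleAnn

open IsLocalRing LocCoh

theorem colon_colon_le {R : Type u} [CommRing R] [IsNoetherianRing R] (𝔠 I : Ideal R)
    (h𝔠I : 𝔠 ≤ I) [IsGorensteinRing (R ⧸ 𝔠)]
    (hmin : ∀ p ∈ associatedPrimes R (R ⧸ I), (p.map (Ideal.Quotient.mk 𝔠)).height = 0) :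
    𝔠.colon ((𝔠.colon (I : Set R) : Ideal R) : Set R) ≤ I := by
  classical
  intro x hxJ
  by_contra hxI
  have hx0 : (Ideal.Quotient.mk I x : R ⧸ I) ≠ 0 := by
    rwa [Ne, Ideal.Quotient.eq_zero_iff_mem]
  obtain ⟨p, hpass, hp⟩ := exists_le_isAssociatedPrime_of_isNoetherianRing R
    (Ideal.Quotient.mk I x : R ⧸ I) hx0
  haveI hpprime : p.IsPrime := hpass.isPrime
  have hcol : ∀ r : R, r * x ∈ I → r ∈ p := by
    intro r hr
    apply hp
    rw [Submodule.mem_colon_singleton, Submodule.mem_bot]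
    change r • (Ideal.Quotient.mk I x) = 0
    rw [← Ideal.Quotient.mk_eq_mk, ← Submodule.Quotient.mk_smul, smul_eq_mul]
    exact (Submodule.Quotient.mk_eq_zero I).mpr hr
  have hIp : I ≤ p := fun r hr => hcol r (I.mul_mem_right x hr)
  have h𝔠p : 𝔠 ≤ p := h𝔠I.trans hIp
  set q := p.map (Ideal.Quotient.mk 𝔠) with hq
  haveI hqprime : q.IsPrime := Ideal.isPrime_map_quotientMk_of_isPrime h𝔠p
  have hqcomap : q.comap (Ideal.Quotient.mk 𝔠) = p := by
    rw [hq, Ideal.comap_map_of_surjective _ Ideal.Quotient.mk_surjective,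
      ← RingHom.ker_eq_comap_bot, Ideal.mk_ker, sup_eq_left]
    exact h𝔠p
  have hnotq : ∀ s : R, s ∉ p → Ideal.Quotient.mk 𝔠 s ∈ q.primeCompl := by
    intro s hs hsq
    apply hs
    rw [← hqcomap]
    exact hsq
  haveI : IsGorensteinLocalRing (Localization.AtPrime q) :=
    IsGorensteinRing.isGorensteinLocalRing_localization q
  have hdim : ringKrullDim (Localization.AtPrime q) = 0 := by
    rw [IsLocalization.AtPrime.ringKrullDim_eq_height q, hmin p hpass]
    rfl
  obtain ⟨hinj, hdepth⟩ := injective_self_of_gorenstein_dim_zero (Localization.AtPrime q) hdim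
  set φ : R →+* Localization.AtPrime q :=
    (algebraMap (R ⧸ 𝔠) (Localization.AtPrime q)).comp (Ideal.Quotient.mk 𝔠) with hφ
  have K1 : ∀ r : R, φ r = 0 → ∃ s : R, s ∉ p ∧ s * r ∈ 𝔠 := by
    intro r hr
    rw [hφ, RingHom.comp_apply, IsLocalization.map_eq_zero_iff q.primeCompl] at hr
    obtain ⟨⟨m, hm⟩, hmr⟩ := hr
    obtain ⟨s, rfl⟩ := Ideal.Quotient.mk_surjective m
    refine ⟨s, fun hs => hm (Ideal.mem_map_of_mem _ hs), ?_⟩
    rw [← Ideal.Quotient.eq_zero_iff_mem, map_mul]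
    exact hmr
  have K2 : ∀ s : R, s ∉ p → IsUnit (φ s) := fun s hs =>
    IsLocalization.map_units (Localization.AtPrime q) ⟨_, hnotq s hs⟩
  -- `φ x ∉ I T`
  have hxa : φ x ∉ I.map φ := by
    intro hmem
    rw [hφ, ← Ideal.map_map, IsLocalization.mem_map_algebraMap_iff q.primeCompl] at hmem
    obtain ⟨⟨⟨a', ha'⟩, ⟨s', hs'⟩⟩, h⟩ := hmem
    obtain ⟨a, haI, rfl⟩ := (Ideal.mem_map_iff_of_surjective _ Ideal.Quotient.mk_surjective).mp ha'
    obtain ⟨s, rfl⟩ := Ideal.Quotient.mk_surjective s'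
    have hsp : s ∉ p := fun hs => hs' (Ideal.mem_map_of_mem _ hs)
    have h0 : φ (x * s - a) = 0 := by
      rw [map_sub, map_mul, sub_eq_zero]
      exact h
    obtain ⟨t, htp, ht⟩ := K1 _ h0
    have h1 : t * s * x ∈ I := by
      have h2 : t * s * x = t * (x * s - a) + t * a := by ring
      rw [h2]
      exact I.add_mem (h𝔠I ht) (I.mul_mem_left t haI)
    exact (hpprime.mem_or_mem (hcol _ h1)).elim htp hsp
  obtain ⟨y, hy1, hy2⟩ := exists_mul_eq_zero_and_ne_zero hdepth (I.map φ) hxa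
  obtain ⟨⟨r', ⟨s', hs'⟩⟩, hrs⟩ := IsLocalization.surj q.primeCompl y
  obtain ⟨r, rfl⟩ := Ideal.Quotient.mk_surjective r'
  have hrφ : φ r = y * algebraMap (R ⧸ 𝔠) (Localization.AtPrime q) s' := hrs.symm
  have hunit : IsUnit (algebraMap (R ⧸ 𝔠) (Localization.AtPrime q) s') :=
    IsLocalization.map_units (Localization.AtPrime q) ⟨s', hs'⟩
  have hrg : ∀ g ∈ I, ∃ t : R, t ∉ p ∧ t * (r * g) ∈ 𝔠 := by
    intro g hg
    apply K1
    rw [map_mul, hrφ, mul_right_comm, hy1 _ (Ideal.mem_map_of_mem φ hg), zero_mul]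
  obtain ⟨G, hG⟩ := (IsNoetherian.noetherian I : I.FG)
  have hfin : ∀ G' : Finset R, (∀ g ∈ G', g ∈ I) →
      ∃ s : R, s ∉ p ∧ ∀ g ∈ G', s * (r * g) ∈ 𝔠 := by
    intro G'
    induction G' using Finset.induction_on with
    | empty => exact fun _ => ⟨1, fun h => hpprime.ne_top ((Ideal.eq_top_iff_one p).mpr h), by simp⟩
    | insert a G' ha ih =>
      intro hmem
      obtain ⟨s0, hs0, h0⟩ := ih fun g hg => hmem g (Finset.mem_insert_of_mem hg)
      obtain ⟨t, htp, ht⟩ := hrg a (hmem a (Finset.mem_insert_self a G'))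
      refine ⟨t * s0, fun h => (hpprime.mem_or_mem h).elim htp hs0, ?_⟩
      intro g hg
      rcases Finset.mem_insert.mp hg with rfl | hg
      · have : t * s0 * (r * g) = s0 * (t * (r * g)) := by ring
        rw [this]
        exact 𝔠.mul_mem_left s0 ht
      · have : t * s0 * (r * g) = t * (s0 * (r * g)) := by ring
        rw [this]
        exact 𝔠.mul_mem_left t (h0 g hg)
  obtain ⟨s, hsp, hs⟩ := hfin G fun g hg => hG ▸ Submodule.subset_span hg
  have hsr : s * r ∈ 𝔠.colon (I : Set R) := by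
    rw [Submodule.mem_colon]
    have hle : I ≤ 𝔠.colon {s * r} := by
      rw [← hG, Submodule.span_le]
      intro g hg
      rw [SetLike.mem_coe, Submodule.mem_colon_singleton, smul_eq_mul]
      have : g * (s * r) = s * (r * g) := by ring
      rw [this]
      exact hs g hg
    intro b hb
    have := hle hb
    rw [Submodule.mem_colon_singleton, smul_eq_mul] at this
    rw [smul_eq_mul, mul_comm]
    exact this
  have hx𝔠 : x * (s * r) ∈ 𝔠 := by
    have := (Submodule.mem_colon.mp hxJ) (s * r) hsr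
    rwa [smul_eq_mul] at this
  have h0 : φ (x * (s * r)) = 0 := by
    rw [hφ, RingHom.comp_apply, Ideal.Quotient.eq_zero_iff_mem.mpr hx𝔠, map_zero]
  rw [map_mul, map_mul, hrφ] at h0
  have h1 : (y * φ x) * (φ s * algebraMap (R ⧸ 𝔠) (Localization.AtPrime q) s') = 0 := by
    rw [← h0]; ring
  exact hy2 (((K2 s hsp).mul hunit).mul_left_eq_zero.mp h1)

end Groth.Agent.Lib.H8DoubleAnn
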