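import Groth.Agent.Lib.H8FinGrpQuot
import Groth.Agent.Lib.FinEtQuot46
import Groth.Agent.S2925
import Mathlib.AlgebraicGeometry.Morphisms.Etale
import Mathlib.AlgebraicGeometry.Morphisms.LocalFlatDescent
import Mathlib.AlgebraicGeometry.ZariskisMainTheorem
import Mathlib.RingTheory.Unramified.LocalStructure

/-!
# The finite étale equivalence relation of a finite group acting on an unramified scheme (helper8)

Let `f : X ⟶ Y` have open diagonal (e.g. `f` étale) and let `G` act on `X` by `Y`-automorphisms.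
The union `E` of the graphs of the `ρ g` is an open subscheme of `X ×_Y X` which is an equivalence
relation on `X` over `Y` with the same orbits and the same invariant morphisms as the action of
`G`.  If `f` is étale and separated and `G` is finite then `E ⇉ X` is finite étale, so the quotient
map `X ⟶ X/E = X/G` is finite étale.
-/

set_option autoImplicit false
universe u
open CategoryTheory CategoryTheory.Limits AlgebraicGeometry Grpd

namespace Groth.Agent.Lib.H8EtAct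

open Groth.Agent.Lib.H8ActGrpd

variable {X Y : Scheme.{u}} {G : Type u} [Group G] (ρ : G →* Aut X) (f : X ⟶ Y)
  (hρ : ∀ g : G, (ρ g).hom ≫ f = f)

/-- the graph `x ↦ (g x, x)` of `ρ g` -/
noncomputable def γ (g : G) : X ⟶ pullback f f :=
  pullback.lift (ρ g).hom (𝟙 X) (by rw [hρ g, Category.id_comp])

@[reassoc (attr := simp)]
lemma γ_fst (g : G) : γ ρ f hρ g ≫ pullback.fst f f = (ρ g).hom := pullback.lift_fst _ _ _

@[reassoc (attr := simp)]
lemma γ_snd (g : G) : γ ρ f hρ g ≫ pullback.snd f f = 𝟙 X := pullback.lift_snd _ _ _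

instance isOpenImmersion_γ [IsOpenImmersion (pullback.diagonal f)] (g : G) :
    IsOpenImmersion (γ ρ f hρ g) := by
  have h : γ ρ f hρ g = pullback.diagonal f ≫
      pullback.map f f f f (ρ g).hom (𝟙 X) (𝟙 Y) (by rw [Category.comp_id, hρ g])
        (by rw [Category.comp_id, Category.id_comp]) := by
    apply pullback.hom_ext
    · rw [γ_fst, Category.assoc, pullback.lift_fst, pullback.diagonal_fst_assoc]
    · rw [γ_snd, Category.assoc, pullback.lift_snd, pullback.diagonal_snd_assoc]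
  rw [h]
  infer_instance

variable [IsOpenImmersion (pullback.diagonal f)]

/-- the union of the graphs -/
noncomputable def E : (pullback f f).Opens := ⨆ g : G, (γ ρ f hρ g).opensRange

variable {ρ f hρ}

lemma lift_eq_comp_γ {T : Scheme.{u}} (a b : T ⟶ X) (h : a ≫ f = b ≫ f) (g : G)
    (hab : a = b ≫ (ρ g).hom) : pullback.lift a b h = b ≫ γ ρ f hρ g := by
  apply pullback.hom_ext
  · rw [pullback.lift_fst, Category.assoc, γ_fst, hab]
  · rw [pullback.lift_snd, Category.assoc, γ_snd, Category.comp_id]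

/-- pointwise characterization of the graph of `ρ g` -/
lemma mem_opensRange_γ_iff {T : Scheme.{u}} (a b : T ⟶ X) (h : a ≫ f = b ≫ f) (g : G) (z : T) :
    pullback.lift a b h z ∈ (γ ρ f hρ g).opensRange ↔
      ∃ O : T.Opens, z ∈ O ∧ O.ι ≫ a = O.ι ≫ b ≫ (ρ g).hom := by
  constructor
  · intro hz
    refine ⟨pullback.lift a b h ⁻¹ᵁ (γ ρ f hρ g).opensRange, hz, ?_⟩
    set O := pullback.lift a b h ⁻¹ᵁ (γ ρ f hρ g).opensRange
    have hr : Set.range (O.ι ≫ pullback.lift a b h) ⊆ Set.range (γ ρ f hρ g) := by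
      rintro _ ⟨y, rfl⟩
      exact y.2
    have hw := IsOpenImmersion.lift_fac (γ ρ f hρ g) (O.ι ≫ pullback.lift a b h) hr
    set w := IsOpenImmersion.lift (γ ρ f hρ g) (O.ι ≫ pullback.lift a b h) hr
    have h1 : w ≫ (ρ g).hom = O.ι ≫ a := by
      rw [← γ_fst ρ f hρ g, ← Category.assoc, hw, Category.assoc, pullback.lift_fst]
    have h2 : w = O.ι ≫ b := by
      have := congrArg (fun φ => φ ≫ pullback.snd f f) hw
      simp only [Category.assoc, γ_snd, Category.comp_id, pullback.lift_snd] at this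
      exact this
    rw [← h1, h2, Category.assoc]
  · rintro ⟨O, hz, hO⟩
    have h' : (O.ι ≫ a) ≫ f = (O.ι ≫ b) ≫ f := by rw [Category.assoc, Category.assoc, h]
    have h1 : O.ι ≫ pullback.lift a b h = pullback.lift (O.ι ≫ a) (O.ι ≫ b) h' := by
      apply pullback.hom_ext
      · rw [Category.assoc, pullback.lift_fst, pullback.lift_fst]
      · rw [Category.assoc, pullback.lift_snd, pullback.lift_snd]
    have h2 := lift_eq_comp_γ (hρ := hρ) (O.ι ≫ a) (O.ι ≫ b) h' g (by rw [hO, Category.assoc])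
    have h3 : pullback.lift a b h z = (O.ι ≫ pullback.lift a b h) ⟨z, hz⟩ := rfl
    rw [h3, h1, h2]
    exact ⟨(O.ι ≫ b) ⟨z, hz⟩, rfl⟩

lemma mem_E_iff {T : Scheme.{u}} (a b : T ⟶ X) (h : a ≫ f = b ≫ f) (z : T) :
    pullback.lift a b h z ∈ E ρ f hρ ↔
      ∃ (g : G) (O : T.Opens), z ∈ O ∧ O.ι ≫ a = O.ι ≫ b ≫ (ρ g).hom := by
  unfold E
  rw [TopologicalSpace.Opens.mem_iSup]
  exact exists_congr (fun g => mem_opensRange_γ_iff a b h g z)

/-- the relation on `T`-points defined by `E` -/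
def Rel {T : Scheme.{u}} (a b : T ⟶ X) : Prop :=
  ∀ z : T, ∃ (g : G) (O : T.Opens), z ∈ O ∧ O.ι ≫ a = O.ι ≫ b ≫ (ρ g).hom

lemma rel_refl {T : Scheme.{u}} (a : T ⟶ X) : Rel (ρ := ρ) a a :=
  fun z => ⟨1, ⊤, trivial, by rw [rho_one_hom, Category.comp_id]⟩

lemma rel_symm {T : Scheme.{u}} {a b : T ⟶ X} (h : Rel (ρ := ρ) a b) : Rel (ρ := ρ) b a := by
  intro z
  obtain ⟨g, O, hz, hO⟩ := h z
  refine ⟨g⁻¹, O, hz, ?_⟩
  rw [reassoc_of% hO, rho_inv_comp, Category.comp_id]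

lemma rel_trans {T : Scheme.{u}} {a b c : T ⟶ X} (h1 : Rel (ρ := ρ) a b)
    (h2 : Rel (ρ := ρ) b c) : Rel (ρ := ρ) a c := by
  intro z
  obtain ⟨g, O, hz, hO⟩ := h1 z
  obtain ⟨g', O', hz', hO'⟩ := h2 z
  refine ⟨g * g', O ⊓ O', ⟨hz, hz'⟩, ?_⟩
  have e1 : (O ⊓ O').ι = T.homOfLE (inf_le_left : O ⊓ O' ≤ O) ≫ O.ι := (T.homOfLE_ι _).symm
  have e2 : (O ⊓ O').ι = T.homOfLE (inf_le_right : O ⊓ O' ≤ O') ≫ O'.ι := (T.homOfLE_ι _).symm
  calc (O ⊓ O').ι ≫ a = T.homOfLE (inf_le_left : O ⊓ O' ≤ O) ≫ O.ι ≫ a := by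
        rw [e1, Category.assoc]
    _ = T.homOfLE (inf_le_left : O ⊓ O' ≤ O) ≫ O.ι ≫ b ≫ (ρ g).hom := by rw [hO]
    _ = (O ⊓ O').ι ≫ b ≫ (ρ g).hom := by rw [e1, Category.assoc]
    _ = T.homOfLE (inf_le_right : O ⊓ O' ≤ O') ≫ (O'.ι ≫ b) ≫ (ρ g).hom := by
        rw [e2]; simp only [Category.assoc]
    _ = T.homOfLE (inf_le_right : O ⊓ O' ≤ O') ≫ (O'.ι ≫ c ≫ (ρ g').hom) ≫ (ρ g).hom := by
        rw [hO']
    _ = (O ⊓ O').ι ≫ c ≫ (ρ (g * g')).hom := by
        rw [e2, rho_mul_hom]; simp only [Category.assoc]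

variable (ρ f hρ)

/-- `X` over `Y` -/
noncomputable abbrev UY : Over Y := Over.mk f

/-- `E` over `Y` -/
noncomputable abbrev RY : Over Y := Over.mk ((E ρ f hρ).ι ≫ pullback.fst f f ≫ f)

/-- the target map `(g x, x) ↦ g x` -/
noncomputable def tY : RY ρ f hρ ⟶ UY f :=
  Over.homMk ((E ρ f hρ).ι ≫ pullback.fst f f) (by simp)

/-- the source map `(g x, x) ↦ x` -/
noncomputable def sY : RY ρ f hρ ⟶ UY f :=
  Over.homMk ((E ρ f hρ).ι ≫ pullback.snd f f) (by simp [pullback.condition])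

@[simp] lemma tY_left : (tY ρ f hρ).left = (E ρ f hρ).ι ≫ pullback.fst f f := rfl
@[simp] lemma sY_left : (sY ρ f hρ).left = (E ρ f hρ).ι ≫ pullback.snd f f := rfl

variable {ρ f hρ}

lemma exists_iff_rel {T : Over Y} (a b : T ⟶ UY f) :
    (∃ r : T ⟶ RY ρ f hρ, r ≫ tY ρ f hρ = a ∧ r ≫ sY ρ f hρ = b) ↔ Rel (ρ := ρ) a.left b.left := by
  have hab : a.left ≫ f = b.left ≫ f := (Over.w a).trans (Over.w b).symm
  constructor
  · rintro ⟨r, rfl, rfl⟩ z
    have h1 : r.left ≫ (E ρ f hρ).ι = pullback.lift (r ≫ tY ρ f hρ).left (r ≫ sY ρ f hρ).left hab := by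
      apply pullback.hom_ext
      · rw [pullback.lift_fst]; simp
      · rw [pullback.lift_snd]; simp
    have h2 : pullback.lift (r ≫ tY ρ f hρ).left (r ≫ sY ρ f hρ).left hab z ∈ E ρ f hρ := by
      rw [← h1, Scheme.Hom.comp_apply]
      exact (r.left z).2
    exact (mem_E_iff _ _ hab z).mp h2
  · intro h
    have hr : Set.range (pullback.lift a.left b.left hab) ⊆ Set.range (E ρ f hρ).ι := by
      rintro _ ⟨z, rfl⟩
      rw [Scheme.Opens.range_ι]
      exact (mem_E_iff _ _ hab z).mpr (h z)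
    have hfac := IsOpenImmersion.lift_fac (E ρ f hρ).ι (pullback.lift a.left b.left hab) hr
    set r₀ := IsOpenImmersion.lift (E ρ f hρ).ι (pullback.lift a.left b.left hab) hr
    have hw : r₀ ≫ (RY ρ f hρ).hom = T.hom := by
      change r₀ ≫ (E ρ f hρ).ι ≫ pullback.fst f f ≫ f = T.hom
      rw [reassoc_of% hfac, pullback.lift_fst_assoc]
      exact Over.w a
    refine ⟨Over.homMk r₀ hw, ?_, ?_⟩
    · ext
      change r₀ ≫ (E ρ f hρ).ι ≫ pullback.fst f f = a.left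
      rw [reassoc_of% hfac, pullback.lift_fst]
    · ext
      change r₀ ≫ (E ρ f hρ).ι ≫ pullback.snd f f = b.left
      rw [reassoc_of% hfac, pullback.lift_snd]

variable (ρ f hρ)

theorem isEqvRel : AlgSp.IsEqvRel (sY ρ f hρ) (tY ρ f hρ) where
  injective T r r' ht hs := by
    ext
    rw [← cancel_mono (E ρ f hρ).ι]
    apply pullback.hom_ext
    · have := congrArg CommaMorphism.left ht
      simpa using this
    · have := congrArg CommaMorphism.left hs
      simpa using this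
  equivalence T := by
    refine ⟨fun a => ?_, fun {a b} h => ?_, fun {a b c} h1 h2 => ?_⟩
    · exact (exists_iff_rel a a).mpr (rel_refl _)
    · exact (exists_iff_rel b a).mpr (rel_symm ((exists_iff_rel a b).mp h))
    · exact (exists_iff_rel a c).mpr
        (rel_trans ((exists_iff_rel a b).mp h1) ((exists_iff_rel b c).mp h2))

/-- the source map of `E` -/
noncomputable def sE : (E ρ f hρ).toScheme ⟶ X := (E ρ f hρ).ι ≫ pullback.snd f f

/-- the target map of `E` -/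
noncomputable def tE : (E ρ f hρ).toScheme ⟶ X := (E ρ f hρ).ι ≫ pullback.fst f f

/-- the groupoid scheme `E ⇉ X` over `Y` (helper46's construction, with reducible fields) -/
@[reducible] noncomputable def grpdE : GroupoidScheme Y where
  U := X
  R := (E ρ f hρ).toScheme
  pU := f
  pR := (E ρ f hρ).ι ≫ pullback.fst f f ≫ f
  s := sE ρ f hρ
  t := tE ρ f hρ
  e := (Groth.Agent.Lib.FinEtQuot46.grpd (isEqvRel ρ f hρ)).e
  i := (Groth.Agent.Lib.FinEtQuot46.grpd (isEqvRel ρ f hρ)).i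
  c := (Groth.Agent.Lib.FinEtQuot46.grpd (isEqvRel ρ f hρ)).c
  s_over := (Groth.Agent.Lib.FinEtQuot46.grpd (isEqvRel ρ f hρ)).s_over
  t_over := (Groth.Agent.Lib.FinEtQuot46.grpd (isEqvRel ρ f hρ)).t_over
  comp_s := (Groth.Agent.Lib.FinEtQuot46.grpd (isEqvRel ρ f hρ)).comp_s
  comp_t := (Groth.Agent.Lib.FinEtQuot46.grpd (isEqvRel ρ f hρ)).comp_t
  assoc := (Groth.Agent.Lib.FinEtQuot46.grpd (isEqvRel ρ f hρ)).assoc
  e_s := (Groth.Agent.Lib.FinEtQuot46.grpd (isEqvRel ρ f hρ)).e_s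
  e_t := (Groth.Agent.Lib.FinEtQuot46.grpd (isEqvRel ρ f hρ)).e_t
  comp_e := (Groth.Agent.Lib.FinEtQuot46.grpd (isEqvRel ρ f hρ)).comp_e
  e_comp := (Groth.Agent.Lib.FinEtQuot46.grpd (isEqvRel ρ f hρ)).e_comp
  i_s := (Groth.Agent.Lib.FinEtQuot46.grpd (isEqvRel ρ f hρ)).i_s
  i_t := (Groth.Agent.Lib.FinEtQuot46.grpd (isEqvRel ρ f hρ)).i_t
  comp_i := (Groth.Agent.Lib.FinEtQuot46.grpd (isEqvRel ρ f hρ)).comp_i
  i_comp := (Groth.Agent.Lib.FinEtQuot46.grpd (isEqvRel ρ f hρ)).i_comp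

instance mono_j_grpdE : Mono (grpdE ρ f hρ).j :=
  (Groth.Agent.Lib.FinEtQuot46.mono_j (isEqvRel ρ f hρ) :
    Mono (Groth.Agent.Lib.FinEtQuot46.grpd (isEqvRel ρ f hρ)).j)

lemma grpdE_s : (grpdE ρ f hρ).s = sE ρ f hρ := rfl
lemma grpdE_t : (grpdE ρ f hρ).t = tE ρ f hρ := rfl
lemma sE_def : sE ρ f hρ = (E ρ f hρ).ι ≫ pullback.snd f f := rfl
lemma tE_def : tE ρ f hρ = (E ρ f hρ).ι ≫ pullback.fst f f := rfl

/-- the graph of `ρ g` as a morphism to `E` -/
noncomputable def γ' (g : G) : X ⟶ (E ρ f hρ).toScheme :=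
  IsOpenImmersion.lift (E ρ f hρ).ι (γ ρ f hρ g) (by
    rw [Scheme.Opens.range_ι]
    exact fun _ hx => TopologicalSpace.Opens.mem_iSup.mpr ⟨g, hx⟩)

@[reassoc]
lemma γ'_ι (g : G) : γ' ρ f hρ g ≫ (E ρ f hρ).ι = γ ρ f hρ g := IsOpenImmersion.lift_fac _ _ _

@[reassoc (attr := simp)]
lemma γ'_s (g : G) : γ' ρ f hρ g ≫ sE ρ f hρ = 𝟙 X := by
  rw [sE_def, γ'_ι_assoc, γ_snd]

@[reassoc (attr := simp)]
lemma γ'_t (g : G) : γ' ρ f hρ g ≫ tE ρ f hρ = (ρ g).hom := by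
  rw [tE_def, γ'_ι_assoc, γ_fst]

instance (g : G) : IsOpenImmersion (γ' ρ f hρ g) := by
  have : IsOpenImmersion (γ' ρ f hρ g ≫ (E ρ f hρ).ι) := by rw [γ'_ι]; infer_instance
  exact IsOpenImmersion.of_comp _ (E ρ f hρ).ι

lemma exists_γ'_eq (e : (E ρ f hρ).toScheme) : ∃ (g : G) (x : X), γ' ρ f hρ g x = e := by
  have he : (E ρ f hρ).ι e ∈ E ρ f hρ := e.2
  obtain ⟨g, x, hx⟩ := TopologicalSpace.Opens.mem_iSup.mp he
  refine ⟨g, x, ?_⟩
  apply (E ρ f hρ).ι.isOpenEmbedding.injective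
  rw [← Scheme.Hom.comp_apply, γ'_ι]
  exact hx

/-- the cover of `E` by the graphs -/
noncomputable def coverE : (E ρ f hρ).toScheme.OpenCover :=
  Scheme.Cover.mkOfCovers G (fun _ => X) (γ' ρ f hρ) (fun e => by
    obtain ⟨g, x, hx⟩ := exists_γ'_eq ρ f hρ e
    exact ⟨g, x, hx⟩)

/-- invariance for `E` is invariance for `G` -/
lemma invariant_iff' {Z : Scheme.{u}} (h : X ⟶ Z) :
    sE ρ f hρ ≫ h = tE ρ f hρ ≫ h ↔ ∀ g : G, (ρ g).hom ≫ h = h := by
  constructor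
  · intro hh g
    have := congrArg (fun φ => γ' ρ f hρ g ≫ φ) hh
    simp only [γ'_s_assoc, γ'_t_assoc] at this
    exact this.symm
  · intro hh
    have key : ∀ g : G, γ' ρ f hρ g ≫ sE ρ f hρ ≫ h = γ' ρ f hρ g ≫ tE ρ f hρ ≫ h := by
      intro g
      rw [γ'_s_assoc, γ'_t_assoc, hh g]
    exact (coverE ρ f hρ).hom_ext _ _ (fun g => key g)

lemma invariant_iff {Z : Scheme.{u}} (h : X ⟶ Z) :
    (grpdE ρ f hρ).s ≫ h = (grpdE ρ f hρ).t ≫ h ↔ ∀ g : G, (ρ g).hom ≫ h = h :=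
  invariant_iff' ρ f hρ h

lemma tE_image_sE_fiber (x : X) :
    tE ρ f hρ '' (sE ρ f hρ ⁻¹' {x}) = Set.range (fun g => (ρ g).hom x) := by
  ext y
  constructor
  · rintro ⟨e, he, rfl⟩
    obtain ⟨g, x', rfl⟩ := exists_γ'_eq ρ f hρ e
    rw [Set.mem_preimage, Set.mem_singleton_iff, ← Scheme.Hom.comp_apply, γ'_s] at he
    refine ⟨g, ?_⟩
    change (ρ g).hom x = tE ρ f hρ (γ' ρ f hρ g x')
    rw [← Scheme.Hom.comp_apply (γ' ρ f hρ g), γ'_t, ← he]
    rfl
  · rintro ⟨g, rfl⟩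
    refine ⟨γ' ρ f hρ g x, ?_, ?_⟩
    · rw [Set.mem_preimage, Set.mem_singleton_iff, ← Scheme.Hom.comp_apply, γ'_s]
      rfl
    · rw [← Scheme.Hom.comp_apply, γ'_t]

open Groth.Agent.Lib.H8GrpdQuot in
theorem orbAff (h : ∀ x : X, ∃ U : X.Opens, IsAffineOpen U ∧ ∀ g : G, (ρ g).hom.base x ∈ U) :
    OrbAff (grpdE ρ f hρ) where
  horb x := by
    obtain ⟨U, hU, hx⟩ := h x
    refine ⟨U, hU, ?_⟩
    change tE ρ f hρ '' (sE ρ f hρ ⁻¹' {x}) ⊆ U
    rw [tE_image_sE_fiber]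
    rintro _ ⟨g, rfl⟩
    exact hx g

section etale

variable [Etale f]

instance etale_sE : Etale (sE ρ f hρ) := by rw [sE_def]; infer_instance
instance etale_tE : Etale (tE ρ f hρ) := by rw [tE_def]; infer_instance
instance etale_s : Etale (grpdE ρ f hρ).s := etale_sE ρ f hρ
instance etale_t : Etale (grpdE ρ f hρ).t := etale_tE ρ f hρ
instance : Flat (grpdE ρ f hρ).s := inferInstanceAs (Flat (sE ρ f hρ))
instance : LocallyOfFinitePresentation (grpdE ρ f hρ).s :=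
  inferInstanceAs (LocallyOfFinitePresentation (sE ρ f hρ))

/-- Étale morphisms are locally quasi-finite (from helper59's `H59NGeom3`). -/
theorem locallyQuasiFinite_of_etale {X Y : Scheme.{u}} (f : X ⟶ Y) [Etale f] :
    LocallyQuasiFinite f where
  quasiFinite_appLE {U} hU {V} hV e := by
    have h := f.etale_appLE hU hV e
    algebraize [(f.appLE U V e).hom]
    rw [RingHom.QuasiFinite]
    infer_instance

variable [Finite G] [IsSeparated f]

/-- the surjection `∐_G X ⟶ E` -/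
noncomputable def σ : RR X G ⟶ (E ρ f hρ).toScheme := Sigma.desc (γ' ρ f hρ)

lemma σ_s : σ ρ f hρ ≫ sE ρ f hρ = sR X G := by
  refine Sigma.hom_ext _ _ (fun g => ?_)
  unfold σ
  rw [Sigma.ι_desc_assoc, γ'_s, inj_sR]

instance : Surjective (σ ρ f hρ) := by
  constructor
  intro e
  obtain ⟨g, x, hx⟩ := exists_γ'_eq ρ f hρ e
  refine ⟨inj X g x, ?_⟩
  rw [← Scheme.Hom.comp_apply]
  unfold σ
  rw [Sigma.ι_desc]
  exact hx

instance isFinite_sE : IsFinite (sE ρ f hρ) := by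
  haveI : UniversallyClosed (σ ρ f hρ ≫ sE ρ f hρ) := by rw [σ_s]; infer_instance
  haveI : UniversallyClosed (sE ρ f hρ) :=
    UniversallyClosed.of_comp_surjective (σ ρ f hρ) (sE ρ f hρ)
  haveI : IsSeparated (sE ρ f hρ) := by rw [sE_def]; infer_instance
  haveI : IsProper (sE ρ f hρ) := {}
  haveI := locallyQuasiFinite_of_etale (sE ρ f hρ)
  exact IsFinite.of_isProper_of_locallyQuasiFinite _

instance isFinite_s : IsFinite (grpdE ρ f hρ).s := isFinite_sE ρ f hρ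

end etale

end Groth.Agent.Lib.H8EtAct
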