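import Mathlib
import Groth.Agent.Lib.RelFrobSmooth

/-!
# Relative Frobenius of smooth algebras, part 2 (helper37)

* `FrobRel2.relFrob_finite`, `relFrob_isIntegral`, `relFrob_finitePresentation`: the relative
  Frobenius of a finitely generated (presented) algebra is finite (finitely presented).
* `FrobRel2.relFrob_projective`: for smooth `B`, `B` is projective over its Frobenius twist.
* `FrobRel2.rankAtStalk_of_etale`: ranks of the relative Frobenius are preserved along étale maps.
* `FrobRel2.rankAtStalk_kaehler_of_etale`: ranks of Kähler differentials are preserved along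
  (formally) étale maps.
* `FrobRel2.rankAtStalk_relFrob`: if `Ω[B⁄A]` has rank `r`, then `B` has rank `p ^ r` over its twist.
-/

set_option autoImplicit false
universe u v

open MvPolynomial FrobAlg TensorProduct
open Groth.Agent.Lib.RelFrobSmooth Groth.Agent.Lib.RelFrobSmooth.FrobRel

namespace Groth.Agent.Lib.RelFrobSmooth2

namespace FrobRel2

section finite
variable (p : ℕ) [Fact p.Prime] (A : Type u) [CommRing A] [CharP A p]
  (B : Type v) [CommRing B] [Algebra A B] [CharP B p]

lemma relFrob_comp_algebraMap :
    (relFrob p A B).comp (algebraMap (Twist p A) (BaseChange p A B)) =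
      (algebraMap A B).comp ((toTwist p A).symm : Twist p A →+* A) := by
  ext a
  exact relFrob_includeRight p A B a

theorem relFrob_finiteType [Algebra.FiniteType A B] : (relFrob p A B).FiniteType := by
  have h1 : ((algebraMap A B).comp ((toTwist p A).symm : Twist p A →+* A)).FiniteType :=
    RingHom.FiniteType.comp (RingHom.finiteType_algebraMap.mpr ‹_›)
      (RingHom.FiniteType.of_surjective _ (toTwist p A).symm.surjective)
  rw [← relFrob_comp_algebraMap] at h1
  exact RingHom.FiniteType.of_comp_finiteType h1

theorem relFrob_isIntegral : (relFrob p A B).IsIntegral := by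
  letI := (relFrob p A B).toAlgebra
  intro b
  show IsIntegral (BaseChange p A B) b
  refine IsIntegral.of_pow (Fact.out : p.Prime).pos ?_
  have : b ^ p = algebraMap (BaseChange p A B) B (b ⊗ₜ 1) := (relFrob_includeLeft p A B b).symm
  rw [this]
  exact isIntegral_algebraMap

theorem relFrob_finite [Algebra.FiniteType A B] : (relFrob p A B).Finite :=
  RingHom.IsIntegral.to_finite (relFrob_isIntegral p A B) (relFrob_finiteType p A B)

/-- base change of finite type, right version -/
lemma finiteType_twist [Algebra.FiniteType A B] :
    Algebra.FiniteType (Twist p A) (BaseChange p A B) := by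
  let e : Twist p A ⊗[A] B ≃ₐ[Twist p A] B ⊗[A] Twist p A :=
    { Algebra.TensorProduct.comm A (Twist p A) B with
      commutes' := fun a => by
        show Algebra.TensorProduct.comm A (Twist p A) B (a ⊗ₜ 1) = _
        rw [Algebra.TensorProduct.comm_tmul]
        rfl }
  exact Algebra.FiniteType.equiv inferInstance e

theorem relFrob_finitePresentation [Algebra.FinitePresentation A B] :
    (relFrob p A B).FinitePresentation := by
  have h1 : ((algebraMap A B).comp ((toTwist p A).symm : Twist p A →+* A)).FinitePresentation :=
    RingHom.FinitePresentation.comp (RingHom.finitePresentation_algebraMap.mpr ‹_›)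
      (RingHom.FinitePresentation.of_bijective (toTwist p A).symm.bijective)
  rw [← relFrob_comp_algebraMap] at h1
  have : Algebra.FiniteType A B := inferInstance
  exact RingHom.FinitePresentation.of_comp_finiteType _ h1
    (RingHom.finiteType_algebraMap.mpr (finiteType_twist p A B))

end finite


section proj
variable (p : ℕ) [Fact p.Prime] (A : Type u) [CommRing A] [CharP A p]
  (B : Type u) [CommRing B] [Algebra A B] [CharP B p]

theorem relFrob_projective [Algebra.Smooth A B] :
    letI := (relFrob p A B).toAlgebra
    Module.Projective (BaseChange p A B) B := by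
  letI := (relFrob p A B).toAlgebra
  have h1 : Module.Finite (BaseChange p A B) B := relFrob_finite p A B
  have h2 : Algebra.FinitePresentation (BaseChange p A B) B := relFrob_finitePresentation p A B
  have h3 : Module.FinitePresentation (BaseChange p A B) B :=
    Module.FinitePresentation.of_finite_of_finitePresentation _ _
  have h4 : Module.Flat (BaseChange p A B) B := flat_relFrob_of_smooth' p A B
  exact Module.Flat.projective_of_finitePresentation

end proj

section rank
open CategoryTheory Limits
variable (p : ℕ) [Fact p.Prime] (A : Type u) [CommRing A] [CharP A p]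
  (P : Type u) [CommRing P] [Algebra A P] [CharP P p]
  (C : Type u) [CommRing C] [Algebra A C] [CharP C p] [Algebra P C] [IsScalarTower A P C]
  [Algebra.Etale P C]

theorem rankAtStalk_of_etale (hfin : (relFrob p A P).Finite) (hflat : (relFrob p A P).Flat)
    (t : PrimeSpectrum (BaseChange p A C)) :
    letI := (relFrob p A P).toAlgebra
    letI := (relFrob p A C).toAlgebra
    Module.rankAtStalk (R := BaseChange p A C) C t =
      Module.rankAtStalk (R := BaseChange p A P) P
        (PrimeSpectrum.comap (mapBC p A (IsScalarTower.toAlgHom A P C)) t) := by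
  letI a1 := (relFrob p A P).toAlgebra
  letI a2 := (relFrob p A C).toAlgebra
  letI a4 : Algebra (BaseChange p A P) C :=
    ((relFrob p A C).comp (mapBC p A (IsScalarTower.toAlgHom A P C))).toAlgebra
  letI a3 : Algebra (BaseChange p A P) (BaseChange p A C) :=
    (mapBC p A (IsScalarTower.toAlgHom A P C)).toAlgebra
  haveI : @IsScalarTower (BaseChange p A P) (BaseChange p A C) C a3.toSMul a2.toSMul a4.toSMul :=
    @IsScalarTower.of_algebraMap_eq' (BaseChange p A P) (BaseChange p A C) C _ _ _ a3 a2 a4 rfl
  haveI : IsScalarTower (BaseChange p A P) P C :=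
    .of_algebraMap_eq' (relFrob_naturality p A (IsScalarTower.toAlgHom A P C))
  have hpo : Algebra.IsPushout (BaseChange p A P) (BaseChange p A C) P C :=
    CommRingCat.isPushout_iff_isPushout.mp (isPushout_right p A P C).flip
  haveI : Module.Finite (BaseChange p A P) P := hfin
  haveI : Module.Flat (BaseChange p A P) P := hflat
  exact Module.rankAtStalk_isBaseChange hpo.out t

end rank


section omega
variable (A : Type u) [CommRing A]
  (P : Type u) [CommRing P] [Algebra A P]
  (C : Type u) [CommRing C] [Algebra A C] [Algebra P C] [IsScalarTower A P C]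
  [Algebra.FormallyEtale P C]

theorem rankAtStalk_kaehler_of_etale [Module.Flat P Ω[P⁄A]] [Module.Finite P Ω[P⁄A]]
    (t : PrimeSpectrum C) :
    Module.rankAtStalk (R := C) Ω[C⁄A] t =
      Module.rankAtStalk (R := P) Ω[P⁄A] (PrimeSpectrum.comap (algebraMap P C) t) := by
  rw [Module.rankAtStalk_eq_of_equiv
    (KaehlerDifferential.tensorKaehlerEquivOfFormallyEtale A P C).symm]
  exact Module.rankAtStalk_baseChange t

end omega

section rank2
variable (p : ℕ) [Fact p.Prime] (A : Type u) [CommRing A] [CharP A p]
  (B : Type u) [CommRing B] [Algebra A B] [CharP B p] [Algebra.Smooth A B]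

lemma comap_relFrob_comap_includeLeft (q' : PrimeSpectrum (BaseChange p A B)) :
    PrimeSpectrum.comap (relFrob p A B)
      (PrimeSpectrum.comap (Algebra.TensorProduct.includeLeftRingHom :
        B →+* BaseChange p A B) q') = q' := by
  have hBnt : Nontrivial B := CharP.nontrivial_of_char_ne_one (R := B) (Fact.out : p.Prime).ne_one
  have hB'nt : Nontrivial (BaseChange p A B) := (relFrob p A B).domain_nontrivial
  have hB'char : CharP (BaseChange p A B) p := charP_of_algebra' p A _
  ext x
  show (relFrob p A B x) ⊗ₜ[A] (1 : Twist p A) ∈ q'.asIdeal ↔ x ∈ q'.asIdeal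
  rw [Groth.Agent.S3176.includeLeft_relFrob p A B x]
  exact q'.isPrime.pow_mem_iff_mem p (Fact.out : p.Prime).pos

theorem rankAtStalk_relFrob (r : ℕ)
    (hr : ∀ q : PrimeSpectrum B, Module.rankAtStalk (R := B) Ω[B⁄A] q = r)
    (q' : PrimeSpectrum (BaseChange p A B)) :
    letI := (relFrob p A B).toAlgebra
    Module.rankAtStalk (R := BaseChange p A B) B q' = p ^ r := by
  have hAnt : Nontrivial A := CharP.nontrivial_of_char_ne_one (R := A) (Fact.out : p.Prime).ne_one
  let q : PrimeSpectrum B := PrimeSpectrum.comap (Algebra.TensorProduct.includeLeftRingHom :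
        B →+* BaseChange p A B) q'
  obtain ⟨g, hg, n, alg, tower, het⟩ :=
    Algebra.IsSmoothAt.exists_isStandardEtale_mvPolynomial (R := A) (p := q.asIdeal)
  have hetale : Algebra.Etale (MvPolynomial (Fin n) A) (Localization.Away g) := inferInstance
  obtain ⟨qg, hqg⟩ : ∃ qg : PrimeSpectrum (Localization.Away g),
      PrimeSpectrum.comap (algebraMap B (Localization.Away g)) qg = q := by
    have : q ∈ Set.range (PrimeSpectrum.comap (algebraMap B (Localization.Away g))) := by
      rw [PrimeSpectrum.localization_away_comap_range (Localization.Away g) g]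
      exact hg
    exact this
  have hnt : Nontrivial (Localization.Away g) := qg.nontrivial
  have hchar : CharP (Localization.Away g) p := charP_of_algebra' p B _
  let t : PrimeSpectrum (BaseChange p A (Localization.Away g)) :=
    PrimeSpectrum.comap (relFrob p A (Localization.Away g)) qg
  have ht : PrimeSpectrum.comap (mapBC p A (IsScalarTower.toAlgHom A B (Localization.Away g))) t
      = q' := by
    rw [← comap_relFrob_comap_includeLeft p A B q']
    show PrimeSpectrum.comap _ (PrimeSpectrum.comap _ qg) = PrimeSpectrum.comap _ q
    rw [← hqg, ← PrimeSpectrum.comap_comp_apply, ← PrimeSpectrum.comap_comp_apply,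
      relFrob_naturality]
    rfl
  -- Step A
  have hA := rankAtStalk_of_etale p A B (Localization.Away g) (relFrob_finite p A B)
    (flat_relFrob_of_smooth' p A B) t
  rw [ht] at hA
  -- Step B
  have hB := rankAtStalk_of_etale p A (MvPolynomial (Fin n) A) (Localization.Away g)
    (relFrob_finite p A _) (flat_poly p A _) t
  have hB2 : letI := (relFrob p A (MvPolynomial (Fin n) A)).toAlgebra
      ∀ s, Module.rankAtStalk (R := BaseChange p A (MvPolynomial (Fin n) A))
        (MvPolynomial (Fin n) A) s = p ^ n := by
    letI := (relFrob p A (MvPolynomial (Fin n) A)).toAlgebra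
    haveI := poly_free p A (Fin n)
    intro s
    rw [Module.rankAtStalk_eq_finrank_of_free, poly_finrank p A (Fin n)]
    simp
  rw [hB2] at hB
  -- Step C
  have hC1 := rankAtStalk_kaehler_of_etale A (MvPolynomial (Fin n) A) (Localization.Away g) qg
  have hC2 := rankAtStalk_kaehler_of_etale A B (Localization.Away g) qg
  rw [hqg, hr q] at hC2
  have hn : n = r := by
    rw [← hC2, hC1]
    haveI : Module.Free (MvPolynomial (Fin n) A) Ω[MvPolynomial (Fin n) A⁄A] :=
      Module.Free.of_basis (KaehlerDifferential.mvPolynomialBasis A (Fin n))
    rw [Module.rankAtStalk_eq_finrank_of_free,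
      Module.finrank_eq_card_basis (KaehlerDifferential.mvPolynomialBasis A (Fin n))]
    simp
  rw [← hn, ← hB, ← hA]

end rank2

end FrobRel2

end Groth.Agent.Lib.RelFrobSmooth2
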