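import Mathlib
import Groth.Prelude.Def_W4c2gaugesfzipsQuiet
import Groth.Agent.Lib.RelFrobSmooth2
import Groth.Agent.Lib.H80Perfection

/-!
# Frobenius of a smooth algebra over a perfect field is a `p`-th root tower (helper37)

* `RootTower.basis_of_tower`: descent of a basis along a tower `R → R₁ → S`.
* `RootTower.isRootTower_of_basis`: if `S` has an `R`-basis of monomials `∏ yᵢ ^ eᵢ` (`eᵢ < p`)
  with `yᵢ ^ p ∈ R`, then `S` is a tower of `n` elementary `p`-th root extractions of `R`.
* `FrobRoot.includeLeft_bijective`: for `k` perfect, `R → R ⊗_k k^(p)` is bijective.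
* `FrobRoot.isRootTower_of_etale`: for `R` étale over `k[X₁..Xₙ]`, `k` perfect, the Frobenius of `R`
  is a root tower of length `n`.
* `FrobRoot.frobenius_faithfullyFlat`, `FrobRoot.isPthRoot_frobenius`.
-/

set_option autoImplicit false
universe u

namespace Groth.Agent.Lib.RelFrobRootTower

namespace RootTower

open Module

/-- descent of a basis along a tower -/
lemma basis_of_tower {R R₁ S : Type*} [CommRing R] [CommRing R₁] [CommRing S] [Algebra R R₁]
    [Algebra R₁ S] [Algebra R S] [IsScalarTower R R₁ S] {J I : Type*}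
    (b₁ : Basis J R R₁) (c : I → S) (b : Basis (J × I) R S)
    (hb : ∀ j i, b (j, i) = b₁ j • c i) : ∃ b' : Basis I R₁ S, ∀ i, b' i = c i := by
  classical
  let Ξ : (I →₀ R₁) ≃ₗ[R] (J × I →₀ R) :=
    (Finsupp.mapRange.linearEquiv b₁.repr) ≪≫ₗ (Finsupp.curryLinearEquiv R).symm ≪≫ₗ
      Finsupp.domLCongr (Equiv.prodComm I J)
  have key : ((Finsupp.linearCombination R₁ c).restrictScalars R) =
      (b.repr.symm : _ ≃ₗ[R] S).toLinearMap ∘ₗ Ξ.toLinearMap := by
    apply Finsupp.lhom_ext'
    intro i
    apply b₁.ext
    intro j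
    have h1 : (Finsupp.curryLinearEquiv R).symm (Finsupp.single i (Finsupp.single j (1 : R))) =
        Finsupp.single (i, j) (1 : R) := Finsupp.uncurry_single i j 1
    simp [Ξ, hb, h1]
  have hbij : Function.Bijective (Finsupp.linearCombination R₁ c) := by
    have : (Finsupp.linearCombination R₁ c : (I →₀ R₁) → S) = b.repr.symm ∘ Ξ := by
      funext f; exact congr($key f)
    rw [this]; exact b.repr.symm.bijective.comp Ξ.bijective
  refine ⟨Basis.ofRepr (LinearEquiv.ofBijective _ hbij).symm, fun i => ?_⟩
  simp

open Polynomial in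
theorem isRootTower_of_basis (p : ℕ) [Fact p.Prime] (n : ℕ) :
    ∀ (R S : Type u) [CommRing R] [Nontrivial R] [CommRing S] [Algebra R S]
      (x : Fin n → R) (y : Fin n → S)
      (_ : ∀ i, y i ^ p = algebraMap R S (x i))
      (b : Basis (Fin n → Fin p) R S) (_ : ∀ e, b e = ∏ i, y i ^ (e i : ℕ)),
      Quiet.IsRootTower p n R S := by
  induction n with
  | zero =>
    intro R S _ _ _ _ x y hxy b hb
    let e₀ : Fin 0 → Fin p := fun i => i.elim0
    have h1 : ∀ r, b.repr.symm (Finsupp.single e₀ r) = algebraMap R S r := by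
      intro r
      rw [Basis.repr_symm_single, hb]
      simp [Algebra.algebraMap_eq_smul_one]
    have hbij : Function.Bijective (algebraMap R S) := by
      constructor
      · intro r r' h
        rw [← h1, ← h1] at h
        exact Finsupp.single_injective _ (b.repr.symm.injective h)
      · intro s
        refine ⟨b.repr s e₀, ?_⟩
        rw [← h1]
        apply b.repr.injective
        rw [LinearEquiv.apply_symm_apply]
        refine Finsupp.ext fun e => ?_
        rw [Subsingleton.elim e e₀, Finsupp.single_eq_same]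
    exact ⟨(AlgEquiv.ofBijective (Algebra.ofId R S) hbij).symm⟩
  | succ n ih =>
    intro R S _ _ _ _ x y hxy b hb
    classical
    have hSnt : Nontrivial S := ⟨⟨b (fun _ => ⟨0, (Fact.out : p.Prime).pos⟩), 0, b.ne_zero _⟩⟩
    let a := x 0
    have hmonic : (X ^ p - C a : R[X]).Monic := monic_X_pow_sub_C a (Fact.out : p.Prime).ne_zero
    have hroot : eval₂ (algebraMap R S) (y 0) (X ^ p - C a) = 0 := by
      simp [hxy 0, a]
    let φ₁ : Quiet.RootRing p R a →+* S := AdjoinRoot.lift (algebraMap R S) (y 0) hroot
    letI alg₁ : Algebra (Quiet.RootRing p R a) S := φ₁.toAlgebra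
    haveI tower : IsScalarTower R (Quiet.RootRing p R a) S := IsScalarTower.of_algebraMap_eq' (by
      ext r
      simp [φ₁, RingHom.algebraMap_toAlgebra, AdjoinRoot.algebraMap_eq])
    refine ⟨a, alg₁, tower, ?_⟩
    haveI : Nontrivial (Quiet.RootRing p R a) := φ₁.domain_nontrivial
    have hdim : (AdjoinRoot.powerBasis' hmonic).dim = p := by
      rw [AdjoinRoot.powerBasis'_dim, natDegree_X_pow_sub_C]
    let b₁ : Basis (Fin p) R (Quiet.RootRing p R a) :=
      (AdjoinRoot.powerBasis' hmonic).basis.reindex (finCongr hdim)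
    have hb₁ : ∀ j : Fin p, b₁ j = AdjoinRoot.root _ ^ (j : ℕ) := by
      intro j
      simp [b₁, PowerBasis.coe_basis]
    let bb : Basis (Fin p × (Fin n → Fin p)) R S := b.reindex (Fin.consEquiv fun _ => Fin p).symm
    obtain ⟨b', hb'⟩ := basis_of_tower b₁ (fun e' : Fin n → Fin p => ∏ i, y i.succ ^ (e' i : ℕ)) bb
      (by
        intro j e'
        rw [hb₁, Algebra.smul_def]
        simp only [bb, Basis.reindex_apply, Equiv.symm_symm, hb]
        rw [Fin.prod_univ_succ]
        simp [RingHom.algebraMap_toAlgebra, φ₁, Fin.consEquiv])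
    exact ih (Quiet.RootRing p R a) S (fun i => algebraMap R _ (x i.succ)) (fun i => y i.succ)
      (by
        intro i
        rw [hxy i.succ, IsScalarTower.algebraMap_apply R (Quiet.RootRing p R a) S])
      b' hb'

end RootTower

namespace FrobRoot

open FrobAlg TensorProduct MvPolynomial Module
open Groth.Agent.Lib.RelFrobSmooth Groth.Agent.Lib.RelFrobSmooth.FrobRel
open Groth.Agent.Lib.RelFrobSmooth2 Groth.Agent.Lib.RelFrobSmooth2.FrobRel2

/-- type synonym: target of a ring endomorphism -/
def FT {R : Type u} [CommRing R] (_φ : R →+* R) : Type u := R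

instance {R : Type u} [CommRing R] (φ : R →+* R) : CommRing (FT φ) := inferInstanceAs (CommRing R)

instance {R : Type u} [CommRing R] (φ : R →+* R) : Algebra R (FT φ) := φ.toAlgebra

section poly
variable (p : ℕ) [Fact p.Prime] (A : Type u) [CommRing A] [CharP A p] (σ : Type*) [Finite σ]

lemma polyBasis_apply (e : σ → Fin p) :
    letI := (relFrob p A (MvPolynomial σ A)).toAlgebra
    polyBasis p A σ e = monomial (FrobPoly.toExp p e) (1 : A) := by
  letI := (relFrob p A (MvPolynomial σ A)).toAlgebra
  simp [polyBasis]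

end poly

section
variable (p : ℕ) [Fact p.Prime] (k : Type u) [Field k] [CharP k p] [PerfectRing k p]
  (R : Type u) [CommRing R] [Algebra k R] [CharP R p]

lemma includeLeft_bijective :
    Function.Bijective (Algebra.TensorProduct.includeLeftRingHom : R →+* BaseChange p k R) := by
  have hk : Function.Bijective (Algebra.ofId k (Twist p k)) := by
    have : (Algebra.ofId k (Twist p k) : k → Twist p k) = (toTwist p k) ∘ (frobenius k p) := rfl
    rw [this]; exact (toTwist p k).bijective.comp (bijective_frobenius k p)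
  let e : k ≃ₐ[k] Twist p k := AlgEquiv.ofBijective (Algebra.ofId k (Twist p k)) hk
  let E : R ≃ₐ[k] R ⊗[k] Twist p k :=
    (Algebra.TensorProduct.rid k k R).symm.trans (Algebra.TensorProduct.congr AlgEquiv.refl e)
  have : (Algebra.TensorProduct.includeLeftRingHom : R →+* BaseChange p k R) = (E : R →+* _) := by
    ext r
    simp [E, e]
  rw [this]; exact E.bijective

end

theorem isRootTower_of_etale (p : ℕ) [Fact p.Prime] (k : Type u) [Field k] [CharP k p]
    [PerfectRing k p] (R : Type u) [CommRing R] [Algebra k R] [CharP R p]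
    (n : ℕ) [Algebra (MvPolynomial (Fin n) k) R] [IsScalarTower k (MvPolynomial (Fin n) k) R]
    [Algebra.Etale (MvPolynomial (Fin n) k) R] (φ : R →+* R) (hφ : ∀ r, φ r = r ^ p) :
    @Quiet.IsRootTower p n R R _ _ φ.toAlgebra := by
  have hRnt : Nontrivial R := CharP.nontrivial_of_char_ne_one (R := R) (Fact.out : p.Prime).ne_one
  letI a1 : Algebra (BaseChange p k (MvPolynomial (Fin n) k)) (MvPolynomial (Fin n) k) :=
    (relFrob p k (MvPolynomial (Fin n) k)).toAlgebra
  letI a2 : Algebra (BaseChange p k R) R := (relFrob p k R).toAlgebra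
  letI a4 : Algebra (BaseChange p k (MvPolynomial (Fin n) k)) R :=
    ((relFrob p k R).comp (mapBC p k (IsScalarTower.toAlgHom k (MvPolynomial (Fin n) k) R))).toAlgebra
  letI a3 : Algebra (BaseChange p k (MvPolynomial (Fin n) k)) (BaseChange p k R) :=
    (mapBC p k (IsScalarTower.toAlgHom k (MvPolynomial (Fin n) k) R)).toAlgebra
  haveI t1 : @IsScalarTower (BaseChange p k (MvPolynomial (Fin n) k)) (BaseChange p k R) R
      a3.toSMul a2.toSMul a4.toSMul :=
    @IsScalarTower.of_algebraMap_eq' (BaseChange p k (MvPolynomial (Fin n) k)) (BaseChange p k R) R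
      _ _ _ a3 a2 a4 rfl
  haveI t2 : IsScalarTower (BaseChange p k (MvPolynomial (Fin n) k)) (MvPolynomial (Fin n) k) R :=
    .of_algebraMap_eq' (relFrob_naturality p k (IsScalarTower.toAlgHom k (MvPolynomial (Fin n) k) R))
  have hpo : Algebra.IsPushout (BaseChange p k (MvPolynomial (Fin n) k)) (BaseChange p k R)
      (MvPolynomial (Fin n) k) R :=
    CommRingCat.isPushout_iff_isPushout.mp (isPushout_right p k (MvPolynomial (Fin n) k) R).flip
  let B₁ : Basis (Fin n → Fin p) (BaseChange p k R) R := hpo.out.basis (polyBasis p k (Fin n))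
  have hB₁ : ∀ e, B₁ e = algebraMap (MvPolynomial (Fin n) k) R (monomial (FrobPoly.toExp p e) 1) := by
    intro e
    rw [IsBaseChange.basis_apply, polyBasis_apply]
    rfl
  let ι : R ≃+* BaseChange p k R := RingEquiv.ofBijective _ (includeLeft_bijective p k R)
  let Φ : ((Fin n → Fin p) →₀ R) ≃+ R :=
    (Finsupp.mapRange.addEquiv ι.toAddEquiv).trans B₁.repr.symm.toAddEquiv
  have hΦsmul : ∀ (r : R) (c : (Fin n → Fin p) →₀ R), Φ (r • c) = r ^ p * Φ c := by
    intro r c
    have h1 : (Finsupp.mapRange.addEquiv ι.toAddEquiv (r • c) : (Fin n → Fin p) →₀ _) =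
        ι r • (Finsupp.mapRange.addEquiv ι.toAddEquiv c : (Fin n → Fin p) →₀ _) := by
      ext e
      simp
    show B₁.repr.symm (Finsupp.mapRange.addEquiv ι.toAddEquiv (r • c)) =
      r ^ p * B₁.repr.symm (Finsupp.mapRange.addEquiv ι.toAddEquiv c)
    rw [h1, map_smul, Algebra.smul_def]
    congr 1
    exact relFrob_includeLeft p k R r
  let L : ((Fin n → Fin p) →₀ R) ≃ₗ[R] FT φ :=
    { Φ with
      map_smul' := fun r c => by
        show Φ (r • c) = φ r * Φ c
        rw [hΦsmul, hφ] }
  let B : Basis (Fin n → Fin p) R (FT φ) := Basis.ofRepr L.symm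
  let y : Fin n → FT φ := fun i => algebraMap (MvPolynomial (Fin n) k) R (X i)
  have hR : ∀ e, B₁ e = ∏ i, (algebraMap (MvPolynomial (Fin n) k) R (X i)) ^ (e i : ℕ) := by
    intro e
    rw [hB₁, MvPolynomial.monomial_eq, map_mul, MvPolynomial.C_1, map_one, one_mul,
      Finsupp.prod_fintype _ _ (fun i => pow_zero _), map_prod]
    simp only [map_pow, FrobPoly.toExp_apply]
  have hB : ∀ e, B e = ∏ i, y i ^ (e i : ℕ) := by
    intro e
    have h1 : B e = Φ (Finsupp.single e 1) := by
      simp only [B, Basis.coe_ofRepr, LinearEquiv.symm_symm]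
      rfl
    have h2 : Φ (Finsupp.single e 1) = B₁ e := by
      show B₁.repr.symm (Finsupp.mapRange.addEquiv ι.toAddEquiv (Finsupp.single e 1)) = _
      simp
    exact h1.trans (h2.trans (hR e))
  exact RootTower.isRootTower_of_basis p n R (FT φ) (fun i => algebraMap _ R (X i)) y
    (fun i => (hφ _).symm) B hB


section scheme
open CategoryTheory AlgebraicGeometry

theorem frobenius_faithfullyFlat (p : ℕ) [Fact p.Prime] (k : Type u) [Field k] [CharP k p]
    [PerfectRing k p] (A : Type u) [CommRing A] [Algebra k A] [CharP A p] [Algebra.Smooth k A] :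
    (frobenius A p).FaithfullyFlat := by
  rw [RingHom.FaithfullyFlat.iff_flat_and_comap_surjective]
  constructor
  · have h1 : frobenius A p = (relFrob p k A).comp
        (Algebra.TensorProduct.includeLeftRingHom : A →+* BaseChange p k A) := by
      ext a
      exact (relFrob_includeLeft p k A a).symm
    rw [h1]
    exact (RingHom.Flat.of_bijective (includeLeft_bijective p k A)).comp
      (flat_relFrob_of_smooth' p k A)
  · intro q
    refine ⟨q, ?_⟩
    ext x
    show x ^ p ∈ q.asIdeal ↔ x ∈ q.asIdeal
    exact q.isPrime.pow_mem_iff_mem p (Fact.out : p.Prime).pos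

set_option backward.isDefEq.respectTransparency.types false in
theorem isLocalization_basicOpen_Spec (A : CommRingCat.{u}) (f : A) :
    IsLocalization.Away f Γ(Spec A, PrimeSpectrum.basicOpen f) := inferInstance

set_option backward.isDefEq.respectTransparency.types false in
theorem isPthRoot_frobenius (p : ℕ) [Fact p.Prime] (k : Type u) [Field k] [CharP k p]
    [PerfectRing k p] (A : Type u) [CommRing A] [Algebra k A] [CharP A p] [Algebra.Smooth k A] :
    Quiet.IsPthRoot p (Spec.map (CommRingCat.ofHom (frobenius A p))) := by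
  have hA0 : ((p : ℕ) : (CommRingCat.of A)) = 0 := CharP.cast_eq_zero A p
  have hf : Spec.map (CommRingCat.ofHom (frobenius A p)) =
      FrobSch.frob (Spec (CommRingCat.of A)) p := by
    rw [Groth.Agent.Lib.H80Perfection.frob_Spec p (CommRingCat.of A) hA0]
    rfl
  rw [hf]
  intro x
  let q : PrimeSpectrum A := x
  obtain ⟨g, hg, n, alg, tower, het⟩ :=
    Algebra.IsSmoothAt.exists_isStandardEtale_mvPolynomial (R := k) (p := q.asIdeal)
  have hetale : Algebra.Etale (MvPolynomial (Fin n) k) (Localization.Away g) := inferInstance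
  let U : (Spec (CommRingCat.of A)).Opens := PrimeSpectrum.basicOpen g
  have hU : IsAffineOpen U := IsAffineOpen.Spec_basicOpen (R := CommRingCat.of A) g
  refine ⟨⟨U, hU⟩, hg, hU, ?_⟩
  -- the ring of sections
  let R := Γ(Spec (CommRingCat.of A), U)
  letI algA : Algebra A R :=
    AlgebraicGeometry.IsAffineOpen.instAlgebraCarrierObjOppositeOpensCarrierCarrierCommRingCatSpecPresheafOpOpens
      (R := CommRingCat.of A) (U := U)
  haveI : IsLocalization.Away g R := isLocalization_basicOpen_Spec (CommRingCat.of A) g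
  let e : Localization.Away g ≃ₐ[A] R := IsLocalization.algEquiv (Submonoid.powers g) _ _
  letI algk : Algebra k R := ((algebraMap A R).comp (algebraMap k A)).toAlgebra
  haveI : IsScalarTower k A R := .of_algebraMap_eq' rfl
  letI algP : Algebra (MvPolynomial (Fin n) k) R :=
    ((e : Localization.Away g →+* R).comp (algebraMap (MvPolynomial (Fin n) k) (Localization.Away g))).toAlgebra
  haveI : IsScalarTower k (MvPolynomial (Fin n) k) R := .of_algebraMap_eq' (by
    ext c
    show algebraMap A R (algebraMap k A c) = e (algebraMap (MvPolynomial (Fin n) k) (Localization.Away g)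
      (algebraMap k (MvPolynomial (Fin n) k) c))
    rw [← IsScalarTower.algebraMap_apply k (MvPolynomial (Fin n) k) (Localization.Away g),
      IsScalarTower.algebraMap_apply k A (Localization.Away g), e.commutes])
  let e' : Localization.Away g ≃ₐ[MvPolynomial (Fin n) k] R :=
    { e.toRingEquiv with commutes' := fun _ => rfl }
  haveI : Algebra.Etale (MvPolynomial (Fin n) k) R := Algebra.Etale.of_equiv e'
  have hnt : Nontrivial (Localization.Away g) := by
    have : q ∈ Set.range (PrimeSpectrum.comap (algebraMap A (Localization.Away g))) := by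
      rw [PrimeSpectrum.localization_away_comap_range (Localization.Away g) g]
      exact hg
    obtain ⟨qg, -⟩ := this
    exact qg.nontrivial
  haveI : Nontrivial R := e.toEquiv.symm.nontrivial
  haveI : CharP R p := charP_of_algebra' p k R
  exact ⟨n, isRootTower_of_etale p k R n _ (fun r => rfl)⟩

end scheme

end FrobRoot

end Groth.Agent.Lib.RelFrobRootTower
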