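import Mathlib
import Groth.Prelude.Def_RegImm

/-!
# A `p`-basis makes an algebra syntomic (helper37)

If the `R`-algebra `D` has an `R`-basis consisting of the reduced monomials `∏ bᵢ ^ eᵢ` (`eᵢ < p`)
in elements `b₁, …, bₙ` whose `p`-th powers lie in (the image of) `R`, then `R → D` is syntomic in the
sense of `Synt.IsSyntomic`: it is finite free, and every fibre is `κ[X₁..Xₙ]/(Xᵢ^p - τᵢ)`, a global
complete intersection of dimension `0 = n - n`.
-/

set_option autoImplicit false
universe u

namespace Groth.Agent.Lib.SyntPBasis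

open MvPolynomial Module TensorProduct

section ker
variable {K D : Type*} [CommRing K] [CommRing D] [Algebra K D] (p n : ℕ) (hp : 0 < p)
  (c : Fin n → D) (τ : Fin n → K) (hc : ∀ i, c i ^ p = algebraMap K D (τ i))
  (B : Basis (Fin n → Fin p) K D) (hB : ∀ e, B e = ∏ i, c i ^ (e i : ℕ))

include hB in
theorem aeval_surjective : Function.Surjective (aeval c : MvPolynomial (Fin n) K →ₐ[K] D) := by
  intro s
  refine ⟨∑ e, C (B.repr s e) * ∏ i, X i ^ (e i : ℕ), ?_⟩
  conv_rhs => rw [← B.sum_repr s]
  simp [hB, Algebra.smul_def]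

include hp hc hB in
theorem ker_aeval :
    RingHom.ker (aeval c : MvPolynomial (Fin n) K →ₐ[K] D).toRingHom =
      Ideal.span (Set.range fun i => (X i ^ p - C (τ i) : MvPolynomial (Fin n) K)) := by
  set I := Ideal.span (Set.range fun i => (X i ^ p - C (τ i) : MvPolynomial (Fin n) K)) with hI
  have hle : I ≤ RingHom.ker (aeval c : MvPolynomial (Fin n) K →ₐ[K] D).toRingHom := by
    rw [hI, Ideal.span_le]
    rintro _ ⟨i, rfl⟩
    simp [RingHom.mem_ker, hc]
  refine le_antisymm ?_ hle
  intro f hf
  let mk := Ideal.Quotient.mkₐ K I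
  let m : (Fin n → Fin p) → (MvPolynomial (Fin n) K ⧸ I) := fun e => ∏ i, mk (X i) ^ (e i : ℕ)
  have hXp : ∀ i, mk (X i) ^ p = mk (C (τ i)) := by
    intro i
    rw [← map_pow, ← sub_eq_zero, ← map_sub]
    exact Ideal.Quotient.eq_zero_iff_mem.mpr (Ideal.subset_span ⟨i, rfl⟩)
  have hspan : ∀ f, mk f ∈ Submodule.span K (Set.range m) := by
    intro f
    induction f using MvPolynomial.induction_on' with
    | monomial u a =>
      have h1 : mk (monomial u a) =
          (a * ∏ i, τ i ^ (u i / p)) • m (fun i => ⟨u i % p, Nat.mod_lt _ hp⟩) := by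
        rw [MvPolynomial.monomial_eq, Finsupp.prod_fintype _ _ (fun i => pow_zero _), map_mul,
          map_prod]
        simp only [map_pow]
        have : ∀ i, mk (X i) ^ (u i) = mk (C (τ i ^ (u i / p))) * mk (X i) ^ (u i % p) := by
          intro i
          conv_lhs => rw [← Nat.div_add_mod (u i) p, pow_add, pow_mul, hXp]
          rw [map_pow, map_pow]
        simp_rw [this]
        rw [Finset.prod_mul_distrib, ← mul_assoc]
        have hsm : ∀ (k : K) (y : MvPolynomial (Fin n) K ⧸ I), k • y = mk (C k) * y :=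
          fun k y => Algebra.smul_def k y
        rw [hsm]
        congr 1
        simp only [map_mul, map_prod, map_pow]
      rw [h1]
      exact Submodule.smul_mem _ _ (Submodule.subset_span ⟨_, rfl⟩)
    | add f g hf hg => rw [map_add]; exact Submodule.add_mem _ hf hg
  obtain ⟨a, ha⟩ := (Submodule.mem_span_range_iff_exists_fun K).mp (hspan f)
  let φ' := Ideal.Quotient.liftₐ I (aeval c : MvPolynomial (Fin n) K →ₐ[K] D) (fun x hx => hle hx)
  have h2 : φ' (mk f) = 0 := hf
  rw [← ha, map_sum] at h2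
  have h3 : ∀ e, φ' (a e • m e) = a e • B e := by
    intro e
    rw [map_smul, hB]
    congr 1
    have hφ' : ∀ g, φ' (mk g) = aeval c g := fun _ => rfl
    simp only [m, map_prod, map_pow, hφ', aeval_X]
  simp_rw [h3] at h2
  have h4 := Fintype.linearIndependent_iff.mp B.linearIndependent a h2
  have : mk f = 0 := by rw [← ha]; simp [h4]
  exact Ideal.Quotient.eq_zero_iff_mem.mp this

end ker

theorem isGlobalCI_of_basis (p n : ℕ) (hp : 0 < p) (K D : Type u) [Field K] [CommRing D]
    [Algebra K D] (c : Fin n → D) (τ : Fin n → K) (hc : ∀ i, c i ^ p = algebraMap K D (τ i))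
    (B : Basis (Fin n → Fin p) K D) (hB : ∀ e, B e = ∏ i, c i ^ (e i : ℕ)) :
    Synt.IsGlobalCI K D := by
  right
  refine ⟨n, n, le_rfl, aeval c, fun i => X i ^ p - C (τ i), aeval_surjective p n c B hB,
    ker_aeval p n hp c τ hc B hB, ?_⟩
  have : Module.Finite K D := Module.Finite.of_basis B
  have : IsArtinianRing D := IsArtinianRing.of_finite K D
  have : Nontrivial D := ⟨⟨B (fun _ => ⟨0, hp⟩), 0, B.ne_zero _⟩⟩
  have h0 : ringKrullDim D = 0 := ringKrullDimZero_iff_ringKrullDim_eq_zero.mp inferInstance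
  rw [h0]
  simp

theorem isSyntomic_of_basis (p n : ℕ) (hp : 0 < p) (R D : Type u) [CommRing R] [CommRing D]
    [Algebra R D] (b : Fin n → D) (t : Fin n → R) (hb : ∀ i, b i ^ p = algebraMap R D (t i))
    (B : Basis (Fin n → Fin p) R D) (hB : ∀ e, B e = ∏ i, b i ^ (e i : ℕ)) :
    Synt.IsSyntomic R D := by
  have : Module.Free R D := Module.Free.of_basis B
  have : Module.Finite R D := Module.Finite.of_basis B
  have : Module.FinitePresentation R D := Module.finitePresentation_of_projective _ _
  refine ⟨inferInstance, inferInstance, fun 𝔭 => ?_⟩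
  let κ := 𝔭.asIdeal.ResidueField
  let F := 𝔭.asIdeal.Fiber D
  let B' : Basis (Fin n → Fin p) κ F := B.baseChange κ
  have : Module.Finite κ F := Module.Finite.of_basis B'
  refine ⟨inferInstance, fun q => ⟨1, ?_, ?_⟩⟩
  · exact fun h => q.isPrime.ne_top ((Ideal.eq_top_iff_one _).mpr h)
  · let e₀ : F ≃ₐ[F] Localization.Away (1 : F) := IsLocalization.atOne F _
    let e : F ≃ₐ[κ] Localization.Away (1 : F) := e₀.restrictScalars κ
    refine isGlobalCI_of_basis p n hp κ _ (fun i => e (1 ⊗ₜ b i)) (fun i => algebraMap R κ (t i)) ?_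
      (B'.map e.toLinearEquiv) ?_
    · intro i
      rw [← map_pow, Algebra.TensorProduct.tmul_pow, one_pow, hb, ← e.commutes]
      congr 1
      rw [Algebra.TensorProduct.algebraMap_apply, Algebra.algebraMap_eq_smul_one (t i),
        Algebra.algebraMap_eq_smul_one (t i), Algebra.algebraMap_self_apply, smul_tmul]
    · intro e'
      have hB' : ∀ e', B' e' = (1 : κ) ⊗ₜ[R] B e' := fun e' => Basis.baseChange_apply κ B e'
      rw [Basis.map_apply, hB', hB]
      show e (1 ⊗ₜ[R] ∏ i, b i ^ (e' i : ℕ)) = _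
      have : ∀ x : D, (1 : κ) ⊗ₜ[R] x = (Algebra.TensorProduct.includeRight : D →ₐ[R] κ ⊗[R] D) x :=
        fun _ => rfl
      simp only [this, map_prod, map_pow]

end Groth.Agent.Lib.SyntPBasis
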