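import Mathlib
import Groth.Agent.Lib.RelFrobRootTower
import Groth.Agent.Lib.SyntPBasis

/-!
# The relative Frobenius of a smooth algebra is syntomic, ring level (helper37)

* `exists_basis_of_etale`: for `R` étale over `A[X₁..Xₙ]` (`A` any ring of characteristic `p`), `R` has
  a basis over its Frobenius twist `R ⊗_A A^(p)` consisting of the reduced monomials in the `Xᵢ`.
* `exists_basis_of_smooth`: the same, locally around a prime of a smooth `A`-algebra.
* `basis_transfer`, `isSyntomic_of_iso`: transport along a ring isomorphism of the base.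
-/

set_option autoImplicit false
set_option linter.style.haveILetI false
universe u

namespace Groth.Agent.Lib.RelFrobSyntomic

open FrobAlg TensorProduct MvPolynomial Module
open Groth.Agent.Lib.RelFrobSmooth Groth.Agent.Lib.RelFrobSmooth.FrobRel
open Groth.Agent.Lib.RelFrobRootTower

theorem exists_basis_of_etale (p : ℕ) [Fact p.Prime] (A : Type u) [CommRing A] [CharP A p]
    (R : Type u) [CommRing R] [Algebra A R] [CharP R p]
    (n : ℕ) [Algebra (MvPolynomial (Fin n) A) R] [IsScalarTower A (MvPolynomial (Fin n) A) R]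
    [Algebra.Etale (MvPolynomial (Fin n) A) R] :
    letI := (relFrob p A R).toAlgebra
    ∃ B₁ : Basis (Fin n → Fin p) (BaseChange p A R) R,
      ∀ e, B₁ e = ∏ i, (algebraMap (MvPolynomial (Fin n) A) R (X i)) ^ (e i : ℕ) := by
  letI a1 : Algebra (BaseChange p A (MvPolynomial (Fin n) A)) (MvPolynomial (Fin n) A) :=
    (relFrob p A (MvPolynomial (Fin n) A)).toAlgebra
  letI a2 : Algebra (BaseChange p A R) R := (relFrob p A R).toAlgebra
  letI a4 : Algebra (BaseChange p A (MvPolynomial (Fin n) A)) R :=
    ((relFrob p A R).comp (mapBC p A (IsScalarTower.toAlgHom A (MvPolynomial (Fin n) A) R))).toAlgebra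
  letI a3 : Algebra (BaseChange p A (MvPolynomial (Fin n) A)) (BaseChange p A R) :=
    (mapBC p A (IsScalarTower.toAlgHom A (MvPolynomial (Fin n) A) R)).toAlgebra
  haveI t1 : @IsScalarTower (BaseChange p A (MvPolynomial (Fin n) A)) (BaseChange p A R) R
      a3.toSMul a2.toSMul a4.toSMul :=
    @IsScalarTower.of_algebraMap_eq' (BaseChange p A (MvPolynomial (Fin n) A)) (BaseChange p A R) R
      _ _ _ a3 a2 a4 rfl
  haveI t2 : IsScalarTower (BaseChange p A (MvPolynomial (Fin n) A)) (MvPolynomial (Fin n) A) R :=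
    .of_algebraMap_eq' (relFrob_naturality p A (IsScalarTower.toAlgHom A (MvPolynomial (Fin n) A) R))
  have hpo : Algebra.IsPushout (BaseChange p A (MvPolynomial (Fin n) A)) (BaseChange p A R)
      (MvPolynomial (Fin n) A) R :=
    CommRingCat.isPushout_iff_isPushout.mp (isPushout_right p A (MvPolynomial (Fin n) A) R).flip
  let B₁ : Basis (Fin n → Fin p) (BaseChange p A R) R := hpo.out.basis (polyBasis p A (Fin n))
  have hB₁ : ∀ e, B₁ e = algebraMap (MvPolynomial (Fin n) A) R (monomial (FrobPoly.toExp p e) 1) := by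
    intro e
    rw [IsBaseChange.basis_apply, FrobRoot.polyBasis_apply]
    rfl
  refine ⟨B₁, fun e => ?_⟩
  rw [hB₁, MvPolynomial.monomial_eq, map_mul, MvPolynomial.C_1, map_one, one_mul,
      Finsupp.prod_fintype _ _ (fun i => pow_zero _), map_prod]
  simp only [map_pow, FrobPoly.toExp_apply]

theorem exists_basis_of_smooth (p : ℕ) [Fact p.Prime] (A R₀ : Type u) [CommRing A] [CommRing R₀]
    [Algebra A R₀] [CharP A p] [Algebra.Smooth A R₀] (𝔮 : Ideal R₀) [𝔮.IsPrime] :
    ∃ g ∉ 𝔮, ∃ n : ℕ, ∀ (C : Type u) [CommRing C] [Algebra R₀ C] [Algebra A C]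
      [IsScalarTower A R₀ C] [IsLocalization.Away g C] [CharP C p],
      letI := (relFrob p A C).toAlgebra
      ∃ (b : Fin n → C) (B : Basis (Fin n → Fin p) (BaseChange p A C) C),
        ∀ e, B e = ∏ i, b i ^ (e i : ℕ) := by
  obtain ⟨g, hg, n, alg, tower, het⟩ :=
    Algebra.IsSmoothAt.exists_isStandardEtale_mvPolynomial (R := A) (p := 𝔮)
  have hetale : Algebra.Etale (MvPolynomial (Fin n) A) (Localization.Away g) := inferInstance
  refine ⟨g, hg, n, fun C _ _ _ _ _ _ => ?_⟩
  let e : Localization.Away g ≃ₐ[R₀] C := IsLocalization.algEquiv (Submonoid.powers g) _ _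
  letI algP : Algebra (MvPolynomial (Fin n) A) C :=
    ((e : Localization.Away g →+* C).comp
      (algebraMap (MvPolynomial (Fin n) A) (Localization.Away g))).toAlgebra
  haveI : IsScalarTower A (MvPolynomial (Fin n) A) C := .of_algebraMap_eq' (by
    ext c
    show algebraMap A C c = e (algebraMap (MvPolynomial (Fin n) A) (Localization.Away g)
      (algebraMap A (MvPolynomial (Fin n) A) c))
    rw [← IsScalarTower.algebraMap_apply A (MvPolynomial (Fin n) A) (Localization.Away g),
      IsScalarTower.algebraMap_apply A R₀ (Localization.Away g), e.commutes,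
      ← IsScalarTower.algebraMap_apply])
  let e' : Localization.Away g ≃ₐ[MvPolynomial (Fin n) A] C :=
    { e.toRingEquiv with commutes' := fun _ => rfl }
  haveI : Algebra.Etale (MvPolynomial (Fin n) A) C := Algebra.Etale.of_equiv e'
  obtain ⟨B₁, hB₁⟩ := exists_basis_of_etale p A C n
  exact ⟨_, B₁, hB₁⟩

lemma basis_transfer {R R' C ι : Type*} [CommRing R] [CommRing R'] [CommRing C] [Algebra R C]
    [Algebra R' C] (ε : R ≃+* R') (h : algebraMap R C = (algebraMap R' C).comp (ε : R →+* R'))
    (B₁ : Basis ι R' C) : ∃ B : Basis ι R C, ∀ i, B i = B₁ i := by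
  letI : Algebra R R' := (ε : R →+* R').toAlgebra
  haveI : IsScalarTower R R' C := .of_algebraMap_eq' h
  let l : R ≃ₗ[R] R' := LinearEquiv.ofBijective (Algebra.linearMap R R') ε.bijective
  let b₀ : Basis Unit R R' := (Basis.singleton Unit R).map l
  refine ⟨(b₀.smulTower B₁).reindex (Equiv.punitProd ι), fun i => ?_⟩
  have h1 : l 1 = 1 := map_one (algebraMap R R')
  simp only [b₀, Basis.reindex_apply, Equiv.punitProd_symm_apply, Basis.smulTower_apply,
    Basis.map_apply, Basis.singleton_apply]
  rw [h1, one_smul]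

theorem isSyntomic_of_iso (p : ℕ) [Fact p.Prime] (A C : Type u) [CommRing A] [CommRing C]
    [Algebra A C] [CharP A p] [CharP C p] (n : ℕ) (b : Fin n → C)
    (B : letI := (relFrob p A C).toAlgebra; Basis (Fin n → Fin p) (BaseChange p A C) C)
    (hB : ∀ e, B e = ∏ i, b i ^ (e i : ℕ))
    (T : Type u) [CommRing T] [Algebra T C] (ε : T ≃+* BaseChange p A C)
    (hε : algebraMap T C = (relFrob p A C).comp (ε : T →+* BaseChange p A C)) :
    Synt.IsSyntomic T C := by
  letI := (relFrob p A C).toAlgebra
  obtain ⟨B', hB'⟩ := basis_transfer ε hε B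
  refine Groth.Agent.Lib.SyntPBasis.isSyntomic_of_basis p n (Fact.out : p.Prime).pos T C b
    (fun i => ε.symm (b i ⊗ₜ 1)) ?_ B' (fun e => by rw [hB', hB])
  intro i
  rw [hε]
  simp [relFrob_includeLeft]

end Groth.Agent.Lib.RelFrobSyntomic
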