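import Mathlib
import Groth.Prelude.Def_Frob
import Groth.Prelude.Def_RegImm
import Groth.Agent.Lib.RelFrobSyntomic
import Groth.Agent.Lib.OmegaDer81G

/-!
# The relative Frobenius of a smooth morphism is syntomic (helper37)

Scheme-level part: product charts of the Frobenius twist `X^(p) = X ×_{S,F} S`, identification of
their rings of sections with the ring-level Frobenius twist, compatibility of the relative Frobenius,
and the final theorem `isSyntomicMor_relFrob`.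
-/

set_option autoImplicit false
set_option linter.style.haveILetI false
universe u

namespace Groth.Agent.Lib.RelFrobSyntomicSch

open CategoryTheory CategoryTheory.Limits AlgebraicGeometry FrobSch FrobAlg TensorProduct
open Groth.Agent.Lib.RelFrobSmooth Groth.Agent.Lib.RelFrobSmooth.FrobRel

lemma appLE_congr_hom {X Y : Scheme.{u}} {f g : X ⟶ Y} (h : f = g) (U : Y.Opens) (V : X.Opens)
    (e : V ≤ f ⁻¹ᵁ U) : f.appLE U V e = g.appLE U V (h ▸ e) := by
  subst h; rfl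

lemma frob_appLE (p : ℕ) [Fact p.Prime] (Y : Scheme.{u}) [IsCharP Y p] (U : Y.Opens)
    (h : U ≤ frob Y p ⁻¹ᵁ U) (s : Γ(Y, U)) : ((frob Y p).appLE U U h).hom s = s ^ p := by
  have h1 : (frob Y p).appLE U U h = (frob Y p).app U :=
    (Scheme.Hom.app_eq_appLE (frob Y p)).symm
  rw [h1]; rfl

theorem mem_basicOpen_iff_notMem_primeIdealOf {X : Scheme.{u}} {V : X.Opens} (hV : IsAffineOpen V)
    (x : X) (hx : x ∈ V) (f : Γ(X, V)) :
    x ∈ X.basicOpen f ↔ f ∉ (hV.primeIdealOf ⟨x, hx⟩).asIdeal := by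
  have h1 : hV.primeIdealOf ⟨x, hx⟩ ∈ hV.fromSpec ⁻¹ᵁ X.basicOpen f ↔ x ∈ X.basicOpen f := by
    change hV.fromSpec (hV.primeIdealOf ⟨x, hx⟩) ∈ X.basicOpen f ↔ _
    rw [hV.fromSpec_primeIdealOf ⟨x, hx⟩]
  rw [← h1, hV.fromSpec_preimage_basicOpen]
  rfl

section
variable (p : ℕ) [Fact p.Prime] {S X : Scheme.{u}} [IsCharP S p] (f : X ⟶ S)

/-- the product chart of the Frobenius twist -/
noncomputable abbrev chart (S₀ : S.Opens) (U : X.Opens) : (frobTwist f p).Opens :=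
  (pullback.fst f (frob S p)) ⁻¹ᵁ U ⊓ (pullback.snd f (frob S p)) ⁻¹ᵁ S₀

variable {S₀ : S.Opens} {U : X.Opens} (hS₀ : IsAffineOpen S₀) (hU : IsAffineOpen U)
  (e : U ≤ f ⁻¹ᵁ S₀)

include hS₀ hU e in
lemma isAffineOpen_chart : IsAffineOpen (chart p f S₀ U) :=
  Groth.Agent.Lib.OmegaDer81.isAffineOpen_pullbackChart f (frob S p)
    (pullback.fst f (frob S p)) (pullback.snd f (frob S p))
    (IsPullback.of_hasPullback f (frob S p)) hS₀ hS₀ hU (le_refl S₀) e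

include e in
lemma le_preimage_chart : U ≤ relFrob f p ⁻¹ᵁ chart p f S₀ U := by
  intro x hx
  haveI : IsCharP X p := IsCharP.of_hom f p
  refine ⟨?_, ?_⟩
  · show (pullback.fst f (frob S p)) ((relFrob f p) x) ∈ U
    rw [← Scheme.Hom.comp_apply, relFrob_fst]; exact hx
  · show (pullback.snd f (frob S p)) ((relFrob f p) x) ∈ S₀
    rw [← Scheme.Hom.comp_apply, relFrob_snd]; exact e hx

include hS₀ hU in
theorem isSyntomic_appLE_chart [Algebra Γ(S, S₀) Γ(X, U)]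
    (halg : algebraMap Γ(S, S₀) Γ(X, U) = (f.appLE S₀ U e).hom)
    [CharP Γ(S, S₀) p] [CharP Γ(X, U) p] (n : ℕ) (b : Fin n → Γ(X, U))
    (B : letI := (FrobAlg.relFrob p Γ(S, S₀) Γ(X, U)).toAlgebra
      Module.Basis (Fin n → Fin p) (BaseChange p Γ(S, S₀) Γ(X, U)) Γ(X, U))
    (hB : ∀ e', B e' = ∏ i, b i ^ (e' i : ℕ)) :
    letI := ((FrobSch.relFrob f p).appLE (chart p f S₀ U) U (le_preimage_chart p f e)).hom.toAlgebra
    Synt.IsSyntomic Γ(frobTwist f p, chart p f S₀ U) Γ(X, U) := by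
  letI algT := ((FrobSch.relFrob f p).appLE (chart p f S₀ U) U
    (le_preimage_chart p f e)).hom.toAlgebra
  haveI : IsCharP X p := IsCharP.of_hom f p
  have hT := Groth.Agent.Lib.OmegaDer81.isPushout_pullbackChart f (frob S p)
    (pullback.fst f (frob S p)) (pullback.snd f (frob S p))
    (IsPullback.of_hasPullback f (frob S p)) hS₀ hS₀ hU (le_refl S₀) e
  have hBC := CommRingCat.isPushout_tensorProduct Γ(S, S₀) Γ(X, U) (Twist p Γ(S, S₀))
  have hBC' : IsPushout (f.appLE S₀ U e) ((frob S p).appLE S₀ S₀ (le_refl S₀))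
      (CommRingCat.ofHom (Algebra.TensorProduct.includeLeftRingHom :
        Γ(X, U) →+* BaseChange p Γ(S, S₀) Γ(X, U)))
      (CommRingCat.ofHom ((Algebra.TensorProduct.includeRight :
        Twist p Γ(S, S₀) →ₐ[Γ(S, S₀)] BaseChange p Γ(S, S₀) Γ(X, U)).toRingHom.comp
          (toTwist p Γ(S, S₀) : Γ(S, S₀) →+* Twist p Γ(S, S₀)))) := by
    refine hBC.of_iso (Iso.refl _) (Iso.refl _) (toTwist p Γ(S, S₀)).symm.toCommRingCatIso
      (Iso.refl _) ?_ ?_ ?_ ?_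
    · ext a
      simp [halg]
    · ext a
      simp only [algebraMap_twist, RingEquiv.toCommRingCatIso_hom, Iso.refl_hom, Category.id_comp,
        CommRingCat.hom_comp, CommRingCat.hom_ofHom, RingHom.coe_comp, Function.comp_apply]
      erw [RingEquiv.symm_apply_apply]
      exact (frob_appLE p S S₀ _ a).symm
    · simp
    · ext t
      simp
  let ε := hT.isoIsPushout _ _ hBC'
  have hε : (FrobSch.relFrob f p).appLE (chart p f S₀ U) U (le_preimage_chart p f e) =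
      ε.hom ≫ CommRingCat.ofHom (FrobAlg.relFrob p Γ(S, S₀) Γ(X, U)) := by
    apply hT.hom_ext
    · rw [IsPushout.inl_isoIsPushout_hom_assoc, Scheme.Hom.appLE_comp_appLE,
        appLE_congr_hom (relFrob_fst f p)]
      ext c
      simp [frob_appLE, relFrob_includeLeft]
    · rw [IsPushout.inr_isoIsPushout_hom_assoc, Scheme.Hom.appLE_comp_appLE,
        appLE_congr_hom (relFrob_snd f p)]
      ext a
      simp [relFrob_includeRight, halg]
  exact Groth.Agent.Lib.RelFrobSyntomic.isSyntomic_of_iso p Γ(S, S₀) Γ(X, U) n b B hB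
    Γ(frobTwist f p, chart p f S₀ U) ε.commRingCatIsoToRingEquiv (by
      ext t
      show ((FrobSch.relFrob f p).appLE _ U _).hom t = _
      rw [hε]; rfl)

end

/-- The relative Frobenius of a smooth morphism is syntomic. -/
theorem isSyntomicMor_relFrob (p : ℕ) [Fact p.Prime] (S X : Scheme.{u}) [IsCharP S p] (f : X ⟶ S)
    [Smooth f] : Synt.IsSyntomicMor (FrobSch.relFrob f p) := by
  intro x
  obtain ⟨S₀, hS₀, hfx⟩ : ∃ S₀ : S.Opens, IsAffineOpen S₀ ∧ f x ∈ S₀ := by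
    obtain ⟨_, ⟨S₀, hS₀, rfl⟩, hx, -⟩ := S.isBasis_affineOpens.exists_subset_of_mem_open
      (Set.mem_univ (f x)) isOpen_univ
    exact ⟨S₀, hS₀, hx⟩
  obtain ⟨U₀, hU₀, hxU₀, e₀⟩ : ∃ U₀ : X.Opens, IsAffineOpen U₀ ∧ x ∈ U₀ ∧ U₀ ≤ f ⁻¹ᵁ S₀ := by
    obtain ⟨_, ⟨U₀, hU₀, rfl⟩, hx, hle⟩ := X.isBasis_affineOpens.exists_subset_of_mem_open
      (show x ∈ ((f ⁻¹ᵁ S₀ : X.Opens) : Set X) from hfx) (f ⁻¹ᵁ S₀).isOpen
    exact ⟨U₀, hU₀, hx, hle⟩
  letI algAR : Algebra Γ(S, S₀) Γ(X, U₀) := (f.appLE S₀ U₀ e₀).hom.toAlgebra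
  haveI hsm : Algebra.Smooth Γ(S, S₀) Γ(X, U₀) := f.smooth_appLE hS₀ hU₀ e₀
  let 𝔮 := hU₀.primeIdealOf ⟨x, hxU₀⟩
  haveI : Nontrivial Γ(X, U₀) := 𝔮.nontrivial
  haveI : Nontrivial Γ(S, S₀) := (algebraMap Γ(S, S₀) Γ(X, U₀)).domain_nontrivial
  haveI : CharP Γ(S, S₀) p :=
    (CharP.charP_iff_prime_eq_zero (Fact.out : p.Prime)).mpr (natCast_eq_zero_app S p S₀)
  obtain ⟨g, hg, n, H⟩ :=
    Groth.Agent.Lib.RelFrobSyntomic.exists_basis_of_smooth p Γ(S, S₀) Γ(X, U₀) 𝔮.asIdeal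
  let U : X.Opens := X.basicOpen g
  have hU : IsAffineOpen U := hU₀.basicOpen g
  have hUle : U ≤ U₀ := X.basicOpen_le g
  have e : U ≤ f ⁻¹ᵁ S₀ := hUle.trans e₀
  have hxU : x ∈ U := (mem_basicOpen_iff_notMem_primeIdealOf hU₀ x hxU₀ g).mpr hg
  letI algAC : Algebra Γ(S, S₀) Γ(X, U) := (f.appLE S₀ U e).hom.toAlgebra
  haveI : IsScalarTower Γ(S, S₀) Γ(X, U₀) Γ(X, U) := .of_algebraMap_eq' (by
    show (f.appLE S₀ U e).hom =
      (X.presheaf.map (homOfLE hUle).op).hom.comp (f.appLE S₀ U₀ e₀).hom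
    rw [← CommRingCat.hom_comp, Scheme.Hom.appLE_map])
  haveI : IsLocalization.Away g Γ(X, U) := hU₀.isLocalization_basicOpen g
  haveI : Nontrivial Γ(X, U) := (hU.primeIdealOf ⟨x, hxU⟩).nontrivial
  haveI : CharP Γ(X, U) p := charP_of_algebra' p Γ(S, S₀) Γ(X, U)
  obtain ⟨b, B, hB⟩ := H Γ(X, U)
  exact ⟨⟨U, hU⟩, ⟨chart p f S₀ U, isAffineOpen_chart p f hS₀ hU e⟩, le_preimage_chart p f e, hxU,
    isSyntomic_appLE_chart p f hS₀ hU e rfl n b B hB⟩

end Groth.Agent.Lib.RelFrobSyntomicSch
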