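import Mathlib
import Groth.Agent.Lib.IsQuot45
import Groth.Agent.Lib.RelFrobSyntomicSch

/-!
# Quotients of affine schemes by finite groups are affine (helper37)

For `hp : SGA1.IsQuot ρ p` (finite `G`) and an open `W ⊆ Y` with affine preimage `p⁻¹W`,
`W` is affine (`isAffineOpen_of_isAffineOpen_preimage`).  The proof is the classical one:
prime avoidance + norms produce invariant functions `h` with `Y_h` inside a given affine open, and
these `h` generate the unit ideal because `p` is integral and surjective.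
-/

set_option autoImplicit false
universe u

namespace Groth.Agent.Lib.QuotAffine37

open AlgebraicGeometry CategoryTheory Groth.Agent.Lib.IsQuot45
open Groth.Agent.Lib.RelFrobSyntomicSch (mem_basicOpen_iff_notMem_primeIdealOf)

variable {X Y : Scheme.{u}} {G : Type u} [Group G]

lemma mem_basicOpen_pull_iff (ρ : G →* Aut X) (T : X.Opens)
    (hTs : ∀ g : G, T ≤ (ρ g).hom ⁻¹ᵁ T) (g : G) (s : Γ(X, T)) (x : X) (hx : x ∈ T) :
    x ∈ X.basicOpen (pull ρ T hTs g s) ↔ (ρ g).hom x ∈ X.basicOpen s := by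
  change x ∈ X.basicOpen ((ρ g).hom.appLE T T (hTs g) s) ↔ _
  rw [Scheme.basicOpen_appLE]
  exact ⟨fun h => h.2, fun h => ⟨hx, h⟩⟩

variable [Finite G]

theorem exists_basicOpen_affine {ρ : G →* Aut X} {p : X ⟶ Y} (hp : SGA1.IsQuot ρ p)
    (W : Y.Opens) (hT : IsAffineOpen (p ⁻¹ᵁ W)) (x : X) (hx : x ∈ p ⁻¹ᵁ W) :
    ∃ h : Γ(Y, W), IsAffineOpen (Y.basicOpen h) ∧ p x ∈ Y.basicOpen h := by
  classical
  letI : Fintype G := Fintype.ofFinite G
  letI := actionV hp W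
  letI := algebraV p W
  have hinv := isInvariant hp W
  have hyW : p x ∈ W := hx
  obtain ⟨_, ⟨V, hV, rfl⟩, hyV, hVW⟩ :=
    Y.isBasis_affineOpens.exists_subset_of_mem_open hyW W.isOpen
  have hVW' : V ≤ W := hVW
  have hUT : p ⁻¹ᵁ V ≤ p ⁻¹ᵁ W := fun z hz => hVW' hz
  have horb : ∀ g : G, (ρ g).hom x ∈ p ⁻¹ᵁ V := by
    intro g
    change p ((ρ g).hom x) ∈ V
    rw [← Scheme.Hom.comp_apply, hp.inv g]; exact hyV
  have horbT : ∀ g : G, (ρ g).hom x ∈ p ⁻¹ᵁ W := fun g => hUT (horb g)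
  let Zc : Set (PrimeSpectrum Γ(X, p ⁻¹ᵁ W)) := {Q | hT.fromSpec Q ∉ p ⁻¹ᵁ V}
  let I : Ideal Γ(X, p ⁻¹ᵁ W) := PrimeSpectrum.vanishingIdeal Zc
  have hI1 : ∀ f : Γ(X, p ⁻¹ᵁ W), X.basicOpen f ≤ p ⁻¹ᵁ V → f ∈ I := by
    intro f hf
    rw [PrimeSpectrum.mem_vanishingIdeal]
    intro Q hQ
    by_contra hfQ
    apply hQ
    have : Q ∈ hT.fromSpec ⁻¹ᵁ X.basicOpen f := by
      rw [hT.fromSpec_preimage_basicOpen]; exact hfQ
    exact hf this
  have hI2 : ∀ f : Γ(X, p ⁻¹ᵁ W), f ∈ I → X.basicOpen f ≤ p ⁻¹ᵁ V := by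
    intro f hf z hz
    have hzT : z ∈ p ⁻¹ᵁ W := X.basicOpen_le f hz
    by_contra hzU
    have hQ : hT.primeIdealOf ⟨z, hzT⟩ ∈ Zc := by
      change hT.fromSpec _ ∉ p ⁻¹ᵁ V
      rw [hT.fromSpec_primeIdealOf ⟨z, hzT⟩]; exact hzU
    have := (PrimeSpectrum.mem_vanishingIdeal _ _).mp hf _ hQ
    exact ((mem_basicOpen_iff_notMem_primeIdealOf hT z hzT f).mp hz) this
  let P : G → Ideal Γ(X, p ⁻¹ᵁ W) :=
    fun g => (hT.primeIdealOf ⟨(ρ g).hom x, horbT g⟩).asIdeal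
  have hP : ∀ g, (P g).IsPrime := fun g => (hT.primeIdealOf _).isPrime
  have hnotle : ∀ g, ¬ I ≤ P g := by
    intro g hle
    obtain ⟨f, hfU, hxf⟩ := hT.exists_basicOpen_le (V := p ⁻¹ᵁ V) ⟨(ρ g).hom x, horb g⟩ (horbT g)
    exact ((mem_basicOpen_iff_notMem_primeIdealOf hT _ (horbT g) f).mp hxf) (hle (hI1 f hfU))
  obtain ⟨f, hfI, hfP⟩ : ∃ f ∈ I, ∀ g, f ∉ P g := by
    by_contra hcon
    push Not at hcon
    have hsub : (I : Set Γ(X, p ⁻¹ᵁ W)) ⊆
        ⋃ g ∈ ((Finset.univ : Finset G) : Set G), (P g : Set Γ(X, p ⁻¹ᵁ W)) := by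
      intro f hf
      obtain ⟨g, hg⟩ := hcon f hf
      exact Set.mem_biUnion (Finset.mem_coe.mpr (Finset.mem_univ g)) hg
    obtain ⟨g, -, hg⟩ :=
      (Ideal.subset_union_prime (1 : G) (1 : G) (fun g _ _ _ => hP g)).mp hsub
    exact hnotle g hg
  let h₀ : Γ(X, p ⁻¹ᵁ W) := ∏ g : G, g • f
  have hinv₀ : ∀ g : G, g • h₀ = h₀ := by
    intro g
    simp only [h₀]
    rw [Finset.smul_prod']
    simp only [smul_smul]
    exact Fintype.prod_equiv (Equiv.mulLeft g) _ _ (fun x => rfl)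
  obtain ⟨h, hh⟩ := hinv.isInvariant h₀ hinv₀
  have hh' : (p.app W).hom h = h₀ := hh
  have hh₀I : h₀ ∈ I := by
    refine Ideal.mem_of_dvd I ?_ hfI
    have : (1 : G) • f ∣ h₀ := Finset.dvd_prod_of_mem _ (Finset.mem_univ 1)
    rwa [one_smul] at this
  have hpre : p ⁻¹ᵁ (Y.basicOpen h) = X.basicOpen h₀ := by
    rw [Scheme.preimage_basicOpen, ← hh']
  have hxh₀ : x ∈ X.basicOpen h₀ := by
    rw [mem_basicOpen_iff_notMem_primeIdealOf hT x hx]
    intro hmem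
    have hprime : (hT.primeIdealOf ⟨x, hx⟩).asIdeal.IsPrime := (hT.primeIdealOf _).isPrime
    obtain ⟨g, -, hg⟩ := (hprime.prod_mem_iff).mp hmem
    have h1 : x ∉ X.basicOpen (g • f) :=
      fun hc => ((mem_basicOpen_iff_notMem_primeIdealOf hT x hx _).mp hc) hg
    rw [smul_def, mem_basicOpen_pull_iff ρ (p ⁻¹ᵁ W) _ g⁻¹ f x hx] at h1
    exact h1 ((mem_basicOpen_iff_notMem_primeIdealOf hT _ (horbT g⁻¹) f).mpr (hfP g⁻¹))
  have hle : Y.basicOpen h ≤ V := by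
    intro y' hy'
    obtain ⟨x', rfl⟩ := Groth.Agent.Lib.IsQuot45.surjective hp y'
    have : x' ∈ p ⁻¹ᵁ (Y.basicOpen h) := hy'
    rw [hpre] at this
    exact hI2 h₀ hh₀I this
  refine ⟨h, ?_, ?_⟩
  · have e : Y.basicOpen (Y.presheaf.map (homOfLE hVW').op h) = Y.basicOpen h := by
      rw [Scheme.basicOpen_res]; exact inf_eq_right.mpr hle
    rw [← e]
    exact hV.basicOpen _
  · have : x ∈ p ⁻¹ᵁ (Y.basicOpen h) := by rw [hpre]; exact hxh₀
    exact this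

/-- If `p : X ⟶ Y` is a quotient by a finite group and `p⁻¹W` is affine, then `W` is affine. -/
theorem isAffineOpen_of_isAffineOpen_preimage {ρ : G →* Aut X} {p : X ⟶ Y}
    (hp : SGA1.IsQuot ρ p) (W : Y.Opens) (hT : IsAffineOpen (p ⁻¹ᵁ W)) : IsAffineOpen W := by
  refine isAffineOpen_of_isAffineOpen_basicOpen W {h | IsAffineOpen (Y.basicOpen h)} ?_
    (fun h hh => hh)
  by_contra hne
  obtain ⟨𝔪, h𝔪, hle⟩ := Ideal.exists_le_maximal _ hne
  obtain ⟨P, hP⟩ := (isIntegral_app hp W).comap_surjective (hp.injective W) ⟨𝔪, h𝔪.isPrime⟩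
  have hxT : hT.fromSpec P ∈ p ⁻¹ᵁ W := by
    have : hT.fromSpec P ∈ Set.range hT.fromSpec := ⟨P, rfl⟩
    rw [hT.range_fromSpec] at this
    exact this
  obtain ⟨h, hhS, hxh⟩ := exists_basicOpen_affine hp W hT _ hxT
  have h1 : hT.fromSpec P ∈ X.basicOpen ((p.app W).hom h) := by
    have : hT.fromSpec P ∈ p ⁻¹ᵁ (Y.basicOpen h) := hxh
    rwa [Scheme.preimage_basicOpen] at this
  have h2 : (p.app W).hom h ∉ P.asIdeal := by
    have : P ∈ hT.fromSpec ⁻¹ᵁ X.basicOpen ((p.app W).hom h) := h1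
    rw [hT.fromSpec_preimage_basicOpen] at this
    exact this
  apply h2
  have h3 : h ∈ 𝔪 := hle (Ideal.subset_span hhS)
  have h4 := congrArg PrimeSpectrum.asIdeal hP
  have h5 : h ∈ (PrimeSpectrum.comap (p.app W).hom P).asIdeal := by
    rw [h4]; exact h3
  exact h5

/-- A quotient of an affine scheme by a finite group is affine. -/
theorem isAffine_of_isAffine {ρ : G →* Aut X} {p : X ⟶ Y} (hp : SGA1.IsQuot ρ p) [IsAffine X] :
    IsAffine Y := by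
  have h1 : IsAffineOpen (p ⁻¹ᵁ (⊤ : Y.Opens)) := isAffineOpen_top X
  have h2 : IsAffineOpen (⊤ : Y.Opens) := isAffineOpen_of_isAffineOpen_preimage hp ⊤ h1
  have : IsAffine ((⊤ : Y.Opens) : Scheme.{u}) := h2
  exact .of_isIso Y.topIso.inv

/-- If the composite `p ≫ q` of a quotient `p` by a finite group with `q` is affine, `q` is
affine. -/
theorem isAffineHom_of_comp {Z : Scheme.{u}} {ρ : G →* Aut X} {p : X ⟶ Y} (hp : SGA1.IsQuot ρ p)
    (q : Y ⟶ Z) [IsAffineHom (p ≫ q)] : IsAffineHom q := by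
  refine ⟨fun V hV => ?_⟩
  have h1 : IsAffineOpen ((p ≫ q) ⁻¹ᵁ V) := hV.preimage (p ≫ q)
  exact isAffineOpen_of_isAffineOpen_preimage hp (q ⁻¹ᵁ V) h1

end Groth.Agent.Lib.QuotAffine37
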