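import Groth.Agent.Lib.H8EtAct
import Groth.Agent.Lib.SrcLocal2
import Groth.Agent.S2909

/-!
# Quotients of étale separated schemes by finite groups are étale (helper8)

SGA 1 V: if `f : X ⟶ Y` is étale and separated, a finite group `G` acts on `X` over `Y` and
`p : X ⟶ X'` is a quotient, then `p` is finite étale and `X' ⟶ Y` is étale.
-/

set_option autoImplicit false
universe u
open CategoryTheory CategoryTheory.Limits AlgebraicGeometry Grpd

namespace Groth.Agent.Lib.H8EtAct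

open Groth.Agent.Lib.H8ActGrpd Groth.Agent.Lib.H8GrpdQuot

variable {X X' S : Scheme.{u}} {G : Type u} [Group G] [Finite G] (ρ : G →* Aut X) (f : X ⟶ S)
  (hρ : ∀ g : G, (ρ g).hom ≫ f = f) [Etale f] [IsSeparated f]

omit [Finite G] [IsSeparated f] in
lemma isOpenImmersion_diagonal_of_etale : IsOpenImmersion (pullback.diagonal f) :=
  inferInstance

variable {p : X ⟶ X'}

include hρ

theorem orbAff_of_isQuot (hp : SGA1.IsQuot ρ p) : OrbAff (grpdE ρ f hρ) := by
  refine orbAff ρ f hρ (fun x => ?_)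
  obtain ⟨V, hV, hxV, -⟩ := exists_isAffineOpen_mem_and_subset (x := p x) (U := ⊤) trivial
  have := hp.affine
  refine ⟨p ⁻¹ᵁ V, hV.preimage p, fun g => ?_⟩
  change p ((ρ g).hom x) ∈ V
  rw [← Scheme.Hom.comp_apply, hp.inv g]
  exact hxV

/-- Any quotient in the sense of `SGA1.IsQuot` is the quotient of the equivalence relation `E`. -/
theorem exists_iso_of_isQuot [OrbAff (grpdE ρ f hρ)] (hp : SGA1.IsQuot ρ p) :
    ∃ e : Y (grpdE ρ f hρ) ≅ X', q (grpdE ρ f hρ) ≫ e.hom = p := by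
  obtain ⟨φ, hφ⟩ := exists_desc (grpdE ρ f hρ) p ((invariant_iff ρ f hρ p).mpr hp.inv)
  have hinv : ∀ g : G, (ρ g).hom ≫ q (grpdE ρ f hρ) = q (grpdE ρ f hρ) :=
    (invariant_iff ρ f hρ _).mp (q_comm (grpdE ρ f hρ)).symm
  obtain ⟨ψ, hψ, -⟩ := Groth.Agent.S2925.result ρ p hp (Y (grpdE ρ f hρ)) (q (grpdE ρ f hρ)) hinv
  obtain ⟨_, -, hu2⟩ := Groth.Agent.S2925.result ρ p hp X' p hp.inv
  have h1 : φ ≫ ψ = 𝟙 _ := by
    rw [← cancel_epi (q (grpdE ρ f hρ)), reassoc_of% hφ, hψ, Category.comp_id]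
  have h2 : ψ ≫ φ = 𝟙 _ := by
    have a := hu2 (ψ ≫ φ) (by change p ≫ ψ ≫ φ = _; rw [reassoc_of% hψ, hφ])
    have b := hu2 (𝟙 _) (Category.comp_id _)
    exact a.trans b.symm
  exact ⟨⟨φ, ψ, h1, h2⟩, hφ⟩

theorem etale_q [OrbAff (grpdE ρ f hρ)] : Etale (q (grpdE ρ f hρ)) := by
  haveI := flat_q (grpdE ρ f hρ)
  haveI := isFinite_q (grpdE ρ f hρ)
  haveI : Surjective (q (grpdE ρ f hρ)) := ⟨q_surjective (grpdE ρ f hρ)⟩
  exact MorphismProperty.of_isPullback_of_descendsAlong (P := @Etale)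
    (Q := @Surjective ⊓ @Flat ⊓ @QuasiCompact) (isPullback_t_s_q (grpdE ρ f hρ))
    ⟨⟨inferInstance, inferInstance⟩, inferInstance⟩ (etale_t ρ f hρ)

theorem etale_of_isQuot (hp : SGA1.IsQuot ρ p) : Etale p := by
  haveI := orbAff_of_isQuot ρ f hρ hp
  obtain ⟨e, he⟩ := exists_iso_of_isQuot ρ f hρ hp
  haveI := etale_q ρ f hρ
  rw [← he]
  infer_instance

theorem surjective_of_isQuot (hp : SGA1.IsQuot ρ p) : Surjective p := by
  haveI := orbAff_of_isQuot ρ f hρ hp
  obtain ⟨e, he⟩ := exists_iso_of_isQuot ρ f hρ hp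
  haveI : Surjective (q (grpdE ρ f hρ)) := ⟨q_surjective (grpdE ρ f hρ)⟩
  rw [← he]
  infer_instance

/-- SGA 1 V: the quotient of an étale separated `Y`-scheme by a finite group is étale over `Y`. -/
theorem etale_quot (hp : SGA1.IsQuot ρ p) (q' : X' ⟶ S) (hq : p ≫ q' = f) : Etale q' := by
  haveI := etale_of_isQuot ρ f hρ hp
  haveI := surjective_of_isQuot ρ f hρ hp
  exact Groth.Agent.Lib.SrcLocal.sourceEtLocal_etale p q' inferInstance inferInstance
    (by rw [hq]; infer_instance)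

theorem isFinite_quot [IsLocallyNoetherian S] [IsFinite f] (hp : SGA1.IsQuot ρ p) (q' : X' ⟶ S)
    (hq : p ≫ q' = f) : IsFinite q' := by
  haveI := etale_quot ρ f hρ hp q' hq
  haveI := surjective_of_isQuot ρ f hρ hp
  obtain ⟨-, hsep, -, hft⟩ := Groth.Agent.S2909.result ρ p hp f q' hq hρ
  haveI : IsSeparated q' := hsep.mp inferInstance
  haveI : UniversallyClosed (p ≫ q') := by rw [hq]; infer_instance
  haveI : UniversallyClosed q' := UniversallyClosed.of_comp_surjective p q'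
  obtain ⟨h1, h2⟩ := hft inferInstance inferInstance inferInstance
  haveI : IsProper q' := {}
  haveI := locallyQuasiFinite_of_etale q'
  exact IsFinite.of_isProper_of_locallyQuasiFinite _

end Groth.Agent.Lib.H8EtAct
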