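import Groth.Prelude.Def_SymProd
import Groth.Agent.Lib.H60FinitePointsAffine
import Mathlib.AlgebraicGeometry.Limits
import Mathlib.AlgebraicGeometry.AffineScheme

/-!
# Affine opens of fibre powers (helper8)

For `f : X ⟶ S`, an affine open `U ⊆ X` mapping into an affine open `V ⊆ S`, the open
`U ×_V ⋯ ×_V U = b⁻¹V ∩ ⋂ᵢ πᵢ⁻¹U` of `SymProd.fibPow f d` is affine and stable under permutations
of the factors.  Under (AF) every orbit of the symmetric group lies in such an open.
-/

set_option autoImplicit false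
universe u
open CategoryTheory CategoryTheory.Limits AlgebraicGeometry SymProd

namespace Groth.Agent.Lib.H8FibPow

variable {X S : Scheme.{u}} (f : X ⟶ S) (d : ℕ)

/-- the open `b⁻¹V ∩ ⋂ᵢ πᵢ⁻¹U` of the fibre power -/
noncomputable def fibPowOpen (U : X.Opens) (V : S.Opens) : (fibPow f d).Opens :=
  ⟨(WidePullback.base (fun _ : Fin d => f)) ⁻¹' (V : Set S) ∩
      ⋂ i : Fin d, (WidePullback.π (fun _ : Fin d => f) i) ⁻¹' (U : Set X),
    (V.isOpen.preimage (WidePullback.base (fun _ : Fin d => f)).continuous).inter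
      (isOpen_iInter_of_finite fun i =>
        U.isOpen.preimage (WidePullback.π (fun _ : Fin d => f) i).continuous)⟩

variable {f d}

lemma mem_fibPowOpen {U : X.Opens} {V : S.Opens} {z : fibPow f d} :
    z ∈ fibPowOpen f d U V ↔ (WidePullback.base (fun _ : Fin d => f)) z ∈ V ∧
      ∀ i : Fin d, (WidePullback.π (fun _ : Fin d => f) i) z ∈ U := by
  exact Iff.intro (fun h => ⟨h.1, Set.mem_iInter.mp h.2⟩) (fun h => ⟨h.1, Set.mem_iInter.mpr h.2⟩)

lemma f_π_apply (i : Fin d) (z : fibPow f d) :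
    f ((WidePullback.π (fun _ : Fin d => f) i) z) = (WidePullback.base (fun _ : Fin d => f)) z := by
  rw [← Scheme.Hom.comp_apply, WidePullback.π_arrow]

/-- if `U ⊆ f⁻¹V` and `d > 0` the condition on the base is automatic -/
lemma coe_fibPowOpen_of_pos {U : X.Opens} {V : S.Opens} (hUV : U ≤ f ⁻¹ᵁ V) (hd : 0 < d) :
    (fibPowOpen f d U V : Set (fibPow f d)) =
      ⋂ i : Fin d, (WidePullback.π (fun _ : Fin d => f) i).base ⁻¹' (U : Set X) := by
  ext z
  rw [SetLike.mem_coe, mem_fibPowOpen, Set.mem_iInter]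
  constructor
  · rintro ⟨-, h⟩
    exact h
  · intro h
    refine ⟨?_, h⟩
    have := hUV (h ⟨0, hd⟩)
    rw [← f_π_apply ⟨0, hd⟩ z]
    exact this

lemma permHom_preimage_fibPowOpen (U : X.Opens) (V : S.Opens) (σ : Equiv.Perm (Fin d)) :
    (permHom f d σ) ⁻¹ᵁ fibPowOpen f d U V = fibPowOpen f d U V := by
  ext z
  change (permHom f d σ) z ∈ fibPowOpen f d U V ↔ z ∈ fibPowOpen f d U V
  rw [mem_fibPowOpen, mem_fibPowOpen]
  have hb : (WidePullback.base (fun _ : Fin d => f)) ((permHom f d σ) z) =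
      (WidePullback.base (fun _ : Fin d => f)) z := by
    rw [← Scheme.Hom.comp_apply, permHom_base]
  have hπ : ∀ i, (WidePullback.π (fun _ : Fin d => f) i) ((permHom f d σ) z) =
      (WidePullback.π (fun _ : Fin d => f) (σ.symm i)) z := by
    intro i
    rw [← Scheme.Hom.comp_apply, permHom_π]
  rw [hb]
  refine and_congr Iff.rfl ⟨fun h i => ?_, fun h i => ?_⟩
  · have := h (σ i)
    rwa [hπ, Equiv.symm_apply_apply] at this
  · rw [hπ]
    exact h _

theorem isAffineOpen_fibPowOpen {U : X.Opens} {V : S.Opens} (hU : IsAffineOpen U)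
    (hV : IsAffineOpen V) (hUV : U ≤ f ⁻¹ᵁ V) : IsAffineOpen (fibPowOpen f d U V) := by
  set W := fibPowOpen f d U V with hW
  let g : U.toScheme ⟶ V.toScheme := f.resLE V U hUV
  have hg : g ≫ V.ι = U.ι ≫ f := Scheme.Hom.resLE_comp_ι f hUV
  have hb : Set.range (W.ι ≫ WidePullback.base (fun _ : Fin d => f)) ⊆ Set.range V.ι := by
    rintro _ ⟨z, rfl⟩
    rw [Scheme.Opens.range_ι]
    exact (mem_fibPowOpen.mp z.2).1
  have hπ : ∀ i : Fin d,
      Set.range (W.ι ≫ WidePullback.π (fun _ : Fin d => f) i) ⊆ Set.range U.ι := by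
    rintro i _ ⟨z, rfl⟩
    rw [Scheme.Opens.range_ι]
    exact (mem_fibPowOpen.mp z.2).2 i
  let b' : W.toScheme ⟶ V.toScheme := IsOpenImmersion.lift V.ι _ hb
  let π' : ∀ i : Fin d, W.toScheme ⟶ U.toScheme := fun i => IsOpenImmersion.lift U.ι _ (hπ i)
  have hb' : b' ≫ V.ι = W.ι ≫ WidePullback.base (fun _ : Fin d => f) :=
    IsOpenImmersion.lift_fac _ _ _
  have hπ' : ∀ i, π' i ≫ U.ι = W.ι ≫ WidePullback.π (fun _ : Fin d => f) i :=
    fun i => IsOpenImmersion.lift_fac _ _ _
  have hcompat : ∀ i, π' i ≫ g = b' := by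
    intro i
    rw [← cancel_mono V.ι, Category.assoc, hg, reassoc_of% (hπ' i), hb', WidePullback.π_arrow]
  let c : WidePullbackCone (fun _ : Fin d => g) := WidePullbackCone.mk b' π' hcompat
  -- the lift of a cone
  have hlift : ∀ t : WidePullbackCone (fun _ : Fin d => g), ∃ l : t.pt ⟶ W.toScheme,
      l ≫ W.ι = WidePullback.lift (t.base ≫ V.ι) (fun i => t.π i ≫ U.ι)
        (fun i => by rw [Category.assoc, ← hg, ← Category.assoc, t.condition]) := by
    intro t
    refine ⟨IsOpenImmersion.lift W.ι _ ?_, IsOpenImmersion.lift_fac _ _ _⟩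
    rintro _ ⟨z, rfl⟩
    rw [Scheme.Opens.range_ι, SetLike.mem_coe, mem_fibPowOpen]
    refine ⟨?_, fun i => ?_⟩
    · rw [← Scheme.Hom.comp_apply, WidePullback.lift_base, Scheme.Hom.comp_apply]
      exact (t.base z).2
    · rw [← Scheme.Hom.comp_apply, WidePullback.lift_π, Scheme.Hom.comp_apply]
      exact (t.π i z).2
  choose l hl using hlift
  have huniq : ∀ (t : WidePullbackCone (fun _ : Fin d => g)) (m : t.pt ⟶ W.toScheme),
      m ≫ b' = t.base → (∀ i, m ≫ π' i = t.π i) → m = l t := by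
    intro t m hm₀ hm
    rw [← cancel_mono W.ι, hl t]
    apply WidePullback.hom_ext
    · intro i
      rw [WidePullback.lift_π, Category.assoc, ← hπ' i, ← Category.assoc, hm i]
    · rw [WidePullback.lift_base, Category.assoc, ← hb', ← Category.assoc, hm₀]
  have hc : IsLimit c := by
    refine WidePullbackCone.IsLimit.mk c l (fun t => ?_) (fun t i => ?_) (fun t m hm₀ hm => ?_)
    · change l t ≫ b' = t.base
      rw [← cancel_mono V.ι, Category.assoc, hb', reassoc_of% (hl t), WidePullback.lift_base]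
    · change l t ≫ π' i = t.π i
      rw [← cancel_mono U.ι, Category.assoc, hπ', reassoc_of% (hl t), WidePullback.lift_π]
    · exact huniq t m hm₀ hm
  haveI : ∀ j, IsAffine ((WidePullbackShape.wideCospan V.toScheme (fun _ : Fin d => U.toScheme)
      (fun _ => g)).obj j) := by
    rintro (_ | i)
    · exact hV
    · exact hU
  exact Scheme.isAffine_of_isLimit c hc

/-- Under (AF), finitely many points over `s ∈ V` lie in an affine open mapping into `V`. -/
theorem exists_affine_of_AF (hAF : IsAF f) (s : S) (T : Finset X) (hT : ∀ x ∈ T, f.base x = s)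
    (V : S.Opens) (hs : s ∈ V) :
    ∃ U : X.Opens, IsAffineOpen U ∧ (∀ x ∈ T, x ∈ U) ∧ U ≤ f ⁻¹ᵁ V := by
  obtain ⟨U₀, hU₀, hTU₀⟩ := hAF s T hT
  haveI : IsAffine U₀.toScheme := hU₀
  let O : U₀.toScheme.Opens := U₀.ι ⁻¹ᵁ (f ⁻¹ᵁ V)
  let F : Set U₀.toScheme := U₀.ι ⁻¹' (T : Set X)
  have hF : F.Finite := Set.Finite.preimage
    (U₀.ι.isOpenEmbedding.injective.injOn) T.finite_toSet
  have hFO : F ⊆ O := by
    intro y hy
    change f (U₀.ι y) ∈ V
    have : f.base (U₀.ι y) = s := hT _ hy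
    rw [show f (U₀.ι y) = s from this]
    exact hs
  obtain ⟨h, hFh, hhO⟩ :=
    Groth.Agent.Lib.H60FinitePointsAffine.exists_basicOpen_of_finite_of_isAffine
      U₀.toScheme O F hF hFO
  refine ⟨U₀.ι ''ᵁ (U₀.toScheme.basicOpen h), ?_, ?_, ?_⟩
  · exact ((isAffineOpen_top U₀.toScheme).basicOpen h).image_of_isOpenImmersion U₀.ι
  · intro x hx
    refine ⟨⟨x, hTU₀ x hx⟩, hFh ?_, rfl⟩
    exact hx
  · rintro _ ⟨y, hy, rfl⟩
    exact hhO hy

/-- Under (AF) every point of the fibre power lies in a permutation-stable affine open of the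
form `U ×_V ⋯ ×_V U`, with `V` a prescribed neighbourhood of its image. -/
theorem exists_fibPowOpen_of_AF (hAF : IsAF f) (x : fibPow f d) (V : S.Opens)
    (hV : IsAffineOpen V) (hxV : (WidePullback.base (fun _ : Fin d => f)) x ∈ V) :
    ∃ U : X.Opens, IsAffineOpen U ∧ U ≤ f ⁻¹ᵁ V ∧ x ∈ fibPowOpen f d U V ∧
      IsAffineOpen (fibPowOpen f d U V) := by
  classical
  obtain ⟨U, hU, hTU, hUV⟩ := exists_affine_of_AF hAF
    ((WidePullback.base (fun _ : Fin d => f)) x)
    (Finset.univ.image (fun i : Fin d => (WidePullback.π (fun _ : Fin d => f) i) x))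
    (by
      intro y hy
      obtain ⟨i, -, rfl⟩ := Finset.mem_image.mp hy
      exact f_π_apply i x) V hxV
  refine ⟨U, hU, hUV, ?_, isAffineOpen_fibPowOpen hU hV hUV⟩
  rw [mem_fibPowOpen]
  exact ⟨hxV, fun i => hTU _ (Finset.mem_image.mpr ⟨i, Finset.mem_univ i, rfl⟩)⟩

lemma permHom_mem_fibPowOpen {U : X.Opens} {V : S.Opens} {x : fibPow f d}
    (hx : x ∈ fibPowOpen f d U V) (σ : Equiv.Perm (Fin d)) :
    (permHom f d σ) x ∈ fibPowOpen f d U V := by
  have : x ∈ (permHom f d σ) ⁻¹ᵁ fibPowOpen f d U V := by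
    rw [permHom_preimage_fibPowOpen]
    exact hx
  exact this

end Groth.Agent.Lib.H8FibPow
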