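import Mathlib.AlgebraicGeometry.Pullbacks
import Mathlib.AlgebraicGeometry.AffineScheme
import Mathlib.AlgebraicGeometry.Limits
import Mathlib.RingTheory.TensorProduct.Maps

/-!
# Sections over `W₁ ×_V V₂` in a pullback square are the tensor product (helper8)

For a pullback square `Z = Y ×_S S'` and affine opens `W₁ ⊆ g⁻¹V`, `V₂ ⊆ b⁻¹V`, the open
`Ω = fst⁻¹W₁ ∩ snd⁻¹V₂` is affine and `Γ(Ω) = Γ(W₁) ⊗_{Γ(V)} Γ(V₂)`.
-/

set_option autoImplicit false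
universe u
open CategoryTheory CategoryTheory.Limits AlgebraicGeometry
open scoped TensorProduct

namespace Groth.Agent.Lib.H8PullbackGamma

section Alg

variable {A C K D : Type u} [CommRing A] [CommRing C] [CommRing K] [CommRing D]
  [Algebra A C] [Algebra A K] [Algebra A D]

/-- a pushout of `C ← A → K` is the tensor product -/
theorem productMap_bijective (α : C →ₐ[A] D) (β : K →ₐ[A] D)
    (huniv : ∃ χ : D →ₐ[A] K ⊗[A] C, χ.comp α = Algebra.TensorProduct.includeRight ∧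
      χ.comp β = Algebra.TensorProduct.includeLeft)
    (hext : ∀ χ χ' : D →ₐ[A] D, χ.comp α = χ'.comp α → χ.comp β = χ'.comp β → χ = χ') :
    Function.Bijective (Algebra.TensorProduct.productMap β α) := by
  obtain ⟨Ψ, hΨα, hΨβ⟩ := huniv
  have h1 : Ψ.comp (Algebra.TensorProduct.productMap β α) = AlgHom.id A _ := by
    apply Algebra.TensorProduct.ext'
    intro k c
    rw [AlgHom.comp_apply, Algebra.TensorProduct.productMap_apply_tmul, map_mul,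
      ← AlgHom.comp_apply Ψ β, ← AlgHom.comp_apply Ψ α, hΨα, hΨβ, AlgHom.id_apply,
      Algebra.TensorProduct.includeLeft_apply, Algebra.TensorProduct.includeRight_apply,
      Algebra.TensorProduct.tmul_mul_tmul, mul_one, one_mul]
  have h2 : (Algebra.TensorProduct.productMap β α).comp Ψ = AlgHom.id A _ := by
    refine hext _ _ ?_ ?_
    · rw [AlgHom.comp_assoc, hΨα, Algebra.TensorProduct.productMap_right,
        AlgHom.id_comp]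
    · rw [AlgHom.comp_assoc, hΨβ, Algebra.TensorProduct.productMap_left,
        AlgHom.id_comp]
  refine ⟨?_, ?_⟩
  · exact Function.LeftInverse.injective (g := Ψ) fun x => by
      simpa using congrArg (fun φ => φ x) h1
  · exact Function.RightInverse.surjective (g := Ψ) fun x => by
      simpa using congrArg (fun φ => φ x) h2

/-- ring-hom version of `productMap_bijective` -/
theorem productMap_bijective' (α : C →ₐ[A] D) (β : K →ₐ[A] D)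
    (hex : ∀ (R : Type u) [CommRing R] (ψ₁ : C →+* R) (ψ₂ : K →+* R),
      ψ₁.comp (algebraMap A C) = ψ₂.comp (algebraMap A K) →
        ∃ χ : D →+* R, χ.comp α.toRingHom = ψ₁ ∧ χ.comp β.toRingHom = ψ₂)
    (hext : ∀ χ χ' : D →+* D, χ.comp α.toRingHom = χ'.comp α.toRingHom →
      χ.comp β.toRingHom = χ'.comp β.toRingHom → χ = χ') :
    Function.Bijective (Algebra.TensorProduct.productMap β α) := by
  refine productMap_bijective α β ?_ ?_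
  · obtain ⟨χ, hχ₁, hχ₂⟩ := hex (K ⊗[A] C)
      (Algebra.TensorProduct.includeRight : C →ₐ[A] K ⊗[A] C).toRingHom
      (Algebra.TensorProduct.includeLeft : K →ₐ[A] K ⊗[A] C).toRingHom
      (by
        ext a
        simp only [RingHom.comp_apply, AlgHom.toRingHom_eq_coe, RingHom.coe_coe, AlgHom.commutes])
    refine ⟨{ χ with commutes' := fun a => ?_ }, ?_, ?_⟩
    · have := congrArg (fun φ => φ (algebraMap A C a)) hχ₁
      simp only [RingHom.comp_apply, AlgHom.toRingHom_eq_coe, RingHom.coe_coe,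
        AlgHom.commutes] at this
      exact this
    · ext c
      exact congrArg (fun φ => φ c) hχ₁
    · ext k
      exact congrArg (fun φ => φ k) hχ₂
  · intro χ χ' h₁ h₂
    have := hext χ.toRingHom χ'.toRingHom
      (by ext c; exact congrArg (fun φ => φ c) h₁) (by ext k; exact congrArg (fun φ => φ k) h₂)
    ext d
    exact congrArg (fun φ => φ d) this

end Alg

section Sch

variable {Z Y S' S : Scheme.{u}} {fst : Z ⟶ Y} {snd : Z ⟶ S'} {g : Y ⟶ S} {b : S' ⟶ S}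
  {V : S.Opens} {W₁ : Y.Opens} {V₂ : S'.Opens} {Ω : Z.Opens}

lemma le_fst (hΩ : Ω = fst ⁻¹ᵁ W₁ ⊓ snd ⁻¹ᵁ V₂) : Ω ≤ fst ⁻¹ᵁ W₁ := hΩ ▸ inf_le_left
lemma le_snd (hΩ : Ω = fst ⁻¹ᵁ W₁ ⊓ snd ⁻¹ᵁ V₂) : Ω ≤ snd ⁻¹ᵁ V₂ := hΩ ▸ inf_le_right

/-- `Γ(W₁) ⟶ Γ(Ω)` -/
noncomputable abbrev fstApp (hΩ : Ω = fst ⁻¹ᵁ W₁ ⊓ snd ⁻¹ᵁ V₂) : Γ(Y, W₁) ⟶ Γ(Z, Ω) :=
  fst.appLE W₁ Ω (le_fst hΩ)

/-- `Γ(V₂) ⟶ Γ(Ω)` -/
noncomputable abbrev sndApp (hΩ : Ω = fst ⁻¹ᵁ W₁ ⊓ snd ⁻¹ᵁ V₂) : Γ(S', V₂) ⟶ Γ(Z, Ω) :=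
  snd.appLE V₂ Ω (le_snd hΩ)

lemma appLE_fstApp_eq (hsq : IsPullback fst snd g b) (hΩ : Ω = fst ⁻¹ᵁ W₁ ⊓ snd ⁻¹ᵁ V₂)
    (hW₁V : W₁ ≤ g ⁻¹ᵁ V) (hV₂V : V₂ ≤ b ⁻¹ᵁ V) :
    g.appLE V W₁ hW₁V ≫ fstApp hΩ = b.appLE V V₂ hV₂V ≫ sndApp hΩ := by
  unfold fstApp sndApp
  rw [Scheme.Hom.appLE_comp_appLE, Scheme.Hom.appLE_comp_appLE]
  congr 1
  exact hsq.w

/-- `Ω = W₁ ×_V V₂` is affine -/
theorem isAffineOpen_inf (hsq : IsPullback fst snd g b) (hV : IsAffineOpen V)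
    (hW₁ : IsAffineOpen W₁) (hV₂ : IsAffineOpen V₂) (hΩ : Ω = fst ⁻¹ᵁ W₁ ⊓ snd ⁻¹ᵁ V₂)
    (hW₁V : W₁ ≤ g ⁻¹ᵁ V) (hV₂V : V₂ ≤ b ⁻¹ᵁ V) : IsAffineOpen Ω := by
  let g' : W₁.toScheme ⟶ V.toScheme := g.resLE V W₁ hW₁V
  let b' : V₂.toScheme ⟶ V.toScheme := b.resLE V V₂ hV₂V
  have hg' : g' ≫ V.ι = W₁.ι ≫ g := Scheme.Hom.resLE_comp_ι g hW₁V
  have hb' : b' ≫ V.ι = V₂.ι ≫ b := Scheme.Hom.resLE_comp_ι b hV₂V
  have h1 : Set.range (Ω.ι ≫ fst) ⊆ Set.range W₁.ι := by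
    rintro _ ⟨z, rfl⟩
    rw [Scheme.Opens.range_ι]
    exact le_fst hΩ z.2
  have h2 : Set.range (Ω.ι ≫ snd) ⊆ Set.range V₂.ι := by
    rintro _ ⟨z, rfl⟩
    rw [Scheme.Opens.range_ι]
    exact le_snd hΩ z.2
  let p₁ : Ω.toScheme ⟶ W₁.toScheme := IsOpenImmersion.lift W₁.ι _ h1
  let p₂ : Ω.toScheme ⟶ V₂.toScheme := IsOpenImmersion.lift V₂.ι _ h2
  have hp₁ : p₁ ≫ W₁.ι = Ω.ι ≫ fst := IsOpenImmersion.lift_fac _ _ _
  have hp₂ : p₂ ≫ V₂.ι = Ω.ι ≫ snd := IsOpenImmersion.lift_fac _ _ _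
  have hcompat : p₁ ≫ g' = p₂ ≫ b' := by
    rw [← cancel_mono V.ι, Category.assoc, Category.assoc, hg', hb', reassoc_of% hp₁,
      reassoc_of% hp₂, hsq.w]
  have hlift : ∀ t : PullbackCone g' b', ∃ l : t.pt ⟶ Ω.toScheme,
      l ≫ Ω.ι = hsq.lift (t.fst ≫ W₁.ι) (t.snd ≫ V₂.ι)
        (by rw [Category.assoc, Category.assoc, ← hg', ← hb', reassoc_of% t.condition]) := by
    intro t
    refine ⟨IsOpenImmersion.lift Ω.ι _ ?_, IsOpenImmersion.lift_fac _ _ _⟩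
    rintro _ ⟨z, rfl⟩
    rw [Scheme.Opens.range_ι, hΩ]
    refine ⟨?_, ?_⟩
    · change fst (_ : Z) ∈ W₁
      rw [← Scheme.Hom.comp_apply, hsq.lift_fst, Scheme.Hom.comp_apply]
      exact (t.fst z).2
    · change snd (_ : Z) ∈ V₂
      rw [← Scheme.Hom.comp_apply, hsq.lift_snd, Scheme.Hom.comp_apply]
      exact (t.snd z).2
  choose l hl using hlift
  have hc : IsLimit (PullbackCone.mk p₁ p₂ hcompat) := by
    refine PullbackCone.IsLimit.mk hcompat (fun t => l t) (fun t => ?_) (fun t => ?_)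
      (fun t m hm₁ hm₂ => ?_)
    · rw [← cancel_mono W₁.ι, Category.assoc, hp₁, reassoc_of% (hl t), hsq.lift_fst]
    · rw [← cancel_mono V₂.ι, Category.assoc, hp₂, reassoc_of% (hl t), hsq.lift_snd]
    · rw [← cancel_mono Ω.ι, hl t]
      apply hsq.hom_ext
      · rw [hsq.lift_fst, Category.assoc, ← hp₁, reassoc_of% hm₁]
      · rw [hsq.lift_snd, Category.assoc, ← hp₂, reassoc_of% hm₂]
  haveI : IsAffine W₁.toScheme := hW₁
  haveI : IsAffine V₂.toScheme := hV₂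
  haveI : IsAffine V.toScheme := hV
  let e : Ω.toScheme ≅ pullback g' b' := hc.conePointUniqueUpToIso (limit.isLimit (cospan g' b'))
  exact IsAffine.of_isIso e.hom

end Sch

section Univ

variable {Z Y S' S : Scheme.{u}} {fst : Z ⟶ Y} {snd : Z ⟶ S'} {g : Y ⟶ S} {b : S' ⟶ S}
  {V : S.Opens} {W₁ : Y.Opens} {V₂ : S'.Opens} {Ω : Z.Opens}

/-- existence part of the universal property of `Γ(Ω)` -/
theorem exists_desc (hsq : IsPullback fst snd g b) (hV : IsAffineOpen V)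
    (hW₁ : IsAffineOpen W₁) (hV₂ : IsAffineOpen V₂) (hΩ : Ω = fst ⁻¹ᵁ W₁ ⊓ snd ⁻¹ᵁ V₂)
    (hΩa : IsAffineOpen Ω) (hW₁V : W₁ ≤ g ⁻¹ᵁ V) (hV₂V : V₂ ≤ b ⁻¹ᵁ V)
    (R : CommRingCat.{u}) (ψ₁ : Γ(Y, W₁) ⟶ R) (ψ₂ : Γ(S', V₂) ⟶ R)
    (hψ : g.appLE V W₁ hW₁V ≫ ψ₁ = b.appLE V V₂ hV₂V ≫ ψ₂) :
    ∃ χ : Γ(Z, Ω) ⟶ R, fstApp hΩ ≫ χ = ψ₁ ∧ sndApp hΩ ≫ χ = ψ₂ := by
  let t₁ : Spec R ⟶ Y := Spec.map ψ₁ ≫ hW₁.fromSpec
  let t₂ : Spec R ⟶ S' := Spec.map ψ₂ ≫ hV₂.fromSpec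
  have ht : t₁ ≫ g = t₂ ≫ b := by
    change (Spec.map ψ₁ ≫ hW₁.fromSpec) ≫ g = (Spec.map ψ₂ ≫ hV₂.fromSpec) ≫ b
    rw [Category.assoc, Category.assoc, ← IsAffineOpen.SpecMap_appLE_fromSpec g hV hW₁ hW₁V,
      ← IsAffineOpen.SpecMap_appLE_fromSpec b hV hV₂ hV₂V, ← Spec.map_comp_assoc,
      ← Spec.map_comp_assoc, hψ]
  let l : Spec R ⟶ Z := hsq.lift t₁ t₂ ht
  have hl : Set.range l ⊆ Set.range hΩa.fromSpec := by
    rw [hΩa.range_fromSpec]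
    rintro _ ⟨z, rfl⟩
    rw [hΩ]
    refine ⟨?_, ?_⟩
    · change fst (l z) ∈ W₁
      rw [← Scheme.Hom.comp_apply, hsq.lift_fst]
      have : (Spec.map ψ₁ ≫ hW₁.fromSpec) z ∈ Set.range hW₁.fromSpec := by
        rw [Scheme.Hom.comp_apply]
        exact ⟨_, rfl⟩
      rw [hW₁.range_fromSpec] at this
      exact this
    · change snd (l z) ∈ V₂
      rw [← Scheme.Hom.comp_apply, hsq.lift_snd]
      have : (Spec.map ψ₂ ≫ hV₂.fromSpec) z ∈ Set.range hV₂.fromSpec := by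
        rw [Scheme.Hom.comp_apply]
        exact ⟨_, rfl⟩
      rw [hV₂.range_fromSpec] at this
      exact this
  let m : Spec R ⟶ Spec Γ(Z, Ω) := IsOpenImmersion.lift hΩa.fromSpec l hl
  have hm : m ≫ hΩa.fromSpec = l := IsOpenImmersion.lift_fac _ _ _
  refine ⟨Spec.preimage m, ?_, ?_⟩
  · apply Spec.map_injective
    rw [Spec.map_comp, Spec.map_preimage, ← cancel_mono hW₁.fromSpec, Category.assoc,
      IsAffineOpen.SpecMap_appLE_fromSpec _ hW₁ hΩa, reassoc_of% hm, hsq.lift_fst]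
  · apply Spec.map_injective
    rw [Spec.map_comp, Spec.map_preimage, ← cancel_mono hV₂.fromSpec, Category.assoc,
      IsAffineOpen.SpecMap_appLE_fromSpec _ hV₂ hΩa, reassoc_of% hm, hsq.lift_snd]

/-- uniqueness part of the universal property of `Γ(Ω)` -/
theorem desc_ext (hsq : IsPullback fst snd g b)
    (hW₁ : IsAffineOpen W₁) (hV₂ : IsAffineOpen V₂) (hΩ : Ω = fst ⁻¹ᵁ W₁ ⊓ snd ⁻¹ᵁ V₂)
    (hΩa : IsAffineOpen Ω)
    (R : CommRingCat.{u}) (χ χ' : Γ(Z, Ω) ⟶ R)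
    (h₁ : fstApp hΩ ≫ χ = fstApp hΩ ≫ χ') (h₂ : sndApp hΩ ≫ χ = sndApp hΩ ≫ χ') :
    χ = χ' := by
  apply Spec.map_injective
  rw [← cancel_mono hΩa.fromSpec]
  apply hsq.hom_ext
  · rw [Category.assoc, Category.assoc,
      ← IsAffineOpen.SpecMap_appLE_fromSpec _ hW₁ hΩa (le_fst hΩ), ← Spec.map_comp_assoc,
      ← Spec.map_comp_assoc]
    exact congrArg (fun φ => Spec.map φ ≫ hW₁.fromSpec) h₁
  · rw [Category.assoc, Category.assoc,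
      ← IsAffineOpen.SpecMap_appLE_fromSpec _ hV₂ hΩa (le_snd hΩ), ← Spec.map_comp_assoc,
      ← Spec.map_comp_assoc]
    exact congrArg (fun φ => Spec.map φ ≫ hV₂.fromSpec) h₂

end Univ

section Main

variable {Z Y S' S : Scheme.{u}} {fst : Z ⟶ Y} {snd : Z ⟶ S'} {g : Y ⟶ S} {b : S' ⟶ S}
  {V : S.Opens} {W₁ : Y.Opens} {V₂ : S'.Opens} {Ω : Z.Opens}

/-- **Sections of `W₁ ×_V V₂`**: for any algebra structures inducing the geometric maps, the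
canonical map `Γ(V₂) ⊗_{Γ(V)} Γ(W₁) → Γ(Ω)` is bijective. -/
theorem productMap_bijective_of_isPullback (hsq : IsPullback fst snd g b) (hV : IsAffineOpen V)
    (hW₁ : IsAffineOpen W₁) (hV₂ : IsAffineOpen V₂) (hΩ : Ω = fst ⁻¹ᵁ W₁ ⊓ snd ⁻¹ᵁ V₂)
    (hΩa : IsAffineOpen Ω) (hW₁V : W₁ ≤ g ⁻¹ᵁ V) (hV₂V : V₂ ≤ b ⁻¹ᵁ V)
    [Algebra Γ(S, V) Γ(Y, W₁)] [Algebra Γ(S, V) Γ(S', V₂)] [Algebra Γ(S, V) Γ(Z, Ω)]
    (h₁ : algebraMap Γ(S, V) Γ(Y, W₁) = (g.appLE V W₁ hW₁V).hom)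
    (h₂ : algebraMap Γ(S, V) Γ(S', V₂) = (b.appLE V V₂ hV₂V).hom)
    (α : Γ(Y, W₁) →ₐ[Γ(S, V)] Γ(Z, Ω)) (hα : α.toRingHom = (fstApp hΩ).hom)
    (β : Γ(S', V₂) →ₐ[Γ(S, V)] Γ(Z, Ω)) (hβ : β.toRingHom = (sndApp hΩ).hom) :
    Function.Bijective (Algebra.TensorProduct.productMap β α) := by
  refine productMap_bijective' α β ?_ ?_
  · intro R _ ψ₁ ψ₂ hψ
    obtain ⟨χ, hχ₁, hχ₂⟩ := exists_desc hsq hV hW₁ hV₂ hΩ hΩa hW₁V hV₂V (CommRingCat.of R)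
      (CommRingCat.ofHom ψ₁) (CommRingCat.ofHom ψ₂)
      (by
        ext a
        have := congrArg (fun φ => φ a) hψ
        simp only [RingHom.comp_apply, h₁, h₂] at this
        exact this)
    refine ⟨χ.hom, ?_, ?_⟩
    · rw [hα]
      ext c
      exact congrArg (fun φ => φ.hom c) hχ₁
    · rw [hβ]
      ext k
      exact congrArg (fun φ => φ.hom k) hχ₂
  · intro χ χ' e₁ e₂
    rw [hα] at e₁
    rw [hβ] at e₂
    have := desc_ext hsq hW₁ hV₂ hΩ hΩa _ (CommRingCat.ofHom χ) (CommRingCat.ofHom χ')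
      (by ext c; exact congrArg (fun φ => φ c) e₁) (by ext k; exact congrArg (fun φ => φ k) e₂)
    ext d
    exact congrArg (fun φ => φ.hom d) this

end Main

end Groth.Agent.Lib.H8PullbackGamma
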