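import Groth.Agent.Lib.H8TSBaseChange

/-!
# Invariants of a base-changed tensor power (helper8)

Abstract algebra behind base change of symmetric powers: if `C ≅ ⨂^d B` equivariantly with `B`
flat over `A`, `C₀ ↪ C` is the ring of invariants, and `D₀ = K ⊗_A C₀`, `D = K ⊗_A C`, then
`D₀ → D` is injective onto the invariants of `D`.
-/

set_option autoImplicit false
universe u
open scoped TensorProduct
open PiTensorProduct

namespace Groth.Agent.Lib.H8SymBC

open Groth.Agent.Lib.SymTensorFlat Groth.Agent.Lib.H8TSBaseChange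

variable {A K B C₀ C D₀ D : Type u} [CommRing A] [CommRing K] [CommRing B] [CommRing C₀]
  [CommRing C] [CommRing D₀] [CommRing D] [Algebra A K] [Algebra A B] [Algebra A C₀]
  [Algebra A C] [Algebra A D₀] [Algebra A D] {d : ℕ}

/-- the invariants are linearly isomorphic to the symmetric tensors, compatibly with `Φ` -/
theorem exists_linearEquiv_TS
    (Φ : (⨂[A] _ : Fin d, B) →ₐ[A] C) (hΦ : Function.Bijective Φ)
    (ρ : Equiv.Perm (Fin d) → C → C)
    (hρ : ∀ σ t, ρ σ (Φ t) = Φ (reindex A (fun _ : Fin d => B) σ⁻¹ t))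
    (j : C₀ →ₐ[A] C) (hji : Function.Injective j)
    (hjr : ∀ c, c ∈ Set.range j ↔ ∀ σ, ρ σ c = c) :
    ∃ e : C₀ ≃ₗ[A] TS A B d, ∀ c₀, Φ (e c₀ : ⨂[A] _ : Fin d, B) = j c₀ := by
  let k : TS A B d →ₗ[A] C := Φ.toLinearMap ∘ₗ (TS A B d).subtype
  have hk : Function.Injective k := hΦ.1.comp (Submodule.injective_subtype _)
  have hrange : LinearMap.range j.toLinearMap = LinearMap.range k := by
    ext c
    rw [LinearMap.mem_range, LinearMap.mem_range]
    change c ∈ Set.range j ↔ _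
    rw [hjr c]
    obtain ⟨t, rfl⟩ := hΦ.2 c
    constructor
    · intro ht
      refine ⟨⟨t, ?_⟩, rfl⟩
      rw [mem_TS]
      intro σ
      apply hΦ.1
      have := ht σ⁻¹
      rw [hρ, inv_inv] at this
      exact this
    · rintro ⟨⟨t', ht'⟩, h⟩ σ
      have : t' = t := hΦ.1 h
      subst this
      rw [hρ, (mem_TS.mp ht') σ⁻¹]
  let e : C₀ ≃ₗ[A] TS A B d :=
    (LinearEquiv.ofInjective j.toLinearMap hji) ≪≫ₗ (LinearEquiv.ofEq _ _ hrange) ≪≫ₗ
      (LinearEquiv.ofInjective k hk).symm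
  refine ⟨e, fun c₀ => ?_⟩
  have h1 : (LinearEquiv.ofInjective k hk) (e c₀) =
      (LinearEquiv.ofEq _ _ hrange) ((LinearEquiv.ofInjective j.toLinearMap hji) c₀) := by
    simp [e]
  have h2 := congrArg Subtype.val h1
  have h3 : k (e c₀) = j c₀ := by simpa using h2
  exact h3

open Groth.Agent.Lib.SymTensorPure75 in
/-- **Invariants after base change.** -/
theorem symBC [Module.Flat A B]
    (Φ : (⨂[A] _ : Fin d, B) →ₐ[A] C) (hΦ : Function.Bijective Φ)
    (ρ : Equiv.Perm (Fin d) → C → C)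
    (hρ : ∀ σ t, ρ σ (Φ t) = Φ (reindex A (fun _ : Fin d => B) σ⁻¹ t))
    (j : C₀ →ₐ[A] C) (hji : Function.Injective j)
    (hjr : ∀ c, c ∈ Set.range j ↔ ∀ σ, ρ σ c = c)
    (α₀ : C₀ →ₐ[A] D₀) (β₀ : K →ₐ[A] D₀)
    (hP₀ : Function.Bijective (Algebra.TensorProduct.productMap β₀ α₀))
    (α : C →ₐ[A] D) (β : K →ₐ[A] D)
    (hP : Function.Bijective (Algebra.TensorProduct.productMap β α))
    (j' : D₀ →+* D) (hj'α : ∀ c₀, j' (α₀ c₀) = α (j c₀)) (hj'β : ∀ k, j' (β₀ k) = β k)
    (ρ' : Equiv.Perm (Fin d) → D →+* D) (hρ'α : ∀ σ c, ρ' σ (α c) = α (ρ σ c))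
    (hρ'β : ∀ σ k, ρ' σ (β k) = β k) :
    Function.Injective j' ∧ ∀ x : D, (∀ σ, ρ' σ x = x) → x ∈ Set.range j' := by
  obtain ⟨e, he⟩ := exists_linearEquiv_TS Φ hΦ ρ hρ j hji hjr
  let P₀ := Algebra.TensorProduct.productMap β₀ α₀
  let P := Algebra.TensorProduct.productMap β α
  let J : K ⊗[A] C₀ →ₗ[A] K ⊗[A] C := j.toLinearMap.lTensor K
  let ΦL : (⨂[A] _ : Fin d, B) ≃ₗ[A] C := LinearEquiv.ofBijective Φ.toLinearMap hΦ
  -- `J` factors through the symmetric tensors
  have hcomp : j.toLinearMap = ΦL.toLinearMap ∘ₗ (TS A B d).subtype ∘ₗ e.toLinearMap :=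
    LinearMap.ext fun c₀ => (he c₀).symm
  have hJfac : J = (ΦL.toLinearMap.lTensor K) ∘ₗ ((TS A B d).subtype.lTensor K) ∘ₗ
      (e.toLinearMap.lTensor K) := by
    change j.toLinearMap.lTensor K = _
    rw [hcomp, LinearMap.lTensor_comp, LinearMap.lTensor_comp]
  have hΦLbij : Function.Bijective (ΦL.toLinearMap.lTensor K) :=
    (ΦL.lTensor K).bijective
  have hebij : Function.Bijective (e.toLinearMap.lTensor K) := (e.lTensor K).bijective
  have hJinj : Function.Injective J := by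
    rw [hJfac]
    exact hΦLbij.1.comp ((lTensor_TS_injective B d K).comp hebij.1)
  -- compatibility of `j'` with the product maps
  have h1 : ∀ y : K ⊗[A] C₀, j' (P₀ y) = P (J y) := by
    intro y
    induction y using TensorProduct.induction_on with
    | zero => simp
    | tmul k c₀ =>
      change j' (Algebra.TensorProduct.productMap β₀ α₀ (k ⊗ₜ c₀)) =
        Algebra.TensorProduct.productMap β α (k ⊗ₜ j c₀)
      rw [Algebra.TensorProduct.productMap_apply_tmul,
        Algebra.TensorProduct.productMap_apply_tmul, map_mul, hj'α, hj'β]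
    | add x y hx hy => rw [map_add, map_add, hx, hy, map_add, map_add]
  -- compatibility of the permutation action
  have h2 : ∀ (σ : Equiv.Perm (Fin d)) (x : K ⊗[A] (⨂[A] _ : Fin d, B)),
      ρ' σ (P (ΦL.toLinearMap.lTensor K x)) =
        P (ΦL.toLinearMap.lTensor K
          ((reindex A (fun _ : Fin d => B) σ⁻¹).toLinearMap.lTensor K x)) := by
    intro σ x
    induction x using TensorProduct.induction_on with
    | zero => simp
    | tmul k t =>
      change ρ' σ (Algebra.TensorProduct.productMap β α (k ⊗ₜ Φ t)) =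
        Algebra.TensorProduct.productMap β α
          (k ⊗ₜ Φ (reindex A (fun _ : Fin d => B) σ⁻¹ t))
      rw [Algebra.TensorProduct.productMap_apply_tmul,
        Algebra.TensorProduct.productMap_apply_tmul, map_mul, hρ'α, hρ'β, hρ]
    | add x y hx hy =>
      simp only [map_add] at hx hy ⊢
      rw [hx, hy]
  constructor
  · intro a a' haa'
    obtain ⟨y, rfl⟩ := hP₀.2 a
    obtain ⟨y', rfl⟩ := hP₀.2 a'
    change j' (P₀ y) = j' (P₀ y') at haa'
    rw [h1, h1] at haa'
    rw [hJinj (hP.1 haa')]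
  · intro x hx
    obtain ⟨x₁, rfl⟩ := hP.2 x
    obtain ⟨x₂, rfl⟩ := hΦLbij.2 x₁
    have hinv : ∀ σ : Equiv.Perm (Fin d),
        (reindex A (fun _ : Fin d => B) σ).toLinearMap.lTensor K x₂ = x₂ := by
      intro σ
      have := hx σ⁻¹
      change ρ' σ⁻¹ (P (ΦL.toLinearMap.lTensor K x₂)) = P (ΦL.toLinearMap.lTensor K x₂) at this
      rw [h2, inv_inv] at this
      exact hΦLbij.1 (hP.1 this)
    obtain ⟨y, hy⟩ := mem_range_lTensor_of_invariant A K d B x₂ hinv
    obtain ⟨y₀, rfl⟩ := hebij.2 y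
    refine ⟨P₀ y₀, ?_⟩
    rw [h1]
    change P (J y₀) = P (ΦL.toLinearMap.lTensor K x₂)
    rw [hJfac, ← hy]
    rfl

end Groth.Agent.Lib.H8SymBC
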