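import Groth.Agent.Lib.H8FibPowGamma
import Groth.Agent.Lib.H8PullbackGamma
import Groth.Agent.Lib.H8SymBC
import Groth.Agent.Lib.H8IsQuotBasis

/-!
# Base change of fibre powers and of their symmetric-group quotients (helper8)

* `isPullback_fibPow`: `(X ×_S S')^n_{S'} = X^n_S ×_S S'`;
* `isPullback_quot`: the square `q' , c , fst , q` is cartesian;
* `permHom_comm`: the comparison map is equivariant;
* `local_symBC`: the local statement on sections (invariants commute with base change, `f` flat).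
-/

set_option autoImplicit false
universe u
open CategoryTheory CategoryTheory.Limits AlgebraicGeometry
open SymProd

namespace Groth.Agent.Lib.H8FibPowBC

section Cat

variable {X S S' Y : Scheme.{u}} (f : X ⟶ S) (n : ℕ) (b : S' ⟶ S)
  (c : fibPow (pullback.snd f b) n ⟶ fibPow f n)
  (hcπ : ∀ i : Fin n, c ≫ WidePullback.π (fun _ => f) i =
    WidePullback.π (fun _ => pullback.snd f b) i ≫ pullback.fst f b)
  (hcb : c ≫ WidePullback.base (fun _ => f) = WidePullback.base (fun _ => pullback.snd f b) ≫ b)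

include hcπ hcb in
/-- the fibre power of a base change is the base change of the fibre power -/
theorem isPullback_fibPow :
    IsPullback c (WidePullback.base (fun _ : Fin n => pullback.snd f b))
      (WidePullback.base (fun _ : Fin n => f)) b := by
  refine IsPullback.mk ⟨hcb⟩ ⟨PullbackCone.IsLimit.mk hcb
    (fun t => WidePullback.lift t.snd
      (fun i => pullback.lift (t.fst ≫ WidePullback.π (fun _ => f) i) t.snd
        (by rw [Category.assoc, WidePullback.π_arrow, t.condition]))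
      (fun i => pullback.lift_snd _ _ _)) ?_ ?_ ?_⟩
  · intro t
    apply WidePullback.hom_ext
    · intro i
      rw [Category.assoc, hcπ i, WidePullback.lift_π_assoc, pullback.lift_fst]
    · rw [Category.assoc, hcb, WidePullback.lift_base_assoc, t.condition]
  · intro t
    exact WidePullback.lift_base _ _ _ _
  · intro t m hm₁ hm₂
    apply WidePullback.hom_ext
    · intro i
      rw [WidePullback.lift_π]
      apply pullback.hom_ext
      · rw [Category.assoc, ← hcπ i, reassoc_of% hm₁, pullback.lift_fst]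
      · rw [Category.assoc, pullback.lift_snd,
          WidePullback.π_arrow (fun _ : Fin n => pullback.snd f b) i, hm₂]
    · rw [WidePullback.lift_base, hm₂]

include hcπ hcb in
/-- the comparison map is equivariant -/
theorem permHom_comm (σ : Equiv.Perm (Fin n)) :
    permHom (pullback.snd f b) n σ ≫ c = c ≫ permHom f n σ := by
  apply WidePullback.hom_ext
  · intro i
    rw [Category.assoc, Category.assoc, hcπ i, permHom_π, permHom_π_assoc, hcπ]
  · rw [Category.assoc, Category.assoc, hcb, permHom_base, permHom_base_assoc, hcb]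

variable (q : fibPow f n ⟶ Y) (g : Y ⟶ S) (hover : q ≫ g = WidePullback.base (fun _ => f))
  (q' : fibPow (pullback.snd f b) n ⟶ pullback g b)
  (hq'₁ : q' ≫ pullback.fst g b = c ≫ q)
  (hq'₂ : q' ≫ pullback.snd g b = WidePullback.base (fun _ => pullback.snd f b))

include hcπ hcb hover hq'₁ hq'₂ in
/-- the quotient map of the base change is the base change of the quotient map -/
theorem isPullback_quot : IsPullback q' c (pullback.fst g b) q := by
  have h1 : IsPullback c (q' ≫ pullback.snd g b) (q ≫ g) b := by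
    rw [hq'₂, hover]
    exact isPullback_fibPow f n b c hcπ hcb
  exact IsPullback.of_right h1.flip hq'₁ (IsPullback.of_hasPullback g b).flip

include hcπ hcb hq'₁ hq'₂ in
theorem quot_inv (hqinv : ∀ σ : Equiv.Perm (Fin n), permHom f n σ ≫ q = q)
    (σ : Equiv.Perm (Fin n)) : permHom (pullback.snd f b) n σ ≫ q' = q' := by
  apply pullback.hom_ext
  · rw [Category.assoc, hq'₁, reassoc_of% (permHom_comm f n b c hcπ hcb σ), hqinv]
  · rw [Category.assoc, hq'₂, permHom_base]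

end Cat

section Local

open Groth.Agent.Lib.H8FibPow Groth.Agent.Lib.H8FibPowGamma Groth.Agent.Lib.H8PullbackGamma
  Groth.Agent.Lib.H8IsQuotBasis

variable {X S S' Y : Scheme.{u}} (f : X ⟶ S) [Flat f] (n : ℕ) (q : fibPow f n ⟶ Y) (g : Y ⟶ S)
  (hq : IsSymProd f n q g) (b : S' ⟶ S)
  (c : fibPow (pullback.snd f b) n ⟶ fibPow f n)
  (hcπ : ∀ i : Fin n, c ≫ WidePullback.π (fun _ => f) i =
    WidePullback.π (fun _ => pullback.snd f b) i ≫ pullback.fst f b)
  (hcb : c ≫ WidePullback.base (fun _ => f) = WidePullback.base (fun _ => pullback.snd f b) ≫ b)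
  (q' : fibPow (pullback.snd f b) n ⟶ pullback g b)
  (hq'₁ : q' ≫ pullback.fst g b = c ≫ q)
  (hq'₂ : q' ≫ pullback.snd g b = WidePullback.base (fun _ => pullback.snd f b))
  (hinv : ∀ σ : ULift.{u} (Equiv.Perm (Fin n)),
    (permActU (pullback.snd f b) n σ).hom ≫ q' = q')

include hq hcπ hcb hq'₁ hq'₂ in
/-- the local statement: over `Ω = W' ×_V V₂` the sections of the base-changed quotient are the
invariant sections of the base-changed fibre power. -/
theorem local_symBC {U : X.Opens} {V : S.Opens} {V₂ : S'.Opens} {W' : Y.Opens}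
    {Ω : (pullback g b).Opens}
    (hU : IsAffineOpen U) (hV : IsAffineOpen V) (hV₂ : IsAffineOpen V₂)
    (hW'a : IsAffineOpen W') (hUV : U ≤ f ⁻¹ᵁ V) (hV₂V : V₂ ≤ b ⁻¹ᵁ V) (hW'V : W' ≤ g ⁻¹ᵁ V)
    (hpre : q ⁻¹ᵁ W' = fibPowOpen f n U V) (hWa : IsAffineOpen (q ⁻¹ᵁ W'))
    (hΩ : Ω = pullback.fst g b ⁻¹ᵁ W' ⊓ pullback.snd g b ⁻¹ᵁ V₂) :
    Function.Injective (q'.app Ω).hom ∧
      ∀ a : Γ(fibPow (pullback.snd f b) n, q' ⁻¹ᵁ Ω),
        IsInvSec (permActU (pullback.snd f b) n) q' hinv Ω a → a ∈ Set.range (q'.app Ω).hom := by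
  classical
  have hQ := hq.isQuot
  have hsq₀ : IsPullback (pullback.fst g b) (pullback.snd g b) g b := IsPullback.of_hasPullback g b
  have hsq : IsPullback c (WidePullback.base (fun _ : Fin n => pullback.snd f b))
      (WidePullback.base (fun _ : Fin n => f)) b := isPullback_fibPow f n b c hcπ hcb
  have hΩa : IsAffineOpen Ω := isAffineOpen_inf hsq₀ hV hW'a hV₂ hΩ hW'V hV₂V
  have hΩ' : q' ⁻¹ᵁ Ω = c ⁻¹ᵁ (q ⁻¹ᵁ W') ⊓
      (WidePullback.base (fun _ : Fin n => pullback.snd f b)) ⁻¹ᵁ V₂ := by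
    rw [hΩ, Scheme.Hom.preimage_inf, ← Scheme.Hom.comp_preimage, ← Scheme.Hom.comp_preimage,
      hq'₁, hq'₂, Scheme.Hom.comp_preimage]
  have hWV : q ⁻¹ᵁ W' ≤ (WidePullback.base (fun _ : Fin n => f)) ⁻¹ᵁ V := le_base hpre
  have hΩ'a : IsAffineOpen (q' ⁻¹ᵁ Ω) := isAffineOpen_inf hsq hV hWa hV₂ hΩ' hWV hV₂V
  letI iAB : Algebra Γ(S, V) Γ(X, U) := algUV hUV
  letI iAC : Algebra Γ(S, V) Γ(fibPow f n, q ⁻¹ᵁ W') := algVW hpre
  letI iAC₀ : Algebra Γ(S, V) Γ(Y, W') := (g.appLE V W' hW'V).hom.toAlgebra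
  letI iAK : Algebra Γ(S, V) Γ(S', V₂) := (b.appLE V V₂ hV₂V).hom.toAlgebra
  letI iAD₀ : Algebra Γ(S, V) Γ(pullback g b, Ω) :=
    (g.appLE V W' hW'V ≫ fstApp hΩ).hom.toAlgebra
  letI iAD : Algebra Γ(S, V) Γ(fibPow (pullback.snd f b) n, q' ⁻¹ᵁ Ω) :=
    (baseApp hpre ≫ fstApp hΩ').hom.toAlgebra
  haveI : Module.Flat Γ(S, V) Γ(X, U) := Flat.flat_appLE f hV hU hUV
  let α₀ : Γ(Y, W') →ₐ[Γ(S, V)] Γ(pullback g b, Ω) :=
    { (fstApp hΩ).hom with commutes' := fun r => rfl }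
  let β₀ : Γ(S', V₂) →ₐ[Γ(S, V)] Γ(pullback g b, Ω) :=
    { (sndApp hΩ).hom with
      commutes' := fun r =>
        (congrArg (fun φ => φ.hom r) (appLE_fstApp_eq hsq₀ hΩ hW'V hV₂V)).symm }
  let α : Γ(fibPow f n, q ⁻¹ᵁ W') →ₐ[Γ(S, V)] Γ(fibPow (pullback.snd f b) n, q' ⁻¹ᵁ Ω) :=
    { (fstApp hΩ').hom with commutes' := fun r => rfl }
  let β : Γ(S', V₂) →ₐ[Γ(S, V)] Γ(fibPow (pullback.snd f b) n, q' ⁻¹ᵁ Ω) :=
    { (sndApp hΩ').hom with
      commutes' := fun r =>
        (congrArg (fun φ => φ.hom r) (appLE_fstApp_eq hsq hΩ' hWV hV₂V)).symm }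
  have hP₀ : Function.Bijective (Algebra.TensorProduct.productMap β₀ α₀) :=
    productMap_bijective_of_isPullback hsq₀ hV hW'a hV₂ hΩ hΩa hW'V hV₂V rfl rfl α₀ rfl β₀ rfl
  have hP : Function.Bijective (Algebra.TensorProduct.productMap β α) :=
    productMap_bijective_of_isPullback hsq hV hWa hV₂ hΩ' hΩ'a hWV hV₂V rfl rfl α rfl β rfl
  -- the inclusion of invariants downstairs
  let j : Γ(Y, W') →ₐ[Γ(S, V)] Γ(fibPow f n, q ⁻¹ᵁ W') :=
    { (q.app W').hom with
      commutes' := fun r => by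
        change (g.appLE V W' hW'V ≫ q.app W').hom r = (baseApp hpre).hom r
        congr 2
        rw [Scheme.Hom.app_eq_appLE, Scheme.Hom.appLE_comp_appLE]
        unfold baseApp
        congr 1
        exact hq.over }
  have hji : Function.Injective j := hQ.injective W'
  have hjr : ∀ c₁, c₁ ∈ Set.range j ↔ ∀ σ : Equiv.Perm (Fin n), (permApp hpre σ).hom c₁ = c₁ := by
    intro c₁
    change c₁ ∈ Set.range (q.app W').hom ↔ _
    rw [hQ.range_iff W' c₁]
    constructor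
    · intro h σ
      exact h ⟨σ⟩
    · intro h σ
      exact h σ.down
  -- the action upstairs
  let ρ' : Equiv.Perm (Fin n) → Γ(fibPow (pullback.snd f b) n, q' ⁻¹ᵁ Ω) →+*
      Γ(fibPow (pullback.snd f b) n, q' ⁻¹ᵁ Ω) := fun σ =>
    ((permActU (pullback.snd f b) n ⟨σ⟩).hom.appLE (q' ⁻¹ᵁ Ω) (q' ⁻¹ᵁ Ω)
      (SGA1.preimage_le_of_inv (permActU (pullback.snd f b) n) q' hinv ⟨σ⟩ Ω)).hom
  have hj'α : ∀ c₀, (q'.app Ω).hom (α₀ c₀) = α (j c₀) := by
    intro c₀
    change (fstApp hΩ ≫ q'.app Ω).hom c₀ = (q.app W' ≫ fstApp hΩ').hom c₀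
    congr 2
    unfold fstApp
    rw [Scheme.Hom.app_eq_appLE, Scheme.Hom.app_eq_appLE, Scheme.Hom.appLE_comp_appLE,
      Scheme.Hom.appLE_comp_appLE]
    exact appLE_congr_hom hq'₁ _ _ _
  have hj'β : ∀ k, (q'.app Ω).hom (β₀ k) = β k := by
    intro k
    change (sndApp hΩ ≫ q'.app Ω).hom k = (sndApp hΩ').hom k
    congr 2
    unfold sndApp
    rw [Scheme.Hom.app_eq_appLE, Scheme.Hom.appLE_comp_appLE]
    exact appLE_congr_hom hq'₂ _ _ _
  have hρ'α : ∀ σ c₁, ρ' σ (α c₁) = α ((permApp hpre σ).hom c₁) := by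
    intro σ c₁
    change (fstApp hΩ' ≫ (permActU (pullback.snd f b) n ⟨σ⟩).hom.appLE (q' ⁻¹ᵁ Ω) (q' ⁻¹ᵁ Ω)
      _).hom c₁ = (permApp hpre σ ≫ fstApp hΩ').hom c₁
    congr 2
    unfold fstApp permApp
    rw [Scheme.Hom.appLE_comp_appLE, Scheme.Hom.appLE_comp_appLE]
    exact appLE_congr_hom (permHom_comm f n b c hcπ hcb σ) _ _ _
  have hρ'β : ∀ σ k, ρ' σ (β k) = β k := by
    intro σ k
    change (sndApp hΩ' ≫ (permActU (pullback.snd f b) n ⟨σ⟩).hom.appLE (q' ⁻¹ᵁ Ω) (q' ⁻¹ᵁ Ω)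
      _).hom k = (sndApp hΩ').hom k
    congr 2
    unfold sndApp
    rw [Scheme.Hom.appLE_comp_appLE]
    exact appLE_congr_hom (permHom_base (pullback.snd f b) n σ) _ _ _
  obtain ⟨hinj, hsurj⟩ := Groth.Agent.Lib.H8SymBC.symBC (K := Γ(S', V₂))
    (tpowLift (πAlg hUV hpre)) (tpowLift_πAlg_bijective hU hV hUV hpre hWa)
    (fun σ => (permApp hpre σ).hom) (fun σ t => permApp_tpowLift hUV hpre σ t)
    j hji hjr α₀ β₀ hP₀ α β hP (q'.app Ω).hom hj'α hj'β ρ' hρ'α hρ'β
  refine ⟨hinj, fun a ha => hsurj a fun σ => ha ⟨σ⟩⟩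

end Local

end Groth.Agent.Lib.H8FibPowBC
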