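import Groth.Agent.Lib.SymTensorColim

/-!
# Symmetric tensors of a flat module are flat (`Groth.Agent.Lib.SymTensorFlat`)

* `TS A P n`: the submodule of symmetric tensors in `⨂[A] _ : Fin n, P` (same expression as in the
  statements: `⨅ σ, eqLocus (reindex σ) id`).
* `TSmap g`: functoriality.
* `exists_symm_lift_family`, `exists_symm_lift_fp_family`: finite families of symmetric tensors with a
  linear relation lift to a finitely presented stage.
* `TS_flat_of_basis`: `TS` of a finite free module is a retract of the tensor power, hence flat.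
* `TS_flat`: `TS` of a flat module is flat.
-/

open scoped TensorProduct
open PiTensorProduct

set_option linter.unusedSectionVars false

namespace Groth.Agent.Lib.SymTensorFlat

open Groth.Agent.Lib.PiTensorDirLim Groth.Agent.Lib.SymTensorColim

universe uA uι uM uN

section TSdef

variable (A : Type uA) [CommRing A]

/-- symmetric tensors -/
def TS (P : Type*) [AddCommGroup P] [Module A P] (n : ℕ) : Submodule A (⨂[A] _ : Fin n, P) :=
  ⨅ σ : Equiv.Perm (Fin n),
    LinearMap.eqLocus (PiTensorProduct.reindex A (fun _ : Fin n => P) σ).toLinearMap LinearMap.id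

variable {A}

theorem mem_TS {P : Type*} [AddCommGroup P] [Module A P] {n : ℕ} {v : ⨂[A] _ : Fin n, P} :
    v ∈ TS A P n ↔ ∀ σ : Equiv.Perm (Fin n), reindex A (fun _ : Fin n => P) σ v = v := by
  unfold TS
  simp only [Submodule.mem_iInf, LinearMap.mem_eqLocus, LinearEquiv.coe_coe, LinearMap.id_coe, id_eq]

/-- functoriality of symmetric tensors -/
noncomputable def TSmap {P Q : Type*} [AddCommGroup P] [Module A P] [AddCommGroup Q] [Module A Q]
    (g : P →ₗ[A] Q) (n : ℕ) : TS A P n →ₗ[A] TS A Q n :=
  (PiTensorProduct.map (fun _ : Fin n => g)).restrict (p := TS A P n) (q := TS A Q n) (by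
    intro v hv
    rw [mem_TS] at hv ⊢
    intro σ
    rw [← map_reindex_const, hv σ])

@[simp]
theorem TSmap_coe {P Q : Type*} [AddCommGroup P] [Module A P] [AddCommGroup Q] [Module A Q]
    (g : P →ₗ[A] Q) (n : ℕ) (v : TS A P n) :
    ((TSmap g n v : TS A Q n) : ⨂[A] _ : Fin n, Q) =
      PiTensorProduct.map (fun _ : Fin n => g) (v : ⨂[A] _ : Fin n, P) := rfl

end TSdef

section family

variable {A : Type uA} [CommRing A] {ι : Type uι} [Preorder ι] [IsDirected ι (fun i j => i ≤ j)] [Nonempty ι]
  {M : ι → Type uM} [∀ i, AddCommGroup (M i)] [∀ i, Module A (M i)]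
  {N : Type uN} [AddCommGroup N] [Module A N]
  {t : ∀ i j : ι, i ≤ j → (M i →ₗ[A] M j)} {φ : ∀ i, M i →ₗ[A] N}

/-- finite families of symmetric tensors with a relation lift to a finite stage -/
theorem exists_symm_lift_family (H : IsColim t φ) (n : ℕ) {l : ℕ} (x : Fin l → ⨂[A] _ : Fin n, N)
    (hx : ∀ i, ∀ σ : Equiv.Perm (Fin n), reindex A (fun _ : Fin n => N) σ (x i) = x i)
    (f : Fin l → A) (hf : ∑ i, f i • x i = 0) :
    ∃ (j : ι) (y : Fin l → ⨂[A] _ : Fin n, M j),
      (∀ i, ∀ σ : Equiv.Perm (Fin n), reindex A (fun _ : Fin n => M j) σ (y i) = y i) ∧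
      (∀ i, PiTensorProduct.map (fun _ : Fin n => φ j) (y i) = x i) ∧
      ∑ i, f i • y i = 0 := by
  have h1 : ∀ i, ∃ (j : ι) (y : ⨂[A] _ : Fin n, M j),
      (∀ σ : Equiv.Perm (Fin n), reindex A (fun _ : Fin n => M j) σ y = y) ∧
      PiTensorProduct.map (fun _ : Fin n => φ j) y = x i :=
    fun i => exists_symm_lift H n (x i) (hx i)
  choose ji yi hyisym hyi using h1
  obtain ⟨j, hj⟩ := Finite.exists_le ji
  let y' : Fin l → ⨂[A] _ : Fin n, M j :=
    fun i => PiTensorProduct.map (fun _ : Fin n => t (ji i) j (hj i)) (yi i)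
  have hy'sym : ∀ i, ∀ σ : Equiv.Perm (Fin n),
      reindex A (fun _ : Fin n => M j) σ (y' i) = y' i := by
    intro i σ
    simp only [y']
    rw [← map_reindex_const, hyisym i σ]
  have hy' : ∀ i, PiTensorProduct.map (fun _ : Fin n => φ j) (y' i) = x i := by
    intro i
    simp only [y']
    rw [H.map_φ_map_t, hyi i]
  have hzero : PiTensorProduct.map (fun _ : Fin n => φ j) (∑ i, f i • y' i) = 0 := by
    rw [map_sum]
    simp only [map_smul, hy']
    exact hf
  obtain ⟨j', hjj', hz⟩ := exists_map_eq_zero H j _ hzero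
  refine ⟨j', fun i => PiTensorProduct.map (fun _ : Fin n => t j j' hjj') (y' i), ?_, ?_, ?_⟩
  · intro i σ
    rw [← map_reindex_const, hy'sym i σ]
  · intro i
    rw [H.map_φ_map_t, hy' i]
  · rw [map_sum] at hz
    simp only [map_smul] at hz
    exact hz

end family

section fp

variable (A : Type uA) [CommRing A] (N : Type uN) [AddCommGroup N] [Module A N]

/-- A finite family of symmetric tensors over `N` with a linear relation is the image of a family of
symmetric tensors, satisfying the same relation, over a finitely presented module mapping to `N`. -/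
theorem exists_symm_lift_fp_family (n : ℕ) {l : ℕ} (x : Fin l → ⨂[A] _ : Fin n, N)
    (hx : ∀ i, ∀ σ : Equiv.Perm (Fin n), reindex A (fun _ : Fin n => N) σ (x i) = x i)
    (f : Fin l → A) (hf : ∑ i, f i • x i = 0) :
    ∃ (Q : Type uA) (_ : AddCommGroup Q) (_ : Module A Q) (_ : Module.FinitePresentation A Q)
      (g : Q →ₗ[A] N) (y : Fin l → ⨂[A] _ : Fin n, Q),
      (∀ i, ∀ σ : Equiv.Perm (Fin n), reindex A (fun _ : Fin n => Q) σ (y i) = y i) ∧
      (∀ i, PiTensorProduct.map (fun _ : Fin n => g) (y i) = x i) ∧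
      ∑ i, f i • y i = 0 := by
  -- step 1: a f.g. submodule
  obtain ⟨P, y, hysym, hy, hyrel⟩ := exists_symm_lift_family (fgColim A N) n x hx f hf
  have : Module.Finite A P.1 := Module.Finite.iff_fg.2 P.2
  obtain ⟨m, π, hπ⟩ := Module.Finite.exists_fin' A P.1
  let K : Submodule A (Fin m → A) := LinearMap.ker π
  let e : ((Fin m → A) ⧸ K) ≃ₗ[A] P.1 := π.quotKerEquivOfSurjective hπ
  -- transport to the quotient
  let y' : Fin l → ⨂[A] _ : Fin n, ((Fin m → A) ⧸ K) :=
    fun i => PiTensorProduct.map (fun _ : Fin n => e.symm.toLinearMap) (y i)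
  have hy'sym : ∀ i, ∀ σ : Equiv.Perm (Fin n),
      reindex A (fun _ : Fin n => ((Fin m → A) ⧸ K)) σ (y' i) = y' i := by
    intro i σ
    simp only [y']
    rw [← map_reindex_const, hysym i σ]
  have hy'rel : ∑ i, f i • y' i = 0 := by
    have := congrArg (PiTensorProduct.map (fun _ : Fin n => e.symm.toLinearMap)) hyrel
    rw [map_sum, map_zero] at this
    simp only [map_smul] at this
    exact this
  -- step 2: a finitely presented stage
  obtain ⟨K', y'', hy''sym, hy'', hy''rel⟩ :=
    exists_symm_lift_family (quotColim A (Fin m → A) K) n y' hy'sym f hy'rel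
  have : Module.FinitePresentation A ((Fin m → A) ⧸ K'.1) :=
    Module.finitePresentation_of_surjective K'.1.mkQ (Submodule.mkQ_surjective _)
      (by rw [Submodule.ker_mkQ]; exact K'.2.1)
  refine ⟨(Fin m → A) ⧸ K'.1, inferInstance, inferInstance, inferInstance,
    P.1.subtype ∘ₗ e.toLinearMap ∘ₗ Submodule.factor K'.2.2, y'', hy''sym, ?_, hy''rel⟩
  intro i
  rw [← hy i, ← map_map_const, ← map_map_const, hy'' i]
  congr 1
  simp only [y']
  rw [map_map_const]
  have : (e.toLinearMap ∘ₗ e.symm.toLinearMap) = LinearMap.id := by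
    ext x; simp
  rw [this, PiTensorProduct.map_id]
  rfl

end fp

section free

variable {A : Type uA} [CommRing A] {F : Type*} [AddCommGroup F] [Module A F]
  {κ : Type*} [Finite κ] (b : Module.Basis κ A F) (n : ℕ)

/-- the tensor power basis -/
noncomputable abbrev tbasis : Module.Basis (Fin n → κ) A (⨂[A] _ : Fin n, F) :=
  Basis.piTensorProduct (fun _ : Fin n => b)

theorem reindex_tbasis (σ : Equiv.Perm (Fin n)) (p : Fin n → κ) :
    reindex A (fun _ : Fin n => F) σ (tbasis b n p) = tbasis b n (p ∘ σ.symm) := by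
  rw [Basis.piTensorProduct_apply, Basis.piTensorProduct_apply, reindex_tprod]
  rfl

theorem repr_reindex (σ : Equiv.Perm (Fin n)) (v : ⨂[A] _ : Fin n, F) (q : Fin n → κ) :
    (tbasis b n).repr (reindex A (fun _ : Fin n => F) σ v) q = (tbasis b n).repr v (q ∘ σ) := by
  classical
  have : (Finsupp.lapply q) ∘ₗ (tbasis b n).repr.toLinearMap ∘ₗ
      (reindex A (fun _ : Fin n => F) σ).toLinearMap =
      (Finsupp.lapply (q ∘ σ)) ∘ₗ (tbasis b n).repr.toLinearMap := by
    apply (tbasis b n).ext
    intro p
    simp only [LinearMap.comp_apply, LinearEquiv.coe_coe, Finsupp.lapply_apply]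
    rw [reindex_tbasis, Module.Basis.repr_self, Module.Basis.repr_self, Finsupp.single_apply,
      Finsupp.single_apply]
    have : (p ∘ σ.symm = q) ↔ (p = q ∘ σ) := by
      constructor
      · rintro rfl
        funext i; simp
      · rintro rfl
        funext i; simp
    simp only [this]
  exact LinearMap.congr_fun this v

/-- the orbit relation on multi-indices -/
def orbSetoid (κ : Type*) (n : ℕ) : Setoid (Fin n → κ) where
  r p q := ∃ σ : Equiv.Perm (Fin n), q = p ∘ σ
  iseqv := {
    refl := fun p => ⟨1, rfl⟩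
    symm := by
      rintro p q ⟨σ, rfl⟩
      exact ⟨σ.symm, by funext i; simp⟩
    trans := by
      rintro p q r ⟨σ, rfl⟩ ⟨τ, rfl⟩
      exact ⟨τ.trans σ, by funext i; simp⟩ }

/-- canonical representative of the orbit -/
noncomputable def orep (p : Fin n → κ) : Fin n → κ :=
  (Quotient.mk (orbSetoid κ n) p).out

theorem orep_spec (p : Fin n → κ) : ∃ σ : Equiv.Perm (Fin n), orep n p = p ∘ σ := by
  have : (orbSetoid κ n).r p (orep n p) := by
    have h := Quotient.mk_out (s := orbSetoid κ n) p
    exact (orbSetoid κ n).symm h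
  exact this

theorem orep_comp (p : Fin n → κ) (σ : Equiv.Perm (Fin n)) : orep n (p ∘ σ) = orep n p := by
  unfold orep
  congr 1
  apply Quotient.sound
  exact (orbSetoid κ n).symm ⟨σ, rfl⟩

/-- the retraction onto symmetric tensors, before corestriction -/
noncomputable def rho0 : (⨂[A] _ : Fin n, F) →ₗ[A] (⨂[A] _ : Fin n, F) :=
  (tbasis b n).equivFun.symm.toLinearMap ∘ₗ
    (LinearMap.funLeft A A (fun q : Fin n → κ => orep n q)) ∘ₗ (tbasis b n).equivFun.toLinearMap

theorem equivFun_rho0 (v : ⨂[A] _ : Fin n, F) (q : Fin n → κ) :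
    (tbasis b n).equivFun (rho0 b n v) q = (tbasis b n).equivFun v (orep n q) := by
  unfold rho0
  simp only [LinearMap.comp_apply, LinearEquiv.coe_coe, LinearEquiv.apply_symm_apply]
  rfl

theorem equivFun_reindex (σ : Equiv.Perm (Fin n)) (v : ⨂[A] _ : Fin n, F) (q : Fin n → κ) :
    (tbasis b n).equivFun (reindex A (fun _ : Fin n => F) σ v) q =
      (tbasis b n).equivFun v (q ∘ σ) := by
  rw [Module.Basis.equivFun_apply, Module.Basis.equivFun_apply]
  exact repr_reindex b n σ v q

theorem rho0_mem (v : ⨂[A] _ : Fin n, F) : rho0 b n v ∈ TS A F n := by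
  rw [mem_TS]
  intro σ
  apply (tbasis b n).equivFun.injective
  funext q
  rw [equivFun_reindex, equivFun_rho0, equivFun_rho0, orep_comp]

theorem rho0_of_mem (v : ⨂[A] _ : Fin n, F) (hv : v ∈ TS A F n) : rho0 b n v = v := by
  rw [mem_TS] at hv
  apply (tbasis b n).equivFun.injective
  funext q
  rw [equivFun_rho0]
  obtain ⟨σ, hσ⟩ := orep_spec n q
  rw [hσ, ← equivFun_reindex, hv σ]

include b in
/-- symmetric tensors of a finite free module form a flat module (a retract of the tensor power) -/
theorem TS_flat_of_basis : Module.Flat A (TS A F n) := by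
  have : Module.Free A (⨂[A] _ : Fin n, F) := Module.Free.of_basis (tbasis b n)
  refine Module.Flat.of_retract (TS A F n).subtype
    ((rho0 b n).codRestrict (TS A F n) (rho0_mem b n)) ?_
  ext v
  simp only [LinearMap.comp_apply, LinearMap.codRestrict_apply, Submodule.subtype_apply,
    LinearMap.id_apply]
  exact rho0_of_mem b n v.1 v.2

end free

section flat

variable (A : Type uA) [CommRing A] (M : Type uN) [AddCommGroup M] [Module A M]

/-- a relation among symmetric tensors over `M` which comes from a relation over `Q` through a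
factorization `Q → F → M` with `F` finite free is trivial -/
theorem trivial_of_factor {F : Type*} [AddCommGroup F] [Module A F] {κ : Type*} [Finite κ]
    (b : Module.Basis κ A F) {Q : Type*} [AddCommGroup Q] [Module A Q]
    (h₂ : Q →ₗ[A] F) (h₃ : F →ₗ[A] M) (n : ℕ) {l : ℕ} (f : Fin l → A) (x : Fin l → TS A M n)
    (y : Fin l → ⨂[A] _ : Fin n, Q)
    (hysym : ∀ i, ∀ σ : Equiv.Perm (Fin n), reindex A (fun _ : Fin n => Q) σ (y i) = y i)
    (hy : ∀ i, PiTensorProduct.map (fun _ : Fin n => h₃ ∘ₗ h₂) (y i) = (x i : ⨂[A] _ : Fin n, M))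
    (hyrel : ∑ i, f i • y i = 0) : Module.IsTrivialRelation f x := by
  let z : Fin l → TS A F n :=
    fun i => TSmap h₂ n ⟨y i, mem_TS.2 (hysym i)⟩
  have hz : ∑ i, f i • z i = 0 := by
    apply Subtype.ext
    rw [Submodule.coe_sum]
    simp only [Submodule.coe_smul, z, TSmap_coe, Submodule.coe_zero]
    have := congrArg (PiTensorProduct.map (fun _ : Fin n => h₂)) hyrel
    rw [map_sum, map_zero] at this
    simpa using this
  have : Module.Flat A (TS A F n) := TS_flat_of_basis b n
  obtain ⟨k', a, w, hw, ha⟩ := Module.Flat.isTrivialRelation_of_sum_smul_eq_zero hz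
  refine ⟨k', a, fun j => TSmap h₃ n (w j), ?_, ha⟩
  intro i
  have h1 : x i = TSmap h₃ n (z i) := by
    apply Subtype.ext
    simp only [z, TSmap_coe]
    rw [map_map_const, hy i]
  rw [h1, hw i, map_sum]
  simp only [map_smul]

/-- symmetric tensors of a flat module form a flat module -/
theorem TS_flat [Module.Flat A M] (n : ℕ) : Module.Flat A (TS A M n) := by
  apply Module.Flat.of_forall_isTrivialRelation
  intro l f x hfx
  -- lift to a finitely presented module
  have hfx' : ∑ i, f i • (x i : ⨂[A] _ : Fin n, M) = 0 := by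
    have := congrArg (TS A M n).subtype hfx
    rw [map_sum, map_zero] at this
    simpa using this
  obtain ⟨Q, _, _, _, g, y, hysym, hy, hyrel⟩ :=
    exists_symm_lift_fp_family A M n (fun i => (x i : ⨂[A] _ : Fin n, M))
      (fun i => mem_TS.1 (x i).2) f hfx'
  obtain ⟨k, h₂, h₃, hg⟩ := Module.Flat.exists_factorization_of_finitePresentation g
  exact trivial_of_factor A M (Finsupp.basisSingleOne (R := A) (ι := Fin k)) h₂ h₃ n f x y hysym
    (by rw [← hg]; exact hy) hyrel

end flat

end Groth.Agent.Lib.SymTensorFlat
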