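import Groth.Agent.Lib.H8FibPow
import Groth.Agent.Lib.SymTensorFlat
import Mathlib.RingTheory.PiTensorProduct
import Mathlib.AlgebraicGeometry.AffineScheme

/-!
# Sections of `U ×_V ⋯ ×_V U` are the tensor power (helper8)

For `f : X ⟶ S`, affine opens `U ⊆ f⁻¹V`, and `W = fibPowOpen f d U V` (affine), the ring `Γ(W)`
is the `d`-fold tensor power of `Γ(U)` over `Γ(V)`, compatibly with the coprojections, and the
permutation action on `Γ(W)` corresponds to `PiTensorProduct.reindex`.
-/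

set_option autoImplicit false
universe u
open CategoryTheory CategoryTheory.Limits AlgebraicGeometry SymProd
open scoped TensorProduct

namespace Groth.Agent.Lib.H8FibPowGamma

open Groth.Agent.Lib.H8FibPow

section Alg

variable {A B C : Type u} [CommRing A] [CommRing B] [CommRing C] [Algebra A B] [Algebra A C]
  {d : ℕ}

/-- the canonical map from the tensor power induced by a family of algebra maps -/
noncomputable def tpowLift (ι : Fin d → (B →ₐ[A] C)) : (⨂[A] _ : Fin d, B) →ₐ[A] C :=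
  PiTensorProduct.liftAlgHom
    ((MultilinearMap.mkPiAlgebra A (Fin d) C).compLinearMap (fun i => (ι i).toLinearMap))
    (by simp) (by intro x y; simp [Finset.prod_mul_distrib])

theorem tpowLift_tprod (ι : Fin d → (B →ₐ[A] C)) (x : Fin d → B) :
    tpowLift ι (⨂ₜ[A] i, x i) = ∏ i, ι i (x i) := by
  simp [tpowLift]

theorem tpowLift_single (ι : Fin d → (B →ₐ[A] C)) (i : Fin d) (b : B) :
    tpowLift ι (PiTensorProduct.singleAlgHom (R := A) (A := fun _ : Fin d => B) i b) = ι i b := by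
  rw [PiTensorProduct.singleAlgHom_apply, tpowLift_tprod, Finset.prod_eq_single i]
  · simp
  · intro j _ hj; simp [hj]
  · intro h; exact absurd (Finset.mem_univ i) h

theorem tpowLift_comp_single (ι : Fin d → (B →ₐ[A] C)) (i : Fin d) :
    (tpowLift ι).comp (PiTensorProduct.singleAlgHom (R := A) (A := fun _ : Fin d => B) i) = ι i :=
  AlgHom.ext (tpowLift_single ι i)

/-- a wide pushout of `d` copies of `A → B` is the tensor power -/
theorem tpowLift_bijective (ι : Fin d → (B →ₐ[A] C))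
    (huniv : ∃ χ : C →ₐ[A] (⨂[A] _ : Fin d, B), ∀ i, χ.comp (ι i) =
      PiTensorProduct.singleAlgHom (R := A) (A := fun _ : Fin d => B) i)
    (hext : ∀ (χ χ' : C →ₐ[A] C), (∀ i, χ.comp (ι i) = χ'.comp (ι i)) → χ = χ') :
    Function.Bijective (tpowLift ι) := by
  obtain ⟨Ψ, hΨ⟩ := huniv
  have h1 : Ψ.comp (tpowLift ι) = AlgHom.id A _ := by
    refine PiTensorProduct.algHom_ext fun i => ?_
    rw [AlgHom.comp_assoc, tpowLift_comp_single, hΨ, AlgHom.id_comp]
  have h2 : (tpowLift ι).comp Ψ = AlgHom.id A _ := by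
    refine hext _ _ fun i => ?_
    rw [AlgHom.comp_assoc, hΨ, tpowLift_comp_single, AlgHom.id_comp]
  refine ⟨?_, ?_⟩
  · exact Function.LeftInverse.injective (g := Ψ) fun x => by
      simpa using congrArg (fun φ => φ x) h1
  · exact Function.RightInverse.surjective (g := Ψ) fun x => by
      simpa using congrArg (fun φ => φ x) h2

end Alg

section Sch

variable {X S : Scheme.{u}} (f : X ⟶ S) (d : ℕ) {U : X.Opens} {V : S.Opens}
  {W : (fibPow f d).Opens}

variable {f d}

lemma le_base (hW : W = fibPowOpen f d U V) :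
    W ≤ (WidePullback.base (fun _ : Fin d => f)) ⁻¹ᵁ V := by
  subst hW
  intro z hz
  exact (mem_fibPowOpen.mp hz).1

lemma le_π (hW : W = fibPowOpen f d U V) (i : Fin d) :
    W ≤ (WidePullback.π (fun _ : Fin d => f) i) ⁻¹ᵁ U := by
  subst hW
  intro z hz
  exact (mem_fibPowOpen.mp hz).2 i

/-- the structure map `Γ(V) ⟶ Γ(W)` -/
noncomputable abbrev baseApp (hW : W = fibPowOpen f d U V) : Γ(S, V) ⟶ Γ(fibPow f d, W) :=
  (WidePullback.base (fun _ : Fin d => f)).appLE V W (le_base hW)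

/-- the coprojections `Γ(U) ⟶ Γ(W)` -/
noncomputable abbrev πApp (hW : W = fibPowOpen f d U V) (i : Fin d) :
    Γ(X, U) ⟶ Γ(fibPow f d, W) :=
  (WidePullback.π (fun _ : Fin d => f) i).appLE U W (le_π hW i)

lemma appLE_πApp (hUV : U ≤ f ⁻¹ᵁ V) (hW : W = fibPowOpen f d U V) (i : Fin d) :
    f.appLE V U hUV ≫ πApp hW i = baseApp hW := by
  unfold πApp baseApp
  rw [Scheme.Hom.appLE_comp_appLE]
  congr 1
  exact WidePullback.π_arrow _ i

/-- existence part of the universal property of `Γ(W)` -/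
theorem exists_desc (hU : IsAffineOpen U) (hV : IsAffineOpen V) (hUV : U ≤ f ⁻¹ᵁ V)
    (hW : W = fibPowOpen f d U V) (hWa : IsAffineOpen W)
    (R : CommRingCat.{u}) (ψ₀ : Γ(S, V) ⟶ R) (ψ : Fin d → (Γ(X, U) ⟶ R))
    (hψ : ∀ i, f.appLE V U hUV ≫ ψ i = ψ₀) :
    ∃ χ : Γ(fibPow f d, W) ⟶ R, baseApp hW ≫ χ = ψ₀ ∧ ∀ i, πApp hW i ≫ χ = ψ i := by
  let t₀ : Spec R ⟶ S := Spec.map ψ₀ ≫ hV.fromSpec
  let t : Fin d → (Spec R ⟶ X) := fun i => Spec.map (ψ i) ≫ hU.fromSpec
  have ht : ∀ i, t i ≫ f = t₀ := by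
    intro i
    change (Spec.map (ψ i) ≫ hU.fromSpec) ≫ f = Spec.map ψ₀ ≫ hV.fromSpec
    rw [Category.assoc, ← IsAffineOpen.SpecMap_appLE_fromSpec f hV hU hUV, ← Spec.map_comp_assoc,
      hψ i]
  let l : Spec R ⟶ fibPow f d := WidePullback.lift t₀ t ht
  have hl : Set.range l ⊆ Set.range hWa.fromSpec := by
    rw [hWa.range_fromSpec]
    rintro _ ⟨z, rfl⟩
    subst hW
    rw [SetLike.mem_coe, mem_fibPowOpen]
    refine ⟨?_, fun i => ?_⟩
    · rw [← Scheme.Hom.comp_apply, WidePullback.lift_base]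
      have : (Spec.map ψ₀ ≫ hV.fromSpec) z ∈ Set.range hV.fromSpec := by
        rw [Scheme.Hom.comp_apply]
        exact ⟨_, rfl⟩
      rw [hV.range_fromSpec] at this
      exact this
    · rw [← Scheme.Hom.comp_apply, WidePullback.lift_π]
      have : (Spec.map (ψ i) ≫ hU.fromSpec) z ∈ Set.range hU.fromSpec := by
        rw [Scheme.Hom.comp_apply]
        exact ⟨_, rfl⟩
      rw [hU.range_fromSpec] at this
      exact this
  let m : Spec R ⟶ Spec Γ(fibPow f d, W) := IsOpenImmersion.lift hWa.fromSpec l hl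
  have hm : m ≫ hWa.fromSpec = l := IsOpenImmersion.lift_fac _ _ _
  refine ⟨Spec.preimage m, ?_, fun i => ?_⟩
  · apply Spec.map_injective
    rw [Spec.map_comp, Spec.map_preimage, ← cancel_mono hV.fromSpec, Category.assoc,
      IsAffineOpen.SpecMap_appLE_fromSpec _ hV hWa, reassoc_of% hm, WidePullback.lift_base]
  · apply Spec.map_injective
    rw [Spec.map_comp, Spec.map_preimage, ← cancel_mono hU.fromSpec, Category.assoc,
      IsAffineOpen.SpecMap_appLE_fromSpec _ hU hWa, reassoc_of% hm, WidePullback.lift_π]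

/-- uniqueness part of the universal property of `Γ(W)` -/
theorem desc_ext (hU : IsAffineOpen U) (hV : IsAffineOpen V)
    (hW : W = fibPowOpen f d U V) (hWa : IsAffineOpen W)
    (R : CommRingCat.{u}) (χ χ' : Γ(fibPow f d, W) ⟶ R)
    (h₀ : baseApp hW ≫ χ = baseApp hW ≫ χ') (h : ∀ i, πApp hW i ≫ χ = πApp hW i ≫ χ') :
    χ = χ' := by
  apply Spec.map_injective
  rw [← cancel_mono hWa.fromSpec]
  apply WidePullback.hom_ext
  · intro i
    rw [Category.assoc, Category.assoc,
      ← IsAffineOpen.SpecMap_appLE_fromSpec _ hU hWa (le_π hW i), ← Spec.map_comp_assoc,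
      ← Spec.map_comp_assoc]
    exact congrArg (fun φ => Spec.map φ ≫ hU.fromSpec) (h i)
  · rw [Category.assoc, Category.assoc,
      ← IsAffineOpen.SpecMap_appLE_fromSpec _ hV hWa (le_base hW), ← Spec.map_comp_assoc,
      ← Spec.map_comp_assoc]
    exact congrArg (fun φ => Spec.map φ ≫ hV.fromSpec) h₀

end Sch

section Main

variable {X S : Scheme.{u}} {f : X ⟶ S} {d : ℕ} {U : X.Opens} {V : S.Opens}
  {W : (fibPow f d).Opens}

/-- `Γ(U)` as a `Γ(V)`-algebra -/
@[reducible] noncomputable def algUV (hUV : U ≤ f ⁻¹ᵁ V) : Algebra Γ(S, V) Γ(X, U) :=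
  (f.appLE V U hUV).hom.toAlgebra

/-- `Γ(W)` as a `Γ(V)`-algebra -/
@[reducible] noncomputable def algVW (hW : W = fibPowOpen f d U V) :
    Algebra Γ(S, V) Γ(fibPow f d, W) :=
  (baseApp hW).hom.toAlgebra

/-- the coprojections as algebra maps -/
noncomputable def πAlg (hUV : U ≤ f ⁻¹ᵁ V) (hW : W = fibPowOpen f d U V) (i : Fin d) :
    letI := algUV hUV
    letI := algVW hW
    Γ(X, U) →ₐ[Γ(S, V)] Γ(fibPow f d, W) :=
  letI := algUV hUV
  letI := algVW hW
  { (πApp hW i).hom with
    commutes' := fun r => by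
      have := appLE_πApp (f := f) (d := d) hUV hW i
      exact congrArg (fun φ => φ.hom r) this }

theorem πAlg_apply (hUV : U ≤ f ⁻¹ᵁ V) (hW : W = fibPowOpen f d U V) (i : Fin d) (b : Γ(X, U)) :
    πAlg hUV hW i b = (πApp hW i).hom b := rfl

/-- **Sections of `U ×_V ⋯ ×_V U`**: the canonical map from the tensor power is bijective. -/
theorem tpowLift_πAlg_bijective (hU : IsAffineOpen U) (hV : IsAffineOpen V) (hUV : U ≤ f ⁻¹ᵁ V)
    (hW : W = fibPowOpen f d U V) (hWa : IsAffineOpen W) :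
    letI := algUV hUV
    letI := algVW hW
    Function.Bijective (tpowLift (πAlg hUV hW)) := by
  letI := algUV hUV
  letI := algVW hW
  refine tpowLift_bijective _ ?_ ?_
  · obtain ⟨χ, hχ₀, hχ⟩ := exists_desc hU hV hUV hW hWa
      (CommRingCat.of (⨂[Γ(S, V)] _ : Fin d, Γ(X, U)))
      (CommRingCat.ofHom (algebraMap Γ(S, V) (⨂[Γ(S, V)] _ : Fin d, Γ(X, U))))
      (fun i => CommRingCat.ofHom
        (PiTensorProduct.singleAlgHom (R := Γ(S, V)) (A := fun _ : Fin d => Γ(X, U)) i).toRingHom)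
      (by
        intro i
        ext r
        exact (PiTensorProduct.singleAlgHom (R := Γ(S, V))
          (A := fun _ : Fin d => Γ(X, U)) i).commutes r)
    refine ⟨{ χ.hom with commutes' := fun r => congrArg (fun φ => φ.hom r) hχ₀ }, fun i => ?_⟩
    ext b
    exact congrArg (fun φ => φ.hom b) (hχ i)
  · intro χ χ' h
    have := desc_ext hU hV hW hWa _ (CommRingCat.ofHom χ.toRingHom) (CommRingCat.ofHom χ'.toRingHom)
      (by
        ext r
        change χ (algebraMap _ _ r) = χ' (algebraMap _ _ r)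
        rw [χ.commutes, χ'.commutes])
      (by
        intro i
        ext b
        exact congrArg (fun φ => φ b) (h i))
    ext c
    exact congrArg (fun φ => φ.hom c) this

end Main

section Perm

variable {X S : Scheme.{u}} {f : X ⟶ S} {d : ℕ} {U : X.Opens} {V : S.Opens}
  {W : (fibPow f d).Opens}

lemma le_perm (hW : W = fibPowOpen f d U V) (σ : Equiv.Perm (Fin d)) :
    W ≤ (permHom f d σ) ⁻¹ᵁ W := by
  subst hW
  rw [permHom_preimage_fibPowOpen]

/-- the action of a permutation on `Γ(W)` -/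
noncomputable abbrev permApp (hW : W = fibPowOpen f d U V) (σ : Equiv.Perm (Fin d)) :
    Γ(fibPow f d, W) ⟶ Γ(fibPow f d, W) :=
  (permHom f d σ).appLE W W (le_perm hW σ)

lemma πApp_permApp (hW : W = fibPowOpen f d U V) (σ : Equiv.Perm (Fin d)) (i : Fin d) :
    πApp hW i ≫ permApp hW σ = πApp hW (σ.symm i) := by
  unfold πApp permApp
  rw [Scheme.Hom.appLE_comp_appLE]
  congr 1
  exact permHom_π f d σ i

lemma baseApp_permApp (hW : W = fibPowOpen f d U V) (σ : Equiv.Perm (Fin d)) :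
    baseApp hW ≫ permApp hW σ = baseApp hW := by
  unfold baseApp permApp
  rw [Scheme.Hom.appLE_comp_appLE]
  congr 1
  exact permHom_base f d σ

/-- the permutation action on `Γ(W)` is `reindex` on the tensor power -/
theorem permApp_tpowLift (hUV : U ≤ f ⁻¹ᵁ V) (hW : W = fibPowOpen f d U V)
    (σ : Equiv.Perm (Fin d)) :
    letI := algUV hUV
    letI := algVW hW
    ∀ t : ⨂[Γ(S, V)] _ : Fin d, Γ(X, U),
      (permApp hW σ).hom (tpowLift (πAlg hUV hW) t) =
        tpowLift (πAlg hUV hW)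
          (PiTensorProduct.reindex Γ(S, V) (fun _ : Fin d => Γ(X, U)) σ⁻¹ t) := by
  letI := algUV hUV
  letI := algVW hW
  intro t
  induction t using PiTensorProduct.induction_on with
  | smul_tprod r x =>
    rw [map_smul (tpowLift (πAlg hUV hW)), map_smul (PiTensorProduct.reindex _ _ _),
      map_smul (tpowLift (πAlg hUV hW)), Algebra.smul_def, Algebra.smul_def, map_mul]
    congr 1
    · exact congrArg (fun φ => φ.hom r) (baseApp_permApp hW σ)
    · rw [PiTensorProduct.reindex_tprod, tpowLift_tprod, tpowLift_tprod, map_prod]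
      rw [← Equiv.prod_comp σ]
      refine Finset.prod_congr rfl fun i _ => ?_
      rw [πAlg_apply, πAlg_apply]
      have := congrArg (fun φ => φ.hom (x (σ i))) (πApp_permApp hW σ (σ i))
      simp only [CommRingCat.hom_comp, RingHom.coe_comp, Function.comp_apply,
        Equiv.symm_apply_apply] at this
      exact this
  | add x y hx hy =>
    rw [map_add, map_add, hx, hy, map_add, map_add]

end Perm

section Inv

variable {X S : Scheme.{u}} {f : X ⟶ S} {d : ℕ} {U : X.Opens} {V : S.Opens}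
  {W : (fibPow f d).Opens}

open Groth.Agent.Lib.SymTensorFlat in
/-- the invariant sections of `Γ(W)` are the symmetric tensors -/
theorem tpowLift_mem_invariants_iff (hU : IsAffineOpen U) (hV : IsAffineOpen V)
    (hUV : U ≤ f ⁻¹ᵁ V) (hW : W = fibPowOpen f d U V) (hWa : IsAffineOpen W) :
    letI := algUV hUV
    letI := algVW hW
    ∀ t : ⨂[Γ(S, V)] _ : Fin d, Γ(X, U),
      (∀ σ : Equiv.Perm (Fin d), (permApp hW σ).hom (tpowLift (πAlg hUV hW) t) =
        tpowLift (πAlg hUV hW) t) ↔ t ∈ TS Γ(S, V) Γ(X, U) d := by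
  letI := algUV hUV
  letI := algVW hW
  intro t
  have hinj := (tpowLift_πAlg_bijective hU hV hUV hW hWa).1
  rw [mem_TS]
  constructor
  · intro h σ
    apply hinj
    have := h σ⁻¹
    rw [permApp_tpowLift hUV hW σ⁻¹ t, inv_inv] at this
    exact this
  · intro h σ
    rw [permApp_tpowLift hUV hW σ t, h σ⁻¹]

open Groth.Agent.Lib.SymTensorFlat in
/-- **Flatness of the invariants**: a module embedded in `Γ(W)` onto the invariant sections
is flat over `Γ(V)` when `Γ(U)` is. -/
theorem flat_of_range_eq_invariants (hU : IsAffineOpen U) (hV : IsAffineOpen V)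
    (hUV : U ≤ f ⁻¹ᵁ V) (hW : W = fibPowOpen f d U V) (hWa : IsAffineOpen W)
    (hfl : (f.appLE V U hUV).hom.Flat)
    {M : Type u} [AddCommGroup M] [Module Γ(S, V) M]
    (j : letI := algVW hW; M →ₗ[Γ(S, V)] Γ(fibPow f d, W)) (hj : Function.Injective j)
    (hr : ∀ c, c ∈ Set.range j ↔ ∀ σ : Equiv.Perm (Fin d), (permApp hW σ).hom c = c) :
    Module.Flat Γ(S, V) M := by
  letI := algUV hUV
  letI := algVW hW
  haveI : Module.Flat Γ(S, V) Γ(X, U) := hfl
  have hbij := tpowLift_πAlg_bijective hU hV hUV hW hWa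
  let Φ := tpowLift (πAlg hUV hW)
  let k : TS Γ(S, V) Γ(X, U) d →ₗ[Γ(S, V)] Γ(fibPow f d, W) :=
    Φ.toLinearMap ∘ₗ (TS Γ(S, V) Γ(X, U) d).subtype
  have hk : Function.Injective k := hbij.1.comp (Submodule.injective_subtype _)
  have hrange : LinearMap.range j = LinearMap.range k := by
    ext c
    rw [LinearMap.mem_range, LinearMap.mem_range]
    change c ∈ Set.range j ↔ _
    rw [hr c]
    obtain ⟨t, rfl⟩ := hbij.2 c
    rw [tpowLift_mem_invariants_iff hU hV hUV hW hWa t]
    constructor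
    · intro ht
      exact ⟨⟨t, ht⟩, rfl⟩
    · rintro ⟨⟨t', ht'⟩, h⟩
      have : t' = t := hbij.1 h
      rw [← this]
      exact ht'
  let e : M ≃ₗ[Γ(S, V)] TS Γ(S, V) Γ(X, U) d :=
    (LinearEquiv.ofInjective j hj) ≪≫ₗ (LinearEquiv.ofEq _ _ hrange) ≪≫ₗ
      (LinearEquiv.ofInjective k hk).symm
  haveI : Module.Flat Γ(S, V) (TS Γ(S, V) Γ(X, U) d) := TS_flat _ _ d
  exact Module.Flat.of_linearEquiv e

end Inv

end Groth.Agent.Lib.H8FibPowGamma
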