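import Mathlib

/-!
# Fields of constants in finite type domains (helper8)

`B` a domain of finite type over a field `k`, `t : k' →+* B` a ring homomorphism from another field.
Then `t k'` is algebraic over `k` (`isAlgebraic_of_ringHom_field`).  The proof: if `b = t a` were
transcendental then `Spec B → 𝔸¹_k` (via `b`) is flat of finite presentation, hence open, so hits
all but finitely many closed points; but `h(b)` is a unit of `B` for every `h ∈ ℤ[X]` with `h(b) ≠ 0`.
-/

set_option autoImplicit false

open Polynomial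

namespace Groth.Agent.Lib.H8FieldConst

theorem exists_poly_lift {k B : Type*} [Field k] [CommRing B] [IsDomain B] [Algebra k B]
    [Algebra.FiniteType k B] (b : B) (hb : Transcendental k b) :
    ∃ g : k[X], g ≠ 0 ∧ ∀ p : Ideal k[X], p.IsPrime → g ∉ p →
      ∃ Q : Ideal B, Q.IsPrime ∧ Q.comap (aeval b : k[X] →ₐ[k] B).toRingHom = p := by
  classical
  let φ : k[X] →+* B := (aeval b : k[X] →ₐ[k] B).toRingHom
  have hinj : Function.Injective φ := transcendental_iff_injective.mp hb
  letI : Algebra k[X] B := φ.toAlgebra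
  haveI : IsScalarTower k k[X] B := IsScalarTower.of_algebraMap_eq (fun x => by
    rw [RingHom.algebraMap_toAlgebra]
    simp [φ])
  haveI : Algebra.FiniteType k[X] B := Algebra.FiniteType.of_restrictScalars_finiteType k k[X] B
  haveI : Algebra.FinitePresentation k[X] B :=
    Algebra.FinitePresentation.of_finiteType.mp inferInstance
  haveI : Module.Flat k[X] B := by
    rw [Module.Flat.flat_iff_torsion_eq_bot_of_isBezout, eq_bot_iff]
    intro x hx
    rw [Submodule.mem_torsion_iff] at hx
    obtain ⟨a, ha⟩ := hx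
    rw [Submodule.mem_bot]
    have h1 : φ (a : k[X]) * x = 0 := by
      have : (a : k[X]) • x = 0 := ha
      rwa [Algebra.smul_def, RingHom.algebraMap_toAlgebra] at this
    rcases mul_eq_zero.mp h1 with h2 | h2
    · exact absurd ((map_eq_zero_iff φ hinj).mp h2) (nonZeroDivisors.coe_ne_zero a)
    · exact h2
  have hopen := PrimeSpectrum.isOpenMap_comap_of_hasGoingDown_of_finitePresentation
    (R := k[X]) (S := B)
  have hr : IsOpen (Set.range (PrimeSpectrum.comap (algebraMap k[X] B))) := hopen.isOpen_range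
  obtain ⟨I, hI⟩ := (PrimeSpectrum.isClosed_iff_zeroLocus_ideal _).mp hr.isClosed_compl
  have hbot : (⟨⊥, Ideal.isPrime_bot⟩ : PrimeSpectrum k[X]) ∈
      Set.range (PrimeSpectrum.comap (algebraMap k[X] B)) := by
    refine ⟨⟨⊥, Ideal.isPrime_bot⟩, ?_⟩
    ext1
    exact Ideal.comap_bot_of_injective _ hinj
  have hI' : ∃ g ∈ I, g ≠ 0 := by
    by_contra hcon
    push_neg at hcon
    have : (⟨⊥, Ideal.isPrime_bot⟩ : PrimeSpectrum k[X]) ∈ PrimeSpectrum.zeroLocus (I : Set k[X]) := by
      intro x hx
      rw [hcon x hx]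
      exact Ideal.zero_mem _
    rw [← hI] at this
    exact this hbot
  obtain ⟨g, hgI, hg0⟩ := hI'
  refine ⟨g, hg0, fun p hp hgp => ?_⟩
  have hmem : (⟨p, hp⟩ : PrimeSpectrum k[X]) ∈
      Set.range (PrimeSpectrum.comap (algebraMap k[X] B)) := by
    by_contra hcon
    have : (⟨p, hp⟩ : PrimeSpectrum k[X]) ∈ PrimeSpectrum.zeroLocus (I : Set k[X]) := by
      rw [← hI]; exact hcon
    exact hgp (this hgI)
  obtain ⟨Q, hQ⟩ := hmem
  exact ⟨Q.asIdeal, Q.2, congrArg PrimeSpectrum.asIdeal hQ⟩

/-- **Fields of constants.**  A ring homomorphism from a field into a domain of finite type over a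
field `k` has image algebraic over `k`. -/
theorem isAlgebraic_of_ringHom_field {k B k' : Type*} [Field k] [CommRing B] [IsDomain B]
    [Algebra k B] [Algebra.FiniteType k B] [Field k'] (t : k' →+* B) (a : k') :
    IsAlgebraic k (t a) := by
  by_contra hb
  have hb' : Transcendental k (t a) := hb
  obtain ⟨g, hg0, hg⟩ := exists_poly_lift (t a) hb'
  have key : ∀ h : ℤ[X], (h.map (Int.castRingHom k)) ≠ 0 → ∀ p : Ideal k[X], p.IsPrime →
      h.map (Int.castRingHom k) ∈ p → g ∈ p := by
    intro h hh p hp hhp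
    by_contra hgp
    obtain ⟨Q, hQ, hQp⟩ := hg p hp hgp
    have h1 : aeval (t a) (h.map (Int.castRingHom k)) ∈ Q := by
      have : h.map (Int.castRingHom k) ∈ Q.comap (aeval (t a) : k[X] →ₐ[k] B).toRingHom := by
        rw [hQp]; exact hhp
      exact this
    have h2 : aeval (t a) (h.map (Int.castRingHom k)) = t (aeval a h) := by
      rw [show Int.castRingHom k = algebraMap ℤ k from rfl, aeval_map_algebraMap]
      exact aeval_algHom_apply t.toIntAlgHom a h
    have h3 : aeval (t a) (h.map (Int.castRingHom k)) ≠ 0 := fun h0 =>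
      hh ((transcendental_iff.mp hb') _ h0)
    have h4 : aeval a h ≠ 0 := fun h0 => h3 (by rw [h2, h0, map_zero])
    have h5 : IsUnit (t (aeval a h)) := (IsUnit.mk0 _ h4).map t
    rw [← h2] at h5
    exact hQ.ne_top (Ideal.eq_top_of_isUnit_mem _ h1 h5)
  obtain ⟨p, hp⟩ := CharP.exists k
  rcases CharP.char_is_prime_or_zero k p with hpp | hp0
  · -- characteristic `p`
    set m := g.natDegree + 1 with hm
    have hm0 : m ≠ 0 := by omega
    let h : ℤ[X] := X ^ (p ^ m) - X
    have hmap : h.map (Int.castRingHom k) = X ^ (p ^ m) - X := by simp [h]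
    have hlt : 1 < p ^ m := Nat.one_lt_pow hm0 hpp.one_lt
    have hdeg : (X ^ (p ^ m) - X : k[X]).natDegree = p ^ m :=
      FiniteField.X_pow_card_sub_X_natDegree_eq k hlt
    have hne : (X ^ (p ^ m) - X : k[X]) ≠ 0 := FiniteField.X_pow_card_sub_X_ne_zero k hlt
    have hsep : (X ^ (p ^ m) - X : k[X]).Separable :=
      galois_poly_separable p (p ^ m) (dvd_pow_self p hm0)
    have hsq : Squarefree (X ^ (p ^ m) - X : k[X]) := hsep.squarefree
    have hrad : g ∈ (Ideal.span {(X ^ (p ^ m) - X : k[X])}).radical := by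
      rw [Ideal.radical_eq_sInf, Ideal.mem_sInf]
      rintro q ⟨hq1, hq2⟩
      exact key h (by rw [hmap]; exact hne) q hq2 (by rw [hmap]; exact hq1 (Ideal.subset_span rfl))
    obtain ⟨N, hN⟩ := hrad
    rw [Ideal.mem_span_singleton] at hN
    have hN0 : N ≠ 0 := by
      rintro rfl
      rw [pow_zero] at hN
      have := Polynomial.natDegree_eq_zero_of_isUnit (isUnit_of_dvd_one hN)
      rw [hdeg] at this
      omega
    have hdvd : (X ^ (p ^ m) - X : k[X]) ∣ g :=
      (hsq.dvd_pow_iff_dvd hN0).mp hN
    have h6 := Polynomial.natDegree_le_of_dvd hdvd hg0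
    rw [hdeg] at h6
    have h7 : m < p ^ m := Nat.lt_pow_self hpp.one_lt
    omega
  · -- characteristic zero
    subst hp0
    haveI : CharZero k := CharP.charP_to_charZero k
    have hroot : ∀ n : ℕ, g.IsRoot (n : k) := by
      intro n
      let h : ℤ[X] := X - C (n : ℤ)
      have hmap : h.map (Int.castRingHom k) = X - C (n : k) := by simp [h]
      have hprime : (Ideal.span {(X - C (n : k) : k[X])}).IsPrime :=
        (Ideal.span_singleton_prime (X_sub_C_ne_zero _)).mpr (prime_X_sub_C _)
      have := key h (by rw [hmap]; exact X_sub_C_ne_zero _) _ hprime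
        (by rw [hmap]; exact Ideal.subset_span rfl)
      rw [Ideal.mem_span_singleton, dvd_iff_isRoot] at this
      exact this
    exact hg0 (Polynomial.eq_zero_of_infinite_isRoot g
      (Set.infinite_of_injective_forall_mem Nat.cast_injective hroot))

end Groth.Agent.Lib.H8FieldConst
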