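import Mathlib
import Groth.Agent.Lib.H8FieldConst

/-!
# Fields of constants, scheme form (helper8)
-/

set_option autoImplicit false
universe u

open CategoryTheory AlgebraicGeometry

namespace Groth.Agent.Lib.H8FieldConst

theorem isAlgebraic_ring {k B₀ K : Type*} [Field k] [CommRing B₀] [Field K] (α β : k →+* B₀)
    (hα : α.FiniteType) (r : B₀ →+* K) (c : k) :
    letI := (r.comp α).toAlgebra
    IsAlgebraic k (r (β c)) := by
  letI := (r.comp α).toAlgebra
  let p := RingHom.ker r
  haveI : p.IsPrime := RingHom.ker_isPrime r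
  letI : Algebra k (B₀ ⧸ p) := ((Ideal.Quotient.mk p).comp α).toAlgebra
  haveI : Algebra.FiniteType k (B₀ ⧸ p) := by
    have : ((Ideal.Quotient.mk p).comp α).FiniteType :=
      (RingHom.FiniteType.of_surjective _ Ideal.Quotient.mk_surjective).comp hα
    exact this
  let t : k →+* B₀ ⧸ p := (Ideal.Quotient.mk p).comp β
  have h := isAlgebraic_of_ringHom_field (k := k) (B := B₀ ⧸ p) t c
  let rbar : (B₀ ⧸ p) →ₐ[k] K :=
    { RingHom.kerLift r with
      commutes' := fun x => by
        simp only [RingHom.algebraMap_toAlgebra]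
        rfl }
  exact IsAlgebraic.algHom rbar h

/-- scheme form: `R` with two morphisms `a`, `b` to `Spec k`, `a` locally of finite type; for any
field valued point `ρ : Spec K ⟶ R`, the image of `k` in `K` through `b` is algebraic over the image
through `a`. -/
theorem isAlgebraic_scheme {R : Scheme.{u}} {k K : Type u} [Field k] [Field K]
    (a b : R ⟶ Spec (CommRingCat.of k)) [LocallyOfFiniteType a]
    (ρ : Spec (CommRingCat.of K) ⟶ R) (φa φb : k →+* K)
    (ha : Spec.map (CommRingCat.ofHom φa) = ρ ≫ a) (hb : Spec.map (CommRingCat.ofHom φb) = ρ ≫ b)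
    (c : k) :
    letI := φa.toAlgebra
    IsAlgebraic k (φb c) := by
  let pt : Spec (CommRingCat.of K) := IsLocalRing.closedPoint K
  obtain ⟨_, ⟨W, hW, rfl⟩, hξW, -⟩ := R.isBasis_affineOpens.exists_subset_of_mem_open
    (Set.mem_univ (ρ pt)) isOpen_univ
  have hsub : Subsingleton ↥(Spec (CommRingCat.of K)) :=
    inferInstanceAs (Subsingleton (PrimeSpectrum K))
  have hrange : Set.range ρ ⊆ Set.range hW.fromSpec := by
    rintro _ ⟨y, rfl⟩
    have : y = pt := Subsingleton.elim _ _
    rw [this, hW.range_fromSpec]; exact hξW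
  let ρ' := IsOpenImmersion.lift hW.fromSpec ρ hrange
  have hρ : ρ' ≫ hW.fromSpec = ρ := IsOpenImmersion.lift_fac _ _ _
  obtain ⟨α, hα⟩ : ∃ α, Spec.map α = hW.fromSpec ≫ a := ⟨Spec.preimage _, Spec.map_preimage _⟩
  obtain ⟨β, hβ⟩ : ∃ β, Spec.map β = hW.fromSpec ≫ b := ⟨Spec.preimage _, Spec.map_preimage _⟩
  obtain ⟨r, hr⟩ : ∃ r, Spec.map r = ρ' := ⟨Spec.preimage _, Spec.map_preimage _⟩
  have hft : α.hom.FiniteType := by
    have : LocallyOfFiniteType (Spec.map α) := by rw [hα]; infer_instance
    exact (HasRingHomProperty.Spec_iff (P := @LocallyOfFiniteType)).mp this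
  have e1 : CommRingCat.ofHom φa = α ≫ r := by
    apply Spec.map_injective
    rw [ha, Spec.map_comp, hr, hα, ← Category.assoc, hρ]
  have e2 : CommRingCat.ofHom φb = β ≫ r := by
    apply Spec.map_injective
    rw [hb, Spec.map_comp, hr, hβ, ← Category.assoc, hρ]
  have e1' : φa = r.hom.comp α.hom := congrArg CommRingCat.Hom.hom e1
  have e2' : φb = r.hom.comp β.hom := congrArg CommRingCat.Hom.hom e2
  subst e1' e2'
  exact isAlgebraic_ring α.hom β.hom hft r.hom c

end Groth.Agent.Lib.H8FieldConst
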