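import Groth.Agent.Lib.H8FinGrpQuot
import Groth.Agent.S2925
import Mathlib.FieldTheory.IsAlgClosed.AlgebraicClosure

/-!
# Free actions of finite groups and comparison of quotients (helper8)

* `mono_j_of_free`: if `G` acts freely on geometric points then `j` of the action groupoid is a
  monomorphism.
* `orbAff_of_isQuot`: if a quotient in the sense of `SGA1.IsQuot` exists then orbits lie in affine
  opens.
* `exists_iso_of_isQuot`: a quotient in the sense of `SGA1.IsQuot` is isomorphic to the quotient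
  of the action groupoid.
* `isIso_sigmaDesc_of_free`, `flat_of_free`: consequences for free actions.
-/

set_option autoImplicit false
universe u
open CategoryTheory CategoryTheory.Limits AlgebraicGeometry Grpd

namespace Groth.Agent.Lib.H8FinGrpFree

open Groth.Agent.Lib.H8ActGrpd Groth.Agent.Lib.H8GrpdQuot Groth.Agent.Lib.H8FinGrpQuot

variable {X : Scheme.{u}} {G : Type u} [Group G] (ρ : G →* Aut X)

/-- freeness on geometric points -/
def FreeGeom : Prop :=
  ∀ (K : Type u) [Field K] [IsAlgClosed K] (ξ : Spec (CommRingCat.of K) ⟶ X) (g : G),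
    ξ ≫ (ρ g).hom = ξ → g = 1

variable {ρ}

/-- a geometric point over a given point -/
noncomputable def geomPt {T : Scheme.{u}} (x : T) :
    Spec (CommRingCat.of (AlgebraicClosure (T.residueField x))) ⟶ T :=
  Spec.map (CommRingCat.ofHom (algebraMap (T.residueField x) (AlgebraicClosure (T.residueField x))))
    ≫ T.fromSpecResidueField x

lemma geomPt_apply {T : Scheme.{u}} (x : T)
    (y : Spec (CommRingCat.of (AlgebraicClosure (T.residueField x)))) : geomPt x y = x := by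
  unfold geomPt
  rw [Scheme.Hom.comp_apply, Scheme.fromSpecResidueField_apply]

theorem idx_eq_of_free (hfree : FreeGeom ρ) {T : Scheme.{u}} (α β : T ⟶ RR X G)
    (hs : α ≫ sR X G = β ≫ sR X G) (ht : α ≫ tR ρ = β ≫ tR ρ) (x : T) :
    idxR (α x) = idxR (β x) := by
  have h1 := comp_eq_of_idx_const α (geomPt x) (idxR (α x)) (fun y => by rw [geomPt_apply])
  have h2 := comp_eq_of_idx_const β (geomPt x) (idxR (β x)) (fun y => by rw [geomPt_apply])
  have e1 : geomPt x ≫ α ≫ tR ρ = (geomPt x ≫ α ≫ sR X G) ≫ (ρ (idxR (α x))).hom := by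
    rw [reassoc_of% h1, inj_tR]
    simp only [Category.assoc]
  have e2 : geomPt x ≫ β ≫ tR ρ = (geomPt x ≫ α ≫ sR X G) ≫ (ρ (idxR (β x))).hom := by
    rw [reassoc_of% h2, inj_tR, hs]
    simp only [Category.assoc]
  rw [ht, e2] at e1
  have e3 : (geomPt x ≫ α ≫ sR X G) ≫ (ρ ((idxR (α x))⁻¹ * idxR (β x))).hom =
      geomPt x ≫ α ≫ sR X G := by
    rw [rho_mul_hom, ← Category.assoc, e1, Category.assoc, rho_inv_comp, Category.comp_id]
  have := hfree _ _ _ e3
  exact (inv_mul_eq_one.mp this)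

/-- For a free action, `(s, t)` are jointly monic on `∐_G X`. -/
theorem hom_ext_free (hfree : FreeGeom ρ) {T : Scheme.{u}} (α β : T ⟶ RR X G)
    (hs : α ≫ sR X G = β ≫ sR X G) (ht : α ≫ tR ρ = β ≫ tR ρ) : α = β :=
  hom_ext_R α β hs (idx_eq_of_free hfree α β hs ht)

theorem mono_j_of_free (hfree : FreeGeom ρ) : Mono (actGrpd ρ).j := by
  constructor
  intro T α β h
  have hjs : (actGrpd ρ).j ≫ pullback.snd (terminal.from X) (terminal.from X) = sR X G :=
    pullback.lift_snd _ _ _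
  have hjt : (actGrpd ρ).j ≫ pullback.fst (terminal.from X) (terminal.from X) = tR ρ :=
    pullback.lift_fst _ _ _
  have hs : α ≫ sR X G = β ≫ sR X G := by
    rw [← hjs, ← Category.assoc, h, Category.assoc]
  have ht : α ≫ tR ρ = β ≫ tR ρ := by
    rw [← hjt, ← Category.assoc, h, Category.assoc]
  exact hom_ext_R α β hs (idx_eq_of_free hfree α β hs ht)

variable [Finite G] {Z : Scheme.{u}} {p : X ⟶ Z}

theorem orbAff_of_isQuot (hp : SGA1.IsQuot ρ p) : OrbAff (actGrpd ρ) := by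
  refine orbAff ρ (fun x => ?_)
  obtain ⟨V, hV, hxV, -⟩ := exists_isAffineOpen_mem_and_subset (x := p x) (U := ⊤) trivial
  have := hp.affine
  refine ⟨p ⁻¹ᵁ V, hV.preimage p, fun g => ?_⟩
  change p ((ρ g).hom x) ∈ V
  rw [← Scheme.Hom.comp_apply, hp.inv g]
  exact hxV

/-- Any quotient in the sense of `SGA1.IsQuot` is the quotient of the action groupoid. -/
theorem exists_iso_of_isQuot [OrbAff (actGrpd ρ)] (hp : SGA1.IsQuot ρ p) :
    ∃ e : Y (actGrpd ρ) ≅ Z, q (actGrpd ρ) ≫ e.hom = p := by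
  have hq := isQuot_q ρ
  obtain ⟨φ, hφ, -⟩ := Groth.Agent.S2925.result ρ (q (actGrpd ρ)) hq Z p hp.inv
  obtain ⟨ψ, hψ, -⟩ := Groth.Agent.S2925.result ρ p hp (Y (actGrpd ρ)) (q (actGrpd ρ)) (q_inv ρ)
  obtain ⟨_, -, hu1⟩ := Groth.Agent.S2925.result ρ (q (actGrpd ρ)) hq _ (q (actGrpd ρ)) (q_inv ρ)
  obtain ⟨_, -, hu2⟩ := Groth.Agent.S2925.result ρ p hp Z p hp.inv
  have h1 : φ ≫ ψ = 𝟙 _ := by
    have a := hu1 (φ ≫ ψ) (by change q (actGrpd ρ) ≫ φ ≫ ψ = _; rw [reassoc_of% hφ, hψ])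
    have b := hu1 (𝟙 _) (Category.comp_id _)
    exact a.trans b.symm
  have h2 : ψ ≫ φ = 𝟙 _ := by
    have a := hu2 (ψ ≫ φ) (by change p ≫ ψ ≫ φ = _; rw [reassoc_of% hψ, hφ])
    have b := hu2 (𝟙 _) (Category.comp_id _)
    exact a.trans b.symm
  exact ⟨⟨φ, ψ, h1, h2⟩, hφ⟩

section free

variable [OrbAff (actGrpd ρ)]

theorem flat_of_free (hfree : FreeGeom ρ) (hp : SGA1.IsQuot ρ p) : Flat p := by
  obtain ⟨e, he⟩ := exists_iso_of_isQuot hp
  haveI := mono_j_of_free hfree
  haveI := flat_q (actGrpd ρ)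
  rw [← he]
  infer_instance

theorem surjective_of_isQuot (hp : SGA1.IsQuot ρ p) : Surjective p := by
  obtain ⟨e, he⟩ := exists_iso_of_isQuot hp
  haveI : Surjective (q (actGrpd ρ)) := ⟨q_surjective (actGrpd ρ)⟩
  rw [← he]
  infer_instance

theorem isFinite_of_free (hfree : FreeGeom ρ) (hp : SGA1.IsQuot ρ p) : IsFinite p := by
  obtain ⟨e, he⟩ := exists_iso_of_isQuot hp
  haveI := mono_j_of_free hfree
  haveI := isFinite_q (actGrpd ρ)
  rw [← he]
  infer_instance

theorem lfp_of_free (hfree : FreeGeom ρ) (hp : SGA1.IsQuot ρ p) :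
    LocallyOfFinitePresentation p := by
  obtain ⟨e, he⟩ := exists_iso_of_isQuot hp
  haveI := mono_j_of_free hfree
  haveI := lfp_q (actGrpd ρ)
  rw [← he]
  infer_instance

theorem isIso_sigmaDesc_of_free (hfree : FreeGeom ρ) (hp : SGA1.IsQuot ρ p) :
    IsIso (Sigma.desc (fun g : G => pullback.lift (𝟙 X) (ρ g).hom
      ((Category.id_comp p).trans (hp.inv g).symm)) : (∐ fun _ : G => X) ⟶ pullback p p) := by
  obtain ⟨e, he⟩ := exists_iso_of_isQuot hp
  haveI := mono_j_of_free hfree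
  have w : (actGrpd ρ).t ≫ q (actGrpd ρ) = (actGrpd ρ).s ≫ q (actGrpd ρ) := q_comm _
  haveI := isIso_lift (actGrpd ρ) w
  have he' : q (actGrpd ρ) = p ≫ e.inv := by rw [← he, Category.assoc, e.hom_inv_id, Category.comp_id]
  obtain ⟨κ, hκ1, hκ2⟩ : ∃ κ : pullback (q (actGrpd ρ)) (q (actGrpd ρ)) ⟶ pullback p p,
      κ ≫ pullback.fst p p = pullback.snd _ _ ∧ κ ≫ pullback.snd p p = pullback.fst _ _ :=
    ⟨pullback.lift (pullback.snd _ _) (pullback.fst _ _) (by
      rw [← he, ← Category.assoc, ← Category.assoc, pullback.condition]),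
      pullback.lift_fst _ _ _, pullback.lift_snd _ _ _⟩
  obtain ⟨κ', hκ'1, hκ'2⟩ : ∃ κ' : pullback p p ⟶ pullback (q (actGrpd ρ)) (q (actGrpd ρ)),
      κ' ≫ pullback.fst _ _ = pullback.snd p p ∧ κ' ≫ pullback.snd _ _ = pullback.fst p p :=
    ⟨pullback.lift (pullback.snd _ _) (pullback.fst _ _) (by
      rw [he', ← Category.assoc, ← Category.assoc, pullback.condition]),
      pullback.lift_fst _ _ _, pullback.lift_snd _ _ _⟩
  have h1 : κ ≫ κ' = 𝟙 _ := by
    apply pullback.hom_ext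
    · rw [Category.assoc, hκ'1, hκ2, Category.id_comp]
    · rw [Category.assoc, hκ'2, hκ1, Category.id_comp]
  have h2 : κ' ≫ κ = 𝟙 _ := by
    apply pullback.hom_ext
    · rw [Category.assoc, hκ1, hκ'2, Category.id_comp]
    · rw [Category.assoc, hκ2, hκ'1, Category.id_comp]
  haveI : IsIso κ := ⟨κ', h1, h2⟩
  have key : (Sigma.desc (fun g : G => pullback.lift (𝟙 X) (ρ g).hom
      ((Category.id_comp p).trans (hp.inv g).symm)) : (∐ fun _ : G => X) ⟶ pullback p p) =
      pullback.lift (actGrpd ρ).t (actGrpd ρ).s w ≫ κ := by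
    refine Sigma.hom_ext _ _ (fun g => ?_)
    rw [Sigma.ι_desc]
    apply pullback.hom_ext
    · rw [pullback.lift_fst, Category.assoc, Category.assoc, hκ1, pullback.lift_snd]
      exact (inj_sR g).symm
    · rw [pullback.lift_snd, Category.assoc, Category.assoc, hκ2, pullback.lift_fst]
      exact (inj_tR ρ g).symm
  rw [key]
  infer_instance

/-- If the quotient map of a free action has a section, the covering is trivial. -/
theorem isIso_sigmaDesc_section (hfree : FreeGeom ρ) (hp : SGA1.IsQuot ρ p) (s : Z ⟶ X)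
    (hs : s ≫ p = 𝟙 Z) :
    IsIso (Sigma.desc (fun g : G => s ≫ (ρ g).hom) : (∐ fun _ : G => Z) ⟶ X) := by
  haveI := isIso_sigmaDesc_of_free hfree hp
  set Φ : RR X G ⟶ pullback p p := Sigma.desc (fun g : G => pullback.lift (𝟙 X) (ρ g).hom
      ((Category.id_comp p).trans (hp.inv g).symm)) with hΦ
  have hΦ1 : Φ ≫ pullback.fst p p = sR X G := by
    refine Sigma.hom_ext _ _ (fun g => ?_)
    rw [hΦ, Sigma.ι_desc_assoc, pullback.lift_fst, inj_sR]
  have hΦ2 : Φ ≫ pullback.snd p p = tR ρ := by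
    refine Sigma.hom_ext _ _ (fun g => ?_)
    rw [hΦ, Sigma.ι_desc_assoc, pullback.lift_snd, inj_tR]
  obtain ⟨β, hβ⟩ : ∃ β : X ⟶ RR X G, β ≫ Φ = pullback.lift (p ≫ s) (𝟙 X)
      (by rw [Category.assoc, hs, Category.comp_id, Category.id_comp]) :=
    ⟨_ ≫ inv Φ, by rw [Category.assoc, IsIso.inv_hom_id, Category.comp_id]⟩
  have hβs : β ≫ sR X G = p ≫ s := by
    rw [← hΦ1, ← Category.assoc, hβ, pullback.lift_fst]
  have hβt : β ≫ tR ρ = 𝟙 X := by
    rw [← hΦ2, ← Category.assoc, hβ, pullback.lift_snd]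
  set Ψ : RR Z G ⟶ X := Sigma.desc (fun g : G => s ≫ (ρ g).hom) with hΨ
  have hΨg : ∀ g, inj Z g ≫ Ψ = s ≫ (ρ g).hom := fun g => by rw [hΨ, Sigma.ι_desc]
  refine ⟨β ≫ mapR p G, ?_, ?_⟩
  · -- Ψ ≫ Θ = 𝟙
    refine Sigma.hom_ext _ _ (fun g => ?_)
    have hγ : (s ≫ (ρ g).hom) ≫ β = s ≫ inj X g := by
      refine hom_ext_free hfree _ _ ?_ ?_
      · rw [Category.assoc, Category.assoc, hβs, Category.assoc, inj_sR, Category.comp_id,
          reassoc_of% (hp.inv g), reassoc_of% hs]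
      · rw [Category.assoc, Category.assoc, hβt, Category.comp_id, Category.assoc, inj_tR]
    change inj Z g ≫ Ψ ≫ β ≫ mapR p G = inj Z g ≫ 𝟙 _
    rw [reassoc_of% (hΨg g), reassoc_of% hγ, inj_mapR, reassoc_of% hs, Category.comp_id]
  · -- Θ ≫ Ψ = 𝟙
    refine hom_ext_one β _ _ (fun g T' x hx => ?_)
    have h1 := comp_eq_of_idx_const β x g hx
    have h2 : x = x ≫ p ≫ s ≫ (ρ g).hom := by
      have := congrArg (fun φ => φ ≫ tR ρ) h1
      simp only [Category.assoc, hβt, Category.comp_id, inj_tR] at this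
      rw [reassoc_of% hβs] at this
      simpa using this
    rw [Category.comp_id, Category.assoc, reassoc_of% h1, reassoc_of% hβs, inj_mapR_assoc, hΨg,
      reassoc_of% hs]
    exact h2.symm

end free

end Groth.Agent.Lib.H8FinGrpFree
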