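import Groth.Agent.Lib.H8GrpdQuotLocal
import Mathlib.AlgebraicGeometry.Gluing
import Mathlib.AlgebraicGeometry.Cover.Directed

/-!
# The quotient of a scheme by a finite locally free groupoid: gluing (helper8)

SGA 3 V Théorème 4.1.  We glue the local quotients `Spec C_W` (`W` an invariant affine open of `U`)
along the open immersions `Spec C_{W₀} ⟶ Spec C_W` using Mathlib's locally directed gluing.
-/

set_option autoImplicit false
set_option linter.unusedSectionVars false
universe u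
open CategoryTheory CategoryTheory.Limits AlgebraicGeometry
open Grpd

namespace Groth.Agent.Lib.H8GrpdQuot

open Groth.Agent.Lib.H8GrpdRestrict

variable {S : Scheme.{u}}

/-- Every orbit `t(s⁻¹ x)` lies in an affine open. -/
class OrbAff (G : GroupoidScheme S) : Prop where
  horb : ∀ x : G.U, ∃ V : G.U.Opens, IsAffineOpen V ∧ G.t '' (G.s ⁻¹' {x}) ⊆ (V : Set G.U)

variable (G : GroupoidScheme S) [IsFinite G.s] [Flat G.s] [LocallyOfFinitePresentation G.s]

/-- The diagram of local quotients. -/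
noncomputable def quotDiagram : InvAff G ⥤ Scheme.{u} where
  obj W := Spec (CommRingCat.of (GW G W).invariants)
  map f := Spec.map (CommRingCat.ofHom (ρ (leOfHom f)))
  map_id W := by
    have : ρ (leOfHom (𝟙 W)) = RingHom.id _ := ρ_refl W
    rw [this]
    exact Spec.map_id _
  map_comp f g := by
    have : ρ (leOfHom (f ≫ g)) = (ρ (leOfHom f)).comp (ρ (leOfHom g)) := ρ_trans _ _
    rw [this, CommRingCat.ofHom_comp, Spec.map_comp]

instance {i j : InvAff G} (f : i ⟶ j) : IsOpenImmersion ((quotDiagram G).map f) :=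
  isOpenImmersion_ρ _

lemma inv_inf (i j : InvAff G) : G.s ⁻¹ᵁ (i.op ⊓ j.op) = G.t ⁻¹ᵁ (i.op ⊓ j.op) := by
  ext r
  constructor
  · rintro ⟨h1, h2⟩
    exact ⟨t_mem_of_s_mem i.inv r h1, t_mem_of_s_mem j.inv r h2⟩
  · rintro ⟨h1, h2⟩
    exact ⟨s_mem_of_t_mem i.inv r h1, s_mem_of_t_mem j.inv r h2⟩

variable [OrbAff G]

lemma exists_invAff' (Ω : G.U.Opens) (hΩ : G.s ⁻¹ᵁ Ω = G.t ⁻¹ᵁ Ω) (u : G.U) (hu : u ∈ Ω) :
    ∃ W : InvAff G, u ∈ W.op ∧ W.op ≤ Ω :=
  exists_invAff G OrbAff.horb Ω hΩ u hu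

instance isLocallyDirected_quotDiagram :
    ((quotDiagram G) ⋙ Scheme.forget).IsLocallyDirected := by
  constructor
  intro i j k fi fj yi yj hy
  obtain ⟨ui, rfl⟩ := πW_surjective i yi
  obtain ⟨uj, rfl⟩ := πW_surjective j yj
  change Spec.map (CommRingCat.ofHom (ρ (leOfHom fi))) (πW i ui) =
    Spec.map (CommRingCat.ofHom (ρ (leOfHom fj))) (πW j uj) at hy
  rw [πW_ρ, πW_ρ, πW_eq_iff, iU_fU, iU_fU] at hy
  obtain ⟨r, hr1, hr2⟩ := hy
  have hmem : iU i ui ∈ i.op ⊓ j.op :=
    ⟨iU_mem i ui, by rw [← hr1]; exact t_mem_of_s_mem j.inv r (by rw [hr2]; exact iU_mem j uj)⟩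
  obtain ⟨l, hul, hlΩ⟩ := exists_invAff' G (i.op ⊓ j.op) (inv_inf G i j) (iU i ui) hmem
  have hli : l ≤ i := fun x hx => (hlΩ hx).1
  have hlj : l ≤ j := fun x hx => (hlΩ hx).2
  obtain ⟨ul, hul'⟩ := exists_iU_eq l _ hul
  refine ⟨l, homOfLE hli, homOfLE hlj, πW l ul, ?_, ?_⟩
  · change Spec.map (CommRingCat.ofHom (ρ hli)) (πW l ul) = πW i ui
    rw [πW_ρ]
    congr 1
    exact iU_injective i (by rw [iU_fU, hul'])
  · change Spec.map (CommRingCat.ofHom (ρ hlj)) (πW l ul) = πW j uj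
    rw [πW_ρ, πW_eq_iff]
    exact ⟨r, by rw [iU_fU, hul', hr1], hr2⟩

/-- The quotient scheme. -/
noncomputable def Y : Scheme.{u} := colimit (quotDiagram G)

/-- The open immersions of the local quotients. -/
noncomputable def ιY (W : InvAff G) : Spec (CommRingCat.of (GW G W).invariants) ⟶ Y G :=
  colimit.ι (quotDiagram G) W

instance (W : InvAff G) : IsOpenImmersion (ιY G W) :=
  inferInstanceAs (IsOpenImmersion (colimit.ι (quotDiagram G) W))

@[reassoc]
lemma ιY_w {W₀ W : InvAff G} (h : W₀ ≤ W) :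
    Spec.map (CommRingCat.ofHom (ρ h)) ≫ ιY G W = ιY G W₀ :=
  colimit.w (quotDiagram G) (homOfLE h)

lemma ιY_eq_iff {i j : InvAff G} (yi : Spec (CommRingCat.of (GW G i).invariants))
    (yj : Spec (CommRingCat.of (GW G j).invariants)) :
    ιY G i yi = ιY G j yj ↔ ∃ (k : InvAff G) (hi : k ≤ i) (hj : k ≤ j)
      (y : Spec (CommRingCat.of (GW G k).invariants)),
      Spec.map (CommRingCat.ofHom (ρ hi)) y = yi ∧ Spec.map (CommRingCat.ofHom (ρ hj)) y = yj := by
  refine (Scheme.IsLocallyDirected.ι_eq_ι_iff (F := quotDiagram G) (i := i) (j := j)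
    (xi := yi) (xj := yj)).trans ?_
  constructor
  · rintro ⟨k, fi, fj, y, h1, h2⟩
    exact ⟨k, leOfHom fi, leOfHom fj, y, h1, h2⟩
  · rintro ⟨k, hi, hj, y, h1, h2⟩
    exact ⟨k, homOfLE hi, homOfLE hj, y, h1, h2⟩

lemma ιY_jointly_surjective (y : Y G) :
    ∃ (W : InvAff G) (yW : Spec (CommRingCat.of (GW G W).invariants)), ιY G W yW = y :=
  Scheme.IsLocallyDirected.ι_jointly_surjective (quotDiagram G) y

/-- A downward closed family of invariant affine opens covering `U`. -/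
structure CovPred where
  /-- the predicate -/
  P : InvAff G → Prop
  down : ∀ {W₀ W : InvAff G}, W₀ ≤ W → P W → P W₀
  covers : ∀ u : G.U, ∃ W : InvAff G, P W ∧ u ∈ W.op

/-- The full family. -/
def CovPred.top : CovPred G where
  P _ := True
  down _ _ := trivial
  covers u := by
    obtain ⟨W, hW, -⟩ := exists_invAff' G ⊤ rfl u trivial
    exact ⟨W, trivial, hW⟩

variable {G}

/-- The cover of `U` associated to a covering family. -/
noncomputable def CovPred.UCover (Q : CovPred G) : G.U.OpenCover :=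
  Scheme.Cover.mkOfCovers {W : InvAff G // Q.P W} (fun W => (GW G W.1).U) (fun W => iU W.1)
    (fun u => by
      obtain ⟨W, hW, hu⟩ := Q.covers u
      obtain ⟨v, hv⟩ := exists_iU_eq W u hu
      exact ⟨⟨W, hW⟩, v, hv⟩)

/-- The cover of `R` associated to a covering family. -/
noncomputable def CovPred.RCover (Q : CovPred G) : G.R.OpenCover :=
  Scheme.Cover.mkOfCovers {W : InvAff G // Q.P W} (fun W => (GW G W.1).R) (fun W => iR W.1)
    (fun r => by
      obtain ⟨W, hW, hu⟩ := Q.covers (G.s r)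
      obtain ⟨v, hv⟩ := exists_iR_eq W r hu
      exact ⟨⟨W, hW⟩, v, hv⟩)

instance (Q : CovPred G) : Preorder Q.UCover.I₀ :=
  inferInstanceAs (Preorder {W : InvAff G // Q.P W})

noncomputable instance (Q : CovPred G) : Q.UCover.LocallyDirected where
  trans {i j} hij := fU (W₀ := i.1) (W := j.1) (leOfHom hij)
  trans_id i := fU_refl i.1
  trans_comp hij hjk := fU_trans _ _
  w hij := fU_ι _
  directed {i j} x := by
    let xi : (GW G i.1).U := (pullback.fst (iU i.1) (iU j.1)) x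
    let xj : (GW G j.1).U := (pullback.snd (iU i.1) (iU j.1)) x
    have hx : iU i.1 xi = iU j.1 xj := by
      change (pullback.fst (iU i.1) (iU j.1) ≫ iU i.1) x = (pullback.snd (iU i.1) (iU j.1) ≫ iU j.1) x
      rw [pullback.condition]
    have hmem : iU i.1 xi ∈ i.1.op ⊓ j.1.op := ⟨iU_mem i.1 xi, hx ▸ iU_mem j.1 xj⟩
    obtain ⟨l, hul, hlΩ⟩ := exists_invAff' G (i.1.op ⊓ j.1.op) (inv_inf G i.1 j.1) (iU i.1 xi) hmem
    have hli : l ≤ i.1 := fun x hx => (hlΩ hx).1
    have hlj : l ≤ j.1 := fun x hx => (hlΩ hx).2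
    obtain ⟨y, hy⟩ := exists_iU_eq l _ hul
    refine ⟨⟨l, Q.down hli i.2⟩, homOfLE hli, homOfLE hlj, y, ?_⟩
    apply (pullback.fst (iU i.1) (iU j.1) ≫ iU i.1).isOpenEmbedding.injective
    have hw : fU hli ≫ iU i.1 = fU hlj ≫ iU j.1 := by rw [fU_ι, fU_ι]
    have key : pullback.lift (fU hli) (fU hlj) hw ≫ pullback.fst (iU i.1) (iU j.1) ≫ iU i.1 =
        iU l := by
      rw [pullback.lift_fst_assoc, fU_ι]
    exact (congrArg (fun φ : (GW G l).U ⟶ G.U => φ y) key).trans hy
  property_trans hij := inferInstanceAs (IsOpenImmersion (fU _))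

variable (G)

lemma q_compat {i j : (CovPred.top G).UCover.I₀} (hij : i ⟶ j) :
    (CovPred.top G).UCover.trans hij ≫ πW j.1 ≫ ιY G j.1 = πW i.1 ≫ ιY G i.1 := by
  change fU (leOfHom hij) ≫ πW j.1 ≫ ιY G j.1 = πW i.1 ≫ ιY G i.1
  rw [← Category.assoc, ← toQuot_ρ, Category.assoc, ιY_w]

/-- The quotient map. -/
noncomputable def q : G.U ⟶ Y G :=
  (CovPred.top G).UCover.glueMorphismsOfLocallyDirected (fun W => πW W.1 ≫ ιY G W.1)
    (fun hij => q_compat G hij)

@[reassoc]
lemma iU_q (W : InvAff G) : iU W ≫ q G = πW W ≫ ιY G W :=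
  (CovPred.top G).UCover.map_glueMorphismsOfLocallyDirected (fun W => πW W.1 ≫ ιY G W.1)
    (fun hij => q_compat G hij) ⟨W, trivial⟩

lemma q_iU (W : InvAff G) (v : (GW G W).U) : q G (iU W v) = ιY G W (πW W v) :=
  congrArg (fun φ : (GW G W).U ⟶ Y G => φ v) (iU_q G W)

lemma exists_mem_invAff (u : G.U) : ∃ W : InvAff G, u ∈ W.op := by
  obtain ⟨W, hW, -⟩ := exists_invAff' G ⊤ rfl u trivial
  exact ⟨W, hW⟩

lemma q_mem_range_iff (W : InvAff G) (u : G.U) : q G u ∈ Set.range (ιY G W) ↔ u ∈ W.op := by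
  constructor
  · rintro ⟨y, hy⟩
    obtain ⟨W', hu'⟩ := exists_mem_invAff G u
    obtain ⟨v', rfl⟩ := exists_iU_eq W' u hu'
    obtain ⟨v, rfl⟩ := πW_surjective W y
    rw [q_iU, ιY_eq_iff] at hy
    obtain ⟨k, hk, hk', x, hx1, hx2⟩ := hy
    obtain ⟨vk, rfl⟩ := πW_surjective k x
    rw [πW_ρ, πW_eq_iff, iU_fU] at hx2
    obtain ⟨r, hr1, hr2⟩ := hx2
    have : G.s r ∈ k.op := s_mem_of_t_mem k.inv r (by rw [hr1]; exact iU_mem k vk)
    rw [hr2] at this
    exact hk this
  · intro hu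
    obtain ⟨v, rfl⟩ := exists_iU_eq W u hu
    exact ⟨πW W v, (q_iU G W v).symm⟩

lemma q_preimage_opensRange (W : InvAff G) : q G ⁻¹ᵁ (ιY G W).opensRange = (iU W).opensRange := by
  rw [opensRange_iU]
  ext u
  exact q_mem_range_iff G W u

lemma isPullback_q (W : InvAff G) : IsPullback (πW W) (iU W) (ιY G W) (q G) :=
  IsOpenImmersion.isPullback _ _ _ _ (iU_q G W) (q_preimage_opensRange G W)

lemma q_comm : G.t ≫ q G = G.s ≫ q G := by
  refine (CovPred.top G).RCover.hom_ext _ _ (fun W => ?_)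
  change iR W.1 ≫ G.t ≫ q G = iR W.1 ≫ G.s ≫ q G
  rw [← Category.assoc, ← Category.assoc, ← t_ιU, ← s_ιU, Category.assoc, Category.assoc, iU_q,
    ← Category.assoc, ← Category.assoc, Lib.AffGrpd13.toQuot_comm]

lemma q_eq_iff (u u' : G.U) : q G u = q G u' ↔ ∃ r : G.R, G.t r = u ∧ G.s r = u' := by
  constructor
  · intro h
    obtain ⟨W, hu⟩ := exists_mem_invAff G u
    have hu' : u' ∈ W.op := by
      rw [← q_mem_range_iff, ← h, q_mem_range_iff]
      exact hu
    obtain ⟨v, rfl⟩ := exists_iU_eq W u hu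
    obtain ⟨v', rfl⟩ := exists_iU_eq W u' hu'
    rw [q_iU, q_iU] at h
    exact (πW_eq_iff W v v').mp ((ιY G W).isOpenEmbedding.injective h)
  · rintro ⟨r, rfl, rfl⟩
    exact congrArg (fun φ : G.R ⟶ Y G => φ r) (q_comm G)

lemma q_surjective : Function.Surjective (q G) := by
  intro y
  obtain ⟨W, yW, rfl⟩ := ιY_jointly_surjective G y
  obtain ⟨v, rfl⟩ := πW_surjective W yW
  exact ⟨iU W v, q_iU G W v⟩

variable {G} in
/-- The cover of `Y` associated to a covering family. -/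
noncomputable def CovPred.YCover (Q : CovPred G) : (Y G).OpenCover :=
  Scheme.Cover.mkOfCovers {W : InvAff G // Q.P W}
    (fun W => Spec (CommRingCat.of (GW G W.1).invariants)) (fun W => ιY G W.1)
    (fun y => by
      obtain ⟨u, rfl⟩ := q_surjective G y
      obtain ⟨W, hW, hu⟩ := Q.covers u
      obtain ⟨v, rfl⟩ := exists_iU_eq W u hu
      exact ⟨⟨W, hW⟩, πW W v, (q_iU G W v).symm⟩)

/-- A target-local property holds if it holds on the pieces of a cover by pullback squares. -/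
lemma of_isPullback_cover {P : MorphismProperty Scheme.{u}} [IsZariskiLocalAtTarget P]
    {X Z : Scheme.{u}} (f : X ⟶ Z) (𝒰 : Z.OpenCover) (X' : 𝒰.I₀ → Scheme.{u})
    (iX : ∀ i, X' i ⟶ X) (f' : ∀ i, X' i ⟶ 𝒰.X i)
    (h : ∀ i, IsPullback (f' i) (iX i) (𝒰.f i) f) (H : ∀ i, P (f' i)) : P f := by
  refine IsZariskiLocalAtTarget.of_openCover 𝒰 (fun i => ?_)
  have e : (h i).flip.isoPullback.hom ≫ pullback.snd f (𝒰.f i) = f' i :=
    (h i).flip.isoPullback_hom_snd
  change P (pullback.snd f (𝒰.f i))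
  rw [← P.cancel_left_of_respectsIso (h i).flip.isoPullback.hom, e]
  exact H i

lemma q_of_forall_πW {P : MorphismProperty Scheme.{u}} [IsZariskiLocalAtTarget P]
    (H : ∀ W : InvAff G, P (πW W)) : P (q G) :=
  of_isPullback_cover (q G) (CovPred.top G).YCover (fun W => (GW G W.1).U) (fun W => iU W.1)
    (fun W => πW W.1) (fun W => isPullback_q G W.1) (fun W => H W.1)

instance isIntegralHom_q : IsIntegralHom (q G) :=
  q_of_forall_πW G (P := @IsIntegralHom) (fun _ => inferInstance)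

instance isAffineHom_q : IsAffineHom (q G) := inferInstance

lemma isOpenMap_q : IsOpenMap (q G) := by
  have hquot : Topology.IsQuotientMap (q G) :=
    (q G).isClosedMap.isQuotientMap (q G).continuous (q_surjective G)
  have := flat_t G
  have := lfp_t G
  intro O hO
  rw [← hquot.isOpen_preimage]
  have : (q G) ⁻¹' ((q G) '' O) = G.t '' (G.s ⁻¹' O) := by
    ext u
    constructor
    · rintro ⟨u', hu', h⟩
      obtain ⟨r, hr1, hr2⟩ := (q_eq_iff G u u').mp h.symm
      exact ⟨r, by rw [Set.mem_preimage, hr2]; exact hu', hr1⟩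
    · rintro ⟨r, hr, rfl⟩
      exact ⟨G.s r, hr, ((q_eq_iff G _ _).mpr ⟨r, rfl, rfl⟩).symm⟩
  rw [this]
  exact G.t.isOpenMap _ (hO.preimage G.s.continuous)

section desc

omit [IsFinite G.s] [Flat G.s] [LocallyOfFinitePresentation G.s] [OrbAff G] in
lemma toQuot_appTop_injective : Function.Injective G.toQuot.appTop.hom := by
  have h : G.toQuot.appTop = (Scheme.ΓSpecIso (CommRingCat.of G.invariants)).hom ≫
      CommRingCat.ofHom G.invariants.subtype := by
    unfold GroupoidScheme.toQuot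
    rw [Scheme.Hom.comp_appTop, Scheme.toSpecΓ_appTop, Scheme.ΓSpecIso_naturality]
  rw [h]
  intro a b hab
  have h2 : G.invariants.subtype ((Scheme.ΓSpecIso (CommRingCat.of G.invariants)).hom.hom a) =
      G.invariants.subtype ((Scheme.ΓSpecIso (CommRingCat.of G.invariants)).hom.hom b) := hab
  have h3 := Subtype.val_injective h2
  exact (ConcreteCategory.bijective_of_isIso
    (Scheme.ΓSpecIso (CommRingCat.of G.invariants)).hom).1 h3

omit [OrbAff G] in
instance epi_πW (W : InvAff G) : Epi (πW W) :=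
  Lib.H8QuotAux.epi_of_injective_appTop_of_surjective _ (toQuot_appTop_injective (GW G W))
    (πW_surjective W)

instance epi_q : Epi (q G) := by
  constructor
  intro Z g g' h
  refine (CovPred.top G).YCover.hom_ext _ _ (fun W => ?_)
  change ιY G W.1 ≫ g = ιY G W.1 ≫ g'
  rw [← cancel_epi (πW W.1), ← Category.assoc, ← Category.assoc, ← iU_q, Category.assoc,
    Category.assoc, h]

omit [IsFinite G.s] [Flat G.s] [LocallyOfFinitePresentation G.s] [OrbAff G] in
/-- A morphism to an affine scheme coequalizing `s` and `t` factors through `toQuot`. -/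
lemma exists_desc_affine (T : Scheme.{u}) [IsAffine T] (h : G.U ⟶ T)
    (hh : G.s ≫ h = G.t ≫ h) : ∃ g : Spec (CommRingCat.of G.invariants) ⟶ T, G.toQuot ≫ g = h := by
  have hmem : ∀ a : Γ(T, ⊤), h.appTop.hom a ∈ G.invariants := by
    intro a
    change G.s.appTop.hom (h.appTop.hom a) = G.t.appTop.hom (h.appTop.hom a)
    have := congrArg (fun φ : G.R ⟶ T => φ.appTop.hom a) hh
    simpa [Scheme.Hom.comp_appTop] using this
  let φ' : Γ(T, ⊤) →+* G.invariants := h.appTop.hom.codRestrict G.invariants hmem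
  have hφ : CommRingCat.ofHom φ' ≫ CommRingCat.ofHom G.invariants.subtype = h.appTop := rfl
  refine ⟨Spec.map (CommRingCat.ofHom φ') ≫ T.isoSpec.inv, ?_⟩
  unfold GroupoidScheme.toQuot
  rw [Category.assoc, ← Category.assoc (Spec.map _), ← Spec.map_comp, hφ,
    ← Category.assoc, ← Scheme.toSpecΓ_naturality, Category.assoc]
  have : T.toSpecΓ ≫ T.isoSpec.inv = 𝟙 T := T.isoSpec.hom_inv_id
  rw [this, Category.comp_id]

variable {G} in
omit [OrbAff G] in
lemma exists_desc_of_le {Z : Scheme.{u}} (f : G.U ⟶ Z) (hf : G.s ≫ f = G.t ≫ f) (W : InvAff G)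
    (Z' : Z.Opens) (hZ' : IsAffineOpen Z') (hW : W.op ≤ f ⁻¹ᵁ Z') :
    ∃ g : Spec (CommRingCat.of (GW G W).invariants) ⟶ Z, πW W ≫ g = iU W ≫ f := by
  have hr : Set.range (iU W ≫ f) ⊆ Set.range Z'.ι := by
    rintro _ ⟨v, rfl⟩
    rw [Scheme.Opens.range_ι]
    exact hW (iU_mem W v)
  let h : (GW G W).U ⟶ Z'.toScheme := IsOpenImmersion.lift Z'.ι (iU W ≫ f) hr
  have hh : h ≫ Z'.ι = iU W ≫ f := IsOpenImmersion.lift_fac _ _ _
  have : IsAffine Z'.toScheme := hZ'
  have hst : (GW G W).s ≫ h = (GW G W).t ≫ h := by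
    rw [← cancel_mono Z'.ι, Category.assoc, Category.assoc, hh, ← Category.assoc,
      ← Category.assoc, s_ιU, t_ιU, Category.assoc, Category.assoc, hf]
  obtain ⟨g', hg'⟩ := exists_desc_affine (GW G W) Z'.toScheme h hst
  exact ⟨g' ≫ Z'.ι, by rw [← Category.assoc, hg', hh]⟩

variable {G} in
/-- The covering family attached to a morphism `f : U ⟶ Z` coequalizing `s` and `t`. -/
def CovPred.ofHom {Z : Scheme.{u}} (f : G.U ⟶ Z) (hf : G.s ≫ f = G.t ≫ f) : CovPred G where
  P W := ∃ Z' : Z.Opens, IsAffineOpen Z' ∧ W.op ≤ f ⁻¹ᵁ Z'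
  down h := fun ⟨Z', hZ', hW⟩ => ⟨Z', hZ', le_trans h hW⟩
  covers u := by
    obtain ⟨Z', hZ', huZ', -⟩ :=
      exists_isAffineOpen_mem_and_subset (x := f u) (U := ⊤) trivial
    have hΩ : G.s ⁻¹ᵁ (f ⁻¹ᵁ Z') = G.t ⁻¹ᵁ (f ⁻¹ᵁ Z') := by
      rw [← Scheme.Hom.comp_preimage, ← Scheme.Hom.comp_preimage, hf]
    obtain ⟨W, huW, hWΩ⟩ := exists_invAff' G (f ⁻¹ᵁ Z') hΩ u huZ'
    exact ⟨W, ⟨Z', hZ', hWΩ⟩, huW⟩

instance (Q : CovPred G) : Preorder Q.YCover.I₀ :=
  inferInstanceAs (Preorder {W : InvAff G // Q.P W})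

noncomputable instance (Q : CovPred G) : Q.YCover.LocallyDirected where
  trans {i j} hij := Spec.map (CommRingCat.ofHom (ρ (W₀ := i.1) (W := j.1) (leOfHom hij)))
  trans_id i := (quotDiagram G).map_id i.1
  trans_comp {i j k} hij hjk :=
    (quotDiagram G).map_comp (homOfLE (leOfHom hij) : i.1 ⟶ j.1) (homOfLE (leOfHom hjk) : j.1 ⟶ k.1)
  w hij := ιY_w G _
  directed {i j} x := by
    let xi : Spec (CommRingCat.of (GW G i.1).invariants) :=
      (pullback.fst (ιY G i.1) (ιY G j.1)) x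
    let xj : Spec (CommRingCat.of (GW G j.1).invariants) :=
      (pullback.snd (ιY G i.1) (ιY G j.1)) x
    have hx : ιY G i.1 xi = ιY G j.1 xj := by
      change (pullback.fst (ιY G i.1) (ιY G j.1) ≫ ιY G i.1) x =
        (pullback.snd (ιY G i.1) (ιY G j.1) ≫ ιY G j.1) x
      rw [pullback.condition]
    obtain ⟨k, hki, hkj, y, hy1, hy2⟩ := (ιY_eq_iff G xi xj).mp hx
    refine ⟨⟨k, Q.down hki i.2⟩, homOfLE hki, homOfLE hkj, y, ?_⟩
    apply (pullback.fst (ιY G i.1) (ιY G j.1) ≫ ιY G i.1).isOpenEmbedding.injective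
    have hw : Spec.map (CommRingCat.ofHom (ρ hki)) ≫ ιY G i.1 =
        Spec.map (CommRingCat.ofHom (ρ hkj)) ≫ ιY G j.1 := by rw [ιY_w, ιY_w]
    have key : pullback.lift (Spec.map (CommRingCat.ofHom (ρ hki)))
        (Spec.map (CommRingCat.ofHom (ρ hkj))) hw ≫
          pullback.fst (ιY G i.1) (ιY G j.1) ≫ ιY G i.1 = ιY G k := by
      rw [pullback.lift_fst_assoc, ιY_w]
    refine (congrArg (fun φ : Spec (CommRingCat.of (GW G k).invariants) ⟶ Y G => φ y) key).trans ?_
    change ιY G k y = ιY G i.1 xi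
    rw [← hy1]
    exact (congrArg (fun φ : Spec (CommRingCat.of (GW G k).invariants) ⟶ Y G => φ y)
      (ιY_w G hki)).symm
  property_trans hij := isOpenImmersion_ρ _

/-- The universal property of the quotient. -/
theorem exists_desc {Z : Scheme.{u}} (f : G.U ⟶ Z) (hf : G.s ≫ f = G.t ≫ f) :
    ∃ g : Y G ⟶ Z, q G ≫ g = f := by
  let Q := CovPred.ofHom f hf
  have hQ : ∀ W : Q.YCover.I₀, ∃ g : Spec (CommRingCat.of (GW G W.1).invariants) ⟶ Z,
      πW W.1 ≫ g = iU W.1 ≫ f := by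
    rintro ⟨W, Z', hZ', hW⟩
    exact exists_desc_of_le f hf W Z' hZ' hW
  choose gW hgW using hQ
  have compat : ∀ {i j : Q.YCover.I₀} (hij : i ⟶ j), Q.YCover.trans hij ≫ gW j = gW i := by
    intro i j hij
    change Spec.map (CommRingCat.ofHom (ρ (leOfHom hij))) ≫ gW j = gW i
    rw [← cancel_epi (πW i.1), ← Category.assoc, toQuot_ρ, Category.assoc, hgW, hgW, fU_ι_assoc]
  refine ⟨Q.YCover.glueMorphismsOfLocallyDirected gW compat, ?_⟩
  refine Q.UCover.hom_ext _ _ (fun W => ?_)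
  change iU W.1 ≫ q G ≫ _ = iU W.1 ≫ f
  rw [iU_q_assoc]
  have := Q.YCover.map_glueMorphismsOfLocallyDirected gW compat W
  change ιY G W.1 ≫ _ = gW W at this
  rw [this, hgW]

/-- `q` is a coequalizer of `s` and `t` in the category of schemes. -/
noncomputable def isColimitCofork (w : G.s ≫ q G = G.t ≫ q G) : IsColimit (Cofork.ofπ (q G) w) :=
  Cofork.IsColimit.mk' _ (fun c =>
    ⟨(exists_desc G c.π c.condition).choose, (exists_desc G c.π c.condition).choose_spec,
      fun {m} hm => by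
        rw [← cancel_epi (q G)]
        exact hm.trans (exists_desc G c.π c.condition).choose_spec.symm⟩)

/-- `q` is a coequalizer of `t` and `s` in the category of schemes. -/
noncomputable def isColimitCofork' (w : G.t ≫ q G = G.s ≫ q G) :
    IsColimit (Cofork.ofπ (q G) w) :=
  Cofork.IsColimit.mk' _ (fun c =>
    ⟨(exists_desc G c.π c.condition.symm).choose,
      (exists_desc G c.π c.condition.symm).choose_spec,
      fun {m} hm => by
        rw [← cancel_epi (q G)]
        exact hm.trans (exists_desc G c.π c.condition.symm).choose_spec.symm⟩)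

end desc

section more

/-- `R ⟶ U ×_Y U` is surjective. -/
theorem surjective_lift (w : G.t ≫ q G = G.s ≫ q G) :
    Function.Surjective (pullback.lift G.t G.s w) := by
  intro x
  let P := pullback (q G) (q G)
  let K := AlgebraicClosure (P.residueField x)
  let φ : Spec (CommRingCat.of K) ⟶ P :=
    Spec.map (CommRingCat.ofHom (algebraMap (P.residueField x) K)) ≫ P.fromSpecResidueField x
  let pt : Spec (CommRingCat.of K) := (⟨⊥, Ideal.isPrime_bot⟩ : PrimeSpectrum K)
  have hpt : ∀ p : Spec (CommRingCat.of K), p = pt := fun p =>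
    Subsingleton.elim (α := PrimeSpectrum K) p pt
  have hφ : φ pt = x := Scheme.fromSpecResidueField_apply x _
  let x₀ : Spec (CommRingCat.of K) ⟶ G.U := φ ≫ pullback.fst (q G) (q G)
  let x₁ : Spec (CommRingCat.of K) ⟶ G.U := φ ≫ pullback.snd (q G) (q G)
  have hx : x₀ ≫ q G = x₁ ≫ q G := by
    simp only [x₀, x₁, Category.assoc, pullback.condition]
  obtain ⟨W, hW⟩ := exists_mem_invAff G (x₀ pt)
  have hW1 : x₁ pt ∈ W.op := by
    rw [← q_mem_range_iff]
    have : q G (x₁ pt) = q G (x₀ pt) :=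
      (congrArg (fun ψ : Spec (CommRingCat.of K) ⟶ Y G => ψ pt) hx).symm
    rw [this, q_mem_range_iff]
    exact hW
  have hr0 : Set.range x₀ ⊆ Set.range (iU W) := by
    rintro _ ⟨p, rfl⟩
    rw [hpt p, range_ιU]
    exact hW
  have hr1 : Set.range x₁ ⊆ Set.range (iU W) := by
    rintro _ ⟨p, rfl⟩
    rw [hpt p, range_ιU]
    exact hW1
  let x₀' : Spec (CommRingCat.of K) ⟶ (GW G W).U := IsOpenImmersion.lift (iU W) x₀ hr0
  let x₁' : Spec (CommRingCat.of K) ⟶ (GW G W).U := IsOpenImmersion.lift (iU W) x₁ hr1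
  have h0 : x₀' ≫ iU W = x₀ := IsOpenImmersion.lift_fac _ _ _
  have h1 : x₁' ≫ iU W = x₁ := IsOpenImmersion.lift_fac _ _ _
  have hπ : x₀' ≫ (GW G W).toQuot = x₁' ≫ (GW G W).toQuot := by
    rw [← cancel_mono (ιY G W), Category.assoc, Category.assoc]
    change x₀' ≫ πW W ≫ ιY G W = x₁' ≫ πW W ≫ ιY G W
    rw [← iU_q, ← Category.assoc, ← Category.assoc, h0, h1, hx]
  obtain ⟨r', hr't, hr's⟩ := toQuot_kpoints (GW G W) K x₀' x₁' hπ
  let r : Spec (CommRingCat.of K) ⟶ G.R := r' ≫ iR W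
  have hrt : r ≫ G.t = x₀ := by
    change (r' ≫ iR W) ≫ G.t = x₀
    rw [Category.assoc, ← t_ιU, ← Category.assoc, hr't, h0]
  have hrs : r ≫ G.s = x₁ := by
    change (r' ≫ iR W) ≫ G.s = x₁
    rw [Category.assoc, ← s_ιU, ← Category.assoc, hr's, h1]
  have hrφ : r ≫ pullback.lift G.t G.s w = φ := by
    apply pullback.hom_ext
    · rw [Category.assoc, pullback.lift_fst, hrt]
    · rw [Category.assoc, pullback.lift_snd, hrs]
  refine ⟨r pt, ?_⟩
  have := congrArg (fun ψ : Spec (CommRingCat.of K) ⟶ P => ψ pt) hrφ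
  exact this.trans hφ

/-- The quotient of an affine scheme is affine. -/
theorem isAffine_Y [IsAffine G.U] : IsAffine (Y G) := by
  let W : InvAff G := ⟨⊤, isAffineOpen_top G.U, rfl⟩
  have htop : (ιY G W).opensRange = ⊤ := by
    apply top_le_iff.mp
    intro y _
    obtain ⟨u, rfl⟩ := q_surjective G y
    exact (q_mem_range_iff G W u).mpr trivial
  have : IsIso (ιY G W) := isIso_of_isOpenImmersion_of_opensRange_eq_top _ htop
  exact IsAffine.of_isIso (inv (ιY G W))

variable [Mono G.j]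

instance (W : InvAff G) : Mono (GW G W).j := mono_j_restrictOpen G W.op W.inv

theorem isFinite_q : IsFinite (q G) :=
  q_of_forall_πW G (P := @IsFinite) (fun W => (Lib.AffGrpd13.toQuot_finite_flat_fp (GW G W)).1)

theorem flat_q : Flat (q G) :=
  q_of_forall_πW G (P := @Flat) (fun W => (Lib.AffGrpd13.toQuot_finite_flat_fp (GW G W)).2.1)

theorem lfp_q : LocallyOfFinitePresentation (q G) :=
  q_of_forall_πW G (P := @LocallyOfFinitePresentation)
    (fun W => (Lib.AffGrpd13.toQuot_finite_flat_fp (GW G W)).2.2)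

lemma isPullback_big (W : InvAff G) :
    IsPullback (GW G W).t (iR W ≫ G.s) (iU W ≫ q G) (q G) := by
  have h := (Lib.AffGrpd13.isPullback_toQuot (GW G W)).paste_vert (isPullback_q G W)
  rw [s_ιU] at h
  rw [iU_q]
  exact h

lemma isPullback_iR_t (W : InvAff G) : IsPullback (GW G W).t (iR W) (iU W) G.t := by
  refine IsOpenImmersion.isPullback _ _ _ _ (t_ιU G W.op W.inv).symm ?_
  rw [opensRange_iU, opensRange_iR, W.inv]

/-- `R = U ×_Y U` when `j` is a monomorphism. -/
theorem isPullback_t_s_q : IsPullback G.t G.s (q G) (q G) := by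
  refine Scheme.isPullback_of_openCover G.t G.s (q G) (q G) (CovPred.top G).UCover (fun W => ?_)
  change IsPullback (pullback.snd G.t (iU W.1)) (pullback.fst G.t (iU W.1) ≫ G.s)
    (iU W.1 ≫ q G) (q G)
  let e := (isPullback_iR_t G W.1).flip.isoPullback
  have e1 : e.hom ≫ pullback.fst G.t (iU W.1) = iR W.1 :=
    (isPullback_iR_t G W.1).flip.isoPullback_hom_fst
  have e2 : e.hom ≫ pullback.snd G.t (iU W.1) = (GW G W.1).t :=
    (isPullback_iR_t G W.1).flip.isoPullback_hom_snd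
  refine (isPullback_big G W.1).of_iso e (Iso.refl _) (Iso.refl _) (Iso.refl _) ?_ ?_ ?_ ?_
  · rw [Iso.refl_hom, Category.comp_id, e2]
  · rw [Iso.refl_hom, Category.comp_id, ← Category.assoc, e1]
  · rw [Iso.refl_hom, Iso.refl_hom, Category.comp_id, Category.id_comp]
  · rw [Iso.refl_hom, Iso.refl_hom, Category.comp_id, Category.id_comp]

theorem isIso_lift (w : G.t ≫ q G = G.s ≫ q G) : IsIso (pullback.lift G.t G.s w) := by
  have h : (isPullback_t_s_q G).isoPullback.hom = pullback.lift G.t G.s w := by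
    apply pullback.hom_ext
    · rw [IsPullback.isoPullback_hom_fst, pullback.lift_fst]
    · rw [IsPullback.isoPullback_hom_snd, pullback.lift_snd]
  rw [← h]
  infer_instance

end more

end Groth.Agent.Lib.H8GrpdQuot
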