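import Mathlib.AlgebraicGeometry.Morphisms.Separated
import Mathlib.AlgebraicGeometry.Morphisms.ClosedImmersion
import Mathlib.AlgebraicGeometry.IdealSheaf.Subscheme
import Mathlib.CategoryTheory.Comma.Over.Basic

/-!
# Fixed locus of a family of endomorphisms of a separated `S`-scheme (helper8)

For `X : Over S` with `X.hom` separated and a family `φ : G → (X ⟶ X)`, the common equalizer of the
`φ g` with the identity is a closed subscheme `fix φ` of `X`; any object representing the functor of
`φ`-invariant morphisms maps to `X` by a closed immersion.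
-/

set_option autoImplicit false
universe v u
open CategoryTheory CategoryTheory.Limits AlgebraicGeometry

namespace Groth.Agent.Lib.H8FixedLocus

variable {S : Scheme.{u}} {X : Over S} [IsSeparated X.hom] {G : Type v} (φ : G → (X ⟶ X))

/-- The ideal sheaf of the common equalizer of the `φ g` and the identity. -/
noncomputable def fixIdeal : X.left.IdealSheafData :=
  ⨆ g, (equalizer.ι (𝟙 X) (φ g)).left.ker

/-- The fixed locus as an object over `S`. -/
noncomputable def fix : Over S := Over.mk ((fixIdeal φ).subschemeι ≫ X.hom)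

/-- The inclusion of the fixed locus. -/
noncomputable def fixι : fix φ ⟶ X := Over.homMk (fixIdeal φ).subschemeι rfl

instance : IsClosedImmersion (fixι φ).left := by
  change IsClosedImmersion (fixIdeal φ).subschemeι
  infer_instance

lemma invariant_iff {T : Over S} (t : T ⟶ X) :
    (∀ g, t ≫ φ g = t) ↔ fixIdeal φ ≤ t.left.ker := by
  constructor
  · intro h
    refine iSup_le fun g => ?_
    have hc : t ≫ 𝟙 X = t ≫ φ g := by rw [Category.comp_id, h g]
    have h1 : t = equalizer.lift t hc ≫ equalizer.ι (𝟙 X) (φ g) := (equalizer.lift_ι t hc).symm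
    have h2 : t.left = (equalizer.lift t hc).left ≫ (equalizer.ι (𝟙 X) (φ g)).left := by
      rw [← Over.comp_left, ← h1]
    rw [h2]
    exact Scheme.Hom.le_ker_comp _ _
  · intro h g
    have hle : (equalizer.ι (𝟙 X) (φ g)).left.ker ≤ t.left.ker :=
      (le_iSup (fun g => (equalizer.ι (𝟙 X) (φ g)).left.ker) g).trans h
    have hfac := IsClosedImmersion.lift_fac (equalizer.ι (𝟙 X) (φ g)).left t.left hle
    have hcond : (equalizer.ι (𝟙 X) (φ g)).left ≫ (φ g).left = (equalizer.ι (𝟙 X) (φ g)).left := by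
      have := congrArg (fun m => m.left) (equalizer.condition (𝟙 X) (φ g))
      simpa using this.symm
    ext1
    rw [Over.comp_left, ← hfac, Category.assoc, hcond]

lemma fixι_invariant (g : G) : fixι φ ≫ φ g = fixι φ := by
  refine (invariant_iff φ (fixι φ)).2 ?_ g
  change fixIdeal φ ≤ (fixIdeal φ).subschemeι.ker
  rw [Scheme.IdealSheafData.ker_subschemeι]

/-- Any object representing the functor of `φ`-invariant morphisms to `X` is a closed subscheme. -/
theorem isClosedImmersion_of_universal (Z : Over S) (ι : Z ⟶ X) (hι : ∀ g, ι ≫ φ g = ι)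
    (hZ : ∀ (T : Over S) (t : T ⟶ X), (∀ g, t ≫ φ g = t) ↔ ∃! t' : T ⟶ Z, t' ≫ ι = t) :
    IsClosedImmersion ι.left := by
  have hle : (fixIdeal φ).subschemeι.ker ≤ ι.left.ker := by
    rw [Scheme.IdealSheafData.ker_subschemeι]
    exact (invariant_iff φ ι).1 hι
  let a₀ : Z.left ⟶ (fixIdeal φ).subscheme :=
    IsClosedImmersion.lift (fixIdeal φ).subschemeι ι.left hle
  have ha₀ : a₀ ≫ (fixIdeal φ).subschemeι = ι.left :=
    IsClosedImmersion.lift_fac (fixIdeal φ).subschemeι ι.left hle
  let a : Z ⟶ fix φ := Over.homMk a₀ (by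
    change a₀ ≫ (fixIdeal φ).subschemeι ≫ X.hom = Z.hom
    rw [← Category.assoc, ha₀, Over.w])
  have ha : a ≫ fixι φ = ι := by
    ext1
    exact ha₀
  obtain ⟨b, hb, -⟩ := (hZ (fix φ) (fixι φ)).1 (fixι_invariant φ)
  have hab : a ≫ b = 𝟙 Z := by
    obtain ⟨c, -, hc⟩ := (hZ Z ι).1 hι
    rw [hc (a ≫ b) (show (a ≫ b) ≫ ι = ι by rw [Category.assoc, hb, ha]),
      hc (𝟙 Z) (show 𝟙 Z ≫ ι = ι from Category.id_comp _)]
  have hba : b ≫ a = 𝟙 (fix φ) := by
    have h1 : (b ≫ a).left ≫ (fixι φ).left = (𝟙 (fix φ) : fix φ ⟶ fix φ).left ≫ (fixι φ).left := by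
      rw [← Over.comp_left, ← Over.comp_left, Category.assoc, ha, hb, Category.id_comp]
    ext1
    exact (cancel_mono (fixι φ).left).1 h1
  have : IsIso a := ⟨b, hab, hba⟩
  have : IsIso a.left := (Over.forget S).map_isIso a
  have h2 : ι.left = a.left ≫ (fixι φ).left := by rw [← Over.comp_left, ha]
  rw [h2]
  infer_instance

end Groth.Agent.Lib.H8FixedLocus
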