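import Groth.Agent.Lib.H8CoinvSmooth
import Mathlib.AlgebraicGeometry.Morphisms.Smooth
import Mathlib.AlgebraicGeometry.Morphisms.Separated
import Mathlib.AlgebraicGeometry.Morphisms.ClosedImmersion
import Mathlib.RingTheory.RingHom.Smooth

/-!
# Smoothness of the fixed locus of a finite group acting on a smooth separated scheme (helper8)
-/

set_option autoImplicit false
universe v u
open CategoryTheory CategoryTheory.Limits AlgebraicGeometry TopologicalSpace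

namespace Groth.Agent.Lib.H8FixedSmooth

open Groth.Agent.Lib.H8CoinvSmooth

/-- Ring-level wrapper (no instances): `φ : R → B` smooth, `G` finite with order invertible in `R`
acting contravariantly by `R`-endomorphisms `a g`, `ψ : B → C` surjective with kernel the coinvariant
ideal; then `ψ ∘ φ` is smooth. -/
theorem ringHom_smooth_quotient {R B C : Type u} [CommRing R] [CommRing B] [CommRing C]
    (φ : R →+* B) (hφ : φ.Smooth) {G : Type v} [Group G] [Finite G] (a : G → (B →+* B))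
    (haφ : ∀ g, (a g).comp φ = φ) (ha1 : a 1 = RingHom.id B)
    (hamul : ∀ g h, a (g * h) = (a h).comp (a g)) (hG : IsUnit (Nat.card G : R))
    (ψ : B →+* C) (hψ : Function.Surjective ψ)
    (hker : RingHom.ker ψ = Ideal.span {x : B | ∃ (g : G) (b : B), x = a g b - b}) :
    (ψ.comp φ).Smooth := by
  letI : Algebra R B := φ.toAlgebra
  haveI : Algebra.Smooth R B := hφ
  let a' : G → (B →ₐ[R] B) := fun g =>
    { toRingHom := a g
      commutes' := fun x => congrArg (fun m : R →+* B => m x) (haφ g) }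
  have ha'1 : a' 1 = AlgHom.id R B := by
    apply AlgHom.ext
    intro x
    exact congrArg (fun m : B →+* B => m x) ha1
  have ha'mul : ∀ g h, a' (g * h) = (a' h).comp (a' g) := by
    intro g h
    apply AlgHom.ext
    intro x
    exact congrArg (fun m : B →+* B => m x) (hamul g h)
  have hsm := smooth_quotient_coinvIdeal a' ha'1 ha'mul hG
  have hI : RingHom.ker ψ = coinvIdeal a' := hker
  let e : (B ⧸ coinvIdeal a') ≃+* C :=
    (Ideal.quotEquivOfEq hI.symm).trans (RingHom.quotientKerEquivOfSurjective hψ)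
  have he : ∀ b : B, e (Ideal.Quotient.mk _ b) = ψ b := fun b => rfl
  have h1 : (algebraMap R (B ⧸ coinvIdeal a')).Smooth := RingHom.smooth_algebraMap.2 hsm
  have h2 := RingHom.Smooth.respectsIso.1 _ e h1
  have h3 : e.toRingHom.comp (algebraMap R (B ⧸ coinvIdeal a')) = ψ.comp φ := by
    ext x
    exact he (φ x)
  rwa [h3] at h2

lemma appLE_congr_hom {X Y : Scheme.{u}} {f f' : X ⟶ Y} (h : f = f') (U : Y.Opens) (V : X.Opens)
    (e : V ≤ f ⁻¹ᵁ U) : f.appLE U V e = f'.appLE U V (h ▸ e) := by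
  subst h; rfl


variable {S Xs Zs : Scheme.{u}} (f : Xs ⟶ S) {G : Type v} [Group G] [Finite G]
  (r : G → (Xs ⟶ Xs))

/-- finite intersections of affine opens inside `f ⁻¹ᵁ U` (`U` affine, `f` separated) are affine. -/
lemma isAffineOpen_iInf [IsSeparated f] {U : S.Opens} (hU : IsAffineOpen U)
    (W : G → Xs.Opens) (hW : ∀ g, IsAffineOpen (W g)) (hWU : ∀ g, W g ≤ f ⁻¹ᵁ U) :
    IsAffineOpen (⨅ g, W g) ∧ (⨅ g, W g) ≤ f ⁻¹ᵁ U := by
  have hdiag : IsAffineHom (pullback.diagonal f) := inferInstance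
  have hinf := isAffineHom_diagonal_iff.mp hdiag U hU
  have hcl : InfClosed {W : Xs.Opens | IsAffineOpen W ∧ W ≤ f ⁻¹ᵁ U} := by
    intro W₁ h₁ W₂ h₂
    exact ⟨hinf W₁ h₁.2 W₂ h₂.2 h₁.1 h₂.1, inf_le_left.trans h₁.2⟩
  exact hcl.iInf_mem_of_nonempty (fun g => ⟨hW g, hWU g⟩)

theorem smooth_comp_of_fixed [Smooth f] [IsSeparated f]
    (hr1 : r 1 = 𝟙 Xs) (hrmul : ∀ g h, r (g * h) = r h ≫ r g) (hrf : ∀ g, r g ≫ f = f)
    (hG : IsUnit (Nat.card G : Γ(S, ⊤)))
    (j : Zs ⟶ Xs) [IsClosedImmersion j] (hj : ∀ g, j ≫ r g = j)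
    (huniv : ∀ (T : Scheme.{u}) (t : T ⟶ Xs), (∀ g, t ≫ r g = t) → ∃ t' : T ⟶ Zs, t' ≫ j = t) :
    Smooth (j ≫ f) := by
  have hQ := (RingHom.Smooth.stableUnderComposition.stableUnderCompositionWithLocalizationAway
      RingHom.Smooth.holdsForLocalizationAway).1
  rw [HasRingHomProperty.iff_exists_appLE (P := @Smooth) hQ]
  intro z
  obtain ⟨U, hU, hsU, -⟩ := Opens.isBasis_iff_nbhd.mp S.isBasis_affineOpens
      (Opens.mem_top (f (j z)))
  obtain ⟨V₀, hV₀, hxV₀, eV₀⟩ := Opens.isBasis_iff_nbhd.mp Xs.isBasis_affineOpens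
      (show j z ∈ f ⁻¹ᵁ U from hsU)
  have hiso : ∀ g, IsIso (r g) := fun g =>
    ⟨r g⁻¹, by rw [← hrmul, inv_mul_cancel, hr1], by rw [← hrmul, mul_inv_cancel, hr1]⟩
  have hrfx : ∀ g (x : Xs), f (r g x) = f x := fun g x => by
    rw [← Scheme.Hom.comp_apply, hrf]
  obtain ⟨hV, eV⟩ := isAffineOpen_iInf f hU (fun g => r g ⁻¹ᵁ V₀)
    (fun g => haveI := hiso g; hV₀.preimage_of_isIso (r g))
    (fun g x hx => by
      change f x ∈ U
      rw [← hrfx g x]
      exact eV₀ hx)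
  set V : Xs.Opens := ⨅ g, r g ⁻¹ᵁ V₀ with hVdef
  have hVmem : ∀ x : Xs, x ∈ V ↔ ∀ g, r g x ∈ V₀ := by
    intro x
    rw [← SetLike.mem_coe, hVdef, Opens.coe_iInf]
    simp
  have hst : ∀ g, V ≤ r g ⁻¹ᵁ V := by
    intro g x hx
    change r g x ∈ V
    rw [hVmem]
    intro h
    rw [← Scheme.Hom.comp_apply, ← hrmul]
    exact (hVmem x).1 hx (h * g)
  have hjx : ∀ g, r g (j z) = j z := fun g => by rw [← Scheme.Hom.comp_apply, hj]
  have hzV : j z ∈ V := (hVmem _).2 fun g => by rw [hjx]; exact hxV₀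
  -- the open of `Zs`
  have hW : IsAffineOpen (j ⁻¹ᵁ V) := hV.preimage j
  have eW : j ⁻¹ᵁ V ≤ (j ≫ f) ⁻¹ᵁ U := fun x hx => eV hx
  refine ⟨⟨U, hU⟩, ⟨j ⁻¹ᵁ V, hW⟩, hzV, eW, ?_⟩
  -- the ring maps
  let φ : Γ(S, U) →+* Γ(Xs, V) := (f.appLE U V eV).hom
  let a : G → (Γ(Xs, V) →+* Γ(Xs, V)) := fun g => ((r g).appLE V V (hst g)).hom
  let ψ : Γ(Xs, V) →+* Γ(Zs, j ⁻¹ᵁ V) := (j.app V).hom
  have hφ : φ.Smooth := HasRingHomProperty.appLE @Smooth f inferInstance ⟨U, hU⟩ ⟨V, hV⟩ eV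
  have haφ : ∀ g, (a g).comp φ = φ := by
    intro g
    have h1 : f.appLE U V eV ≫ (r g).appLE V V (hst g) = f.appLE U V eV := by
      rw [Scheme.Hom.appLE_comp_appLE, appLE_congr_hom (hrf g)]
    exact congrArg (fun m => m.hom) h1
  have ha1 : a 1 = RingHom.id _ := by
    have h1 : (r 1).appLE V V (hst 1) = 𝟙 _ := by
      rw [appLE_congr_hom hr1]
      simp [Scheme.Hom.appLE]
      exact (congrArg (Xs.presheaf.map) (Subsingleton.elim _ _)).trans (Xs.presheaf.map_id _)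
    exact congrArg (fun m => m.hom) h1
  have hamul : ∀ g h, a (g * h) = (a h).comp (a g) := by
    intro g h
    have h1 : (r (g * h)).appLE V V (hst (g * h)) =
        (r g).appLE V V (hst g) ≫ (r h).appLE V V (hst h) := by
      rw [Scheme.Hom.appLE_comp_appLE, appLE_congr_hom (hrmul g h)]
    exact congrArg (fun m => m.hom) h1
  have hGU : IsUnit (Nat.card G : Γ(S, U)) := by
    have := hG.map (S.presheaf.map (homOfLE (le_top : U ≤ ⊤)).op).hom
    rwa [map_natCast] at this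
  have hψ : Function.Surjective ψ := j.app_surjective V hV
  have hcomp : ((j ≫ f).appLE U (j ⁻¹ᵁ V) eW).hom = ψ.comp φ := by
    have h1 : (j ≫ f).appLE U (j ⁻¹ᵁ V) eW = f.appLE U V eV ≫ j.app V := by
      rw [Scheme.Hom.app_eq_appLE, Scheme.Hom.appLE_comp_appLE]
    exact congrArg (fun m => m.hom) h1
  rw [hcomp]
  refine ringHom_smooth_quotient φ hφ a haφ ha1 hamul hGU ψ hψ ?_
  set I : Ideal Γ(Xs, V) := Ideal.span {x | ∃ (g : G) (b : Γ(Xs, V)), x = a g b - b} with hI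
  apply le_antisymm
  · -- `ker ψ ≤ I` : use the universal property for `Spec (Γ(Xs, V) ⧸ I)`
    let m : Γ(Xs, V) ⟶ CommRingCat.of (Γ(Xs, V) ⧸ I) := CommRingCat.ofHom (Ideal.Quotient.mk I)
    let t₀ : Spec (CommRingCat.of (Γ(Xs, V) ⧸ I)) ⟶ Xs := Spec.map m ≫ hV.fromSpec
    have hinv : ∀ g, t₀ ≫ r g = t₀ := by
      intro g
      have h1 : (r g).appLE V V (hst g) ≫ m = m := by
        ext b
        change Ideal.Quotient.mk I (a g b) = Ideal.Quotient.mk I b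
        rw [Ideal.Quotient.eq]
        exact Ideal.subset_span ⟨g, b, rfl⟩
      change (Spec.map m ≫ hV.fromSpec) ≫ r g = Spec.map m ≫ hV.fromSpec
      rw [Category.assoc, ← IsAffineOpen.SpecMap_appLE_fromSpec (r g) hV hV (hst g),
        ← Category.assoc, ← Spec.map_comp, h1]
    obtain ⟨t', ht'⟩ := huniv _ t₀ hinv
    have e₀ : (⊤ : (Spec (CommRingCat.of (Γ(Xs, V) ⧸ I))).Opens) ≤ t₀ ⁻¹ᵁ V := by
      intro x _
      change hV.fromSpec (Spec.map m x) ∈ V
      have : Spec.map m x ∈ hV.fromSpec ⁻¹ᵁ V := by rw [hV.fromSpec_preimage_self]; trivial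
      exact this
    have e₁ : (⊤ : (Spec (CommRingCat.of (Γ(Xs, V) ⧸ I))).Opens) ≤ t' ⁻¹ᵁ (j ⁻¹ᵁ V) := by
      intro x hx
      have := e₀ hx
      rw [← ht'] at this
      exact this
    have hfac : t₀.appLE V ⊤ e₀ = j.app V ≫ t'.appLE (j ⁻¹ᵁ V) ⊤ e₁ := by
      rw [Scheme.Hom.app_eq_appLE, Scheme.Hom.appLE_comp_appLE, appLE_congr_hom ht']
    have hcomp₀ : t₀.appLE V ⊤ e₀ = m ≫ (Scheme.ΓSpecIso _).inv := by
      have e₂ : (⊤ : (Spec Γ(Xs, V)).Opens) ≤ hV.fromSpec ⁻¹ᵁ V := by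
        rw [hV.fromSpec_preimage_self]
      have e₃ : (⊤ : (Spec (CommRingCat.of (Γ(Xs, V) ⧸ I))).Opens) ≤ Spec.map m ⁻¹ᵁ ⊤ := le_rfl
      have h1 : t₀.appLE V ⊤ e₀ = hV.fromSpec.appLE V ⊤ e₂ ≫ (Spec.map m).appLE ⊤ ⊤ e₃ := by
        rw [Scheme.Hom.appLE_comp_appLE]
      have h2 : hV.fromSpec.appLE V ⊤ e₂ = (Scheme.ΓSpecIso Γ(Xs, V)).inv := by
        rw [Scheme.Hom.appLE, hV.fromSpec_app_self, Category.assoc, ← Functor.map_comp]
        exact (congrArg (fun q => (Scheme.ΓSpecIso Γ(Xs, V)).inv ≫ (Spec Γ(Xs, V)).presheaf.map q)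
          (Subsingleton.elim _ (𝟙 _))).trans (by rw [CategoryTheory.Functor.map_id, Category.comp_id])
      have h3 : (Spec.map m).appLE ⊤ ⊤ e₃ = (Spec.map m).appTop := by
        simp [Scheme.Hom.appLE, Scheme.Hom.appTop]
      rw [h1, h2, h3, Scheme.ΓSpecIso_inv_naturality]
    intro b hb
    have hb0 : ψ b = 0 := hb
    have h4 : (t₀.appLE V ⊤ e₀).hom b = 0 := by
      rw [hfac]
      change (t'.appLE (j ⁻¹ᵁ V) ⊤ e₁).hom (ψ b) = 0
      rw [hb0, map_zero]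
    rw [hcomp₀] at h4
    have h5 : (Scheme.ΓSpecIso (CommRingCat.of (Γ(Xs, V) ⧸ I))).inv.hom (Ideal.Quotient.mk I b) = 0 := h4
    have h6 : Ideal.Quotient.mk I b = 0 := by
      have hinj := (ConcreteCategory.bijective_of_isIso
        (Scheme.ΓSpecIso (CommRingCat.of (Γ(Xs, V) ⧸ I))).inv).1
      exact hinj (by rw [h5, map_zero])
    exact Ideal.Quotient.eq_zero_iff_mem.1 h6
  · -- `I ≤ ker ψ`
    refine Ideal.span_le.2 ?_
    rintro _ ⟨g, b, rfl⟩
    have h1 : (r g).appLE V V (hst g) ≫ j.app V = j.app V := by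
      rw [Scheme.Hom.app_eq_appLE, Scheme.Hom.appLE_comp_appLE, appLE_congr_hom (hj g)]
    have h2 : ψ (a g b) = ψ b := congrArg (fun q => q.hom b) h1
    change ψ (a g b - b) = 0
    rw [map_sub, h2, sub_self]

end Groth.Agent.Lib.H8FixedSmooth
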