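import Groth.Agent.Lib.H8GrpdQuotFppf
import Groth.Agent.Lib.FinEtQuot46
import Groth.Prelude.Def_ChGrp
import Groth.Prelude.Def_NonAbH2
import Mathlib.AlgebraicGeometry.Morphisms.UniversallyInjective

/-!
# Quotient of a scheme by a free action of a finite locally free group scheme (helper8)
-/

set_option autoImplicit false
set_option linter.unusedSectionVars false
universe u
open CategoryTheory CategoryTheory.Limits MonoidalCategory CartesianMonoidalCategory MonObj
  AlgebraicGeometry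

namespace Groth.Agent.Lib.H8FreeAction

open Groth.Agent.Lib.H8GrpdQuot Groth.Agent.Lib.FinEtQuot46

variable {S : Scheme.{u}} {G X : Over S} [GrpObj G] (a : AlgGrp.Action G X)

lemma hsplit {T : Over S} (ρ : T ⟶ G ⊗ X) : ρ = lift (ρ ≫ fst G X) (ρ ≫ snd G X) := by
  rw [← comp_lift, lift_fst_snd, Category.comp_id]

/-- A free action gives an equivalence relation `(snd, act)`. -/
theorem isEqvRel_of_free
    (hfree : ∀ (T : Over S) (g : T ⟶ G) (x : T ⟶ X), lift g x ≫ a.act = x → g = toUnit T ≫ η[G]) :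
    AlgSp.IsEqvRel (snd G X) a.act where
  injective T r r' ht hs := by
    rw [hsplit r, hsplit r'] at ht hs ⊢
    rw [lift_snd, lift_snd] at hs
    rw [← hs] at ht ⊢
    have h1 : lift ((r' ≫ fst G X)⁻¹ * (r ≫ fst G X)) (r ≫ snd G X) ≫ a.act = r ≫ snd G X := by
      rw [AlgGrp.Action.lift_mul_act, ht, ← AlgGrp.Action.lift_mul_act, inv_mul_cancel,
        AlgGrp.Action.lift_one_act]
    have h2 := hfree T _ _ h1
    rw [← Hom.one_def] at h2
    have h3 : r ≫ fst G X = r' ≫ fst G X := by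
      have := congrArg (fun z => (r' ≫ fst G X) * z) h2
      simpa using this
    rw [h3]
  equivalence T := by
    refine ⟨?_, ?_, ?_⟩
    · intro x
      exact ⟨lift 1 x, AlgGrp.Action.lift_one_act a x, lift_snd _ _⟩
    · rintro α β ⟨ρ, rfl, rfl⟩
      obtain ⟨g, x, rfl⟩ : ∃ g x, ρ = lift g x := ⟨_, _, hsplit ρ⟩
      refine ⟨lift g⁻¹ (lift g x ≫ a.act), ?_, lift_snd _ _⟩
      rw [← AlgGrp.Action.lift_mul_act, inv_mul_cancel, AlgGrp.Action.lift_one_act, lift_snd]
    · rintro α β c ⟨ρ₁, rfl, rfl⟩ ⟨ρ₂, h₂, rfl⟩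
      obtain ⟨g₁, x₁, rfl⟩ : ∃ g x, ρ₁ = lift g x := ⟨_, _, hsplit ρ₁⟩
      obtain ⟨g₂, x₂, rfl⟩ : ∃ g x, ρ₂ = lift g x := ⟨_, _, hsplit ρ₂⟩
      rw [lift_snd] at h₂
      -- h₂ : lift g₂ x₂ ≫ act = x₁
      refine ⟨lift (g₁ * g₂) x₂, ?_, by rw [lift_snd, lift_snd]⟩
      rw [AlgGrp.Action.lift_mul_act, h₂]

section orbits

variable {R U : Over S} {s t : R ⟶ U} (h : AlgSp.IsEqvRel s t)

lemma orbit_subset_of_isAffineHom [IsAffineHom U.hom] (x : (grpd h).U) :
    ∃ V : (grpd h).U.Opens, IsAffineOpen V ∧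
      (grpd h).t '' ((grpd h).s ⁻¹' {x}) ⊆ (V : Set (grpd h).U) := by
  obtain ⟨Sx, hSx, hxSx, -⟩ :=
    exists_isAffineOpen_mem_and_subset (x := U.hom x) (U := ⊤) trivial
  refine ⟨U.hom ⁻¹ᵁ Sx, hSx.preimage U.hom, ?_⟩
  rintro _ ⟨r, hr, rfl⟩
  have hr' : (grpd h).s r = x := hr
  change U.hom ((grpd h).t r) ∈ Sx
  have h1 : U.hom ((grpd h).t r) = ((grpd h).t ≫ (grpd h).pU) r := rfl
  have h2 : U.hom x = ((grpd h).s ≫ (grpd h).pU) r := by rw [← hr']; rfl
  rw [h1, (grpd h).t_over, ← (grpd h).s_over, ← h2]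
  exact hxSx

lemma orbit_subset_of_isOpenImmersion [IsFinite s.left] {A : CommRingCat.{u}}
    (i : U.left ⟶ Spec A) [IsOpenImmersion i] (x : (grpd h).U) :
    ∃ V : (grpd h).U.Opens, IsAffineOpen V ∧
      (grpd h).t '' ((grpd h).s ⁻¹' {x}) ⊆ (V : Set (grpd h).U) := by
  have : IsFinite (grpd h).s := ‹IsFinite s.left›
  let O : Set U.left := (grpd h).t '' ((grpd h).s ⁻¹' {x})
  have hOfin : O.Finite := ((grpd h).s.finite_preimage_singleton x).image _
  obtain ⟨f, hf1, hf2⟩ := Lib.AffComp13a.exists_basicOpen_of_finite_of_isAffineOpen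
    (isAffineOpen_top (Spec A)) i.opensRange (i '' O) (hOfin.image _) (fun _ _ => trivial)
    (by rintro _ ⟨y, -, rfl⟩; exact ⟨y, rfl⟩)
  refine ⟨i ⁻¹ᵁ ((Spec A).basicOpen f),
    ((isAffineOpen_top (Spec A)).basicOpen f).preimage_of_isOpenImmersion i hf2, ?_⟩
  intro y hy
  exact hf1 ⟨y, hy, rfl⟩

lemma orbit_subset_of_injective (hinj : Function.Injective s.left) (x : (grpd h).U) :
    ∃ V : (grpd h).U.Opens, IsAffineOpen V ∧
      (grpd h).t '' ((grpd h).s ⁻¹' {x}) ⊆ (V : Set (grpd h).U) := by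
  obtain ⟨V, hV, hxV, -⟩ :=
    exists_isAffineOpen_mem_and_subset (x := x) (U := ⊤) trivial
  refine ⟨V, hV, ?_⟩
  rintro _ ⟨r, hr, rfl⟩
  have hr' : (grpd h).s r = x := hr
  have he : (grpd h).s ((grpd h).e x) = x := by
    change ((grpd h).e ≫ (grpd h).s) x = x
    rw [(grpd h).e_s]; rfl
  have : r = (grpd h).e x := hinj (hr'.trans he.symm)
  rw [this]
  have het : (grpd h).t ((grpd h).e x) = x := by
    change ((grpd h).e ≫ (grpd h).t) x = x
    rw [(grpd h).e_t]; rfl
  rw [het]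
  exact hxV

end orbits

section main

/-- The quotient of a scheme by a free action of a finite locally free group scheme, when orbits lie
in affine opens. -/
theorem exists_quotient_of_free (hG : IsFinite G.hom ∧ Flat G.hom ∧ LocallyOfFinitePresentation G.hom)
    (hfree : ∀ (T : Over S) (g : T ⟶ G) (x : T ⟶ X), lift g x ≫ a.act = x → g = toUnit T ≫ η[G])
    (h3 : IsAffineHom X.hom ∨ (∃ (A : CommRingCat.{u}) (i : X.left ⟶ Spec A), IsOpenImmersion i) ∨
      UniversallyInjective G.hom) :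
    ∃ (M : Over S) (q : X ⟶ M), QuotSh.IsQuotient Scheme.fppfPrecoverage (snd G X) a.act q ∧
      IsPullback a.act.left (snd G X).left q.left q.left ∧
      NonAbH1.IsLocallyTrivialFor Scheme.fppfPrecoverage (Over.mk q.left) := by
  obtain ⟨hG1, hG2, hG3⟩ := hG
  have heqv := isEqvRel_of_free a hfree
  let Gr := grpd heqv
  have e1 : (snd G X).left = pullback.snd G.hom X.hom := rfl
  have i1 : IsFinite (snd G X).left := by rw [e1]; infer_instance
  have i2 : Flat (snd G X).left := by rw [e1]; infer_instance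
  have i3 : LocallyOfFinitePresentation (snd G X).left := by rw [e1]; infer_instance
  have j1 : IsFinite Gr.s := i1
  have j2 : Flat Gr.s := i2
  have j3 : LocallyOfFinitePresentation Gr.s := i3
  have : OrbAff Gr := by
    constructor
    rcases h3 with h3 | ⟨A, i, hi⟩ | h3
    · exact fun x => orbit_subset_of_isAffineHom heqv x
    · exact fun x => orbit_subset_of_isOpenImmersion heqv i x
    · have : UniversallyInjective (snd G X).left := by
        rw [e1]
        exact MorphismProperty.pullback_snd _ _ h3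
      exact fun x => orbit_subset_of_injective heqv (snd G X).left.injective x
  have : Mono Gr.j := mono_j heqv
  let q' : X ⟶ Over.mk (mY Gr) := Over.homMk (q Gr) (q_mY Gr)
  have k1 : Flat q'.left := flat_q Gr
  have k2 : LocallyOfFinitePresentation q'.left := lfp_q Gr
  have k3 : Surjective q'.left := ⟨q_surjective Gr⟩
  have hP : IsPullback a.act.left (snd G X).left q'.left q'.left := isPullback_t_s_q Gr
  have w : snd G X ≫ q' = a.act ≫ q' := Over.OverMorphism.ext hP.w.symm
  refine ⟨Over.mk (mY Gr), q', isQuotient_of_fppf_kernelPair (snd G X) a.act q' w hP, hP, ?_⟩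
  refine ⟨Presieve.singleton q'.left, Scheme.Hom.singleton_mem_fppfPrecoverage q'.left, ?_⟩
  rintro S' f ⟨⟩
  exact ⟨𝟙 _, Category.id_comp _⟩

end main

end Groth.Agent.Lib.H8FreeAction
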