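import Mathlib
import Groth.Agent.Lib.GrpdPts
import Groth.Agent.Lib.H30FibBC
import Groth.Agent.Lib.H86FibDimBC
import Groth.Agent.Lib.GrpDim45
import Groth.Agent.Lib.H30DimField
import Groth.Agent.Lib.AlgSpGenericPt
import Groth.Agent.Lib.FibreDimStrata

/-!
# Dimension theory of groupoid schemes over a field (helper8)

`(U, R, s, t, c)` a groupoid scheme with `U` a one-point scheme and `s`, `t` locally of finite type.
The two cartesian squares `(c, pr₀; t, t)` and `(c, pr₁; s, s)` of `Lib/GrpdPts`, together with the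
base change invariance of the local fibre dimension, show that the local dimension of `R` is
constant.
-/

set_option autoImplicit false
universe u
open CategoryTheory CategoryTheory.Limits AlgebraicGeometry

namespace Groth.Agent.Lib.H8GrpdDim

open Groth.Agent.Lib.GrpdPts

variable {S : Scheme.{u}} (G : Grpd.GroupoidScheme S) [LocallyOfFiniteType G.s]
  [LocallyOfFiniteType G.t]

theorem localDim_snd_eq_c [Subsingleton ↥G.U] (z : ↥(pullback G.s G.t)) :
    FlatMor.localDim ↥G.R (pullback.snd G.s G.t z) = FlatMor.localDim ↥G.R (G.c z) := by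
  have h1 := Groth.Agent.Lib.H30FibBC.fibreDimAt_eq_of_isPullback G.t G.t G.c
    (pullback.fst G.s G.t) (isPullback_c_fst G) z
  have h2 := Groth.Agent.Lib.H30FibBC.fibreDimAt_eq_of_isPullback G.t G.s (pullback.snd G.s G.t)
    (pullback.fst G.s G.t) (IsPullback.of_hasPullback G.s G.t).flip z
  rw [h1, Groth.Agent.Lib.H86FibDimBC.fibreDimAt_eq_localDim_of_subsingleton,
    Groth.Agent.Lib.H86FibDimBC.fibreDimAt_eq_localDim_of_subsingleton] at h2
  exact h2.symm

theorem localDim_fst_eq_c [Subsingleton ↥G.U] (z : ↥(pullback G.s G.t)) :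
    FlatMor.localDim ↥G.R (pullback.fst G.s G.t z) = FlatMor.localDim ↥G.R (G.c z) := by
  have h1 := Groth.Agent.Lib.H30FibBC.fibreDimAt_eq_of_isPullback G.s G.s G.c
    (pullback.snd G.s G.t) (isPullback_c_snd G) z
  have h2 := Groth.Agent.Lib.H30FibBC.fibreDimAt_eq_of_isPullback G.s G.t (pullback.fst G.s G.t)
    (pullback.snd G.s G.t) (IsPullback.of_hasPullback G.s G.t) z
  rw [h1, Groth.Agent.Lib.H86FibDimBC.fibreDimAt_eq_localDim_of_subsingleton,
    Groth.Agent.Lib.H86FibDimBC.fibreDimAt_eq_localDim_of_subsingleton] at h2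
  exact h2.symm

/-- the local dimension of `R` is constant -/
theorem localDim_const [Subsingleton ↥G.U] (r r' : ↥G.R) :
    FlatMor.localDim ↥G.R r = FlatMor.localDim ↥G.R r' := by
  obtain ⟨z, hz1, hz2⟩ := Scheme.Pullback.exists_preimage_pullback (f := G.s) (g := G.t) r r'
    (Subsingleton.elim _ _)
  rw [← hz1, ← hz2, localDim_fst_eq_c, localDim_snd_eq_c]

/-- the local dimension of `R` at every point is `dim R` -/
theorem localDim_eq_dim [Subsingleton ↥G.U] (r : ↥G.R) :
    FlatMor.localDim ↥G.R r = topologicalKrullDim ↥G.R := by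
  have h := Groth.Agent.Lib.GrpDim45.dim_open_eq_of_localDim_const
    (d := FlatMor.localDim ↥G.R r) (fun x => localDim_const G x r) ⊤ ⟨r, trivial⟩
  rw [← h]
  exact (Homeomorph.Set.univ ↥G.R).isHomeomorph.topologicalKrullDim_eq

section field

omit [LocallyOfFiniteType G.s] [LocallyOfFiniteType G.t] in
theorem subsingleton_U (k : Type u) [Field k] (eU : G.U ≅ Spec (CommRingCat.of k)) :
    Subsingleton ↥G.U := by
  have : Subsingleton ↥(Spec (CommRingCat.of k)) :=
    inferInstanceAs (Subsingleton (PrimeSpectrum k))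
  exact (Scheme.homeoOfIso eU).injective.subsingleton

/-- local rings at closed points have dimension `dim R` -/
theorem ringKrullDim_stalk_eq_dim (k : Type u) [Field k] (eU : G.U ≅ Spec (CommRingCat.of k))
    (r : ↥G.R) (hr : IsClosed ({r} : Set ↥G.R)) :
    (ringKrullDim (G.R.presheaf.stalk r) : WithBot ℕ∞) = topologicalKrullDim ↥G.R := by
  have := subsingleton_U G k eU
  let _ : G.R.Over (Spec (CommRingCat.of k)) := ⟨G.s ≫ eU.hom⟩
  have hlft : LocallyOfFiniteType (G.R ↘ Spec (CommRingCat.of k)) :=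
    inferInstanceAs (LocallyOfFiniteType (G.s ≫ eU.hom))
  have h1 := Groth.Agent.Lib.H30DimField.localDim_eq k G.R r
  have h2 := Groth.Agent.Lib.H30DimField.td_eq_zero_of_isClosed k G.R r hr
  rw [h2, localDim_eq_dim G r] at h1
  simpa using h1.symm

/-- irreducible components have dimension `dim R` -/
theorem dim_irreducibleComponent_eq (k : Type u) [Field k] (eU : G.U ≅ Spec (CommRingCat.of k))
    (Z : Set ↥G.R) (hZ : Z ∈ irreducibleComponents ↥G.R) :
    topologicalKrullDim ↥Z = topologicalKrullDim ↥G.R := by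
  have := subsingleton_U G k eU
  let _ : G.R.Over (Spec (CommRingCat.of k)) := ⟨G.s ≫ eU.hom⟩
  have hlft : LocallyOfFiniteType (G.R ↘ Spec (CommRingCat.of k)) :=
    inferInstanceAs (LocallyOfFiniteType (G.s ≫ eU.hom))
  apply le_antisymm (topologicalKrullDim_subspace_le _ _)
  have hZirr : IsIrreducible Z := hZ.1
  have hZcl : IsClosed Z := isClosed_of_mem_irreducibleComponents Z hZ
  obtain ⟨ξ, hξ⟩ := QuasiSober.sober hZirr hZcl
  have hmax : ∀ u' : ↥G.R, u' ⤳ ξ → u' = ξ := by
    intro u' hu'
    have h1 : Z ⊆ closure {u'} := by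
      rw [← hξ.def]
      exact closure_minimal (Set.singleton_subset_iff.mpr hu'.mem_closure) isClosed_closure
    have h2 : closure {u'} = Z := (hZ.2 isIrreducible_singleton.closure h1).antisymm h1
    have h3 : IsGenericPoint u' Z := h2
    exact h3.eq hξ
  have h0 := (Groth.Agent.Lib.AlgSpGenericPt.ringKrullDim_stalk_eq_zero_iff ξ).2 hmax
  have h1 := Groth.Agent.Lib.H30DimField.localDim_eq k G.R ξ
  rw [h0, localDim_eq_dim G ξ, zero_add] at h1
  rw [h1]
  exact Groth.Agent.Lib.FibreDimStrata.td_le_dim_closed k G.R Z hZcl ξ hξ.mem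

end field

end Groth.Agent.Lib.H8GrpdDim
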