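import Groth.Agent.Lib.H8GrpdQuotGlobal
import Groth.Agent.S7490
import Groth.Agent.Lib.H69QuotPres
import Groth.Agent.Lib.H69DescentAffine
import Groth.Prelude.Def_AlgSp

/-!
# The quotient by a finite locally free equivalence relation as an fppf quotient sheaf (helper8)
-/

set_option autoImplicit false
set_option linter.unusedSectionVars false
universe u
open CategoryTheory CategoryTheory.Limits AlgebraicGeometry
open Grpd

namespace Groth.Agent.Lib.H8GrpdQuot

open Groth.Agent.Lib.H8GrpdRestrict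

variable {S : Scheme.{u}}

section pointwise

variable (G : GroupoidScheme S) [IsFinite G.s] [Flat G.s] [LocallyOfFinitePresentation G.s]

/-- Pointwise version of `exists_invAff`. -/
theorem exists_invAff_of_point (u : G.U) (V : G.U.Opens) (hV : IsAffineOpen V)
    (huV : G.t '' (G.s ⁻¹' {u}) ⊆ (V : Set G.U))
    (Ω : G.U.Opens) (hΩ : G.s ⁻¹ᵁ Ω = G.t ⁻¹ᵁ Ω) (hu : u ∈ Ω) :
    ∃ W : InvAff G, u ∈ W.op ∧ W.op ≤ Ω := by
  classical
  have huS : u ∈ Lib.GrpdSat13.satOpens G V := fun r hr => huV ⟨r, hr, rfl⟩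
  let O : Set G.U := G.t '' (G.s ⁻¹' {u})
  have hOfin : O.Finite := (G.s.finite_preimage_singleton u).image _
  have hOW : O ⊆ Lib.GrpdSat13.satOpens G V := by
    rintro _ ⟨r, hr, rfl⟩
    have hr' : G.s r = u := hr
    exact Lib.GrpdSat13.t_mem_sat_of_s_mem_sat G V r (by rw [hr']; exact huS)
  have hOV : O ⊆ V := fun x hx => Lib.GrpdSat13.satOpens_le G V (hOW hx)
  have hOΩ : O ⊆ Ω := by
    rintro _ ⟨r, hr, rfl⟩
    have hr' : G.s r = u := hr
    exact t_mem_of_s_mem hΩ r (by rw [hr']; exact hu)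
  obtain ⟨f, hf1, hf2⟩ := Lib.AffComp13a.exists_basicOpen_of_finite_of_isAffineOpen hV
    (Lib.GrpdSat13.satOpens G V ⊓ Ω) O hOfin hOV (fun x hx => ⟨hOW hx, hOΩ hx⟩)
  have hD : IsAffineOpen (G.U.basicOpen f) := hV.basicOpen f
  have hle : G.s ⁻¹ᵁ G.U.basicOpen f ≤ G.t ⁻¹ᵁ V := by
    intro r hr
    exact (hf2 hr).1 r rfl
  refine ⟨⟨Lib.GrpdSat13.satOpens G (G.U.basicOpen f),
    Lib.GrpdSat13.isAffineOpen_satOpens G V f hD hle, Lib.GrpdSat13.preimage_satOpens G _⟩, ?_, ?_⟩
  · intro r hr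
    exact hf1 ⟨r, hr, rfl⟩
  · intro x hx
    exact (hf2 (Lib.GrpdSat13.satOpens_le G _ hx)).2

/-- If every nonempty closed subset contains a point whose orbit lies in an affine open, then every
orbit lies in an affine open. -/
theorem orbAff_of_closed
    (h3 : ∀ Z : Set G.U, IsClosed Z → Z.Nonempty →
      ∃ u ∈ Z, ∃ W : G.U.Opens, IsAffineOpen W ∧ ∀ r : G.R, G.s r = u → G.t r ∈ W) :
    OrbAff G := by
  let W₀ : G.U.Opens := ⨆ W : InvAff G, W.op
  have htop : W₀ = ⊤ := by
    by_contra hne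
    have hZ : ((W₀ : Set G.U)ᶜ).Nonempty := by
      rw [Set.nonempty_compl]
      intro h
      exact hne (TopologicalSpace.Opens.ext h)
    obtain ⟨u, huZ, V, hV, hVu⟩ := h3 _ W₀.isOpen.isClosed_compl hZ
    have huV : G.t '' (G.s ⁻¹' {u}) ⊆ (V : Set G.U) := by
      rintro _ ⟨r, hr, rfl⟩
      exact hVu r hr
    obtain ⟨W, huW, -⟩ := exists_invAff_of_point G u V hV huV ⊤ rfl trivial
    exact huZ (TopologicalSpace.Opens.mem_iSup.mpr ⟨W, huW⟩)
  constructor
  intro x
  have hx : x ∈ W₀ := htop ▸ trivial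
  obtain ⟨W, hxW⟩ := TopologicalSpace.Opens.mem_iSup.mp hx
  refine ⟨W.op, W.isAffine, ?_⟩
  rintro _ ⟨r, hr, rfl⟩
  have hr' : G.s r = x := hr
  exact t_mem_of_s_mem W.inv r (by rw [hr']; exact hxW)

end pointwise

section eqv

variable (G : GroupoidScheme S)

/-- `s` as a morphism over `S`. -/
abbrev sO : Over.mk G.pR ⟶ Over.mk G.pU := Over.homMk G.s G.s_over
/-- `t` as a morphism over `S`. -/
abbrev tO : Over.mk G.pR ⟶ Over.mk G.pU := Over.homMk G.t G.t_over

theorem mono_j_of_isEqvRel (heq : AlgSp.IsEqvRel (sO G) (tO G)) : Mono G.j := by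
  constructor
  intro T α β h
  have h1 : α ≫ G.t = β ≫ G.t := by
    have := congrArg (fun φ => φ ≫ pullback.fst _ _) h
    simp only [Category.assoc] at this
    rwa [GroupoidScheme.j, pullback.lift_fst] at this
  have h2 : α ≫ G.s = β ≫ G.s := by
    have := congrArg (fun φ => φ ≫ pullback.snd _ _) h
    simp only [Category.assoc] at this
    rwa [GroupoidScheme.j, pullback.lift_snd] at this
  have hβ : β ≫ G.pR = α ≫ G.pR := by
    rw [← G.s_over, ← Category.assoc, ← Category.assoc, h2]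
  let r : Over.mk (α ≫ G.pR) ⟶ Over.mk G.pR := Over.homMk α rfl
  let r' : Over.mk (α ≫ G.pR) ⟶ Over.mk G.pR := Over.homMk β hβ
  have := heq.injective (Over.mk (α ≫ G.pR)) r r' (Over.OverMorphism.ext h1)
    (Over.OverMorphism.ext h2)
  exact congrArg (fun φ => φ.left) this

end eqv

section fppf

/-- An fppf covering `q : U ⟶ M` with kernel pair `(t, s)` exhibits `M` as the fppf quotient sheaf. -/
theorem isQuotient_of_fppf_kernelPair {R U M : Over S} (s t : R ⟶ U) (q : U ⟶ M)
    (w : s ≫ q = t ≫ q) (hP : IsPullback t.left s.left q.left q.left)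
    [Flat q.left] [LocallyOfFinitePresentation q.left] [Surjective q.left] :
    QuotSh.IsQuotient Scheme.fppfPrecoverage s t q := by
  refine ⟨w, ?_⟩
  have hP' : IsPullback t s q q := by
    apply IsPullback.of_map (Over.forget S) (w.symm)
    exact hP
  have hepi : Epi (QuotSh.repMap Scheme.fppfPrecoverage q) := by
    have hloc := Groth.Agent.Lib.H69DescentAffine.isLocallySurjective_yon_map q
    have hepi0 : Epi ((AlgSp.yon S).map q) := (Sheaf.isLocallySurjective_iff_epi _).1 hloc
    have h1 : QuotSh.repMap Scheme.fppfPrecoverage q =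
        (Groth.Agent.Lib.H69QuotPres.rIso _).hom ≫ (AlgSp.yon S).map q ≫
          (Groth.Agent.Lib.H69QuotPres.rIso _).inv := by
      rw [← Category.assoc, ← Groth.Agent.Lib.H69QuotPres.rIso_naturality, Category.assoc,
        Iso.hom_inv_id, Category.comp_id]
    rw [h1]
    infer_instance
  have hid : Epi (QuotSh.repMap Scheme.fppfPrecoverage (𝟙 R)) := by
    have : QuotSh.repMap Scheme.fppfPrecoverage (𝟙 R) = 𝟙 _ := by
      change (Groth.Agent.S7490.repF Scheme.fppfPrecoverage).map (𝟙 R) = 𝟙 _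
      exact (Groth.Agent.S7490.repF Scheme.fppfPrecoverage).map_id _
    rw [this]
    infer_instance
  exact Groth.Agent.S7490.main Scheme.fppfPrecoverage _ _ _ w _ _ hP' (𝟙 _)
    (Category.id_comp _) (Category.id_comp _) hepi hid

end fppf

section overS

variable (G : GroupoidScheme S) [IsFinite G.s] [Flat G.s] [LocallyOfFinitePresentation G.s]
  [OrbAff G]

lemma exists_structure_map : ∃ m : Y G ⟶ S, q G ≫ m = G.pU :=
  exists_desc G G.pU (by rw [G.s_over, G.t_over])

/-- The structure morphism of the quotient. -/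
noncomputable def mY : Y G ⟶ S := (exists_structure_map G).choose

@[reassoc]
lemma q_mY : q G ≫ mY G = G.pU := (exists_structure_map G).choose_spec

/-- `q` as a morphism over `S`. -/
noncomputable abbrev qO : Over.mk G.pU ⟶ Over.mk (mY G) := Over.homMk (q G) (q_mY G)

theorem isQuotient_qO [Mono G.j] :
    QuotSh.IsQuotient Scheme.fppfPrecoverage (sO G) (tO G) (qO G) := by
  have : Flat (qO G).left := flat_q G
  have : LocallyOfFinitePresentation (qO G).left := lfp_q G
  have : Surjective (qO G).left := ⟨q_surjective G⟩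
  exact isQuotient_of_fppf_kernelPair (sO G) (tO G) (qO G)
    (Over.OverMorphism.ext (q_comm G).symm) (isPullback_t_s_q G)

end overS

end Groth.Agent.Lib.H8GrpdQuot
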