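import Mathlib.AlgebraicGeometry.Morphisms.Immersion
import Mathlib.AlgebraicGeometry.Morphisms.ClosedImmersion
import Mathlib.AlgebraicGeometry.Morphisms.IsIso
import Mathlib.AlgebraicGeometry.Morphisms.LocalIso
import Mathlib.AlgebraicGeometry.Morphisms.FlatMono
import Mathlib.AlgebraicGeometry.Morphisms.Flat
import Mathlib.AlgebraicGeometry.Morphisms.FinitePresentation
import Mathlib.AlgebraicGeometry.Restrict
import Mathlib.AlgebraicGeometry.AffineScheme

/-!
# Auxiliary lemmas for quotients (helper8)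

* `epi_of_injective_appTop_of_surjective`: a surjective morphism of affine schemes which is injective
  on global sections is an epimorphism of schemes.
-/

set_option autoImplicit false
universe u
open CategoryTheory CategoryTheory.Limits AlgebraicGeometry

namespace Groth.Agent.Lib.H8QuotAux

/-- A surjective morphism to an affine scheme that is injective on global sections is an
epimorphism in the category of schemes. -/
theorem epi_of_injective_appTop_of_surjective {X Y : Scheme.{u}} [IsAffine Y] (π : X ⟶ Y)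
    (hinj : Function.Injective π.appTop.hom) (hsurj : Function.Surjective π) : Epi π := by
  constructor
  intro Z h₁ h₂ h
  let ι := equalizer.ι h₁ h₂
  let π' : X ⟶ equalizer h₁ h₂ := equalizer.lift π h
  have hπ' : π' ≫ ι = π := equalizer.lift_ι π h
  have hιsurj : Function.Surjective ι := by
    intro y
    obtain ⟨x, rfl⟩ := hsurj y
    refine ⟨π' x, ?_⟩
    rw [← Scheme.Hom.comp_apply, hπ']
  have hclosed : IsClosed (Set.range ι) := by
    rw [hιsurj.range_eq]; exact isClosed_univ
  have hci : IsClosedImmersion ι := .of_isPreimmersion _ hclosed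
  obtain ⟨haff, hsurjtop⟩ := IsClosedImmersion.isAffine_surjective_of_isAffine ι
  have hinjtop : Function.Injective ι.appTop.hom := by
    intro a b hab
    apply hinj
    rw [← hπ', Scheme.Hom.comp_appTop]
    simp only [CommRingCat.hom_comp, RingHom.coe_comp, Function.comp_apply]
    rw [hab]
  have hiso : IsIso ι.appTop :=
    (ConcreteCategory.isIso_iff_bijective _).mpr ⟨hinjtop, hsurjtop⟩
  have : IsIso ι :=
    (HasAffineProperty.iff_of_isAffine (P := MorphismProperty.isomorphisms Scheme)).mpr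
      ⟨haff, hiso⟩
  rw [← cancel_epi ι]
  exact equalizer.condition h₁ h₂

/-- An injective local isomorphism is an open immersion. -/
theorem isOpenImmersion_of_isLocalIso_of_injective {X Y : Scheme.{u}} (f : X ⟶ Y) [IsLocalIso f]
    (hinj : Function.Injective f) : IsOpenImmersion f := by
  choose V hxV hV using fun x => IsLocalIso.exists_isOpenImmersion (f := f) x
  have hVtop : iSup V = ⊤ := top_le_iff.mp fun x _ => by
    simpa using ⟨x, hxV x⟩
  have hflat : Flat f := by
    rw [IsZariskiLocalAtSource.iff_of_iSup_eq_top (P := @Flat) V hVtop]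
    intro x
    have := hV x
    infer_instance
  have hlfp : LocallyOfFinitePresentation f := by
    rw [IsZariskiLocalAtSource.iff_of_iSup_eq_top (P := @LocallyOfFinitePresentation) V hVtop]
    intro x
    have := hV x
    infer_instance
  have hmono : Mono f := by
    constructor
    intro T h₁ h₂ h
    have hpt : ∀ t, h₁ t = h₂ t := by
      intro t
      apply hinj
      have := congrArg (fun φ : T ⟶ Y => φ t) h
      simpa using this
    apply Scheme.hom_ext_of_forall
    intro t
    obtain ⟨U, hxU, hU⟩ := IsLocalIso.exists_isOpenImmersion (f := f) (h₁ t)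
    let T' : T.Opens := h₁ ⁻¹ᵁ U ⊓ h₂ ⁻¹ᵁ U
    have htT' : t ∈ T' := ⟨hxU, by change h₂ t ∈ U; rw [← hpt]; exact hxU⟩
    refine ⟨T', htT', ?_⟩
    have hr1 : Set.range (T'.ι ≫ h₁) ⊆ Set.range U.ι := by
      rintro _ ⟨y, rfl⟩
      rw [Scheme.Opens.range_ι]
      exact y.2.1
    have hr2 : Set.range (T'.ι ≫ h₂) ⊆ Set.range U.ι := by
      rintro _ ⟨y, rfl⟩
      rw [Scheme.Opens.range_ι]
      exact y.2.2
    let l₁ := IsOpenImmersion.lift U.ι (T'.ι ≫ h₁) hr1
    let l₂ := IsOpenImmersion.lift U.ι (T'.ι ≫ h₂) hr2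
    have e₁ : l₁ ≫ U.ι = T'.ι ≫ h₁ := IsOpenImmersion.lift_fac _ _ _
    have e₂ : l₂ ≫ U.ι = T'.ι ≫ h₂ := IsOpenImmersion.lift_fac _ _ _
    have : l₁ = l₂ := by
      rw [← cancel_mono (U.ι ≫ f), ← Category.assoc, ← Category.assoc, e₁, e₂, Category.assoc,
        Category.assoc, h]
    rw [← e₁, ← e₂, this]
  exact IsOpenImmersion.of_flat_of_mono f

/-- For `D = D(c)` a basic open of the affine open `W`, `Γ(↥D, ⊤)` is the localization of
`Γ(↥W, ⊤)` away from `c`. -/
theorem isLocalization_away_homOfLE {X : Scheme.{u}} {W D : X.Opens} (hW : IsAffineOpen W)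
    (hDW : D ≤ W) (c : Γ(W.toScheme, ⊤)) (hD : D = W.ι ''ᵁ (W.toScheme.basicOpen c)) :
    letI := (X.homOfLE hDW).appTop.hom.toAlgebra
    IsLocalization.Away c Γ(D.toScheme, ⊤) := by
  have hU : IsAffineOpen (W.ι ''ᵁ ⊤) := by rw [W.ι_image_top]; exact hW
  have e : D.ι ''ᵁ ⊤ = X.basicOpen (c : Γ(X, W.ι ''ᵁ ⊤)) := by
    rw [D.ι_image_top, hD, Scheme.Opens.ι_image_basicOpen]
  have hle : D.ι ''ᵁ ⊤ ≤ W.ι ''ᵁ ⊤ := by
    rw [D.ι_image_top, W.ι_image_top]; exact hDW
  have := hU.isLocalization_of_eq_basicOpen c (homOfLE hle) e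
  have h2 : (X.homOfLE hDW).appTop = X.presheaf.map (homOfLE hle).op := X.homOfLE_appTop hDW
  rw [h2]
  exact this

/-- For an open immersion `j : T ⟶ Z` into an affine scheme with range the basic open `D(c)`,
`Γ(T, ⊤)` is the localization of `Γ(Z, ⊤)` away from `c`. -/
theorem isLocalization_away_of_isOpenImmersion {T Z : Scheme.{u}} [IsAffine Z] (j : T ⟶ Z)
    [IsOpenImmersion j] (c : Γ(Z, ⊤)) (hj : j.opensRange = Z.basicOpen c) :
    letI := j.appTop.hom.toAlgebra
    IsLocalization.Away c Γ(T, ⊤) := by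
  have e : j ''ᵁ ⊤ = Z.basicOpen c := by rw [← hj, Scheme.Hom.image_top_eq_opensRange]
  have h1 := (isAffineOpen_top Z).isLocalization_of_eq_basicOpen c
    (homOfLE le_top : j ''ᵁ ⊤ ⟶ ⊤) e
  let alg1 : Algebra Γ(Z, ⊤) Γ(Z, j ''ᵁ ⊤) :=
    (Z.presheaf.map (homOfLE le_top : j ''ᵁ ⊤ ⟶ ⊤).op).hom.toAlgebra
  have h2 := (IsLocalization.isLocalization_iff_of_ringEquiv (Submonoid.powers c)
    (j.appIso ⊤).commRingCatIsoToRingEquiv).mp h1
  unfold IsLocalization.Away
  convert h2 using 1
  apply Algebra.algebra_ext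
  intro r
  change j.appTop.hom r = (j.appIso ⊤).hom.hom ((Z.presheaf.map _).hom r)
  rw [Scheme.Hom.appIso_hom']
  have := Scheme.Hom.map_appLE j (show (⊤ : T.Opens) ≤ j ⁻¹ᵁ (j ''ᵁ ⊤) from
    (j.preimage_image_eq ⊤).ge) (homOfLE le_top : j ''ᵁ ⊤ ⟶ ⊤).op
  rw [← CommRingCat.comp_apply, this]
  have h3 : j.appLE ⊤ ⊤ le_rfl = j.appTop := Scheme.Hom.appLE_eq_app j (U := ⊤)
  exact (congrArg (fun φ => φ.hom r) h3).symm

section eqLocusLoc

variable {A B A' B' : Type*} [CommRing A] [CommRing B] [CommRing A'] [CommRing B']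
  [Algebra A A'] [Algebra B B'] (s t : A →+* B) (s' t' : A' →+* B') (c : A)
  [IsLocalization.Away c A'] [IsLocalization.Away (s c) B']
  (hs : ∀ a, s' (algebraMap A A' a) = algebraMap B B' (s a))
  (ht : ∀ a, t' (algebraMap A A' a) = algebraMap B B' (t a))
  (hc : s c = t c)

include hs ht in
/-- `algebraMap` sends the equalizer of `s, t` into the equalizer of `s', t'`. -/
lemma algebraMap_mem_eqLocus (a : A) (ha : a ∈ RingHom.eqLocus s t) :
    algebraMap A A' a ∈ RingHom.eqLocus s' t' := by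
  change s' _ = t' _
  rw [hs, ht]
  exact congrArg _ ha

/-- The induced map on equalizers. -/
def eqLocusMap : RingHom.eqLocus s t →+* RingHom.eqLocus s' t' :=
  ((algebraMap A A').comp (RingHom.eqLocus s t).subtype).codRestrict _
    (fun a => algebraMap_mem_eqLocus s t s' t' hs ht a.1 a.2)

include hc in
/-- Localization commutes with the equalizer of two ring maps agreeing on `c`. -/
theorem isLocalization_eqLocus :
    letI := (eqLocusMap s t s' t' hs ht).toAlgebra
    IsLocalization.Away (⟨c, hc⟩ : RingHom.eqLocus s t) (RingHom.eqLocus s' t') := by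
  let _ := (eqLocusMap s t s' t' hs ht).toAlgebra
  have halg : ∀ x : RingHom.eqLocus s t,
      ((algebraMap (RingHom.eqLocus s t) (RingHom.eqLocus s' t') x : RingHom.eqLocus s' t') : A') =
        algebraMap A A' x.1 := fun _ => rfl
  have hunit : IsUnit (algebraMap A A' c) := IsLocalization.Away.algebraMap_isUnit c
  unfold IsLocalization.Away
  rw [isLocalization_iff]
  refine ⟨?_, ?_, ?_⟩
  · -- units
    rintro ⟨y, n, rfl⟩
    rw [map_pow]
    refine IsUnit.pow n ?_
    obtain ⟨u, hu⟩ := hunit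
    have hsu : s' (↑u⁻¹ : A') = t' (↑u⁻¹ : A') := by
      have h1 : Units.map (s' : A' →* B') u = Units.map (t' : A' →* B') u := by
        ext
        change s' u = t' u
        rw [hu, hs, ht, hc]
      have h2 := congrArg (fun v : B'ˣ => ((v⁻¹ : B'ˣ) : B')) h1
      simpa using h2
    refine isUnit_iff_exists.mpr ⟨⟨(↑u⁻¹ : A'), hsu⟩, ?_, ?_⟩
    · apply Subtype.ext
      change algebraMap A A' c * ↑u⁻¹ = 1
      rw [← hu]; simp
    · apply Subtype.ext
      change ↑u⁻¹ * algebraMap A A' c = 1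
      rw [← hu]; simp
  · -- surjectivity
    intro z
    obtain ⟨⟨a, ⟨_, n, rfl⟩⟩, ha⟩ := IsLocalization.surj (Submonoid.powers c) (z.1 : A')
    simp only at ha
    have hz : s' z.1 = t' z.1 := z.2
    have h1 : algebraMap B B' (s a) = algebraMap B B' (t a) := by
      rw [← hs, ← ht, ← ha, map_mul, map_mul, hz, hs, ht, map_pow s, map_pow t, hc]
    obtain ⟨⟨_, m, rfl⟩, hm⟩ := (IsLocalization.eq_iff_exists (Submonoid.powers (s c)) B').mp h1
    simp only at hm
    have ha' : c ^ m * a ∈ RingHom.eqLocus s t := by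
      change s (c ^ m * a) = t (c ^ m * a)
      rw [map_mul, map_mul, map_pow, map_pow, hm, hc]
    refine ⟨⟨⟨c ^ m * a, ha'⟩, ⟨⟨c, hc⟩ ^ (n + m), n + m, rfl⟩⟩, ?_⟩
    apply Subtype.ext
    change z.1 * algebraMap A A' (c ^ (n + m)) = algebraMap A A' (c ^ m * a)
    rw [pow_add, map_mul, ← mul_assoc, ha, map_mul]
    ring
  · -- exists_of_eq
    intro x y hxy
    have h1 : algebraMap A A' x.1 = algebraMap A A' y.1 := congrArg Subtype.val hxy
    obtain ⟨⟨_, m, rfl⟩, hm⟩ := (IsLocalization.eq_iff_exists (Submonoid.powers c) A').mp h1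
    simp only at hm
    refine ⟨⟨⟨c, hc⟩ ^ m, m, rfl⟩, ?_⟩
    apply Subtype.ext
    exact hm

end eqLocusLoc

end Groth.Agent.Lib.H8QuotAux
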