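import Groth.Agent.Lib.H8GrpdRestrict
import Groth.Agent.Lib.H8AffGrpdPoly
import Groth.Agent.Lib.AffGrpd13f
import Groth.Agent.Lib.AffComp13a
import Groth.Agent.S1878
import Groth.Agent.Lib.H8QuotAux

/-!
# Local pieces of the quotient of a scheme by a finite locally free groupoid (helper8)

SGA 3 V Théorème 4.1: `G` a groupoid scheme with `s` finite locally free such that every orbit
`t(s⁻¹ x)` lies in an affine open.

* `InvAff G`: invariant affine opens of `G.U`; `exists_invAff` (they form a basis of the invariant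
  opens);
* `invMap`, `toQuot_invMap`: functoriality of invariants / of `toQuot`;
-/

set_option autoImplicit false
set_option linter.unusedSectionVars false
universe u
open CategoryTheory CategoryTheory.Limits AlgebraicGeometry
open Grpd

namespace Groth.Agent.Lib.H8GrpdQuot

open Groth.Agent.Lib.H8GrpdRestrict

variable {S : Scheme.{u}}

section invMap

variable {G₁ G₂ : GroupoidScheme S} (fU : G₁.U ⟶ G₂.U) (fR : G₁.R ⟶ G₂.R)
  (hs : fR ≫ G₂.s = G₁.s ≫ fU) (ht : fR ≫ G₂.t = G₁.t ≫ fU)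

include hs ht in
lemma appTop_mem_invariants (a : Γ(G₂.U, ⊤)) (ha : a ∈ G₂.invariants) :
    fU.appTop.hom a ∈ G₁.invariants := by
  change G₁.s.appTop.hom (fU.appTop.hom a) = G₁.t.appTop.hom (fU.appTop.hom a)
  have h1 : G₁.s.appTop.hom (fU.appTop.hom a) = fR.appTop.hom (G₂.s.appTop.hom a) := by
    have := congrArg (fun φ : G₁.R ⟶ G₂.U => φ.appTop.hom a) hs
    simpa [Scheme.Hom.comp_appTop] using this.symm
  have h2 : G₁.t.appTop.hom (fU.appTop.hom a) = fR.appTop.hom (G₂.t.appTop.hom a) := by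
    have := congrArg (fun φ : G₁.R ⟶ G₂.U => φ.appTop.hom a) ht
    simpa [Scheme.Hom.comp_appTop] using this.symm
  rw [h1, h2]
  exact congrArg _ ha

/-- The map on invariants induced by a morphism compatible with source and target. -/
noncomputable def invMap : G₂.invariants →+* G₁.invariants :=
  (fU.appTop.hom.comp G₂.invariants.subtype).codRestrict G₁.invariants
    (fun a => appTop_mem_invariants fU fR hs ht a.1 a.2)

@[simp] lemma invMap_coe (a : G₂.invariants) :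
    ((invMap fU fR hs ht a : G₁.invariants) : Γ(G₁.U, ⊤)) = fU.appTop.hom a.1 := rfl

lemma toQuot_invMap :
    G₁.toQuot ≫ Spec.map (CommRingCat.ofHom (invMap fU fR hs ht)) = fU ≫ G₂.toQuot := by
  unfold GroupoidScheme.toQuot
  rw [Category.assoc, ← Spec.map_comp, ← Category.assoc fU, Scheme.toSpecΓ_naturality,
    Category.assoc, ← Spec.map_comp]
  rfl

end invMap

section invAff

variable (G : GroupoidScheme S)

/-- Invariant affine opens of `G.U`. -/
structure InvAff : Type u where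
  /-- the underlying open -/
  op : G.U.Opens
  isAffine : IsAffineOpen op
  inv : G.s ⁻¹ᵁ op = G.t ⁻¹ᵁ op

instance : Preorder (InvAff G) := Preorder.lift InvAff.op

variable {G}

lemma InvAff.le_iff {W₁ W₂ : InvAff G} : W₁ ≤ W₂ ↔ W₁.op ≤ W₂.op := Iff.rfl

lemma t_mem_of_s_mem {Ω : G.U.Opens} (hΩ : G.s ⁻¹ᵁ Ω = G.t ⁻¹ᵁ Ω) (r : G.R) (h : G.s r ∈ Ω) :
    G.t r ∈ Ω := by
  have : r ∈ G.t ⁻¹ᵁ Ω := hΩ ▸ (show r ∈ G.s ⁻¹ᵁ Ω from h)
  exact this

lemma s_mem_of_t_mem {Ω : G.U.Opens} (hΩ : G.s ⁻¹ᵁ Ω = G.t ⁻¹ᵁ Ω) (r : G.R) (h : G.t r ∈ Ω) :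
    G.s r ∈ Ω := by
  have : r ∈ G.s ⁻¹ᵁ Ω := hΩ ▸ (show r ∈ G.t ⁻¹ᵁ Ω from h)
  exact this

variable (G) [IsFinite G.s] [Flat G.s] [LocallyOfFinitePresentation G.s]

/-- Invariant affine opens form a basis of the invariant opens. -/
theorem exists_invAff
    (horb : ∀ x : G.U, ∃ V : G.U.Opens, IsAffineOpen V ∧ G.t '' (G.s ⁻¹' {x}) ⊆ (V : Set G.U))
    (Ω : G.U.Opens) (hΩ : G.s ⁻¹ᵁ Ω = G.t ⁻¹ᵁ Ω) (u : G.U) (hu : u ∈ Ω) :
    ∃ W : InvAff G, u ∈ W.op ∧ W.op ≤ Ω := by
  classical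
  obtain ⟨V, hV, huV⟩ := horb u
  have huS : u ∈ Lib.GrpdSat13.satOpens G V := fun r hr => huV ⟨r, hr, rfl⟩
  let O : Set G.U := G.t '' (G.s ⁻¹' {u})
  have hOfin : O.Finite := (G.s.finite_preimage_singleton u).image _
  have hOW : O ⊆ Lib.GrpdSat13.satOpens G V := by
    rintro _ ⟨r, hr, rfl⟩
    have hr' : G.s r = u := hr
    exact Lib.GrpdSat13.t_mem_sat_of_s_mem_sat G V r (by rw [hr']; exact huS)
  have hOV : O ⊆ V := fun x hx => Lib.GrpdSat13.satOpens_le G V (hOW hx)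
  have hOΩ : O ⊆ Ω := by
    rintro _ ⟨r, hr, rfl⟩
    have hr' : G.s r = u := hr
    exact t_mem_of_s_mem hΩ r (by rw [hr']; exact hu)
  obtain ⟨f, hf1, hf2⟩ := Lib.AffComp13a.exists_basicOpen_of_finite_of_isAffineOpen hV
    (Lib.GrpdSat13.satOpens G V ⊓ Ω) O hOfin hOV (fun x hx => ⟨hOW hx, hOΩ hx⟩)
  have hD : IsAffineOpen (G.U.basicOpen f) := hV.basicOpen f
  have hle : G.s ⁻¹ᵁ G.U.basicOpen f ≤ G.t ⁻¹ᵁ V := by
    intro r hr
    exact (hf2 hr).1 r rfl
  refine ⟨⟨Lib.GrpdSat13.satOpens G (G.U.basicOpen f),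
    Lib.GrpdSat13.isAffineOpen_satOpens G V f hD hle, Lib.GrpdSat13.preimage_satOpens G _⟩, ?_, ?_⟩
  · intro r hr
    exact hf1 ⟨r, hr, rfl⟩
  · intro x hx
    exact (hf2 (Lib.GrpdSat13.satOpens_le G _ hx)).2

end invAff

section affine

open Groth.Agent.Lib.AffGrpd13

variable (G : GroupoidScheme S) [IsAffine G.U] [IsAffine G.R] [IsFinite G.s] [Flat G.s]
  [LocallyOfFinitePresentation G.s]

lemma isIntegral_invariants : Algebra.IsIntegral G.invariants Γ(G.U, ⊤) :=
  (ofGroupoid G).isIntegral (ofGroupoid_finite G) (ofGroupoid_projective G)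

instance isIntegralHom_toQuot : IsIntegralHom G.toQuot := by
  have h1 : IsIntegralHom (Spec.map (CommRingCat.ofHom G.invariants.subtype)) := by
    rw [IsIntegralHom.SpecMap_iff]
    exact algebraMap_isIntegral_iff.mpr (isIntegral_invariants G)
  unfold GroupoidScheme.toQuot
  infer_instance

lemma toQuot_surjective : Function.Surjective G.toQuot := by
  have := isFinite_t G
  have := flat_t G
  have := lfp_t G
  exact (Groth.Agent.S1878.result S G).1.1

lemma toQuot_eq_iff (u₀ u₁ : G.U) :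
    G.toQuot u₀ = G.toQuot u₁ ↔ ∃ r : G.R, G.t r = u₀ ∧ G.s r = u₁ := by
  have := isFinite_t G
  have := flat_t G
  have := lfp_t G
  exact (Groth.Agent.S1878.result S G).1.2 u₀ u₁

lemma toQuot_kpoints (k : Type u) [Field k] [IsAlgClosed k]
    (x₀ x₁ : Spec (CommRingCat.of k) ⟶ G.U) (h : x₀ ≫ G.toQuot = x₁ ≫ G.toQuot) :
    ∃ r : Spec (CommRingCat.of k) ⟶ G.R, r ≫ G.t = x₀ ∧ r ≫ G.s = x₁ := by
  have := isFinite_t G
  have := flat_t G
  have := lfp_t G
  exact ((Groth.Agent.S1878.result S G).2 k).2 x₀ x₁ |>.mp h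

end affine

section transition

variable (G : GroupoidScheme S) [IsFinite G.s] [Flat G.s] [LocallyOfFinitePresentation G.s]

/-- The restricted groupoid on an invariant affine open. -/
noncomputable abbrev GW (W : InvAff G) : GroupoidScheme S := restrictOpen G W.op W.inv

instance (W : InvAff G) : IsAffine (GW G W).U := isAffine_restrictOpen_U G W.op W.inv W.isAffine
instance (W : InvAff G) : IsAffine (GW G W).R := isAffine_restrictOpen_R G W.op W.inv W.isAffine

variable {G}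

/-- inclusion of objects -/
noncomputable abbrev iU (W : InvAff G) : (GW G W).U ⟶ G.U := ιU G W.op W.inv

/-- inclusion of arrows -/
noncomputable abbrev iR (W : InvAff G) : (GW G W).R ⟶ G.R := ιR G W.op W.inv

lemma range_iU_subset {W₀ W : InvAff G} (h : W₀ ≤ W) :
    Set.range (iU W₀) ⊆ Set.range (iU W) := by
  rw [range_ιU, range_ιU]; exact h

lemma range_iR_subset {W₀ W : InvAff G} (h : W₀ ≤ W) :
    Set.range (iR W₀) ⊆ Set.range (iR W) := by
  rw [range_ιR, range_ιR]; exact fun _ hx => h hx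

/-- transition on objects -/
noncomputable def fU {W₀ W : InvAff G} (h : W₀ ≤ W) : (GW G W₀).U ⟶ (GW G W).U :=
  IsOpenImmersion.lift (iU W) (iU W₀) (range_iU_subset h)

/-- transition on arrows -/
noncomputable def fR {W₀ W : InvAff G} (h : W₀ ≤ W) : (GW G W₀).R ⟶ (GW G W).R :=
  IsOpenImmersion.lift (iR W) (iR W₀) (range_iR_subset h)

@[reassoc]
lemma fU_ι {W₀ W : InvAff G} (h : W₀ ≤ W) : fU h ≫ iU W = iU W₀ :=
  IsOpenImmersion.lift_fac _ _ _

@[reassoc]
lemma fR_ι {W₀ W : InvAff G} (h : W₀ ≤ W) : fR h ≫ iR W = iR W₀ :=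
  IsOpenImmersion.lift_fac _ _ _

instance {W₀ W : InvAff G} (h : W₀ ≤ W) : IsOpenImmersion (fU h) := by
  have : IsOpenImmersion (fU h ≫ iU W) := by rw [fU_ι]; infer_instance
  exact IsOpenImmersion.of_comp (fU h) (iU W)

lemma fR_s {W₀ W : InvAff G} (h : W₀ ≤ W) : fR h ≫ (GW G W).s = (GW G W₀).s ≫ fU h := by
  refine (cancel_mono (iU W)).1 ?_
  rw [Category.assoc, Category.assoc, fU_ι, s_ιU, s_ιU, fR_ι_assoc]

lemma fR_t {W₀ W : InvAff G} (h : W₀ ≤ W) : fR h ≫ (GW G W).t = (GW G W₀).t ≫ fU h := by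
  refine (cancel_mono (iU W)).1 ?_
  rw [Category.assoc, Category.assoc, fU_ι, t_ιU, t_ιU, fR_ι_assoc]

lemma fU_refl (W : InvAff G) : fU (le_refl W) = 𝟙 _ := by
  refine (cancel_mono (iU W)).1 ?_
  rw [fU_ι, Category.id_comp]

lemma fU_trans {W₀ W₁ W₂ : InvAff G} (h₁ : W₀ ≤ W₁) (h₂ : W₁ ≤ W₂) :
    fU (h₁.trans h₂) = fU h₁ ≫ fU h₂ := by
  refine (cancel_mono (iU W₂)).1 ?_
  rw [fU_ι, Category.assoc, fU_ι, fU_ι]

/-- transition on invariants -/
noncomputable def ρ {W₀ W : InvAff G} (h : W₀ ≤ W) :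
    (GW G W).invariants →+* (GW G W₀).invariants :=
  invMap (fU h) (fR h) (fR_s h) (fR_t h)

lemma ρ_coe {W₀ W : InvAff G} (h : W₀ ≤ W) (a : (GW G W).invariants) :
    ((ρ h a : (GW G W₀).invariants) : Γ((GW G W₀).U, ⊤)) = (fU h).appTop.hom a.1 := rfl

lemma ρ_refl (W : InvAff G) : ρ (le_refl W) = RingHom.id _ := by
  ext a
  rw [ρ_coe, fU_refl]
  simp

lemma ρ_trans {W₀ W₁ W₂ : InvAff G} (h₁ : W₀ ≤ W₁) (h₂ : W₁ ≤ W₂) :
    ρ (h₁.trans h₂) = (ρ h₁).comp (ρ h₂) := by
  ext a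
  rw [RingHom.comp_apply, ρ_coe, ρ_coe, ρ_coe, fU_trans h₁ h₂, Scheme.Hom.comp_appTop]
  rfl

lemma toQuot_ρ {W₀ W : InvAff G} (h : W₀ ≤ W) :
    (GW G W₀).toQuot ≫ Spec.map (CommRingCat.ofHom (ρ h)) = fU h ≫ (GW G W).toQuot :=
  toQuot_invMap _ _ _ _

lemma iU_mem (W : InvAff G) (u : (GW G W).U) : iU W u ∈ W.op := ιU_mem G W.op W.inv u

lemma iU_injective (W : InvAff G) : Function.Injective (iU W) :=
  (iU W).isOpenEmbedding.injective

lemma iR_injective (W : InvAff G) : Function.Injective (iR W) :=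
  (iR W).isOpenEmbedding.injective

lemma exists_iU_eq (W : InvAff G) (x : G.U) (hx : x ∈ W.op) : ∃ u : (GW G W).U, iU W u = x :=
  exists_ιU_eq G W.op W.inv x hx

lemma exists_iR_eq (W : InvAff G) (r : G.R) (hr : G.s r ∈ W.op) :
    ∃ r' : (GW G W).R, iR W r' = r := exists_ιR_eq G W.op W.inv r hr

lemma s_iR (W : InvAff G) (r : (GW G W).R) : G.s (iR W r) = iU W ((GW G W).s r) := by
  rw [← Scheme.Hom.comp_apply, ← s_ιU, Scheme.Hom.comp_apply]

lemma t_iR (W : InvAff G) (r : (GW G W).R) : G.t (iR W r) = iU W ((GW G W).t r) := by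
  rw [← Scheme.Hom.comp_apply, ← t_ιU, Scheme.Hom.comp_apply]

lemma s_preimage_image (W : InvAff G) (V : (GW G W).U.Opens) :
    G.s ⁻¹ᵁ ((iU W) ''ᵁ V) = (iR W) ''ᵁ ((GW G W).s ⁻¹ᵁ V) := by
  ext r
  constructor
  · rintro ⟨v, hv, hvr⟩
    obtain ⟨r', rfl⟩ := exists_iR_eq W r (by rw [← hvr]; exact iU_mem W v)
    refine ⟨r', ?_, rfl⟩
    rw [s_iR] at hvr
    have := iU_injective W hvr
    change (GW G W).s r' ∈ V
    rw [← this]; exact hv
  · rintro ⟨r', hr', rfl⟩
    exact ⟨(GW G W).s r', hr', (s_iR W r').symm⟩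

lemma t_preimage_image (W : InvAff G) (V : (GW G W).U.Opens) :
    G.t ⁻¹ᵁ ((iU W) ''ᵁ V) = (iR W) ''ᵁ ((GW G W).t ⁻¹ᵁ V) := by
  ext r
  constructor
  · rintro ⟨v, hv, hvr⟩
    have hs : G.s r ∈ W.op := s_mem_of_t_mem W.inv r (by rw [← hvr]; exact iU_mem W v)
    obtain ⟨r', rfl⟩ := exists_iR_eq W r hs
    refine ⟨r', ?_, rfl⟩
    rw [t_iR] at hvr
    have := iU_injective W hvr
    change (GW G W).t r' ∈ V
    rw [← this]; exact hv
  · rintro ⟨r', hr', rfl⟩
    exact ⟨(GW G W).t r', hr', (t_iR W r').symm⟩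

end transition

section basic

variable {G : GroupoidScheme S} [IsFinite G.s] [Flat G.s] [LocallyOfFinitePresentation G.s]
  (W : InvAff G) (c : (GW G W).invariants)

/-- The basic open `D(c)` of `W` as an open of `G.U`. -/
noncomputable def basicOp : G.U.Opens := (iU W) ''ᵁ ((GW G W).U.basicOpen c.1)

lemma basicOp_le : basicOp W c ≤ W.op := by
  rintro _ ⟨v, -, rfl⟩
  exact iU_mem W v

/-- `D(c)` is an invariant affine open. -/
noncomputable def basicInvAff : InvAff G where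
  op := basicOp W c
  isAffine := ((isAffineOpen_top _).basicOpen c.1).image_of_isOpenImmersion (iU W)
  inv := by
    rw [basicOp, s_preimage_image, t_preimage_image, Scheme.preimage_basicOpen,
      Scheme.preimage_basicOpen]
    congr 2
    exact c.2

lemma basicInvAff_le : basicInvAff W c ≤ W := basicOp_le W c

lemma opensRange_iU (W' : InvAff G) : (iU W').opensRange = W'.op := opensRange_ιU G W'.op W'.inv

lemma opensRange_iR (W' : InvAff G) : (iR W').opensRange = G.s ⁻¹ᵁ W'.op :=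
  opensRange_ιR G W'.op W'.inv

instance {W₀ W' : InvAff G} (h : W₀ ≤ W') : IsOpenImmersion (fR h) := by
  have : IsOpenImmersion (fR h ≫ iR W') := by rw [fR_ι]; infer_instance
  exact IsOpenImmersion.of_comp (fR h) (iR W')

lemma image_opensRange_fU {W₀ W' : InvAff G} (h : W₀ ≤ W') :
    (iU W') ''ᵁ (fU h).opensRange = W₀.op := by
  apply TopologicalSpace.Opens.ext
  rw [Scheme.Hom.coe_image, Scheme.Hom.coe_opensRange, ← Set.range_comp]
  have : (iU W') ∘ (fU h) = (iU W₀) := by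
    ext x
    rw [Function.comp_apply, ← Scheme.Hom.comp_apply, fU_ι]
  rw [this]
  exact range_ιU G W₀.op W₀.inv

lemma image_opensRange_fR {W₀ W' : InvAff G} (h : W₀ ≤ W') :
    (iR W') ''ᵁ (fR h).opensRange = G.s ⁻¹ᵁ W₀.op := by
  apply TopologicalSpace.Opens.ext
  rw [Scheme.Hom.coe_image, Scheme.Hom.coe_opensRange, ← Set.range_comp]
  have : (iR W') ∘ (fR h) = (iR W₀) := by
    ext x
    rw [Function.comp_apply, ← Scheme.Hom.comp_apply, fR_ι]
  rw [this]
  exact range_ιR G W₀.op W₀.inv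

lemma opensRange_fU_basic :
    (fU (basicInvAff_le W c)).opensRange = (GW G W).U.basicOpen c.1 := by
  apply (iU W).image_injective
  change (iU W) ''ᵁ _ = (iU W) ''ᵁ _
  rw [image_opensRange_fU]
  rfl

lemma opensRange_fR_basic :
    (fR (basicInvAff_le W c)).opensRange = (GW G W).R.basicOpen ((GW G W).s.appTop.hom c.1) := by
  apply (iR W).image_injective
  change (iR W) ''ᵁ _ = (iR W) ''ᵁ _
  rw [image_opensRange_fR]
  change G.s ⁻¹ᵁ (basicOp W c) = _
  rw [basicOp, s_preimage_image, Scheme.preimage_basicOpen]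
  rfl

/-- The invariants of `D(c)` are the localization of the invariants of `W` away from `c`. -/
theorem isLocalization_ρ_basic :
    letI := (ρ (basicInvAff_le W c)).toAlgebra
    IsLocalization.Away c (GW G (basicInvAff W c)).invariants := by
  let h := basicInvAff_le W c
  let algA : Algebra Γ((GW G W).U, ⊤) Γ((GW G (basicInvAff W c)).U, ⊤) :=
    (fU h).appTop.hom.toAlgebra
  let algB : Algebra Γ((GW G W).R, ⊤) Γ((GW G (basicInvAff W c)).R, ⊤) :=
    (fR h).appTop.hom.toAlgebra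
  have locA : IsLocalization.Away c.1 Γ((GW G (basicInvAff W c)).U, ⊤) :=
    Lib.H8QuotAux.isLocalization_away_of_isOpenImmersion (fU h) c.1 (opensRange_fU_basic W c)
  have locB : IsLocalization.Away ((GW G W).s.appTop.hom c.1)
      Γ((GW G (basicInvAff W c)).R, ⊤) :=
    Lib.H8QuotAux.isLocalization_away_of_isOpenImmersion (fR h) _ (opensRange_fR_basic W c)
  have hs : ∀ a, (GW G (basicInvAff W c)).s.appTop.hom (algebraMap _ _ a) =
      algebraMap _ _ ((GW G W).s.appTop.hom a) := by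
    intro a
    have h1 : (fR h ≫ (GW G W).s).appTop = ((GW G (basicInvAff W c)).s ≫ fU h).appTop :=
      congrArg _ (fR_s h)
    rw [Scheme.Hom.comp_appTop, Scheme.Hom.comp_appTop] at h1
    exact (congrArg (fun φ => φ.hom a) h1).symm
  have ht : ∀ a, (GW G (basicInvAff W c)).t.appTop.hom (algebraMap _ _ a) =
      algebraMap _ _ ((GW G W).t.appTop.hom a) := by
    intro a
    have h1 : (fR h ≫ (GW G W).t).appTop = ((GW G (basicInvAff W c)).t ≫ fU h).appTop :=
      congrArg _ (fR_t h)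
    rw [Scheme.Hom.comp_appTop, Scheme.Hom.comp_appTop] at h1
    exact (congrArg (fun φ => φ.hom a) h1).symm
  exact Lib.H8QuotAux.isLocalization_eqLocus (GW G W).s.appTop.hom (GW G W).t.appTop.hom
    (GW G (basicInvAff W c)).s.appTop.hom (GW G (basicInvAff W c)).t.appTop.hom c.1 hs ht c.2

instance isOpenImmersion_ρ_basic :
    IsOpenImmersion (Spec.map (CommRingCat.ofHom (ρ (basicInvAff_le W c)))) := by
  let _ := (ρ (basicInvAff_le W c)).toAlgebra
  have := isLocalization_ρ_basic W c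
  exact IsOpenImmersion.of_isLocalization c

lemma range_ρ_basic :
    Set.range (Spec.map (CommRingCat.ofHom (ρ (basicInvAff_le W c)))) =
      (PrimeSpectrum.basicOpen c : Set (PrimeSpectrum (GW G W).invariants)) := by
  let _ := (ρ (basicInvAff_le W c)).toAlgebra
  have := isLocalization_ρ_basic W c
  exact PrimeSpectrum.localization_away_comap_range (GW G (basicInvAff W c)).invariants c

end basic

section points

variable {G : GroupoidScheme S} [IsFinite G.s] [Flat G.s] [LocallyOfFinitePresentation G.s]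

/-- the local quotient map -/
noncomputable abbrev πW (W : InvAff G) :
    (GW G W).U ⟶ Spec (CommRingCat.of (GW G W).invariants) := (GW G W).toQuot

lemma πW_surjective (W : InvAff G) : Function.Surjective (πW W) := toQuot_surjective _

lemma πW_eq_iff (W : InvAff G) (u u' : (GW G W).U) :
    πW W u = πW W u' ↔ ∃ r : G.R, G.t r = iU W u ∧ G.s r = iU W u' := by
  rw [toQuot_eq_iff]
  exact exists_restrictOpen_iff G W.op W.inv u u'

lemma πW_ρ {W₀ W : InvAff G} (h : W₀ ≤ W) (u : (GW G W₀).U) :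
    Spec.map (CommRingCat.ofHom (ρ h)) (πW W₀ u) = πW W (fU h u) := by
  rw [← Scheme.Hom.comp_apply, toQuot_ρ, Scheme.Hom.comp_apply]

lemma iU_fU {W₀ W : InvAff G} (h : W₀ ≤ W) (u : (GW G W₀).U) : iU W (fU h u) = iU W₀ u := by
  rw [← Scheme.Hom.comp_apply, fU_ι]

lemma πW_mem_basicOpen_iff (W : InvAff G) (c : (GW G W).invariants) (v : (GW G W).U) :
    πW W v ∈ PrimeSpectrum.basicOpen c ↔ v ∈ (GW G W).U.basicOpen c.1 := by
  rw [← Scheme.toSpecΓ_preimage_basicOpen]
  rfl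

lemma ρ_injective_on_points {W₀ W : InvAff G} (h : W₀ ≤ W) :
    Function.Injective (Spec.map (CommRingCat.ofHom (ρ h))) := by
  intro y y' hyy
  obtain ⟨u, rfl⟩ := πW_surjective W₀ y
  obtain ⟨u', rfl⟩ := πW_surjective W₀ y'
  rw [πW_ρ, πW_ρ, πW_eq_iff, iU_fU, iU_fU] at hyy
  exact (πW_eq_iff W₀ u u').mpr hyy

lemma isClosedMap_πW (W : InvAff G) : IsClosedMap (πW W) :=
  (πW W).isClosedMap

lemma InvAff.ext' {W₁ W₂ : InvAff G} (h : W₁.op = W₂.op) : W₁ = W₂ := by
  cases W₁; cases W₂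
  simp only at h
  subst h
  rfl

lemma fU_mem_basicOpen_iff {W₀ W : InvAff G} (h : W₀ ≤ W) (c : (GW G W).invariants)
    (u : (GW G W₀).U) :
    fU h u ∈ (GW G W).U.basicOpen c.1 ↔ u ∈ (GW G W₀).U.basicOpen (ρ h c).1 := by
  rw [ρ_coe]
  have := Scheme.preimage_basicOpen (fU h) c.1
  change u ∈ (fU h) ⁻¹ᵁ (GW G W).U.basicOpen c.1 ↔ _
  rw [this]
  rfl

/-- A basic open of `W` contained in `W₀ ≤ W` is a basic open of `W₀`. -/
lemma basicInvAff_eq {W₀ W : InvAff G} (h : W₀ ≤ W) (c : (GW G W).invariants)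
    (hD : basicInvAff W c ≤ W₀) : basicInvAff W c = basicInvAff W₀ (ρ h c) := by
  apply InvAff.ext'
  change basicOp W c = basicOp W₀ (ρ h c)
  ext x
  constructor
  · intro hx
    have hx0 : x ∈ W₀.op := hD hx
    obtain ⟨v, hv, rfl⟩ := hx
    obtain ⟨v0, hv0⟩ := exists_iU_eq W₀ _ hx0
    have hvv : fU h v0 = v := iU_injective W (by rw [iU_fU, hv0]; rfl)
    refine ⟨v0, ?_, hv0⟩
    rw [SetLike.mem_coe, ← fU_mem_basicOpen_iff h c, hvv]
    exact hv
  · rintro ⟨v0, hv0, rfl⟩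
    refine ⟨fU h v0, ?_, iU_fU h v0⟩
    rw [SetLike.mem_coe, fU_mem_basicOpen_iff h c]
    exact hv0

lemma isOpenImmersion_and_range_of_eq {W₀ D : InvAff G} (c₀ : (GW G W₀).invariants)
    (hDeq : D = basicInvAff W₀ c₀) (hD : D ≤ W₀) :
    IsOpenImmersion (Spec.map (CommRingCat.ofHom (ρ hD))) ∧
      Set.range (Spec.map (CommRingCat.ofHom (ρ hD))) =
        (PrimeSpectrum.basicOpen c₀ : Set (PrimeSpectrum (GW G W₀).invariants)) := by
  subst hDeq
  exact ⟨isOpenImmersion_ρ_basic W₀ c₀, range_ρ_basic W₀ c₀⟩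

/-- All transition maps `Spec C_{W₀} ⟶ Spec C_W` are open immersions. -/
theorem isOpenImmersion_ρ {W₀ W : InvAff G} (h : W₀ ≤ W) :
    IsOpenImmersion (Spec.map (CommRingCat.ofHom (ρ h))) := by
  have : IsLocalIso (Spec.map (CommRingCat.ofHom (ρ h))) := by
    constructor
    intro y₀
    obtain ⟨u₀, rfl⟩ := πW_surjective W₀ y₀
    let F : Set (GW G W).U := ((fU h).opensRange : Set (GW G W).U)ᶜ
    have hFc : IsClosed F := (fU h).opensRange.isOpen.isClosed_compl
    have hZ : IsClosed (πW W '' F) := isClosedMap_πW W F hFc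
    have hx : πW W (fU h u₀) ∉ πW W '' F := by
      rintro ⟨v, hv, hvx⟩
      rw [πW_eq_iff] at hvx
      obtain ⟨r, hr1, hr2⟩ := hvx
      apply hv
      have hmem : iU W v ∈ W₀.op := by
        rw [← hr1]
        exact t_mem_of_s_mem W₀.inv r (by rw [hr2, iU_fU]; exact iU_mem W₀ u₀)
      obtain ⟨v0, hv0⟩ := exists_iU_eq W₀ _ hmem
      exact ⟨v0, iU_injective W (by rw [iU_fU, hv0])⟩
    obtain ⟨_, ⟨_, ⟨c, rfl⟩, rfl⟩, hxc, hcZ⟩ :=
      PrimeSpectrum.isBasis_basic_opens.exists_subset_of_mem_open hx hZ.isOpen_compl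
    have hD : basicInvAff W c ≤ W₀ := by
      rintro _ ⟨v, hv, rfl⟩
      have h1 : πW W v ∈ PrimeSpectrum.basicOpen c := (πW_mem_basicOpen_iff W c v).mpr hv
      have h2 : v ∉ F := fun hvF => hcZ h1 ⟨v, hvF, rfl⟩
      have h3 : v ∈ (fU h).opensRange := not_not.mp h2
      obtain ⟨v0, rfl⟩ := h3
      change iU W (fU h v0) ∈ W₀.op
      rw [iU_fU]
      exact iU_mem W₀ v0
    obtain ⟨hg, hgrange⟩ := isOpenImmersion_and_range_of_eq (ρ h c) (basicInvAff_eq h c hD) hD
    have hgf : Spec.map (CommRingCat.ofHom (ρ hD)) ≫ Spec.map (CommRingCat.ofHom (ρ h)) =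
        Spec.map (CommRingCat.ofHom (ρ (basicInvAff_le W c))) := by
      rw [← Spec.map_comp, ← CommRingCat.ofHom_comp, ← ρ_trans]
    refine ⟨(Spec.map (CommRingCat.ofHom (ρ hD))).opensRange, ?_, ?_⟩
    · change πW W₀ u₀ ∈ Set.range _
      rw [hgrange]
      change πW W₀ u₀ ∈ PrimeSpectrum.basicOpen (ρ h c)
      rw [πW_mem_basicOpen_iff, ← fU_mem_basicOpen_iff h c, ← πW_mem_basicOpen_iff]
      exact hxc
    · rw [← Scheme.Hom.isoOpensRange_inv_comp, Category.assoc, hgf]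
      infer_instance
  exact Lib.H8QuotAux.isOpenImmersion_of_isLocalIso_of_injective _ (ρ_injective_on_points h)

end points

end Groth.Agent.Lib.H8GrpdQuot
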