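import Groth.Agent.Lib.GrpdPts
import Groth.Agent.Lib.GrpdPts18
import Groth.Agent.Lib.GrpdSat13
import Mathlib.AlgebraicGeometry.Restrict

/-!
# Restriction of a groupoid scheme along monomorphisms; restriction to an invariant open (helper8)

* `RestrData G`: monos `a : U' ⟶ G.U`, `b : R' ⟶ G.R` with lifts `s' t' e' i' c'` of the
  structure maps; `RestrData.groupoid : GroupoidScheme S`.
* `restrictOpen G W hinv`: the restriction of `G` to an invariant open `W` of `G.U`
  (`U = ↥W`, `R = ↥(G.s ⁻¹ᵁ W)`).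
-/

set_option autoImplicit false
universe u
open CategoryTheory CategoryTheory.Limits AlgebraicGeometry
open Grpd

namespace Groth.Agent.Lib.H8GrpdRestrict

variable {S : Scheme.{u}} (G : Grpd.GroupoidScheme S)

/-- Lifts of the structure maps of `G` through monos `a : U' ⟶ G.U`, `b : R' ⟶ G.R`. -/
structure RestrData where
  U' : Scheme.{u}
  R' : Scheme.{u}
  a : U' ⟶ G.U
  b : R' ⟶ G.R
  ha : Mono a
  hb : Mono b
  s' : R' ⟶ U'
  t' : R' ⟶ U'
  e' : U' ⟶ R'
  i' : R' ⟶ R'
  c' : pullback s' t' ⟶ R'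
  hs : s' ≫ a = b ≫ G.s
  ht : t' ≫ a = b ≫ G.t
  he : e' ≫ b = a ≫ G.e
  hi : i' ≫ b = b ≫ G.i
  hc : c' ≫ b = pullback.map s' t' G.s G.t b b a hs ht ≫ G.c

variable {G}

lemma lift_c_congr {T : Scheme.{u}} {a a' b b' : T ⟶ G.R} (ha : a = a') (hb : b = b')
    (h : a ≫ G.s = b ≫ G.t) :
    pullback.lift a b h ≫ G.c = pullback.lift a' b' (by rw [← ha, ← hb]; exact h) ≫ G.c := by
  subst ha hb; rfl

namespace RestrData

variable (D : RestrData G)

lemma comp_aux {T : Scheme.{u}} (α β : T ⟶ D.R') (h : α ≫ D.s' = β ≫ D.t') :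
    (α ≫ D.b) ≫ G.s = (β ≫ D.b) ≫ G.t := by
  rw [Category.assoc, ← D.hs, ← Category.assoc, h, Category.assoc, D.ht, Category.assoc]

lemma key {T : Scheme.{u}} (α β : T ⟶ D.R') (h : α ≫ D.s' = β ≫ D.t') :
    (pullback.lift α β h ≫ D.c') ≫ D.b =
      pullback.lift (α ≫ D.b) (β ≫ D.b) (D.comp_aux α β h) ≫ G.c := by
  rw [Category.assoc, D.hc, ← Category.assoc]
  congr 1
  apply pullback.hom_ext
  · rw [Category.assoc, pullback.lift_fst, pullback.lift_fst, ← Category.assoc, pullback.lift_fst]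
  · rw [Category.assoc, pullback.lift_snd, pullback.lift_snd, ← Category.assoc, pullback.lift_snd]

/-- The restricted groupoid scheme. -/
noncomputable def groupoid : GroupoidScheme S where
  U := D.U'
  R := D.R'
  pU := D.a ≫ G.pU
  pR := D.b ≫ G.pR
  s := D.s'
  t := D.t'
  e := D.e'
  i := D.i'
  c := D.c'
  s_over := by rw [← Category.assoc, D.hs, Category.assoc, G.s_over]
  t_over := by rw [← Category.assoc, D.ht, Category.assoc, G.t_over]
  comp_s := fun α β h => by
    have := D.ha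
    refine (cancel_mono D.a).1 ?_
    rw [Category.assoc, D.hs, ← Category.assoc, D.key α β h, G.comp_s, Category.assoc, Category.assoc,
      D.hs]
  comp_t := fun α β h => by
    have := D.ha
    refine (cancel_mono D.a).1 ?_
    rw [Category.assoc, D.ht, ← Category.assoc, D.key α β h, G.comp_t, Category.assoc, Category.assoc,
      D.ht]
  assoc := fun α β γ h₁ h₂ => by
    have := D.hb
    refine (cancel_mono D.b).1 ?_
    refine (D.key _ _ _).trans ?_
    refine Eq.trans ?_ (D.key _ _ _).symm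
    refine (lift_c_congr (D.key α β h₁) rfl _).trans ?_
    refine Eq.trans ?_ (lift_c_congr rfl (D.key β γ h₂) _).symm
    exact G.assoc (α ≫ D.b) (β ≫ D.b) (γ ≫ D.b) _ _
  e_s := by
    have := D.ha
    refine (cancel_mono D.a).1 ?_
    rw [Category.assoc, D.hs, ← Category.assoc, D.he, Category.assoc, G.e_s, Category.comp_id,
      Category.id_comp]
  e_t := by
    have := D.ha
    refine (cancel_mono D.a).1 ?_
    rw [Category.assoc, D.ht, ← Category.assoc, D.he, Category.assoc, G.e_t, Category.comp_id,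
      Category.id_comp]
  comp_e := fun α => by
    have := D.hb
    refine (cancel_mono D.b).1 ?_
    refine (D.key _ _ _).trans ?_
    refine (lift_c_congr rfl ?_ _).trans (G.comp_e (α ≫ D.b))
    rw [Category.assoc, Category.assoc, D.he, ← Category.assoc D.s', D.hs]
    simp only [Category.assoc]
  e_comp := fun α => by
    have := D.hb
    refine (cancel_mono D.b).1 ?_
    refine (D.key _ _ _).trans ?_
    refine (lift_c_congr ?_ rfl _).trans (G.e_comp (α ≫ D.b))
    rw [Category.assoc, Category.assoc, D.he, ← Category.assoc D.t', D.ht]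
    simp only [Category.assoc]
  i_s := by
    have := D.ha
    refine (cancel_mono D.a).1 ?_
    rw [Category.assoc, D.hs, ← Category.assoc, D.hi, Category.assoc, G.i_s, D.ht]
  i_t := by
    have := D.ha
    refine (cancel_mono D.a).1 ?_
    rw [Category.assoc, D.ht, ← Category.assoc, D.hi, Category.assoc, G.i_t, D.hs]
  comp_i := fun α => by
    have := D.hb
    refine (cancel_mono D.b).1 ?_
    refine (D.key _ _ _).trans ?_
    refine (lift_c_congr rfl ?_ _).trans ((G.comp_i (α ≫ D.b)).trans ?_)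
    · rw [Category.assoc, D.hi, Category.assoc]
    · rw [Category.assoc, Category.assoc, Category.assoc, D.he, ← Category.assoc D.t', D.ht]
      simp only [Category.assoc]
  i_comp := fun α => by
    have := D.hb
    refine (cancel_mono D.b).1 ?_
    refine (D.key _ _ _).trans ?_
    refine (lift_c_congr ?_ rfl _).trans ((G.i_comp (α ≫ D.b)).trans ?_)
    · rw [Category.assoc, D.hi, Category.assoc]
    · rw [Category.assoc, Category.assoc, Category.assoc, D.he, ← Category.assoc D.s', D.hs]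
      simp only [Category.assoc]

end RestrData

section openRestr

variable (G) (W : G.U.Opens) (hinv : G.s ⁻¹ᵁ W = G.t ⁻¹ᵁ W)

lemma c_s : G.c ≫ G.s = pullback.snd G.s G.t ≫ G.s := by
  rw [Lib.GrpdPts.c_eq_cmp, Lib.GrpdPts.cmp_s pullback.condition]

lemma c_t : G.c ≫ G.t = pullback.fst G.s G.t ≫ G.t := by
  rw [Lib.GrpdPts.c_eq_cmp, Lib.GrpdPts.cmp_t pullback.condition]

/-- restricted source -/
noncomputable def sW : (G.s ⁻¹ᵁ W).toScheme ⟶ W.toScheme := G.s ∣_ W

lemma sW_ι : sW G W ≫ W.ι = (G.s ⁻¹ᵁ W).ι ≫ G.s := morphismRestrict_ι G.s W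

include hinv in
lemma range_t_subset : Set.range ((G.s ⁻¹ᵁ W).ι ≫ G.t) ⊆ Set.range W.ι := by
  rintro _ ⟨x, rfl⟩
  rw [Scheme.Opens.range_ι]
  have : x.1 ∈ G.t ⁻¹ᵁ W := hinv ▸ x.2
  exact this

/-- restricted target -/
noncomputable def tW : (G.s ⁻¹ᵁ W).toScheme ⟶ W.toScheme :=
  IsOpenImmersion.lift W.ι ((G.s ⁻¹ᵁ W).ι ≫ G.t) (range_t_subset G W hinv)

lemma tW_ι : tW G W hinv ≫ W.ι = (G.s ⁻¹ᵁ W).ι ≫ G.t := IsOpenImmersion.lift_fac _ _ _

lemma range_e_subset : Set.range (W.ι ≫ G.e) ⊆ Set.range (G.s ⁻¹ᵁ W).ι := by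
  rintro _ ⟨x, rfl⟩
  rw [Scheme.Opens.range_ι]
  change G.s ((W.ι ≫ G.e) x) ∈ W
  rw [← Scheme.Hom.comp_apply, Category.assoc, G.e_s, Category.comp_id]
  exact x.2

/-- restricted identity -/
noncomputable def eW : W.toScheme ⟶ (G.s ⁻¹ᵁ W).toScheme :=
  IsOpenImmersion.lift (G.s ⁻¹ᵁ W).ι (W.ι ≫ G.e) (range_e_subset G W)

lemma eW_ι : eW G W ≫ (G.s ⁻¹ᵁ W).ι = W.ι ≫ G.e := IsOpenImmersion.lift_fac _ _ _

include hinv in
lemma range_i_subset : Set.range ((G.s ⁻¹ᵁ W).ι ≫ G.i) ⊆ Set.range (G.s ⁻¹ᵁ W).ι := by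
  rintro _ ⟨x, rfl⟩
  rw [Scheme.Opens.range_ι]
  change G.s (((G.s ⁻¹ᵁ W).ι ≫ G.i) x) ∈ W
  rw [← Scheme.Hom.comp_apply, Category.assoc, G.i_s]
  have : x.1 ∈ G.t ⁻¹ᵁ W := hinv ▸ x.2
  exact this

/-- restricted inverse -/
noncomputable def iW : (G.s ⁻¹ᵁ W).toScheme ⟶ (G.s ⁻¹ᵁ W).toScheme :=
  IsOpenImmersion.lift (G.s ⁻¹ᵁ W).ι ((G.s ⁻¹ᵁ W).ι ≫ G.i) (range_i_subset G W hinv)

lemma iW_ι : iW G W hinv ≫ (G.s ⁻¹ᵁ W).ι = (G.s ⁻¹ᵁ W).ι ≫ G.i := IsOpenImmersion.lift_fac _ _ _

/-- the map on pullbacks -/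
noncomputable def pW : pullback (sW G W) (tW G W hinv) ⟶ pullback G.s G.t :=
  pullback.map (sW G W) (tW G W hinv) G.s G.t (G.s ⁻¹ᵁ W).ι (G.s ⁻¹ᵁ W).ι W.ι
    (sW_ι G W) (tW_ι G W hinv)

lemma range_c_subset : Set.range (pW G W hinv ≫ G.c) ⊆ Set.range (G.s ⁻¹ᵁ W).ι := by
  rintro _ ⟨x, rfl⟩
  rw [Scheme.Opens.range_ι]
  change G.s ((pW G W hinv ≫ G.c) x) ∈ W
  rw [← Scheme.Hom.comp_apply, Category.assoc, c_s, pW, ← Category.assoc, pullback.lift_snd,
    Category.assoc, ← sW_ι, Scheme.Hom.comp_apply, Scheme.Hom.comp_apply]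
  exact ((sW G W) _).2

/-- restricted composition -/
noncomputable def cW : pullback (sW G W) (tW G W hinv) ⟶ (G.s ⁻¹ᵁ W).toScheme :=
  IsOpenImmersion.lift (G.s ⁻¹ᵁ W).ι (pW G W hinv ≫ G.c) (range_c_subset G W hinv)

lemma cW_ι : cW G W hinv ≫ (G.s ⁻¹ᵁ W).ι = pW G W hinv ≫ G.c := IsOpenImmersion.lift_fac _ _ _

/-- The data restricting `G` to the invariant open `W`. -/
noncomputable def restrData : RestrData G where
  U' := W
  R' := (G.s ⁻¹ᵁ W)
  a := W.ι
  b := (G.s ⁻¹ᵁ W).ι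
  ha := inferInstance
  hb := inferInstance
  s' := sW G W
  t' := tW G W hinv
  e' := eW G W
  i' := iW G W hinv
  c' := cW G W hinv
  hs := sW_ι G W
  ht := tW_ι G W hinv
  he := eW_ι G W
  hi := iW_ι G W hinv
  hc := cW_ι G W hinv

/-- The restriction of `G` to the invariant open `W`. -/
noncomputable def restrictOpen : GroupoidScheme S := (restrData G W hinv).groupoid

@[simp] lemma restrictOpen_s : (restrictOpen G W hinv).s = sW G W := rfl
@[simp] lemma restrictOpen_t : (restrictOpen G W hinv).t = tW G W hinv := rfl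

lemma restrictOpen_s_ι : (restrictOpen G W hinv).s ≫ W.ι = (G.s ⁻¹ᵁ W).ι ≫ G.s := sW_ι G W
lemma restrictOpen_t_ι : (restrictOpen G W hinv).t ≫ W.ι = (G.s ⁻¹ᵁ W).ι ≫ G.t := tW_ι G W hinv

/-- The inclusion of the objects of the restricted groupoid. -/
noncomputable def ιU : (restrictOpen G W hinv).U ⟶ G.U := W.ι

/-- The inclusion of the arrows of the restricted groupoid. -/
noncomputable def ιR : (restrictOpen G W hinv).R ⟶ G.R := (G.s ⁻¹ᵁ W).ι

instance : IsOpenImmersion (ιU G W hinv) := inferInstanceAs (IsOpenImmersion W.ι)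
instance : IsOpenImmersion (ιR G W hinv) := inferInstanceAs (IsOpenImmersion (G.s ⁻¹ᵁ W).ι)

lemma s_ιU : (restrictOpen G W hinv).s ≫ ιU G W hinv = ιR G W hinv ≫ G.s := sW_ι G W
lemma t_ιU : (restrictOpen G W hinv).t ≫ ιU G W hinv = ιR G W hinv ≫ G.t := tW_ι G W hinv
lemma e_ιR : (restrictOpen G W hinv).e ≫ ιR G W hinv = ιU G W hinv ≫ G.e := eW_ι G W

lemma range_ιU : Set.range (ιU G W hinv) = W := Scheme.Opens.range_ι W
lemma range_ιR : Set.range (ιR G W hinv) = (G.s ⁻¹ᵁ W : Set G.R) :=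
  Scheme.Opens.range_ι (G.s ⁻¹ᵁ W)

lemma opensRange_ιU : (ιU G W hinv).opensRange = W := Scheme.Opens.opensRange_ι W
lemma opensRange_ιR : (ιR G W hinv).opensRange = G.s ⁻¹ᵁ W := Scheme.Opens.opensRange_ι _

lemma ιU_mem (u : (restrictOpen G W hinv).U) : ιU G W hinv u ∈ W := by
  rw [← SetLike.mem_coe, ← range_ιU G W hinv]; exact ⟨u, rfl⟩

lemma exists_ιU_eq (x : G.U) (hx : x ∈ W) : ∃ u : (restrictOpen G W hinv).U, ιU G W hinv u = x := by
  have : x ∈ Set.range (ιU G W hinv) := by rw [range_ιU]; exact hx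
  exact this

lemma exists_ιR_eq (r : G.R) (hr : G.s r ∈ W) :
    ∃ r' : (restrictOpen G W hinv).R, ιR G W hinv r' = r := by
  have : r ∈ Set.range (ιR G W hinv) := by rw [range_ιR]; exact hr
  exact this

end openRestr

section general

variable (G)

instance isIso_i : IsIso G.i := ⟨G.i, Lib.GrpdPts18.i_i G, Lib.GrpdPts18.i_i G⟩

lemma t_eq_i_s : G.t = G.i ≫ G.s := G.i_s.symm

lemma isFinite_t [IsFinite G.s] : IsFinite G.t := by
  rw [t_eq_i_s]; infer_instance

lemma flat_t [Flat G.s] : Flat G.t := by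
  rw [t_eq_i_s]; infer_instance

lemma lfp_t [LocallyOfFinitePresentation G.s] : LocallyOfFinitePresentation G.t := by
  rw [t_eq_i_s]; infer_instance

end general

section openRestr2

variable (G) (W : G.U.Opens) (hinv : G.s ⁻¹ᵁ W = G.t ⁻¹ᵁ W)

instance [IsFinite G.s] : IsFinite (restrictOpen G W hinv).s :=
  inferInstanceAs (IsFinite (G.s ∣_ W))

instance [Flat G.s] : Flat (restrictOpen G W hinv).s :=
  inferInstanceAs (Flat (G.s ∣_ W))

instance [LocallyOfFinitePresentation G.s] :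
    LocallyOfFinitePresentation (restrictOpen G W hinv).s :=
  inferInstanceAs (LocallyOfFinitePresentation (G.s ∣_ W))

instance [IsFinite G.s] : IsFinite (restrictOpen G W hinv).t := isFinite_t _
instance [Flat G.s] : Flat (restrictOpen G W hinv).t := flat_t _
instance [LocallyOfFinitePresentation G.s] :
    LocallyOfFinitePresentation (restrictOpen G W hinv).t := lfp_t _

lemma isAffine_restrictOpen_U (hW : IsAffineOpen W) : IsAffine (restrictOpen G W hinv).U := hW

lemma isAffine_restrictOpen_R [IsAffineHom G.s] (hW : IsAffineOpen W) :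
    IsAffine (restrictOpen G W hinv).R := hW.preimage G.s

lemma mono_j_restrictOpen [Mono G.j] : Mono (restrictOpen G W hinv).j := by
  constructor
  intro T α β h
  have h1 : α ≫ (restrictOpen G W hinv).t = β ≫ (restrictOpen G W hinv).t := by
    have := congrArg (fun φ => φ ≫ pullback.fst _ _) h
    simp only [Category.assoc] at this
    rwa [GroupoidScheme.j, pullback.lift_fst] at this
  have h2 : α ≫ (restrictOpen G W hinv).s = β ≫ (restrictOpen G W hinv).s := by
    have := congrArg (fun φ => φ ≫ pullback.snd _ _) h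
    simp only [Category.assoc] at this
    rwa [GroupoidScheme.j, pullback.lift_snd] at this
  let b : (restrictOpen G W hinv).R ⟶ G.R := (G.s ⁻¹ᵁ W).ι
  have hb : Mono b := inferInstanceAs (Mono (G.s ⁻¹ᵁ W).ι)
  refine (cancel_mono b).1 ?_
  refine (cancel_mono G.j).1 ?_
  apply pullback.hom_ext
  · rw [Category.assoc, Category.assoc, GroupoidScheme.j, pullback.lift_fst]
    have e : b ≫ G.t = (restrictOpen G W hinv).t ≫ W.ι := (restrictOpen_t_ι G W hinv).symm
    rw [e, ← Category.assoc, h1, Category.assoc, Category.assoc, Category.assoc, pullback.lift_fst, e]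
  · rw [Category.assoc, Category.assoc, GroupoidScheme.j, pullback.lift_snd]
    have e : b ≫ G.s = (restrictOpen G W hinv).s ≫ W.ι := (restrictOpen_s_ι G W hinv).symm
    rw [e, ← Category.assoc, h2, Category.assoc, Category.assoc, Category.assoc, pullback.lift_snd, e]

/-- Orbits of the restricted groupoid are the orbits of `G`. -/
lemma exists_restrictOpen_iff (u u' : (restrictOpen G W hinv).U) :
    (∃ r : (restrictOpen G W hinv).R, (restrictOpen G W hinv).t r = u ∧
      (restrictOpen G W hinv).s r = u') ↔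
      ∃ r : G.R, G.t r = ιU G W hinv u ∧ G.s r = ιU G W hinv u' := by
  constructor
  · rintro ⟨r, rfl, rfl⟩
    refine ⟨ιR G W hinv r, ?_, ?_⟩
    · rw [← Scheme.Hom.comp_apply, ← t_ιU, Scheme.Hom.comp_apply]
    · rw [← Scheme.Hom.comp_apply, ← s_ιU, Scheme.Hom.comp_apply]
  · rintro ⟨r, h1, h2⟩
    obtain ⟨r', rfl⟩ := exists_ιR_eq G W hinv r (by rw [h2]; exact ιU_mem G W hinv u')
    refine ⟨r', ?_, ?_⟩
    · apply (ιU G W hinv).isOpenEmbedding.injective
      rw [← Scheme.Hom.comp_apply, t_ιU, Scheme.Hom.comp_apply, h1]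
    · apply (ιU G W hinv).isOpenEmbedding.injective
      rw [← Scheme.Hom.comp_apply, s_ιU, Scheme.Hom.comp_apply, h2]

end openRestr2

end Groth.Agent.Lib.H8GrpdRestrict
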