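import Groth.Agent.Lib.H8GrpdRestrict

/-!
# Restriction of a groupoid scheme along a monomorphism `u : U' ⟶ U` (helper8)

`VV G u = R ×_{t,U} U'` (arrows with target in `U'`), `vv G u : VV ⟶ U` (source),
`RR G u = VV ×_{U} U'` (arrows with source and target in `U'`), `restrictMono G u : GroupoidScheme S`.
-/

set_option autoImplicit false
set_option linter.unusedSectionVars false
universe u
open CategoryTheory CategoryTheory.Limits AlgebraicGeometry
open Grpd

namespace Groth.Agent.Lib.H8GrpdRestrictMono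

open Groth.Agent.Lib.H8GrpdRestrict Groth.Agent.Lib.GrpdPts

variable {S : Scheme.{u}} (G : GroupoidScheme S) {U' : Scheme.{u}} (u : U' ⟶ G.U)

/-- arrows with target in `U'` -/
noncomputable abbrev VV : Scheme.{u} := pullback G.t u

/-- the source of an arrow with target in `U'` -/
noncomputable def vv : VV G u ⟶ G.U := pullback.fst G.t u ≫ G.s

/-- arrows with source and target in `U'` -/
noncomputable abbrev RR : Scheme.{u} := pullback (vv G u) u

/-- `R' ⟶ R` -/
noncomputable def bR : RR G u ⟶ G.R := pullback.fst (vv G u) u ≫ pullback.fst G.t u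
/-- target -/
noncomputable def tR : RR G u ⟶ U' := pullback.fst (vv G u) u ≫ pullback.snd G.t u
/-- source -/
noncomputable def sR : RR G u ⟶ U' := pullback.snd (vv G u) u

lemma tR_u : tR G u ≫ u = bR G u ≫ G.t := by
  unfold tR bR
  rw [Category.assoc, Category.assoc, pullback.condition]

lemma sR_u : sR G u ≫ u = bR G u ≫ G.s := by
  unfold sR bR
  rw [← pullback.condition, Category.assoc]
  rfl

section lift

variable {G u} {T : Scheme.{u}} (ρ : T ⟶ G.R) (x y : T ⟶ U') (hx : ρ ≫ G.t = x ≫ u)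
  (hy : ρ ≫ G.s = y ≫ u)

/-- `T`-points of `V`. -/
noncomputable def liftV : T ⟶ VV G u := pullback.lift ρ x hx

lemma liftV_fst : liftV ρ x hx ≫ pullback.fst G.t u = ρ := pullback.lift_fst _ _ _
lemma liftV_snd : liftV ρ x hx ≫ pullback.snd G.t u = x := pullback.lift_snd _ _ _
lemma liftV_vv : liftV ρ x hx ≫ vv G u = ρ ≫ G.s := by
  unfold vv
  rw [← Category.assoc, liftV_fst]

/-- `T`-points of `R'`. -/
noncomputable def liftR : T ⟶ RR G u :=
  pullback.lift (liftV ρ x hx) y (by rw [liftV_vv, hy])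

lemma liftR_b : liftR ρ x y hx hy ≫ bR G u = ρ := by
  unfold liftR bR
  rw [← Category.assoc, pullback.lift_fst, liftV_fst]

lemma liftR_t : liftR ρ x y hx hy ≫ tR G u = x := by
  unfold liftR tR
  rw [← Category.assoc, pullback.lift_fst, liftV_snd]

lemma liftR_s : liftR ρ x y hx hy ≫ sR G u = y := by
  unfold liftR sR
  rw [pullback.lift_snd]

end lift

variable [Mono u]

lemma hom_ext_V {T : Scheme.{u}} (α β : T ⟶ VV G u)
    (h : α ≫ pullback.fst G.t u = β ≫ pullback.fst G.t u) : α = β := by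
  apply pullback.hom_ext h
  rw [← cancel_mono u, Category.assoc, Category.assoc, ← pullback.condition, ← Category.assoc,
    ← Category.assoc, h]

lemma hom_ext_R {T : Scheme.{u}} (α β : T ⟶ RR G u) (h : α ≫ bR G u = β ≫ bR G u) : α = β := by
  have h1 : α ≫ pullback.fst (vv G u) u = β ≫ pullback.fst (vv G u) u := by
    apply hom_ext_V
    rw [Category.assoc, Category.assoc]
    exact h
  apply pullback.hom_ext h1
  rw [← cancel_mono u, Category.assoc, Category.assoc, ← pullback.condition, ← Category.assoc,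
    ← Category.assoc, h1]

instance mono_bR : Mono (bR G u) := ⟨fun α β h => hom_ext_R G u α β h⟩

/-- The restriction data. -/
noncomputable def restrData : RestrData G where
  U' := U'
  R' := RR G u
  a := u
  b := bR G u
  ha := inferInstance
  hb := inferInstance
  s' := sR G u
  t' := tR G u
  e' := liftR (u ≫ G.e) (𝟙 U') (𝟙 U') (by rw [Category.assoc, G.e_t, Category.comp_id,
    Category.id_comp]) (by rw [Category.assoc, G.e_s, Category.comp_id, Category.id_comp])
  i' := liftR (bR G u ≫ G.i) (sR G u) (tR G u)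
    (by rw [Category.assoc, G.i_t, sR_u]) (by rw [Category.assoc, G.i_s, tR_u])
  c' := liftR (pullback.map (sR G u) (tR G u) G.s G.t (bR G u) (bR G u) u (sR_u G u) (tR_u G u) ≫
      G.c) (pullback.fst _ _ ≫ tR G u) (pullback.snd _ _ ≫ sR G u)
    (by rw [Category.assoc, c_t, ← Category.assoc, pullback.lift_fst, Category.assoc,
      Category.assoc, tR_u])
    (by rw [Category.assoc, c_s, ← Category.assoc, pullback.lift_snd, Category.assoc,
      Category.assoc, sR_u])
  hs := sR_u G u
  ht := tR_u G u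
  he := liftR_b _ _ _ _ _
  hi := liftR_b _ _ _ _ _
  hc := liftR_b _ _ _ _ _

/-- The restriction of `G` along the monomorphism `u`. -/
noncomputable def restrictMono : GroupoidScheme S := (restrData G u).groupoid

/-- objects -/
noncomputable abbrev jU : (restrictMono G u).U ⟶ G.U := u
/-- arrows -/
noncomputable abbrev jR : (restrictMono G u).R ⟶ G.R := bR G u

lemma s_jU : (restrictMono G u).s ≫ jU G u = jR G u ≫ G.s := sR_u G u
lemma t_jU : (restrictMono G u).t ≫ jU G u = jR G u ≫ G.t := tR_u G u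
lemma e_jR : (restrictMono G u).e ≫ jR G u = jU G u ≫ G.e := (restrData G u).he
lemma i_jR : (restrictMono G u).i ≫ jR G u = jR G u ≫ G.i := (restrData G u).hi

lemma restrictMono_s : (restrictMono G u).s = pullback.snd (vv G u) u := rfl

/-- `V ⟶ U'`, typed in the restricted groupoid. -/
noncomputable def sndV : VV G u ⟶ (restrictMono G u).U := pullback.snd G.t u

/-- `V ⟶ R`. -/
noncomputable def fstV : VV G u ⟶ G.R := pullback.fst G.t u

lemma V_cond : fstV G u ≫ G.t = sndV G u ≫ jU G u := pullback.condition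

lemma vv_eq : vv G u = fstV G u ≫ G.s := rfl

/-- `T`-points of `V`. -/
noncomputable def liftV' {T : Scheme.{u}} (ρ : T ⟶ G.R) (x : T ⟶ (restrictMono G u).U)
    (hx : ρ ≫ G.t = x ≫ jU G u) : T ⟶ VV G u := liftV ρ x hx

lemma liftV'_fst {T : Scheme.{u}} (ρ : T ⟶ G.R) (x : T ⟶ (restrictMono G u).U)
    (hx : ρ ≫ G.t = x ≫ jU G u) : liftV' G u ρ x hx ≫ fstV G u = ρ := liftV_fst _ _ _

lemma liftV'_snd {T : Scheme.{u}} (ρ : T ⟶ G.R) (x : T ⟶ (restrictMono G u).U)
    (hx : ρ ≫ G.t = x ≫ jU G u) : liftV' G u ρ x hx ≫ sndV G u = x := liftV_snd _ _ _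

lemma liftV'_vv {T : Scheme.{u}} (ρ : T ⟶ G.R) (x : T ⟶ (restrictMono G u).U)
    (hx : ρ ≫ G.t = x ≫ jU G u) : liftV' G u ρ x hx ≫ vv G u = ρ ≫ G.s := liftV_vv _ _ _

lemma hom_ext_V' {T : Scheme.{u}} (α β : T ⟶ VV G u) (h : α ≫ fstV G u = β ≫ fstV G u) :
    α = β := hom_ext_V G u α β h

/-- `T`-points of the restricted arrows. -/
noncomputable def liftR' {T : Scheme.{u}} (ρ : T ⟶ G.R) (x y : T ⟶ (restrictMono G u).U)
    (hx : ρ ≫ G.t = x ≫ jU G u) (hy : ρ ≫ G.s = y ≫ jU G u) : T ⟶ (restrictMono G u).R :=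
  liftR ρ x y hx hy

lemma liftR'_t {T : Scheme.{u}} (ρ : T ⟶ G.R) (x y : T ⟶ (restrictMono G u).U)
    (hx : ρ ≫ G.t = x ≫ jU G u) (hy : ρ ≫ G.s = y ≫ jU G u) :
    liftR' G u ρ x y hx hy ≫ (restrictMono G u).t = x := liftR_t _ _ _ _ _

lemma liftR'_s {T : Scheme.{u}} (ρ : T ⟶ G.R) (x y : T ⟶ (restrictMono G u).U)
    (hx : ρ ≫ G.t = x ≫ jU G u) (hy : ρ ≫ G.s = y ≫ jU G u) :
    liftR' G u ρ x y hx hy ≫ (restrictMono G u).s = y := liftR_s _ _ _ _ _

lemma liftR'_j {T : Scheme.{u}} (ρ : T ⟶ G.R) (x y : T ⟶ (restrictMono G u).U)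
    (hx : ρ ≫ G.t = x ≫ jU G u) (hy : ρ ≫ G.s = y ≫ jU G u) :
    liftR' G u ρ x y hx hy ≫ jR G u = ρ := liftR_b _ _ _ _ _

instance mono_jR : Mono (jR G u) := mono_bR G u

instance [IsFinite (vv G u)] : IsFinite (restrictMono G u).s :=
  inferInstanceAs (IsFinite (pullback.snd (vv G u) u))
instance [Flat (vv G u)] : Flat (restrictMono G u).s :=
  inferInstanceAs (Flat (pullback.snd (vv G u) u))
instance [LocallyOfFinitePresentation (vv G u)] :
    LocallyOfFinitePresentation (restrictMono G u).s :=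
  inferInstanceAs (LocallyOfFinitePresentation (pullback.snd (vv G u) u))

lemma mono_j_restrictMono [Mono G.j] : Mono (restrictMono G u).j := by
  constructor
  intro T α β h
  have h1 : α ≫ (restrictMono G u).t = β ≫ (restrictMono G u).t := by
    have := congrArg (fun φ => φ ≫ pullback.fst _ _) h
    simp only [Category.assoc] at this
    rwa [GroupoidScheme.j, pullback.lift_fst] at this
  have h2 : α ≫ (restrictMono G u).s = β ≫ (restrictMono G u).s := by
    have := congrArg (fun φ => φ ≫ pullback.snd _ _) h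
    simp only [Category.assoc] at this
    rwa [GroupoidScheme.j, pullback.lift_snd] at this
  have hb : α ≫ jR G u = β ≫ jR G u := by
    rw [← cancel_mono G.j]
    apply pullback.hom_ext
    · simp only [Category.assoc, GroupoidScheme.j, pullback.lift_fst]
      rw [← t_jU, ← Category.assoc, ← Category.assoc, h1]
    · simp only [Category.assoc, GroupoidScheme.j, pullback.lift_snd]
      rw [← s_jU, ← Category.assoc, ← Category.assoc, h2]
  have : Mono (jR G u) := mono_bR G u
  exact (cancel_mono (jR G u)).1 hb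

end Groth.Agent.Lib.H8GrpdRestrictMono
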