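import Mathlib
import Groth.Agent.Lib.H8GrpdDim
import Groth.Agent.Lib.GrpdConj
import Groth.Agent.S7500

/-!
# The stabilizer of a groupoid scheme over a field: fibre dimension of `j` (helper8)

`(U, R, s, t, c)` a groupoid scheme with `U` a one-point scheme, `s` locally of finite type.
The torsor square `G ×_{U,t} R ≅ R ×_{j} R` (landed S7500) shows that the local fibre dimension of
`j = (t, s)` at every point of `R` equals the local dimension of the stabilizer `G` at every point;
in particular `G` is equidimensional in the `localDim` sense.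
-/

set_option autoImplicit false
universe u
open CategoryTheory CategoryTheory.Limits AlgebraicGeometry

namespace Groth.Agent.Lib.H8GrpdStab

open Groth.Agent.Lib.GrpdPts Groth.Agent.Lib.GrpdConj

variable {S : Scheme.{u}} (G : Grpd.GroupoidScheme S)

/-- `(γ, r) ↦ (γ, r)` from `G ×_{U,t} R` to `R ×_{s,U,t} R`. -/
noncomputable def alpha : pullback G.stabilizerToU G.t ⟶ pullback G.s G.t :=
  pullback.lift (pullback.fst G.stabilizerToU G.t ≫ stabArr G) (pullback.snd G.stabilizerToU G.t)
    (by rw [Category.assoc, stabArr_s, pullback.condition])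

lemma alpha_fst : alpha G ≫ pullback.fst G.s G.t =
    pullback.fst G.stabilizerToU G.t ≫ pullback.fst G.j G.diag := pullback.lift_fst _ _ _

lemma alpha_snd : alpha G ≫ pullback.snd G.s G.t = pullback.snd G.stabilizerToU G.t :=
  pullback.lift_snd _ _ _

lemma alpha_c : alpha G ≫ G.c = cmp G (pullback.fst G.stabilizerToU G.t ≫ stabArr G)
    (pullback.snd G.stabilizerToU G.t) := by
  rw [comp_c, alpha_fst, alpha_snd]

lemma act_cond : (pullback.fst G.stabilizerToU G.t ≫ stabArr G) ≫ G.s =
    pullback.snd G.stabilizerToU G.t ≫ G.t := by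
  rw [Category.assoc, stabArr_s, pullback.condition]

lemma alpha_c_j : (alpha G ≫ G.c) ≫ G.j = pullback.snd G.stabilizerToU G.t ≫ G.j := by
  apply pullback.hom_ext
  · simp only [Category.assoc, Grpd.GroupoidScheme.j, pullback.lift_fst]
    rw [← Category.assoc, alpha_c, cmp_t (act_cond G), Category.assoc, stabArr_t,
      pullback.condition]
  · simp only [Category.assoc, Grpd.GroupoidScheme.j, pullback.lift_snd]
    rw [← Category.assoc, alpha_c, cmp_s (act_cond G)]

/-- `(γ, r) ↦ (γ ∘ r, r)` from `G ×_{U,t} R` to `R ×_{j} R`. -/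
noncomputable def beta : pullback G.stabilizerToU G.t ⟶ pullback G.j G.j :=
  pullback.lift (alpha G ≫ G.c) (pullback.snd G.stabilizerToU G.t) (alpha_c_j G)

instance : IsIso (beta G) :=
  Groth.Agent.S7500.result S G (alpha G) (alpha_fst G) (alpha_snd G) (beta G)
    (pullback.lift_fst _ _ _) (pullback.lift_snd _ _ _)

/-- the torsor square -/
theorem isPullback_act :
    IsPullback (alpha G ≫ G.c) (pullback.snd G.stabilizerToU G.t) G.j G.j :=
  IsPullback.of_iso_pullback ⟨alpha_c_j G⟩ (asIso (beta G)) (pullback.lift_fst _ _ _)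
    (pullback.lift_snd _ _ _)

/-- `r ↦ (e (t r), r)` -/
noncomputable def secR : G.R ⟶ pullback G.stabilizerToU G.t :=
  pullback.lift (G.t ≫ G.eStab) (𝟙 G.R) (by
    rw [Category.assoc, Category.id_comp]
    have : G.eStab ≫ G.stabilizerToU = 𝟙 _ := pullback.lift_snd _ _ _
    rw [this, Category.comp_id])

lemma eStab_arr : G.eStab ≫ stabArr G = G.e := pullback.lift_fst _ _ _

lemma secR_act : secR G ≫ alpha G ≫ G.c = 𝟙 G.R := by
  rw [alpha_c, precomp_cmp _ (act_cond G)]
  have h1 : secR G ≫ pullback.snd G.stabilizerToU G.t = 𝟙 _ := pullback.lift_snd _ _ _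
  have h2 : secR G ≫ pullback.fst G.stabilizerToU G.t ≫ stabArr G = G.t ≫ G.e := by
    rw [← Category.assoc, secR, pullback.lift_fst, Category.assoc, eStab_arr]
  rw [h1, h2]
  exact e_cmp' (𝟙 G.R) (by rw [Category.id_comp])

/-- `γ ↦ (γ, e (base γ))` -/
noncomputable def secG : G.stabilizer ⟶ pullback G.stabilizerToU G.t :=
  pullback.lift (𝟙 _) (G.stabilizerToU ≫ G.e) (by
    rw [Category.id_comp, Category.assoc, G.e_t, Category.comp_id])

lemma secG_act : secG G ≫ alpha G ≫ G.c = stabArr G := by
  rw [alpha_c, precomp_cmp _ (act_cond G)]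
  have h1 : secG G ≫ pullback.snd G.stabilizerToU G.t = G.stabilizerToU ≫ G.e :=
    pullback.lift_snd _ _ _
  have h2 : secG G ≫ pullback.fst G.stabilizerToU G.t ≫ stabArr G = stabArr G := by
    rw [← Category.assoc, secG, pullback.lift_fst, Category.id_comp]
  rw [h1, h2]
  exact cmp_e' (stabArr G) (by rw [← Category.assoc, stabArr_s])

section dim

variable [LocallyOfFiniteType G.s]

instance lft_j : LocallyOfFiniteType G.j := by
  have h : G.j ≫ pullback.snd G.pU G.pU = G.s := pullback.lift_snd _ _ _
  have : LocallyOfFiniteType (G.j ≫ pullback.snd G.pU G.pU) := by rw [h]; infer_instance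
  exact locallyOfFiniteType_of_comp G.j (pullback.snd G.pU G.pU)

instance lft_stab : LocallyOfFiniteType G.stabilizerToU :=
  MorphismProperty.pullback_snd _ _ inferInstance

theorem fibreDimAt_j_act [Subsingleton ↥G.U] (w : ↥(pullback G.stabilizerToU G.t)) :
    FlatMor.fibreDimAt G.j ((alpha G ≫ G.c) w) =
      FlatMor.localDim ↥G.stabilizer (pullback.fst G.stabilizerToU G.t w) := by
  have h1 := Groth.Agent.Lib.H30FibBC.fibreDimAt_eq_of_isPullback G.j G.j (alpha G ≫ G.c)
    (pullback.snd G.stabilizerToU G.t) (isPullback_act G) w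
  have h2 := Groth.Agent.Lib.H30FibBC.fibreDimAt_eq_of_isPullback G.stabilizerToU G.t
    (pullback.fst G.stabilizerToU G.t) (pullback.snd G.stabilizerToU G.t)
    (IsPullback.of_hasPullback G.stabilizerToU G.t) w
  rw [h1, Groth.Agent.Lib.H86FibDimBC.fibreDimAt_eq_localDim_of_subsingleton G.stabilizerToU] at h2
  exact h2

theorem fibreDimAt_j [Subsingleton ↥G.U] (r : ↥G.R) :
    FlatMor.fibreDimAt G.j r = FlatMor.localDim ↥G.stabilizer (G.eStab (G.t r)) := by
  have h := fibreDimAt_j_act G (secR G r)
  have e1 : (alpha G ≫ G.c) (secR G r) = r := by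
    have := congrArg (fun φ : G.R ⟶ G.R => φ r) (secR_act G)
    simpa using this
  have e2 : pullback.fst G.stabilizerToU G.t (secR G r) = G.eStab (G.t r) := by
    have h3 : secR G ≫ pullback.fst G.stabilizerToU G.t = G.t ≫ G.eStab := pullback.lift_fst _ _ _
    have := congrArg (fun φ : G.R ⟶ G.stabilizer => φ r) h3
    simpa using this
  rw [e1, e2] at h
  exact h

theorem fibreDimAt_j_stabArr [Subsingleton ↥G.U] (g : ↥G.stabilizer) :
    FlatMor.fibreDimAt G.j (stabArr G g) = FlatMor.localDim ↥G.stabilizer g := by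
  have h := fibreDimAt_j_act G (secG G g)
  have e1 : (alpha G ≫ G.c) (secG G g) = stabArr G g := by
    have := congrArg (fun φ : G.stabilizer ⟶ G.R => φ g) (secG_act G)
    simpa using this
  have e2 : pullback.fst G.stabilizerToU G.t (secG G g) = g := by
    have h3 : secG G ≫ pullback.fst G.stabilizerToU G.t = 𝟙 _ := pullback.lift_fst _ _ _
    have := congrArg (fun φ : G.stabilizer ⟶ G.stabilizer => φ g) h3
    simpa using this
  rw [e1, e2] at h
  exact h

/-- the local dimension of the stabilizer is constant -/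
theorem localDim_stab_const [Subsingleton ↥G.U] (g g' : ↥G.stabilizer) :
    FlatMor.localDim ↥G.stabilizer g = FlatMor.localDim ↥G.stabilizer g' := by
  rw [← fibreDimAt_j_stabArr, ← fibreDimAt_j_stabArr, fibreDimAt_j, fibreDimAt_j]
  congr 2
  exact Subsingleton.elim _ _

/-- the dimension of the stabilizer is the local fibre dimension of `j` at any point -/
theorem dim_stab_eq_fibreDimAt_j [Subsingleton ↥G.U] (r : ↥G.R) :
    topologicalKrullDim ↥G.stabilizer = FlatMor.fibreDimAt G.j r := by
  rw [fibreDimAt_j]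
  have h := Groth.Agent.Lib.GrpDim45.dim_open_eq_of_localDim_const
    (d := FlatMor.localDim ↥G.stabilizer (G.eStab (G.t r)))
    (fun x => localDim_stab_const G x _) ⊤ ⟨G.eStab (G.t r), trivial⟩
  rw [← h]
  exact ((Homeomorph.Set.univ ↥G.stabilizer).isHomeomorph.topologicalKrullDim_eq).symm

end dim

end Groth.Agent.Lib.H8GrpdStab
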