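import Mathlib
import Groth.Agent.Lib.H8GrpdStab
import Groth.Agent.Lib.H8FieldConst2
import Groth.Agent.Lib.H71EquiDimSch

/-!
# Groupoid schemes over a field: `j = (t, s)` maps every point to a closed point (helper8)
-/

set_option autoImplicit false
universe u
open CategoryTheory CategoryTheory.Limits AlgebraicGeometry

namespace Groth.Agent.Lib.H8GrpdStab

open Groth.Agent.Lib.H8FieldConst

variable {S : Scheme.{u}} (G : Grpd.GroupoidScheme S) (k : Type u) [Field k]
  (eU : G.U ≅ Spec (CommRingCat.of k)) [LocallyOfFiniteType G.s]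

include eU in
theorem isClosed_singleton_j (ξ : ↥G.R) :
    IsClosed ({G.j ξ} : Set ↥(pullback G.pU G.pU)) := by
  have hsubU : Subsingleton ↥G.U := Groth.Agent.Lib.H8GrpdDim.subsingleton_U G k eU
  let K : Type u := G.R.residueField ξ
  let ρ : Spec (CommRingCat.of K) ⟶ G.R := G.R.fromSpecResidueField ξ
  let a := G.s ≫ eU.hom
  let b := G.t ≫ eU.hom
  let φa : k →+* K := (Spec.preimage (ρ ≫ a)).hom
  let φb : k →+* K := (Spec.preimage (ρ ≫ b)).hom
  have ha : Spec.map (CommRingCat.ofHom φa) = ρ ≫ a := Spec.map_preimage _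
  have hb : Spec.map (CommRingCat.ofHom φb) = ρ ≫ b := Spec.map_preimage _
  letI : Algebra k K := φa.toAlgebra
  have halg : ∀ c, IsAlgebraic k (φb c) := fun c => isAlgebraic_scheme a b ρ φa φb ha hb c
  let K₀ : IntermediateField k K := algebraicClosure k K
  let ψb : k →+* K₀ := φb.codRestrict K₀ (fun c => mem_algebraicClosure_iff.mpr (halg c))
  let ι₀ : K₀ →+* K := algebraMap K₀ K
  have hψ : ι₀.comp ψb = φb := rfl
  have hφ : ι₀.comp (algebraMap k K₀) = φa := rfl
  let π : Spec (CommRingCat.of K) ⟶ Spec (CommRingCat.of K₀) := Spec.map (CommRingCat.ofHom ι₀)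
  let s₀ : Spec (CommRingCat.of K₀) ⟶ G.U :=
    Spec.map (CommRingCat.ofHom (algebraMap k K₀)) ≫ eU.inv
  let t₀ : Spec (CommRingCat.of K₀) ⟶ G.U := Spec.map (CommRingCat.ofHom ψb) ≫ eU.inv
  have hs : π ≫ s₀ = ρ ≫ G.s := by
    simp only [π, s₀]
    rw [← Category.assoc, ← Spec.map_comp, ← CommRingCat.ofHom_comp, hφ, ha]
    simp [a]
  have ht : π ≫ t₀ = ρ ≫ G.t := by
    simp only [π, t₀]
    rw [← Category.assoc, ← Spec.map_comp, ← CommRingCat.ofHom_comp, hψ, hb]
    simp [b]
  have hsubK : Subsingleton ↥(Spec (CommRingCat.of K)) :=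
    inferInstanceAs (Subsingleton (PrimeSpectrum K))
  have hsubK₀ : Subsingleton ↥(Spec (CommRingCat.of K₀)) :=
    inferInstanceAs (Subsingleton (PrimeSpectrum K₀))
  let ptK : ↥(Spec (CommRingCat.of K)) := IsLocalRing.closedPoint K
  let ptK₀ : ↥(Spec (CommRingCat.of K₀)) := IsLocalRing.closedPoint K₀
  haveI : Epi π := by
    haveI : Flat π := by
      rw [Flat.SpecMap_iff]
      delta RingHom.Flat
      infer_instance
    haveI : Surjective π := ⟨fun y => ⟨ptK, Subsingleton.elim _ _⟩⟩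
    exact Flat.epi_of_flat_of_surjective π
  have hpU : s₀ ≫ G.pU = t₀ ≫ G.pU := by
    rw [← cancel_epi π, ← Category.assoc, hs, ← Category.assoc, ht, Category.assoc,
      Category.assoc, G.s_over, G.t_over]
  let m : Spec (CommRingCat.of K₀) ⟶ pullback G.pU G.pU := pullback.lift t₀ s₀ hpU.symm
  have hm : π ≫ m = ρ ≫ G.j := by
    apply pullback.hom_ext
    · simp only [m, Grpd.GroupoidScheme.j, Category.assoc, pullback.lift_fst, ht]
    · simp only [m, Grpd.GroupoidScheme.j, Category.assoc, pullback.lift_snd, hs]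
  have hsep : IsSeparated G.pU :=
    ⟨isClosedImmersion_of_comp_eq_id (pullback.fst G.pU G.pU) (pullback.diagonal G.pU)
      (pullback.diagonal_fst _)⟩
  have hint : IsIntegralHom (Spec.map (CommRingCat.ofHom (algebraMap k K₀))) := by
    rw [IsIntegralHom.SpecMap_iff]
    exact algebraMap_isIntegral_iff.mpr inferInstance
  have h1 : m ≫ (pullback.snd G.pU G.pU ≫ eU.hom) =
      Spec.map (CommRingCat.ofHom (algebraMap k K₀)) := by
    simp only [m, s₀, ← Category.assoc, pullback.lift_snd]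
    simp
  haveI : UniversallyClosed (m ≫ (pullback.snd G.pU G.pU ≫ eU.hom)) := by
    rw [h1]; infer_instance
  haveI : UniversallyClosed m :=
    UniversallyClosed.of_comp_of_isSeparated m (pullback.snd G.pU G.pU ≫ eU.hom)
  have hcl : IsClosed (Set.range m) := m.isClosedMap.isClosed_range
  have hrange : Set.range m = {G.j ξ} := by
    have e1 : m ptK₀ = G.j ξ := by
      have h2 := congrArg (fun φ : Spec (CommRingCat.of K) ⟶ pullback G.pU G.pU => φ ptK) hm
      simp only [Scheme.Hom.comp_apply] at h2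
      rw [show π ptK = ptK₀ from Subsingleton.elim _ _] at h2
      rw [h2]
      congr 1
      exact Scheme.fromSpecResidueField_apply ξ ptK
    ext y
    constructor
    · rintro ⟨z, rfl⟩
      rw [show z = ptK₀ from Subsingleton.elim _ _]
      exact e1
    · intro hy
      exact ⟨ptK₀, e1.trans hy.symm⟩
  rw [← hrange]
  exact hcl

include eU in
/-- `dim R ≤ dim G` for the stabilizer `G` -/
theorem dim_le_dim_stab [LocallyOfFiniteType G.t] :
    topologicalKrullDim ↥G.R ≤ topologicalKrullDim ↥G.stabilizer := by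
  have hsubU : Subsingleton ↥G.U := Groth.Agent.Lib.H8GrpdDim.subsingleton_U G k eU
  by_cases hne : Nonempty ↥G.R
  swap
  · rw [not_nonempty_iff] at hne
    haveI : IsEmpty (TopologicalSpace.IrreducibleCloseds ↥G.R) :=
      ⟨fun Z => hne.elim Z.isIrreducible'.nonempty.some⟩
    rw [topologicalKrullDim, Order.krullDim_eq_bot]
    exact bot_le
  obtain ⟨r₀⟩ := hne
  -- an irreducible component `Z` with generic point `ξ`
  obtain ⟨Z, hZ, -⟩ := exists_mem_irreducibleComponents_subset_of_isIrreducible ({r₀} : Set ↥G.R)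
    isIrreducible_singleton
  have hZirr : IsIrreducible Z := hZ.1
  have hZcl : IsClosed Z := isClosed_of_mem_irreducibleComponents Z hZ
  obtain ⟨ξ, hξ⟩ := QuasiSober.sober hZirr hZcl
  have hdimZ := Groth.Agent.Lib.H8GrpdDim.dim_irreducibleComponent_eq G k eU Z hZ
  rw [← hdimZ, dim_stab_eq_fibreDimAt_j G ξ, Groth.Agent.Lib.H56LocDim.fibreDimAt_eq_fibLocDim]
  unfold Groth.Agent.Lib.H56LocDim.fibLocDim FlatMor.localDim
  refine le_iInf fun W => ?_
  obtain ⟨W, hW⟩ := W
  obtain ⟨V, hVopen, hV⟩ := isOpen_induced_iff.mp W.2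
  have hξV : ξ ∈ V := by
    have : (⟨ξ, rfl⟩ : ↥((G.j : ↥G.R → ↥(pullback G.pU G.pU)) ⁻¹' {G.j ξ})) ∈ Subtype.val ⁻¹' V := by
      rw [hV]; exact hW
    exact this
  have hZF : closure ({ξ} : Set ↥G.R) ⊆ (G.j : ↥G.R → ↥(pullback G.pU G.pU)) ⁻¹' {G.j ξ} := by
    refine closure_minimal (Set.singleton_subset_iff.mpr rfl) ?_
    exact (isClosed_singleton_j G k eU ξ).preimage G.j.continuous
  have h1 := Groth.Agent.Lib.H71EquiDimSch.dim_closure_inter_open (G.s ≫ eU.hom) ξ V hVopen hξV
  rw [← hξ.def, ← h1]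
  let F : Set ↥G.R := (G.j : ↥G.R → ↥(pullback G.pU G.pU)) ⁻¹' {G.j ξ}
  have hmemW : ∀ x : ↥(closure ({ξ} : Set ↥G.R) ∩ V), (⟨x.1, hZF x.2.1⟩ : ↥F) ∈ (W : Set ↥F) := by
    intro x
    have h3 : (⟨x.1, hZF x.2.1⟩ : ↥F) ∈ Subtype.val ⁻¹' V := x.2.2
    rw [hV] at h3
    exact h3
  let φ : ↥(closure ({ξ} : Set ↥G.R) ∩ V) → ↥(W : Set ↥F) := fun x => ⟨⟨x.1, hZF x.2.1⟩, hmemW x⟩
  have hφc : Continuous φ :=
    Continuous.subtype_mk (Continuous.subtype_mk continuous_subtype_val _) _
  let g : ↥(W : Set ↥F) → ↥G.R := fun y => y.1.1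
  have hgc : Continuous g := continuous_subtype_val.comp continuous_subtype_val
  have hφ : Topology.IsInducing φ :=
    Topology.IsInducing.of_comp hφc hgc (Topology.IsInducing.subtypeVal : Topology.IsInducing
      (Subtype.val : ↥(closure ({ξ} : Set ↥G.R) ∩ V) → ↥G.R))
  exact hφ.topologicalKrullDim_le

omit [LocallyOfFiniteType G.s] in
include eU in
theorem dim_stab_le : topologicalKrullDim ↥G.stabilizer ≤ topologicalKrullDim ↥G.R := by
  have hsubU : Subsingleton ↥G.U := Groth.Agent.Lib.H8GrpdDim.subsingleton_U G k eU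
  have h1 : IsClosedImmersion G.diag :=
    isClosedImmersion_of_comp_eq_id (pullback.fst G.pU G.pU) G.diag (pullback.lift_fst _ _ _)
  have h2 : IsClosedImmersion (pullback.fst G.j G.diag) := MorphismProperty.pullback_fst _ _ h1
  exact (pullback.fst G.j G.diag).isClosedEmbedding.isInducing.topologicalKrullDim_le

include eU in
/-- **`dim R = dim G`** for the stabilizer `G` of a groupoid scheme over a field. -/
theorem dim_eq_dim_stab [LocallyOfFiniteType G.t] :
    topologicalKrullDim ↥G.R = topologicalKrullDim ↥G.stabilizer :=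
  le_antisymm (dim_le_dim_stab G k eU) (dim_stab_le G k eU)

end Groth.Agent.Lib.H8GrpdStab
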