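import Groth.Prelude.Def_W4c2conddiscmodels
import Mathlib.Tactic

/-!
Continuants for Hirzebruch–Jung continued fractions, by recursion from the front of the list.
`hjM L = (A, B, C, D)` is the product of the matrices `[[c, -1], [1, 0]]` over the entries of `L`.
-/

set_option autoImplicit false

namespace Groth.Agent.Lib.HJContinuant

/-- The product matrix `(A, B, C, D)` of a list of digits. -/
def hjM : List ℤ → ℤ × ℤ × ℤ × ℤ
  | [] => (1, 0, 0, 1)
  | c :: L => (c * (hjM L).1 - (hjM L).2.2.1, c * (hjM L).2.1 - (hjM L).2.2.2, (hjM L).1, (hjM L).2.1)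

def hjA (L : List ℤ) : ℤ := (hjM L).1
def hjB (L : List ℤ) : ℤ := (hjM L).2.1
def hjC (L : List ℤ) : ℤ := (hjM L).2.2.1
def hjD (L : List ℤ) : ℤ := (hjM L).2.2.2

@[simp] lemma hjA_nil : hjA [] = 1 := rfl
@[simp] lemma hjB_nil : hjB [] = 0 := rfl
@[simp] lemma hjC_nil : hjC [] = 0 := rfl
@[simp] lemma hjD_nil : hjD [] = 1 := rfl
lemma hjA_cons (c : ℤ) (L : List ℤ) : hjA (c :: L) = c * hjA L - hjC L := rfl
lemma hjB_cons (c : ℤ) (L : List ℤ) : hjB (c :: L) = c * hjB L - hjD L := rfl
lemma hjC_cons (c : ℤ) (L : List ℤ) : hjC (c :: L) = hjA L := rfl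
lemma hjD_cons (c : ℤ) (L : List ℤ) : hjD (c :: L) = hjB L := rfl

/-- determinant one -/
lemma det_eq_one (L : List ℤ) : hjA L * hjD L - hjB L * hjC L = 1 := by
  induction L with
  | nil => simp
  | cons c L ih =>
    rw [hjA_cons, hjB_cons, hjC_cons, hjD_cons]
    linear_combination ih

/-- positivity when all digits are at least two -/
lemma pos_of_two_le (L : List ℤ) (h : ∀ x ∈ L, (2 : ℤ) ≤ x) : 0 ≤ hjC L ∧ hjC L < hjA L := by
  induction L with
  | nil => simp
  | cons c L ih =>
    have hc : (2 : ℤ) ≤ c := h c (List.mem_cons_self)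
    obtain ⟨h1, h2⟩ := ih (fun x hx => h x (List.mem_cons_of_mem _ hx))
    rw [hjA_cons, hjC_cons]
    constructor
    · linarith
    · nlinarith

/-- the value of the continued fraction -/
lemma hjVal_eq (L : List ℤ) (h : ∀ x ∈ L, (2 : ℤ) ≤ x) :
    HJFrac.hjVal L = (hjA L : ℚ) / (hjC L : ℚ) := by
  induction L with
  | nil => simp [HJFrac.hjVal]
  | cons c L ih =>
    have hL := fun x hx => h x (List.mem_cons_of_mem _ hx)
    obtain ⟨h1, h2⟩ := pos_of_two_le L hL
    have hA : (hjA L : ℚ) ≠ 0 := by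
      have : 0 < hjA L := lt_of_le_of_lt h1 h2
      exact_mod_cast this.ne'
    rw [HJFrac.hjVal, ih hL, inv_div, hjA_cons, hjC_cons]
    push_cast
    field_simp

/-- a solution of the three-term recurrence is transported by the matrix -/
lemma transport (L : List ℤ) : ∀ (x : ℕ → ℤ),
    (∀ i (hi : i < L.length), L[i] * x (i + 1) = x i + x (i + 2)) →
    x 0 = hjA L * x L.length + hjB L * x (L.length + 1) ∧
    x 1 = hjC L * x L.length + hjD L * x (L.length + 1) := by
  induction L with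
  | nil => intro x _; simp
  | cons c L ih =>
    intro x hx
    have h0 : c * x 1 = x 0 + x 2 := by
      have := hx 0 (by simp)
      simpa using this
    obtain ⟨e1, e2⟩ := ih (fun i => x (i + 1)) (fun i hi => by
      have := hx (i + 1) (by simp; omega)
      simpa [List.getElem_cons_succ] using this)
    simp only [List.length_cons]
    rw [hjA_cons, hjB_cons, hjC_cons, hjD_cons]
    constructor
    · have : x 0 = c * x 1 - x 2 := by linarith
      rw [this, e1, e2]
      ring
    · rw [e1]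

/-- the telescoping sum -/
lemma sum_inv_mul (L : List ℤ) : ∀ (x : ℕ → ℤ),
    (∀ i (hi : i < L.length), L[i] * x (i + 1) = x i + x (i + 2)) →
    (∀ i, i ≤ L.length + 1 → x i ≠ 0) →
    ∑ i ∈ Finset.range (L.length + 1), 1 / ((x i : ℚ) * (x (i + 1) : ℚ)) =
      (hjA L : ℚ) / ((x 0 : ℚ) * (x (L.length + 1) : ℚ)) := by
  induction L with
  | nil =>
    intro x _ _
    simp
  | cons c L ih =>
    intro x hx hne
    have hrec : ∀ i (hi : i < L.length), L[i] * x (i + 1 + 1) = x (i + 1) + x (i + 2 + 1) :=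
      fun i hi => by
        have := hx (i + 1) (by simp; omega)
        simpa [List.getElem_cons_succ] using this
    have h0 : c * x 1 = x 0 + x 2 := by
      have := hx 0 (by simp)
      simpa using this
    obtain ⟨e1, e2⟩ := transport L (fun i => x (i + 1)) hrec
    have hdet := det_eq_one L
    have ih' := ih (fun i => x (i + 1)) hrec (fun i hi => hne (i + 1) (by simp; omega))
    simp only [List.length_cons]
    rw [Finset.sum_range_succ', ih']
    have hx0 : (x 0 : ℚ) ≠ 0 := by exact_mod_cast hne 0 (by omega)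
    have hx1 : (x 1 : ℚ) ≠ 0 := by exact_mod_cast hne 1 (by simp)
    have hxk : (x (L.length + 1 + 1) : ℚ) ≠ 0 := by
      exact_mod_cast hne (L.length + 1 + 1) (by simp)
    rw [hjA_cons]
    simp only [zero_add]
    rw [div_add_div _ _ (mul_ne_zero hx1 hxk) (mul_ne_zero hx0 hx1), div_eq_div_iff
      (mul_ne_zero (mul_ne_zero hx1 hxk) (mul_ne_zero hx0 hx1)) (mul_ne_zero hx0 hxk)]
    -- key integer identity: x_{k+1} + A' x_0 = (c A' - C') x_1
    have key : x (L.length + 1 + 1) + hjA L * x 0 = (c * hjA L - hjC L) * x 1 := by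
      have hx0' : x 0 = c * x 1 - x 2 := by linarith
      have e1' : x 1 = hjA L * x (L.length + 1) + hjB L * x (L.length + 1 + 1) := e1
      have e2' : x 2 = hjC L * x (L.length + 1) + hjD L * x (L.length + 1 + 1) := e2
      have : x (L.length + 1 + 1) = hjA L * x 2 - hjC L * x 1 := by
        rw [e1', e2']
        linear_combination (-(x (L.length + 1 + 1))) * hdet
      rw [hx0']
      linear_combination this
    have keyQ : (x (L.length + 1 + 1) : ℚ) + (hjA L : ℚ) * (x 0 : ℚ) =
        ((c : ℚ) * (hjA L : ℚ) - (hjC L : ℚ)) * (x 1 : ℚ) := by exact_mod_cast key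
    push_cast
    linear_combination ((x 0 : ℚ) * (x 1 : ℚ) * (x (L.length + 1 + 1) : ℚ)) * keyQ

/-- identification of the numerator -/
lemma hjA_eq_of_hjVal (L : List ℤ) (h : ∀ x ∈ L, (2 : ℤ) ≤ x) (hL : L ≠ [])
    (n r : ℕ) (hr : 0 < r) (hcop : Nat.Coprime r n) (hhj : (n : ℚ) / r = HJFrac.hjVal L) :
    hjA L = n := by
  rw [hjVal_eq L h] at hhj
  obtain ⟨c, L', rfl⟩ := List.exists_cons_of_ne_nil hL
  have hL' := fun x hx => h x (List.mem_cons_of_mem _ hx)
  obtain ⟨h1, h2⟩ := pos_of_two_le L' hL'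
  obtain ⟨h3, h4⟩ := pos_of_two_le (c :: L') h
  have hCpos : 0 < hjC (c :: L') := by rw [hjC_cons]; exact lt_of_le_of_lt h1 h2
  have hApos : 0 < hjA (c :: L') := lt_trans hCpos h4
  have hrQ : (r : ℚ) ≠ 0 := by exact_mod_cast hr.ne'
  have hCQ : (hjC (c :: L') : ℚ) ≠ 0 := by exact_mod_cast hCpos.ne'
  rw [div_eq_div_iff hrQ hCQ] at hhj
  have hint : (n : ℤ) * hjC (c :: L') = hjA (c :: L') * (r : ℤ) := by exact_mod_cast hhj
  have hdet := det_eq_one (c :: L')
  -- n ∣ A
  have hcopZ : IsCoprime (n : ℤ) (r : ℤ) := by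
    rw [Int.isCoprime_iff_gcd_eq_one, Int.gcd_natCast_natCast, Nat.gcd_comm]
    exact hcop
  have hnA : (n : ℤ) ∣ hjA (c :: L') :=
    hcopZ.dvd_of_dvd_mul_right (Dvd.intro _ hint)
  have hAC : IsCoprime (hjA (c :: L')) (hjC (c :: L')) :=
    ⟨hjD (c :: L'), -hjB (c :: L'), by linarith⟩
  have hAn : hjA (c :: L') ∣ (n : ℤ) :=
    hAC.dvd_of_dvd_mul_right (Dvd.intro _ hint.symm)
  have hn0 : (0 : ℤ) ≤ n := Int.natCast_nonneg n
  exact Int.dvd_antisymm hApos.le hn0 hAn hnA

end Groth.Agent.Lib.HJContinuant
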