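import Groth.Prelude.Def_W4c2invhilbsl2HJ
import Groth.Agent.Lib.HJContinuant
import Mathlib.Tactic

/-!
# Hirzebruch–Jung bookkeeping for `W4c2invhilbsl2` (helper8)

Arithmetic of `gcdK, bB, tT, alpha`, the continuants `hjP, hjQ` and the numbers `nN`.
-/

set_option autoImplicit false

namespace Groth.Agent.Lib.H8HJ

open W4c2invhilbsl2 Groth.Agent.Lib.HJContinuant

section arith

variable (p q m : ℕ)

theorem gcdK_pos (hm : 0 < m) : 0 < gcdK p q m := Nat.gcd_pos_of_pos_left _ hm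

theorem gcdK_mul_bB : gcdK p q m * bB p q m = q - p :=
  Nat.mul_div_cancel' (Nat.gcd_dvd_right m (q - p))

theorem gcdK_dvd_m : gcdK p q m ∣ m := Nat.gcd_dvd_left _ _

theorem gcdK_dvd_sub : gcdK p q m ∣ q - p := Nat.gcd_dvd_right _ _

theorem gcdK_dvd_mod : gcdK p q m ∣ m * p % (q - p) :=
  (Nat.dvd_mod_iff (gcdK_dvd_sub p q m)).mpr (Dvd.dvd.mul_right (gcdK_dvd_m p q m) p)

theorem gcdK_mul_tT : gcdK p q m * tT p q m = q - p - m * p % (q - p) :=
  Nat.mul_div_cancel' (Nat.dvd_sub (gcdK_dvd_sub p q m) (gcdK_dvd_mod p q m))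

theorem tT_pos (hpq : p < q) : 0 < tT p q m := by
  have h : m * p % (q - p) < q - p := Nat.mod_lt _ (by omega)
  have h2 := gcdK_mul_tT p q m
  rcases Nat.eq_zero_or_pos (tT p q m) with h0 | h0
  · rw [h0, mul_zero] at h2; omega
  · exact h0

theorem coprime_sub_left (hpq : p < q) (hcop : Nat.Coprime p q) : Nat.Coprime (q - p) p :=
  (Nat.coprime_sub_self_left hpq.le).mpr hcop.symm

theorem mod_pos (hpq : p < q) (hcop : Nat.Coprime p q) (hnt : ¬ (q - p ∣ m)) :
    0 < m * p % (q - p) := by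
  rcases Nat.eq_zero_or_pos (m * p % (q - p)) with h0 | h0
  · exact absurd ((coprime_sub_left p q hpq hcop).dvd_of_dvd_mul_right
      (Nat.dvd_of_mod_eq_zero h0)) hnt
  · exact h0

theorem tT_lt_bB (hpq : p < q) (hcop : Nat.Coprime p q) (_hm : 0 < m) (hnt : ¬ (q - p ∣ m)) :
    tT p q m < bB p q m := by
  have h1 := gcdK_mul_tT p q m
  have h2 := gcdK_mul_bB p q m
  have h3 := mod_pos p q m hpq hcop hnt
  have h4 : gcdK p q m * tT p q m < gcdK p q m * bB p q m := by omega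
  exact lt_of_mul_lt_mul_left h4 (Nat.zero_le _)

theorem coprime_tT_bB (hpq : p < q) (hcop : Nat.Coprime p q) (hm : 0 < m) :
    Nat.Coprime (tT p q m) (bB p q m) := by
  have hlt : m * p % (q - p) < q - p := Nat.mod_lt _ (by omega)
  have h : Nat.gcd (gcdK p q m * tT p q m) (gcdK p q m * bB p q m) = gcdK p q m := by
    rw [gcdK_mul_tT, gcdK_mul_bB, Nat.gcd_self_sub_left hlt.le, ← Nat.gcd_rec, Nat.gcd_comm,
      Nat.Coprime.gcd_mul_right_cancel m (coprime_sub_left p q hpq hcop).symm]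
    rfl
  rw [Nat.gcd_mul_left] at h
  have hg := gcdK_pos p q m hm
  exact Nat.eq_of_mul_eq_mul_left hg (by rw [h, mul_one])

/-- `(q - p) (α + 1) - p m = g t` -/
theorem key_int (hpq : p < q) :
    ((q : ℤ) - p) * ((alpha p q m : ℤ) + 1) - p * m = (gcdK p q m : ℤ) * tT p q m := by
  have h1 := gcdK_mul_tT p q m
  have h2 : (q - p) * (m * p / (q - p)) + m * p % (q - p) = m * p := Nat.div_add_mod _ _
  have hlt : m * p % (q - p) < q - p := Nat.mod_lt _ (by omega)
  have h1' : (gcdK p q m : ℤ) * tT p q m = (q : ℤ) - p - ((m * p % (q - p) : ℕ) : ℤ) := by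
    have : ((gcdK p q m * tT p q m : ℕ) : ℤ) = ((q - p - m * p % (q - p) : ℕ) : ℤ) := by rw [h1]
    rw [Nat.cast_sub hlt.le, Nat.cast_sub hpq.le] at this
    push_cast at this
    exact this
  have h2' : ((q : ℤ) - p) * (alpha p q m : ℤ) + ((m * p % (q - p) : ℕ) : ℤ) = m * p := by
    have : (((q - p) * (m * p / (q - p)) + m * p % (q - p) : ℕ) : ℤ) = ((m * p : ℕ) : ℤ) := by
      rw [h2]
    rw [Nat.cast_add, Nat.cast_mul, Nat.cast_sub hpq.le] at this
    push_cast at this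
    exact this
  rw [h1']
  linear_combination h2'

theorem sub_eq_gcdK_mul_bB (hpq : p < q) : (q : ℤ) - p = (gcdK p q m : ℤ) * bB p q m := by
  have := gcdK_mul_bB p q m
  have h : ((gcdK p q m * bB p q m : ℕ) : ℤ) = ((q - p : ℕ) : ℤ) := by rw [this]
  rw [Nat.cast_sub hpq.le] at h
  push_cast at h
  exact h.symm

end arith

section continuants

variable (c : List ℤ)

theorem hjP_succ_succ (i : ℕ) : hjP c (i + 2) = c.getD i 0 * hjP c (i + 1) - hjP c i := by
  rw [hjP]

theorem hjQ_succ_succ (i : ℕ) : hjQ c (i + 2) = c.getD i 0 * hjQ c (i + 1) - hjQ c i := by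
  rw [hjQ]

@[simp] theorem hjP_zero : hjP c 0 = 0 := by rw [hjP]
@[simp] theorem hjP_one : hjP c 1 = 1 := by rw [hjP]
@[simp] theorem hjQ_zero : hjQ c 0 = -1 := by rw [hjQ]
@[simp] theorem hjQ_one : hjQ c 1 = 0 := by rw [hjQ]

/-- The determinant `Pᵢ Qᵢ₊₁ - Pᵢ₊₁ Qᵢ = 1`. -/
theorem det_hjP_hjQ (i : ℕ) : hjP c i * hjQ c (i + 1) - hjP c (i + 1) * hjQ c i = 1 := by
  induction i with
  | zero => simp
  | succ i ih =>
    rw [hjP_succ_succ, hjQ_succ_succ]
    linear_combination ih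

theorem hjP_last : hjP c (c.length + 1) = hjA c := by
  obtain ⟨e1, e2⟩ := transport c (hjP c) (fun i hi ↦ by
    rw [hjP_succ_succ, List.getD_eq_getElem _ _ hi]; ring)
  have hdet := det_eq_one c
  rw [hjP_zero] at e1
  rw [hjP_one] at e2
  linear_combination (-(hjP c (c.length + 1))) * hdet + (hjC c) * e1 - (hjA c) * e2

theorem hjQ_last : hjQ c (c.length + 1) = hjC c := by
  obtain ⟨e1, e2⟩ := transport c (hjQ c) (fun i hi ↦ by
    rw [hjQ_succ_succ, List.getD_eq_getElem _ _ hi]; ring)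
  have hdet := det_eq_one c
  rw [hjQ_zero] at e1
  rw [hjQ_one] at e2
  linear_combination (-(hjQ c (c.length + 1))) * hdet + (hjC c) * e1 - (hjA c) * e2

/-- `Pᵢ` is non-negative and strictly increasing for `i ≤ r`. -/
theorem hjP_nonneg_lt (h : ∀ x ∈ c, (2 : ℤ) ≤ x) (i : ℕ) (hi : i ≤ c.length) :
    0 ≤ hjP c i ∧ hjP c i < hjP c (i + 1) := by
  induction i with
  | zero => simp
  | succ i ih =>
    obtain ⟨h1, h2⟩ := ih (by omega)
    have hc : (2 : ℤ) ≤ c.getD i 0 := by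
      rw [List.getD_eq_getElem _ _ (by omega : i < c.length)]
      exact h _ (List.getElem_mem _)
    refine ⟨by linarith, ?_⟩
    rw [hjP_succ_succ]
    nlinarith

theorem hjP_pos (h : ∀ x ∈ c, (2 : ℤ) ≤ x) (i : ℕ) (hi1 : 1 ≤ i) (hi : i ≤ c.length + 1) :
    0 < hjP c i := by
  obtain ⟨j, rfl⟩ := Nat.exists_eq_add_of_le hi1
  have := hjP_nonneg_lt c h j (by omega)
  rw [add_comm]
  linarith

end continuants

section main

variable (p q m : ℕ) (c : List ℤ)

/-- `P_{r+1} = b` and `Q_{r+1} = t`. -/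
theorem hjP_hjQ_last (hpq : p < q) (hcop : Nat.Coprime p q) (hm : 0 < m)
    (hnt : ¬ (q - p ∣ m)) (hc : IsHJDigits p q m c) :
    hjP c (c.length + 1) = bB p q m ∧ hjQ c (c.length + 1) = tT p q m := by
  have htpos := tT_pos p q m hpq
  have htb := tT_lt_bB p q m hpq hcop hm hnt
  have hbQ : (bB p q m : ℚ) ≠ 0 := by
    have : 0 < bB p q m := by omega
    exact_mod_cast this.ne'
  have htQ : (tT p q m : ℚ) ≠ 0 := by exact_mod_cast htpos.ne'
  have hne : c ≠ [] := by
    rintro rfl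
    have := hc.2
    rw [HJFrac.hjVal] at this
    exact div_ne_zero hbQ htQ this.symm
  have hA : hjA c = bB p q m :=
    hjA_eq_of_hjVal c hc.1 hne (bB p q m) (tT p q m) htpos (coprime_tT_bB p q m hpq hcop hm)
      hc.2.symm
  have hC : hjC c = tT p q m := by
    have hv := hc.2
    rw [hjVal_eq c hc.1, hA] at hv
    by_cases hC0 : (hjC c : ℚ) = 0
    · rw [hC0, div_zero] at hv
      exact absurd hv.symm (div_ne_zero hbQ htQ)
    · rw [div_eq_div_iff hC0 htQ] at hv
      have : (tT p q m : ℚ) = hjC c := by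
        apply mul_left_cancel₀ hbQ
        push_cast at hv ⊢
        linarith
      exact_mod_cast this.symm
  rw [hjP_last, hjQ_last]
  exact ⟨hA, hC⟩

/-- `nᵢ = g (t Pᵢ - b Qᵢ)` (for all `i`). -/
theorem nN_eq (hpq : p < q) (i : ℕ) :
    nN p q m c i = (gcdK p q m : ℤ) * ((tT p q m : ℤ) * hjP c i - (bB p q m : ℤ) * hjQ c i) := by
  have h1 := key_int p q m hpq
  have h2 := sub_eq_gcdK_mul_bB p q m hpq
  rw [nN, eE, lL]
  push_cast
  linear_combination (hjP c i) * h1 - (hjQ c i) * h2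

/-- `nᵢ₊₂ = cᵢ₊₁ nᵢ₊₁ - nᵢ` (for all `i`). -/
theorem nN_succ_succ (i : ℕ) :
    nN p q m c (i + 2) = c.getD i 0 * nN p q m c (i + 1) - nN p q m c i := by
  simp only [nN, eE, lL, hjP_succ_succ, hjQ_succ_succ]
  ring

theorem nN_zero (hpq : p < q) : nN p q m c 0 = (q : ℤ) - p := by
  rw [nN_eq p q m c hpq, hjP_zero, hjQ_zero, sub_eq_gcdK_mul_bB p q m hpq]
  ring

theorem nN_one (hpq : p < q) : nN p q m c 1 = (gcdK p q m : ℤ) * tT p q m := by
  rw [nN_eq p q m c hpq, hjP_one, hjQ_one]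
  ring

theorem nN_last (hpq : p < q) (hcop : Nat.Coprime p q) (hm : 0 < m)
    (hnt : ¬ (q - p ∣ m)) (hc : IsHJDigits p q m c) : nN p q m c (c.length + 1) = 0 := by
  obtain ⟨h1, h2⟩ := hjP_hjQ_last p q m c hpq hcop hm hnt hc
  rw [nN_eq p q m c hpq, h1, h2]
  ring

theorem nN_length (hpq : p < q) (hcop : Nat.Coprime p q) (hm : 0 < m)
    (hnt : ¬ (q - p ∣ m)) (hc : IsHJDigits p q m c) : nN p q m c c.length = gcdK p q m := by
  obtain ⟨h1, h2⟩ := hjP_hjQ_last p q m c hpq hcop hm hnt hc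
  have hdet := det_hjP_hjQ c c.length
  rw [nN_eq p q m c hpq, ← h1, ← h2]
  linear_combination (gcdK p q m : ℤ) * hdet

/-- `0 ≤ nᵢ₊₁ < nᵢ` for `i ≤ r`. -/
theorem nN_nonneg_lt (hpq : p < q) (hcop : Nat.Coprime p q) (hm : 0 < m)
    (hnt : ¬ (q - p ∣ m)) (hc : IsHJDigits p q m c) (i : ℕ) (hi : i ≤ c.length) :
    0 ≤ nN p q m c (i + 1) ∧ nN p q m c (i + 1) < nN p q m c i := by
  -- backward induction
  have key : ∀ j : ℕ, j ≤ c.length →
      0 ≤ nN p q m c (c.length - j + 1) ∧ nN p q m c (c.length - j + 1) < nN p q m c (c.length - j) := by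
    intro j
    induction j with
    | zero =>
      intro _
      rw [Nat.sub_zero, nN_last p q m c hpq hcop hm hnt hc, nN_length p q m c hpq hcop hm hnt hc]
      have := gcdK_pos p q m hm
      exact ⟨le_refl _, by exact_mod_cast this⟩
    | succ j ih =>
      intro hj
      obtain ⟨h1, h2⟩ := ih (by omega)
      obtain ⟨i, hi⟩ : ∃ i, c.length - (j + 1) = i := ⟨_, rfl⟩
      have e1 : c.length - j = i + 1 := by omega
      rw [hi]
      rw [e1] at h1 h2
      have hrec := nN_succ_succ p q m c i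
      have hci : (2 : ℤ) ≤ c.getD i 0 := by
        rw [List.getD_eq_getElem _ _ (by omega : i < c.length)]
        exact hc.1 _ (List.getElem_mem _)
      refine ⟨by linarith, ?_⟩
      nlinarith
  have := key (c.length - i) (by omega)
  rwa [Nat.sub_sub_self hi] at this

theorem nN_nonneg (hpq : p < q) (hcop : Nat.Coprime p q) (hm : 0 < m)
    (hnt : ¬ (q - p ∣ m)) (hc : IsHJDigits p q m c) (i : ℕ) (hi : i ≤ c.length + 1) :
    0 ≤ nN p q m c i := by
  rcases Nat.eq_zero_or_pos i with h0 | h0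
  · rw [h0, nN_zero p q m c hpq]; have : (p : ℤ) < q := by exact_mod_cast hpq
    linarith
  · obtain ⟨j, rfl⟩ := Nat.exists_eq_add_of_le h0
    rw [add_comm]
    exact (nN_nonneg_lt p q m c hpq hcop hm hnt hc j (by omega)).1

theorem nN_pos (hpq : p < q) (hcop : Nat.Coprime p q) (hm : 0 < m)
    (hnt : ¬ (q - p ∣ m)) (hc : IsHJDigits p q m c) (i : ℕ) (hi : i ≤ c.length) :
    0 < nN p q m c i := by
  obtain ⟨h1, h2⟩ := nN_nonneg_lt p q m c hpq hcop hm hnt hc i hi
  linarith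

/-- `nᵢ < q - p` for `1 ≤ i ≤ r + 1`. -/
theorem nN_lt (hpq : p < q) (hcop : Nat.Coprime p q) (hm : 0 < m)
    (hnt : ¬ (q - p ∣ m)) (hc : IsHJDigits p q m c) (i : ℕ) (hi1 : 1 ≤ i) (hi : i ≤ c.length + 1) :
    nN p q m c i < (q : ℤ) - p := by
  induction i with
  | zero => omega
  | succ i ih =>
    have h := (nN_nonneg_lt p q m c hpq hcop hm hnt hc i (by omega)).2
    rcases Nat.eq_zero_or_pos i with h0 | h0
    · subst h0
      rw [nN_zero p q m c hpq] at h
      exact h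
    · have := ih h0 (by omega)
      linarith

/-- `nᵢ₊₁ < nⱼ` for `j ≤ i ≤ r` -/
theorem nN_antitone (hpq : p < q) (hcop : Nat.Coprime p q) (hm : 0 < m)
    (hnt : ¬ (q - p ∣ m)) (hc : IsHJDigits p q m c) (j i : ℕ) (hji : j ≤ i) (hi : i ≤ c.length) :
    nN p q m c (i + 1) < nN p q m c j := by
  induction i with
  | zero =>
    have : j = 0 := by omega
    subst this
    exact (nN_nonneg_lt p q m c hpq hcop hm hnt hc 0 (by omega)).2
  | succ i ih =>
    have h := (nN_nonneg_lt p q m c hpq hcop hm hnt hc (i + 1) hi).2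
    rcases Nat.lt_or_ge j (i + 1) with hlt | hge
    · have := ih (by omega) (by omega)
      linarith
    · have : j = i + 1 := by omega
      subst this
      exact h

end main

end Groth.Agent.Lib.H8HJ
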