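import Groth.Agent.Lib.H8HJ

/-!
# Hirzebruch–Jung bookkeeping II: the lattice-point bound (helper8)

`tI i = t Pᵢ - b Qᵢ = nᵢ / g`; lattice points `(x, y)` with `y ≡ t x mod b`, `0 < x < Pᵢ`, `0 ≤ y`
have `y ≥ tI (i-1)`.
-/

set_option autoImplicit false

namespace Groth.Agent.Lib.H8HJ

open W4c2invhilbsl2 Groth.Agent.Lib.HJContinuant

/-- Abstract lattice-point bound: for a basis `(P, T), (P', T')` with `0 < P < P'`, `0 < T' < T`,
a combination `(x, y)` with `0 < x < P'` and `0 ≤ y` has `T ≤ y`. -/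
theorem lattice_bound (P P' T T' x y l u : ℤ) (hP : 0 < P) (hPP' : P < P') (hT' : 0 < T')
    (hTT' : T' < T) (hx : x = l * P + u * P') (hy : y = l * T + u * T') (hx0 : 0 < x)
    (hxP : x < P') (hy0 : 0 ≤ y) : T ≤ y := by
  rcases lt_trichotomy u 0 with hu | hu | hu
  · -- `u ≤ -1`: then `l ≥ 1 - u`
    have hl : 1 - u ≤ l := by
      by_contra hc
      push Not at hc
      have h1 : l ≤ -u := by omega
      have h2 : l * P ≤ (-u) * P := mul_le_mul_of_nonneg_right h1 hP.le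
      have h3 : (-u) * P ≤ (-u) * P' := mul_le_mul_of_nonneg_left hPP'.le (by omega)
      nlinarith
    have h4 : (1 - u) * T ≤ l * T := mul_le_mul_of_nonneg_right hl (by linarith)
    have h5 : (-u) * T' ≤ (-u) * T := mul_le_mul_of_nonneg_left hTT'.le (by omega)
    nlinarith
  · subst hu
    have hl : 1 ≤ l := by
      by_contra hc
      push Not at hc
      have : l * P ≤ 0 := mul_nonpos_of_nonpos_of_nonneg (by omega) hP.le
      linarith
    have : 1 * T ≤ l * T := mul_le_mul_of_nonneg_right hl (by linarith)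
    linarith
  · -- `u ≥ 1`
    exfalso
    rcases le_or_gt 0 l with hl | hl
    · have h1 : 1 * P' ≤ u * P' := mul_le_mul_of_nonneg_right (by omega) (by linarith)
      have h2 : 0 ≤ l * P := mul_nonneg hl hP.le
      linarith
    · -- `l ≤ -1`: `y ≥ 0` forces `u ≥ 1 - l`, then `x ≥ P'`
      have hu' : 1 - l ≤ u := by
        by_contra hc
        push Not at hc
        have h1 : u ≤ -l := by omega
        have h2 : u * T' ≤ (-l) * T' := mul_le_mul_of_nonneg_right h1 hT'.le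
        have h3 : (-l) * T' < (-l) * T := mul_lt_mul_of_pos_left hTT' (by omega)
        nlinarith
      have h4 : (1 - l) * P' ≤ u * P' := mul_le_mul_of_nonneg_right hu' (by linarith)
      have h5 : (-l) * P ≤ (-l) * P' := mul_le_mul_of_nonneg_left hPP'.le (by omega)
      nlinarith

variable (p q m : ℕ) (c : List ℤ)

/-- `tᵢ = t Pᵢ - b Qᵢ` -/
def tI (i : ℕ) : ℤ := (tT p q m : ℤ) * hjP c i - (bB p q m : ℤ) * hjQ c i

theorem nN_eq_gcdK_mul_tI (hpq : p < q) (i : ℕ) :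
    nN p q m c i = (gcdK p q m : ℤ) * tI p q m c i := nN_eq p q m c hpq i

theorem nN_ediv_gcdK (hpq : p < q) (hm : 0 < m) (i : ℕ) :
    nN p q m c i / (gcdK p q m : ℤ) = tI p q m c i := by
  rw [nN_eq_gcdK_mul_tI p q m c hpq]
  have : (gcdK p q m : ℤ) ≠ 0 := by exact_mod_cast (gcdK_pos p q m hm).ne'
  exact Int.mul_ediv_cancel_left _ this

section

variable (hpq : p < q) (hcop : Nat.Coprime p q) (hm : 0 < m) (hnt : ¬ (q - p ∣ m))
  (hc : IsHJDigits p q m c)

include hpq hcop hm hnt hc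

theorem tI_nonneg (i : ℕ) (hi : i ≤ c.length + 1) : 0 ≤ tI p q m c i := by
  have h := nN_nonneg p q m c hpq hcop hm hnt hc i hi
  rw [nN_eq_gcdK_mul_tI p q m c hpq] at h
  have hg : (0 : ℤ) < gcdK p q m := by exact_mod_cast gcdK_pos p q m hm
  exact nonneg_of_mul_nonneg_right h hg

theorem tI_pos (i : ℕ) (hi : i ≤ c.length) : 0 < tI p q m c i := by
  have h := nN_pos p q m c hpq hcop hm hnt hc i hi
  rw [nN_eq_gcdK_mul_tI p q m c hpq] at h
  have hg : (0 : ℤ) < gcdK p q m := by exact_mod_cast gcdK_pos p q m hm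
  exact pos_of_mul_pos_right h hg.le

theorem tI_succ_lt (i : ℕ) (hi : i ≤ c.length) : tI p q m c (i + 1) < tI p q m c i := by
  have h := (nN_nonneg_lt p q m c hpq hcop hm hnt hc i hi).2
  rw [nN_eq_gcdK_mul_tI p q m c hpq, nN_eq_gcdK_mul_tI p q m c hpq] at h
  have hg : (0 : ℤ) < gcdK p q m := by exact_mod_cast gcdK_pos p q m hm
  exact lt_of_mul_lt_mul_left h hg.le

theorem tI_lt_bB (i : ℕ) (hi1 : 1 ≤ i) (hi : i ≤ c.length + 1) :
    tI p q m c i < bB p q m := by
  have h := nN_lt p q m c hpq hcop hm hnt hc i hi1 hi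
  rw [nN_eq_gcdK_mul_tI p q m c hpq, sub_eq_gcdK_mul_bB p q m hpq] at h
  have hg : (0 : ℤ) < gcdK p q m := by exact_mod_cast gcdK_pos p q m hm
  exact lt_of_mul_lt_mul_left h hg.le

/-- The lattice-point bound: if `y = t x - b k ≥ 0` and `0 < x < Pᵢ` (`1 < i ≤ r`), then
`tᵢ₋₁ ≤ y`. -/
theorem tI_pred_le (i : ℕ) (hi : 1 < i) (hir : i ≤ c.length) (x y k : ℤ)
    (hy : y = (tT p q m : ℤ) * x - (bB p q m : ℤ) * k) (hx0 : 0 < x) (hx : x < hjP c i)
    (hy0 : 0 ≤ y) : tI p q m c (i - 1) ≤ y := by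
  obtain ⟨j, rfl⟩ : ∃ j, i = j + 1 := ⟨i - 1, by omega⟩
  rw [Nat.add_sub_cancel]
  have hdet := det_hjP_hjQ c j
  refine lattice_bound (hjP c j) (hjP c (j + 1)) (tI p q m c j) (tI p q m c (j + 1)) x y
    (x * hjQ c (j + 1) - k * hjP c (j + 1)) (-x * hjQ c j + k * hjP c j)
    (hjP_pos c hc.1 j (by omega) (by omega)) (hjP_nonneg_lt c hc.1 j (by omega)).2
    (tI_pos p q m c hpq hcop hm hnt hc (j + 1) hir)
    (tI_succ_lt p q m c hpq hcop hm hnt hc j (by omega)) ?_ ?_ hx0 hx hy0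
  · linear_combination (-x) * hdet
  · rw [hy, tI, tI]
    linear_combination ((bB p q m : ℤ) * k - (tT p q m : ℤ) * x) * hdet

end

end Groth.Agent.Lib.H8HJ
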