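import Groth.Agent.Lib.H8WeightPiece2
import Mathlib.LinearAlgebra.Dimension.FreeAndStrongRankCondition

/-!
# `W4c2invhilbsl2.piece` has rank at most one when all monomials are proportional (helper8)
-/

set_option autoImplicit false

namespace Groth.Agent.Lib.H8WeightPiece

open MvPolynomial W4c2invhilbsl2

/-- If the image in `k[X] ⧸ I` of every monomial of weight `ν` is a scalar multiple of a fixed
element `v₀`, the image of the weight-`ν` piece has dimension at most one. -/
theorem rank_piece_le_one {σ : Type*} {k : Type*} [Field k] {M : Type*} [AddCommMonoid M]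
    (w : σ → M) (I : Ideal (MvPolynomial σ k)) (ν : M) (v₀ : MvPolynomial σ k ⧸ I)
    (h : ∀ d : σ →₀ ℕ, Finsupp.weight w d = ν →
      ∃ c : k, Ideal.Quotient.mk I (monomial d (1 : k)) = c • v₀) :
    Module.rank k (piece k w I ν) ≤ 1 := by
  rw [rank_submodule_le_one_iff']
  refine ⟨v₀, ?_⟩
  rw [piece, Submodule.map_le_iff_le_comap]
  intro f hf
  rw [mem_weightedHomogeneousSubmodule] at hf
  rw [Submodule.mem_comap]
  rw [f.as_sum, map_sum]
  refine Submodule.sum_mem _ fun d hd ↦ ?_
  have hwd : Finsupp.weight w d = ν := hf (by simpa [mem_support_iff] using hd)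
  obtain ⟨c, hc⟩ := h d hwd
  have : monomial d (coeff d f) = coeff d f • monomial d (1 : k) := by
    rw [smul_monomial, smul_eq_mul, mul_one]
  rw [this, map_smul]
  show coeff d f • Ideal.Quotient.mk I (monomial d (1 : k)) ∈ _
  rw [hc]
  exact Submodule.smul_mem _ _ (Submodule.smul_mem _ _ (Submodule.mem_span_singleton_self _))

/-- The image of a monomial in five variables in a quotient ring, as a product of powers. -/
theorem mk_monomial_fin5 {k : Type*} [CommRing k] (I : Ideal (MvPolynomial (Fin 5) k))
    (d : Fin 5 →₀ ℕ) :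
    Ideal.Quotient.mk I (monomial d (1 : k)) =
      Ideal.Quotient.mk I (X 0) ^ d 0 * Ideal.Quotient.mk I (X 1) ^ d 1 *
        Ideal.Quotient.mk I (X 2) ^ d 2 * Ideal.Quotient.mk I (X 3) ^ d 3 *
        Ideal.Quotient.mk I (X 4) ^ d 4 := by
  rw [monomial_eq, map_one, one_mul, Finsupp.prod_fintype _ _ (fun i ↦ pow_zero _),
    Fin.prod_univ_five]
  simp only [map_mul, map_pow]

/-- The image of a monomial in three variables in a quotient ring, as a product of powers. -/
theorem mk_monomial_fin3 {k : Type*} [CommRing k] (I : Ideal (MvPolynomial (Fin 3) k))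
    (d : Fin 3 →₀ ℕ) :
    Ideal.Quotient.mk I (monomial d (1 : k)) =
      Ideal.Quotient.mk I (X 0) ^ d 0 * Ideal.Quotient.mk I (X 1) ^ d 1 *
        Ideal.Quotient.mk I (X 2) ^ d 2 := by
  rw [monomial_eq, map_one, one_mul, Finsupp.prod_fintype _ _ (fun i ↦ pow_zero _),
    Fin.prod_univ_three]
  simp only [map_mul, map_pow]

end Groth.Agent.Lib.H8WeightPiece
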