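import Groth.Agent.Lib.H8HJ2
import Groth.Agent.Lib.H8WeightPiece3

/-!
# The ideals `idealL`: weight pieces of the quotient have rank at most one (helper8)
-/

set_option autoImplicit false

namespace Groth.Agent.Lib.H8HJ

open W4c2invhilbsl2 Groth.Agent.Lib.HJContinuant MvPolynomial Groth.Agent.Lib.H8WeightPiece

variable (p q m : ℕ) (c : List ℤ)

theorem eE_sub_lL (i : ℕ) : eE p q m c i - lL p q m c i = (m : ℤ) * hjP c i := by
  rw [eE, lL]; push_cast; ring

theorem nN_def (i : ℕ) : nN p q m c i = -(p : ℤ) * eE p q m c i + (q : ℤ) * lL p q m c i := rfl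

/-- `(q - p) lᵢ = p m Pᵢ + nᵢ` -/
theorem sub_mul_lL (i : ℕ) :
    ((q : ℤ) - p) * lL p q m c i = p * m * hjP c i + nN p q m c i := by
  have h := eE_sub_lL p q m c i
  have : eE p q m c i = lL p q m c i + m * hjP c i := by linarith
  rw [nN_def, this]; ring

section

variable (hp : 0 < p) (hpq : p < q) (hcop : Nat.Coprime p q) (hm : 0 < m) (hnt : ¬ (q - p ∣ m))
  (hc : IsHJDigits p q m c)

include hp hpq hcop hm hnt hc

theorem lL_pos (i : ℕ) (hi : 1 ≤ i) (hir : i ≤ c.length + 1) : 0 < lL p q m c i := by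
  have hpq' : (p : ℤ) < q := by exact_mod_cast hpq
  have hp' : (0 : ℤ) < p := by exact_mod_cast hp
  have hm' : (0 : ℤ) < m := by exact_mod_cast hm
  have hP := hjP_pos c hc.1 i hi hir
  have hn := nN_nonneg p q m c hpq hcop hm hnt hc i hir
  have : 0 < ((q : ℤ) - p) * lL p q m c i := by
    rw [sub_mul_lL]
    have := mul_pos (mul_pos hp' hm') hP
    linarith
  exact pos_of_mul_pos_right this (by linarith)

theorem eE_pos (i : ℕ) (hi : 1 ≤ i) (hir : i ≤ c.length + 1) : 0 < eE p q m c i := by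
  have hm' : (0 : ℤ) < m := by exact_mod_cast hm
  have hP := hjP_pos c hc.1 i hi hir
  have := lL_pos p q m c hp hpq hcop hm hnt hc i hi hir
  have h := eE_sub_lL p q m c i
  have := mul_pos hm' hP
  linarith

theorem nN_pred_le (i : ℕ) (hi : 1 ≤ i) (hir : i ≤ c.length) : nN p q m c (i - 1) ≤ (q : ℤ) - p := by
  rcases Nat.eq_or_lt_of_le hi with h1 | h1
  · rw [← h1, Nat.sub_self, nN_zero p q m c hpq]
  · exact (nN_lt p q m c hpq hcop hm hnt hc (i - 1) (by omega) (by omega)).le

/-- A pure `X₁, X₂`-monomial `X₁^β X₂^γ` with `β - γ = m K`, `K > 0`, of weight `(n', 0)` with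
`0 < n' < nᵢ₋₁` has `β ≥ eᵢ` and `γ ≥ lᵢ`. -/
theorem exponents_ge_of_lt_pred (i : ℕ) (hi : 1 ≤ i) (hir : i ≤ c.length) (β γ K : ℤ)
    (hβγ : β - γ = m * K) (hK : 0 < K) (hn0 : 0 < q * γ - p * β)
    (hn1 : q * γ - p * β < nN p q m c (i - 1)) :
    eE p q m c i ≤ β ∧ lL p q m c i ≤ γ := by
  have hpq' : (p : ℤ) < q := by exact_mod_cast hpq
  have hp' : (0 : ℤ) < p := by exact_mod_cast hp
  have hm' : (0 : ℤ) < m := by exact_mod_cast hm
  have hg0 : (0 : ℤ) < gcdK p q m := by exact_mod_cast gcdK_pos p q m hm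
  have hkey := key_int p q m hpq
  have hN := sub_eq_gcdK_mul_bB p q m hpq
  -- `n' = (q - p) γ - p m K`
  have hn' : q * γ - p * β = ((q : ℤ) - p) * γ - p * m * K := by
    have : β = γ + m * K := by linarith
    rw [this]; ring
  -- Step 1: `Pᵢ ≤ K`
  have hKP : hjP c i ≤ K := by
    rcases Nat.eq_or_lt_of_le hi with h1 | h1
    · rw [← h1, hjP_one]; omega
    · by_contra hcon
      push Not at hcon
      set k := ((alpha p q m : ℤ) + 1) * K - γ with hk
      set y := (tT p q m : ℤ) * K - (bB p q m : ℤ) * k with hy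
      have hgy : (gcdK p q m : ℤ) * y = q * γ - p * β := by
        rw [hn', hy, hk]
        linear_combination (-K) * hkey + (((alpha p q m : ℤ) + 1) * K - γ) * hN
      have hy0 : 0 ≤ y := by
        have : 0 < (gcdK p q m : ℤ) * y := by rw [hgy]; exact hn0
        exact (pos_of_mul_pos_right this hg0.le).le
      have := tI_pred_le p q m c hpq hcop hm hnt hc i h1 hir K y k rfl hK hcon hy0
      have h2 : (gcdK p q m : ℤ) * tI p q m c (i - 1) ≤ (gcdK p q m : ℤ) * y :=
        mul_le_mul_of_nonneg_left this hg0.le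
      rw [← nN_eq_gcdK_mul_tI p q m c hpq, hgy] at h2
      linarith
  -- Step 2
  have hl := sub_mul_lL p q m c i
  have hnlt := nN_lt p q m c hpq hcop hm hnt hc i hi (by omega)
  have hdiff : ((q : ℤ) - p) * (γ - lL p q m c i) =
      p * m * (K - hjP c i) + (q * γ - p * β) - nN p q m c i := by
    rw [hn']; linear_combination -hl
  have hpm : (0 : ℤ) ≤ p * m * (K - hjP c i) :=
    mul_nonneg (mul_nonneg hp'.le hm'.le) (by linarith)
  have hvl : lL p q m c i ≤ γ := by
    by_contra hcon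
    push Not at hcon
    have h1' : γ - lL p q m c i ≤ -1 := by omega
    have : ((q : ℤ) - p) * (γ - lL p q m c i) ≤ ((q : ℤ) - p) * (-1) :=
      mul_le_mul_of_nonneg_left h1' (by linarith)
    linarith
  refine ⟨?_, hvl⟩
  have h1 := eE_sub_lL p q m c i
  have : (m : ℤ) * hjP c i ≤ m * K := mul_le_mul_of_nonneg_left hKP hm'.le
  linarith

end

/-- The exponent vector `(a, b, c)`. -/
noncomputable def mk3 (a b c : ℕ) : Fin 3 →₀ ℕ :=
  Finsupp.single 0 a + Finsupp.single 1 b + Finsupp.single 2 c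

@[simp] theorem mk3_zero (a b c : ℕ) : mk3 a b c 0 = a := by simp [mk3]
@[simp] theorem mk3_one (a b c : ℕ) : mk3 a b c 1 = b := by simp [mk3]
@[simp] theorem mk3_two (a b c : ℕ) : mk3 a b c 2 = c := by simp [mk3]

theorem mk3_le {a b c : ℕ} {d : Fin 3 →₀ ℕ} (h0 : a ≤ d 0) (h1 : b ≤ d 1) (h2 : c ≤ d 2) :
    mk3 a b c ≤ d := by
  intro j
  fin_cases j
  · simpa using h0
  · simpa using h1
  · simpa using h2

theorem mk3_ne_zero {a b c : ℕ} (h : a ≠ 0 ∨ b ≠ 0 ∨ c ≠ 0) : mk3 a b c ≠ 0 := by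
  intro h0
  have e0 : mk3 a b c 0 = 0 := by rw [h0]; rfl
  have e1 : mk3 a b c 1 = 0 := by rw [h0]; rfl
  have e2 : mk3 a b c 2 = 0 := by rw [h0]; rfl
  simp at e0 e1 e2
  omega

theorem ext3 {d d' : Fin 3 →₀ ℕ} (h0 : d 0 = d' 0) (h1 : d 1 = d' 1) (h2 : d 2 = d' 2) : d = d' := by
  ext j
  fin_cases j
  · exact h0
  · exact h1
  · exact h2

/-- The criteria for a monomial to lie in `L₀ = (X₀^n, X₁^e X₂^l) + K`. -/
def Crit (n e l : ℕ) (d : Fin 3 →₀ ℕ) : Prop :=
  n ≤ d 0 ∨ (e ≤ d 1 ∧ l ≤ d 2) ∨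
    ∃ s : Fin 3 →₀ ℕ, s ≠ 0 ∧ Finsupp.weight (wt3 p q m) s = 0 ∧ s ≤ d

section

variable (hp : 0 < p) (hpq : p < q) (hcop : Nat.Coprime p q) (hm : 0 < m) (hnt : ¬ (q - p ∣ m))
  (hc : IsHJDigits p q m c)

include hp hpq hcop hm hnt hc

/-- asymmetric version of the main combinatorial lemma -/
theorem crit_or_crit_aux (i : ℕ) (hi : 1 ≤ i) (hir : i ≤ c.length) (d d' : Fin 3 →₀ ℕ) (K : ℤ)
    (hK : (d 1 : ℤ) - d' 1 - ((d 2 : ℤ) - d' 2) = m * K)
    (h1 : (d 0 : ℤ) - d' 0 - p * ((d 1 : ℤ) - d' 1) + q * ((d 2 : ℤ) - d' 2) = 0)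
    (hpos : 0 < K ∨ (K = 0 ∧ (d' 1 : ℤ) < d 1)) :
    Crit p q m (nN p q m c (i - 1)).toNat (eE p q m c i).toNat (lL p q m c i).toNat d ∨
      Crit p q m (nN p q m c (i - 1)).toNat (eE p q m c i).toNat (lL p q m c i).toNat d' := by
  have hpq' : (p : ℤ) < q := by exact_mod_cast hpq
  have hp' : (0 : ℤ) < p := by exact_mod_cast hp
  have hm' : (0 : ℤ) < m := by exact_mod_cast hm
  have hnle := nN_pred_le p q m c hp hpq hcop hm hnt hc i hi hir
  have hn0 := nN_nonneg p q m c hpq hcop hm hnt hc (i - 1) (by omega)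
  have he0 := eE_pos p q m c hp hpq hcop hm hnt hc i hi (by omega)
  have hl0 := lL_pos p q m c hp hpq hcop hm hnt hc i hi (by omega)
  have hnZ : (((nN p q m c (i - 1)).toNat : ℕ) : ℤ) = nN p q m c (i - 1) := Int.toNat_of_nonneg hn0
  have heZ : (((eE p q m c i).toNat : ℕ) : ℤ) = eE p q m c i := Int.toNat_of_nonneg he0.le
  have hlZ : (((lL p q m c i).toNat : ℕ) : ℤ) = lL p q m c i := Int.toNat_of_nonneg hl0.le
  -- criterion (i) in integer form
  have critI : ∀ e : Fin 3 →₀ ℕ, (q : ℤ) - p ≤ e 0 →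
      Crit p q m (nN p q m c (i - 1)).toNat (eE p q m c i).toNat (lL p q m c i).toNat e := by
    intro e he
    left
    have : (((nN p q m c (i - 1)).toNat : ℕ) : ℤ) ≤ e 0 := by rw [hnZ]; linarith
    exact_mod_cast this
  set α : ℤ := (d 0 : ℤ) - d' 0 with hα
  set β : ℤ := (d 1 : ℤ) - d' 1 with hβ
  set γ : ℤ := (d 2 : ℤ) - d' 2 with hγ
  have hd0 : (0 : ℤ) ≤ d 0 := Int.natCast_nonneg _
  have hd1 : (0 : ℤ) ≤ d 1 := Int.natCast_nonneg _
  have hd2 : (0 : ℤ) ≤ d 2 := Int.natCast_nonneg _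
  have hd0' : (0 : ℤ) ≤ d' 0 := Int.natCast_nonneg _
  have hd1' : (0 : ℤ) ≤ d' 1 := Int.natCast_nonneg _
  have hd2' : (0 : ℤ) ≤ d' 2 := Int.natCast_nonneg _
  rcases hpos with hKpos | ⟨hK0, hβpos⟩
  · -- `K > 0`
    have hmK : (m : ℤ) * 1 ≤ m * K := mul_le_mul_of_nonneg_left (by omega) hm'.le
    rcases le_or_gt 0 γ with hγ0 | hγ0
    · have hβm : (m : ℤ) * K ≤ β := by linarith
      rcases le_or_gt 0 α with hα0 | hα0
      · -- `λ` is a weight-zero monomial below `d`
        left; right; right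
        refine ⟨mk3 α.toNat β.toNat γ.toNat, mk3_ne_zero (Or.inr (Or.inl ?_)), ?_, mk3_le ?_ ?_ ?_⟩
        · have : 0 < β := by linarith
          omega
        · rw [weight_wt3]
          simp only [mk3_zero, mk3_one, mk3_two]
          have e0 : ((α.toNat : ℕ) : ℤ) = α := Int.toNat_of_nonneg hα0
          have e1 : ((β.toNat : ℕ) : ℤ) = β := Int.toNat_of_nonneg (by linarith)
          have e2 : ((γ.toNat : ℕ) : ℤ) = γ := Int.toNat_of_nonneg hγ0
          ext
          · show ((α.toNat : ℕ) : ℤ) - p * ((β.toNat : ℕ) : ℤ) + q * ((γ.toNat : ℕ) : ℤ) = 0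
            rw [e0, e1, e2]; linarith
          · show -((β.toNat : ℕ) : ZMod m) + ((γ.toNat : ℕ) : ZMod m) = 0
            have : ((-β + γ : ℤ) : ZMod m) = 0 := by
              rw [ZMod.intCast_zmod_eq_zero_iff_dvd]
              exact ⟨-K, by linarith⟩
            rw [← e1, ← e2] at this
            push_cast at this
            exact this
        · omega
        · omega
        · omega
      · -- `α < 0`, `n' = -α`
        have hn'eq : (q : ℤ) * γ - p * β = -α := by linarith
        rcases lt_or_ge (-α) (nN p q m c (i - 1)) with hlt | hge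
        · left; right; left
          obtain ⟨h1', h2'⟩ := exponents_ge_of_lt_pred p q m c hp hpq hcop hm hnt hc i hi hir β γ K
            hK hKpos (by linarith) (by linarith)
          constructor
          · have : (((eE p q m c i).toNat : ℕ) : ℤ) ≤ d 1 := by rw [heZ]; linarith
            exact_mod_cast this
          · have : (((lL p q m c i).toNat : ℕ) : ℤ) ≤ d 2 := by rw [hlZ]; linarith
            exact_mod_cast this
        · right; left
          have : (((nN p q m c (i - 1)).toNat : ℕ) : ℤ) ≤ d' 0 := by rw [hnZ]; linarith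
          exact_mod_cast this
    · -- `γ < 0`
      have hαeq : α = q * m * K - ((q : ℤ) - p) * β := by
        have : γ = β - m * K := by linarith
        rw [this] at h1
        linear_combination h1
      rcases le_or_gt (m : ℤ) β with hβm | hβm
      · -- `(p m, m, 0) ≤ d`
        left; right; right
        have hαpm : (p : ℤ) * m < α := by
          have h3 : β < m * K := by linarith
          have : ((q : ℤ) - p) * β < ((q : ℤ) - p) * (m * K) :=
            mul_lt_mul_of_pos_left h3 (by linarith)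
          have h4 : (p : ℤ) * m * 1 ≤ p * m * K :=
            mul_le_mul_of_nonneg_left (by omega) (by positivity)
          rw [hαeq]
          nlinarith
        refine ⟨mk3 (p * m) m 0, mk3_ne_zero (Or.inr (Or.inl hm.ne')), ?_, mk3_le ?_ ?_ (by simp)⟩
        · rw [weight_wt3]
          simp only [mk3_zero, mk3_one, mk3_two]
          ext
          · show ((p * m : ℕ) : ℤ) - p * (m : ℤ) + q * ((0 : ℕ) : ℤ) = 0
            push_cast; ring
          · show -((m : ℕ) : ZMod m) + ((0 : ℕ) : ZMod m) = 0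
            simp
        · have : ((p * m : ℕ) : ℤ) ≤ d 0 := by push_cast; linarith
          exact_mod_cast this
        · have : ((m : ℕ) : ℤ) ≤ d 1 := by linarith
          exact_mod_cast this
      · -- `β < m`: then `α > q - p`
        left
        apply critI
        have hα_big : (q : ℤ) - p ≤ α := by
          rw [hαeq]
          rcases le_or_gt β 0 with hβ0 | hβ0
          · have h3 : ((q : ℤ) - p) * β ≤ 0 :=
              mul_nonpos_of_nonneg_of_nonpos (by linarith) hβ0
            have h4 : (q : ℤ) * m * 1 ≤ q * m * K :=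
              mul_le_mul_of_nonneg_left (by omega) (by positivity)
            have h5 : (q : ℤ) * 1 ≤ q * m := mul_le_mul_of_nonneg_left (by omega) (by linarith)
            linarith
          · have h3 : ((q : ℤ) - p) * β ≤ ((q : ℤ) - p) * (m - 1) :=
              mul_le_mul_of_nonneg_left (by omega) (by linarith)
            have h4 : (q : ℤ) * m * 1 ≤ q * m * K :=
              mul_le_mul_of_nonneg_left (by omega) (by positivity)
            have h5 : (0 : ℤ) ≤ p * m := by positivity
            nlinarith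
        linarith
  · -- `K = 0`, `β > 0`: `d'` has a large `X₀`-exponent
    right
    apply critI
    have hγβ : γ = β := by rw [hK0] at hK; linarith
    have : α = -(((q : ℤ) - p) * β) := by rw [hγβ] at h1; linear_combination h1
    have h3 : ((q : ℤ) - p) * 1 ≤ ((q : ℤ) - p) * β :=
      mul_le_mul_of_nonneg_left (by omega) (by linarith)
    linarith

/-- Two distinct monomials of the same weight: one of them satisfies the criteria. -/
theorem crit_or_crit (i : ℕ) (hi : 1 ≤ i) (hir : i ≤ c.length) (d d' : Fin 3 →₀ ℕ) (hne : d ≠ d')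
    (hw : Finsupp.weight (wt3 p q m) d = Finsupp.weight (wt3 p q m) d') :
    Crit p q m (nN p q m c (i - 1)).toNat (eE p q m c i).toNat (lL p q m c i).toNat d ∨
      Crit p q m (nN p q m c (i - 1)).toNat (eE p q m c i).toNat (lL p q m c i).toNat d' := by
  rw [weight_wt3, weight_wt3] at hw
  have h1 : (d 0 : ℤ) - p * d 1 + q * d 2 = (d' 0 : ℤ) - p * d' 1 + q * d' 2 := congrArg Prod.fst hw
  have h2 : (m : ℤ) ∣ ((d 1 : ℤ) - d' 1) - ((d 2 : ℤ) - d' 2) := by
    have := congrArg Prod.snd hw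
    have h' : (((-(d 1 : ℤ) + d 2 : ℤ)) : ZMod m) = ((-(d' 1 : ℤ) + d' 2 : ℤ) : ZMod m) := by
      push_cast; exact this
    rw [ZMod.intCast_eq_intCast_iff_dvd_sub] at h'
    convert h' using 1
    ring
  obtain ⟨K, hK⟩ := h2
  have hm' : (0 : ℤ) < m := by exact_mod_cast hm
  rcases lt_trichotomy K 0 with hK0 | hK0 | hK0
  · exact (crit_or_crit_aux p q m c hp hpq hcop hm hnt hc i hi hir d' d (-K)
      (by linarith) (by linarith) (Or.inl (by omega))).symm
  · rcases lt_trichotomy (d 1 : ℤ) (d' 1) with hlt | heq | hgt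
    · exact (crit_or_crit_aux p q m c hp hpq hcop hm hnt hc i hi hir d' d 0
        (by rw [hK0] at hK; linarith) (by linarith) (Or.inr ⟨rfl, hlt⟩)).symm
    · exfalso
      apply hne
      rw [hK0] at hK
      have e1 : d 1 = d' 1 := by exact_mod_cast heq
      have e2 : d 2 = d' 2 := by
        have : (d 2 : ℤ) = d' 2 := by linarith
        exact_mod_cast this
      have e0 : d 0 = d' 0 := by
        have : (d 0 : ℤ) = d' 0 := by
          rw [heq] at h1
          have : (d 2 : ℤ) = d' 2 := by linarith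
          rw [this] at h1
          linarith
        exact_mod_cast this
      exact ext3 e0 e1 e2
    · exact crit_or_crit_aux p q m c hp hpq hcop hm hnt hc i hi hir d d' 0
        (by rw [hK0] at hK; linarith) (by linarith) (Or.inr ⟨rfl, hgt⟩)
  · exact crit_or_crit_aux p q m c hp hpq hcop hm hnt hc i hi hir d d' K hK (by linarith)
      (Or.inl hK0)

end

end Groth.Agent.Lib.H8HJ
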