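import Groth.Agent.Lib.H8HJ3

/-!
# The ideals `idealL`: weight pieces of the quotient have rank at most one, ring part (helper8)
-/

set_option autoImplicit false

namespace Groth.Agent.Lib.H8HJ

open W4c2invhilbsl2 Groth.Agent.Lib.HJContinuant MvPolynomial Groth.Agent.Lib.H8WeightPiece

variable (p q m : ℕ) (c : List ℤ)

section

variable (hp : 0 < p) (hpq : p < q) (hcop : Nat.Coprime p q) (hm : 0 < m) (hnt : ¬ (q - p ∣ m))
  (hc : IsHJDigits p q m c) {k : Type*} [Field k] (s : k)

include hp hpq hcop hm hnt hc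

/-- Every monomial is, modulo `idealL`, zero or a scalar multiple of a monomial not satisfying
the criteria. -/
theorem reduce_monomial (i : ℕ) (hi : 1 ≤ i) (hir : i ≤ c.length) :
    ∀ N : ℕ, ∀ d : Fin 3 →₀ ℕ, d 1 + d 2 ≤ N →
      Ideal.Quotient.mk (idealL k p q m c i s) (monomial d (1 : k)) = 0 ∨
      ∃ (a : k) (d' : Fin 3 →₀ ℕ),
        ¬ Crit p q m (nN p q m c (i - 1)).toNat (eE p q m c i).toNat (lL p q m c i).toNat d' ∧
        Finsupp.weight (wt3 p q m) d' = Finsupp.weight (wt3 p q m) d ∧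
        Ideal.Quotient.mk (idealL k p q m c i s) (monomial d (1 : k)) =
          a • Ideal.Quotient.mk (idealL k p q m c i s) (monomial d' (1 : k)) := by
  have hn0 := nN_nonneg p q m c hpq hcop hm hnt hc i (by omega)
  have he0 := eE_pos p q m c hp hpq hcop hm hnt hc i hi (by omega)
  have hl0 := lL_pos p q m c hp hpq hcop hm hnt hc i hi (by omega)
  set N1 := (nN p q m c (i - 1)).toNat with hN1
  set N2 := (nN p q m c i).toNat with hN2
  set E := (eE p q m c i).toNat with hE
  set L := (lL p q m c i).toNat with hL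
  have hnZ : (N2 : ℤ) = nN p q m c i := Int.toNat_of_nonneg hn0
  have heZ : (E : ℤ) = eE p q m c i := Int.toNat_of_nonneg he0.le
  have hlZ : (L : ℤ) = lL p q m c i := Int.toNat_of_nonneg hl0.le
  have hEpos : 0 < E := by
    have : (0 : ℤ) < E := by rw [heZ]; exact he0
    exact_mod_cast this
  set I := idealL k p q m c i s with hI
  set π := Ideal.Quotient.mk I with hπ
  -- relations
  have hspan : Ideal.span {X 0 ^ N1, C s * X 0 ^ N2 - X 1 ^ E * X 2 ^ L} ≤ I := le_sup_left
  have r1 : π (X 0) ^ N1 = 0 := by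
    have : (X 0 ^ N1 : MvPolynomial (Fin 3) k) ∈ I := hspan (Ideal.subset_span (by simp))
    rw [← Ideal.Quotient.eq_zero_iff_mem] at this
    simpa using this
  have r2 : π (X 1) ^ E * π (X 2) ^ L = π (C s) * π (X 0) ^ N2 := by
    have : (C s * X 0 ^ N2 - X 1 ^ E * X 2 ^ L : MvPolynomial (Fin 3) k) ∈ I :=
      hspan (Ideal.subset_span (by simp))
    rw [← Ideal.Quotient.eq_zero_iff_mem, map_sub, sub_eq_zero] at this
    simpa using this.symm
  have r3 : ∀ s' : Fin 3 →₀ ℕ, s' ≠ 0 → Finsupp.weight (wt3 p q m) s' = 0 →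
      π (monomial s' (1 : k)) = 0 := by
    intro s' hs' hw
    apply Ideal.Quotient.eq_zero_iff_mem.mpr
    exact (le_sup_right : idealK k p q m ≤ I) (Ideal.subset_span ⟨s', hs', hw, rfl⟩)
  intro N
  induction N with
  | zero =>
    intro d hd
    by_cases hcrit : Crit p q m N1 E L d
    · rcases hcrit with h | h | ⟨s', hs', hw, hle⟩
      · left
        rw [mk_monomial_fin3]
        obtain ⟨e, he⟩ := Nat.exists_eq_add_of_le h
        rw [he, pow_add, r1]; ring
      · omega
      · left
        rw [monomial_eq_mul_of_le hle, map_mul, r3 s' hs' hw, mul_zero]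
    · exact Or.inr ⟨1, d, hcrit, rfl, (one_smul _ _).symm⟩
  | succ N ih =>
    intro d hd
    by_cases hcrit : Crit p q m N1 E L d
    · rcases hcrit with h | h | ⟨s', hs', hw, hle⟩
      · left
        rw [mk_monomial_fin3]
        obtain ⟨e, he⟩ := Nat.exists_eq_add_of_le h
        rw [he, pow_add, r1]; ring
      · -- rewrite using the binomial
        obtain ⟨h1, h2⟩ := h
        set d'' := mk3 (d 0 + N2) (d 1 - E) (d 2 - L) with hd''
        have hred : π (monomial d (1 : k)) = s • π (monomial d'' (1 : k)) := by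
          have hsm : s • π (monomial d'' (1 : k)) = π (C s) * π (monomial d'' (1 : k)) := by
            rw [← map_mul, ← smul_eq_C_mul]; rfl
          rw [hsm, mk_monomial_fin3, mk_monomial_fin3]
          simp only [hd'', mk3_zero, mk3_one, mk3_two]
          obtain ⟨e1, he1⟩ := Nat.exists_eq_add_of_le h1
          obtain ⟨e2, he2⟩ := Nat.exists_eq_add_of_le h2
          rw [he1, he2, Nat.add_sub_cancel_left, Nat.add_sub_cancel_left]
          calc π (X 0) ^ d 0 * π (X 1) ^ (E + e1) * π (X 2) ^ (L + e2)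
              = π (X 0) ^ d 0 * (π (X 1) ^ E * π (X 2) ^ L) * π (X 1) ^ e1 * π (X 2) ^ e2 := by ring
            _ = π (C s) * (π (X 0) ^ (d 0 + N2) * π (X 1) ^ e1 * π (X 2) ^ e2) := by rw [r2]; ring
        have hw'' : Finsupp.weight (wt3 p q m) d'' = Finsupp.weight (wt3 p q m) d := by
          rw [weight_wt3, weight_wt3]
          simp only [hd'', mk3_zero, mk3_one, mk3_two]
          have e1 : ((d 1 - E : ℕ) : ℤ) = (d 1 : ℤ) - E := Nat.cast_sub h1
          have e2 : ((d 2 - L : ℕ) : ℤ) = (d 2 : ℤ) - L := Nat.cast_sub h2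
          have e1' : ((d 1 - E : ℕ) : ZMod m) = (d 1 : ZMod m) - E := Nat.cast_sub h1
          have e2' : ((d 2 - L : ℕ) : ZMod m) = (d 2 : ZMod m) - L := Nat.cast_sub h2
          ext
          · show ((d 0 + N2 : ℕ) : ℤ) - p * ((d 1 - E : ℕ) : ℤ) + q * ((d 2 - L : ℕ) : ℤ) =
              (d 0 : ℤ) - p * d 1 + q * d 2
            rw [e1, e2]; push_cast; rw [hnZ, heZ, hlZ, nN_def]; ring
          · show -((d 1 - E : ℕ) : ZMod m) + ((d 2 - L : ℕ) : ZMod m) =
              -(d 1 : ZMod m) + (d 2 : ZMod m)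
            rw [e1', e2']
            have : ((E : ℤ) : ZMod m) - ((L : ℤ) : ZMod m) = 0 := by
              rw [← Int.cast_sub, heZ, hlZ, eE_sub_lL]
              simp
            push_cast at this
            linear_combination this
        have hsmall : d'' 1 + d'' 2 ≤ N := by
          simp only [hd'', mk3_one, mk3_two]
          omega
        rcases ih d'' hsmall with h0 | ⟨a, d', hd'1, hd'2, hd'3⟩
        · left; rw [hred, h0, smul_zero]
        · exact Or.inr ⟨s * a, d', hd'1, hd'2.trans hw'', by rw [hred, hd'3, smul_smul]⟩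
      · left
        rw [monomial_eq_mul_of_le hle, map_mul, r3 s' hs' hw, mul_zero]
    · exact Or.inr ⟨1, d, hcrit, rfl, (one_smul _ _).symm⟩

/-- The image in `k[X₀,X₁,X₂] ⧸ idealL` of every weight piece has dimension at most one. -/
theorem rank_piece_idealL_le_one (i : ℕ) (hi : 1 ≤ i) (hir : i ≤ c.length) (ν : ℤ × ZMod m) :
    Module.rank k (piece k (wt3 p q m) (idealL k p q m c i s) ν) ≤ 1 := by
  classical
  by_cases hex : ∃ d₀ : Fin 3 →₀ ℕ, Finsupp.weight (wt3 p q m) d₀ = ν ∧
      ¬ Crit p q m (nN p q m c (i - 1)).toNat (eE p q m c i).toNat (lL p q m c i).toNat d₀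
  · obtain ⟨d₀, hd₀, hcrit₀⟩ := hex
    refine rank_piece_le_one _ _ _ (Ideal.Quotient.mk _ (monomial d₀ (1 : k))) fun d hd ↦ ?_
    rcases reduce_monomial p q m c hp hpq hcop hm hnt hc s i hi hir (d 1 + d 2) d le_rfl with
      h0 | ⟨a, d', hd'1, hd'2, hd'3⟩
    · exact ⟨0, by rw [h0, zero_smul]⟩
    · have : d' = d₀ := by
        by_contra hne
        rcases crit_or_crit p q m c hp hpq hcop hm hnt hc i hi hir d' d₀ hne
          (by rw [hd'2, hd, hd₀]) with h | h
        · exact hd'1 h
        · exact hcrit₀ h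
      rw [this] at hd'3
      exact ⟨a, hd'3⟩
  · refine rank_piece_le_one _ _ _ 0 fun d hd ↦ ⟨0, ?_⟩
    rw [zero_smul]
    rcases reduce_monomial p q m c hp hpq hcop hm hnt hc s i hi hir (d 1 + d 2) d le_rfl with
      h0 | ⟨a, d', hd'1, hd'2, hd'3⟩
    · exact h0
    · exact absurd ⟨d', hd'2.trans hd, hd'1⟩ hex

end

end Groth.Agent.Lib.H8HJ
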