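import Groth.Agent.Lib.H8CM11
import Groth.Agent.Lib.H8DepthBC
import Groth.Agent.Lib.SmoothRegular

/-!
# Depth of a split finite extension with going-down (helper8)

`A → R` a finite injective map of Noetherian rings with going-down and an `A`-linear retraction
`E : R → A`.  Lower bounds for `depth R_q` at all primes `q ⊇ pR` descend to `depth_{A_p} R_p`
and to `depth A_p`.
-/

set_option autoImplicit false
set_option linter.unusedSectionVars false
universe u v w

namespace Groth.Agent.Lib.H8InvCM

open RingTheory.Sequence IsLocalRing Pointwise Module Groth.Agent.Lib.DepthBasic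
  Groth.Agent.Lib.DepthRees LocCoh Groth.Agent.Lib.H8CM

section retract

variable {A : Type u} [CommRing A]

/-- Weakly regular sequences descend to retracts. -/
theorem isWeaklyRegular_of_retract (rs : List A) :
    ∀ {M : Type v} {N : Type w} [AddCommGroup M] [AddCommGroup N] [Module A M] [Module A N]
      (i : N →ₗ[A] M) (π : M →ₗ[A] N), π ∘ₗ i = LinearMap.id →
      IsWeaklyRegular M rs → IsWeaklyRegular N rs := by
  induction rs with
  | nil => intro M N _ _ _ _ i π _ _; exact IsWeaklyRegular.nil A N
  | cons r rs ih =>
    intro M N _ _ _ _ i π h hreg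
    rw [isWeaklyRegular_cons_iff] at hreg ⊢
    have hinj : Function.Injective i := by
      intro x y hxy
      have := congrArg π hxy
      rwa [← LinearMap.comp_apply, ← LinearMap.comp_apply, h] at this
    refine ⟨?_, ih (QuotSMulTop.map r i) (QuotSMulTop.map r π) ?_ hreg.2⟩
    · intro x y hxy
      apply hinj
      apply hreg.1
      simpa using congrArg i hxy
    · apply LinearMap.ext
      intro x
      obtain ⟨x, rfl⟩ := Submodule.Quotient.mk_surjective _ x
      have := LinearMap.congr_fun h x
      simp only [LinearMap.comp_apply, LinearMap.id_apply] at this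
      change (Submodule.Quotient.mk (π (i x)) : QuotSMulTop r N) = Submodule.Quotient.mk x
      rw [this]

end retract

section main

variable {A R : Type u} [CommRing A] [CommRing R] [Algebra A R] [IsNoetherianRing A]
  [IsNoetherianRing R] [Module.Finite A R] [Algebra.HasGoingDown A R]

/-- Under going-down, `ht p ≤ ht q` whenever `pR ⊆ q`. -/
theorem height_le_height_of_map_le (p : Ideal A) [p.IsPrime] (q : Ideal R) [q.IsPrime]
    (hpq : p.map (algebraMap A R) ≤ q) : p.height ≤ q.height :=
  (Ideal.height_mono (Ideal.map_le_iff_le_comap.mp hpq)).trans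
    (Groth.Agent.Lib.SmoothRegular.height_under_le_of_hasGoingDown q)

variable (hinj : Function.Injective (algebraMap A R))

include hinj in
/-- If `depth R_q ≥ n` for all primes `q ⊇ pR`, then `p` contains a sequence of length `n` which
is weakly regular on the `A`-module `R`. -/
theorem exists_isWeaklyRegular_of_forall_le_depth (p : Ideal A) [p.IsPrime] (n : ℕ)
    (hn : ∀ (q : Ideal R) [q.IsPrime], p.map (algebraMap A R) ≤ q →
      (n : ℕ∞) ≤ depth (Localization.AtPrime q) (LocalizedModule q.primeCompl R)) :
    ∃ rs : List A, rs.length = n ∧ (∀ r ∈ rs, r ∈ p) ∧ IsWeaklyRegular R rs := by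
  have hint : Algebra.IsIntegral A R := Algebra.IsIntegral.of_finite A R
  obtain ⟨q0, -, hq0, hq0p⟩ := Ideal.exists_ideal_over_prime_of_isIntegral p (⊥ : Ideal R)
    (by rw [Ideal.comap_bot_of_injective _ hinj]; exact bot_le)
  have hne : p.map (algebraMap A R) ≠ ⊤ := by
    intro h
    apply hq0.ne_top
    rw [eq_top_iff, ← h, Ideal.map_le_iff_le_comap, hq0p]
  have hIB : (p.map (algebraMap A R)) • (⊤ : Submodule R R) ≠ ⊤ := smul_top_self_ne_top hne
  have hIA : p • (⊤ : Submodule A R) ≠ ⊤ :=
    fun h => hIB ((Groth.Agent.Lib.H8DepthBC.map_smul_top_eq_top_iff R p).mpr h)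
  obtain ⟨fs, hlen, hmem, hreg⟩ := (forall_le_depth_localizedModule_iff (A := R) (M := R)
    (p.map (algebraMap A R)) n).mp hn
  have h1 : (n : ℕ∞) ≤ idealDepth (p.map (algebraMap A R)) R :=
    (natCast_le_idealDepth_iff _ R hIB n).mpr ⟨fs, hlen, hmem, hreg⟩
  rw [← Groth.Agent.Lib.H8DepthBC.idealDepth_eq_idealDepth_map p R] at h1
  exact (natCast_le_idealDepth_iff p R hIA n).mp h1

include hinj in
/-- Lower bounds for `depth R_q` (`q ⊇ pR`) descend to `depth_{A_p} R_p`. -/
theorem le_depth_localizedModule (p : Ideal A) [p.IsPrime] (n : ℕ)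
    (hn : ∀ (q : Ideal R) [q.IsPrime], p.map (algebraMap A R) ≤ q →
      (n : ℕ∞) ≤ depth (Localization.AtPrime q) (LocalizedModule q.primeCompl R)) :
    (n : ℕ∞) ≤ depth (Localization.AtPrime p) (LocalizedModule p.primeCompl R) := by
  obtain ⟨rs, rfl, hmem, hreg⟩ := exists_isWeaklyRegular_of_forall_le_depth hinj p n hn
  exact length_le_depth_localizedModule' p hreg hmem

/-- Lower bounds for `depth R_q` (`q ⊇ pR`) descend to `depth A_p` when `A` is a direct summand
of `R`. -/
theorem le_depth_localizedModule_self (E : R →ₗ[A] A) (hE : ∀ a, E (algebraMap A R a) = a)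
    (p : Ideal A) [p.IsPrime] (n : ℕ)
    (hn : ∀ (q : Ideal R) [q.IsPrime], p.map (algebraMap A R) ≤ q →
      (n : ℕ∞) ≤ depth (Localization.AtPrime q) (LocalizedModule q.primeCompl R)) :
    (n : ℕ∞) ≤ depth (Localization.AtPrime p) (LocalizedModule p.primeCompl A) := by
  have hinj : Function.Injective (algebraMap A R) := by
    intro a b hab
    rw [← hE a, ← hE b, hab]
  obtain ⟨rs, rfl, hmem, hreg⟩ := exists_isWeaklyRegular_of_forall_le_depth hinj p n hn
  have hreg' : IsWeaklyRegular A rs :=
    isWeaklyRegular_of_retract rs (Algebra.linearMap A R) E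
      (by
        apply LinearMap.ext
        intro a
        simp only [LinearMap.comp_apply, Algebra.linearMap_apply, LinearMap.id_apply]
        exact hE a) hreg
  exact length_le_depth_localizedModule' p hreg' hmem

/-- The combined statement with `min m (ht ·)` bounds. -/
theorem min_height_le_depth (E : R →ₗ[A] A) (hE : ∀ a, E (algebraMap A R a) = a) (m : ℕ∞)
    (hm : ∀ (q : Ideal R) [q.IsPrime],
      min m q.height ≤ depth (Localization.AtPrime q) (LocalizedModule q.primeCompl R))
    (p : Ideal A) [p.IsPrime] :
    min m p.height ≤ depth (Localization.AtPrime p) (LocalizedModule p.primeCompl R) ∧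
    min m p.height ≤ depth (Localization.AtPrime p) (LocalizedModule p.primeCompl A) := by
  have hinj : Function.Injective (algebraMap A R) := by
    intro a b hab
    rw [← hE a, ← hE b, hab]
  have hfin : min m p.height ≠ ⊤ :=
    ne_top_of_le_ne_top (Ideal.height_ne_top_of_isPrime) (min_le_right _ _)
  obtain ⟨n, hn⟩ := ENat.ne_top_iff_exists.mp hfin
  have key : ∀ (q : Ideal R) [q.IsPrime], p.map (algebraMap A R) ≤ q →
      (n : ℕ∞) ≤ depth (Localization.AtPrime q) (LocalizedModule q.primeCompl R) := by
    intro q _ hpq
    rw [hn]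
    exact (min_le_min le_rfl (height_le_height_of_map_le p q hpq)).trans (hm q)
  rw [← hn]
  exact ⟨le_depth_localizedModule hinj p n key, le_depth_localizedModule_self E hE p n key⟩

/-- **Serre's condition descends to a split finite extension with going-down.** -/
theorem hasSk_of_hasSk (E : R →ₗ[A] A) (hE : ∀ a, E (algebraMap A R a) = a) (r : ℕ)
    (hR : HasSk r R R) : HasSk r A R ∧ HasSk r A A := by
  have hm : ∀ (q : Ideal R) [q.IsPrime],
      min (r : ℕ∞) q.height ≤
        depth (Localization.AtPrime q) (LocalizedModule q.primeCompl R) := by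
    intro q _
    rw [depth_eq_of_equiv (localizedModuleSelfEquiv q)]
    exact (hasSk_self_iff r).mp hR q
  constructor
  · intro p _
    have h1 := (min_height_le_depth E hE (r : ℕ∞) hm p).1
    have h2 : Module.supportDim (Localization.AtPrime p) (LocalizedModule p.primeCompl R) ≤
        ((p.height : ℕ∞) : WithBot ℕ∞) := by
      rw [← IsLocalization.AtPrime.ringKrullDim_eq_height p (Localization.AtPrime p)]
      exact Module.supportDim_le_ringKrullDim _ _
    calc min (r : WithBot ℕ∞)
          (Module.supportDim (Localization.AtPrime p) (LocalizedModule p.primeCompl R))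
        ≤ min (r : WithBot ℕ∞) ((p.height : ℕ∞) : WithBot ℕ∞) := min_le_min le_rfl h2
      _ = ((min (r : ℕ∞) p.height : ℕ∞) : WithBot ℕ∞) := by rw [WithBot.coe_min]; rfl
      _ ≤ _ := WithBot.coe_le_coe.mpr h1
  · rw [hasSk_self_iff]
    intro p _
    have h1 := (min_height_le_depth E hE (r : ℕ∞) hm p).2
    rwa [depth_eq_of_equiv (localizedModuleSelfEquiv p)] at h1

/-- **Cohen–Macaulayness descends to a split finite extension with going-down**, and the big
ring is a maximal Cohen–Macaulay module over the small one. -/
theorem isCM_of_isCM (E : R →ₗ[A] A) (hE : ∀ a, E (algebraMap A R a) = a)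
    [hR : IsCohenMacaulayRing R] :
    IsCohenMacaulayRing A ∧ ∀ (p : Ideal A) [p.IsPrime],
      IsCohenMacaulayModule (Localization.AtPrime p) (LocalizedModule p.primeCompl R) ∧
        Module.supportDim (Localization.AtPrime p) (LocalizedModule p.primeCompl R) =
          ringKrullDim (Localization.AtPrime p) := by
  have hinj : Function.Injective (algebraMap A R) := by
    intro a b hab
    rw [← hE a, ← hE b, hab]
  have hm : ∀ (q : Ideal R) [q.IsPrime],
      min (⊤ : ℕ∞) q.height ≤
        depth (Localization.AtPrime q) (LocalizedModule q.primeCompl R) := by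
    intro q _
    rw [depth_eq_of_equiv (localizedModuleSelfEquiv q), min_eq_right le_top]
    have h := (hR.isCohenMacaulayLocalRing_localization q).supportDim_eq_depth
    rw [Module.supportDim_self_eq_ringKrullDim,
      IsLocalization.AtPrime.ringKrullDim_eq_height q (Localization.AtPrime q)] at h
    exact le_of_eq (WithBot.coe_injective h)
  have key : ∀ (p : Ideal A) [p.IsPrime],
      p.height ≤ depth (Localization.AtPrime p) (LocalizedModule p.primeCompl R) ∧
      p.height ≤ depth (Localization.AtPrime p) (LocalizedModule p.primeCompl A) := by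
    intro p _
    have := min_height_le_depth E hE ⊤ hm p
    rwa [min_eq_right le_top] at this
  constructor
  · refine ⟨fun p _ => ?_⟩
    refine ⟨le_antisymm ?_ ?_⟩
    · rw [Module.supportDim_self_eq_ringKrullDim,
        IsLocalization.AtPrime.ringKrullDim_eq_height p (Localization.AtPrime p)]
      have h := (key p).2
      rw [depth_eq_of_equiv (localizedModuleSelfEquiv p)] at h
      exact WithBot.coe_le_coe.mpr h
    · exact depth_le_supportDim _
  · intro p _
    have hsupp : (⟨p, inferInstance⟩ : PrimeSpectrum A) ∈ Module.support A R := by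
      rw [Module.mem_support_iff_of_finite]
      intro a ha
      have h1 : a • (1 : R) = 0 := Module.mem_annihilator.mp ha 1
      rw [Algebra.smul_def, mul_one, ← map_zero (algebraMap A R)] at h1
      rw [hinj h1]
      exact zero_mem _
    haveI hnt : Nontrivial (LocalizedModule p.primeCompl R) := Module.mem_support_iff.mp hsupp
    have h1 : ((depth (Localization.AtPrime p) (LocalizedModule p.primeCompl R) : ℕ∞) :
        WithBot ℕ∞) ≤
        Module.supportDim (Localization.AtPrime p) (LocalizedModule p.primeCompl R) :=
      depth_le_supportDim _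
    have h2 : Module.supportDim (Localization.AtPrime p) (LocalizedModule p.primeCompl R) ≤
        ringKrullDim (Localization.AtPrime p) := Module.supportDim_le_ringKrullDim _ _
    have h3 : ringKrullDim (Localization.AtPrime p) ≤
        ((depth (Localization.AtPrime p) (LocalizedModule p.primeCompl R) : ℕ∞) :
          WithBot ℕ∞) := by
      rw [IsLocalization.AtPrime.ringKrullDim_eq_height p (Localization.AtPrime p)]
      exact WithBot.coe_le_coe.mpr (key p).1
    exact ⟨le_antisymm (h2.trans h3) h1, le_antisymm h2 (h3.trans h1)⟩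

end main

end Groth.Agent.Lib.H8InvCM
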