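import Groth.Agent.Lib.CoactNorm55

/-!
# Invariants of a finite group scheme action: conjugacy of primes and going-down (helper8)

`k` a field, `H` a finite-dimensional commutative Hopf algebra, `R` a commutative comodule algebra,
`A = R^H` the invariants.

* `not_isUnit_theta`: if `q' ∩ A ⊆ q` then for `r ∈ q'` the element `(x ⊗ id)(ρ r) ∈ κ(q) ⊗ H` is
  not a unit (norm argument, using helper55's `NmCoact`).
* `exists_prime_conj`: primes `q, q'` of `R` over the same prime of `A` are conjugate: there is a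
  prime `Q` of `R ⊗ H` with `Q ∩ (R ⊗ 1) = q` and `ρ⁻¹ Q = q'`.
* `hasGoingDown_invariants`: `A → R` has going-down.
-/

set_option autoImplicit false
universe u

open TensorProduct

namespace Groth.Agent.Lib.H8InvGD

open Groth.Agent.Lib.NormProj55 Groth.Agent.Lib.FinInv55 Groth.Agent.Lib.CoactNorm55

variable {k H R : Type u} [Field k] [CommRing H] [HopfAlgebra k H] [Module.Finite k H]
  [CommRing R] [Algebra k R] [HopfRep.Comod k H R] [GLin.IsCoactAlg k H R]

/-- The map `θ = (x ⊗ id) ∘ ρ : R → K ⊗ H` attached to a `K`-valued point `x`. -/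
noncomputable def theta {K : Type u} [Field K] [Algebra k K] (x : R →ₐ[k] K) : R →ₐ[k] K ⊗[k] H :=
  (Algebra.TensorProduct.map x (AlgHom.id k H)).comp (GLin.coactAlgHom k H R)

theorem theta_of_mem_invariants {K : Type u} [Field K] [Algebra k K] (x : R →ₐ[k] K) {c : R}
    (hc : c ∈ GLin.invariants k H R) : theta (H := H) x c = x c ⊗ₜ[k] (1 : H) := by
  have h1 : GLin.coactAlgHom k H R c = c ⊗ₜ[k] (1 : H) := (GLin.mem_invariants_iff k H R c).1 hc
  change Algebra.TensorProduct.map x (AlgHom.id k H) (GLin.coactAlgHom k H R c) = _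
  rw [h1, Algebra.TensorProduct.map_tmul, map_one]

/-- Norm argument: if the invariant elements of `q'` are killed by `x`, then `θ r` is a non-unit
for all `r ∈ q'`. -/
theorem not_isUnit_theta {K : Type u} [Field K] [Algebra k K] (x : R →ₐ[k] K) (q' : Ideal R)
    (h : ∀ c ∈ GLin.invariants k H R, c ∈ q' → x c = 0) {r : R} (hr : r ∈ q') :
    ¬ IsUnit (theta (H := H) x r) := by
  obtain ⟨N, a, g, hag⟩ := exists_coords k H
  intro hu
  have h2 : x (NmCoact a g r) = Nm a g K (theta (H := H) x r) := by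
    rw [NmCoact, ← Nm_map]
    rfl
  have h3 : NmCoact a g r ∈ q' := by
    obtain ⟨c, hc⟩ := Ideal.mem_span_singleton'.1 (NmCoact_mem_span a g hag r)
    rw [← hc]
    exact q'.mul_mem_left _ hr
  have h4 : x (NmCoact a g r) = 0 := h _ (NmCoact_mem_invariants a g hag r) h3
  have h6 := isUnit_Nm a g K hag hu
  rw [← h2, h4] at h6
  exact not_isUnit_zero h6

/-- If the invariant elements of `q'` lie in `q`, some prime `Q` of `R ⊗ H` restricts to `q` along
`r ↦ r ⊗ 1` and contains `ρ(q')`. -/
theorem exists_prime_le (q q' : Ideal R) [q.IsPrime] [q'.IsPrime]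
    (h : ∀ c ∈ GLin.invariants k H R, c ∈ q' → c ∈ q) :
    ∃ Q : Ideal (R ⊗[k] H), Q.IsPrime ∧ Q.comap (algebraMap R (R ⊗[k] H)) = q ∧
      q' ≤ Q.comap (GLin.coactAlgHom k H R) := by
  classical
  let K := q.ResidueField
  let x : R →ₐ[k] K := IsScalarTower.toAlgHom k R K
  have hx : ∀ r : R, x r = 0 ↔ r ∈ q := fun r => Ideal.algebraMap_residueField_eq_zero
  have hfin : Module.Finite K (K ⊗[k] H) := inferInstance
  have hart : IsArtinianRing (K ⊗[k] H) := IsArtinianRing.of_finite K _
  have hnu : ∀ r ∈ q', ¬ IsUnit (theta (H := H) x r) := fun r hr =>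
    not_isUnit_theta x q' (fun c hc hcq => (hx c).2 (h c hc hcq)) hr
  have hfinite : {I : Ideal (K ⊗[k] H) | I.IsMaximal}.Finite :=
    IsArtinianRing.setOfPred_isMaximal_finite (K ⊗[k] H)
  let s : Finset (Ideal (K ⊗[k] H)) := hfinite.toFinset
  let f : Ideal (K ⊗[k] H) → Ideal R := fun M => M.comap (theta (H := H) x)
  have hsub : (q' : Set R) ⊆ ⋃ M ∈ (s : Set (Ideal (K ⊗[k] H))), (f M : Set R) := by
    intro r hr
    obtain ⟨M, hM, hrM⟩ := exists_max_ideal_of_mem_nonunits (hnu r hr)
    simp only [Set.mem_iUnion]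
    exact ⟨M, by simpa [s] using hM, hrM⟩
  have hprime : ∀ M ∈ s, (f M).IsPrime := by
    intro M hM
    have hM' : M.IsMaximal := by simpa [s] using hM
    exact Ideal.comap_isPrime _ M
  obtain ⟨M, hMs, hle⟩ := (Ideal.subset_union_prime (s := s) (f := f) ⊥ ⊥
    (fun M hM _ _ => hprime M hM)).1 hsub
  have hM : M.IsMaximal := by simpa [s] using hMs
  refine ⟨M.comap (Algebra.TensorProduct.map x (AlgHom.id k H)), Ideal.comap_isPrime _ M, ?_, ?_⟩
  · ext r
    rw [Ideal.mem_comap, Ideal.mem_comap, ← hx r]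
    have e : Algebra.TensorProduct.map x (AlgHom.id k H) (algebraMap R (R ⊗[k] H) r) =
        algebraMap K (K ⊗[k] H) (x r) := by
      rw [Algebra.TensorProduct.algebraMap_apply, Algebra.TensorProduct.algebraMap_apply,
        Algebra.TensorProduct.map_tmul, map_one]
      rfl
    rw [e]
    constructor
    · intro hmem
      by_contra hne
      exact hM.ne_top (Ideal.eq_top_of_isUnit_mem _ hmem ((IsUnit.mk0 _ hne).map _))
    · intro h0
      rw [h0, map_zero]
      exact M.zero_mem
  · exact hle

/-- For an invariant element, `ρ c = c ⊗ 1`. -/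
theorem coactAlgHom_algebraMap (c : GLin.invariants k H R) :
    GLin.coactAlgHom k H R (algebraMap (GLin.invariants k H R) R c) =
      algebraMap R (R ⊗[k] H) (algebraMap (GLin.invariants k H R) R c) := by
  rw [Algebra.TensorProduct.algebraMap_apply]
  exact (GLin.mem_invariants_iff k H R _).1 c.2

/-- The two restrictions of a prime of `R ⊗ H` to `R` have the same invariant elements. -/
theorem comap_comap_coact_eq (Q : Ideal (R ⊗[k] H)) :
    (Q.comap (GLin.coactAlgHom k H R)).comap (algebraMap (GLin.invariants k H R) R) =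
      (Q.comap (algebraMap R (R ⊗[k] H))).comap (algebraMap (GLin.invariants k H R) R) := by
  ext c
  simp only [Ideal.mem_comap]
  rw [coactAlgHom_algebraMap]

/-- `R` is integral over the invariants. -/
theorem isIntegral_invariants' : Algebra.IsIntegral (GLin.invariants k H R) R := by
  classical
  exact ⟨fun r => isIntegral_invariants (Module.finBasis k H) r⟩

/-- **Conjugacy**: two primes of `R` with the same invariant elements are the two restrictions of
a single prime of `R ⊗ H`. -/
theorem exists_prime_conj (q q' : Ideal R) [q.IsPrime] [q'.IsPrime]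
    (h : q.comap (algebraMap (GLin.invariants k H R) R) =
      q'.comap (algebraMap (GLin.invariants k H R) R)) :
    ∃ Q : Ideal (R ⊗[k] H), Q.IsPrime ∧ Q.comap (algebraMap R (R ⊗[k] H)) = q ∧
      Q.comap (GLin.coactAlgHom k H R) = q' := by
  have h' : ∀ c ∈ GLin.invariants k H R, c ∈ q' → c ∈ q := by
    intro c hc hcq
    have : (⟨c, hc⟩ : GLin.invariants k H R) ∈
        q'.comap (algebraMap (GLin.invariants k H R) R) := hcq
    rw [← h] at this
    exact this
  obtain ⟨Q, hQ, hQq, hle⟩ := exists_prime_le (H := H) q q' h'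
  refine ⟨Q, hQ, hQq, ?_⟩
  by_contra hne
  have hlt : q' < Q.comap (GLin.coactAlgHom k H R) := lt_of_le_of_ne hle (Ne.symm hne)
  obtain ⟨y, hyQ, hyq⟩ := Set.exists_of_ssubset hlt
  have hprime : (Q.comap (GLin.coactAlgHom k H R)).IsPrime := Ideal.comap_isPrime _ Q
  have hint : IsIntegral (GLin.invariants k H R) y :=
    (isIntegral_invariants' (k := k) (H := H) (R := R)).isIntegral y
  have := Ideal.comap_lt_comap_of_integral_mem_sdiff (R := GLin.invariants k H R) hle
    ⟨hyQ, hyq⟩ hint
  rw [comap_comap_coact_eq, hQq, h] at this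
  exact lt_irrefl _ this

/-- **Going-down for the invariants of a finite group scheme action.** -/
theorem hasGoingDown_invariants : Algebra.HasGoingDown (GLin.invariants k H R) R := by
  have hint : Algebra.IsIntegral (GLin.invariants k H R) R := isIntegral_invariants' (H := H)
  have hinj : Function.Injective (algebraMap (GLin.invariants k H R) R) := Subtype.val_injective
  refine ⟨fun {p} _ q _ hlt => ?_⟩
  -- a prime `q1` over `p`
  obtain ⟨q1, -, hq1, hq1p⟩ := Ideal.exists_ideal_over_prime_of_isIntegral p (⊥ : Ideal R)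
    (by rw [Ideal.comap_bot_of_injective _ hinj]; exact bot_le)
  -- going up to `q2 ≥ q1` over `q ∩ A`
  obtain ⟨q2, hq12, hq2, hq2p⟩ := Ideal.exists_ideal_over_prime_of_isIntegral_of_isPrime
    (q.under (GLin.invariants k H R)) q1 (by rw [hq1p]; exact hlt.le)
  -- `q2` and `q` are conjugate
  obtain ⟨Q, hQ, hQ2, hQq⟩ := exists_prime_conj (H := H) q2 q (by rw [hq2p, Ideal.under_def])
  -- going down along the flat map `R → R ⊗ H`
  have hlo : Q.LiesOver q2 := ⟨hQ2.symm⟩
  obtain ⟨Q1, hQ1Q, hQ1, hQ1lo⟩ := Ideal.exists_ideal_le_liesOver_of_le (R := R)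
    (S := R ⊗[k] H) (p := q1) (q := q2) Q hq12
  refine ⟨Q1.comap (GLin.coactAlgHom k H R), ?_, Ideal.comap_isPrime _ Q1, ⟨?_⟩⟩
  · rw [← hQq]
    exact Ideal.comap_mono hQ1Q
  · rw [Ideal.under_def, comap_comap_coact_eq, ← Ideal.under_def (A := R), ← hQ1lo.over, hq1p]

end Groth.Agent.Lib.H8InvGD
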