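import Groth.Agent.Lib.H8InvGD
import Groth.Agent.Lib.H8InvCM
import Groth.Agent.Lib.Reynolds38

/-!
# Invariants of a finite linearly reductive group scheme: the algebraic setup (helper8)

`k` a field, `H` a finite-dimensional commutative Hopf algebra, `R` a comodule algebra of finite
type, `A = R^H`.  Then `A` is Noetherian, `R` is a finite `A`-module, `A → R` has going-down
(`H8InvGD.hasGoingDown_invariants`) and, if `H` is linearly reductive, there is an `A`-linear
retraction `R → A` (the Reynolds operator).
-/

set_option autoImplicit false
universe u

open TensorProduct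

namespace Groth.Agent.Lib.H8InvSetup

open Groth.Agent.Lib.H8InvGD Groth.Agent.Lib.Reynolds38

variable {k H R : Type u} [Field k] [CommRing H] [HopfAlgebra k H] [Module.Finite k H]
  [CommRing R] [Algebra k R] [HopfRep.Comod k H R] [GLin.IsCoactAlg k H R]

variable (k H R) in
theorem finite_invariants [Algebra.FiniteType k R] : Module.Finite (GLin.invariants k H R) R := by
  haveI : Algebra.IsIntegral (GLin.invariants k H R) R := isIntegral_invariants' (H := H)
  haveI : Algebra.FiniteType (GLin.invariants k H R) R :=
    Algebra.FiniteType.of_restrictScalars_finiteType k (GLin.invariants k H R) R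
  exact Algebra.IsIntegral.finite

variable (k H R) in
theorem isNoetherianRing_invariants [Algebra.FiniteType k R] :
    IsNoetherianRing (GLin.invariants k H R) := by
  haveI := finite_invariants k H R
  have h1 : (⊤ : Subalgebra k (GLin.invariants k H R)).FG :=
    fg_of_fg_of_fg k (GLin.invariants k H R) R (Algebra.FiniteType.out)
      (Module.Finite.fg_top) Subtype.val_injective
  haveI : Algebra.FiniteType k (GLin.invariants k H R) := ⟨h1⟩
  exact Algebra.FiniteType.isNoetherianRing k _

/-- The Reynolds operator as an `A`-linear retraction `R → A`. -/
theorem exists_retraction (hG : HopfRep.IsLinearlyReductive k H) :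
    ∃ E : R →ₗ[GLin.invariants k H R] GLin.invariants k H R,
      ∀ a, E (algebraMap (GLin.invariants k H R) R a) = a := by
  obtain ⟨E, hE⟩ := exists_isReynolds hG R
  have hmem : ∀ x, E x ∈ GLin.invariants k H R := fun x => hE.apply_mem x
  refine ⟨{ toFun := fun x => ⟨E x, hmem x⟩
            map_add' := fun x y => Subtype.ext (map_add E x y)
            map_smul' := fun a x => Subtype.ext ?_ }, fun a => Subtype.ext ?_⟩
  · change E (a • x) = (a : R) * E x
    rw [Algebra.smul_def, mul_comm]
    change E (x * (a : R)) = (a : R) * E x
    rw [IsReynolds.map_mul_invariant hG hE x a a.2, mul_comm]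
  · exact (hE.2.2 a).2 a.2

end Groth.Agent.Lib.H8InvSetup
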