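import Groth.Agent.Lib.H8Lift

/-!
# Spreading out regular sequences, "kernel-killing" form (helper8)

* `exists_kills`: if the image of `rs : List A` is weakly regular on `M_p`, some `g ∉ p` kills the
  kernel of `rs[i]` on `M/(rs[0..i))M` for every `i`.
* `isWeaklyRegular_localizedModule_of_kills`: if `g ∈ S` kills those kernels, then the image of
  `rs` is weakly regular on `S⁻¹M`.
* `isWeaklyRegular_atPrime_of_kills`: the special case `S = q.primeCompl`.
-/

set_option autoImplicit false
set_option linter.unusedSectionVars false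
universe u

namespace Groth.Agent.Lib.H8Lift

open RingTheory.Sequence IsLocalRing Pointwise Module LocCoh Groth.Agent.Lib.H8CM
  Groth.Agent.Lib.H8LocTrans

/-- `g` kills the kernel of `rs[i]` on `M/(rs[0..i))M` for every `i`. -/
def Kills {A : Type*} [CommRing A] (M : Type*) [AddCommGroup M] [Module A M] (rs : List A)
    (g : A) : Prop :=
  ∀ i : Fin rs.length, ∀ n : M ⧸ Ideal.ofList (rs.take i) • (⊤ : Submodule A M),
    rs[i] • n = 0 → g • n = 0

section

variable {A : Type u} [CommRing A] {M : Type u} [AddCommGroup M] [Module A M]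

theorem exists_kills [IsNoetherianRing A] [Module.Finite A M] (p : Ideal A) [p.IsPrime]
    (rs : List A)
    (h : IsWeaklyRegular (LocalizedModule p.primeCompl M)
      (rs.map (algebraMap A (Localization.AtPrime p)))) :
    ∃ g, g ∉ p ∧ Kills M rs g := by
  classical
  have key : ∀ i : Fin rs.length, ∃ g, g ∉ p ∧
      ∀ n : M ⧸ Ideal.ofList (rs.take i) • (⊤ : Submodule A M), rs[i] • n = 0 → g • n = 0 := by
    intro i
    have hi := h.regular_mod_prev i (by simp)
    rw [List.getElem_map, ← List.map_take] at hi
    obtain ⟨f, hf⟩ := exists_isLocalizedModule_quotient (M := M) p.primeCompl (rs.take i)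
    exact exists_notMem_forall_smul_eq_zero p f rs[i]
      ((isSMulRegular_algebraMap_iff'
        (B := Localization.AtPrime p) _ rs[i]).mp hi)
  choose g hg1 hg2 using key
  refine ⟨∏ i, g i, ?_, ?_⟩
  · intro hmem
    obtain ⟨i, -, hi⟩ := (Ideal.IsPrime.prod_mem_iff (p := p)).mp hmem
    exact hg1 i hi
  · intro i n hn
    have h1 := hg2 i n hn
    obtain ⟨c, hc⟩ := Finset.dvd_prod_of_mem g (Finset.mem_univ i)
    rw [hc, mul_comm, mul_smul, h1, smul_zero]

theorem isWeaklyRegular_localizedModule_of_kills (S : Submonoid A) (rs : List A) (g : A)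
    (hg : g ∈ S) (hk : Kills M rs g) :
    IsWeaklyRegular (LocalizedModule S M) (rs.map (algebraMap A (Localization S))) := by
  rw [isWeaklyRegular_iff]
  intro i hi
  have hi' : i < rs.length := by simpa using hi
  rw [List.getElem_map, ← List.map_take]
  obtain ⟨f, hf⟩ := exists_isLocalizedModule_quotient (M := M) S (rs.take i)
  refine (isSMulRegular_algebraMap_iff' (B := Localization S) _ rs[i]).mpr ?_
  exact isSMulRegular_of_isLocalizedModule_of_kills S f rs[i] g hg (hk ⟨i, hi'⟩)

theorem isWeaklyRegular_atPrime_of_kills (q : Ideal A) [q.IsPrime] (rs : List A) (g : A)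
    (hg : g ∉ q) (hk : Kills M rs g) :
    IsWeaklyRegular (LocalizedModule q.primeCompl M)
      (rs.map (algebraMap A (Localization.AtPrime q))) :=
  isWeaklyRegular_localizedModule_of_kills q.primeCompl rs g hg hk

end

end Groth.Agent.Lib.H8Lift
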