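import Mathlib
import Groth.Agent.Lib.H30DimField

/-!
# Dimension of locally closed subsets of schemes locally of finite type over a field (helper8)

For `X` locally of finite type over a field `k`, `td k X` is a dimension function; we restrict it
to locally closed subsets `S` of `X` and to closed subsets `Q` of `↥S`.

* `dim_le`: `dim S ≤ N` if `td ≤ N` on `S`.
* `td_le_dim`: `td x ≤ dim S` for `x ∈ S`.
* `dim_closed_sub`: for `Q` closed in `↥S` with generic point `s`, `dim Q = td s`.
-/

set_option autoImplicit false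
universe u
open CategoryTheory AlgebraicGeometry

namespace Groth.Agent.Lib.H8LocClosedDim

open Groth.Agent.Lib.H30DimField

section Top

variable {Y : Type u} [TopologicalSpace Y]

theorem isDimensionFunction_convex (δ : Y → ℤ) (hδ : PtTop.IsDimensionFunction δ) (Z : Set Y)
    (hZ : ∀ v ∈ Z, ∀ w ∈ Z, ∀ z : Y, v ⤳ z → z ⤳ w → z ∈ Z) :
    PtTop.IsDimensionFunction (fun z : Z => δ z.1) := by
  refine ⟨fun v w hvw hne => ?_, fun v w hvw => ?_⟩
  · exact hδ.1 v.1 w.1 ((subtype_specializes_iff _ _).mp hvw) (fun h => hne (Subtype.ext h))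
  · obtain ⟨hsp, hne, himm⟩ := hvw
    have hsp' : v.1 ⤳ w.1 := (subtype_specializes_iff _ _).mp hsp
    refine hδ.2 v.1 w.1 ⟨hsp', fun h => hne (Subtype.ext h), ?_⟩
    intro z hvz hzw
    have hzZ : z ∈ Z := hZ v.1 v.2 w.1 w.2 z hvz hzw
    rcases himm ⟨z, hzZ⟩ ((subtype_specializes_iff _ _).mpr hvz)
      ((subtype_specializes_iff _ _).mpr hzw) with h | h
    · exact Or.inl (congrArg Subtype.val h)
    · exact Or.inr (congrArg Subtype.val h)

theorem convex_of_isLocallyClosed {S : Set Y} (hS : IsLocallyClosed S) :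
    ∀ v ∈ S, ∀ w ∈ S, ∀ z : Y, v ⤳ z → z ⤳ w → z ∈ S := by
  obtain ⟨U, Z, hU, hZ, rfl⟩ := hS
  intro v hv w hw z hvz hzw
  refine ⟨hzw.mem_open hU hw.1, ?_⟩
  exact hZ.closure_subset_iff.mpr (Set.singleton_subset_iff.mpr hv.2)
    (specializes_iff_mem_closure.mp hvz)

theorem convex_of_isClosed {S : Set Y} (hS : IsClosed S) :
    ∀ v ∈ S, ∀ w ∈ S, ∀ z : Y, v ⤳ z → z ⤳ w → z ∈ S :=
  convex_of_isLocallyClosed hS.isLocallyClosed

theorem quasiSober_of_isLocallyClosed [QuasiSober Y] {S : Set Y} (hS : IsLocallyClosed S) :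
    QuasiSober S := by
  obtain ⟨U, Z, hU, hZ, rfl⟩ := hS
  haveI : QuasiSober U := hU.isOpenEmbedding_subtypeVal.quasiSober
  exact QuasiSober.inter_of_isClosed_of_quasiSober_left U hZ

end Top

section Sch

variable (k : Type u) [Field k] (X : Scheme.{u}) [X.Over (Spec (CommRingCat.of k))]
  [LocallyOfFiniteType (X ↘ Spec (CommRingCat.of k))]

theorem isDimensionFunction_locClosed (S : Set X) (hS : IsLocallyClosed S) :
    PtTop.IsDimensionFunction (fun s : S => td k X s.1) :=
  isDimensionFunction_convex _ (isDimensionFunction_of_isDimFun (isDimFun k X)) S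
    (convex_of_isLocallyClosed hS)

theorem dim_le (S : Set X) (hS : IsLocallyClosed S) (N : ℕ) (h : ∀ x ∈ S, td k X x ≤ N) :
    topologicalKrullDim ↥S ≤ (N : WithBot ℕ∞) := by
  haveI : QuasiSober S := quasiSober_of_isLocallyClosed hS
  exact krullDim_le (fun s : S => td k X s.1) (isDimensionFunction_locClosed k X S hS)
    (fun s => td_nonneg k X s.1) N (fun s => h s.1 s.2)

include k in
/-- a closed point of `X` in a locally closed subset, specializing a given point -/
theorem exists_closed_point_locClosed (S : Set X) (hS : IsLocallyClosed S) (x : X) (hx : x ∈ S) :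
    ∃ c : X, c ∈ S ∧ x ⤳ c ∧ IsClosed ({c} : Set X) := by
  obtain ⟨U, Z, hU, hZ, rfl⟩ := hS
  obtain ⟨c, hcU, hxc, hc⟩ := exists_closed_point k X x U hU hx.1
  refine ⟨c, ⟨hcU, ?_⟩, hxc, hc⟩
  exact hZ.closure_subset_iff.mpr (Set.singleton_subset_iff.mpr hx.2)
    (specializes_iff_mem_closure.mp hxc)

theorem td_le_dim (S : Set X) (hS : IsLocallyClosed S) (x : X) (hx : x ∈ S) :
    (((td k X x).toNat : ℕ) : WithBot ℕ∞) ≤ topologicalKrullDim ↥S := by
  haveI : QuasiSober S := quasiSober_of_isLocallyClosed hS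
  obtain ⟨c, hcS, hxc, hc⟩ := exists_closed_point_locClosed k X S hS x hx
  have h0 := le_krullDim (fun s : S => td k X s.1) (isDimensionFunction_locClosed k X S hS)
    ⟨x, hx⟩ ⟨c, hcS⟩ ((subtype_specializes_iff _ _).mpr hxc)
  simp only [td_eq_zero_of_isClosed k X c hc, sub_zero] at h0
  exact h0

/-- The dimension of a closed subset `Q` of a locally closed subset `S`, with generic point `s`. -/
theorem dim_closed_sub (S : Set X) (hS : IsLocallyClosed S) (Q : Set ↥S) (hQ : IsClosed Q)
    (s : ↥S) (hs : IsGenericPoint s Q) :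
    topologicalKrullDim ↥Q = (((td k X s.1).toNat : ℕ) : WithBot ℕ∞) := by
  haveI : QuasiSober S := quasiSober_of_isLocallyClosed hS
  haveI : QuasiSober Q := hQ.isClosedEmbedding_subtypeVal.quasiSober
  have hδS := isDimensionFunction_locClosed k X S hS
  have hδQ : PtTop.IsDimensionFunction (fun q : Q => td k X q.1.1) :=
    isDimensionFunction_convex (fun s : S => td k X s.1) hδS Q (convex_of_isClosed hQ)
  have hsQ : s ∈ Q := hs.mem
  obtain ⟨c, hcS, hxc, hc⟩ := exists_closed_point_locClosed k X S hS s.1 s.2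
  have hsc : s ⤳ (⟨c, hcS⟩ : ↥S) := (subtype_specializes_iff _ _).mpr hxc
  have hcQ : (⟨c, hcS⟩ : ↥S) ∈ Q := by
    rw [← hs.def]
    exact specializes_iff_mem_closure.mp hsc
  exact Groth.Agent.S6462.krullDim_eq (fun q : Q => td k X q.1.1) hδQ
    (fun q => td_nonneg k X q.1.1) ⟨s, hsQ⟩
    (fun q => by
      rw [subtype_specializes_iff]
      rw [specializes_iff_mem_closure, hs.def]
      exact q.2)
    ⟨⟨c, hcS⟩, hcQ⟩ (td_eq_zero_of_isClosed k X c hc)

end Sch

end Groth.Agent.Lib.H8LocClosedDim
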