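import Mathlib.RingTheory.Localization.AtPrime.Basic
import Mathlib.RingTheory.Nakayama
import Mathlib.RingTheory.LocalRing.ResidueField.Basic
import Mathlib.RingTheory.Localization.Ideal
import Mathlib.RingTheory.Noetherian.Basic
import Mathlib.RingTheory.Localization.Submodule

/-!
# A criterion for a local homomorphism of localizations to be an isomorphism modulo all powers
of the maximal ideals (helper8)

`ι : B → R'`, `q'` a prime of the Noetherian ring `R'`, `p = ι⁻¹ q'`.  If
(1) every element of `R'` is congruent mod `q'` to a fraction from `B`,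
(2) every element of `q'` is, up to units at `q'` and squares of elements of `q'`, a fraction
    with numerator in `p`, and
(3) ideals of `B` are contracted from `R'_{q'}`,
then `B_p → R'_{q'} / m^n` is surjective with kernel `m_p^n`, for every `n`.
-/

set_option autoImplicit false
open IsLocalRing

namespace Groth.Agent.Lib.H8LocModPow

variable {B R' : Type*} [CommRing B] [CommRing R'] [IsNoetherianRing R'] (ι : B →+* R')
  (q' : Ideal R') [q'.IsPrime] (p : Ideal B) [p.IsPrime] (hp : p = Ideal.comap ι q')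

theorem locHom_mod_pow
    (h1 : ∀ x : R', ∃ b c : B, c ∉ p ∧ ι c * x - ι b ∈ q')
    (h2 : ∀ x ∈ q', ∃ (s : R') (b : B) (e t : R'), s ∉ q' ∧ e ∉ q' ∧ t ∈ q' ∧ b ∈ p ∧
      s * (e * x + t ^ 2) = ι b)
    (h3 : ∀ (I₀ : Ideal B) (b₀ : B) (s : R'), s ∉ q' → s * ι b₀ ∈ Ideal.map ι I₀ →
      ∃ c : B, c ∉ p ∧ c * b₀ ∈ I₀)
    (n : ℕ) :
    Function.Surjective ((Ideal.Quotient.mk (maximalIdeal (Localization.AtPrime q') ^ n)).comp
      (Localization.localRingHom p q' ι hp)) ∧
    Ideal.comap (Localization.localRingHom p q' ι hp) (maximalIdeal (Localization.AtPrime q') ^ n) =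
      maximalIdeal (Localization.AtPrime p) ^ n := by
  set φ := Localization.localRingHom p q' ι hp with hφdef
  set Bp := Localization.AtPrime p
  set Rq := Localization.AtPrime q'
  have hφ : ∀ b : B, φ (algebraMap B Bp b) = algebraMap R' Rq (ι b) := fun b =>
    Localization.localRingHom_to_map p q' ι hp b
  have hmp : maximalIdeal Bp = Ideal.map (algebraMap B Bp) p :=
    (Localization.AtPrime.map_eq_maximalIdeal).symm
  have hmq : maximalIdeal Rq = Ideal.map (algebraMap R' Rq) q' :=
    (Localization.AtPrime.map_eq_maximalIdeal).symm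
  have hunit : ∀ s : R', s ∉ q' → IsUnit (algebraMap R' Rq s) := fun s hs =>
    IsLocalization.map_units Rq (⟨s, hs⟩ : q'.primeCompl)
  have hunitB : ∀ c : B, c ∉ p → IsUnit (algebraMap B Bp c) := fun c hc =>
    IsLocalization.map_units Bp (⟨c, hc⟩ : p.primeCompl)
  have hmemq : ∀ x ∈ q', algebraMap R' Rq x ∈ maximalIdeal Rq := fun x hx => by
    rw [hmq]; exact Ideal.mem_map_of_mem _ hx
  have hmemp : ∀ b ∈ p, algebraMap B Bp b ∈ maximalIdeal Bp := fun b hb => by
    rw [hmp]; exact Ideal.mem_map_of_mem _ hb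
  have hlh : IsLocalHom φ := Localization.isLocalHom_localRingHom p q' ι hp
  have hloc : Ideal.map φ (maximalIdeal Bp) ≤ maximalIdeal Rq :=
    ((IsLocalRing.local_hom_TFAE φ).out 0 2).mp hlh
  -- Step 1
  have hstep1 : maximalIdeal Rq ≤ Ideal.map φ (maximalIdeal Bp) ⊔ maximalIdeal Rq • maximalIdeal Rq := by
    rw [hmq, Ideal.map_le_iff_le_comap, ← hmq]
    intro x hx
    obtain ⟨s, b, e, t, hs, he, ht, hb, hsb⟩ := h2 x hx
    rw [Ideal.mem_comap]
    obtain ⟨us, hus⟩ := hunit s hs
    obtain ⟨ue, hue⟩ := hunit e he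
    have hkey : algebraMap R' Rq x = ↑ue⁻¹ * (↑us⁻¹ * φ (algebraMap B Bp b)) -
        ↑ue⁻¹ * (algebraMap R' Rq t * algebraMap R' Rq t) := by
      rw [hφ, ← hsb, map_mul, map_add, map_mul, map_pow, ← hus, ← hue]
      rw [← mul_assoc (↑us⁻¹ : Rq), Units.inv_mul, one_mul, mul_add, ← mul_assoc, Units.inv_mul,
        one_mul, pow_two]
      ring
    rw [hkey]
    refine Ideal.sub_mem _ ?_ ?_
    · refine Ideal.mem_sup_left (Ideal.mul_mem_left _ _ (Ideal.mul_mem_left _ _ ?_))
      exact Ideal.mem_map_of_mem _ (hmemp b hb)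
    · refine Ideal.mem_sup_right (Ideal.mul_mem_left _ _ ?_)
      rw [smul_eq_mul]
      exact Ideal.mul_mem_mul (hmemq t ht) (hmemq t ht)
  haveI : IsNoetherianRing Rq := IsLocalization.isNoetherianRing q'.primeCompl Rq inferInstance
  have hstep2 : maximalIdeal Rq = Ideal.map φ (maximalIdeal Bp) := by
    refine le_antisymm ?_ hloc
    exact Submodule.le_of_le_smul_of_le_jacobson_bot (IsNoetherian.noetherian _)
      (IsLocalRing.maximalIdeal_le_jacobson ⊥) hstep1
  have hstep3 : ∀ k : ℕ, maximalIdeal Rq ^ k = Ideal.map φ (maximalIdeal Bp ^ k) := fun k => by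
    rw [Ideal.map_pow, ← hstep2]
  -- Step 4a: residue fields
  have hres : ∀ z : Rq, ∃ β : Bp, z - φ β ∈ maximalIdeal Rq := by
    intro z
    obtain ⟨⟨x, s⟩, hz⟩ := IsLocalization.surj q'.primeCompl z
    simp only at hz
    obtain ⟨b, c, hc, hbc⟩ := h1 x
    obtain ⟨b', c', hc', hbc'⟩ := h1 (s : R')
    have hιc' : ι c' ∉ q' := fun h => hc' (by rw [hp]; exact h)
    have hιc : ι c ∉ q' := fun h => hc (by rw [hp]; exact h)
    have hb' : b' ∉ p := by
      intro hb'
      have h1' : ι b' ∈ q' := by rw [hp] at hb'; exact hb'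
      have h2' : ι c' * (s : R') ∈ q' := by
        have := Ideal.add_mem _ hbc' h1'
        rwa [sub_add_cancel] at this
      rcases (Ideal.IsPrime.mem_or_mem inferInstance h2') with h | h
      · exact hιc' h
      · exact s.2 h
    obtain ⟨uc, huc⟩ := hunitB c hc
    obtain ⟨ub, hub⟩ := hunitB b' hb'
    refine ⟨algebraMap B Bp b * algebraMap B Bp c' * ↑uc⁻¹ * ↑ub⁻¹, ?_⟩
    set β := algebraMap B Bp b * algebraMap B Bp c' * ↑uc⁻¹ * ↑ub⁻¹ with hβdef
    have hβ : algebraMap B Bp c * algebraMap B Bp b' * β =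
        algebraMap B Bp b * algebraMap B Bp c' := by
      rw [hβdef, ← huc, ← hub]
      have e1 : (↑uc : Bp) * ↑uc⁻¹ = 1 := Units.mul_inv uc
      have e2 : (↑ub : Bp) * ↑ub⁻¹ = 1 := Units.mul_inv ub
      calc (↑uc : Bp) * ↑ub * (algebraMap B Bp b * algebraMap B Bp c' * ↑uc⁻¹ * ↑ub⁻¹)
          = algebraMap B Bp b * algebraMap B Bp c' * ((↑uc : Bp) * ↑uc⁻¹) * ((↑ub : Bp) * ↑ub⁻¹) := by
            ring
        _ = algebraMap B Bp b * algebraMap B Bp c' := by rw [e1, e2, mul_one, mul_one]
    have hφβ : algebraMap R' Rq (ι c) * algebraMap R' Rq (ι b') * φ β =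
        algebraMap R' Rq (ι b) * algebraMap R' Rq (ι c') := by
      rw [← hφ, ← hφ, ← hφ, ← hφ, ← map_mul, ← map_mul, hβ, map_mul]
    have hu : IsUnit (algebraMap R' Rq (ι c) * algebraMap R' Rq (ι b') * algebraMap R' Rq (s : R')) := by
      refine ((hunit _ hιc).mul (hunit _ ?_)).mul (hunit _ s.2)
      intro h
      exact hb' (by rw [hp]; exact h)
    rw [← Ideal.unit_mul_mem_iff_mem _ hu]
    have hcalc : algebraMap R' Rq (ι c) * algebraMap R' Rq (ι b') * algebraMap R' Rq (s : R') *
        (z - φ β) = algebraMap R' Rq (ι b' * (ι c * x - ι b) - ι b * (ι c' * (s : R') - ι b')) := by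
      have e1 : algebraMap R' Rq (ι c) * algebraMap R' Rq (ι b') * algebraMap R' Rq (s : R') * z =
          algebraMap R' Rq (ι c) * algebraMap R' Rq (ι b') * algebraMap R' Rq x := by
        rw [← hz]; ring
      have e2 : algebraMap R' Rq (ι c) * algebraMap R' Rq (ι b') * algebraMap R' Rq (s : R') * φ β =
          algebraMap R' Rq (s : R') * (algebraMap R' Rq (ι b) * algebraMap R' Rq (ι c')) := by
        rw [← hφβ]; ring
      rw [mul_sub, e1, e2]
      simp only [map_sub, map_mul]
      ring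
    rw [hcalc]
    refine hmemq _ (Ideal.sub_mem _ (Ideal.mul_mem_left _ _ hbc) (Ideal.mul_mem_left _ _ hbc'))
  -- Step 4b
  have hsurj : ∀ (k : ℕ) (z : Rq), ∃ β : Bp, z - φ β ∈ maximalIdeal Rq ^ k := by
    intro k
    induction k with
    | zero =>
      intro z
      exact ⟨0, by rw [pow_zero, Ideal.one_eq_top]; trivial⟩
    | succ k ih =>
      have key : ∀ w ∈ Ideal.map φ (maximalIdeal Bp ^ k), ∃ β : Bp,
          w - φ β ∈ maximalIdeal Rq ^ (k + 1) := by
        intro w hw
        unfold Ideal.map at hw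
        induction hw using Submodule.span_induction with
        | mem w hw =>
          obtain ⟨a, -, rfl⟩ := hw
          exact ⟨a, by rw [sub_self]; exact Ideal.zero_mem _⟩
        | zero => exact ⟨0, by rw [map_zero, sub_self]; exact Ideal.zero_mem _⟩
        | add w w' _ _ hw hw' =>
          obtain ⟨β, hβ⟩ := hw
          obtain ⟨β', hβ'⟩ := hw'
          refine ⟨β + β', ?_⟩
          have : w + w' - φ (β + β') = (w - φ β) + (w' - φ β') := by rw [map_add]; ring
          rw [this]
          exact Ideal.add_mem _ hβ hβ'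
        | smul r w hw ih' =>
          obtain ⟨βw, hβw⟩ := ih'
          obtain ⟨βr, hβr⟩ := hres r
          refine ⟨βr * βw, ?_⟩
          have hwk : w ∈ maximalIdeal Rq ^ k := by
            rw [hstep3 k]
            exact hw
          have : r • w - φ (βr * βw) = (r - φ βr) * w + φ βr * (w - φ βw) := by
            rw [map_mul, smul_eq_mul]; ring
          rw [this]
          refine Ideal.add_mem _ ?_ (Ideal.mul_mem_left _ _ hβw)
          rw [pow_succ']
          exact Ideal.mul_mem_mul hβr hwk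
      intro z
      obtain ⟨β₀, hβ₀⟩ := ih z
      rw [hstep3 k] at hβ₀
      obtain ⟨β, hβ⟩ := key _ hβ₀
      refine ⟨β₀ + β, ?_⟩
      have : z - φ (β₀ + β) = z - φ β₀ - φ β := by rw [map_add]; ring
      rw [this]
      exact hβ
  refine ⟨?_, ?_⟩
  · intro y
    obtain ⟨z, rfl⟩ := Ideal.Quotient.mk_surjective y
    obtain ⟨β, hβ⟩ := hsurj n z
    refine ⟨β, ?_⟩
    rw [RingHom.comp_apply, Ideal.Quotient.eq]
    have : φ β - z = -(z - φ β) := by ring
    rw [this]
    exact Ideal.neg_mem_iff _ |>.mpr hβ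
  · apply le_antisymm
    · intro β hβ
      rw [Ideal.mem_comap, hstep3 n] at hβ
      set I := maximalIdeal Bp ^ n with hI
      set I₀ := Ideal.comap (algebraMap B Bp) I with hI₀
      have hII₀ : Ideal.map (algebraMap B Bp) I₀ = I := IsLocalization.map_comap p.primeCompl Bp I
      obtain ⟨⟨b₀, c₀⟩, hβc⟩ := IsLocalization.surj p.primeCompl β
      simp only at hβc
      have h4 : algebraMap R' Rq (ι b₀) ∈ Ideal.map (algebraMap R' Rq) (Ideal.map ι I₀) := by
        rw [Ideal.map_map]
        have : (algebraMap R' Rq).comp ι = φ.comp (algebraMap B Bp) := RingHom.ext fun b => (hφ b).symm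
        rw [this, ← Ideal.map_map, hII₀, ← hφ, ← hβc, map_mul]
        exact Ideal.mul_mem_right _ _ hβ
      rw [IsLocalization.mem_map_algebraMap_iff q'.primeCompl] at h4
      obtain ⟨⟨a, s⟩, has⟩ := h4
      simp only at has
      rw [← map_mul, IsLocalization.eq_iff_exists q'.primeCompl] at has
      obtain ⟨s', hs'⟩ := has
      have h5 : ((s' : R') * (s : R')) * ι b₀ ∈ Ideal.map ι I₀ := by
        have : ((s' : R') * (s : R')) * ι b₀ = (s' : R') * (a : R') := by
          rw [← hs']; ring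
        rw [this]
        exact Ideal.mul_mem_left _ _ a.2
      obtain ⟨c, hc, hcb⟩ := h3 I₀ b₀ ((s' : R') * (s : R')) (s' * s).2 h5
      have h6 : algebraMap B Bp c * algebraMap B Bp b₀ ∈ I := by
        rw [← map_mul]
        exact hcb
      rw [Ideal.unit_mul_mem_iff_mem _ (hunitB c hc), ← hβc] at h6
      exact (Ideal.mul_unit_mem_iff_mem _ (hunitB _ c₀.2)).mp h6
    · rw [hstep3 n]
      exact Ideal.le_comap_map

end Groth.Agent.Lib.H8LocModPow
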