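import Mathlib
import Groth.Agent.S12447
import Groth.Agent.S12459
import Groth.Agent.S7577
import Groth.Prelude.Def_Cyc

/-!
# The dimension function `p ↦ dim A/p` on the spectrum of a catenary Noetherian local ring (helper8)
-/

set_option autoImplicit false
universe u
open CategoryTheory AlgebraicGeometry

namespace Groth.Agent.Lib.H8LocalDimFun

section Ring

variable (A : Type u) [CommRing A] [IsNoetherianRing A] [IsLocalRing A]

theorem exists_dimfun (hcat : CAlg.IsCatenary A) :
    ∃ δ : PrimeSpectrum A → ℤ,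
      (∀ q q' : PrimeSpectrum A, q < q' → δ q' < δ q) ∧
      (∀ q q' : PrimeSpectrum A, q ⋖ q' → δ q = δ q' + 1) ∧
      (∀ q : PrimeSpectrum A, 0 ≤ δ q ∧
        ringKrullDim (A ⧸ q.asIdeal) = (((δ q).toNat : ℕ) : WithBot ℕ∞)) := by
  obtain ⟨f, hfm, δ₀, h1, h2⟩ := Groth.Agent.S12447.exists_dim_ring A hcat (IsLocalRing.closedPoint A)
  have hf : ∀ q' : PrimeSpectrum A, f ∉ q'.asIdeal := by
    intro q' hq'
    exact hfm (IsLocalRing.le_maximalIdeal q'.2.ne_top hq')
  let m : PrimeSpectrum A := IsLocalRing.closedPoint A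
  have hle_m : ∀ q : PrimeSpectrum A, q ≤ m := fun q =>
    IsLocalRing.le_maximalIdeal q.2.ne_top
  let d : PrimeSpectrum A → ℤ := fun q => - δ₀ q
  have hd : StrictMono d := by
    intro q q' hlt
    have := h1 q q' (hf q') hlt
    show - δ₀ q < - δ₀ q'
    omega
  have hcov : ∀ a b : PrimeSpectrum A, a ⋖ b → d b = d a + 1 := by
    intro a b hab
    have := h2 a b (hf b) hab
    show - δ₀ b = - δ₀ a + 1
    omega
  have hmono : ∀ a b : PrimeSpectrum A, a ≤ b → d a ≤ d b := fun a b hab => hd.monotone hab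
  refine ⟨fun q => δ₀ q - δ₀ m, ?_, ?_, ?_⟩
  · intro q q' hlt
    have := h1 q q' (hf q') hlt
    show δ₀ q' - δ₀ m < δ₀ q - δ₀ m
    omega
  · intro q q' hcv
    have := h2 q q' (hf q') hcv
    show δ₀ q - δ₀ m = δ₀ q' - δ₀ m + 1
    omega
  · intro q
    have hnn : 0 ≤ δ₀ q - δ₀ m := by
      have := hmono q m (hle_m q)
      show 0 ≤ δ₀ q - δ₀ m
      have h3 : - δ₀ q ≤ - δ₀ m := this
      omega
    refine ⟨hnn, ?_⟩
    rw [ringKrullDim_quotient]
    apply le_antisymm
    · unfold Order.krullDim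
      refine iSup_le fun p => ?_
      let s : LTSeries (PrimeSpectrum A) := p.map Subtype.val (Subtype.strictMono_coe _)
      have hlow := Groth.Agent.S7577.series_lower d hd s (Fin.last _)
      have hs0 : q ≤ s 0 := by
        have : (p 0).1 ∈ PrimeSpectrum.zeroLocus (q.asIdeal : Set A) := (p 0).2
        exact this
      have h3 := hmono q (s 0) hs0
      have h4 := hmono (s (Fin.last _)) m (hle_m _)
      simp only [Fin.val_last] at hlow
      have hlen : s.length = p.length := rfl
      have h5 : (p.length : ℤ) ≤ δ₀ q - δ₀ m := by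
        have h3' : - δ₀ q ≤ - δ₀ (s 0) := h3
        have h4' : - δ₀ (s (Fin.last _)) ≤ - δ₀ m := h4
        have hlow' : - δ₀ (s 0) + (s.length : ℤ) ≤ - δ₀ (s (Fin.last _)) := hlow
        have hlen' : (s.length : ℤ) = (p.length : ℤ) := by rw [hlen]
        omega
      have h6 : p.length ≤ (δ₀ q - δ₀ m).toNat := by omega
      exact_mod_cast h6
    · obtain ⟨s, hsh, hsl, hsn⟩ := Groth.Agent.S7577.exists_series d hd hcov
        (δ₀ q - δ₀ m).toNat q m (hle_m q) (by
          show - δ₀ m - - δ₀ q = _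
          omega)
      let s' : LTSeries (PrimeSpectrum.zeroLocus (q.asIdeal : Set A)) :=
        { length := s.length
          toFun := fun i => ⟨s i, by
            have h := s.head_le i
            rw [hsh] at h
            exact h⟩
          step := fun i => s.step i }
      have := Order.LTSeries.length_le_krullDim s'
      have hlen : s'.length = (δ₀ q - δ₀ m).toNat := hsn
      rw [hlen] at this
      exact this

end Ring

section Sch

variable (A : Type u) [CommRing A] [IsNoetherianRing A] [IsLocalRing A]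

/-- The dimension function `s ↦ dim A/s` on `Spec A` for a universally catenary Noetherian local
ring `A`. -/
theorem exists_setup (hA : CAlg.IsUniversallyCatenary A) :
    ∃ δ : ↥(Spec (CommRingCat.of A)) → ℤ, Cyc.IsSetup (Spec (CommRingCat.of A)) δ ∧
      (∀ s : ↥(Spec (CommRingCat.of A)), 0 ≤ δ s ∧
        ringKrullDim (A ⧸ s.asIdeal) = (((δ s).toNat : ℕ) : WithBot ℕ∞)) := by
  have hcat : CAlg.IsCatenary A := hA.2 A inferInstance
  obtain ⟨δ, h1, h2, h3⟩ := exists_dimfun A hcat
  refine ⟨δ, ⟨inferInstance, ?_, ?_⟩, h3⟩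
  · intro s
    have hΓ : CAlg.IsUniversallyCatenary Γ(Spec (CommRingCat.of A), ⊤) :=
      Groth.Agent.S12459.uc_of_ringEquiv
        (Scheme.ΓSpecIso (CommRingCat.of A)).symm.commRingCatIsoToRingEquiv hA
    exact Groth.Agent.S12459.uc_stalk_of_affine (isAffineOpen_top _) hΓ s trivial
  · intro x y hxy hne
    let x' : PrimeSpectrum A := x
    let y' : PrimeSpectrum A := y
    have hle : x' ≤ y' := (PrimeSpectrum.le_iff_specializes x' y').mpr hxy
    have hlt : x' < y' := lt_of_le_of_ne hle hne
    refine ⟨h1 x' y' hlt, fun himm => ?_⟩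
    refine h2 x' y' ⟨hlt, fun z hxz hzy => ?_⟩
    rcases himm z ((PrimeSpectrum.le_iff_specializes x' z).mp hxz.le)
      ((PrimeSpectrum.le_iff_specializes z y').mp hzy.le) with h | h
    · exact hxz.ne' h
    · exact hzy.ne h

end Sch

end Groth.Agent.Lib.H8LocalDimFun
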