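import Mathlib.AlgebraicGeometry.Pullbacks
import Mathlib.CategoryTheory.Comma.Over.Pullback

/-!
# Base change of "restriction is bijective" mapping properties along a cartesian square (helper8)

Given a cartesian square of schemes

```
U' --h--> U
|η'       |η
v         v
S' --g--> S
```

an `S`-scheme `N` and an `S'`-scheme `Y'`: if restriction along `η` is bijective on `S`-morphisms
`Y' ⟶ N` (with `Y'` seen over `S` through `g`), then restriction along `η'` is bijective on
`S'`-morphisms `Y' ⟶ N ×_S S'`.  (Generalises the argument of `Groth.Agent.S13203` from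
`η` an open immersion to an arbitrary cartesian square.)
-/

set_option autoImplicit false
universe u
open CategoryTheory CategoryTheory.Limits AlgebraicGeometry

namespace Groth.Agent.Lib.H8NeronBC

variable {S S' U U' : Scheme.{u}} {g : S' ⟶ S} {η : U ⟶ S} {η' : U' ⟶ S'} {h : U' ⟶ U}
  (sq : IsPullback h η' η g) (N : Over S) (Y' : Over S')

include sq

/-- the map `Y' ×_S U ⟶ U'`. -/
noncomputable def u' : pullback (Y'.hom ≫ g) η ⟶ U' :=
  sq.lift (pullback.snd _ _) (pullback.fst _ _ ≫ Y'.hom)
    (by rw [← pullback.condition, Category.assoc])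

theorem u'_ι : u' sq Y' ≫ η' = pullback.fst _ _ ≫ Y'.hom := sq.lift_snd _ _ _

theorem u'_res : u' sq Y' ≫ h = pullback.snd _ _ := sq.lift_fst _ _ _

/-- `θ : Y' ×_S U ⟶ Y' ×_{S'} U'`. -/
noncomputable def θ : pullback (Y'.hom ≫ g) η ⟶ pullback Y'.hom η' :=
  pullback.lift (pullback.fst _ _) (u' sq Y') (u'_ι sq Y').symm

/-- `θ⁻¹`. -/
noncomputable def θinv : pullback Y'.hom η' ⟶ pullback (Y'.hom ≫ g) η :=
  pullback.lift (pullback.fst _ _) (pullback.snd _ _ ≫ h) (by
    rw [Category.assoc, sq.w, ← Category.assoc, ← Category.assoc, pullback.condition])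

theorem θinv_θ : θinv sq Y' ≫ θ sq Y' = 𝟙 _ := by
  apply pullback.hom_ext
  · rw [Category.id_comp, Category.assoc]
    simp only [θ, pullback.lift_fst]
    simp only [θinv, pullback.lift_fst]
  · rw [Category.id_comp, Category.assoc]
    simp only [θ, pullback.lift_snd]
    apply sq.hom_ext
    · rw [Category.assoc, u'_res]
      simp only [θinv, pullback.lift_snd]
    · rw [Category.assoc, u'_ι, ← Category.assoc]
      simp only [θinv, pullback.lift_fst]
      exact pullback.condition

/-- `π : (N ×_S S') ×_{S'} U' ⟶ N ×_S U`. -/
noncomputable def π : pullback (pullback.snd N.hom g) η' ⟶ pullback N.hom η :=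
  pullback.lift (pullback.fst _ _ ≫ pullback.fst _ _) (pullback.snd _ _ ≫ h) (by
    rw [Category.assoc, Category.assoc, pullback.condition, sq.w,
      ← Category.assoc, ← Category.assoc, pullback.condition])

omit sq in
/-- the adjunct `g_! Y' ⟶ N` of `f : Y' ⟶ g^* N`. -/
noncomputable def adj (g : S' ⟶ S) (N : Over S) (Y' : Over S') (f : Y' ⟶ (Over.pullback g).obj N) :
    (Over.map g).obj Y' ⟶ N :=
  Over.homMk (f.left ≫ pullback.fst N.hom g) (by
    have h := Over.w f
    change f.left ≫ pullback.snd N.hom g = Y'.hom at h
    change (f.left ≫ pullback.fst N.hom g) ≫ N.hom = Y'.hom ≫ g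
    rw [Category.assoc, pullback.condition, ← Category.assoc, h])

omit sq in
theorem pullback_map_left_fst' {T T' : Scheme.{u}} (q : T' ⟶ T) {A B : Over T} (k : A ⟶ B) :
    ((Over.pullback q).map k).left ≫ pullback.fst B.hom q = pullback.fst A.hom q ≫ k.left := by
  dsimp only [Over.pullback]; exact pullback.lift_fst _ _ _

omit sq in
theorem pullback_map_left_snd' {T T' : Scheme.{u}} (q : T' ⟶ T) {A B : Over T} (k : A ⟶ B) :
    ((Over.pullback q).map k).left ≫ pullback.snd B.hom q = pullback.snd A.hom q := by
  dsimp only [Over.pullback]; exact pullback.lift_snd _ _ _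

/-- Key compatibility (★). -/
theorem star (f : Y' ⟶ (Over.pullback g).obj N) :
    ((Over.pullback η).map (adj g N Y' f)).left =
      θ sq Y' ≫ ((Over.pullback η').map f).left ≫ π sq N := by
  apply pullback.hom_ext
  · rw [pullback_map_left_fst']
    simp only [Category.assoc, π, pullback.lift_fst]
    rw [← Category.assoc ((Over.pullback η').map f).left]
    erw [pullback_map_left_fst' η' f]
    simp only [Category.assoc]
    rw [← Category.assoc (θ sq Y')]
    simp only [θ, pullback.lift_fst]
    rfl
  · rw [pullback_map_left_snd']
    simp only [Category.assoc, π, pullback.lift_snd]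
    rw [← Category.assoc ((Over.pullback η').map f).left]
    erw [pullback_map_left_snd' η' f]
    rw [← Category.assoc (θ sq Y')]
    simp only [θ, pullback.lift_snd]
    exact (u'_res sq Y').symm

/-- Base change of the mapping property along a cartesian square. -/
theorem bijective_pullback_map
    (hN : Function.Bijective
      (fun f : (Over.map g).obj Y' ⟶ N => (Over.pullback η).map f)) :
    Function.Bijective (fun f : Y' ⟶ (Over.pullback g).obj N => (Over.pullback η').map f) := by
  constructor
  · intro f₁ f₂ h12
    dsimp only at h12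
    have h1 : (Over.pullback η).map (adj g N Y' f₁) = (Over.pullback η).map (adj g N Y' f₂) := by
      apply Over.OverMorphism.ext
      rw [star sq, star sq, h12]
    have h2 := hN.1 h1
    apply Over.OverMorphism.ext
    apply Limits.pullback.hom_ext
    · exact congrArg (fun m => m.left) h2
    · have w1 := Over.w f₁
      have w2 := Over.w f₂
      exact w1.trans w2.symm
  · intro k
    have wk : k.left ≫ Limits.pullback.snd (Limits.pullback.snd N.hom g) η' =
        Limits.pullback.snd Y'.hom η' := Over.w k
    let hU : (Over.pullback η).obj ((Over.map g).obj Y') ⟶ (Over.pullback η).obj N :=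
      Over.homMk (θ sq Y' ≫ k.left ≫ π sq N) (by
        change (θ sq Y' ≫ k.left ≫ π sq N) ≫ Limits.pullback.snd _ _ = Limits.pullback.snd _ _
        simp only [Category.assoc, π, Limits.pullback.lift_snd]
        rw [← Category.assoc k.left, wk, ← Category.assoc]
        simp only [θ, Limits.pullback.lift_snd]
        exact u'_res sq Y')
    obtain ⟨h0, hh⟩ := hN.2 hU
    dsimp only at hh
    have wh : h0.left ≫ N.hom = Y'.hom ≫ g := Over.w h0
    have h3 : Limits.pullback.fst (Y'.hom ≫ g) η ≫ h0.left =
        θ sq Y' ≫ k.left ≫ π sq N ≫ Limits.pullback.fst N.hom η := by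
      have := congrArg (fun m => m.left ≫ Limits.pullback.fst N.hom η) hh
      rw [pullback_map_left_fst'] at this
      refine this.trans ?_
      simp only [hU, Over.homMk_left, Category.assoc]
    have h4 : Limits.pullback.fst Y'.hom η' ≫ h0.left =
        k.left ≫ Limits.pullback.fst (Limits.pullback.snd N.hom g) η' ≫
          Limits.pullback.fst N.hom g := by
      have e1 : θinv sq Y' ≫ Limits.pullback.fst (Y'.hom ≫ g) η =
          Limits.pullback.fst Y'.hom η' := by
        simp only [θinv, Limits.pullback.lift_fst]
      have e2 : π sq N ≫ Limits.pullback.fst N.hom η =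
          Limits.pullback.fst (Limits.pullback.snd N.hom g) η' ≫
            Limits.pullback.fst N.hom g := by
        simp only [π, Limits.pullback.lift_fst]
      rw [← e1, Category.assoc, h3, ← Category.assoc, θinv_θ, Category.id_comp, e2]
    refine ⟨Over.homMk (Limits.pullback.lift h0.left Y'.hom wh) (Limits.pullback.lift_snd _ _ _), ?_⟩
    apply Over.OverMorphism.ext
    apply Limits.pullback.hom_ext
    · rw [pullback_map_left_fst']
      apply Limits.pullback.hom_ext
      · rw [Category.assoc, Category.assoc]
        change Limits.pullback.fst Y'.hom η' ≫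
          Limits.pullback.lift h0.left Y'.hom wh ≫ Limits.pullback.fst N.hom g = _
        rw [Limits.pullback.lift_fst]
        exact h4
      · rw [Category.assoc, Category.assoc]
        change Limits.pullback.fst Y'.hom η' ≫
          Limits.pullback.lift h0.left Y'.hom wh ≫ Limits.pullback.snd N.hom g = _
        rw [Limits.pullback.lift_snd]
        have c := Limits.pullback.condition (f := Limits.pullback.snd N.hom g) (g := η')
        refine Eq.trans Limits.pullback.condition ?_
        refine Eq.trans ?_ (congrArg (fun m => k.left ≫ m) c).symm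
        rw [← Category.assoc, wk]
    · rw [pullback_map_left_snd']
      exact wk.symm

end Groth.Agent.Lib.H8NeronBC
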