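/-
helper8: more on the dimension theory of `Proj` of a Noetherian ℕ-graded algebra over a field:
zero-dimensional closed subsets, intersections with hypersurfaces.
-/
import Groth.Agent.Lib.H8ProjDim

set_option autoImplicit false
universe u

namespace Groth.Agent.Lib.H8ProjDim

open ProjectiveSpectrum TopologicalSpace Topology Groth.Agent.Lib

variable {K A : Type u} [Field K] [CommRing A] [Algebra K A]
  (𝒜 : ℕ → Submodule K A) [GradedAlgebra 𝒜] [IsNoetherianRing A]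
  (h0 : ∀ a ∈ 𝒜 0, ∃ c : K, algebraMap K A c = a)

/-- Closed subsets are stable under specialisation. -/
theorem mem_of_le_of_isClosed {C : Set (ProjectiveSpectrum 𝒜)} (hC : IsClosed C)
    {x y : ProjectiveSpectrum 𝒜} (hx : x ∈ C) (hxy : x ≤ y) : y ∈ C :=
  closure_minimal (Set.singleton_subset_iff.mpr hx) hC ((ProjectiveSpectrum.le_iff_mem_closure (𝒜 := 𝒜) x y).mp hxy)

/-- A closed subset of `Proj A` is zero-dimensional iff it is nonempty and all its points are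
maximal. -/
theorem topologicalKrullDim_eq_zero_iff {W : Set (ProjectiveSpectrum 𝒜)} (hW : IsClosed W) :
    topologicalKrullDim ↥W = 0 ↔
      W.Nonempty ∧ ∀ x ∈ W, ∀ y : ProjectiveSpectrum 𝒜, x ≤ y → y ≤ x := by
  rw [H8ProjTop.topologicalKrullDim_eq_krullDim 𝒜 hW]
  constructor
  · intro h
    refine ⟨?_, fun x hx y hxy => ?_⟩
    · have : Nonempty ↥W := Order.krullDim_nonneg_iff.mp h.ge
      exact Set.nonempty_coe_sort.mp this
    · have hy : y ∈ W := mem_of_le_of_isClosed 𝒜 hW hx hxy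
      exact (Order.krullDim_nonpos_iff_forall_isMax.mp h.le) ⟨x, hx⟩ (b := ⟨y, hy⟩) hxy
  · rintro ⟨hne, hmax⟩
    refine le_antisymm ?_ ?_
    · exact Order.krullDim_nonpos_iff_forall_isMax.mpr fun x y hxy => hmax x.1 x.2 y.1 hxy
    · exact Order.krullDim_nonneg_iff.mpr hne.to_subtype

include h0 in
/-- If `x < y` in `Proj A` then `dim A/P_x ≥ 2`. -/
theorem exists_dim_of_lt {x y : ProjectiveSpectrum 𝒜} (hxy : x < y) :
    ∃ m : ℕ, 1 ≤ m ∧ ringKrullDim (A ⧸ x.asHomogeneousIdeal.toIdeal) = (m + 1 : ℕ) := by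
  obtain ⟨m, hm, hd⟩ := exists_coheight_eq 𝒜 h0 x
  refine ⟨m, ?_, hd⟩
  have h1 := Order.coheight_add_one_le hxy
  rw [hm] at h1
  have h2 : (1 : ℕ∞) ≤ m := le_trans (by simp) h1
  exact_mod_cast h2

include h0 in
/-- If `dim A/P_x = m + 1` (i.e. `dim V₊(P_x) = m`) and `s` consists of at most `m` elements of the
irrelevant ideal generating a homogeneous ideal, then `V₊(P_x) ∩ V₊(s)` is nonempty. -/
theorem exists_ge_of_card_le (x : ProjectiveSpectrum 𝒜) (s : Finset A)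
    (hs : ∀ g ∈ s, g ∈ (HomogeneousIdeal.irrelevant 𝒜).toIdeal)
    (hsh : (Ideal.span (s : Set A)).IsHomogeneous 𝒜) (m : ℕ)
    (hm : ringKrullDim (A ⧸ x.asHomogeneousIdeal.toIdeal) = (m + 1 : ℕ)) (hsm : s.card ≤ m) :
    ∃ z : ProjectiveSpectrum 𝒜, x ≤ z ∧ (s : Set A) ⊆ z.asHomogeneousIdeal := by
  haveI : Nontrivial A := ⟨⟨0, 1, fun h => x.isPrime.ne_top
    ((Ideal.eq_top_iff_one _).mpr (h ▸ Ideal.zero_mem _))⟩⟩
  haveI hmax := H8GradedFT.irrelevant_isMaximal 𝒜 h0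
  haveI hmp : (HomogeneousIdeal.irrelevant 𝒜).toIdeal.IsPrime := hmax.isPrime
  haveI : Algebra.FiniteType K A := H8GradedFT.finiteType 𝒜 h0
  have hJ : (x.asHomogeneousIdeal.toIdeal ⊔ Ideal.span (s : Set A)).IsHomogeneous 𝒜 :=
    x.asHomogeneousIdeal.isHomogeneous.sup hsh
  have hJ𝔪 : x.asHomogeneousIdeal.toIdeal ⊔ Ideal.span (s : Set A) ≤
      (HomogeneousIdeal.irrelevant 𝒜).toIdeal :=
    sup_le (le_irrelevant 𝒜 h0 x) (Ideal.span_le.mpr fun g hg => hs g hg)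
  obtain ⟨Q, hQmin, hQ𝔪⟩ := Ideal.exists_minimalPrimes_le hJ𝔪
  haveI hQp : Q.IsPrime := hQmin.1.1
  have hQh : Q.IsHomogeneous 𝒜 := H8DoubleLink.isHomogeneous_of_mem_minimalPrimes hJ hQmin
  have hdim := ringKrullDim_quotient_le_add_card K s hQmin
  obtain ⟨q, hq⟩ := exists_dim_eq 𝒜 h0 Q
  rw [hq, hm] at hdim
  have h1 : m + 1 ≤ q + s.card := by
    have : ((m + 1 : ℕ) : WithBot ℕ∞) ≤ ((q + s.card : ℕ) : WithBot ℕ∞) := by
      push_cast; push_cast at hdim; exact hdim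
    exact_mod_cast this
  have hne : ringKrullDim (A ⧸ Q) ≠ 0 := by
    rw [hq]
    intro h
    have : ((q : ℕ) : WithBot ℕ∞) = ((0 : ℕ) : WithBot ℕ∞) := by exact_mod_cast h
    have := Nat.cast_injective (R := WithBot ℕ∞) this
    omega
  have hrel := not_irrelevant_le_of_dim_ne_zero 𝒜 h0 hQh hne
  refine ⟨mkPoint 𝒜 Q hQp hQh hrel, le_sup_left.trans hQmin.1.2, ?_⟩
  intro g hg
  exact hQmin.1.2 (Ideal.mem_sup_right (Ideal.subset_span hg))

end Groth.Agent.Lib.H8ProjDim
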