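/-
helper8: cutting out `X ∖ Y` in `Proj A` by `r + 1` hypersurfaces through `Y`
(graded prime avoidance + induction on chains of points).
-/
import Groth.Agent.Lib.H8ProjDim2
import Groth.Agent.Lib.GradedAvoid

set_option autoImplicit false

namespace Groth.Agent.Lib.H8ProjAvoid

open ProjectiveSpectrum Groth.Agent.Lib

variable {R A : Type*} [CommRing R] [CommRing A] [Algebra R A]
  (𝒜 : ℕ → Submodule R A) [GradedAlgebra 𝒜]

theorem mem_of_vanishingIdeal_le {S : Set (ProjectiveSpectrum 𝒜)} (hS : IsClosed S)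
    (w : ProjectiveSpectrum 𝒜)
    (h : (vanishingIdeal S).toIdeal ≤ w.asHomogeneousIdeal.toIdeal) : w ∈ S := by
  rw [← hS.closure_eq, ← zeroLocus_vanishingIdeal_eq_closure, mem_zeroLocus]
  exact h

theorem vanishingIdeal_le_of_mem {S : Set (ProjectiveSpectrum 𝒜)} {x : ProjectiveSpectrum 𝒜}
    (hx : x ∈ S) : (vanishingIdeal S).toIdeal ≤ x.asHomogeneousIdeal.toIdeal :=
  fun f hf => (mem_vanishingIdeal S f).mp hf x hx

theorem mem_of_le_of_isClosed {C : Set (ProjectiveSpectrum 𝒜)} (hC : IsClosed C)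
    {x y : ProjectiveSpectrum 𝒜} (hx : x ∈ C) (hxy : x ≤ y) : y ∈ C :=
  closure_minimal (Set.singleton_subset_iff.mpr hx) hC
    ((ProjectiveSpectrum.le_iff_mem_closure (𝒜 := 𝒜) x y).mp hxy)

variable [IsNoetherianRing A]

/-- One step of the construction: a new hypersurface through `SY` lowering by one the length of
the chains of points of `SX ∖ SY` starting on the common zero locus. -/
theorem step (SX SY : Set (ProjectiveSpectrum 𝒜)) (hSX : IsClosed SX) (hSY : IsClosed SY)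
    (r t : ℕ) (h : Fin t → A) (hhom : ∀ j, SetLike.IsHomogeneousElem 𝒜 (h j))
    (hinv : ∀ l : LTSeries (ProjectiveSpectrum 𝒜), (∀ y ∈ l, y ∈ SX ∧ y ∉ SY) →
      (∀ j, h j ∈ l.head.asHomogeneousIdeal) → l.length + t ≤ r) :
    ∃ (z : A) (d : ℕ), 0 < d ∧ z ∈ 𝒜 d ∧ (∀ y ∈ SY, z ∈ y.asHomogeneousIdeal) ∧
      ∀ l : LTSeries (ProjectiveSpectrum 𝒜), (∀ y ∈ l, y ∈ SX ∧ y ∉ SY) →
        (∀ j, h j ∈ l.head.asHomogeneousIdeal) → z ∈ l.head.asHomogeneousIdeal →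
        l.length + (t + 1) ≤ r := by
  classical
  set IX : Ideal A := (vanishingIdeal SX).toIdeal with hIX
  set IY : Ideal A := (vanishingIdeal SY).toIdeal with hIY
  set J : Ideal A := IX ⊔ Ideal.span (Set.range h) with hJ
  set L : Ideal A := IY ⊓ (HomogeneousIdeal.irrelevant 𝒜).toIdeal with hL
  have hJhom : J.IsHomogeneous 𝒜 := by
    refine (vanishingIdeal SX).isHomogeneous.sup (Ideal.homogeneous_span 𝒜 _ ?_)
    rintro _ ⟨j, rfl⟩
    exact hhom j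
  have hLhom : L.IsHomogeneous 𝒜 :=
    (vanishingIdeal SY).isHomogeneous.inf (HomogeneousIdeal.irrelevant 𝒜).isHomogeneous
  have hfin : J.minimalPrimes.Finite := Ideal.finite_minimalPrimes_of_isNoetherianRing A J
  set PP : Finset (Ideal A) := hfin.toFinset.filter (fun 𝔮 => ¬ L ≤ 𝔮) with hPP
  obtain ⟨z, d, hd, hzd, hzL, hzPP⟩ := GradedAvoid.gpa 𝒜 L PP.card PP rfl (by
    intro p hp
    rw [hPP, Finset.mem_filter, Set.Finite.mem_toFinset] at hp
    refine ⟨hp.1.1.1, ?_⟩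
    obtain ⟨x, i, hxi, hxL, hxp⟩ := GradedAvoid.exists_homogeneous_notMem 𝒜 L hLhom p hp.2
    have hx0 : x ≠ 0 := fun h0 => hxp (h0 ▸ p.zero_mem)
    exact ⟨x, i, GradedAvoid.pos_of_mem_irrelevant 𝒜 hxi hxL.2 hx0, hxi, hxL, hxp⟩)
  refine ⟨z, d, hd, hzd, fun y hy => (mem_vanishingIdeal SY z).mp hzL.1 y hy, ?_⟩
  intro l hl hlh hlz
  set x := l.head with hx
  have hxW : x ∈ SX ∧ x ∉ SY := hl x l.head_mem
  have hJx : J ≤ x.asHomogeneousIdeal.toIdeal := by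
    refine sup_le (vanishingIdeal_le_of_mem 𝒜 hxW.1) ?_
    rw [Ideal.span_le]
    rintro _ ⟨j, rfl⟩
    exact hlh j
  obtain ⟨𝔮, h𝔮min, h𝔮x⟩ := Ideal.exists_minimalPrimes_le hJx
  have h𝔮p : 𝔮.IsPrime := h𝔮min.1.1
  have h𝔮hom : 𝔮.IsHomogeneous 𝒜 := H8DoubleLink.isHomogeneous_of_mem_minimalPrimes hJhom h𝔮min
  have h𝔮rel : ¬ (HomogeneousIdeal.irrelevant 𝒜).toIdeal ≤ 𝔮 := fun hle =>
    x.not_irrelevant_le (hle.trans h𝔮x)
  set w : ProjectiveSpectrum 𝒜 := ⟨⟨𝔮, h𝔮hom⟩, h𝔮p, h𝔮rel⟩ with hw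
  have hwx : w ≤ x := h𝔮x
  have hwSX : w ∈ SX := mem_of_vanishingIdeal_le 𝒜 hSX w (le_sup_left.trans h𝔮min.1.2)
  have hwSY : w ∉ SY := fun hwy => hxW.2 (mem_of_le_of_isClosed 𝒜 hSY hwy hwx)
  have hwh : ∀ j, h j ∈ w.asHomogeneousIdeal := fun j =>
    h𝔮min.1.2 (le_sup_right (a := IX) (Ideal.subset_span ⟨j, rfl⟩))
  have hL𝔮 : ¬ L ≤ 𝔮 := by
    intro hle
    rcases (Ideal.IsPrime.inf_le h𝔮p).mp hle with h1 | h1
    · exact hwSY (mem_of_vanishingIdeal_le 𝒜 hSY w h1)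
    · exact h𝔮rel h1
  have hz𝔮 : z ∉ 𝔮 := hzPP 𝔮 (by
    rw [hPP, Finset.mem_filter, Set.Finite.mem_toFinset]
    exact ⟨h𝔮min, hL𝔮⟩)
  have hwltx : w < x := by
    refine lt_of_le_of_ne hwx ?_
    intro heq
    apply hz𝔮
    have : z ∈ w.asHomogeneousIdeal := heq ▸ hlz
    exact this
  have h1 := hinv (l.cons w hwltx) (by
    intro y hy
    rw [← RelSeries.mem_toList, RelSeries.toList_cons, List.mem_cons, RelSeries.mem_toList] at hy
    rcases hy with rfl | hy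
    · exact ⟨hwSX, hwSY⟩
    · exact hl y hy) (by
    rw [RelSeries.head_cons]
    exact hwh)
  rw [RelSeries.cons_length] at h1
  omega


/-- Intermediate statement: `t` hypersurfaces through `SY` such that the chains of points of
`SX ∖ SY` starting on their common zero locus have length at most `r - t`. -/
theorem exists_partial (SX SY : Set (ProjectiveSpectrum 𝒜)) (hSX : IsClosed SX)
    (hSY : IsClosed SY) (r : ℕ)
    (hdim : ∀ l : LTSeries (ProjectiveSpectrum 𝒜), (∀ y ∈ l, y ∈ SX ∧ y ∉ SY) → l.length ≤ r)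
    (t : ℕ) :
    ∃ h : Fin t → A, (∀ j, ∃ d : ℕ, 0 < d ∧ h j ∈ 𝒜 d) ∧
      (∀ j, ∀ y ∈ SY, h j ∈ y.asHomogeneousIdeal) ∧
      ∀ l : LTSeries (ProjectiveSpectrum 𝒜), (∀ y ∈ l, y ∈ SX ∧ y ∉ SY) →
        (∀ j, h j ∈ l.head.asHomogeneousIdeal) → l.length + t ≤ r := by
  induction t with
  | zero =>
    refine ⟨Fin.elim0, fun j => j.elim0, fun j => j.elim0, fun l hl _ => ?_⟩
    simpa using hdim l hl
  | succ t ih =>
    obtain ⟨h, hhom, hvan, hinv⟩ := ih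
    obtain ⟨z, d, hd, hzd, hzY, hz⟩ := step 𝒜 SX SY hSX hSY r t h
      (fun j => by
        obtain ⟨d, -, hd⟩ := hhom j
        exact ⟨d, hd⟩) hinv
    refine ⟨Fin.snoc h z, ?_, ?_, ?_⟩
    · intro j
      refine Fin.lastCases ?_ (fun j => ?_) j
      · rw [Fin.snoc_last]
        exact ⟨d, hd, hzd⟩
      · rw [Fin.snoc_castSucc]
        exact hhom j
    · intro j
      refine Fin.lastCases ?_ (fun j => ?_) j
      · rw [Fin.snoc_last]
        exact hzY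
      · rw [Fin.snoc_castSucc]
        exact hvan j
    · intro l hl hlh
      refine hz l hl (fun j => ?_) ?_
      · have := hlh j.castSucc
        rwa [Fin.snoc_castSucc] at this
      · have := hlh (Fin.last t)
        rwa [Fin.snoc_last] at this

/-- **`r + 1` hypersurfaces through `SY` whose complements cover `SX ∖ SY`**, where `r` bounds
the length of chains of points of `SX ∖ SY`. -/
theorem exists_hypersurfaces (SX SY : Set (ProjectiveSpectrum 𝒜)) (hSX : IsClosed SX)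
    (hSY : IsClosed SY) (r : ℕ)
    (hdim : ∀ l : LTSeries (ProjectiveSpectrum 𝒜), (∀ y ∈ l, y ∈ SX ∧ y ∉ SY) → l.length ≤ r) :
    ∃ h : Fin (r + 1) → A, (∀ j, ∃ d : ℕ, 0 < d ∧ h j ∈ 𝒜 d) ∧
      (∀ j, ∀ y ∈ SY, h j ∈ y.asHomogeneousIdeal) ∧
      ∀ x ∈ SX, x ∉ SY → ∃ j, h j ∉ x.asHomogeneousIdeal := by
  obtain ⟨h, hhom, hvan, hinv⟩ := exists_partial 𝒜 SX SY hSX hSY r hdim (r + 1)
  refine ⟨h, hhom, hvan, fun x hxX hxY => ?_⟩
  by_contra hcon
  push Not at hcon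
  have := hinv (RelSeries.singleton _ x) (by
    intro y hy
    rw [RelSeries.mem_def] at hy
    obtain ⟨i, rfl⟩ := hy
    exact ⟨hxX, hxY⟩) (by simpa using hcon)
  simp at this

end Groth.Agent.Lib.H8ProjAvoid
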