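/-
helper8: codimension in the projective spectrum: irreducible closed subsets vs points,
height-one homogeneous primes of polynomial rings are generated by a homogeneous prime element.
-/
import Groth.Agent.Lib.H8ProjPoly

set_option autoImplicit false
universe u

namespace Groth.Agent.Lib.H8ProjHeight

open ProjectiveSpectrum TopologicalSpace Topology Groth.Agent.Lib

section Generic

variable {K A : Type u} [Field K] [CommRing A] [Algebra K A]
  (𝒜 : ℕ → Submodule K A) [GradedAlgebra 𝒜] [IsNoetherianRing A]

/-- Irreducible closed subsets of `Proj A` correspond to points, order-reversingly. -/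
noncomputable def irreducibleClosedsEquiv :
    IrreducibleCloseds (ProjectiveSpectrum 𝒜) ≃o (ProjectiveSpectrum 𝒜)ᵒᵈ where
  toFun Z := OrderDual.toDual (H8ProjTop.genericPt 𝒜 Z.carrier Z.isIrreducible')
  invFun x := ⟨Set.Ici (OrderDual.ofDual x), H8ProjDim.isIrreducible_Ici 𝒜 _,
    H8ProjDim.isClosed_Ici 𝒜 _⟩
  left_inv Z := by
    apply IrreducibleCloseds.ext
    exact (H8ProjDim.eq_Ici_genericPt 𝒜 Z.isClosed' Z.isIrreducible').symm
  right_inv x := by
    apply OrderDual.ofDual.injective
    apply Set.Ici_injective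
    exact (H8ProjDim.eq_Ici_genericPt 𝒜 (H8ProjDim.isClosed_Ici 𝒜 _)
      (H8ProjDim.isIrreducible_Ici 𝒜 _)).symm
  map_rel_iff' := by
    intro Z Z'
    change H8ProjTop.genericPt 𝒜 Z'.carrier Z'.isIrreducible' ≤
      H8ProjTop.genericPt 𝒜 Z.carrier Z.isIrreducible' ↔ Z.carrier ⊆ Z'.carrier
    conv_rhs => rw [H8ProjDim.eq_Ici_genericPt 𝒜 Z.isClosed' Z.isIrreducible',
      H8ProjDim.eq_Ici_genericPt 𝒜 Z'.isClosed' Z'.isIrreducible']
    rw [Set.Ici_subset_Ici]

theorem coheight_eq_height (Z : IrreducibleCloseds (ProjectiveSpectrum 𝒜))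
    (x : ProjectiveSpectrum 𝒜) (hZ : (Z : Set (ProjectiveSpectrum 𝒜)) = Set.Ici x) :
    Order.coheight Z = Order.height x := by
  rw [← Order.coheight_orderIso (irreducibleClosedsEquiv 𝒜) Z]
  have : irreducibleClosedsEquiv 𝒜 Z = OrderDual.toDual x := by
    apply OrderDual.ofDual.injective
    apply Set.Ici_injective
    change Set.Ici (H8ProjTop.genericPt 𝒜 Z.carrier Z.isIrreducible') = Set.Ici x
    rw [← H8ProjDim.eq_Ici_genericPt 𝒜 Z.isClosed' Z.isIrreducible']
    exact hZ
  rw [this, Order.coheight_toDual]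

/-- The height of a point in the poset `Proj A` is at most the height of its prime. -/
theorem height_le_height (x : ProjectiveSpectrum 𝒜) :
    Order.height x ≤ x.asHomogeneousIdeal.toIdeal.height := by
  have := Order.height_le_height_apply_of_strictMono
    (fun y : ProjectiveSpectrum 𝒜 => (⟨y.asHomogeneousIdeal.toIdeal, y.isPrime⟩ : PrimeSpectrum A))
    (fun a b hab => hab) x
  rwa [← PrimeSpectrum.height_eq_orderHeight] at this

end Generic

section Poly

variable (n : ℕ) (k : Type u) [Field k]

open MvPolynomial in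
theorem coe_decompose_eq (f : MvPolynomial (Fin (n + 1)) k) (i : ℕ) :
    (DirectSum.decompose (CohB1.polyGrading n k) f i : MvPolynomial (Fin (n + 1)) k) =
      homogeneousComponent i f :=
  decomposition.decompose'_apply f i

open MvPolynomial in
/-- A homogeneous prime of height one in a polynomial ring over a field is generated by a
homogeneous prime element. -/
theorem exists_homogeneous_generator (P : Ideal (MvPolynomial (Fin (n + 1)) k)) [hPp : P.IsPrime]
    (hP : P.IsHomogeneous (CohB1.polyGrading n k)) (h1 : P.height = 1) :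
    ∃ (d : ℕ) (g : MvPolynomial (Fin (n + 1)) k), g.IsHomogeneous d ∧ Prime g ∧
      P = Ideal.span {g} := by
  have hne : P ≠ ⊥ := Ideal.ne_bot_of_height_eq_one h1
  obtain ⟨f, hfP, hf⟩ := Ideal.IsPrime.exists_mem_prime_of_ne_bot hPp hne
  have hPf : P = Ideal.span {f} := Ideal.eq_span_singleton_of_height_eq_one h1 hfP hf
  have hf0 : f ≠ 0 := hf.ne_zero
  have hex : ∃ i, homogeneousComponent i f ≠ 0 := by
    by_contra hcon
    push_neg at hcon
    apply hf0
    rw [← sum_homogeneousComponent f]
    exact Finset.sum_eq_zero fun i _ => hcon i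
  obtain ⟨i, hi⟩ := hex
  have hg : (homogeneousComponent i f).IsHomogeneous i := homogeneousComponent_isHomogeneous i f
  have hgP : homogeneousComponent i f ∈ P := by
    rw [← coe_decompose_eq]
    exact hP i hfP
  have hile : i ≤ f.totalDegree := by
    by_contra hlt
    exact hi (homogeneousComponent_eq_zero _ _ (not_le.mp hlt))
  rw [hPf, Ideal.mem_span_singleton] at hgP
  obtain ⟨h, hh⟩ := hgP
  have hh0 : h ≠ 0 := by
    rintro rfl
    rw [mul_zero] at hh
    exact hi hh
  have hdeg : i = f.totalDegree + h.totalDegree := by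
    rw [← totalDegree_mul_of_isDomain hf0 hh0, ← hh]
    exact (hg.totalDegree hi).symm
  have hh0' : h.totalDegree = 0 := by omega
  rw [totalDegree_eq_zero_iff_eq_C] at hh0'
  have hc : coeff 0 h ≠ 0 := by
    intro h0
    rw [h0, C_0] at hh0'
    exact hh0 hh0'
  have hunit : IsUnit h := by
    rw [hh0']
    exact (IsUnit.mk0 _ hc).map C
  have hassoc : Associated f (homogeneousComponent i f) := by
    obtain ⟨u, hu⟩ := hunit
    exact ⟨u, by rw [hu, hh]⟩
  refine ⟨i, homogeneousComponent i f, hg, hassoc.prime hf, ?_⟩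
  rw [hPf]
  exact Ideal.span_singleton_eq_span_singleton.mpr hassoc

end Poly

end Groth.Agent.Lib.H8ProjHeight
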