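/-
helper8: projective normality of normal complete intersections of dimension ≥ 1.
-/
import Mathlib
import Groth.Agent.Lib.H8CISat
import Groth.Agent.Lib.H14SerreNormal

set_option autoImplicit false
set_option linter.style.haveILetI false
universe u

namespace Groth.Agent.Lib.H8ProjNormal

open IsLocalRing LocCoh Module Groth.Agent.Lib.H8CM Groth.Agent.Lib.H8LCICM

variable (k : Type u) [Field k]

/-- Mathlib-homogeneous polynomials lie in the corresponding piece of the standard `ℤ`-grading. -/
theorem mem_stdGr_of_isHomogeneous {σ : Type*} {p : MvPolynomial σ k} {d : ℕ}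
    (hp : p.IsHomogeneous d) : p ∈ GrSyz.stdGr k σ (d : ℤ) := by
  rw [GrSyz.mem_stdGr_iff]
  intro m hm
  have h1 := hp hm
  simp only [Finsupp.weight_apply, Finsupp.sum, smul_eq_mul, mul_one, Pi.one_apply] at h1 ⊢
  rw [← h1]
  push_cast
  exact Finset.sum_congr rfl (fun x _ => by simp)

/-- The ideal generated by homogeneous polynomials is homogeneous for the standard grading. -/
theorem isHomogeneous_span_range {σ : Type*} {ι : Type*} (f : ι → MvPolynomial σ k) (d : ι → ℕ)
    (hf : ∀ i, (f i).IsHomogeneous (d i)) :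
    (Ideal.span (Set.range f)).IsHomogeneous (GrSyz.stdGr k σ) := by
  apply Ideal.homogeneous_span
  rintro _ ⟨i, rfl⟩
  exact ⟨(d i : ℤ), mem_stdGr_of_isHomogeneous k (hf i)⟩


/-- The irrelevant maximal ideal of `k[x_1..x_N]` has height `N`. -/
theorem height_ker_constantCoeff (N : ℕ) :
    (RingHom.ker (MvPolynomial.constantCoeff : MvPolynomial (Fin N) k →+* k)).height = N := by
  set M := RingHom.ker (MvPolynomial.constantCoeff : MvPolynomial (Fin N) k →+* k) with hM
  haveI hMmax : M.IsMaximal :=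
    RingHom.ker_isMaximal_of_surjective _ (fun a => ⟨MvPolynomial.C a, by simp⟩)
  have h1 := Groth.Agent.Lib.FTDim.height_add_ringKrullDim_quotient k (MvPolynomial (Fin N) k) M
  letI : Field (MvPolynomial (Fin N) k ⧸ M) := Ideal.Quotient.field M
  rw [ringKrullDim_eq_zero_of_field, add_zero,
    Groth.Agent.Lib.FTDim.ringKrullDim_mvPolynomial] at h1
  exact_mod_cast h1

/-- **Projective normality of normal complete intersections** (Hartshorne II.8.4(b)). -/
theorem isDomain_and_isIntegrallyClosed_of_normal_CI (n r : ℕ) (hr : r < n)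
    (f : Fin r → MvPolynomial (Fin (n + 1)) k) (d : Fin r → ℕ)
    (hf : ∀ i, (f i).IsHomogeneous (d i))
    (hJ : (Ideal.span (Set.range f)).height = r)
    (hnorm : ∀ (Q : Ideal (MvPolynomial (Fin (n + 1)) k ⧸ Ideal.span (Set.range f))) [Q.IsPrime],
      (∃ i, Ideal.Quotient.mk (Ideal.span (Set.range f)) (MvPolynomial.X i) ∉ Q) →
        IsDomain (Localization.AtPrime Q) ∧ IsIntegrallyClosed (Localization.AtPrime Q)) :
    IsDomain (MvPolynomial (Fin (n + 1)) k ⧸ Ideal.span (Set.range f)) ∧
      IsIntegrallyClosed (MvPolynomial (Fin (n + 1)) k ⧸ Ideal.span (Set.range f)) := by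
  classical
  set J := Ideal.span (Set.range f) with hJdef
  haveI hCM : IsCohenMacaulayRing (MvPolynomial (Fin (n + 1)) k ⧸ J) :=
    Groth.Agent.Lib.H8CISat.isCMRing_quotient_of_le_height k (n + 1) r f hJ.ge
  haveI : IsNoetherianRing (MvPolynomial (Fin (n + 1)) k ⧸ J) := inferInstance
  have hJhom : J.IsHomogeneous (GrSyz.stdGr k (Fin (n + 1))) := isHomogeneous_span_range k f d hf
  have hJne : J ≠ ⊤ := by
    intro h
    rw [h, Ideal.height_top] at hJ
    exact ENat.top_ne_natCast r hJ
  set M := RingHom.ker (MvPolynomial.constantCoeff : MvPolynomial (Fin (n + 1)) k →+* k) with hM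
  haveI hMmax : M.IsMaximal :=
    RingHom.ker_isMaximal_of_surjective _ (fun a => ⟨MvPolynomial.C a, by simp⟩)
  have hJM : J ≤ M :=
    Groth.Agent.Lib.H8DoubleLink.le_ker_constantCoeff_of_isHomogeneous k (Fin (n + 1)) hJhom hJne
  haveI hmbar : (M.map (Ideal.Quotient.mk J)).IsMaximal :=
    Ideal.IsMaximal.map_of_surjective_of_ker_le Ideal.Quotient.mk_surjective
      (by rw [Ideal.mk_ker]; exact hJM)
  -- height of the vertex
  have hht : (2 : ℕ∞) ≤ (M.map (Ideal.Quotient.mk J)).height := by
    have h1 := Groth.Agent.Lib.H8DoubleLink.height_eq_add_height_map k (n + 1) r J hJhom hJ M hJM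
    rw [height_ker_constantCoeff] at h1
    generalize (M.map (Ideal.Quotient.mk J)).height = x at h1
    induction x using ENat.recTopCoe with
    | top => exact le_top
    | coe x =>
      have : n + 1 = r + x := by exact_mod_cast h1
      have : 2 ≤ x := by omega
      exact_mod_cast this
  -- a prime containing all the variables is the vertex
  have hvertex : ∀ (Q : Ideal (MvPolynomial (Fin (n + 1)) k ⧸ J)) [Q.IsPrime],
      (∀ i, Ideal.Quotient.mk J (MvPolynomial.X i) ∈ Q) → Q = M.map (Ideal.Quotient.mk J) := by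
    intro Q hQ hall
    have h1 : M ≤ Q.comap (Ideal.Quotient.mk J) :=
      Groth.Agent.Lib.H8CISat.ker_constantCoeff_le k (fun i => hall i)
    have h2 : M.map (Ideal.Quotient.mk J) ≤ Q := Ideal.map_le_iff_le_comap.mpr h1
    exact (hmbar.eq_of_le hQ.ne_top h2).symm
  have hR : HasRk 1 (MvPolynomial (Fin (n + 1)) k ⧸ J) := by
    intro Q _ hQ
    by_cases h : ∃ i, Ideal.Quotient.mk J (MvPolynomial.X i) ∉ Q
    · obtain ⟨hd, hic⟩ := hnorm Q h
      apply Groth.Agent.Lib.H14SerreNormal.isRegularLocalRing_of_normal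
      rw [IsLocalization.AtPrime.ringKrullDim_eq_height Q]
      exact_mod_cast hQ
    · push Not at h
      have := hvertex Q h
      rw [this] at hQ
      exact absurd (hht.trans hQ) (by norm_num)
  have hS : HasSk 2 (MvPolynomial (Fin (n + 1)) k ⧸ J) (MvPolynomial (Fin (n + 1)) k ⧸ J) :=
    Groth.Agent.Lib.H8Liaison.hasSk_self_of_isCMRing 2 _
  have hall := (Groth.Agent.Lib.H14SerreNormal.serre_criterion_normal
    (MvPolynomial (Fin (n + 1)) k ⧸ J)).mpr ⟨hR, hS⟩
  haveI : (M.map (Ideal.Quotient.mk J)).IsPrime := hmbar.isPrime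
  obtain ⟨hdm, -⟩ := hall (M.map (Ideal.Quotient.mk J))
  -- every minimal prime lies in the vertex
  have hmin : ∀ q ∈ minimalPrimes (MvPolynomial (Fin (n + 1)) k ⧸ J),
      q ≤ M.map (Ideal.Quotient.mk J) := by
    intro q hq
    have hQ : q.comap (Ideal.Quotient.mk J) ∈ J.minimalPrimes := by
      rw [Ideal.minimalPrimes_eq_comap]
      exact Set.mem_image_of_mem _ hq
    have hQh := Groth.Agent.Lib.H8DoubleLink.isHomogeneous_of_mem_minimalPrimes hJhom hQ
    have hQne : q.comap (Ideal.Quotient.mk J) ≠ ⊤ := hQ.1.1.ne_top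
    have hQm := Groth.Agent.Lib.H8DoubleLink.le_ker_constantCoeff_of_isHomogeneous k
      (Fin (n + 1)) hQh hQne
    rw [← Ideal.map_comap_of_surjective _ Ideal.Quotient.mk_surjective q]
    exact Ideal.map_mono hQm
  have hle : (M.map (Ideal.Quotient.mk J)).primeCompl ≤
      nonZeroDivisors (MvPolynomial (Fin (n + 1)) k ⧸ J) := by
    intro s hs
    rw [mem_nonZeroDivisors_iff_right]
    intro t hts
    by_contra ht0
    obtain ⟨q, hq, hqle⟩ := exists_le_isAssociatedPrime_of_isNoetherianRing
      (MvPolynomial (Fin (n + 1)) k ⧸ J) t ht0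
    have hqmin := Groth.Agent.Lib.H8Liaison.mem_minimalPrimes_of_mem_associatedPrimes _ hq
    apply hs
    apply hmin q hqmin
    apply hqle
    rw [Submodule.mem_colon_singleton, Submodule.mem_bot, smul_eq_mul, mul_comm]
    exact hts
  have hinj : Function.Injective (algebraMap (MvPolynomial (Fin (n + 1)) k ⧸ J)
      (Localization.AtPrime (M.map (Ideal.Quotient.mk J)))) :=
    IsLocalization.injective (Localization.AtPrime (M.map (Ideal.Quotient.mk J))) hle
  have hdom : IsDomain (MvPolynomial (Fin (n + 1)) k ⧸ J) :=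
    Function.Injective.isDomain _ hinj
  exact ⟨hdom, Groth.Agent.Lib.H14SerreNormal.isIntegrallyClosed_of_domain _ hR hS⟩

end Groth.Agent.Lib.H8ProjNormal
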