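import Groth.Agent.Lib.H8GrpdRestrictMono
import Groth.Agent.Lib.H8GrpdQuotGlobal
import Groth.Agent.Lib.FpqcCovDesc18
import Groth.Agent.Lib.FpqcCovMore18
import Groth.Agent.Lib.AlgSpGeomPt
import Groth.Agent.Lib.AlgSpSrcCover3

/-!
# Quotient of a groupoid scheme admitting a quasi-section (SGA 3 V Théorème 6.1) (helper8)
-/

set_option autoImplicit false
set_option linter.unusedSectionVars false
universe u
open CategoryTheory CategoryTheory.Limits AlgebraicGeometry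
open Grpd

namespace Groth.Agent.Lib.H8QuasiSection

open Groth.Agent.Lib.H8GrpdRestrict Groth.Agent.Lib.H8GrpdRestrictMono Groth.Agent.Lib.GrpdPts
  Groth.Agent.Lib.H8GrpdQuot Groth.Agent.Lib.FpqcCov18

variable {S : Scheme.{u}} (G : GroupoidScheme S) {U' : Scheme.{u}} (u : U' ⟶ G.U) [Mono u]

/-- The restricted groupoid. -/
noncomputable abbrev G' : GroupoidScheme S := restrictMono G u

section points

lemma jR_t (r : (G' G u).R) : G.t (jR G u r) = u ((G' G u).t r) := by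
  have := congrArg (fun φ : (G' G u).R ⟶ G.U => φ r) (t_jU G u)
  exact this.symm

lemma jR_s (r : (G' G u).R) : G.s (jR G u r) = u ((G' G u).s r) := by
  have := congrArg (fun φ : (G' G u).R ⟶ G.U => φ r) (s_jU G u)
  exact this.symm

/-- The orbit relation on points is symmetric. -/
lemma rel_symm {x y : G.U} (h : ∃ r : G.R, G.t r = x ∧ G.s r = y) :
    ∃ r : G.R, G.t r = y ∧ G.s r = x := by
  obtain ⟨r, h1, h2⟩ := h
  exact ⟨G.i r, by rw [Lib.GrpdSat13.t_i, h2], by rw [Lib.GrpdSat13.s_i, h1]⟩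

/-- The orbit relation on points is transitive. -/
lemma rel_trans {x y z : G.U} (h : ∃ r : G.R, G.t r = x ∧ G.s r = y)
    (h' : ∃ r : G.R, G.t r = y ∧ G.s r = z) : ∃ r : G.R, G.t r = x ∧ G.s r = z := by
  obtain ⟨r, h1, h2⟩ := h
  obtain ⟨r', h1', h2'⟩ := h'
  obtain ⟨r₃, h3, h4⟩ := Lib.GrpdSat13.exists_comp G r r' (h2.trans h1'.symm)
  exact ⟨r₃, h4.trans h1, h3.trans h2'⟩

variable (h2 : ∀ E : Set U', (∀ x ∈ E, ∀ y ∈ E, ∃ r : G.R, G.t r = u x ∧ G.s r = u y) →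
      ∃ W : U'.Opens, IsAffineOpen W ∧ E ⊆ (W : Set U'))

include h2 in
lemma orbAff_G' : OrbAff (G' G u) := by
  constructor
  intro x'
  refine h2 _ ?_
  rintro _ ⟨r₁, hr₁, rfl⟩ _ ⟨r₂, hr₂, rfl⟩
  have hr₁' : (G' G u).s r₁ = x' := hr₁
  have hr₂' : (G' G u).s r₂ = x' := hr₂
  refine rel_trans G ⟨jR G u r₁, jR_t G u r₁, rfl⟩ (rel_symm G ⟨jR G u r₂, jR_t G u r₂, ?_⟩)
  rw [jR_s, jR_s, hr₁', hr₂']

end points

section quotient

variable [IsFinite (vv G u)] [Flat (vv G u)] [LocallyOfFinitePresentation (vv G u)]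
  [Surjective (vv G u)] [OrbAff (G' G u)]

/-- The quotient. -/
noncomputable abbrev Yq : Scheme.{u} := Y (G' G u)

/-- The quotient map of the restriction. -/
noncomputable abbrev q' : (G' G u).U ⟶ Yq G u := q (G' G u)

lemma isFpqcCov_vv : IsFpqcCov (vv G u) := isFpqcCov_of_fpqc _

/-- Two `T`-points of `V` with the same source have targets with the same image in `Y`. -/
lemma snd_q'_eq {A : Scheme.{u}} (g₁ g₂ : A ⟶ VV G u) (h : g₁ ≫ vv G u = g₂ ≫ vv G u) :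
    g₁ ≫ sndV G u ≫ q' G u = g₂ ≫ sndV G u ≫ q' G u := by
  obtain ⟨a₁, ha₁⟩ : ∃ a : A ⟶ G.R, a = g₁ ≫ fstV G u := ⟨_, rfl⟩
  obtain ⟨a₂, ha₂⟩ : ∃ a : A ⟶ G.R, a = g₂ ≫ fstV G u := ⟨_, rfl⟩
  have hs : a₁ ≫ G.s = a₂ ≫ G.s := by
    rw [ha₁, ha₂, Category.assoc, Category.assoc, ← vv_eq]
    exact h
  have hcomp : a₁ ≫ G.s = (a₂ ≫ G.i) ≫ G.t := by
    rw [Category.assoc, G.i_t, hs]
  have hx : cmp G a₁ (a₂ ≫ G.i) ≫ G.t = (g₁ ≫ sndV G u) ≫ jU G u := by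
    rw [cmp_t hcomp, ha₁, Category.assoc, Category.assoc, V_cond]
  have hy : cmp G a₁ (a₂ ≫ G.i) ≫ G.s = (g₂ ≫ sndV G u) ≫ jU G u := by
    rw [cmp_s hcomp, Category.assoc, G.i_s, ha₂, Category.assoc, Category.assoc, V_cond]
  obtain ⟨ρ, h1, h2⟩ : ∃ ρ : A ⟶ (G' G u).R, ρ ≫ (G' G u).t = g₁ ≫ sndV G u ∧
      ρ ≫ (G' G u).s = g₂ ≫ sndV G u :=
    ⟨_, liftR'_t G u _ _ _ hx hy, liftR'_s G u _ _ _ hx hy⟩
  rw [← Category.assoc, ← Category.assoc, ← h1, ← h2, Category.assoc, Category.assoc, q_comm]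

lemma exists_p : ∃ p : G.U ⟶ Yq G u, vv G u ≫ p = sndV G u ≫ q' G u :=
  (isFpqcCov_vv G u).exists_desc _ (fun g₁ g₂ h => snd_q'_eq G u g₁ g₂ h)

/-- The quotient map. -/
noncomputable def p : G.U ⟶ Yq G u := (exists_p G u).choose

@[reassoc]
lemma vv_p : vv G u ≫ p G u = sndV G u ≫ q' G u := (exists_p G u).choose_spec

/-- The section `U' ⟶ V`, `x ↦ (e x, x)`. -/
noncomputable def σ : (G' G u).U ⟶ VV G u :=
  liftV' G u (jU G u ≫ G.e) (𝟙 _) (by rw [Category.assoc, G.e_t, Category.comp_id,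
    Category.id_comp])

@[reassoc]
lemma σ_snd : σ G u ≫ sndV G u = 𝟙 _ := liftV'_snd _ _ _ _ _

@[reassoc]
lemma σ_vv : σ G u ≫ vv G u = jU G u := by
  unfold σ
  rw [liftV'_vv, Category.assoc, G.e_s, Category.comp_id]

@[reassoc]
lemma u_p : jU G u ≫ p G u = q' G u := by
  have h := σ_vv_assoc G u (p G u)
  rw [vv_p, σ_snd_assoc] at h
  exact h.symm

instance epi_sndV : Epi (sndV G u) := epi_of_epi_fac (σ_snd G u)

instance epi_vv : Epi (vv G u) := Flat.epi_of_flat_of_surjective _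

instance epi_p : Epi (p G u) := by
  have h1 : Epi (sndV G u ≫ q' G u) := epi_comp _ _
  have : Epi (vv G u ≫ p G u) := by
    rw [vv_p]
    exact h1
  exact epi_of_epi (vv G u) (p G u)

lemma p_comm : G.t ≫ p G u = G.s ≫ p G u := by
  obtain ⟨prR, hprR⟩ : ∃ a : pullback G.s (vv G u) ⟶ G.R, a = pullback.fst G.s (vv G u) :=
    ⟨_, rfl⟩
  obtain ⟨prV, hprV⟩ : ∃ a : pullback G.s (vv G u) ⟶ VV G u, a = pullback.snd G.s (vv G u) :=
    ⟨_, rfl⟩
  have hcond : prR ≫ G.s = prV ≫ vv G u := by rw [hprR, hprV]; exact pullback.condition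
  have : Epi prR := by rw [hprR]; exact Flat.epi_of_flat_of_surjective _
  obtain ⟨a, ha⟩ : ∃ a : pullback G.s (vv G u) ⟶ G.R, a = prV ≫ fstV G u := ⟨_, rfl⟩
  have hcomp : a ≫ G.s = (prR ≫ G.i) ≫ G.t := by
    rw [Category.assoc, G.i_t, hcond, ha, Category.assoc, ← vv_eq]
  have hx : cmp G a (prR ≫ G.i) ≫ G.t = (prV ≫ sndV G u) ≫ jU G u := by
    rw [cmp_t hcomp, ha, Category.assoc, Category.assoc, V_cond]
  have hξ₂ : liftV' G u _ _ hx ≫ vv G u = prR ≫ G.t := by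
    rw [liftV'_vv, cmp_s hcomp, Category.assoc, G.i_s]
  have hξ₂' : liftV' G u _ _ hx ≫ sndV G u = prV ≫ sndV G u := liftV'_snd _ _ _ _ _
  rw [← cancel_epi prR, ← Category.assoc, ← hξ₂, Category.assoc, vv_p, ← Category.assoc,
    hξ₂', ← Category.assoc prR, hcond, Category.assoc, Category.assoc, vv_p]

lemma p_surjective : Function.Surjective (p G u) := by
  intro y
  obtain ⟨x', rfl⟩ := q_surjective (G' G u) y
  exact ⟨jU G u x', congrArg (fun φ : (G' G u).U ⟶ Yq G u => φ x') (u_p G u)⟩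

/-- The universal property. -/
theorem exists_desc_p {Z : Scheme.{u}} (f : G.U ⟶ Z) (hf : G.t ≫ f = G.s ≫ f) :
    ∃ g : Yq G u ⟶ Z, p G u ≫ g = f := by
  have h' : (G' G u).s ≫ (jU G u ≫ f) = (G' G u).t ≫ (jU G u ≫ f) := by
    rw [← Category.assoc, ← Category.assoc, s_jU, t_jU, Category.assoc, Category.assoc, hf]
  obtain ⟨g, hg⟩ := exists_desc (G' G u) (jU G u ≫ f) h'
  refine ⟨g, ?_⟩
  have hg' : q' G u ≫ g = jU G u ≫ f := hg
  rw [← cancel_epi (vv G u), vv_p_assoc, hg', ← Category.assoc, ← V_cond, Category.assoc, hf,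
    vv_eq, Category.assoc]

/-- `p` is a coequalizer of `(t, s)`. -/
noncomputable def isColimitCoforkP (w : G.t ≫ p G u = G.s ≫ p G u) :
    IsColimit (Cofork.ofπ (p G u) w) :=
  Cofork.IsColimit.mk' _ (fun c =>
    ⟨(exists_desc_p G u c.π c.condition).choose,
      (exists_desc_p G u c.π c.condition).choose_spec,
      fun {m} hm => by
        rw [← cancel_epi (p G u)]
        exact hm.trans (exists_desc_p G u c.π c.condition).choose_spec.symm⟩)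

section fibres

lemma fstV_s (ξ : VV G u) : G.s (fstV G u ξ) = vv G u ξ := rfl

lemma fstV_t (ξ : VV G u) : G.t (fstV G u ξ) = jU G u (sndV G u ξ) :=
  congrArg (fun φ : VV G u ⟶ G.U => φ ξ) (V_cond G u)

lemma p_vv (ξ : VV G u) : p G u (vv G u ξ) = q' G u (sndV G u ξ) :=
  congrArg (fun φ : VV G u ⟶ Yq G u => φ ξ) (vv_p G u)

lemma p_eq_iff (x y : G.U) : p G u x = p G u y ↔ ∃ r : G.R, G.t r = x ∧ G.s r = y := by
  constructor
  · intro h
    obtain ⟨ξ, rfl⟩ := (inferInstance : Surjective (vv G u)).surj x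
    obtain ⟨η, rfl⟩ := (inferInstance : Surjective (vv G u)).surj y
    rw [p_vv, p_vv, q_eq_iff] at h
    obtain ⟨r', hr1, hr2⟩ := h
    have h1 : ∃ r : G.R, G.t r = vv G u ξ ∧ G.s r = jU G u (sndV G u ξ) :=
      rel_symm G ⟨fstV G u ξ, fstV_t G u ξ, fstV_s G u ξ⟩
    have h2 : ∃ r : G.R, G.t r = jU G u (sndV G u ξ) ∧ G.s r = jU G u (sndV G u η) :=
      ⟨jR G u r', by rw [jR_t, hr1]; rfl, by rw [jR_s, hr2]; rfl⟩
    have h3 : ∃ r : G.R, G.t r = jU G u (sndV G u η) ∧ G.s r = vv G u η :=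
      ⟨fstV G u η, fstV_t G u η, fstV_s G u η⟩
    exact rel_trans G (rel_trans G h1 h2) h3
  · rintro ⟨r, rfl, rfl⟩
    exact congrArg (fun φ : G.R ⟶ Yq G u => φ r) (p_comm G u)

lemma isOpenMap_p (ht : IsOpenMap G.t) : IsOpenMap (p G u) := by
  intro O hO
  have h1 : (p G u) ⁻¹' ((p G u) '' O) = G.t '' (G.s ⁻¹' O) := by
    ext x
    constructor
    · rintro ⟨y, hy, h⟩
      obtain ⟨r, hr1, hr2⟩ := (p_eq_iff G u x y).mp h.symm
      exact ⟨r, by rw [Set.mem_preimage, hr2]; exact hy, hr1⟩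
    · rintro ⟨r, hr, rfl⟩
      exact ⟨G.s r, hr, ((p_eq_iff G u _ _).mpr ⟨r, rfl, rfl⟩).symm⟩
  have h2 : IsOpen ((p G u) ⁻¹' ((p G u) '' O)) := by
    rw [h1]
    exact ht _ (hO.preimage G.s.continuous)
  have h3 : (q' G u) ⁻¹' ((p G u) '' O) = (jU G u) ⁻¹' ((p G u) ⁻¹' ((p G u) '' O)) := by
    ext x'
    have : q' G u x' = p G u (jU G u x') :=
      (congrArg (fun φ : (G' G u).U ⟶ Yq G u => φ x') (u_p G u)).symm
    simp only [Set.mem_preimage, this]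
  have h4 : (p G u) '' O = (q' G u) '' ((q' G u) ⁻¹' ((p G u) '' O)) :=
    (Set.image_preimage_eq _ (q_surjective (G' G u))).symm
  rw [h4]
  apply isOpenMap_q (G' G u)
  rw [h3]
  exact h2.preimage (jU G u).continuous

lemma universallyClosed_p [UniversallyClosed G.t] : UniversallyClosed (p G u) := by
  have h1 : UniversallyClosed (sndV G u) :=
    inferInstanceAs (UniversallyClosed (pullback.snd G.t u))
  have h2 : UniversallyClosed (q' G u) := inferInstance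
  have h3 : UniversallyClosed (vv G u ≫ p G u) := by
    rw [vv_p]
    infer_instance
  exact UniversallyClosed.of_comp_surjective (vv G u) (p G u)

lemma flat_p_of_flat (hq : Flat (q' G u)) [Flat G.t] : Flat (p G u) := by
  have h1 : Flat (sndV G u) := inferInstanceAs (Flat (pullback.snd G.t u))
  have h3 : Flat (vv G u ≫ p G u) := by
    rw [vv_p]
    infer_instance
  rw [Flat.iff_flat_stalkMap]
  intro x
  obtain ⟨ξ, rfl⟩ := (inferInstance : Surjective (vv G u)).surj x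
  exact Groth.Agent.Lib.AlgSpSrcCover.flat_stalkMap_of_comp (vv G u) (p G u) ξ

end fibres

section kpoints

omit [Mono u] [IsFinite (vv G u)] [Flat (vv G u)] [LocallyOfFinitePresentation (vv G u)]
  [Surjective (vv G u)] [OrbAff (G' G u)] in
/-- Geometric points of the quotient of Théorème 4.1 with the same image are related. -/
theorem q_kpoints (H : GroupoidScheme S) [IsFinite H.s] [Flat H.s]
    [LocallyOfFinitePresentation H.s] [OrbAff H] (K : Type u) [Field K] [IsAlgClosed K]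
    (x₀ x₁ : Spec (CommRingCat.of K) ⟶ H.U) (hx : x₀ ≫ q H = x₁ ≫ q H) :
    ∃ r : Spec (CommRingCat.of K) ⟶ H.R, r ≫ H.t = x₀ ∧ r ≫ H.s = x₁ := by
  let pt : Spec (CommRingCat.of K) := (⟨⊥, Ideal.isPrime_bot⟩ : PrimeSpectrum K)
  have hpt : ∀ p : Spec (CommRingCat.of K), p = pt := fun p =>
    Subsingleton.elim (α := PrimeSpectrum K) p pt
  obtain ⟨W, hW⟩ := exists_mem_invAff H (x₀ pt)
  have hW1 : x₁ pt ∈ W.op := by
    rw [← q_mem_range_iff]
    have : q H (x₁ pt) = q H (x₀ pt) :=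
      (congrArg (fun ψ : Spec (CommRingCat.of K) ⟶ Y H => ψ pt) hx).symm
    rw [this, q_mem_range_iff]
    exact hW
  have hr0 : Set.range x₀ ⊆ Set.range (iU W) := by
    rintro _ ⟨p, rfl⟩
    rw [hpt p, range_ιU]
    exact hW
  have hr1 : Set.range x₁ ⊆ Set.range (iU W) := by
    rintro _ ⟨p, rfl⟩
    rw [hpt p, range_ιU]
    exact hW1
  let x₀' : Spec (CommRingCat.of K) ⟶ (GW H W).U := IsOpenImmersion.lift (iU W) x₀ hr0
  let x₁' : Spec (CommRingCat.of K) ⟶ (GW H W).U := IsOpenImmersion.lift (iU W) x₁ hr1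
  have h0 : x₀' ≫ iU W = x₀ := IsOpenImmersion.lift_fac _ _ _
  have h1 : x₁' ≫ iU W = x₁ := IsOpenImmersion.lift_fac _ _ _
  have hπ : x₀' ≫ (GW H W).toQuot = x₁' ≫ (GW H W).toQuot := by
    rw [← cancel_mono (ιY H W), Category.assoc, Category.assoc]
    change x₀' ≫ πW W ≫ ιY H W = x₁' ≫ πW W ≫ ιY H W
    rw [← iU_q, ← Category.assoc, ← Category.assoc, h0, h1, hx]
  obtain ⟨r', hr't, hr's⟩ := toQuot_kpoints (GW H W) K x₀' x₁' hπ
  refine ⟨r' ≫ iR W, ?_, ?_⟩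
  · rw [Category.assoc, ← t_ιU, ← Category.assoc, hr't, h0]
  · rw [Category.assoc, ← s_ιU, ← Category.assoc, hr's, h1]

omit [Mono u] [IsFinite (vv G u)] [Flat (vv G u)] [OrbAff (G' G u)] in
/-- Geometric points lift along `v`. -/
lemma exists_kpoint_lift (K : Type u) [Field K] [IsAlgClosed K]
    (x : Spec (CommRingCat.of K) ⟶ G.U) :
    ∃ ξ : Spec (CommRingCat.of K) ⟶ VV G u, ξ ≫ vv G u = x := by
  let pt : Spec (CommRingCat.of K) := (⟨⊥, Ideal.isPrime_bot⟩ : PrimeSpectrum K)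
  have hsurj : Surjective (pullback.fst x (vv G u)) := inferInstance
  obtain ⟨w, -⟩ := hsurj.surj pt
  have : Nonempty ↥(pullback x (vv G u)) := ⟨w⟩
  obtain ⟨s, hs⟩ := Groth.Agent.Lib.AlgSpGeomPt.exists_section_of_isAlgClosed
    (pullback.fst x (vv G u))
  refine ⟨s ≫ pullback.snd x (vv G u), ?_⟩
  rw [Category.assoc, ← pullback.condition, ← Category.assoc, hs, Category.id_comp]

theorem p_kpoints (K : Type u) [Field K] [IsAlgClosed K]
    (x₀ x₁ : Spec (CommRingCat.of K) ⟶ G.U) (hx : x₀ ≫ p G u = x₁ ≫ p G u) :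
    ∃ r : Spec (CommRingCat.of K) ⟶ G.R, r ≫ G.t = x₀ ∧ r ≫ G.s = x₁ := by
  obtain ⟨ξ₀, rfl⟩ := exists_kpoint_lift G u K x₀
  obtain ⟨ξ₁, rfl⟩ := exists_kpoint_lift G u K x₁
  rw [Category.assoc, Category.assoc, vv_p] at hx
  obtain ⟨r', hr't, hr's⟩ := q_kpoints (G' G u) K (ξ₀ ≫ sndV G u) (ξ₁ ≫ sndV G u)
    (by rw [Category.assoc, Category.assoc]; exact hx)
  obtain ⟨a₀, ha₀⟩ : ∃ a : Spec (CommRingCat.of K) ⟶ G.R, a = ξ₀ ≫ fstV G u := ⟨_, rfl⟩
  obtain ⟨a₁, ha₁⟩ : ∃ a : Spec (CommRingCat.of K) ⟶ G.R, a = ξ₁ ≫ fstV G u := ⟨_, rfl⟩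
  obtain ⟨ρ, hρ⟩ : ∃ a : Spec (CommRingCat.of K) ⟶ G.R, a = r' ≫ jR G u := ⟨_, rfl⟩
  have hρt : ρ ≫ G.t = a₀ ≫ G.t := by
    rw [hρ, ha₀, Category.assoc, ← t_jU, ← Category.assoc, hr't, Category.assoc, Category.assoc,
      V_cond]
  have hρs : ρ ≫ G.s = a₁ ≫ G.t := by
    rw [hρ, ha₁, Category.assoc, ← s_jU, ← Category.assoc, hr's, Category.assoc, Category.assoc,
      V_cond]
  have hc1 : (a₀ ≫ G.i) ≫ G.s = ρ ≫ G.t := by rw [Category.assoc, G.i_s, hρt]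
  have hc2 : cmp G (a₀ ≫ G.i) ρ ≫ G.s = a₁ ≫ G.t := by rw [cmp_s hc1, hρs]
  refine ⟨cmp G (cmp G (a₀ ≫ G.i) ρ) a₁, ?_, ?_⟩
  · rw [cmp_t hc2, cmp_t hc1, Category.assoc, G.i_t, ha₀, Category.assoc, ← vv_eq]
  · rw [cmp_s hc2, ha₁, Category.assoc, ← vv_eq]

/-- `R ⟶ U ×_Y U` is surjective. -/
theorem surjective_lift_p (w : G.t ≫ p G u = G.s ≫ p G u) :
    Function.Surjective (pullback.lift G.t G.s w) := by
  intro x
  let P := pullback (p G u) (p G u)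
  let K := AlgebraicClosure (P.residueField x)
  let φ : Spec (CommRingCat.of K) ⟶ P :=
    Spec.map (CommRingCat.ofHom (algebraMap (P.residueField x) K)) ≫ P.fromSpecResidueField x
  let pt : Spec (CommRingCat.of K) := (⟨⊥, Ideal.isPrime_bot⟩ : PrimeSpectrum K)
  have hφ : φ pt = x := Scheme.fromSpecResidueField_apply x _
  have hx : (φ ≫ pullback.fst (p G u) (p G u)) ≫ p G u =
      (φ ≫ pullback.snd (p G u) (p G u)) ≫ p G u := by
    simp only [Category.assoc, pullback.condition]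
  obtain ⟨r, hrt, hrs⟩ := p_kpoints G u K _ _ hx
  have hrφ : r ≫ pullback.lift G.t G.s w = φ := by
    apply pullback.hom_ext
    · rw [Category.assoc, pullback.lift_fst, hrt]
    · rw [Category.assoc, pullback.lift_snd, hrs]
  refine ⟨r pt, ?_⟩
  have := congrArg (fun ψ : Spec (CommRingCat.of K) ⟶ P => ψ pt) hrφ
  exact this.trans hφ

end kpoints

section monoJ

omit [Mono u] [IsFinite (vv G u)] [Flat (vv G u)] [LocallyOfFinitePresentation (vv G u)]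
  [Surjective (vv G u)] [OrbAff (G' G u)] in
lemma hom_ext_of_mono_j [Mono G.j] {T : Scheme.{u}} (α β : T ⟶ G.R) (ht : α ≫ G.t = β ≫ G.t)
    (hs : α ≫ G.s = β ≫ G.s) : α = β := by
  rw [← cancel_mono G.j]
  apply pullback.hom_ext
  · simp only [Category.assoc, GroupoidScheme.j, pullback.lift_fst]
    exact ht
  · simp only [Category.assoc, GroupoidScheme.j, pullback.lift_snd]
    exact hs

variable [Mono G.j]

instance mono_j_G' : Mono (G' G u).j := mono_j_restrictMono G u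

/-- Given `a b : T ⟶ U` with the same image in `Y`, there is `ρ : T ⟶ R` from `b` to `a`. -/
lemma exists_lift_of_p_eq {T : Scheme.{u}} (a b : T ⟶ G.U) (hab : a ≫ p G u = b ≫ p G u) :
    ∃ ρ : T ⟶ G.R, ρ ≫ G.t = a ∧ ρ ≫ G.s = b := by
  -- the fpqc cover `π : T₁ ⟶ T` on which `a` and `b` lift to `V`
  obtain ⟨πa, hπa⟩ : ∃ f : pullback a (vv G u) ⟶ T, f = pullback.fst a (vv G u) := ⟨_, rfl⟩
  obtain ⟨πb, hπb⟩ : ∃ f : pullback b (vv G u) ⟶ T, f = pullback.fst b (vv G u) := ⟨_, rfl⟩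
  have ia : Flat πa ∧ Surjective πa ∧ QuasiCompact πa := by
    rw [hπa]; exact ⟨inferInstance, inferInstance, inferInstance⟩
  have ib : Flat πb ∧ Surjective πb ∧ QuasiCompact πb := by
    rw [hπb]; exact ⟨inferInstance, inferInstance, inferInstance⟩
  obtain ⟨ia1, ia2, ia3⟩ := ia
  obtain ⟨ib1, ib2, ib3⟩ := ib
  obtain ⟨π, hπ⟩ : ∃ f : pullback πa πb ⟶ T, f = pullback.fst πa πb ≫ πa := ⟨_, rfl⟩
  have hπ' : π = pullback.snd πa πb ≫ πb := by rw [hπ, pullback.condition]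
  have iπ : Flat π ∧ Surjective π ∧ QuasiCompact π := by
    rw [hπ]; exact ⟨inferInstance, inferInstance, inferInstance⟩
  obtain ⟨iπ1, iπ2, iπ3⟩ := iπ
  obtain ⟨ξ₁, hξ₁⟩ : ∃ f : pullback πa πb ⟶ VV G u,
      f = pullback.fst πa πb ≫ pullback.snd a (vv G u) := ⟨_, rfl⟩
  obtain ⟨ξ₂, hξ₂⟩ : ∃ f : pullback πa πb ⟶ VV G u,
      f = pullback.snd πa πb ≫ pullback.snd b (vv G u) := ⟨_, rfl⟩
  have hξ₁v : ξ₁ ≫ vv G u = π ≫ a := by
    rw [hξ₁, hπ, hπa, Category.assoc, Category.assoc, pullback.condition]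
  have hξ₂v : ξ₂ ≫ vv G u = π ≫ b := by
    rw [hξ₂, hπ', hπb, Category.assoc, Category.assoc, pullback.condition]
  have hq : (ξ₁ ≫ sndV G u) ≫ q' G u = (ξ₂ ≫ sndV G u) ≫ q' G u := by
    rw [Category.assoc, Category.assoc, ← vv_p, ← Category.assoc, ← Category.assoc, hξ₁v, hξ₂v,
      Category.assoc, Category.assoc, hab]
  obtain ⟨ρ', hρ't, hρ's⟩ : ∃ ρ' : pullback πa πb ⟶ (G' G u).R,
      ρ' ≫ (G' G u).t = ξ₁ ≫ sndV G u ∧ ρ' ≫ (G' G u).s = ξ₂ ≫ sndV G u :=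
    ⟨(isPullback_t_s_q (G' G u)).lift _ _ hq, (isPullback_t_s_q (G' G u)).lift_fst _ _ hq,
      (isPullback_t_s_q (G' G u)).lift_snd _ _ hq⟩
  obtain ⟨a₁, ha₁⟩ : ∃ f : pullback πa πb ⟶ G.R, f = ξ₁ ≫ fstV G u := ⟨_, rfl⟩
  obtain ⟨a₂, ha₂⟩ : ∃ f : pullback πa πb ⟶ G.R, f = ξ₂ ≫ fstV G u := ⟨_, rfl⟩
  obtain ⟨ρ, hρ⟩ : ∃ f : pullback πa πb ⟶ G.R, f = ρ' ≫ jR G u := ⟨_, rfl⟩
  have hρt : ρ ≫ G.t = a₁ ≫ G.t := by
    rw [hρ, ha₁, Category.assoc, ← t_jU, ← Category.assoc, hρ't, Category.assoc, Category.assoc,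
      V_cond]
  have hρs : ρ ≫ G.s = a₂ ≫ G.t := by
    rw [hρ, ha₂, Category.assoc, ← s_jU, ← Category.assoc, hρ's, Category.assoc, Category.assoc,
      V_cond]
  have hc1 : (a₁ ≫ G.i) ≫ G.s = ρ ≫ G.t := by rw [Category.assoc, G.i_s, hρt]
  have hc2 : cmp G (a₁ ≫ G.i) ρ ≫ G.s = a₂ ≫ G.t := by rw [cmp_s hc1, hρs]
  obtain ⟨ρ₁, hρ₁⟩ : ∃ f : pullback πa πb ⟶ G.R, f = cmp G (cmp G (a₁ ≫ G.i) ρ) a₂ := ⟨_, rfl⟩
  have hρ₁t : ρ₁ ≫ G.t = π ≫ a := by
    rw [hρ₁, cmp_t hc2, cmp_t hc1, Category.assoc, G.i_t, ha₁, Category.assoc, ← vv_eq, hξ₁v]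
  have hρ₁s : ρ₁ ≫ G.s = π ≫ b := by
    rw [hρ₁, cmp_s hc2, ha₂, Category.assoc, ← vv_eq, hξ₂v]
  obtain ⟨ρ₀, hρ₀⟩ := (isFpqcCov_of_fpqc π).exists_desc ρ₁ (fun g₁ g₂ hg => by
    apply hom_ext_of_mono_j G
    · rw [Category.assoc, Category.assoc, hρ₁t, ← Category.assoc, ← Category.assoc, hg]
    · rw [Category.assoc, Category.assoc, hρ₁s, ← Category.assoc, ← Category.assoc, hg])
  have : Epi π := Flat.epi_of_flat_of_surjective _
  refine ⟨ρ₀, ?_, ?_⟩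
  · rw [← cancel_epi π, ← Category.assoc, hρ₀, hρ₁t]
  · rw [← cancel_epi π, ← Category.assoc, hρ₀, hρ₁s]

theorem isPullback_t_s_p : IsPullback G.t G.s (p G u) (p G u) := by
  refine IsPullback.of_isLimit' ⟨p_comm G u⟩ (PullbackCone.IsLimit.mk _
    (fun c => (exists_lift_of_p_eq G u c.fst c.snd c.condition).choose)
    (fun c => (exists_lift_of_p_eq G u c.fst c.snd c.condition).choose_spec.1)
    (fun c => (exists_lift_of_p_eq G u c.fst c.snd c.condition).choose_spec.2)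
    (fun c m h1 h2 => ?_))
  apply hom_ext_of_mono_j G
  · rw [h1, (exists_lift_of_p_eq G u c.fst c.snd c.condition).choose_spec.1]
  · rw [h2, (exists_lift_of_p_eq G u c.fst c.snd c.condition).choose_spec.2]

end monoJ

end quotient

end Groth.Agent.Lib.H8QuasiSection
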