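import Mathlib.AlgebraicGeometry.Morphisms.Proper
import Mathlib.AlgebraicGeometry.Morphisms.Finite
import Mathlib.AlgebraicGeometry.Morphisms.Immersion
import Mathlib.AlgebraicGeometry.Morphisms.Separated
import Mathlib.AlgebraicGeometry.Morphisms.QuasiSeparated

/-!
# Separation properties descend along finite surjective quotient maps (helper8)

`m : U ⟶ M` surjective and finite, `R = U ×_M U` with `s : R ⟶ U` finite (resp. quasi-compact).
If `U ⟶ B` is separated (resp. quasi-separated) then so is `M ⟶ B`.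
-/

set_option autoImplicit false
set_option linter.unusedSectionVars false
universe u
open CategoryTheory CategoryTheory.Limits AlgebraicGeometry

namespace Groth.Agent.Lib.H8QuotSep

variable {U M B R : Scheme.{u}} (m : U ⟶ M) (f : M ⟶ B) (t s : R ⟶ U)

/-- `m × m : U ×_B U ⟶ M ×_B M`. -/
noncomputable def mm : pullback (m ≫ f) (m ≫ f) ⟶ pullback f f :=
  pullback.map (m ≫ f) (m ≫ f) f f m m (𝟙 B) ((Category.comp_id _).trans rfl)
    ((Category.comp_id _).trans rfl)

variable {m t s} (hR : IsPullback t s m m)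

include hR in
lemma w_aux : t ≫ m ≫ f = s ≫ m ≫ f := by
  rw [← Category.assoc, ← Category.assoc, hR.w]

/-- `j = (t, s) : R ⟶ U ×_B U`. -/
noncomputable def jj : R ⟶ pullback (m ≫ f) (m ≫ f) := pullback.lift t s (w_aux f hR)

lemma jj_mm : jj f hR ≫ mm m f = (t ≫ m) ≫ pullback.diagonal f := by
  apply pullback.hom_ext
  · simp only [jj, mm, pullback.map, Category.assoc, pullback.lift_fst, pullback.lift_fst_assoc,
      pullback.diagonal_fst, Category.comp_id]
  · simp only [jj, mm, pullback.map, Category.assoc, pullback.lift_snd, pullback.lift_snd_assoc,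
      pullback.diagonal_snd, Category.comp_id, hR.w]

lemma jj_snd : jj f hR ≫ pullback.snd (m ≫ f) (m ≫ f) = s := pullback.lift_snd _ _ _

/-- The diagonal section `U ⟶ R`. -/
noncomputable def dd : U ⟶ R := hR.lift (𝟙 U) (𝟙 U) rfl

lemma dd_t : dd hR ≫ t = 𝟙 U := hR.lift_fst _ _ _
lemma dd_s : dd hR ≫ s = 𝟙 U := hR.lift_snd _ _ _

lemma dd_jj_mm : dd hR ≫ jj f hR ≫ mm m f = m ≫ pullback.diagonal f := by
  rw [jj_mm, ← Category.assoc, ← Category.assoc, dd_t, Category.id_comp]

include hR in
lemma preimage_diagonal (hsurj : Function.Surjective m) (K : Set (pullback f f : Scheme.{u})) :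
    (pullback.diagonal f) ⁻¹' K = (t ≫ m) '' ((jj f hR) ⁻¹' ((mm m f) ⁻¹' K)) := by
  ext y
  constructor
  · intro hy
    obtain ⟨u, rfl⟩ := hsurj y
    refine ⟨dd hR u, ?_, ?_⟩
    · change (dd hR ≫ jj f hR ≫ mm m f) u ∈ K
      rw [dd_jj_mm]
      exact hy
    · change (dd hR ≫ t ≫ m) u = m u
      rw [← Category.assoc, dd_t, Category.id_comp]
  · rintro ⟨r, hr, rfl⟩
    have : (jj f hR ≫ mm m f) r ∈ K := hr
    rw [jj_mm] at this
    exact this

include hR in
lemma range_diagonal (hsurj : Function.Surjective m) :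
    Set.range (pullback.diagonal f) = (mm m f) '' (Set.range (jj f hR)) := by
  ext z
  constructor
  · rintro ⟨y, rfl⟩
    obtain ⟨u, rfl⟩ := hsurj y
    refine ⟨jj f hR (dd hR u), ⟨_, rfl⟩, ?_⟩
    change (dd hR ≫ jj f hR ≫ mm m f) u = (m ≫ pullback.diagonal f) u
    rw [dd_jj_mm]
  · rintro ⟨_, ⟨r, rfl⟩, rfl⟩
    refine ⟨(t ≫ m) r, ?_⟩
    change ((t ≫ m) ≫ pullback.diagonal f) r = (jj f hR ≫ mm m f) r
    rw [jj_mm]

instance isFinite_mm [IsFinite m] : IsFinite (mm m f) :=
  MorphismProperty.pullbackMap (P := @IsFinite) (inferInstance : IsFinite m)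
    (inferInstance : IsFinite m) rfl rfl

include hR in
theorem isSeparated_of_surjective_finite (hsurj : Function.Surjective m) [IsFinite m]
    [IsFinite s] [IsSeparated (m ≫ f)] : IsSeparated f := by
  have h1 : IsProper (jj f hR ≫ pullback.snd (m ≫ f) (m ≫ f)) := by
    rw [jj_snd]; infer_instance
  have h2 : IsProper (jj f hR) := IsProper.of_comp _ (pullback.snd (m ≫ f) (m ≫ f))
  have hcl : IsClosed (Set.range (pullback.diagonal f)) := by
    rw [range_diagonal f hR hsurj]
    exact (mm m f).isClosedMap _ (jj f hR).isClosedMap.isClosed_range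
  exact ⟨IsClosedImmersion.of_isPreimmersion _ hcl⟩

include hR in
theorem quasiSeparated_of_surjective_finite (hsurj : Function.Surjective m) [IsFinite m]
    [QuasiCompact s] [QuasiSeparated (m ≫ f)] : QuasiSeparated f := by
  have h1 : QuasiCompact (jj f hR ≫ pullback.snd (m ≫ f) (m ≫ f)) := by
    rw [jj_snd]; infer_instance
  have h2 : QuasiCompact (jj f hR) := QuasiCompact.of_comp _ (pullback.snd (m ≫ f) (m ≫ f))
  refine ⟨⟨fun K hK hKc => ?_⟩⟩
  rw [preimage_diagonal f hR hsurj K]
  have h3 : IsCompact ((mm m f) ⁻¹' K) := QuasiCompact.isCompact_preimage _ hK hKc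
  have h4 : IsCompact ((jj f hR) ⁻¹' ((mm m f) ⁻¹' K)) :=
    QuasiCompact.isCompact_preimage _ (hK.preimage (mm m f).continuous) h3
  exact h4.image (t ≫ m).continuous

end Groth.Agent.Lib.H8QuotSep
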