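import Groth.Agent.Lib.H69QuotPres
import Groth.Agent.Lib.H43SpQuot
import Groth.Agent.Lib.H86AlgSpOpen
import Groth.Prelude.Def_QuotSh

/-!
# An fppf quotient map is surjective (helper8)
-/

set_option autoImplicit false
universe u
open CategoryTheory CategoryTheory.Limits AlgebraicGeometry

namespace Groth.Agent.Lib.H8QuotSurj

variable {S : Scheme.{u}}

theorem epi_yon_map_of_isQuotient {R U M : Over S} (s t : R ⟶ U) (q : U ⟶ M)
    (hq : QuotSh.IsQuotient Scheme.fppfPrecoverage s t q) : Epi ((AlgSp.yon S).map q) := by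
  obtain ⟨w, hiso⟩ := hq
  have h1 : QuotSh.quotπ Scheme.fppfPrecoverage s t ≫ QuotSh.quotDesc Scheme.fppfPrecoverage q w =
      QuotSh.repMap Scheme.fppfPrecoverage q := coequalizer.π_desc _ _
  have hepi0 : Epi (QuotSh.quotπ Scheme.fppfPrecoverage s t) := by
    unfold QuotSh.quotπ
    exact coequalizer.π_epi
  have hepi1 : Epi (QuotSh.repMap Scheme.fppfPrecoverage q) := by
    rw [← h1]
    infer_instance
  have h2 : (AlgSp.yon S).map q = (Groth.Agent.Lib.H69QuotPres.rIso U).inv ≫
      QuotSh.repMap Scheme.fppfPrecoverage q ≫ (Groth.Agent.Lib.H69QuotPres.rIso M).hom := by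
    rw [Groth.Agent.Lib.H69QuotPres.rIso_naturality, Iso.inv_hom_id_assoc]
  rw [h2]
  infer_instance

theorem surjective_left_of_epi_yon {U M : Over S} (q : U ⟶ M) [Epi ((AlgSp.yon S).map q)] :
    Function.Surjective q.left := by
  intro y
  let T : Over S := Over.mk (M.left.fromSpecResidueField y ≫ M.hom)
  let x : T ⟶ M := Over.homMk (M.left.fromSpecResidueField y) rfl
  obtain ⟨𝒮, h𝒮, hlift⟩ :=
    Groth.Agent.Lib.H43SpQuot.exists_local_lift ((AlgSp.yon S).map q) ((AlgSp.yon S).map x)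
  let pt : T.left := (⟨⊥, Ideal.isPrime_bot⟩ : PrimeSpectrum (M.left.residueField y))
  obtain ⟨T', φ, t', hφ, ht'⟩ := Groth.Agent.Lib.H86AlgSpOpen.exists_of_mem_J h𝒮 pt
  obtain ⟨y', hy'⟩ := hlift φ hφ
  obtain ⟨u, rfl⟩ := (AlgSp.yon S).map_surjective y'
  have hu : u ≫ q = φ ≫ x :=
    (AlgSp.yon S).map_injective (by rw [Functor.map_comp, hy', Functor.map_comp])
  refine ⟨u.left t', ?_⟩
  have h3 : (u ≫ q).left t' = (φ ≫ x).left t' := by rw [hu]
  have h4 : (u ≫ q).left t' = q.left (u.left t') := rfl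
  have h5 : (φ ≫ x).left t' = M.left.fromSpecResidueField y (φ.left t') := rfl
  rw [← h4, h3, h5]
  exact Scheme.fromSpecResidueField_apply y _

theorem surjective_left_of_isQuotient {R U M : Over S} (s t : R ⟶ U) (q : U ⟶ M)
    (hq : QuotSh.IsQuotient Scheme.fppfPrecoverage s t q) : Function.Surjective q.left := by
  have := epi_yon_map_of_isQuotient s t q hq
  exact surjective_left_of_epi_yon q

end Groth.Agent.Lib.H8QuotSurj
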