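import Mathlib
import Groth.Agent.Lib.GenFin45

/-!
# Local rings of intersections with locally complete intersections (helper8)

* `mem_range_of_vanish`: for `f : X ⟶ Y` quasi-compact whose restriction over an affine open `U`
  is a closed immersion with kernel generated by `rs`, the points of `U` where all `rs` vanish
  are in the range of `f`.
* `stalk_dim_le`: if moreover `ι : Z ⟶ Y` is affine, `Z` locally Noetherian, and `z` is a point of
  `Z` mapping into `U ∩ range f`, maximal (under generization) with this property, then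
  `dim O_{Z,z} ≤ rs.length` (Krull's height theorem).
-/

set_option autoImplicit false
universe u
open CategoryTheory AlgebraicGeometry

namespace Groth.Agent.Lib.H8RegImmDim

variable {X Y Z : Scheme.{u}}

theorem range_morphismRestrict (f : X ⟶ Y) (U : Y.Opens) :
    Set.range (f ∣_ U) = Subtype.val ⁻¹' Set.range f := by
  ext ⟨y, hy⟩
  constructor
  · rintro ⟨x, hx⟩
    refine ⟨x.1, ?_⟩
    rw [← morphismRestrict_base_coe, hx]
  · rintro ⟨x, hx⟩
    have hxU : x ∈ f ⁻¹ᵁ U := by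
      show f x ∈ U
      rw [hx]
      exact hy
    refine ⟨⟨x, hxU⟩, Subtype.ext ?_⟩
    rw [morphismRestrict_base_coe]
    exact hx

theorem mem_range_of_vanish (f : X ⟶ Y) [QuasiCompact f] (U : Y.affineOpens)
    (hcl : IsClosedImmersion (f ∣_ U.1)) (rs : List Γ(Y, U.1))
    (hker : RingHom.ker (f.app U.1).hom = Ideal.ofList rs) (y : Y) (hyU : y ∈ U.1)
    (hy : ∀ r ∈ rs, y ∉ Y.basicOpen r) : y ∈ Set.range f := by
  have h1 : y ∈ f.ker.support := by
    rw [Scheme.IdealSheafData.mem_support_iff_of_mem hyU, Scheme.Hom.ker_apply, hker,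
      Ideal.ofList, Scheme.zeroLocus_span, Scheme.mem_zeroLocus_iff]
    exact fun r hr => hy r hr
  have hsk := Scheme.Hom.support_ker f
  rw [← SetLike.mem_coe, hsk] at h1
  let y' : (U.1 : Scheme.{u}) := ⟨y, hyU⟩
  have hy' : y' ∈ closure (Set.range (f ∣_ U.1)) := by
    rw [mem_closure_iff]
    intro O hO hyO
    have hO' : IsOpen (U.1.ι '' O) := U.1.ι.isOpenEmbedding.isOpenMap O hO
    have hyO' : y ∈ U.1.ι '' O := ⟨y', hyO, rfl⟩
    obtain ⟨w, ⟨w', hw'O, hw'⟩, ⟨x, hx⟩⟩ := mem_closure_iff.mp h1 _ hO' hyO'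
    have hw'' : w'.1 = w := hw'
    have hxU : x ∈ f ⁻¹ᵁ U.1 := by
      show f x ∈ U.1
      rw [hx, ← hw'']
      exact w'.2
    refine ⟨w', hw'O, ⟨⟨x, hxU⟩, ?_⟩⟩
    apply Subtype.ext
    rw [morphismRestrict_base_coe]
    exact hx.trans hw''.symm
  rw [(f ∣_ U.1).isClosedEmbedding.isClosed_range.closure_eq] at hy'
  obtain ⟨x, hx⟩ := hy'
  refine ⟨x.1, ?_⟩
  rw [← morphismRestrict_base_coe, hx]

theorem stalk_dim_le (f : X ⟶ Y) [QuasiCompact f] (ι : Z ⟶ Y) [IsAffineHom ι]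
    [IsLocallyNoetherian Z] (U : Y.affineOpens) (hcl : IsClosedImmersion (f ∣_ U.1))
    (rs : List Γ(Y, U.1)) (hker : RingHom.ker (f.app U.1).hom = Ideal.ofList rs)
    (z : Z) (hzU : ι z ∈ U.1) (hz : ι z ∈ Set.range f)
    (hmin : ∀ z' : Z, z' ⤳ z → ι z' ∈ Set.range f → z' = z) :
    ringKrullDim (Z.presheaf.stalk z) ≤ (rs.length : WithBot ℕ∞) := by
  classical
  have hW : IsAffineOpen (ι ⁻¹ᵁ U.1) := U.2.preimage ι
  have hzW : z ∈ ι ⁻¹ᵁ U.1 := hzU
  haveI : IsNoetherianRing Γ(Z, ι ⁻¹ᵁ U.1) :=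
    IsLocallyNoetherian.component_noetherian ⟨ι ⁻¹ᵁ U.1, hW⟩
  set 𝔭 := (hW.primeIdealOf ⟨z, hzW⟩).asIdeal with h𝔭
  -- the local ring
  have hdim : ringKrullDim (Z.presheaf.stalk z) = 𝔭.height := by
    letI := Z.presheaf.algebra_section_stalk ⟨z, hzW⟩
    haveI := hW.isLocalization_stalk ⟨z, hzW⟩
    exact IsLocalization.AtPrime.ringKrullDim_eq_height 𝔭 (Z.presheaf.stalk z)
  rw [hdim]
  -- vanishing of the images of the generators
  have hbasic : ∀ r : Γ(Y, U.1), Z.basicOpen ((ι.app U.1).hom r) = ι ⁻¹ᵁ Y.basicOpen r :=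
    fun r => (Scheme.preimage_basicOpen ι r).symm
  have hmem : ∀ (z' : Z) (hz' : z' ∈ ι ⁻¹ᵁ U.1) (r : Γ(Y, U.1)),
      (ι.app U.1).hom r ∈ (hW.primeIdealOf ⟨z', hz'⟩).asIdeal ↔ ι z' ∉ Y.basicOpen r := by
    intro z' hz' r
    rw [← not_iff_not, not_not, ← Groth.Agent.Lib.GenFin45.mem_basicOpen_iff hW _ z' hz', hbasic]
    rfl
  have hvan : ∀ r ∈ rs, ι z ∉ Y.basicOpen r := by
    intro r hr hzr
    obtain ⟨x, hx⟩ := hz
    have hxU : f x ∈ U.1 := hx ▸ hzU
    have h1 : r ∈ RingHom.ker (f.app U.1).hom := by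
      rw [hker]
      exact Ideal.subset_span hr
    have h2 : x ∈ X.basicOpen ((f.app U.1).hom r) := by
      rw [← Scheme.preimage_basicOpen]
      show f x ∈ Y.basicOpen r
      rw [hx]
      exact hzr
    rw [RingHom.mem_ker] at h1
    rw [h1, Scheme.basicOpen_zero] at h2
    exact h2
  -- minimality
  have hminP : 𝔭 ∈ (Ideal.span ((rs.map (ι.app U.1).hom).toFinset : Set Γ(Z, ι ⁻¹ᵁ U.1))).minimalPrimes := by
    refine ⟨⟨(hW.primeIdealOf ⟨z, hzW⟩).isPrime, ?_⟩, ?_⟩
    · rw [Ideal.span_le]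
      intro b hb
      simp only [List.coe_toFinset, List.mem_map, Set.mem_ofPred_eq] at hb
      obtain ⟨r, hr, rfl⟩ := hb
      exact (hmem z hzW r).mpr (hvan r hr)
    · rintro 𝔮 ⟨h𝔮, h𝔮le⟩ h𝔮𝔭
      let Q : Spec Γ(Z, ι ⁻¹ᵁ U.1) := ⟨𝔮, h𝔮⟩
      set z' := hW.fromSpec Q with hz'
      have hz'W : z' ∈ ι ⁻¹ᵁ U.1 := by
        have : z' ∈ Set.range hW.fromSpec := ⟨Q, rfl⟩
        rwa [hW.range_fromSpec] at this
      have hQ : hW.primeIdealOf ⟨z', hz'W⟩ = Q := by
        apply hW.fromSpec.isOpenEmbedding.injective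
        rw [hW.fromSpec_primeIdealOf]
      have hsp : z' ⤳ z := by
        have h1 : Q ⤳ hW.primeIdealOf ⟨z, hzW⟩ := (PrimeSpectrum.le_iff_specializes Q _).mp h𝔮𝔭
        have := h1.map hW.fromSpec.continuous
        rwa [hW.fromSpec_primeIdealOf ⟨z, hzW⟩] at this
      have hz'range : ι z' ∈ Set.range f := by
        apply mem_range_of_vanish f U hcl rs hker (ι z') hz'W
        intro r hr
        rw [← hmem z' hz'W r, hQ]
        apply h𝔮le
        apply Ideal.subset_span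
        simp only [List.coe_toFinset, List.mem_map, Set.mem_ofPred_eq]
        exact ⟨r, hr, rfl⟩
      have heq : z' = z := hmin z' hsp hz'range
      have : Q = hW.primeIdealOf ⟨z, hzW⟩ := by
        rw [← hQ]
        congr 1
        exact Subtype.ext heq
      intro a ha
      have : 𝔮 = 𝔭 := congrArg PrimeSpectrum.asIdeal this
      rw [this]
      exact ha
  have h1 := Ideal.height_le_card_of_mem_minimalPrimes_span_finset hminP
  have h2 : (rs.map (ι.app U.1).hom).toFinset.card ≤ rs.length :=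
    (List.toFinset_card_le _).trans (by simp)
  calc ((𝔭.height : ℕ∞) : WithBot ℕ∞) ≤ (((rs.map (ι.app U.1).hom).toFinset.card : ℕ∞) : WithBot ℕ∞) := by
        exact_mod_cast h1
    _ ≤ (rs.length : WithBot ℕ∞) := by exact_mod_cast h2

end Groth.Agent.Lib.H8RegImmDim
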