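import Mathlib
import Groth.Agent.Lib.H8RegImmDim

/-!
# Krull's height theorem for preimages of local complete intersections, without affineness (helper8)

`stalk_dim_le'`: `f : X ⟶ Y` quasi-compact, closed immersion over the affine open `U` with kernel
generated by `rs`; `ι : Z ⟶ Y` arbitrary with `Z` locally Noetherian; `z` a point of `Z` mapping
into `U ∩ range f`, maximal under generization with this property.  Then `dim O_{Z,z} ≤ rs.length`.
-/

set_option autoImplicit false
universe u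
open CategoryTheory AlgebraicGeometry

namespace Groth.Agent.Lib.H8RegImmDim

variable {X Y Z : Scheme.{u}}

theorem stalk_dim_le' (f : X ⟶ Y) [QuasiCompact f] (ι : Z ⟶ Y)
    [IsLocallyNoetherian Z] (U : Y.affineOpens) (hcl : IsClosedImmersion (f ∣_ U.1))
    (rs : List Γ(Y, U.1)) (hker : RingHom.ker (f.app U.1).hom = Ideal.ofList rs)
    (z : Z) (hzU : ι z ∈ U.1) (hz : ι z ∈ Set.range f)
    (hmin : ∀ z' : Z, z' ⤳ z → ι z' ∈ Set.range f → z' = z) :
    ringKrullDim (Z.presheaf.stalk z) ≤ (rs.length : WithBot ℕ∞) := by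
  classical
  -- an affine open neighbourhood of `z` inside the preimage of `U`
  obtain ⟨V, hVaff, hzV, hVU⟩ : ∃ V : Z.Opens, IsAffineOpen V ∧ z ∈ V ∧ V ≤ ι ⁻¹ᵁ U.1 :=
    exists_isAffineOpen_mem_and_subset (U := ι ⁻¹ᵁ U.1) (x := z) hzU
  have hW := hVaff
  have hzW : z ∈ V := hzV
  haveI : IsNoetherianRing Γ(Z, V) :=
    IsLocallyNoetherian.component_noetherian ⟨V, hW⟩
  set 𝔭 := (hW.primeIdealOf ⟨z, hzW⟩).asIdeal with h𝔭
  have hdim : ringKrullDim (Z.presheaf.stalk z) = 𝔭.height := by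
    letI := Z.presheaf.algebra_section_stalk ⟨z, hzW⟩
    haveI := hW.isLocalization_stalk ⟨z, hzW⟩
    exact IsLocalization.AtPrime.ringKrullDim_eq_height 𝔭 (Z.presheaf.stalk z)
  rw [hdim]
  -- the ring map
  let φ : Γ(Y, U.1) →+* Γ(Z, V) := (ι.appLE U.1 V hVU).hom
  have hbasic : ∀ r : Γ(Y, U.1), Z.basicOpen (φ r) = V ⊓ ι ⁻¹ᵁ Y.basicOpen r := by
    intro r
    have h1 : φ r = (Z.presheaf.map (homOfLE hVU).op).hom ((ι.app U.1).hom r) := by
      show (ι.appLE U.1 V hVU).hom r = _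
      rw [Scheme.Hom.appLE]
      rfl
    rw [h1, Scheme.basicOpen_res, Scheme.preimage_basicOpen]
  have hmem : ∀ (z' : Z) (hz' : z' ∈ V) (r : Γ(Y, U.1)),
      φ r ∈ (hW.primeIdealOf ⟨z', hz'⟩).asIdeal ↔ ι z' ∉ Y.basicOpen r := by
    intro z' hz' r
    rw [← not_iff_not, not_not, ← Groth.Agent.Lib.GenFin45.mem_basicOpen_iff hW _ z' hz', hbasic]
    constructor
    · intro h
      exact h.2
    · intro h
      exact ⟨hz', h⟩
  have hvan : ∀ r ∈ rs, ι z ∉ Y.basicOpen r := by
    intro r hr hzr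
    obtain ⟨x, hx⟩ := hz
    have h1 : r ∈ RingHom.ker (f.app U.1).hom := by
      rw [hker]
      exact Ideal.subset_span hr
    have h2 : x ∈ X.basicOpen ((f.app U.1).hom r) := by
      rw [← Scheme.preimage_basicOpen]
      show f x ∈ Y.basicOpen r
      rw [hx]
      exact hzr
    rw [RingHom.mem_ker] at h1
    rw [h1, Scheme.basicOpen_zero] at h2
    exact h2
  have hminP : 𝔭 ∈ (Ideal.span ((rs.map φ).toFinset : Set Γ(Z, V))).minimalPrimes := by
    refine ⟨⟨(hW.primeIdealOf ⟨z, hzW⟩).isPrime, ?_⟩, ?_⟩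
    · rw [Ideal.span_le]
      intro b hb
      simp only [List.coe_toFinset, List.mem_map, Set.mem_ofPred_eq] at hb
      obtain ⟨r, hr, rfl⟩ := hb
      exact (hmem z hzW r).mpr (hvan r hr)
    · rintro 𝔮 ⟨h𝔮, h𝔮le⟩ h𝔮𝔭
      let Q : Spec Γ(Z, V) := ⟨𝔮, h𝔮⟩
      set z' := hW.fromSpec Q with hz'
      have hz'W : z' ∈ V := by
        have : z' ∈ Set.range hW.fromSpec := ⟨Q, rfl⟩
        rwa [hW.range_fromSpec] at this
      have hQ : hW.primeIdealOf ⟨z', hz'W⟩ = Q := by
        apply hW.fromSpec.isOpenEmbedding.injective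
        rw [hW.fromSpec_primeIdealOf]
      have hsp : z' ⤳ z := by
        have h1 : Q ⤳ hW.primeIdealOf ⟨z, hzW⟩ := (PrimeSpectrum.le_iff_specializes Q _).mp h𝔮𝔭
        have := h1.map hW.fromSpec.continuous
        rwa [hW.fromSpec_primeIdealOf ⟨z, hzW⟩] at this
      have hz'range : ι z' ∈ Set.range f := by
        apply mem_range_of_vanish f U hcl rs hker (ι z') (hVU hz'W)
        intro r hr
        rw [← hmem z' hz'W r, hQ]
        apply h𝔮le
        apply Ideal.subset_span
        simp only [List.coe_toFinset, List.mem_map, Set.mem_ofPred_eq]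
        exact ⟨r, hr, rfl⟩
      have heq : z' = z := hmin z' hsp hz'range
      have : Q = hW.primeIdealOf ⟨z, hzW⟩ := by
        rw [← hQ]
        congr 1
        exact Subtype.ext heq
      intro a ha
      have : 𝔮 = 𝔭 := congrArg PrimeSpectrum.asIdeal this
      rw [this]
      exact ha
  have h1 := Ideal.height_le_card_of_mem_minimalPrimes_span_finset hminP
  have h2 : (rs.map φ).toFinset.card ≤ rs.length :=
    (List.toFinset_card_le _).trans (by simp)
  calc ((𝔭.height : ℕ∞) : WithBot ℕ∞) ≤ (((rs.map φ).toFinset.card : ℕ∞) : WithBot ℕ∞) := by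
        exact_mod_cast h1
    _ ≤ (rs.length : WithBot ℕ∞) := by exact_mod_cast h2

end Groth.Agent.Lib.H8RegImmDim
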