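import Groth.Agent.Lib.EqualizerOpen45
import Mathlib.AlgebraicGeometry.Morphisms.Separated
import Mathlib.AlgebraicGeometry.PullbackCarrier

/-!
# Rigidity for separated unramified morphisms (helper8)

Two `Y`-morphisms from a connected scheme to a scheme which is separated with open diagonal
over `Y`, agreeing after composition with a morphism from a nonempty scheme, are equal.
-/

set_option autoImplicit false
universe u
open CategoryTheory CategoryTheory.Limits AlgebraicGeometry

namespace Groth.Agent.Lib.H8Rigidity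

open Groth.Agent.Lib.EqualizerOpen45

variable {P X Y : Scheme.{u}} (f : X ⟶ Y) [IsOpenImmersion (pullback.diagonal f)]
  (φ ψ : P ⟶ X) (h : φ ≫ f = ψ ≫ f)

lemma isClosed_eqLocus [IsSeparated f] : IsClosed (eqLocus f φ ψ h : Set P) := by
  change IsClosed (Set.range (eqι f φ ψ h))
  rw [Scheme.Pullback.range_snd]
  exact (pullback.diagonal f).isClosedEmbedding.isClosed_range.preimage
    (pullback.lift φ ψ h).continuous

include h in
theorem eq_of_comp_eq [IsSeparated f] [PreconnectedSpace P] {Q : Scheme.{u}} [Nonempty Q]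
    (ξ : Q ⟶ P) (hξ : ξ ≫ φ = ξ ≫ ψ) : φ = ψ := by
  apply eq_of_eqLocus_eq_top f φ ψ h
  have hclopen : IsClopen (eqLocus f φ ψ h : Set P) :=
    ⟨isClosed_eqLocus f φ ψ h, (eqLocus f φ ψ h).2⟩
  rcases isClopen_iff.mp hclopen with h0 | h1
  · exfalso
    obtain ⟨z⟩ := ‹Nonempty Q›
    have := (comp_eq_iff_range_subset f φ ψ h ξ).mp hξ ⟨z, rfl⟩
    rw [h0] at this
    exact this
  · exact TopologicalSpace.Opens.ext h1

end Groth.Agent.Lib.H8Rigidity
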