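import Groth.Agent.Lib.RegOrd
import Mathlib.RingTheory.MvPolynomial.Tower
import Mathlib.RingTheory.AlgebraicIndependent.Defs
import Mathlib.FieldTheory.IntermediateField.Adjoin.Algebra
import Mathlib.RingTheory.Polynomial.Basic
import Mathlib.Algebra.BigOperators.Finsupp.Fin

/-!
# Residue field of the order valuation ring (helper19)

Continuation of `Lib/RegOrd`: for `x : Fin (e+1) → A` a quasi-regular system of generators of the
maximal ideal of the Noetherian local domain `A`, the residue field of `ordRing x K` is purely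
transcendental over the residue field of `A`, generated by the classes of `x_{j+1}/x_0`.
-/

set_option autoImplicit false
set_option linter.unusedSectionVars false
universe u

namespace Groth.Agent.Lib.RegOrd

open MvPolynomial IsLocalRing

section scaling

variable {R S : Type*} [CommRing R] [CommRing S] [Algebra R S] {σ : Type*} [Fintype σ]

theorem aeval_mul_of_isHomogeneous {n : ℕ} {F : MvPolynomial σ R} (hF : F.IsHomogeneous n)
    (c : S) (v : σ → S) : aeval (fun i => c * v i) F = c ^ n * aeval v F := by
  rw [aeval_def, aeval_def, eval₂_eq', eval₂_eq', Finset.mul_sum]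
  refine Finset.sum_congr rfl fun d hd => ?_
  have hdeg : ∑ i, d i = n := by
    have h1 := hF.degree_eq_sum_deg_support hd
    rw [h1]
    symm
    apply Finset.sum_subset (Finset.subset_univ _)
    intro i _ hi
    simpa using hi
  simp_rw [mul_pow]
  rw [Finset.prod_mul_distrib, Finset.prod_pow_eq_pow_sum, hdeg]
  ring

end scaling

section dehom

variable {A : Type u} [CommRing A] {e : ℕ}

/-- Dehomogenization `X_0 ↦ 1`, `X_{j+1} ↦ X_j`. -/
noncomputable def dehom : MvPolynomial (Fin (e + 1)) A →ₐ[A] MvPolynomial (Fin e) A :=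
  aeval (Fin.cons 1 X : Fin (e + 1) → MvPolynomial (Fin e) A)

theorem aeval_dehom {S : Type*} [CommRing S] [Algebra A S] (v : Fin e → S)
    (F : MvPolynomial (Fin (e + 1)) A) :
    aeval v (dehom F) = aeval (Fin.cons 1 v : Fin (e + 1) → S) F := by
  have h1 : (aeval v).comp (dehom (A := A) (e := e)) =
      aeval (Fin.cons 1 v : Fin (e + 1) → S) := by
    unfold dehom
    rw [comp_aeval]
    congr 1
    funext i
    refine Fin.cases ?_ (fun j => ?_) i
    · simp
    · simp
  exact congrArg (fun f => f F) h1

/-- Homogenization of degree `N`. -/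
noncomputable def hom (N : ℕ) (Q : MvPolynomial (Fin e) A) : MvPolynomial (Fin (e + 1)) A :=
  ∑ m ∈ Q.support, monomial (Finsupp.cons (N - m.degree) m) (Q.coeff m)

theorem dehom_monomial_cons (i : ℕ) (m : Fin e →₀ ℕ) (a : A) :
    dehom (monomial (Finsupp.cons i m) a) = monomial m a := by
  unfold dehom
  rw [aeval_monomial, monomial_eq, Finsupp.prod_fintype _ _ (fun _ => pow_zero _),
    Finsupp.prod_fintype _ _ (fun _ => pow_zero _), Fin.prod_univ_succ]
  simp only [Fin.cons_zero, Fin.cons_succ, Finsupp.cons_zero, Finsupp.cons_succ, one_pow, one_mul]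
  rfl

theorem dehom_hom (N : ℕ) (Q : MvPolynomial (Fin e) A) : dehom (hom N Q) = Q := by
  unfold hom
  rw [map_sum]
  simp_rw [dehom_monomial_cons]
  exact support_sum_monomial_coeff Q

theorem hom_isHomogeneous (N : ℕ) (Q : MvPolynomial (Fin e) A) (hN : Q.totalDegree ≤ N) :
    (hom N Q).IsHomogeneous N := by
  unfold hom
  apply IsHomogeneous.sum
  intro m hm
  apply isHomogeneous_monomial
  have h1 : m.degree ≤ N := (le_totalDegree hm).trans hN
  rw [Finsupp.degree_eq_sum, Fin.sum_univ_succ]
  simp only [Finsupp.cons_zero, Finsupp.cons_succ]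
  rw [← Finsupp.degree_eq_sum]
  omega

theorem dehom_coeff_mem {I : Ideal A} (F : MvPolynomial (Fin (e + 1)) A)
    (hF : ∀ d, F.coeff d ∈ I) (m : Fin e →₀ ℕ) : (dehom F).coeff m ∈ I := by
  have h1 : F ∈ Ideal.map (C : A →+* MvPolynomial (Fin (e + 1)) A) I := mem_map_C_iff.mpr hF
  have h2 : dehom F ∈ Ideal.map (C : A →+* MvPolynomial (Fin e) A) I := by
    have h3 : Ideal.map (dehom (A := A) (e := e)).toRingHom
        (Ideal.map (C : A →+* MvPolynomial (Fin (e + 1)) A) I) =
        Ideal.map (C : A →+* MvPolynomial (Fin e) A) I := by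
      rw [Ideal.map_map]
      congr 1
      ext a
      simp [dehom]
    rw [← h3]
    exact Ideal.mem_map_of_mem _ h1
  exact mem_map_C_iff.mp h2 m

end dehom

section residue

variable {A : Type u} [CommRing A] [IsDomain A] [IsNoetherianRing A] [IsLocalRing A]
  {e : ℕ} (x : Fin (e + 1) → A) {K : Type u} [Field K] [Algebra A K] [IsFractionRing A K]
  (hx : Ideal.span (Set.range x) = maximalIdeal A) (hq : CAlgX.IsQuasiRegular x)

include hx hq in
theorem map_x0_ne_zero : algebraMap A K (x 0) ≠ 0 := by
  intro h0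
  have : x 0 = 0 := IsFractionRing.injective A K (h0.trans (map_zero _).symm)
  exact not_mem_sq x hx hq 0 (this ▸ Ideal.zero_mem _)

theorem y_mem (j : Fin e) :
    algebraMap A K (x j.succ) / algebraMap A K (x 0) ∈ ordRing x K hx hq :=
  ⟨x j.succ, x 0, 1, by rw [pow_one]; exact mem_maximalIdeal x hx 0, not_mem_sq x hx hq 0,
    by rw [pow_one]; exact mem_maximalIdeal x hx _,
    div_mul_cancel₀ _ (map_x0_ne_zero x hx hq)⟩

/-- The elements `x_{j+1}/x_0` of the order valuation ring. -/
noncomputable def yy (j : Fin e) : ordRing x K hx hq := ⟨_, y_mem x hx hq j⟩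

theorem coe_aeval_yy (Q : MvPolynomial (Fin e) A) :
    ((aeval (yy x hx hq) Q : ordRing x K hx hq) : K) =
      aeval (fun j => algebraMap A K (x j.succ) / algebraMap A K (x 0)) Q := by
  have h1 := congrArg (fun f => f Q) (comp_aeval (R := A) (f := yy x hx hq)
    (ordRing x K hx hq).val)
  exact h1

theorem key_scaling {n : ℕ} {F : MvPolynomial (Fin (e + 1)) A} (hF : F.IsHomogeneous n) :
    algebraMap A K (eval x F) =
      algebraMap A K (x 0) ^ n * ((aeval (yy x hx hq) (dehom F) : ordRing x K hx hq) : K) := by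
  rw [coe_aeval_yy, aeval_dehom, ← aeval_mul_of_isHomogeneous hF]
  have h1 : algebraMap A K (eval x F) = aeval (algebraMap A K ∘ x) F := by
    rw [aeval_algebraMap_apply]
    rfl
  rw [h1]
  have h2 : (algebraMap A K ∘ x) = fun i => algebraMap A K (x 0) *
      (Fin.cons 1 (fun j => algebraMap A K (x j.succ) / algebraMap A K (x 0)) : Fin (e + 1) → K) i := by
    funext i
    refine Fin.cases ?_ (fun j => ?_) i
    · simp
    · simp only [Function.comp_apply, Fin.cons_succ]
      rw [mul_div_cancel₀ _ (map_x0_ne_zero x hx hq)]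
  rw [h2]

theorem isUnit_aeval_dehom {n : ℕ} {G : MvPolynomial (Fin (e + 1)) A} (hG : G.IsHomogeneous n)
    (h : eval x G ∉ maximalIdeal A ^ (n + 1)) :
    IsUnit (aeval (yy x hx hq) (dehom G) : ordRing x K hx hq) := by
  have hmem : eval x G ∈ maximalIdeal A ^ n := by
    rw [← hx]
    exact (Ideal.mem_span_pow_iff_exists_isHomogeneous x _).mpr ⟨G, hG, rfl⟩
  have hp := pow_not_mem x hx hq 0 n
  have hrep : Rep K ((aeval (yy x hx hq) (dehom G) : ordRing x K hx hq) : K) (eval x G)
      (x 0 ^ n) n := by
    refine ⟨hp.1, hp.2, hmem, ?_⟩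
    rw [key_scaling x hx hq hG, map_pow]
    ring
  exact isUnit_of_rep x hx hq (Subtype.mem _) hrep h

theorem coeff_mem_of_not_isUnit (Q : MvPolynomial (Fin e) A)
    (hQ : ¬ IsUnit (aeval (yy x hx hq) Q : ordRing x K hx hq)) (m : Fin e →₀ ℕ) :
    Q.coeff m ∈ maximalIdeal A := by
  have hF := hom_isHomogeneous Q.totalDegree Q le_rfl
  have hd := dehom_hom Q.totalDegree Q
  by_contra hcon
  apply hQ
  rw [← hd]
  apply isUnit_aeval_dehom x hx hq hF
  intro hmem
  apply hcon
  rw [← hd]
  apply dehom_coeff_mem
  intro d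
  have := hq _ _ hF (by rw [hx]; exact hmem) d
  rw [hx] at this
  exact this

variable [IsLocalRing (ordRing x K hx hq)]
  (φ : ResidueField A →+* ResidueField (ordRing x K hx hq))
  (hφ : φ.comp (residue A) = (residue (ordRing x K hx hq)).comp (algebraMap A (ordRing x K hx hq)))

include hφ in
theorem residue_aeval (Q : MvPolynomial (Fin e) A) :
    letI := φ.toAlgebra
    residue (ordRing x K hx hq) (aeval (yy x hx hq) Q) =
      aeval (fun j => residue (ordRing x K hx hq) (yy x hx hq j)) (map (residue A) Q) := by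
  let _ := φ.toAlgebra
  have h1 : (residue (ordRing x K hx hq)).comp (aeval (yy x hx hq)).toRingHom =
      ((aeval (fun j => residue (ordRing x K hx hq) (yy x hx hq j))).toRingHom).comp
        (map (residue A)) := by
    apply ringHom_ext
    · intro a
      simp only [RingHom.comp_apply, AlgHom.toRingHom_eq_coe, RingHom.coe_coe, aeval_C, map_C]
      have := congrArg (fun f => f a) hφ
      simp only [RingHom.comp_apply] at this
      rw [← this]
      rfl
    · intro j
      simp
  exact congrArg (fun f => f Q) h1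

include hφ in
theorem algebraicIndependent :
    letI := φ.toAlgebra
    AlgebraicIndependent (ResidueField A)
      (fun j : Fin e => residue (ordRing x K hx hq) (yy x hx hq j)) := by
  let _ := φ.toAlgebra
  rw [algebraicIndependent_iff]
  intro P hP
  obtain ⟨Q, rfl⟩ := map_surjective (residue A) residue_surjective P
  rw [← residue_aeval x hx hq φ hφ Q] at hP
  have hnu : ¬ IsUnit (aeval (yy x hx hq) Q : ordRing x K hx hq) := by
    intro hu
    have := (residue_eq_zero_iff _).mp hP
    exact (IsLocalRing.mem_maximalIdeal _).mp this hu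
  ext m
  rw [coeff_map, coeff_zero]
  exact (residue_eq_zero_iff _).mpr (coeff_mem_of_not_isUnit x hx hq Q hnu m)

include hφ in
theorem adjoin_eq_top :
    letI := φ.toAlgebra
    IntermediateField.adjoin (ResidueField A)
      (Set.range fun j : Fin e => residue (ordRing x K hx hq) (yy x hx hq j)) = ⊤ := by
  let _ := φ.toAlgebra
  rw [eq_top_iff]
  intro ξ _
  obtain ⟨⟨z, hz⟩, rfl⟩ := residue_surjective ξ
  have hmemQ : ∀ Q : MvPolynomial (Fin e) A,
      residue (ordRing x K hx hq) (aeval (yy x hx hq) Q) ∈ IntermediateField.adjoin (ResidueField A)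
        (Set.range fun j : Fin e => residue (ordRing x K hx hq) (yy x hx hq j)) := by
    intro Q
    rw [residue_aeval x hx hq φ hφ Q]
    apply IntermediateField.algebra_adjoin_le_adjoin
    rw [Algebra.adjoin_range_eq_range_aeval]
    exact ⟨_, rfl⟩
  obtain ⟨a, b, n, hrep⟩ := id hz
  by_cases ha : a ∈ maximalIdeal A ^ (n + 1)
  · have hnu := not_isUnit_of_rep x hx hq hz hrep ha
    have : residue (ordRing x K hx hq) ⟨z, hz⟩ = 0 :=
      (residue_eq_zero_iff _).mpr ((IsLocalRing.mem_maximalIdeal _).mpr hnu)
    rw [this]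
    exact zero_mem _
  · have ha' := hrep.2.2.1
    have hb' := hrep.1
    rw [← hx] at ha' hb'
    obtain ⟨F, hF, hFa⟩ := (Ideal.mem_span_pow_iff_exists_isHomogeneous x a).mp ha'
    obtain ⟨G, hG, hGb⟩ := (Ideal.mem_span_pow_iff_exists_isHomogeneous x b).mp hb'
    have hGu := isUnit_aeval_dehom (K := K) x hx hq hG (by rw [hGb]; exact hrep.2.1)
    have heq : (⟨z, hz⟩ : ordRing x K hx hq) * aeval (yy x hx hq) (dehom G) =
        aeval (yy x hx hq) (dehom F) := by
      apply Subtype.ext
      show z * ((aeval (yy x hx hq) (dehom G) : ordRing x K hx hq) : K) =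
        ((aeval (yy x hx hq) (dehom F) : ordRing x K hx hq) : K)
      have h1 := key_scaling (K := K) x hx hq hF
      have h2 := key_scaling (K := K) x hx hq hG
      rw [hFa] at h1
      rw [hGb] at h2
      have h3 := hrep.2.2.2
      rw [h1, h2] at h3
      have h4 : algebraMap A K (x 0) ^ n ≠ 0 := pow_ne_zero _ (map_x0_ne_zero x hx hq)
      apply mul_left_cancel₀ h4
      rw [← h3]
      ring
    have hres := congrArg (residue (ordRing x K hx hq)) heq
    rw [map_mul] at hres
    have hne : residue (ordRing x K hx hq) (aeval (yy x hx hq) (dehom G)) ≠ 0 := by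
      intro h0
      exact (IsLocalRing.mem_maximalIdeal _).mp ((residue_eq_zero_iff _).mp h0) hGu
    have : residue (ordRing x K hx hq) ⟨z, hz⟩ =
        residue (ordRing x K hx hq) (aeval (yy x hx hq) (dehom F)) /
          residue (ordRing x K hx hq) (aeval (yy x hx hq) (dehom G)) := by
      rw [eq_div_iff hne]
      exact hres
    rw [this]
    exact div_mem (hmemQ _) (hmemQ _)

end residue

end Groth.Agent.Lib.RegOrd
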