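/-
helper8: the scaling automorphisms `X_i ↦ λ X_i` of a polynomial ring over a field, and
a Vandermonde-type lemma: a prime containing all scalings of `x` contains all homogeneous
components of `x` (infinite field).
-/
import Mathlib
import Groth.Agent.Lib.RegOrd2

set_option autoImplicit false
universe u

namespace Groth.Agent.Lib.H8Scaling

open MvPolynomial

variable {K : Type u} [Field K] {σ : Type*} [Fintype σ]

/-- The scaling endomorphism `X_i ↦ c X_i`. -/
noncomputable def scale (c : K) : MvPolynomial σ K →ₐ[K] MvPolynomial σ K :=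
  aeval (fun i => C c * X i)

theorem scale_X (c : K) (i : σ) : scale c (X i : MvPolynomial σ K) = C c * X i := by
  simp [scale]

theorem scale_of_isHomogeneous (c : K) {f : MvPolynomial σ K} {d : ℕ} (hf : f.IsHomogeneous d) :
    scale c f = C (c ^ d) * f := by
  unfold scale
  rw [Groth.Agent.Lib.RegOrd.aeval_mul_of_isHomogeneous hf (C c) X, aeval_X_left_apply, C_pow]

theorem scale_comp_scale (c c' : K) :
    (scale c).comp (scale c') = (scale (c * c') : MvPolynomial σ K →ₐ[K] MvPolynomial σ K) := by
  apply MvPolynomial.algHom_ext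
  intro i
  have hC : scale c (C c' : MvPolynomial σ K) = C c' := by
    simp [scale]
  rw [AlgHom.comp_apply, scale_X, map_mul, scale_X, scale_X, hC, C_mul]
  ring

theorem scale_one : (scale 1 : MvPolynomial σ K →ₐ[K] MvPolynomial σ K) = AlgHom.id K _ := by
  apply MvPolynomial.algHom_ext
  intro i
  rw [scale_X]
  simp

/-- The scaling automorphism for `c ≠ 0`. -/
noncomputable def scaleEquiv (c : K) (hc : c ≠ 0) : MvPolynomial σ K ≃ₐ[K] MvPolynomial σ K :=
  AlgEquiv.ofAlgHom (scale c) (scale c⁻¹)
    (by rw [scale_comp_scale, mul_inv_cancel₀ hc, scale_one])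
    (by rw [scale_comp_scale, inv_mul_cancel₀ hc, scale_one])

@[simp]
theorem scaleEquiv_apply (c : K) (hc : c ≠ 0) (f : MvPolynomial σ K) :
    scaleEquiv c hc f = scale c f := rfl

theorem scale_eq_sum (c : K) (f : MvPolynomial σ K) :
    scale c f = ∑ d ∈ Finset.range (f.totalDegree + 1), C (c ^ d) * homogeneousComponent d f := by
  conv_lhs => rw [← sum_homogeneousComponent f]
  rw [map_sum]
  refine Finset.sum_congr rfl fun d _ => ?_
  exact scale_of_isHomogeneous c (homogeneousComponent_isHomogeneous d f)

/-- An ideal generated by homogeneous polynomials is stable under scaling. -/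
theorem map_scale_le {I : Ideal (MvPolynomial σ K)} {T : Set (MvPolynomial σ K)}
    (hT : ∀ f ∈ T, ∃ k : ℕ, f.IsHomogeneous k) (hI : I = Ideal.span T) (c : K) :
    I.map (scale c : MvPolynomial σ K →ₐ[K] MvPolynomial σ K) ≤ I := by
  rw [hI, Ideal.map_span, Ideal.span_le]
  rintro _ ⟨f, hf, rfl⟩
  obtain ⟨k, hk⟩ := hT f hf
  change scale c f ∈ _
  rw [scale_of_isHomogeneous c hk]
  exact Ideal.mul_mem_left _ _ (Ideal.subset_span hf)

theorem map_scaleEquiv_eq {I : Ideal (MvPolynomial σ K)} {T : Set (MvPolynomial σ K)}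
    (hT : ∀ f ∈ T, ∃ k : ℕ, f.IsHomogeneous k) (hI : I = Ideal.span T) (c : K) (hc : c ≠ 0) :
    I = I.map (((scaleEquiv c hc : MvPolynomial σ K ≃ₐ[K] MvPolynomial σ K) :
      MvPolynomial σ K ≃+* MvPolynomial σ K) : MvPolynomial σ K →+* MvPolynomial σ K) := by
  apply le_antisymm
  · intro f hf
    have h1 : scale c⁻¹ f ∈ I :=
      map_scale_le hT hI c⁻¹ (Ideal.mem_map_of_mem _ hf)
    have h2 : scale c (scale c⁻¹ f) = f := by
      have := congrArg (fun g : MvPolynomial σ K →ₐ[K] MvPolynomial σ K => g f)
        (scale_comp_scale (σ := σ) c c⁻¹)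
      simp only [AlgHom.comp_apply] at this
      rw [this, mul_inv_cancel₀ hc, scale_one]
      rfl
    rw [← h2]
    exact Ideal.mem_map_of_mem _ h1
  · exact map_scale_le hT hI c

/-- If a prime ideal contains `scale c x` for every nonzero `c` in an infinite field, then it
contains every homogeneous component of `x`. -/
theorem homogeneousComponent_mem_of_forall_scale_mem [Infinite K]
    (P : Ideal (MvPolynomial σ K)) [hP : P.IsPrime] (x : MvPolynomial σ K)
    (h : ∀ c : K, c ≠ 0 → scale c x ∈ P) (d : ℕ) : homogeneousComponent d x ∈ P := by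
  classical
  by_cases hd : d < x.totalDegree + 1
  swap
  · rw [homogeneousComponent_eq_zero _ _ (by omega)]
    exact Ideal.zero_mem _
  let B := MvPolynomial σ K ⧸ P
  let g : Polynomial B := ∑ e ∈ Finset.range (x.totalDegree + 1),
    Polynomial.C (Ideal.Quotient.mk P (homogeneousComponent e x)) * Polynomial.X ^ e
  have hinj : Function.Injective (algebraMap K B) := (algebraMap K B).injective
  have hroot : ∀ c : K, c ≠ 0 → g.IsRoot (algebraMap K B c) := by
    intro c hc
    rw [Polynomial.IsRoot.def, Polynomial.eval_finsetSum]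
    have h1 := h c hc
    rw [scale_eq_sum, ← Ideal.Quotient.eq_zero_iff_mem, map_sum] at h1
    rw [← h1]
    refine Finset.sum_congr rfl fun e _ => ?_
    rw [Polynomial.eval_mul, Polynomial.eval_C, Polynomial.eval_pow, Polynomial.eval_X, map_mul,
      mul_comm]
    congr 1
    rw [← map_pow]
    rfl
  have hg : g = 0 := by
    apply Polynomial.eq_zero_of_infinite_isRoot
    have hinf : ({c : K | c ≠ 0} : Set K).Infinite := by
      have : ({c : K | c ≠ 0} : Set K) = {0}ᶜ := by ext; simp
      rw [this]
      exact (Set.finite_singleton 0).infinite_compl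
    refine (hinf.image hinj.injOn).mono ?_
    rintro _ ⟨c, hc, rfl⟩
    exact hroot c hc
  have hcoeff : g.coeff d = Ideal.Quotient.mk P (homogeneousComponent d x) := by
    simp only [g, Polynomial.finsetSum_coeff, Polynomial.coeff_C_mul, Polynomial.coeff_X_pow]
    rw [Finset.sum_eq_single d]
    · simp
    · intro e _ hed
      simp [hed.symm]
    · intro hnot
      exact absurd (Finset.mem_range.mpr hd) hnot
  rw [hg, Polynomial.coeff_zero] at hcoeff
  exact Ideal.Quotient.eq_zero_iff_mem.mp hcoeff.symm

/-- Consequently the constant term of `x` vanishes. -/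
theorem constantCoeff_eq_zero_of_forall_scale_mem [Infinite K]
    (P : Ideal (MvPolynomial σ K)) [hP : P.IsPrime] (x : MvPolynomial σ K)
    (h : ∀ c : K, c ≠ 0 → scale c x ∈ P) : constantCoeff x = 0 := by
  have h0 := homogeneousComponent_mem_of_forall_scale_mem P x h 0
  rw [homogeneousComponent_zero] at h0
  by_contra hne
  apply hP.ne_top
  rw [Ideal.eq_top_iff_one]
  have : (C (coeff 0 x)⁻¹ : MvPolynomial σ K) * C (coeff 0 x) = 1 := by
    rw [← C_mul, inv_mul_cancel₀ (by simpa [constantCoeff_eq] using hne), C_1]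
  rw [← this]
  exact Ideal.mul_mem_left _ _ h0

end Groth.Agent.Lib.H8Scaling
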