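import Groth.Agent.Lib.SymTensorPure75
import Groth.Agent.Lib.H8FibPowGamma

/-!
# Base change of symmetric tensors of a flat module (helper8)

For a flat `A`-module `M` and an `A`-algebra `K`, the symmetric tensors of `K ⊗ M` over `K` are
the base change of the symmetric tensors of `M`:
`K ⊗[A] TS_A(M) → ⨂[K]^n (K ⊗[A] M)` is onto `TS_K(K ⊗ M)`.
-/

set_option autoImplicit false
universe u
open scoped TensorProduct
open PiTensorProduct

namespace Groth.Agent.Lib.H8TSBaseChange

open Groth.Agent.Lib.SymTensorFlat Groth.Agent.Lib.SymTensorColim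

variable (A : Type u) [CommRing A] (K : Type u) [CommRing K] [Algebra A K] (n : ℕ)

section iota

variable (M : Type u) [AddCommGroup M] [Module A M]

/-- `m₁ ⊗ ⋯ ⊗ m_n ↦ (1 ⊗ m₁) ⊗ ⋯ ⊗ (1 ⊗ m_n)` -/
noncomputable def iotaM : (⨂[A] _ : Fin n, M) →ₗ[A] (⨂[K] _ : Fin n, K ⊗[A] M) :=
  PiTensorProduct.lift
    (((PiTensorProduct.tprod K (s := fun _ : Fin n => K ⊗[A] M)).restrictScalars A).compLinearMap
      (fun _ => TensorProduct.mk A K M 1))

@[simp]
theorem iotaM_tprod (m : Fin n → M) :
    iotaM A K n M (tprod A m) = tprod K (fun i => (1 : K) ⊗ₜ[A] m i) := by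
  simp [iotaM]

theorem iotaM_reindex (σ : Equiv.Perm (Fin n)) (t : ⨂[A] _ : Fin n, M) :
    iotaM A K n M (reindex A (fun _ : Fin n => M) σ t) =
      reindex K (fun _ : Fin n => K ⊗[A] M) σ (iotaM A K n M t) := by
  have h : (iotaM A K n M) ∘ₗ (reindex A (fun _ : Fin n => M) σ).toLinearMap =
      ((reindex K (fun _ : Fin n => K ⊗[A] M) σ).toLinearMap.restrictScalars A) ∘ₗ
        (iotaM A K n M) := by
    apply PiTensorProduct.ext
    apply MultilinearMap.ext
    intro m
    simp only [LinearMap.compMultilinearMap_apply, LinearMap.comp_apply, LinearEquiv.coe_coe,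
      LinearMap.restrictScalars_apply, reindex_tprod, iotaM_tprod]
  exact LinearMap.congr_fun h t

/-- `κ ⊗ t ↦ κ • iotaM t` -/
noncomputable def Theta : K ⊗[A] (⨂[A] _ : Fin n, M) →ₗ[K] (⨂[K] _ : Fin n, K ⊗[A] M) :=
  (iotaM A K n M).liftBaseChange K

@[simp]
theorem Theta_tmul (κ : K) (t : ⨂[A] _ : Fin n, M) :
    Theta A K n M (κ ⊗ₜ[A] t) = κ • iotaM A K n M t := by
  simp [Theta]

theorem Theta_reindex (σ : Equiv.Perm (Fin n)) (x : K ⊗[A] (⨂[A] _ : Fin n, M)) :
    Theta A K n M ((reindex A (fun _ : Fin n => M) σ).toLinearMap.lTensor K x) =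
      reindex K (fun _ : Fin n => K ⊗[A] M) σ (Theta A K n M x) := by
  induction x using TensorProduct.induction_on with
  | zero => simp
  | tmul κ t =>
    rw [LinearMap.lTensor_tmul, Theta_tmul, Theta_tmul, LinearEquiv.coe_coe, iotaM_reindex,
      map_smul]
  | add x y hx hy => rw [map_add, map_add, hx, hy, map_add, map_add]

variable {M} in
/-- naturality of `iotaM` -/
theorem iotaM_map {M' : Type u} [AddCommGroup M'] [Module A M'] (g : M →ₗ[A] M')
    (t : ⨂[A] _ : Fin n, M) :
    PiTensorProduct.map (fun _ : Fin n => g.baseChange K) (iotaM A K n M t) =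
      iotaM A K n M' (PiTensorProduct.map (fun _ : Fin n => g) t) := by
  have h : ((PiTensorProduct.map (fun _ : Fin n => g.baseChange K)).restrictScalars A) ∘ₗ
      (iotaM A K n M) = (iotaM A K n M') ∘ₗ (PiTensorProduct.map (fun _ : Fin n => g)) := by
    apply PiTensorProduct.ext
    apply MultilinearMap.ext
    intro m
    simp only [LinearMap.compMultilinearMap_apply, LinearMap.comp_apply,
      LinearMap.restrictScalars_apply, PiTensorProduct.map_tprod, iotaM_tprod,
      LinearMap.baseChange_tmul]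
  exact LinearMap.congr_fun h t

variable {M} in
/-- naturality of `Theta` -/
theorem Theta_map {M' : Type u} [AddCommGroup M'] [Module A M'] (g : M →ₗ[A] M')
    (x : K ⊗[A] (⨂[A] _ : Fin n, M)) :
    PiTensorProduct.map (fun _ : Fin n => g.baseChange K) (Theta A K n M x) =
      Theta A K n M' ((PiTensorProduct.map (fun _ : Fin n => g)).lTensor K x) := by
  induction x using TensorProduct.induction_on with
  | zero => simp
  | tmul κ t => rw [LinearMap.lTensor_tmul, Theta_tmul, Theta_tmul, map_smul, iotaM_map]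
  | add x y hx hy => rw [map_add, map_add, hx, hy, map_add, map_add]

end iota

section free

variable {J : Type u} [Finite J] (F : Type u) [AddCommGroup F] [Module A F]
  (b : Module.Basis J A F)

/-- the base-changed basis -/
noncomputable abbrev bK : Module.Basis J K (K ⊗[A] F) := Algebra.TensorProduct.basis K b

theorem iotaM_tbasis (p : Fin n → J) :
    iotaM A K n F (tbasis b n p) = tbasis (bK A K F b) n p := by
  rw [Basis.piTensorProduct_apply, Basis.piTensorProduct_apply, iotaM_tprod]
  congr 1
  funext i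
  rw [Algebra.TensorProduct.basis_apply]

/-- coordinates of `iotaM v` are the images of the coordinates of `v` -/
theorem equivFun_iotaM (v : ⨂[A] _ : Fin n, F) (q : Fin n → J) :
    (tbasis (bK A K F b) n).equivFun (iotaM A K n F v) q =
      algebraMap A K ((tbasis b n).equivFun v q) := by
  classical
  cases nonempty_fintype J
  conv_lhs => rw [← (tbasis b n).sum_equivFun v]
  rw [map_sum, map_sum, Finset.sum_apply]
  simp only [map_smul, iotaM_tbasis]
  have : ∀ p : Fin n → J, (tbasis (bK A K F b) n).equivFun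
      ((tbasis b n).equivFun v p • tbasis (bK A K F b) n p) q =
      if p = q then algebraMap A K ((tbasis b n).equivFun v p) else 0 := by
    intro p
    rw [← algebraMap_smul K, map_smul, Pi.smul_apply, Module.Basis.equivFun_self]
    simp
  rw [Finset.sum_congr rfl fun p _ => this p, Finset.sum_ite_eq' Finset.univ q]
  simp

include b in
theorem free_case (z : ⨂[K] _ : Fin n, K ⊗[A] F) (hz : z ∈ TS K (K ⊗[A] F) n) :
    ∃ y : K ⊗[A] TS A F n, Theta A K n F ((TS A F n).subtype.lTensor K y) = z := by
  classical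
  cases nonempty_fintype J
  let c : (Fin n → J) → K := (tbasis (bK A K F b) n).equivFun z
  have hc : ∀ (q : Fin n → J) (σ : Equiv.Perm (Fin n)), c (q ∘ σ) = c q := by
    intro q σ
    change (tbasis (bK A K F b) n).equivFun z (q ∘ σ) = (tbasis (bK A K F b) n).equivFun z q
    rw [← equivFun_reindex, (mem_TS.mp hz) σ]
  let w : K ⊗[A] (⨂[A] _ : Fin n, F) := ∑ p : Fin n → J, c p ⊗ₜ[A] tbasis b n p
  let ρ' : (⨂[A] _ : Fin n, F) →ₗ[A] TS A F n :=
    (rho0 b n).codRestrict (TS A F n) (rho0_mem b n)
  refine ⟨ρ'.lTensor K w, ?_⟩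
  have h1 : (TS A F n).subtype.lTensor K (ρ'.lTensor K w) = (rho0 b n).lTensor K w := by
    rw [← LinearMap.lTensor_comp_apply]
    rfl
  rw [h1]
  change Theta A K n F ((rho0 b n).lTensor K (∑ p : Fin n → J, c p ⊗ₜ[A] tbasis b n p)) = z
  rw [map_sum, map_sum]
  simp only [LinearMap.lTensor_tmul, Theta_tmul]
  apply (tbasis (bK A K F b) n).equivFun.injective
  funext q
  rw [map_sum, Finset.sum_apply]
  simp only [map_smul, Pi.smul_apply, smul_eq_mul, equivFun_iotaM, equivFun_rho0]
  have : ∀ p : Fin n → J, c p * algebraMap A K ((tbasis b n).equivFun (tbasis b n p) (orep n q)) =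
      if p = orep n q then c p else 0 := by
    intro p
    rw [Module.Basis.equivFun_self]
    by_cases h : p = orep n q
    · simp [h]
    · simp [h, Pi.single_apply, Ne.symm h]
  rw [Finset.sum_congr rfl fun p _ => this p, Finset.sum_ite_eq' Finset.univ (orep n q)]
  simp only [Finset.mem_univ, if_true]
  obtain ⟨σ, hσ⟩ := orep_spec n q
  rw [hσ, hc]

end free

section flat

variable (M : Type u) [AddCommGroup M] [Module A M]

/-- **Base change of symmetric tensors** (surjectivity): every symmetric tensor of `K ⊗ M` over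
`K` comes from `K ⊗ TS_A(M)`, for `M` flat. -/
theorem exists_lift_of_mem_TS [Module.Flat A M]
    (z : ⨂[K] _ : Fin n, K ⊗[A] M) (hz : z ∈ TS K (K ⊗[A] M) n) :
    ∃ y : K ⊗[A] TS A M n, Theta A K n M ((TS A M n).subtype.lTensor K y) = z := by
  classical
  -- step 1: a finitely presented stage
  obtain ⟨Q, _, _, _, g, y, hysym, hy, -⟩ :=
    exists_symm_lift_fp_family K (K ⊗[A] M) n (fun _ : Fin 1 => z) (fun _ => mem_TS.1 hz)
      (fun _ => 0) (by simp)
  -- step 2: factor through a finite free `K`-module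
  obtain ⟨k, h₂, h₃, hg⟩ := Module.Flat.exists_factorization_of_finitePresentation g
  let z₁ : ⨂[K] _ : Fin n, (Fin k →₀ K) := PiTensorProduct.map (fun _ : Fin n => h₂) (y 0)
  have hz₁sym : ∀ σ : Equiv.Perm (Fin n),
      reindex K (fun _ : Fin n => (Fin k →₀ K)) σ z₁ = z₁ := by
    intro σ
    change reindex K _ σ (PiTensorProduct.map (fun _ : Fin n => h₂) (y 0)) = _
    rw [← map_reindex_const, hysym 0 σ]
  have hz₁ : PiTensorProduct.map (fun _ : Fin n => h₃) z₁ = z := by
    change PiTensorProduct.map (fun _ : Fin n => h₃)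
      (PiTensorProduct.map (fun _ : Fin n => h₂) (y 0)) = z
    rw [map_map_const, ← hg, hy 0]
  -- step 3: factor `h₃` through the base change of a finite free `A`-module
  have hS : ∀ m : Fin k, ∃ S : Finset (K × M),
      h₃ (Finsupp.single m 1) = ∑ p ∈ S, p.1 ⊗ₜ[A] p.2 :=
    fun m => TensorProduct.exists_finset _
  choose S hS using hS
  let J : Type u := Σ m : Fin k, ↥(S m)
  let F : Type u := J →₀ A
  let b : Module.Basis J A F := Finsupp.basisSingleOne
  let u : F →ₗ[A] M := Finsupp.linearCombination A (fun j : J => j.2.1.2)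
  let h₄ : (Fin k →₀ K) →ₗ[K] K ⊗[A] F :=
    Finsupp.linearCombination K
      (fun m : Fin k => ∑ p : ↥(S m), p.1.1 ⊗ₜ[A] (Finsupp.single (⟨m, p⟩ : J) (1 : A)))
  have h34 : h₃ = (u.baseChange K) ∘ₗ h₄ := by
    apply Finsupp.lhom_ext'
    intro m
    apply LinearMap.ext_ring
    simp only [LinearMap.comp_apply, Finsupp.lsingle_apply]
    rw [hS m]
    change _ = (u.baseChange K) (Finsupp.linearCombination K _ (Finsupp.single m 1))
    rw [Finsupp.linearCombination_single, one_smul, map_sum, ← Finset.sum_coe_sort (S m)]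
    refine Finset.sum_congr rfl fun p _ => ?_
    rw [LinearMap.baseChange_tmul]
    congr 1
    change _ = Finsupp.linearCombination A _ (Finsupp.single _ 1)
    rw [Finsupp.linearCombination_single, one_smul]
  let z₂ : ⨂[K] _ : Fin n, K ⊗[A] F := PiTensorProduct.map (fun _ : Fin n => h₄) z₁
  have hz₂sym : z₂ ∈ TS K (K ⊗[A] F) n := by
    rw [mem_TS]
    intro σ
    change reindex K _ σ (PiTensorProduct.map (fun _ : Fin n => h₄) z₁) = _
    rw [← map_reindex_const, hz₁sym σ]
  have hz₂ : PiTensorProduct.map (fun _ : Fin n => u.baseChange K) z₂ = z := by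
    change PiTensorProduct.map (fun _ : Fin n => u.baseChange K)
      (PiTensorProduct.map (fun _ : Fin n => h₄) z₁) = z
    rw [map_map_const, ← h34, hz₁]
  -- step 4: the free case
  obtain ⟨y₂, hy₂⟩ := free_case A K n F b z₂ hz₂sym
  -- step 5: push forward
  refine ⟨(TSmap u n).lTensor K y₂, ?_⟩
  have h5 : (TS A M n).subtype.lTensor K ((TSmap u n).lTensor K y₂) =
      (PiTensorProduct.map (fun _ : Fin n => u)).lTensor K
        ((TS A F n).subtype.lTensor K y₂) := by
    rw [← LinearMap.lTensor_comp_apply, ← LinearMap.lTensor_comp_apply]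
    congr 2
  rw [h5, ← Theta_map, hy₂, hz₂]

end flat

section alg

open Groth.Agent.Lib.H8FibPowGamma

variable (B : Type u) [CommRing B] [Algebra A B]

/-- the inverse of `Theta` for an algebra `B`, by the universal property of the tensor power -/
noncomputable def Psi : (⨂[K] _ : Fin n, K ⊗[A] B) →ₐ[K] K ⊗[A] (⨂[A] _ : Fin n, B) :=
  tpowLift (A := K) (B := K ⊗[A] B) (C := K ⊗[A] (⨂[A] _ : Fin n, B))
    (fun i => Algebra.TensorProduct.map (AlgHom.id K K)
      (PiTensorProduct.singleAlgHom (R := A) (A := fun _ : Fin n => B) i))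

theorem Psi_iotaM (t : ⨂[A] _ : Fin n, B) :
    Psi A K n B (iotaM A K n B t) = (1 : K) ⊗ₜ[A] t := by
  classical
  have h : ((Psi A K n B).toLinearMap.restrictScalars A) ∘ₗ (iotaM A K n B) =
      TensorProduct.mk A K (⨂[A] _ : Fin n, B) 1 := by
    apply PiTensorProduct.ext
    apply MultilinearMap.ext
    intro m
    simp only [LinearMap.compMultilinearMap_apply, LinearMap.comp_apply,
      LinearMap.restrictScalars_apply, AlgHom.toLinearMap_apply, iotaM_tprod,
      TensorProduct.mk_apply]
    rw [Psi, tpowLift_tprod]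
    simp only [Algebra.TensorProduct.map_tmul, AlgHom.id_apply]
    have h1 : ∀ i : Fin n, (1 : K) ⊗ₜ[A] (PiTensorProduct.singleAlgHom (R := A)
        (A := fun _ : Fin n => B) i (m i)) =
        (Algebra.TensorProduct.includeRight : (⨂[A] _ : Fin n, B) →ₐ[A] K ⊗[A] (⨂[A] _ : Fin n, B))
          (PiTensorProduct.singleAlgHom (R := A) (A := fun _ : Fin n => B) i (m i)) := fun i => rfl
    rw [Finset.prod_congr rfl fun i _ => h1 i, ← map_prod]
    change (1 : K) ⊗ₜ[A] _ = _
    congr 1
    simp only [PiTensorProduct.singleAlgHom_apply]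
    rw [← PiTensorProduct.tprod_prod]
    congr 1
    exact Finset.univ_prod_mulSingle m
  exact LinearMap.congr_fun h t

theorem Psi_Theta (x : K ⊗[A] (⨂[A] _ : Fin n, B)) : Psi A K n B (Theta A K n B x) = x := by
  induction x using TensorProduct.induction_on with
  | zero => simp
  | tmul κ t =>
    rw [Theta_tmul, map_smul, Psi_iotaM, TensorProduct.smul_tmul', smul_eq_mul, mul_one]
  | add x y hx hy => rw [map_add, map_add, hx, hy]

theorem Theta_injective : Function.Injective (Theta A K n B) :=
  Function.LeftInverse.injective (g := Psi A K n B) (Psi_Theta A K n B)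

/-- **Base change of symmetric tensors**: for a flat `A`-algebra `B`, the elements of
`K ⊗ ⨂^n B` invariant under all permutations are exactly the image of `K ⊗ TS_A(B)`. -/
theorem mem_range_lTensor_of_invariant [Module.Flat A B] (x : K ⊗[A] (⨂[A] _ : Fin n, B))
    (hx : ∀ σ : Equiv.Perm (Fin n),
      (reindex A (fun _ : Fin n => B) σ).toLinearMap.lTensor K x = x) :
    x ∈ LinearMap.range ((TS A B n).subtype.lTensor K) := by
  have hz : Theta A K n B x ∈ TS K (K ⊗[A] B) n := by
    rw [mem_TS]
    intro σ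
    rw [← Theta_reindex, hx σ]
  obtain ⟨y, hy⟩ := exists_lift_of_mem_TS A K n B _ hz
  exact ⟨y, Theta_injective A K n B hy⟩

end alg

end Groth.Agent.Lib.H8TSBaseChange
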