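import Mathlib.RingTheory.MvPolynomial.WeightedHomogeneous
import Mathlib.RingTheory.Ideal.Span

/-!
# Generating weight pieces of polynomial rings by monomials (helper8)

Tools to prove statements of the form "every weighted homogeneous polynomial of weight `ν` is a
combination `∑ a_j g_j` (possibly modulo an ideal `H`) with `a_j` weighted homogeneous of weight
`μ`" by checking monomials only.
-/

set_option autoImplicit false

namespace Groth.Agent.Lib.H8WeightPiece

open MvPolynomial

variable {σ : Type*} {k : Type*} [CommRing k] {M : Type*} [AddCommMonoid M]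

/-- Reduction to monomials: if every monomial of weight `ν` is, modulo `H`, a combination of the
`g j` with coefficients of weight `μ`, then so is every weighted homogeneous polynomial of weight
`ν`. -/
theorem exists_decomp_mod (w : σ → M) (ν μ : M) (H : Ideal (MvPolynomial σ k))
    {J : Type*} [Fintype J] (g : J → MvPolynomial σ k)
    (hmono : ∀ d : σ →₀ ℕ, Finsupp.weight w d = ν →
      ∃ a : J → MvPolynomial σ k, (∀ j, a j ∈ weightedHomogeneousSubmodule k w μ) ∧
        monomial d (1 : k) - ∑ j, a j * g j ∈ H)
    (f : MvPolynomial σ k) (hf : f ∈ weightedHomogeneousSubmodule k w ν) :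
    ∃ a : J → MvPolynomial σ k, (∀ j, a j ∈ weightedHomogeneousSubmodule k w μ) ∧
      f - ∑ j, a j * g j ∈ H := by
  rw [mem_weightedHomogeneousSubmodule] at hf
  induction hf using IsWeightedHomogeneous.induction_on with
  | zero => exact ⟨fun _ ↦ 0, fun _ ↦ Submodule.zero_mem _, by simp⟩
  | add p q hp hq ihp ihq =>
    obtain ⟨a, ha, ha'⟩ := ihp
    obtain ⟨b, hb, hb'⟩ := ihq
    refine ⟨fun j ↦ a j + b j, fun j ↦ Submodule.add_mem _ (ha j) (hb j), ?_⟩
    have : p + q - ∑ j, (a j + b j) * g j = (p - ∑ j, a j * g j) + (q - ∑ j, b j * g j) := by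
      simp only [add_mul, Finset.sum_add_distrib]; ring
    rw [this]
    exact H.add_mem ha' hb'
  | monomial d r hr =>
    obtain ⟨a, ha, ha'⟩ := hmono d hr
    refine ⟨fun j ↦ C r * a j, fun j ↦ ?_, ?_⟩
    · exact (mem_weightedHomogeneousSubmodule k w μ _).mpr
        (IsWeightedHomogeneous.C_mul ((mem_weightedHomogeneousSubmodule k w μ _).mp (ha j)) r)
    · have : monomial d r - ∑ j, C r * a j * g j = C r * (monomial d (1 : k) - ∑ j, a j * g j) := by
        rw [mul_sub, C_mul_monomial, mul_one, Finset.mul_sum]
        simp only [mul_assoc]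
      rw [this]
      exact H.mul_mem_left _ ha'

/-- Dividing a monomial by a smaller one. -/
theorem monomial_eq_mul_of_le {d e : σ →₀ ℕ} (h : e ≤ d) :
    monomial d (1 : k) = monomial (d - e) 1 * monomial e 1 := by
  rw [monomial_mul, one_mul, tsub_add_cancel_of_le h]

theorem weight_sub_add {w : σ → M} {d e : σ →₀ ℕ} (h : e ≤ d) :
    Finsupp.weight w (d - e) + Finsupp.weight w e = Finsupp.weight w d := by
  rw [← map_add, tsub_add_cancel_of_le h]

end Groth.Agent.Lib.H8WeightPiece
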