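import Groth.Agent.Lib.H8WeightPiece
import Groth.Prelude.Def_W4c2invhilbsl2
import Mathlib.Tactic

/-!
# Weight computations for `W4c2invhilbsl2.wt5`, `wt3` and a divisibility helper (helper8)
-/

set_option autoImplicit false

namespace Groth.Agent.Lib.H8WeightPiece

open MvPolynomial W4c2invhilbsl2

variable {σ : Type*} {k : Type*} [CommRing k] {M : Type*} [AddCommMonoid M]

/-- A monomial divisible by the generator `g j = monomial e 1`, with quotient of weight `μ`,
is a combination of the generators. -/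
theorem decomp_of_dvd (w : σ → M) (μ : M) (H : Ideal (MvPolynomial σ k))
    {J : Type*} [Fintype J] [DecidableEq J] (g : J → MvPolynomial σ k) (j : J) {d e : σ →₀ ℕ}
    (hg : g j = monomial e 1) (hle : e ≤ d) (hw : Finsupp.weight w (d - e) = μ) :
    ∃ a : J → MvPolynomial σ k, (∀ j, a j ∈ weightedHomogeneousSubmodule k w μ) ∧
      monomial d (1 : k) - ∑ j, a j * g j ∈ H := by
  refine ⟨Pi.single j (monomial (d - e) 1), fun i ↦ ?_, ?_⟩
  · by_cases hij : i = j
    · subst hij
      rw [Pi.single_eq_same, mem_weightedHomogeneousSubmodule]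
      exact isWeightedHomogeneous_monomial w _ _ hw
    · rw [Pi.single_eq_of_ne hij]
      exact Submodule.zero_mem _
  · have : ∑ i, (Pi.single j (monomial (d - e) (1 : k)) : J → MvPolynomial σ k) i * g i =
        monomial (d - e) 1 * g j := by
      rw [Finset.sum_eq_single j]
      · rw [Pi.single_eq_same]
      · intro i _ hij
        rw [Pi.single_eq_of_ne hij, zero_mul]
      · intro h; exact absurd (Finset.mem_univ j) h
    rw [this, hg, ← monomial_eq_mul_of_le hle, sub_self]
    exact H.zero_mem

/-- In an additive group: if `e ≤ d` then the weight of `d - e` is the difference of weights. -/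
theorem weight_sub {G : Type*} [AddCommGroup G] (w : σ → G) {d e : σ →₀ ℕ} (h : e ≤ d) :
    Finsupp.weight w (d - e) = Finsupp.weight w d - Finsupp.weight w e :=
  eq_sub_of_add_eq (weight_sub_add h)

theorem weight_wt3 (p q m : ℕ) (d : Fin 3 →₀ ℕ) :
    Finsupp.weight (wt3 p q m) d =
      ((d 0 : ℤ) - p * d 1 + q * d 2, -(d 1 : ZMod m) + (d 2 : ZMod m)) := by
  rw [Finsupp.weight_apply, Finsupp.sum_fintype _ _ (by simp)]
  simp only [Fin.sum_univ_three, wt3]
  ext
  · simp; ring
  · simp

theorem weight_wt5 (p q m : ℕ) (d : Fin 5 →₀ ℕ) :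
    Finsupp.weight (wt5 p q m) d =
      ((d 0 : ℤ) - p * ((d 1 : ℤ) + d 2) + q * ((d 3 : ℤ) + d 4),
        -((d 1 : ZMod m) + (d 2 : ZMod m)) + ((d 3 : ZMod m) + (d 4 : ZMod m))) := by
  rw [Finsupp.weight_apply, Finsupp.sum_fintype _ _ (by simp)]
  simp only [Fin.sum_univ_five, wt5]
  ext
  · simp; ring
  · simp; ring

end Groth.Agent.Lib.H8WeightPiece
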