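import Groth.Prelude.Def_AlgSpInf

/-!
# helper90: formal lifting calculus for `AlgSp.InfSq` (formally smooth / unramified / etale
morphisms of fppf sheaves)

* `change`: same thickening `T ⊂ T'`, other top/bottom arrows for another morphism.
* `exists_lift`, `lift_unique`: the lifting properties in a form with clean types.
* `hasUniqLift_iff`: `HasUniqLift ↔ HasLift ∧ HasUniq`.
* `isFormallyEtaleMor_iff`: formally etale ↔ formally smooth ∧ formally unramified.
* composition, permanence (cancellation), base change for the three notions.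
-/

set_option autoImplicit false
universe u
open CategoryTheory CategoryTheory.Limits AlgebraicGeometry
open AlgSp

namespace Groth.Agent.Lib.H90AlgSpInf

variable {S : Scheme.{u}}

/-- Same thickening, different arrows. -/
noncomputable def change {F G : AlgSp.Sp S} {f : F ⟶ G} (sq : InfSq f) {F' G' : AlgSp.Sp S}
    (f' : F' ⟶ G') (top' : (yon S).obj sq.ptT ⟶ F') (bot' : (yon S).obj sq.ptT' ⟶ G')
    (comm : top' ≫ f' = (yon S).map sq.j ≫ bot') : InfSq f' where
  A := sq.A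
  I := sq.I
  sq_zero := sq.sq_zero
  str := sq.str
  top := top'
  bot := bot'
  comm := comm

section
variable {F G : AlgSp.Sp S} {f : F ⟶ G}

lemma exists_lift {F' G' : AlgSp.Sp S} {f' : F' ⟶ G'} (hf : IsFormallySmoothMor f')
    (sq : InfSq f) (top' : (yon S).obj sq.ptT ⟶ F') (bot' : (yon S).obj sq.ptT' ⟶ G')
    (comm : top' ≫ f' = (yon S).map sq.j ≫ bot') :
    ∃ l : (yon S).obj sq.ptT' ⟶ F', (yon S).map sq.j ≫ l = top' ∧ l ≫ f' = bot' :=
  hf (change sq f' top' bot' comm)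

lemma lift_unique {F' G' : AlgSp.Sp S} {f' : F' ⟶ G'} (hf : IsFormallyUnramifiedMor f')
    (sq : InfSq f) (top' : (yon S).obj sq.ptT ⟶ F') (bot' : (yon S).obj sq.ptT' ⟶ G')
    (comm : top' ≫ f' = (yon S).map sq.j ≫ bot')
    (l l' : (yon S).obj sq.ptT' ⟶ F') (h1 : (yon S).map sq.j ≫ l = top') (h2 : l ≫ f' = bot')
    (h1' : (yon S).map sq.j ≫ l' = top') (h2' : l' ≫ f' = bot') : l = l' :=
  hf (change sq f' top' bot' comm) l l' h1 h2 h1' h2'

lemma hasUniqLift_iff (sq : InfSq f) : sq.HasUniqLift ↔ sq.HasLift ∧ sq.HasUniq := by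
  constructor
  · rintro ⟨l, ⟨h1, h2⟩, hl⟩
    refine ⟨⟨l, h1, h2⟩, fun l₁ l₂ a1 a2 b1 b2 => ?_⟩
    rw [hl l₁ ⟨a1, a2⟩, hl l₂ ⟨b1, b2⟩]
  · rintro ⟨⟨l, h1, h2⟩, hu⟩
    exact ⟨l, ⟨h1, h2⟩, fun l' hl' => hu l' l hl'.1 hl'.2 h1 h2⟩

lemma isFormallyEtaleMor_iff (f : F ⟶ G) :
    IsFormallyEtaleMor f ↔ IsFormallySmoothMor f ∧ IsFormallyUnramifiedMor f := by
  constructor
  · intro h
    exact ⟨fun sq => ((hasUniqLift_iff sq).mp (h sq)).1, fun sq => ((hasUniqLift_iff sq).mp (h sq)).2⟩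
  · rintro ⟨h1, h2⟩ sq
    exact (hasUniqLift_iff sq).mpr ⟨h1 sq, h2 sq⟩

end

section comp
variable {F G H : AlgSp.Sp S} (a : F ⟶ G) (b : G ⟶ H)

lemma smooth_comp (ha : IsFormallySmoothMor a) (hb : IsFormallySmoothMor b) :
    IsFormallySmoothMor (a ≫ b) := by
  intro sq
  have c1 : (sq.top ≫ a) ≫ b = (yon S).map sq.j ≫ sq.bot := by
    rw [Category.assoc]; exact sq.comm
  obtain ⟨lb, hlb1, hlb2⟩ := exists_lift hb sq (sq.top ≫ a) sq.bot c1
  obtain ⟨l, hl1, hl2⟩ := exists_lift ha sq sq.top lb hlb1.symm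
  exact ⟨l, hl1, by rw [← Category.assoc, hl2]; exact hlb2⟩

lemma unramified_comp (ha : IsFormallyUnramifiedMor a) (hb : IsFormallyUnramifiedMor b) :
    IsFormallyUnramifiedMor (a ≫ b) := by
  intro sq l l' h1 h2 h1' h2'
  have c1 : (sq.top ≫ a) ≫ b = (yon S).map sq.j ≫ sq.bot := by
    rw [Category.assoc]; exact sq.comm
  have e : l ≫ a = l' ≫ a := by
    refine lift_unique hb sq (sq.top ≫ a) sq.bot c1 (l ≫ a) (l' ≫ a) ?_ ?_ ?_ ?_
    · rw [← Category.assoc, h1]
    · rw [Category.assoc]; exact h2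
    · rw [← Category.assoc, h1']
    · rw [Category.assoc]; exact h2'
  have c2 : sq.top ≫ a = (yon S).map sq.j ≫ (l ≫ a) := by
    rw [← Category.assoc, h1]
  exact lift_unique ha sq sq.top (l ≫ a) c2 l l' h1 rfl h1' e.symm

lemma etale_comp (ha : IsFormallyEtaleMor a) (hb : IsFormallyEtaleMor b) :
    IsFormallyEtaleMor (a ≫ b) := by
  rw [isFormallyEtaleMor_iff] at ha hb ⊢
  exact ⟨smooth_comp a b ha.1 hb.1, unramified_comp a b ha.2 hb.2⟩

/-- cancellation: `a ≫ b` formally unramified ⇒ `a` formally unramified (no hypothesis on `b`). -/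
lemma unramified_of_comp (hab : IsFormallyUnramifiedMor (a ≫ b)) : IsFormallyUnramifiedMor a := by
  intro sq l l' h1 h2 h1' h2'
  have c1 : sq.top ≫ a ≫ b = (yon S).map sq.j ≫ sq.bot ≫ b := by
    rw [← Category.assoc, sq.comm, Category.assoc]
  refine lift_unique hab sq sq.top (sq.bot ≫ b) c1 l l' h1 ?_ h1' ?_
  · rw [← Category.assoc, h2]
  · rw [← Category.assoc, h2']

lemma smooth_of_comp (hb : IsFormallyUnramifiedMor b) (hab : IsFormallySmoothMor (a ≫ b)) :
    IsFormallySmoothMor a := by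
  intro sq
  have c1 : sq.top ≫ a ≫ b = (yon S).map sq.j ≫ sq.bot ≫ b := by
    rw [← Category.assoc, sq.comm, Category.assoc]
  obtain ⟨l, hl1, hl2⟩ := exists_lift hab sq sq.top (sq.bot ≫ b) c1
  refine ⟨l, hl1, ?_⟩
  have c2 : (sq.top ≫ a) ≫ b = (yon S).map sq.j ≫ sq.bot ≫ b := by
    rw [Category.assoc]; exact c1
  refine lift_unique hb sq (sq.top ≫ a) (sq.bot ≫ b) c2 (l ≫ a) sq.bot ?_ ?_ ?_ rfl
  · rw [← Category.assoc, hl1]
  · rw [Category.assoc]; exact hl2
  · exact sq.comm.symm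

lemma etale_of_comp (hb : IsFormallyUnramifiedMor b) (hab : IsFormallyEtaleMor (a ≫ b)) :
    IsFormallyEtaleMor a := by
  rw [isFormallyEtaleMor_iff] at hab ⊢
  exact ⟨smooth_of_comp a b hb hab.1, unramified_of_comp a b hab.2⟩

end comp

section baseChange
variable {F G H P : AlgSp.Sp S} (a : F ⟶ G) (b : H ⟶ G) (b' : P ⟶ F) (a' : P ⟶ H)
  (hP : IsPullback b' a' a b)

include hP in
lemma smooth_baseChange (ha : IsFormallySmoothMor a) : IsFormallySmoothMor a' := by
  intro sq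
  have c1 : (sq.top ≫ b') ≫ a = (yon S).map sq.j ≫ sq.bot ≫ b := by
    rw [Category.assoc, hP.w, ← Category.assoc, sq.comm, Category.assoc]
  obtain ⟨la, hla1, hla2⟩ := exists_lift ha sq (sq.top ≫ b') (sq.bot ≫ b) c1
  refine ⟨hP.lift la sq.bot hla2, ?_, hP.lift_snd _ _ _⟩
  apply hP.hom_ext
  · rw [Category.assoc, hP.lift_fst]; exact hla1
  · rw [Category.assoc, hP.lift_snd]; exact sq.comm.symm

include hP in
lemma unramified_baseChange (ha : IsFormallyUnramifiedMor a) : IsFormallyUnramifiedMor a' := by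
  intro sq l l' h1 h2 h1' h2'
  have c1 : (sq.top ≫ b') ≫ a = (yon S).map sq.j ≫ sq.bot ≫ b := by
    rw [Category.assoc, hP.w, ← Category.assoc, sq.comm, Category.assoc]
  apply hP.hom_ext
  · refine lift_unique ha sq (sq.top ≫ b') (sq.bot ≫ b) c1 (l ≫ b') (l' ≫ b') ?_ ?_ ?_ ?_
    · rw [← Category.assoc, h1]
    · rw [Category.assoc, hP.w, ← Category.assoc, h2]
    · rw [← Category.assoc, h1']
    · rw [Category.assoc, hP.w, ← Category.assoc, h2']
  · rw [h2, h2']

include hP in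
lemma etale_baseChange (ha : IsFormallyEtaleMor a) : IsFormallyEtaleMor a' := by
  rw [isFormallyEtaleMor_iff] at ha ⊢
  exact ⟨smooth_baseChange a b b' a' hP ha.1, unramified_baseChange a b b' a' hP ha.2⟩

end baseChange

end Groth.Agent.Lib.H90AlgSpInf
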