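/-
helper90: common coherent submodule.  On a Noetherian scheme, if two coherent modules `G₁`, `G₂` are isomorphic over an open `U`,
then there is a coherent `E` with monomorphisms `E ⟶ G₁`, `E ⟶ G₂` which are isomorphisms over `U` (compatible with the given
isomorphism).  Uses Artin–Rees (`H90ArtinRees`) and the graph extension (`H90GraphExt`).
-/
import Mathlib
import Groth.Agent.Lib.H90ArtinRees
import Groth.Agent.Lib.H90GraphExt

set_option autoImplicit false
set_option linter.style.haveILetI false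
universe u

open CategoryTheory CategoryTheory.Limits AlgebraicGeometry TopologicalSpace Opposite

namespace Groth.Agent.Lib.H90CommonSub

open Scheme.Modules

variable {Z : Scheme.{u}}

theorem exists_common_sub [AlgebraicGeometry.IsNoetherian Z] (G₁ G₂ : Z.Modules) (h₁ : Coh.IsCoh G₁)
    (h₂ : Coh.IsCoh G₂) (U : Z.Opens)
    (φ : (restrictFunctor U.ι).obj G₁ ⟶ (restrictFunctor U.ι).obj G₂) [IsIso φ] :
    ∃ (E : Z.Modules) (a : E ⟶ G₁) (b : E ⟶ G₂), Coh.IsCoh E ∧ Mono a ∧ Mono b ∧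
      IsIso ((restrictFunctor U.ι).map a) ∧ IsIso ((restrictFunctor U.ι).map b) ∧
      (restrictFunctor U.ι).map b = (restrictFunctor U.ι).map a ≫ φ := by
  let R := restrictFunctor U.ι
  obtain ⟨E₁, j₁, hj₁, hE₁, hi₁, tf₁⟩ := Groth.Agent.Lib.H90ArtinRees.exists_torsionFree_sub' G₁ h₁ U
  obtain ⟨E₂, j₂, hj₂, hE₂, hi₂, tf₂⟩ := Groth.Agent.Lib.H90ArtinRees.exists_torsionFree_sub' G₂ h₂ U
  haveI := hj₁; haveI := hj₂; haveI := hi₁; haveI := hi₂
  let φ' : R.obj E₁ ⟶ R.obj E₂ := R.map j₁ ≫ φ ≫ inv (R.map j₂)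
  have hX : ∀ x : Z, ∃ V : Z.Opens, x ∈ V ∧ NoetherianSpace (V : Set Z) :=
    fun x => ⟨⊤, trivial, inferInstance⟩
  obtain ⟨E, a', b', hE, hm, ha', hb'⟩ :=
    Groth.Agent.Lib.H90GraphExt.exists_graph_extension hX E₁ E₂ hE₁ hE₂ U φ'
  haveI := hm; haveI := ha'
  have hb'iso : IsIso (R.map b') := by
    rw [hb']; infer_instance
  haveI := hb'iso
  have hma : Mono a' := by
    apply Preadditive.mono_of_kernel_zero
    have hs := ((Groth.Agent.Lib.H90QCohLocalization.isIso_restrict_map_iff a' U).mp ha').1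
    have h0 : kernel.ι a' ≫ b' = 0 := tf₂ _ _ hs
    rw [← cancel_mono (biprod.lift a' b')]
    apply biprod.hom_ext
    · simp
    · simp [h0]
  have hmb : Mono b' := by
    apply Preadditive.mono_of_kernel_zero
    have hs := ((Groth.Agent.Lib.H90QCohLocalization.isIso_restrict_map_iff b' U).mp hb'iso).1
    have h0 : kernel.ι b' ≫ a' = 0 := tf₁ _ _ hs
    rw [← cancel_mono (biprod.lift a' b')]
    apply biprod.hom_ext
    · simp [h0]
    · simp
  haveI := hma; haveI := hmb
  refine ⟨E, a' ≫ j₁, b' ≫ j₂, hE, mono_comp _ _, mono_comp _ _, ?_, ?_, ?_⟩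
  · change IsIso (R.map (a' ≫ j₁))
    rw [R.map_comp]; infer_instance
  · change IsIso (R.map (b' ≫ j₂))
    rw [R.map_comp]; infer_instance
  · change R.map (b' ≫ j₂) = R.map (a' ≫ j₁) ≫ φ
    rw [R.map_comp, R.map_comp, hb']
    simp only [φ', Category.assoc, IsIso.inv_hom_id, Category.comp_id]
    rfl

end Groth.Agent.Lib.H90CommonSub
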