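/-
helper90: on an integral Noetherian scheme `Z`, every coherent module `G` contains a copy of `I^{⊕ r}` for a coherent ideal
`I ⊆ O_Z`, with `I^{⊕ r} ⟶ G` an isomorphism near the generic point (Stacks 01YE, the key step).
-/
import Mathlib
import Groth.Agent.Lib.H90IdealKill
import Groth.Agent.Lib.H90CommonSub
import Groth.Agent.Lib.H90DevSummand

set_option autoImplicit false
set_option linter.style.haveILetI false
universe u

open CategoryTheory CategoryTheory.Limits AlgebraicGeometry TopologicalSpace Opposite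

namespace Groth.Agent.Lib.H90DevIdealSum

open Scheme.Modules Groth.Agent.Lib.H90IdealKill Groth.Agent.Lib.H90DevHub2

variable {Z : Scheme.{u}}

theorem exists_idealSum_sub [AlgebraicGeometry.IsNoetherian Z] [IsIntegral Z] (G : Z.Modules)
    (hG : Coh.IsCoh G) :
    ∃ (r : ℕ) (I : Z.Modules) (ι : I ⟶ Coh.structureModule Z) (ψ : (∐ fun _ : Fin r => I) ⟶ G),
      Mono ι ∧ Coh.IsCoh I ∧ Coh.IsCoh (∐ fun _ : Fin r => I) ∧ Mono ψ ∧
      ∃ U : Z.Opens, genericPoint Z ∈ U ∧ IsIso ((restrictFunctor U.ι).map ψ) := by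
  haveI : G.IsFiniteType := hG.2
  haveI : G.IsQuasicoherent := hG.1
  obtain ⟨U, hzU, ⟨eU⟩⟩ := Groth.Agent.Lib.GenericFree.exists_open_free_of_isFT_of_isIntegral G
  set r := Module.finrank ↑(Z.presheaf.stalk (genericPoint ↥Z))
    ↑(G.presheaf.stalk (genericPoint ↥Z)) with hr
  let R := restrictFunctor U.ι
  have hfree : Coh.IsCoh (FlatMod.freeMod Z r) :=
    Groth.Agent.Lib.H90Invertible.isCoh_of_isFinLocFree
      (Groth.Agent.Lib.H90Invertible.isFinLocFree_freeMod _ r)
  haveI : (FlatMod.freeMod Z r).IsQuasicoherent := hfree.1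
  let φ : R.obj G ⟶ R.obj (FlatMod.freeMod Z r) :=
    eU.hom ≫ (Groth.Agent.Lib.FinLocFree.restrictFreeModIso U.ι r).inv
  haveI : IsIso φ := inferInstance
  obtain ⟨E, a, b, hE, hma, hmb, hia, hib, -⟩ :=
    Groth.Agent.Lib.H90CommonSub.exists_common_sub G (FlatMod.freeMod Z r) hG hfree U φ
  haveI := hma; haveI := hmb; haveI := hia; haveI := hib
  haveI : E.IsQuasicoherent := hE.1
  let Zc : Closeds Z := ⟨(U : Set Z)ᶜ, U.isOpen.isClosed_compl⟩
  let J : Z.IdealSheafData := Scheme.IdealSheafData.vanishingIdeal Zc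
  have hU : (U : Set Z) = (J.support : Set Z)ᶜ := by
    rw [Scheme.IdealSheafData.coe_support_vanishingIdeal]
    exact (compl_compl _).symm
  have hQc : Coh.IsCoh (cokernel b) := Groth.Agent.Lib.H90OXModExact.isCoh_cokernel b hfree
  have hQs : CohB1.support (cokernel b) ⊆ (U : Set Z)ᶜ :=
    ((Groth.Agent.Lib.H90QCohLocalization.isIso_restrict_map_iff b U).mp hib).2
  obtain ⟨m, hm⟩ := exists_idealMulι_pow_eq_zero J (cokernel b) hQc hU hQs
  obtain ⟨l, hl⟩ := exists_lift_idealMul b (J ^ m) (hm m le_rfl)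
  haveI : Mono l := mono_of_mono_fac hl
  let I : Z.Modules := (Dual3.idealMul (J ^ m)).obj (Coh.structureModule Z)
  let ι : I ⟶ Coh.structureModule Z := Dual3.idealMulι (J ^ m) (Coh.structureModule Z)
  have hIc : Coh.IsCoh I := by
    haveI : (Coh.structureModule Z).IsQuasicoherent :=
      (Groth.Agent.Lib.H90DevHub2.isCoh_structureModule Z).1
    exact Groth.Agent.Lib.H90DevFilt.isCoh_of_mono ι (Groth.Agent.Lib.H90DevHub2.isCoh_structureModule Z)
  haveI : PreservesFiniteBiproducts (Dual3.idealMul (J ^ m)) := inferInstance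
  haveI : PreservesFiniteCoproducts (Dual3.idealMul (J ^ m)) := inferInstance
  let e : (∐ fun _ : Fin r => I) ≅ (Dual3.idealMul (J ^ m)).obj (FlatMod.freeMod Z r) :=
    (PreservesCoproduct.iso (Dual3.idealMul (J ^ m)) (fun _ : Fin r => Coh.structureModule Z)).symm
  have hil : IsIso (R.map l) := by
    have h1 : R.map l ≫ R.map b = R.map (Dual3.idealMulι (J ^ m) (FlatMod.freeMod Z r)) := by
      rw [← R.map_comp, hl]
    haveI : IsIso (R.map (Dual3.idealMulι (J ^ m) (FlatMod.freeMod Z r))) :=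
      isIso_restrict_idealMulι J (FlatMod.freeMod Z r) hU m
    have h2 : R.map l = R.map (Dual3.idealMulι (J ^ m) (FlatMod.freeMod Z r)) ≫ inv (R.map b) := by
      rw [← h1, Category.assoc, IsIso.hom_inv_id, Category.comp_id]
    rw [h2]; infer_instance
  haveI := hil
  have hsum : Coh.IsCoh (∐ fun _ : Fin r => I) :=
    Groth.Agent.Lib.H90CohRestrict.isCoh_of_iso e.symm
      (Groth.Agent.Lib.H90DevFilt.isCoh_of_mono (Dual3.idealMulι (J ^ m) (FlatMod.freeMod Z r)) hfree)
  refine ⟨r, I, ι, e.hom ≫ l ≫ a, inferInstance, hIc, hsum, inferInstance, U, hzU, ?_⟩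
  change IsIso (R.map (e.hom ≫ l ≫ a))
  rw [R.map_comp, R.map_comp]
  infer_instance

end Groth.Agent.Lib.H90DevIdealSum
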