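/-
helper90: Stacks 01YE.  `F` coherent on a Noetherian scheme, `ξ ∈ V(𝓘)` with `𝔪_ξ F_ξ = 0`: there is a coherent submodule `E ⊆ F`
killed by `𝓘` which agrees with `F` near `ξ`.  Consequence: for `i : Z ⟶ X` a closed immersion with `Z` integral there is a
monomorphism `i_*(I^{⊕ r}) ⟶ F` which is an isomorphism near the generic point of `Z`.
-/
import Mathlib
import Groth.Agent.Lib.H90DevIdealSum
import Groth.Agent.Lib.H90SnapGeom

set_option autoImplicit false
set_option linter.style.haveILetI false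
universe u

open CategoryTheory CategoryTheory.Limits AlgebraicGeometry TopologicalSpace Opposite

namespace Groth.Agent.Lib.H90DevKilledSub

open Groth.Agent.Lib.QCohStalk Groth.Agent.Lib.AssPush Groth.Agent.Lib.H90OXModQcqs
  Groth.Agent.Lib.H90OXModSections Groth.Agent.Lib.H90OXModExt Groth.Agent.Lib.H90SubSh
  Groth.Agent.Lib.H90DevSub Scheme.Modules Groth.Agent.Lib.H90ArtinRees Groth.Agent.Lib.H90IdealKill
  Groth.Agent.Lib.ModStalkLin Groth.Agent.Lib.ModStalk Groth.Agent.Lib.H90DevHub2 Groth.Agent.Lib.H90DevTwo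

variable {X : Scheme.{u}}

/-- germs of sections of an ideal sheaf at a point of its support lie in the maximal ideal -/
theorem germ_mem_maximalIdeal (𝓘 : X.IdealSheafData) (V : X.affineOpens) {a : Γ(X, V.1)}
    (ha : a ∈ 𝓘.ideal V) (ξ : X) (hξV : ξ ∈ V.1) (hξ : ξ ∈ 𝓘.support) :
    X.presheaf.germ V.1 ξ hξV a ∈ IsLocalRing.maximalIdeal (X.presheaf.stalk ξ) := by
  rw [IsLocalRing.mem_maximalIdeal, mem_nonunits_iff, ← Scheme.mem_basicOpen]
  have h1 := (Scheme.IdealSheafData.mem_support_iff_of_mem (I := 𝓘) (U := V) hξV).mp hξ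
  rw [Scheme.mem_zeroLocus_iff] at h1
  exact h1 a ha

set_option backward.isDefEq.respectTransparency false in
/-- if `𝔪_ξ F_ξ = 0` and `ξ ∈ V(𝓘)`, then `(𝓘 F)_ξ = 0` -/
theorem notMem_support_idealMul (𝓘 : X.IdealSheafData) (F : X.Modules) [F.IsQuasicoherent] (ξ : X)
    (hξ : ξ ∈ 𝓘.support)
    (hann : ∀ a ∈ IsLocalRing.maximalIdeal (X.presheaf.stalk ξ), ∀ m : ↑(F.presheaf.stalk ξ), a • m = 0) :
    ξ ∉ CohB1.support ((Dual3.idealMul 𝓘).obj F) := by
  rw [notMem_support_iff]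
  have hinj := stalkLin_injective_of_mono (Dual3.idealMulι 𝓘 F) ξ
  refine ⟨fun g₁ g₂ => hinj ?_⟩
  have key : ∀ g : ↑(((Dual3.idealMul 𝓘).obj F).presheaf.stalk ξ), stalkLin (Dual3.idealMulι 𝓘 F) ξ g = 0 := by
    intro g
    obtain ⟨W, hξW, t, rfl⟩ := TopCat.Presheaf.exists_germ_eq ((Dual3.idealMul 𝓘).obj F).presheaf g
    obtain ⟨_, ⟨V, hV, rfl⟩, hξV, hVW⟩ :=
      X.isBasis_affineOpens.exists_subset_of_mem_open hξW W.isOpen
    have hVW' : V ≤ W := hVW
    rw [← TopCat.Presheaf.germ_res_apply ((Dual3.idealMul 𝓘).obj F).presheaf (homOfLE hVW') ξ hξV t,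
      stalkLin_germ]
    set t' : Γ((Dual3.idealMul 𝓘).obj F, V) :=
      ((Dual3.idealMul 𝓘).obj F).presheaf.map (homOfLE hVW').op t with ht'
    have hmem : (Dual3.idealMulι 𝓘 F).app V t' ∈
        𝓘.ideal ⟨V, hV⟩ • (⊤ : Submodule Γ(X, V) Γ(F, V)) :=
      (Groth.Agent.Lib.H90IdealMul.mem_range_idealMulι_iff 𝓘 F ⟨V, hV⟩ _).mp ⟨t', rfl⟩
    refine Submodule.smul_induction_on hmem ?_ ?_
    · intro a ha s _
      rw [germ_smul]
      exact hann _ (germ_mem_maximalIdeal 𝓘 ⟨V, hV⟩ ha ξ hξV hξ) _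
    · intro x y hx hy
      rw [map_add, hx, hy, add_zero]
  rw [key g₁, key g₂]

set_option backward.isDefEq.respectTransparency false in
/-- **A coherent submodule killed by `𝓘` which is everything near `ξ`.** -/
theorem exists_killed_sub [AlgebraicGeometry.IsNoetherian X] (𝓘 : X.IdealSheafData) (F : X.Modules)
    (hF : Coh.IsCoh F) (ξ : X) (hξ : ξ ∈ 𝓘.support)
    (hann : ∀ a ∈ IsLocalRing.maximalIdeal (X.presheaf.stalk ξ), ∀ m : ↑(F.presheaf.stalk ξ), a • m = 0) :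
    ∃ (E : X.Modules) (j : E ⟶ F), Mono j ∧ Coh.IsCoh E ∧ ClSub.KilledByIdeal 𝓘 E ∧
      ∃ W : X.Opens, ξ ∈ W ∧ IsIso ((Scheme.Modules.restrictFunctor W.ι).map j) := by
  haveI : F.IsQuasicoherent := hF.1
  let IF := (Dual3.idealMul 𝓘).obj F
  have hIFc : Coh.IsCoh IF := Groth.Agent.Lib.H90DevFilt.isCoh_of_mono (Dual3.idealMulι 𝓘 F) hF
  have hcl : IsClosed (CohB1.support IF) := isClosed_support_of_isFT _ hIFc.2
  let W : X.Opens := ⟨(CohB1.support IF)ᶜ, hcl.isOpen_compl⟩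
  have hξW : ξ ∈ W := notMem_support_idealMul 𝓘 F ξ hξ hann
  have hsW : CohB1.support IF ⊆ (W : Set X)ᶜ := by
    change CohB1.support IF ⊆ ((CohB1.support IF)ᶜ)ᶜ
    rw [compl_compl]
  obtain ⟨E, j, hj, hE, hiso, htf⟩ := exists_torsionFree_sub F hF W
  haveI := hj
  refine ⟨E, j, hj, hE, ?_, W, hξW, hiso⟩
  intro V a ha m
  apply htf V.1
  apply injective_appLin_of_mono j (V.1 ⊓ W)
  rw [map_zero, appLin_res, _root_.map_smul]
  have hmem : a • appLin j V.1 m ∈ 𝓘.ideal V • (⊤ : Submodule Γ(X, V.1) Γ(F, V.1)) :=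
    Submodule.smul_mem_smul ha trivial
  obtain ⟨t, ht⟩ := (Groth.Agent.Lib.H90IdealMul.mem_range_idealMulι_iff 𝓘 F V _).mpr hmem
  rw [← ht, ← appLin_res,
    eq_zero_of_support_subset_compl hsW (inf_le_right : V.1 ⊓ W ≤ W) (res IF _ t), map_zero]

set_option backward.isDefEq.respectTransparency false in
/-- **Stacks 01YE.** -/
theorem exists_idealSum_push (X Z : Scheme.{u}) [AlgebraicGeometry.IsNoetherian X]
    (i : Z ⟶ X) [IsClosedImmersion i] [IsIntegral Z] (F : X.Modules) (hF : Coh.IsCoh F)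
    (hann : ∀ a ∈ IsLocalRing.maximalIdeal (X.presheaf.stalk (i (genericPoint Z))),
      ∀ m : ↑(F.presheaf.stalk (i (genericPoint Z))), a • m = 0) :
    ∃ (r : ℕ) (I : Z.Modules) (ι : I ⟶ Coh.structureModule Z)
      (φ : (Coh.push i).obj (∐ fun _ : Fin r => I) ⟶ F),
      Mono ι ∧ Coh.IsCoh I ∧ Mono φ ∧
      ∃ U : X.Opens, i (genericPoint Z) ∈ U ∧ IsIso ((Scheme.Modules.restrictFunctor U.ι).map φ) := by
  haveI : IsLocallyNoetherian Z := LocallyOfFiniteType.isLocallyNoetherian i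
  haveI : CompactSpace Z := QuasiCompact.compactSpace_of_compactSpace i
  haveI : AlgebraicGeometry.IsNoetherian Z := { }
  let z := genericPoint Z
  let ξ := i z
  have hind : Topology.IsInducing i.base := i.isEmbedding.isInducing
  have hξ : ξ ∈ i.ker.support := Scheme.Hom.range_subset_ker_support i ⟨z, rfl⟩
  obtain ⟨E, j, hj, hE, hk, W, hξW, hisoj⟩ := exists_killed_sub i.ker F hF ξ hξ hann
  haveI := hj
  obtain ⟨GZ, hGZ, ⟨eG⟩⟩ :=
    Groth.Agent.Lib.ClosedImmersionPush.exists_iso_pushforward_of_killedByIdeal i E hE hk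
  obtain ⟨r, I, ι, ψ, hι, hI, hsum, hψ, U, hzU, hisoψ⟩ :=
    Groth.Agent.Lib.H90DevIdealSum.exists_idealSum_sub GZ hGZ
  haveI := hψ
  haveI : I.IsQuasicoherent := hI.1
  haveI : (∐ fun _ : Fin r => I).IsQuasicoherent := hsum.1
  let Fi := Scheme.Modules.pushforward i
  haveI : Mono (Fi.map ψ) := inferInstance
  let φ : Fi.obj (∐ fun _ : Fin r => I) ⟶ F := Fi.map ψ ≫ eG.hom ≫ j
  haveI : Mono φ := mono_comp _ _
  haveI : (Fi.obj (∐ fun _ : Fin r => I)).IsQuasicoherent :=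
    Groth.Agent.Lib.H90OXModPush.isQuasicoherent_pushforward i _
  have hQc : Coh.IsCoh (cokernel φ) := Groth.Agent.Lib.H90OXModExact.isCoh_cokernel φ hF
  have hcl : IsClosed (CohB1.support (cokernel φ)) := isClosed_support_of_isFT _ hQc.2
  -- surjectivity on the stalk at `ξ`
  have hsurj : Function.Surjective (stalkLin φ ξ) := by
    have h1 : Function.Surjective (stalkLin (Fi.map ψ) ξ) :=
      Groth.Agent.Lib.H90SnapGeom.surjective_stalkLin_pushforward i hind ψ z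
        (surjective_stalkLin_of_isIso_restrict ψ U hisoψ z hzU)
    have h2 : Function.Surjective (stalkLin eG.hom ξ) := (stalkLinEquiv eG ξ).surjective
    have h3 : Function.Surjective (stalkLin j ξ) :=
      surjective_stalkLin_of_isIso_restrict j W hisoj ξ hξW
    have : stalkLin φ ξ = (stalkLin j ξ).comp ((stalkLin eG.hom ξ).comp (stalkLin (Fi.map ψ) ξ)) := by
      rw [← stalkLin_comp, ← stalkLin_comp, Category.assoc]
    rw [this]
    exact h3.comp (h2.comp h1)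
  have hξQ : ξ ∉ CohB1.support (cokernel φ) := by
    rw [notMem_support_iff]
    have hS := stalkLin_exact (shortExact_cokernel φ) ξ
    refine ⟨fun a b => ?_⟩
    have key : ∀ w : ↑((cokernel φ).presheaf.stalk ξ), w = 0 := by
      intro w
      obtain ⟨v, rfl⟩ := hS.2.2 w
      obtain ⟨g, rfl⟩ := hsurj v
      exact (hS.2.1 _).mpr ⟨g, rfl⟩
    rw [key a, key b]
  let U' : X.Opens := ⟨(CohB1.support (cokernel φ))ᶜ, hcl.isOpen_compl⟩
  refine ⟨r, I, ι, φ, hι, hI, inferInstance, U', hξQ, ?_⟩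
  rw [Groth.Agent.Lib.H90QCohLocalization.isIso_restrict_map_iff]
  constructor
  · intro x hx
    exfalso
    rw [mem_support_iff] at hx
    haveI := hx
    have hz : IsZero (kernel φ) := isZero_kernel_of_mono φ
    haveI := subsingleton_stalk_of_isZero hz x
    exact false_of_nontrivial_of_subsingleton ↑((kernel φ).presheaf.stalk x)
  · change CohB1.support (cokernel φ) ⊆ ((CohB1.support (cokernel φ))ᶜ)ᶜ
    rw [compl_compl]

end Groth.Agent.Lib.H90DevKilledSub
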