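/-
helper90: one-sided dévissage on an irreducible closed subset (Stacks 01YL): `P` closed under extensions and roots,
holding for the ideal atoms on proper closed integral subschemes of `Z₀`, and a coherent `G` with `Supp G = Z₀`, `𝔪_ξ G_ξ = 0` such that
every `J·G` (`ξ ∉ V(J)`) contains a quasi-coherent `G'` with `G'_ξ = G_ξ` and `P(G')`.  Then `P` holds for all coherent modules supported in `Z₀`.
-/
import Mathlib
import Groth.Agent.Lib.H90DevKilledSub
import Groth.Agent.Lib.QCohBiprod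

set_option autoImplicit false
set_option linter.style.haveILetI false
universe u

open CategoryTheory CategoryTheory.Limits AlgebraicGeometry TopologicalSpace Opposite

namespace Groth.Agent.Lib.H90DevOneSidedIrr

/-- a functor preserving a coproduct sends a coproduct of maps which become isomorphisms to an isomorphism -/
theorem isIso_map_sigmaMap {C D : Type*} [Category C] [Category D] (R : C ⥤ D) {J : Type*}
    {f g : J → C} [HasCoproduct f] [HasCoproduct g] [HasCoproduct fun j => R.obj (f j)]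
    [HasCoproduct fun j => R.obj (g j)]
    [PreservesColimit (Discrete.functor f) R] [PreservesColimit (Discrete.functor g) R]
    (p : ∀ j, f j ⟶ g j) (h : ∀ j, IsIso (R.map (p j))) : IsIso (R.map (Limits.Sigma.map p)) := by
  have key : sigmaComparison R f ≫ R.map (Limits.Sigma.map p) =
      Limits.Sigma.map (fun j => R.map (p j)) ≫ sigmaComparison R g := by
    apply Limits.Sigma.hom_ext
    intro j
    rw [ι_comp_sigmaComparison_assoc, ← R.map_comp, Limits.Sigma.ι_map, R.map_comp,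
      Limits.Sigma.ι_map_assoc, ι_comp_sigmaComparison]
  haveI : IsIso (Limits.Sigma.map (fun j => R.map (p j))) := by
    refine ⟨Limits.Sigma.map (fun j => inv (R.map (p j))), ?_, ?_⟩
    · apply Limits.Sigma.hom_ext
      intro j
      simp
    · apply Limits.Sigma.hom_ext
      intro j
      simp
  have : R.map (Limits.Sigma.map p) =
      inv (sigmaComparison R f) ≫ Limits.Sigma.map (fun j => R.map (p j)) ≫ sigmaComparison R g := by
    rw [← key, IsIso.inv_hom_id_assoc]
  rw [this]; infer_instance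

open Groth.Agent.Lib.QCohStalk Groth.Agent.Lib.H90OXModSections Groth.Agent.Lib.H90OXModExt
  Groth.Agent.Lib.H90DevAtom Groth.Agent.Lib.H90DevFilt Groth.Agent.Lib.H90DevFiltP
  Groth.Agent.Lib.H90DevCanon Groth.Agent.Lib.H90DevHub Groth.Agent.Lib.H90DevHub2
  Groth.Agent.Lib.ModStalkLin Groth.Agent.Lib.ModStalk Groth.Agent.Lib.H90DevTwo
  Groth.Agent.Lib.H90DevTwo2 Groth.Agent.Lib.PushStalk Groth.Agent.Lib.H90DevGeneric
  Groth.Agent.Lib.H90DevSummand Groth.Agent.Lib.H90IdealKill Groth.Agent.Lib.H90DevKilledSub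
  Groth.Agent.Lib.H90SnapGeom

variable {X : Scheme.{u}}

/-- finite coproducts (indexed by `Fin r`) of quasi-coherent modules are quasi-coherent -/
theorem isQuasicoherent_sigma_fin (M : X.Modules) [M.IsQuasicoherent] (r : ℕ) :
    (∐ fun _ : Fin r => M).IsQuasicoherent := by
  haveI : (∐ fun _ : ULift.{u} (Fin r) => M).IsQuasicoherent :=
    Groth.Agent.Lib.QCohBiprod.isQuasicoherent_sigmaObj _ (fun _ => inferInstance)
  let e : (∐ fun _ : ULift.{u} (Fin r) => M) ≅ ∐ fun _ : Fin r => M :=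
    Limits.Sigma.whiskerEquiv (f := fun _ : ULift.{u} (Fin r) => M) (g := fun _ : Fin r => M)
      Equiv.ulift (fun _ => Iso.refl _)
  exact Groth.Agent.Lib.H90CohRestrict.isQuasicoherent_of_iso e

/-- if `f ≫ g` is surjective on the stalk at `x` and `g` is a monomorphism then `f` is surjective on the stalk -/
theorem surjective_stalkLin_of_comp {A B C : X.Modules} (f : A ⟶ B) (g : B ⟶ C) [Mono g] (x : X)
    (h : Function.Surjective (stalkLin (f ≫ g) x)) : Function.Surjective (stalkLin f x) := by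
  intro v
  obtain ⟨w, hw⟩ := h (stalkLin g x v)
  refine ⟨w, stalkLin_injective_of_mono g x ?_⟩
  rw [← hw, stalkLin_comp]
  rfl

theorem surjective_stalkLin_comp {A B C : X.Modules} (f : A ⟶ B) (g : B ⟶ C) (x : X)
    (hf : Function.Surjective (stalkLin f x)) (hg : Function.Surjective (stalkLin g x)) :
    Function.Surjective (stalkLin (f ≫ g) x) := by
  rw [stalkLin_comp]
  exact hg.comp hf

section Main

variable [AlgebraicGeometry.IsNoetherian X] (Zc : Closeds X) (ξ : X) (P : X.Modules → Prop)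
  (hP : ∀ M N : X.Modules, Nonempty (M ≅ N) → P M → P N)
  (h₀ : ∀ M : X.Modules, IsZero M → P M)
  (h₁ : ∀ S : ShortComplex X.Modules, S.ShortExact → Coh.IsCoh S.X₁ → Coh.IsCoh S.X₂ → Coh.IsCoh S.X₃ →
      P S.X₁ → P S.X₃ → P S.X₂)

include hP h₀ h₁ in
/-- modules supported in `Zc` with zero stalk at the generic point -/
theorem P_of_notMem (hgen : closure {ξ} = (Zc : Set X))
    (h₃ : ∀ (Z : Scheme.{u}) (i : Z ⟶ X), IsClosedImmersion i → IsIntegral Z →
      Set.range ⇑i ⊆ (Zc : Set X) → Set.range ⇑i ≠ (Zc : Set X) →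
      ∀ (I : Z.Modules) (ι : I ⟶ Coh.structureModule Z), Mono ι → Coh.IsQCoh I → P ((Coh.push i).obj I))
    (N : X.Modules) (hN : Coh.IsCoh N) (hsN : CohB1.support N ⊆ (Zc : Set X))
    (hξN : ξ ∉ CohB1.support N) : P N := by
  have J0 : ∀ N : X.Modules, Filt IsAtomC' N → Coh.IsCoh N → CohB1.support N ⊆ (Zc : Set X) →
      ξ ∉ CohB1.support N → P N := by
    intro N hN
    induction hN with
    | zero N h0 => intro _ _ _; exact h₀ N h0
    | step A B f hf hA hAc hB hat ih =>
      intro _ hsB hξB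
      haveI := hf
      haveI : A.IsQuasicoherent := hAc.1
      have hS := shortExact_cokernel f
      have hCc : Coh.IsCoh (cokernel f) := Groth.Agent.Lib.H90OXModExact.isCoh_cokernel f hB
      have hsA : CohB1.support A ⊆ (Zc : Set X) := (support_subset_of_mono f).trans hsB
      have hsC : CohB1.support (cokernel f) ⊆ (Zc : Set X) :=
        (support_subset_of_epi (cokernel.π f)).trans hsB
      have hξA : ξ ∉ CohB1.support A := fun h => hξB (support_subset_of_mono f h)
      have hξC : ξ ∉ CohB1.support (cokernel f) :=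
        fun h => hξB (support_subset_of_epi (cokernel.π f) h)
      have hPA := ih hAc hsA hξA
      have hPC : P (cokernel f) := by
        obtain ⟨Zc', hat'⟩ := hat
        have hsub : (Zc' : Set X) ⊆ (Zc : Set X) := atomC_subset_of_support_subset hat' Zc.isClosed hsC
        have hne : (Zc' : Set X) ≠ (Zc : Set X) := by
          intro heq
          have hgen' : IsGenericPoint ξ (Zc' : Set X) := by rw [heq]; exact hgen
          exact hξC (genericPoint_mem_support_atomC hat' hgen')
        obtain ⟨hirr', I, ι, hι, hI, hI0, ⟨e⟩⟩ := hat'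
        have h := h₃ (ZZ Zc') (iZ Zc') inferInstance (isIntegral_subscheme Zc' hirr')
          (by rw [range_iZ]; exact hsub) (by rw [range_iZ]; exact hne) I ι hι hI
        exact hP _ _ ⟨e.symm⟩ h
      exact h₁ _ hS hAc hB hCc hPA hPC
  exact J0 N (filt_atomC_of_isCoh hN) hN hsN hξN

variable (h₂ : ∀ (F : X.Modules) (r : ℕ), Coh.IsCoh F → 1 ≤ r → P (∐ fun _ : Fin r => F) → P F)

include h₁ h₂ in
set_option backward.isDefEq.respectTransparency false in
set_option maxHeartbeats 1600000 in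
/-- the atoms on `Zc` itself -/
theorem P_atom (hirr : IsIrreducible (Zc : Set X)) (hgen : closure {ξ} = (Zc : Set X))
    (G : X.Modules) (hGc : Coh.IsCoh G) (hGs : CohB1.support G = (Zc : Set X))
    (hann : ∀ a ∈ IsLocalRing.maximalIdeal (X.presheaf.stalk ξ), ∀ m : ↑(G.presheaf.stalk ξ), a • m = 0)
    (h₄ : ∀ J : X.IdealSheafData, ξ ∉ (J.support : Set X) →
        ∃ (G' : X.Modules) (ι' : G' ⟶ (Dual3.idealMul J).obj G), Mono ι' ∧ Coh.IsQCoh G' ∧
          IsIso ((TopCat.Presheaf.stalkFunctor _ ξ).map (ι' ≫ Dual3.idealMulι J G).mapPresheaf) ∧ P G')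
    (IHs : ∀ N : X.Modules, Coh.IsCoh N → CohB1.support N ⊆ (Zc : Set X) → ξ ∉ CohB1.support N → P N)
    (C : X.Modules) (hC : IsAtomC Zc C) : P C := by
  haveI : IsIntegral (ZZ Zc) := isIntegral_subscheme Zc hirr
  haveI : IsLocallyNoetherian (ZZ Zc) := LocallyOfFiniteType.isLocallyNoetherian (iZ Zc)
  haveI : CompactSpace (ZZ Zc) := QuasiCompact.compactSpace_of_compactSpace (iZ Zc)
  haveI : AlgebraicGeometry.IsNoetherian (ZZ Zc) := { }
  haveI : G.IsQuasicoherent := hGc.1
  let i := iZ Zc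
  let Fi := Scheme.Modules.pushforward i
  let z := genericPoint (ZZ Zc)
  have hind : Topology.IsInducing i.base := i.isEmbedding.isInducing
  have hξ : i z = ξ := iZ_genericPoint_eq Zc hgen
  have hξZ : ξ ∈ (Zc : Set X) := by rw [← hgen]; exact subset_closure rfl
  have hξG : ξ ∈ CohB1.support G := by rw [hGs]; exact hξZ
  -- Step 1: a submodule killed by the ideal of `Zc`
  have hξsupp : ξ ∈ (Scheme.IdealSheafData.vanishingIdeal Zc).support := by
    change ξ ∈ ((Scheme.IdealSheafData.vanishingIdeal Zc).support : Set X)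
    rw [Scheme.IdealSheafData.coe_support_vanishingIdeal]; exact hξZ
  obtain ⟨E₀, j, hj, hE₀, hk, W, hξW, hisoj⟩ :=
    exists_killed_sub (Scheme.IdealSheafData.vanishingIdeal Zc) G hGc ξ hξsupp hann
  haveI := hj
  have hk' : ClSub.KilledByIdeal i.ker E₀ := by
    have : i.ker = Scheme.IdealSheafData.vanishingIdeal Zc := Scheme.IdealSheafData.ker_subschemeι _
    rw [this]; exact hk
  obtain ⟨GZ, hGZ, ⟨eG⟩⟩ :=
    Groth.Agent.Lib.ClosedImmersionPush.exists_iso_pushforward_of_killedByIdeal i E₀ hE₀ hk'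
  haveI : GZ.IsFiniteType := hGZ.2
  haveI : GZ.IsQuasicoherent := hGZ.1
  have hjs : Function.Surjective (stalkLin j ξ) := surjective_stalkLin_of_isIso_restrict j W hisoj ξ hξW
  have hzG : z ∈ CohB1.support GZ := by
    rw [← mem_support_pushforward_iff i hind, hξ]
    apply support_subset_of_mono eG.inv
    rw [mem_support_iff] at hξG ⊢
    haveI := hξG
    exact hjs.nontrivial
  -- Step 2: generic freeness and a common submodule on `Z`
  obtain ⟨U, hzU, ⟨eU⟩⟩ := Groth.Agent.Lib.GenericFree.exists_open_free_of_isFT_of_isIntegral GZ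
  set r := Module.finrank ↑((ZZ Zc).presheaf.stalk (genericPoint ↥(ZZ Zc)))
    ↑(GZ.presheaf.stalk (genericPoint ↥(ZZ Zc))) with hr
  have hr0 : r ≠ 0 := by
    intro h0
    rw [h0] at eU
    have hz : IsZero ((Scheme.Modules.restrictFunctor U.ι).obj GZ) :=
      (Groth.Agent.Lib.PerfectLocal.isZero_freeMod_zero _).of_iso eU
    exact (Groth.Agent.Lib.H90QCohLocalization.isZero_restrict_iff GZ U).mp hz hzG hzU
  have hfree : Coh.IsCoh (FlatMod.freeMod (ZZ Zc) r) :=
    Groth.Agent.Lib.H90Invertible.isCoh_of_isFinLocFree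
      (Groth.Agent.Lib.H90Invertible.isFinLocFree_freeMod _ r)
  let φ : (Scheme.Modules.restrictFunctor U.ι).obj GZ ⟶
      (Scheme.Modules.restrictFunctor U.ι).obj (FlatMod.freeMod (ZZ Zc) r) :=
    eU.hom ≫ (Groth.Agent.Lib.FinLocFree.restrictFreeModIso U.ι r).inv
  haveI : IsIso φ := inferInstance
  obtain ⟨E, a, b, hE, hma, hmb, hia, hib, -⟩ :=
    Groth.Agent.Lib.H90CommonSub.exists_common_sub GZ (FlatMod.freeMod (ZZ Zc) r) hGZ hfree U φ
  haveI := hma; haveI := hmb
  haveI : E.IsQuasicoherent := hE.1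
  -- Step 3: the objects on `X`
  have hAc : Coh.IsCoh (Fi.obj E) := Groth.Agent.Lib.H90OXModPushFinite.isCoh_pushforward i E hE
  haveI : (Fi.obj E).IsQuasicoherent := hAc.1
  haveI : Mono (Fi.map a) := inferInstance
  haveI : Mono (Fi.map b) := inferInstance
  let α : Fi.obj E ⟶ G := Fi.map a ≫ eG.hom ≫ j
  haveI : Mono α := mono_comp _ _
  let eB : Fi.obj (FlatMod.freeMod (ZZ Zc) r) ≅ ∐ fun _ : Fin r => hub Zc :=
    PreservesCoproduct.iso Fi (fun _ : Fin r => Coh.structureModule (ZZ Zc))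
  have hBc : Coh.IsCoh (∐ fun _ : Fin r => hub Zc) :=
    Groth.Agent.Lib.H90CohRestrict.isCoh_of_iso eB
      (Groth.Agent.Lib.H90OXModPushFinite.isCoh_pushforward i _ hfree)
  haveI : (∐ fun _ : Fin r => hub Zc).IsQuasicoherent := hBc.1
  let β : Fi.obj E ⟶ ∐ fun _ : Fin r => hub Zc := Fi.map b ≫ eB.hom
  haveI : Mono β := mono_comp _ _
  obtain ⟨p, hp⟩ := exists_mono_hub hC
  haveI := hp
  haveI : C.IsQuasicoherent := isQuasicoherent_of_isAtom hC.isAtom
  have hCc : Coh.IsCoh C := Groth.Agent.Lib.H90DevFilt.isCoh_of_mono p (isCoh_hub Zc)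
  let γ : (∐ fun _ : Fin r => C) ⟶ ∐ fun _ : Fin r => hub Zc := Limits.Sigma.map (fun _ => p)
  haveI : Mono γ := by
    haveI : HasFiniteBiproducts X.Modules := HasFiniteBiproducts.of_hasFiniteProducts
    haveI : HasBiproduct (fun _ : Fin r => C) := HasBiproductsOfShape.has_biproduct _
    haveI : HasBiproduct (fun _ : Fin r => hub Zc) := HasBiproductsOfShape.has_biproduct _
    exact Limits.Sigma.map_mono (fun _ : Fin r => p)
  haveI : (∐ fun _ : Fin r => C).IsQuasicoherent := isQuasicoherent_sigma_fin C r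
  have hCrc : Coh.IsCoh (∐ fun _ : Fin r => C) := Groth.Agent.Lib.H90DevFilt.isCoh_of_mono γ hBc
  -- stalk surjectivity at `ξ`
  have hαs : Function.Surjective (stalkLin α ξ) := by
    refine surjective_stalkLin_comp _ _ ξ ?_ (surjective_stalkLin_comp _ _ ξ ?_ hjs)
    · rw [← hξ]
      exact surjective_stalkLin_pushforward i hind a z
        (surjective_stalkLin_of_isIso_restrict a U hia z hzU)
    · exact (stalkLinEquiv eG ξ).surjective
  have hβs : Function.Surjective (stalkLin β ξ) := by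
    refine surjective_stalkLin_comp _ _ ξ ?_ (stalkLinEquiv eB ξ).surjective
    rw [← hξ]
    exact surjective_stalkLin_pushforward i hind b z
      (surjective_stalkLin_of_isIso_restrict b U hib z hzU)
  have hγs : Function.Surjective (stalkLin γ ξ) := by
    have hQp : Coh.IsCoh (cokernel p) := Groth.Agent.Lib.H90OXModExact.isCoh_cokernel p (isCoh_hub Zc)
    have hclp : IsClosed (CohB1.support (cokernel p)) := isClosed_support_of_isFT _ hQp.2
    let Up : X.Opens := ⟨(CohB1.support (cokernel p))ᶜ, hclp.isOpen_compl⟩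
    have hξUp : ξ ∈ Up := notMem_support_cokernel_hub hirr hgen p (not_isZero_of_isAtom hC.isAtom)
    have hpiso : IsIso ((Scheme.Modules.restrictFunctor Up.ι).map p) :=
      isIso_restrict_of_mono_of_surjective p Up fun x hx =>
        surjective_stalkLin_of_notMem_support_cokernel p x hx
    have hγiso : IsIso ((Scheme.Modules.restrictFunctor Up.ι).map γ) :=
      isIso_map_sigmaMap (Scheme.Modules.restrictFunctor Up.ι) (fun _ : Fin r => p) (fun _ => hpiso)
    exact surjective_stalkLin_of_isIso_restrict γ Up hγiso ξ hξUp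
  -- Step 4: a common submodule `D = J₀^m · B` of `A` and `C^r`
  have hQβc : Coh.IsCoh (cokernel β) := Groth.Agent.Lib.H90OXModExact.isCoh_cokernel β hBc
  have hQγc : Coh.IsCoh (cokernel γ) := Groth.Agent.Lib.H90OXModExact.isCoh_cokernel γ hBc
  have hξβ : ξ ∉ CohB1.support (cokernel β) := notMem_support_cokernel_of_surjective β ξ hβs
  have hξγ : ξ ∉ CohB1.support (cokernel γ) := notMem_support_cokernel_of_surjective γ ξ hγs
  let Tc : Closeds X := ⟨CohB1.support (cokernel β) ∪ CohB1.support (cokernel γ),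
    (isClosed_support_of_isFT _ hQβc.2).union (isClosed_support_of_isFT _ hQγc.2)⟩
  let J₀ : X.IdealSheafData := Scheme.IdealSheafData.vanishingIdeal Tc
  let U₀ : X.Opens := Tc.compl
  have hU₀ : (U₀ : Set X) = (J₀.support : Set X)ᶜ := by
    rw [Scheme.IdealSheafData.coe_support_vanishingIdeal]; rfl
  have hξU₀ : ξ ∈ U₀ := fun h => h.elim hξβ hξγ
  obtain ⟨m₁, hm₁⟩ := exists_idealMulι_pow_eq_zero J₀ (cokernel β) hQβc hU₀
    (fun x hx hxU => hxU (Or.inl hx))
  obtain ⟨m₂, hm₂⟩ := exists_idealMulι_pow_eq_zero J₀ (cokernel γ) hQγc hU₀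
    (fun x hx hxU => hxU (Or.inr hx))
  set m := max m₁ m₂ with hm
  obtain ⟨lβ, hlβ⟩ := exists_lift_idealMul β (J₀ ^ m) (hm₁ m (le_max_left _ _))
  obtain ⟨lγ, hlγ⟩ := exists_lift_idealMul γ (J₀ ^ m) (hm₂ m (le_max_right _ _))
  haveI : Mono lβ := mono_of_mono_fac hlβ
  haveI : Mono lγ := mono_of_mono_fac hlγ
  have hδs : Function.Surjective (stalkLin (Dual3.idealMulι (J₀ ^ m) (∐ fun _ : Fin r => hub Zc)) ξ) :=
    surjective_stalkLin_idealMulι J₀ _ hU₀ m ξ hξU₀
  have hlβs : Function.Surjective (stalkLin lβ ξ) :=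
    surjective_stalkLin_of_comp lβ β ξ (by rw [hlβ]; exact hδs)
  have hlγs : Function.Surjective (stalkLin lγ ξ) :=
    surjective_stalkLin_of_comp lγ γ ξ (by rw [hlγ]; exact hδs)
  -- `D ⟶ G`
  let dG : (Dual3.idealMul (J₀ ^ m)).obj (∐ fun _ : Fin r => hub Zc) ⟶ G := lβ ≫ α
  haveI : Mono dG := mono_comp _ _
  have hdGs : Function.Surjective (stalkLin dG ξ) := surjective_stalkLin_comp _ _ ξ hlβs hαs
  have hQDc : Coh.IsCoh (cokernel dG) := Groth.Agent.Lib.H90OXModExact.isCoh_cokernel dG hGc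
  have hξD : ξ ∉ CohB1.support (cokernel dG) := notMem_support_cokernel_of_surjective dG ξ hdGs
  let T₁ : Closeds X := ⟨CohB1.support (cokernel dG), isClosed_support_of_isFT _ hQDc.2⟩
  let J₁ : X.IdealSheafData := Scheme.IdealSheafData.vanishingIdeal T₁
  let U₁ : X.Opens := T₁.compl
  have hU₁ : (U₁ : Set X) = (J₁.support : Set X)ᶜ := by
    rw [Scheme.IdealSheafData.coe_support_vanishingIdeal]; rfl
  obtain ⟨m', hm'⟩ := exists_idealMulι_pow_eq_zero J₁ (cokernel dG) hQDc hU₁
    (fun x hx hxU => hxU hx)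
  obtain ⟨lG, hlG⟩ := exists_lift_idealMul dG (J₁ ^ (m' + 1)) (hm' (m' + 1) (Nat.le_succ _))
  haveI : Mono lG := mono_of_mono_fac hlG
  have hξJ : ξ ∉ ((J₁ ^ (m' + 1)).support : Set X) := by
    rw [Scheme.IdealSheafData.support_pow_succ, Scheme.IdealSheafData.coe_support_vanishingIdeal]
    exact hξD
  -- Step 5: the module `G'`
  obtain ⟨G', ι', hι', hG'q, hiso', hPG'⟩ := h₄ (J₁ ^ (m' + 1)) hξJ
  haveI := hι'
  haveI : G'.IsQuasicoherent := hG'q
  have hι's : Function.Surjective (stalkLin (ι' ≫ Dual3.idealMulι (J₁ ^ (m' + 1)) G) ξ) := by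
    haveI := hiso'
    have : Epi ((Groth.Agent.Lib.ModStalk.stalkFunctor ξ).map (ι' ≫ Dual3.idealMulι (J₁ ^ (m' + 1)) G)) := by
      rw [Groth.Agent.Lib.ModStalk.stalkFunctor_map]; infer_instance
    exact (AddCommGrpCat.epi_iff_surjective _).mp this
  have hι'lG : Function.Surjective (stalkLin (ι' ≫ lG) ξ) := by
    apply surjective_stalkLin_of_comp (ι' ≫ lG) dG ξ
    rw [Category.assoc, hlG]
    exact hι's
  let θ : G' ⟶ ∐ fun _ : Fin r => C := ι' ≫ lG ≫ lγ
  haveI : Mono θ := mono_comp _ _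
  have hθs : Function.Surjective (stalkLin θ ξ) := by
    have : θ = (ι' ≫ lG) ≫ lγ := by simp [θ]
    rw [this]
    exact surjective_stalkLin_comp _ _ ξ hι'lG hlγs
  have hQθc : Coh.IsCoh (cokernel θ) := Groth.Agent.Lib.H90OXModExact.isCoh_cokernel θ hCrc
  have hξθ : ξ ∉ CohB1.support (cokernel θ) := notMem_support_cokernel_of_surjective θ ξ hθs
  have hsθ : CohB1.support (cokernel θ) ⊆ (Zc : Set X) := by
    refine (support_subset_of_epi (cokernel.π θ)).trans ((support_subset_of_mono γ).trans ?_)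
    refine (support_subset_of_mono eB.inv).trans ?_
    rw [← range_iZ Zc]
    exact support_push_subset i _
  have hPQ : P (cokernel θ) := IHs _ hQθc hsθ hξθ
  have hG'c : Coh.IsCoh G' := Groth.Agent.Lib.H90DevFilt.isCoh_of_mono θ hCrc
  have hPCr : P (∐ fun _ : Fin r => C) :=
    h₁ _ (shortExact_cokernel θ) hG'c hCrc hQθc hPG' hPQ
  exact h₂ C r hCc (Nat.one_le_iff_ne_zero.mpr hr0) hPCr

end Main

set_option backward.isDefEq.respectTransparency false in
/-- **One-sided dévissage on an irreducible closed subset** (Stacks 01YL). -/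
theorem devissage_one_sided_irreducible (X : Scheme.{u}) [AlgebraicGeometry.IsNoetherian X]
    (Z₀ : Set X) (hZ₀ : IsClosed Z₀) (hirr : IsIrreducible Z₀) (ξ : X) (hξ : ξ ∈ Z₀ ∧ closure {ξ} = Z₀)
    (P : X.Modules → Prop) (hP : ∀ M N : X.Modules, Nonempty (M ≅ N) → P M → P N)
    (h₀ : ∀ M : X.Modules, IsZero M → P M)
    (h₁ : ∀ S : ShortComplex X.Modules, S.ShortExact → Coh.IsCoh S.X₁ → Coh.IsCoh S.X₂ → Coh.IsCoh S.X₃ →
      P S.X₁ → P S.X₃ → P S.X₂)
    (h₂ : ∀ (F : X.Modules) (r : ℕ), Coh.IsCoh F → 1 ≤ r → P (∐ fun _ : Fin r => F) → P F)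
    (h₃ : ∀ (Z : Scheme.{u}) (i : Z ⟶ X), IsClosedImmersion i → IsIntegral Z →
      Set.range ⇑i ⊆ Z₀ → Set.range ⇑i ≠ Z₀ →
      ∀ (I : Z.Modules) (ι : I ⟶ Coh.structureModule Z), Mono ι → Coh.IsQCoh I → P ((Coh.push i).obj I))
    (h₄ : ∃ G : X.Modules, Coh.IsCoh G ∧ CohB1.support G = Z₀ ∧
      (∀ a ∈ IsLocalRing.maximalIdeal (X.presheaf.stalk ξ), ∀ m : ↑(G.presheaf.stalk ξ), a • m = 0) ∧
      ∀ J : X.IdealSheafData, ξ ∉ (J.support : Set X) →
        ∃ (G' : X.Modules) (ι' : G' ⟶ (Dual3.idealMul J).obj G), Mono ι' ∧ Coh.IsQCoh G' ∧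
          IsIso ((TopCat.Presheaf.stalkFunctor _ ξ).map (ι' ≫ Dual3.idealMulι J G).mapPresheaf) ∧ P G')
    (F : X.Modules) (hF : Coh.IsCoh F) (hsupp : CohB1.support F ⊆ Z₀) : P F := by
  classical
  let Zc : Closeds X := ⟨Z₀, hZ₀⟩
  have hgen : closure {ξ} = (Zc : Set X) := hξ.2
  have hgen' : IsGenericPoint ξ (Zc : Set X) := hgen
  have hirrc : IsIrreducible (Zc : Set X) := hirr
  obtain ⟨G, hGc, hGs, hann, h₄'⟩ := h₄
  have IHs : ∀ N : X.Modules, Coh.IsCoh N → CohB1.support N ⊆ (Zc : Set X) → ξ ∉ CohB1.support N → P N :=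
    fun N hN hsN hξN => P_of_notMem Zc ξ P hP h₀ h₁ hgen h₃ N hN hsN hξN
  have main : ∀ M : X.Modules, Filt IsAtomC' M → Coh.IsCoh M → CohB1.support M ⊆ (Zc : Set X) → P M := by
    intro M hM
    induction hM with
    | zero N h0 => intro _ _; exact h₀ N h0
    | step A B f hf hA hAc hB hat ih =>
      intro _ hsB
      haveI := hf
      haveI : A.IsQuasicoherent := hAc.1
      have hS := shortExact_cokernel f
      have hCc : Coh.IsCoh (cokernel f) := Groth.Agent.Lib.H90OXModExact.isCoh_cokernel f hB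
      have hsA : CohB1.support A ⊆ (Zc : Set X) := (support_subset_of_mono f).trans hsB
      have hsC : CohB1.support (cokernel f) ⊆ (Zc : Set X) :=
        (support_subset_of_epi (cokernel.π f)).trans hsB
      have hPA := ih hAc hsA
      have hPC : P (cokernel f) := by
        by_cases hξC : ξ ∈ CohB1.support (cokernel f)
        · obtain ⟨Zc', hat'⟩ := hat
          have hZ : Zc' = Zc := atomC_eq_of_mem_support hat' hgen' hsC hξC
          rw [hZ] at hat'
          exact P_atom Zc ξ P h₁ h₂ hirrc hgen G hGc hGs hann h₄' IHs _ hat'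
        · exact IHs _ hCc hsC hξC
      exact h₁ _ hS hAc hB hCc hPA hPC
  exact main F (filt_atomC_of_isCoh hF) hF hsupp

end Groth.Agent.Lib.H90DevOneSidedIrr
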