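/-
helper90: global one-sided dévissage (Stacks 01YM): on a Noetherian scheme `X`, a property `P` of coherent modules closed under
extensions and roots holds for all coherent modules as soon as for every point `ξ` there is a coherent `G` with
`Supp G = closure {ξ}`, `𝔪_ξ G_ξ = 0` such that every `J·G` (`ξ ∉ V(J)`) contains a quasi-coherent `G'` with `G'_ξ = G_ξ` and `P(G')`.
-/
import Mathlib
import Groth.Agent.Lib.H90DevOneSidedIrr

set_option autoImplicit false
set_option linter.style.haveILetI false
universe u

open CategoryTheory CategoryTheory.Limits AlgebraicGeometry TopologicalSpace Opposite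

namespace Groth.Agent.Lib.H90DevOneSidedGlobal

open Groth.Agent.Lib.H90DevAtom Groth.Agent.Lib.H90DevFilt Groth.Agent.Lib.H90DevFiltP
  Groth.Agent.Lib.H90DevCanon Groth.Agent.Lib.H90DevHub Groth.Agent.Lib.H90DevHub2
  Groth.Agent.Lib.ModStalkLin Groth.Agent.Lib.ModStalk Groth.Agent.Lib.H90DevTwo
  Groth.Agent.Lib.H90DevTwo2 Groth.Agent.Lib.H90DevOneSidedIrr

set_option backward.isDefEq.respectTransparency false in
/-- **Global one-sided dévissage** (Stacks 01YM). -/
theorem devissage_one_sided_global (X : Scheme.{u}) [AlgebraicGeometry.IsNoetherian X]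
    (P : X.Modules → Prop) (hP : ∀ M N : X.Modules, Nonempty (M ≅ N) → P M → P N)
    (h₀ : ∀ M : X.Modules, IsZero M → P M)
    (h₁ : ∀ S : ShortComplex X.Modules, S.ShortExact → Coh.IsCoh S.X₁ → Coh.IsCoh S.X₂ → Coh.IsCoh S.X₃ →
      P S.X₁ → P S.X₃ → P S.X₂)
    (h₂ : ∀ (F : X.Modules) (r : ℕ), Coh.IsCoh F → 1 ≤ r → P (∐ fun _ : Fin r => F) → P F)
    (h₄ : ∀ ξ : X, ∃ G : X.Modules, Coh.IsCoh G ∧ CohB1.support G = closure {ξ} ∧
      (∀ a ∈ IsLocalRing.maximalIdeal (X.presheaf.stalk ξ), ∀ m : ↑(G.presheaf.stalk ξ), a • m = 0) ∧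
      ∀ J : X.IdealSheafData, ξ ∉ (J.support : Set X) →
        ∃ (G' : X.Modules) (ι' : G' ⟶ (Dual3.idealMul J).obj G), Mono ι' ∧ Coh.IsQCoh G' ∧
          IsIso ((TopCat.Presheaf.stalkFunctor _ ξ).map (ι' ≫ Dual3.idealMulι J G).mapPresheaf) ∧ P G')
    (M : X.Modules) (hM : Coh.IsCoh M) : P M := by
  classical
  -- Noetherian induction on the support
  have key : ∀ T : Closeds X, ∀ M : X.Modules, Coh.IsCoh M → CohB1.support M ⊆ (T : Set X) → P M := by
    intro T
    induction T using WellFoundedLT.induction with
    | ind T IH =>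
      intro M hM hsM
      have hfilt := filt_atomC_of_isCoh hM
      induction hfilt with
      | zero N h0 => exact h₀ N h0
      | step A B f hf hA hAc hB hat ih =>
        haveI := hf
        haveI : A.IsQuasicoherent := hAc.1
        have hS := shortExact_cokernel f
        have hCc : Coh.IsCoh (cokernel f) := Groth.Agent.Lib.H90OXModExact.isCoh_cokernel f hB
        have hsA : CohB1.support A ⊆ (T : Set X) := (support_subset_of_mono f).trans hsM
        have hsC : CohB1.support (cokernel f) ⊆ (T : Set X) :=
          (support_subset_of_epi (cokernel.π f)).trans hsM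
        have hPA := ih hAc hsA
        have hPC : P (cokernel f) := by
          obtain ⟨Zc', hat'⟩ := hat
          have hle : Zc' ≤ T := atomC_subset_of_support_subset hat' T.isClosed hsC
          rcases hle.lt_or_eq with hlt | heq
          · exact IH Zc' hlt _ hCc (support_atomC_subset hat')
          · -- `T` is irreducible: apply the irreducible dévissage
            subst heq
            have hirr : IsIrreducible (Zc' : Set X) := hat'.1
            haveI := isIntegral_subscheme Zc' hirr
            have hcl := isGenericPoint_image_genericPoint (iZ Zc')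
            rw [range_iZ] at hcl
            obtain ⟨G, hGc, hGs, hGk, hG'⟩ := h₄ ((iZ Zc') (genericPoint (ZZ Zc')))
            rw [hcl] at hGs
            refine devissage_one_sided_irreducible X (Zc' : Set X) Zc'.isClosed hirr
              ((iZ Zc') (genericPoint (ZZ Zc'))) ⟨?_, hcl⟩ P hP h₀ h₁ h₂ ?_ ⟨G, hGc, hGs, hGk, hG'⟩ _ hCc hsC
            · rw [← range_iZ Zc']; exact ⟨_, rfl⟩
            · intro Z i hi hZ hsub hne I ι hι hI
              haveI := hi
              haveI := hι
              have hlt : (⟨Set.range ⇑i, i.isClosedEmbedding.isClosed_range⟩ : Closeds X) < Zc' :=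
                lt_of_le_of_ne hsub (fun h => hne (congrArg (fun W : Closeds X => (W : Set X)) h))
              exact IH _ hlt _ (isCoh_push_ideal i I ι hI) (support_push_subset i I)
        exact h₁ _ hS hAc hB hCc hPA hPC
  exact key ⊤ M hM (Set.subset_univ _)

end Groth.Agent.Lib.H90DevOneSidedGlobal
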