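/-
helper90: Chevalley's theorem, cohomological core (Stacks 01YQ): for `f : Y ⟶ X` finite surjective with `Y` affine and `X` Noetherian,
`H¹(X, F) = 0` for every coherent `F`.
-/
import Mathlib
import Groth.Agent.Lib.H90DevOneSidedGlobal
import Groth.Agent.Lib.H90FiniteSurjHub
import Groth.Agent.Lib.H59AffStratCoh3
import Groth.Agent.Lib.CohLESExact
import Groth.Agent.S9523

set_option autoImplicit false
set_option linter.style.haveILetI false
universe u

open CategoryTheory CategoryTheory.Limits AlgebraicGeometry TopologicalSpace Opposite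

namespace Groth.Agent.Lib.H90Chevalley

open Groth.Agent.Lib.ModStalkLin Groth.Agent.Lib.ModStalk Groth.Agent.Lib.CohLES

variable {X : Scheme.{u}}

theorem subsingleton_HH_of_isZero {M : X.Modules} (h : IsZero M) (n : ℕ) : Subsingleton (Coh.HH X M n) := by
  refine ⟨fun a b => ?_⟩
  have h1 : ∀ x : Coh.HH X M n, x = 0 := by
    intro x
    rw [← map_id M n x, h.eq_of_src (𝟙 M) 0, map_zero']
  rw [h1 a, h1 b]

/-- a retract has vanishing cohomology if the ambient module has -/
theorem subsingleton_HH_of_retract {M N : X.Modules} (ι : M ⟶ N) (π : N ⟶ M) (h : ι ≫ π = 𝟙 M) (n : ℕ)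
    [Subsingleton (Coh.HH X N n)] : Subsingleton (Coh.HH X M n) := by
  refine ⟨fun a b => ?_⟩
  have h1 : ∀ x : Coh.HH X M n, x = map π n (map ι n x) := by
    intro x
    rw [← map_comp, h, map_id]
  rw [h1 a, h1 b, Subsingleton.elim (map ι n a) (map ι n b)]

set_option backward.isDefEq.respectTransparency false in
/-- **Chevalley's theorem, cohomological form**: `H¹` of coherent modules vanishes on a Noetherian scheme which is the
target of a finite surjective morphism from an affine scheme. -/
theorem subsingleton_HH_one {Y : Scheme.{u}} (f : Y ⟶ X) [IsFinite f] [Surjective f] [IsAffine Y]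
    [AlgebraicGeometry.IsNoetherian X] (F : X.Modules) (hF : Coh.IsCoh F) :
    Subsingleton (Coh.HH X F 1) := by
  classical
  refine Groth.Agent.Lib.H90DevOneSidedGlobal.devissage_one_sided_global X
    (fun M => Subsingleton (Coh.HH X M 1)) ?_ ?_ ?_ ?_ ?_ F hF
  · rintro M N ⟨e⟩ hM
    haveI := hM
    exact subsingleton_of_iso e.symm 1
  · intro M hM
    exact subsingleton_HH_of_isZero hM 1
  · intro S hS _ _ _ h1 h3
    haveI := h1
    haveI := h3
    exact Groth.Agent.Lib.CohLES.subsingleton_mid hS 1
  · intro F r _ hr hF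
    haveI := hF
    exact subsingleton_HH_of_retract (Sigma.ι (fun _ : Fin r => F) ⟨0, hr⟩)
      (Sigma.desc (fun _ => 𝟙 F)) (by simp) 1
  · intro ξ
    obtain ⟨F₀, hF₀, hs, hk⟩ := Groth.Agent.Lib.H90FiniteSurjHub.exists_coherent_pushforward f ξ
    haveI : F₀.IsQuasicoherent := hF₀.1
    have hGc : Coh.IsCoh ((Scheme.Modules.pushforward f).obj F₀) :=
      Groth.Agent.Lib.H90OXModPushFinite.isCoh_pushforward f F₀ hF₀
    haveI : ((Scheme.Modules.pushforward f).obj F₀).IsQuasicoherent := hGc.1
    refine ⟨(Scheme.Modules.pushforward f).obj F₀, hGc, hs, hk, ?_⟩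
    intro J hξJ
    refine ⟨(Dual3.idealMul J).obj ((Scheme.Modules.pushforward f).obj F₀), 𝟙 _, inferInstance,
      inferInstance, ?_, ?_⟩
    · rw [Category.id_comp]
      let U : X.Opens := ⟨(J.support : Set X)ᶜ, J.support.isClosed.isOpen_compl⟩
      have hsurj := Groth.Agent.Lib.H90IdealKill.surjective_stalkLin_idealMulι J
        ((Scheme.Modules.pushforward f).obj F₀) (U := U) rfl 1 ξ hξJ
      rw [pow_one] at hsurj
      have hinj := stalkLin_injective_of_mono
        (Dual3.idealMulι J ((Scheme.Modules.pushforward f).obj F₀)) ξ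
      exact (ConcreteCategory.isIso_iff_bijective _).mpr ⟨hinj, hsurj⟩
    · obtain ⟨e, -⟩ := Groth.Agent.S9523.result f F₀ hF₀.1 J
      haveI : Subsingleton (Coh.HH X ((Scheme.Modules.pushforward f).obj
          ((Dual3.idealMul (J.comap f)).obj F₀)) 1) :=
        Groth.Agent.Lib.H59AffStratCoh.subsingleton_HH_pushforward_of_isAffine f _
          (Groth.Agent.Lib.H90ArtinRees.isQuasicoherent_idealMul (J.comap f) F₀) 0
      exact subsingleton_of_iso e 1

end Groth.Agent.Lib.H90Chevalley
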