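import Mathlib

/-!
# Chow's lemma, part 1: scheme-theoretic closure of a section over an open (helper90, ProperFin P2)

Setting: `g : Y ⟶ X` separated, `U : X.Opens` with `↑U` reduced, `h : ↑U ⟶ Y` quasi-compact with
`h ≫ g = U.ι`.  Let `X' = h.image` (scheme-theoretic image), `π = h.imageι ≫ g`.  Then `π` is an
isomorphism over `U` (with inverse induced by `h.toImage`).  Also: density tools.
-/

set_option autoImplicit false
universe u
open CategoryTheory CategoryTheory.Limits AlgebraicGeometry TopologicalSpace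

namespace Groth.Agent.Lib.H90Chow

/-- the scheme-theoretic image of a quasi-compact morphism from a reduced scheme is reduced -/
theorem isReduced_image {Z Y : Scheme.{u}} (h : Z ⟶ Y) [QuasiCompact h] [IsReduced Z] :
    IsReduced h.image := by
  refine ⟨fun V => ⟨fun s hs => ?_⟩⟩
  refine h.image.IsSheaf.section_ext fun x hx => ?_
  -- `V = ι'⁻¹ V₀`
  obtain ⟨V₀, hV₀o, hV₀⟩ := h.imageι.isEmbedding.isInducing.isOpen_iff.mp V.isOpen
  have hx₀ : h.imageι x ∈ V₀ := by
    have : x ∈ h.imageι ⁻¹' V₀ := by rw [hV₀]; exact hx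
    exact this
  obtain ⟨_, ⟨W, hW, rfl⟩, hxW, hWV : (W : Set Y) ⊆ V₀⟩ :=
    Y.isBasis_affineOpens.exists_subset_of_mem_open hx₀ hV₀o
  have hle : h.imageι ⁻¹ᵁ W ≤ V := by
    intro y hy
    have : y ∈ h.imageι ⁻¹' V₀ := hWV hy
    rw [hV₀] at this
    exact this
  refine ⟨h.imageι ⁻¹ᵁ W, hle, hxW, ?_⟩
  have hinj := h.toImage_app_injective ⟨W, hW⟩
  apply hinj
  rw [map_zero, map_zero]
  have hnil : IsNilpotent (h.toImage.app (h.imageι ⁻¹ᵁ W) (h.image.presheaf.map (homOfLE hle).op s)) :=
    (hs.map _).map _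
  exact hnil.eq_zero

/-- the lift of a dominant morphism into an open containing its range is dominant -/
theorem isDominant_lift {W X : Scheme.{u}} (f : W ⟶ X) [IsDominant f] (T : X.Opens)
    (f' : W ⟶ T.toScheme) (hf' : f' ≫ T.ι = f) : IsDominant f' := by
  refine ⟨?_⟩
  have h1 : Dense (T.ι ⁻¹' Set.range f) := f.denseRange.preimage T.ι.isOpenEmbedding.isOpenMap
  have h2 : T.ι ⁻¹' Set.range f = Set.range f' := by
    ext y
    constructor
    · rintro ⟨w, hw⟩
      refine ⟨w, T.ι.isOpenEmbedding.injective ?_⟩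
      rw [← Scheme.Hom.comp_apply, hf', hw]
    · rintro ⟨w, rfl⟩
      exact ⟨w, by rw [← hf']; rfl⟩
  rw [h2] at h1
  exact h1

section Closure

variable {X Y : Scheme.{u}} (g : Y ⟶ X) [IsSeparated g] (U : X.Opens)
  [IsReduced U.toScheme] (h : U.toScheme ⟶ Y) [QuasiCompact h] (hg : h ≫ g = U.ι)

/-- the projection from the closure -/
noncomputable abbrev cπ : h.image ⟶ X := h.imageι ≫ g

include hg in
theorem toImage_cπ : h.toImage ≫ cπ g U h = U.ι := by
  rw [← Category.assoc, Scheme.Hom.toImage_imageι, hg]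

include hg in
/-- **The closure of a section over `U` is isomorphic to `U` over `U`.** -/
theorem isIso_cπ_restrict : IsIso (cπ g U h ∣_ U) := by
  haveI := isReduced_image h
  set π := cπ g U h with hπ
  have h1 : h.toImage ≫ π = U.ι := toImage_cπ g U h hg
  let T : h.image.Opens := π ⁻¹ᵁ U
  have hsub : Set.range h.toImage ⊆ Set.range T.ι := by
    rw [Scheme.Opens.range_ι]
    rintro _ ⟨u, rfl⟩
    change π (h.toImage u) ∈ U
    rw [← Scheme.Hom.comp_apply, h1]
    exact u.2
  let θ' : U.toScheme ⟶ T.toScheme := IsOpenImmersion.lift T.ι h.toImage hsub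
  have hθ' : θ' ≫ T.ι = h.toImage := IsOpenImmersion.lift_fac _ _ _
  haveI : IsDominant θ' := isDominant_lift h.toImage T θ' hθ'
  have h2 : θ' ≫ (π ∣_ U) = 𝟙 _ := by
    rw [← cancel_mono U.ι, Category.assoc, morphismRestrict_ι, ← Category.assoc, hθ', h1,
      Category.id_comp]
  have h3 : T.ι ≫ h.imageι = (π ∣_ U) ≫ h := by
    refine ext_of_isDominant_of_isSeparated g ?_ θ' ?_
    · rw [Category.assoc, Category.assoc, hg, morphismRestrict_ι]
    · rw [← Category.assoc, hθ', Scheme.Hom.toImage_imageι, ← Category.assoc, h2, Category.id_comp]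
  have h4 : (π ∣_ U) ≫ θ' = 𝟙 _ := by
    rw [← cancel_mono (T.ι ≫ h.imageι), Category.assoc, ← Category.assoc θ', hθ',
      Scheme.Hom.toImage_imageι, Category.id_comp, h3]
  exact ⟨θ', h4, h2⟩

end Closure

end Groth.Agent.Lib.H90Chow
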