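import Groth.Agent.Lib.H90Chow
import Groth.Agent.Lib.ProjProd

/-!
# Chow's lemma, part 2: the core construction (helper90, ProperFin P2)

Abstract setting (`ChowData`): `f : X ⟶ S` separated, `X` reduced, a finite family of opens `Uo i` covering `X`
with open immersions `t i : Uo i ⟶ P i` over `S` into separated `S`-schemes `P i`, `D` a finite product of the `P i`
over `S`.  `U = ⨅ Uo i`, `h : U ⟶ X ×_S D.pt` the graph, `X' = ` scheme-theoretic image of `h`,
`π : X' ⟶ X`, `φ : X' ⟶ D.pt`.  Then `π` is an isomorphism over `U` and `φ` is a closed immersion when `f` is proper.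
-/

set_option autoImplicit false
universe u
open CategoryTheory CategoryTheory.Limits AlgebraicGeometry TopologicalSpace
open Groth.Agent.Lib.ProjProd

namespace Groth.Agent.Lib.H90Chow

/-- the data for the Chow construction -/
structure ChowData (S X : Scheme.{u}) where
  f : X ⟶ S
  r : ℕ
  P : Fin (r + 1) → Scheme.{u}
  q : ∀ i, P i ⟶ S
  D : FinProd P q
  Uo : Fin (r + 1) → X.Opens
  t : ∀ i, (Uo i).toScheme ⟶ P i
  ht : ∀ i, t i ≫ q i = (Uo i).ι ≫ f
  sepf : IsSeparated f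
  sepq : ∀ i, IsSeparated (q i)
  sepD : IsSeparated D.hom
  ot : ∀ i, IsOpenImmersion (t i)
  red : IsReduced X
  cov : ⨆ i, Uo i = ⊤
  cpt : CompactSpace ↥(⨅ i, Uo i : X.Opens)
  qs : QuasiSeparatedSpace ↥(pullback f D.hom)

namespace ChowData

variable {S X : Scheme.{u}} (C : ChowData S X)

attribute [instance] sepf sepq sepD ot cpt qs

/-- the common open -/
def U : X.Opens := ⨅ i, C.Uo i

instance : CompactSpace C.U := C.cpt

instance : IsReduced C.U.toScheme := by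
  haveI := C.red
  infer_instance

theorem U_le (i) : C.U ≤ C.Uo i := iInf_le C.Uo i

/-- `U ⟶ P i` -/
noncomputable def a (i) : C.U.toScheme ⟶ C.P i := X.homOfLE (C.U_le i) ≫ C.t i

theorem a_q (i) : C.a i ≫ C.q i = C.U.ι ≫ C.f := by
  rw [a, Category.assoc, C.ht, ← Category.assoc, Scheme.homOfLE_ι]

/-- `U ⟶ Q` -/
noncomputable def φ₀ : C.U.toScheme ⟶ C.D.pt :=
  C.D.lift C.a (fun i j => by rw [C.a_q, C.a_q])

theorem φ₀_π (i) : C.φ₀ ≫ C.D.π i = C.a i := C.D.lift_π _ _ i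

theorem φ₀_hom : C.φ₀ ≫ C.D.hom = C.U.ι ≫ C.f := by
  rw [← C.D.π_comp 0, ← Category.assoc, C.φ₀_π, C.a_q]

/-- the ambient product `Y = X ×_S Q` -/
noncomputable abbrev Y : Scheme.{u} := pullback C.f C.D.hom

/-- the graph `U ⟶ Y` -/
noncomputable def h : C.U.toScheme ⟶ C.Y := pullback.lift C.U.ι C.φ₀ C.φ₀_hom.symm

theorem h_fst : C.h ≫ pullback.fst _ _ = C.U.ι := pullback.lift_fst _ _ _
theorem h_snd : C.h ≫ pullback.snd _ _ = C.φ₀ := pullback.lift_snd _ _ _

instance : QuasiCompact C.h := inferInstance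

/-- `X'` -/
noncomputable abbrev X' : Scheme.{u} := C.h.image
/-- `X' ⟶ Y` -/
noncomputable abbrev ι' : C.X' ⟶ C.Y := C.h.imageι
/-- `U ⟶ X'` -/
noncomputable abbrev θ : C.U.toScheme ⟶ C.X' := C.h.toImage
/-- `X' ⟶ X` -/
noncomputable abbrev π : C.X' ⟶ X := C.ι' ≫ pullback.fst _ _
/-- `X' ⟶ Q` -/
noncomputable abbrev φ : C.X' ⟶ C.D.pt := C.ι' ≫ pullback.snd _ _

theorem θ_ι' : C.θ ≫ C.ι' = C.h := Scheme.Hom.toImage_imageι _

theorem θ_π : C.θ ≫ C.π = C.U.ι := by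
  rw [← Category.assoc, C.θ_ι', C.h_fst]

theorem θ_φ : C.θ ≫ C.φ = C.φ₀ := by
  rw [← Category.assoc, C.θ_ι', C.h_snd]

theorem π_f : C.π ≫ C.f = C.φ ≫ C.D.hom := by
  rw [Category.assoc, Category.assoc, pullback.condition]

instance : IsReduced C.X' := isReduced_image C.h

instance : IsDominant C.θ := inferInstance

theorem isIso_π_restrict : IsIso (C.π ∣_ C.U) :=
  isIso_cπ_restrict (pullback.fst C.f C.D.hom) C.U C.h C.h_fst

/-- two maps out of an open `T ⊇ range θ` of `X'` into a separated scheme agree iff they agree on `U` -/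
theorem ext_of_θ (T : C.X'.Opens) (hT : Set.range C.θ ⊆ (T : Set C.X')) {Z B : Scheme.{u}} (s : Z ⟶ B)
    [IsSeparated s] (u v : T.toScheme ⟶ Z) (huv : u ≫ s = v ≫ s)
    (h : ∀ θT : C.U.toScheme ⟶ T.toScheme, θT ≫ T.ι = C.θ → θT ≫ u = θT ≫ v) : u = v := by
  have hsub : Set.range C.θ ⊆ Set.range T.ι := by rw [Scheme.Opens.range_ι]; exact hT
  let θT : C.U.toScheme ⟶ T.toScheme := IsOpenImmersion.lift T.ι C.θ hsub
  have hθT : θT ≫ T.ι = C.θ := IsOpenImmersion.lift_fac _ _ _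
  haveI : IsDominant θT := isDominant_lift C.θ T θT hθT
  exact ext_of_isDominant_of_isSeparated s huv θT (h θT hθT)

/-- `T i = π⁻¹(Uo i)` -/
noncomputable abbrev T (i : Fin (C.r + 1)) : C.X'.Opens := C.π ⁻¹ᵁ C.Uo i

theorem range_θ_subset_T (i) : Set.range C.θ ⊆ (C.T i : Set C.X') := by
  rintro _ ⟨x, rfl⟩
  change C.π (C.θ x) ∈ C.Uo i
  rw [← Scheme.Hom.comp_apply, C.θ_π]
  exact C.U_le i x.2

/-- (e1) on `π⁻¹(Uo i)` the `i`-th component of `φ` is `t i ∘ π` -/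
theorem e1 (i) : (C.T i).ι ≫ C.φ ≫ C.D.π i = (C.π ∣_ C.Uo i) ≫ C.t i := by
  refine C.ext_of_θ (C.T i) (C.range_θ_subset_T i) (C.q i) _ _ ?_ ?_
  · simp only [Category.assoc]
    rw [C.D.π_comp i, C.ht i, ← pullback.condition, morphismRestrict_ι_assoc]
    rfl
  · intro θT hθT
    have h1 : θT ≫ (C.π ∣_ C.Uo i) = X.homOfLE (C.U_le i) := by
      rw [← cancel_mono (C.Uo i).ι, Category.assoc, morphismRestrict_ι, ← Category.assoc, hθT, C.θ_π,
        Scheme.homOfLE_ι]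
    rw [← Category.assoc, hθT, ← Category.assoc, C.θ_φ, C.φ₀_π, ← Category.assoc, h1]
    rfl

/-- the chart `V i ⊆ Q` -/
noncomputable abbrev V (i : Fin (C.r + 1)) : C.D.pt.Opens := C.D.π i ⁻¹ᵁ (C.t i).opensRange

/-- `W i = φ⁻¹(V i)` -/
noncomputable abbrev W (i : Fin (C.r + 1)) : C.X'.Opens := C.φ ⁻¹ᵁ C.V i

theorem T_le_W (i) : C.T i ≤ C.W i := by
  intro x hx
  change C.D.π i (C.φ x) ∈ Set.range (C.t i)
  have h1 := congrArg (fun g => g ⟨x, hx⟩) (congrArg (fun g : (C.T i).toScheme ⟶ C.P i => ⇑g) (C.e1 i))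
  exact ⟨_, h1.symm⟩

theorem iSup_W : ⨆ i, C.W i = ⊤ := by
  rw [eq_top_iff]
  intro x _
  have hx : C.π x ∈ (⨆ i, C.Uo i : X.Opens) := by rw [C.cov]; trivial
  rw [Opens.mem_iSup] at hx ⊢
  obtain ⟨i, hi⟩ := hx
  exact ⟨i, C.T_le_W i hi⟩

theorem range_θ_subset_W (i) : Set.range C.θ ⊆ (C.W i : Set C.X') :=
  (C.range_θ_subset_T i).trans (C.T_le_W i)

theorem range_V_subset (i) : Set.range ((C.V i).ι ≫ C.D.π i) ⊆ Set.range (C.t i) := by
  rintro _ ⟨y, rfl⟩
  exact y.2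

/-- `V i ⟶ Uo i` -/
noncomputable def ℓ (i) : (C.V i).toScheme ⟶ (C.Uo i).toScheme :=
  IsOpenImmersion.lift (C.t i) ((C.V i).ι ≫ C.D.π i) (C.range_V_subset i)

theorem ℓ_t (i) : C.ℓ i ≫ C.t i = (C.V i).ι ≫ C.D.π i := IsOpenImmersion.lift_fac _ _ _

/-- `V i ⟶ X` -/
noncomputable def g (i) : (C.V i).toScheme ⟶ X := C.ℓ i ≫ (C.Uo i).ι

theorem g_f (i) : C.g i ≫ C.f = (C.V i).ι ≫ C.D.hom := by
  rw [g, Category.assoc, ← C.ht i, ← Category.assoc, C.ℓ_t, Category.assoc, C.D.π_comp i]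

/-- `V i ⟶ Y`, the graph of `g i` -/
noncomputable def γ (i) : (C.V i).toScheme ⟶ C.Y := pullback.lift (C.g i) (C.V i).ι (C.g_f i)

/-- (e2) on `W i` the projection `π` factors through `V i` -/
theorem e2 (i) : (C.φ ∣_ C.V i) ≫ C.g i = (C.W i).ι ≫ C.π := by
  refine C.ext_of_θ (C.W i) (C.range_θ_subset_W i) C.f _ _ ?_ ?_
  · rw [Category.assoc, C.g_f, morphismRestrict_ι_assoc]
    simp only [Category.assoc]
    rw [pullback.condition]
  · intro θT hθT
    have h1 : θT ≫ (C.φ ∣_ C.V i) ≫ C.ℓ i = X.homOfLE (C.U_le i) := by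
      rw [← cancel_mono (C.t i), Category.assoc, Category.assoc, C.ℓ_t, morphismRestrict_ι_assoc,
        ← Category.assoc, hθT, ← Category.assoc, C.θ_φ, C.φ₀_π]
      rfl
    rw [g, ← Category.assoc, ← Category.assoc, Category.assoc θT, h1, Scheme.homOfLE_ι,
      ← Category.assoc, hθT, C.θ_π]

theorem restrict_γ (i) : (C.φ ∣_ C.V i) ≫ C.γ i = (C.W i).ι ≫ C.ι' := by
  refine pullback.hom_ext ?_ ?_
  · rw [Category.assoc, γ, pullback.lift_fst, C.e2 i, Category.assoc]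
  · rw [Category.assoc, γ, pullback.lift_snd, morphismRestrict_ι, Category.assoc]

theorem isImmersion_restrict (i) : IsImmersion (C.φ ∣_ C.V i) := by
  haveI : IsImmersion ((C.φ ∣_ C.V i) ≫ C.γ i) := by
    rw [C.restrict_γ i]
    infer_instance
  exact IsImmersion.of_comp (C.φ ∣_ C.V i) (C.γ i)

theorem isImmersion_φ : IsImmersion C.φ := by
  haveI : MorphismProperty.RespectsRight @IsImmersion @IsOpenImmersion :=
    ⟨fun i hi f hf => by haveI := hi; haveI := hf; infer_instance⟩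
  refine IsZariskiLocalAtTarget.of_range_subset_iSup (P := @IsImmersion) C.V ?_ C.isImmersion_restrict
  rintro _ ⟨x, rfl⟩
  have hx : x ∈ (⨆ i, C.W i : C.X'.Opens) := by rw [C.iSup_W]; trivial
  rw [Opens.mem_iSup] at hx
  obtain ⟨i, hi⟩ := hx
  exact Opens.mem_iSup.mpr ⟨i, hi⟩

theorem isClosedImmersion_φ [IsProper C.f] : IsClosedImmersion C.φ := by
  haveI := C.isImmersion_φ
  haveI : IsProper (pullback.snd C.f C.D.hom) := inferInstance
  haveI : IsProper C.φ := inferInstance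
  exact IsClosedImmersion.of_isPreimmersion C.φ C.φ.isClosedMap.isClosed_range

theorem isProper_π [IsProper C.D.hom] : IsProper C.π := inferInstance

theorem surjective_π [IsProper C.D.hom] (hU : Dense (C.U : Set X)) : Function.Surjective C.π := by
  haveI := C.isProper_π
  have hcl : IsClosed (Set.range C.π) := C.π.isClosedMap.isClosed_range
  have hsub : (C.U : Set X) ⊆ Set.range C.π := by
    intro x hx
    have h2 : ∀ y : C.U.toScheme, C.π (C.θ y) = C.U.ι y := fun y => by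
      rw [← Scheme.Hom.comp_apply, C.θ_π]
    exact ⟨C.θ (⟨x, hx⟩ : C.U), h2 _⟩
  have h1 : Set.range C.π = Set.univ := by
    rw [← hcl.closure_eq]
    exact Set.eq_univ_of_univ_subset (hU.closure_eq ▸ closure_mono hsub)
  exact Set.range_eq_univ.mp h1

end ChowData

end Groth.Agent.Lib.H90Chow
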