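import Mathlib
/-!
# Coreflectors commute with an adjunction preserving the subcategories (helper90)
-/

set_option autoImplicit false
universe v₁ v₂ u₁ u₂

open CategoryTheory

namespace Groth.Agent.Lib.H90Coherator

variable {C : Type u₁} [Category.{v₁} C] {D : Type u₂} [Category.{v₂} D]
  (P : ObjectProperty C) (Q : ObjectProperty D)
  {L : D ⥤ C} {R : C ⥤ D} (adj : L ⊣ R)
  (hL : ∀ d, Q d → P (L.obj d)) (hR : ∀ c, P c → Q (R.obj c))
  {QC : C ⥤ P.FullSubcategory} (adjC : P.ι ⊣ QC)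
  {QD : D ⥤ Q.FullSubcategory} (adjD : Q.ι ⊣ QD)

/-- Let `L ⊣ R` be an adjunction between `D` and `C` both of whose functors preserve full
subcategories `Q ⊆ D`, `P ⊆ C` having coreflectors `QD`, `QC`. Then `R` commutes with the
coreflectors. -/
noncomputable def coreflectorCompIso :
    QC ⋙ P.ι ⋙ R ≅ R ⋙ QD ⋙ Q.ι := by
  let L' : Q.FullSubcategory ⥤ P.FullSubcategory := P.lift (Q.ι ⋙ L) (fun d => hL d.obj d.property)
  let R' : P.FullSubcategory ⥤ Q.FullSubcategory := Q.lift (P.ι ⋙ R) (fun c => hR c.obj c.property)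
  let adj' : L' ⊣ R' := adj.restrictFullyFaithful (iC := Q.ι) (iD := P.ι)
    Q.fullyFaithfulι P.fullyFaithfulι (Iso.refl _) (Iso.refl _)
  -- two right adjoints of `Q.ι ⋙ L`
  let a1 : Q.ι ⋙ L ⊣ R ⋙ QD := adjD.comp adj
  let a2 : L' ⋙ P.ι ⊣ QC ⋙ R' := adj'.comp adjC
  let a2' : Q.ι ⋙ L ⊣ QC ⋙ R' := a2.ofNatIsoLeft (Iso.refl _)
  let e : QC ⋙ R' ≅ R ⋙ QD := a2'.rightAdjointUniq a1
  exact Functor.isoWhiskerRight e Q.ι

end Groth.Agent.Lib.H90Coherator
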