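/-
helper90: dévissage along a finite surjective morphism (Stacks 01YM + 01YO + S9523 packaged; the engine of Chevalley's theorem, Stacks 01YQ, and
of "ample descends along finite surjective morphisms", Stacks 0B5V):
for `f : Y ⟶ X` finite surjective, `X` Noetherian, a property `P` of `O_X`-modules which is iso-invariant, holds for zero, is closed under
extensions (of coherent modules) and roots (`P(F^r) → P(F)`), and holds for `f_* H` for all coherent `H` on `Y`, holds for all coherent modules.
-/
import Mathlib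
import Groth.Agent.Lib.H90DevOneSidedGlobal
import Groth.Agent.Lib.H90FiniteSurjHub
import Groth.Agent.S9523

set_option autoImplicit false
set_option linter.style.haveILetI false
universe u

open CategoryTheory CategoryTheory.Limits AlgebraicGeometry TopologicalSpace Opposite

namespace Groth.Agent.Lib.H90DevFiniteSurj

open Groth.Agent.Lib.ModStalkLin Groth.Agent.Lib.ModStalk

variable {X : Scheme.{u}}

set_option backward.isDefEq.respectTransparency false in
/-- **Dévissage along a finite surjective morphism.** -/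
theorem devissage_finite_surjective {Y : Scheme.{u}} (f : Y ⟶ X) [IsFinite f] [Surjective f]
    [AlgebraicGeometry.IsNoetherian X]
    (P : X.Modules → Prop) (hP : ∀ M N : X.Modules, Nonempty (M ≅ N) → P M → P N)
    (h₀ : ∀ M : X.Modules, IsZero M → P M)
    (h₁ : ∀ S : ShortComplex X.Modules, S.ShortExact → Coh.IsCoh S.X₁ → Coh.IsCoh S.X₂ → Coh.IsCoh S.X₃ →
      P S.X₁ → P S.X₃ → P S.X₂)
    (h₂ : ∀ (F : X.Modules) (r : ℕ), Coh.IsCoh F → 1 ≤ r → P (∐ fun _ : Fin r => F) → P F)
    (h₃ : ∀ H : Y.Modules, Coh.IsCoh H → P ((Scheme.Modules.pushforward f).obj H))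
    (F : X.Modules) (hF : Coh.IsCoh F) : P F := by
  classical
  haveI : IsLocallyNoetherian Y := LocallyOfFiniteType.isLocallyNoetherian f
  refine Groth.Agent.Lib.H90DevOneSidedGlobal.devissage_one_sided_global X P hP h₀ h₁ h₂ ?_ F hF
  intro ξ
  obtain ⟨F₀, hF₀, hs, hk⟩ := Groth.Agent.Lib.H90FiniteSurjHub.exists_coherent_pushforward f ξ
  haveI : F₀.IsQuasicoherent := hF₀.1
  have hGc : Coh.IsCoh ((Scheme.Modules.pushforward f).obj F₀) :=
    Groth.Agent.Lib.H90OXModPushFinite.isCoh_pushforward f F₀ hF₀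
  haveI : ((Scheme.Modules.pushforward f).obj F₀).IsQuasicoherent := hGc.1
  refine ⟨(Scheme.Modules.pushforward f).obj F₀, hGc, hs, hk, ?_⟩
  intro J hξJ
  refine ⟨(Dual3.idealMul J).obj ((Scheme.Modules.pushforward f).obj F₀), 𝟙 _, inferInstance,
    inferInstance, ?_, ?_⟩
  · rw [Category.id_comp]
    let U : X.Opens := ⟨(J.support : Set X)ᶜ, J.support.isClosed.isOpen_compl⟩
    have hsurj := Groth.Agent.Lib.H90IdealKill.surjective_stalkLin_idealMulι J
      ((Scheme.Modules.pushforward f).obj F₀) (U := U) rfl 1 ξ hξJ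
    rw [pow_one] at hsurj
    have hinj := stalkLin_injective_of_mono
      (Dual3.idealMulι J ((Scheme.Modules.pushforward f).obj F₀)) ξ
    exact (ConcreteCategory.isIso_iff_bijective _).mpr ⟨hinj, hsurj⟩
  · obtain ⟨e, -⟩ := Groth.Agent.S9523.result f F₀ hF₀.1 J
    have hH : Coh.IsCoh ((Dual3.idealMul (J.comap f)).obj F₀) :=
      Groth.Agent.Lib.H90DevFilt.isCoh_of_mono (Dual3.idealMulι (J.comap f) F₀) hF₀
    exact hP _ _ ⟨e.symm⟩ (h₃ _ hH)

end Groth.Agent.Lib.H90DevFiniteSurj
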