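/-
helper90: one-sided dévissage.  `K` is an isomorphism-closed class of modules on a Noetherian scheme such that in a short exact
sequence of coherent modules (a1) middle, right ∈ K ⇒ left ∈ K and (a2) outer ∈ K ⇒ middle ∈ K, and (b) `F^d ∈ K ⇒ F ∈ K`.
If every integral closed subscheme carries a coherent module with nonzero generic stalk whose direct image is in `K`,
then `K` contains all coherent modules.  (No closure under cokernels: this needs Artin–Rees, `H90CommonSub`.)
-/
import Mathlib
import Groth.Agent.Lib.H90DevSummand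
import Groth.Agent.Lib.H90CommonSub

set_option autoImplicit false
set_option linter.style.haveILetI false
universe u

open CategoryTheory CategoryTheory.Limits AlgebraicGeometry TopologicalSpace Opposite

namespace Groth.Agent.Lib.H90DevOneSided

open Groth.Agent.Lib.H90DevCanon Groth.Agent.Lib.H90DevHub Groth.Agent.Lib.H90DevHub2
  Groth.Agent.Lib.ModStalkLin Groth.Agent.Lib.ModStalk Groth.Agent.Lib.H90DevTwo
  Groth.Agent.Lib.H90DevTwo2 Groth.Agent.Lib.PushStalk
  Groth.Agent.Lib.H90DevGeneric Groth.Agent.Lib.H90DevSummand Groth.Agent.Lib.H90DevFiltP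
  Groth.Agent.Lib.H90DevFilt Groth.Agent.Lib.H90DevAtom

variable {X : Scheme.{u}}

section Hub

variable [AlgebraicGeometry.IsNoetherian X] (Zc : Closeds X) (ξ : X)
  (K : ObjectProperty X.Modules) [K.IsClosedUnderIsomorphisms]
  (ha : ∀ S : ShortComplex X.Modules, S.ShortExact → Coh.IsCoh S.X₁ → Coh.IsCoh S.X₂ → Coh.IsCoh S.X₃ →
      (K S.X₂ → K S.X₃ → K S.X₁) ∧ (K S.X₁ → K S.X₃ → K S.X₂))
  (IH : ∀ M : X.Modules, Coh.IsCoh M → CohB1.support M ⊆ (Zc : Set X) → ξ ∉ CohB1.support M → K M)

omit [K.IsClosedUnderIsomorphisms] in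
include ha IH in
/-- a submodule which is generically everything: `K` passes up and down -/
theorem K_push_sub [IsIntegral (ZZ Zc)] (hξ : (iZ Zc) (genericPoint (ZZ Zc)) = ξ)
    {E M : (ZZ Zc).Modules} (hE : Coh.IsCoh E) (hM : Coh.IsCoh M) (a : E ⟶ M) [Mono a] (U : (ZZ Zc).Opens)
    (hzU : genericPoint (ZZ Zc) ∈ U)
    (hφ : IsIso ((Scheme.Modules.restrictFunctor U.ι).map a)) :
    K ((Scheme.Modules.pushforward (iZ Zc)).obj E) ↔ K ((Scheme.Modules.pushforward (iZ Zc)).obj M) := by
  haveI : IsLocallyNoetherian (ZZ Zc) := LocallyOfFiniteType.isLocallyNoetherian (iZ Zc)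
  let i := iZ Zc
  let Fi := Scheme.Modules.pushforward i
  have hind : Topology.IsInducing i.base := i.isEmbedding.isInducing
  obtain ⟨-, hc⟩ := (Groth.Agent.Lib.H90QCohLocalization.isIso_restrict_map_iff a U).mp hφ
  haveI : E.IsQuasicoherent := hE.1
  have hQc : Coh.IsCoh (cokernel a) := Groth.Agent.Lib.H90OXModExact.isCoh_cokernel a hM
  have hS := shortExact_cokernel a
  have hzQ : genericPoint (ZZ Zc) ∉ CohB1.support (cokernel a) := fun h => hc h hzU
  have hKQ : K (Fi.obj (cokernel a)) := by
    refine IH _ (Groth.Agent.Lib.H90OXModPushFinite.isCoh_pushforward i _ hQc) ?_ ?_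
    · rw [← range_iZ Zc]; exact support_push_subset i _
    · rw [← hξ, mem_support_pushforward_iff i hind]; exact hzQ
  have hT := hS.map_of_exact Fi
  have c := fun (A : (ZZ Zc).Modules) (hA : Coh.IsCoh A) =>
    Groth.Agent.Lib.H90OXModPushFinite.isCoh_pushforward i A hA
  have e := ha _ hT (c _ hE) (c _ hM) (c _ hQc)
  exact ⟨fun h => e.2 h hKQ, fun h => e.1 h hKQ⟩

omit [K.IsClosedUnderIsomorphisms] in
include ha IH in
/-- `K` is invariant under generic isomorphism -/
theorem K_push_of_generic_iso [IsIntegral (ZZ Zc)] (hξ : (iZ Zc) (genericPoint (ZZ Zc)) = ξ)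
    {M N : (ZZ Zc).Modules} (hM : Coh.IsCoh M) (hN : Coh.IsCoh N) (U : (ZZ Zc).Opens)
    (hzU : genericPoint (ZZ Zc) ∈ U)
    (φ : (Scheme.Modules.restrictFunctor U.ι).obj M ⟶ (Scheme.Modules.restrictFunctor U.ι).obj N) [IsIso φ]
    (hKM : K ((Scheme.Modules.pushforward (iZ Zc)).obj M)) :
    K ((Scheme.Modules.pushforward (iZ Zc)).obj N) := by
  haveI : IsLocallyNoetherian (ZZ Zc) := LocallyOfFiniteType.isLocallyNoetherian (iZ Zc)
  haveI : CompactSpace (ZZ Zc) := QuasiCompact.compactSpace_of_compactSpace (iZ Zc)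
  haveI : AlgebraicGeometry.IsNoetherian (ZZ Zc) := { }
  obtain ⟨E, a, b, hE, hma, hmb, hia, hib, -⟩ :=
    Groth.Agent.Lib.H90CommonSub.exists_common_sub M N hM hN U φ
  haveI := hma; haveI := hmb
  have hKE := (K_push_sub Zc ξ K ha IH hξ hE hM a U hzU hia).mpr hKM
  exact (K_push_sub Zc ξ K ha IH hξ hE hN b U hzU hib).mp hKE

variable (hb : ∀ (F : X.Modules) (d : ℕ), 1 ≤ d → Coh.IsCoh F → K (∐ fun _ : Fin d => F) → K F)

include ha hb IH in
/-- the key step: from a witness on `Z` to the hub `i_* O_Z` -/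
theorem K_hub_of_generic (hirr : IsIrreducible (Zc : Set X)) (hgen : closure {ξ} = (Zc : Set X))
    (H : (ZZ Zc).Modules) (hHc : Coh.IsCoh H)
    (hzH : ∀ [IsIntegral (ZZ Zc)], genericPoint (ZZ Zc) ∈ CohB1.support H)
    (hKH : K ((Scheme.Modules.pushforward (iZ Zc)).obj H)) : K (hub Zc) := by
  haveI : IsIntegral (ZZ Zc) := Groth.Agent.Lib.H90DevAtom.isIntegral_subscheme Zc hirr
  haveI : IsLocallyNoetherian (ZZ Zc) := LocallyOfFiniteType.isLocallyNoetherian (iZ Zc)
  haveI : CompactSpace (ZZ Zc) := QuasiCompact.compactSpace_of_compactSpace (iZ Zc)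
  haveI : AlgebraicGeometry.IsNoetherian (ZZ Zc) := { }
  let i := iZ Zc
  let Fi := Scheme.Modules.pushforward i
  let z := genericPoint (ZZ Zc)
  have hξ : i z = ξ := iZ_genericPoint_eq Zc hgen
  haveI : H.IsFiniteType := hHc.2
  haveI : H.IsQuasicoherent := hHc.1
  have hzG : z ∈ CohB1.support H := hzH
  obtain ⟨U, hzU, ⟨eU⟩⟩ := Groth.Agent.Lib.GenericFree.exists_open_free_of_isFT_of_isIntegral H
  set r := Module.finrank ↑((ZZ Zc).presheaf.stalk (genericPoint ↥(ZZ Zc)))
    ↑(H.presheaf.stalk (genericPoint ↥(ZZ Zc))) with hr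
  have hr0 : r ≠ 0 := by
    intro h0
    rw [h0] at eU
    have hz : IsZero ((Scheme.Modules.restrictFunctor U.ι).obj H) :=
      (Groth.Agent.Lib.PerfectLocal.isZero_freeMod_zero _).of_iso eU
    exact (Groth.Agent.Lib.H90QCohLocalization.isZero_restrict_iff H U).mp hz hzG hzU
  have hfree : Coh.IsCoh (FlatMod.freeMod (ZZ Zc) r) :=
    Groth.Agent.Lib.H90Invertible.isCoh_of_isFinLocFree
      (Groth.Agent.Lib.H90Invertible.isFinLocFree_freeMod _ r)
  let φ : (Scheme.Modules.restrictFunctor U.ι).obj H ⟶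
      (Scheme.Modules.restrictFunctor U.ι).obj (FlatMod.freeMod (ZZ Zc) r) :=
    eU.hom ≫ (Groth.Agent.Lib.FinLocFree.restrictFreeModIso U.ι r).inv
  haveI : IsIso φ := inferInstance
  have hKF : K (Fi.obj (FlatMod.freeMod (ZZ Zc) r)) :=
    K_push_of_generic_iso Zc ξ K ha IH hξ hHc hfree U hzU φ hKH
  -- the direct image of the free module is a coproduct of hubs
  let e : Fi.obj (∐ fun _ : Fin r => Coh.structureModule (ZZ Zc)) ≅
      ∐ fun _ : Fin r => Fi.obj (Coh.structureModule (ZZ Zc)) :=
    PreservesCoproduct.iso Fi (fun _ : Fin r => Coh.structureModule (ZZ Zc))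
  have hKsum : K (∐ fun _ : Fin r => hub Zc) := K.prop_of_iso e hKF
  exact hb (hub Zc) r (Nat.one_le_iff_ne_zero.mpr hr0) (isCoh_hub Zc) hKsum

end Hub

set_option backward.isDefEq.respectTransparency false in
/-- **One-sided dévissage.** -/
theorem devissage_one_sided (X : Scheme.{u}) [AlgebraicGeometry.IsNoetherian X] [Nonempty X]
    (K : ObjectProperty X.Modules) [K.IsClosedUnderIsomorphisms]
    (ha : ∀ S : ShortComplex X.Modules, S.ShortExact → Coh.IsCoh S.X₁ → Coh.IsCoh S.X₂ → Coh.IsCoh S.X₃ →
      (K S.X₂ → K S.X₃ → K S.X₁) ∧ (K S.X₁ → K S.X₃ → K S.X₂))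
    (hb : ∀ (F : X.Modules) (d : ℕ), 1 ≤ d → Coh.IsCoh F → K (∐ fun _ : Fin d => F) → K F)
    (hgen : ∀ (Z : Scheme.{u}) (i : Z ⟶ X) [IsClosedImmersion i] [IsIntegral Z],
      ∃ H : Z.Modules, Coh.IsCoh H ∧ Nontrivial (H.presheaf.stalk (genericPoint Z)) ∧
        K ((Scheme.Modules.pushforward i).obj H))
    (F : X.Modules) (hF : Coh.IsCoh F) : K F := by
  classical
  -- the witness on an irreducible closed subset
  have hwit : ∀ Zc : Closeds X, IsIrreducible (Zc : Set X) →
      ∃ H : (ZZ Zc).Modules, Coh.IsCoh H ∧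
        (∀ [IsIntegral (ZZ Zc)], genericPoint (ZZ Zc) ∈ CohB1.support H) ∧
        K ((Scheme.Modules.pushforward (iZ Zc)).obj H) := by
    intro Zc hirr
    haveI : IsIntegral (ZZ Zc) := Groth.Agent.Lib.H90DevAtom.isIntegral_subscheme Zc hirr
    obtain ⟨H, hH, hnt, hK⟩ := hgen (ZZ Zc) (iZ Zc)
    refine ⟨H, hH, ?_, hK⟩
    intro _
    rw [mem_support_iff]
    convert hnt
  -- `K` contains the zero modules
  have hzero : ∀ N : X.Modules, IsZero N → K N := by
    intro N hN
    obtain ⟨x⟩ := ‹Nonempty X›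
    let Zc : Closeds X := ⟨closure {x}, isClosed_closure⟩
    have hirr : IsIrreducible (Zc : Set X) := isIrreducible_singleton.closure
    obtain ⟨H, hH, -, hK⟩ := hwit Zc hirr
    set G := (Scheme.Modules.pushforward (iZ Zc)).obj H with hG
    have hGc : Coh.IsCoh G := Groth.Agent.Lib.H90OXModPushFinite.isCoh_pushforward (iZ Zc) _ hH
    have hS : (ShortComplex.mk (0 : N ⟶ G) (𝟙 G) (by simp)).ShortExact := by
      haveI : Mono (0 : N ⟶ G) := hN.mono _
      exact { exact := (ShortComplex.exact_iff_mono _ rfl).mpr (inferInstanceAs (Mono (𝟙 G))) }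
    exact (ha _ hS (isCoh_of_isZero hN) hGc hGc).1 hK hK
  have key : ∀ T : Closeds X, ∀ M : X.Modules, Coh.IsCoh M →
      CohB1.support M ⊆ (T : Set X) → K M := by
    intro T
    induction T using WellFoundedLT.induction with
    | ind T IH =>
      intro M hM hsM
      have hfilt := filt_atomC_of_isCoh hM
      induction hfilt with
      | zero N h0 => exact hzero N h0
      | step A B f hf hA hAc hB hat ih =>
        haveI := hf
        haveI : A.IsQuasicoherent := hAc.1
        have hS := shortExact_cokernel f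
        have hCc : Coh.IsCoh (cokernel f) := Groth.Agent.Lib.H90OXModExact.isCoh_cokernel f hB
        have hsA : CohB1.support A ⊆ (T : Set X) := (support_subset_of_mono f).trans hsM
        have hsC : CohB1.support (cokernel f) ⊆ (T : Set X) :=
          (support_subset_of_epi (cokernel.π f)).trans hsM
        have hKA := ih hAc hsA
        have hKC : K (cokernel f) := by
          obtain ⟨Zc', hat'⟩ := hat
          have hle : Zc' ≤ T := atomC_subset_of_support_subset hat' T.isClosed hsC
          rcases hle.lt_or_eq with hlt | heq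
          · exact IH Zc' hlt _ hCc (support_atomC_subset hat')
          · subst heq
            have hirr : IsIrreducible (Zc' : Set X) := hat'.1
            obtain ⟨ξ, hξ⟩ := QuasiSober.sober hirr Zc'.isClosed
            have hξ' : closure {ξ} = (Zc' : Set X) := hξ
            -- the induction hypothesis for modules vanishing at `ξ`
            have IH' : ∀ N : X.Modules, Coh.IsCoh N → CohB1.support N ⊆ (Zc' : Set X) →
                ξ ∉ CohB1.support N → K N := by
              intro N hN hsN hξN
              have hlt : (⟨CohB1.support N, isClosed_support_of_isFT _ hN.2⟩ : Closeds X) < Zc' := by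
                refine lt_of_le_of_ne hsN ?_
                intro h
                apply hξN
                have h' : CohB1.support N = (Zc' : Set X) :=
                  congrArg (fun W : Closeds X => (W : Set X)) h
                rw [h', ← hξ']
                exact subset_closure rfl
              exact IH _ hlt N hN (le_refl _)
            obtain ⟨H, hHc, hzH, hKH⟩ := hwit Zc' hirr
            have hKhub : K (hub Zc') :=
              K_hub_of_generic Zc' ξ K ha IH' hb hirr hξ' H hHc hzH hKH
            obtain ⟨p, hp⟩ := exists_mono_hub hat'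
            haveI := hp
            haveI : (cokernel f).IsQuasicoherent := hCc.1
            have hQc : Coh.IsCoh (cokernel p) :=
              Groth.Agent.Lib.H90OXModExact.isCoh_cokernel p (isCoh_hub Zc')
            have hKQ : K (cokernel p) :=
              IH' _ hQc ((support_subset_of_epi (cokernel.π p)).trans (support_hub_subset Zc'))
                (notMem_support_cokernel_hub hirr hξ p (not_isZero_of_isAtom hat'.isAtom))
            exact (ha _ (shortExact_cokernel p) hCc (isCoh_hub Zc') hQc).1 hKhub hKQ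
        exact (ha _ hS hAc hB hCc).2 hKA hKC
  exact key ⟨CohB1.support F, isClosed_support_of_isFT _ hF.2⟩ F hF (le_refl _)

end Groth.Agent.Lib.H90DevOneSided
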