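/-
helper90: coherence of direct images by one-sided dévissage.  For a morphism `f : X ⟶ Y` of Noetherian schemes, if every
integral closed subscheme `Z` of `X` carries a coherent module with nonzero generic stalk whose direct image in `Y` is coherent,
then `f_*` preserves coherence.
-/
import Mathlib
import Groth.Agent.Lib.H90DevOneSided
import Groth.Agent.Lib.PseudoCohNoeth

set_option autoImplicit false
set_option linter.style.haveILetI false
universe u

open CategoryTheory CategoryTheory.Limits AlgebraicGeometry TopologicalSpace Opposite ZeroObject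

namespace Groth.Agent.Lib.H90DevPushCoh

variable {X Y : Scheme.{u}}

/-- the left exact sequence of direct images -/
theorem pushforward_leftExact (f : X ⟶ Y) {S : ShortComplex X.Modules} (hS : S.ShortExact) :
    Mono ((Scheme.Modules.pushforward f).map S.f) ∧ (S.map (Scheme.Modules.pushforward f)).Exact := by
  haveI := hS.mono_f
  haveI : (Scheme.Modules.pushforward f).IsRightAdjoint :=
    (Scheme.Modules.pullbackPushforwardAdjunction f).isRightAdjoint
  refine ⟨inferInstance, ?_⟩
  exact hS.exact.map_of_mono_of_preservesKernel _ hS.mono_f inferInstance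

theorem isCoh_pushforward_of_witnesses [AlgebraicGeometry.IsNoetherian X] [AlgebraicGeometry.IsNoetherian Y]
    (f : X ⟶ Y)
    (hgen : ∀ (Z : Scheme.{u}) (i : Z ⟶ X) [IsClosedImmersion i] [IsIntegral Z],
      ∃ H : Z.Modules, Coh.IsCoh H ∧ Nontrivial (H.presheaf.stalk (genericPoint Z)) ∧
        Coh.IsCoh ((Scheme.Modules.pushforward (i ≫ f)).obj H))
    (F : X.Modules) (hF : Coh.IsCoh F) : Coh.IsCoh ((Scheme.Modules.pushforward f).obj F) := by
  let G := Scheme.Modules.pushforward f
  have hqc : ∀ M : X.Modules, Coh.IsCoh M → (G.obj M).IsQuasicoherent := by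
    intro M hM
    haveI : M.IsQuasicoherent := hM.1
    exact Groth.Agent.Lib.H90OXModQcqs.isQuasicoherent_pushforward_of_qcqs f M
  by_cases hne : Nonempty X
  swap
  · haveI : IsEmpty X := not_nonempty_iff.mp hne
    apply Groth.Agent.Lib.H90DevHub2.isCoh_of_isZero
    apply Groth.Agent.Lib.H90QCohLocalization.isZero_of_subsingleton_sections
    intro V
    exact Groth.Agent.Lib.H90OXModExt.subsingleton_sections_of_le_bot F
      (fun x _ => (IsEmpty.false x).elim)
  let K : ObjectProperty X.Modules := fun M => Coh.IsCoh (G.obj M)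
  haveI : K.IsClosedUnderIsomorphisms :=
    ⟨fun e h => Groth.Agent.Lib.H90CohRestrict.isCoh_of_iso (G.mapIso e) h⟩
  refine Groth.Agent.Lib.H90DevOneSided.devissage_one_sided X K ?_ ?_ ?_ F hF
  · intro S hS c1 c2 c3
    obtain ⟨hm, hex⟩ := pushforward_leftExact f hS
    haveI := hm
    haveI := hqc _ c1; haveI := hqc _ c2; haveI := hqc _ c3
    haveI : (0 : Y.Modules).IsQuasicoherent :=
      (Groth.Agent.Lib.H90DevHub2.isCoh_of_isZero (isZero_zero _)).1
    constructor
    · -- kernel
      intro h2 h3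
      change Coh.IsCoh (G.obj S.X₁)
      refine Groth.Agent.Lib.PseudoCohNoeth.isCoh_of_exact₅ (0 : (0 : Y.Modules) ⟶ 0) (0 : (0 : Y.Modules) ⟶ G.obj S.X₁)
        (G.map S.f) (G.map S.g) (by simp) (by simp) (by rw [← G.map_comp, S.zero, G.map_zero]) ?_ ?_ hex
        (Groth.Agent.Lib.H90DevHub2.isCoh_of_isZero (isZero_zero _)) h2
      · exact (ShortComplex.exact_iff_mono _ (by rfl)).mpr inferInstance
      · exact (ShortComplex.exact_iff_mono _ (by rfl)).mpr hm
    · -- extension
      intro h1 h3
      change Coh.IsCoh (G.obj S.X₂)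
      haveI : (cokernel (G.map S.g)).IsQuasicoherent :=
        Groth.Agent.Lib.H90OXModExact.isQuasicoherent_cokernel (G.map S.g)
      refine Groth.Agent.Lib.PseudoCohNoeth.isCoh_of_exact₅ (0 : (0 : Y.Modules) ⟶ G.obj S.X₁)
        (G.map S.f) (G.map S.g) (cokernel.π (G.map S.g)) (by simp)
        (by rw [← G.map_comp, S.zero, G.map_zero]) (cokernel.condition _) ?_ hex ?_ h1 h3
      · exact (ShortComplex.exact_iff_mono _ (by rfl)).mpr hm
      · exact ShortComplex.exact_cokernel _
  · intro M d hd hM hK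
    change Coh.IsCoh (G.obj M)
    haveI := hqc _ hM
    let j0 : Fin d := ⟨0, hd⟩
    let ι₀ : M ⟶ ∐ fun _ : Fin d => M := Sigma.ι (fun _ : Fin d => M) j0
    let π₀ : (∐ fun _ : Fin d => M) ⟶ M := Sigma.desc (fun j => if j = j0 then 𝟙 _ else 0)
    have hιπ : ι₀ ≫ π₀ = 𝟙 _ := by simp [ι₀, π₀]
    haveI : Epi (G.map π₀) := by
      have : G.map ι₀ ≫ G.map π₀ = 𝟙 _ := by rw [← G.map_comp, hιπ, G.map_id]
      exact epi_of_epi_fac this
    exact Groth.Agent.Lib.H90OXModExact.isCoh_of_epi (G.map π₀) hK inferInstance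
  · intro Z i _ _
    obtain ⟨H, hH, hnt, hc⟩ := hgen Z i
    refine ⟨H, hH, hnt, ?_⟩
    change Coh.IsCoh (G.obj ((Scheme.Modules.pushforward i).obj H))
    exact Groth.Agent.Lib.H90CohRestrict.isCoh_of_iso
      ((Scheme.Modules.pushforwardComp i f).symm.app H) hc

end Groth.Agent.Lib.H90DevPushCoh
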