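import Mathlib.CategoryTheory.Equivalence
import Mathlib.CategoryTheory.Iso

/-!
# Functors which are "equivalences on objects with a property" (helper90)

`EquivOn F P Q`: the functor `F : C ⥤ D` is bijective on morphisms between objects satisfying `P`, and every
object of `D` satisfying `Q` is isomorphic to the image of an object satisfying `P`.
(`ParaF.InvRestrictEquiv j` is `EquivOn (restrictFunctor j) IsInvertible IsInvertible` by `Iff.rfl`.)

Formal lemmas: `EquivOn.of_natIso`, `EquivOn.comp`, `EquivOn.of_comp_right` (2-out-of-3),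
`EquivOn.of_comp_left`, `EquivOn.of_isEquivalence`, `EquivOn.nonempty_iso_of_map_iso` (isomorphisms lift).
-/

set_option autoImplicit false
universe v₁ v₂ v₃ u₁ u₂ u₃

open CategoryTheory

namespace Groth.Agent.Lib.H90EquivOn

variable {C : Type u₁} [Category.{v₁} C] {D : Type u₂} [Category.{v₂} D] {E : Type u₃} [Category.{v₃} E]

/-- `F` is bijective on morphisms between `P`-objects and essentially surjective from `P`-objects onto
`Q`-objects. -/
def EquivOn (F : C ⥤ D) (P : C → Prop) (Q : D → Prop) : Prop :=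
  (∀ L L' : C, P L → P L' → Function.Bijective (fun φ : L ⟶ L' => F.map φ)) ∧
    (∀ L₀ : D, Q L₀ → ∃ L : C, P L ∧ Nonempty (F.obj L ≅ L₀))

variable {F : C ⥤ D} {P : C → Prop} {Q : D → Prop} {R : E → Prop}

/-- A functor which is bijective on `Hom(L, L')` and `Hom(L', L)`, `Hom(L, L)`, `Hom(L', L')`
reflects isomorphisms between `L` and `L'`. -/
theorem nonempty_iso_of_map_iso {L L' : C}
    (h : ∀ A B : C, (A = L ∨ A = L') → (B = L ∨ B = L') →
      Function.Bijective (fun φ : A ⟶ B => F.map φ))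
    (e : F.obj L ≅ F.obj L') : Nonempty (L ≅ L') := by
  obtain ⟨f, hf⟩ := (h L L' (Or.inl rfl) (Or.inr rfl)).2 e.hom
  obtain ⟨g, hg⟩ := (h L' L (Or.inr rfl) (Or.inl rfl)).2 e.inv
  simp only at hf hg
  refine ⟨⟨f, g, (h L L (Or.inl rfl) (Or.inl rfl)).1 ?_, (h L' L' (Or.inr rfl) (Or.inr rfl)).1 ?_⟩⟩
  · simp [hf, hg]
  · simp [hf, hg]

theorem EquivOn.nonempty_iso_of_map_iso (hF : EquivOn F P Q) {L L' : C} (hL : P L) (hL' : P L')
    (e : F.obj L ≅ F.obj L') : Nonempty (L ≅ L') := by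
  refine Groth.Agent.Lib.H90EquivOn.nonempty_iso_of_map_iso (F := F) (fun A B hA hB => hF.1 A B ?_ ?_) e
  · rcases hA with rfl | rfl <;> assumption
  · rcases hB with rfl | rfl <;> assumption

/-- Bijectivity on `Hom(L, L')` is invariant under isomorphisms of source and target. -/
theorem bijective_map_of_iso {L L' K K' : C} (a : L ≅ K) (b : L' ≅ K')
    (h : Function.Bijective (fun φ : K ⟶ K' => F.map φ)) :
    Function.Bijective (fun φ : L ⟶ L' => F.map φ) := by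
  have h1 : Function.Bijective (fun φ : L ⟶ L' => a.inv ≫ φ ≫ b.hom) :=
    ⟨fun x y hxy => by simpa using hxy, fun ψ => ⟨a.hom ≫ ψ ≫ b.inv, by simp⟩⟩
  have h2 : Function.Bijective (fun ψ : F.obj K ⟶ F.obj K' => F.map a.hom ≫ ψ ≫ F.map b.inv) :=
    ⟨fun x y hxy => by
      simpa [← Functor.map_comp] using congrArg (fun t => F.map a.inv ≫ t ≫ F.map b.hom) hxy,
     fun ψ => ⟨F.map a.inv ≫ ψ ≫ F.map b.hom, by simp [← Functor.map_comp_assoc, ← Functor.map_comp]⟩⟩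
  have : (fun φ : L ⟶ L' => F.map φ) =
      (fun ψ : F.obj K ⟶ F.obj K' => F.map a.hom ≫ ψ ≫ F.map b.inv) ∘
        (fun φ : K ⟶ K' => F.map φ) ∘ (fun φ : L ⟶ L' => a.inv ≫ φ ≫ b.hom) := by
    funext φ
    simp [← Functor.map_comp]
  rw [this]
  exact h2.comp (h.comp h1)

theorem EquivOn.of_natIso {F' : C ⥤ D} (θ : F ≅ F') (hF : EquivOn F P Q) : EquivOn F' P Q := by
  refine ⟨fun L L' hL hL' => ?_, fun L₀ hL₀ => ?_⟩
  · have h := hF.1 L L' hL hL'
    have h2 : Function.Bijective (fun ψ : F.obj L ⟶ F.obj L' => θ.inv.app L ≫ ψ ≫ θ.hom.app L') :=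
      ⟨fun x y hxy => by simpa using hxy,
       fun ψ => ⟨θ.hom.app L ≫ ψ ≫ θ.inv.app L', by simp⟩⟩
    have : (fun φ : L ⟶ L' => F'.map φ) =
        (fun ψ : F.obj L ⟶ F.obj L' => θ.inv.app L ≫ ψ ≫ θ.hom.app L') ∘ (fun φ : L ⟶ L' => F.map φ) := by
      funext φ
      simp
    rw [this]
    exact h2.comp h
  · obtain ⟨L, hL, ⟨e⟩⟩ := hF.2 L₀ hL₀
    exact ⟨L, hL, ⟨(θ.app L).symm ≪≫ e⟩⟩

theorem EquivOn.comp {G : D ⥤ E} (hF : EquivOn F P Q) (hG : EquivOn G Q R)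
    (hPQ : ∀ L, P L → Q (F.obj L)) : EquivOn (F ⋙ G) P R := by
  refine ⟨fun L L' hL hL' => ?_, fun L₀ hL₀ => ?_⟩
  · exact (hG.1 _ _ (hPQ L hL) (hPQ L' hL')).comp (hF.1 L L' hL hL')
  · obtain ⟨K, hK, ⟨e⟩⟩ := hG.2 L₀ hL₀
    obtain ⟨L, hL, ⟨e'⟩⟩ := hF.2 K hK
    exact ⟨L, hL, ⟨G.mapIso e' ≪≫ e⟩⟩

/-- 2-out-of-3: if `F ⋙ G` and `G` are equivalences on the relevant objects, so is `F`. -/
theorem EquivOn.of_comp_right {G : D ⥤ E} (hFG : EquivOn (F ⋙ G) P R) (hG : EquivOn G Q R)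
    (hPQ : ∀ L, P L → Q (F.obj L)) (hQR : ∀ K, Q K → R (G.obj K)) : EquivOn F P Q := by
  refine ⟨fun L L' hL hL' => ?_, fun K hK => ?_⟩
  · have h1 := hFG.1 L L' hL hL'
    have h2 := hG.1 _ _ (hPQ L hL) (hPQ L' hL')
    exact (Function.Bijective.of_comp_iff' h2 _).mp h1
  · obtain ⟨L, hL, ⟨e⟩⟩ := hFG.2 (G.obj K) (hQR K hK)
    exact ⟨L, hL, hG.nonempty_iso_of_map_iso (hPQ L hL) hK e⟩

/-- If `B` and `B ⋙ F` are equivalences on the relevant objects, so is `F`. -/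
theorem EquivOn.of_comp_left {B : E ⥤ C} {P₀ : E → Prop} (hB : EquivOn B P₀ P)
    (hBF : EquivOn (B ⋙ F) P₀ Q) (hP : ∀ K, P₀ K → P (B.obj K)) : EquivOn F P Q := by
  refine ⟨fun L L' hL hL' => ?_, fun L₀ hL₀ => ?_⟩
  · obtain ⟨K, hK, ⟨a⟩⟩ := hB.2 L hL
    obtain ⟨K', hK', ⟨b⟩⟩ := hB.2 L' hL'
    refine bijective_map_of_iso a.symm b.symm ?_
    have h1 := hBF.1 K K' hK hK'
    have h2 := hB.1 K K' hK hK'
    exact (Function.Bijective.of_comp_iff _ h2).mp h1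
  · obtain ⟨K, hK, ⟨e⟩⟩ := hBF.2 L₀ hL₀
    exact ⟨B.obj K, hP K hK, ⟨e⟩⟩

/-- An equivalence of categories compatible with the properties is an equivalence on them. -/
theorem EquivOn.of_equivalence (e : C ≌ D) (hQP : ∀ K, Q K → P (e.inverse.obj K)) :
    EquivOn e.functor P Q := by
  refine ⟨fun L L' _ _ => ?_, fun K hK => ⟨e.inverse.obj K, hQP K hK, ⟨e.counitIso.app K⟩⟩⟩
  exact ⟨fun x y hxy => e.functor.map_injective hxy, fun ψ => ⟨e.functor.preimage ψ, by simp⟩⟩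

end Groth.Agent.Lib.H90EquivOn
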