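import Groth.Agent.Lib.SheafHom23

set_option autoImplicit false
set_option linter.unusedVariables false
universe u
open CategoryTheory AlgebraicGeometry TopologicalSpace Opposite
open Groth.Agent.Lib.H90Invertible Groth.Agent.Lib.H78TensorGen Groth.Agent.Lib.H78Atlas
open Groth.Agent.Lib.InvGlue42 Groth.Agent.Lib.H4TensorPair Groth.Agent.Lib.H4ModHom
open Groth.Agent.Lib.OXModTensor Groth.Agent.Lib.TwistEquiv Groth.Agent.Lib.ProjFormulaFLF23

namespace Groth.Agent.Lib.SheafHom23

variable {X : Scheme.{u}} {M N N' : X.Modules}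

/-- sections of `ℋom(M, N)` as families -/
def toFam {U : X.Opens} (s : Γ(hom M N, U)) : HomSec M N U := s

/-- families as sections of `ℋom(M, N)` -/
def ofFam {U : X.Opens} (φ : HomSec M N U) : Γ(hom M N, U) := φ

@[simp] lemma toFam_ofFam {U : X.Opens} (φ : HomSec M N U) : toFam (ofFam φ) = φ := rfl
@[simp] lemma ofFam_toFam {U : X.Opens} (s : Γ(hom M N, U)) : ofFam (toFam s) = s := rfl

/-- evaluation of a section of `ℋom(M, N)` -/
noncomputable def hev {U : X.Opens} (s : Γ(hom M N, U)) (W : X.Opens) (h : W ≤ U) (a : Γ(M, W)) :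
    Γ(N, W) := ev (toFam s) W h a

lemma hev_add {U : X.Opens} (s : Γ(hom M N, U)) (W : X.Opens) (h : W ≤ U) (a b : Γ(M, W)) :
    hev s W h (a + b) = hev s W h a + hev s W h b := ev_add _ _ _ _ _

lemma hev_smul {U : X.Opens} (s : Γ(hom M N, U)) (W : X.Opens) (h : W ≤ U) (r : Γ(X, W))
    (a : Γ(M, W)) : hev s W h (r • a) = r • hev s W h a := ev_smul _ _ _ _ _

lemma hev_rs {U : X.Opens} (s : Γ(hom M N, U)) {W W' : X.Opens} (h : W ≤ U) (h' : W' ≤ W)
    (a : Γ(M, W)) : rs N h' (hev s W h a) = hev s W' (h'.trans h) (rs M h' a) := ev_rs _ _ _ _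

lemma rs_hev {U V : X.Opens} (h : V ≤ U) (s : Γ(hom M N, U)) (W : X.Opens) (hW : W ≤ V)
    (a : Γ(M, W)) : hev (rs (hom M N) h s) W hW a = hev s W (hW.trans h) a := rfl

lemma add_hev {U : X.Opens} (s t : Γ(hom M N, U)) (W : X.Opens) (h : W ≤ U) (a : Γ(M, W)) :
    hev (s + t) W h a = hev s W h a + hev t W h a := rfl

lemma smul_hev {U : X.Opens} (r : Γ(X, U)) (s : Γ(hom M N, U)) (W : X.Opens) (h : W ≤ U)
    (a : Γ(M, W)) : hev (r • s) W h a = rf h r • hev s W h a := rfl

lemma hom_sec_ext {U : X.Opens} {s t : Γ(hom M N, U)}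
    (h : ∀ (W : X.Opens) (hW : W ≤ U) (a : Γ(M, W)), hev s W hW a = hev t W hW a) : s = t :=
  hext (φ := toFam s) (ψ := toFam t) h

@[simp] lemma hev_ofFam_mk' {U : X.Opens} (f : ∀ (W : X.Opens), W ≤ U → Γ(M, W) → Γ(N, W))
    (hadd hsmul hrs) (W : X.Opens) (h : W ≤ U) (a : Γ(M, W)) :
    hev (ofFam (mk' f hadd hsmul hrs)) W h a = f W h a := rfl

variable (M) in
/-- functoriality of `ℋom(M, -)` -/
noncomputable def homMap (g : N ⟶ N') : hom M N ⟶ hom M N' :=
  homOfSections (L := hom M N) (N := hom M N')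
    (fun U s => ofFam (mk' (fun W h a => g.app W (hev s W h a))
      (fun W h a b => by rw [hev_add]; exact map_add _ _ _)
      (fun W h r a => by rw [hev_smul]; exact Scheme.Modules.Hom.app_smul g r _)
      (fun W W' h h' a => by
        rw [← hev_rs]
        exact (ConcreteCategory.congr_hom (g.mapPresheaf.naturality (homOfLE h').op) _).symm)))
    (fun U s t => hom_sec_ext fun W hW a => by
      rw [hev_ofFam_mk', add_hev, add_hev, hev_ofFam_mk', hev_ofFam_mk']
      exact map_add _ _ _)
    (fun U r s => hom_sec_ext fun W hW a => by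
      rw [hev_ofFam_mk', smul_hev, smul_hev, hev_ofFam_mk']
      exact Scheme.Modules.Hom.app_smul g _ _)
    (fun {U V} h s => hom_sec_ext fun W hW a => rfl)

lemma homMap_app_hev (g : N ⟶ N') {U : X.Opens} (s : Γ(hom M N, U)) (W : X.Opens) (h : W ≤ U)
    (a : Γ(M, W)) : hev ((homMap M g).app U s) W h a = g.app W (hev s W h a) := rfl

variable (M) in
/-- the internal Hom functor `ℋom(M, -)` -/
noncomputable def homFunctor : X.Modules ⥤ X.Modules where
  obj N := hom M N
  map g := homMap M g
  map_id N := by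
    apply Scheme.Modules.hom_ext
    intro U
    ext s
    exact hom_sec_ext fun W hW a => rfl
  map_comp g g' := by
    apply Scheme.Modules.hom_ext
    intro U
    ext s
    exact hom_sec_ext fun W hW a => rfl


open Groth.Agent.Lib.H78SecCoord in
lemma homMap_natural_aux (g : N ⟶ N') {V W : X.Opens} (h : W ≤ V) (x : Γ(N, V)) :
    g.app W (rs N h x) = rs N' h (g.app V x) := app_rs g h x

variable (M) in
/-- the unit `P ⟶ ℋom(M, P ⊗ M)` -/
noncomputable def unitHom (P : X.Modules) : P ⟶ hom M (CohB1.tensorMod P M) :=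
  homOfSections (L := P) (N := hom M (CohB1.tensorMod P M))
    (fun U p => ofFam (mk' (fun W h m => tmul (rs P h p) m)
      (fun W h a b => tmul_add_right _ _ _)
      (fun W h r a => tmul_smul _ _ _)
      (fun W W' h h' a => by rw [tmul_rs, rs_rs])))
    (fun U p q => hom_sec_ext fun W hW a => by
      rw [hev_ofFam_mk', add_hev, hev_ofFam_mk', hev_ofFam_mk', rs_add, tmul_add_left])
    (fun U r p => hom_sec_ext fun W hW a => by
      rw [hev_ofFam_mk', smul_hev, hev_ofFam_mk', rs_smul, smul_tmul])
    (fun {U V} h p => hom_sec_ext fun W hW a => by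
      rw [rs_hev, hev_ofFam_mk', hev_ofFam_mk']
      exact congrArg (fun t => tmul t a) (rs_rs P h hW p).symm)

lemma unitHom_app_hev (P : X.Modules) {U : X.Opens} (p : Γ(P, U)) (W : X.Opens) (h : W ≤ U)
    (m : Γ(M, W)) : hev ((unitHom M P).app U p) W h m = tmul (rs P h p) m := rfl

variable (M) in
/-- the evaluation pairing `ℋom(M, N) × M → N` -/
noncomputable def evPairing (N : X.Modules) : Pairing (hom M N) M N where
  toFun U s m := hev s U le_rfl m
  add_left U s t m := add_hev s t U le_rfl m
  add_right U s m m' := hev_add s U le_rfl m m'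
  smul_left U r s m := by rw [smul_hev, rf_self]
  smul_right U r s m := hev_smul s U le_rfl r m
  map {U V} h s m := by
    change rs N h (hev s U le_rfl m) = hev (rs (hom M N) h s) V le_rfl (rs M h m)
    rw [hev_rs, rs_hev]

variable (M) in
/-- the counit (evaluation) `ℋom(M, N) ⊗ M ⟶ N` -/
noncomputable def counitHom (N : X.Modules) : CohB1.tensorMod (hom M N) M ⟶ N := (evPairing M N).hom

lemma counitHom_app_tmul (N : X.Modules) {U : X.Opens} (s : Γ(hom M N, U)) (m : Γ(M, U)) :
    (counitHom M N).app U (tmul s m) = hev s U le_rfl m := hom_app_tmul (evPairing M N) U s m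



open Groth.Agent.Lib.H4KoszulPn

lemma unit_nat_elem {P P' : X.Modules} (g : P ⟶ P') {U : X.Opens} (p : Γ(P, U)) (W : X.Opens)
    (hW : W ≤ U) (m : Γ(M, W)) :
    hev ((homMap M (tensorModMap g (𝟙 M))).app U ((unitHom M P).app U p)) W hW m =
      hev ((unitHom M P').app U (g.app U p)) W hW m := by
  rw [homMap_app_hev, unitHom_app_hev, unitHom_app_hev, tensorModMap_tmul, homMap_natural_aux]
  rfl

lemma counit_nat_elem (g : N ⟶ N') {V : X.Opens} (s : Γ(hom M N, V)) (m : Γ(M, V)) :
    (counitHom M N').app V ((tensorModMap (homMap M g) (𝟙 M)).app V (tmul s m)) =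
      g.app V ((counitHom M N).app V (tmul s m)) := by
  rw [tensorModMap_tmul, counitHom_app_tmul, counitHom_app_tmul]
  rfl

lemma left_triangle_elem (P : X.Modules) {V : X.Opens} (p : Γ(P, V)) (m : Γ(M, V)) :
    (counitHom M (CohB1.tensorMod P M)).app V
      ((tensorModMap (unitHom M P) (𝟙 M)).app V (tmul p m)) = tmul p m := by
  rw [tensorModMap_tmul, counitHom_app_tmul, unitHom_app_hev, rs_self]
  rfl

lemma right_triangle_elem (N : X.Modules) {U : X.Opens} (s : Γ(hom M N, U)) (W : X.Opens)
    (hW : W ≤ U) (m : Γ(M, W)) :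
    hev ((homMap M (counitHom M N)).app U ((unitHom M (hom M N)).app U s)) W hW m = hev s W hW m := by
  rw [homMap_app_hev, unitHom_app_hev, counitHom_app_tmul, rs_hev]

lemma counit_naturality (g : N ⟶ N') :
    tensorModMap (homMap M g) (𝟙 M) ≫ counitHom M N' = counitHom M N ≫ g :=
  hom_ext_tmul _ _ fun V s m => counit_nat_elem g s m

lemma left_triangle (P : X.Modules) :
    tensorModMap (unitHom M P) (𝟙 M) ≫ counitHom M (CohB1.tensorMod P M) =
      𝟙 (CohB1.tensorMod P M) :=
  hom_ext_tmul _ _ fun V p m => left_triangle_elem P p m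

variable (M) in
/-- the tensor–hom adjunction `- ⊗ M ⊣ ℋom(M, -)` -/
noncomputable def tensorHomAdj : tensorRightFunctor M ⊣ homFunctor M where
  unit :=
    { app := fun P => unitHom M P
      naturality := fun P P' g => by
        apply Scheme.Modules.hom_ext
        intro U
        ext p
        exact hom_sec_ext fun W hW m => (unit_nat_elem g p W hW m).symm }
  counit :=
    { app := fun N => counitHom M N
      naturality := fun N N' g => counit_naturality g }
  left_triangle_components P := left_triangle P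
  right_triangle_components N := by
    apply Scheme.Modules.hom_ext
    intro U
    ext s
    exact hom_sec_ext fun W hW m => right_triangle_elem N s W hW m

end Groth.Agent.Lib.SheafHom23
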