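import Groth.Agent.Lib.DualFLF23
import Groth.Agent.Lib.SheafHomAdj23
import Groth.Agent.Lib.ModStalkLin
import Groth.Agent.Lib.H90CohRestrict
import Groth.Agent.Lib.OXModTensorQCoh
import Groth.Agent.Lib.ClosedPushPC17
import Groth.Agent.Lib.H72PullbackDescent

/-!
# Duals of finite locally free modules and the evaluation map (helper90)

* `isFinLocFree_of_isBasis`: a module with local bases is finite locally free.
* `isFinLocFree_dual`: the dual of a finite locally free module is finite locally free.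
* `isQuasicoherent_hom`, `isFT_hom`: `ℋom(A, M)` is quasi-coherent / of finite type if `A` is finite locally free and
  `M` is.
* `epi_counitHom`: the evaluation `ℋom(A, M) ⊗ A ⟶ M` is an epimorphism if `A` has local bases of positive rank.
-/

set_option autoImplicit false
set_option linter.unusedVariables false
universe u
open CategoryTheory CategoryTheory.Limits AlgebraicGeometry TopologicalSpace Opposite
open Groth.Agent.Lib.H90Invertible Groth.Agent.Lib.H78TensorGen Groth.Agent.Lib.H4TensorPair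
open Groth.Agent.Lib.OXModTensor Groth.Agent.Lib.ProjFormulaFLF23
open Groth.Agent.Lib.TensorBasis23 Groth.Agent.Lib.StructureModule Groth.Agent.Lib.SheafHom23
open Groth.Agent.Lib.DualPair23 Groth.Agent.Lib.DualFLF23 Groth.Agent.Lib.H72PullbackDescent
open Groth.Agent.Lib.FreeModStalk Groth.Agent.Lib.FreeModSch Groth.Agent.Lib.ModStalkLin

namespace Groth.Agent.Lib.H90EvEpi

variable {X : Scheme.{u}}

/-- a module with local bases is finite locally free -/
theorem isFinLocFree_of_isBasis (L : X.Modules)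
    (h : ∀ x : X, ∃ (V : X.Opens) (n : ℕ) (s : Fin n → Γ(L, V)), x ∈ V ∧ IsBasis L V s) :
    FlatMod.IsFinLocFree L := by
  intro x
  obtain ⟨V, n, s, hxV, hs⟩ := h x
  refine ⟨V, n, hxV, ⟨?_⟩⟩
  have e' : V.ι ''ᵁ ⊤ = V := by
    rw [V.ι.image_top_eq_opensRange, V.opensRange_ι]
  have h1 := hs.of_eq e'
  have h2 : IsBasis (L.restrict V.ι) ⊤ (fun i => rs L e'.le (s i)) :=
    isBasis_restrict_of_isBasis V.ι L ⊤ _ h1
  haveI := isIso_ofSections_of_isBasis (L.restrict V.ι) (fun i => rs L e'.le (s i)) h2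
  exact (asIso (ofSections (L.restrict V.ι) (fun i => rs L e'.le (s i)))).symm

/-- the dual of a finite locally free module is finite locally free -/
theorem isFinLocFree_dual {E : X.Modules} (hE : FlatMod.IsFinLocFree E) :
    FlatMod.IsFinLocFree (dual E) :=
  isFinLocFree_of_isBasis _ fun x => by
    obtain ⟨V, n, a, hxV, ha⟩ := exists_isBasis_of_isFinLocFree hE x
    exact ⟨V, n, dualSec ha, hxV, isBasis_dualSec ha⟩

/-- `M ⊗ A^* ≅ ℋom(A, M)` for `A` finite locally free -/
noncomputable def tensorDualIsoHom {A : X.Modules} (hA : FlatMod.IsFinLocFree A) (M : X.Modules) :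
    CohB1.tensorMod M (dual A) ≅ hom A M :=
  (tensorDualIso hA).app M

theorem isQuasicoherent_hom {A : X.Modules} (hA : FlatMod.IsFinLocFree A) (M : X.Modules)
    [M.IsQuasicoherent] : (hom A M).IsQuasicoherent := by
  haveI : (dual A).IsQuasicoherent := isQuasicoherent_of_isFinLocFree (isFinLocFree_dual hA)
  haveI : (CohB1.tensorMod M (dual A)).IsQuasicoherent :=
    Groth.Agent.Lib.OXModTensorQCoh.isQuasicoherent_tensorMod _ _
  exact Groth.Agent.Lib.H90CohRestrict.isQuasicoherent_of_iso (tensorDualIsoHom hA M)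

theorem isFT_hom {A : X.Modules} (hA : FlatMod.IsFinLocFree A) (M : X.Modules)
    [M.IsQuasicoherent] (hM : CohB1.IsFT M) : CohB1.IsFT (hom A M) := by
  haveI : (dual A).IsQuasicoherent := isQuasicoherent_of_isFinLocFree (isFinLocFree_dual hA)
  have h1 : CohB1.IsFT (dual A) := isFiniteType_of_isFinLocFree (isFinLocFree_dual hA)
  have h2 : CohB1.IsFT (CohB1.tensorMod M (dual A)) :=
    Groth.Agent.Lib.OXModTensorQCoh.isFiniteType_tensorMod _ _ hM h1
  exact Groth.Agent.Lib.ClosedPushPC17.isFT_of_epi (tensorDualIsoHom hA M).hom h2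

/-- the evaluation `ℋom(A, M) ⊗ A ⟶ M` is an epimorphism when `A` has local bases of positive rank -/
theorem epi_counitHom (A M : X.Modules)
    (h : ∀ x : X, ∃ (V : X.Opens) (n : ℕ) (a : Fin (n + 1) → Γ(A, V)), x ∈ V ∧ IsBasis A V a) :
    Epi (counitHom A M) := by
  classical
  rw [epi_iff_stalkLin_surjective]
  intro x η
  obtain ⟨V, n, a, hxV, ha⟩ := h x
  obtain ⟨W, hxW, m, rfl⟩ := TopCat.Presheaf.exists_germ_eq M.presheaf η
  let V' : X.Opens := W ⊓ V
  have hxV' : x ∈ V' := ⟨hxW, hxV⟩
  have ha' := ha.mono (inf_le_right : V' ≤ V)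
  let m' : Γ(M, V') := rs M (inf_le_left : V' ≤ W) m
  let φ : Γ(hom A M, V') := pfam (evPairing A (Coh.structureModule X)) M m' (dualSec ha' 0)
  refine ⟨(CohB1.tensorMod (hom A M) A).presheaf.germ V' x hxV' (tmul φ (rs A inf_le_right (a 0))), ?_⟩
  rw [stalkLin_germ, counitHom_app_tmul, pfam_hev, rs_self, sval_dualSec, if_pos rfl, one_smul, rs_self]
  exact TopCat.Presheaf.germ_res_apply M.presheaf (homOfLE (inf_le_left : V' ≤ W)) x hxV' m

end Groth.Agent.Lib.H90EvEpi
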