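import Mathlib
import Groth.Prelude.Def_W4c6eohyperellchar2Gc

/-!
# Basic formulas for the explicit module `W4c6eohyperellchar2.GcMod`
(helper90) `F`, `V` on the basis vectors `X_j`, `Y_j`, and decomposition of vectors on the basis.
-/

set_option autoImplicit false

namespace Groth.Agent.Lib.H90GcMod
open W4c6eohyperellchar2

variable (c : ℕ) (k : Type*)

section basic
variable [Field k]

lemma coefX_X (j m : ℕ) :
    coefX (X c k j) m = if (m = j ∧ 1 ≤ m ∧ m ≤ c) then 1 else 0 := by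
  unfold coefX X
  by_cases h : 1 ≤ m ∧ m ≤ c
  · rw [dif_pos h]
    by_cases h2 : m = j
    · rw [if_pos ⟨h2, h⟩]; simp only; rw [if_pos]; omega
    · rw [if_neg (fun h3 => h2 h3.1)]; simp only; rw [if_neg]; omega
  · rw [dif_neg h, if_neg (fun h3 => h h3.2)]

lemma coefX_Y (j m : ℕ) : coefX (Y c k j) m = 0 := by
  unfold coefX Y
  split_ifs <;> rfl

lemma coefY_X (j m : ℕ) : coefY (X c k j) m = 0 := by
  unfold coefY X
  split_ifs <;> rfl

lemma coefY_Y (j m : ℕ) :
    coefY (Y c k j) m = if (m = j ∧ 1 ≤ m ∧ m ≤ c) then 1 else 0 := by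
  unfold coefY Y
  by_cases h : 1 ≤ m ∧ m ≤ c
  · rw [dif_pos h]
    by_cases h2 : m = j
    · rw [if_pos ⟨h2, h⟩]; simp only; rw [if_pos]; omega
    · rw [if_neg (fun h3 => h2 h3.1)]; simp only; rw [if_neg]; omega
  · rw [dif_neg h, if_neg (fun h3 => h h3.2)]

/-- `F X_j = X_{j/2}` for `j` even. -/
lemma F_X_even {j : ℕ} (hj : j ≤ c) (he : j % 2 = 0) : F c k (X c k j) = X c k (j / 2) := by
  refine Prod.ext (funext fun i => ?_) (funext fun i => ?_)
  · show coefX (X c k j) (2 * (i.val + 1)) ^ 2 = if i.val + 1 = j / 2 then 1 else 0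
    rw [coefX_X]
    by_cases h : i.val + 1 = j / 2
    · rw [if_pos h, if_pos (by omega)]; simp
    · rw [if_neg h, if_neg (by omega)]; simp
  · show coefX (X c k j) (2 * (c - (i.val + 1)) + 1) ^ 2 = 0
    rw [coefX_X, if_neg (by omega)]; simp

/-- `F X_j = Y_{c-(j-1)/2}` for `j` odd. -/
lemma F_X_odd {j : ℕ} (hj : j ≤ c) (ho : j % 2 = 1) :
    F c k (X c k j) = Y c k (c - (j - 1) / 2) := by
  refine Prod.ext (funext fun i => ?_) (funext fun i => ?_)
  · show coefX (X c k j) (2 * (i.val + 1)) ^ 2 = 0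
    rw [coefX_X, if_neg (by omega)]; simp
  · show coefX (X c k j) (2 * (c - (i.val + 1)) + 1) ^ 2 = if i.val + 1 = c - (j - 1) / 2 then 1 else 0
    rw [coefX_X]
    have hi := i.isLt
    by_cases h : i.val + 1 = c - (j - 1) / 2
    · rw [if_pos h, if_pos (by omega)]; simp
    · rw [if_neg h, if_neg (by omega)]; simp

lemma F_Y (j : ℕ) : F c k (Y c k j) = 0 := by
  refine Prod.ext (funext fun i => ?_) (funext fun i => ?_)
  · show coefX (Y c k j) _ ^ 2 = 0
    rw [coefX_Y]; simp
  · show coefX (Y c k j) _ ^ 2 = 0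
    rw [coefX_Y]; simp

end basic

section V
variable [Field k] [CharP k 2] [PerfectRing k 2]

/-- `V Y_j = Y_{2j}` (which is zero when `2j > c`). -/
lemma V_Y (j : ℕ) (hj : 1 ≤ j) : V c k (Y c k j) = Y c k (2 * j) := by
  refine Prod.ext rfl (funext fun i => ?_)
  show (if (i.val + 1) % 2 = 0 then (frobeniusEquiv k 2).symm (coefY (Y c k j) ((i.val + 1) / 2))
    else (frobeniusEquiv k 2).symm (coefX (Y c k j) ((2 * c - i.val) / 2))) =
    if i.val + 1 = 2 * j then 1 else 0
  have hi := i.isLt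
  by_cases h0 : (i.val + 1) % 2 = 0
  · rw [if_pos h0, coefY_Y]
    by_cases h : i.val + 1 = 2 * j
    · rw [if_pos h, if_pos (by omega)]; simp
    · rw [if_neg h, if_neg (by omega)]; simp
  · rw [if_neg h0, coefX_Y, if_neg (by omega)]; simp

/-- `V X_j = Y_{2c-2j+1}` when `2j > c`, `j ≤ c`. -/
lemma V_X_of_lt {j : ℕ} (hj : j ≤ c) (h2 : c < 2 * j) :
    V c k (X c k j) = Y c k (2 * c - 2 * j + 1) := by
  refine Prod.ext rfl (funext fun i => ?_)
  show (if (i.val + 1) % 2 = 0 then (frobeniusEquiv k 2).symm (coefY (X c k j) ((i.val + 1) / 2))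
    else (frobeniusEquiv k 2).symm (coefX (X c k j) ((2 * c - i.val) / 2))) =
    if i.val + 1 = 2 * c - 2 * j + 1 then 1 else 0
  have hi := i.isLt
  by_cases h0 : (i.val + 1) % 2 = 0
  · rw [if_pos h0, coefY_X, if_neg (by omega)]; simp
  · rw [if_neg h0, coefX_X]
    by_cases h : i.val + 1 = 2 * c - 2 * j + 1
    · rw [if_pos h, if_pos (by omega)]; simp
    · rw [if_neg h, if_neg (by omega)]; simp

/-- `V X_j = 0` when `2j ≤ c`. -/
lemma V_X_of_le {j : ℕ} (h2 : 2 * j ≤ c) : V c k (X c k j) = 0 := by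
  refine Prod.ext rfl (funext fun i => ?_)
  show (if (i.val + 1) % 2 = 0 then (frobeniusEquiv k 2).symm (coefY (X c k j) ((i.val + 1) / 2))
    else (frobeniusEquiv k 2).symm (coefX (X c k j) ((2 * c - i.val) / 2))) = 0
  have hi := i.isLt
  by_cases h0 : (i.val + 1) % 2 = 0
  · rw [if_pos h0, coefY_X]; simp
  · rw [if_neg h0, coefX_X, if_neg (by omega)]; simp

end V

section decomp
variable [Field k]

/-- Every vector is the sum of its coordinates times the basis vectors. -/
lemma decomp (v : GcMod c k) :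
    v = ∑ i : Fin c, (v.1 i • X c k (i.val + 1)) + ∑ i : Fin c, (v.2 i • Y c k (i.val + 1)) := by
  refine Prod.ext (funext fun i => ?_) (funext fun i => ?_)
  · simp only [Prod.fst_add, Prod.fst_sum, Prod.smul_fst, Pi.add_apply, Finset.sum_apply,
      Pi.smul_apply, X, Y, smul_eq_mul, Pi.zero_apply, mul_zero, Finset.sum_const_zero, add_zero]
    rw [Finset.sum_eq_single i]
    · simp
    · intro b _ hb
      rw [if_neg, mul_zero]
      intro h; apply hb; ext; omega
    · simp
  · simp only [Prod.snd_add, Prod.snd_sum, Prod.smul_snd, Pi.add_apply, Finset.sum_apply,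
      Pi.smul_apply, X, Y, smul_eq_mul, Pi.zero_apply, mul_zero, Finset.sum_const_zero, zero_add]
    rw [Finset.sum_eq_single i]
    · simp
    · intro b _ hb
      rw [if_neg, mul_zero]
      intro h; apply hb; ext; omega
    · simp

/-- A submodule containing all basis vectors is everything. -/
lemma eq_top_of_basis_mem (N : Submodule k (GcMod c k))
    (hX : ∀ j, 1 ≤ j → j ≤ c → X c k j ∈ N) (hY : ∀ j, 1 ≤ j → j ≤ c → Y c k j ∈ N) : N = ⊤ := by
  rw [eq_top_iff]
  intro v _
  rw [decomp c k v]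
  refine N.add_mem (N.sum_mem fun i _ => N.smul_mem _ (hX _ (by omega) (by have := i.isLt; omega)))
    (N.sum_mem fun i _ => N.smul_mem _ (hY _ (by omega) (by have := i.isLt; omega)))

end decomp

end Groth.Agent.Lib.H90GcMod
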