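/-
helper90: Hartshorne III Ex. 4.2 (b): for `f : X ⟶ Y` finite surjective of integral Noetherian schemes and `F` coherent on `Y` there are
`r ≥ 1`, a coherent `G` on `X` and `β : f_* G ⟶ F^r` which is an isomorphism at the generic point of `Y`.
Generic freeness gives `φ : (f_* O_X^s)|_V ⟶ F^r|_V` bijective at the generic point; Deligne's formula extends it to `Jⁿ f_* O_X^s ⟶ F^r`
and `Jⁿ f_* O_X^s = f_* ((Jⁿ O_X) O_X^s)`.
-/
import Mathlib
import Groth.Agent.Lib.H90GenericBasis
import Groth.Agent.Lib.H90SigmaStalk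
import Groth.Agent.Lib.H90Deligne
import Groth.Agent.Lib.H90CohSum
import Groth.Agent.S9523

set_option autoImplicit false
set_option linter.style.haveILetI false
universe u

open CategoryTheory CategoryTheory.Limits AlgebraicGeometry TopologicalSpace Opposite

namespace Groth.Agent.Lib.H90GenericDual

open Groth.Agent.Lib.QCohStalk Groth.Agent.Lib.H90OXModSections Groth.Agent.Lib.H90OXModExt
  Groth.Agent.Lib.H90DevAtom Groth.Agent.Lib.H90DevHub2
  Groth.Agent.Lib.ModStalkLin Groth.Agent.Lib.ModStalk Groth.Agent.Lib.FreeModSch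
  Groth.Agent.Lib.FreeModStalk Groth.Agent.Lib.H90GenericBasis Groth.Agent.Lib.H90SigmaStalk
  Groth.Agent.Lib.LocFreeRank Groth.Agent.Lib.GenericFree Groth.Agent.Lib.ModStalkIso

variable {Y : Scheme.{u}}

section Generic

variable [IsIntegral Y]

/-- sections of a finite type module near the generic point of an integral scheme whose germs form a basis of all nearby stalks -/
theorem exists_sections_basis_near (F : Y.Modules) [F.IsFiniteType] :
    ∃ (n : ℕ) (W : Y.Opens) (_ : genericPoint Y ∈ W) (t : Fin n → Γ(F, W)),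
      n = Module.finrank ↑(Y.presheaf.stalk (genericPoint Y)) ↑(F.presheaf.stalk (genericPoint Y)) ∧
      ∀ y : W, LinearIndependent (Y.presheaf.stalk y.1) (fun i => F.presheaf.germ W y.1 y.2 (t i)) ∧
        Submodule.span (Y.presheaf.stalk y.1)
          (Set.range fun i => F.presheaf.germ W y.1 y.2 (t i)) = ⊤ := by
  let η := genericPoint Y
  let K := Y.presheaf.stalk η
  let _ : Field K := inferInstanceAs (Field Y.functionField)
  have hfin : Module.Finite K (F.presheaf.stalk η) :=
    Groth.Agent.Lib.CohFinite.finite_stalk_of_isFiniteType F η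
  have hrank : fibreRank F η = Module.finrank K (F.presheaf.stalk η) :=
    finrank_residueField_tensor_of_isField (K := K) (F.presheaf.stalk η)
  obtain ⟨W, hηW, t, hspan⟩ := exists_sections_span_near F η hrank
  have hliη : LinearIndependent K (fun i => F.presheaf.germ W η hηW (t i)) := by
    apply linearIndependent_of_top_le_span_of_card_eq_finrank
    · exact (hspan ⟨η, hηW⟩).ge
    · rw [Fintype.card_fin]
  refine ⟨_, W, hηW, t, rfl, fun y => ⟨?_, hspan y⟩⟩
  exact linearIndependent_of_specializes F (Groth.Agent.Lib.GenericFree.genericPoint_specializes y.1)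
    (stalkSpecializes_genericPoint_injective y.1) y.2 t hliη

set_option backward.isDefEq.respectTransparency false in
/-- two finite type modules of the same generic rank on an integral scheme admit a morphism over a nonempty open
which is bijective at the generic point -/
theorem exists_restrict_hom_bijective_generic (A B : Y.Modules) [A.IsFiniteType] [B.IsFiniteType]
    (hAB : Module.finrank ↑(Y.presheaf.stalk (genericPoint Y)) ↑(A.presheaf.stalk (genericPoint Y)) =
      Module.finrank ↑(Y.presheaf.stalk (genericPoint Y)) ↑(B.presheaf.stalk (genericPoint Y))) :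
    ∃ (V : Y.Opens) (hV : genericPoint Y ∈ V)
      (φ : (Scheme.Modules.restrictFunctor V.ι).obj A ⟶ (Scheme.Modules.restrictFunctor V.ι).obj B),
      Function.Bijective (stalkLin φ ⟨genericPoint Y, hV⟩) := by
  obtain ⟨n, WA, hWA, tA, hn, hA⟩ := exists_sections_basis_near A
  obtain ⟨m, WB, hWB, tB, hm, hliB, hspB⟩ := exists_sections_basis_generic' B
  have hnm : n = m := by rw [hn, hm, hAB]
  subst hnm
  let V : Y.Opens := WA ⊓ WB
  have hV : genericPoint Y ∈ V := ⟨hWA, hWB⟩
  let gA : FlatMod.freeMod V n ⟶ A.restrict V.ι :=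
    ofSections (A.restrict V.ι) (sectionsOn A tA (inf_le_left : V ≤ WA))
  let gB : FlatMod.freeMod V n ⟶ B.restrict V.ι :=
    ofSections (B.restrict V.ι) (sectionsOn B tB (inf_le_right : V ≤ WB))
  haveI : IsIso gA := by
    apply isIso_of_stalk_bijective
    intro y
    change Function.Bijective (stalkLin gA y)
    exact bijective_stalkLin_ofSections _ y
      ((linearIndependent_sectionsOn_iff A tA inf_le_left y).mpr (hA ⟨y.1, y.2.1⟩).1)
      ((span_sectionsOn_eq_top_iff A tA inf_le_left y).mpr (hA ⟨y.1, y.2.1⟩).2)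
  have hgB : Function.Bijective (stalkLin gB ⟨genericPoint Y, hV⟩) :=
    bijective_stalkLin_ofSections _ _
      ((linearIndependent_sectionsOn_iff B tB inf_le_right ⟨genericPoint Y, hV⟩).mpr hliB)
      ((span_sectionsOn_eq_top_iff B tB inf_le_right ⟨genericPoint Y, hV⟩).mpr hspB)
  refine ⟨V, hV, inv gA ≫ gB, ?_⟩
  rw [stalkLin_comp]
  exact hgB.comp (stalkLinEquiv (asIso gA).symm _).bijective

end Generic

section Main

variable {X : Scheme.{u}} (f : X ⟶ Y)

/-- the generic rank of `f_* O_X` is positive for `f` finite surjective between integral schemes -/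
theorem finrank_OZ_pos [IsIntegral X] [IsIntegral Y] [IsFinite f] [Surjective f] :
    0 < Module.finrank ↑(Y.presheaf.stalk (genericPoint Y))
      ↑((OZ f).presheaf.stalk (genericPoint Y)) := by
  have hFc : Coh.IsCoh (OZ f) :=
    Groth.Agent.Lib.H90OXModPushFinite.isCoh_pushforward f _ (isCoh_structureModule X)
  haveI : (OZ f).IsFiniteType := hFc.2
  let _ : Field (Y.presheaf.stalk (genericPoint Y)) := inferInstanceAs (Field Y.functionField)
  haveI : Module.Finite (Y.presheaf.stalk (genericPoint Y)) ((OZ f).presheaf.stalk (genericPoint Y)) :=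
    Groth.Agent.Lib.CohFinite.finite_stalk_of_isFiniteType (OZ f) _
  haveI : Nontrivial ↑((OZ f).presheaf.stalk (genericPoint Y)) := by
    rw [← mem_support_iff, Groth.Agent.Lib.H90FiniteSurjHub.support_OZ f f.isClosedMap]
    have h1 : closure {f (genericPoint X)} = Set.univ := by
      have h2 := (f.isClosedMap).closure_image_eq_of_continuous f.continuous {genericPoint X}
      rw [Set.image_singleton] at h2
      rw [h2, genericPoint_closure, Set.image_univ]
      exact Set.range_eq_univ.mpr f.surjective
    rw [h1]; trivial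
  exact Module.finrank_pos

theorem isCoh_sigma_ulift_fin {F : Y.Modules} (hF : Coh.IsCoh F) (r : ℕ) :
    Coh.IsCoh (∐ fun _ : ULift.{u} (Fin r) => F) := by
  haveI : HasFiniteBiproducts Y.Modules := HasFiniteBiproducts.of_hasFiniteProducts
  have h1 : Coh.IsCoh (⨁ fun _ : Fin r => F) :=
    Groth.Agent.Lib.H90CohSum.isCoh_biproduct _ (fun _ => hF)
  let e : (∐ fun _ : ULift.{u} (Fin r) => F) ≅ ∐ fun _ : Fin r => F :=
    Limits.Sigma.whiskerEquiv (f := fun _ : ULift.{u} (Fin r) => F) (g := fun _ : Fin r => F)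
      Equiv.ulift (fun _ => Iso.refl _)
  exact Groth.Agent.Lib.H90CohRestrict.isCoh_of_iso
    ((biproduct.isoCoproduct (fun _ : Fin r => F)) ≪≫ e.symm) h1

set_option backward.isDefEq.respectTransparency false in
/-- Hartshorne III Ex. 4.2 (b), with `r` the generic rank of `f_* O_X`. -/
theorem exists_pushforward_to_sigma_of_eq [IsIntegral X] [IsIntegral Y] [AlgebraicGeometry.IsNoetherian X]
    [AlgebraicGeometry.IsNoetherian Y] [IsFinite f] [Surjective f] (F : Y.Modules) (hF : Coh.IsCoh F)
    (r : ℕ) (hr : r = Module.finrank ↑(Y.presheaf.stalk (genericPoint Y))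
      ↑((OZ f).presheaf.stalk (genericPoint Y))) :
    ∃ (G : X.Modules)
      (β : (Scheme.Modules.pushforward f).obj G ⟶ ∐ fun _ : ULift.{u} (Fin r) => F),
      Coh.IsCoh G ∧ Function.Bijective (stalkLin β (genericPoint Y)) := by
  classical
  let _ : Field (Y.presheaf.stalk (genericPoint Y)) := inferInstanceAs (Field Y.functionField)
  have hOc : Coh.IsCoh (OZ f) :=
    Groth.Agent.Lib.H90OXModPushFinite.isCoh_pushforward f _ (isCoh_structureModule X)
  haveI : (OZ f).IsFiniteType := hOc.2
  haveI : F.IsFiniteType := hF.2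
  haveI : Module.Finite (Y.presheaf.stalk (genericPoint Y)) ((OZ f).presheaf.stalk (genericPoint Y)) :=
    Groth.Agent.Lib.CohFinite.finite_stalk_of_isFiniteType (OZ f) _
  haveI : Module.Finite (Y.presheaf.stalk (genericPoint Y)) (F.presheaf.stalk (genericPoint Y)) :=
    Groth.Agent.Lib.CohFinite.finite_stalk_of_isFiniteType F _
  obtain ⟨s, hs⟩ : ∃ s : ℕ, s = Module.finrank ↑(Y.presheaf.stalk (genericPoint Y))
      ↑(F.presheaf.stalk (genericPoint Y)) := ⟨_, rfl⟩
  -- the modules `A = f_* O_X^s` and `B = F^r`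
  have hG₀ : Coh.IsCoh (FlatMod.freeMod X s) :=
    Groth.Agent.Lib.H90Invertible.isCoh_of_isFinLocFree
      (Groth.Agent.Lib.H90Invertible.isFinLocFree_freeMod X s)
  haveI : (FlatMod.freeMod X s).IsQuasicoherent := hG₀.1
  have hA : Coh.IsCoh ((Scheme.Modules.pushforward f).obj (FlatMod.freeMod X s)) :=
    Groth.Agent.Lib.H90OXModPushFinite.isCoh_pushforward f _ hG₀
  have hB : Coh.IsCoh (∐ fun _ : ULift.{u} (Fin r) => F) := isCoh_sigma_ulift_fin hF r
  haveI : ((Scheme.Modules.pushforward f).obj (FlatMod.freeMod X s)).IsFiniteType := hA.2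
  haveI : ((Scheme.Modules.pushforward f).obj (FlatMod.freeMod X s)).IsQuasicoherent := hA.1
  haveI : (∐ fun _ : ULift.{u} (Fin r) => F).IsFiniteType := hB.2
  haveI : (∐ fun _ : ULift.{u} (Fin r) => F).IsQuasicoherent := hB.1
  -- the generic ranks agree
  have hrankA : Module.finrank ↑(Y.presheaf.stalk (genericPoint Y))
      ↑(((Scheme.Modules.pushforward f).obj (FlatMod.freeMod X s)).presheaf.stalk (genericPoint Y)) =
      s * r := by
    let e₁ : (Scheme.Modules.pushforward f).obj (FlatMod.freeMod X s) ≅ ∐ fun _ : Fin s => OZ f :=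
      PreservesCoproduct.iso (Scheme.Modules.pushforward f) (fun _ : Fin s => Coh.structureModule X)
    rw [(stalkLinEquiv e₁ (genericPoint Y)).finrank_eq, finrank_sigma, Fintype.card_fin, hr]
  have hrankB : Module.finrank ↑(Y.presheaf.stalk (genericPoint Y))
      ↑((∐ fun _ : ULift.{u} (Fin r) => F).presheaf.stalk (genericPoint Y)) = r * s := by
    rw [finrank_sigma, Fintype.card_ulift, Fintype.card_fin, hs]
  obtain ⟨V, hV, φ, hφ⟩ := exists_restrict_hom_bijective_generic
    ((Scheme.Modules.pushforward f).obj (FlatMod.freeMod X s)) (∐ fun _ : ULift.{u} (Fin r) => F)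
    (by rw [hrankA, hrankB, mul_comm])
  -- Deligne's formula
  let Zc : Closeds Y := ⟨(V : Set Y)ᶜ, V.isOpen.isClosed_compl⟩
  let J : Y.IdealSheafData := Scheme.IdealSheafData.vanishingIdeal Zc
  have hU : (V : Set Y) = (J.support : Set Y)ᶜ := by
    rw [Scheme.IdealSheafData.coe_support_vanishingIdeal]
    exact (compl_compl _).symm
  obtain ⟨n, ψ, hψ⟩ := Groth.Agent.Lib.H90Deligne.exists_extension (I := J)
    (∐ fun _ : ULift.{u} (Fin r) => F) ((Scheme.Modules.pushforward f).obj (FlatMod.freeMod X s)) hA V hU φ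
  obtain ⟨e, -⟩ := Groth.Agent.S9523.result f (FlatMod.freeMod X s) hG₀.1 (J ^ n)
  have hGc : Coh.IsCoh ((Dual3.idealMul ((J ^ n).comap f)).obj (FlatMod.freeMod X s)) :=
    Groth.Agent.Lib.H90DevFilt.isCoh_of_mono (Dual3.idealMulι ((J ^ n).comap f) (FlatMod.freeMod X s)) hG₀
  refine ⟨_, e.inv ≫ ψ, hGc, ?_⟩
  have hψb : Function.Bijective (stalkLin ψ (genericPoint Y)) := by
    apply (Groth.Agent.Lib.RestrictStalk.stalkLin_restrict_bijective_iff V.ι
      ⟨genericPoint Y, hV⟩ ψ).mp
    rw [hψ, stalkLin_comp]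
    haveI := Groth.Agent.Lib.H90IdealKill.isIso_restrict_idealMulι J
      ((Scheme.Modules.pushforward f).obj (FlatMod.freeMod X s)) hU n
    exact hφ.comp (stalkLinEquiv (asIso ((Scheme.Modules.restrictFunctor V.ι).map
      (Dual3.idealMulι (J ^ n) ((Scheme.Modules.pushforward f).obj (FlatMod.freeMod X s))))) _).bijective
  rw [stalkLin_comp]
  exact hψb.comp (stalkLinEquiv e.symm _).bijective

/-- Hartshorne III Ex. 4.2 (b). -/
theorem exists_pushforward_to_sigma [IsIntegral X] [IsIntegral Y] [AlgebraicGeometry.IsNoetherian X]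
    [AlgebraicGeometry.IsNoetherian Y] [IsFinite f] [Surjective f] (F : Y.Modules) (hF : Coh.IsCoh F) :
    ∃ (r : ℕ) (G : X.Modules)
      (β : (Scheme.Modules.pushforward f).obj G ⟶ ∐ fun _ : ULift.{u} (Fin r) => F),
      0 < r ∧ Coh.IsCoh G ∧ Function.Bijective (stalkLin β (genericPoint Y)) := by
  obtain ⟨G, β, hG, hβ⟩ := exists_pushforward_to_sigma_of_eq f F hF _ rfl
  exact ⟨_, G, β, finrank_OZ_pos f, hG, hβ⟩

set_option backward.isDefEq.respectTransparency false in
/-- Hartshorne III Ex. 4.2 (b), in the form of the statement S10949. -/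
theorem exists_pushforward_to_sigma' [IsIntegral X] [IsIntegral Y] [AlgebraicGeometry.IsNoetherian X]
    [AlgebraicGeometry.IsNoetherian Y] [IsFinite f] [Surjective f] (F : Y.Modules) (hF : Coh.IsCoh F) :
    ∃ (r : ℕ) (G : X.Modules)
      (β : (Scheme.Modules.pushforward f).obj G ⟶ ∐ fun _ : ULift.{u} (Fin r) => F),
      0 < r ∧ Coh.IsCoh G ∧
      IsIso ((TopCat.Presheaf.stalkFunctor AddCommGrpCat.{u} (genericPoint ↥Y)).map
        ((SheafOfModules.toSheaf Y.ringCatSheaf).map β).hom) := by
  obtain ⟨r, G, β, hr, hG, hβ⟩ := exists_pushforward_to_sigma f F hF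
  exact ⟨r, G, β, hr, hG, (ConcreteCategory.isIso_iff_bijective _).mpr hβ⟩

end Main

section NearIso

variable {X : Scheme.{u}}

/-- a morphism of coherent modules on a locally Noetherian scheme which is bijective on the stalk at `x` is an isomorphism
over an open neighbourhood of `x` -/
theorem exists_open_isIso_restrict_of_bijective_stalkLin [IsLocallyNoetherian X] {A B : X.Modules} (u : A ⟶ B)
    (hA : Coh.IsCoh A) (hB : Coh.IsCoh B) (x : X) (h : Function.Bijective (stalkLin u x)) :
    ∃ V : X.Opens, x ∈ V ∧ IsIso ((Scheme.Modules.restrictFunctor V.ι).map u) := by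
  haveI : A.IsQuasicoherent := hA.1
  haveI : B.IsQuasicoherent := hB.1
  have hK : Coh.IsCoh (kernel u) := Groth.Agent.Lib.H90OXModExact.isCoh_kernel u hA
  have hC : Coh.IsCoh (cokernel u) := Groth.Agent.Lib.H90OXModExact.isCoh_cokernel u hB
  have hxK : x ∉ CohB1.support (kernel u) := by
    rw [notMem_support_iff]
    refine ⟨fun a b => ?_⟩
    have key : ∀ v : ↑((kernel u).presheaf.stalk x), v = 0 := by
      intro v
      apply stalkLin_injective_of_mono (kernel.ι u) x
      apply h.1
      have : stalkLin u x (stalkLin (kernel.ι u) x v) = stalkLin (kernel.ι u ≫ u) x v := by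
        rw [stalkLin_comp]; rfl
      rw [this, kernel.condition, Groth.Agent.Lib.H90SigmaStalk.stalkLin_zero, map_zero, map_zero]
      rfl
    rw [key a, key b]
  have hxC : x ∉ CohB1.support (cokernel u) := by
    rw [notMem_support_iff]
    refine ⟨fun a b => ?_⟩
    have key : ∀ w : ↑((cokernel u).presheaf.stalk x), w = 0 := by
      intro w
      obtain ⟨b', rfl⟩ := stalkLin_surjective_of_epi (cokernel.π u) x w
      obtain ⟨a', rfl⟩ := h.2 b'
      have : stalkLin (cokernel.π u) x (stalkLin u x a') = stalkLin (u ≫ cokernel.π u) x a' := by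
        rw [stalkLin_comp]; rfl
      rw [this, cokernel.condition, Groth.Agent.Lib.H90SigmaStalk.stalkLin_zero]
      rfl
    rw [key a, key b]
  have hclK : IsClosed (CohB1.support (kernel u)) := isClosed_support_of_isFT _ hK.2
  have hclC : IsClosed (CohB1.support (cokernel u)) := isClosed_support_of_isFT _ hC.2
  let V : X.Opens := ⟨(CohB1.support (kernel u) ∪ CohB1.support (cokernel u))ᶜ,
    (hclK.union hclC).isOpen_compl⟩
  refine ⟨V, fun hx => hx.elim hxK hxC, ?_⟩
  rw [Groth.Agent.Lib.H90QCohLocalization.isIso_restrict_map_iff]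
  constructor
  · intro y hy hyV
    exact hyV (Or.inl hy)
  · intro y hy hyV
    exact hyV (Or.inr hy)

end NearIso

section FinForm

variable {X : Scheme.{u}} (f : X ⟶ Y)

set_option backward.isDefEq.respectTransparency false in
/-- Hartshorne III Ex. 4.2 (b) with `m = [K(X) : K(Y)]` copies and an isomorphism over a neighbourhood of the generic point. -/
theorem exists_pushforward_to_sigma_fin [IsIntegral X] [IsIntegral Y] [AlgebraicGeometry.IsNoetherian X]
    [AlgebraicGeometry.IsNoetherian Y] [IsFinite f] [Surjective f] (F : Y.Modules) (hF : Coh.IsCoh F) :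
    ∃ (G : X.Modules) (u : (Scheme.Modules.pushforward f).obj G ⟶
        ∐ fun _ : Fin (Module.finrank (Y.functionField)
            (((Scheme.Modules.pushforward f).obj (Coh.structureModule X)).presheaf.stalk (genericPoint Y))) => F),
      Coh.IsCoh G ∧ ∃ V : Y.Opens, genericPoint Y ∈ V ∧
        IsIso ((Scheme.Modules.restrictFunctor V.ι).map u) := by
  obtain ⟨G, β, hG, hβ⟩ := exists_pushforward_to_sigma_of_eq f F hF
    (Module.finrank (Y.functionField)
      (((Scheme.Modules.pushforward f).obj (Coh.structureModule X)).presheaf.stalk (genericPoint Y))) rfl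
  let e : (∐ fun _ : ULift.{u} (Fin (Module.finrank (Y.functionField)
      (((Scheme.Modules.pushforward f).obj (Coh.structureModule X)).presheaf.stalk (genericPoint Y)))) => F) ≅
      ∐ fun _ : Fin (Module.finrank (Y.functionField)
      (((Scheme.Modules.pushforward f).obj (Coh.structureModule X)).presheaf.stalk (genericPoint Y))) => F :=
    Limits.Sigma.whiskerEquiv (f := fun _ : ULift.{u} (Fin (Module.finrank (Y.functionField)
      (((Scheme.Modules.pushforward f).obj (Coh.structureModule X)).presheaf.stalk (genericPoint Y)))) => F)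
      (g := fun _ : Fin (Module.finrank (Y.functionField)
      (((Scheme.Modules.pushforward f).obj (Coh.structureModule X)).presheaf.stalk (genericPoint Y))) => F)
      Equiv.ulift (fun _ => Iso.refl _)
  refine ⟨G, β ≫ e.hom, hG, ?_⟩
  have hA : Coh.IsCoh ((Scheme.Modules.pushforward f).obj G) :=
    Groth.Agent.Lib.H90OXModPushFinite.isCoh_pushforward f G hG
  have hB := Groth.Agent.Lib.H90CohRestrict.isCoh_of_iso e (isCoh_sigma_ulift_fin hF _)
  refine exists_open_isIso_restrict_of_bijective_stalkLin (β ≫ e.hom) hA hB (genericPoint Y) ?_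
  rw [stalkLin_comp]
  exact (stalkLinEquiv e _).bijective.comp hβ

end FinForm

end Groth.Agent.Lib.H90GenericDual
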