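import Mathlib
import Groth.Agent.Lib.FreeModStalk

/-!
# Finite generation of stalks of an arbitrary subsheaf of `O_X` on a Noetherian scheme (helper90)

* `exists_mul_mem_of_map_mem`: uniform denominator for the saturation of an ideal at a prime.
* `stalkO ι x`: the stalk map of `ι : G ⟶ O_X` as a linear map into the local ring `O_{X,x}`.
* `exists_local_generators`: every point `ξ` has a neighbourhood `V' ≤ V` and finitely many sections
  of `G` over `V` whose germs generate `G_x` at every specialization `x ∈ V'` of `ξ`.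
* `exists_finite_generators`: finitely many local sections generating all stalks.
-/

set_option autoImplicit false
universe u

open CategoryTheory CategoryTheory.Limits AlgebraicGeometry TopologicalSpace Opposite

namespace Groth.Agent.Lib.H90IdealGen

open Groth.Agent.Lib.ModStalk Groth.Agent.Lib.ModStalkLin Groth.Agent.Lib.FreeModStalk
  Groth.Agent.Lib.QCohStalk

/-- saturation at a prime: uniform denominator -/
theorem exists_mul_mem_of_map_mem {A S : Type*} [CommRing A] [IsNoetherianRing A] [CommRing S]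
    [Algebra A S] (p : Ideal A) [p.IsPrime] [IsLocalization.AtPrime S p] (I : Ideal A) :
    ∃ f ∈ p.primeCompl, ∀ b : A, algebraMap A S b ∈ Ideal.map (algebraMap A S) I → f * b ∈ I := by
  classical
  let J : Ideal A := Ideal.comap (algebraMap A S) (Ideal.map (algebraMap A S) I)
  have hpt : ∀ b ∈ J, ∃ f ∈ p.primeCompl, f * b ∈ I := by
    intro b hb
    obtain ⟨⟨a', s⟩, h⟩ := (IsLocalization.mem_map_algebraMap_iff p.primeCompl S).mp hb
    rw [← map_mul] at h
    obtain ⟨c, hc⟩ := (IsLocalization.eq_iff_exists p.primeCompl S).mp h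
    refine ⟨(c : A) * (s : A), (c * s).2, ?_⟩
    have h2 : (c : A) * (s : A) * b = c * (b * s) := by ring
    rw [h2]
    have h3 : (c : A) * (b * (s : A)) = c * a' := hc
    rw [h3]
    exact I.mul_mem_left _ a'.2
  obtain ⟨T, hT⟩ := (isNoetherianRing_iff_ideal_fg A).mp inferInstance J
  choose! g hg hgI using hpt
  refine ⟨∏ b ∈ T, g b, ?_, ?_⟩
  · exact p.primeCompl.prod_mem fun b hb => hg b (hT ▸ Ideal.subset_span hb)
  · intro b hb
    have hbJ : b ∈ J := hb
    rw [← hT] at hbJ
    refine Submodule.span_induction (p := fun b _ => (∏ b ∈ T, g b) * b ∈ I) ?_ ?_ ?_ ?_ hbJ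
    · intro t ht
      rw [← Finset.mul_prod_erase T g ht, mul_comm (g t), mul_assoc]
      exact I.mul_mem_left _ (hgI t (hT ▸ Ideal.subset_span ht))
    · simp
    · intro x y _ _ hx hy
      rw [mul_add]
      exact I.add_mem hx hy
    · intro a x _ hx
      rw [smul_eq_mul, mul_left_comm]
      exact I.mul_mem_left _ hx

variable {X : Scheme.{u}}

/-- a section of the structure module is a function -/
def toFn {U : X.Opens} (s : Γ(Coh.structureModule X, U)) : Γ(X, U) := s

variable {G : X.Modules} (ι : G ⟶ Coh.structureModule X)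

/-- The stalk map of `ι : G ⟶ O_X`, with values in the local ring. -/
noncomputable def stalkO (x : X) : G.presheaf.stalk x →ₗ[X.presheaf.stalk x] X.presheaf.stalk x :=
  (unitStalkEquiv x).symm.toLinearMap.comp (stalkLin ι x)

theorem stalkO_germ (x : X) (U : X.Opens) (hx : x ∈ U) (s : Γ(G, U)) :
    stalkO ι x (G.presheaf.germ U x hx s) = X.presheaf.germ U x hx (toFn (ι.app U s)) := by
  change (unitStalkEquiv x).symm (stalkLin ι x (G.presheaf.germ U x hx s)) = _
  rw [stalkLin_germ, LinearEquiv.symm_apply_eq, unitStalkEquiv_apply]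
  exact germ_unit_eq_smul_one x U hx (toFn (ι.app U s))

theorem stalkO_injective [Mono ι] (x : X) : Function.Injective (stalkO ι x) := by
  intro a b h
  exact stalkLin_injective_of_mono ι x ((unitStalkEquiv x).symm.injective h)

/-- Local generators: every point `ξ` has neighbourhoods `V' ≤ V` and finitely many sections of `G`
over `V` whose germs generate `G_x` for every specialization `x ∈ V'` of `ξ`. -/
theorem exists_local_generators [IsLocallyNoetherian X] [Mono ι] (ξ : X) :
    ∃ (V V' : X.Opens) (m : ℕ) (t : Fin m → Γ(G, V)) (hle : V' ≤ V), ξ ∈ V' ∧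
      ∀ (x : X) (hx : x ∈ V'), ξ ⤳ x →
        Submodule.span (X.presheaf.stalk x)
          (Set.range fun j => G.presheaf.germ V x (hle hx) (t j)) = ⊤ := by
  classical
  -- `G_ξ` is finitely generated
  haveI : IsNoetherian (X.presheaf.stalk ξ) (G.presheaf.stalk ξ) :=
    isNoetherian_of_injective (stalkO ι ξ) (stalkO_injective ι ξ)
  obtain ⟨m, γ, hγ⟩ := Submodule.fg_iff_exists_fin_generating_family.mp
    (IsNoetherian.noetherian (⊤ : Submodule (X.presheaf.stalk ξ) (G.presheaf.stalk ξ)))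
  have h1 : ∀ j, ∃ (U : X.Opens) (hU : ξ ∈ U) (s : Γ(G, U)), G.presheaf.germ U ξ hU s = γ j :=
    fun j => TopCat.Presheaf.exists_germ_eq G.presheaf (γ j)
  choose U hU s hs using h1
  let W : X.Opens := Finset.univ.inf U
  have hWU : ∀ j, W ≤ U j := fun j => Finset.inf_le (Finset.mem_univ j)
  have hξW : ξ ∈ W := by
    change ξ ∈ (W : Set X)
    rw [Opens.coe_finset_inf, Finset.inf_set_eq_iInter]
    simp only [Set.mem_iInter, Function.comp_apply, SetLike.mem_coe]
    intro j _
    exact hU j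
  obtain ⟨_, ⟨V, hV, rfl⟩, hξV, hVW⟩ :=
    X.isBasis_affineOpens.exists_subset_of_mem_open hξW W.isOpen
  have hVU : ∀ j, V ≤ U j := fun j => le_trans (show V ≤ W from hVW) (hWU j)
  let t : Fin m → Γ(G, V) := fun j => res G (hVU j) (s j)
  have ht : ∀ j, G.presheaf.germ V ξ hξV (t j) = γ j := fun j => by
    rw [← hs j]
    exact germ_res G (hVU j) ξ hξV (s j)
  haveI : IsNoetherianRing Γ(X, V) := IsLocallyNoetherian.component_noetherian ⟨V, hV⟩
  let a : Fin m → Γ(X, V) := fun j => toFn (ι.app V (t j))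
  let I : Ideal Γ(X, V) := Ideal.span (Set.range a)
  let ξV : V := ⟨ξ, hξV⟩
  letI := X.presheaf.algebra_section_stalk ξV
  haveI := hV.isLocalization_stalk ξV
  obtain ⟨f, hf, hfI⟩ := exists_mul_mem_of_map_mem (S := X.presheaf.stalk ξ)
    (hV.primeIdealOf ξV).asIdeal I
  have hfu : IsUnit (X.presheaf.germ V ξ hξV f) :=
    IsLocalization.map_units (X.presheaf.stalk ξ)
      (⟨f, hf⟩ : (hV.primeIdealOf ξV).asIdeal.primeCompl)
  refine ⟨V, X.basicOpen f, m, t, X.basicOpen_le f, (X.mem_basicOpen f ξ hξV).mpr hfu, ?_⟩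
  intro x hx hspec
  have hxV : x ∈ V := X.basicOpen_le f hx
  rw [eq_top_iff]
  rintro γ₀ -
  obtain ⟨W₀, hxW₀, s₀, rfl⟩ := TopCat.Presheaf.exists_germ_eq G.presheaf γ₀
  obtain ⟨g, hgW, hxg⟩ := hV.exists_basicOpen_le ⟨x, hxW₀⟩ hxV
  have hDV : X.basicOpen g ≤ V := X.basicOpen_le g
  let s' : Γ(G, X.basicOpen g) := res G hgW s₀
  have hs' : G.presheaf.germ (X.basicOpen g) x hxg s' = G.presheaf.germ W₀ x hxW₀ s₀ :=
    germ_res G hgW x hxg s₀
  rw [← hs']
  let b : Γ(X, X.basicOpen g) := toFn (ι.app (X.basicOpen g) s')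
  haveI := hV.isLocalization_basicOpen g
  obtain ⟨k, a', hka⟩ := IsLocalization.Away.surj g b
  have hka' : b * (X.presheaf.map (homOfLE hDV).op).hom g ^ k =
      (X.presheaf.map (homOfLE hDV).op).hom a' := hka
  -- at `ξ`
  have hξD : ξ ∈ X.basicOpen g := hspec.mem_open (X.basicOpen g).isOpen hxg
  have hmem : X.presheaf.germ (X.basicOpen g) ξ hξD b ∈
      Ideal.map (algebraMap Γ(X, V) (X.presheaf.stalk ξ)) I := by
    have h2 : G.presheaf.germ (X.basicOpen g) ξ hξD s' ∈
        Submodule.span (X.presheaf.stalk ξ) (Set.range γ) := by rw [hγ]; trivial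
    have h3 := Submodule.mem_map_of_mem (f := stalkO ι ξ) h2
    rw [stalkO_germ, Submodule.map_span, ← Set.range_comp] at h3
    have h4 : (⇑(stalkO ι ξ) ∘ γ) = fun j => algebraMap Γ(X, V) (X.presheaf.stalk ξ) (a j) := by
      funext j
      change stalkO ι ξ (γ j) = _
      rw [← ht j, stalkO_germ]
      rfl
    rw [h4] at h3
    rw [Ideal.map_span, ← Set.range_comp]
    exact h3
  have hmem' : algebraMap Γ(X, V) (X.presheaf.stalk ξ) a' ∈
      Ideal.map (algebraMap Γ(X, V) (X.presheaf.stalk ξ)) I := by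
    have h5 : algebraMap Γ(X, V) (X.presheaf.stalk ξ) a' =
        X.presheaf.germ (X.basicOpen g) ξ hξD b *
          X.presheaf.germ (X.basicOpen g) ξ hξD ((X.presheaf.map (homOfLE hDV).op).hom g) ^ k := by
      rw [← map_pow, ← map_mul, hka']
      exact (TopCat.Presheaf.germ_res_apply X.presheaf (homOfLE hDV) ξ hξD a').symm
    rw [h5]
    exact Ideal.mul_mem_right _ _ hmem
  have hfa : f * a' ∈ I := hfI a' hmem'
  obtain ⟨c, hc⟩ := (Ideal.mem_span_range_iff_exists_fun).mp hfa
  -- at `x`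
  have hgu : IsUnit (X.presheaf.germ V x hxV g) := (X.mem_basicOpen g x hxV).mp hxg
  have hfu' : IsUnit (X.presheaf.germ V x hxV f) := (X.mem_basicOpen f x hxV).mp hx
  have hu : IsUnit (X.presheaf.germ V x hxV f * X.presheaf.germ V x hxV g ^ k) :=
    hfu'.mul (hgu.pow k)
  obtain ⟨u, hu'⟩ := hu
  have key : u • G.presheaf.germ (X.basicOpen g) x hxg s' =
      ∑ j, X.presheaf.germ V x hxV (c j) • G.presheaf.germ V x hxV (t j) := by
    apply stalkO_injective ι x
    rw [map_sum, Units.smul_def, map_smul, stalkO_germ]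
    simp only [map_smul, stalkO_germ, smul_eq_mul]
    have h6 : X.presheaf.germ (X.basicOpen g) x hxg b * X.presheaf.germ V x hxV g ^ k =
        X.presheaf.germ V x hxV a' := by
      rw [← TopCat.Presheaf.germ_res_apply X.presheaf (homOfLE hDV) x hxg a',
        ← TopCat.Presheaf.germ_res_apply X.presheaf (homOfLE hDV) x hxg g, ← map_pow, ← map_mul]
      exact congrArg _ hka'
    rw [hu', mul_assoc, mul_comm (X.presheaf.germ V x hxV g ^ k), h6, ← map_mul, ← hc, map_sum]
    simp only [map_mul]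
    rfl
  have hfin : G.presheaf.germ (X.basicOpen g) x hxg s' =
      (↑u⁻¹ : X.presheaf.stalk x) •
        ∑ j, X.presheaf.germ V x hxV (c j) • G.presheaf.germ V x hxV (t j) := by
    rw [← key, Units.smul_def, smul_smul, Units.inv_mul, one_smul]
  rw [hfin]
  refine Submodule.smul_mem _ _ (Submodule.sum_mem _ fun j _ => Submodule.smul_mem _ _ ?_)
  exact Submodule.subset_span ⟨j, rfl⟩

/-- germs at `x` of a finite list of local sections -/
def gens (G : X.Modules) (L : List (Σ U : X.Opens, Γ(G, U))) (x : X) : Set (G.presheaf.stalk x) :=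
  {γ | ∃ p ∈ L, ∃ h : x ∈ p.1, γ = G.presheaf.germ p.1 x h p.2}

/-- the list of local sections generates the stalks at all points of `Z` -/
def Good (G : X.Modules) (L : List (Σ U : X.Opens, Γ(G, U))) (Z : Set X) : Prop :=
  ∀ x ∈ Z, Submodule.span (X.presheaf.stalk x) (gens G L x) = ⊤

theorem gens_mono {L L' : List (Σ U : X.Opens, Γ(G, U))} (h : ∀ p ∈ L, p ∈ L') (x : X) :
    gens G L x ⊆ gens G L' x := by
  rintro γ ⟨p, hp, hx, rfl⟩
  exact ⟨p, h p hp, hx, rfl⟩

theorem Good.mono {L L' : List (Σ U : X.Opens, Γ(G, U))} {Z : Set X} (hL : Good G L Z)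
    (h : ∀ p ∈ L, p ∈ L') : Good G L' Z := by
  intro x hx
  rw [eq_top_iff, ← hL x hx]
  exact Submodule.span_mono (gens_mono h x)

theorem Good.append {L₁ L₂ : List (Σ U : X.Opens, Γ(G, U))} {Z₁ Z₂ : Set X} (h₁ : Good G L₁ Z₁)
    (h₂ : Good G L₂ Z₂) : Good G (L₁ ++ L₂) (Z₁ ∪ Z₂) := by
  rintro x (hx | hx)
  · exact (h₁.mono fun p hp => List.mem_append_left _ hp) x hx
  · exact (h₂.mono fun p hp => List.mem_append_right _ hp) x hx

theorem exists_good [IsNoetherian X] [Mono ι] (Z : Closeds X) :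
    ∃ L : List (Σ U : X.Opens, Γ(G, U)), Good G L (Z : Set X) := by
  apply wellFounded_lt.induction Z
  intro s H
  rcases eq_or_ne s ⊥ with rfl | h₀
  · exact ⟨[], fun x hx => hx.elim⟩
  · by_cases h₁ : IsPreirreducible (s : Set X)
    · have hirr : IsIrreducible (s : Set X) := ⟨Closeds.coe_nonempty.2 h₀, h₁⟩
      obtain ⟨ξ, hξ⟩ := QuasiSober.sober hirr s.isClosed
      obtain ⟨V, V', m, t, hle, hξV', hgen⟩ := exists_local_generators ι ξ
      have hξs : ξ ∈ (s : Set X) := hξ.mem
      let Z' : Closeds X := ⟨(s : Set X) \ (V' : Set X), s.isClosed.sdiff V'.isOpen⟩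
      have hlt : Z' < s := by
        refine lt_of_le_of_ne (fun x hx => hx.1) ?_
        intro h
        have : ξ ∈ (Z' : Set X) := h ▸ hξs
        exact this.2 hξV'
      obtain ⟨L', hL'⟩ := H Z' hlt
      let L₁ : List (Σ U : X.Opens, Γ(G, U)) := List.ofFn fun j => ⟨V, t j⟩
      have hL₁ : Good G L₁ ((s : Set X) ∩ (V' : Set X)) := by
        rintro x ⟨hxs, hxV'⟩
        have hspec : ξ ⤳ x := by
          rw [specializes_iff_mem_closure, hξ.def]
          exact hxs
        rw [eq_top_iff, ← hgen x hxV' hspec]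
        apply Submodule.span_mono
        rintro _ ⟨j, rfl⟩
        exact ⟨⟨V, t j⟩, (List.mem_ofFn' _ _).mpr ⟨j, rfl⟩, hle hxV', rfl⟩
      refine ⟨L₁ ++ L', fun x hx => ?_⟩
      have := hL₁.append hL'
      apply this
      by_cases hxV' : x ∈ (V' : Set X)
      · exact Or.inl ⟨hx, hxV'⟩
      · exact Or.inr ⟨hx, hxV'⟩
    · simp only [isPreirreducible_iff_isClosed_union_isClosed, not_forall, not_or] at h₁
      obtain ⟨z₁, z₂, hz₁, hz₂, h, hz₁', hz₂'⟩ := h₁
      lift z₁ to Closeds X using hz₁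
      lift z₂ to Closeds X using hz₂
      obtain ⟨L₁, hL₁⟩ := H (s ⊓ z₁) (inf_lt_left.2 hz₁')
      obtain ⟨L₂, hL₂⟩ := H (s ⊓ z₂) (inf_lt_left.2 hz₂')
      refine ⟨L₁ ++ L₂, fun x hx => ?_⟩
      apply hL₁.append hL₂
      rcases h hx with h' | h'
      · exact Or.inl ⟨hx, h'⟩
      · exact Or.inr ⟨hx, h'⟩

/-- On a Noetherian scheme, the stalks of an arbitrary subsheaf `G ⊆ O_X` are generated by finitely
many local sections. -/
theorem exists_finite_generators [IsNoetherian X] [Mono ι] :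
    ∃ (m : ℕ) (U : Fin m → X.Opens) (k : Fin m → ℕ)
      (s : (i : Fin m) → Fin (k i) → (G.presheaf.obj (Opposite.op (U i)) : Type u)),
      ∀ x : X, Submodule.span (X.presheaf.stalk x)
          (Set.range (fun p : (Σ i : {i : Fin m // x ∈ U i}, Fin (k i.1)) =>
            (G.presheaf.germ (U p.1.1) x p.1.2) (s p.1.1 p.2))) = ⊤ := by
  obtain ⟨L, hL⟩ := exists_good ι (⊤ : Closeds X)
  refine ⟨L.length, fun i => (L.get i).1, fun _ => 1, fun i _ => (L.get i).2, fun x => ?_⟩
  rw [eq_top_iff, ← hL x trivial]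
  apply Submodule.span_mono
  rintro _ ⟨p, hp, hx, rfl⟩
  obtain ⟨i, rfl⟩ := List.get_of_mem hp
  exact ⟨⟨⟨i, hx⟩, 0⟩, rfl⟩

end Groth.Agent.Lib.H90IdealGen
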