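/-
helper90: on a Noetherian scheme, injective objects of `QCoh(X)` are flasque (Hartshorne III.3.4 for quasi-coherent modules,
Stacks-style via Deligne's formula): `J(U) = Hom_U(O_U, J|_U) = colim_n Hom_X(Iⁿ, J)` and a map `Iⁿ ⟶ J` extends to `O_X ⟶ J` by
injectivity.
-/
import Mathlib
import Groth.Agent.Lib.H90Deligne
import Groth.Agent.Lib.H90UnitSections

set_option autoImplicit false
set_option linter.style.haveILetI false
universe u

open CategoryTheory CategoryTheory.Limits AlgebraicGeometry TopologicalSpace Opposite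
open AlgebraicGeometry.Scheme AlgebraicGeometry.Scheme.Modules

namespace Groth.Agent.Lib.H90InjQCohFlasque

open Groth.Agent.Lib.StructureModule Groth.Agent.Lib.H90Invertible Groth.Agent.Lib.H90DevHub2

variable {X : Scheme.{u}}

/-- If restriction along `j` is surjective on `Hom(O_X, N)`, then `Γ(N, ⊤) → Γ(N, j(Y))` is surjective. -/
theorem surjective_res_top_of_surjective_restrict_map {Y : Scheme.{u}} (j : Y ⟶ X) [IsOpenImmersion j]
    (N : X.Modules)
    (h : Function.Surjective (fun φ : Coh.structureModule X ⟶ N => (restrictFunctor j).map φ)) :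
    Function.Surjective (N.presheaf.map (homOfLE (j.image_preimage_le ⊤)).op) := by
  let adj := restrictAdjunction j
  have h' : Function.Surjective (fun φ : Coh.structureModule X ⟶ N => φ ≫ adj.unit.app N) := by
    intro χ
    obtain ⟨φ, hφ⟩ := h ((adj.homEquiv _ ((restrictFunctor j).obj N)).symm χ)
    refine ⟨φ, ?_⟩
    apply (adj.homEquiv _ ((restrictFunctor j).obj N)).symm.injective
    rw [← hφ]
    simp [Adjunction.homEquiv_counit]
  let N' := (restrictFunctor j ⋙ pushforward j).obj N
  intro t
  let t' : Γ(N', ⊤) := t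
  obtain ⟨φ, hφ⟩ := h' ((homEquivSection N').symm t')
  refine ⟨homEquivSection N φ, ?_⟩
  have h1 : homEquivSection N' (φ ≫ adj.unit.app N) = t' := by
    have : φ ≫ adj.unit.app N = (homEquivSection N').symm t' := hφ
    rw [this]
    exact Equiv.apply_symm_apply _ _
  change _ = t'
  rw [← h1]
  change _ = ((adj.unit.app N).app ⊤) (φ.app ⊤ (toSec ⊤ 1))
  rw [restrictAdjunction_unit_app_app]
  rfl

set_option backward.isDefEq.respectTransparency false in
/-- on a Noetherian scheme, morphisms `O_U ⟶ J|_U` into (the restriction of) an injective object of `QCoh(X)` extend to `X` -/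
theorem exists_restrict_map_eq_of_injective [AlgebraicGeometry.IsNoetherian X]
    (J : ObjectProperty.FullSubcategory (fun M : X.Modules => Coh.IsQCoh M)) (hJ : Injective J)
    (U : X.Opens)
    (φ : (restrictFunctor U.ι).obj (Coh.structureModule X) ⟶ (restrictFunctor U.ι).obj J.obj) :
    ∃ t : Coh.structureModule X ⟶ J.obj, (restrictFunctor U.ι).map t = φ := by
  haveI : J.obj.IsQuasicoherent := J.property
  let Zc : Closeds X := ⟨(U : Set X)ᶜ, U.isOpen.isClosed_compl⟩
  let I : X.IdealSheafData := Scheme.IdealSheafData.vanishingIdeal Zc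
  have hU : (U : Set X) = (I.support : Set X)ᶜ := by
    rw [Scheme.IdealSheafData.coe_support_vanishingIdeal]
    exact (compl_compl _).symm
  have hO := isCoh_structureModule X
  haveI : (Coh.structureModule X).IsQuasicoherent := hO.1
  obtain ⟨n, ψ, hψ⟩ := Groth.Agent.Lib.H90Deligne.exists_extension (I := I) J.obj
    (Coh.structureModule X) hO U hU φ
  let A : ObjectProperty.FullSubcategory (fun M : X.Modules => Coh.IsQCoh M) :=
    ⟨(Dual3.idealMul (I ^ n)).obj (Coh.structureModule X),
      Groth.Agent.Lib.H90ArtinRees.isQuasicoherent_idealMul (I ^ n) (Coh.structureModule X)⟩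
  let B : ObjectProperty.FullSubcategory (fun M : X.Modules => Coh.IsQCoh M) :=
    ⟨Coh.structureModule X, hO.1⟩
  let ι' : A ⟶ B := ObjectProperty.homMk (Dual3.idealMulι (I ^ n) (Coh.structureModule X))
  haveI : Mono ι' := by
    apply Functor.mono_of_mono_map (ObjectProperty.ι (fun M : X.Modules => Coh.IsQCoh M))
    change Mono (Dual3.idealMulι (I ^ n) (Coh.structureModule X))
    infer_instance
  let ψ' : A ⟶ J := ObjectProperty.homMk ψ
  have hfac : ι' ≫ Injective.factorThru ψ' ι' = ψ' := Injective.comp_factorThru ψ' ι'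
  refine ⟨(Injective.factorThru ψ' ι').hom, ?_⟩
  have h1 : Dual3.idealMulι (I ^ n) (Coh.structureModule X) ≫ (Injective.factorThru ψ' ι').hom = ψ :=
    congrArg (fun χ => χ.hom) hfac
  haveI := Groth.Agent.Lib.H90IdealKill.isIso_restrict_idealMulι I (Coh.structureModule X) hU n
  rw [← cancel_epi ((restrictFunctor U.ι).map (Dual3.idealMulι (I ^ n) (Coh.structureModule X))),
    ← hψ, ← Functor.map_comp, h1]

open Groth.Agent.Lib.QCohStalk in
set_option backward.isDefEq.respectTransparency false in
/-- **Injective quasi-coherent modules on a Noetherian scheme are flasque.** -/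
theorem surjective_res_of_injective [AlgebraicGeometry.IsNoetherian X]
    (J : ObjectProperty.FullSubcategory (fun M : X.Modules => Coh.IsQCoh M)) (hJ : Injective J)
    (U V : X.Opens) (hUV : U ≤ V) :
    Function.Surjective (res J.obj hUV) := by
  intro s
  have hsurj := surjective_res_top_of_surjective_restrict_map U.ι J.obj (fun φ => by
    obtain ⟨t, ht⟩ := exists_restrict_map_eq_of_injective J hJ U φ
    exact ⟨t, ht⟩)
  have hW : U.ι ''ᵁ U.ι ⁻¹ᵁ ⊤ = U := by
    rw [Scheme.Hom.preimage_top, Scheme.Opens.ι_image_top]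
  obtain ⟨t₀, ht₀⟩ := hsurj (res J.obj (le_of_eq hW) s)
  refine ⟨res J.obj (le_top : V ≤ ⊤) t₀, ?_⟩
  rw [res_res]
  apply res_injective_of_eq J.obj hW
  rw [res_res]
  exact ht₀

end Groth.Agent.Lib.H90InjQCohFlasque
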