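import Groth.Agent.Lib.H90Invertible

/-!
# OXMod M3A: morphisms into invertible modules and restriction to opens (helper90)

* `IsGen.map_smul_res`, `IsGen.bijective_res_iff`: over an open with a free generator, a restriction map
  of `L` is bijective iff the corresponding restriction map of functions is.
* `bijective_restrict_map_of_isIso_unit`: if the unit `N ⟶ j_* j^* N` is an isomorphism then
  `(restrictFunctor j).map : (M ⟶ N) → (j^*M ⟶ j^*N)` is bijective.
* `isIso_unit_of_small`, `isIso_unit_of_isInvertible`.
-/

set_option autoImplicit false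
universe u

open CategoryTheory AlgebraicGeometry TopologicalSpace Opposite Limits
open AlgebraicGeometry.Scheme AlgebraicGeometry.Scheme.Modules
open Groth.Agent.Lib.StructureModule Groth.Agent.Lib.H90OXModLocal

namespace Groth.Agent.Lib.H90Invertible

variable {X : Scheme.{u}} {M N L L' : X.Modules}

theorem IsGen.map_smul_res {V : X.Opens} {s : Γ(L, V)} {W W' : X.Opens} (hW : W ≤ V) (h' : W' ≤ W)
    (a : Γ(X, W)) :
    L.presheaf.map (homOfLE h').op (a • L.presheaf.map (homOfLE hW).op s) =
      X.presheaf.map (homOfLE h').op a • L.presheaf.map (homOfLE (h'.trans hW)).op s := by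
  rw [L.map_smul]
  congr 1
  rw [← ConcreteCategory.comp_apply, ← Functor.map_comp]
  rfl

/-- Over an open with a free generator, a restriction map of `L` is bijective iff the corresponding
restriction map of functions is. -/
theorem IsGen.bijective_res_iff {V : X.Opens} {s : Γ(L, V)} (hs : IsGen L V s) {W W' : X.Opens}
    (hW : W ≤ V) (h' : W' ≤ W) :
    Function.Bijective (L.presheaf.map (homOfLE h').op) ↔
      Function.Bijective (X.presheaf.map (homOfLE h').op) := by
  have g1 := hs W hW
  have g2 := hs W' (h'.trans hW)
  rw [← Function.Bijective.of_comp_iff _ g1, ← Function.Bijective.of_comp_iff' g2]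
  have : (L.presheaf.map (homOfLE h').op) ∘ (fun a : Γ(X, W) => a • L.presheaf.map (homOfLE hW).op s) =
      (fun a : Γ(X, W') => a • L.presheaf.map (homOfLE (h'.trans hW)).op s) ∘
        (X.presheaf.map (homOfLE h').op) := by
    funext a
    exact IsGen.map_smul_res hW h' a
  rw [this]

section Unit

variable {Y : Scheme.{u}} (j : Y ⟶ X) [IsOpenImmersion j]

/-- If the unit `N ⟶ j_* j^* N` is an isomorphism, restriction along `j` is bijective on `Hom(M, N)`. -/
theorem bijective_restrict_map_of_isIso_unit (M N : X.Modules)
    [IsIso ((restrictAdjunction j).unit.app N)] :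
    Function.Bijective (fun φ : M ⟶ N => (restrictFunctor j).map φ) := by
  let adj := restrictAdjunction j
  have h1 : Function.Bijective (fun φ : M ⟶ N => φ ≫ adj.unit.app N) :=
    ⟨fun a b hab => (cancel_mono _).mp hab, fun ψ => ⟨ψ ≫ inv (adj.unit.app N), by simp⟩⟩
  have h2 : Function.Bijective (adj.homEquiv M ((restrictFunctor j).obj N)).symm :=
    (adj.homEquiv M _).symm.bijective
  have : (fun φ : M ⟶ N => (restrictFunctor j).map φ) =
      (adj.homEquiv M ((restrictFunctor j).obj N)).symm ∘ (fun φ : M ⟶ N => φ ≫ adj.unit.app N) := by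
    funext φ
    simp [Adjunction.homEquiv_counit]
  rw [this]
  exact h2.comp h1

/-- The unit `N ⟶ j_* j^* N` is an isomorphism as soon as the restriction maps
`Γ(N, W) → Γ(N, j(j⁻¹ W))` are bijective for all small opens `W` (w.r.t. some open cover). -/
theorem isIso_unit_of_small {ι : Type*} {U : ι → X.Opens} (hU : ⨆ i, U i = ⊤) (N : X.Modules)
    (h : ∀ W : X.Opens, (∃ i, W ≤ U i) →
      Function.Bijective (N.presheaf.map (homOfLE (j.image_preimage_le W)).op)) :
    IsIso ((restrictAdjunction j).unit.app N) := by
  refine isIso_of_small hU _ (fun W hW => ?_)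
  rw [restrictAdjunction_unit_app_app]
  exact (ConcreteCategory.isIso_iff_bijective
    (N.presheaf.map (homOfLE (j.image_preimage_le W)).op)).mpr (h W hW)

/-- For an invertible module `N`: if restriction of functions `Γ(X, W) → Γ(X, j(j⁻¹ W))` is bijective
for all opens `W`, then the unit `N ⟶ j_* j^* N` is an isomorphism. -/
theorem isIso_unit_of_isInvertible (N : X.Modules) (hN : PicF.IsInvertible N)
    (h : ∀ W : X.Opens, Function.Bijective (X.presheaf.map (homOfLE (j.image_preimage_le W)).op)) :
    IsIso ((restrictAdjunction j).unit.app N) := by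
  rw [isInvertible_iff_exists_isGen] at hN
  choose V hxV s hs using hN
  have hV : ⨆ x, V x = ⊤ := by
    rw [eq_top_iff]
    intro x _
    exact TopologicalSpace.Opens.mem_iSup.mpr ⟨x, hxV x⟩
  refine isIso_unit_of_small j hV N (fun W ⟨x, hW⟩ => ?_)
  rw [(hs x).bijective_res_iff hW (j.image_preimage_le W)]
  exact h W

end Unit

end Groth.Agent.Lib.H90Invertible
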