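/-
helper90: `K₀` of coherent modules on a (locally) Noetherian scheme — basic relations, kernel/cokernel formula,
classes of modules that agree over an open subset, and generation by the structure sheaves of integral closed
subschemes (dévissage).
-/
import Mathlib
import Groth.Agent.Lib.KZeroSub
import Groth.Agent.Lib.H43K0SubKer
import Groth.Agent.Lib.H90DevCanon
import Groth.Agent.Lib.H90DevHub2
import Groth.Agent.Lib.H90GraphExt
import Groth.Agent.Lib.H90OXModExact
import Groth.Agent.Lib.ModStalk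
import Groth.Agent.Lib.DimDrop
import Groth.Agent.Lib.H90DevTwo
import Groth.Prelude.Def_ChowK

set_option autoImplicit false
set_option linter.style.haveILetI false
universe u

open CategoryTheory CategoryTheory.Limits AlgebraicGeometry TopologicalSpace Opposite ZeroObject

namespace Groth.Agent.Lib.H90K0Coh

open Groth.Agent.Lib.KZeroSub Groth.Agent.Lib.H43K0SubKer Groth.Agent.Lib.H43K0ResA
  Groth.Agent.Lib.H90DevCanon Groth.Agent.Lib.H90DevHub2 Groth.Agent.Lib.H90DevFiltP
  Groth.Agent.Lib.H90OXModExact Groth.Agent.Lib.ModStalk Groth.Agent.Lib.DimDrop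
  Groth.Agent.Lib.H90DevTwo

variable {X : Scheme.{u}}

/-- coherence as an object property -/
abbrev PC (X : Scheme.{u}) : ObjectProperty X.Modules := fun M => Coh.IsCoh M

/-- the class of a module in `K₀(Coh X)` -/
noncomputable abbrev cl (M : X.Modules) : KZero.K0sub (PC X) := KZero.clSub (PC X) M

instance : (PC X).IsClosedUnderIsomorphisms where
  of_iso e h := Groth.Agent.Lib.H90CohRestrict.isCoh_of_iso e h

instance : (PC X).ContainsZero where
  exists_zero := ⟨0, isZero_zero _, isCoh_of_isZero (isZero_zero _)⟩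

theorem cl_shortExact (S : ShortComplex X.Modules) (hS : S.ShortExact) (h₁ : Coh.IsCoh S.X₁)
    (h₂ : Coh.IsCoh S.X₂) (h₃ : Coh.IsCoh S.X₃) : cl S.X₂ = cl S.X₁ + cl S.X₃ :=
  clSub_shortExact (PC X) S hS h₁ h₂ h₃

theorem cl_iso {M N : X.Modules} (e : M ≅ N) (hM : Coh.IsCoh M) : cl M = cl N :=
  clSub_iso' (PC X) e hM

theorem cl_of_isZero {N : X.Modules} (h : IsZero N) : cl N = 0 :=
  clSub_isZero (PC X) h

/-- `[B] = [A] + [B/A]` -/
theorem cl_mono_cokernel {A B : X.Modules} (f : A ⟶ B) [Mono f] (hA : Coh.IsCoh A)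
    (hB : Coh.IsCoh B) : cl B = cl A + cl (cokernel f) := by
  haveI : A.IsQuasicoherent := hA.1
  exact cl_shortExact _ (shortExact_cokernel f) hA hB (isCoh_cokernel f hB)

/-- `[E] + [coker a] = [G] + [ker a]` -/
theorem cl_ker_coker [IsLocallyNoetherian X] {E G : X.Modules} (a : E ⟶ G) (hE : Coh.IsCoh E)
    (hG : Coh.IsCoh G) : cl E + cl (cokernel a) = cl G + cl (kernel a) := by
  haveI : E.IsQuasicoherent := hE.1
  haveI : G.IsQuasicoherent := hG.1
  have hK : Coh.IsCoh (kernel a) := isCoh_kernel a hE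
  have hC : Coh.IsCoh (cokernel a) := isCoh_cokernel a hG
  have hI : Coh.IsCoh (Abelian.image a) := by
    haveI : (cokernel a).IsQuasicoherent := hC.1
    exact isCoh_kernel (cokernel.π a) hG
  -- first sequence
  obtain ⟨w, h1⟩ := shortExact_of_fac (Abelian.factorThruImage a) (Abelian.image.ι a)
  have hK' : Coh.IsCoh (kernel (Abelian.factorThruImage a ≫ Abelian.image.ι a)) := by
    haveI : (Abelian.image a).IsQuasicoherent := hI.1
    exact isCoh_kernel _ hE
  have e1 := cl_shortExact _ h1 hK' hE hI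
  dsimp at e1
  have e1' : cl (kernel (Abelian.factorThruImage a ≫ Abelian.image.ι a)) = cl (kernel a) := by
    refine cl_iso (kernel.mapIso _ _ (Iso.refl _) (Iso.refl _) ?_) hK'
    simp
  have h2 : (ShortComplex.mk (Abelian.image.ι a) (cokernel.π a) (by simp)).ShortExact :=
    ShortComplex.ShortExact.mk'
      (ShortComplex.exact_of_f_is_kernel _ (kernelIsKernel (cokernel.π a)))
      (by dsimp; infer_instance) (by dsimp; infer_instance)
  have e2 := cl_shortExact _ h2 hI hG hC
  dsimp at e2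
  rw [e1, e2, e1']
  abel


/-- the support of a coherent module, as a closed subset -/
noncomputable def suppC (M : X.Modules) (hM : Coh.IsCoh M) : Closeds X :=
  ⟨CohB1.support M, isClosed_support_of_isFT M hM.2⟩

@[simp] theorem coe_suppC (M : X.Modules) (hM : Coh.IsCoh M) :
    (suppC M hM : Set X) = CohB1.support M := rfl

/-- the subgroup generated by the classes `[O_Z]`, `Z` an irreducible closed subset in the family `𝒯` -/
noncomputable def hubGroup (𝒯 : Set (Closeds X)) : AddSubgroup (KZero.K0sub (PC X)) :=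
  AddSubgroup.closure {c | ∃ Zc : Closeds X, Zc ∈ 𝒯 ∧ IsIrreducible (Zc : Set X) ∧ c = cl (hub Zc)}

/-- the subgroup generated by the classes of the coherent modules with support in the family `𝒯` -/
noncomputable def suppGroup (𝒯 : Set (Closeds X)) : AddSubgroup (KZero.K0sub (PC X)) :=
  AddSubgroup.closure {c | ∃ (G : X.Modules) (hG : Coh.IsCoh G), suppC G hG ∈ 𝒯 ∧ c = cl G}

theorem cl_mem_suppGroup {𝒯 : Set (Closeds X)} {G : X.Modules} (hG : Coh.IsCoh G)
    (h : suppC G hG ∈ 𝒯) : cl G ∈ suppGroup 𝒯 :=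
  AddSubgroup.subset_closure ⟨G, hG, h, rfl⟩

theorem cl_hub_mem_hubGroup {𝒯 : Set (Closeds X)} {Zc : Closeds X} (h : Zc ∈ 𝒯)
    (hirr : IsIrreducible (Zc : Set X)) : cl (hub Zc) ∈ hubGroup 𝒯 :=
  AddSubgroup.subset_closure ⟨Zc, h, hirr, rfl⟩

/-- **Dévissage in `K₀`**: on a Noetherian scheme, the class of a coherent module with support in a closed subset
`T` of a downward closed family `𝒯` lies in the subgroup generated by the `[O_Z]`, `Z ∈ 𝒯` irreducible. -/
theorem cl_mem_hubGroup [AlgebraicGeometry.IsNoetherian X] (𝒯 : Set (Closeds X))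
    (hdown : ∀ T ∈ 𝒯, ∀ T' : Closeds X, T' ≤ T → T' ∈ 𝒯) :
    ∀ (T : Closeds X), T ∈ 𝒯 → ∀ (M : X.Modules), Coh.IsCoh M →
      CohB1.support M ⊆ (T : Set X) → cl M ∈ hubGroup 𝒯 := by
  intro T
  induction T using WellFoundedLT.induction with
  | ind T IH =>
    intro hT M hM hsM
    have hfilt := filt_atomC_of_isCoh hM
    induction hfilt with
    | zero N h0 =>
      rw [cl_of_isZero h0]
      exact zero_mem _
    | step A B f hf hA hAc hB hat ih =>
      haveI := hf
      haveI : A.IsQuasicoherent := hAc.1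
      have hCc : Coh.IsCoh (cokernel f) := isCoh_cokernel f hB
      have hsA : CohB1.support A ⊆ (T : Set X) := (support_subset_of_mono f).trans hsM
      have hsC : CohB1.support (cokernel f) ⊆ (T : Set X) :=
        (support_subset_of_epi (cokernel.π f)).trans hsM
      rw [cl_mono_cokernel f hAc hB]
      refine add_mem (ih hAc hsA) ?_
      obtain ⟨Zc', hat'⟩ := hat
      have hle : Zc' ≤ T := atomC_subset_of_support_subset hat' T.isClosed hsC
      have hirr : IsIrreducible (Zc' : Set X) := hat'.1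
      obtain ⟨ξ, hξ⟩ := QuasiSober.sober hirr Zc'.isClosed
      obtain ⟨p, hp⟩ := exists_mono_hub hat'
      haveI := hp
      have hnz : ¬ IsZero (cokernel f) :=
        Groth.Agent.Lib.H90DevFilt.not_isZero_of_isAtom hat'.isAtom
      have hξn := notMem_support_cokernel_hub hirr hξ p hnz
      have hhub : Coh.IsCoh (hub Zc') := isCoh_hub Zc'
      haveI : (cokernel f).IsQuasicoherent := hCc.1
      have hQc : Coh.IsCoh (cokernel p) := isCoh_cokernel p hhub
      have hsQ : CohB1.support (cokernel p) ⊆ (Zc' : Set X) :=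
        (support_subset_of_epi (cokernel.π p)).trans (support_hub_subset Zc')
      have hlt : suppC (cokernel p) hQc < T := by
        refine lt_of_lt_of_le (lt_of_le_of_ne hsQ ?_) hle
        intro heq
        apply hξn
        have : ξ ∈ (Zc' : Set X) := hξ.mem
        rw [← heq] at this
        exact this
      have h1 := IH _ hlt (hdown T hT _ hlt.le) (cokernel p) hQc (le_refl _)
      have h2 : cl (hub Zc') ∈ hubGroup 𝒯 := cl_hub_mem_hubGroup (hdown T hT _ hle) hirr
      have h3 := cl_mono_cokernel p hCc hhub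
      have h4 : cl (cokernel f) = cl (hub Zc') - cl (cokernel p) := by
        rw [h3]; abel
      rw [h4]
      exact sub_mem h2 h1

/-- the structure sheaf of an irreducible closed subset has that subset as support -/
theorem support_hub_eq {Zc : Closeds X} (hirr : IsIrreducible (Zc : Set X)) :
    CohB1.support (hub Zc) = (Zc : Set X) := by
  refine Set.Subset.antisymm (support_hub_subset Zc) ?_
  obtain ⟨ξ, hξ⟩ := QuasiSober.sober hirr Zc.isClosed
  have h2 : closure {ξ} = (Zc : Set X) := hξ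
  have hcl : IsClosed (CohB1.support (hub Zc)) := isClosed_support_of_isFT _ (isCoh_hub Zc).2
  rw [← h2]
  refine closure_minimal (Set.singleton_subset_iff.mpr ?_) hcl
  rw [mem_support_iff]
  exact ⟨⟨_, _, Groth.Agent.Lib.H90DevHub.hubOne_ne_zero hirr hξ⟩⟩

theorem suppGroup_eq_hubGroup [AlgebraicGeometry.IsNoetherian X] (𝒯 : Set (Closeds X))
    (hdown : ∀ T ∈ 𝒯, ∀ T' : Closeds X, T' ≤ T → T' ∈ 𝒯) : suppGroup 𝒯 = hubGroup 𝒯 := by
  apply le_antisymm
  · rw [suppGroup, AddSubgroup.closure_le]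
    rintro _ ⟨G, hG, hT, rfl⟩
    exact cl_mem_hubGroup 𝒯 hdown _ hT G hG (le_refl _)
  · rw [hubGroup, AddSubgroup.closure_le]
    rintro _ ⟨Zc, hT, hirr, rfl⟩
    refine cl_mem_suppGroup (isCoh_hub Zc) ?_
    have : suppC (hub Zc) (isCoh_hub Zc) = Zc := by
      apply Closeds.ext
      exact support_hub_eq hirr
    rw [this]
    exact hT


/-- the closure of a point, as a closed subset -/
def ptC (x : X) : Closeds X := ⟨closure {x}, isClosed_closure⟩

theorem isIrreducible_ptC (x : X) : IsIrreducible (ptC x : Set X) :=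
  isIrreducible_singleton.closure

theorem closureStructureSheaf_eq (x : X) : Cyc.closureStructureSheaf x = hub (ptC x) := rfl

theorem exists_eq_ptC {Zc : Closeds X} (hirr : IsIrreducible (Zc : Set X)) : ∃ ξ : X, Zc = ptC ξ := by
  obtain ⟨ξ, hξ⟩ := QuasiSober.sober hirr Zc.isClosed
  refine ⟨ξ, Closeds.ext ?_⟩
  have h2 : closure {ξ} = (Zc : Set X) := hξ
  exact h2.symm

/-- `hubGroup` in terms of points -/
theorem hubGroup_eq_closure_points (𝒯 : Set (Closeds X)) :
    hubGroup 𝒯 = AddSubgroup.closure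
      {c | ∃ x : X, ptC x ∈ 𝒯 ∧ c = cl (Cyc.closureStructureSheaf x)} := by
  unfold hubGroup
  congr 1
  ext c
  constructor
  · rintro ⟨Zc, hT, hirr, rfl⟩
    obtain ⟨ξ, rfl⟩ := exists_eq_ptC hirr
    exact ⟨ξ, hT, rfl⟩
  · rintro ⟨x, hT, rfl⟩
    exact ⟨ptC x, hT, isIrreducible_ptC x, rfl⟩

/-- the closed subsets of dimension `≤ d` -/
def dimLE (X : Scheme.{u}) (d : WithBot ℕ∞) : Set (Closeds X) :=
  {T | topologicalKrullDim (T : Set X) ≤ d}

/-- the closed subsets of dimension `< d` -/
def dimLT (X : Scheme.{u}) (d : WithBot ℕ∞) : Set (Closeds X) :=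
  {T | topologicalKrullDim (T : Set X) < d}

theorem dimLE_down (d : WithBot ℕ∞) : ∀ T ∈ dimLE X d, ∀ T' : Closeds X, T' ≤ T → T' ∈ dimLE X d :=
  fun _ hT _ h => (topologicalKrullDim_mono h).trans hT

theorem dimLT_down (d : WithBot ℕ∞) : ∀ T ∈ dimLT X d, ∀ T' : Closeds X, T' ≤ T → T' ∈ dimLT X d :=
  fun _ hT _ h => lt_of_le_of_lt (topologicalKrullDim_mono h) hT

/-- `suppGroup` for a family given by a predicate on the support -/
theorem suppGroup_eq_closure (𝒯 : Set (Closeds X)) (Q : Set X → Prop)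
    (h𝒯 : ∀ T : Closeds X, T ∈ 𝒯 ↔ Q (T : Set X)) :
    suppGroup 𝒯 = AddSubgroup.closure
      {c | ∃ G : X.Modules, Coh.IsCoh G ∧ Q (CohB1.support G) ∧ c = cl G} := by
  unfold suppGroup
  congr 1
  ext c
  constructor
  · rintro ⟨G, hG, hT, rfl⟩
    exact ⟨G, hG, (h𝒯 _).mp hT, rfl⟩
  · rintro ⟨G, hG, hT, rfl⟩
    exact ⟨G, hG, (h𝒯 (suppC G hG)).mpr hT, rfl⟩

end Groth.Agent.Lib.H90K0Coh
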