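/-
helper90: `K₀(Coh X)`, part 2: finite coproducts, modules that agree over an open subset, and dévissage for
"additive functions which are generically multiplication by `e`".
-/
import Mathlib
import Groth.Agent.Lib.H90K0Coh
import Groth.Agent.Lib.H90CommonSub
import Groth.Agent.Lib.H90CohCenter
import Groth.Agent.Lib.CurveSerreVan54
import Groth.Agent.Lib.OXModRestrict
import Groth.Agent.Lib.TwistEquiv
import Groth.Agent.Lib.CurveDeg48b
import Groth.Agent.Lib.CohFinAmple
import Groth.Agent.Lib.H90CurveH1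

set_option autoImplicit false
set_option linter.style.haveILetI false
universe u

open CategoryTheory CategoryTheory.Limits AlgebraicGeometry TopologicalSpace Opposite ZeroObject

namespace Groth.Agent.Lib.H90K0Coh

open Groth.Agent.Lib.KZeroSub Groth.Agent.Lib.H43K0SubKer Groth.Agent.Lib.H43K0ResA
  Groth.Agent.Lib.H90DevCanon Groth.Agent.Lib.H90DevHub2 Groth.Agent.Lib.H90DevFiltP
  Groth.Agent.Lib.H90OXModExact Groth.Agent.Lib.ModStalk Groth.Agent.Lib.DimDrop
  Groth.Agent.Lib.H90DevTwo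

variable {X : Scheme.{u}}

/-- the class of a biproduct -/
theorem cl_biprod {A B : X.Modules} (hA : Coh.IsCoh A) (hB : Coh.IsCoh B) :
    cl (A ⊞ B) = cl A + cl B := by
  have hS : (ShortComplex.mk (biprod.inl : A ⟶ A ⊞ B) biprod.snd (by simp)).ShortExact :=
    (ShortComplex.Splitting.ofHasBinaryBiproduct A B).shortExact
  exact cl_shortExact _ hS hA (Groth.Agent.Lib.H90CohCenter.isCoh_biprod hA hB) hB

theorem support_biprod (A B : X.Modules) :
    CohB1.support (A ⊞ B) = CohB1.support A ∪ CohB1.support B := by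
  have hS : (ShortComplex.mk (biprod.inl : A ⟶ A ⊞ B) biprod.snd (by simp)).ShortExact :=
    (ShortComplex.Splitting.ofHasBinaryBiproduct A B).shortExact
  exact support_shortExact hS

/-- the coproduct of `n+1` copies as a biproduct -/
noncomputable def sigmaSuccIso (A : X.Modules) (n : ℕ) :
    (∐ fun _ : Fin (n + 1) => A) ≅ A ⊞ (∐ fun _ : Fin n => A) := by
  let f : Fin (n + 1) → X.Modules := fun _ => A
  let c₁ : Cofan fun i : Fin n => f i.succ := Cofan.mk (∐ fun _ : Fin n => A) (Sigma.ι _)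
  have t₁ : IsColimit c₁ := coproductIsCoproduct _
  let c₂ : BinaryCofan (f 0) c₁.pt := BinaryBicone.toCocone (BinaryBiproduct.bicone A (∐ fun _ : Fin n => A))
  have t₂ : IsColimit c₂ := BinaryBiproduct.isColimit _ _
  exact (coproductIsCoproduct f).coconePointUniqueUpToIso (extendCofanIsColimit f t₁ t₂)

/-- finite coproducts of copies of a coherent module -/
theorem sigma_fin (A : X.Modules) (hA : Coh.IsCoh A) (n : ℕ) :
    Coh.IsCoh (∐ fun _ : Fin n => A) ∧ CohB1.support (∐ fun _ : Fin n => A) ⊆ CohB1.support A ∧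
      cl (∐ fun _ : Fin n => A) = n • cl A := by
  induction n with
  | zero =>
    have hz : IsZero (∐ fun _ : Fin 0 => A) := by
      rw [IsZero.iff_id_eq_zero]
      exact Sigma.hom_ext _ _ (fun i => i.elim0)
    refine ⟨isCoh_of_isZero hz, ?_, by rw [cl_of_isZero hz, zero_smul]⟩
    intro x hx
    exact absurd (subsingleton_stalk_of_isZero hz x) ((mem_support_iff _ x).mp hx |> fun h => not_subsingleton_iff_nontrivial.mpr h)
  | succ n ih =>
    obtain ⟨h1, h2, h3⟩ := ih
    have e := sigmaSuccIso A n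
    have hb := Groth.Agent.Lib.H90CohCenter.isCoh_biprod hA h1
    have hc : Coh.IsCoh (∐ fun _ : Fin (n + 1) => A) :=
      Groth.Agent.Lib.H90CohRestrict.isCoh_of_iso e.symm hb
    refine ⟨hc, ?_, ?_⟩
    · rw [Groth.Agent.Lib.CurveSerreVan54.support_eq_of_iso e, support_biprod]
      exact Set.union_subset (le_refl _) h2
    · rw [cl_iso e hc, cl_biprod hA h1, h3, succ_nsmul, add_comm]

/-- **modules agreeing over an open subset**: if two coherent modules with support in `Z` are isomorphic over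
the open `U`, their classes differ by classes of modules with support in `Z \ U`. -/
theorem cl_sub_cl_mem_suppGroup [AlgebraicGeometry.IsNoetherian X] {G₁ G₂ : X.Modules}
    (h₁ : Coh.IsCoh G₁) (h₂ : Coh.IsCoh G₂) (U : X.Opens)
    (e : (Scheme.Modules.restrictFunctor U.ι).obj G₁ ≅ (Scheme.Modules.restrictFunctor U.ι).obj G₂)
    (Z : Set X) (hZ₁ : CohB1.support G₁ ⊆ Z) (hZ₂ : CohB1.support G₂ ⊆ Z)
    (𝒯 : Set (Closeds X)) (h𝒯 : ∀ T' : Closeds X, (T' : Set X) ⊆ Z \ (U : Set X) → T' ∈ 𝒯) :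
    cl G₁ - cl G₂ ∈ suppGroup 𝒯 := by
  obtain ⟨E, a, b, hE, hma, hmb, ha, hb, -⟩ :=
    Groth.Agent.Lib.H90CommonSub.exists_common_sub G₁ G₂ h₁ h₂ U e.hom
  haveI := hma; haveI := hmb
  have e1 := cl_mono_cokernel a hE h₁
  have e2 := cl_mono_cokernel b hE h₂
  haveI : E.IsQuasicoherent := hE.1
  have hca : Coh.IsCoh (cokernel a) := isCoh_cokernel a h₁
  have hcb : Coh.IsCoh (cokernel b) := isCoh_cokernel b h₂
  have sa : CohB1.support (cokernel a) ⊆ Z \ (U : Set X) := fun x hx =>
    ⟨hZ₁ (support_subset_of_epi (cokernel.π a) hx),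
      ((Groth.Agent.Lib.H90QCohLocalization.isIso_restrict_map_iff a U).mp ha).2 hx⟩
  have sb : CohB1.support (cokernel b) ⊆ Z \ (U : Set X) := fun x hx =>
    ⟨hZ₂ (support_subset_of_epi (cokernel.π b) hx),
      ((Groth.Agent.Lib.H90QCohLocalization.isIso_restrict_map_iff b U).mp hb).2 hx⟩
  have ma : cl (cokernel a) ∈ suppGroup 𝒯 := cl_mem_suppGroup hca (h𝒯 _ sa)
  have mb : cl (cokernel b) ∈ suppGroup 𝒯 := cl_mem_suppGroup hcb (h𝒯 _ sb)
  have : cl G₁ - cl G₂ = cl (cokernel a) - cl (cokernel b) := by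
    rw [e1, e2]; abel
  rw [this]
  exact sub_mem ma mb

/-- **Dévissage for additive functions that are generically multiplication by `e`.** -/
theorem dev_additive [AlgebraicGeometry.IsNoetherian X] (Φ : X.Modules → X.Modules) (e : ℕ)
    (hΦc : ∀ M, Coh.IsCoh M → Coh.IsCoh (Φ M))
    (hΦadd : ∀ S : ShortComplex X.Modules, S.ShortExact → Coh.IsCoh S.X₁ → Coh.IsCoh S.X₂ →
      Coh.IsCoh S.X₃ → cl (Φ S.X₂) = cl (Φ S.X₁) + cl (Φ S.X₃))
    (hΦ0 : ∀ M, IsZero M → cl (Φ M) = 0)
    (hΦs : ∀ M, Coh.IsCoh M → CohB1.support (Φ M) ⊆ CohB1.support M)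
    (𝒯 : Set (Closeds X)) (T : Closeds X)
    (hloc : ∀ Zc : Closeds X, IsIrreducible (Zc : Set X) → Zc ≤ T → ∀ A : X.Modules, Coh.IsCoh A →
      CohB1.support A ⊆ (Zc : Set X) → ∃ U : X.Opens,
        Nonempty ((Scheme.Modules.restrictFunctor U.ι).obj (Φ A) ≅
          (Scheme.Modules.restrictFunctor U.ι).obj (∐ fun _ : Fin e => A)) ∧
        ∀ T' : Closeds X, (T' : Set X) ⊆ (Zc : Set X) \ (U : Set X) → T' ∈ 𝒯)
    (F : X.Modules) (hF : Coh.IsCoh F) (hs : CohB1.support F ⊆ (T : Set X)) :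
    cl (Φ F) - e • cl F ∈ suppGroup 𝒯 := by
  have hfilt := filt_atomC_of_isCoh hF
  induction hfilt with
  | zero N h0 =>
    rw [hΦ0 N h0, cl_of_isZero h0, smul_zero, sub_zero]
    exact zero_mem _
  | step A B f hf hA hAc hB hat ih =>
    haveI := hf
    haveI : A.IsQuasicoherent := hAc.1
    have hCc : Coh.IsCoh (cokernel f) := isCoh_cokernel f hB
    have hsA : CohB1.support A ⊆ (T : Set X) := (support_subset_of_mono f).trans hs
    have hsC : CohB1.support (cokernel f) ⊆ (T : Set X) :=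
      (support_subset_of_epi (cokernel.π f)).trans hs
    have e1 := cl_mono_cokernel f hAc hB
    have e2 := hΦadd _ (shortExact_cokernel f) hAc hB hCc
    dsimp at e2
    have key : cl (Φ B) - e • cl B =
        (cl (Φ A) - e • cl A) + (cl (Φ (cokernel f)) - e • cl (cokernel f)) := by
      rw [e1, e2, smul_add]; abel
    rw [key]
    refine add_mem (ih hAc hsA) ?_
    obtain ⟨Zc', hat'⟩ := hat
    have hle : Zc' ≤ T := atomC_subset_of_support_subset hat' T.isClosed hsC
    obtain ⟨U, ⟨iso⟩, hU⟩ := hloc Zc' hat'.1 hle (cokernel f) hCc (support_atomC_subset hat')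
    obtain ⟨s1, s2, s3⟩ := sigma_fin (cokernel f) hCc e
    rw [← s3]
    exact cl_sub_cl_mem_suppGroup (hΦc _ hCc) s1 U iso (Zc' : Set X)
      ((hΦs _ hCc).trans (support_atomC_subset hat')) (s2.trans (support_atomC_subset hat')) 𝒯 hU


theorem lt_of_add_one_le_natCast {a : WithBot ℕ∞} {r : ℕ} (h : a + 1 ≤ (r : WithBot ℕ∞)) :
    a < (r : WithBot ℕ∞) := by
  induction a with
  | bot => exact WithBot.bot_lt_coe _
  | coe m =>
    have h' : ((m + 1 : ℕ∞) : WithBot ℕ∞) ≤ ((r : ℕ∞) : WithBot ℕ∞) := by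
      simpa using h
    rw [WithBot.coe_le_coe] at h'
    have hm : m ≠ ⊤ := by
      rintro rfl
      simp at h'
    have : m < (r : ℕ∞) := (ENat.add_one_le_iff hm).mp h'
    exact_mod_cast this

/-- closed subsets of `Zc \ U` have dimension `< r` if `Zc` is irreducible of dimension `≤ r` and meets `U` -/
theorem mem_dimLT_of_subset_diff {Zc : Closeds X} (hirr : IsIrreducible (Zc : Set X)) (r : ℕ)
    (hr : topologicalKrullDim (Zc : Set X) ≤ (r : WithBot ℕ∞)) (U : X.Opens)
    (hU : ((Zc : Set X) ∩ (U : Set X)).Nonempty) (T' : Closeds X)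
    (hT' : (T' : Set X) ⊆ (Zc : Set X) \ (U : Set X)) : T' ∈ dimLT X (r : WithBot ℕ∞) := by
  have hS : IsClosed ((Zc : Set X) \ (U : Set X)) := Zc.isClosed.sdiff U.isOpen
  have hne : (Zc : Set X) \ (U : Set X) ≠ (Zc : Set X) := by
    intro h
    obtain ⟨x, hx1, hx2⟩ := hU
    rw [← h] at hx1
    exact hx1.2 hx2
  have h1 := topologicalKrullDim_add_one_le_of_ssubset hS hirr Set.sdiff_subset hne
  have h2 : topologicalKrullDim (T' : Set X) + 1 ≤ (r : WithBot ℕ∞) :=
    (add_le_add_left (topologicalKrullDim_mono hT') 1).trans (h1.trans hr)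
  exact lt_of_add_one_le_natCast h2

section Tensor

open Groth.Agent.Lib.OXModTensor Groth.Agent.Lib.TwistEquiv CohB1

/-- tensoring with a free module of rank `e` -/
noncomputable def freeModTensorIso (e : ℕ) (A : X.Modules) :
    tensorMod (FlatMod.freeMod X e) A ≅ ∐ fun _ : Fin e => A :=
  (PreservesCoproduct.iso (tensorRightFunctor A) (fun _ : Fin e => Coh.structureModule X)) ≪≫
    Sigma.mapIso (fun _ => leftUnitor A)

/-- over an open subset where `E` is free of rank `e`, `E ⊗ A` is `A^e` -/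
theorem nonempty_restrict_tensor_iso {E : X.Modules} {e : ℕ} (U : X.Opens)
    (eU : E.restrict U.ι ≅ FlatMod.freeMod (↑U) e) (A : X.Modules) :
    Nonempty ((Scheme.Modules.restrictFunctor U.ι).obj (tensorMod E A) ≅
      (Scheme.Modules.restrictFunctor U.ι).obj (∐ fun _ : Fin e => A)) := by
  refine ⟨Groth.Agent.Lib.OXModRestrict.restrictTensorIso U.ι E A ≪≫
    tensorModIso eU (Iso.refl _) ≪≫ freeModTensorIso e _ ≪≫ ?_⟩
  exact (PreservesCoproduct.iso (Scheme.Modules.restrictFunctor U.ι) (fun _ : Fin e => A)).symm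

theorem support_tensorMod_subset_right (Q M : X.Modules) :
    CohB1.support (tensorMod Q M) ⊆ CohB1.support M := by
  rw [Groth.Agent.Lib.CurveSerreVan54.support_eq_of_iso (braiding Q M)]
  exact Groth.Agent.Lib.H90CurveH1.support_tensorMod_subset_left M Q

end Tensor

end Groth.Agent.Lib.H90K0Coh
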