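/-
helper90: `K₀(Coh X)`, part 3: an endomorphism of `K₀(Coh X)` of the form `[F] ↦ [Φ F] - e [F]`, where `Φ` is
locally (on `X`) isomorphic to `F ↦ F^e`, is nilpotent (Noetherian induction on supports).
-/
import Mathlib
import Groth.Agent.Lib.H90K0Coh2
import Groth.Prelude.Def_SGA6

set_option autoImplicit false
set_option linter.style.haveILetI false
universe u

open CategoryTheory CategoryTheory.Limits AlgebraicGeometry TopologicalSpace Opposite ZeroObject

namespace Groth.Agent.Lib.H90K0Coh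

open Groth.Agent.Lib.KZeroSub

variable {X : Scheme.{u}}

/-- every element of `K₀(Coh X)` is a combination of classes -/
theorem suppGroup_univ : suppGroup (Set.univ : Set (Closeds X)) = ⊤ := by
  rw [eq_top_iff]
  intro y _
  clear * -
  induction y using K0sub_induction (PC X) with
  | zero => exact zero_mem _
  | cl M hM => exact cl_mem_suppGroup hM (Set.mem_univ _)
  | neg y hy => exact neg_mem hy
  | add y z hy hz => exact add_mem hy hz

theorem suppGroup_mono {𝒯 𝒯' : Set (Closeds X)} (h : 𝒯 ⊆ 𝒯') : suppGroup 𝒯 ≤ suppGroup 𝒯' := by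
  rw [suppGroup, AddSubgroup.closure_le]
  rintro _ ⟨G, hG, hT, rfl⟩
  exact cl_mem_suppGroup hG (h hT)

/-- `mapSub` on classes -/
theorem mapSub_cl {Y : Scheme.{u}} (F : X.Modules ⥤ Y.Modules) [F.Additive] [PreservesFiniteLimits F]
    [PreservesFiniteColimits F] (h : ∀ M, PC X M → PC Y (F.obj M)) (M : X.Modules) (hM : Coh.IsCoh M) :
    SGA6.mapSub F (PC X) (PC Y) h (cl M) = cl (F.obj M) := by
  change SGA6.mapSub F (PC X) (PC Y) h (KZero.clSub (PC X) M) = KZero.clSub (PC Y) (F.obj M)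
  rw [clSub_of_mem (PC X) hM, clSub_of_mem (PC Y) (h M hM)]
  rfl

/-- **nilpotency**: an additive endomorphism `D` of `K₀(Coh X)` with `D [F] = [Φ F] - e [F]`, `Φ` exact, support
decreasing and locally isomorphic to `F ↦ F^e`, is nilpotent. -/
theorem exists_iterate_eq_zero [AlgebraicGeometry.IsNoetherian X]
    (D : KZero.K0sub (PC X) →+ KZero.K0sub (PC X)) (Φ : X.Modules → X.Modules) (e : ℕ)
    (hD : ∀ F, Coh.IsCoh F → D (cl F) = cl (Φ F) - e • cl F)
    (hΦc : ∀ M, Coh.IsCoh M → Coh.IsCoh (Φ M))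
    (hΦadd : ∀ S : ShortComplex X.Modules, S.ShortExact → Coh.IsCoh S.X₁ → Coh.IsCoh S.X₂ →
      Coh.IsCoh S.X₃ → cl (Φ S.X₂) = cl (Φ S.X₁) + cl (Φ S.X₃))
    (hΦ0 : ∀ M, IsZero M → cl (Φ M) = 0)
    (hΦs : ∀ M, Coh.IsCoh M → CohB1.support (Φ M) ⊆ CohB1.support M)
    (hloc : ∀ x : X, ∃ U : X.Opens, x ∈ U ∧ ∀ A : X.Modules, Coh.IsCoh A →
      Nonempty ((Scheme.Modules.restrictFunctor U.ι).obj (Φ A) ≅
        (Scheme.Modules.restrictFunctor U.ι).obj (∐ fun _ : Fin e => A))) :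
    ∃ n : ℕ, ∀ y : KZero.K0sub (PC X), (⇑D)^[n] y = 0 := by
  classical
  choose U hxU hUiso using hloc
  -- finite subcover
  obtain ⟨s, hs⟩ : ∃ s : Finset X, (⋃ x ∈ s, ((U x : X.Opens) : Set X)) = Set.univ := by
    have := isCompact_univ.elim_finite_subcover (fun x : X => ((U x : X.Opens) : Set X))
      (fun x => (U x).isOpen) (fun x _ => Set.mem_iUnion.mpr ⟨x, hxU x⟩)
    obtain ⟨s, hs⟩ := this
    exact ⟨s, Set.eq_univ_of_univ_subset hs⟩
  -- the kernel of an iterate is a subgroup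
  let Kn : ℕ → AddSubgroup (KZero.K0sub (PC X)) := fun n =>
    { carrier := {y | (⇑D)^[n] y = 0}
      zero_mem' := iterate_map_zero D n
      add_mem' := fun {a b} ha hb => by
        change (⇑D)^[n] (a + b) = 0
        rw [iterate_map_add, ha, hb, add_zero]
      neg_mem' := fun {a} ha => by
        change (⇑D)^[n] (-a) = 0
        rw [iterate_map_neg, ha, neg_zero] }
  have hKn_mono : ∀ {m n : ℕ}, m ≤ n → Kn m ≤ Kn n := by
    intro m n hmn y hy
    obtain ⟨k, rfl⟩ := Nat.exists_eq_add_of_le hmn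
    change (⇑D)^[m + k] y = 0
    rw [add_comm, Function.iterate_add_apply]
    have hy' : (⇑D)^[m] y = 0 := hy
    rw [hy', iterate_map_zero]
  have key : ∀ T : Closeds X, ∃ n : ℕ, suppGroup (Set.Iic T) ≤ Kn n := by
    intro T
    induction T using WellFoundedLT.induction with
    | ind T IH =>
      -- the smaller closed subsets
      let J : Finset X := s.filter fun x => ((T : Set X) ∩ (U x : Set X)).Nonempty
      let Tj : X → Closeds X := fun x => ⟨(T : Set X) \ (U x : Set X), T.isClosed.sdiff (U x).isOpen⟩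
      have hlt : ∀ x ∈ J, Tj x < T := by
        intro x hx
        refine lt_of_le_of_ne (fun z hz => hz.1) ?_
        intro heq
        obtain ⟨z, hz1, hz2⟩ := (Finset.mem_filter.mp hx).2
        have : z ∈ (Tj x : Set X) := by rw [heq]; exact hz1
        exact this.2 hz2
      have hIH : ∀ x : X, ∃ n : ℕ, x ∈ J → suppGroup (Set.Iic (Tj x)) ≤ Kn n := by
        intro x
        by_cases hx : x ∈ J
        · obtain ⟨n, hn⟩ := IH (Tj x) (hlt x hx)
          exact ⟨n, fun _ => hn⟩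
        · exact ⟨0, fun h => absurd h hx⟩
      choose nj hnj using hIH
      let N : ℕ := J.sup nj
      refine ⟨N + 1, ?_⟩
      let 𝒯' : Set (Closeds X) := {T' | ∃ x ∈ J, T' ≤ Tj x}
      have h𝒯' : suppGroup 𝒯' ≤ Kn N := by
        rw [suppGroup, AddSubgroup.closure_le]
        rintro _ ⟨G, hG, ⟨x, hxJ, hle⟩, rfl⟩
        exact hKn_mono (Finset.le_sup hxJ) (hnj x hxJ (cl_mem_suppGroup hG hle))
      rw [suppGroup, AddSubgroup.closure_le]
      rintro _ ⟨F, hF, hFT, rfl⟩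
      change (⇑D)^[N + 1] (cl F) = 0
      rw [Function.iterate_succ_apply, hD F hF]
      refine h𝒯' ?_
      refine dev_additive Φ e hΦc hΦadd hΦ0 hΦs 𝒯' T ?_ F hF hFT
      intro Zc hirr hle A hA hsA
      obtain ⟨ξ, hξ⟩ := QuasiSober.sober hirr Zc.isClosed
      have hξs : ξ ∈ ⋃ x ∈ s, ((U x : X.Opens) : Set X) := by rw [hs]; trivial
      obtain ⟨x, hxs, hξx⟩ : ∃ x ∈ s, ξ ∈ ((U x : X.Opens) : Set X) := by
        simpa using hξs
      have hxJ : x ∈ J := Finset.mem_filter.mpr ⟨hxs, ⟨ξ, hle hξ.mem, hξx⟩⟩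
      refine ⟨U x, hUiso x A hA, fun T' hT' => ⟨x, hxJ, ?_⟩⟩
      intro z hz
      exact ⟨hle (hT' hz).1, (hT' hz).2⟩
  obtain ⟨n, hn⟩ := key ⊤
  refine ⟨n, fun y => ?_⟩
  have : y ∈ suppGroup (Set.Iic (⊤ : Closeds X)) := by
    have h1 : (Set.Iic (⊤ : Closeds X)) = Set.univ := Set.eq_univ_of_forall fun T => Set.mem_Iic.mpr le_top
    rw [h1, suppGroup_univ]
    trivial
  exact hn this

end Groth.Agent.Lib.H90K0Coh
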