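/-
helper90: `K₀(Coh X)`, part 4: the class of a coherent module with support of dimension `≤ n` modulo classes of
dimension `< n`: `[F] ≡ Σ_x length(F_x) [O_{Z(x)}]`, the sum over the points `x` whose closure has dimension `n`.
-/
import Mathlib
import Groth.Agent.Lib.H90K0Coh2
import Groth.Agent.Lib.ModStalkLin
import Groth.Agent.Lib.H90DevHub

set_option autoImplicit false
set_option linter.style.haveILetI false
universe u

open CategoryTheory CategoryTheory.Limits AlgebraicGeometry TopologicalSpace Opposite ZeroObject

namespace Groth.Agent.Lib.H90K0Coh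

open Groth.Agent.Lib.KZeroSub Groth.Agent.Lib.H90DevCanon Groth.Agent.Lib.H90DevHub2
  Groth.Agent.Lib.H90DevFiltP Groth.Agent.Lib.H90OXModExact Groth.Agent.Lib.ModStalk
  Groth.Agent.Lib.DimDrop Groth.Agent.Lib.H90DevTwo Groth.Agent.Lib.ModStalkLin
  Groth.Agent.Lib.H90DevHub

variable {X : Scheme.{u}}

/-- a point of an irreducible closed subset `Zc` of dimension `≤ n` whose closure has dimension `n` is the generic
point of `Zc` -/
theorem eq_of_dim_closure_eq {Zc : Closeds X} (hirr : IsIrreducible (Zc : Set X)) {ξ : X}
    (hξ : IsGenericPoint ξ (Zc : Set X)) (n : ℕ)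
    (hn : topologicalKrullDim (Zc : Set X) ≤ (n : WithBot ℕ∞)) {x : X} (hx : x ∈ (Zc : Set X))
    (hdx : topologicalKrullDim (closure ({x} : Set X)) = (n : WithBot ℕ∞)) : x = ξ := by
  by_contra hne
  have hsub : closure ({x} : Set X) ⊆ (Zc : Set X) :=
    closure_minimal (Set.singleton_subset_iff.mpr hx) Zc.isClosed
  have hne' : closure ({x} : Set X) ≠ (Zc : Set X) := by
    intro heq
    have hx' : IsGenericPoint x (Zc : Set X) := heq
    exact hne (hx'.eq hξ)
  have h1 := topologicalKrullDim_add_one_le_of_ssubset isClosed_closure hirr hsub hne'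
  have h2 := lt_of_add_one_le_natCast (h1.trans hn)
  rw [hdx] at h2
  exact lt_irrefl _ h2

/-- the linear combination of classes `[O_{Z(x)}]` attached to a finitely supported function -/
noncomputable def hubSum (c : X →₀ ℕ) : KZero.K0sub (PC X) :=
  c.sum fun x k => k • cl (hub (ptC x))

theorem hubSum_add (c c' : X →₀ ℕ) : hubSum (c + c') = hubSum c + hubSum c' := by
  unfold hubSum
  exact Finsupp.sum_add_index' (fun _ => zero_smul _ _) (fun _ _ _ => add_smul _ _ _)

theorem hubSum_single (ξ : X) : hubSum (Finsupp.single ξ 1) = cl (hub (ptC ξ)) := by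
  unfold hubSum
  rw [Finsupp.sum_single_index (h := fun x k => k • cl (hub (ptC x))) (zero_smul _ _), one_smul]

/-- **lengths at the maximal points**: for coherent `F` with support of dimension `≤ n`, the stalks at the points
`x` with `dim closure {x} = n` have finite length, only finitely many are nonzero, and
`[F] ≡ Σ length(F_x) [O_{Z(x)}]` modulo classes with support of dimension `< n`. -/
theorem exists_length_finsupp [AlgebraicGeometry.IsNoetherian X] (n : ℕ) (F : X.Modules)
    (hF : Coh.IsCoh F)
    (hsupp : topologicalKrullDim (CohB1.support F) ≤ (n : WithBot ℕ∞)) :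
    ∃ c : X →₀ ℕ,
      (∀ x : X, topologicalKrullDim (closure ({x} : Set X)) = (n : WithBot ℕ∞) →
        Module.length (X.presheaf.stalk x) (F.presheaf.stalk x) = (c x : ℕ∞)) ∧
      (∀ x : X, c x ≠ 0 → topologicalKrullDim (closure ({x} : Set X)) = (n : WithBot ℕ∞)) ∧
      cl F - hubSum c ∈ suppGroup (dimLT X (n : WithBot ℕ∞)) := by
  have hfilt := filt_atomC_of_isCoh hF
  induction hfilt with
  | zero N h0 =>
    refine ⟨0, fun x _ => ?_, fun x hx => absurd rfl hx, ?_⟩
    · haveI := subsingleton_stalk_of_isZero h0 x
      rw [Module.length_eq_zero]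
      simp
    · rw [cl_of_isZero h0]
      simp [hubSum]
  | step A B f hf hA hAc hB hat ih =>
    haveI := hf
    haveI : A.IsQuasicoherent := hAc.1
    have hCc : Coh.IsCoh (cokernel f) := isCoh_cokernel f hB
    have hsA : CohB1.support A ⊆ CohB1.support B := support_subset_of_mono f
    have hsC : CohB1.support (cokernel f) ⊆ CohB1.support B := support_subset_of_epi (cokernel.π f)
    obtain ⟨cA, ha, hb, hc⟩ := ih hAc ((topologicalKrullDim_mono hsA).trans hsupp)
    have e1 := cl_mono_cokernel f hAc hB
    have hlen : ∀ x : X, Module.length (X.presheaf.stalk x) (B.presheaf.stalk x) =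
        Module.length (X.presheaf.stalk x) (A.presheaf.stalk x) +
          Module.length (X.presheaf.stalk x) ((cokernel f).presheaf.stalk x) := by
      intro x
      obtain ⟨h1, h2, h3⟩ := stalkLin_exact (shortExact_cokernel f) x
      exact Module.length_eq_add_of_exact _ _ h1 h3 h2
    obtain ⟨Zc, hat'⟩ := hat
    have hirr : IsIrreducible (Zc : Set X) := hat'.1
    have hZB : (Zc : Set X) ⊆ CohB1.support B :=
      atomC_subset_of_support_subset hat' (isClosed_support_of_isFT B hB.2) hsC
    have hZn : topologicalKrullDim (Zc : Set X) ≤ (n : WithBot ℕ∞) :=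
      (topologicalKrullDim_mono hZB).trans hsupp
    obtain ⟨ξ, hξ⟩ := QuasiSober.sober hirr Zc.isClosed
    have hZξ : Zc = ptC ξ := by
      apply Closeds.ext
      have h2 : closure {ξ} = (Zc : Set X) := hξ
      exact h2.symm
    -- the atom vanishes at the other points of dimension `n`
    have hzero : ∀ x : X, topologicalKrullDim (closure ({x} : Set X)) = (n : WithBot ℕ∞) → x ≠ ξ →
        Module.length (X.presheaf.stalk x) ((cokernel f).presheaf.stalk x) = 0 := by
      intro x hdx hne
      have hx : x ∉ CohB1.support (cokernel f) := fun hx =>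
        hne (eq_of_dim_closure_eq hirr hξ n hZn (support_atomC_subset hat' hx) hdx)
      haveI := (notMem_support_iff _ x).mp hx
      exact Module.length_eq_zero
    obtain ⟨p, hp⟩ := exists_mono_hub hat'
    haveI := hp
    have hnz : ¬ IsZero (cokernel f) := Groth.Agent.Lib.H90DevFilt.not_isZero_of_isAtom hat'.isAtom
    have hone : Module.length (X.presheaf.stalk ξ) ((cokernel f).presheaf.stalk ξ) = 1 := by
      have hb' := stalkLin_bijective_of_mono_hub hirr hξ p hnz
      rw [(LinearEquiv.ofBijective _ hb').length_eq]
      haveI := isSimpleModule_hub hirr hξ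
      exact Module.length_eq_one _ _
    haveI : (cokernel f).IsQuasicoherent := hCc.1
    have hhub : Coh.IsCoh (hub Zc) := isCoh_hub Zc
    have hQc : Coh.IsCoh (cokernel p) := isCoh_cokernel p hhub
    by_cases hdim : topologicalKrullDim (Zc : Set X) = (n : WithBot ℕ∞)
    · -- the atom contributes `[O_Zc]`
      refine ⟨cA + Finsupp.single ξ 1, fun x hdx => ?_, fun x hx => ?_, ?_⟩
      · rw [hlen x, ha x hdx, Finsupp.add_apply]
        by_cases hxe : x = ξ
        · subst hxe
          rw [hone, Finsupp.single_eq_same]
          norm_cast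
        · rw [hzero x hdx hxe, Finsupp.single_eq_of_ne hxe]
          norm_cast
      · rw [Finsupp.add_apply] at hx
        by_cases hxe : x = ξ
        · subst hxe
          have : closure ({x} : Set X) = (Zc : Set X) := hξ
          rw [this]
          exact hdim
        · rw [Finsupp.single_eq_of_ne hxe, add_zero] at hx
          exact hb x hx
      · have hsQ : CohB1.support (cokernel p) ⊆ (Zc : Set X) \ ((⊤ : X.Opens) : Set X) ∪
            (CohB1.support (cokernel p)) := Set.subset_union_right
        have hξn := notMem_support_cokernel_hub hirr hξ p hnz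
        have hQlt : suppC (cokernel p) hQc ∈ dimLT X (n : WithBot ℕ∞) := by
          have hsQ' : CohB1.support (cokernel p) ⊆ (Zc : Set X) :=
            (support_subset_of_epi (cokernel.π p)).trans (support_hub_subset Zc)
          have hne : CohB1.support (cokernel p) ≠ (Zc : Set X) := fun heq => hξn (heq ▸ hξ.mem)
          have h1 := topologicalKrullDim_add_one_le_of_ssubset
            (isClosed_support_of_isFT _ hQc.2) hirr hsQ' hne
          exact lt_of_add_one_le_natCast (h1.trans hZn)
        have e2 := cl_mono_cokernel p hCc hhub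
        have key : cl B - hubSum (cA + Finsupp.single ξ 1) =
            (cl A - hubSum cA) - cl (cokernel p) := by
          rw [hubSum_add, hubSum_single, e1, ← hZξ, e2]; abel
        rw [key]
        exact sub_mem hc (cl_mem_suppGroup hQc hQlt)
    · -- the atom has dimension `< n`
      have hlt : topologicalKrullDim (Zc : Set X) < (n : WithBot ℕ∞) := lt_of_le_of_ne hZn hdim
      have hCz : ∀ x : X, topologicalKrullDim (closure ({x} : Set X)) = (n : WithBot ℕ∞) →
          Module.length (X.presheaf.stalk x) ((cokernel f).presheaf.stalk x) = 0 := by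
        intro x hdx
        have hx : x ∉ CohB1.support (cokernel f) := by
          intro hx
          have hxZ : x ∈ (Zc : Set X) := support_atomC_subset hat' hx
          have hsub : closure ({x} : Set X) ⊆ (Zc : Set X) :=
            closure_minimal (Set.singleton_subset_iff.mpr hxZ) Zc.isClosed
          have := (topologicalKrullDim_mono hsub).trans_lt hlt
          rw [hdx] at this
          exact lt_irrefl _ this
        haveI := (notMem_support_iff _ x).mp hx
        exact Module.length_eq_zero
      refine ⟨cA, fun x hdx => ?_, hb, ?_⟩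
      · rw [hlen x, ha x hdx, hCz x hdx, add_zero]
      · have hClt : suppC (cokernel f) hCc ∈ dimLT X (n : WithBot ℕ∞) :=
          lt_of_le_of_lt (topologicalKrullDim_mono (support_atomC_subset hat')) hlt
        have key : cl B - hubSum cA = (cl A - hubSum cA) + cl (cokernel f) := by
          rw [e1]; abel
        rw [key]
        exact add_mem hc (cl_mem_suppGroup hCc hClt)

end Groth.Agent.Lib.H90K0Coh
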