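/-
helper90: `K₀` of coherent modules, part 5: the localization sequence.  For a Noetherian scheme `X` and an open
`V`, restriction `K₀(Coh X) ⟶ K₀(Coh V)` is surjective and its kernel is the subgroup generated by the classes of
the coherent modules with support in the complement of `V`; for a closed immersion `i` the image of `i_*` is the
subgroup generated by the classes of the coherent modules with support in the range of `i`.
-/
import Mathlib
import Groth.Agent.Lib.H90K0Coh3
import Groth.Agent.Lib.RestrictExact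
import Groth.Agent.Lib.H90OXModPushFinite

set_option autoImplicit false
set_option linter.style.haveILetI false
universe u

open CategoryTheory CategoryTheory.Limits AlgebraicGeometry TopologicalSpace Opposite

namespace Groth.Agent.Lib.H90K0Coh

open Groth.Agent.Lib.KZeroSub Groth.Agent.Lib.H43K0SubKer

section Lift

variable {A : Type*} [Category A] [Abelian A] (P : ObjectProperty A) {G : Type*} [AddCommGroup G]

/-- the universal property of `K0sub` -/
noncomputable def liftK0 (f : Subtype P → G)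
    (hf : ∀ (S : ShortComplex A) (h₁ : P S.X₁) (h₂ : P S.X₂) (h₃ : P S.X₃), S.ShortExact →
      f ⟨S.X₂, h₂⟩ = f ⟨S.X₁, h₁⟩ + f ⟨S.X₃, h₃⟩) : KZero.K0sub P →+ G :=
  QuotientAddGroup.lift (KZero.relSub P) (FreeAbelianGroup.lift f) (by
    rw [KZero.relSub, AddSubgroup.closure_le]
    rintro x ⟨S, h₁, h₂, h₃, hS, rfl⟩
    simp [hf S h₁ h₂ h₃ hS])

theorem liftK0_clSub (f : Subtype P → G)
    (hf : ∀ (S : ShortComplex A) (h₁ : P S.X₁) (h₂ : P S.X₂) (h₃ : P S.X₃), S.ShortExact →
      f ⟨S.X₂, h₂⟩ = f ⟨S.X₁, h₁⟩ + f ⟨S.X₃, h₃⟩) (M : A) (hM : P M) :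
    liftK0 P f hf (KZero.clSub P M) = f ⟨M, hM⟩ := by
  rw [clSub_of_mem P hM]
  simp [liftK0]

/-- two additive maps out of `K0sub` agreeing on classes are equal -/
theorem K0sub_hom_ext {φ ψ : KZero.K0sub P →+ G}
    (h : ∀ (M : A), P M → φ (KZero.clSub P M) = ψ (KZero.clSub P M)) : φ = ψ := by
  refine DFunLike.ext _ _ fun y => ?_
  induction y using K0sub_induction P with
  | zero => simp
  | cl M hM => exact h M hM
  | neg y hy => simp [hy]
  | add y z hy hz => simp [hy, hz]

end Lift

variable {X : Scheme.{u}}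

/-- the closed subsets disjoint from an open subset -/
def offOpen (V : X.Opens) : Set (Closeds X) := {T | (T : Set X) ⊆ (V : Set X)ᶜ}

theorem offOpen_down (V : X.Opens) : ∀ T ∈ offOpen V, ∀ T' : Closeds X, T' ≤ T → T' ∈ offOpen V :=
  fun T hT T' h => Set.Subset.trans (show (T' : Set X) ⊆ (T : Set X) from h) hT

/-- **coherent extension**: a coherent module on an open subscheme of a Noetherian scheme is the restriction of a
coherent module. -/
theorem exists_coh_extension [AlgebraicGeometry.IsNoetherian X] (V : X.Opens)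
    (G : (V : Scheme.{u}).Modules) (hG : Coh.IsCoh G) :
    ∃ F : X.Modules, Coh.IsCoh F ∧ Nonempty ((Scheme.Modules.restrictFunctor V.ι).obj F ≅ G) := by
  have hX : ∀ x : X, ∃ V : X.Opens, x ∈ V ∧ NoetherianSpace (V : Set X) :=
    fun x => ⟨⊤, trivial, inferInstance⟩
  haveI := Groth.Agent.Lib.H90LocNoeth.quasiCompact_ι hX V
  haveI : G.IsQuasicoherent := hG.1
  haveI : ((Scheme.Modules.pushforward V.ι).obj G).IsQuasicoherent :=
    Groth.Agent.Lib.H90OXModQcqs.isQuasicoherent_pushforward_of_qcqs V.ι G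
  let c := (Scheme.Modules.restrictFunctorAdjCounitIso V.ι).app G
  obtain ⟨G', i', e, hm, hq, hft, -⟩ := Groth.Agent.Lib.H90LocNoeth.exists_finiteType_extension hX V
    ((Scheme.Modules.pushforward V.ι).obj G) (G := G) c.inv hG.2
  exact ⟨G', ⟨hq, hft⟩, ⟨e⟩⟩

/-- modules which agree over `V` have the same class modulo modules supported off `V` -/
theorem cl_sub_cl_mem_offOpen [AlgebraicGeometry.IsNoetherian X] (V : X.Opens) {G₁ G₂ : X.Modules}
    (h₁ : Coh.IsCoh G₁) (h₂ : Coh.IsCoh G₂)
    (e : (Scheme.Modules.restrictFunctor V.ι).obj G₁ ≅ (Scheme.Modules.restrictFunctor V.ι).obj G₂) :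
    cl G₁ - cl G₂ ∈ suppGroup (offOpen V) :=
  cl_sub_cl_mem_suppGroup h₁ h₂ V e Set.univ (Set.subset_univ _) (Set.subset_univ _) (offOpen V)
    (fun _ hT' => Set.Subset.trans hT' (fun _ hx => hx.2))

/-- modules supported off `V` restrict to zero -/
theorem mapSub_restrict_eq_zero_of_mem (V : X.Opens)
    (hj : ∀ M : X.Modules, Coh.IsCoh M → Coh.IsCoh ((Scheme.Modules.restrictFunctor V.ι).obj M))
    {y : KZero.K0sub (PC X)} (hy : y ∈ suppGroup (offOpen V)) :
    SGA6.mapSub (Scheme.Modules.restrictFunctor V.ι) (PC X) (PC (V : Scheme.{u})) hj y = 0 := by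
  change y ∈ (SGA6.mapSub (Scheme.Modules.restrictFunctor V.ι) (PC X) (PC (V : Scheme.{u})) hj).ker
  revert y
  change suppGroup (offOpen V) ≤ _
  rw [suppGroup, AddSubgroup.closure_le]
  rintro _ ⟨G, hG, hT, rfl⟩
  change SGA6.mapSub _ _ _ hj (cl G) = 0
  rw [mapSub_cl _ hj G hG]
  exact cl_of_isZero ((Groth.Agent.Lib.H90QCohLocalization.isZero_restrict_iff G V).mpr hT)

/-- additivity of the class of an extension, modulo modules supported off `V` -/
theorem cl_extension_additive [AlgebraicGeometry.IsNoetherian X] (V : X.Opens)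
    (S : ShortComplex (V : Scheme.{u}).Modules) (hS : S.ShortExact)
    {F₁ F₂ F₃ : X.Modules} (h₁ : Coh.IsCoh F₁) (h₂ : Coh.IsCoh F₂) (h₃ : Coh.IsCoh F₃)
    (ε₁ : (Scheme.Modules.restrictFunctor V.ι).obj F₁ ≅ S.X₁)
    (ε₂ : (Scheme.Modules.restrictFunctor V.ι).obj F₂ ≅ S.X₂)
    (ε₃ : (Scheme.Modules.restrictFunctor V.ι).obj F₃ ≅ S.X₃) :
    cl F₂ - (cl F₁ + cl F₃) ∈ suppGroup (offOpen V) := by
  let R := Scheme.Modules.restrictFunctor V.ι
  have hX : ∀ x : X, ∃ V : X.Opens, x ∈ V ∧ NoetherianSpace (V : Set X) :=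
    fun x => ⟨⊤, trivial, inferInstance⟩
  let φ : R.obj F₂ ⟶ R.obj F₃ := ε₂.hom ≫ S.g ≫ ε₃.inv
  obtain ⟨E, a, b, hE, -, ha, hb⟩ :=
    Groth.Agent.Lib.H90GraphExt.exists_graph_extension hX F₂ F₃ h₂ h₃ V φ
  haveI := ha
  haveI : E.IsQuasicoherent := hE.1
  haveI : F₃.IsQuasicoherent := h₃.1
  haveI := hS.epi_g
  haveI := hS.mono_f
  have hK : Coh.IsCoh (kernel b) := Groth.Agent.Lib.H90OXModExact.isCoh_kernel b hE
  have hC : Coh.IsCoh (cokernel b) := Groth.Agent.Lib.H90OXModExact.isCoh_cokernel b h₃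
  -- `E` against `F₂`
  have m1 : cl E - cl F₂ ∈ suppGroup (offOpen V) := cl_sub_cl_mem_offOpen V hE h₂ (asIso (R.map a))
  -- the cokernel of `b` is supported off `V`
  have hepi : Epi (R.map b) := by
    change Epi ((Scheme.Modules.restrictFunctor V.ι).map b)
    rw [hb]
    infer_instance
  have m2 : cl (cokernel b) ∈ suppGroup (offOpen V) := by
    refine cl_mem_suppGroup hC ?_
    change CohB1.support (cokernel b) ⊆ (V : Set X)ᶜ
    rw [← Groth.Agent.Lib.H90QCohLocalization.isZero_restrict_iff]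
    have e := PreservesCokernel.iso R b
    exact (isZero_cokernel_of_epi (R.map b)).of_iso e
  -- the kernel of `b` against `F₁`
  have hzero : (S.f ≫ ε₂.inv ≫ inv (R.map a)) ≫ R.map b = 0 := by
    change _ ≫ (Scheme.Modules.restrictFunctor V.ι).map b = 0
    rw [hb]
    simp [φ]
  let S' : ShortComplex (V : Scheme.{u}).Modules :=
    ShortComplex.mk (S.f ≫ ε₂.inv ≫ inv (R.map a)) (R.map b) hzero
  have eS : S' ≅ S := by
    refine ShortComplex.isoMk (Iso.refl S.X₁) (asIso (R.map a) ≪≫ ε₂) ε₃ ?_ ?_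
    · simp [S']
    · change (asIso (R.map a) ≪≫ ε₂).hom ≫ S.g = (Scheme.Modules.restrictFunctor V.ι).map b ≫ ε₃.hom
      rw [hb]
      simp [φ]
      rfl
  have hS' : S'.ShortExact := ShortComplex.shortExact_of_iso eS.symm hS
  have e2 : kernel (R.map b) ≅ S.X₁ :=
    IsLimit.conePointUniqueUpToIso (kernelIsKernel (R.map b)) hS'.fIsKernel
  have eK : R.obj (kernel b) ≅ R.obj F₁ := PreservesKernel.iso R b ≪≫ e2 ≪≫ ε₁.symm
  have m3 : cl (kernel b) - cl F₁ ∈ suppGroup (offOpen V) := cl_sub_cl_mem_offOpen V hK h₁ eK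
  have key := cl_ker_coker b hE h₃
  have : cl F₂ - (cl F₁ + cl F₃) =
      -(cl E - cl F₂) + (cl (kernel b) - cl F₁) - cl (cokernel b) := by
    have : cl E = cl F₃ + cl (kernel b) - cl (cokernel b) := by rw [← key]; abel
    rw [this]; abel
  rw [this]
  exact sub_mem (add_mem (neg_mem m1) m3) m2

/-- **localization sequence, surjectivity**: restriction to an open subscheme is surjective on `K₀(Coh)` -/
theorem mapSub_restrict_surjective [AlgebraicGeometry.IsNoetherian X] (V : X.Opens)
    (hj : ∀ M : X.Modules, Coh.IsCoh M → Coh.IsCoh ((Scheme.Modules.restrictFunctor V.ι).obj M)) :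
    Function.Surjective
      (SGA6.mapSub (Scheme.Modules.restrictFunctor V.ι) (PC X) (PC (V : Scheme.{u})) hj) := by
  intro y
  induction y using K0sub_induction (PC (V : Scheme.{u})) with
  | zero => exact ⟨0, map_zero _⟩
  | cl G hG =>
    obtain ⟨F, hF, ⟨e⟩⟩ := exists_coh_extension V G hG
    refine ⟨cl F, ?_⟩
    rw [mapSub_cl _ hj F hF]
    exact cl_iso e (hj F hF)
  | neg y hy =>
    obtain ⟨x, rfl⟩ := hy
    exact ⟨-x, map_neg _ _⟩
  | add y z hy hz =>
    obtain ⟨x, rfl⟩ := hy
    obtain ⟨x', rfl⟩ := hz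
    exact ⟨x + x', map_add _ _ _⟩

/-- **localization sequence, exactness in the middle**: the kernel of the restriction to an open subscheme is
generated by the classes of the coherent modules supported off the open subscheme -/
theorem ker_mapSub_restrict [AlgebraicGeometry.IsNoetherian X] (V : X.Opens)
    (hj : ∀ M : X.Modules, Coh.IsCoh M → Coh.IsCoh ((Scheme.Modules.restrictFunctor V.ι).obj M)) :
    (SGA6.mapSub (Scheme.Modules.restrictFunctor V.ι) (PC X) (PC (V : Scheme.{u})) hj).ker =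
      suppGroup (offOpen V) := by
  classical
  apply le_antisymm
  · have hext : ∀ G : Subtype (PC (V : Scheme.{u})), ∃ F : X.Modules, Coh.IsCoh F ∧
        Nonempty ((Scheme.Modules.restrictFunctor V.ι).obj F ≅ G.1) :=
      fun G => exists_coh_extension V G.1 G.2
    choose ext hextc hexti using hext
    let N := suppGroup (offOpen V)
    let ψ : KZero.K0sub (PC (V : Scheme.{u})) →+ KZero.K0sub (PC X) ⧸ N :=
      liftK0 (PC (V : Scheme.{u})) (fun G => QuotientAddGroup.mk (cl (ext G))) (by
        intro S h₁ h₂ h₃ hS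
        have := cl_extension_additive V S hS (hextc ⟨S.X₁, h₁⟩) (hextc ⟨S.X₂, h₂⟩)
          (hextc ⟨S.X₃, h₃⟩) (hexti ⟨S.X₁, h₁⟩).some (hexti ⟨S.X₂, h₂⟩).some (hexti ⟨S.X₃, h₃⟩).some
        rw [← QuotientAddGroup.mk_add, eq_comm, QuotientAddGroup.eq, neg_add_eq_sub]
        exact this)
    have hcomp : ψ.comp (SGA6.mapSub (Scheme.Modules.restrictFunctor V.ι) (PC X)
        (PC (V : Scheme.{u})) hj) = QuotientAddGroup.mk' N := by
      apply K0sub_hom_ext
      intro M hM
      change ψ (SGA6.mapSub _ _ _ hj (cl M)) = QuotientAddGroup.mk (cl M)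
      rw [mapSub_cl _ hj M hM]
      change liftK0 _ _ _ (KZero.clSub _ _) = _
      rw [liftK0_clSub _ _ _ _ (hj M hM), QuotientAddGroup.eq, neg_add_eq_sub]
      have := cl_sub_cl_mem_offOpen V (hextc ⟨_, hj M hM⟩) hM (hexti ⟨_, hj M hM⟩).some
      rw [← neg_sub]
      exact neg_mem this
    intro y hy
    have h1 : QuotientAddGroup.mk' N y = 0 := by
      rw [← hcomp]
      change ψ (SGA6.mapSub _ _ _ hj y) = 0
      rw [(AddMonoidHom.mem_ker).mp hy, map_zero]
    exact (QuotientAddGroup.eq_zero_iff y).mp h1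
  · intro y hy
    exact (AddMonoidHom.mem_ker).mpr (mapSub_restrict_eq_zero_of_mem V hj hy)

section Transport

variable {U : Scheme.{u}}

/-- coherence is preserved by restriction along an open immersion -/
theorem isCoh_restrictFunctor (j : U ⟶ X) [IsOpenImmersion j] (M : X.Modules) (hM : Coh.IsCoh M) :
    Coh.IsCoh ((Scheme.Modules.restrictFunctor j).obj M) :=
  Groth.Agent.Lib.H90CohRestrict.isCoh_restrict j M hM

/-- restriction along an isomorphism of schemes is bijective on `K₀(Coh)` -/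
theorem mapSub_restrict_bijective_of_isIso (f : U ⟶ X) [IsIso f]
    (hf : ∀ M : X.Modules, Coh.IsCoh M → Coh.IsCoh ((Scheme.Modules.restrictFunctor f).obj M)) :
    Function.Bijective (SGA6.mapSub (Scheme.Modules.restrictFunctor f) (PC X) (PC U) hf) := by
  have hg : ∀ M : U.Modules, Coh.IsCoh M → Coh.IsCoh ((Scheme.Modules.restrictFunctor (inv f)).obj M) :=
    fun M hM => isCoh_restrictFunctor (inv f) M hM
  -- `R_f ⋙ R_{f⁻¹} ≅ 𝟭`
  let e₁ : Scheme.Modules.restrictFunctor f ⋙ Scheme.Modules.restrictFunctor (inv f) ≅ 𝟭 X.Modules :=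
    (Scheme.Modules.restrictFunctorComp (inv f) f).symm ≪≫
      Scheme.Modules.restrictFunctorCongr (IsIso.inv_hom_id f) ≪≫ Scheme.Modules.restrictFunctorId
  let e₂ : Scheme.Modules.restrictFunctor (inv f) ⋙ Scheme.Modules.restrictFunctor f ≅ 𝟭 U.Modules :=
    (Scheme.Modules.restrictFunctorComp f (inv f)).symm ≪≫
      Scheme.Modules.restrictFunctorCongr (IsIso.hom_inv_id f) ≪≫ Scheme.Modules.restrictFunctorId
  have h1 : (SGA6.mapSub (Scheme.Modules.restrictFunctor (inv f)) (PC U) (PC X) hg).comp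
      (SGA6.mapSub (Scheme.Modules.restrictFunctor f) (PC X) (PC U) hf) = AddMonoidHom.id _ := by
    apply K0sub_hom_ext
    intro M hM
    change SGA6.mapSub _ _ _ hg (SGA6.mapSub _ _ _ hf (cl M)) = cl M
    rw [mapSub_cl _ hf M hM, mapSub_cl _ hg _ (hf M hM)]
    exact cl_iso (e₁.app M) (hg _ (hf M hM))
  have h2 : (SGA6.mapSub (Scheme.Modules.restrictFunctor f) (PC X) (PC U) hf).comp
      (SGA6.mapSub (Scheme.Modules.restrictFunctor (inv f)) (PC U) (PC X) hg) = AddMonoidHom.id _ := by
    apply K0sub_hom_ext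
    intro M hM
    change SGA6.mapSub _ _ _ hf (SGA6.mapSub _ _ _ hg (cl M)) = cl M
    rw [mapSub_cl _ hg M hM, mapSub_cl _ hf _ (hg M hM)]
    exact cl_iso (e₂.app M) (hf _ (hg M hM))
  refine ⟨?_, ?_⟩
  · intro a b hab
    have := congrArg (SGA6.mapSub (Scheme.Modules.restrictFunctor (inv f)) (PC U) (PC X) hg) hab
    have ha := DFunLike.congr_fun h1 a
    have hb := DFunLike.congr_fun h1 b
    simp only [AddMonoidHom.comp_apply, AddMonoidHom.id_apply] at ha hb
    rwa [ha, hb] at this
  · intro y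
    exact ⟨_, DFunLike.congr_fun h2 y⟩

/-- **localization sequence for a general open immersion** -/
theorem localization_open [AlgebraicGeometry.IsNoetherian X] (j : U ⟶ X) [IsOpenImmersion j]
    (hj : ∀ M : X.Modules, Coh.IsCoh M → Coh.IsCoh ((Scheme.Modules.restrictFunctor j).obj M)) :
    Function.Surjective (SGA6.mapSub (Scheme.Modules.restrictFunctor j) (PC X) (PC U) hj) ∧
      (SGA6.mapSub (Scheme.Modules.restrictFunctor j) (PC X) (PC U) hj).ker =
        suppGroup (offOpen j.opensRange) := by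
  let V := j.opensRange
  let f : U ⟶ (V : Scheme.{u}) := j.isoOpensRange.hom
  have hfV : f ≫ V.ι = j := j.isoOpensRange_hom_ι
  have hV : ∀ M : X.Modules, Coh.IsCoh M → Coh.IsCoh ((Scheme.Modules.restrictFunctor V.ι).obj M) :=
    fun M hM => isCoh_restrictFunctor V.ι M hM
  have hf : ∀ M : (V : Scheme.{u}).Modules, Coh.IsCoh M →
      Coh.IsCoh ((Scheme.Modules.restrictFunctor f).obj M) :=
    fun M hM => isCoh_restrictFunctor f M hM
  have hcomp : SGA6.mapSub (Scheme.Modules.restrictFunctor j) (PC X) (PC U) hj =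
      (SGA6.mapSub (Scheme.Modules.restrictFunctor f) (PC (V : Scheme.{u})) (PC U) hf).comp
        (SGA6.mapSub (Scheme.Modules.restrictFunctor V.ι) (PC X) (PC (V : Scheme.{u})) hV) := by
    apply K0sub_hom_ext
    intro M hM
    change SGA6.mapSub _ _ _ hj (cl M) = SGA6.mapSub _ _ _ hf (SGA6.mapSub _ _ _ hV (cl M))
    rw [mapSub_cl _ hj M hM, mapSub_cl _ hV M hM, mapSub_cl _ hf _ (hV M hM)]
    exact cl_iso (((Scheme.Modules.restrictFunctorCongr hfV).symm ≪≫
      Scheme.Modules.restrictFunctorComp f V.ι).app M) (hj M hM)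
  have hbij := mapSub_restrict_bijective_of_isIso f hf
  refine ⟨?_, ?_⟩
  · rw [hcomp]
    exact hbij.2.comp (mapSub_restrict_surjective V hV)
  · rw [← ker_mapSub_restrict V hV, hcomp]
    ext y
    simp only [AddMonoidHom.mem_ker, AddMonoidHom.comp_apply]
    constructor
    · intro h
      exact hbij.1 (h.trans (map_zero _).symm)
    · intro h
      rw [h, map_zero]

end Transport

section Closed

variable {X' : Scheme.{u}}

/-- the closed subsets contained in a given subset -/
def inSet (Z : Set X) : Set (Closeds X) := {T | (T : Set X) ⊆ Z}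

theorem inSet_down (Z : Set X) : ∀ T ∈ inSet Z, ∀ T' : Closeds X, T' ≤ T → T' ∈ inSet Z :=
  fun T hT T' h => Set.Subset.trans (show (T' : Set X) ⊆ (T : Set X) from h) hT

/-- the structure sheaf of the reduced closed subscheme on a closed subset of the range of a closed immersion `i`
is a direct image along `i` -/
theorem exists_hub_iso_push (i : X' ⟶ X) [IsClosedImmersion i] (Zc : Closeds X)
    (hZ : (Zc : Set X) ⊆ Set.range ⇑i) :
    ∃ M : X'.Modules, Coh.IsCoh M ∧
      Nonempty (Groth.Agent.Lib.H90DevCanon.hub Zc ≅ (Scheme.Modules.pushforward i).obj M) := by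
  have hker : i.ker ≤ (Groth.Agent.Lib.H90DevCanon.iZ Zc).ker := by
    rw [Scheme.IdealSheafData.ker_subschemeι,
      ← Scheme.IdealSheafData.le_support_iff_le_vanishingIdeal]
    intro x hx
    change x ∈ (i.ker.support : Set X)
    rw [Scheme.Hom.support_ker, i.isClosedEmbedding.isClosed_range.closure_eq]
    exact hZ hx
  let g : Groth.Agent.Lib.H90DevCanon.ZZ Zc ⟶ X' :=
    IsClosedImmersion.lift i (Groth.Agent.Lib.H90DevCanon.iZ Zc) hker
  have hg : g ≫ i = Groth.Agent.Lib.H90DevCanon.iZ Zc := IsClosedImmersion.lift_fac _ _ _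
  haveI : IsClosedImmersion g := by
    haveI : IsClosedImmersion (g ≫ i) := by rw [hg]; infer_instance
    exact IsClosedImmersion.of_comp g i
  refine ⟨(Scheme.Modules.pushforward g).obj (Coh.structureModule _),
    Groth.Agent.Lib.H90OXModPushFinite.isCoh_pushforward g _
      (Groth.Agent.Lib.H90DevHub2.isCoh_structureModule _), ⟨?_⟩⟩
  exact (Scheme.Modules.pushforwardCongr hg).symm.app _ ≪≫
    (Scheme.Modules.pushforwardComp g i).symm.app _

/-- **the image of the direct image along a closed immersion** is generated by the classes of the coherent modules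
with support in its range -/
theorem range_mapSub_push [AlgebraicGeometry.IsNoetherian X] (i : X' ⟶ X) [IsClosedImmersion i]
    [(Scheme.Modules.pushforward i).Additive] [PreservesFiniteLimits (Scheme.Modules.pushforward i)]
    [PreservesFiniteColimits (Scheme.Modules.pushforward i)]
    (hi : ∀ M : X'.Modules, Coh.IsCoh M → Coh.IsCoh ((Scheme.Modules.pushforward i).obj M)) :
    (SGA6.mapSub (Scheme.Modules.pushforward i) (PC X') (PC X) hi).range =
      suppGroup (inSet (Set.range ⇑i)) := by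
  apply le_antisymm
  · rintro _ ⟨x, rfl⟩
    induction x using K0sub_induction (PC X') with
    | zero => rw [map_zero]; exact zero_mem _
    | cl M hM =>
      change SGA6.mapSub _ _ _ hi (cl M) ∈ _
      rw [mapSub_cl _ hi M hM]
      exact cl_mem_suppGroup (hi M hM) (Groth.Agent.Lib.H90DevTwo2.support_push_subset i M)
    | neg y hy => rw [map_neg]; exact neg_mem hy
    | add y z hy hz => rw [map_add]; exact add_mem hy hz
  · rw [suppGroup_eq_hubGroup _ (inSet_down _), hubGroup, AddSubgroup.closure_le]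
    rintro _ ⟨Zc, hT, -, rfl⟩
    obtain ⟨M, hM, ⟨e⟩⟩ := exists_hub_iso_push i Zc hT
    refine ⟨cl M, ?_⟩
    rw [mapSub_cl _ hi M hM]
    exact (cl_iso e (Groth.Agent.Lib.H90DevHub2.isCoh_hub Zc)).symm

end Closed

end Groth.Agent.Lib.H90K0Coh
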