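/-
helper90: Krull's intersection theorem for coherent modules on a locally Noetherian scheme: a global section of `F` lies in
`Γ(X, Iⁿ F)` for every `n` iff it vanishes on an open neighbourhood of `V(I)`.
-/
import Mathlib
import Groth.Agent.Lib.H90ArtinRees

set_option autoImplicit false
set_option linter.style.haveILetI false
universe u

open CategoryTheory CategoryTheory.Limits AlgebraicGeometry TopologicalSpace Opposite

namespace Groth.Agent.Lib.H90Krull

open Groth.Agent.Lib.QCohStalk Groth.Agent.Lib.AssPush Groth.Agent.Lib.H90OXModQcqs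
  Groth.Agent.Lib.H90OXModSections Groth.Agent.Lib.H90OXModExt Groth.Agent.Lib.H90SubSh
  Groth.Agent.Lib.H90DevSub Scheme.Modules Groth.Agent.Lib.H90ArtinRees

variable {X : Scheme.{u}} (I : X.IdealSheafData) (F : X.Modules)

set_option backward.isDefEq.respectTransparency false in
theorem forall_mem_powSub_iff [IsLocallyNoetherian X] (hF : Coh.IsCoh F) (s : Γ(F, ⊤)) :
    (∀ n : ℕ, s ∈ (powSub I F n).obj ⊤) ↔
      ∃ V : X.Opens, I.supportSet ⊆ (V : Set X) ∧ res F (le_top : V ≤ ⊤) s = 0 := by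
  haveI : F.IsQuasicoherent := hF.1
  constructor
  · intro h
    have hloc : ∀ V : X.affineOpens, ∃ a : Γ(X, V.1), a ∈ I.ideal V ∧
        (1 - a) • res F (le_top : V.1 ≤ ⊤) s = 0 := by
      intro V
      haveI : IsNoetherianRing Γ(X, V.1) := IsLocallyNoetherian.component_noetherian V
      haveI : Module.Finite Γ(X, V.1) Γ(F, V.1) :=
        Groth.Agent.Lib.CohFinite.finite_sections_of_isCoh F hF V.2
      have hmem : res F (le_top : V.1 ≤ ⊤) s ∈
          (⨅ n : ℕ, (I.ideal V) ^ n • ⊤ : Submodule Γ(X, V.1) Γ(F, V.1)) := by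
        rw [Submodule.mem_iInf]
        intro n
        rw [← powSub_obj I F n V]
        exact SubSh.res_mem _ le_top (h n)
      obtain ⟨r, hr⟩ := (Ideal.mem_iInf_smul_pow_eq_bot_iff (I.ideal V) _).mp hmem
      exact ⟨r.1, r.2, by rw [sub_smul, one_smul, hr, sub_self]⟩
    choose a ha h0 using hloc
    refine ⟨⨆ V : X.affineOpens, X.basicOpen (1 - a V), ?_, ?_⟩
    · intro x hx
      obtain ⟨_, ⟨V, hV, rfl⟩, hxV, -⟩ :=
        X.isBasis_affineOpens.exists_subset_of_mem_open (Set.mem_univ x) isOpen_univ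
      refine Opens.mem_iSup.mpr ⟨⟨V, hV⟩, ?_⟩
      rw [Scheme.mem_basicOpen _ _ x hxV, map_sub, map_one]
      apply IsLocalRing.isUnit_one_sub_self_of_mem_nonunits
      rw [mem_nonunits_iff, ← Scheme.mem_basicOpen _ _ x hxV]
      have h1 := (Scheme.IdealSheafData.mem_supportSet_iff_of_mem (I := I) (U := ⟨V, hV⟩) hxV).mp hx
      rw [Scheme.mem_zeroLocus_iff] at h1
      exact h1 _ (ha ⟨V, hV⟩)
    · refine res_ext F _ (fun V : X.affineOpens => X.basicOpen (1 - a V))
        (fun V => le_iSup (fun V : X.affineOpens => X.basicOpen (1 - a V)) V) le_rfl _ 0 fun V => ?_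
      rw [res_zero, res_res]
      have h1 : res F (X.basicOpen_le (1 - a V)) ((1 - a V) • res F (le_top : V.1 ≤ ⊤) s) = 0 := by
        rw [h0 V, res_zero]
      rw [res_smul, res_res] at h1
      obtain ⟨u, hu⟩ := (Groth.Agent.Lib.AffVanSections.isUnit_resO_basicOpen (1 - a V)).exists_left_inv
      have h2 := congrArg (fun w => u • w) h1
      simp only [smul_smul, hu, one_smul, smul_zero] at h2
      exact h2
  · rintro ⟨V, hV, hs⟩ n
    apply SubSh.mem_of_local
    intro x _
    by_cases hx : x ∈ I.supportSet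
    · refine ⟨V, le_top, hV hx, ?_⟩
      rw [hs]
      exact Submodule.zero_mem _
    · let U : X.Opens := ⟨I.supportSetᶜ, I.isClosed_supportSet.isOpen_compl⟩
      have hU : (U : Set X) = (I.support : Set X)ᶜ := rfl
      obtain ⟨_, ⟨W, hW, rfl⟩, hxW, hWU⟩ :=
        X.isBasis_affineOpens.exists_subset_of_mem_open (show x ∈ (U : Set X) from hx) U.isOpen
      refine ⟨W, le_top, hxW, ?_⟩
      rw [powSub_obj I F n ⟨W, hW⟩, ideal_eq_top_of_le hU ⟨W, hW⟩ hWU, Ideal.top_pow, Submodule.top_smul]
      trivial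

end Groth.Agent.Lib.H90Krull
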