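import Mathlib

/-!
# A criterion for a functor to be a localization (helper90)

`isLocalization_of_fractions`: if `W` has a left calculus of fractions, `L : C ⥤ D` inverts `W`, is
essentially surjective, every morphism `L X ⟶ L Y` is a right fraction `(L s)⁻¹ ≫ L f` with `s ∈ W`,
and `L f = L g` implies `s ≫ f = s ≫ g` for some `s ∈ W`, then `L` is a localization functor for `W`.
-/

set_option autoImplicit false
universe v v' u u'

open CategoryTheory

namespace Groth.Agent.Lib.H90LocCrit

variable {C : Type u} [Category.{v} C] {D : Type u'} [Category.{v'} D]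

theorem isLocalization_of_fractions (L : C ⥤ D) (W : MorphismProperty C)
    [W.HasLeftCalculusOfFractions]
    (hinv : W.IsInvertedBy L) [L.EssSurj]
    (hfull : ∀ (X Y : C) (φ : L.obj X ⟶ L.obj Y),
      ∃ (X' : C) (s : X' ⟶ X) (f : X' ⟶ Y), W s ∧ L.map f = L.map s ≫ φ)
    (hfaith : ∀ (X Y : C) (f g : X ⟶ Y), L.map f = L.map g →
      ∃ (X' : C) (s : X' ⟶ X), W s ∧ s ≫ f = s ≫ g) :
    L.IsLocalization W := by
  let G : W.Localization ⥤ D := Localization.lift L hinv W.Q
  let e : W.Q ⋙ G ≅ L := Localization.fac L hinv W.Q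
  have hG : ∀ {X Y : C} (u : X ⟶ Y),
      G.map (W.Q.map u) = e.hom.app X ≫ L.map u ≫ e.inv.app Y := by
    intro X Y u
    have := e.hom.naturality u
    dsimp at this
    rw [← Category.assoc, ← this, Category.assoc, Iso.hom_inv_id_app]
    exact (Category.comp_id _).symm
  haveI : G.Faithful := by
    refine Functor.faithful_of_comp_of_hasLeftCalculusOfFractions W.Q W G ?_
    intro X Y f g hfg
    have h1 : L.map f = L.map g := by
      rw [hG, hG] at hfg
      exact (cancel_mono (e.inv.app Y)).mp ((cancel_epi (e.hom.app X)).mp hfg)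
    obtain ⟨X', s, hs, hsfg⟩ := hfaith X Y f g h1
    haveI : IsIso (W.Q.map s) := Localization.inverts W.Q W s hs
    rw [← cancel_epi (W.Q.map s), ← Functor.map_comp, ← Functor.map_comp, hsfg]
  haveI : W.Q.EssSurj := Localization.essSurj W.Q W
  haveI : G.Full := by
    refine Functor.full_of_comp_essSurj G W.Q ?_
    intro X Y φ
    obtain ⟨X', s, f, hs, hf⟩ := hfull X Y (e.inv.app X ≫ φ ≫ e.hom.app Y)
    haveI : IsIso (W.Q.map s) := Localization.inverts W.Q W s hs
    refine ⟨inv (W.Q.map s) ≫ W.Q.map f, ?_⟩
    rw [G.map_comp, Functor.map_inv, IsIso.inv_comp_eq, hG, hG, hf]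
    simp
  haveI : G.EssSurj :=
    ⟨fun Y => ⟨W.Q.obj (L.objPreimage Y), ⟨e.app _ ≪≫ L.objObjPreimageIso Y⟩⟩⟩
  haveI : G.IsEquivalence := { }
  exact Functor.IsLocalization.of_equivalence_target W.Q W L G.asEquivalence e

section Abelian

open CategoryTheory.Limits

variable {C : Type u} [Category.{v} C] [Abelian C] {D : Type u'} [Category.{v'} D] [Abelian D]

/-- the Serre class of objects killed by an exact functor -/
abbrev kerClass (F : C ⥤ D) : ObjectProperty C := ObjectProperty.inverseImage (IsZero (C := D)) F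

lemma isoModSerre_kerClass_iff (F : C ⥤ D) [PreservesFiniteLimits F] [PreservesFiniteColimits F]
    {X Y : C} (f : X ⟶ Y) :
    (kerClass F).isoModSerre f ↔ IsIso (F.map f) := by
  haveI : F.PreservesZeroMorphisms := inferInstance
  rw [ObjectProperty.isoModSerre_iff, ObjectProperty.monoModSerre_iff,
    ObjectProperty.epiModSerre_iff]
  change IsZero (F.obj (kernel f)) ∧ IsZero (F.obj (cokernel f)) ↔ _
  have e1 : F.obj (kernel f) ≅ kernel (F.map f) := PreservesKernel.iso F f
  have e2 : F.obj (cokernel f) ≅ cokernel (F.map f) := PreservesCokernel.iso F f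
  constructor
  · rintro ⟨h1, h2⟩
    haveI : Mono (F.map f) := Preadditive.mono_of_isZero_kernel _ (h1.of_iso e1.symm)
    haveI : Epi (F.map f) := Preadditive.epi_of_isZero_cokernel _ (h2.of_iso e2.symm)
    exact isIso_of_mono_of_epi _
  · intro h
    exact ⟨(isZero_kernel_of_mono (F.map f)).of_iso e1, (isZero_cokernel_of_epi (F.map f)).of_iso e2⟩

/-- An exact, essentially surjective functor `F` between abelian categories such that every morphism
`F X ⟶ F Y` is a fraction `(F s)⁻¹ ≫ F f` is a localization functor for the class of morphisms it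
inverts (it identifies `D` with the Serre quotient of `C` by the kernel of `F`). -/
theorem isLocalization_of_exact (F : C ⥤ D) [PreservesFiniteLimits F] [PreservesFiniteColimits F]
    [F.EssSurj]
    (hfull : ∀ (X Y : C) (φ : F.obj X ⟶ F.obj Y),
      ∃ (X' : C) (s : X' ⟶ X) (f : X' ⟶ Y), IsIso (F.map s) ∧ F.map f = F.map s ≫ φ) :
    F.IsLocalization (kerClass F).isoModSerre := by
  haveI : F.Additive := Functor.additive_of_preserves_binary_products F
  refine isLocalization_of_fractions F _ ?_ ?_ ?_
  · intro X Y f hf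
    exact (isoModSerre_kerClass_iff F f).mp hf
  · intro X Y φ
    obtain ⟨X', s, f, hs, hf⟩ := hfull X Y φ
    exact ⟨X', s, f, (isoModSerre_kerClass_iff F s).mpr hs, hf⟩
  · intro X Y f g hfg
    refine ⟨kernel (f - g), kernel.ι (f - g), (isoModSerre_kerClass_iff F _).mpr ?_, ?_⟩
    · have h0 : F.map (f - g) = 0 := by rw [F.map_sub, hfg, sub_self]
      have h1 : ∀ {A B : D} (u : A ⟶ B), u = 0 → IsIso (kernel.ι u) := by
        rintro A B _ rfl
        infer_instance
      haveI := h1 _ h0
      have h2 : F.map (kernel.ι (f - g)) =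
          (PreservesKernel.iso F (f - g)).hom ≫ kernel.ι (F.map (f - g)) := by
        rw [PreservesKernel.iso_hom, kernelComparison_comp_ι]
      rw [h2]
      infer_instance
    · rw [← sub_eq_zero, ← Preadditive.comp_sub, kernel.condition]

end Abelian

end Groth.Agent.Lib.H90LocCrit
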