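import Groth.Agent.Lib.H90OXModFP
import Groth.Agent.Lib.H90OXModPushFinite
import Mathlib.AlgebraicGeometry.Morphisms.FinitePresentation
import Mathlib.RingTheory.Finiteness.ModuleFinitePresentation

set_option autoImplicit false
universe u

open CategoryTheory CategoryTheory.Limits AlgebraicGeometry TopologicalSpace Opposite
open AlgebraicGeometry.Scheme AlgebraicGeometry.Scheme.Modules

namespace Groth.Agent.Lib.H90OXModPushFP

open Groth.Agent.Lib.H90OXModPush Groth.Agent.Lib.H90OXModAffine Groth.Agent.Lib.H90OXModFP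

/-- If `B` is a finite `A`-algebra and `M` is a `B`-module which is finitely presented over `A`,
then `M` is finitely presented over `B`. -/
theorem finitePresentation_of_finite_of_restrictScalars (A B M : Type*) [CommRing A] [CommRing B]
    [Algebra A B] [Module.Finite A B] [AddCommGroup M] [Module A M] [Module B M]
    [IsScalarTower A B M] [Module.FinitePresentation A M] : Module.FinitePresentation B M := by
  have : Module.Finite B M := Module.Finite.of_restrictScalars_finite A B M
  obtain ⟨a, l, hl⟩ := Module.Finite.exists_fin' B M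
  have hker : (LinearMap.ker (l.restrictScalars A)).FG :=
    Module.FinitePresentation.fg_ker (l.restrictScalars A) hl
  have hker' : (LinearMap.ker l).FG := by
    apply Submodule.FG.of_restrictScalars A
    rwa [LinearMap.ker_restrictScalars] at hker
  exact Module.finitePresentation_of_surjective l hl hker'

variable {X S : Scheme.{u}}

set_option backward.isDefEq.respectTransparency false in
theorem finitePresentation_sections_pushforward (f : X ⟶ S) (F : X.Modules) (V : S.Opens)
    (h1 : (f.app V).hom.Finite) (h1' : (f.app V).hom.FinitePresentation)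
    (h2 : Module.FinitePresentation Γ(X, f ⁻¹ᵁ V) Γ(F, f ⁻¹ᵁ V)) :
    Module.FinitePresentation Γ(S, V) Γ((Scheme.Modules.pushforward f).obj F, V) := by
  let _ := (f.app V).hom.toAlgebra
  let _ : Module Γ(S, V) Γ(F, f ⁻¹ᵁ V) := Module.compHom _ (f.app V).hom
  haveI : IsScalarTower Γ(S, V) Γ(X, f ⁻¹ᵁ V) Γ(F, f ⁻¹ᵁ V) := .of_algebraMap_smul fun _ _ => rfl
  haveI : Module.Finite Γ(S, V) Γ(X, f ⁻¹ᵁ V) := h1
  haveI : Algebra.FinitePresentation Γ(S, V) Γ(X, f ⁻¹ᵁ V) := h1'
  haveI : Module.FinitePresentation Γ(S, V) Γ(X, f ⁻¹ᵁ V) :=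
    Module.FinitePresentation.of_finite_of_finitePresentation _ _
  exact Module.FinitePresentation.trans Γ(S, V) Γ(F, f ⁻¹ᵁ V) Γ(X, f ⁻¹ᵁ V)

set_option backward.isDefEq.respectTransparency false in
theorem finitePresentation_sections_of_pushforward (f : X ⟶ S) (F : X.Modules) (V : S.Opens)
    (h1 : (f.app V).hom.Finite)
    (h2 : Module.FinitePresentation Γ(S, V) Γ((Scheme.Modules.pushforward f).obj F, V)) :
    Module.FinitePresentation Γ(X, f ⁻¹ᵁ V) Γ(F, f ⁻¹ᵁ V) := by
  let _ := (f.app V).hom.toAlgebra
  let _ : Module Γ(S, V) Γ(F, f ⁻¹ᵁ V) := Module.compHom _ (f.app V).hom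
  haveI : IsScalarTower Γ(S, V) Γ(X, f ⁻¹ᵁ V) Γ(F, f ⁻¹ᵁ V) := .of_algebraMap_smul fun _ _ => rfl
  haveI : Module.Finite Γ(S, V) Γ(X, f ⁻¹ᵁ V) := h1
  haveI : Module.FinitePresentation Γ(S, V) Γ(F, f ⁻¹ᵁ V) := h2
  exact finitePresentation_of_finite_of_restrictScalars Γ(S, V) Γ(X, f ⁻¹ᵁ V) Γ(F, f ⁻¹ᵁ V)

set_option backward.isDefEq.respectTransparency false in
/-- For `f` finite and locally of finite presentation and `F` quasi-coherent: `F` is finitely
presented iff `f_*F` is. -/
theorem isFP_pushforward_iff (f : X ⟶ S) [IsFinite f] [LocallyOfFinitePresentation f]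
    (F : X.Modules) [F.IsQuasicoherent] :
    CohB1.IsFP F ↔ CohB1.IsFP ((Scheme.Modules.pushforward f).obj F) := by
  haveI := isQuasicoherent_pushforward f F
  constructor
  · intro h
    haveI : SheafOfModules.IsFinitePresentation (R := X.ringCatSheaf) F := h
    refine isFinitePresentation_of_forall_affine _ fun V => ?_
    have hU : IsAffineOpen (f ⁻¹ᵁ V.1) := V.2.preimage f
    refine finitePresentation_sections_pushforward f F V.1 (IsFinite.finite_app (f := f) V.1 V.2)
      ?_ (finitePresentation_sections F hU)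
    have := LocallyOfFinitePresentation.finitePresentation_appLE f V.2 hU le_rfl
    rwa [Scheme.Hom.appLE_eq_app] at this
  · intro h
    haveI : SheafOfModules.IsFinitePresentation (R := S.ringCatSheaf)
      ((Scheme.Modules.pushforward f).obj F) := h
    refine isFinitePresentation_of_affine_cover F (fun V : S.affineOpens => f ⁻¹ᵁ V.1) ?_
      (fun V => V.2.preimage f) fun V => ?_
    · rw [← Scheme.Hom.preimage_iSup, AlgebraicGeometry.iSup_affineOpens_eq_top]
      rfl
    · exact finitePresentation_sections_of_pushforward f F V.1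
        (IsFinite.finite_app (f := f) V.1 V.2) (finitePresentation_sections _ V.2)

end Groth.Agent.Lib.H90OXModPushFP
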