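import Groth.Agent.Lib.H90OXModPushFinite
import Groth.Agent.Lib.H90OXModQcqs
import Groth.Agent.Lib.CohFinite

/-!
# Pushforward of a coherent module along an open immersion, support closed in the ambient scheme
(helper90)
-/

set_option autoImplicit false
universe u

open CategoryTheory CategoryTheory.Limits AlgebraicGeometry TopologicalSpace Opposite
open AlgebraicGeometry.Scheme AlgebraicGeometry.Scheme.Modules

namespace Groth.Agent.Lib.H90OXModPushOpen

open Groth.Agent.Lib.QCohStalk Groth.Agent.Lib.AssPush Groth.Agent.Lib.H90OXModQcqs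
  Groth.Agent.Lib.H90OXModPush Groth.Agent.Lib.H90OXModAffineFT

variable {X : Scheme.{u}}

/-- Sections over an open on which all stalks vanish are unique. -/
theorem subsingleton_sections_of_stalks (F : X.Modules) (W : X.Opens)
    (h : ∀ y ∈ W, Subsingleton ↑(F.presheaf.stalk y)) : Subsingleton Γ(F, W) :=
  ⟨fun s t => TopCat.Presheaf.section_ext ⟨F.presheaf, F.isSheaf⟩ W s t
    (fun y hy => (h y hy).elim _ _)⟩

/-- A module all of whose sections over opens of `V` vanish is localizing on `V`. -/
theorem isLocalizingOn_of_subsingleton (G : X.Modules) (V : X.Opens)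
    (h : ∀ V' : X.Opens, V' ≤ V → Subsingleton Γ(G, V')) : IsLocalizingOn G V := by
  constructor
  · intro f t
    haveI := h (X.basicOpen f) (X.basicOpen_le f)
    exact ⟨0, 0, Subsingleton.elim _ _⟩
  · intro f s _
    haveI := h V le_rfl
    exact ⟨0, Subsingleton.elim _ _⟩

set_option backward.isDefEq.respectTransparency false in
/-- Let `U ⊆ X` be open, `T ⊆ U` closed in `X` and `F` a coherent module on `U` with support in `T`.
Then `j_* F` is coherent on `X`. -/
theorem isCoh_pushforward_ι_of_support (U : X.Opens) (T : Set X)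
    (hT : IsClosed T) (hTU : T ⊆ (U : Set X)) (F : (↑U : Scheme.{u}).Modules) (hF : Coh.IsCoh F)
    (hs : ∀ x : ↥U, ¬ Subsingleton ↑(F.presheaf.stalk x) → (x : X) ∈ T) :
    Coh.IsCoh ((Scheme.Modules.pushforward U.ι).obj F) := by
  haveI : F.IsQuasicoherent := hF.1
  let Tc : X.Opens := ⟨Tᶜ, hT.isOpen_compl⟩
  -- the covering family: affine opens inside `U` or inside the complement of `T`
  let ι : Type u := {V : X.affineOpens // V.1 ≤ U ∨ V.1 ≤ Tc}
  let 𝒱 : ι → X.Opens := fun V => V.1.1
  have hA : ∀ i, IsAffineOpen (𝒱 i) := fun i => i.1.2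
  have hcov : ⨆ i, 𝒱 i = ⊤ := by
    rw [eq_top_iff]
    intro x _
    by_cases hx : x ∈ T
    · obtain ⟨V, hV, hxV, hVU⟩ := Opens.isBasis_iff_nbhd.mp X.isBasis_affineOpens
        (show x ∈ U from hTU hx)
      exact Opens.mem_iSup.mpr ⟨⟨⟨V, hV⟩, Or.inl hVU⟩, hxV⟩
    · obtain ⟨V, hV, hxV, hVU⟩ := Opens.isBasis_iff_nbhd.mp X.isBasis_affineOpens
        (show x ∈ Tc from hx)
      exact Opens.mem_iSup.mpr ⟨⟨⟨V, hV⟩, Or.inr hVU⟩, hxV⟩
  -- sections over opens in the complement of `T` vanish
  have hzero : ∀ V' : X.Opens, V' ≤ Tc →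
      Subsingleton Γ((Scheme.Modules.pushforward U.ι).obj F, V') := by
    intro V' hV'
    apply subsingleton_sections_of_stalks F (U.ι ⁻¹ᵁ V')
    intro y hy
    by_contra hne
    exact hV' hy (hs y hne)
  have hloc : ∀ i, IsLocalizingOn ((Scheme.Modules.pushforward U.ι).obj F) (𝒱 i) := by
    rintro ⟨V, hV | hV⟩
    · apply isLocalizingOn_pushforward'
      apply isLocalizingOn_of_isQuasicoherent
      exact V.2.preimage_of_isOpenImmersion U.ι (by rw [Scheme.Opens.opensRange_ι]; exact hV)
    · exact isLocalizingOn_of_subsingleton _ _ fun V' hV' => hzero V' (hV'.trans hV)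
  haveI : ((Scheme.Modules.pushforward U.ι).obj F).IsQuasicoherent :=
    isQuasicoherent_of_isLocalizingOn_cover _ 𝒱 hcov hA hloc
  refine isCoh_of_affine_cover _ 𝒱 hcov hA ?_
  rintro ⟨V, hV | hV⟩
  · have hle : V.1 ≤ U.ι.opensRange := by rw [Scheme.Opens.opensRange_ι]; exact hV
    haveI : IsIso (U.ι.app V.1) := U.ι.isIso_app V.1 hle
    refine Groth.Agent.Lib.H90OXModPushFinite.finite_sections_pushforward U.ι F V.1 ?_ ?_
    · apply RingHom.Finite.of_surjective
      exact (ConcreteCategory.bijective_of_isIso (U.ι.app V.1)).2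
    · exact Groth.Agent.Lib.CohFinite.finite_sections_of_isCoh F hF
        (V.2.preimage_of_isOpenImmersion U.ι hle)
  · haveI := hzero V.1 hV
    exact Module.Finite.of_finite

end Groth.Agent.Lib.H90OXModPushOpen
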