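import Groth.Agent.Lib.H90OXModFP

set_option autoImplicit false
universe u

open CategoryTheory CategoryTheory.Limits AlgebraicGeometry TopologicalSpace Opposite
open AlgebraicGeometry.Scheme AlgebraicGeometry.Scheme.Modules

namespace Groth.Agent.Lib.H90OXModTilde

open Groth.Agent.Lib.H90OXModAffine Groth.Agent.Lib.H90OXModFP Groth.Agent.Lib.H90OXModAffineFT

section General

variable {X : Scheme.{u}}

set_option backward.isDefEq.respectTransparency false in
/-- A module with a global finite presentation is finitely presented. -/
theorem isFinitePresentation_of_presentation (M : X.Modules) (P : M.Presentation) [P.IsFinite] :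
    SheafOfModules.IsFinitePresentation (R := X.ringCatSheaf) M := by
  have h : P.quasicoherentData.IsFinitePresentation := by
    constructor
    intro x
    exact { isFiniteType_generators := ⟨inferInstanceAs (Finite P.generators.I)⟩
            isFiniteType_relations := ⟨inferInstanceAs (Finite P.relations.I)⟩ }
  constructor
  exact ⟨P.quasicoherentData, h⟩

set_option backward.isDefEq.respectTransparency false in
/-- A module with finitely many global generating sections is of finite type. -/
theorem isFiniteType_of_generatingSections (M : X.Modules) (G : M.GeneratingSections)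
    [G.IsFiniteType] : SheafOfModules.IsFiniteType (R := X.ringCatSheaf) M := by
  have h : G.localGeneratorsData.IsFiniteType := by
    constructor
    intro x
    exact ⟨inferInstanceAs (Finite G.I)⟩
  constructor
  exact ⟨G.localGeneratorsData, h⟩

end General

variable {R : CommRingCat.{u}}

theorem bijective_algebraMap_ΓSpec :
    Function.Bijective (algebraMap R Γ(Spec R, (⊤ : (Spec R).Opens))) := by
  rw [IsAffineOpen.algebraMap_Spec_obj]
  have : IsIso ((Scheme.ΓSpecIso R).inv ≫ (Spec R).presheaf.map (homOfLE (le_top : (⊤ : (Spec R).Opens) ≤ ⊤)).op) := by
    have : (Spec R).presheaf.map (homOfLE (le_top : (⊤ : (Spec R).Opens) ≤ ⊤)).op = 𝟙 _ :=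
      (Spec R).presheaf.map_id _
    rw [this]; infer_instance
  exact ConcreteCategory.bijective_of_isIso _

set_option backward.isDefEq.respectTransparency false in
/-- Global sections: finite over `Γ(Spec R, ⊤)` implies finite over `R`. -/
theorem finite_ΓSpec_of_finite (N : (Spec R).Modules)
    (h : Module.Finite Γ(Spec R, (⊤ : (Spec R).Opens)) Γ(N, (⊤ : (Spec R).Opens))) :
    Module.Finite R (ΓSpec N) := by
  haveI : Module.Finite R Γ(Spec R, (⊤ : (Spec R).Opens)) :=
    Module.Finite.of_surjective (Algebra.linearMap R _) bijective_algebraMap_ΓSpec.surjective
  exact Module.Finite.trans Γ(Spec R, (⊤ : (Spec R).Opens)) Γ(N, (⊤ : (Spec R).Opens))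

set_option backward.isDefEq.respectTransparency false in
/-- Global sections: finitely presented over `Γ(Spec R, ⊤)` implies finitely presented over `R`. -/
theorem finitePresentation_ΓSpec_of_finitePresentation (N : (Spec R).Modules)
    (h : Module.FinitePresentation Γ(Spec R, (⊤ : (Spec R).Opens)) Γ(N, (⊤ : (Spec R).Opens))) :
    Module.FinitePresentation R (ΓSpec N) := by
  haveI : Module.FinitePresentation R Γ(Spec R, (⊤ : (Spec R).Opens)) :=
    Module.FinitePresentation.of_equiv
      (LinearEquiv.ofBijective (Algebra.linearMap R _) bijective_algebraMap_ΓSpec)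
  exact Module.FinitePresentation.trans R Γ(N, (⊤ : (Spec R).Opens))
    Γ(Spec R, (⊤ : (Spec R).Opens))

set_option backward.isDefEq.respectTransparency false in
/-- `tilde M` is of finite type iff `M` is a finite module. -/
theorem isFT_tilde_iff (M : ModuleCat.{u} R) : CohB1.IsFT (tilde M) ↔ Module.Finite R M := by
  constructor
  · intro h
    haveI : (tilde M).IsFiniteType := h
    have h1 := Groth.Agent.Lib.CohFinite.finite_sections_of_isAffineOpen (tilde M)
      (isAffineOpen_top (Spec R))
    haveI := finite_ΓSpec_of_finite (tilde M) h1
    exact Module.Finite.equiv (tilde.isoTop M).toLinearEquiv.symm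
  · intro h
    haveI : Module.Finite R (ΓSpec (tilde M)) := Module.Finite.equiv (tilde.isoTop M).toLinearEquiv
    obtain ⟨G, hG⟩ := exists_generatingSections_of_finite (tilde M) inferInstance
    exact isFiniteType_of_generatingSections (tilde M) G

set_option backward.isDefEq.respectTransparency false in
/-- `tilde M` is finitely presented iff `M` is a finitely presented module. -/
theorem isFP_tilde_iff (M : ModuleCat.{u} R) :
    CohB1.IsFP (tilde M) ↔ Module.FinitePresentation R M := by
  constructor
  · intro h
    haveI : SheafOfModules.IsFinitePresentation (R := (Spec R).ringCatSheaf) (tilde M) := h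
    have h1 := finitePresentation_sections (tilde M) (isAffineOpen_top (Spec R))
    haveI := finitePresentation_ΓSpec_of_finitePresentation (tilde M) h1
    exact Module.FinitePresentation.of_equiv (tilde.isoTop M).toLinearEquiv.symm
  · intro h
    haveI : Module.FinitePresentation R (ΓSpec (tilde M)) :=
      Module.FinitePresentation.of_equiv (tilde.isoTop M).toLinearEquiv
    obtain ⟨P, hP⟩ := exists_presentation_of_finitePresentation (tilde M) inferInstance
    exact isFinitePresentation_of_presentation (tilde M) P

end Groth.Agent.Lib.H90OXModTilde
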