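import Groth.Agent.Lib.H90OXModExt
import Mathlib.Algebra.Category.ModuleCat.Presheaf.Submodule

/-!
# Elementary sub-`O_X`-modules of an `O_X`-module (helper90)

`SubSh F`: a family of submodules `T(V) ⊆ Γ(F, V)`, stable under restriction and local.  We construct
the associated object `T.toModules : X.Modules` with its monomorphism `T.ι : T.toModules ⟶ F`, and
conversely `SubSh.ofMono i` for a monomorphism `i : G ⟶ F`.
-/

set_option autoImplicit false
universe u

open CategoryTheory CategoryTheory.Limits AlgebraicGeometry TopologicalSpace Opposite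
open AlgebraicGeometry.Scheme AlgebraicGeometry.Scheme.Modules

namespace Groth.Agent.Lib.H90SubSh

open Groth.Agent.Lib.QCohStalk Groth.Agent.Lib.AssPush Groth.Agent.Lib.H90OXModQcqs
  Groth.Agent.Lib.H90OXModSections Groth.Agent.Lib.H90OXModExt

variable {X : Scheme.{u}}

/-- An elementary sub-`O_X`-module of `F`. -/
structure SubSh (F : X.Modules) where
  /-- the submodule of sections over `V` -/
  obj : ∀ V : X.Opens, Submodule Γ(X, V) Γ(F, V)
  res_mem : ∀ {V' V : X.Opens} (h : V' ≤ V) {s : Γ(F, V)}, s ∈ obj V → res F h s ∈ obj V'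
  mem_of_local : ∀ (V : X.Opens) (s : Γ(F, V)),
    (∀ x ∈ V, ∃ (V' : X.Opens) (h : V' ≤ V), x ∈ V' ∧ res F h s ∈ obj V') → s ∈ obj V

namespace SubSh

variable {F : X.Modules}

@[ext]
theorem ext {T₁ T₂ : SubSh F} (h : ∀ V, T₁.obj V = T₂.obj V) : T₁ = T₂ := by
  cases T₁; cases T₂; congr 1; funext V; exact h V

theorem mem_iff_of_eq (T : SubSh F) {V' V : X.Opens} (h : V' = V) (s : Γ(F, V)) :
    s ∈ T.obj V ↔ res F h.le s ∈ T.obj V' := by
  subst h
  rw [res_self]

theorem mem_of_cover (T : SubSh F) {ι : Type*} (V : X.Opens) (W : ι → X.Opens) (hW : ∀ i, W i ≤ V)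
    (hcov : V ≤ ⨆ i, W i) (s : Γ(F, V)) (h : ∀ i, res F (hW i) s ∈ T.obj (W i)) : s ∈ T.obj V := by
  apply T.mem_of_local
  intro x hx
  obtain ⟨i, hi⟩ := Opens.mem_iSup.mp (hcov hx)
  exact ⟨W i, hW i, hi, h i⟩

/-- The `W`-saturation of `T`: sections whose restriction to `W` lies in `T`. -/
noncomputable def sat (T : SubSh F) (W : X.Opens) : SubSh F where
  obj V :=
    { carrier := {s | res F (inf_le_left : V ⊓ W ≤ V) s ∈ T.obj (V ⊓ W)}
      add_mem' := fun {a b} ha hb => by
        change res F (inf_le_left : V ⊓ W ≤ V) (a + b) ∈ T.obj (V ⊓ W)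
        rw [Groth.Agent.Lib.AffVanSections.res_add]
        exact (T.obj _).add_mem ha hb
      zero_mem' := by
        change res F (inf_le_left : V ⊓ W ≤ V) 0 ∈ T.obj (V ⊓ W)
        rw [res_zero]
        exact (T.obj _).zero_mem
      smul_mem' := fun c {a} ha => by
        change res F (inf_le_left : V ⊓ W ≤ V) (c • a) ∈ T.obj (V ⊓ W)
        rw [res_smul]
        exact (T.obj _).smul_mem _ ha }
  res_mem := fun {V' V} h {s} hs => by
    change res F (inf_le_left : V' ⊓ W ≤ V') (res F h s) ∈ T.obj (V' ⊓ W)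
    rw [res_res]
    have h1 : V' ⊓ W ≤ V ⊓ W := inf_le_inf_right W h
    have := T.res_mem h1 hs
    rwa [res_res] at this
  mem_of_local := fun V s hs => by
    change res F (inf_le_left : V ⊓ W ≤ V) s ∈ T.obj (V ⊓ W)
    apply T.mem_of_local
    rintro x ⟨hxV, hxW⟩
    obtain ⟨V', hV', hxV', hs'⟩ := hs x hxV
    refine ⟨V' ⊓ W, inf_le_inf_right W hV', ⟨hxV', hxW⟩, ?_⟩
    rw [res_res]
    have : res F (inf_le_left : V' ⊓ W ≤ V') (res F hV' s) ∈ T.obj (V' ⊓ W) := hs'
    rwa [res_res] at this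

theorem mem_sat_iff (T : SubSh F) (W V : X.Opens) (s : Γ(F, V)) :
    s ∈ (T.sat W).obj V ↔ res F (inf_le_left : V ⊓ W ≤ V) s ∈ T.obj (V ⊓ W) := Iff.rfl

theorem le_sat (T : SubSh F) (W V : X.Opens) : T.obj V ≤ (T.sat W).obj V :=
  fun _ hs => T.res_mem _ hs

theorem sat_obj_of_le (T : SubSh F) {W V : X.Opens} (h : V ≤ W) : (T.sat W).obj V = T.obj V := by
  ext s
  rw [mem_sat_iff]
  exact (T.mem_iff_of_eq (inf_eq_left.mpr h) s).symm

/-- Intersection of two sub-modules. -/
noncomputable def inf (T₁ T₂ : SubSh F) : SubSh F where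
  obj V := T₁.obj V ⊓ T₂.obj V
  res_mem := fun h _ hs => ⟨T₁.res_mem h hs.1, T₂.res_mem h hs.2⟩
  mem_of_local := fun V s hs => by
    refine ⟨T₁.mem_of_local V s fun x hx => ?_, T₂.mem_of_local V s fun x hx => ?_⟩
    · obtain ⟨V', h, hx', hs'⟩ := hs x hx
      exact ⟨V', h, hx', hs'.1⟩
    · obtain ⟨V', h, hx', hs'⟩ := hs x hx
      exact ⟨V', h, hx', hs'.2⟩

/-- Intersection of a family of sub-modules. -/
noncomputable def iInf {ι : Type*} (T : ι → SubSh F) : SubSh F where
  obj V := ⨅ i, (T i).obj V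
  res_mem := fun h _ hs => by
    rw [Submodule.mem_iInf] at hs ⊢
    exact fun i => (T i).res_mem h (hs i)
  mem_of_local := fun V s hs => by
    rw [Submodule.mem_iInf]
    intro i
    refine (T i).mem_of_local V s fun x hx => ?_
    obtain ⟨V', h, hx', hs'⟩ := hs x hx
    exact ⟨V', h, hx', (Submodule.mem_iInf _).mp hs' i⟩

/-- The sub-module of `F` given by the image of a monomorphism. -/
noncomputable def ofMono {G : X.Modules} (i : G ⟶ F) [Mono i] : SubSh F where
  obj V := LinearMap.range (appLin i V)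
  res_mem := fun {V' V} h {s} hs => by
    obtain ⟨g, rfl⟩ := hs
    exact ⟨res G h g, appLin_res i h g⟩
  mem_of_local := fun V s hs => by
    choose W hW hxW g hg using hs
    obtain ⟨t, ht⟩ := exists_glue G V (fun x : V => W x.1 x.2) (fun x => hW x.1 x.2)
      (fun x hx => Opens.mem_iSup.mpr ⟨⟨x, hx⟩, hxW x hx⟩) (fun x => g x.1 x.2) (by
        intro x y
        apply injective_appLin_of_mono i
        rw [appLin_res, appLin_res, hg, hg, res_res, res_res])
    refine ⟨t, ?_⟩
    refine res_ext F V (fun x : V => W x.1 x.2) (fun x => hW x.1 x.2)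
      (fun x hx => Opens.mem_iSup.mpr ⟨⟨x, hx⟩, hxW x hx⟩) _ _ fun x => ?_
    rw [← appLin_res, ht, hg]

theorem mem_ofMono_iff {G : X.Modules} (i : G ⟶ F) [Mono i] (V : X.Opens) (s : Γ(F, V)) :
    s ∈ (ofMono i).obj V ↔ ∃ g : Γ(G, V), i.app V g = s := Iff.rfl

/-- The family of submodules as a `PresheafOfModules.Submodule`. -/
noncomputable def toSubmodule (T : SubSh F) : PresheafOfModules.Submodule F.val where
  obj V := T.obj V.unop
  map {V V'} f := fun s hs => T.res_mem (leOfHom f.unop) hs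

set_option backward.isDefEq.respectTransparency false in
theorem isSheaf_toSubmodule (T : SubSh F) :
    TopCat.Presheaf.IsSheaf (X := X.toTopCat) T.toSubmodule.toPresheafOfModules.presheaf := by
  rw [TopCat.Presheaf.isSheaf_iff_isSheafUniqueGluing]
  intro ι U sf hsf
  -- glue in `F`
  have hF : TopCat.Presheaf.IsSheaf (X := X.toTopCat) F.presheaf := F.isSheaf
  let sf' : ∀ i, ToType (F.presheaf.obj (op (U i))) := fun i => (sf i).1
  have hsf' : TopCat.Presheaf.IsCompatible F.presheaf U sf' := by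
    intro i j
    exact congrArg Subtype.val (hsf i j)
  obtain ⟨s, hs, hs'⟩ := hF.isSheafUniqueGluing U sf' hsf'
  have hmem : s ∈ T.obj (iSup U) := by
    apply T.mem_of_cover (iSup U) U (fun i => le_iSup U i) le_rfl
    intro i
    have := hs i
    change res F _ s = _ at this
    rw [this]
    exact (sf i).2
  refine ⟨⟨s, hmem⟩, ?_, ?_⟩
  · intro i
    apply Subtype.ext
    exact hs i
  · intro t ht
    apply Subtype.ext
    apply hs'
    intro i
    exact congrArg Subtype.val (ht i)

/-- The `O_X`-module associated to an elementary sub-module. -/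
noncomputable def toModules (T : SubSh F) : X.Modules :=
  ⟨T.toSubmodule.toPresheafOfModules, T.isSheaf_toSubmodule⟩

/-- The inclusion of the associated module. -/
noncomputable def ι (T : SubSh F) : T.toModules ⟶ F := ⟨T.toSubmodule.ι⟩

instance (T : SubSh F) : Mono T.ι := by
  have h : Mono ((SheafOfModules.forget _).map T.ι) :=
    inferInstanceAs (Mono T.toSubmodule.ι)
  exact (SheafOfModules.forget _).mono_of_mono_map h

theorem ι_app_apply (T : SubSh F) (V : X.Opens) (g : Γ(T.toModules, V)) :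
    T.ι.app V g = (show ↥(T.obj V) from g).1 := rfl

theorem mem_range_ι (T : SubSh F) (V : X.Opens) (s : Γ(F, V)) :
    (∃ g : Γ(T.toModules, V), T.ι.app V g = s) ↔ s ∈ T.obj V := by
  constructor
  · rintro ⟨g, rfl⟩
    exact (show ↥(T.obj V) from g).2
  · intro hs
    exact ⟨(show Γ(T.toModules, V) from (⟨s, hs⟩ : ↥(T.obj V))), rfl⟩

theorem ofMono_ι (T : SubSh F) : ofMono T.ι = T := by
  ext V s
  rw [mem_ofMono_iff]
  exact T.mem_range_ι V s

/-- `T` is localizing on `V`: sections of `T` over `D(f)` are fractions of sections over `V`. -/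
def IsQCohOn (T : SubSh F) (V : X.Opens) : Prop :=
  ∀ (f : Γ(X, V)) (t : Γ(F, X.basicOpen f)), t ∈ T.obj (X.basicOpen f) →
    ∃ (n : ℕ) (s : Γ(F, V)), s ∈ T.obj V ∧
      resO X (X.basicOpen_le f) f ^ n • t = res F (X.basicOpen_le f) s

set_option backward.isDefEq.respectTransparency false in
theorem isLocalizingOn_toModules (T : SubSh F) [F.IsQuasicoherent] {V : X.Opens}
    (hV : IsAffineOpen V) (h : T.IsQCohOn V) : IsLocalizingOn T.toModules V := by
  constructor
  · intro f t'
    obtain ⟨n, s, hs, hn⟩ := h f (appLin T.ι _ t') ((T.mem_range_ι _ _).mp ⟨t', rfl⟩)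
    obtain ⟨s', rfl⟩ := (T.mem_range_ι _ _).mpr hs
    refine ⟨n, s', ?_⟩
    apply injective_appLin_of_mono T.ι
    rw [_root_.map_smul, appLin_res]
    exact hn
  · intro f s' hs'
    have h1 : res F (X.basicOpen_le f) (appLin T.ι V s') = 0 := by
      rw [← appLin_res, hs', map_zero]
    obtain ⟨n, hn⟩ := exists_pow_smul_eq_zero F hV f _ h1
    refine ⟨n, ?_⟩
    apply injective_appLin_of_mono T.ι
    rw [_root_.map_smul, hn, map_zero]

set_option backward.isDefEq.respectTransparency false in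
theorem isQCohOn_ofMono {G : X.Modules} (i : G ⟶ F) [Mono i] [G.IsQuasicoherent] {V : X.Opens}
    (hV : IsAffineOpen V) : (ofMono i).IsQCohOn V := by
  rintro f t ⟨g, rfl⟩
  obtain ⟨n, s, hs⟩ := exists_pow_smul_eq_res G hV f g
  refine ⟨n, appLin i V s, ⟨s, rfl⟩, ?_⟩
  rw [← appLin_res, ← hs, _root_.map_smul]

theorem fg_ofMono {G : X.Modules} (i : G ⟶ F) [Mono i] (V : X.Opens)
    (h : Module.Finite Γ(X, V) Γ(G, V)) : ((ofMono i).obj V).FG := by
  change (LinearMap.range (appLin i V)).FG
  rw [LinearMap.range_eq_map]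
  exact Module.Finite.fg_top.map _

theorem finite_toModules (T : SubSh F) (V : X.Opens) (h : (T.obj V).FG) :
    Module.Finite Γ(X, V) Γ(T.toModules, V) := by
  have h1 : Module.Finite Γ(X, V) ↥(T.obj V) := Module.Finite.iff_fg.mpr h
  exact h1

set_option backward.isDefEq.respectTransparency false in
/-- The module associated to `T` is quasi-coherent if `T` is localizing on the members of an affine
open cover. -/
theorem isQuasicoherent_toModules (T : SubSh F) [F.IsQuasicoherent] {ι : Type u}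
    (V : ι → X.Opens) (hV : ⨆ i, V i = ⊤) (hA : ∀ i, IsAffineOpen (V i))
    (h : ∀ i, T.IsQCohOn (V i)) : T.toModules.IsQuasicoherent :=
  Groth.Agent.Lib.H90OXModPush.isQuasicoherent_of_isLocalizingOn_cover _ V hV hA
    fun i => T.isLocalizingOn_toModules (hA i) (h i)

set_option backward.isDefEq.respectTransparency false in
theorem isCoh_toModules (T : SubSh F) [F.IsQuasicoherent] {ι : Type u}
    (V : ι → X.Opens) (hV : ⨆ i, V i = ⊤) (hA : ∀ i, IsAffineOpen (V i))
    (h : ∀ i, T.IsQCohOn (V i)) (hfg : ∀ i, (T.obj (V i)).FG) : Coh.IsCoh T.toModules := by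
  haveI := T.isQuasicoherent_toModules V hV hA h
  exact Groth.Agent.Lib.H90OXModAffineFT.isCoh_of_affine_cover _ V hV hA
    fun i => T.finite_toModules (V i) (hfg i)

end SubSh

end Groth.Agent.Lib.H90SubSh
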