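import Groth.Agent.Lib.NormHartogs53d
import Groth.Prelude.Def_EGA4b

/-!
# `A^(1)` is finite for a universally catenary domain with finite normalization (EGA IV 5.11.?)
(helper53)
-/

set_option maxHeartbeats 400000
set_option linter.unusedSectionVars false
set_option linter.style.haveILetI false
universe u

namespace Groth.Agent.Lib.NormHartogs53

section hull
variable (A : Type u) [CommRing A] [IsDomain A] [IsNoetherianRing A]

/-- the subalgebra of the fraction field of the elements which are fractions with denominator
outside `p`, for all primes `p` in a given family. -/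
noncomputable def regSubalgebra (Pset : Set (Ideal A)) : Subalgebra A (FractionRing A) where
  carrier := {x | ∀ (p : Ideal A) [p.IsPrime], p ∈ Pset → ∃ s : A, s ∉ p ∧ ∃ a : A,
    algebraMap A (FractionRing A) a = algebraMap A (FractionRing A) s * x}
  mul_mem' := by
    intro x y hx hy p hp hpP
    obtain ⟨s, hs, a, ha⟩ := hx p hpP
    obtain ⟨t, ht, b, hb⟩ := hy p hpP
    refine ⟨s * t, fun h => (hp.mem_or_mem h).elim hs ht, a * b, ?_⟩
    rw [map_mul, map_mul, ha, hb]
    ring
  add_mem' := by
    intro x y hx hy p hp hpP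
    obtain ⟨s, hs, a, ha⟩ := hx p hpP
    obtain ⟨t, ht, b, hb⟩ := hy p hpP
    refine ⟨s * t, fun h => (hp.mem_or_mem h).elim hs ht, t * a + s * b, ?_⟩
    rw [map_add, map_mul, map_mul, map_mul, ha, hb]
    ring
  algebraMap_mem' := by
    intro r p hp hpP
    exact ⟨1, fun h => hp.ne_top ((Ideal.eq_top_iff_one p).2 h), r, by rw [map_one, one_mul]⟩

theorem two_le_of_ne (a : ℕ∞) (h0 : a ≠ 0) (h1 : a ≠ 1) : 2 ≤ a := by
  by_contra hlt
  rw [not_le] at hlt
  obtain ⟨m, hm⟩ := ENat.ne_top_iff_exists.1 (ne_top_of_lt hlt)
  rw [← hm] at hlt h0 h1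
  have hm2 : m < 2 := by exact_mod_cast hlt
  interval_cases m
  · exact h0 rfl
  · exact h1 rfl

variable (hA : CAlg.IsUniversallyCatenary A)
  (hint : Module.Finite A (integralClosure A (FractionRing A)))

include hA hint in
theorem finite_regSubalgebra (Pset : Set (Ideal A))
    (hPs : ∀ q : Ideal A, q.IsPrime → q ≠ ⊥ → q ∉ Pset → 2 ≤ q.height) :
    Module.Finite A (regSubalgebra A Pset) := by
  have hle : regSubalgebra A Pset ≤ integralClosure A (FractionRing A) := fun x hx =>
    isIntegral_of_forall_mem A hA hint Pset hPs x (fun q hq hqP => @hx q hq hqP)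
  haveI : Module.Finite A (integralClosure A (FractionRing A)) := hint
  haveI : IsNoetherian A (integralClosure A (FractionRing A)) :=
    isNoetherian_of_isNoetherianRing_of_finite A _
  exact Module.Finite.of_injective (Subalgebra.inclusion hle).toLinearMap
    (Subalgebra.inclusion_injective hle)

include hA hint in
theorem heightOneHullFinite : EGA4.HeightOneHullFinite A := by
  refine ⟨regSubalgebra A {q | q.height = 1}, rfl, ?_⟩
  refine finite_regSubalgebra A hA hint _ fun q hq hq0 hq1 => ?_
  haveI := hq
  exact two_le_of_ne _ (fun h => hq0 (Ideal.height_eq_zero_iff_eq_bot.1 h)) hq1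

end hull

end Groth.Agent.Lib.NormHartogs53
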