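/-
helper90: primary components along a locally finite family of points, and the
"torsion-free" coherent submodule on a locally Noetherian scheme:
`exists_torsionFree_sub_locNoeth` : for coherent `H` on a locally Noetherian `X` and `U` open there
is a coherent `E ⊆ H`, equal to `H` over `U`, no nonzero section of which vanishes on `U`.
-/
import Mathlib
import Groth.Agent.Lib.H90PrimDec3
import Groth.Agent.Lib.H90QCohLocalization
import Groth.Agent.Lib.H90DevHub2
import Groth.Agent.Lib.H90DevFilt

set_option autoImplicit false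
set_option linter.unusedSectionVars false
set_option linter.style.haveILetI false
universe u

open CategoryTheory CategoryTheory.Limits AlgebraicGeometry TopologicalSpace Opposite

namespace Groth.Agent.Lib.H90PrimDec

open Groth.Agent.Lib.H90SubSh Groth.Agent.Lib.QCohStalk Groth.Agent.Lib.AssPoints
  Groth.Agent.Lib.H90OXModSections Groth.Agent.Lib.H90OXModExact Groth.Agent.Lib.H90OXModExt
  Groth.Agent.Lib.ModStalkLin Groth.Agent.Lib.H90DevHub2

variable {X : Scheme.{u}}

/-- The sub-`O_X`-module of `M` of the sections whose germ at every point `x` with `P x` lies in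
`Q x`. -/
noncomputable def germSubFam (M : X.Modules) (P : X → Prop)
    (Q : ∀ x : X, Submodule (X.presheaf.stalk x) (M.presheaf.stalk x)) : SubSh M where
  obj V :=
    { carrier := {s | ∀ x, P x → ∀ hx : x ∈ V, M.presheaf.germ V x hx s ∈ Q x}
      add_mem' := fun {a b} ha hb x hP hx => by
        rw [map_add]
        exact (Q x).add_mem (ha x hP hx) (hb x hP hx)
      zero_mem' := fun x _ hx => by
        rw [map_zero]
        exact (Q x).zero_mem
      smul_mem' := fun c a ha x hP hx => by
        rw [germ_smul]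
        exact (Q x).smul_mem _ (ha x hP hx) }
  res_mem := fun {V' V} h {s} hs x hP hx => by
    rw [germ_res]
    exact hs x hP (h hx)
  mem_of_local := fun V s h x hP hx => by
    obtain ⟨V', hV', hxV', hs⟩ := h x hx
    have := hs x hP hxV'
    rwa [germ_res] at this

theorem mem_germSubFam_iff (M : X.Modules) (P : X → Prop)
    (Q : ∀ x : X, Submodule (X.presheaf.stalk x) (M.presheaf.stalk x)) (V : X.Opens)
    (s : Γ(M, V)) :
    s ∈ (germSubFam M P Q).obj V ↔ ∀ x, P x → ∀ hx : x ∈ V, M.presheaf.germ V x hx s ∈ Q x :=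
  Iff.rfl

set_option backward.isDefEq.respectTransparency false in
/-- `germSubFam M P Q` is localizing on an affine open containing only finitely many points of
`P`, if `m_x^(k x) M_x ⊆ Q x`. -/
theorem isQCohOn_germSubFam (M : X.Modules) [M.IsQuasicoherent] (P : X → Prop)
    (Q : ∀ x : X, Submodule (X.presheaf.stalk x) (M.presheaf.stalk x)) (k : X → ℕ)
    (hQ : ∀ x, IsLocalRing.maximalIdeal (X.presheaf.stalk x) ^ (k x) •
      (⊤ : Submodule (X.presheaf.stalk x) (M.presheaf.stalk x)) ≤ Q x)
    {V : X.Opens} (hV : IsAffineOpen V) (hfin : {x : X | x ∈ V ∧ P x}.Finite) :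
    (germSubFam M P Q).IsQCohOn V := by
  intro f t ht
  obtain ⟨n, s, hs⟩ := exists_pow_smul_eq_res M hV f t
  obtain ⟨K, hK⟩ : ∃ K : ℕ, ∀ x ∈ {x : X | x ∈ V ∧ P x}, k x ≤ K := by
    refine ⟨hfin.toFinset.sup k, fun x hx => ?_⟩
    exact Finset.le_sup (f := k) (hfin.mem_toFinset.mpr hx)
  refine ⟨K + n, f ^ K • s, fun x hP hx => ?_, ?_⟩
  · rw [germ_smul]
    by_cases hxf : x ∈ X.basicOpen f
    · apply (Q x).smul_mem
      rw [← germ_res M (X.basicOpen_le f) x hxf s, ← hs, germ_smul]
      exact (Q x).smul_mem _ (ht x hP hxf)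
    · apply hQ x
      apply Submodule.smul_mem_smul _ Submodule.mem_top
      rw [map_pow]
      apply Ideal.pow_le_pow_right (hK x ⟨hx, hP⟩)
      apply Ideal.pow_mem_pow
      rw [IsLocalRing.mem_maximalIdeal, mem_nonunits_iff]
      intro hu
      exact hxf ((X.mem_basicOpen f x hx).mpr hu)
  · rw [pow_add, mul_smul, hs, res_smul, resO_pow]

/-- the inclusion of an elementary submodule which contains all sections over the opens inside `U`
is an isomorphism over `U`. -/
theorem isIso_restrict_ι_of_obj_eq_top {M : X.Modules} (T : SubSh M) (U : X.Opens)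
    (h : ∀ V : X.Opens, V ≤ U → T.obj V = ⊤) :
    IsIso ((Scheme.Modules.restrictFunctor U.ι).map T.ι) := by
  rw [Groth.Agent.Lib.H90QCohLocalization.isIso_restrict_map_iff]
  constructor
  · intro x hx
    exfalso
    rw [mem_support_iff] at hx
    haveI := hx
    have hz : IsZero (kernel T.ι) := isZero_kernel_of_mono T.ι
    haveI := subsingleton_stalk_of_isZero hz x
    exact false_of_nontrivial_of_subsingleton ↑((kernel T.ι).presheaf.stalk x)
  · intro x hx hxU
    revert hx
    change x ∉ CohB1.support (cokernel T.ι)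
    rw [notMem_support_iff]
    have hS := stalkLin_exact (Groth.Agent.Lib.H90DevTwo.shortExact_cokernel T.ι) x
    have hsurj : Function.Surjective (stalkLin T.ι x) := by
      intro v
      obtain ⟨W, hxW, s, rfl⟩ := TopCat.Presheaf.exists_germ_eq M.presheaf v
      have hmem : res M (inf_le_left : W ⊓ U ≤ W) s ∈ T.obj (W ⊓ U) := by
        rw [h (W ⊓ U) inf_le_right]; trivial
      obtain ⟨e, he⟩ := (T.mem_range_ι _ _).mpr hmem
      have hxWU : x ∈ W ⊓ U := ⟨hxW, hxU⟩
      refine ⟨T.toModules.presheaf.germ (W ⊓ U) x hxWU e, ?_⟩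
      rw [stalkLin_germ, he]
      exact TopCat.Presheaf.germ_res_apply M.presheaf (homOfLE inf_le_left) x hxWU s
    refine ⟨fun a b => ?_⟩
    have key : ∀ w : ↑((cokernel T.ι).presheaf.stalk x), w = 0 := by
      intro w
      obtain ⟨v, rfl⟩ := hS.2.2 w
      obtain ⟨g, rfl⟩ := hsurj v
      exact (hS.2.1 _).mpr ⟨g, rfl⟩
    rw [key a, key b]

section jointly
variable [IsLocallyNoetherian X] (M : X.Modules) [M.IsQuasicoherent]

set_option backward.isDefEq.respectTransparency false in
/-- variant of `eq_zero_of_forall_mem_germSub` where the primary components are only used at the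
associated points satisfying `P`, the germs of the section at the other points being zero. -/
theorem eq_zero_of_mem_germSubFam (P : X → Prop)
    (Q : ∀ x : X, Submodule (X.presheaf.stalk x) (M.presheaf.stalk x))
    (hsoc : ∀ x, Curv2.IsAssPoint M x → ∀ n ∈ Q x,
      (∀ a ∈ IsLocalRing.maximalIdeal (X.presheaf.stalk x), a • n = 0) → n = 0)
    {V : X.Opens} (s : Γ(M, V))
    (hs : s ∈ (germSubFam M (fun x => Curv2.IsAssPoint M x ∧ P x) Q).obj V)
    (hP : ∀ x (hx : x ∈ V), ¬ P x → M.presheaf.germ V x hx s = 0) : s = 0 := by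
  refine TopCat.Presheaf.section_ext ⟨M.presheaf, M.isSheaf⟩ V s 0 fun z hz => ?_
  rw [map_zero]
  by_contra hne
  obtain ⟨_, ⟨V', hV', rfl⟩, hzV', hV'V⟩ :=
    X.isBasis_affineOpens.exists_subset_of_mem_open hz V.2
  replace hV'V : V' ≤ V := hV'V
  haveI : IsNoetherianRing Γ(X, V') := IsLocallyNoetherian.component_noetherian ⟨V', hV'⟩
  set s' : Γ(M, V') := res M hV'V s with hs'
  have hs'ne : s' ≠ 0 := by
    intro h0
    apply hne
    rw [← germ_res M hV'V z hzV' s, ← hs', h0, map_zero]
  have hmem : s' ∈ Submodule.span Γ(X, V') {s'} := Submodule.mem_span_singleton_self s'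
  have hne' : (⟨s', hmem⟩ : ↥(Submodule.span Γ(X, V') {s'})) ≠ 0 := by
    intro h0
    exact hs'ne (congrArg Subtype.val h0)
  obtain ⟨P', hP', -⟩ := exists_le_isAssociatedPrime_of_isNoetherianRing Γ(X, V')
    (⟨s', hmem⟩ : ↥(Submodule.span Γ(X, V') {s'})) hne'
  obtain ⟨hPprime, ⟨n, hnmem⟩, hn⟩ := (isAssociatedPrime_iff).mp hP'
  haveI : P'.IsPrime := hPprime
  obtain ⟨a, rfl⟩ := Submodule.mem_span_singleton.mp hnmem
  have hann : ∀ c : Γ(X, V'), c • (a • s') = 0 ↔ c ∈ P' := by
    intro c
    rw [hn, Submodule.mem_colon_singleton, Submodule.mem_bot]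
    constructor
    · intro h
      exact Subtype.ext h
    · intro h
      exact congrArg Subtype.val h
  obtain ⟨x, hxP⟩ : ∃ x : V', hV'.primeIdealOf x = ⟨P', inferInstance⟩ :=
    ⟨⟨hV'.fromSpec ⟨P', inferInstance⟩, fromSpec_mem hV' _⟩, primeIdealOf_fromSpec hV' _⟩
  have hxass : Curv2.IsAssPoint M x.1 := by
    apply Groth.Agent.Lib.ZCohBridge53.isAssPoint_of_mem_associatedPrimes M hV' x
    rw [hxP]
    refine (isAssociatedPrime_iff).mpr ⟨hPprime, a • s', ?_⟩
    ext c
    rw [Submodule.mem_colon_singleton, Submodule.mem_bot, hann]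
  have hunit : ∀ c : Γ(X, V'), IsUnit (X.presheaf.germ V' x.1 x.2 c) ↔ c ∉ P' := by
    intro c
    rw [isUnit_germ_iff hV' x c, hxP]
  have h6 : M.presheaf.germ V' x.1 x.2 (a • s') = 0 := by
    by_cases hPx : P x.1
    · have h1 : M.presheaf.germ V' x.1 x.2 (a • s') ∈ Q x.1 := by
        rw [germ_smul, hs', germ_res]
        exact (Q x.1).smul_mem _ (hs x.1 ⟨hxass, hPx⟩ (hV'V x.2))
      have h2 : ∀ b ∈ IsLocalRing.maximalIdeal (X.presheaf.stalk x.1),
          b • M.presheaf.germ V' x.1 x.2 (a • s') = 0 := by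
        intro b hb
        haveI := hV'.isLocalization_stalk x
        obtain ⟨⟨c, u⟩, hcu⟩ := IsLocalization.surj (hV'.primeIdealOf x).asIdeal.primeCompl b
        have hcu' : b * X.presheaf.germ V' x.1 x.2 u.1 = X.presheaf.germ V' x.1 x.2 c := hcu
        have hu : IsUnit (X.presheaf.germ V' x.1 x.2 u.1) := by
          rw [isUnit_germ_iff hV' x u.1]
          exact u.2
        have hcP : c ∈ P' := by
          by_contra hc
          have h3 := (hunit c).mpr hc
          rw [← hcu'] at h3
          have h4 : b * X.presheaf.germ V' x.1 x.2 u.1 ∈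
              IsLocalRing.maximalIdeal (X.presheaf.stalk x.1) := Ideal.mul_mem_right _ _ hb
          rw [IsLocalRing.mem_maximalIdeal, mem_nonunits_iff] at h4
          exact h4 h3
        have h5 : X.presheaf.germ V' x.1 x.2 c • M.presheaf.germ V' x.1 x.2 (a • s') = 0 := by
          rw [← germ_smul, (hann c).mpr hcP, map_zero]
        rw [← hcu', mul_comm, mul_smul] at h5
        exact hu.smul_eq_zero.mp h5
      exact hsoc x.1 hxass _ h1 h2
    · rw [germ_smul, hs', germ_res, hP x.1 (hV'V x.2) hPx, smul_zero]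
  obtain ⟨g, hgu, hg0⟩ := exists_smul_eq_zero_of_germ_eq_zero M hV' x.1 x.2 (a • s') h6
  exact ((hunit g).mp hgu) ((hann g).mp hg0)

end jointly

/-- **Torsion-free coherent submodule** on a locally Noetherian scheme: a coherent `E ⊆ H` which
equals `H` over `U` and has no nonzero section vanishing on `U`. -/
theorem exists_torsionFree_sub_locNoeth [IsLocallyNoetherian X] (H : X.Modules)
    (hH : Coh.IsCoh H) (U : X.Opens) :
    ∃ (E : X.Modules) (j : E ⟶ H), Mono j ∧ Coh.IsCoh E ∧
      IsIso ((Scheme.Modules.restrictFunctor U.ι).map j) ∧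
      ∀ (V : X.Opens) (s : Γ(E, V)), res E (inf_le_left : V ⊓ U ≤ V) s = 0 → s = 0 := by
  haveI : H.IsQuasicoherent := hH.1
  obtain ⟨Q, k, hQ, -, hsoc⟩ := exists_primary_data H hH
  set T : SubSh H := germSubFam H (fun x => Curv2.IsAssPoint H x ∧ x ∉ U) Q with hT
  haveI : T.toModules.IsQuasicoherent :=
    T.isQuasicoherent_toModules (fun V : X.affineOpens => V.1)
      (AlgebraicGeometry.iSup_affineOpens_eq_top X) (fun V => V.2)
      (fun V => isQCohOn_germSubFam H _ Q k hQ V.2
        ((finite_ass_inter_affine H hH V.2).subset fun x hx => ⟨hx.1, hx.2.1⟩))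
  refine ⟨T.toModules, T.ι, inferInstance, Groth.Agent.Lib.H90DevFilt.isCoh_of_mono T.ι hH,
    isIso_restrict_ι_of_obj_eq_top T U fun V hV => ?_, fun V s hs => ?_⟩
  · rw [eq_top_iff]
    intro s _ x hx hxV
    exact absurd (hV hxV) hx.2
  · apply injective_appLin_of_mono T.ι V
    rw [map_zero]
    apply eq_zero_of_mem_germSubFam H (fun x => x ∉ U) Q hsoc
    · exact (T.mem_range_ι V _).mp ⟨s, rfl⟩
    · intro x hx hxU
      have hxU' : x ∈ U := not_not.mp hxU
      have hxVU : x ∈ V ⊓ U := ⟨hx, hxU'⟩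
      rw [← germ_res H (inf_le_left : V ⊓ U ≤ V) x hxVU, ← appLin_res, hs, map_zero, map_zero]

end Groth.Agent.Lib.H90PrimDec
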