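import Groth.Agent.Lib.ProjFormula81
import Groth.Agent.Lib.TmulAffine49
import Groth.Agent.Lib.UnitBaseChange
import Groth.Agent.Lib.H72LimMod
import Groth.Agent.Lib.H72PullbackQCoh
import Groth.Agent.Lib.H90OXModPush
import Groth.Agent.Lib.OXModTensorQCoh

/-!
# The projection formula for an affine morphism and quasi-coherent modules (helper90)

For `f : X ⟶ Y` affine, `E` quasi-coherent on `X` and `P` quasi-coherent on `Y`, helper81's projection formula
morphism `projHom f E P : f_* E ⊗ P ⟶ f_* (E ⊗ f^* P)` is an isomorphism (`isIso_projHom`).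
Consequence: `pushPullIso : f_* O_X ⊗ P ≅ f_* f^* P`.
-/

set_option autoImplicit false
set_option linter.style.haveILetI false
universe u
open CategoryTheory CategoryTheory.Limits AlgebraicGeometry TopologicalSpace Opposite TensorProduct
open Groth.Agent.Lib.H78TensorGen Groth.Agent.Lib.H78PullSec Groth.Agent.Lib.ProjFormula81
  Groth.Agent.Lib.TmulAffine49 Groth.Agent.Lib.UnitBaseChange Groth.Agent.Lib.H72PullbackNat

namespace Groth.Agent.Lib.H90ProjAffine

variable {X Y : Scheme.{u}} (f : X ⟶ Y) (E : X.Modules) (P : Y.Modules)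

section Sections

variable [E.IsQuasicoherent] [P.IsQuasicoherent] {V : Y.Opens} (hV : IsAffineOpen V)
  (hU : IsAffineOpen (f ⁻¹ᵁ V))

include hV hU in
set_option backward.isDefEq.respectTransparency false in
theorem bijective_projHom_app [((Scheme.Modules.pushforward f).obj E).IsQuasicoherent] :
    Function.Bijective (secModMap (projHom f E P) V).hom := by
  letI : Algebra Γ(Y, V) Γ(X, f ⁻¹ᵁ V) := (f.appLE V (f ⁻¹ᵁ V) le_rfl).hom.toAlgebra
  letI mQ : Module Γ(Y, V) Γ((Scheme.Modules.pullback f).obj P, f ⁻¹ᵁ V) :=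
    Module.compHom _ (f.appLE V (f ⁻¹ᵁ V) le_rfl).hom
  haveI : IsScalarTower Γ(Y, V) Γ(X, f ⁻¹ᵁ V) Γ((Scheme.Modules.pullback f).obj P, f ⁻¹ᵁ V) :=
    .of_algebraMap_smul fun _ _ => rfl
  have hθ : IsBaseChange Γ(X, f ⁻¹ᵁ V) (unitSec f P (le_refl (f ⁻¹ᵁ V))) :=
    isBaseChange_unitSec f P hU hV le_rfl
  -- the pushforward sections as a module over both rings
  letI mB : Module Γ(X, f ⁻¹ᵁ V) Γ((Scheme.Modules.pushforward f).obj E, V) :=
    inferInstanceAs (Module Γ(X, f ⁻¹ᵁ V) Γ(E, f ⁻¹ᵁ V))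
  haveI : IsScalarTower Γ(Y, V) Γ(X, f ⁻¹ᵁ V) Γ((Scheme.Modules.pushforward f).obj E, V) :=
    .of_algebraMap_smul fun a s => by
      change (f.appLE V (f ⁻¹ᵁ V) le_rfl).hom a • ofPush f E V s = ofPush f E V (a • toPush f E V (ofPush f E V s))
      rw [push_smul, Scheme.Hom.appLE_eq_app]
  let β₁ := (TensorProduct.AlgebraTensorModule.cancelBaseChange Γ(Y, V) Γ(X, f ⁻¹ᵁ V)
    Γ(X, f ⁻¹ᵁ V) Γ((Scheme.Modules.pushforward f).obj E, V) Γ(P, V)).symm
  let β₂ := TensorProduct.congr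
    (LinearEquiv.refl Γ(X, f ⁻¹ᵁ V) Γ((Scheme.Modules.pushforward f).obj E, V)) hθ.equiv
  have hT1 := bijective_tmulLin (F := (Scheme.Modules.pushforward f).obj E) (G := P) hV
  have hT2 := bijective_tmulLin (F := E) (G := (Scheme.Modules.pullback f).obj P) hU
  have key : ∀ t : Γ((Scheme.Modules.pushforward f).obj E, V) ⊗[Γ(Y, V)] Γ(P, V),
      (secModMap (projHom f E P) V).hom (tmulLin _ _ V t) =
        toPush f _ V (tmulLin E ((Scheme.Modules.pullback f).obj P) (f ⁻¹ᵁ V) (β₂ (β₁ t))) := by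
    intro t
    induction t using TensorProduct.induction_on with
    | zero => simp only [map_zero]; rfl
    | tmul s p =>
      rw [tmulLin_tmul, secModMap_apply, projHom_tmul]
      congr 1
      have e1 : β₁ (s ⊗ₜ[Γ(Y, V)] p) = s ⊗ₜ[Γ(X, f ⁻¹ᵁ V)] ((1 : Γ(X, f ⁻¹ᵁ V)) ⊗ₜ[Γ(Y, V)] p) := by
        rw [LinearEquiv.symm_apply_eq]
        simp [TensorProduct.AlgebraTensorModule.cancelBaseChange_tmul]
      rw [e1]
      change _ = tmulLin E ((Scheme.Modules.pullback f).obj P) (f ⁻¹ᵁ V)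
        (s ⊗ₜ[Γ(X, f ⁻¹ᵁ V)] hθ.equiv ((1 : Γ(X, f ⁻¹ᵁ V)) ⊗ₜ[Γ(Y, V)] p))
      rw [IsBaseChange.equiv_tmul, one_smul, tmulLin_tmul, unitSec_apply]
      congr 1
      change pb f P p = (((Scheme.Modules.pullback f).obj P).presheaf.map (𝟙 _)) (pb f P p)
      rw [((Scheme.Modules.pullback f).obj P).presheaf.map_id]
      rfl
    | add a b ha hb =>
      rw [map_add, map_add, ha, hb, map_add, map_add, map_add]
      rfl
  constructor
  · intro x y hxy
    obtain ⟨t, rfl⟩ := hT1.2 x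
    obtain ⟨t', rfl⟩ := hT1.2 y
    rw [key, key] at hxy
    have h1 := hT2.1 hxy
    rw [β₂.injective.eq_iff, β₁.injective.eq_iff] at h1
    rw [h1]
  · intro z
    obtain ⟨w, hw⟩ := hT2.2 (ofPush f _ V z)
    obtain ⟨t, rfl⟩ := β₂.surjective w
    obtain ⟨t', rfl⟩ := β₁.surjective t
    refine ⟨tmulLin _ _ V t', ?_⟩
    rw [key, hw]
    rfl

end Sections

/-- **Projection formula** for an affine morphism and quasi-coherent modules. -/
theorem isIso_projHom [IsAffineHom f] [E.IsQuasicoherent] [P.IsQuasicoherent] :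
    IsIso (projHom f E P) := by
  haveI : ((Scheme.Modules.pushforward f).obj E).IsQuasicoherent :=
    Groth.Agent.Lib.H90OXModPush.isQuasicoherent_pushforward f E
  haveI : (CohB1.tensorMod ((Scheme.Modules.pushforward f).obj E) P).IsQuasicoherent :=
    Groth.Agent.Lib.OXModTensorQCoh.isQuasicoherent_tensorMod _ _
  haveI : (CohB1.tensorMod E ((Scheme.Modules.pullback f).obj P)).IsQuasicoherent :=
    Groth.Agent.Lib.OXModTensorQCoh.isQuasicoherent_tensorMod _ _
  haveI : ((Scheme.Modules.pushforward f).obj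
      (CohB1.tensorMod E ((Scheme.Modules.pullback f).obj P))).IsQuasicoherent :=
    Groth.Agent.Lib.H90OXModPush.isQuasicoherent_pushforward f _
  refine Groth.Agent.Lib.H72LimMod.isIso_of_cover (projHom f E P)
    (fun V : Y.affineOpens => V.1) (fun V => V.2) (fun y => ?_) (fun V => ?_)
  · obtain ⟨_, ⟨V, hV, rfl⟩, hyV, -⟩ :=
      Y.isBasis_affineOpens.exists_subset_of_mem_open (Set.mem_univ y) isOpen_univ
    exact ⟨⟨V, hV⟩, hyV⟩
  · exact bijective_projHom_app f E P V.2 (V.2.preimage f)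

/-- `f_* E ⊗ P ≅ f_* (E ⊗ f^* P)` for `f` affine, `E`, `P` quasi-coherent. -/
noncomputable def projIso [IsAffineHom f] [E.IsQuasicoherent] [P.IsQuasicoherent] :
    CohB1.tensorMod ((Scheme.Modules.pushforward f).obj E) P ≅
      (Scheme.Modules.pushforward f).obj (CohB1.tensorMod E ((Scheme.Modules.pullback f).obj P)) :=
  haveI := isIso_projHom f E P
  asIso (projHom f E P)

end Groth.Agent.Lib.H90ProjAffine
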