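import Mathlib

/-!
# Morphisms into `Proj 𝒜` (helper90, keystone ProperFin, stage P1)

* `hom_ext_of_appLE`: two morphisms `h h' : Y ⟶ Z` agreeing (via `appLE`) on a family of affine opens of `Z`
  whose preimages contain an open cover of `Y` are equal.
* `fromOfGlobalSections_appLE_mul`: the effect of Mathlib's `Proj.fromOfGlobalSections 𝒜 f hf : X ⟶ Proj 𝒜`
  on the function `a / r^k` of `D₊(r)`: its pullback `t` to `X_{f r}` satisfies `t * (f r)^k = f a`.
-/

set_option autoImplicit false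
universe u
open CategoryTheory AlgebraicGeometry TopologicalSpace Opposite HomogeneousLocalization

namespace Groth.Agent.Lib.H90ProjHom

/-- Two morphisms agreeing on sections over a family of affine opens of the target, whose preimages
contain an open cover of the source, are equal. -/
theorem hom_ext_of_appLE {Y Z : Scheme.{u}} (h h' : Y ⟶ Z) {ι : Type*} (U : ι → Z.Opens)
    (hU : ∀ α, IsAffineOpen (U α)) (V : ι → Y.Opens) (hV : ⨆ α, V α = ⊤)
    (e : ∀ α, V α ≤ h ⁻¹ᵁ U α) (e' : ∀ α, V α ≤ h' ⁻¹ᵁ U α)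
    (H : ∀ α, h.appLE (U α) (V α) (e α) = h'.appLE (U α) (V α) (e' α)) : h = h' := by
  refine (Y.openCoverOfIsOpenCover V hV).hom_ext _ _ fun α => ?_
  change (V α).ι ≫ h = (V α).ι ≫ h'
  rw [← Scheme.Hom.resLE_comp_ι h (e α), ← Scheme.Hom.resLE_comp_ι h' (e' α)]
  congr 1
  have : IsAffine (U α).toScheme := hU α
  apply ext_of_isAffine
  change (h.resLE (U α) (V α) (e α)).app ⊤ = (h'.resLE (U α) (V α) (e' α)).app ⊤
  rw [Scheme.Hom.resLE_app_top, Scheme.Hom.resLE_app_top, H α]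

/-- restriction of a global function to an open -/
noncomputable abbrev resTop (X : Scheme.{u}) (V : X.Opens) : Γ(X, ⊤) →+* Γ(X, V) :=
  (X.presheaf.map (homOfLE (le_top : V ≤ ⊤)).op).hom

theorem topIso_hom_ι_appTop {X : Scheme.{u}} (V : X.Opens) (y : Γ(X, ⊤)) :
    V.topIso.hom.hom (V.ι.appTop.hom y) = resTop X V y := by
  rw [Scheme.Opens.ι_appTop, Scheme.Opens.topIso_hom]
  change (X.presheaf.map _ ≫ X.presheaf.map _).hom y = _
  erw [← Functor.map_comp]
  rfl

theorem topIso_hom_inv {Y : Scheme.{u}} (V : Y.Opens) (s : Γ(Y, V)) :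
    V.topIso.hom.hom (V.topIso.inv.hom s) = s := by
  rw [← RingHom.comp_apply, ← CommRingCat.hom_comp, Iso.inv_hom_id]
  rfl

section

variable {X : Scheme.{u}}

/-- the morphism `X_x ⟶ Spec Γ(X,⊤)_x` -/
noncomputable def m (x : Γ(X, ⊤)) : (X.basicOpen x).toScheme ⟶ Spec (.of (Localization.Away x)) :=
  (X.isoOfEq (X.toSpecΓ_preimage_basicOpen x)).inv ≫ X.toSpecΓ ∣_ _ ≫ (basicOpenIsoSpecAway x).hom

set_option backward.isDefEq.respectTransparency.types false in
theorem m_comp (x : Γ(X, ⊤)) :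
    m x ≫ Spec.map (CommRingCat.ofHom (algebraMap Γ(X, ⊤) (Localization.Away x))) =
      (X.basicOpen x).ι ≫ X.toSpecΓ := by
  simp only [m, Scheme.isoOfEq_inv, ← Scheme.Hom.resLE_eq_morphismRestrict, Category.assoc,
    basicOpenIsoSpecAway_hom_SpecMap, Scheme.Hom.map_resLE_assoc, Scheme.Hom.resLE_comp_ι]

/-- the ring map `Γ(X,⊤)_x → Γ(X_x, ⊤)` -/
noncomputable def lam (x : Γ(X, ⊤)) : Localization.Away x →+* Γ((X.basicOpen x).toScheme, ⊤) :=
  ((Scheme.ΓSpecIso (.of (Localization.Away x))).inv ≫ (m x).appTop).hom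

theorem lam_algebraMap (x y : Γ(X, ⊤)) :
    lam x (algebraMap _ _ y) = (X.basicOpen x).ι.appTop.hom y := by
  have h := congrArg Scheme.Hom.appTop (m_comp x)
  rw [Scheme.Hom.comp_appTop, Scheme.Hom.comp_appTop, Scheme.toSpecΓ_appTop] at h
  have h2 := Scheme.ΓSpecIso_inv_naturality (CommRingCat.ofHom (algebraMap Γ(X, ⊤) (Localization.Away x)))
  have h3 : CommRingCat.ofHom (algebraMap Γ(X, ⊤) (Localization.Away x)) ≫
      (Scheme.ΓSpecIso (.of (Localization.Away x))).inv ≫ (m x).appTop = (X.basicOpen x).ι.appTop := by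
    rw [← Category.assoc, h2, Category.assoc, h]
    exact Iso.inv_hom_id_assoc _ _
  exact congrArg (fun φ => φ.hom y) h3

end

variable {σ : Type*} {A : Type u} [CommRing A] [SetLike σ A] [AddSubgroupClass σ A]
variable (𝒜 : ℕ → σ) [GradedRing 𝒜]
variable {X : Scheme.{u}} (f : A →+* Γ(X, ⊤))

/-- the ring map used by Mathlib's `toBasicOpenOfGlobalSections` -/
noncomputable def ψ (r : A) : Away 𝒜 r →+* Localization.Away (f r) :=
  RingHom.comp (IsLocalization.map (M := .powers r) (T := .powers (f r)) (Localization.Away (f r)) f (by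
         rw [← Submonoid.map_le_iff_le_comap, Submonoid.map_powers])) (algebraMap _ (Localization.Away r))

theorem ψ_mul {r : A} {n : ℕ} (hr : r ∈ 𝒜 n) (k : ℕ) (a : A) (ha : a ∈ 𝒜 (k • n)) :
    ψ 𝒜 f r (Away.mk 𝒜 hr k a ha) * algebraMap _ _ (f r) ^ k = algebraMap _ _ (f a) := by
  unfold ψ
  rw [RingHom.comp_apply, HomogeneousLocalization.algebraMap_apply, Away.val_mk, Localization.mk_eq_mk',
    IsLocalization.map_mk']
  rw [← map_pow, ← map_pow]
  exact IsLocalization.mk'_spec _ _ _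

theorem toBasicOpen_comp_toSpec {r : A} {n : ℕ} (hn : 0 < n) (hr : r ∈ 𝒜 n) :
    Proj.toBasicOpenOfGlobalSections 𝒜 f rfl hn hr ≫ Proj.basicOpenToSpec 𝒜 r =
    m (f r) ≫ Spec.map (CommRingCat.ofHom (ψ 𝒜 f r)) := by
  unfold Proj.toBasicOpenOfGlobalSections m
  simp only [Category.assoc]
  rw [← Proj.basicOpenIsoSpec_hom 𝒜 r hr hn, Iso.inv_hom_id, Category.comp_id]
  rfl

theorem toBasicOpen_appTop {r : A} {n : ℕ} (hn : 0 < n) (hr : r ∈ 𝒜 n) (z : Away 𝒜 r) :
    (Proj.toBasicOpenOfGlobalSections 𝒜 f rfl hn hr).appTop.hom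
      ((Proj.basicOpen 𝒜 r).topIso.inv.hom ((Proj.awayToSection 𝒜 r).hom z)) = lam (f r) (ψ 𝒜 f r z) := by
  have h := congrArg Scheme.Hom.appTop (toBasicOpen_comp_toSpec 𝒜 f hn hr)
  rw [Scheme.Hom.comp_appTop, Scheme.Hom.comp_appTop] at h
  have h1 : (Proj.basicOpenToSpec 𝒜 r).appTop = _ := Proj.basicOpenToSpec_app_top 𝒜 r
  rw [h1] at h
  have h2 := Scheme.ΓSpecIso_inv_naturality (CommRingCat.ofHom (ψ 𝒜 f r))
  have h3 : Proj.awayToSection 𝒜 r ≫ (Proj.basicOpen 𝒜 r).topIso.inv ≫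
      (Proj.toBasicOpenOfGlobalSections 𝒜 f rfl hn hr).appTop =
      CommRingCat.ofHom (ψ 𝒜 f r) ≫ (Scheme.ΓSpecIso (.of (Localization.Away (f r)))).inv ≫ (m (f r)).appTop := by
    rw [← Category.assoc (CommRingCat.ofHom (ψ 𝒜 f r)), h2, Category.assoc, ← h]
    simp only [Category.assoc, Iso.inv_hom_id_assoc]
  exact congrArg (fun φ => φ.hom z) h3

variable (hf : (HomogeneousIdeal.irrelevant 𝒜).toIdeal.map f = ⊤)

/-- **Formula for `Proj.fromOfGlobalSections`**: the pullback `t` of the function `a / r^k` on `D₊(r)` to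
`X_{f r}` satisfies `t * (f r)^k = f a`. -/
theorem fromOfGlobalSections_appLE_mul {r : A} {n : ℕ} (hn : 0 < n) (hr : r ∈ 𝒜 n) (k : ℕ) (a : A)
    (ha : a ∈ 𝒜 (k • n)) :
    ((Proj.fromOfGlobalSections 𝒜 f hf).appLE (Proj.basicOpen 𝒜 r) (X.basicOpen (f r))
        (Proj.fromOfGlobalSections_preimage_basicOpen 𝒜 f hf hn hr).ge).hom
        ((Proj.awayToSection 𝒜 r).hom (Away.mk 𝒜 hr k a ha)) * resTop X (X.basicOpen (f r)) (f r) ^ k =
      resTop X (X.basicOpen (f r)) (f a) := by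
  have h1 := toBasicOpen_appTop 𝒜 f hn hr (Away.mk 𝒜 hr k a ha)
  rw [← Proj.fromOfGlobalSections_resLE 𝒜 f hf hn hr] at h1
  have h2 : ((Proj.fromOfGlobalSections 𝒜 f hf).resLE _ _
      (Proj.fromOfGlobalSections_preimage_basicOpen 𝒜 f hf hn hr).ge).appTop = _ :=
    Scheme.Hom.resLE_app_top _ _
  rw [h2] at h1
  simp only [CommRingCat.hom_comp, RingHom.comp_apply] at h1
  rw [topIso_hom_inv] at h1
  have h5 := congrArg (X.basicOpen (f r)).topIso.hom.hom h1
  rw [topIso_hom_inv] at h5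
  have e1 : ∀ y, resTop X (X.basicOpen (f r)) y =
      (X.basicOpen (f r)).topIso.hom.hom (lam (f r) (algebraMap _ _ y)) := by
    intro y
    rw [lam_algebraMap, topIso_hom_ι_appTop]
  have e2 := ψ_mul 𝒜 f hr k a ha
  rw [h5, e1, e1]
  have e3 := congrArg (fun w => (X.basicOpen (f r)).topIso.hom.hom (lam (f r) w)) e2
  simp only [map_mul, map_pow] at e3
  exact e3

end Groth.Agent.Lib.H90ProjHom
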