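import Groth.Agent.Lib.H90ProjHom

/-!
# Morphisms into `Proj 𝒜`, part 2 (helper90, keystone ProperFin, stage P1)

* `eq_fromOfGlobalSections`: characterisation of `Proj.fromOfGlobalSections 𝒜 f hf` by its effect on the
  functions `a / r^k`.
* `comp_fromOfGlobalSections`: `j ≫ fromOfGlobalSections f = fromOfGlobalSections (j^* ∘ f)`.
* `fromOfGlobalSections_eq_of_twist`: `f' a = u^d * f a` on `𝒜 d` with `u` a unit gives the same morphism.
-/

set_option autoImplicit false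
universe u
open CategoryTheory AlgebraicGeometry TopologicalSpace Opposite HomogeneousLocalization

namespace Groth.Agent.Lib.H90ProjHom

variable {σ : Type*} {A : Type u} [CommRing A] [SetLike σ A] [AddSubgroupClass σ A]
variable (𝒜 : ℕ → σ) [GradedRing 𝒜]
variable {X : Scheme.{u}} (f : A →+* Γ(X, ⊤))
variable (hf : (HomogeneousIdeal.irrelevant 𝒜).toIdeal.map f = ⊤)

theorem isUnit_resTop_basicOpen (x : Γ(X, ⊤)) : IsUnit (resTop X (X.basicOpen x) x) :=
  X.toRingedSpace.isUnit_res_basicOpen x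

theorem isUnit_resTop_of_le (x : Γ(X, ⊤)) {V : X.Opens} (hV : V ≤ X.basicOpen x) :
    IsUnit (resTop X V x) := by
  have h := (isUnit_resTop_basicOpen x).map (X.presheaf.map (homOfLE hV).op).hom
  have e : (X.presheaf.map (homOfLE hV).op).hom (resTop X (X.basicOpen x) x) = resTop X V x := by
    change (X.presheaf.map _ ≫ X.presheaf.map _).hom x = _
    rw [← Functor.map_comp]
    rfl
  rwa [e] at h

include hf in
theorem iSup_basicOpen_eq_top :
    ⨆ ir : Σ' (i : ℕ) (r : A), 0 < i ∧ r ∈ 𝒜 i, X.basicOpen (f ir.2.1) = ⊤ := by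
  have h := (Proj.openCoverOfMapIrrelevantEqTop 𝒜 f hf).iSup_opensRange
  refine Eq.trans ?_ h
  congr 1
  funext ir
  exact (Scheme.Opens.opensRange_ι _).symm

theorem awayToSection_surjective {r : A} {n : ℕ} (hn : 0 < n) (hr : r ∈ 𝒜 n)
    (s : Γ(Proj 𝒜, Proj.basicOpen 𝒜 r)) : ∃ z, (Proj.awayToSection 𝒜 r).hom z = s := by
  have : IsIso (Proj.awayToSection 𝒜 r) := by
    rw [← Proj.basicOpenIsoAway_hom 𝒜 r hr hn]
    infer_instance
  exact (ConcreteCategory.bijective_of_isIso (Proj.awayToSection 𝒜 r)).2 s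

/-- **Characterisation of `Proj.fromOfGlobalSections`.** -/
theorem eq_fromOfGlobalSections (h : X ⟶ Proj 𝒜)
    (H : ∀ (n : ℕ) (r : A) (_ : 0 < n) (hr : r ∈ 𝒜 n),
      ∃ e : X.basicOpen (f r) ≤ h ⁻¹ᵁ Proj.basicOpen 𝒜 r, ∀ (k : ℕ) (a : A) (ha : a ∈ 𝒜 (k • n)),
        (h.appLE (Proj.basicOpen 𝒜 r) (X.basicOpen (f r)) e).hom
            ((Proj.awayToSection 𝒜 r).hom (Away.mk 𝒜 hr k a ha)) *
          resTop X (X.basicOpen (f r)) (f r) ^ k = resTop X (X.basicOpen (f r)) (f a)) :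
    h = Proj.fromOfGlobalSections 𝒜 f hf := by
  refine hom_ext_of_appLE h _ (ι := Σ' (i : ℕ) (r : A), 0 < i ∧ r ∈ 𝒜 i)
    (fun ir => Proj.basicOpen 𝒜 ir.2.1)
    (fun ir => Proj.isAffineOpen_basicOpen 𝒜 ir.2.1 ir.2.2.2 ir.2.2.1)
    (fun ir => X.basicOpen (f ir.2.1)) (iSup_basicOpen_eq_top 𝒜 f hf)
    (fun ir => (H ir.1 ir.2.1 ir.2.2.1 ir.2.2.2).choose)
    (fun ir => (Proj.fromOfGlobalSections_preimage_basicOpen 𝒜 f hf ir.2.2.1 ir.2.2.2).ge) ?_
  rintro ⟨n, r, hn, hr⟩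
  ext s
  obtain ⟨z, rfl⟩ := awayToSection_surjective 𝒜 hn hr s
  obtain ⟨k, a, ha, rfl⟩ := Away.mk_surjective 𝒜 hr z
  have h1 := (H n r hn hr).choose_spec k a ha
  have h2 := fromOfGlobalSections_appLE_mul 𝒜 f hf hn hr k a ha
  have hu := (isUnit_resTop_basicOpen (f r)).pow k
  exact hu.mul_left_injective (h1.trans h2.symm)


theorem appLE_resTop {X' : Scheme.{u}} (j : X' ⟶ X) (U : X.Opens) (V : X'.Opens) (e : V ≤ j ⁻¹ᵁ U)
    (y : Γ(X, ⊤)) : (j.appLE U V e).hom (resTop X U y) = resTop X' V (j.appTop.hom y) := by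
  have h1 := Scheme.Hom.map_appLE j e (homOfLE (le_top : U ≤ ⊤)).op
  have h2 : j.appLE ⊤ V (e.trans ((Opens.map j.base).map (homOfLE (le_top : U ≤ ⊤))).le) =
      j.appTop ≫ X'.presheaf.map (homOfLE (le_top : V ≤ ⊤)).op := rfl
  rw [h2] at h1
  exact congrArg (fun φ => φ.hom y) h1

theorem map_comp_eq_top {B C : Type*} [CommRing B] [CommRing C] (g : B →+* C) (f : A →+* B) (I : Ideal A)
    (h : I.map f = ⊤) : I.map (g.comp f) = ⊤ := by
  rw [← Ideal.map_map, h, Ideal.map_top]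

/-- **Naturality of `Proj.fromOfGlobalSections`** in the source. -/
theorem comp_fromOfGlobalSections {X' : Scheme.{u}} (j : X' ⟶ X) :
    j ≫ Proj.fromOfGlobalSections 𝒜 f hf =
      Proj.fromOfGlobalSections 𝒜 (j.appTop.hom.comp f) (map_comp_eq_top _ _ _ hf) := by
  refine eq_fromOfGlobalSections 𝒜 _ _ _ fun n r hn hr => ?_
  have e₁ : X.basicOpen (f r) ≤ Proj.fromOfGlobalSections 𝒜 f hf ⁻¹ᵁ Proj.basicOpen 𝒜 r :=
    (Proj.fromOfGlobalSections_preimage_basicOpen 𝒜 f hf hn hr).ge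
  have e₂ : X'.basicOpen ((j.appTop.hom.comp f) r) ≤ j ⁻¹ᵁ X.basicOpen (f r) := by
    rw [Scheme.preimage_basicOpen_top]
    rfl
  refine ⟨e₂.trans ((Opens.map j.base).map (homOfLE e₁)).le, fun k a ha => ?_⟩
  rw [← Scheme.Hom.appLE_comp_appLE j _ _ _ _ e₁ e₂]
  have h2 := fromOfGlobalSections_appLE_mul 𝒜 f hf hn hr k a ha
  have h3 := congrArg (j.appLE _ _ e₂).hom h2
  rw [map_mul, map_pow, appLE_resTop, appLE_resTop] at h3
  exact h3


theorem map_resTop {V V' : X.Opens} (i : V' ≤ V) (y : Γ(X, ⊤)) :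
    (X.presheaf.map (homOfLE i).op).hom (resTop X V y) = resTop X V' y := by
  change (X.presheaf.map _ ≫ X.presheaf.map _).hom y = _
  rw [← Functor.map_comp]
  rfl

/-- **Twisting by a unit does not change `Proj.fromOfGlobalSections`.** -/
theorem fromOfGlobalSections_eq_of_twist (f' : A →+* Γ(X, ⊤))
    (hf' : (HomogeneousIdeal.irrelevant 𝒜).toIdeal.map f' = ⊤) (u : Γ(X, ⊤)) (hu : IsUnit u)
    (H : ∀ (d : ℕ) (a : A), a ∈ 𝒜 d → f' a = u ^ d * f a) :
    Proj.fromOfGlobalSections 𝒜 f hf = Proj.fromOfGlobalSections 𝒜 f' hf' := by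
  refine eq_fromOfGlobalSections 𝒜 _ _ _ fun n r hn hr => ?_
  have e₁ : X.basicOpen (f r) ≤ Proj.fromOfGlobalSections 𝒜 f hf ⁻¹ᵁ Proj.basicOpen 𝒜 r :=
    (Proj.fromOfGlobalSections_preimage_basicOpen 𝒜 f hf hn hr).ge
  have eq : X.basicOpen (f' r) = X.basicOpen (f r) := by
    rw [H n r hr, Scheme.basicOpen_mul, Scheme.basicOpen_of_isUnit _ (hu.pow n), top_inf_eq]
  refine ⟨eq.le.trans e₁, fun k a ha => ?_⟩
  suffices ∀ (V' : X.Opens) (hV' : V' ≤ X.basicOpen (f r)),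
      ((Proj.fromOfGlobalSections 𝒜 f hf).appLE (Proj.basicOpen 𝒜 r) V' (hV'.trans e₁)).hom
        ((Proj.awayToSection 𝒜 r).hom (Away.mk 𝒜 hr k a ha)) * resTop X V' (f' r) ^ k =
        resTop X V' (f' a) from this _ eq.le
  intro V' hV'
  have h2 := fromOfGlobalSections_appLE_mul 𝒜 f hf hn hr k a ha
  have h3 := congrArg (X.presheaf.map (homOfLE hV').op).hom h2
  rw [map_mul, map_pow, map_resTop, map_resTop] at h3
  have h4 : (X.presheaf.map (homOfLE hV').op).hom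
      (((Proj.fromOfGlobalSections 𝒜 f hf).appLE (Proj.basicOpen 𝒜 r) (X.basicOpen (f r)) e₁).hom
        ((Proj.awayToSection 𝒜 r).hom (Away.mk 𝒜 hr k a ha))) =
      ((Proj.fromOfGlobalSections 𝒜 f hf).appLE (Proj.basicOpen 𝒜 r) V' (hV'.trans e₁)).hom
        ((Proj.awayToSection 𝒜 r).hom (Away.mk 𝒜 hr k a ha)) := by
    have := Scheme.Hom.appLE_map (Proj.fromOfGlobalSections 𝒜 f hf) e₁ (homOfLE hV').op
    exact congrArg (fun φ => φ.hom ((Proj.awayToSection 𝒜 r).hom (Away.mk 𝒜 hr k a ha))) this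
  rw [h4] at h3
  rw [H n r hr, H (k • n) a ha, map_mul, map_mul, map_pow, map_pow, mul_pow, ← pow_mul, smul_eq_mul,
    mul_comm k n, ← h3]
  ring

end Groth.Agent.Lib.H90ProjHom
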