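import Groth.Agent.Lib.H90ProjHom2

/-!
# Morphisms into `Proj 𝒜`, part 3: maps from open subschemes given by sections over the open
(helper90, keystone ProperFin, stage P1)

`FGSo 𝒜 V F₀ h : ↑V ⟶ Proj 𝒜` for `V : Y.Opens` and `F₀ : A →+* Γ(Y, V)`.
-/

set_option autoImplicit false
universe u
open CategoryTheory AlgebraicGeometry TopologicalSpace Opposite HomogeneousLocalization

namespace Groth.Agent.Lib.H90ProjHom

variable {σ : Type*} {A : Type u} [CommRing A] [SetLike σ A] [AddSubgroupClass σ A]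
variable (𝒜 : ℕ → σ) [GradedRing 𝒜]
variable {Y : Scheme.{u}}

/-- restriction of sections -/
noncomputable abbrev resO (Y : Scheme.{u}) {V' V : Y.Opens} (h : V' ≤ V) : Γ(Y, V) →+* Γ(Y, V') :=
  (Y.presheaf.map (homOfLE h).op).hom

theorem resO_resO {V'' V' V : Y.Opens} (h' : V'' ≤ V') (h : V' ≤ V) (s : Γ(Y, V)) :
    resO Y h' (resO Y h s) = resO Y (h'.trans h) s := by
  change (Y.presheaf.map _ ≫ Y.presheaf.map _).hom s = _
  rw [← Functor.map_comp]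
  rfl

theorem resO_self {V : Y.Opens} (s : Γ(Y, V)) : resO Y (le_refl V) s = s := by
  change (Y.presheaf.map (𝟙 _)).hom s = s
  rw [Y.presheaf.map_id]
  rfl

/-- the morphism from an open subscheme to `Proj 𝒜` given by a ring map to the sections over the open -/
noncomputable def FGSo (V : Y.Opens) (F₀ : A →+* Γ(Y, V))
    (h : (HomogeneousIdeal.irrelevant 𝒜).toIdeal.map F₀ = ⊤) : V.toScheme ⟶ Proj 𝒜 :=
  Proj.fromOfGlobalSections 𝒜 (V.topIso.inv.hom.comp F₀) (map_comp_eq_top _ _ _ h)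

theorem homOfLE_appTop_topIso_inv {V' V : Y.Opens} (h : V' ≤ V) (s : Γ(Y, V)) :
    (Y.homOfLE h).appTop.hom (V.topIso.inv.hom s) = V'.topIso.inv.hom (resO Y h s) := by
  have h1 : V.topIso.inv ≫ (Y.homOfLE h).appTop = Y.presheaf.map (homOfLE h).op ≫ V'.topIso.inv := by
    rw [Scheme.Opens.topIso_inv, Scheme.Opens.topIso_inv, Scheme.homOfLE_appTop]
    erw [← Functor.map_comp, ← Functor.map_comp]
    rfl
  exact congrArg (fun φ => φ.hom s) h1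

/-- `FGSo` is compatible with shrinking the open. -/
theorem homOfLE_FGSo {V' V : Y.Opens} (hV : V' ≤ V) (F₀ : A →+* Γ(Y, V))
    (h : (HomogeneousIdeal.irrelevant 𝒜).toIdeal.map F₀ = ⊤) :
    Y.homOfLE hV ≫ FGSo 𝒜 V F₀ h = FGSo 𝒜 V' ((resO Y hV).comp F₀) (map_comp_eq_top _ _ _ h) := by
  unfold FGSo
  rw [comp_fromOfGlobalSections]
  congr 1
  ext a
  exact homOfLE_appTop_topIso_inv hV (F₀ a)

/-- `FGSo` does not change under twisting by a unit. -/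
theorem FGSo_eq_of_twist (V : Y.Opens) (F₀ F₀' : A →+* Γ(Y, V))
    (h : (HomogeneousIdeal.irrelevant 𝒜).toIdeal.map F₀ = ⊤)
    (h' : (HomogeneousIdeal.irrelevant 𝒜).toIdeal.map F₀' = ⊤) (u : Γ(Y, V)) (hu : IsUnit u)
    (H : ∀ (d : ℕ) (a : A), a ∈ 𝒜 d → F₀' a = u ^ d * F₀ a) :
    FGSo 𝒜 V F₀ h = FGSo 𝒜 V F₀' h' := by
  unfold FGSo
  refine fromOfGlobalSections_eq_of_twist 𝒜 _ _ _ _ (V.topIso.inv.hom u) (hu.map _) fun d a ha => ?_
  rw [RingHom.comp_apply, RingHom.comp_apply, H d a ha, map_mul, map_pow]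


/-- Preimage of `D₊(r)` under `FGSo`. -/
theorem FGSo_preimage_basicOpen (V : Y.Opens) (F₀ : A →+* Γ(Y, V))
    (h : (HomogeneousIdeal.irrelevant 𝒜).toIdeal.map F₀ = ⊤) {r : A} {n : ℕ} (hn : 0 < n)
    (hr : r ∈ 𝒜 n) : FGSo 𝒜 V F₀ h ⁻¹ᵁ Proj.basicOpen 𝒜 r = V.ι ⁻¹ᵁ Y.basicOpen (F₀ r) := by
  unfold FGSo
  rw [Proj.fromOfGlobalSections_preimage_basicOpen 𝒜 _ _ hn hr, RingHom.comp_apply]
  have h1 := Scheme.Opens.ι_image_basicOpen_topIso_inv (U := V) (F₀ r)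
  rw [← h1, Scheme.Hom.preimage_image_eq]

section unit

variable {X : Scheme.{u}} (f : A →+* Γ(X, ⊤))
variable (hf : (HomogeneousIdeal.irrelevant 𝒜).toIdeal.map f = ⊤)

theorem resTop_top (y : Γ(X, ⊤)) : resTop X ⊤ y = y := by
  change (X.presheaf.map (𝟙 _)).hom y = y
  rw [X.presheaf.map_id]
  rfl

/-- Formula for `fromOfGlobalSections` over `D₊(r)` when `f r` is a unit. -/
theorem fromOfGlobalSections_appLE_top {r : A} {n : ℕ} (hn : 0 < n) (hr : r ∈ 𝒜 n)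
    (hu : IsUnit (f r)) :
    ∃ e : (⊤ : X.Opens) ≤ Proj.fromOfGlobalSections 𝒜 f hf ⁻¹ᵁ Proj.basicOpen 𝒜 r,
      ∀ (k : ℕ) (a : A) (ha : a ∈ 𝒜 (k • n)),
        ((Proj.fromOfGlobalSections 𝒜 f hf).appLE (Proj.basicOpen 𝒜 r) ⊤ e).hom
          ((Proj.awayToSection 𝒜 r).hom (Away.mk 𝒜 hr k a ha)) * f r ^ k = f a := by
  have e₁ : X.basicOpen (f r) ≤ Proj.fromOfGlobalSections 𝒜 f hf ⁻¹ᵁ Proj.basicOpen 𝒜 r :=
    (Proj.fromOfGlobalSections_preimage_basicOpen 𝒜 f hf hn hr).ge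
  have eq : (⊤ : X.Opens) ≤ X.basicOpen (f r) := (Scheme.basicOpen_of_isUnit _ hu).ge
  refine ⟨eq.trans e₁, fun k a ha => ?_⟩
  have h2 := fromOfGlobalSections_appLE_mul 𝒜 f hf hn hr k a ha
  have h3 := congrArg (X.presheaf.map (homOfLE eq).op).hom h2
  rw [map_mul, map_pow, map_resTop, map_resTop, resTop_top, resTop_top] at h3
  have h4 : (X.presheaf.map (homOfLE eq).op).hom
      (((Proj.fromOfGlobalSections 𝒜 f hf).appLE (Proj.basicOpen 𝒜 r) (X.basicOpen (f r)) e₁).hom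
        ((Proj.awayToSection 𝒜 r).hom (Away.mk 𝒜 hr k a ha))) =
      ((Proj.fromOfGlobalSections 𝒜 f hf).appLE (Proj.basicOpen 𝒜 r) ⊤ (eq.trans e₁)).hom
        ((Proj.awayToSection 𝒜 r).hom (Away.mk 𝒜 hr k a ha)) := by
    have := Scheme.Hom.appLE_map (Proj.fromOfGlobalSections 𝒜 f hf) e₁ (homOfLE eq).op
    exact congrArg (fun φ => φ.hom ((Proj.awayToSection 𝒜 r).hom (Away.mk 𝒜 hr k a ha))) this
  rw [h4] at h3
  exact h3

end unit

theorem ι_appLE_top (V : Y.Opens) (e : (⊤ : V.toScheme.Opens) ≤ V.ι ⁻¹ᵁ V) (s : Γ(Y, V)) :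
    (V.ι.appLE V ⊤ e).hom s = V.topIso.inv.hom s := by
  rw [Scheme.Opens.ι_appLE, Scheme.Opens.topIso_inv]
  rfl

theorem topIso_inv_injective (V : Y.Opens) : Function.Injective V.topIso.inv.hom := by
  intro a b hab
  have := congrArg V.topIso.hom.hom hab
  rwa [topIso_hom_inv, topIso_hom_inv] at this

/-- **Formula for a morphism restricting to `FGSo` on an open `V`, over `D₊(r)` with `F₀ r` a unit.** -/
theorem appLE_mul_of_ι_comp_eq (g : Y ⟶ Proj 𝒜) (V : Y.Opens) (F₀ : A →+* Γ(Y, V))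
    (h : (HomogeneousIdeal.irrelevant 𝒜).toIdeal.map F₀ = ⊤) (hg : V.ι ≫ g = FGSo 𝒜 V F₀ h)
    {r : A} {n : ℕ} (hn : 0 < n) (hr : r ∈ 𝒜 n) (hu : IsUnit (F₀ r)) :
    ∃ e : V ≤ g ⁻¹ᵁ Proj.basicOpen 𝒜 r, ∀ (k : ℕ) (a : A) (ha : a ∈ 𝒜 (k • n)),
      (g.appLE (Proj.basicOpen 𝒜 r) V e).hom ((Proj.awayToSection 𝒜 r).hom (Away.mk 𝒜 hr k a ha)) *
        F₀ r ^ k = F₀ a := by
  obtain ⟨e₀, H⟩ := fromOfGlobalSections_appLE_top 𝒜 (V.topIso.inv.hom.comp F₀)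
    (map_comp_eq_top _ _ _ h) hn hr (hu.map V.topIso.inv.hom)
  have e : V ≤ g ⁻¹ᵁ Proj.basicOpen 𝒜 r := by
    intro x hx
    have h1 : (⟨x, hx⟩ : V.toScheme) ∈ FGSo 𝒜 V F₀ h ⁻¹ᵁ Proj.basicOpen 𝒜 r := e₀ trivial
    rw [← hg] at h1
    exact h1
  refine ⟨e, fun k a ha => ?_⟩
  have h1 := H k a ha
  have e' : (⊤ : V.toScheme.Opens) ≤ V.ι ⁻¹ᵁ V := fun x _ => x.2
  have h2 : (Proj.fromOfGlobalSections 𝒜 (V.topIso.inv.hom.comp F₀) (map_comp_eq_top _ _ _ h)).appLE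
      (Proj.basicOpen 𝒜 r) ⊤ e₀ = g.appLE (Proj.basicOpen 𝒜 r) V e ≫ V.ι.appLE V ⊤ e' := by
    rw [Scheme.Hom.appLE_comp_appLE]
    have : V.ι ≫ g = Proj.fromOfGlobalSections 𝒜 (V.topIso.inv.hom.comp F₀) (map_comp_eq_top _ _ _ h) := hg
    simp only [this]
  rw [h2] at h1
  simp only [CommRingCat.hom_comp, RingHom.comp_apply, ι_appLE_top] at h1
  apply topIso_inv_injective V
  rw [map_mul, map_pow]
  exact h1

end Groth.Agent.Lib.H90ProjHom
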