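import Groth.Agent.Lib.FinLocFreeMor

/-!
# Pushforward of finite locally free modules along finite locally free morphisms (helper90)

`isFinLocFree_pushforward`: for `f : X ⟶ S` finite locally free (finite, flat, locally of finite presentation) and `P`
a finite locally free `O_X`-module, `f_* P` is a finite locally free `O_S`-module.
-/

set_option autoImplicit false
set_option linter.style.haveILetI false
universe u
open CategoryTheory AlgebraicGeometry TopologicalSpace Opposite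

namespace Groth.Agent.Lib.H90PushLocFree

open Groth.Agent.Lib.FinLocFreeMor

variable {X S : Scheme.{u}} (f : X ⟶ S)

/-- the identity as a linear equiv -/
noncomputable def secEquivMod (P : X.Modules) (U : S.Opens) :
    letI : Algebra Γ(S, U) Γ(X, f ⁻¹ᵁ U) := (f.app U).hom.toAlgebra
    letI : Module Γ(S, U) Γ(P, f ⁻¹ᵁ U) := Module.compHom _ (f.app U).hom
    Γ((Scheme.Modules.pushforward f).obj P, U) ≃ₗ[Γ(S, U)] Γ(P, f ⁻¹ᵁ U) :=
  letI : Algebra Γ(S, U) Γ(X, f ⁻¹ᵁ U) := (f.app U).hom.toAlgebra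
  letI : Module Γ(S, U) Γ(P, f ⁻¹ᵁ U) := Module.compHom _ (f.app U).hom
  { toFun := fun x => x
    invFun := fun x => x
    map_add' := fun _ _ => rfl
    map_smul' := fun _ _ => rfl
    left_inv := fun _ => rfl
    right_inv := fun _ => rfl }

theorem isFinLocFree_pushforward (hf : Mor2.IsFinLocFree f) (P : X.Modules)
    (hP : FlatMod.IsFinLocFree P) :
    FlatMod.IsFinLocFree ((Scheme.Modules.pushforward f).obj P) := by
  obtain ⟨hfin, hflat, hfp⟩ := hf
  haveI : IsAffineHom f := inferInstance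
  have hPfp := Groth.Agent.Lib.H90Invertible.isFinitePresentation_of_isFinLocFree hP
  obtain ⟨hPq, hPfp'⟩ := (Groth.Agent.Lib.H90OXModFP.isFP_iff_forall_affine P).mp hPfp
  haveI := hPq
  have hPflat : FlatMod.IsFlat P := by
    intro x
    haveI := Groth.Agent.Lib.LocFreeFP.free_stalk_of_isFinLocFree hP x
    exact Module.Flat.of_free
  have hPflat' := (Groth.Agent.Lib.QCohFlat.isFlat_iff_forall_affine P).mp hPflat
  haveI : ((Scheme.Modules.pushforward f).obj P).IsQuasicoherent :=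
    Groth.Agent.Lib.H90OXModPush.isQuasicoherent_pushforward f _
  have h1 := (iff_forall_app_of_isAffineHom (P := @Flat) f RingHom.Flat.stableUnderComposition
      RingHom.Flat.containsIdentities).mp hflat
  have h2 := (iff_forall_app_of_isAffineHom (P := @LocallyOfFinitePresentation) f
      RingHom.finitePresentation_stableUnderComposition
      RingHom.finitePresentation_holdsForLocalizationAway.containsIdentities).mp hfp
  apply Groth.Agent.Lib.LocFreeFP.isFinLocFree_of_isFP_of_flat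
  · rw [Groth.Agent.Lib.H90OXModFP.isFP_iff_forall_affine]
    refine ⟨inferInstance, fun U => ?_⟩
    letI : Algebra Γ(S, U.1) Γ(X, f ⁻¹ᵁ U.1) := (f.app U.1).hom.toAlgebra
    letI : Module Γ(S, U.1) Γ(P, f ⁻¹ᵁ U.1) := Module.compHom _ (f.app U.1).hom
    haveI : IsScalarTower Γ(S, U.1) Γ(X, f ⁻¹ᵁ U.1) Γ(P, f ⁻¹ᵁ U.1) :=
      .of_algebraMap_smul fun _ _ => rfl
    haveI : Module.Finite Γ(S, U.1) Γ(X, f ⁻¹ᵁ U.1) := hfin.finite_app U.1 U.2
    haveI : Algebra.FinitePresentation Γ(S, U.1) Γ(X, f ⁻¹ᵁ U.1) := h2 U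
    haveI : Module.FinitePresentation Γ(S, U.1) Γ(X, f ⁻¹ᵁ U.1) :=
      (Module.FinitePresentation.iff_finitePresentation_of_finite _ _).mpr inferInstance
    haveI : Module.FinitePresentation Γ(X, f ⁻¹ᵁ U.1) Γ(P, f ⁻¹ᵁ U.1) :=
      hPfp' ⟨f ⁻¹ᵁ U.1, U.2.preimage f⟩
    haveI : Module.FinitePresentation Γ(S, U.1) Γ(P, f ⁻¹ᵁ U.1) :=
      Module.FinitePresentation.trans Γ(S, U.1) Γ(P, f ⁻¹ᵁ U.1) Γ(X, f ⁻¹ᵁ U.1)
    exact Module.FinitePresentation.of_equiv (secEquivMod f P U.1).symm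
  · rw [Groth.Agent.Lib.QCohFlat.isFlat_iff_forall_affine]
    intro U
    letI : Algebra Γ(S, U.1) Γ(X, f ⁻¹ᵁ U.1) := (f.app U.1).hom.toAlgebra
    letI : Module Γ(S, U.1) Γ(P, f ⁻¹ᵁ U.1) := Module.compHom _ (f.app U.1).hom
    haveI : IsScalarTower Γ(S, U.1) Γ(X, f ⁻¹ᵁ U.1) Γ(P, f ⁻¹ᵁ U.1) :=
      .of_algebraMap_smul fun _ _ => rfl
    haveI : Module.Flat Γ(S, U.1) Γ(X, f ⁻¹ᵁ U.1) := h1 U
    haveI : Module.Flat Γ(X, f ⁻¹ᵁ U.1) Γ(P, f ⁻¹ᵁ U.1) :=
      hPflat' ⟨f ⁻¹ᵁ U.1, U.2.preimage f⟩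
    haveI : Module.Flat Γ(S, U.1) Γ(P, f ⁻¹ᵁ U.1) :=
      Module.Flat.trans Γ(S, U.1) Γ(X, f ⁻¹ᵁ U.1) Γ(P, f ⁻¹ᵁ U.1)
    exact Module.Flat.of_linearEquiv (secEquivMod f P U.1)

end Groth.Agent.Lib.H90PushLocFree
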