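import Mathlib
import Groth.Agent.Lib.H90QCAlg
import Groth.Agent.Lib.H90OXModExt
import Groth.Agent.Lib.AffVanSections

/-!
# Generation of a quasi-coherent algebra by a quasi-coherent submodule is local on affine opens
-/

set_option autoImplicit false
universe u

open AlgebraicGeometry CategoryTheory TopologicalSpace Opposite
open Groth.Agent.Lib.QCohStalk Groth.Agent.Lib.AffVanSections Groth.Agent.Lib.H90OXModExt

namespace Groth.Agent.Lib.H90QCAlg

variable {X : Scheme.{u}} (B : RelSpec.QCAlg X) {E : X.Modules} (j : E ⟶ B.toModule)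

/-- The subring of `B(U)` generated by the functions on `U` and the sections of `E` over `U`. -/
def C (U : X.Opens) : Subring (B.presheaf.obj (op U)) :=
  Subring.closure (Set.range (B.str.app (op U)).hom ∪
    Set.range (fun e : Γ(E, U) => ofSec B U (j.app U e)))

theorem str_mem_C (U : X.Opens) (r : Γ(X, U)) : (B.str.app (op U)).hom r ∈ C B j U :=
  Subring.subset_closure (Or.inl ⟨r, rfl⟩)

theorem j_mem_C (U : X.Opens) (e : Γ(E, U)) : ofSec B U (j.app U e) ∈ C B j U :=
  Subring.subset_closure (Or.inr ⟨e, rfl⟩)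

theorem j_res {V U : X.Opens} (h : V ≤ U) (e : Γ(E, U)) :
    (B.presheaf.map (homOfLE h).op).hom (ofSec B U (j.app U e)) = ofSec B V (j.app V (res E h e)) := by
  rw [app_res]
  rfl

theorem j_smul (U : X.Opens) (r : Γ(X, U)) (e : Γ(E, U)) :
    ofSec B U (j.app U (r • e)) = (B.str.app (op U)).hom r * ofSec B U (j.app U e) := by
  rw [Scheme.Modules.Hom.app_smul]
  rfl

/-- Restriction maps `C(U)` into `C(V)`. -/
theorem res_mem_C {V U : X.Opens} (h : V ≤ U) {b : B.presheaf.obj (op U)} (hb : b ∈ C B j U) :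
    (B.presheaf.map (homOfLE h).op).hom b ∈ C B j V := by
  induction hb using Subring.closure_induction with
  | mem x hx =>
    rcases hx with ⟨r, rfl⟩ | ⟨e, rfl⟩
    · rw [← str_res]; exact str_mem_C B j V _
    · change (B.presheaf.map (homOfLE h).op).hom (ofSec B U (j.app U e)) ∈ _
      rw [j_res]; exact j_mem_C B j V _
  | zero => rw [map_zero]; exact Subring.zero_mem _
  | one => rw [map_one]; exact Subring.one_mem _
  | add x y _ _ hx hy => rw [map_add]; exact Subring.add_mem _ hx hy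
  | neg x _ hx => rw [map_neg]; exact Subring.neg_mem _ hx
  | mul x y _ _ hx hy => rw [map_mul]; exact Subring.mul_mem _ hx hy

/-- If `C(U) = ⊤` then `C(D(f)) = ⊤`. -/
theorem C_basicOpen_eq_top {U : X.Opens} (hU : IsAffineOpen U) (f : Γ(X, U)) (h : C B j U = ⊤) :
    C B j (X.basicOpen f) = ⊤ := by
  rw [eq_top_iff]
  intro t _
  letI := (B.presheaf.map (homOfLE (X.basicOpen_le f)).op).hom.toAlgebra
  haveI : IsLocalization.Away ((B.str.app (op U)).hom f) (B.presheaf.obj (op (X.basicOpen f))) :=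
    B.isQC U hU f
  obtain ⟨n, a, ha⟩ := IsLocalization.Away.surj ((B.str.app (op U)).hom f) t
  obtain ⟨u, hu⟩ : ∃ u : Γ(X, X.basicOpen f), resO X (X.basicOpen_le f) f * u = 1 :=
    (isUnit_resO_basicOpen f).exists_right_inv
  have h1 : (B.presheaf.map (homOfLE (X.basicOpen_le f)).op).hom ((B.str.app (op U)).hom f) *
      (B.str.app (op (X.basicOpen f))).hom u = 1 := by
    rw [← str_res, ← map_mul, hu, map_one]
  have h2 : t = (B.presheaf.map (homOfLE (X.basicOpen_le f)).op).hom a *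
      (B.str.app (op (X.basicOpen f))).hom u ^ n := by
    have ha' : t * (B.presheaf.map (homOfLE (X.basicOpen_le f)).op).hom
        ((B.str.app (op U)).hom f) ^ n = (B.presheaf.map (homOfLE (X.basicOpen_le f)).op).hom a := ha
    rw [← ha', mul_assoc, ← mul_pow, h1, one_pow, mul_one]
  rw [h2]
  refine Subring.mul_mem _ (res_mem_C B j _ (h ▸ Subring.mem_top a)) (Subring.pow_mem _ ?_ n)
  exact str_mem_C B j _ u

theorem exists_pow_mul_eq_resO' {V : X.Opens} (hV : IsAffineOpen V) (h : Γ(X, V))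
    (c : Γ(X, X.basicOpen h)) :
    ∃ (j : ℕ) (c' : Γ(X, V)), resO X (X.basicOpen_le h) h ^ j * c = resO X (X.basicOpen_le h) c' := by
  haveI := hV.isLocalization_basicOpen h
  obtain ⟨⟨c', ⟨_, j, rfl⟩⟩, hc⟩ := IsLocalization.surj (Submonoid.powers h) c
  refine ⟨j, c', ?_⟩
  rw [mul_comm, ← resO_pow]
  exact hc

/-- Elements of `C(D(f))` are fractions of elements of `C(U)`. -/
theorem exists_pow_mul_of_mem_C [E.IsQuasicoherent] {U : X.Opens} (hU : IsAffineOpen U) (f : Γ(X, U))
    {t : B.presheaf.obj (op (X.basicOpen f))} (ht : t ∈ C B j (X.basicOpen f)) :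
    ∃ (n : ℕ) (c : B.presheaf.obj (op U)), c ∈ C B j U ∧
      (B.presheaf.map (homOfLE (X.basicOpen_le f)).op).hom c =
        (B.presheaf.map (homOfLE (X.basicOpen_le f)).op).hom ((B.str.app (op U)).hom f) ^ n * t := by
  set ρ := (B.presheaf.map (homOfLE (X.basicOpen_le f)).op).hom with hρ
  set φ := (B.str.app (op U)).hom f with hφ
  induction ht using Subring.closure_induction with
  | mem x hx =>
    rcases hx with ⟨r, rfl⟩ | ⟨e, rfl⟩
    · obtain ⟨n, r', hr'⟩ := exists_pow_mul_eq_resO' hU f r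
      refine ⟨n, (B.str.app (op U)).hom r', str_mem_C B j U r', ?_⟩
      rw [hρ, hφ, ← str_res, ← hr', map_mul, map_pow, str_res]
    · obtain ⟨n, e', he'⟩ := exists_pow_smul_eq_res E hU f e
      refine ⟨n, ofSec B U (j.app U e'), j_mem_C B j U e', ?_⟩
      change ρ (ofSec B U (j.app U e')) = ρ φ ^ n * ofSec B _ (j.app _ e)
      rw [hρ, j_res, ← he', j_smul, map_pow, str_res]
  | zero => exact ⟨0, 0, Subring.zero_mem _, by simp⟩
  | one => exact ⟨0, 1, Subring.one_mem _, by simp⟩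
  | add x y _ _ hx hy =>
    obtain ⟨n₁, c₁, hc₁, e₁⟩ := hx
    obtain ⟨n₂, c₂, hc₂, e₂⟩ := hy
    refine ⟨n₁ + n₂, φ ^ n₂ * c₁ + φ ^ n₁ * c₂, ?_, ?_⟩
    · exact Subring.add_mem _
        (Subring.mul_mem _ (Subring.pow_mem _ (str_mem_C B j U f) _) hc₁)
        (Subring.mul_mem _ (Subring.pow_mem _ (str_mem_C B j U f) _) hc₂)
    · rw [map_add, map_mul, map_mul, map_pow, map_pow, e₁, e₂]
      ring
  | neg x _ hx =>
    obtain ⟨n, c, hc, e⟩ := hx
    exact ⟨n, -c, Subring.neg_mem _ hc, by rw [map_neg, e]; ring⟩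
  | mul x y _ _ hx hy =>
    obtain ⟨n₁, c₁, hc₁, e₁⟩ := hx
    obtain ⟨n₂, c₂, hc₂, e₂⟩ := hy
    refine ⟨n₁ + n₂, c₁ * c₂, Subring.mul_mem _ hc₁ hc₂, ?_⟩
    rw [map_mul, e₁, e₂]
    ring

/-- If the restriction of `b` to `D(f)` lies in `C(D(f))`, some power of `f` multiplies `b` into
`C(U)`. -/
theorem exists_pow_mul_mem_C [E.IsQuasicoherent] {U : X.Opens} (hU : IsAffineOpen U) (f : Γ(X, U))
    (b : B.presheaf.obj (op U))
    (hb : (B.presheaf.map (homOfLE (X.basicOpen_le f)).op).hom b ∈ C B j (X.basicOpen f)) :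
    ∃ n : ℕ, (B.str.app (op U)).hom (f ^ n) * b ∈ C B j U := by
  obtain ⟨n, c, hc, e⟩ := exists_pow_mul_of_mem_C B j hU f hb
  letI := (B.presheaf.map (homOfLE (X.basicOpen_le f)).op).hom.toAlgebra
  haveI : IsLocalization.Away ((B.str.app (op U)).hom f) (B.presheaf.obj (op (X.basicOpen f))) :=
    B.isQC U hU f
  have h0 : algebraMap (B.presheaf.obj (op U)) (B.presheaf.obj (op (X.basicOpen f)))
      (c - (B.str.app (op U)).hom f ^ n * b) = 0 := by
    change (B.presheaf.map (homOfLE (X.basicOpen_le f)).op).hom _ = 0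
    rw [map_sub, map_mul, map_pow, e, sub_self]
  obtain ⟨⟨_, m, rfl⟩, hm⟩ := (IsLocalization.map_eq_zero_iff
    (Submonoid.powers ((B.str.app (op U)).hom f)) _ _).mp h0
  refine ⟨m + n, ?_⟩
  have h1 : (B.str.app (op U)).hom (f ^ (m + n)) * b = (B.str.app (op U)).hom f ^ m * c := by
    have hm' : (B.str.app (op U)).hom f ^ m * (c - (B.str.app (op U)).hom f ^ n * b) = 0 := hm
    rw [map_pow, pow_add, mul_assoc]
    rw [mul_sub, sub_eq_zero] at hm'
    exact hm'.symm
  rw [h1]
  exact Subring.mul_mem _ (Subring.pow_mem _ (str_mem_C B j U f) _) hc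

/-- `C(U) = ⊤` can be checked on a cover of `U` by basic opens. -/
theorem C_eq_top_of_span [E.IsQuasicoherent] {U : X.Opens} (hU : IsAffineOpen U) (s : Set Γ(X, U))
    (hs : Ideal.span s = ⊤) (h : ∀ f ∈ s, C B j (X.basicOpen f) = ⊤) : C B j U = ⊤ := by
  rw [eq_top_iff]
  intro b _
  let I : Ideal Γ(X, U) :=
    { carrier := {r | (B.str.app (op U)).hom r * b ∈ C B j U}
      add_mem' := fun {r₁ r₂} h₁ h₂ => by
        change (B.str.app (op U)).hom (r₁ + r₂) * b ∈ C B j U
        rw [map_add, add_mul]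
        exact Subring.add_mem _ h₁ h₂
      zero_mem' := by
        change (B.str.app (op U)).hom 0 * b ∈ C B j U
        rw [map_zero, zero_mul]
        exact Subring.zero_mem _
      smul_mem' := fun a r hr => by
        change (B.str.app (op U)).hom (a * r) * b ∈ C B j U
        rw [map_mul, mul_assoc]
        exact Subring.mul_mem _ (str_mem_C B j U a) hr }
  have hI : I.radical = ⊤ := by
    rw [eq_top_iff, ← hs, Ideal.span_le]
    intro f hf
    obtain ⟨n, hn⟩ := exists_pow_mul_mem_C B j hU f b (by rw [h f hf]; exact Subring.mem_top _)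
    exact ⟨n, hn⟩
  have h1 : (1 : Γ(X, U)) ∈ I := by
    rw [Ideal.radical_eq_top.mp hI]
    exact Submodule.mem_top
  have h2 : (B.str.app (op U)).hom 1 * b ∈ C B j U := h1
  rwa [map_one, one_mul] at h2

/-- GENERATION IS LOCAL: if `E` generates `B` over the members of an affine open cover, it generates
`B` over every affine open. -/
theorem C_eq_top_of_cover [E.IsQuasicoherent] {ι : Type*} (V : ι → X.Opens)
    (hV : ∀ i, IsAffineOpen (V i)) (hcov : ∀ x : X, ∃ i, x ∈ V i) (h : ∀ i, C B j (V i) = ⊤)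
    {U : X.Opens} (hU : IsAffineOpen U) : C B j U = ⊤ := by
  let s : Set Γ(X, U) := {f | C B j (X.basicOpen f) = ⊤}
  refine C_eq_top_of_span B j hU s ?_ fun f hf => hf
  rw [← hU.self_le_iSup_basicOpen_iff]
  intro x hx
  obtain ⟨i, hi⟩ := hcov x
  obtain ⟨f, g, hfg, hxf⟩ := exists_basicOpen_le_affine_inter hU (hV i) x ⟨hx, hi⟩
  refine Opens.mem_iSup.mpr ⟨⟨f, ?_⟩, hxf⟩
  change C B j (X.basicOpen f) = ⊤
  rw [hfg]
  exact C_basicOpen_eq_top B j (hV i) g (h i)

end Groth.Agent.Lib.H90QCAlg
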