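import Mathlib
import Groth.Agent.Lib.H90QCAlgGen
import Groth.Agent.Lib.H90CohSum

/-!
# A finite type quasi-coherent algebra is generated by a finite type quasi-coherent submodule
-/

set_option autoImplicit false
universe u

open AlgebraicGeometry CategoryTheory TopologicalSpace Opposite
open Groth.Agent.Lib.QCohStalk

namespace Groth.Agent.Lib.H90QCAlg

variable {X : Scheme.{u}} (B : RelSpec.QCAlg X)

set_option backward.isDefEq.respectTransparency false in
theorem exists_generating_submodule [CompactSpace X]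
    (hB : ∀ U : X.affineOpens, (B.str.app (op (U : X.Opens))).hom.FiniteType)
    (H : ∀ (U : X.affineOpens) (s : Γ(B.toModule, U.1)), ∃ (G' : X.Modules)
      (i' : G' ⟶ B.toModule), Mono i' ∧ G'.IsQuasicoherent ∧ CohB1.IsFT G' ∧
        ∃ g : Γ(G', U.1), i'.app U.1 g = s) :
    ∃ (E : X.Modules) (j : E ⟶ B.toModule), Mono j ∧ E.IsQuasicoherent ∧ CohB1.IsFT E ∧
      ∀ U : X.affineOpens, C B j U.1 = ⊤ := by
  classical
  obtain ⟨s, hs, hcov⟩ := (isCompact_iff_finite_and_eq_biUnion_affineOpens (U := (⊤ : X.Opens))).mp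
    (by simpa using isCompact_univ)
  haveI : Finite s := hs
  -- finite generating sets
  have hgen : ∀ U : X.affineOpens, ∃ T : Finset (B.presheaf.obj (op (U : X.Opens))),
      letI := (B.str.app (op (U : X.Opens))).hom.toAlgebra
      Algebra.adjoin Γ(X, (U : X.Opens)) (T : Set (B.presheaf.obj (op (U : X.Opens)))) = ⊤ := by
    intro U
    letI := (B.str.app (op (U : X.Opens))).hom.toAlgebra
    have h : Algebra.FiniteType Γ(X, (U : X.Opens)) (B.presheaf.obj (op (U : X.Opens))) := hB U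
    exact h.out
  choose T hT using hgen
  let K : Type u := Σ U : s, {b // b ∈ T U.1}
  haveI : Finite K := inferInstance
  obtain ⟨n, ⟨e⟩⟩ := Finite.exists_equiv_fin K
  have hH : ∀ k : Fin n, ∃ (G' : X.Modules) (i' : G' ⟶ B.toModule), Mono i' ∧ G'.IsQuasicoherent ∧
      CohB1.IsFT G' ∧ ∃ g : Γ(G', (e.symm k).1.1.1), i'.app (e.symm k).1.1.1 g =
        toSec B _ (e.symm k).2.1 := fun k => H (e.symm k).1.1 _
  choose P i' hmono hq hft g hg using hH
  obtain ⟨E, j, hj, hE, hl⟩ := Groth.Agent.Lib.H90CohSum.exists_coh_sum B.toModule P i'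
    (fun k => ⟨hq k, hft k⟩)
  haveI := hE.1
  choose l hl using hl
  refine ⟨E, j, hj, hE.1, hE.2, fun U => ?_⟩
  refine C_eq_top_of_cover B j (fun V : s => V.1.1) (fun V => V.1.2) ?_ ?_ U.2
  · intro x
    have hx : x ∈ (⊤ : X.Opens) := trivial
    rw [hcov] at hx
    obtain ⟨V, hx⟩ := Opens.mem_iSup.mp hx
    obtain ⟨hV, hx⟩ := Opens.mem_iSup.mp hx
    exact ⟨⟨V, hV⟩, hx⟩
  · intro V
    letI := (B.str.app (op (V.1 : X.Opens))).hom.toAlgebra
    have h1 := Algebra.adjoin_eq_ring_closure (R := Γ(X, (V.1 : X.Opens)))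
      (T V.1 : Set (B.presheaf.obj (op (V.1 : X.Opens))))
    rw [hT V.1] at h1
    rw [eq_top_iff]
    have h2 : (⊤ : Subring (B.presheaf.obj (op (V.1 : X.Opens)))) =
        Subring.closure (Set.range (algebraMap Γ(X, (V.1 : X.Opens))
          (B.presheaf.obj (op (V.1 : X.Opens)))) ∪ (T V.1 : Set _)) := by
      rw [← h1]; rfl
    rw [h2]
    apply Subring.closure_mono
    apply Set.union_subset_union_right
    intro b hb
    let k : Fin n := e ⟨V, ⟨b, hb⟩⟩
    have hk : e.symm k = ⟨V, ⟨b, hb⟩⟩ := e.symm_apply_apply _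
    have key : ∀ (κ : K) (hκ : e.symm k = κ), κ.2.1 ∈ Set.range
        (fun x : Γ(E, κ.1.1.1) => ofSec B κ.1.1.1 (j.app κ.1.1.1 x)) := by
      intro κ hκ
      subst hκ
      refine ⟨(l k).app _ (g k), ?_⟩
      change ofSec B _ ((l k ≫ j).app _ (g k)) = _
      rw [hl k, hg k]
      rfl
    exact key _ hk

end Groth.Agent.Lib.H90QCAlg
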