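import Mathlib
import Groth.Agent.Lib.H90QCAlgGen

/-!
# The quasi-coherent subalgebra generated by a quasi-coherent submodule of a quasi-coherent algebra
-/

set_option autoImplicit false
universe u

open AlgebraicGeometry CategoryTheory TopologicalSpace Opposite
open Groth.Agent.Lib.QCohStalk Groth.Agent.Lib.AffVanSections Groth.Agent.Lib.H90OXModExt

namespace Groth.Agent.Lib.H90QCAlg

variable {X : Scheme.{u}} (B : RelSpec.QCAlg X) {E : X.Modules} (j : E ⟶ B.toModule)

/-- Restriction maps of `B`. -/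
noncomputable abbrev rB {W V : X.Opens} (h : W ≤ V) :
    B.presheaf.obj (op V) →+* B.presheaf.obj (op W) :=
  (B.presheaf.map (homOfLE h).op).hom

theorem rB_rB {W' W V : X.Opens} (h' : W' ≤ W) (h : W ≤ V) (t : B.presheaf.obj (op V)) :
    rB B h' (rB B h t) = rB B (h'.trans h) t := by
  change ((B.presheaf.map (homOfLE h).op) ≫ (B.presheaf.map (homOfLE h').op)).hom t = _
  rw [← B.presheaf.map_comp]
  rfl

theorem rB_self {V : X.Opens} (t : B.presheaf.obj (op V)) : rB B (le_refl V) t = t := by
  change (B.presheaf.map (𝟙 _)).hom t = t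
  rw [B.presheaf.map_id]
  rfl

/-- elementwise version of `C_eq_top_of_span`. -/
theorem mem_C_of_span [E.IsQuasicoherent] {U : X.Opens} (hU : IsAffineOpen U) (s : Set Γ(X, U))
    (hs : Ideal.span s = ⊤) (b : B.presheaf.obj (op U))
    (h : ∀ f ∈ s, rB B (X.basicOpen_le f) b ∈ C B j (X.basicOpen f)) : b ∈ C B j U := by
  let I : Ideal Γ(X, U) :=
    { carrier := {r | (B.str.app (op U)).hom r * b ∈ C B j U}
      add_mem' := fun {r₁ r₂} h₁ h₂ => by
        change (B.str.app (op U)).hom (r₁ + r₂) * b ∈ C B j U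
        rw [map_add, add_mul]
        exact Subring.add_mem _ h₁ h₂
      zero_mem' := by
        change (B.str.app (op U)).hom 0 * b ∈ C B j U
        rw [map_zero, zero_mul]
        exact Subring.zero_mem _
      smul_mem' := fun a r hr => by
        change (B.str.app (op U)).hom (a * r) * b ∈ C B j U
        rw [map_mul, mul_assoc]
        exact Subring.mul_mem _ (str_mem_C B j U a) hr }
  have hI : I.radical = ⊤ := by
    rw [eq_top_iff, ← hs, Ideal.span_le]
    intro f hf
    obtain ⟨n, hn⟩ := exists_pow_mul_mem_C B j hU f b (h f hf)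
    exact ⟨n, hn⟩
  have h1 : (1 : Γ(X, U)) ∈ I := by
    rw [Ideal.radical_eq_top.mp hI]
    exact Submodule.mem_top
  have h2 : (B.str.app (op U)).hom 1 * b ∈ C B j U := h1
  rwa [map_one, one_mul] at h2

/-- Sections of `B` locally in the subring generated by `E`. -/
def S (V : X.Opens) : Subring (B.presheaf.obj (op V)) where
  carrier := {t | ∀ x ∈ V, ∃ (W : X.Opens) (h : W ≤ V), x ∈ W ∧ rB B h t ∈ C B j W}
  mul_mem' := by
    intro a b ha hb x hx
    obtain ⟨W₁, h₁, hx₁, m₁⟩ := ha x hx
    obtain ⟨W₂, h₂, hx₂, m₂⟩ := hb x hx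
    refine ⟨W₁ ⊓ W₂, inf_le_left.trans h₁, ⟨hx₁, hx₂⟩, ?_⟩
    rw [map_mul]
    refine Subring.mul_mem _ ?_ ?_
    · have := res_mem_C B j (inf_le_left : W₁ ⊓ W₂ ≤ W₁) m₁
      rwa [rB_rB] at this
    · have := res_mem_C B j (inf_le_right : W₁ ⊓ W₂ ≤ W₂) m₂
      rwa [rB_rB] at this
  one_mem' := fun x hx => ⟨V, le_rfl, hx, by rw [map_one]; exact Subring.one_mem _⟩
  add_mem' := by
    intro a b ha hb x hx
    obtain ⟨W₁, h₁, hx₁, m₁⟩ := ha x hx
    obtain ⟨W₂, h₂, hx₂, m₂⟩ := hb x hx
    refine ⟨W₁ ⊓ W₂, inf_le_left.trans h₁, ⟨hx₁, hx₂⟩, ?_⟩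
    rw [map_add]
    refine Subring.add_mem _ ?_ ?_
    · have := res_mem_C B j (inf_le_left : W₁ ⊓ W₂ ≤ W₁) m₁
      rwa [rB_rB] at this
    · have := res_mem_C B j (inf_le_right : W₁ ⊓ W₂ ≤ W₂) m₂
      rwa [rB_rB] at this
  zero_mem' := fun x hx => ⟨V, le_rfl, hx, by rw [map_zero]; exact Subring.zero_mem _⟩
  neg_mem' := by
    intro a ha x hx
    obtain ⟨W₁, h₁, hx₁, m₁⟩ := ha x hx
    exact ⟨W₁, h₁, hx₁, by rw [map_neg]; exact Subring.neg_mem _ m₁⟩

theorem mem_S_iff (V : X.Opens) (t : B.presheaf.obj (op V)) :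
    t ∈ S B j V ↔ ∀ x ∈ V, ∃ (W : X.Opens) (h : W ≤ V), x ∈ W ∧ rB B h t ∈ C B j W := Iff.rfl

theorem C_le_S (V : X.Opens) : C B j V ≤ S B j V := fun t ht x hx =>
  ⟨V, le_rfl, hx, by rwa [rB_self]⟩

theorem res_mem_S {V' V : X.Opens} (h : V' ≤ V) {t : B.presheaf.obj (op V)} (ht : t ∈ S B j V) :
    rB B h t ∈ S B j V' := by
  intro x hx
  obtain ⟨W, hW, hxW, m⟩ := ht x (h hx)
  refine ⟨W ⊓ V', inf_le_right, ⟨hxW, hx⟩, ?_⟩
  rw [rB_rB]
  have := res_mem_C B j (inf_le_left : W ⊓ V' ≤ W) m
  rwa [rB_rB] at this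

theorem mem_S_of_local (V : X.Opens) (t : B.presheaf.obj (op V))
    (h : ∀ x ∈ V, ∃ (W : X.Opens) (h : W ≤ V), x ∈ W ∧ rB B h t ∈ S B j W) : t ∈ S B j V := by
  intro x hx
  obtain ⟨W, hW, hxW, m⟩ := h x hx
  obtain ⟨W', hW', hxW', m'⟩ := m x hxW
  refine ⟨W', hW'.trans hW, hxW', ?_⟩
  rwa [rB_rB] at m'

/-- On an affine open, `S = C`. -/
theorem S_eq_C [E.IsQuasicoherent] {V : X.Opens} (hV : IsAffineOpen V) : S B j V = C B j V := by
  apply le_antisymm _ (C_le_S B j V)
  intro t ht
  let s : Set Γ(X, V) := {f | rB B (X.basicOpen_le f) t ∈ C B j (X.basicOpen f)}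
  refine mem_C_of_span B j hV s ?_ t fun f hf => hf
  rw [← hV.self_le_iSup_basicOpen_iff]
  intro x hx
  obtain ⟨W, hW, hxW, m⟩ := ht x hx
  obtain ⟨f, hfW, hxf⟩ := hV.exists_basicOpen_le ⟨x, hxW⟩ hx
  refine Opens.mem_iSup.mpr ⟨⟨f, ?_⟩, hxf⟩
  change rB B _ t ∈ C B j (X.basicOpen f)
  have := res_mem_C B j hfW m
  rwa [rB_rB] at this

theorem map_mem_S {V W : (Opens X)ᵒᵖ} (i : V ⟶ W) {t : B.presheaf.obj V}
    (ht : t ∈ S B j V.unop) : (B.presheaf.map i).hom t ∈ S B j W.unop :=
  res_mem_S B j (leOfHom i.unop) ht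

/-- The sub-presheaf of rings of `B` of sections locally generated by `E`. -/
noncomputable def subPresheaf : TopCat.Presheaf CommRingCat.{u} X.carrier where
  obj V := CommRingCat.of (S B j V.unop)
  map {V W} i := CommRingCat.ofHom
    (((B.presheaf.map i).hom.comp (S B j V.unop).subtype).codRestrict (S B j W.unop)
      (fun t => map_mem_S B j i t.2))
  map_id V := by
    ext t
    change (B.presheaf.map (𝟙 V)).hom t.1 = t.1
    rw [B.presheaf.map_id]
    rfl
  map_comp {U V W} i i' := by
    ext t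
    change (B.presheaf.map (i ≫ i')).hom t.1 = (B.presheaf.map i').hom ((B.presheaf.map i).hom t.1)
    rw [B.presheaf.map_comp]
    rfl

/-- The inclusion of the sub-presheaf. -/
noncomputable def subPresheafι : subPresheaf B j ⟶ B.presheaf where
  app V := CommRingCat.ofHom (S B j V.unop).subtype
  naturality V W i := by
    ext t
    rfl

theorem subPresheafι_app_apply (V : (Opens X)ᵒᵖ) (t : (subPresheaf B j).obj V) :
    ((subPresheafι B j).app V).hom t = (show ↥(S B j V.unop) from t).1 := rfl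

theorem subPresheaf_map_val {V W : (Opens X)ᵒᵖ} (i : V ⟶ W) (t : (subPresheaf B j).obj V) :
    (show ↥(S B j W.unop) from ((subPresheaf B j).map i).hom t).1 =
      (B.presheaf.map i).hom (show ↥(S B j V.unop) from t).1 := rfl

set_option backward.isDefEq.respectTransparency false in
theorem isSheaf_subPresheaf : (subPresheaf B j).IsSheaf := by
  rw [TopCat.Presheaf.isSheaf_iff_isSheafUniqueGluing]
  intro ι U sf hsf
  have hB := (TopCat.Presheaf.isSheaf_iff_isSheafUniqueGluing _).mp B.isSheaf
  let sf' : ∀ i, ToType (B.presheaf.obj (op (U i))) := fun i => (show ↥(S B j (U i)) from sf i).1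
  have hsf' : TopCat.Presheaf.IsCompatible B.presheaf U sf' := by
    intro i k
    exact congrArg Subtype.val (hsf i k)
  obtain ⟨s, hs, hs'⟩ := hB U sf' hsf'
  have hmem : s ∈ S B j (iSup U) := by
    apply mem_S_of_local
    intro x hx
    obtain ⟨i, hi⟩ := Opens.mem_iSup.mp hx
    refine ⟨U i, le_iSup U i, hi, ?_⟩
    have := hs i
    change rB B _ s = _ at this
    rw [this]
    exact (show ↥(S B j (U i)) from sf i).2
  refine ⟨(show ↥(S B j (iSup U)) from ⟨s, hmem⟩), ?_, ?_⟩
  · intro i
    apply Subtype.ext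
    exact hs i
  · intro t ht
    apply Subtype.ext
    apply hs'
    intro i
    exact congrArg Subtype.val (ht i)

/-- The structure map of the sub-presheaf. -/
noncomputable def subStr : X.presheaf ⟶ subPresheaf B j where
  app V := CommRingCat.ofHom ((B.str.app V).hom.codRestrict (S B j V.unop)
    (fun r => C_le_S B j V.unop (str_mem_C B j V.unop r)))
  naturality V W i := by
    ext r
    have := congr_arg (fun ψ => ψ.hom r) (B.str.naturality i)
    simp only [CommRingCat.hom_comp] at this
    apply Subtype.ext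
    exact this

theorem subStr_ι : subStr B j ≫ subPresheafι B j = B.str := by
  ext V r
  rfl

set_option backward.isDefEq.respectTransparency false in
theorem isQC_sub [E.IsQuasicoherent] : RelSpec.IsQC (subPresheaf B j) (subStr B j) := by
  intro U hU r
  letI := ((subPresheaf B j).map (homOfLE (X.basicOpen_le r)).op).hom.toAlgebra
  letI := (B.presheaf.map (homOfLE (X.basicOpen_le r)).op).hom.toAlgebra
  haveI hBloc : IsLocalization.Away ((B.str.app (op U)).hom r)
    (B.presheaf.obj (op (X.basicOpen r))) := B.isQC U hU r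
  change IsLocalization (Submonoid.powers (((subStr B j).app (op U)).hom r))
    ((subPresheaf B j).obj (op (X.basicOpen r)))
  rw [isLocalization_iff]
  have halg : ∀ x : (subPresheaf B j).obj (op U),
      (show ↥(S B j (X.basicOpen r)) from
        algebraMap ((subPresheaf B j).obj (op U)) ((subPresheaf B j).obj (op (X.basicOpen r))) x).1 =
        rB B (X.basicOpen_le r) (show ↥(S B j U) from x).1 := fun x => rfl
  have hstr : (show ↥(S B j U) from ((subStr B j).app (op U)).hom r).1 = (B.str.app (op U)).hom r :=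
    rfl
  refine ⟨?_, ?_, ?_⟩
  · rintro ⟨_, n, rfl⟩
    rw [map_pow]
    apply IsUnit.pow
    obtain ⟨u, hu⟩ : ∃ u : Γ(X, X.basicOpen r), resO X (X.basicOpen_le r) r * u = 1 :=
      (isUnit_resO_basicOpen r).exists_right_inv
    refine IsUnit.of_mul_eq_one (((subStr B j).app (op (X.basicOpen r))).hom u) ?_
    apply Subtype.ext
    change rB B (X.basicOpen_le r) ((B.str.app (op U)).hom r) *
      (B.str.app (op (X.basicOpen r))).hom u = 1
    rw [← str_res, ← map_mul, hu, map_one]
  · intro z
    have hz : (show ↥(S B j (X.basicOpen r)) from z).1 ∈ C B j (X.basicOpen r) := by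
      rw [← S_eq_C B j (hU.basicOpen r)]
      exact (show ↥(S B j (X.basicOpen r)) from z).2
    obtain ⟨n, c, hc, e⟩ := exists_pow_mul_of_mem_C B j hU r hz
    refine ⟨⟨(show (subPresheaf B j).obj (op U) from (⟨c, C_le_S B j U hc⟩ : ↥(S B j U))),
      ⟨_, n, rfl⟩⟩, ?_⟩
    apply Subtype.ext
    change (show ↥(S B j (X.basicOpen r)) from z).1 *
      (show ↥(S B j (X.basicOpen r)) from algebraMap ((subPresheaf B j).obj (op U))
        ((subPresheaf B j).obj (op (X.basicOpen r))) (((subStr B j).app (op U)).hom r ^ n)).1 =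
      rB B (X.basicOpen_le r) c
    rw [halg]
    change _ * rB B (X.basicOpen_le r) ((B.str.app (op U)).hom r ^ n) = _
    rw [map_pow, mul_comm]
    exact e.symm
  · intro x y hxy
    have h1 : algebraMap (B.presheaf.obj (op U)) (B.presheaf.obj (op (X.basicOpen r)))
        (show ↥(S B j U) from x).1 = algebraMap (B.presheaf.obj (op U))
        (B.presheaf.obj (op (X.basicOpen r))) (show ↥(S B j U) from y).1 := by
      have := congrArg Subtype.val hxy
      exact this
    obtain ⟨⟨_, m, rfl⟩, hm⟩ := IsLocalization.exists_of_eq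
      (M := Submonoid.powers ((B.str.app (op U)).hom r)) h1
    refine ⟨⟨_, m, rfl⟩, ?_⟩
    apply Subtype.ext
    exact hm

/-- The quasi-coherent subalgebra of `B` generated by the quasi-coherent submodule `E`. -/
noncomputable def subAlg [E.IsQuasicoherent] : RelSpec.QCAlg X where
  presheaf := subPresheaf B j
  isSheaf := isSheaf_subPresheaf B j
  str := subStr B j
  isQC := isQC_sub B j

/-- The inclusion of the generated subalgebra. -/
noncomputable def subAlgι [E.IsQuasicoherent] : subAlg B j ⟶ B :=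
  ⟨subPresheafι B j, subStr_ι B j⟩

theorem subAlgι_injective [E.IsQuasicoherent] (V : X.Opens) :
    Function.Injective ((subAlgι B j).hom.app (op V)).hom := fun _ _ h => Subtype.ext h

theorem mem_range_subAlgι [E.IsQuasicoherent] (V : X.Opens) (b : B.presheaf.obj (op V))
    (hb : b ∈ S B j V) : b ∈ Set.range ((subAlgι B j).hom.app (op V)).hom :=
  ⟨(show (subPresheaf B j).obj (op V) from (⟨b, hb⟩ : ↥(S B j V))), rfl⟩

set_option backward.isDefEq.respectTransparency false in
/-- If `E(V)` is a finite module (`V` affine), the subalgebra generated by `E` is of finite type over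
`V`. -/
theorem finiteType_subAlg [E.IsQuasicoherent] {V : X.Opens} (hV : IsAffineOpen V)
    (hfin : Module.Finite Γ(X, V) Γ(E, V)) :
    ((subAlg B j).str.app (op V)).hom.FiniteType := by
  letI : Algebra Γ(X, V) ((subPresheaf B j).obj (op V)) :=
    ((subStr B j).app (op V)).hom.toAlgebra
  change Algebra.FiniteType Γ(X, V) ((subPresheaf B j).obj (op V))
  classical
  obtain ⟨G, hG⟩ := hfin.fg_top
  let jS : Γ(E, V) → (subPresheaf B j).obj (op V) := fun e =>
    (show (subPresheaf B j).obj (op V) from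
      (⟨ofSec B V (j.app V e), C_le_S B j V (j_mem_C B j V e)⟩ : ↥(S B j V)))
  refine ⟨⟨G.image jS, ?_⟩⟩
  set A := Algebra.adjoin Γ(X, V) ((G.image jS : Finset _) : Set ((subPresheaf B j).obj (op V)))
    with hA
  have hjS : ∀ e : Γ(E, V), jS e ∈ A := by
    intro e
    have he : e ∈ Submodule.span Γ(X, V) (G : Set Γ(E, V)) := by rw [hG]; exact Submodule.mem_top
    induction he using Submodule.span_induction with
    | mem x hx =>
      apply Algebra.subset_adjoin
      rw [Finset.coe_image]
      exact ⟨x, hx, rfl⟩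
    | zero =>
      have : jS 0 = 0 := by
        apply Subtype.ext
        change ofSec B V (j.app V 0) = 0
        rw [map_zero]
        rfl
      rw [this]
      exact Subalgebra.zero_mem _
    | add x y _ _ hx hy =>
      have : jS (x + y) = jS x + jS y := by
        apply Subtype.ext
        change ofSec B V (j.app V (x + y)) = ofSec B V (j.app V x) + ofSec B V (j.app V y)
        rw [map_add]
        rfl
      rw [this]
      exact Subalgebra.add_mem _ hx hy
    | smul r x _ hx =>
      have : jS (r • x) = algebraMap Γ(X, V) ((subPresheaf B j).obj (op V)) r * jS x := by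
        apply Subtype.ext
        change ofSec B V (j.app V (r • x)) = (B.str.app (op V)).hom r * ofSec B V (j.app V x)
        exact j_smul B j V r x
      rw [this]
      exact Subalgebra.mul_mem _ (Subalgebra.algebraMap_mem _ r) hx
  rw [eq_top_iff]
  intro t _
  have htC : (show ↥(S B j V) from t).1 ∈ C B j V := by
    rw [← S_eq_C B j hV]
    exact (show ↥(S B j V) from t).2
  have key : ∀ b : B.presheaf.obj (op V), b ∈ C B j V → ∃ hb : b ∈ S B j V,
      (show (subPresheaf B j).obj (op V) from (⟨b, hb⟩ : ↥(S B j V))) ∈ A := by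
    intro b hb
    induction hb using Subring.closure_induction with
    | mem x hx =>
      rcases hx with ⟨r, rfl⟩ | ⟨e, rfl⟩
      · exact ⟨C_le_S B j V (str_mem_C B j V r), Subalgebra.algebraMap_mem A r⟩
      · exact ⟨C_le_S B j V (j_mem_C B j V e), hjS e⟩
    | zero => exact ⟨Subring.zero_mem _, Subalgebra.zero_mem A⟩
    | one => exact ⟨Subring.one_mem _, Subalgebra.one_mem A⟩
    | add x y _ _ hx hy =>
      obtain ⟨hx1, hx2⟩ := hx
      obtain ⟨hy1, hy2⟩ := hy
      exact ⟨Subring.add_mem _ hx1 hy1, Subalgebra.add_mem A hx2 hy2⟩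
    | neg x _ hx =>
      obtain ⟨hx1, hx2⟩ := hx
      exact ⟨Subring.neg_mem _ hx1, Subalgebra.neg_mem A hx2⟩
    | mul x y _ _ hx hy =>
      obtain ⟨hx1, hx2⟩ := hx
      obtain ⟨hy1, hy2⟩ := hy
      exact ⟨Subring.mul_mem _ hx1 hy1, Subalgebra.mul_mem A hx2 hy2⟩
  obtain ⟨_, h2⟩ := key _ htC
  exact h2

end Groth.Agent.Lib.H90QCAlg
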