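import Groth.Agent.S1110
import Groth.Agent.Lib.FinLocFreeMap92
import Groth.Agent.Lib.H4KoszulPn
import Groth.Agent.Lib.H90OXModLocal

/-!
# Resolutions pulled back from a base with the resolution property (helper90)

* `epi_of_forall_restrict`: a morphism of `O_X`-modules whose restrictions to the members of an open cover are
  epimorphisms is an epimorphism.
* `exists_epi_finLocFree_of_local_generators`: `f : X ⟶ Y` with `Y` qcqs having the resolution property, `M` an
  `O_X`-module with `f_* M` quasi-coherent; if over each member `V_j` of a finite affine open cover of `Y` the module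
  `M|_{f⁻¹ V_j}` is generated by finitely many sections over `f⁻¹ V_j`, then `M` is a quotient of a finite locally
  free `O_X`-module (a finite sum of pullbacks of finite locally free `O_Y`-modules).
-/

set_option autoImplicit false
universe u
open CategoryTheory CategoryTheory.Limits AlgebraicGeometry TopologicalSpace Opposite
open Groth.Agent.Lib.H90Invertible Groth.Agent.Lib.H78TensorGen Groth.Agent.Lib.H78PullSec
  Groth.Agent.Lib.H78SecCoord Groth.Agent.Lib.FreeModStalk Groth.Agent.Lib.FreeModSch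
  Groth.Agent.Lib.ProjFormulaFLF23 Groth.Agent.Lib.H90OXModExact Groth.Agent.Lib.FinLocFreeMap92

namespace Groth.Agent.Lib.H90ResApprox

/-- a morphism whose restrictions to the members of an open cover are epimorphisms is an epimorphism -/
theorem epi_of_forall_restrict {X : Scheme.{u}} {M N : X.Modules} (π : M ⟶ N) {ι : Type*}
    (U : ι → X.Opens) (hU : ⨆ i, U i = ⊤)
    (h : ∀ i, Epi ((Scheme.Modules.restrictFunctor (U i).ι).map π)) : Epi π := by
  refine Preadditive.epi_of_isZero_cokernel π ?_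
  refine Groth.Agent.Lib.H4KoszulPn.isZero_of_forall_restrict _ U hU fun i => ?_
  haveI := h i
  exact (isZero_cokernel_of_epi ((Scheme.Modules.restrictFunctor (U i).ι).map π)).of_iso
    (PreservesCokernel.iso (Scheme.Modules.restrictFunctor (U i).ι) π)

set_option maxHeartbeats 800000 in
theorem exists_epi_finLocFree_of_local_generators {X Y : Scheme.{u}} (f : X ⟶ Y) [CompactSpace Y]
    [QuasiSeparatedSpace Y] (hY : PerfAux.HasResolutionProperty Y) (M : X.Modules)
    [((Scheme.Modules.pushforward f).obj M).IsQuasicoherent]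
    {n : ℕ} (V : Fin n → Y.Opens) (hV : ∀ j, IsAffineOpen (V j)) (hcov : ∀ y : Y, ∃ j, y ∈ V j)
    (r : Fin n → ℕ) (m : ∀ j, Fin (r j) → Γ(M.restrict (f ⁻¹ᵁ V j).ι, ⊤))
    (hepi : ∀ j, Epi (ofSections (M.restrict (f ⁻¹ᵁ V j).ι) (m j))) :
    ∃ (E : X.Modules) (π : E ⟶ M), FlatMod.IsFinLocFree E ∧ Epi π := by
  classical
  have e' : ∀ j, (f ⁻¹ᵁ V j).ι ''ᵁ ⊤ = f ⁻¹ᵁ V j := fun j => by
    rw [(f ⁻¹ᵁ V j).ι.image_top_eq_opensRange, (f ⁻¹ᵁ V j).opensRange_ι]
  let m₀ : ∀ j, Fin (r j) → Γ(M, f ⁻¹ᵁ V j) := fun j k => rs M (e' j).ge (m j k)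
  -- approximations of `f_* M` by quasi-coherent modules of finite type
  have hN : ∀ j, ∃ (N : Y.Modules) (ν : N ⟶ (Scheme.Modules.pushforward f).obj M),
      N.IsQuasicoherent ∧ CohB1.IsFT N ∧
        ∀ k, ∃ t : Γ(N, V j), ν.app (V j) t = toPush f M (V j) (m₀ j k) := fun j =>
    Groth.Agent.S1110.exists_ft_qcoh_through _ (V j) (hV j) (fun k => toPush f M (V j) (m₀ j k))
  choose N ν hNq hNft ht using hN
  choose t ht using ht
  -- resolutions on `Y`
  have hE : ∀ j, ∃ (E : Y.Modules) (π : E ⟶ N j), FlatMod.IsFinLocFree E ∧ Epi π :=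
    fun j => hY (N j) (hNq j) (hNft j)
  choose E π hE hπ using hE
  have he : ∀ j k, ∃ e : Γ(E j, V j), (π j).app (V j) e = t j k := by
    intro j k
    haveI := hπ j
    haveI : (E j).IsQuasicoherent := isQuasicoherent_of_isFinLocFree (hE j)
    haveI : (N j).IsQuasicoherent := hNq j
    exact surjective_app_of_epi (π j) (hV j) (t j k)
  choose e he using he
  let ψ : ∀ j, (Scheme.Modules.pullback f).obj (E j) ⟶ M := fun j =>
    (Scheme.Modules.pullback f).map (π j) ≫
      ((Scheme.Modules.pullbackPushforwardAdjunction f).homEquiv _ _).symm (ν j)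
  let EE : X.Modules := ⨁ fun j => (Scheme.Modules.pullback f).obj (E j)
  let ρ : EE ⟶ M := biproduct.desc ψ
  let z : ∀ j, Fin (r j) → Γ(EE, f ⁻¹ᵁ V j) := fun j k =>
    (biproduct.ι (fun j => (Scheme.Modules.pullback f).obj (E j)) j).app (f ⁻¹ᵁ V j)
      (pb f (E j) (e j k))
  have hz : ∀ j k, ρ.app (f ⁻¹ᵁ V j) (z j k) = m₀ j k := by
    intro j k
    change (biproduct.ι (fun j => (Scheme.Modules.pullback f).obj (E j)) j ≫
      biproduct.desc ψ).app (f ⁻¹ᵁ V j) (pb f (E j) (e j k)) = _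
    rw [biproduct.ι_desc]
    change (((Scheme.Modules.pullbackPushforwardAdjunction f).homEquiv _ _).symm (ν j)).app _
      (((Scheme.Modules.pullback f).map (π j)).app _ (pb f (E j) (e j k))) = m₀ j k
    rw [pb_map, he j k, Adjunction.homEquiv_counit]
    change ((Scheme.Modules.pullbackPushforwardAdjunction f).counit.app M).app _
      (((Scheme.Modules.pullback f).map (ν j)).app _ (pb f (N j) (t j k))) = _
    rw [pb_map, ht j k]
    exact Groth.Agent.S12057.counit_pb f M (V j) (m₀ j k)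
  refine ⟨EE, ρ, Groth.Agent.Lib.H78BiprodFree.isFinLocFree_biproduct _
      (fun j => isFinLocFree_pullback f (hE j)), ?_⟩
  refine epi_of_forall_restrict ρ (fun j => f ⁻¹ᵁ V j) ?_ fun j => ?_
  · rw [eq_top_iff]
    intro x _
    obtain ⟨j, hj⟩ := hcov (f x)
    exact Opens.mem_iSup.mpr ⟨j, hj⟩
  · let a : FlatMod.freeMod (↑(f ⁻¹ᵁ V j) : Scheme.{u}) (r j) ⟶ EE.restrict (f ⁻¹ᵁ V j).ι :=
      ofSections (EE.restrict (f ⁻¹ᵁ V j).ι) (fun k => rs EE (e' j).le (z j k))
    have hfac : a ≫ (Scheme.Modules.restrictFunctor (f ⁻¹ᵁ V j).ι).map ρ =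
        ofSections (M.restrict (f ⁻¹ᵁ V j).ι) (m j) := by
      refine (ofSections_comp (M := EE.restrict (f ⁻¹ᵁ V j).ι) (N := M.restrict (f ⁻¹ᵁ V j).ι)
        (fun k => rs EE (e' j).le (z j k))
        ((Scheme.Modules.restrictFunctor (f ⁻¹ᵁ V j).ι).map ρ)).trans ?_
      congr 1
      funext k
      change ρ.app ((f ⁻¹ᵁ V j).ι ''ᵁ ⊤) (rs EE (e' j).le (z j k)) = m j k
      rw [app_rs, hz j k]
      exact (rs_rs M (V := (f ⁻¹ᵁ V j).ι ''ᵁ ⊤) (e' j).ge (e' j).le (m j k)).trans
        (rs_self M (V := (f ⁻¹ᵁ V j).ι ''ᵁ ⊤) (m j k))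
    haveI : Epi (a ≫ (Scheme.Modules.restrictFunctor (f ⁻¹ᵁ V j).ι).map ρ) := by
      rw [hfac]; exact hepi j
    exact epi_of_epi a _

end Groth.Agent.Lib.H90ResApprox
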