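import Mathlib
import Groth.Agent.S0002
import Groth.Agent.Lib.RpushSections
import Groth.Agent.Lib.RpushQCoh
import Groth.Agent.Lib.RpushRestrict
import Groth.Agent.Lib.CechLinear9
import Groth.Agent.Lib.H90OXModAffineFT
import Groth.Agent.Lib.H90CohRestrict
import Groth.Agent.Lib.CohLocal

/-!
# Coherence of higher direct images under proper morphisms (helper90)
-/

set_option autoImplicit false
universe u

open CategoryTheory CategoryTheory.Limits AlgebraicGeometry TopologicalSpace Opposite Abelian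

namespace Groth.Agent.Lib.H90RpushCoh

open Groth.Agent.Lib.RpushSections Groth.Agent.Lib.CohLoc

variable {X S : Scheme.{u}} (f : X ⟶ S)

/-- the structure map to `Spec Γ(S, ⊤)` pulls back global functions as `f` does -/
theorem toGlobal_eq_pullFn [IsAffine S] (b : Γ(S, ⊤)) :
    Coh.toGlobal (A := Γ(S, ⊤)) (f ≫ S.isoSpec.hom) b = CohLocPush.pullFn f b := by
  unfold Coh.toGlobal CohLocPush.pullFn
  change ((f ≫ S.isoSpec.hom).appTop).hom ((Scheme.ΓSpecIso Γ(S, ⊤)).inv.hom b) = _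
  rw [Scheme.Hom.comp_appTop]
  change (f.appTop).hom ((S.isoSpec.hom.appTop).hom ((Scheme.ΓSpecIso Γ(S, ⊤)).inv.hom b)) = _
  congr 1
  change (S.toSpecΓ.appTop).hom ((Scheme.ΓSpecIso Γ(S, ⊤)).inv.hom b) = b
  rw [Scheme.toSpecΓ_appTop]
  exact congr($((Scheme.ΓSpecIso Γ(S, ⊤)).inv_hom_id) b)

theorem smulAb_app_top (Nn : S.Modules) (b : Γ(S, ⊤)) (t : Γ(Nn, ⊤)) :
    (show Γ(Nn, ⊤) from (Coh.smulAb Nn b).hom.app (op ⊤) t) = b • t := by
  refine (Coh.smulAb_app Nn b (op ⊤) t).trans ?_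
  congr 1
  change (S.ringCatSheaf.obj.map (𝟙 _)).hom b = b
  rw [S.ringCatSheaf.obj.map_id]
  rfl

/-- **Global sections of `R^q f_* M` are finite** over `Γ(S, O_S)`: `f` proper, `S` affine Noetherian,
`M` coherent. -/
theorem finite_sections_Rpush_of_isAffine [HasInjectiveResolutions X.Modules] [IsProper f]
    [IsAffine S] [IsLocallyNoetherian S] (M : X.Modules) (hM : Coh.IsCoh M) (q : ℕ) :
    Module.Finite Γ(S, ⊤) Γ((Coh.Rpush f q).obj M, ⊤) := by
  haveI : IsNoetherianRing Γ(S, ⊤) :=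
    IsLocallyNoetherian.component_noetherian ⟨⊤, isAffineOpen_top S⟩
  letI : X.Over (Spec (CommRingCat.of Γ(S, ⊤))) := ⟨f ≫ S.isoSpec.hom⟩
  haveI : IsProper (X ↘ Spec (CommRingCat.of Γ(S, ⊤))) :=
    (inferInstance : IsProper (f ≫ S.isoSpec.hom))
  have hfin : Module.Finite Γ(S, ⊤) (Coh.HH X M q) := Groth.Agent.S0002.result Γ(S, ⊤) X M hM q
  obtain ⟨Θ, -, hΘ⟩ := exists_sections_equiv f M q hM.1
  have htop : (⊤ : Opens S) ∈ Set.range (S.basicOpen : Γ(S, ⊤) → Opens S) :=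
    ⟨1, S.basicOpen_one⟩
  let θ : Γ((Coh.Rpush f q).obj M, ⊤) ≃+ CohTop.HU (Coh.toAb M) q (f ⁻¹ᵁ ⊤) := Θ ⊤ htop
  let E : Coh.HH X M q ≃+ CohTop.HU (Coh.toAb M) q (f ⁻¹ᵁ ⊤) :=
    Groth.Agent.Lib.HBridge.HEquivHUTop (Coh.toAb M) q
  let e : Coh.HH X M q ≃ₗ[Γ(S, ⊤)] Γ((Coh.Rpush f q).obj M, ⊤) :=
    { E.trans θ.symm with
      map_smul' := fun b x => by
        change θ.symm (E (b • x)) = b • θ.symm (E x)
        refine (AddEquiv.symm_apply_eq θ).mpr ?_
        have h1 : E (b • x) = gact M (CohLocPush.pullFn f b) q ⊤ (E x) := by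
          rw [← toGlobal_eq_pullFn f b]
          exact Groth.Agent.Lib.CechLinear9.HEquivHUTop_map (Coh.smulAb M _) q x
        have h2 : θ ((Coh.smulAb ((Coh.Rpush f q).obj M) b).hom.app (op ⊤) (θ.symm (E x))) =
            gact M (CohLocPush.pullFn f b) q (f ⁻¹ᵁ ⊤) (θ (θ.symm (E x))) :=
          hΘ ⊤ htop b (θ.symm (E x))
        rw [AddEquiv.apply_symm_apply] at h2
        refine h1.trans (h2.symm.trans ?_)
        congr 1
        exact smulAb_app_top _ b _ }
  exact Module.Finite.equiv e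

/-- coherence of `R^q f_* M` over an affine Noetherian base -/
theorem isCoh_Rpush_of_isAffine [HasInjectiveResolutions X.Modules] [IsProper f]
    [IsAffine S] [IsLocallyNoetherian S] (M : X.Modules) (hM : Coh.IsCoh M) (q : ℕ) :
    Coh.IsCoh ((Coh.Rpush f q).obj M) := by
  haveI : ((Coh.Rpush f q).obj M).IsQuasicoherent :=
    Groth.Agent.Lib.RpushQCoh.isQuasicoherent_Rpush_of_isAffine f M q hM.1
  exact Groth.Agent.Lib.H90OXModAffineFT.isCoh_of_affine_cover _ (fun _ : PUnit.{u+1} => ⊤)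
    (by simp) (fun _ => isAffineOpen_top _)
    fun _ => finite_sections_Rpush_of_isAffine f M hM q

/-- **Higher direct images of coherent modules under proper morphisms are coherent** (locally Noetherian
base). -/
theorem isCoh_Rpush [HasInjectiveResolutions X.Modules] [IsProper f] [IsLocallyNoetherian S]
    (M : X.Modules) (hM : Coh.IsCoh M) (q : ℕ) : Coh.IsCoh ((Coh.Rpush f q).obj M) := by
  refine Groth.Agent.Lib.CohLocal.isCoh_of_forall_restrict_opens _ fun x => ?_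
  obtain ⟨V, hV, hxV, -⟩ := exists_isAffineOpen_mem_and_subset (x := x) (U := ⊤) trivial
  refine ⟨V, hxV, ?_⟩
  haveI : HasInjectiveResolutions (f ⁻¹ᵁ V).toScheme.Modules :=
    Groth.Agent.Lib.RpushRestrict.hasInjectiveResolutions _
  obtain ⟨e⟩ := Groth.Agent.Lib.RpushRestrict.nonempty_iso f V M q
  haveI : IsAffine V.toScheme := hV
  have hM' : Coh.IsCoh (M.restrict (f ⁻¹ᵁ V).ι) :=
    Groth.Agent.Lib.H90CohRestrict.isCoh_restrict (f ⁻¹ᵁ V).ι M hM
  exact Groth.Agent.Lib.H90CohRestrict.isCoh_of_iso e.symm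
    (isCoh_Rpush_of_isAffine (f ∣_ V) (M.restrict (f ⁻¹ᵁ V).ι) hM' q)

end Groth.Agent.Lib.H90RpushCoh
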