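import Groth.Agent.Lib.ProjSpaceCoordH3
import Groth.Agent.Lib.H90ProjHom3

/-!
# The Segre embedding `P^n_R ×_R P^m_R ⟶ P^{nm+n+m}_R` (helper90, keystone ProperFin, stage P1)

Part 1: the morphism.  Charts `Wc i j = D₊(x_i) × D₊(y_j)`, the ring maps `f₀ i j : R[z] → Γ(W, Wc i j)`,
`z_{kl} ↦ (x_k/x_i)(y_l/y_j)`, the chart morphisms `σc i j = FGSo … (f₀ i j)`, their compatibility, and the
glued morphism `segre n m R : P^n_R ×_R P^m_R ⟶ P^N_R`.
-/

set_option autoImplicit false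
universe u
open CategoryTheory CategoryTheory.Limits AlgebraicGeometry TopologicalSpace Opposite MvPolynomial
  HomogeneousLocalization
open Groth.Agent.Lib.H4Twist Groth.Agent.Lib.ProjSpaceCoordH3 Groth.Agent.Lib.H90ProjHom

namespace Groth.Agent.Lib.H90Segre

/-- scaling the variables scales a homogeneous polynomial by the power of the degree -/
theorem eval₂Hom_mul_of_isHomogeneous {R S σ : Type*} [CommRing R] [CommRing S] (c : R →+* S)
    (v : σ → S) (u : S) {d : ℕ} {a : MvPolynomial σ R} (ha : a.IsHomogeneous d) :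
    eval₂Hom c (fun t => u * v t) a = u ^ d * eval₂Hom c v a := by
  rw [← a.support_sum_monomial_coeff, map_sum, map_sum, Finset.mul_sum]
  refine Finset.sum_congr rfl fun s hs => ?_
  have hd : ∑ i ∈ s.support, s i = d := by
    have := ha (mem_support_iff.mp hs)
    rw [← this, Finsupp.weight_apply, Finsupp.sum]
    simp
  rw [eval₂Hom_monomial, eval₂Hom_monomial, Finsupp.prod, Finsupp.prod]
  simp only [mul_pow]
  rw [Finset.prod_mul_distrib, Finset.prod_pow_eq_pow_sum, hd]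
  ring

section Coord

variable (n : ℕ) (R : Type u) [CommRing R]

local notation "𝒜" => CohB1.polyGrading n R

/-- restriction of a function on `D₊(X_i)` to a smaller open -/
noncomputable abbrev resD {i : Fin (n + 1)} {V : (Proj 𝒜).Opens} (h : V ≤ D n R i) :
    Γ(Proj 𝒜, D n R i) →+* Γ(Proj 𝒜, V) :=
  ((Proj 𝒜).presheaf.map (homOfLE h).op).hom

theorem τ_mul_τ (k i i' : Fin (n + 1)) :
    resD n R (inf_le_left : D n R i ⊓ D n R i' ≤ D n R i) (τ n R k i) =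
      resD n R (inf_le_right : D n R i ⊓ D n R i' ≤ D n R i') (τ n R k i') *
        resD n R (inf_le_left : D n R i ⊓ D n R i' ≤ D n R i) (τ n R i' i) := by
  refine oval_ext fun y => ?_
  rw [oval_mul]
  erw [oval_map, oval_map, oval_map]
  rw [oval_τ, oval_τ, oval_τ, Localization.mk_mul, Localization.mk_eq_mk_iff, Localization.r_iff_exists]
  exact ⟨1, by simp; ring⟩

end Coord

variable (n m : ℕ) (R : Type u) [CommRing R]

/-- projective space as `Proj` -/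
noncomputable abbrev PP (n : ℕ) (R : Type u) [CommRing R] : Scheme.{u} := Proj (CohB1.polyGrading n R)

/-- structure morphism -/
noncomputable abbrev tS (n : ℕ) (R : Type u) [CommRing R] : PP n R ⟶ Spec (CommRingCat.of R) :=
  CohB1.ProjSpace.toSpec n R

/-- the product `P^n ×_R P^m` -/
noncomputable abbrev W : Scheme.{u} := pullback (tS n R) (tS m R)

/-- first projection -/
noncomputable abbrev pr₁ : W n m R ⟶ PP n R := pullback.fst _ _
/-- second projection -/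
noncomputable abbrev pr₂ : W n m R ⟶ PP m R := pullback.snd _ _

/-- the chart `D₊(x_i) × D₊(y_j)` -/
noncomputable def Wc (i : Fin (n + 1)) (j : Fin (m + 1)) : (W n m R).Opens :=
  pr₁ n m R ⁻¹ᵁ D n R i ⊓ pr₂ n m R ⁻¹ᵁ D m R j

theorem Wc_le_left (i : Fin (n + 1)) (j : Fin (m + 1)) : Wc n m R i j ≤ pr₁ n m R ⁻¹ᵁ D n R i :=
  inf_le_left

theorem Wc_le_right (i : Fin (n + 1)) (j : Fin (m + 1)) : Wc n m R i j ≤ pr₂ n m R ⁻¹ᵁ D m R j :=
  inf_le_right

theorem iSup_Wc : ⨆ ij : Fin (n + 1) × Fin (m + 1), Wc n m R ij.1 ij.2 = ⊤ := by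
  rw [eq_top_iff]
  intro x _
  obtain ⟨i, hi⟩ := exists_mem_D n R (pr₁ n m R x)
  obtain ⟨j, hj⟩ := exists_mem_D m R (pr₂ n m R x)
  exact Opens.mem_iSup.mpr ⟨(i, j), hi, hj⟩

/-- pullback of a function on `D₊(x_i)` to an open of the product -/
noncomputable abbrev pa {i : Fin (n + 1)} {V : (W n m R).Opens} (h : V ≤ pr₁ n m R ⁻¹ᵁ D n R i) :
    Γ(PP n R, D n R i) →+* Γ(W n m R, V) := ((pr₁ n m R).appLE (D n R i) V h).hom

/-- pullback of a function on `D₊(y_j)` to an open of the product -/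
noncomputable abbrev pb {j : Fin (m + 1)} {V : (W n m R).Opens} (h : V ≤ pr₂ n m R ⁻¹ᵁ D m R j) :
    Γ(PP m R, D m R j) →+* Γ(W n m R, V) := ((pr₂ n m R).appLE (D m R j) V h).hom

theorem resO_pa {i : Fin (n + 1)} {V V' : (W n m R).Opens} (h : V ≤ pr₁ n m R ⁻¹ᵁ D n R i)
    (h' : V' ≤ V) (s : Γ(PP n R, D n R i)) :
    resO (W n m R) h' (pa n m R h s) = pa n m R (h'.trans h) s := by
  have := Scheme.Hom.appLE_map (pr₁ n m R) h (homOfLE h').op
  exact congrArg (fun φ => φ.hom s) this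

theorem resO_pb {j : Fin (m + 1)} {V V' : (W n m R).Opens} (h : V ≤ pr₂ n m R ⁻¹ᵁ D m R j)
    (h' : V' ≤ V) (s : Γ(PP m R, D m R j)) :
    resO (W n m R) h' (pb n m R h s) = pb n m R (h'.trans h) s := by
  have := Scheme.Hom.appLE_map (pr₂ n m R) h (homOfLE h').op
  exact congrArg (fun φ => φ.hom s) this

/-- the cocycle relation `x_k/x_i = (x_k/x_i')(x_i'/x_i)` pulled back to the product -/
theorem pa_τ_mul (k i i' : Fin (n + 1)) {V : (W n m R).Opens} (h : V ≤ pr₁ n m R ⁻¹ᵁ D n R i)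
    (h' : V ≤ pr₁ n m R ⁻¹ᵁ D n R i') :
    pa n m R h (τ n R k i) = pa n m R h' (τ n R k i') * pa n m R h (τ n R i' i) := by
  have hV : V ≤ pr₁ n m R ⁻¹ᵁ (D n R i ⊓ D n R i') := le_inf h h'
  have e1 : ∀ s, pa n m R h s =
      ((pr₁ n m R).appLE (D n R i ⊓ D n R i') V hV).hom (resD n R inf_le_left s) := by
    intro s
    have := Scheme.Hom.map_appLE (pr₁ n m R) hV (homOfLE (inf_le_left : D n R i ⊓ D n R i' ≤ D n R i)).op
    exact (congrArg (fun φ => φ.hom s) this).symm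
  have e2 : ∀ s, pa n m R h' s =
      ((pr₁ n m R).appLE (D n R i ⊓ D n R i') V hV).hom (resD n R inf_le_right s) := by
    intro s
    have := Scheme.Hom.map_appLE (pr₁ n m R) hV (homOfLE (inf_le_right : D n R i ⊓ D n R i' ≤ D n R i')).op
    exact (congrArg (fun φ => φ.hom s) this).symm
  rw [e1, e1, e2, ← map_mul, ← τ_mul_τ]

theorem pb_τ_mul (l j j' : Fin (m + 1)) {V : (W n m R).Opens} (h : V ≤ pr₂ n m R ⁻¹ᵁ D m R j)
    (h' : V ≤ pr₂ n m R ⁻¹ᵁ D m R j') :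
    pb n m R h (τ m R l j) = pb n m R h' (τ m R l j') * pb n m R h (τ m R j' j) := by
  have hV : V ≤ pr₂ n m R ⁻¹ᵁ (D m R j ⊓ D m R j') := le_inf h h'
  have e1 : ∀ s, pb n m R h s =
      ((pr₂ n m R).appLE (D m R j ⊓ D m R j') V hV).hom (resD m R inf_le_left s) := by
    intro s
    have := Scheme.Hom.map_appLE (pr₂ n m R) hV (homOfLE (inf_le_left : D m R j ⊓ D m R j' ≤ D m R j)).op
    exact (congrArg (fun φ => φ.hom s) this).symm
  have e2 : ∀ s, pb n m R h' s =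
      ((pr₂ n m R).appLE (D m R j ⊓ D m R j') V hV).hom (resD m R inf_le_right s) := by
    intro s
    have := Scheme.Hom.map_appLE (pr₂ n m R) hV (homOfLE (inf_le_right : D m R j ⊓ D m R j' ≤ D m R j')).op
    exact (congrArg (fun φ => φ.hom s) this).symm
  rw [e1, e1, e2, ← map_mul, ← τ_mul_τ]


/-- the structure ring map -/
noncomputable def ρ : R →+* Γ(W n m R, ⊤) := ProjUP.toGlobal (pr₁ n m R ≫ tS n R)

/-- the target index -/
abbrev NN : ℕ := n * m + n + m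

/-- the index bijection -/
def idx : Fin (n + 1) × Fin (m + 1) ≃ Fin (NN n m + 1) :=
  finProdFinEquiv.trans (finCongr (by unfold NN; ring))

/-- the coefficient map of the Segre ring maps over an open `V` -/
noncomputable abbrev cV (V : (W n m R).Opens) : R →+* Γ(W n m R, V) :=
  (resTop (W n m R) V).comp (ρ n m R)

/-- the values of the variables `z_{kl} ↦ (x_k/x_i)(y_l/y_j)` over an open `V ⊆ Wc i j` -/
noncomputable abbrev vV {i : Fin (n + 1)} {j : Fin (m + 1)} {V : (W n m R).Opens}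
    (h₁ : V ≤ pr₁ n m R ⁻¹ᵁ D n R i) (h₂ : V ≤ pr₂ n m R ⁻¹ᵁ D m R j) (t : Fin (NN n m + 1)) :
    Γ(W n m R, V) :=
  pa n m R h₁ (τ n R ((idx n m).symm t).1 i) * pb n m R h₂ (τ m R ((idx n m).symm t).2 j)

/-- the Segre ring map over an open `V ⊆ Wc i j` -/
noncomputable def fV {i : Fin (n + 1)} {j : Fin (m + 1)} {V : (W n m R).Opens}
    (h₁ : V ≤ pr₁ n m R ⁻¹ᵁ D n R i) (h₂ : V ≤ pr₂ n m R ⁻¹ᵁ D m R j) :
    MvPolynomial (Fin (NN n m + 1)) R →+* Γ(W n m R, V) :=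
  eval₂Hom (cV n m R V) (vV n m R h₁ h₂)

theorem resO_fV {i : Fin (n + 1)} {j : Fin (m + 1)} {V V' : (W n m R).Opens}
    (h₁ : V ≤ pr₁ n m R ⁻¹ᵁ D n R i) (h₂ : V ≤ pr₂ n m R ⁻¹ᵁ D m R j) (h' : V' ≤ V) :
    (resO (W n m R) h').comp (fV n m R h₁ h₂) = fV n m R (h'.trans h₁) (h'.trans h₂) := by
  unfold fV
  rw [comp_eval₂Hom]
  congr 1
  · ext r
    exact map_resTop h' _
  · funext t
    change resO (W n m R) h' (_ * _) = _
    rw [map_mul, resO_pa, resO_pb]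

theorem fV_X {i : Fin (n + 1)} {j : Fin (m + 1)} {V : (W n m R).Opens}
    (h₁ : V ≤ pr₁ n m R ⁻¹ᵁ D n R i) (h₂ : V ≤ pr₂ n m R ⁻¹ᵁ D m R j) (k : Fin (n + 1))
    (l : Fin (m + 1)) :
    fV n m R h₁ h₂ (X (idx n m (k, l))) = pa n m R h₁ (τ n R k i) * pb n m R h₂ (τ m R l j) := by
  unfold fV
  rw [eval₂Hom_X']
  change pa n m R h₁ (τ n R ((idx n m).symm (idx n m (k, l))).1 i) *
    pb n m R h₂ (τ m R ((idx n m).symm (idx n m (k, l))).2 j) = _
  rw [Equiv.symm_apply_apply]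

theorem fV_X_self {i : Fin (n + 1)} {j : Fin (m + 1)} {V : (W n m R).Opens}
    (h₁ : V ≤ pr₁ n m R ⁻¹ᵁ D n R i) (h₂ : V ≤ pr₂ n m R ⁻¹ᵁ D m R j) :
    fV n m R h₁ h₂ (X (idx n m (i, j))) = 1 := by
  rw [fV_X, τ_self, τ_self, map_one, map_one, mul_one]

local notation "𝒜N" => CohB1.polyGrading (NN n m) R

theorem X_mem_irrelevant (t : Fin (NN n m + 1)) :
    (X t : MvPolynomial (Fin (NN n m + 1)) R) ∈ (HomogeneousIdeal.irrelevant 𝒜N).toIdeal := by
  have h1 : (X t : MvPolynomial (Fin (NN n m + 1)) R) ∈ 𝒜N 1 := X_mem (NN n m) R t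
  change (X t : MvPolynomial (Fin (NN n m + 1)) R) ∈ HomogeneousIdeal.irrelevant 𝒜N
  rw [HomogeneousIdeal.mem_irrelevant_iff, GradedRing.proj_apply,
    DirectSum.decompose_of_mem_ne 𝒜N h1 one_ne_zero]

theorem map_fV_eq_top {i : Fin (n + 1)} {j : Fin (m + 1)} {V : (W n m R).Opens}
    (h₁ : V ≤ pr₁ n m R ⁻¹ᵁ D n R i) (h₂ : V ≤ pr₂ n m R ⁻¹ᵁ D m R j) :
    (HomogeneousIdeal.irrelevant 𝒜N).toIdeal.map (fV n m R h₁ h₂) = ⊤ := by
  rw [Ideal.eq_top_iff_one, ← fV_X_self n m R h₁ h₂]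
  exact Ideal.mem_map_of_mem _ (X_mem_irrelevant n m R _)

/-- the Segre morphism on an open `V ⊆ Wc i j` -/
noncomputable def σV {i : Fin (n + 1)} {j : Fin (m + 1)} {V : (W n m R).Opens}
    (h₁ : V ≤ pr₁ n m R ⁻¹ᵁ D n R i) (h₂ : V ≤ pr₂ n m R ⁻¹ᵁ D m R j) :
    V.toScheme ⟶ PP (NN n m) R :=
  FGSo 𝒜N V (fV n m R h₁ h₂) (map_fV_eq_top n m R h₁ h₂)

theorem homOfLE_σV {i : Fin (n + 1)} {j : Fin (m + 1)} {V V' : (W n m R).Opens}
    (h₁ : V ≤ pr₁ n m R ⁻¹ᵁ D n R i) (h₂ : V ≤ pr₂ n m R ⁻¹ᵁ D m R j) (h' : V' ≤ V) :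
    (W n m R).homOfLE h' ≫ σV n m R h₁ h₂ = σV n m R (h'.trans h₁) (h'.trans h₂) := by
  unfold σV
  rw [homOfLE_FGSo]
  congr 1
  exact resO_fV n m R h₁ h₂ h'

/-- independence of the chart -/
theorem σV_eq {i i' : Fin (n + 1)} {j j' : Fin (m + 1)} {V : (W n m R).Opens}
    (h₁ : V ≤ pr₁ n m R ⁻¹ᵁ D n R i) (h₂ : V ≤ pr₂ n m R ⁻¹ᵁ D m R j)
    (h₁' : V ≤ pr₁ n m R ⁻¹ᵁ D n R i') (h₂' : V ≤ pr₂ n m R ⁻¹ᵁ D m R j') :
    σV n m R h₁ h₂ = σV n m R h₁' h₂' := by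
  unfold σV
  refine (FGSo_eq_of_twist 𝒜N V _ _ _ _
    (pa n m R h₁ (τ n R i' i) * pb n m R h₂ (τ m R j' j)) ?_ fun d a ha => ?_).symm
  · refine IsUnit.of_mul_eq_one (pa n m R h₁' (τ n R i i') * pb n m R h₂' (τ m R j j')) ?_
    have e1 := pa_τ_mul n m R i i i' h₁ h₁'
    have e2 := pb_τ_mul n m R j j j' h₂ h₂'
    rw [τ_self, map_one] at e1 e2
    calc _ = (pa n m R h₁' (τ n R i i') * pa n m R h₁ (τ n R i' i)) *
        (pb n m R h₂' (τ m R j j') * pb n m R h₂ (τ m R j' j)) := by ring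
      _ = 1 := by rw [← e1, ← e2, mul_one]
  · have hv : vV n m R h₁ h₂ = fun t => (pa n m R h₁ (τ n R i' i) * pb n m R h₂ (τ m R j' j)) *
        vV n m R h₁' h₂' t := by
      funext t
      change pa n m R h₁ _ * pb n m R h₂ _ = _ * (pa n m R h₁' _ * pb n m R h₂' _)
      rw [pa_τ_mul n m R _ i i' h₁ h₁', pb_τ_mul n m R _ j j' h₂ h₂']
      ring
    unfold fV
    rw [hv]
    exact eval₂Hom_mul_of_isHomogeneous _ _ _ ((mem_homogeneousSubmodule _ _).mp ha)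


/-- the chart cover of the product -/
noncomputable abbrev chartCover : (W n m R).OpenCover :=
  (W n m R).openCoverOfIsOpenCover (fun ij : Fin (n + 1) × Fin (m + 1) => Wc n m R ij.1 ij.2)
    (iSup_Wc n m R)

/-- the Segre morphism on the chart `(i, j)` -/
noncomputable abbrev σc (ij : Fin (n + 1) × Fin (m + 1)) :
    (Wc n m R ij.1 ij.2).toScheme ⟶ PP (NN n m) R :=
  σV n m R (Wc_le_left n m R ij.1 ij.2) (Wc_le_right n m R ij.1 ij.2)

theorem σc_compat (x y : Fin (n + 1) × Fin (m + 1)) :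
    pullback.fst (Wc n m R x.1 x.2).ι (Wc n m R y.1 y.2).ι ≫ σc n m R x =
      pullback.snd (Wc n m R x.1 x.2).ι (Wc n m R y.1 y.2).ι ≫ σc n m R y := by
  have hp := isPullback_opens_inf (Wc n m R x.1 x.2) (Wc n m R y.1 y.2)
  rw [← cancel_epi hp.isoPullback.hom, ← Category.assoc, ← Category.assoc,
    hp.isoPullback_hom_fst, hp.isoPullback_hom_snd, homOfLE_σV, homOfLE_σV]
  exact σV_eq n m R _ _ _ _

/-- **The Segre morphism** `P^n_R ×_R P^m_R ⟶ P^{nm+n+m}_R`. -/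
noncomputable def segre : W n m R ⟶ PP (NN n m) R :=
  (chartCover n m R).glueMorphisms (σc n m R) (σc_compat n m R)

theorem ι_segre (i : Fin (n + 1)) (j : Fin (m + 1)) :
    (Wc n m R i j).ι ≫ segre n m R = σV n m R (Wc_le_left n m R i j) (Wc_le_right n m R i j) :=
  (chartCover n m R).ι_glueMorphisms (σc n m R) (σc_compat n m R) (i, j)

end Groth.Agent.Lib.H90Segre
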