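import Groth.Agent.Lib.H90Segre

/-!
# The Segre embedding, part 2: it is a closed immersion over `Spec R` (helper90, ProperFin P1)
-/

set_option autoImplicit false
universe u
open CategoryTheory CategoryTheory.Limits AlgebraicGeometry TopologicalSpace Opposite MvPolynomial
  HomogeneousLocalization
open Groth.Agent.Lib.H4Twist Groth.Agent.Lib.ProjSpaceCoordH3 Groth.Agent.Lib.H90ProjHom

namespace Groth.Agent.Lib.H90Segre

/-- A morphism to `Spec R` is recovered from its ring map. -/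
theorem toSpecΓ_toGlobal {Y : Scheme.{u}} {R : Type u} [CommRing R] (q : Y ⟶ Spec (CommRingCat.of R)) :
    Y.toSpecΓ ≫ Spec.map (CommRingCat.ofHom (ProjUP.toGlobal q)) = q := by
  have h1 : CommRingCat.ofHom (ProjUP.toGlobal q) = (Scheme.ΓSpecIso (CommRingCat.of R)).inv ≫ q.appTop := rfl
  rw [h1, Spec.map_comp, ← Category.assoc, ← Scheme.toSpecΓ_naturality, Category.assoc,
    toSpecΓ_SpecMap_ΓSpecIso_inv, Category.comp_id]

/-- generation of a pushout of commutative rings by the two images -/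
theorem eq_top_of_isPushout {A B C P : CommRingCat.{u}} {f : A ⟶ B} {g : A ⟶ C} {inl : B ⟶ P}
    {inr : C ⟶ P} (h : IsPushout f g inl inr) (S : Subring P) (hl : ∀ b, inl.hom b ∈ S)
    (hr : ∀ c, inr.hom c ∈ S) : S = ⊤ := by
  let inl' : B ⟶ CommRingCat.of S := CommRingCat.ofHom (inl.hom.codRestrict S hl)
  let inr' : C ⟶ CommRingCat.of S := CommRingCat.ofHom (inr.hom.codRestrict S hr)
  let sub : CommRingCat.of S ⟶ P := CommRingCat.ofHom S.subtype
  have hl' : inl' ≫ sub = inl := by ext b; rfl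
  have hr' : inr' ≫ sub = inr := by ext c; rfl
  have hw : f ≫ inl' = g ≫ inr' := by
    ext a
    exact congrArg (fun φ => φ.hom a) h.w
  let d : P ⟶ CommRingCat.of S := h.desc inl' inr' hw
  have hd : d ≫ sub = 𝟙 P := by
    apply h.hom_ext
    · rw [← Category.assoc, h.inl_desc, hl', Category.comp_id]
    · rw [← Category.assoc, h.inr_desc, hr', Category.comp_id]
  rw [eq_top_iff]
  intro p _
  have : (d ≫ sub).hom p = p := by rw [hd]; rfl
  rw [← this]
  exact (d.hom p).2

variable (n m : ℕ) (R : Type u) [CommRing R]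

local notation "𝒜N" => CohB1.polyGrading (NN n m) R

/-- `V.ι^*` on global functions -/
theorem ι_appTop_eq {Y : Scheme.{u}} (V : Y.Opens) (y : Γ(Y, ⊤)) :
    V.ι.appTop.hom y = V.topIso.inv.hom (resTop Y V y) := by
  apply_fun V.topIso.hom.hom using (ConcreteCategory.bijective_of_isIso V.topIso.hom).1
  rw [topIso_hom_ι_appTop, topIso_hom_inv]

/-- The Segre morphism is a morphism over `Spec R`. -/
theorem segre_tS : segre n m R ≫ tS (NN n m) R = pr₁ n m R ≫ tS n R := by
  refine (chartCover n m R).hom_ext _ _ fun ij => ?_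
  change (Wc n m R ij.1 ij.2).ι ≫ segre n m R ≫ tS (NN n m) R = (Wc n m R ij.1 ij.2).ι ≫ pr₁ n m R ≫ tS n R
  rw [← Category.assoc, ι_segre]
  unfold σV FGSo
  change Proj.fromOfGlobalSections 𝒜N _ _ ≫ Proj.toSpecZero 𝒜N ≫ Spec.map _ = _
  rw [← Category.assoc, Proj.fromOfGlobalSections_toSpecZero, Category.assoc, ← Spec.map_comp,
    ← toSpecΓ_toGlobal ((Wc n m R ij.1 ij.2).ι ≫ pr₁ n m R ≫ tS n R)]
  congr 2
  ext r
  change (Wc n m R ij.1 ij.2).topIso.inv.hom (fV n m R _ _ (algebraMap _ _ (algebraMap R (𝒜N 0) r))) =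
    ((Wc n m R ij.1 ij.2).ι ≫ pr₁ n m R ≫ tS n R).appTop.hom _
  rw [Scheme.Hom.comp_appTop, CommRingCat.hom_comp, RingHom.comp_apply, ι_appTop_eq]
  congr 1
  have : (algebraMap (𝒜N 0) (MvPolynomial (Fin (NN n m + 1)) R)) (algebraMap R (𝒜N 0) r) = C r := rfl
  rw [this]
  unfold fV
  rw [eval₂Hom_C]
  rfl


/-- the standard chart of the target -/
noncomputable abbrev DN (t : Fin (NN n m + 1)) : (PP (NN n m) R).Opens := D (NN n m) R t

theorem basicOpen_pa {i : Fin (n + 1)} {V : (W n m R).Opens} (h : V ≤ pr₁ n m R ⁻¹ᵁ D n R i)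
    (s : Γ(PP n R, D n R i)) :
    (W n m R).basicOpen (pa n m R h s) = V ⊓ pr₁ n m R ⁻¹ᵁ (PP n R).basicOpen s := by
  change (W n m R).basicOpen (((pr₁ n m R).app (D n R i) ≫ (W n m R).presheaf.map (homOfLE h).op).hom s) = _
  rw [CommRingCat.hom_comp, RingHom.comp_apply]
  erw [Scheme.basicOpen_res]
  rw [Scheme.preimage_basicOpen]

theorem basicOpen_pb {j : Fin (m + 1)} {V : (W n m R).Opens} (h : V ≤ pr₂ n m R ⁻¹ᵁ D m R j)
    (s : Γ(PP m R, D m R j)) :
    (W n m R).basicOpen (pb n m R h s) = V ⊓ pr₂ n m R ⁻¹ᵁ (PP m R).basicOpen s := by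
  change (W n m R).basicOpen (((pr₂ n m R).app (D m R j) ≫ (W n m R).presheaf.map (homOfLE h).op).hom s) = _
  rw [CommRingCat.hom_comp, RingHom.comp_apply]
  erw [Scheme.basicOpen_res]
  rw [Scheme.preimage_basicOpen]

/-- The preimage of the chart `D₊(z_{ij})` under the Segre morphism is the chart `Wc i j`. -/
theorem segre_preimage (i : Fin (n + 1)) (j : Fin (m + 1)) :
    segre n m R ⁻¹ᵁ DN n m R (idx n m (i, j)) = Wc n m R i j := by
  ext x
  obtain ⟨i', hi'⟩ := exists_mem_D n R (pr₁ n m R x)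
  obtain ⟨j', hj'⟩ := exists_mem_D m R (pr₂ n m R x)
  have hxV : x ∈ Wc n m R i' j' := ⟨hi', hj'⟩
  have h1 : x ∈ segre n m R ⁻¹ᵁ DN n m R (idx n m (i, j)) ↔
      (⟨x, hxV⟩ : (Wc n m R i' j').toScheme) ∈
        ((Wc n m R i' j').ι ≫ segre n m R) ⁻¹ᵁ DN n m R (idx n m (i, j)) := Iff.rfl
  rw [SetLike.mem_coe, SetLike.mem_coe, h1, ι_segre]
  unfold σV
  rw [FGSo_preimage_basicOpen 𝒜N _ _ _ Nat.one_pos (X_mem (NN n m) R _), fV_X, Scheme.basicOpen_mul,
    basicOpen_pa, basicOpen_pb]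
  have h2 : ∀ y : D n R i', y.1 ∈ (PP n R).basicOpen (τ n R i i') ↔ y.1 ∈ D n R i :=
    mem_basicOpen_τ n R i i'
  have h3 : ∀ y : D m R j', y.1 ∈ (PP m R).basicOpen (τ m R j j') ↔ y.1 ∈ D m R j :=
    mem_basicOpen_τ m R j j'
  constructor
  · rintro ⟨⟨-, ha⟩, ⟨-, hb⟩⟩
    exact ⟨(h2 ⟨_, hi'⟩).mp ha, (h3 ⟨_, hj'⟩).mp hb⟩
  · rintro ⟨ha, hb⟩
    exact ⟨⟨hxV, (h2 ⟨_, hi'⟩).mpr ha⟩, ⟨hxV, (h3 ⟨_, hj'⟩).mpr hb⟩⟩


theorem pa_κ {i : Fin (n + 1)} {V : (W n m R).Opens} (h : V ≤ pr₁ n m R ⁻¹ᵁ D n R i) (r : R) :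
    pa n m R h (κ n R i r) = cV n m R V r := by
  unfold κ
  rw [RingHom.comp_apply]
  exact appLE_resTop (pr₁ n m R) (D n R i) V h _

theorem pb_κ {j : Fin (m + 1)} {V : (W n m R).Opens} (h : V ≤ pr₂ n m R ⁻¹ᵁ D m R j) (r : R) :
    pb n m R h (κ m R j r) = cV n m R V r := by
  unfold κ
  rw [RingHom.comp_apply]
  have h1 := appLE_resTop (pr₂ n m R) (D m R j) V h (ProjUP.toGlobal (CohB1.ProjSpace.toSpec m R) r)
  refine h1.trans ?_
  change resTop (W n m R) V _ = resTop (W n m R) V (ρ n m R r)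
  congr 1
  have hc : pr₁ n m R ≫ tS n R = pr₂ n m R ≫ tS m R := pullback.condition
  unfold ρ ProjUP.toGlobal
  rw [hc]
  rfl

/-- the chart square is cartesian -/
theorem isPullback_chart (i : Fin (n + 1)) (j : Fin (m + 1)) :
    IsPullback ((pr₁ n m R).resLE (D n R i) (Wc n m R i j) (Wc_le_left n m R i j))
      ((pr₂ n m R).resLE (D m R j) (Wc n m R i j) (Wc_le_right n m R i j))
      ((tS n R).resLE ⊤ (D n R i) le_top) ((tS m R).resLE ⊤ (D m R j) le_top) :=
  Scheme.Hom.isPullback_resLE (IsPullback.of_hasPullback (tS n R) (tS m R)) le_top le_top rfl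

instance isAffine_top_spec : IsAffine ((⊤ : (Spec (CommRingCat.of R)).Opens) : Scheme) :=
  (isAffineOpen_top (Spec (CommRingCat.of R)))

theorem isAffineOpen_Wc (i : Fin (n + 1)) (j : Fin (m + 1)) : IsAffineOpen (Wc n m R i j) := by
  have : IsAffine ((D n R i : (PP n R).Opens) : Scheme) := isAffineOpen_D n R i
  have : IsAffine ((D m R j : (PP m R).Opens) : Scheme) := isAffineOpen_D m R j
  have : IsAffineHom ((tS m R).resLE ⊤ (D m R j) le_top) := inferInstance
  exact IsAffine.of_isPullback (isPullback_chart n m R i j)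

/-- sections over the chart `Wc i j` are generated by the pullbacks from the two factors -/
theorem subring_eq_top_of_pa_pb (i : Fin (n + 1)) (j : Fin (m + 1)) (S : Subring Γ(W n m R, Wc n m R i j))
    (ha : ∀ s, pa n m R (Wc_le_left n m R i j) s ∈ S) (hb : ∀ s, pb n m R (Wc_le_right n m R i j) s ∈ S) :
    S = ⊤ := by
  have : IsAffine ((D n R i : (PP n R).Opens) : Scheme) := isAffineOpen_D n R i
  have : IsAffine ((D m R j : (PP m R).Opens) : Scheme) := isAffineOpen_D m R j
  have hpo := isPushout_appTop_of_isPullback (isPullback_chart n m R i j)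
  let S' : Subring Γ((Wc n m R i j).toScheme, ⊤) := S.comap (Wc n m R i j).topIso.hom.hom
  have hS' : S' = ⊤ := by
    refine eq_top_of_isPushout hpo S' (fun b => ?_) (fun c => ?_)
    · change (Wc n m R i j).topIso.hom.hom (((pr₁ n m R).resLE (D n R i) (Wc n m R i j) _).appTop.hom b) ∈ S
      have h2 : ((pr₁ n m R).resLE (D n R i) (Wc n m R i j) (Wc_le_left n m R i j)).appTop = _ :=
        Scheme.Hom.resLE_app_top _ _
      rw [h2]
      simp only [CommRingCat.hom_comp, RingHom.comp_apply]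
      rw [topIso_hom_inv]
      exact ha _
    · change (Wc n m R i j).topIso.hom.hom (((pr₂ n m R).resLE (D m R j) (Wc n m R i j) _).appTop.hom c) ∈ S
      have h2 : ((pr₂ n m R).resLE (D m R j) (Wc n m R i j) (Wc_le_right n m R i j)).appTop = _ :=
        Scheme.Hom.resLE_app_top _ _
      rw [h2]
      simp only [CommRingCat.hom_comp, RingHom.comp_apply]
      rw [topIso_hom_inv]
      exact hb _
  rw [eq_top_iff]
  intro p _
  have h3 : (Wc n m R i j).topIso.inv.hom p ∈ S' := hS' ▸ Subring.mem_top _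
  have h4 : (Wc n m R i j).topIso.hom.hom ((Wc n m R i j).topIso.inv.hom p) ∈ S := h3
  rwa [topIso_hom_inv] at h4


theorem C_mem_zero (r : R) : (C r : MvPolynomial (Fin (NN n m + 1)) R) ∈ 𝒜N (0 • 1) := by
  rw [zero_smul]
  exact (mem_homogeneousSubmodule _ _).mpr (isHomogeneous_C _ r)

theorem X_mem_one (t : Fin (NN n m + 1)) : (X t : MvPolynomial (Fin (NN n m + 1)) R) ∈ 𝒜N (1 • 1) := by
  rw [one_smul]
  exact X_mem (NN n m) R t

/-- On the chart `(i, j)`, the Segre morphism is surjective on functions. -/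
theorem segre_appLE_surjective (i : Fin (n + 1)) (j : Fin (m + 1))
    (e : Wc n m R i j ≤ segre n m R ⁻¹ᵁ DN n m R (idx n m (i, j))) :
    Function.Surjective ((segre n m R).appLE (DN n m R (idx n m (i, j))) (Wc n m R i j) e).hom := by
  obtain ⟨e', H⟩ := appLE_mul_of_ι_comp_eq 𝒜N (segre n m R) (Wc n m R i j)
    (fV n m R (Wc_le_left n m R i j) (Wc_le_right n m R i j)) (map_fV_eq_top n m R _ _)
    (ι_segre n m R i j) Nat.one_pos (X_mem (NN n m) R (idx n m (i, j)))
    (by rw [fV_X_self]; exact isUnit_one)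
  set φ := ((segre n m R).appLE (DN n m R (idx n m (i, j))) (Wc n m R i j) e).hom with hφ
  have H' : ∀ (k : ℕ) (a : MvPolynomial (Fin (NN n m + 1)) R) (_ : a ∈ 𝒜N (k • 1)),
      fV n m R (Wc_le_left n m R i j) (Wc_le_right n m R i j) a ∈ φ.range := by
    intro k a ha
    have := H k a ha
    rw [fV_X_self, one_pow, mul_one] at this
    exact ⟨_, this⟩
  have hc : ∀ r, cV n m R (Wc n m R i j) r ∈ φ.range := by
    intro r
    have := H' 0 (C r) (C_mem_zero n m R r)
    unfold fV at this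
    rwa [eval₂Hom_C] at this
  have hτa : ∀ k, pa n m R (Wc_le_left n m R i j) (τ n R k i) ∈ φ.range := by
    intro k
    have := H' 1 (X (idx n m (k, j))) (X_mem_one n m R _)
    rwa [fV_X, τ_self, map_one, mul_one] at this
  have hτb : ∀ l, pb n m R (Wc_le_right n m R i j) (τ m R l j) ∈ φ.range := by
    intro l
    have := H' 1 (X (idx n m (i, l))) (X_mem_one n m R _)
    rwa [fV_X, τ_self, map_one, one_mul] at this
  have htop : φ.range = ⊤ := by
    refine subring_eq_top_of_pa_pb n m R i j φ.range (fun s => ?_) (fun s => ?_)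
    · refine induction_D n R i (fun s => pa n m R (Wc_le_left n m R i j) s ∈ φ.range) (fun r => ?_) hτa
        (fun a b ha hb => ?_) (fun a b ha hb => ?_) s
      · rw [pa_κ]; exact hc r
      · rw [map_add]; exact add_mem ha hb
      · rw [map_mul]; exact mul_mem ha hb
    · refine induction_D m R j (fun s => pb n m R (Wc_le_right n m R i j) s ∈ φ.range) (fun r => ?_) hτb
        (fun a b ha hb => ?_) (fun a b ha hb => ?_) s
      · rw [pb_κ]; exact hc r
      · rw [map_add]; exact add_mem ha hb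
      · rw [map_mul]; exact mul_mem ha hb
  exact RingHom.range_eq_top.mp htop

theorem iSup_DN : ⨆ t, DN n m R t = ⊤ := by
  rw [eq_top_iff]
  intro y _
  obtain ⟨t, ht⟩ := exists_mem_D (NN n m) R y
  exact Opens.mem_iSup.mpr ⟨t, ht⟩

/-- **The Segre morphism is a closed immersion.** -/
theorem isClosedImmersion_segre : IsClosedImmersion (segre n m R) := by
  refine IsZariskiLocalAtTarget.of_iSup_eq_top (P := @IsClosedImmersion) (fun t => DN n m R t)
    (iSup_DN n m R) fun t => ?_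
  obtain ⟨⟨i, j⟩, rfl⟩ := (idx n m).surjective t
  rw [← Scheme.Hom.resLE_eq_morphismRestrict,
    Scheme.Hom.resLE_congr (segre n m R) le_rfl rfl (segre_preimage n m R i j) @IsClosedImmersion]
  have : IsAffine ((Wc n m R i j : (W n m R).Opens) : Scheme) := isAffineOpen_Wc n m R i j
  have : IsAffine ((DN n m R (idx n m (i, j)) : (PP (NN n m) R).Opens) : Scheme) :=
    isAffineOpen_D (NN n m) R _
  apply IsClosedImmersion.of_surjective_of_isAffine
  have h2 : ((segre n m R).resLE (DN n m R (idx n m (i, j))) (Wc n m R i j)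
      (segre_preimage n m R i j).ge).appTop = _ := Scheme.Hom.resLE_app_top _ _
  rw [h2]
  simp only [CommRingCat.hom_comp, RingHom.coe_comp]
  refine (ConcreteCategory.bijective_of_isIso (Wc n m R i j).topIso.inv).2.comp
    (Function.Surjective.comp (segre_appLE_surjective n m R i j _) ?_)
  exact (ConcreteCategory.bijective_of_isIso (DN n m R (idx n m (i, j))).topIso.hom).2

end Groth.Agent.Lib.H90Segre
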