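/-
helper90: Serre classes of coherent modules on a Noetherian scheme: a Serre class containing a coherent module `F`
contains every coherent module supported in `Supp F` (Gabriel).
-/
import Mathlib
import Groth.Agent.Lib.H90UnitKer
import Groth.Agent.Lib.H90DevTwo2

set_option autoImplicit false
universe u

open CategoryTheory CategoryTheory.Limits AlgebraicGeometry TopologicalSpace Opposite

namespace Groth.Agent.Lib.H90SerreCore

open Groth.Agent.Lib.QCohStalk Groth.Agent.Lib.H90OXModSections Groth.Agent.Lib.H90OXModExt
  Groth.Agent.Lib.H90DevAtom Groth.Agent.Lib.H90DevFilt Groth.Agent.Lib.H90DevFiltP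
  Groth.Agent.Lib.H90DevCanon Groth.Agent.Lib.H90DevHub Groth.Agent.Lib.H90DevHub2
  Groth.Agent.Lib.ModStalkLin Groth.Agent.Lib.ModStalk Groth.Agent.Lib.H90DevTwo
  Groth.Agent.Lib.H90DevTwo2 Groth.Agent.Lib.H90UnitKer

variable {X : Scheme.{u}}

/-- `P` is a Serre class on coherent modules. -/
def IsSerre (P : ObjectProperty X.Modules) : Prop :=
  ∀ S : ShortComplex X.Modules, S.ShortExact → Coh.IsCoh S.X₁ → Coh.IsCoh S.X₂ →
    Coh.IsCoh S.X₃ → (P S.X₂ ↔ P S.X₁ ∧ P S.X₃)

/-- "support contained in `T`" is a Serre class -/
theorem isSerre_support (T : Set X) : IsSerre (fun M : X.Modules => CohB1.support M ⊆ T) := by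
  intro S hS _ _ _
  change CohB1.support S.X₂ ⊆ T ↔ CohB1.support S.X₁ ⊆ T ∧ CohB1.support S.X₃ ⊆ T
  rw [support_shortExact hS, Set.union_subset_iff]

variable {P : ObjectProperty X.Modules}

theorem IsSerre.of_mono (hser : IsSerre P) {A B : X.Modules} (f : A ⟶ B) [Mono f]
    (hA : Coh.IsCoh A) (hB : Coh.IsCoh B) (hPB : P B) : P A ∧ P (cokernel f) := by
  haveI : A.IsQuasicoherent := hA.1
  exact (hser _ (shortExact_cokernel f) hA hB
    (Groth.Agent.Lib.H90OXModExact.isCoh_cokernel f hB)).mp hPB

theorem IsSerre.ext (hser : IsSerre P) {A B : X.Modules} (f : A ⟶ B) [Mono f]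
    (hA : Coh.IsCoh A) (hB : Coh.IsCoh B) (hPA : P A) (hPC : P (cokernel f)) : P B := by
  haveI : A.IsQuasicoherent := hA.1
  exact (hser _ (shortExact_cokernel f) hA hB
    (Groth.Agent.Lib.H90OXModExact.isCoh_cokernel f hB)).mpr ⟨hPA, hPC⟩

theorem IsSerre.of_epi [IsLocallyNoetherian X] (hser : IsSerre P) {B C : X.Modules} (g : B ⟶ C)
    [Epi g] (hB : Coh.IsCoh B) (hC : Coh.IsCoh C) (hPB : P B) : P C := by
  haveI : C.IsQuasicoherent := hC.1
  have hS : (ShortComplex.mk (kernel.ι g) g (kernel.condition g)).ShortExact :=
    { exact := ShortComplex.exact_kernel g }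
  exact ((hser _ hS (Groth.Agent.Lib.H90OXModExact.isCoh_kernel g hB) hB hC).mp hPB).2

theorem IsSerre.zero (hser : IsSerre P) {F : X.Modules} (hF : Coh.IsCoh F) (hPF : P F)
    {N : X.Modules} (hN : IsZero N) : P N := by
  have hS : (ShortComplex.mk (𝟙 F) (0 : F ⟶ N) (by simp)).ShortExact := by
    haveI : Epi (0 : F ⟶ N) := hN.epi _
    exact { exact := (ShortComplex.exact_iff_epi _ rfl).mpr (inferInstanceAs (Epi (𝟙 F))) }
  exact ((hser _ hS hF hF (isCoh_of_isZero hN)).mp hPF).2

theorem IsSerre.of_iso [IsLocallyNoetherian X] (hser : IsSerre P) {M N : X.Modules} (e : M ≅ N)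
    (hM : Coh.IsCoh M) (hPM : P M) : P N :=
  hser.of_epi e.hom hM (Groth.Agent.Lib.H90CohRestrict.isCoh_of_iso e hM) hPM

/-- in a filtered module of class `P`, a point of the support lies in the support of an atom of class `P` -/
theorem exists_atom_of_mem_support (hser : IsSerre P) {ξ : X} :
    ∀ B : X.Modules, Filt IsAtomC' B → Coh.IsCoh B → P B → ξ ∈ CohB1.support B →
      ∃ (C : X.Modules) (Zc : Closeds X), IsAtomC Zc C ∧ Coh.IsCoh C ∧ P C ∧
        ξ ∈ CohB1.support C ∧ CohB1.support C ⊆ CohB1.support B := by
  intro B hB
  induction hB with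
  | zero N h0 =>
    intro _ _ hξ
    exfalso
    rw [mem_support_iff] at hξ
    haveI := subsingleton_stalk_of_isZero h0 ξ
    exact false_of_nontrivial_of_subsingleton ↑(N.presheaf.stalk ξ)
  | step A B f hf hA hAc hB hat ih =>
    intro _ hPB hξ
    haveI := hf
    haveI : A.IsQuasicoherent := hAc.1
    have hCc : Coh.IsCoh (cokernel f) := Groth.Agent.Lib.H90OXModExact.isCoh_cokernel f hB
    obtain ⟨hPA, hPC⟩ := hser.of_mono f hAc hB hPB
    rw [support_shortExact (shortExact_cokernel f)] at hξ
    rcases hξ with hξA | hξC
    · obtain ⟨C, Zc, h1, h2, h3, h4, h5⟩ := ih hAc hPA hξA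
      exact ⟨C, Zc, h1, h2, h3, h4, h5.trans (support_subset_of_mono f)⟩
    · obtain ⟨Zc, hZc⟩ := hat
      exact ⟨_, Zc, hZc, hCc, hPC, hξC, support_subset_of_epi (cokernel.π f)⟩

set_option backward.isDefEq.respectTransparency false in
/-- **Gabriel**: a Serre class of coherent modules containing `F` contains every coherent module supported in
`Supp F`. -/
theorem serre_core [AlgebraicGeometry.IsNoetherian X] (hser : IsSerre P) {F : X.Modules}
    (hF : Coh.IsCoh F) (hPF : P F) (M : X.Modules) (hM : Coh.IsCoh M)
    (hsupp : CohB1.support M ⊆ CohB1.support F) : P M := by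
  classical
  haveI : F.IsQuasicoherent := hF.1
  haveI : F.IsFiniteType := hF.2
  have key : ∀ T : Closeds X, (T : Set X) ⊆ CohB1.support F →
      ∀ M : X.Modules, Coh.IsCoh M → CohB1.support M ⊆ (T : Set X) → P M := by
    intro T
    induction T using WellFoundedLT.induction with
    | ind T IH =>
      intro hTF M hM hsM
      have hfilt := filt_atomC_of_isCoh hM
      induction hfilt with
      | zero N h0 => exact hser.zero hF hPF h0
      | step A B f hf hA hAc hB hat ih =>
        haveI := hf
        haveI : A.IsQuasicoherent := hAc.1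
        have hCc : Coh.IsCoh (cokernel f) := Groth.Agent.Lib.H90OXModExact.isCoh_cokernel f hB
        have hsA : CohB1.support A ⊆ (T : Set X) := (support_subset_of_mono f).trans hsM
        have hsC : CohB1.support (cokernel f) ⊆ (T : Set X) :=
          (support_subset_of_epi (cokernel.π f)).trans hsM
        have hPA := ih hAc hsA
        have hPC : P (cokernel f) := by
          obtain ⟨Zc', hat'⟩ := hat
          have hle : Zc' ≤ T := atomC_subset_of_support_subset hat' T.isClosed hsC
          rcases hle.lt_or_eq with hlt | heq
          · exact IH Zc' hlt (fun x hx => hTF (hle hx)) _ hCc (support_atomC_subset hat')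
          · subst heq
            have hirr : IsIrreducible (Zc' : Set X) := hat'.1
            obtain ⟨ξ, hξ⟩ := QuasiSober.sober hirr Zc'.isClosed
            -- the hub is in `P`
            have hPhub : P (hub Zc') := by
              haveI := Groth.Agent.Lib.H90ClosedUnit.isQuasicoherent_pushPull (iZ Zc') F
              set F' := (Scheme.Modules.pushforward (iZ Zc')).obj
                ((Scheme.Modules.pullback (iZ Zc')).obj F) with hF'
              haveI := epi_unit (iZ Zc') F
              have hF'c : Coh.IsCoh F' :=
                Groth.Agent.Lib.H90OXModExact.isCoh_of_epi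
                  ((Scheme.Modules.pullbackPushforwardAdjunction (iZ Zc')).unit.app F) hF
                  inferInstance
              have hPF' : P F' :=
                hser.of_epi ((Scheme.Modules.pullbackPushforwardAdjunction (iZ Zc')).unit.app F)
                  hF hF'c hPF
              have hξF' : ξ ∈ CohB1.support F' :=
                mem_support_pushPull hF Zc' hξ.mem (hTF hξ.mem)
              have hsF' : CohB1.support F' ⊆ (Zc' : Set X) := by
                have := support_push_subset (iZ Zc') ((Scheme.Modules.pullback (iZ Zc')).obj F)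
                rwa [range_iZ] at this
              obtain ⟨C, Zc, hC, hCc', hPC', hξC, hsC'⟩ :=
                exists_atom_of_mem_support hser F' (filt_atomC_of_isCoh hF'c) hF'c hPF' hξF'
              have hZ : Zc = Zc' := atomC_eq_of_mem_support hC hξ (hsC'.trans hsF') hξC
              subst hZ
              obtain ⟨p, hp⟩ := exists_mono_hub hC
              haveI := hp
              haveI : C.IsQuasicoherent := hCc'.1
              have hQc : Coh.IsCoh (cokernel p) :=
                Groth.Agent.Lib.H90OXModExact.isCoh_cokernel p (isCoh_hub Zc)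
              haveI : (cokernel p).IsFiniteType := hQc.2
              have hξQ : ξ ∉ CohB1.support (cokernel p) :=
                notMem_support_cokernel_hub hirr hξ p (not_isZero_of_isAtom hC.isAtom)
              have hsQ : CohB1.support (cokernel p) ⊆ (Zc : Set X) :=
                (support_subset_of_epi (cokernel.π p)).trans (support_hub_subset Zc)
              have hlt : (⟨CohB1.support (cokernel p),
                  isClosed_support_of_isFiniteType (cokernel p)⟩ : Closeds X) < Zc := by
                refine lt_of_le_of_ne hsQ (fun h => hξQ ?_)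
                have : (Zc : Set X) = CohB1.support (cokernel p) :=
                  (congrArg (fun W : Closeds X => (W : Set X)) h).symm
                rw [← this]
                exact hξ.mem
              have hPQ : P (cokernel p) := IH _ hlt (hsQ.trans hTF) _ hQc le_rfl
              exact hser.ext p hCc' (isCoh_hub Zc) hPC' hPQ
            obtain ⟨p, hp⟩ := exists_mono_hub hat'
            haveI := hp
            exact (hser.of_mono p hCc (isCoh_hub Zc') hPhub).1
        exact hser.ext f hAc hB hPA hPC
  exact key ⟨CohB1.support F, isClosed_support_of_isFiniteType F⟩ le_rfl M hM hsupp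

end Groth.Agent.Lib.H90SerreCore
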