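/-
helper90: Serre classes of coherent modules, part 2: the support of `i_* O_Z` for the reduced structure on a closed subset,
Serre classes are determined by atoms.
-/
import Mathlib
import Groth.Agent.Lib.H90SerreCore

set_option autoImplicit false
universe u

open CategoryTheory CategoryTheory.Limits AlgebraicGeometry TopologicalSpace Opposite

namespace Groth.Agent.Lib.H90SerreCore2

open Groth.Agent.Lib.QCohStalk Groth.Agent.Lib.H90OXModSections Groth.Agent.Lib.H90OXModExt
  Groth.Agent.Lib.H90DevAtom Groth.Agent.Lib.H90DevFilt Groth.Agent.Lib.H90DevFiltP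
  Groth.Agent.Lib.H90DevCanon Groth.Agent.Lib.H90DevHub Groth.Agent.Lib.H90DevHub2
  Groth.Agent.Lib.ModStalkLin Groth.Agent.Lib.ModStalk Groth.Agent.Lib.H90DevTwo
  Groth.Agent.Lib.H90DevTwo2 Groth.Agent.Lib.H90UnitKer Groth.Agent.Lib.H90SerreCore

variable {X : Scheme.{u}}

/-- the support of `i_* O_Z`, `Z` the reduced closed subscheme on `Zc`, is `Zc` -/
theorem support_hub_eq (Zc : Closeds X) : CohB1.support (hub Zc) = (Zc : Set X) := by
  apply Set.Subset.antisymm (support_hub_subset Zc)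
  intro z hz
  by_contra hnot
  rw [notMem_support_iff] at hnot
  have h1 : (hub Zc).presheaf.germ ⊤ z trivial (ofFun (iZ Zc) ⊤ 1) =
      (hub Zc).presheaf.germ ⊤ z trivial 0 := Subsingleton.elim _ _
  obtain ⟨W, hzW, iU, iV, hW⟩ := TopCat.Presheaf.germ_eq (hub Zc).presheaf z
    (show z ∈ (⊤ : X.Opens) from trivial) (show z ∈ (⊤ : X.Opens) from trivial) _ _ h1
  have h2 : res (hub Zc) iU.le (ofFun (iZ Zc) ⊤ 1) = 0 := by
    change (hub Zc).presheaf.map (homOfLE iU.le).op _ = 0
    rw [show (homOfLE iU.le) = iU from rfl, hW, map_zero]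
  rw [res_ofFun] at h2
  have h3 : resO (ZZ Zc) ((iZ Zc).preimage_mono iU.le) (1 : Γ(ZZ Zc, (iZ Zc) ⁻¹ᵁ ⊤)) = 0 :=
    ofFun_injective (iZ Zc) W h2
  have h4 : (1 : Γ(ZZ Zc, (iZ Zc) ⁻¹ᵁ W)) = 0 := by
    rw [← h3]
    exact (map_one _).symm
  have hzr : z ∈ Set.range (iZ Zc) := by rw [range_iZ]; exact hz
  obtain ⟨z', hz'⟩ := hzr
  haveI : Nonempty ((iZ Zc) ⁻¹ᵁ W : (ZZ Zc).Opens) :=
    ⟨⟨z', by change (iZ Zc) z' ∈ W; rw [hz']; exact hzW⟩⟩
  haveI : Nontrivial Γ(ZZ Zc, (iZ Zc) ⁻¹ᵁ W) := Scheme.component_nontrivial _ _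
  exact one_ne_zero h4

theorem support_eq_empty_of_isZero {N : X.Modules} (hN : IsZero N) : CohB1.support N = ∅ := by
  ext x
  simp only [Set.mem_empty_iff_false, iff_false]
  rw [notMem_support_iff]
  exact subsingleton_stalk_of_isZero hN x

/-- A Serre class containing the zero modules and the atoms supported in `T` contains every coherent module supported
in `T`. -/
theorem serre_of_atoms [AlgebraicGeometry.IsNoetherian X] {Q : ObjectProperty X.Modules}
    (hser : IsSerre Q) {T : Set X} (hzero : ∀ N : X.Modules, IsZero N → Q N)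
    (hatom : ∀ (C : X.Modules) (Zc : Closeds X), IsAtomC Zc C → Coh.IsCoh C →
      CohB1.support C ⊆ T → Q C)
    (M : X.Modules) (hM : Coh.IsCoh M) (hs : CohB1.support M ⊆ T) : Q M := by
  have hfilt := filt_atomC_of_isCoh hM
  induction hfilt with
  | zero N h0 => exact hzero N h0
  | step A B f hf hA hAc hB hat ih =>
    haveI := hf
    haveI : A.IsQuasicoherent := hAc.1
    have hCc : Coh.IsCoh (cokernel f) := Groth.Agent.Lib.H90OXModExact.isCoh_cokernel f hB
    obtain ⟨Zc, hZc⟩ := hat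
    exact hser.ext f hAc hB (ih hAc ((support_subset_of_mono f).trans hs))
      (hatom _ Zc hZc hCc ((support_subset_of_epi (cokernel.π f)).trans hs))

end Groth.Agent.Lib.H90SerreCore2
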