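/-
helper90: the stalk of a finite coproduct of copies of a module: `(∐_{j : J} M)_x ≃ₗ (J → M_x)`, and its rank.
-/
import Mathlib
import Groth.Agent.Lib.ModStalkLin

set_option autoImplicit false
set_option linter.style.haveILetI false
universe u w

open CategoryTheory CategoryTheory.Limits AlgebraicGeometry TopologicalSpace Opposite

namespace Groth.Agent.Lib.H90SigmaStalk

open Groth.Agent.Lib.ModStalkLin Groth.Agent.Lib.ModStalk

variable {X : Scheme.{u}}

theorem stalkLin_zero {M N : X.Modules} (x : X) : stalkLin (0 : M ⟶ N) x = 0 := by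
  ext v
  rw [stalkLin_apply, Functor.map_zero]
  rfl

theorem stalkLin_add {M N : X.Modules} (φ ψ : M ⟶ N) (x : X) :
    stalkLin (φ + ψ) x = stalkLin φ x + stalkLin ψ x := by
  ext v
  rw [stalkLin_apply, Functor.map_add]
  rfl

theorem stalkLin_sum {M N : X.Modules} {J : Type w} (s : Finset J) (φ : J → (M ⟶ N)) (x : X)
    (v : M.presheaf.stalk x) : stalkLin (∑ j ∈ s, φ j) x v = ∑ j ∈ s, stalkLin (φ j) x v := by
  classical
  induction s using Finset.induction_on with
  | empty => rw [Finset.sum_empty, Finset.sum_empty, stalkLin_zero]; rfl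
  | insert a s ha ih =>
    rw [Finset.sum_insert ha, Finset.sum_insert ha, stalkLin_add, LinearMap.add_apply, ih]

variable {J : Type w} [Fintype J] [DecidableEq J] (M : X.Modules) [HasCoproduct fun _ : J => M]

/-- the projections of a coproduct of copies of `M` -/
noncomputable def proj (j : J) : (∐ fun _ : J => M) ⟶ M :=
  Sigma.desc (fun i => if i = j then 𝟙 M else 0)

omit [Fintype J] in
theorem ι_proj (i j : J) : Sigma.ι (fun _ : J => M) i ≫ proj M j = if i = j then 𝟙 M else 0 := by
  unfold proj
  rw [Sigma.ι_desc]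

theorem sum_proj_ι : ∑ j : J, proj M j ≫ Sigma.ι (fun _ : J => M) j = 𝟙 _ := by
  apply Sigma.hom_ext
  intro i
  rw [Preadditive.comp_sum, Category.comp_id, Finset.sum_eq_single i]
  · rw [← Category.assoc, ι_proj, if_pos rfl, Category.id_comp]
  · intro j _ hji
    rw [← Category.assoc, ι_proj, if_neg (Ne.symm hji), zero_comp]
  · intro h; exact (h (Finset.mem_univ i)).elim

/-- the stalk of a finite coproduct of copies of `M` -/
noncomputable def sigmaStalkEquiv (x : X) :
    (∐ fun _ : J => M).presheaf.stalk x ≃ₗ[X.presheaf.stalk x] (J → M.presheaf.stalk x) where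
  toFun v j := stalkLin (proj M j) x v
  map_add' a b := by funext j; exact map_add _ a b
  map_smul' c a := by funext j; exact _root_.map_smul _ c a
  invFun a := ∑ j : J, stalkLin (Sigma.ι (fun _ : J => M) j) x (a j)
  left_inv v := by
    change ∑ j : J, stalkLin (Sigma.ι (fun _ : J => M) j) x (stalkLin (proj M j) x v) = v
    have h1 : ∀ j : J, stalkLin (Sigma.ι (fun _ : J => M) j) x (stalkLin (proj M j) x v) =
        stalkLin (proj M j ≫ Sigma.ι (fun _ : J => M) j) x v := by
      intro j
      rw [stalkLin_comp]; rfl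
    rw [Finset.sum_congr rfl (fun j _ => h1 j), ← stalkLin_sum, sum_proj_ι, stalkLin_id]
    rfl
  right_inv a := by
    funext j
    change stalkLin (proj M j) x (∑ i : J, stalkLin (Sigma.ι (fun _ : J => M) i) x (a i)) = a j
    rw [map_sum, Finset.sum_eq_single j]
    · have : stalkLin (proj M j) x (stalkLin (Sigma.ι (fun _ : J => M) j) x (a j)) =
          stalkLin (Sigma.ι (fun _ : J => M) j ≫ proj M j) x (a j) := by
        rw [stalkLin_comp]; rfl
      rw [this, ι_proj, if_pos rfl, stalkLin_id]
      rfl
    · intro i _ hij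
      have : stalkLin (proj M j) x (stalkLin (Sigma.ι (fun _ : J => M) i) x (a i)) =
          stalkLin (Sigma.ι (fun _ : J => M) i ≫ proj M j) x (a i) := by
        rw [stalkLin_comp]; rfl
      rw [this, ι_proj, if_neg hij, stalkLin_zero]
      rfl
    · intro h; exact (h (Finset.mem_univ j)).elim

theorem finrank_sigma (x : X) [Module.Free (X.presheaf.stalk x) (M.presheaf.stalk x)]
    [Module.Finite (X.presheaf.stalk x) (M.presheaf.stalk x)] :
    Module.finrank (X.presheaf.stalk x) ((∐ fun _ : J => M).presheaf.stalk x) =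
      Fintype.card J * Module.finrank (X.presheaf.stalk x) (M.presheaf.stalk x) := by
  rw [(sigmaStalkEquiv M x).finrank_eq, Module.finrank_pi_fintype]
  simp

end Groth.Agent.Lib.H90SigmaStalk
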