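import Groth.Agent.Lib.H90SubSh

/-!
# Saturation of elementary sub-modules preserves quasi-coherence (helper90)
-/

set_option autoImplicit false
universe u

open CategoryTheory CategoryTheory.Limits AlgebraicGeometry TopologicalSpace Opposite
open AlgebraicGeometry.Scheme AlgebraicGeometry.Scheme.Modules

namespace Groth.Agent.Lib.H90SubSh

open Groth.Agent.Lib.QCohStalk Groth.Agent.Lib.AssPush Groth.Agent.Lib.H90OXModQcqs
  Groth.Agent.Lib.H90OXModSections Groth.Agent.Lib.H90OXModExt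

variable {X : Scheme.{u}} {F : X.Modules}

namespace SubSh

theorem pow_smul_mem_of_le {R M : Type*} [CommRing R] [AddCommGroup M] [Module R M]
    (N : Submodule R M) (a : R) (x : M) {n m : ℕ} (h : n ≤ m) (hx : a ^ n • x ∈ N) :
    a ^ m • x ∈ N := by
  obtain ⟨k, rfl⟩ := Nat.exists_eq_add_of_le h
  rw [add_comm, pow_add, mul_smul]
  exact N.smul_mem _ hx

theorem resO_basicOpen_aux {V' V : X.Opens} (h : V' ≤ V) (f : Γ(X, V))
    (hDf : X.basicOpen (resO X h f) ≤ X.basicOpen f) :
    resO X hDf (resO X (X.basicOpen_le f) f) =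
      resO X (X.basicOpen_le (resO X h f)) (resO X h f) := by
  rw [resO_resO, resO_resO]

set_option backward.isDefEq.respectTransparency false in
/-- LEMMA A: the `W`-saturation of `T` is localizing on the affine open `V` provided `V ⊓ W` is covered by
finitely many affine opens on which `T` is localizing. -/
theorem isQCohOn_sat (T : SubSh F) [F.IsQuasicoherent] (W : X.Opens) {V : X.Opens}
    (hV : IsAffineOpen V) {κ : Type*} [Finite κ] (V' : κ → X.Opens)
    (hA : ∀ k, IsAffineOpen (V' k)) (hle : ∀ k, V' k ≤ V ⊓ W) (hcov : V ⊓ W ≤ ⨆ k, V' k)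
    (hq : ∀ k, T.IsQCohOn (V' k)) : (T.sat W).IsQCohOn V := by
  classical
  cases nonempty_fintype κ
  intro f t ht
  rw [mem_sat_iff] at ht
  obtain ⟨n1, s1, h1⟩ := exists_pow_smul_eq_res F hV f t
  have hleV : ∀ k, V' k ≤ V := fun k => (hle k).trans inf_le_left
  -- the key local statement
  have key : ∀ k, ∃ c : ℕ, resO X (hleV k) f ^ c • res F (hleV k) s1 ∈ T.obj (V' k) := by
    intro k
    set fk := resO X (hleV k) f with hfk
    have hD : X.basicOpen fk = V' k ⊓ X.basicOpen f := basicOpen_resO (hleV k) f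
    have hDf : X.basicOpen fk ≤ X.basicOpen f := hD.le.trans inf_le_right
    have hDW : X.basicOpen fk ≤ X.basicOpen f ⊓ W :=
      le_inf hDf ((X.basicOpen_le fk).trans ((hle k).trans inf_le_right))
    have htk : res F hDf t ∈ T.obj (X.basicOpen fk) := by
      have := T.res_mem hDW ht
      rwa [res_res] at this
    obtain ⟨a, r, hr, har⟩ := hq k fk _ htk
    have hφ : resO X hDf (resO X (X.basicOpen_le f) f) = resO X (X.basicOpen_le fk) fk :=
      resO_basicOpen_aux (hleV k) f hDf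
    let d := fk ^ a • res F (hleV k) s1 - fk ^ n1 • r
    have hd : res F (X.basicOpen_le fk) d = 0 := by
      change res F (X.basicOpen_le fk) (fk ^ a • res F (hleV k) s1 - fk ^ n1 • r) = 0
      rw [res_sub, res_smul, res_smul, res_res, ← har, resO_pow, resO_pow]
      have e1 : res F ((X.basicOpen_le fk).trans (hleV k)) s1 =
          res F hDf (res F (X.basicOpen_le f) s1) := by rw [res_res]
      rw [e1, ← h1, res_smul, resO_pow, hφ, smul_smul, smul_smul, mul_comm, sub_self]
    obtain ⟨b, hb⟩ := exists_pow_smul_eq_zero F (hA k) fk d hd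
    refine ⟨a + b, ?_⟩
    have : fk ^ (a + b) • res F (hleV k) s1 = fk ^ (b + n1) • r := by
      have hb' : fk ^ b • (fk ^ a • res F (hleV k) s1 - fk ^ n1 • r) = 0 := hb
      rw [smul_sub, sub_eq_zero, smul_smul, smul_smul, ← pow_add, ← pow_add] at hb'
      rw [add_comm a b]
      exact hb'
    rw [this]
    exact (T.obj _).smul_mem _ hr
  choose c hc using key
  let m := Finset.univ.sup c
  have hm : ∀ k, resO X (hleV k) f ^ m • res F (hleV k) s1 ∈ T.obj (V' k) := fun k =>
    pow_smul_mem_of_le _ _ _ (Finset.le_sup (Finset.mem_univ k)) (hc k)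
  refine ⟨m + n1, f ^ m • s1, ?_, ?_⟩
  · rw [mem_sat_iff]
    apply T.mem_of_cover (V ⊓ W) V' hle hcov
    intro k
    rw [res_res, res_smul, resO_pow]
    exact hm k
  · rw [pow_add, mul_smul, h1, res_smul, resO_pow]

set_option backward.isDefEq.respectTransparency false in
/-- Two sub-modules which are localizing on the affine open `V₀` and have the same sections over `V₀`
agree on all opens contained in `V₀`. -/
theorem obj_le_of_obj_le (T₁ T₂ : SubSh F) {V₀ : X.Opens} (hV₀ : IsAffineOpen V₀)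
    (h1 : T₁.IsQCohOn V₀) (h : T₁.obj V₀ ≤ T₂.obj V₀) {V : X.Opens} (hV : V ≤ V₀) :
    T₁.obj V ≤ T₂.obj V := by
  intro s hs
  apply T₂.mem_of_local
  intro x hx
  obtain ⟨f, hfV, hxf⟩ := hV₀.exists_basicOpen_le ⟨x, hx⟩ (hV hx)
  refine ⟨X.basicOpen f, hfV, hxf, ?_⟩
  obtain ⟨n, r, hr, hn⟩ := h1 f _ (T₁.res_mem hfV hs)
  obtain ⟨u, hu⟩ : ∃ u : Γ(X, X.basicOpen f), u * resO X (X.basicOpen_le f) f = 1 :=
    (Groth.Agent.Lib.AffVanSections.isUnit_resO_basicOpen f).exists_left_inv
  have e : res F hfV s = u ^ n • res F (X.basicOpen_le f) r := by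
    rw [← hn, smul_smul, ← mul_pow, hu, one_pow, one_smul]
  rw [e]
  exact (T₂.obj _).smul_mem _ (T₂.res_mem _ (h hr))

theorem obj_eq_of_obj_eq (T₁ T₂ : SubSh F) {V₀ : X.Opens} (hV₀ : IsAffineOpen V₀)
    (h1 : T₁.IsQCohOn V₀) (h2 : T₂.IsQCohOn V₀) (h : T₁.obj V₀ = T₂.obj V₀) {V : X.Opens}
    (hV : V ≤ V₀) : T₁.obj V = T₂.obj V :=
  le_antisymm (obj_le_of_obj_le T₁ T₂ hV₀ h1 h.le hV) (obj_le_of_obj_le T₂ T₁ hV₀ h2 h.ge hV)

end SubSh

end Groth.Agent.Lib.H90SubSh
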