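import Groth.Agent.Lib.H90SubShExt

/-!
# Extension of finite type quasi-coherent sub-modules: the Zorn argument (helper90)
-/

set_option autoImplicit false
universe u v

open CategoryTheory CategoryTheory.Limits AlgebraicGeometry TopologicalSpace Opposite
open AlgebraicGeometry.Scheme AlgebraicGeometry.Scheme.Modules

namespace Groth.Agent.Lib.H90SubSh

open Groth.Agent.Lib.QCohStalk Groth.Agent.Lib.AssPush Groth.Agent.Lib.H90OXModQcqs
  Groth.Agent.Lib.H90OXModSections Groth.Agent.Lib.H90OXModExt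

variable {X : Scheme.{u}} {F : X.Modules}

namespace SubSh

theorem sat_iInf {ι : Type*} (T : ι → SubSh F) (W : X.Opens) :
    (iInf T).sat W = iInf fun i => (T i).sat W := by
  ext V s
  rw [mem_sat_iff]
  change _ ∈ ⨅ i, (T i).obj (V ⊓ W) ↔ s ∈ ⨅ i, ((T i).sat W).obj V
  rw [Submodule.mem_iInf, Submodule.mem_iInf]
  rfl

theorem iInf_obj {ι : Type*} (T : ι → SubSh F) (V : X.Opens) :
    (iInf T).obj V = ⨅ i, (T i).obj V := rfl

variable {L : Type v} (Vc : L → X.Opens) (U : X.Opens) (T₀ : SubSh F)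

/-- The open `U ∪ ⋃_{m ∈ S} V_m`. -/
def WS (S : Set L) : X.Opens := U ⊔ ⨆ m ∈ S, Vc m

theorem le_WS_left (S : Set L) : U ≤ WS Vc U S := le_sup_left

theorem le_WS_of_mem {S : Set L} {m : L} (hm : m ∈ S) : Vc m ≤ WS Vc U S :=
  le_sup_of_le_right (le_biSup Vc hm)

theorem WS_mono {S S' : Set L} (h : S ⊆ S') : WS Vc U S ≤ WS Vc U S' :=
  sup_le_sup_left (biSup_mono h) U

variable [LinearOrder L]

/-- Partial extensions of `T₀`. -/
structure PExt where
  S : Set L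
  lower : IsLowerSet S
  T : SubSh F
  sat : T.sat (WS Vc U S) = T
  goodU : ∀ D : X.Opens, IsAffineOpen D → D ≤ U → T.Good D
  goodV : ∀ m ∈ S, ∀ g : Γ(X, Vc m), T.Good (X.basicOpen g)
  agree : ∀ V' : X.Opens, V' ≤ U → T.obj V' = T₀.obj V'

instance : Preorder (PExt Vc U T₀) where
  le E E' := E.S ⊆ E'.S ∧ ∀ V' : X.Opens, V' ≤ WS Vc U E.S → E'.T.obj V' = E.T.obj V'
  le_refl E := ⟨subset_rfl, fun _ _ => rfl⟩
  le_trans E E' E'' h h' := ⟨h.1.trans h'.1, fun V' hV' =>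
    (h'.2 V' (hV'.trans (WS_mono Vc U h.1))).trans (h.2 V' hV')⟩

variable {Vc U T₀}

theorem PExt.le_def {E E' : PExt Vc U T₀} :
    E ≤ E' ↔ E.S ⊆ E'.S ∧ ∀ V' : X.Opens, V' ≤ WS Vc U E.S → E'.T.obj V' = E.T.obj V' := Iff.rfl

/-- In a chain, `E.T ≤ E'.T` on opens contained in `W_{E.S}`. -/
theorem PExt.obj_le_of_chain {c : Set (PExt Vc U T₀)} (hc : IsChain (· ≤ ·) c)
    {E E' : PExt Vc U T₀} (hE : E ∈ c) (hE' : E' ∈ c) {V' : X.Opens}
    (hV' : V' ≤ WS Vc U E.S) : E.T.obj V' ≤ E'.T.obj V' := by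
  rcases hc.total hE hE' with h | h
  · exact (h.2 V' hV').ge
  · intro s hs
    rw [← E'.sat, mem_sat_iff, ← h.2 _ inf_le_right]
    exact E.T.res_mem _ hs

/-- Upper bound of a nonempty chain. -/
theorem PExt.exists_upper_bound {c : Set (PExt Vc U T₀)} (hc : IsChain (· ≤ ·) c)
    (hne : c.Nonempty) : ∃ ub : PExt Vc U T₀, ∀ E ∈ c, E ≤ ub := by
  obtain ⟨E₁, hE₁⟩ := hne
  let S' : Set L := ⋃ E ∈ c, PExt.S E
  let T' : SubSh F := iInf fun E : c => E.1.T
  have hkey : ∀ E ∈ c, ∀ V' : X.Opens, V' ≤ WS Vc U (PExt.S E) → T'.obj V' = E.T.obj V' := by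
    intro E hE V' hV'
    apply le_antisymm
    · exact iInf_le (fun E : c => E.1.T.obj V') ⟨E, hE⟩
    · exact le_iInf fun E' => PExt.obj_le_of_chain hc hE E'.2 hV'
  have hS : ∀ E ∈ c, PExt.S E ⊆ S' := fun E hE m hm => Set.mem_iUnion₂.mpr ⟨E, hE, hm⟩
  refine ⟨⟨S', ?_, T', ?_, ?_, ?_, ?_⟩, fun E hE => ⟨hS E hE, hkey E hE⟩⟩
  · exact isLowerSet_iUnion₂ fun E _ => E.lower
  · rw [sat_iInf]
    congr 1
    funext E
    exact sat_eq_self_of_le E.1.sat (WS_mono Vc U (hS E.1 E.2))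
  · intro D hD hDU
    exact Good.congr (fun V' hV' =>
      (hkey E₁ hE₁ V' (hV'.trans (hDU.trans (le_WS_left Vc U _)))).symm) (E₁.goodU D hD hDU)
  · intro m hm g
    obtain ⟨E, hE, hmE⟩ := Set.mem_iUnion₂.mp hm
    exact Good.congr (fun V' hV' => (hkey E hE V'
      (hV'.trans ((X.basicOpen_le g).trans (le_WS_of_mem Vc U hmE)))).symm) (E.goodV m hmE g)
  · intro V' hV'
    rw [hkey E₁ hE₁ V' (hV'.trans (le_WS_left Vc U _))]
    exact E₁.agree V' hV'

variable [WellFoundedLT L]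

set_option backward.isDefEq.respectTransparency false in
/-- A maximal partial extension is defined on all of `L`. -/
theorem PExt.S_eq_univ_of_isMax [F.IsQuasicoherent] (hVc : ∀ l, IsAffineOpen (Vc l))
    (hW : ∀ l, IsCompact ((Vc l : Set X) ∩ ⋃ m ∈ Set.Iio l, (Vc m : Set X)))
    (hUc : ∀ D : X.Opens, IsAffineOpen D → IsCompact ((D ⊓ U : X.Opens) : Set X))
    (E : PExt Vc U T₀) (hE : IsMax E) : E.S = Set.univ := by
  by_contra hne
  have hne' : (E.Sᶜ).Nonempty := Set.nonempty_compl.mpr hne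
  obtain ⟨l, hl, hmin⟩ := wellFounded_lt.has_min E.Sᶜ hne'
  have hIio : ∀ m, m < l → m ∈ E.S := fun m hm => by
    by_contra h
    exact hmin m h hm
  have hSlt : ∀ m ∈ E.S, m < l := fun m hm => by
    by_contra h
    exact hl (E.lower (not_lt.mp h) hm)
  -- the compactness
  have hcomp : IsCompact ((Vc l ⊓ WS Vc U E.S : X.Opens) : Set X) := by
    have e : ((Vc l ⊓ WS Vc U E.S : X.Opens) : Set X) =
        ((Vc l ⊓ U : X.Opens) : Set X) ∪ ((Vc l : Set X) ∩ ⋃ m ∈ Set.Iio l, (Vc m : Set X)) := by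
      ext x
      simp only [WS, Opens.coe_inf, Opens.coe_sup, Opens.coe_iSup, Set.mem_inter_iff, Set.mem_union,
        Set.mem_iUnion, SetLike.mem_coe, Set.mem_Iio, exists_prop]
      constructor
      · rintro ⟨h1, h2 | ⟨m, hm, hx⟩⟩
        · exact Or.inl ⟨h1, h2⟩
        · exact Or.inr ⟨h1, m, hSlt m hm, hx⟩
      · rintro (⟨h1, h2⟩ | ⟨h1, m, hm, hx⟩)
        · exact ⟨h1, Or.inl h2⟩
        · exact ⟨h1, Or.inr ⟨m, hIio m hm, hx⟩⟩
    rw [e]
    exact (hUc _ (hVc l)).union (hW l)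
  have hgood : ∀ x ∈ Vc l ⊓ WS Vc U E.S, ∃ g : Γ(X, Vc l), x ∈ X.basicOpen g ∧
      X.basicOpen g ≤ WS Vc U E.S ∧ E.T.Good (X.basicOpen g) := by
    rintro x ⟨hxl, hxW⟩
    rcases (Opens.mem_sup.mp hxW) with hxU | hxV
    · obtain ⟨g, hg, hxg⟩ := (hVc l).exists_basicOpen_le (V := Vc l ⊓ U) ⟨x, ⟨hxl, hxU⟩⟩ hxl
      exact ⟨g, hxg, (hg.trans inf_le_right).trans (le_WS_left Vc U _),
        E.goodU _ ((hVc l).basicOpen g) (hg.trans inf_le_right)⟩
    · obtain ⟨m, hxm⟩ := Opens.mem_iSup.mp hxV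
      obtain ⟨hm, hxm⟩ := Opens.mem_iSup.mp hxm
      obtain ⟨f, g, hfg, hxf⟩ := exists_basicOpen_le_affine_inter (hVc l) (hVc m) x ⟨hxl, hxm⟩
      refine ⟨f, hxf, ?_, ?_⟩
      · rw [hfg]
        exact (X.basicOpen_le g).trans (le_WS_of_mem Vc U hm)
      · rw [hfg]
        exact E.goodV m hm g
  obtain ⟨T', hsat', hagree', hgood'⟩ :=
    exists_extension_step E.T (WS Vc U E.S) (Vc l) (hVc l) E.sat hcomp hgood
  let E' : PExt Vc U T₀ :=
    { S := insert l E.S
      lower := by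
        intro a b hba ha
        rcases ha with rfl | ha
        · rcases hba.lt_or_eq with h | h
          · exact Or.inr (hIio b h)
          · exact Or.inl h
        · exact Or.inr (E.lower hba ha)
      T := T'
      sat := by
        apply sat_eq_self_of_le hsat'
        apply sup_le (WS_mono Vc U (Set.subset_insert l E.S))
        exact le_WS_of_mem Vc U (Set.mem_insert l E.S)
      goodU := fun D hD hDU => Good.congr (fun V' hV' =>
        (hagree' V' (hV'.trans (hDU.trans (le_WS_left Vc U _)))).symm) (E.goodU D hD hDU)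
      goodV := by
        rintro m (rfl | hm) g
        · exact hgood' g
        · exact Good.congr (fun V' hV' => (hagree' V'
            (hV'.trans ((X.basicOpen_le g).trans (le_WS_of_mem Vc U hm)))).symm) (E.goodV m hm g)
      agree := fun V' hV' => by
        rw [hagree' V' (hV'.trans (le_WS_left Vc U _))]
        exact E.agree V' hV' }
  have hle : E ≤ E' := ⟨Set.subset_insert l E.S, fun V' hV' => hagree' V' hV'⟩
  exact hl ((hE hle).1 (Set.mem_insert l E.S))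

set_option backward.isDefEq.respectTransparency false in
/-- ELEMENTARY EXTENSION THEOREM. -/
theorem exists_extension [F.IsQuasicoherent] (hVc : ∀ l, IsAffineOpen (Vc l))
    (hW : ∀ l, IsCompact ((Vc l : Set X) ∩ ⋃ m ∈ Set.Iio l, (Vc m : Set X)))
    (hUc : ∀ D : X.Opens, IsAffineOpen D → IsCompact ((D ⊓ U : X.Opens) : Set X))
    (hsat₀ : T₀.sat U = T₀) (hgood₀ : ∀ D : X.Opens, IsAffineOpen D → D ≤ U → T₀.Good D) :
    ∃ T : SubSh F, (∀ V' : X.Opens, V' ≤ U → T.obj V' = T₀.obj V') ∧ ∀ l, T.Good (Vc l) := by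
  let E₀ : PExt Vc U T₀ :=
    { S := ∅
      lower := isLowerSet_empty
      T := T₀
      sat := sat_eq_self_of_le hsat₀ (le_WS_left Vc U _)
      goodU := hgood₀
      goodV := fun m hm => hm.elim
      agree := fun _ _ => rfl }
  obtain ⟨E, hE⟩ : ∃ E : PExt Vc U T₀, IsMax E := by
    apply zorn_le
    intro c hc
    rcases c.eq_empty_or_nonempty with rfl | hne
    · exact ⟨E₀, fun _ h => h.elim⟩
    · obtain ⟨ub, hub⟩ := PExt.exists_upper_bound hc hne
      exact ⟨ub, hub⟩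
  have hS := PExt.S_eq_univ_of_isMax hVc hW hUc E hE
  refine ⟨E.T, E.agree, fun l => ?_⟩
  have := E.goodV l (hS ▸ Set.mem_univ l) 1
  rwa [X.basicOpen_of_isUnit isUnit_one] at this

end SubSh

end Groth.Agent.Lib.H90SubSh
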