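import Groth.Agent.Lib.SymQCAlgUniq

/-!
# The degree-one projection `Sym(M) ⟶ M` of the symmetric algebra of a quasi-coherent module (helper90)

* ring level: `symE : Sym_R M →ₐ[R] R` (augmentation), `symD : Sym_R M →ₗ[R] M` (degree-one part), product rule
  `symD_mul`, naturality for semilinear maps `symD_symMap`;
* sheaf level: `pr M : (symAlg M).toModule ⟶ M` with `pr_app` (on affine opens it is `symD ∘ symIso`) and `j_pr`.
-/

set_option autoImplicit false
universe u

open CategoryTheory CategoryTheory.Limits AlgebraicGeometry TopologicalSpace Opposite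
open AlgebraicGeometry.Scheme AlgebraicGeometry.Scheme.Modules

noncomputable section

namespace Groth.Agent.Lib.H90SymPr

open Groth.Agent.Lib.SymAlgLoc Groth.Agent.Lib.QCAlgOfAffine Groth.Agent.Lib.QCohStalk
  Groth.Agent.Lib.AssPush Groth.Agent.Lib.H90OXModFP Groth.Agent.Lib.SymQCAlg

section Alg

variable (R M : Type*) [CommRing R] [AddCommGroup M] [Module R M]

/-- the augmentation and the degree-one part of the symmetric algebra, together -/
theorem exists_symED : ∃ (ε : SymmetricAlgebra R M →ₐ[R] R) (D : SymmetricAlgebra R M →ₗ[R] M),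
    (∀ m, D (SymmetricAlgebra.ι R M m) = m) ∧ (∀ m, ε (SymmetricAlgebra.ι R M m) = 0) ∧
    (∀ a b, D (a * b) = ε a • D b + ε b • D a) ∧ (∀ r, D (algebraMap R _ r) = 0) := by
  letI : Module Rᵐᵒᵖ M := Module.compHom _ ((RingHom.id R).fromOpposite mul_comm)
  haveI : IsCentralScalar R M := ⟨fun r m => rfl⟩
  let T : SymmetricAlgebra R M →ₐ[R] TrivSqZeroExt R M :=
    SymmetricAlgebra.lift (TrivSqZeroExt.inrHom R M)
  have hT : ∀ m, T (SymmetricAlgebra.ι R M m) = TrivSqZeroExt.inr m := fun m =>
    SymmetricAlgebra.lift_ι_apply _ m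
  refine ⟨(TrivSqZeroExt.fstHom R R M).comp T, (TrivSqZeroExt.sndHom R M).comp T.toLinearMap,
    fun m => ?_, fun m => ?_, fun a b => ?_, fun r => ?_⟩
  · change (T (SymmetricAlgebra.ι R M m)).snd = m
    rw [hT]; rfl
  · change (T (SymmetricAlgebra.ι R M m)).fst = 0
    rw [hT]; rfl
  · change (T (a * b)).snd = (T a).fst • (T b).snd + (T b).fst • (T a).snd
    rw [map_mul, TrivSqZeroExt.snd_mul]
    rfl
  · change (T (algebraMap R _ r)).snd = 0
    rw [AlgHom.commutes]
    rfl

/-- the augmentation `Sym_R M → R` -/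
def symE : SymmetricAlgebra R M →ₐ[R] R := (exists_symED R M).choose

/-- the degree-one part `Sym_R M → M` -/
def symD : SymmetricAlgebra R M →ₗ[R] M := (exists_symED R M).choose_spec.choose

variable {R M}

@[simp] theorem symD_ι (m : M) : symD R M (SymmetricAlgebra.ι R M m) = m :=
  (exists_symED R M).choose_spec.choose_spec.1 m

@[simp] theorem symE_ι (m : M) : symE R M (SymmetricAlgebra.ι R M m) = 0 :=
  (exists_symED R M).choose_spec.choose_spec.2.1 m

theorem symD_mul (a b : SymmetricAlgebra R M) :
    symD R M (a * b) = symE R M a • symD R M b + symE R M b • symD R M a :=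
  (exists_symED R M).choose_spec.choose_spec.2.2.1 a b

@[simp] theorem symD_algebraMap (r : R) : symD R M (algebraMap R _ r) = 0 :=
  (exists_symED R M).choose_spec.choose_spec.2.2.2 r

variable {R' M' : Type*} [CommRing R'] [AddCommGroup M'] [Module R' M'] {ρ : R →+* R'}

theorem symE_symMap (g : M →ₛₗ[ρ] M') (y : SymmetricAlgebra R M) :
    symE R' M' (symMap g y) = ρ (symE R M y) := by
  have : ((symE R' M').toRingHom.comp (symMap g)) = ρ.comp (symE R M).toRingHom := by
    refine ringHom_ext (fun a => ?_) (fun m => ?_)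
    · change symE R' M' (symMap g (algebraMap R _ a)) = ρ (symE R M (algebraMap R _ a))
      rw [symMap_algebraMap, AlgHom.commutes, AlgHom.commutes]
      rfl
    · change symE R' M' (symMap g (SymmetricAlgebra.ι R M m)) = ρ (symE R M (SymmetricAlgebra.ι R M m))
      rw [symMap_ι, symE_ι, symE_ι, map_zero]
  exact congr($this y)

theorem symD_symMap (g : M →ₛₗ[ρ] M') (y : SymmetricAlgebra R M) :
    symD R' M' (symMap g y) = g (symD R M y) := by
  induction y using SymmetricAlgebra.induction with
  | algebraMap r => rw [symMap_algebraMap, symD_algebraMap, symD_algebraMap, map_zero]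
  | ι x => rw [symMap_ι, symD_ι, symD_ι]
  | mul a b ha hb =>
    rw [map_mul, symD_mul, symD_mul, ha, hb, symE_symMap, symE_symMap, map_add, g.map_smulₛₗ,
      g.map_smulₛₗ]
  | add a b ha hb => rw [map_add, map_add, map_add, ha, hb, map_add]

end Alg

variable {S : Scheme.{u}} (M : S.Modules) [M.IsQuasicoherent]

/-- the degree-one projection over an affine open -/
def prAff (U : S.Opens) (hU : IsAffineOpen U) : Γ((symAlg M).toModule, U) →ₗ[Γ(S, U)] Γ(M, U) where
  toFun y := symD Γ(S, U) Γ(M, U) ((symIso M U hU).hom (show (symAlg M).presheaf.obj (op U) from y))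
  map_add' x y := by
    change symD Γ(S, U) Γ(M, U) ((symIso M U hU).hom
      ((show (symAlg M).presheaf.obj (op U) from x) + (show (symAlg M).presheaf.obj (op U) from y))) = _
    rw [map_add, map_add]
  map_smul' r y := by
    change symD Γ(S, U) Γ(M, U) ((symIso M U hU).hom
      (((symAlg M).str.app (op U)).hom r * (show (symAlg M).presheaf.obj (op U) from y))) = _
    rw [map_mul]
    erw [symIso_hom_str M U hU r]
    rw [← Algebra.smul_def, LinearMap.map_smul]
    rfl

theorem prAff_apply (U : S.Opens) (hU : IsAffineOpen U) (y : Γ((symAlg M).toModule, U)) :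
    prAff M U hU y =
      symD Γ(S, U) Γ(M, U) ((symIso M U hU).hom (show (symAlg M).presheaf.obj (op U) from y)) := rfl

theorem exists_pr : ∃ p : (symAlg M).toModule ⟶ M, ∀ (U : S.Opens) (hU : IsAffineOpen U)
    (y : Γ((symAlg M).toModule, U)), p.app U y = prAff M U hU y := by
  obtain ⟨p, hp⟩ := Groth.Agent.Lib.QCohHomGlue.exists_hom_of_family_rel
    (F := (symAlg M).toModule) (G := M) (κ := S.AffineZariskiSite) (U := fun k => k.toOpens)
    (fun k => isLocalizingOn_toModule (symAlg M) k.2)
    (fun k => isLocalizingOn_of_isQuasicoherent M k.2)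
    (fun V U => V ≤ U) (fun V U h => Scheme.AffineZariskiSite.toOpens_mono h)
    (by
      intro k k' x hx hx'
      obtain ⟨f, g, hfg, hxf⟩ := exists_basicOpen_le_affine_inter k.2 k'.2 x ⟨hx, hx'⟩
      refine ⟨k.basicOpen f, hxf, k.basicOpen_le f, ?_⟩
      exact ⟨g, hfg.symm⟩)
    (fun k => prAff M k.toOpens k.2)
    (by
      intro k k' h y
      have h1 := symIso_naturality M h
      have h2 : (symIso M k'.1 k'.2).hom ((symAlg M).presheaf.map
          (homOfLE (Scheme.AffineZariskiSite.toOpens_mono h)).op
            (show (symAlg M).presheaf.obj (op k.1) from y)) =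
          symMap (resSL M (Scheme.AffineZariskiSite.toOpens_mono h))
            ((symIso M k.1 k.2).hom (show (symAlg M).presheaf.obj (op k.1) from y)) :=
        congr($h1 (show (symAlg M).presheaf.obj (op k.1) from y))
      change res M _ (symD _ _ ((symIso M k.1 k.2).hom (show (symAlg M).presheaf.obj (op k.1) from y))) =
        symD _ _ ((symIso M k'.1 k'.2).hom ((symAlg M).presheaf.map
          (homOfLE (Scheme.AffineZariskiSite.toOpens_mono h)).op
            (show (symAlg M).presheaf.obj (op k.1) from y)))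
      rw [h2, symD_symMap]
      rfl)
    (fun k => k.2)
    (by
      rw [eq_top_iff]
      intro x _
      obtain ⟨_, ⟨U, hU, rfl⟩, hxU, -⟩ :=
        S.isBasis_affineOpens.exists_subset_of_mem_open (Set.mem_univ x) isOpen_univ
      exact Opens.mem_iSup.mpr ⟨⟨U, hU⟩, hxU⟩)
  exact ⟨p, fun U hU y => hp ⟨U, hU⟩ y⟩

/-- The degree-one projection `Sym M ⟶ M`. -/
def pr : (symAlg M).toModule ⟶ M := (exists_pr M).choose

theorem pr_app (U : S.Opens) (hU : IsAffineOpen U) (y : Γ((symAlg M).toModule, U)) :
    (pr M).app U y = prAff M U hU y :=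
  (exists_pr M).choose_spec U hU y

end Groth.Agent.Lib.H90SymPr
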