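/-
helper90: on a Noetherian integral scheme every coherent module is a quotient of a torsion-free coherent module
(a finite direct sum of modules of the form `Iᵐ · O^n`).  Uses Deligne's formula (`H90Deligne.exists_extension`).
-/
import Mathlib
import Groth.Agent.Lib.H90Deligne
import Groth.Agent.Lib.FreeModStalk
import Groth.Agent.Lib.PseudoCohNoeth
import Groth.Agent.Lib.H4KoszulPn
import Groth.Agent.Lib.RestrictExact
import Groth.Agent.Lib.H90K0Coh2

set_option autoImplicit false
set_option linter.style.haveILetI false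
universe u

open CategoryTheory CategoryTheory.Limits AlgebraicGeometry TopologicalSpace Opposite

namespace Groth.Agent.Lib.H90TorsionFreeQuot

open Groth.Agent.Lib.ModStalkLin Groth.Agent.Lib.FreeModStalk

variable {Y : Scheme.{u}}

/-- all stalks are torsion-free -/
def TF (M : Y.Modules) : Prop :=
  ∀ y : Y, NoZeroSMulDivisors ↥(Y.presheaf.stalk y) ↥(M.presheaf.stalk y)

theorem tf_freeMod [IsIntegral Y] (n : ℕ) : TF (FlatMod.freeMod Y n) := by
  intro y
  haveI : Module.Free ↥(Y.presheaf.stalk y) ↥((FlatMod.freeMod Y n).presheaf.stalk y) :=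
    Module.Free.of_basis (stalkBasis (n := n) y)
  have h : Module.IsTorsionFree ↥(Y.presheaf.stalk y) ↥((FlatMod.freeMod Y n).presheaf.stalk y) :=
    inferInstance
  exact ⟨fun {c x} hcx => Module.isTorsionFree_iff_smul_eq_zero.mp h c x hcx⟩

theorem tf_of_mono {A B : Y.Modules} (f : A ⟶ B) [Mono f] (hB : TF B) : TF A := by
  intro y
  haveI := hB y
  exact (stalkLin_injective_of_mono f y).noZeroSMulDivisors _ (map_zero _) (fun c x => map_smul _ c x)

theorem tf_biprod {A B : Y.Modules} (hA : TF A) (hB : TF B) : TF (A ⊞ B) := by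
  intro y
  haveI := hA y
  haveI := hB y
  refine ⟨fun {c x} h => ?_⟩
  by_cases hc : c = 0
  · exact Or.inl hc
  · right
    have h1 : stalkLin (biprod.fst : A ⊞ B ⟶ A) y x = 0 := by
      have : c • stalkLin (biprod.fst : A ⊞ B ⟶ A) y x = 0 := by rw [← map_smul, h, map_zero]
      exact (eq_zero_or_eq_zero_of_smul_eq_zero this).resolve_left hc
    have h2 : stalkLin (biprod.snd : A ⊞ B ⟶ B) y x = 0 := by
      have : c • stalkLin (biprod.snd : A ⊞ B ⟶ B) y x = 0 := by rw [← map_smul, h, map_zero]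
      exact (eq_zero_or_eq_zero_of_smul_eq_zero this).resolve_left hc
    have h3 : stalkLin (𝟙 (A ⊞ B)) y x = 0 := by
      rw [← biprod.total, stalkLin_add, LinearMap.add_apply, stalkLin_comp, stalkLin_comp,
        LinearMap.comp_apply, LinearMap.comp_apply, h1, h2, map_zero, map_zero, add_zero]
    rwa [stalkLin_id] at h3

/-- the restriction of a free module to an open subscheme is free -/
noncomputable def restrictFreeModIso (U : Y.Opens) (n : ℕ) :
    (Scheme.Modules.restrictFunctor U.ι).obj (FlatMod.freeMod Y n) ≅ FlatMod.freeMod (U : Scheme.{u}) n :=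
  PreservesCoproduct.iso (Scheme.Modules.restrictFunctor U.ι) (fun _ : Fin n => Coh.structureModule Y) ≪≫
    Sigma.mapIso (fun _ => Scheme.Modules.restrictUnitIso U.ι)

/-- locally, a coherent module is a quotient of a torsion-free coherent module defined on the whole scheme -/
theorem exists_local [AlgebraicGeometry.IsNoetherian Y] [IsIntegral Y] (F : Y.Modules) (hF : Coh.IsCoh F)
    (y : Y) : ∃ (U : Y.Opens) (E : Y.Modules) (ψ : E ⟶ F), y ∈ U ∧ Coh.IsCoh E ∧ TF E ∧
      Epi ((Scheme.Modules.restrictFunctor U.ι).map ψ) := by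
  obtain ⟨U, n, p, hyU, hp⟩ := Groth.Agent.Lib.PseudoCohNoeth.exists_epi_freeMod_of_isFT F hF.2 y
  haveI := hp
  haveI : F.IsQuasicoherent := hF.1
  let Zc : Closeds Y := ⟨(U : Set Y)ᶜ, U.2.isClosed_compl⟩
  let I : Y.IdealSheafData := Scheme.IdealSheafData.vanishingIdeal Zc
  have hU : (U : Set Y) = (I.support : Set Y)ᶜ := by
    rw [Scheme.IdealSheafData.coe_support_vanishingIdeal]
    change (U : Set Y) = ((U : Set Y)ᶜ)ᶜ
    rw [compl_compl]
  have hG : Coh.IsCoh (FlatMod.freeMod Y n) :=
    (Groth.Agent.Lib.H90K0Coh.sigma_fin _ (Groth.Agent.Lib.H90DevHub2.isCoh_structureModule Y) n).1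
  let φ : (Scheme.Modules.restrictFunctor U.ι).obj (FlatMod.freeMod Y n) ⟶
      (Scheme.Modules.restrictFunctor U.ι).obj F := (restrictFreeModIso U n).hom ≫ p
  obtain ⟨m, ψ, hψ⟩ := Groth.Agent.Lib.H90Deligne.exists_extension I F (FlatMod.freeMod Y n) hG U hU φ
  haveI : (FlatMod.freeMod Y n).IsQuasicoherent := hG.1
  haveI := Groth.Agent.Lib.H90IdealKill.isIso_restrict_idealMulι I (FlatMod.freeMod Y n) hU m
  refine ⟨U, (Dual3.idealMul (I ^ m)).obj (FlatMod.freeMod Y n), ψ, hyU,
    Groth.Agent.Lib.H90DevFilt.isCoh_of_mono (Dual3.idealMulι (I ^ m) _) hG,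
    tf_of_mono (Dual3.idealMulι (I ^ m) _) (tf_freeMod n), ?_⟩
  rw [hψ]
  infer_instance

/-- **torsion-free quotients**: on a Noetherian integral scheme every coherent module is a quotient of a coherent
module all of whose stalks are torsion-free. -/
theorem exists_tf_epi [AlgebraicGeometry.IsNoetherian Y] [IsIntegral Y] (F : Y.Modules) (hF : Coh.IsCoh F) :
    ∃ (E : Y.Modules) (π : E ⟶ F), Coh.IsCoh E ∧ TF E ∧ Epi π := by
  classical
  choose U E ψ hyU hE hTF hepi using exists_local F hF
  -- finitely many of the `U y` cover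
  obtain ⟨t, ht⟩ := isCompact_univ.elim_finite_subcover (fun y : Y => (U y : Set Y))
    (fun y => (U y).2) (fun y _ => Set.mem_iUnion.mpr ⟨y, hyU y⟩)
  -- assemble along the finite set
  have key : ∀ s : Finset Y, ∃ (E' : Y.Modules) (π : E' ⟶ F), Coh.IsCoh E' ∧ TF E' ∧
      ∀ y ∈ s, Epi ((Scheme.Modules.restrictFunctor (U y).ι).map π) := by
    intro s
    induction s using Finset.induction_on with
    | empty =>
      exact ⟨FlatMod.freeMod Y 0, 0,
        (Groth.Agent.Lib.H90K0Coh.sigma_fin _ (Groth.Agent.Lib.H90DevHub2.isCoh_structureModule Y) 0).1,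
        tf_freeMod 0, fun y hy => absurd hy (Finset.notMem_empty y)⟩
    | insert a s _ ih =>
      obtain ⟨E', π, hE', hTF', hπ⟩ := ih
      refine ⟨E a ⊞ E', biprod.desc (ψ a) π,
        Groth.Agent.Lib.H90CohCenter.isCoh_biprod (hE a) hE', tf_biprod (hTF a) hTF', ?_⟩
      intro y hy
      rcases Finset.mem_insert.mp hy with rfl | hy
      · haveI := hepi y
        have h1 : (Scheme.Modules.restrictFunctor (U y).ι).map (biprod.inl : E y ⟶ E y ⊞ E') ≫
            (Scheme.Modules.restrictFunctor (U y).ι).map (biprod.desc (ψ y) π) =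
            (Scheme.Modules.restrictFunctor (U y).ι).map (ψ y) := by
          rw [← Functor.map_comp, biprod.inl_desc]
        haveI : Epi ((Scheme.Modules.restrictFunctor (U y).ι).map (biprod.inl : E y ⟶ E y ⊞ E') ≫
            (Scheme.Modules.restrictFunctor (U y).ι).map (biprod.desc (ψ y) π)) := by
          rw [h1]; infer_instance
        exact epi_of_epi ((Scheme.Modules.restrictFunctor (U y).ι).map (biprod.inl : E y ⟶ E y ⊞ E')) _
      · haveI := hπ y hy
        have h1 : (Scheme.Modules.restrictFunctor (U y).ι).map (biprod.inr : E' ⟶ E a ⊞ E') ≫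
            (Scheme.Modules.restrictFunctor (U y).ι).map (biprod.desc (ψ a) π) =
            (Scheme.Modules.restrictFunctor (U y).ι).map π := by
          rw [← Functor.map_comp, biprod.inr_desc]
        haveI : Epi ((Scheme.Modules.restrictFunctor (U y).ι).map (biprod.inr : E' ⟶ E a ⊞ E') ≫
            (Scheme.Modules.restrictFunctor (U y).ι).map (biprod.desc (ψ a) π)) := by
          rw [h1]; infer_instance
        exact epi_of_epi ((Scheme.Modules.restrictFunctor (U y).ι).map (biprod.inr : E' ⟶ E a ⊞ E')) _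
  obtain ⟨E', π, hE', hTF', hπ⟩ := key t
  refine ⟨E', π, hE', hTF', ?_⟩
  refine Preadditive.epi_of_isZero_cokernel π ?_
  refine Groth.Agent.Lib.H4KoszulPn.isZero_of_forall_restrict _ (fun y : t => U y.1) ?_ ?_
  · rw [eq_top_iff]
    intro x _
    obtain ⟨y, hy⟩ := Set.mem_iUnion.mp (ht (Set.mem_univ x))
    obtain ⟨hyt, hxy⟩ := Set.mem_iUnion.mp hy
    exact Opens.mem_iSup.mpr ⟨⟨y, hyt⟩, hxy⟩
  · intro y
    haveI := hπ y.1 y.2
    exact (isZero_cokernel_of_epi ((Scheme.Modules.restrictFunctor (U y.1).ι).map π)).of_iso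
      (PreservesCokernel.iso (Scheme.Modules.restrictFunctor (U y.1).ι) π)

end Groth.Agent.Lib.H90TorsionFreeQuot
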