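import Groth.Agent.Lib.OXModTensorColim
import Groth.Agent.Lib.OXModRestrict
import Groth.Agent.Lib.LocalFlex
import Groth.Agent.Lib.H78BiprodFree
import Groth.Agent.Lib.H78AmpleUnit
import Groth.Prelude.Def_SecTwist

/-!
# Tensor products of finite locally free modules (helper97)

* `isFinLocFree_tensorMod` : `M ⊗ N` is finite locally free when `M` and `N` are.
* `epi_sigma_of_epi_components` : colimit-preserving functors and jointly epimorphic families.
-/

set_option autoImplicit false
set_option maxHeartbeats 400000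
universe u
open CategoryTheory CategoryTheory.Limits AlgebraicGeometry

namespace Groth.Agent.Lib.ResProp97

open Groth.Agent.Lib.OXModTensor

variable {X : Scheme.{u}}

/-- `A ⊗ O^m ≅ A^{⊕ m}` -/
noncomputable def tensorFreeModIso (A : X.Modules) (m : ℕ) :
    CohB1.tensorMod A (FlatMod.freeMod X m) ≅ ⨁ fun _ : Fin m => A :=
  PreservesCoproduct.iso (tensorLeftFunctor A) (fun _ : Fin m => Coh.structureModule X) ≪≫
    Sigma.mapIso (fun _ => SecTwist.unitorR A) ≪≫ (biproduct.isoCoproduct _).symm

theorem isFinLocFree_tensorMod {M N : X.Modules} (hM : FlatMod.IsFinLocFree M)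
    (hN : FlatMod.IsFinLocFree N) : FlatMod.IsFinLocFree (CohB1.tensorMod M N) := by
  apply LocalFlex.isFinLocFree_of_forall_restrict
  intro x
  obtain ⟨U, m, hxU, ⟨e⟩⟩ := hN x
  refine ⟨U, U.ι, inferInstance, by simpa using hxU, ?_⟩
  have e1 : (CohB1.tensorMod M N).restrict U.ι ≅ ⨁ fun _ : Fin m => M.restrict U.ι :=
    OXModRestrict.restrictTensorIso U.ι M N ≪≫ H78AmpleUnit.tensorModIso (Iso.refl _) e ≪≫
      tensorFreeModIso (M.restrict U.ι) m
  exact FinLocFree.isFinLocFree_of_iso e1.symm
    (H78BiprodFree.isFinLocFree_biproduct _ fun _ => FinLocFree.isFinLocFree_restrict U.ι hM)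

end Groth.Agent.Lib.ResProp97
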