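import Groth.Agent.Lib.H90EvEpi
import Groth.Agent.Lib.ResProp97

/-!
# Untwisting a resolution by an invertible module (helper90)

* `isBasis_of_isGen`: a free generator is a basis of length one.
* `epi_transpose`: for `A` invertible and an epimorphism `π : E ⟶ M ⊗ A`, the transpose `E ⊗ A^* ⟶ M` under the
  adjunction `- ⊗ A^* ⊣ - ⊗ A` is an epimorphism.
* `exists_untwist`: if `M ⊗ A` is a quotient of a finite locally free module, so is `M`.
-/

set_option autoImplicit false
set_option linter.unusedVariables false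
universe u
open CategoryTheory CategoryTheory.Limits AlgebraicGeometry TopologicalSpace Opposite
open Groth.Agent.Lib.H90Invertible Groth.Agent.Lib.H78TensorGen Groth.Agent.Lib.H4TensorPair
open Groth.Agent.Lib.OXModTensor Groth.Agent.Lib.TwistEquiv
open Groth.Agent.Lib.TensorBasis23 Groth.Agent.Lib.StructureModule Groth.Agent.Lib.SheafHom23
open Groth.Agent.Lib.DualPair23 Groth.Agent.Lib.DualFLF23

namespace Groth.Agent.Lib.H90Untwist

variable {X : Scheme.{u}}

/-- a free generator is a basis of length one -/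
theorem isBasis_of_isGen {L : X.Modules} {V : X.Opens} {s : Γ(L, V)} (hs : IsGen L V s) :
    IsBasis L V (fun _ : Fin 1 => s) := by
  intro W h
  have h1 := hs W h
  have h2 : (fun a : Fin 1 → Γ(X, W) => ∑ i, a i • rs L h ((fun _ : Fin 1 => s) i)) =
      (fun a : Γ(X, W) => a • L.presheaf.map (homOfLE h).op s) ∘ (Equiv.funUnique (Fin 1) Γ(X, W)) := by
    funext a
    rw [Fin.sum_univ_one]
    rfl
  rw [h2]
  exact h1.comp (Equiv.funUnique (Fin 1) Γ(X, W)).bijective

/-- the dual of an invertible module has local bases of length one -/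
theorem exists_isBasis_dual_of_isInvertible {A : X.Modules} (hA : PicF.IsInvertible A) (x : X) :
    ∃ (V : X.Opens) (n : ℕ) (a : Fin (n + 1) → Γ(dual A, V)), x ∈ V ∧ IsBasis (dual A) V a := by
  obtain ⟨V, hxV, s, hs⟩ := (isInvertible_iff_exists_isGen A).mp hA x
  exact ⟨V, 0, dualSec (isBasis_of_isGen hs), hxV, isBasis_dualSec (isBasis_of_isGen hs)⟩

/-- transposing an epimorphism `E ⟶ M ⊗ A` along `- ⊗ A^* ⊣ - ⊗ A` gives an epimorphism -/
theorem epi_transpose {A : X.Modules} (hA : PicF.IsInvertible A) {E M : X.Modules}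
    (π : E ⟶ (tensorRightFunctor A).obj M) [Epi π] :
    Epi (((dualAdj' (isFinLocFree_of_isInvertible hA)).homEquiv E M).symm π) := by
  have hA' := isFinLocFree_of_isInvertible hA
  have h : ((dualAdj' hA').homEquiv E M).symm π =
      (tensorRightFunctor (dual A)).map
        (π ≫ ((compNatIso (isPerfect_swap (isPerfect_evPairing hA'))).symm.inv.app M)) ≫
        (tensorHomAdj (dual A)).counit.app M := by
    unfold dualAdj' dualAdj
    rw [Adjunction.homEquiv_ofNatIsoRight_symm_apply, Adjunction.homEquiv_counit]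
  rw [h]
  haveI : (tensorRightFunctor (dual A)).PreservesEpimorphisms :=
    (tensorRightFunctor (dual A)).preservesEpimorphisms_of_adjunction (tensorHomAdj (dual A))
  haveI : Epi ((tensorHomAdj (dual A)).counit.app M) :=
    Groth.Agent.Lib.H90EvEpi.epi_counitHom (dual A) M (exists_isBasis_dual_of_isInvertible hA)
  haveI : IsIso ((compNatIso (isPerfect_swap (isPerfect_evPairing hA'))).symm.inv.app M) :=
    inferInstance
  haveI : Epi (π ≫ ((compNatIso (isPerfect_swap (isPerfect_evPairing hA'))).symm.inv.app M)) :=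
    epi_comp _ _
  haveI : Epi ((tensorRightFunctor (dual A)).map
      (π ≫ ((compNatIso (isPerfect_swap (isPerfect_evPairing hA'))).symm.inv.app M))) :=
    inferInstance
  exact epi_comp _ _

/-- if `M ⊗ A` (`A` invertible) is a quotient of a finite locally free module, so is `M` -/
theorem exists_untwist {A : X.Modules} (hA : PicF.IsInvertible A) {E M : X.Modules}
    (π : E ⟶ CohB1.tensorMod M A) [Epi π] (hE : FlatMod.IsFinLocFree E) :
    ∃ (E' : X.Modules) (π' : E' ⟶ M), FlatMod.IsFinLocFree E' ∧ Epi π' := by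
  let π₀ : E ⟶ (tensorRightFunctor A).obj M := π
  haveI : Epi π₀ := ‹Epi π›
  exact ⟨CohB1.tensorMod E (dual A),
    ((dualAdj' (isFinLocFree_of_isInvertible hA)).homEquiv E M).symm π₀,
    Groth.Agent.Lib.ResProp97.isFinLocFree_tensorMod hE
      (Groth.Agent.Lib.H90EvEpi.isFinLocFree_dual (isFinLocFree_of_isInvertible hA)),
    epi_transpose hA π₀⟩

end Groth.Agent.Lib.H90Untwist
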