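import Groth.Agent.Lib.H94Eisen
import Groth.Agent.Lib.PSRegular33
import Groth.Agent.Lib.RegularLocal
import Groth.Agent.Lib.H59PowerSeries
import Groth.Agent.Lib.NormalDecomp58
import Groth.Agent.Lib.AdicTwo
import Groth.Agent.Lib.NilThick
import Mathlib

set_option autoImplicit false
set_option linter.unusedSectionVars false
set_option linter.style.haveILetI false
set_option linter.unusedSimpArgs false
set_option linter.deprecated false
universe u

namespace Groth.Agent.Lib.H94AS

open IsLocalRing Polynomial Groth.Agent.Lib.H94Eisen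

section Generic

variable {S : Type*} [CommRing S] [Nontrivial S] (p : ℕ) (b c : S)

/-- `X^p - (bX + c)` -/
noncomputable def GG : S[X] := X ^ p - (C b * X + C c)

variable {p} (hp : 2 ≤ p)

lemma natDegree_low_le : (C b * X + C c : S[X]).natDegree ≤ 1 := by
  refine (natDegree_add_le _ _).trans (max_le ?_ ?_)
  · exact natDegree_C_mul_le _ _ |>.trans natDegree_X_le
  · rw [natDegree_C]; exact zero_le_one

include hp in
lemma GG_natDegree : (GG p b c).natDegree = p := by
  unfold GG
  rw [natDegree_sub_eq_left_of_natDegree_lt, natDegree_X_pow]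
  rw [natDegree_X_pow]
  exact lt_of_le_of_lt (natDegree_low_le b c) (by omega)

include hp in
lemma GG_monic : (GG p b c).Monic := by
  unfold GG
  apply monic_X_pow_sub
  refine lt_of_le_of_lt degree_le_natDegree ?_
  exact_mod_cast lt_of_le_of_lt (natDegree_low_le b c) (by omega)

include hp in
lemma GG_coeff_zero : (GG p b c).coeff 0 = - c := by
  unfold GG
  have : p ≠ 0 := by omega
  rw [coeff_sub, coeff_add, coeff_X_pow, coeff_C_mul_X, coeff_C]
  simp [this.symm]

include hp in
lemma GG_coeff_one : (GG p b c).coeff 1 = - b := by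
  unfold GG
  have : p ≠ 1 := by omega
  rw [coeff_sub, coeff_add, coeff_X_pow, coeff_C_mul_X, coeff_C]
  simp [this.symm]

lemma GG_coeff_of_lt (j : ℕ) (h2 : 2 ≤ j) (hj : j < p) : (GG p b c).coeff j = 0 := by
  unfold GG
  have h1 : j ≠ p := by omega
  have h3 : j ≠ 0 := by omega
  have h4 : j ≠ 1 := by omega
  rw [coeff_sub, coeff_add, coeff_X_pow, coeff_C_mul_X, coeff_C]
  simp [h1, h3, h4]

end Generic

variable (p : ℕ) (k : Type u) [Field k] (n : ℕ)

/-- the power series ring -/
abbrev RR : Type u := MvPowerSeries (Fin n) k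

variable {k n} (a : Fin n → RR k n)

/-- the Artin–Schreier type polynomials -/
noncomputable def FF (i : Fin n) : (RR k n)[X] := GG p (a i ^ (p - 1)) (MvPowerSeries.X i)

variable {p} (hp : 2 ≤ p)

lemma mem_maximalIdeal_iff (f : RR k n) :
    f ∈ maximalIdeal (RR k n) ↔ MvPowerSeries.constantCoeff f = 0 := by
  rw [mem_maximalIdeal, mem_nonunits_iff, MvPowerSeries.isUnit_iff_constantCoeff, isUnit_iff_ne_zero,
    not_not]

variable (ham : ∀ i, MvPowerSeries.constantCoeff (a i) = 0)

include hp ham in
lemma FF_low (i : Fin n) (j : ℕ) (hj : j < (FF p a i).natDegree) :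
    (FF p a i).coeff j ∈ maximalIdeal (RR k n) := by
  unfold FF at hj ⊢
  rw [GG_natDegree _ _ hp] at hj
  rcases Nat.lt_or_ge j 2 with h | h
  · interval_cases j
    · rw [GG_coeff_zero _ _ hp, mem_maximalIdeal_iff]
      simp
    · rw [GG_coeff_one _ _ hp, mem_maximalIdeal_iff, map_neg, map_pow, ham]
      have : p - 1 ≠ 0 := by omega
      simp [this]
  · rw [GG_coeff_of_lt _ _ j h hj]
    exact zero_mem _

lemma Iof_eq : Groth.Agent.S4610.Iof (FF p a) =
    Ideal.span (Set.range fun i : Fin n =>
      (MvPolynomial.X i : MvPolynomial (Fin n) (RR k n)) ^ p -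
        MvPolynomial.C (a i ^ (p - 1)) * MvPolynomial.X i - MvPolynomial.C (MvPowerSeries.X i)) := by
  unfold Groth.Agent.S4610.Iof
  congr 2
  funext i
  unfold FF GG
  rw [map_sub, map_add, map_mul, map_pow, aeval_X, aeval_C, aeval_C, sub_sub]
  rfl

lemma coeff_single_mul (j : Fin n) (f g : RR k n) :
    MvPowerSeries.coeff (Finsupp.single j 1) (f * g) =
      MvPowerSeries.constantCoeff f * MvPowerSeries.coeff (Finsupp.single j 1) g +
      MvPowerSeries.coeff (Finsupp.single j 1) f * MvPowerSeries.constantCoeff g := by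
  classical
  rw [MvPowerSeries.coeff_mul]
  have hanti : Finset.HasAntidiagonal.antidiagonal (Finsupp.single j 1 : Fin n →₀ ℕ) =
      {(0, Finsupp.single j 1), (Finsupp.single j 1, 0)} := by
    ext ⟨u, v⟩
    rw [Finset.HasAntidiagonal.mem_antidiagonal]
    simp only [Finset.mem_insert, Finset.mem_singleton, Prod.mk.injEq]
    constructor
    · intro h
      have hdeg : u.degree + v.degree = 1 := by
        rw [← Finsupp.degree.map_add, h, Finsupp.degree_single]
      rcases Nat.eq_zero_or_pos u.degree with hu | hu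
      · left
        have hu0 : u = 0 := (Finsupp.degree_eq_zero_iff u).mp hu
        subst hu0
        rw [zero_add] at h
        exact ⟨rfl, h⟩
      · right
        have hv : v.degree = 0 := by omega
        have hv0 : v = 0 := (Finsupp.degree_eq_zero_iff v).mp hv
        subst hv0
        rw [add_zero] at h
        exact ⟨h, rfl⟩
    · rintro (⟨rfl, rfl⟩ | ⟨rfl, rfl⟩) <;> simp
  rw [hanti, Finset.sum_pair]
  · rfl
  · intro h
    have := congrArg Prod.fst h
    simp only at this
    have h2 := congrArg (fun f : Fin n →₀ ℕ => f j) this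
    simp at h2

lemma coeff_single_eq_zero_of_mem_sq (j : Fin n) (f : RR k n) (hf : f ∈ maximalIdeal (RR k n) ^ 2) :
    MvPowerSeries.coeff (Finsupp.single j 1) f = 0 := by
  rw [pow_two] at hf
  refine Submodule.mul_induction_on hf ?_ ?_
  · intro a ha b hb
    rw [mem_maximalIdeal_iff] at ha hb
    rw [coeff_single_mul, ha, hb, zero_mul, mul_zero, add_zero]
  · intro x y hx hy
    rw [map_add, hx, hy, add_zero]

lemma X_mem (i : Fin n) : (MvPowerSeries.X i : RR k n) ∈ maximalIdeal (RR k n) := by
  rw [mem_maximalIdeal_iff]; simp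

lemma linearIndependent_X :
    LinearIndependent (ResidueField (RR k n))
      (fun i : Fin n => (maximalIdeal (RR k n)).toCotangent ⟨MvPowerSeries.X i, X_mem i⟩) := by
  classical
  rw [Fintype.linearIndependent_iff]
  intro g hg j
  choose c hc using fun i => IsLocalRing.residue_surjective (g i)
  have h1 : ∀ i, g i • (maximalIdeal (RR k n)).toCotangent ⟨MvPowerSeries.X i, X_mem i⟩ =
      (maximalIdeal (RR k n)).toCotangent (c i • ⟨MvPowerSeries.X i, X_mem i⟩) := by
    intro i
    rw [map_smul, ← hc i]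
    rfl
  simp_rw [h1] at hg
  rw [← map_sum, Ideal.toCotangent_eq_zero] at hg
  have h2 := coeff_single_eq_zero_of_mem_sq j _ hg
  rw [Submodule.coe_sum, map_sum] at h2
  have h3 : ∀ i, MvPowerSeries.coeff (Finsupp.single j 1)
      ((c i • (⟨MvPowerSeries.X i, X_mem i⟩ : maximalIdeal (RR k n)) : maximalIdeal (RR k n)) : RR k n) =
      if i = j then MvPowerSeries.constantCoeff (c i) else 0 := by
    intro i
    rw [Submodule.coe_smul, smul_eq_mul, coeff_single_mul]
    simp only [MvPowerSeries.constantCoeff_X, mul_zero, add_zero]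
    rw [MvPowerSeries.coeff_X]
    by_cases hij : i = j
    · subst hij; simp
    · have : (Finsupp.single j 1 : Fin n →₀ ℕ) ≠ Finsupp.single i 1 := by
        intro h
        have := congrArg (fun f : Fin n →₀ ℕ => f j) h
        simp [Finsupp.single_apply, hij] at this
      simp [this, hij]
  simp_rw [h3] at h2
  rw [Finset.sum_ite_eq' Finset.univ j] at h2
  simp only [Finset.mem_univ, if_true] at h2
  rw [← hc j, IsLocalRing.residue_eq_zero_iff, mem_maximalIdeal_iff]
  exact h2


instance instRegRR : IsRegularLocalRing (RR k n) :=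
  Groth.Agent.Lib.PSRegular33.isRegularLocalRing_mvPowerSeries_fin k n

include hp in
lemma FF_deg (i : Fin n) : 1 ≤ (FF p a i).natDegree := by
  unfold FF; rw [GG_natDegree _ _ hp]; omega

include hp in
lemma FF_mon (i : Fin n) : (FF p a i).Monic := GG_monic _ _ hp

include hp ham in
lemma hli : LinearIndependent (ResidueField (RR k n))
    (fun i => (maximalIdeal (RR k n)).toCotangent
      ⟨(FF p a i).coeff 0, FF_low a hp ham i 0 (FF_deg a hp i)⟩) := by
  have h := (linearIndependent_X (k := k) (n := n)).units_smul (fun _ => (-1 : (ResidueField (RR k n))ˣ))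
  convert h using 1
  funext i
  rw [Pi.smul_apply', Units.smul_def, Units.val_neg, Units.val_one, neg_smul, one_smul, ← map_neg]
  congr 1
  apply Subtype.ext
  show (FF p a i).coeff 0 = - MvPowerSeries.X i
  unfold FF
  rw [GG_coeff_zero _ _ hp]

include hp ham in
theorem isRegularLocalRing_Q : IsRegularLocalRing (Q (FF p a)) :=
  isRegularLocalRing_of_linearIndependent (FF p a) (FF_mon a hp) (FF_deg a hp) (FF_low a hp ham)
    (hli a hp ham)

include hp ham in
theorem isLocalRing_Q : IsLocalRing (Q (FF p a)) :=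
  isLocalRing (FF p a) (FF_mon a hp) (FF_deg a hp) (FF_low a hp ham)

include hp ham in
theorem isDomain_Q : IsDomain (Q (FF p a)) :=
  haveI := isRegularLocalRing_Q a hp ham
  Groth.Agent.Lib.RegularLocal.isDomain _

include hp in
theorem free_Q : Module.Free (RR k n) (Q (FF p a)) := free (FF p a) (FF_mon a hp)

include hp in
theorem finrank_Q : Module.finrank (RR k n) (Q (FF p a)) = p ^ n := by
  rw [(Groth.Agent.S4610.result (FF p a) (FF_mon a hp)).2]
  have : ∀ i : Fin n, (FF p a i).natDegree = p := fun i => by unfold FF; exact GG_natDegree _ _ hp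
  simp [this]


include hp ham in
theorem maximalIdeal_Q_eq :
    haveI := isLocalRing_Q a hp ham
    maximalIdeal (Q (FF p a)) =
      Ideal.map (Ideal.Quotient.mk (Groth.Agent.S4610.Iof (FF p a)))
        (Ideal.span (Set.range (MvPolynomial.X : Fin n → MvPolynomial (Fin n) (RR k n)))) := by
  haveI := isLocalRing_Q a hp ham
  have hmon := FF_mon a hp
  have hdeg := FF_deg a hp
  have hlow := FF_low a hp ham
  have hT : ∀ i, t (FF p a) i ∈ Ideal.map (Ideal.Quotient.mk (Groth.Agent.S4610.Iof (FF p a)))
        (Ideal.span (Set.range (MvPolynomial.X : Fin n → MvPolynomial (Fin n) (RR k n)))) :=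
    fun i => Ideal.mem_map_of_mem _ (Ideal.subset_span ⟨i, rfl⟩)
  apply le_antisymm
  · intro y hy
    obtain ⟨q, rfl⟩ := Ideal.Quotient.mk_surjective y
    have hq := (mk_mem_maximalIdeal_iff (FF p a) hmon hdeg hlow q).mp hy
    set c := MvPolynomial.constantCoeff q with hc
    have h1 : q - MvPolynomial.C c ∈
        Ideal.span (Set.range (MvPolynomial.X : Fin n → MvPolynomial (Fin n) (RR k n))) := by
      rw [← Set.image_univ, MvPolynomial.mem_ideal_span_X_image]
      intro m hm
      by_contra hcon
      push_neg at hcon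
      have hm0 : m = 0 := by
        ext i
        exact hcon i (Set.mem_univ i)
      rw [MvPolynomial.mem_support_iff, hm0, MvPolynomial.coeff_sub, MvPolynomial.coeff_C, if_pos rfl] at hm
      exact hm (sub_self _)
    have h2 : Ideal.Quotient.mk (Groth.Agent.S4610.Iof (FF p a)) (MvPolynomial.C c) ∈
        Ideal.map (Ideal.Quotient.mk (Groth.Agent.S4610.Iof (FF p a)))
        (Ideal.span (Set.range (MvPolynomial.X : Fin n → MvPolynomial (Fin n) (RR k n)))) := by
      have hc1 : c ∈ Ideal.span (Set.range (MvPowerSeries.X : Fin n → RR k n)) := by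
        have := Groth.Agent.Lib.H59PowerSeries.mem_pow_span_X_of_coeff_eq_zero 1 c (by
          intro e he
          have he0 : e = 0 := (Finsupp.degree_eq_zero_iff e).mp (by omega)
          rw [he0]
          exact (mem_maximalIdeal_iff c).mp hq)
        rwa [pow_one] at this
      have hc2 : algebraMap (RR k n) (Q (FF p a)) c ∈
          Ideal.map (algebraMap (RR k n) (Q (FF p a)))
            (Ideal.span (Set.range (MvPowerSeries.X : Fin n → RR k n))) :=
        Ideal.mem_map_of_mem _ hc1
      rw [Ideal.map_span] at hc2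
      refine (Ideal.span_le.mpr ?_) hc2
      rintro _ ⟨_, ⟨i, rfl⟩, rfl⟩
      have h3 := algebraMap_coeff_zero_mem (FF p a) i
      have h4 : (FF p a i).coeff 0 = - MvPowerSeries.X i := by
        unfold FF; rw [GG_coeff_zero _ _ hp]
      rw [h4, map_neg, Ideal.neg_mem_iff] at h3
      exact (Ideal.span_le.mpr (by
        intro z hz
        rw [Set.mem_singleton_iff.mp hz]
        exact hT i)) h3
    have h5 : Ideal.Quotient.mk (Groth.Agent.S4610.Iof (FF p a)) q =
        Ideal.Quotient.mk _ (q - MvPolynomial.C c) + Ideal.Quotient.mk _ (MvPolynomial.C c) := by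
      rw [← map_add, sub_add_cancel]
    rw [h5]
    exact add_mem (Ideal.mem_map_of_mem _ h1) h2
  · rw [Ideal.map_span, Ideal.span_le]
    rintro _ ⟨_, ⟨i, rfl⟩, rfl⟩
    exact t_mem (FF p a) hmon hdeg hlow (maximalIdeal _) i


include hp ham in
theorem isAdicComplete_Q :
    IsAdicComplete (Ideal.map (Ideal.Quotient.mk (Groth.Agent.S4610.Iof (FF p a)))
        (Ideal.span (Set.range (MvPolynomial.X : Fin n → MvPolynomial (Fin n) (RR k n)))))
      (Q (FF p a)) := by
  haveI := isLocalRing_Q a hp ham
  have hmon := FF_mon a hp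
  have hdeg := FF_deg a hp
  have hlow := FF_low a hp ham
  set J := Ideal.map (Ideal.Quotient.mk (Groth.Agent.S4610.Iof (FF p a)))
        (Ideal.span (Set.range (MvPolynomial.X : Fin n → MvPolynomial (Fin n) (RR k n)))) with hJ
  set I₀ : Ideal (RR k n) := Ideal.span (Set.range (MvPowerSeries.X : Fin n → RR k n)) with hI₀
  set I : Ideal (Q (FF p a)) := I₀.map (algebraMap (RR k n) (Q (FF p a))) with hI
  haveI : Module.Free (RR k n) (Q (FF p a)) := free_Q a hp
  haveI : Module.Finite (RR k n) (Q (FF p a)) := finite (FF p a) hmon hdeg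
  haveI h1 : IsAdicComplete I₀ (Q (FF p a)) :=
    Groth.Agent.Lib.NormalDecomp58.isAdicComplete_of_finite_projective I₀
  haveI h2 : IsAdicComplete I (Q (FF p a)) := (IsAdicComplete.map_algebraMap_iff I₀ (Q (FF p a))).mpr h1
  -- J is nilpotent modulo I
  have hJI : J ≤ I.radical := by
    rw [hJ, Ideal.map_span, Ideal.span_le]
    rintro _ ⟨_, ⟨i, rfl⟩, rfl⟩
    refine ⟨p, ?_⟩
    have h0 : Polynomial.aeval (t (FF p a) i) (GG p (a i ^ (p - 1)) (MvPowerSeries.X i)) = 0 :=
      aeval_t (FF p a) i
    unfold GG at h0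
    rw [map_sub, map_add, map_mul, map_pow, aeval_X, aeval_C, aeval_C, sub_eq_zero] at h0
    show t (FF p a) i ^ p ∈ I
    rw [h0]
    have hx : ∀ c : RR k n, c ∈ I₀ → algebraMap (RR k n) (Q (FF p a)) c ∈ I :=
      fun c hc => Ideal.mem_map_of_mem _ hc
    have hI₀m : ∀ c : RR k n, MvPowerSeries.constantCoeff c = 0 → c ∈ I₀ := by
      intro c hc
      have := Groth.Agent.Lib.H59PowerSeries.mem_pow_span_X_of_coeff_eq_zero 1 c (by
        intro e he
        have he0 : e = 0 := (Finsupp.degree_eq_zero_iff e).mp (by omega)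
        rw [he0]
        exact hc)
      rwa [pow_one] at this
    refine add_mem (Ideal.mul_mem_right _ _ (hx _ (hI₀m _ ?_))) (hx _ (Ideal.subset_span ⟨i, rfl⟩))
    rw [map_pow, ham]
    have : p - 1 ≠ 0 := by omega
    simp [this]
  have hJfg : J.FG := by
    rw [hJ]
    exact Ideal.FG.map (Submodule.fg_span (Set.finite_range _)) _
  obtain ⟨N, hN⟩ := Ideal.exists_pow_le_of_le_radical_of_fg hJI hJfg
  have hN' : (Ideal.map (Ideal.Quotient.mk I) J) ^ N = ⊥ := by
    have e := Ideal.map_pow (Ideal.Quotient.mk I) J N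
    rw [← e, eq_bot_iff]
    intro x hx
    obtain ⟨y, hy, rfl⟩ := (Ideal.mem_map_iff_of_surjective _ Ideal.Quotient.mk_surjective).mp hx
    exact (Ideal.Quotient.eq_zero_iff_mem.mpr (hN hy))
  haveI h3 : IsAdicComplete (Ideal.map (Ideal.Quotient.mk I) J) (Q (FF p a) ⧸ I) :=
    Groth.Agent.Lib.NilThick.isAdicComplete_of_pow_eq_bot _ hN' _
  exact Groth.Agent.Lib.AdicTwo.isAdicComplete_of_isAdicComplete_quotient I J

end Groth.Agent.Lib.H94AS
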