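import Groth.Agent.Lib.H94AS
import Mathlib

set_option autoImplicit false
set_option linter.unusedSectionVars false
set_option linter.style.haveILetI false
set_option linter.deprecated false
universe u

namespace Groth.Agent.Lib.H94AS

open IsLocalRing Polynomial Groth.Agent.Lib.H94Eisen

section Generic

attribute [local instance] FractionRing.liftAlgebra

/-- If a finite free extension of domains `R ⊆ A` has as many `R`-automorphisms as its rank, then the
elements of `A` fixed by all automorphisms are those of `R`. -/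
theorem fixed_mem_range_generic {R A : Type u} [CommRing R] [CommRing A] [IsDomain R] [IsDomain A]
    [Algebra R A] [Module.Free R A] [Module.Finite R A]
    (hinj : Function.Injective (algebraMap R A))
    (hcard : Nat.card (A ≃ₐ[R] A) = Module.finrank R A) (b : A)
    (hb : ∀ σ : A ≃ₐ[R] A, σ b = b) : b ∈ Set.range (algebraMap R A) := by
  classical
  haveI : FaithfulSMul R A := (faithfulSMul_iff_algebraMap_injective _ _).mpr hinj
  haveI : FaithfulSMul A (FractionRing A) :=
    (faithfulSMul_iff_algebraMap_injective _ _).mpr (IsFractionRing.injective _ _)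
  haveI : FaithfulSMul R (FractionRing A) := .trans R A (FractionRing A)
  haveI : Nontrivial A := inferInstance
  have hpos : 0 < Module.finrank R A := Module.finrank_pos
  have hfin : Module.finrank (FractionRing R) (FractionRing A) = Module.finrank R A :=
    IsFractionRing.finrank_eq R (FractionRing R) A (FractionRing A)
  haveI : FiniteDimensional (FractionRing R) (FractionRing A) :=
    Module.finite_of_finrank_pos (by rw [hfin]; exact hpos)
  set Ψ := IsFractionRing.fieldEquivOfAlgEquivHom (A := R) (B := A)
    (FractionRing R) (FractionRing A) with hΨ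
  have hΨinj : Function.Injective Ψ :=
    IsFractionRing.fieldEquivOfAlgEquivHom_injective R A _ _
  have hcardH : Nat.card Ψ.range = Module.finrank R A := by
    rw [← Nat.card_congr (MonoidHom.ofInjective hΨinj).toEquiv]
    exact hcard
  have h1 := IntermediateField.finrank_fixedField_eq_card Ψ.range
  have h2 := Module.finrank_mul_finrank (FractionRing R)
    (IntermediateField.fixedField Ψ.range) (FractionRing A)
  rw [h1, hcardH, hfin] at h2
  have h3 : Module.finrank (FractionRing R) (IntermediateField.fixedField Ψ.range) = 1 := by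
    have : Module.finrank (FractionRing R) (IntermediateField.fixedField Ψ.range) *
        Module.finrank R A = 1 * Module.finrank R A := by rw [h2, one_mul]
    exact Nat.eq_of_mul_eq_mul_right hpos this
  have h4 : IntermediateField.fixedField Ψ.range = ⊥ := IntermediateField.finrank_eq_one_iff.mp h3
  have h5 : algebraMap A (FractionRing A) b ∈ IntermediateField.fixedField Ψ.range := by
    rw [IntermediateField.mem_fixedField_iff]
    rintro _ ⟨σ, rfl⟩
    rw [hΨ, IsFractionRing.fieldEquivOfAlgEquivHom_apply,
      IsFractionRing.fieldEquivOfAlgEquiv_algebraMap, hb]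
  rw [h4, IntermediateField.mem_bot] at h5
  obtain ⟨x, hx⟩ := h5
  obtain ⟨r, s, hs, rfl⟩ := IsFractionRing.div_surjective (A := R) x
  have hs0 : s ≠ 0 := nonZeroDivisors.ne_zero hs
  have h6 : algebraMap R A s * b = algebraMap R A r := by
    apply IsFractionRing.injective A (FractionRing A)
    rw [map_mul, ← hx, map_div₀, ← IsScalarTower.algebraMap_apply, ← IsScalarTower.algebraMap_apply,
      ← IsScalarTower.algebraMap_apply, ← IsScalarTower.algebraMap_apply]
    have : algebraMap R (FractionRing A) s ≠ 0 :=
      (map_ne_zero_iff _ (FaithfulSMul.algebraMap_injective _ _)).mpr hs0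
    field_simp
  have h7 : r ∈ Ideal.span {s} := by
    rw [← Ideal.comap_map_eq_self_of_faithfullyFlat (B := A) (Ideal.span {s}),
      Ideal.mem_comap, Ideal.map_span, Set.image_singleton, ← h6]
    exact Ideal.mul_mem_right _ _ (Ideal.subset_span rfl)
  obtain ⟨r', rfl⟩ := Ideal.mem_span_singleton'.mp h7
  refine ⟨r', ?_⟩
  have hs1 : algebraMap R A s ≠ 0 := (map_ne_zero_iff _ hinj).mpr hs0
  apply mul_left_cancel₀ hs1
  rw [h6, map_mul, mul_comm]

end Generic

section Auto

variable {p : ℕ} [hpp : Fact p.Prime] {k : Type u} [Field k] {n : ℕ} (a : Fin n → RR k n)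
variable [CharP (Q (FF p a)) p]

/-- image of `a i` in `A`. -/
noncomputable def al (i : Fin n) : Q (FF p a) := algebraMap (RR k n) (Q (FF p a)) (a i)

/-- the prime field elements in `A`. -/
noncomputable def zc : ZMod p →+* Q (FF p a) := ZMod.castHom (dvd_refl p) (Q (FF p a))

lemma zc_pow (z : ZMod p) : zc a z ^ p = zc a z := by
  rw [← map_pow, ZMod.pow_card]

lemma map_zc (f : Q (FF p a) →+* Q (FF p a)) (z : ZMod p) : f (zc a z) = zc a z :=
  RingHom.congr_fun (Subsingleton.elim (f.comp (zc a)) (zc a)) z

lemma aeval_GG {S B : Type*} [CommRing S] [CommRing B] [Algebra S B] (q : ℕ) (b c : S) (y : B) :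
    Polynomial.aeval y (GG q b c) = y ^ q - (algebraMap S B b * y + algebraMap S B c) := by
  unfold GG
  rw [map_sub, map_add, map_mul, map_pow, aeval_X, aeval_C, aeval_C]

lemma aeval_FF (i : Fin n) (y : Q (FF p a)) :
    Polynomial.aeval y (FF p a i) =
      y ^ p - (al a i ^ (p - 1) * y + algebraMap (RR k n) (Q (FF p a)) (MvPowerSeries.X i)) := by
  show Polynomial.aeval y (GG p (a i ^ (p - 1)) (MvPowerSeries.X i)) = _
  rw [aeval_GG, map_pow]
  rfl

lemma root_shift (i : Fin n) (y : Q (FF p a)) (hy : Polynomial.aeval y (FF p a i) = 0) (z : ZMod p) :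
    Polynomial.aeval (y + zc a z * al a i) (FF p a i) = 0 := by
  have hp1 : 1 ≤ p := hpp.out.one_le
  rw [aeval_FF] at hy ⊢
  rw [add_pow_char, mul_pow, zc_pow]
  have : (al a i : Q (FF p a)) ^ (p - 1) * (zc a z * al a i) = zc a z * al a i ^ p := by
    have : (al a i : Q (FF p a)) ^ p = al a i ^ (p - 1) * al a i := by
      rw [← pow_succ, Nat.sub_add_cancel hp1]
    rw [this]; ring
  rw [mul_add, this]
  linear_combination hy

lemma sig_aux (v : Fin n → ZMod p) : ∀ q ∈ Groth.Agent.S4610.Iof (FF p a),
    (MvPolynomial.aeval (R := RR k n) (fun i => t (FF p a) i + zc a (v i) * al a i)) q = 0 := by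
  intro q hq
  have hle : Groth.Agent.S4610.Iof (FF p a) ≤ RingHom.ker
      (MvPolynomial.aeval (R := RR k n) (fun i => t (FF p a) i + zc a (v i) * al a i)) := by
    unfold Groth.Agent.S4610.Iof
    rw [Ideal.span_le]
    rintro _ ⟨i, rfl⟩
    show (MvPolynomial.aeval (R := RR k n) (fun i => t (FF p a) i + zc a (v i) * al a i))
      (Polynomial.aeval (MvPolynomial.X i) (FF p a i)) = 0
    rw [← Polynomial.aeval_algHom_apply, MvPolynomial.aeval_X]
    exact root_shift a i _ (aeval_t (FF p a) i) (v i)
  exact hle hq

/-- the substitution `u_i ↦ u_i + v_i a_i`. -/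
noncomputable def sig (v : Fin n → ZMod p) : Q (FF p a) →ₐ[RR k n] Q (FF p a) :=
  Ideal.Quotient.liftₐ (Groth.Agent.S4610.Iof (FF p a))
    (MvPolynomial.aeval (fun i => t (FF p a) i + zc a (v i) * al a i)) (sig_aux a v)

lemma sig_t (v : Fin n → ZMod p) (i : Fin n) :
    sig a v (t (FF p a) i) = t (FF p a) i + zc a (v i) * al a i := by
  show (MvPolynomial.aeval (R := RR k n) (fun i => t (FF p a) i + zc a (v i) * al a i))
    (MvPolynomial.X i) = _
  exact MvPolynomial.aeval_X _ i

lemma algHom_ext_t {f g : Q (FF p a) →ₐ[RR k n] Q (FF p a)}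
    (h : ∀ i, f (t (FF p a) i) = g (t (FF p a) i)) : f = g := by
  apply Ideal.Quotient.algHom_ext
  apply MvPolynomial.algHom_ext
  intro i
  exact h i

lemma sig_comp (v w : Fin n → ZMod p) : (sig a v).comp (sig a w) = sig a (v + w) := by
  apply algHom_ext_t
  intro i
  rw [AlgHom.comp_apply, sig_t, map_add, map_mul, sig_t, sig_t]
  have h1 : sig a v (zc a (w i)) = zc a (w i) := map_zc a (sig a v).toRingHom (w i)
  have h2 : sig a v (al a i) = al a i := (sig a v).commutes (a i)
  rw [h1, h2, Pi.add_apply, map_add]
  ring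

lemma sig_zero : sig a (0 : Fin n → ZMod p) = AlgHom.id _ _ := by
  apply algHom_ext_t
  intro i
  rw [sig_t]
  simp

/-- the automorphisms. -/
noncomputable def sigE (v : Fin n → ZMod p) : Q (FF p a) ≃ₐ[RR k n] Q (FF p a) :=
  AlgEquiv.ofAlgHom (sig a v) (sig a (-v))
    (by rw [sig_comp, add_neg_cancel, sig_zero]) (by rw [sig_comp, neg_add_cancel, sig_zero])

lemma sigE_apply (v : Fin n → ZMod p) (x : Q (FF p a)) : sigE a v x = sig a v x := rfl

lemma sigE_mul (v w : Fin n → ZMod p) : sigE a v * sigE a w = sigE a (v + w) := by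
  ext x
  show sig a v (sig a w x) = sig a (v + w) x
  rw [← sig_comp]; rfl

lemma sigE_zero : sigE a (0 : Fin n → ZMod p) = 1 := by
  ext x
  show sig a 0 x = x
  rw [sig_zero]; rfl


section Dom

variable [IsDomain (Q (FF p a))]
  (hinj : Function.Injective (algebraMap (RR k n) (Q (FF p a)))) (ha0 : ∀ i, a i ≠ 0)

include hinj ha0 in
lemma al_ne_zero (i : Fin n) : al (p := p) a i ≠ 0 := by
  unfold al
  exact (map_ne_zero_iff _ hinj).mpr (ha0 i)

lemma zc_injective : Function.Injective (zc (p := p) a) := (zc a).injective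

include hinj ha0 in
lemma shift_injective (i : Fin n) (y : Q (FF p a)) {z z' : ZMod p}
    (h : y + zc a z * al a i = y + zc a z' * al a i) : z = z' := by
  have h1 : zc a z * al a i = zc a z' * al a i := add_left_cancel h
  have h2 := mul_right_cancel₀ (al_ne_zero a hinj ha0 i) h1
  exact zc_injective a h2

include hinj ha0 in
lemma exists_shift (i : Fin n) (y : Q (FF p a)) (hy : Polynomial.aeval y (FF p a i) = 0) :
    ∃ z : ZMod p, y = t (FF p a) i + zc a z * al a i := by
  classical
  have hp2 : 2 ≤ p := hpp.out.two_le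
  by_contra hcon
  push Not at hcon
  let f : Option (ZMod p) → Q (FF p a) := fun o => o.elim y (fun z => t (FF p a) i + zc a z * al a i)
  have hf : Function.Injective f := by
    intro o o' h
    cases o with
    | none =>
      cases o' with
      | none => rfl
      | some z' => exact absurd h (hcon z')
    | some z =>
      cases o' with
      | none => exact absurd h.symm (hcon z)
      | some z' =>
        have : z = z' := shift_injective a hinj ha0 i _ h
        rw [this]
  have hroot : ∀ o, ((FF p a i).map (algebraMap (RR k n) (Q (FF p a)))).eval (f o) = 0 := by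
    intro o
    rw [Polynomial.eval_map, ← Polynomial.aeval_def]
    cases o with
    | none => exact hy
    | some z => exact root_shift a i _ (aeval_t (FF p a) i) z
  have hdeg : ((FF p a i).map (algebraMap (RR k n) (Q (FF p a)))).natDegree <
      Fintype.card (Option (ZMod p)) := by
    rw [Fintype.card_option, ZMod.card]
    refine lt_of_le_of_lt (Polynomial.natDegree_map_le) ?_
    show (GG p (a i ^ (p - 1)) (MvPowerSeries.X i)).natDegree < p + 1
    rw [GG_natDegree _ _ hp2]
    exact Nat.lt_succ_self p
  have h0 := Polynomial.eq_zero_of_natDegree_lt_card_of_eval_eq_zero _ hf hroot hdeg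
  exact ((FF_mon a hp2 i).map (algebraMap (RR k n) (Q (FF p a)))).ne_zero h0

include hinj ha0 in
lemma exists_sig (τ : Q (FF p a) →ₐ[RR k n] Q (FF p a)) : ∃ v : Fin n → ZMod p, τ = sig a v := by
  have h : ∀ i, ∃ z : ZMod p, τ (t (FF p a) i) = t (FF p a) i + zc a z * al a i := by
    intro i
    apply exists_shift a hinj ha0
    rw [Polynomial.aeval_algHom_apply, aeval_t, map_zero]
  choose v hv using h
  refine ⟨v, algHom_ext_t a (fun i => ?_)⟩
  rw [hv, sig_t]

include hinj ha0 in
lemma sigE_injective : Function.Injective (sigE (p := p) a) := by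
  intro v w h
  funext i
  have h1 : sigE a v (t (FF p a) i) = sigE a w (t (FF p a) i) := by rw [h]
  rw [sigE_apply, sigE_apply, sig_t, sig_t] at h1
  exact shift_injective a hinj ha0 i _ h1

include hinj ha0 in
lemma sigE_surjective : Function.Surjective (sigE (p := p) a) := by
  intro τ
  obtain ⟨v, hv⟩ := exists_sig a hinj ha0 τ.toAlgHom
  refine ⟨v, ?_⟩
  ext x
  rw [sigE_apply, ← hv]
  rfl

lemma sigE_pow (v : Fin n → ZMod p) (m : ℕ) : sigE a v ^ m = sigE a (m • v) := by
  induction m with
  | zero => rw [pow_zero, zero_smul, sigE_zero]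
  | succ m ih => rw [pow_succ, ih, sigE_mul, succ_nsmul]

lemma sigE_pow_p (v : Fin n → ZMod p) : sigE a v ^ p = 1 := by
  rw [sigE_pow, ← sigE_zero]
  congr 1
  funext i
  simp [CharP.cast_eq_zero]

include hinj ha0 in
lemma card_aut : Nat.card (Q (FF p a) ≃ₐ[RR k n] Q (FF p a)) = p ^ n := by
  rw [← Nat.card_congr (Equiv.ofBijective (sigE (p := p) a)
    ⟨sigE_injective a hinj ha0, sigE_surjective a hinj ha0⟩)]
  rw [Nat.card_fun, Nat.card_zmod, Nat.card_fin]

end Dom



end Auto

end Groth.Agent.Lib.H94AS
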