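import Groth.Agent.Lib.H94SchFin
import Mathlib.RingTheory.IsTensorProduct
import Mathlib.LinearAlgebra.TensorProduct.Pi
import Mathlib.RingTheory.Flat.FaithfullyFlat.Basic

/-!
# helper94: affine up-sets of finite spaces: transport of base change along isomorphisms, sections
over `U` versus global sections of the restriction, the counit of an affine up-set in terms of
sections over `U`, base change to a finite product, and descent of base change along a faithfully
flat map.
-/

set_option autoImplicit false
set_option linter.unusedVariables false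
universe u

namespace Groth.Agent.Lib.H94Aff

open TensorProduct SchFin

/-- transport of a base change along isomorphisms of the source ring and module -/
theorem isBCAlong_transport {R R' S : Type u} [CommRing R] [CommRing R'] [CommRing S]
    (σ : R ≃+* R') (g' : R' →+* S) {M M' N : Type u} [AddCommGroup M] [AddCommGroup M']
    [AddCommGroup N] [Module R M] [Module R' M'] [Module S N]
    (τ : M ≃+ M') (hτ : ∀ (r : R) (m : M), τ (r • m) = σ r • τ m)
    (f' : M' →ₛₗ[g'] N) (hf' : IsBCAlong g' f')
    (g : R →+* S) (hg : ∀ r, g r = g' (σ r)) (f : M →ₛₗ[g] N) (hf : ∀ m, f m = f' (τ m)) :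
    IsBCAlong g f := by
  let _ : Algebra R S := g.toAlgebra
  let _ : Module R N := Module.compHom N g
  have : IsScalarTower R S N := IsScalarTower.of_algebraMap_smul fun _ _ => rfl
  let _ : Algebra R' S := g'.toAlgebra
  let _ : Module R' N := Module.compHom N g'
  have : IsScalarTower R' S N := IsScalarTower.of_algebraMap_smul fun _ _ => rfl
  have hbc' : IsBaseChange S
      ({ toFun := f', map_add' := f'.map_add, map_smul' := f'.map_smulₛₗ } : M' →ₗ[R'] N) := hf'
  show IsBaseChange S ({ toFun := f, map_add' := f.map_add, map_smul' := f.map_smulₛₗ } : M →ₗ[R] N)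
  apply IsBaseChange.of_lift_unique
  intro Q instQ instRQ instSQ instT γ
  letI instG : AddCommGroup Q := Module.addCommMonoidToAddCommGroup S
  let _ : Module R' Q := Module.compHom Q g'
  have : IsScalarTower R' S Q := IsScalarTower.of_algebraMap_smul fun _ _ => rfl
  have hsmulQ : ∀ (r : R) (x : Q), r • x = g r • x := fun r x => (algebraMap_smul S r x).symm
  have hτs : ∀ (r' : R') (m' : M'), τ.symm (r' • m') = σ.symm r' • τ.symm m' := by
    intro r' m'
    apply τ.injective
    rw [hτ, AddEquiv.apply_symm_apply, RingEquiv.apply_symm_apply, AddEquiv.apply_symm_apply]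
  let γ' : M' →ₗ[R'] Q :=
    { toFun := fun m' => γ (τ.symm m')
      map_add' := fun a b => by rw [map_add, map_add]
      map_smul' := fun r' m' => by
        show γ (τ.symm (r' • m')) = g' r' • γ (τ.symm m')
        rw [hτs, map_smul, hsmulQ, hg, RingEquiv.apply_symm_apply] }
  refine ⟨hbc'.lift γ', ?_, ?_⟩
  · ext m
    show hbc'.lift γ' (f m) = γ m
    rw [hf]
    have := hbc'.lift_eq γ' (τ m)
    refine this.trans ?_
    show γ (τ.symm (τ m)) = γ m
    rw [AddEquiv.symm_apply_apply]
  · intro h' hh'
    apply hbc'.algHom_ext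
    intro m'
    have h1 := hbc'.lift_eq γ' m'
    refine Eq.trans ?_ h1.symm
    show h' (f' m') = γ (τ.symm m')
    have h2 := LinearMap.congr_fun hh' (τ.symm m')
    refine Eq.trans ?_ h2
    show h' (f' m') = h' (f (τ.symm m'))
    rw [hf, AddEquiv.apply_symm_apply]

section Restrict

variable (X : RSpace.{u}) (U : Set X.pt)

/-- sections over `U` are the global sections of the restriction to `U` -/
def sectRingEquiv : X.sectRing U ≃+* (X.restrict U).sectRing Set.univ where
  toFun s := ⟨fun q => s.1 q.1, fun q q' h => s.2 q.1 q'.1 h⟩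
  invFun t := ⟨fun q => t.1 ⟨q, trivial⟩, fun q q' h => t.2 ⟨q, trivial⟩ ⟨q', trivial⟩ h⟩
  left_inv s := rfl
  right_inv t := rfl
  map_mul' a b := rfl
  map_add' a b := rfl

variable {X}

/-- sections of a module over `U` are the global sections of its restriction to `U` -/
def sectEquiv (M : OMod X) : M.sect U ≃+ (M.restrict U).sect Set.univ where
  toFun s := ⟨fun q => s.1 q.1, fun q q' h => s.2 q.1 q'.1 h⟩
  invFun t := ⟨fun q => t.1 ⟨q, trivial⟩, fun q q' h => t.2 ⟨q, trivial⟩ ⟨q', trivial⟩ h⟩
  left_inv s := rfl
  right_inv t := rfl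
  map_add' a b := rfl

theorem restrict_isQcoh (M : OMod X) (hM : M.IsQcoh) : (M.restrict U).IsQcoh :=
  fun p q h => hM p.1 q.1 h

/-- the counit of an affine up-set: evaluation at a point is a base change -/
theorem isBCAlong_evalMod_of_affine (hUa : (X.restrict U).IsAffine) (M : OMod X) (hM : M.IsQcoh)
    (q : U) : IsBCAlong (X.evalRing U q) (M.evalMod U q) := by
  have h := hUa.2.2.1 (M.restrict U) (restrict_isQcoh U M hM) q
  exact isBCAlong_transport (sectRingEquiv X U) _ (sectEquiv U M) (fun r m => rfl) _ h
    (X.evalRing U q) (fun r => rfl) (M.evalMod U q) (fun m => rfl)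

end Restrict

/-- a finite family of base changes gives a base change to the product ring -/
theorem isBaseChange_pi {R : Type u} [CommRing R] {ι : Type u} [Finite ι] (S : ι → Type u)
    [∀ i, CommRing (S i)] [∀ i, Algebra R (S i)] {M : Type u} [AddCommGroup M] [Module R M]
    (N : ι → Type u) [∀ i, AddCommGroup (N i)] [∀ i, Module R (N i)] [∀ i, Module (S i) (N i)]
    [∀ i, IsScalarTower R (S i) (N i)] (f : ∀ i, M →ₗ[R] N i)
    (hf : ∀ i, IsBaseChange (S i) (f i)) :
    IsBaseChange (∀ i, S i) (LinearMap.pi f : M →ₗ[R] ∀ i, N i) := by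
  classical
  have := Fintype.ofFinite ι
  let Φ : (∀ i, S i) ⊗[R] M →ₗ[∀ i, S i] ∀ i, N i := (LinearMap.pi f).liftBaseChange (∀ i, S i)
  let e : (∀ i, S i) ⊗[R] M ≃ₗ[R] ∀ i, N i :=
    (TensorProduct.piLeft R M S) ≪≫ₗ
      (LinearEquiv.piCongrRight (fun i => (hf i).equiv.restrictScalars R))
  have hΦ : ∀ z, Φ z = e z := by
    intro z
    induction z using TensorProduct.induction_on with
    | zero => simp
    | tmul s m =>
      funext i
      simp [Φ, e, IsBaseChange.equiv_tmul]
    | add x y hx hy => rw [map_add, map_add, hx, hy]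
  have hbij : Function.Bijective Φ := by
    have : (Φ : (∀ i, S i) ⊗[R] M → ∀ i, N i) = e := funext hΦ
    rw [this]
    exact e.bijective
  exact IsBaseChange.of_equiv (LinearEquiv.ofBijective Φ hbij)
    (fun x => LinearMap.liftBaseChange_one_tmul _ _ x)

/-- base change descends along a faithfully flat ring map -/
theorem isBaseChange_of_faithfullyFlat {R S T : Type u} [CommRing R] [CommRing S] [CommRing T]
    [Algebra R S] [Algebra S T] [Algebra R T] [IsScalarTower R S T] [Module.FaithfullyFlat S T]
    {M N N' : Type u} [AddCommGroup M] [AddCommGroup N] [AddCommGroup N']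
    [Module R M] [Module R N] [Module S N] [IsScalarTower R S N]
    [Module R N'] [Module S N'] [Module T N'] [IsScalarTower S T N'] [IsScalarTower R T N']
    [IsScalarTower R S N']
    (f : M →ₗ[R] N) (h : N →ₗ[S] N') (hh : IsBaseChange T h)
    (hc : IsBaseChange T ((h.restrictScalars R) ∘ₗ f)) : IsBaseChange S f := by
  let φ : S ⊗[R] M →ₗ[S] N := f.liftBaseChange S
  have key : ∀ z : T ⊗[S] (S ⊗[R] M), hh.equiv (LinearMap.lTensor T φ z) =
      hc.equiv (TensorProduct.AlgebraTensorModule.cancelBaseChange R S T T M z) := by
    intro z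
    induction z using TensorProduct.induction_on with
    | zero => simp
    | tmul t w =>
      induction w using TensorProduct.induction_on with
      | zero => simp
      | tmul s m =>
        rw [LinearMap.lTensor_tmul, IsBaseChange.equiv_tmul,
          TensorProduct.AlgebraTensorModule.cancelBaseChange_tmul, IsBaseChange.equiv_tmul]
        show t • h (s • f m) = (s • t) • h (f m)
        rw [map_smul, smul_assoc, smul_comm]
      | add x y hx hy =>
        rw [TensorProduct.tmul_add, map_add, map_add, map_add, map_add, hx, hy]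
    | add x y hx hy => rw [map_add, map_add, map_add, map_add, hx, hy]
  have hbijT : Function.Bijective (LinearMap.lTensor T φ) := by
    have h1 : (fun z => hh.equiv (LinearMap.lTensor T φ z)) =
        fun z => hc.equiv (TensorProduct.AlgebraTensorModule.cancelBaseChange R S T T M z) :=
      funext key
    have h2 : Function.Bijective (fun z => hh.equiv (LinearMap.lTensor T φ z)) := by
      rw [h1]
      exact hc.equiv.bijective.comp
        (TensorProduct.AlgebraTensorModule.cancelBaseChange R S T T M).bijective
    have h3 : (LinearMap.lTensor T φ : T ⊗[S] (S ⊗[R] M) → T ⊗[S] N) =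
        hh.equiv.symm ∘ (fun z => hh.equiv (LinearMap.lTensor T φ z)) := by
      funext z
      simp
    rw [h3]
    exact hh.equiv.symm.bijective.comp h2
  have hbij : Function.Bijective φ :=
    (Module.FaithfullyFlat.lTensor_bijective_iff_bijective S T φ).1 hbijT
  exact IsBaseChange.of_equiv (LinearEquiv.ofBijective φ hbij)
    (fun x => LinearMap.liftBaseChange_one_tmul _ _ x)

end Groth.Agent.Lib.H94Aff
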