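import Groth.Agent.Lib.H94Aff1

/-!
# helper94: affine up-sets of finite spaces, II: for an affine up-set `U` and a quasi-coherent module,
the inclusion of the sections over `U` into the product of the values at the points of `U` is a base
change to the product of the rings.
-/

set_option autoImplicit false
set_option linter.style.haveILetI false
universe u

namespace Groth.Agent.Lib.H94Aff

open TensorProduct SchFin

/-- the inclusion of the sections into the product is a base change to the product of the rings -/
theorem isBaseChange_subtype_of_affine {X : RSpace.{u}} (U : Set X.pt)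
    (hUa : (X.restrict U).IsAffine) (M : OMod X) (hM : M.IsQcoh) :
    IsBaseChange ((q : ↥U) → X.ring q.1) (M.sect U).subtype := by
  letI : ∀ q : U, Algebra (X.sectRing U) (X.ring q.1) := fun q => (X.evalRing U q).toAlgebra
  letI : ∀ q : U, Module (X.sectRing U) (M.carrier q.1) :=
    fun q => Module.compHom (M.carrier q.1) (X.evalRing U q)
  haveI : ∀ q : U, IsScalarTower (X.sectRing U) (X.ring q.1) (M.carrier q.1) :=
    fun q => IsScalarTower.of_algebraMap_smul fun _ _ => rfl
  have h := isBaseChange_pi (R := X.sectRing U) (ι := U) (fun q => X.ring q.1)
    (M := M.sect U) (fun q => M.carrier q.1)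
    (fun q => ({ toFun := M.evalMod U q, map_add' := (M.evalMod U q).map_add,
                 map_smul' := (M.evalMod U q).map_smulₛₗ } : M.sect U →ₗ[X.sectRing U] M.carrier q.1))
    (fun q => isBCAlong_evalMod_of_affine U hUa M hM q)
  exact h

end Groth.Agent.Lib.H94Aff
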