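import Mathlib
import Groth.Agent.Lib.H94Aff2
import Groth.Prelude.Def_SchFin2

/-!
# helper94: criteria over an affine up-set for properties of quasi-coherent algebras

For an affine up-set `U` of a finite ringed poset, a quasi-coherent algebra `A` and a property `P`
of ring maps that is stable under base change, descends along faithfully flat maps and passes to
finite products of ring maps, `P` holds for `R_q → A_q` for all `q ∈ U` iff it holds for the map on
sections over `U` (given that the product of the `R_q` is faithfully flat over the sections).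
-/

set_option autoImplicit false
set_option linter.style.haveILetI false
set_option linter.unusedSectionVars false
universe u

namespace Groth.Agent.Lib.H94Desc

open TensorProduct SchFin Groth.Agent.Lib.H94Aff

section Abstract

variable {S : Type u} [CommRing S] {ι : Type u} [Finite ι]
  (R : ι → Type u) [∀ i, CommRing (R i)] [∀ i, Algebra S (R i)]
  (B : Type u) [CommRing B] [Algebra S B]
  (A : ι → Type u) [∀ i, CommRing (A i)] [∀ i, Algebra (R i) (A i)] [∀ i, Algebra S (A i)]
  [∀ i, Algebra B (A i)] [∀ i, IsScalarTower S (R i) (A i)] [∀ i, IsScalarTower S B (A i)]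

/-- a finite family of pushout squares over a common base gives a pushout square to the products -/
theorem isPushout_pi (hpo : ∀ i, Algebra.IsPushout S (R i) B (A i)) :
    Algebra.IsPushout S (∀ i, R i) B (∀ i, A i) := by
  constructor
  have h := Groth.Agent.Lib.H94Aff.isBaseChange_pi (R := S) R (M := B) A
    (fun i => (IsScalarTower.toAlgHom S B (A i)).toLinearMap) (fun i => (hpo i).out)
  exact h

/-- the abstract criterion: a property of ring maps that is stable under base change, descends along
faithfully flat maps and passes to finite products holds for `S → B` iff it holds for all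
`R i → A i`, given pushout squares and faithful flatness of the product of the `R i` over `S`. -/
theorem forall_iff_of_pushouts
    {P : ∀ {R S : Type u} [CommRing R] [CommRing S], (R →+* S) → Prop}
    (hBC : RingHom.IsStableUnderBaseChange @P)
    (hD : RingHom.CodescendsAlong @P @RingHom.FaithfullyFlat)
    (hPi : (∀ i, P (algebraMap (R i) (A i))) → P (algebraMap (∀ i, R i) (∀ i, A i)))
    (hpo : ∀ i, Algebra.IsPushout S (R i) B (A i))
    (hff : Module.FaithfullyFlat S (∀ i, R i)) :
    (∀ i, P (algebraMap (R i) (A i))) ↔ P (algebraMap S B) := by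
  constructor
  · intro h
    haveI : Algebra.IsPushout S B (∀ i, R i) (∀ i, A i) := (isPushout_pi R B A hpo).symm
    exact hD (RingHom.faithfullyFlat_algebraMap_iff.mpr hff) (hPi h)
  · intro h i
    haveI : Algebra.IsPushout S B (R i) (A i) := (hpo i).symm
    exact hBC S B (R i) (A i) h

end Abstract

section Pi

variable {ι : Type u} [Finite ι] (R : ι → Type u) [∀ i, CommRing (R i)]
  (A : ι → Type u) [∀ i, CommRing (A i)] [∀ i, Algebra (R i) (A i)]

theorem isLocalization_away_eval [DecidableEq ι] (i : ι) :
    letI : Algebra (∀ i, R i) (R i) := (Pi.evalRingHom R i).toAlgebra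
    IsLocalization.Away (Pi.single i 1 : ∀ i, R i) (R i) := by
  letI : Algebra (∀ i, R i) (R i) := (Pi.evalRingHom R i).toAlgebra
  refine IsLocalization.away_of_isIdempotentElem_of_mul ?_ ?_ ?_
  · ext j
    by_cases h : j = i
    · subst h; simp
    · simp [Pi.single_eq_of_ne h]
  · intro x y
    show x i = y i ↔ _
    constructor
    · intro h
      ext j
      by_cases hj : j = i
      · subst hj; simp [h]
      · simp [Pi.single_eq_of_ne hj]
    · intro h
      have := congrFun h i
      simpa using this
  · intro r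
    exact ⟨Pi.single i r, by show (Pi.single i r : ∀ i, R i) i = r; simp⟩

theorem flat_pi (h : ∀ i, Module.Flat (R i) (A i)) : Module.Flat (∀ i, R i) (∀ i, A i) := by
  classical
  letI : ∀ i, Algebra (∀ i, R i) (R i) := fun i => (Pi.evalRingHom R i).toAlgebra
  letI : ∀ i, Algebra (∀ i, R i) (A i) := fun i => Algebra.compHom (A i) (Pi.evalRingHom R i)
  haveI : ∀ i, IsScalarTower (∀ i, R i) (R i) (A i) :=
    fun i => IsScalarTower.of_algebraMap_eq fun _ => rfl
  haveI : ∀ i, IsLocalization.Away (Pi.single i 1 : ∀ i, R i) (R i) :=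
    fun i => isLocalization_away_eval R i
  haveI : ∀ i, Module.Flat (∀ i, R i) (R i) :=
    fun i => IsLocalization.flat _ (Submonoid.powers (Pi.single i 1 : ∀ i, R i))
  haveI : ∀ i, Module.Flat (∀ i, R i) (A i) := fun i => Module.Flat.trans _ (R i) _
  have := Fintype.ofFinite ι
  have h2 : Module.Flat (∀ i, R i) (Π₀ i, A i) := inferInstance
  exact Module.Flat.of_linearEquiv (DFinsupp.linearEquivFunOnFintype (R := ∀ i, R i) (M := A)).symm

theorem finite_pi (h : ∀ i, Module.Finite (R i) (A i)) : Module.Finite (∀ i, R i) (∀ i, A i) := by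
  classical
  letI : ∀ i, Algebra (∀ i, R i) (R i) := fun i => (Pi.evalRingHom R i).toAlgebra
  letI : ∀ i, Algebra (∀ i, R i) (A i) := fun i => Algebra.compHom (A i) (Pi.evalRingHom R i)
  haveI : ∀ i, IsScalarTower (∀ i, R i) (R i) (A i) :=
    fun i => IsScalarTower.of_algebraMap_eq fun _ => rfl
  haveI : ∀ i, Module.Finite (∀ i, R i) (R i) := fun i =>
    Module.Finite.of_surjective (Algebra.linearMap (∀ i, R i) (R i))
      (fun r => ⟨Pi.single i r, by show (Pi.single i r : ∀ i, R i) i = r; simp⟩)
  haveI : ∀ i, Module.Finite (∀ i, R i) (A i) := fun i => Module.Finite.trans (R i) (A i)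
  have h2 : Module.Finite (∀ i, R i) (∀ i, A i) := Module.Finite.pi
  exact h2

theorem etale_pi (h : ∀ i, Algebra.Etale (R i) (A i)) : Algebra.Etale (∀ i, R i) (∀ i, A i) := by
  classical
  letI : ∀ i, Algebra (∀ i, R i) (R i) := fun i => (Pi.evalRingHom R i).toAlgebra
  letI : ∀ i, Algebra (∀ i, R i) (A i) := fun i => Algebra.compHom (A i) (Pi.evalRingHom R i)
  haveI : ∀ i, IsScalarTower (∀ i, R i) (R i) (A i) :=
    fun i => IsScalarTower.of_algebraMap_eq fun _ => rfl
  haveI : ∀ i, IsLocalization.Away (Pi.single i 1 : ∀ i, R i) (R i) :=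
    fun i => isLocalization_away_eval R i
  haveI : ∀ i, Algebra.Etale (∀ i, R i) (R i) :=
    fun i => Algebra.Etale.of_isLocalizationAway (Pi.single i 1 : ∀ i, R i)
  haveI : ∀ i, Algebra.Etale (∀ i, R i) (A i) := fun i => Algebra.Etale.comp _ (R i) _
  have h2 : @Algebra.Etale (∀ i, R i) (∀ i, A i) _ _ (Pi.algebra ι A) := inferInstance
  have e : (Pi.algebra ι A : Algebra (∀ i, R i) (∀ i, A i)) = Pi.instAlgebraForall A R := by
    apply Algebra.algebra_ext
    intro r
    rfl
  rw [e] at h2
  exact h2

theorem faithfullyFlat_pi (h : ∀ i, Module.FaithfullyFlat (R i) (A i)) :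
    Module.FaithfullyFlat (∀ i, R i) (∀ i, A i) := by
  haveI : Module.Flat (∀ i, R i) (∀ i, A i) := flat_pi R A (fun i => inferInstance)
  refine Module.FaithfullyFlat.of_comap_surjective fun P => ?_
  obtain ⟨⟨i, p⟩, rfl⟩ := (PrimeSpectrum.sigmaToPi_bijective R).2 P
  obtain ⟨q, hq⟩ := PrimeSpectrum.comap_surjective_of_faithfullyFlat (A := R i) (B := A i) p
  refine ⟨PrimeSpectrum.comap (Pi.evalRingHom A i) q, ?_⟩
  rw [PrimeSpectrum.sigmaToPi_apply, ← hq, ← PrimeSpectrum.comap_comp_apply,
    ← PrimeSpectrum.comap_comp_apply]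
  rfl

end Pi

theorem flat_codescendsAlong_faithfullyFlat :
    RingHom.CodescendsAlong.{u} RingHom.Flat RingHom.FaithfullyFlat := by
  refine .mk _ RingHom.Flat.respectsIso fun R S T _ _ _ _ _ h h' ↦ ?_
  rw [RingHom.flat_algebraMap_iff] at h' ⊢
  rw [RingHom.faithfullyFlat_algebraMap_iff] at h
  exact Module.Flat.of_flat_tensorProduct R T S

theorem faithfullyFlat_codescendsAlong_faithfullyFlat :
    RingHom.CodescendsAlong.{u} RingHom.FaithfullyFlat RingHom.FaithfullyFlat := by
  refine .mk _ RingHom.FaithfullyFlat.respectsIso fun R S T _ _ _ _ _ h h' ↦ ?_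
  rw [RingHom.faithfullyFlat_algebraMap_iff] at h h' ⊢
  haveI : Module.Flat R T := Module.Flat.of_flat_tensorProduct R T S
  refine Module.FaithfullyFlat.of_comap_surjective fun P => ?_
  obtain ⟨Q, hQ⟩ := PrimeSpectrum.comap_surjective_of_faithfullyFlat (A := R) (B := S) P
  obtain ⟨Q', hQ'⟩ := PrimeSpectrum.comap_surjective_of_faithfullyFlat (A := S) (B := S ⊗[R] T) Q
  refine ⟨PrimeSpectrum.comap
    (Algebra.TensorProduct.includeRight : T →ₐ[R] S ⊗[R] T).toRingHom Q', ?_⟩
  rw [← hQ, ← hQ', ← PrimeSpectrum.comap_comp_apply, ← PrimeSpectrum.comap_comp_apply]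
  congr 1
  ext r
  simp

section Inst

variable {X : RSpace.{u}} (A : Alg X) (U : Set X.pt)

/-- sections of the algebra over `U` are the sections of its underlying module, linearly over the
sections of the rings -/
def sectLinEquiv :
    letI : Algebra (X.sectRing U) (A.total.sectRing U) := (A.sectMap U).toAlgebra
    A.total.sectRing U ≃ₗ[X.sectRing U] A.toMod.sect U :=
  letI : Algebra (X.sectRing U) (A.total.sectRing U) := (A.sectMap U).toAlgebra
  { toFun := fun b => ⟨b.1, b.2⟩
    invFun := fun m => ⟨m.1, m.2⟩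
    left_inv := fun _ => rfl
    right_inv := fun _ => rfl
    map_add' := fun _ _ => rfl
    map_smul' := fun s b => by
      apply Subtype.ext
      funext q
      have hb : ∀ x : A.carrier q.1,
          algebraMap (X.ring q.1) (A.carrier q.1) (s.1 q) * x = s.1 q • x :=
        fun x => (Algebra.smul_def _ _).symm
      exact hb _ }

theorem isPushout_eval (hA : A.IsQcoh) (hUa : (X.restrict U).IsAffine) (q : U) :
    letI : Algebra (X.sectRing U) (A.total.sectRing U) := (A.sectMap U).toAlgebra
    letI : Algebra (X.sectRing U) (X.ring q.1) := (X.evalRing U q).toAlgebra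
    letI : Algebra (X.sectRing U) (A.carrier q.1) := Algebra.compHom (A.carrier q.1) (X.evalRing U q)
    letI : Algebra (A.total.sectRing U) (A.carrier q.1) := (A.total.evalRing U q).toAlgebra
    haveI : IsScalarTower (X.sectRing U) (X.ring q.1) (A.carrier q.1) :=
      IsScalarTower.of_algebraMap_eq fun _ => rfl
    haveI : IsScalarTower (X.sectRing U) (A.total.sectRing U) (A.carrier q.1) :=
      IsScalarTower.of_algebraMap_eq fun _ => rfl
    Algebra.IsPushout (X.sectRing U) (X.ring q.1) (A.total.sectRing U) (A.carrier q.1) := by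
  letI : Algebra (X.sectRing U) (A.total.sectRing U) := (A.sectMap U).toAlgebra
  letI : Algebra (X.sectRing U) (X.ring q.1) := (X.evalRing U q).toAlgebra
  letI : Algebra (X.sectRing U) (A.carrier q.1) := Algebra.compHom (A.carrier q.1) (X.evalRing U q)
  letI : Algebra (A.total.sectRing U) (A.carrier q.1) := (A.total.evalRing U q).toAlgebra
  haveI : IsScalarTower (X.sectRing U) (X.ring q.1) (A.carrier q.1) :=
    IsScalarTower.of_algebraMap_eq fun _ => rfl
  haveI : IsScalarTower (X.sectRing U) (A.total.sectRing U) (A.carrier q.1) :=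
    IsScalarTower.of_algebraMap_eq fun _ => rfl
  constructor
  have h := isBCAlong_evalMod_of_affine U hUa A.toMod hA q
  have h' : IsBaseChange (X.ring q.1)
      ({ toFun := A.toMod.evalMod U q, map_add' := (A.toMod.evalMod U q).map_add,
         map_smul' := (A.toMod.evalMod U q).map_smulₛₗ } :
        A.toMod.sect U →ₗ[X.sectRing U] A.carrier q.1) := h
  have h2 := IsBaseChange.comp_equiv (sectLinEquiv A U) _ h'
  exact h2

theorem main {P : ∀ {R S : Type u} [CommRing R] [CommRing S], (R →+* S) → Prop}
    (hBC : RingHom.IsStableUnderBaseChange @P)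
    (hD : RingHom.CodescendsAlong @P @RingHom.FaithfullyFlat)
    (hPi : ∀ {ι : Type u} [Finite ι] (R A : ι → Type u) [∀ i, CommRing (R i)]
      [∀ i, CommRing (A i)] [∀ i, Algebra (R i) (A i)],
      (∀ i, P (algebraMap (R i) (A i))) → P (algebraMap (∀ i, R i) (∀ i, A i)))
    (hA : A.IsQcoh) (hUa : (X.restrict U).IsAffine)
    (hφ : Module.FaithfullyFlat (X.sectRing U) ((q : ↥U) → X.ring q.1)) :
    (∀ q : X.pt, q ∈ U → P (algebraMap (X.ring q) (A.carrier q))) ↔ P (A.sectMap U) := by
  letI : Algebra (X.sectRing U) (A.total.sectRing U) := (A.sectMap U).toAlgebra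
  letI : ∀ q : U, Algebra (X.sectRing U) (X.ring q.1) := fun q => (X.evalRing U q).toAlgebra
  letI : ∀ q : U, Algebra (X.sectRing U) (A.carrier q.1) :=
    fun q => Algebra.compHom (A.carrier q.1) (X.evalRing U q)
  letI : ∀ q : U, Algebra (A.total.sectRing U) (A.carrier q.1) :=
    fun q => (A.total.evalRing U q).toAlgebra
  haveI : ∀ q : U, IsScalarTower (X.sectRing U) (X.ring q.1) (A.carrier q.1) :=
    fun q => IsScalarTower.of_algebraMap_eq fun _ => rfl
  haveI : ∀ q : U, IsScalarTower (X.sectRing U) (A.total.sectRing U) (A.carrier q.1) :=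
    fun q => IsScalarTower.of_algebraMap_eq fun _ => rfl
  have hff : Module.FaithfullyFlat (X.sectRing U) ((q : ↥U) → X.ring q.1) := hφ
  have key := forall_iff_of_pushouts (S := X.sectRing U) (ι := U) (fun q => X.ring q.1)
    (A.total.sectRing U) (fun q => A.carrier q.1) (P := @P) hBC hD
    (hPi (fun q : U => X.ring q.1) (fun q : U => A.carrier q.1))
    (fun q => isPushout_eval A U hA hUa q) hff
  rw [← show algebraMap (X.sectRing U) (A.total.sectRing U) = A.sectMap U from rfl, ← key]
  exact ⟨fun h q => h q.1 q.2, fun h q hq => h ⟨q, hq⟩⟩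

end Inst

end Groth.Agent.Lib.H94Desc
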