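import Mathlib.RingTheory.RegularLocalRing.Defs
import Mathlib.RingTheory.KrullDimension.Regular
import Mathlib.RingTheory.LocalRing.RingHom.Basic
import Mathlib.RingTheory.Ideal.Quotient.Operations
import Mathlib.RingTheory.Ideal.KrullsHeightTheorem
import Mathlib.RingTheory.Ideal.Height
import Mathlib.Order.KrullDimension

/-!
# Counting generators of maximal ideals (helper94)

* `height_add_ringKrullDim_quotient_le`: `ht p + dim R/p ≤ dim R`.
* `spanFinrank_le_map_mk_add`: `μ(M) ≤ μ(M/J) + μ(J)` for ideals `J ≤ M`.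
* `spanFinrank_maximalIdeal_le_quotient_add`: embedding dimension `e(R) ≤ e(R/J) + μ(J)`.
* `spanFinrank_sup_le`: `μ(I + J) ≤ μ(I) + μ(J)`.
-/

set_option autoImplicit false
universe u

namespace Groth.Agent.Lib.H94RegCount

open IsLocalRing

variable {R : Type*} [CommRing R]

/-- `ht p + dim R/p ≤ dim R`. -/
lemma height_add_ringKrullDim_quotient_le (p : Ideal R) [hp : p.IsPrime] :
    (p.height : WithBot ℕ∞) + ringKrullDim (R ⧸ p) ≤ ringKrullDim R := by
  let P : PrimeSpectrum R := ⟨p, hp⟩
  have h1 : ringKrullDim (R ⧸ p) = Order.coheight P := by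
    rw [ringKrullDim_quotient, Order.coheight_eq_krullDim_Ici]
    rfl
  have h2 : p.height = Order.height P := PrimeSpectrum.height_eq_orderHeight P
  have : Nonempty (PrimeSpectrum R) := ⟨P⟩
  rw [h1, h2, ringKrullDim, Order.krullDim_eq_iSup_height_add_coheight_of_nonempty]
  rw [← WithBot.coe_add, WithBot.coe_le_coe]
  exact le_iSup (fun a : PrimeSpectrum R => Order.height a + Order.coheight a) P

/-- `μ(M) ≤ μ(M/J) + μ(J)` for ideals `J ≤ M`. -/
lemma spanFinrank_le_map_mk_add (M J : Ideal R) (hJM : J ≤ M)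
    (hfg : (M.map (Ideal.Quotient.mk J)).FG) (hJ : J.FG) :
    M.spanFinrank ≤ (M.map (Ideal.Quotient.mk J)).spanFinrank + J.spanFinrank := by
  classical
  set mk := Ideal.Quotient.mk J with hmk
  obtain ⟨s, hs_card, hs_span⟩ := Submodule.FG.exists_span_finset_card_eq_spanFinrank hfg
  obtain ⟨u, hu_card, hu_span⟩ := Submodule.FG.exists_span_finset_card_eq_spanFinrank hJ
  have hsurj : Function.Surjective mk := Ideal.Quotient.mk_surjective
  let g := Function.surjInv hsurj
  let t : Finset R := s.image g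
  have ht_img : mk '' (t : Set R) = (s : Set _) := by
    ext y
    simp only [t, Finset.coe_image, Set.mem_image, Finset.mem_coe]
    constructor
    · rintro ⟨_, ⟨z, hz, rfl⟩, rfl⟩
      rwa [Function.surjInv_eq hsurj]
    · intro hy
      exact ⟨g y, ⟨y, hy, rfl⟩, Function.surjInv_eq hsurj y⟩
  have hmap : (Ideal.span (t : Set R)).map mk = M.map mk := by
    rw [Ideal.map_span, ht_img]
    exact hs_span
  have hM : M = Ideal.span ((t : Set R) ∪ (u : Set R)) := by
    have h1 : (M.map mk).comap mk = M := by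
      rw [Ideal.comap_map_of_surjective mk hsurj, ← RingHom.ker_eq_comap_bot, Ideal.mk_ker]
      exact sup_eq_left.mpr hJM
    have h2 : ((Ideal.span (t : Set R)).map mk).comap mk =
        Ideal.span ((t : Set R) ∪ (u : Set R)) := by
      rw [Ideal.comap_map_of_surjective mk hsurj, ← RingHom.ker_eq_comap_bot, Ideal.mk_ker,
        Ideal.span_union]
      congr 1
      exact hu_span.symm
    rw [← h1, ← hmap, h2]
  have hfin : ((t : Set R) ∪ (u : Set R)).Finite :=
    (Finset.finite_toSet t).union (Finset.finite_toSet u)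
  calc M.spanFinrank = (Ideal.span ((t : Set R) ∪ (u : Set R))).spanFinrank := by rw [← hM]
    _ ≤ ((t : Set R) ∪ (u : Set R)).ncard := Submodule.spanFinrank_span_le_ncard_of_finite hfin
    _ ≤ (t : Set R).ncard + (u : Set R).ncard := Set.ncard_union_le _ _
    _ = t.card + u.card := by rw [Set.ncard_coe_finset, Set.ncard_coe_finset]
    _ ≤ s.card + u.card := Nat.add_le_add_right Finset.card_image_le _
    _ = _ := by rw [hs_card, hu_card]

/-- `μ(I + J) ≤ μ(I) + μ(J)`. -/
lemma spanFinrank_sup_le (I J : Ideal R) (hI : I.FG) (hJ : J.FG) :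
    (I ⊔ J).spanFinrank ≤ I.spanFinrank + J.spanFinrank := by
  classical
  obtain ⟨s, hs_card, hs_span⟩ := Submodule.FG.exists_span_finset_card_eq_spanFinrank hI
  obtain ⟨u, hu_card, hu_span⟩ := Submodule.FG.exists_span_finset_card_eq_spanFinrank hJ
  have h : I ⊔ J = Ideal.span ((s : Set R) ∪ (u : Set R)) := by
    rw [Ideal.span_union]
    congr 1
    · exact hs_span.symm
    · exact hu_span.symm
  have hfin : ((s : Set R) ∪ (u : Set R)).Finite :=
    (Finset.finite_toSet s).union (Finset.finite_toSet u)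
  calc (I ⊔ J).spanFinrank = (Ideal.span ((s : Set R) ∪ (u : Set R))).spanFinrank := by rw [← h]
    _ ≤ ((s : Set R) ∪ (u : Set R)).ncard := Submodule.spanFinrank_span_le_ncard_of_finite hfin
    _ ≤ (s : Set R).ncard + (u : Set R).ncard := Set.ncard_union_le _ _
    _ = s.card + u.card := by rw [Set.ncard_coe_finset, Set.ncard_coe_finset]
    _ = _ := by rw [hs_card, hu_card]

/-- `μ(span (range f)) ≤ n` for `f : Fin n → R`. -/
lemma spanFinrank_span_range_le {n : ℕ} (f : Fin n → R) :
    (Ideal.span (Set.range f)).spanFinrank ≤ n := by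
  calc (Ideal.span (Set.range f)).spanFinrank ≤ (Set.range f).ncard :=
        Submodule.spanFinrank_span_le_ncard_of_finite (Set.finite_range f)
    _ ≤ n := by
        have := Set.ncard_image_le (f := f) (s := Set.univ) Set.finite_univ
        rw [Set.image_univ] at this
        simpa using this

/-- Embedding dimension: `e(R) ≤ e(R/J) + μ(J)`. -/
lemma spanFinrank_maximalIdeal_le_quotient_add [IsLocalRing R] [IsNoetherianRing R] (J : Ideal R)
    [IsLocalRing (R ⧸ J)] :
    (maximalIdeal R).spanFinrank ≤ (maximalIdeal (R ⧸ J)).spanFinrank + J.spanFinrank := by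
  have hJ : J ≠ ⊤ := by
    intro h
    have : Subsingleton (R ⧸ J) := Ideal.Quotient.subsingleton_iff.mpr h
    exact not_subsingleton (R ⧸ J) this
  have hmap : (maximalIdeal R).map (Ideal.Quotient.mk J) = maximalIdeal (R ⧸ J) :=
    map_maximalIdeal_of_surjective _ Ideal.Quotient.mk_surjective
  have := spanFinrank_le_map_mk_add (maximalIdeal R) J (le_maximalIdeal hJ)
    (Ideal.fg_of_isNoetherianRing _) (Ideal.fg_of_isNoetherianRing _)
  rwa [hmap] at this

/-- Embedding dimension does not increase in quotients. -/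
lemma spanFinrank_maximalIdeal_quotient_le [IsLocalRing R] [IsNoetherianRing R] (J : Ideal R)
    [IsLocalRing (R ⧸ J)] :
    (maximalIdeal (R ⧸ J)).spanFinrank ≤ (maximalIdeal R).spanFinrank := by
  have hmap : (maximalIdeal R).map (Ideal.Quotient.mk J) = maximalIdeal (R ⧸ J) :=
    map_maximalIdeal_of_surjective _ Ideal.Quotient.mk_surjective
  rw [← hmap]
  exact Ideal.spanFinrank_map_le_of_fg _ (Ideal.fg_of_isNoetherianRing _)

/-- A value in `WithBot ℕ∞` between `0` and a natural number is a natural number. -/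
lemma exists_nat_eq_of_nonneg_of_le {x : WithBot ℕ∞} {e : ℕ} (h0 : 0 ≤ x) (h : x ≤ e) :
    ∃ D : ℕ, x = D ∧ D ≤ e := by
  induction x using WithBot.recBotCoe with
  | bot => exact absurd h0 (by simp)
  | coe y =>
    have hy : y ≤ (e : ℕ∞) := by exact_mod_cast h
    obtain ⟨D, rfl⟩ := ENat.ne_top_iff_exists.mp (ne_top_of_le_ne_top (ENat.natCast_ne_top e) hy)
    exact ⟨D, rfl, by exact_mod_cast hy⟩

/-- If `x : Fin n → R` generates the maximal ideal and `J` is generated by the first `c` of the
`x i`, then `e(R/J) ≤ n - c`. -/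
lemma spanFinrank_maximalIdeal_quotient_le_sub [IsLocalRing R] [IsNoetherianRing R] {n c : ℕ}
    (hc : c ≤ n) (x : Fin n → R) (hx : Ideal.span (Set.range x) = maximalIdeal R) (J : Ideal R)
    (hJ : J = Ideal.span (Set.range fun i : Fin c => x (Fin.castLE hc i))) [IsLocalRing (R ⧸ J)] :
    (maximalIdeal (R ⧸ J)).spanFinrank ≤ n - c := by
  set mk := Ideal.Quotient.mk J with hmk
  have hmap : (maximalIdeal R).map mk = maximalIdeal (R ⧸ J) :=
    map_maximalIdeal_of_surjective _ Ideal.Quotient.mk_surjective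
  let z : Fin (n - c) → R ⧸ J := fun j => mk (x ⟨c + j, by omega⟩)
  have hz : maximalIdeal (R ⧸ J) = Ideal.span (Set.range z) := by
    rw [← hmap, ← hx, Ideal.map_span]
    apply le_antisymm
    · rw [Ideal.span_le]
      rintro _ ⟨_, ⟨i, rfl⟩, rfl⟩
      by_cases hi : (i : ℕ) < c
      · have : mk (x i) = 0 := by
          rw [hmk, Ideal.Quotient.eq_zero_iff_mem, hJ]
          exact Ideal.subset_span ⟨⟨i, hi⟩, rfl⟩
        rw [this]
        exact Ideal.zero_mem _
      · refine Ideal.subset_span ⟨⟨i - c, by omega⟩, ?_⟩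
        show mk (x ⟨c + (i - c), _⟩) = mk (x i)
        congr 2
        ext
        show c + (i - c) = i
        omega
    · rw [Ideal.span_le]
      rintro _ ⟨j, rfl⟩
      exact Ideal.subset_span ⟨_, ⟨_, rfl⟩, rfl⟩
  rw [hz]
  exact spanFinrank_span_range_le z

end Groth.Agent.Lib.H94RegCount
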