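import Groth.Agent.S4610
import Groth.Agent.S5779
import Groth.Agent.Lib.H94RegCount
import Mathlib

set_option autoImplicit false
universe u

namespace Groth.Agent.Lib.H94Eisen

open IsLocalRing Polynomial

section Integral

variable {R S : Type*} [CommRing R] [CommRing S] [Algebra R S]

theorem ringKrullDim_le_of_isIntegral_of_injective [Algebra.IsIntegral R S]
    (hinj : Function.Injective (algebraMap R S)) : ringKrullDim R ≤ ringKrullDim S := by
  rw [ringKrullDim, Order.krullDim]
  refine iSup_le fun l ↦ ?_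
  obtain ⟨Q, -, hQ, hQc⟩ := Ideal.exists_ideal_over_prime_of_isIntegral
    (S := S) l.head.asIdeal ⊥ (by
      rw [← RingHom.ker_eq_comap_bot, (RingHom.injective_iff_ker_eq_bot _).mp hinj]
      exact bot_le)
  have : Q.LiesOver l.head.asIdeal := ⟨hQc.symm⟩
  obtain ⟨L, hL, -, -⟩ := Ideal.exists_ltSeries_of_hasGoingUp l Q
  rw [← hL]
  exact Order.LTSeries.length_le_krullDim L

theorem ringKrullDim_eq_of_isIntegral_of_injective [Algebra.IsIntegral R S]
    (hinj : Function.Injective (algebraMap R S)) : ringKrullDim R = ringKrullDim S :=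
  le_antisymm (ringKrullDim_le_of_isIntegral_of_injective hinj)
    (Order.krullDim_le_of_strictMono
      (fun I ↦ ⟨Ideal.comap (algebraMap R S) I.asIdeal, inferInstance⟩)
      (fun I J hIJ ↦ by
        have : I.asIdeal < J.asIdeal := hIJ
        exact Ideal.IsIntegral.comap_lt_comap (R := R) this))

end Integral

variable {A : Type u} [CommRing A] {r : ℕ} (F : Fin r → A[X])

/-- the polynomial ring. -/
abbrev P (A : Type u) [CommRing A] (r : ℕ) : Type u := MvPolynomial (Fin r) A

/-- the ideal `(F_i(X_i))`. -/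
noncomputable abbrev Iof : Ideal (P A r) := Groth.Agent.S4610.Iof F

/-- the quotient. -/
abbrev Q : Type u := P A r ⧸ Iof F

/-- the class of `X_i`. -/
noncomputable def t (i : Fin r) : Q F := Ideal.Quotient.mk (Iof F) (MvPolynomial.X i)

lemma algebraMap_eq (a : A) : algebraMap A (Q F) a = Ideal.Quotient.mk (Iof F) (MvPolynomial.C a) := rfl

lemma aeval_t (i : Fin r) : Polynomial.aeval (t F i) (F i) = 0 := by
  have h2 : Polynomial.aeval (Ideal.Quotient.mk (Iof F) (MvPolynomial.X i)) (F i) =
      Ideal.Quotient.mk (Iof F) (Polynomial.aeval (MvPolynomial.X i) (F i)) :=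
    Polynomial.aeval_algHom_apply (Ideal.Quotient.mkₐ A (Iof F)) _ _
  rw [t, h2]
  exact Ideal.Quotient.eq_zero_iff_mem.2 (Ideal.subset_span ⟨i, rfl⟩)

/-- `mk p - p(0)` lies in the ideal generated by the classes of the variables. -/
lemma mk_sub_mem (p : P A r) :
    Ideal.Quotient.mk (Iof F) p - algebraMap A (Q F) (MvPolynomial.constantCoeff p) ∈
      Ideal.span (Set.range (t F)) := by
  set T := Ideal.span (Set.range (t F)) with hT
  have key : (Ideal.Quotient.mk T).comp (Ideal.Quotient.mk (Iof F)) =
      ((Ideal.Quotient.mk T).comp (algebraMap A (Q F))).comp MvPolynomial.constantCoeff := by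
    apply MvPolynomial.ringHom_ext
    · intro a
      simp only [RingHom.comp_apply, MvPolynomial.constantCoeff_C]
      rfl
    · intro i
      simp only [RingHom.comp_apply, MvPolynomial.constantCoeff_X, map_zero]
      exact Ideal.Quotient.eq_zero_iff_mem.2 (Ideal.subset_span ⟨i, rfl⟩)
  have := RingHom.congr_fun key p
  simp only [RingHom.comp_apply] at this
  rw [← Ideal.Quotient.eq_zero_iff_mem, map_sub, this, sub_self]


section Local

variable [IsLocalRing A]

variable (hmon : ∀ i, (F i).Monic) (hdeg : ∀ i, 1 ≤ (F i).natDegree)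
  (hlow : ∀ i k, k < (F i).natDegree → (F i).coeff k ∈ maximalIdeal A)

include hmon in
lemma free : Module.Free A (Q F) := (Groth.Agent.S4610.result F hmon).1

include hmon hdeg in
lemma finrank_pos : 0 < Module.finrank A (Q F) := by
  rw [(Groth.Agent.S4610.result F hmon).2]
  exact Finset.prod_pos (fun i _ => hdeg i)

include hmon hdeg in
lemma finite : Module.Finite A (Q F) := by
  have := free F hmon
  exact Module.finite_of_finrank_pos (finrank_pos F hmon hdeg)

include hmon hdeg in
lemma nontrivial : Nontrivial (Q F) := Module.nontrivial_of_finrank_pos (finrank_pos F hmon hdeg)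

include hmon hdeg in
lemma injective : Function.Injective (algebraMap A (Q F)) := by
  have := free F hmon
  have := nontrivial F hmon hdeg
  exact FaithfulSMul.algebraMap_injective A (Q F)

include hmon hdeg in
lemma isIntegral : Algebra.IsIntegral A (Q F) := by
  have := finite F hmon hdeg
  exact Algebra.IsIntegral.of_finite A (Q F)

include hmon hdeg in
lemma ringKrullDim_eq : ringKrullDim (Q F) = ringKrullDim A := by
  have := isIntegral F hmon hdeg
  exact (ringKrullDim_eq_of_isIntegral_of_injective (injective F hmon hdeg)).symm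

include hmon hdeg in
lemma comap_eq_maximalIdeal (M : Ideal (Q F)) [M.IsMaximal] :
    M.comap (algebraMap A (Q F)) = maximalIdeal A := by
  have := isIntegral F hmon hdeg
  have : (M.comap (algebraMap A (Q F))).IsMaximal :=
    Ideal.isMaximal_comap_of_isIntegral_of_isMaximal M
  exact IsLocalRing.eq_maximalIdeal this

include hmon hdeg hlow in
lemma t_mem (M : Ideal (Q F)) [hM : M.IsMaximal] (i : Fin r) : t F i ∈ M := by
  have hc := comap_eq_maximalIdeal F hmon hdeg M
  have h0 := aeval_t F i
  rw [(hmon i).as_sum] at h0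
  simp only [map_add, map_pow, Polynomial.aeval_X, map_sum, map_mul, Polynomial.aeval_C] at h0
  have h1 : ∑ k ∈ Finset.range (F i).natDegree, algebraMap A (Q F) ((F i).coeff k) * t F i ^ k ∈ M := by
    refine Ideal.sum_mem _ (fun k hk => ?_)
    refine Ideal.mul_mem_right _ _ ?_
    have : (F i).coeff k ∈ M.comap (algebraMap A (Q F)) := by
      rw [hc]; exact hlow i k (Finset.mem_range.mp hk)
    exact this
  have h2 : t F i ^ (F i).natDegree ∈ M := by
    have : t F i ^ (F i).natDegree =
        - ∑ k ∈ Finset.range (F i).natDegree, algebraMap A (Q F) ((F i).coeff k) * t F i ^ k :=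
      eq_neg_of_add_eq_zero_left h0
    rw [this]
    exact M.neg_mem h1
  exact hM.isPrime.mem_of_pow_mem _ h2

include hmon hdeg hlow in
lemma mk_sub_mem_maximal (M : Ideal (Q F)) [M.IsMaximal] (p : P A r) :
    Ideal.Quotient.mk (Iof F) p - algebraMap A (Q F) (MvPolynomial.constantCoeff p) ∈ M := by
  have hle : Ideal.span (Set.range (t F)) ≤ M := by
    rw [Ideal.span_le]
    rintro _ ⟨i, rfl⟩
    exact t_mem F hmon hdeg hlow M i
  exact hle (mk_sub_mem F p)

include hmon hdeg hlow in
lemma mk_mem_iff (M : Ideal (Q F)) [M.IsMaximal] (p : P A r) :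
    Ideal.Quotient.mk (Iof F) p ∈ M ↔ MvPolynomial.constantCoeff p ∈ maximalIdeal A := by
  have h1 := mk_sub_mem_maximal F hmon hdeg hlow M p
  rw [← comap_eq_maximalIdeal F hmon hdeg M, Ideal.mem_comap]
  constructor
  · intro h
    have := M.sub_mem h h1
    simpa using this
  · intro h
    have := M.add_mem h1 h
    simpa using this

include hmon hdeg hlow in
lemma surjective_residue (M : Ideal (Q F)) [M.IsMaximal] :
    Function.Surjective ((Ideal.Quotient.mk M).comp (algebraMap A (Q F))) := by
  intro y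
  obtain ⟨x, rfl⟩ := Ideal.Quotient.mk_surjective y
  obtain ⟨p, rfl⟩ := Ideal.Quotient.mk_surjective x
  refine ⟨MvPolynomial.constantCoeff p, ?_⟩
  rw [RingHom.comp_apply, eq_comm, Ideal.Quotient.eq]
  exact mk_sub_mem_maximal F hmon hdeg hlow M p

include hmon hdeg hlow in
lemma isLocalRing : IsLocalRing (Q F) := by
  have := nontrivial F hmon hdeg
  obtain ⟨M0, hM0⟩ := Ideal.exists_maximal (Q F)
  refine IsLocalRing.of_unique_max_ideal ⟨M0, hM0, fun M hM => ?_⟩
  ext x
  obtain ⟨p, rfl⟩ := Ideal.Quotient.mk_surjective x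
  rw [mk_mem_iff F hmon hdeg hlow M p, mk_mem_iff F hmon hdeg hlow M0 p]

end Local

section Regular

variable [IsLocalRing A]
variable (hmon : ∀ i, (F i).Monic) (hdeg : ∀ i, 1 ≤ (F i).natDegree)
  (hlow : ∀ i k, k < (F i).natDegree → (F i).coeff k ∈ maximalIdeal A)

include hmon hdeg hlow in
lemma mk_mem_maximalIdeal_iff [IsLocalRing (Q F)] (p : P A r) :
    Ideal.Quotient.mk (Iof F) p ∈ maximalIdeal (Q F) ↔
      MvPolynomial.constantCoeff p ∈ maximalIdeal A :=
  mk_mem_iff F hmon hdeg hlow (maximalIdeal (Q F)) p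

omit [IsLocalRing A] in
lemma algebraMap_coeff_zero_mem (i : Fin r) :
    algebraMap A (Q F) ((F i).coeff 0) ∈ Ideal.span {t F i} := by
  have h0 := aeval_t F i
  rw [Polynomial.aeval_eq_sum_range, Finset.sum_range_succ'] at h0
  simp only [pow_zero] at h0
  have h1 : algebraMap A (Q F) ((F i).coeff 0) =
      - ∑ k ∈ Finset.range (F i).natDegree, (F i).coeff (k + 1) • t F i ^ (k + 1) := by
    rw [Algebra.algebraMap_eq_smul_one]
    exact eq_neg_of_add_eq_zero_right h0
  rw [h1]
  refine neg_mem (Ideal.sum_mem _ (fun k _ => ?_))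
  rw [pow_succ, ← smul_mul_assoc]
  exact Ideal.mul_mem_left _ _ (Ideal.subset_span rfl)

include hmon hdeg hlow in
lemma spanFinrank_maximalIdeal_le [IsNoetherianRing A] [IsLocalRing (Q F)]
    (hli : LinearIndependent (ResidueField A)
      (fun i => (maximalIdeal A).toCotangent ⟨(F i).coeff 0, hlow i 0 (hdeg i)⟩)) :
    (maximalIdeal (Q F)).spanFinrank ≤ (maximalIdeal A).spanFinrank := by
  obtain ⟨n, hr, X, hn, hX, hXx⟩ := Groth.Agent.S5779.exists_generators_extending r
    (fun i => (⟨(F i).coeff 0, hlow i 0 (hdeg i)⟩ : maximalIdeal A)) hli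
  let a : Fin (n - r) → A := fun j => X ⟨r + j, by omega⟩
  set J' : Ideal (Q F) := Ideal.span (Set.range (t F)) ⊔
    Ideal.span (Set.range (fun j => algebraMap A (Q F) (a j))) with hJ'
  have hcomap := comap_eq_maximalIdeal F hmon hdeg (maximalIdeal (Q F))
  have hXmem : ∀ j, X j ∈ maximalIdeal A := fun j => by
    rw [← hX]; exact Ideal.subset_span ⟨j, rfl⟩
  have h1 : J' ≤ maximalIdeal (Q F) := by
    refine sup_le ?_ ?_
    · rw [Ideal.span_le]
      rintro _ ⟨i, rfl⟩
      exact t_mem F hmon hdeg hlow _ i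
    · rw [Ideal.span_le]
      rintro _ ⟨j, rfl⟩
      have : a j ∈ (maximalIdeal (Q F)).comap (algebraMap A (Q F)) := by
        rw [hcomap]; exact hXmem _
      exact this
  have hXJ : ∀ j, algebraMap A (Q F) (X j) ∈ J' := by
    intro j
    by_cases hj : (j : ℕ) < r
    · have : X j = (F ⟨j, hj⟩).coeff 0 := by
        have := hXx ⟨j, hj⟩
        simp only at this
        rw [← this]
        congr 1
      rw [this]
      refine Ideal.mem_sup_left ?_
      exact (Ideal.span_mono (by
        rintro _ rfl
        exact ⟨⟨j, hj⟩, rfl⟩)) (algebraMap_coeff_zero_mem F ⟨j, hj⟩)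
    · refine Ideal.mem_sup_right (Ideal.subset_span ⟨⟨j - r, by omega⟩, ?_⟩)
      simp only [a]
      congr 2
      ext
      simp only
      omega
  have h2 : maximalIdeal (Q F) ≤ J' := by
    intro x hx
    obtain ⟨p, rfl⟩ := Ideal.Quotient.mk_surjective x
    have hp := (mk_mem_maximalIdeal_iff F hmon hdeg hlow p).mp hx
    have h3 : algebraMap A (Q F) (MvPolynomial.constantCoeff p) ∈ J' := by
      have : Ideal.map (algebraMap A (Q F)) (Ideal.span (Set.range X)) ≤ J' := by
        rw [Ideal.map_span, Ideal.span_le]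
        rintro _ ⟨_, ⟨j, rfl⟩, rfl⟩
        exact hXJ j
      exact this (Ideal.mem_map_of_mem _ (hX ▸ hp))
    have h4 : Ideal.Quotient.mk (Iof F) p -
        algebraMap A (Q F) (MvPolynomial.constantCoeff p) ∈ J' :=
      Ideal.mem_sup_left (mk_sub_mem F p)
    have := J'.add_mem h4 h3
    simpa using this
  have heq : maximalIdeal (Q F) = J' := le_antisymm h2 h1
  rw [heq, ← hn]
  calc J'.spanFinrank ≤ (Ideal.span (Set.range (t F))).spanFinrank +
        (Ideal.span (Set.range (fun j => algebraMap A (Q F) (a j)))).spanFinrank :=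
        Groth.Agent.Lib.H94RegCount.spanFinrank_sup_le _ _
          (Submodule.fg_span (Set.finite_range _)) (Submodule.fg_span (Set.finite_range _))
    _ ≤ r + (n - r) := add_le_add (Groth.Agent.Lib.H94RegCount.spanFinrank_span_range_le _)
        (Groth.Agent.Lib.H94RegCount.spanFinrank_span_range_le _)
    _ = n := by omega

end Regular

section Converse

variable [IsLocalRing A]

/-- polynomials whose constant coefficient lies in the maximal ideal. -/
noncomputable def N (A : Type u) [CommRing A] [IsLocalRing A] (r : ℕ) : Submodule A (P A r) :=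
  Submodule.comap (MvPolynomial.lcoeff A 0) (maximalIdeal A)

lemma mem_N {p : P A r} : p ∈ N A r ↔ MvPolynomial.constantCoeff p ∈ maximalIdeal A := Iff.rfl

/-- the constant coefficient as a map to the maximal ideal. -/
noncomputable def c0 : N A r →ₗ[A] maximalIdeal A :=
  (MvPolynomial.lcoeff A 0).restrict (p := N A r) (q := maximalIdeal A) (fun _ hp => hp)

lemma c0_coe (p : N A r) : ((c0 p : maximalIdeal A) : A) = MvPolynomial.constantCoeff (p : P A r) := rfl

/-- first component. -/
noncomputable def D1 : N A r →ₗ[A] CotangentSpace A :=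
  (maximalIdeal A).toCotangent ∘ₗ c0

/-- second component. -/
noncomputable def D2 : N A r →ₗ[A] (Fin r → ResidueField A) :=
  LinearMap.pi (fun i => (Algebra.linearMap A (ResidueField A)) ∘ₗ (MvPolynomial.lcoeff A 0) ∘ₗ
     (MvPolynomial.pderiv i).toLinearMap ∘ₗ (N A r).subtype)

lemma D2_apply (p : N A r) (i : Fin r) :
    D2 p i = residue A (MvPolynomial.constantCoeff (MvPolynomial.pderiv i (p : P A r))) := rfl

/-- the differential. -/
noncomputable def D : N A r →ₗ[A] (CotangentSpace A × (Fin r → ResidueField A)) :=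
  D1.prod D2

lemma mul_mem_N (q : P A r) {p : P A r} (hp : p ∈ N A r) : q * p ∈ N A r := by
  rw [mem_N, map_mul]
  exact Ideal.mul_mem_left _ _ hp

lemma D_mul (q : P A r) (p : P A r) (hp : p ∈ N A r) :
    D ⟨q * p, mul_mem_N q hp⟩ = MvPolynomial.constantCoeff q • D ⟨p, hp⟩ := by
  refine Prod.ext ?_ ?_
  · show D1 _ = _ • D1 _
    rw [D1, LinearMap.comp_apply, LinearMap.comp_apply, ← map_smul]
    congr 1
    ext
    rw [c0_coe]
    simp [c0_coe]
  · funext i
    show D2 _ i = (_ • D2 _) i
    rw [Pi.smul_apply, D2_apply, D2_apply]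
    simp only [Derivation.leibniz, map_add, smul_eq_mul, map_mul]
    have : residue A (MvPolynomial.constantCoeff p) = 0 := by
      rw [residue_eq_zero_iff]; exact hp
    rw [this, zero_mul, add_zero, Algebra.smul_def]
    rfl

omit [IsLocalRing A] in
lemma constantCoeff_aeval_X (i : Fin r) (f : A[X]) :
    MvPolynomial.constantCoeff (Polynomial.aeval (MvPolynomial.X i : P A r) f) = f.coeff 0 := by
  rw [Polynomial.aeval_def, Polynomial.hom_eval₂, MvPolynomial.constantCoeff_X,
    Polynomial.coeff_zero_eq_eval_zero]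
  have : (MvPolynomial.constantCoeff (R := A) (σ := Fin r)).comp
      (algebraMap A (P A r)) = RingHom.id A := by
    ext a
    simp [MvPolynomial.algebraMap_eq]
  rw [this]
  rfl

lemma aevalX_mem_N (i : Fin r) (h0 : (F i).coeff 0 ∈ maximalIdeal A) :
    Polynomial.aeval (MvPolynomial.X i : P A r) (F i) ∈ N A r := by
  rw [mem_N, constantCoeff_aeval_X]
  exact h0

lemma D_aevalX (i : Fin r) (h0 : (F i).coeff 0 ∈ maximalIdeal A)
    (h1 : (F i).coeff 1 ∈ maximalIdeal A) :
    D ⟨Polynomial.aeval (MvPolynomial.X i : P A r) (F i), aevalX_mem_N F i h0⟩ =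
      ((maximalIdeal A).toCotangent ⟨(F i).coeff 0, h0⟩, 0) := by
  refine Prod.ext ?_ ?_
  · show D1 _ = _
    rw [D1, LinearMap.comp_apply]
    congr 1
    ext
    rw [c0_coe]
    exact constantCoeff_aeval_X i (F i)
  · funext j
    show D2 _ j = 0
    rw [D2_apply]
    simp only [Derivation.map_aeval, smul_eq_mul, map_mul, constantCoeff_aeval_X,
      Polynomial.coeff_derivative]
    have : residue A ((F i).coeff (0 + 1)) = 0 := by
      rw [residue_eq_zero_iff]
      simpa using h1
    rw [this, zero_mul, zero_mul]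

lemma D_surjective : Function.Surjective (D (A := A) (r := r)) := by
  classical
  rintro ⟨u, v⟩
  obtain ⟨a, rfl⟩ := (maximalIdeal A).toCotangent_surjective u
  have hb : ∀ i, ∃ b : A, residue A b = v i := fun i => residue_surjective (v i)
  choose b hb using hb
  set p : P A r := MvPolynomial.C (a : A) + ∑ i, MvPolynomial.C (b i) * MvPolynomial.X i with hp
  have hc : MvPolynomial.constantCoeff p = a := by
    simp [hp]
  have hpN : p ∈ N A r := by
    rw [mem_N, hc]; exact a.2
  refine ⟨⟨p, hpN⟩, Prod.ext ?_ ?_⟩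
  · show D1 _ = _
    rw [D1, LinearMap.comp_apply]
    congr 1
    ext
    rw [c0_coe]
    exact hc
  · funext j
    show D2 _ j = v j
    rw [D2_apply, ← hb j]
    congr 1
    simp [hp, MvPolynomial.pderiv_X, Pi.single_apply]

lemma D_zero_mk : D (⟨0, (N A r).zero_mem⟩ : N A r) = 0 := by
  have e : (⟨0, (N A r).zero_mem⟩ : N A r) = 0 := Subtype.ext rfl
  rw [e, map_zero]

lemma D_add_mk (x y : P A r) (hx : x ∈ N A r) (hy : y ∈ N A r) :
    D (⟨x + y, (N A r).add_mem hx hy⟩ : N A r) = D ⟨x, hx⟩ + D ⟨y, hy⟩ := by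
  have e : (⟨x + y, (N A r).add_mem hx hy⟩ : N A r) = ⟨x, hx⟩ + ⟨y, hy⟩ := Subtype.ext rfl
  rw [e, map_add]

lemma D_smul_mk (a x : P A r) (hx : x ∈ N A r) :
    D (⟨a • x, mul_mem_N a hx⟩ : N A r) = MvPolynomial.constantCoeff a • D ⟨x, hx⟩ :=
  D_mul a x hx

end Converse

section Count

variable [IsLocalRing A]
variable (hmon : ∀ i, (F i).Monic) (hdeg : ∀ i, 1 ≤ (F i).natDegree)
  (hlow : ∀ i k, k < (F i).natDegree → (F i).coeff k ∈ maximalIdeal A)

include hmon hdeg hlow in
theorem linearIndependent_of_spanFinrank_le [IsNoetherianRing A] [IsLocalRing (Q F)]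
    (hdeg2 : ∀ i, 2 ≤ (F i).natDegree)
    (hle : (maximalIdeal (Q F)).spanFinrank ≤ (maximalIdeal A).spanFinrank) :
    LinearIndependent (ResidueField A)
      (fun i => (maximalIdeal A).toCotangent ⟨(F i).coeff 0, hlow i 0 (hdeg i)⟩) := by
  classical
  set cbar : Fin r → CotangentSpace A :=
    fun i => (maximalIdeal A).toCotangent ⟨(F i).coeff 0, hlow i 0 (hdeg i)⟩ with hcbar
  rw [linearIndependent_iff_card_le_finrank_span, Fintype.card_fin]
  have hfg : (maximalIdeal (Q F)).FG := IsNoetherian.noetherian _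
  obtain ⟨s, hs_card, hs_span⟩ := Submodule.FG.exists_span_finset_card_eq_spanFinrank hfg
  choose lift hlift using (fun x : Q F => Ideal.Quotient.mk_surjective (I := Iof F) x)
  let ps : s → P A r := fun g => lift g
  have hpsN : ∀ g : s, ps g ∈ N A r := fun g => by
    rw [mem_N, ← mk_mem_maximalIdeal_iff F hmon hdeg hlow, hlift, ← hs_span]
    exact Submodule.subset_span g.2
  let G : Fin r → P A r := fun i => Polynomial.aeval (MvPolynomial.X i : P A r) (F i)
  have hGN : ∀ i, G i ∈ N A r := fun i => aevalX_mem_N F i (hlow i 0 (hdeg i))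
  set W : Submodule (ResidueField A) (CotangentSpace A × (Fin r → ResidueField A)) :=
    Submodule.span (ResidueField A) (Set.range fun g : s => D ⟨ps g, hpsN g⟩) ⊔
    Submodule.span (ResidueField A) (Set.range fun i : Fin r =>
      ((cbar i, 0) : CotangentSpace A × (Fin r → ResidueField A))) with hW
  have hNN' : ∀ p ∈ N A r, p ∈ Ideal.span (Set.range ps ∪ Set.range G) := by
    intro p hp
    have h1 : Ideal.Quotient.mk (Iof F) p ∈ maximalIdeal (Q F) :=
      (mk_mem_maximalIdeal_iff F hmon hdeg hlow p).mpr hp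
    have h2 : Ideal.map (Ideal.Quotient.mk (Iof F)) (Ideal.span (Set.range ps)) =
        maximalIdeal (Q F) := by
      rw [Ideal.map_span, ← hs_span]
      congr 1
      ext x
      constructor
      · rintro ⟨_, ⟨g, rfl⟩, rfl⟩
        simp only [ps, hlift]
        exact g.2
      · intro hx
        exact ⟨ps ⟨x, hx⟩, ⟨⟨x, hx⟩, rfl⟩, hlift x⟩
    have h3 : p ∈ Ideal.comap (Ideal.Quotient.mk (Iof F))
        (Ideal.map (Ideal.Quotient.mk (Iof F)) (Ideal.span (Set.range ps))) := by
      rw [Ideal.mem_comap, h2]; exact h1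
    rw [Ideal.comap_map_of_surjective _ Ideal.Quotient.mk_surjective, ← RingHom.ker_eq_comap_bot,
      Ideal.mk_ker] at h3
    rw [Ideal.span_union]
    exact h3
  have key : ∀ p ∈ Ideal.span (Set.range ps ∪ Set.range G), ∃ h : p ∈ N A r, D ⟨p, h⟩ ∈ W := by
    intro p hp
    induction hp using Submodule.span_induction with
    | mem x hx =>
      rcases hx with ⟨g, rfl⟩ | ⟨i, rfl⟩
      · exact ⟨hpsN g, Submodule.mem_sup_left (Submodule.subset_span ⟨g, rfl⟩)⟩
      · refine ⟨hGN i, Submodule.mem_sup_right (Submodule.subset_span ⟨i, ?_⟩)⟩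
        exact (D_aevalX F i (hlow i 0 (hdeg i)) (hlow i 1 (hdeg2 i))).symm
    | zero =>
      refine ⟨(N A r).zero_mem, ?_⟩
      rw [D_zero_mk]
      exact W.zero_mem
    | add x y _ _ hx hy =>
      obtain ⟨hx1, hx2⟩ := hx
      obtain ⟨hy1, hy2⟩ := hy
      refine ⟨(N A r).add_mem hx1 hy1, ?_⟩
      rw [D_add_mk x y hx1 hy1]
      exact W.add_mem hx2 hy2
    | smul a x _ hx =>
      obtain ⟨hx1, hx2⟩ := hx
      refine ⟨mul_mem_N a hx1, ?_⟩
      rw [D_smul_mk a x hx1, ← algebraMap_smul (ResidueField A)]
      exact W.smul_mem _ hx2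
  have htop : W = ⊤ := by
    rw [eq_top_iff]
    rintro v -
    obtain ⟨p, rfl⟩ := D_surjective v
    obtain ⟨h, hW'⟩ := key p.1 (hNN' p.1 p.2)
    exact hW'
  have hV : Module.finrank (ResidueField A) (CotangentSpace A × (Fin r → ResidueField A)) =
      (maximalIdeal A).spanFinrank + r := by
    rw [Module.finrank_prod, Module.finrank_fin_fun,
      IsLocalRing.spanFinrank_maximalIdeal_eq_finrank_cotangentSpace]
  have h1 : Module.finrank (ResidueField A) W ≤ s.card + (Set.range cbar).finrank (ResidueField A) := by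
    refine (Submodule.finrank_add_le_finrank_add_finrank _ _).trans (add_le_add ?_ ?_)
    · have := finrank_range_le_card (R := ResidueField A) (fun g : s => D ⟨ps g, hpsN g⟩)
      rwa [Fintype.card_coe] at this
    · have : Submodule.span (ResidueField A) (Set.range fun i : Fin r =>
          ((cbar i, 0) : CotangentSpace A × (Fin r → ResidueField A))) =
          (Submodule.span (ResidueField A) (Set.range cbar)).map
            (LinearMap.inl (ResidueField A) (CotangentSpace A) (Fin r → ResidueField A)) := by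
        rw [Submodule.map_span, ← Set.range_comp]
        rfl
      rw [this]
      exact Submodule.finrank_map_le _ _
  rw [htop, finrank_top, hV] at h1
  omega

end Count

section Main

variable [IsRegularLocalRing A]
variable (hmon : ∀ i, (F i).Monic) (hdeg : ∀ i, 1 ≤ (F i).natDegree)
  (hlow : ∀ i k, k < (F i).natDegree → (F i).coeff k ∈ maximalIdeal A)

include hmon hdeg hlow in
/-- If the constant terms are independent in the cotangent space, the quotient is regular. -/
theorem isRegularLocalRing_of_linearIndependent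
    (hli : LinearIndependent (ResidueField A)
      (fun i => (maximalIdeal A).toCotangent ⟨(F i).coeff 0, hlow i 0 (hdeg i)⟩)) :
    IsRegularLocalRing (Q F) := by
  have := isLocalRing F hmon hdeg hlow
  apply IsRegularLocalRing.of_spanFinrank_maximalIdeal_le
  rw [ringKrullDim_eq F hmon hdeg, ← IsRegularLocalRing.spanFinrank_maximalIdeal (R := A)]
  exact_mod_cast spanFinrank_maximalIdeal_le F hmon hdeg hlow hli

include hmon hdeg hlow in
/-- If the quotient is regular and all degrees are at least two, the constant terms are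
independent in the cotangent space. -/
theorem linearIndependent_of_isRegularLocalRing (hdeg2 : ∀ i, 2 ≤ (F i).natDegree)
    (hreg : IsRegularLocalRing (Q F)) :
    LinearIndependent (ResidueField A)
      (fun i => (maximalIdeal A).toCotangent ⟨(F i).coeff 0, hlow i 0 (hdeg i)⟩) := by
  refine linearIndependent_of_spanFinrank_le F hmon hdeg hlow hdeg2 ?_
  have h1 := IsRegularLocalRing.spanFinrank_maximalIdeal (R := Q F)
  have h2 := IsRegularLocalRing.spanFinrank_maximalIdeal (R := A)
  rw [ringKrullDim_eq F hmon hdeg, ← h2] at h1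
  exact le_of_eq (by exact_mod_cast h1)

end Main

end Groth.Agent.Lib.H94Eisen
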