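import Groth.Prelude.Def_SchFin2
import Mathlib.RingTheory.Flat.EquationalCriterion
import Mathlib.RingTheory.Ideal.GoingUp
import Mathlib.RingTheory.Ideal.IdempotentFG
import Mathlib.RingTheory.Smooth.Flat
import Mathlib.RingTheory.Etale.Pi
import Mathlib.RingTheory.Localization.Away.Lemmas
import Mathlib.RingTheory.Flat.Basic
import Mathlib.LinearAlgebra.Isomorphisms
import Mathlib.RingTheory.Ideal.Quotient.Operations
import Mathlib.RingTheory.TensorProduct.IsBaseChangePi

/-!
# helper94: étale covers of schematic finite spaces (`SchFin.FEt`): kernels of maps of finite étale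
algebras are generated by idempotents; quotient algebras; base change of quotients and kernels.
-/

set_option autoImplicit false
universe u

namespace Groth.Agent.Lib.H94FEt

open TensorProduct SchFin CategoryTheory

/-- The kernel of a flat integral ring map is an idempotent ideal. -/
theorem ker_isIdempotentElem_of_flat_of_isIntegral (A B : Type*) [CommRing A] [CommRing B]
    [Algebra A B] [Module.Flat A B] [Algebra.IsIntegral A B] :
    IsIdempotentElem (RingHom.ker (algebraMap A B)) := by
  apply le_antisymm Ideal.mul_le_right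
  intro a ha
  have hrel : ∑ i : Unit, (fun _ : Unit => a) i • (fun _ : Unit => (1 : B)) i = 0 := by
    simp only [Finset.univ_unique, Finset.sum_singleton]
    rw [Algebra.smul_def, mul_one]
    exact ha
  obtain ⟨k, c, y, h1, h2⟩ := Module.Flat.isTrivialRelation_of_sum_smul_eq_zero hrel
  let J : Ideal A := Ideal.span (Set.range (c ()))
  have hJa : ∀ x ∈ J, a * x = 0 := by
    intro x hx
    refine Submodule.span_induction ?_ ?_ ?_ ?_ hx
    · rintro _ ⟨j, rfl⟩
      have := h2 j
      simpa using this
    · exact mul_zero a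
    · intro x y _ _ hx hy
      rw [mul_add, hx, hy, add_zero]
    · intro r x _ hx
      rw [smul_eq_mul, mul_left_comm, hx, mul_zero]
  have hJB : J.map (algebraMap A B) = ⊤ := by
    rw [Ideal.eq_top_iff_one]
    have h11 := h1 ()
    simp only at h11
    rw [h11]
    refine Ideal.sum_mem _ fun j _ => ?_
    rw [Algebra.smul_def]
    exact Ideal.mul_mem_right _ _ (Ideal.mem_map_of_mem _ (Ideal.subset_span ⟨j, rfl⟩))
  have htop : J ⊔ RingHom.ker (algebraMap A B) = ⊤ := by
    by_contra hne
    obtain ⟨𝔪, h𝔪, hle⟩ := Ideal.exists_le_maximal _ hne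
    obtain ⟨Q, hQ, hQc⟩ := Ideal.exists_ideal_over_maximal_of_isIntegral (S := B) 𝔪
      (le_trans le_sup_right hle)
    have hle' : J.map (algebraMap A B) ≤ Q :=
      Ideal.map_le_iff_le_comap.2 (hQc ▸ le_trans le_sup_left hle)
    rw [hJB] at hle'
    exact hQ.ne_top (top_le_iff.1 hle')
  obtain ⟨c₀, hc₀, i₀, hi₀, hsum⟩ := Submodule.mem_sup.1 ((Ideal.eq_top_iff_one _).1 htop)
  have hai : a = a * i₀ := by
    have := congrArg (fun t => a * t) hsum
    simp only [mul_add, mul_one, hJa c₀ hc₀, zero_add] at this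
    exact this.symm
  rw [hai]
  exact Ideal.mul_mem_mul ha hi₀

/-- The kernel of a map of finite étale algebras over a Noetherian ring is generated by an
idempotent. -/
theorem exists_idem_ker {R A B : Type u} [CommRing R] [CommRing A] [CommRing B] [Algebra R A]
    [Algebra R B] [IsNoetherianRing R] [Module.Finite R A] [Algebra.Etale R A]
    [Module.Finite R B] [Algebra.Etale R B] (f : A →ₐ[R] B) :
    ∃ e : A, IsIdempotentElem e ∧ RingHom.ker f = Ideal.span {e} := by
  let _ : Algebra A B := f.toRingHom.toAlgebra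
  have : IsScalarTower R A B := IsScalarTower.of_algebraMap_eq (fun r => (f.commutes r).symm)
  have : Algebra.Etale A B := Algebra.Etale.of_restrictScalars R A B
  have : Module.Flat A B := inferInstance
  have : Module.Finite A B := Module.Finite.of_restrictScalars_finite R A B
  have : Algebra.IsIntegral A B := inferInstance
  have hid := ker_isIdempotentElem_of_flat_of_isIntegral A B
  have : IsNoetherianRing A := IsNoetherianRing.of_finite R A
  have hfg : (RingHom.ker (algebraMap A B)).FG := IsNoetherian.noetherian _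
  exact (Ideal.isIdempotentElem_iff_of_fg _ hfg).1 hid

theorem etale_quotient_span_idem {R A : Type u} [CommRing R] [CommRing A] [Algebra R A]
    [Algebra.Etale R A] (e : A) (he : IsIdempotentElem e) :
    Algebra.Etale R (A ⧸ Ideal.span {e}) := by
  have h1 : IsLocalization.Away (1 - e) (A ⧸ Ideal.span {1 - (1 - e)}) :=
    IsLocalization.Away.quotient_of_isIdempotentElem he.one_sub
  rw [sub_sub_cancel] at h1
  have : Algebra.Etale A (A ⧸ Ideal.span {e}) := Algebra.Etale.of_isLocalizationAway (1 - e)
  exact Algebra.Etale.comp R A (A ⧸ Ideal.span {e})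

theorem etale_quotient_of_eq_span_idem {R A : Type u} [CommRing R] [CommRing A] [Algebra R A]
    [Algebra.Etale R A] (I : Ideal A) (e : A) (he : IsIdempotentElem e) (hI : I = Ideal.span {e}) :
    Algebra.Etale R (A ⧸ I) := by
  subst hI
  exact etale_quotient_span_idem e he

section Prod

variable (R A B : Type u) [CommRing R] [CommRing A] [CommRing B] [Algebra R A] [Algebra R B]

/-- the Bool-indexed family -/
def BoolFam : Bool → Type u := fun b => cond b A B

instance boolFamCommRing (b : Bool) : CommRing (BoolFam A B b) := by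
  cases b
  · exact (inferInstance : CommRing B)
  · exact (inferInstance : CommRing A)

instance boolFamAlgebra (b : Bool) : Algebra R (BoolFam A B b) := by
  cases b
  · exact (inferInstance : Algebra R B)
  · exact (inferInstance : Algebra R A)

instance boolFamEtale [Algebra.Etale R A] [Algebra.Etale R B] (b : Bool) :
    Algebra.Etale R (BoolFam A B b) := by
  cases b
  · exact (inferInstance : Algebra.Etale R B)
  · exact (inferInstance : Algebra.Etale R A)

/-- the product as a Bool-indexed Pi -/
def boolPiEquiv : (Π b, BoolFam A B b) ≃ₐ[R] A × B where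
  toFun f := (f true, f false)
  invFun x := fun b => Bool.rec (motive := BoolFam A B) x.2 x.1 b
  left_inv f := by
    funext b
    cases b <;> rfl
  right_inv x := rfl
  map_mul' f g := rfl
  map_add' f g := rfl
  commutes' r := rfl

theorem etale_prod [Algebra.Etale R A] [Algebra.Etale R B] : Algebra.Etale R (A × B) :=
  Algebra.Etale.of_equiv (boolPiEquiv R A B)

end Prod

theorem isBCAlong_quotient {R S : Type u} [CommRing R] [CommRing S] (g : R →+* S)
    {M N M' N' : Type u} [AddCommGroup M] [AddCommGroup N] [AddCommGroup M'] [AddCommGroup N']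
    [Module R M] [Module S N] [Module R M'] [Module S N']
    (f : M →ₛₗ[g] N) (hf : IsBCAlong g f)
    (πM : M →ₗ[R] M') (hπM : Function.Surjective πM) (πN : N →ₗ[S] N')
    (hπN : Function.Surjective πN)
    (f' : M' →ₛₗ[g] N') (hcomm : ∀ m, f' (πM m) = πN (f m))
    (hker : LinearMap.ker πN ≤ Submodule.span S (f '' (LinearMap.ker πM : Set M))) :
    IsBCAlong g f' := by
  let _ : Algebra R S := g.toAlgebra
  let _ : Module R N := Module.compHom N g
  have : IsScalarTower R S N := IsScalarTower.of_algebraMap_smul fun _ _ => rfl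
  let _ : Module R N' := Module.compHom N' g
  have : IsScalarTower R S N' := IsScalarTower.of_algebraMap_smul fun _ _ => rfl
  have hbc : IsBaseChange S
      ({ toFun := f, map_add' := f.map_add, map_smul' := f.map_smulₛₗ } : M →ₗ[R] N) := hf
  show IsBaseChange S
      ({ toFun := f', map_add' := f'.map_add, map_smul' := f'.map_smulₛₗ } : M' →ₗ[R] N')
  apply IsBaseChange.of_lift_unique
  intro Q instQ _ _ _ γ
  letI instG : AddCommGroup Q := Module.addCommMonoidToAddCommGroup S
  let h : N →ₗ[S] Q := hbc.lift (γ ∘ₗ πM)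
  have hh : ∀ m, h (f m) = γ (πM m) := fun m => hbc.lift_eq _ m
  have hvan : LinearMap.ker πN ≤ LinearMap.ker h := by
    refine hker.trans (Submodule.span_le.2 ?_)
    rintro _ ⟨m, hm, rfl⟩
    show h (f m) = 0
    rw [hh, (LinearMap.mem_ker.1 hm), map_zero]
  let e := LinearMap.quotKerEquivOfSurjective πN hπN
  let γ' : N' →ₗ[S] Q := ((LinearMap.ker πN).liftQ h hvan) ∘ₗ e.symm.toLinearMap
  have hγ' : ∀ n, γ' (πN n) = h n := by
    intro n
    have h1 : e.symm (πN n) = Submodule.Quotient.mk n := by
      rw [LinearEquiv.symm_apply_eq]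
      rfl
    show (LinearMap.ker πN).liftQ h hvan (e.symm (πN n)) = h n
    rw [h1]
    rfl
  refine ⟨γ', ?_, ?_⟩
  · ext m'
    obtain ⟨m, rfl⟩ := hπM m'
    show γ' (f' (πM m)) = γ (πM m)
    rw [hcomm, hγ', hh]
  · intro γ'' hγ''
    have h2 : γ'' ∘ₗ πN = γ' ∘ₗ πN := by
      apply hbc.algHom_ext'
      ext m
      show γ'' (πN (f m)) = γ' (πN (f m))
      rw [hγ', hh, ← hcomm]
      exact LinearMap.congr_fun hγ'' (πM m)
    ext n'
    obtain ⟨n, rfl⟩ := hπN n'
    exact LinearMap.congr_fun h2 n

theorem ker_le_span_of_flat {R S : Type u} [CommRing R] [CommRing S] (g : R →+* S)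
    (hflat : g.Flat)
    {A B A' B' : Type u} [AddCommGroup A] [AddCommGroup B] [AddCommGroup A'] [AddCommGroup B']
    [Module R A] [Module R B] [Module S A'] [Module S B']
    (fA : A →ₛₗ[g] A') (hA : IsBCAlong g fA) (fB : B →ₛₗ[g] B') (hB : IsBCAlong g fB)
    (φ : A →ₗ[R] B) (φ' : A' →ₗ[S] B') (hcomm : ∀ a, φ' (fA a) = fB (φ a)) :
    LinearMap.ker φ' ≤ Submodule.span S (fA '' (LinearMap.ker φ : Set A)) := by
  let _ : Algebra R S := g.toAlgebra
  let _ : Module R A' := Module.compHom A' g
  have : IsScalarTower R S A' := IsScalarTower.of_algebraMap_smul fun _ _ => rfl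
  let _ : Module R B' := Module.compHom B' g
  have : IsScalarTower R S B' := IsScalarTower.of_algebraMap_smul fun _ _ => rfl
  have hbcA : IsBaseChange S
      ({ toFun := fA, map_add' := fA.map_add, map_smul' := fA.map_smulₛₗ } : A →ₗ[R] A') := hA
  have hbcB : IsBaseChange S
      ({ toFun := fB, map_add' := fB.map_add, map_smul' := fB.map_smulₛₗ } : B →ₗ[R] B') := hB
  have : Module.Flat R S := hflat
  intro a' ha'
  let t := hbcA.equiv.symm a'
  have ht : hbcA.equiv t = a' := LinearEquiv.apply_symm_apply _ _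
  have hnat : ∀ w : S ⊗[R] A, hbcB.equiv (LinearMap.lTensor S φ w) = φ' (hbcA.equiv w) := by
    intro w
    induction w using TensorProduct.induction_on with
    | zero => simp
    | tmul s a =>
      rw [LinearMap.lTensor_tmul, IsBaseChange.equiv_tmul, IsBaseChange.equiv_tmul, map_smul]
      congr 1
      exact (hcomm a).symm
    | add x y hx hy => simp only [map_add, hx, hy]
  have h0 : LinearMap.lTensor S φ t = 0 := by
    apply hbcB.equiv.injective
    rw [hnat, ht, map_zero]
    exact ha'
  have hex : Function.Exact (LinearMap.lTensor S (LinearMap.ker φ).subtype)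
      (LinearMap.lTensor S φ) :=
    Module.Flat.lTensor_exact S (LinearMap.exact_subtype_ker_map φ)
  obtain ⟨w, hw⟩ := (hex t).1 h0
  have key : ∀ w : S ⊗[R] LinearMap.ker φ,
      hbcA.equiv (LinearMap.lTensor S (LinearMap.ker φ).subtype w) ∈
        Submodule.span S (fA '' (LinearMap.ker φ : Set A)) := by
    intro w
    induction w using TensorProduct.induction_on with
    | zero => simp
    | tmul s k =>
      rw [LinearMap.lTensor_tmul, IsBaseChange.equiv_tmul]
      exact Submodule.smul_mem _ _ (Submodule.subset_span ⟨k.1, k.2, rfl⟩)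
    | add x y hx hy =>
      rw [map_add, map_add]
      exact add_mem hx hy
  rw [← ht, ← hw]
  exact key w

variable {X : RSpace.{u}}

/-- quotient of an algebra over a finite ringed poset by a compatible family of ideals -/
def quotAlg (A : Alg X) (J : ∀ p, Ideal (A.carrier p))
    (hJ : ∀ {p q : X.pt} (h : p ≤ q), J p ≤ (J q).comap (A.res h)) : Alg X where
  carrier p := A.carrier p ⧸ J p
  res h := Ideal.quotientMap (J _) (A.res h) (hJ h)
  res_algebraMap h a := by
    show Ideal.quotientMap _ _ _ (Ideal.Quotient.mk _ (algebraMap _ _ a)) =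
      Ideal.Quotient.mk _ (algebraMap _ _ (X.res h a))
    rw [Ideal.quotientMap_mk, A.res_algebraMap]
  res_self p b := by
    obtain ⟨b, rfl⟩ := Ideal.Quotient.mk_surjective b
    rw [Ideal.quotientMap_mk, A.res_self]
  res_comp h h' b := by
    obtain ⟨b, rfl⟩ := Ideal.Quotient.mk_surjective b
    rw [Ideal.quotientMap_mk, Ideal.quotientMap_mk, Ideal.quotientMap_mk, A.res_comp]

/-- the projection to the quotient -/
def quotMk (A : Alg X) (J : ∀ p, Ideal (A.carrier p))
    (hJ : ∀ {p q : X.pt} (h : p ≤ q), J p ≤ (J q).comap (A.res h)) : A ⟶ quotAlg A J hJ where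
  app p := Ideal.Quotient.mkₐ (X.ring p) (J p)
  compat h b := rfl

/-- lifting a morphism to the quotient -/
def quotLift (A : Alg X) (J : ∀ p, Ideal (A.carrier p))
    (hJ : ∀ {p q : X.pt} (h : p ≤ q), J p ≤ (J q).comap (A.res h)) {B : Alg X} (f : A ⟶ B)
    (hf : ∀ p, ∀ a ∈ J p, f.app p a = 0) : quotAlg A J hJ ⟶ B where
  app p := Ideal.Quotient.liftₐ (J p) (f.app p) (hf p)
  compat h b := by
    obtain ⟨b, rfl⟩ := Ideal.Quotient.mk_surjective b
    show B.res h (f.app _ b) = f.app _ (A.res h b)
    exact f.compat h b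

theorem quotMk_quotLift (A : Alg X) (J : ∀ p, Ideal (A.carrier p))
    (hJ : ∀ {p q : X.pt} (h : p ≤ q), J p ≤ (J q).comap (A.res h)) {B : Alg X} (f : A ⟶ B)
    (hf : ∀ p, ∀ a ∈ J p, f.app p a = 0) : quotMk A J hJ ≫ quotLift A J hJ f hf = f := by
  apply Alg.hom_ext
  intro p
  ext a
  rfl


theorem quotAlg_isEtCover (A : Alg X) (hA : A.IsEtCover) (J : ∀ p, Ideal (A.carrier p))
    (hJ : ∀ {p q : X.pt} (h : p ≤ q), J p ≤ (J q).comap (A.res h))
    (hidem : ∀ p, ∃ e, IsIdempotentElem e ∧ J p = Ideal.span {e})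
    (hspan : ∀ {p q : X.pt} (h : p ≤ q), ∀ a' ∈ J q,
      a' ∈ Submodule.span (X.ring q) (A.res h '' (J p : Set (A.carrier p)))) :
    (quotAlg A J hJ).IsEtCover := by
  refine ⟨fun p q h => ?_, fun p => ⟨?_, ?_⟩⟩
  · let fA : A.carrier p →ₛₗ[X.res h] A.carrier q := A.toMod.res h
    have hfA : IsBCAlong (X.res h) fA := hA.1 p q h
    let fQ : (A.carrier p ⧸ J p) →ₛₗ[X.res h] (A.carrier q ⧸ J q) := (quotAlg A J hJ).toMod.res h
    show IsBCAlong (X.res h) fQ
    refine isBCAlong_quotient (X.res h) fA hfA
      (Ideal.Quotient.mkₐ (X.ring p) (J p)).toLinearMap Ideal.Quotient.mk_surjective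
      (Ideal.Quotient.mkₐ (X.ring q) (J q)).toLinearMap Ideal.Quotient.mk_surjective
      fQ (fun m => rfl) ?_
    intro a' ha'
    have h1 : a' ∈ J q := Ideal.Quotient.eq_zero_iff_mem.1 ha'
    refine Submodule.span_mono ?_ (hspan h a' h1)
    rintro _ ⟨a, ha, rfl⟩
    exact ⟨a, Ideal.Quotient.eq_zero_iff_mem.2 ha, rfl⟩
  · have := (hA.2 p).1
    exact Module.Finite.of_surjective (Ideal.Quotient.mkₐ (X.ring p) (J p)).toLinearMap
      Ideal.Quotient.mk_surjective
  · have := (hA.2 p).2
    obtain ⟨e, he, hJe⟩ := hidem p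
    exact etale_quotient_of_eq_span_idem (J p) e he hJe

end Groth.Agent.Lib.H94FEt
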