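import Groth.Agent.Lib.H94FEt
import Mathlib.CategoryTheory.Limits.Shapes.BinaryProducts

/-!
# helper94: étale covers of schematic finite spaces, II: a pointwise surjective morphism of étale
covers splits off a complement (`exists_complement`), pointwise products are limits
(`isLimitOfBijective`).
-/

set_option autoImplicit false
universe u

namespace Groth.Agent.Lib.H94FEt

open TensorProduct SchFin CategoryTheory CategoryTheory.Limits

theorem idem_eq_of_span_eq {A : Type*} [CommRing A] {e e' : A} (he : IsIdempotentElem e)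
    (he' : IsIdempotentElem e') (h : Ideal.span {e} = Ideal.span {e'}) : e = e' := by
  have h1 : e ∈ Ideal.span {e'} := h ▸ Ideal.subset_span rfl
  have h2 : e' ∈ Ideal.span {e} := h.symm ▸ Ideal.subset_span rfl
  obtain ⟨x, hx⟩ := Ideal.mem_span_singleton'.1 h1
  obtain ⟨y, hy⟩ := Ideal.mem_span_singleton'.1 h2
  have h3 : e * e' = e := by rw [← hx, mul_assoc, he'.eq]
  have h4 : e' * e = e' := by rw [← hy, mul_assoc, he.eq]
  rw [← h3, mul_comm, h4]

theorem span_range_of_isBCAlong {R S : Type u} [CommRing R] [CommRing S] (g : R →+* S)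
    {M N : Type u} [AddCommGroup M] [AddCommGroup N] [Module R M] [Module S N] (f : M →ₛₗ[g] N)
    (hf : IsBCAlong g f) (T : Submodule S N) (hT : ∀ m, f m ∈ T) (n : N) : n ∈ T := by
  let _ : Algebra R S := g.toAlgebra
  let _ : Module R N := Module.compHom N g
  have : IsScalarTower R S N := IsScalarTower.of_algebraMap_smul fun _ _ => rfl
  have hbc : IsBaseChange S
      ({ toFun := f, map_add' := f.map_add, map_smul' := f.map_smulₛₗ } : M →ₗ[R] N) := hf
  exact hbc.inductionOn n (fun n => n ∈ T) T.zero_mem hT (fun s n hn => T.smul_mem s hn)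
    (fun n n' hn hn' => T.add_mem hn hn')

variable {X : RSpace.{u}}

/-- A fan `B ← A → D` of étale covers which is pointwise a product of rings is a limit. -/
noncomputable def isLimitOfBijective {A B D : FEt X} (f : A ⟶ B) (π : A ⟶ D)
    (hbij : ∀ p, Function.Bijective (fun a => (f.hom.app p a, π.hom.app p a))) :
    IsLimit (BinaryFan.mk f π) := by
  have hinj : ∀ p (a a' : A.obj.carrier p), f.hom.app p a = f.hom.app p a' →
      π.hom.app p a = π.hom.app p a' → a = a' := fun p a a' h1 h2 =>
    (hbij p).1 (Prod.ext h1 h2)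
  let ε : ∀ p, A.obj.carrier p ≃ₐ[X.ring p] B.obj.carrier p × D.obj.carrier p := fun p =>
    AlgEquiv.ofBijective (AlgHom.prod (f.hom.app p) (π.hom.app p)) (hbij p)
  let sf : ∀ s : BinaryFan B D, s.pt ⟶ B := fun s => s.fst
  let ss : ∀ s : BinaryFan B D, s.pt ⟶ D := fun s => s.snd
  refine BinaryFan.isLimitMk (fun s => ObjectProperty.homMk
    { app := fun p => (ε p).symm.toAlgHom.comp
        (AlgHom.prod ((sf s).hom.app p) ((ss s).hom.app p))
      compat := fun {p q} h t => ?_ }) ?_ ?_ ?_
  · apply hinj q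
    · rw [← f.hom.compat h]
      have h1 : f.hom.app p ((ε p).symm ((sf s).hom.app p t, (ss s).hom.app p t)) =
          (sf s).hom.app p t := congrArg Prod.fst ((ε p).apply_symm_apply _)
      have h2 : f.hom.app q ((ε q).symm ((sf s).hom.app q (s.pt.obj.res h t),
          (ss s).hom.app q (s.pt.obj.res h t))) = (sf s).hom.app q (s.pt.obj.res h t) :=
        congrArg Prod.fst ((ε q).apply_symm_apply _)
      show B.obj.res h (f.hom.app p ((ε p).symm ((sf s).hom.app p t, (ss s).hom.app p t))) =
        f.hom.app q ((ε q).symm ((sf s).hom.app q (s.pt.obj.res h t),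
          (ss s).hom.app q (s.pt.obj.res h t)))
      rw [h1, h2]
      exact (sf s).hom.compat h t
    · rw [← π.hom.compat h]
      have h1 : π.hom.app p ((ε p).symm ((sf s).hom.app p t, (ss s).hom.app p t)) =
          (ss s).hom.app p t := congrArg Prod.snd ((ε p).apply_symm_apply _)
      have h2 : π.hom.app q ((ε q).symm ((sf s).hom.app q (s.pt.obj.res h t),
          (ss s).hom.app q (s.pt.obj.res h t))) = (ss s).hom.app q (s.pt.obj.res h t) :=
        congrArg Prod.snd ((ε q).apply_symm_apply _)
      show D.obj.res h (π.hom.app p ((ε p).symm ((sf s).hom.app p t, (ss s).hom.app p t))) =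
        π.hom.app q ((ε q).symm ((sf s).hom.app q (s.pt.obj.res h t),
          (ss s).hom.app q (s.pt.obj.res h t)))
      rw [h1, h2]
      exact (ss s).hom.compat h t
  · intro s
    apply ObjectProperty.hom_ext
    apply Alg.hom_ext
    intro p
    ext t
    exact congrArg Prod.fst ((ε p).apply_symm_apply ((sf s).hom.app p t, (ss s).hom.app p t))
  · intro s
    apply ObjectProperty.hom_ext
    apply Alg.hom_ext
    intro p
    ext t
    exact congrArg Prod.snd ((ε p).apply_symm_apply ((sf s).hom.app p t, (ss s).hom.app p t))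
  · intro s m h1 h2
    apply ObjectProperty.hom_ext
    apply Alg.hom_ext
    intro p
    ext t
    apply hinj p
    · have e1 := congrArg (fun k : s.pt ⟶ B => k.hom.app p t) h1
      exact e1.trans (congrArg Prod.fst
        ((ε p).apply_symm_apply ((sf s).hom.app p t, (ss s).hom.app p t))).symm
    · have e2 := congrArg (fun k : s.pt ⟶ D => k.hom.app p t) h2
      exact e2.trans (congrArg Prod.snd
        ((ε p).apply_symm_apply ((sf s).hom.app p t, (ss s).hom.app p t))).symm

/-- A pointwise surjective morphism of étale covers has a complement: `A ≅ B × D` pointwise. -/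
theorem exists_complement (hX : X.IsFinSp) {A B : FEt X} (f : A ⟶ B)
    (hf : ∀ p, Function.Surjective (f.hom.app p)) :
    ∃ (D : FEt X) (π : A ⟶ D), (∀ p, Function.Surjective (π.hom.app p)) ∧
      ∀ p, Function.Bijective (fun a => (f.hom.app p a, π.hom.app p a)) := by
  have hidem : ∀ p, ∃ e, IsIdempotentElem e ∧ RingHom.ker (f.hom.app p) = Ideal.span {e} := by
    intro p
    have := hX.1 p
    have := (A.property.2 p).1
    have := (A.property.2 p).2
    have := (B.property.2 p).1
    have := (B.property.2 p).2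
    exact exists_idem_ker (f.hom.app p)
  choose e he hke using hidem
  have hres : ∀ {p q : X.pt} (h : p ≤ q), A.obj.res h (e p) = e q := by
    intro p q h
    apply idem_eq_of_span_eq ((he p).map (A.obj.res h)) (he q)
    rw [← hke q]
    apply le_antisymm
    · rw [Ideal.span_singleton_le_iff_mem, RingHom.mem_ker]
      show f.hom.app q (A.obj.res h (e p)) = 0
      rw [← f.hom.compat h]
      have h0 : f.hom.app p (e p) = 0 := RingHom.mem_ker.1 (hke p ▸ Ideal.subset_span rfl)
      rw [h0, map_zero]
    · intro a' ha'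
      let fA : A.obj.carrier p →ₛₗ[X.res h] A.obj.carrier q := A.obj.toMod.res h
      have hfA : IsBCAlong (X.res h) fA := A.property.1 p q h
      let fB : B.obj.carrier p →ₛₗ[X.res h] B.obj.carrier q := B.obj.toMod.res h
      have hfB : IsBCAlong (X.res h) fB := B.property.1 p q h
      have h1 := ker_le_span_of_flat (X.res h) (hX.2 p q h) fA hfA fB hfB
        (f.hom.app p).toLinearMap (f.hom.app q).toLinearMap (fun a => (f.hom.compat h a).symm) ha'
      refine (Submodule.span_le (p := (Ideal.span {A.obj.res h (e p)}).restrictScalars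
        (X.ring q))).2 ?_ h1
      rintro _ ⟨a, ha, rfl⟩
      have ha' : a ∈ Ideal.span {e p} := hke p ▸ ha
      obtain ⟨x, rfl⟩ := Ideal.mem_span_singleton'.1 ha'
      show A.obj.res h (x * e p) ∈ Ideal.span {A.obj.res h (e p)}
      rw [map_mul]
      exact Ideal.mul_mem_left _ _ (Ideal.subset_span rfl)
  let J' : ∀ p, Ideal (A.obj.carrier p) := fun p => Ideal.span {1 - e p}
  have hJ' : ∀ {p q : X.pt} (h : p ≤ q), J' p ≤ (J' q).comap (A.obj.res h) := by
    intro p q h
    rw [Ideal.span_singleton_le_iff_mem]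
    show A.obj.res h (1 - e p) ∈ Ideal.span {1 - e q}
    rw [map_sub, map_one, hres h]
    exact Ideal.subset_span rfl
  have hidem' : ∀ p, ∃ e', IsIdempotentElem e' ∧ J' p = Ideal.span {e'} :=
    fun p => ⟨1 - e p, (he p).one_sub, rfl⟩
  have hspan' : ∀ {p q : X.pt} (h : p ≤ q), ∀ a' ∈ J' q,
      a' ∈ Submodule.span (X.ring q) (A.obj.res h '' (J' p : Set (A.obj.carrier p))) := by
    intro p q h a' ha'
    obtain ⟨c, rfl⟩ := Ideal.mem_span_singleton'.1 ha'
    let fA : A.obj.carrier p →ₛₗ[X.res h] A.obj.carrier q := A.obj.toMod.res h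
    have hfA : IsBCAlong (X.res h) fA := A.property.1 p q h
    let T : Submodule (X.ring q) (A.obj.carrier q) :=
      (Submodule.span (X.ring q) (A.obj.res h '' (J' p : Set (A.obj.carrier p)))).comap
        (LinearMap.mulRight (X.ring q) (1 - e q))
    have hc : c ∈ T := by
      refine span_range_of_isBCAlong (X.res h) fA hfA T (fun m => ?_) c
      show A.obj.res h m * (1 - e q) ∈ Submodule.span (X.ring q)
        (A.obj.res h '' (J' p : Set (A.obj.carrier p)))
      apply Submodule.subset_span
      refine ⟨m * (1 - e p), Ideal.mul_mem_left _ _ (Ideal.subset_span rfl), ?_⟩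
      rw [map_mul, map_sub, map_one, hres h]
    exact hc
  let D : FEt X := ⟨quotAlg A.obj J' hJ', quotAlg_isEtCover A.obj A.property J' hJ' hidem' hspan'⟩
  refine ⟨D, ObjectProperty.homMk (quotMk A.obj J' hJ'), fun p => Ideal.Quotient.mk_surjective,
    fun p => ⟨?_, ?_⟩⟩
  · intro a a' h
    have h1 : f.hom.app p a = f.hom.app p a' := congrArg Prod.fst h
    have h2 : Ideal.Quotient.mk (J' p) a = Ideal.Quotient.mk (J' p) a' := congrArg Prod.snd h
    have h3 : a - a' ∈ Ideal.span {e p} := by
      rw [← hke p, RingHom.mem_ker, map_sub, h1, sub_self]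
    have h4 : a - a' ∈ Ideal.span {1 - e p} := Ideal.Quotient.eq.1 h2
    obtain ⟨x, hx⟩ := Ideal.mem_span_singleton'.1 h3
    obtain ⟨y, hy⟩ := Ideal.mem_span_singleton'.1 h4
    have h5 : (a - a') * e p = a - a' := by rw [← hx, mul_assoc, (he p).eq]
    have h6 : (a - a') * e p = 0 := by
      rw [← hy, mul_assoc, sub_mul, one_mul, (he p).eq, sub_self, mul_zero]
    exact sub_eq_zero.1 (h5.symm.trans h6)
  · rintro ⟨b, d⟩
    obtain ⟨a₁, rfl⟩ := hf p b
    obtain ⟨a₂, rfl⟩ := Ideal.Quotient.mk_surjective d
    have h0 : f.hom.app p (e p) = 0 := RingHom.mem_ker.1 (hke p ▸ Ideal.subset_span rfl)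
    refine ⟨a₁ * (1 - e p) + a₂ * e p, Prod.ext ?_ ?_⟩
    · show f.hom.app p (a₁ * (1 - e p) + a₂ * e p) = f.hom.app p a₁
      rw [map_add, map_mul, map_mul, map_sub, map_one, h0]
      ring
    · show Ideal.Quotient.mk (J' p) (a₁ * (1 - e p) + a₂ * e p) = Ideal.Quotient.mk (J' p) a₂
      rw [Ideal.Quotient.eq]
      have h7 : a₁ * (1 - e p) + a₂ * e p - a₂ = (a₁ - a₂) * (1 - e p) := by ring
      rw [h7]
      exact Ideal.mul_mem_left _ _ (Ideal.subset_span rfl)

end Groth.Agent.Lib.H94FEt
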