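import Groth.Agent.Lib.H94FEt2
import Mathlib.RingTheory.Finiteness.Prod

/-!
# helper94: étale covers of schematic finite spaces, III: binary products (`prodAlg`, `prodFEt`,
`prodFEtIsLimit`), base change of products (`isBCAlong_prod`).
-/

set_option autoImplicit false
universe u

namespace Groth.Agent.Lib.H94FEt

open TensorProduct SchFin CategoryTheory CategoryTheory.Limits

theorem isBCAlong_prod {R S : Type u} [CommRing R] [CommRing S] (g : R →+* S)
    {M N M' N' : Type u} [AddCommGroup M] [AddCommGroup N] [AddCommGroup M'] [AddCommGroup N']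
    [Module R M] [Module S N] [Module R M'] [Module S N']
    (f : M →ₛₗ[g] N) (hf : IsBCAlong g f) (f' : M' →ₛₗ[g] N') (hf' : IsBCAlong g f')
    (F : (M × M') →ₛₗ[g] (N × N')) (hF : ∀ x, F x = (f x.1, f' x.2)) : IsBCAlong g F := by
  let _ : Algebra R S := g.toAlgebra
  let _ : Module R N := Module.compHom N g
  have : IsScalarTower R S N := IsScalarTower.of_algebraMap_smul fun _ _ => rfl
  let _ : Module R N' := Module.compHom N' g
  have : IsScalarTower R S N' := IsScalarTower.of_algebraMap_smul fun _ _ => rfl
  have hbc : IsBaseChange S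
      ({ toFun := f, map_add' := f.map_add, map_smul' := f.map_smulₛₗ } : M →ₗ[R] N) := hf
  have hbc' : IsBaseChange S
      ({ toFun := f', map_add' := f'.map_add, map_smul' := f'.map_smulₛₗ } : M' →ₗ[R] N') := hf'
  have h := IsBaseChange.prodMap _ _ hbc hbc'
  have hF' : (({ toFun := f, map_add' := f.map_add, map_smul' := f.map_smulₛₗ } : M →ₗ[R] N).prodMap
      ({ toFun := f', map_add' := f'.map_add, map_smul' := f'.map_smulₛₗ } : M' →ₗ[R] N')) =
      ({ toFun := F, map_add' := F.map_add, map_smul' := F.map_smulₛₗ } : (M × M') →ₗ[R] (N × N')) := by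
    ext x <;> simp [hF]
  rw [hF'] at h
  exact h

variable {X : RSpace.{u}}

/-- the product of two algebras over a finite ringed poset -/
def prodAlg (A B : Alg X) : Alg X where
  carrier p := A.carrier p × B.carrier p
  res h := RingHom.prodMap (A.res h) (B.res h)
  res_algebraMap h a := Prod.ext (A.res_algebraMap h a) (B.res_algebraMap h a)
  res_self p b := Prod.ext (A.res_self p b.1) (B.res_self p b.2)
  res_comp h h' b := Prod.ext (A.res_comp h h' b.1) (B.res_comp h h' b.2)

/-- first projection -/
def prodFst (A B : Alg X) : prodAlg A B ⟶ A where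
  app p := AlgHom.fst (X.ring p) (A.carrier p) (B.carrier p)
  compat _ _ := rfl

/-- second projection -/
def prodSnd (A B : Alg X) : prodAlg A B ⟶ B where
  app p := AlgHom.snd (X.ring p) (A.carrier p) (B.carrier p)
  compat _ _ := rfl

theorem prodAlg_isEtCover (A B : Alg X) (hA : A.IsEtCover) (hB : B.IsEtCover) :
    (prodAlg A B).IsEtCover := by
  refine ⟨fun p q h => ?_, fun p => ⟨?_, ?_⟩⟩
  · let fA : A.carrier p →ₛₗ[X.res h] A.carrier q := A.toMod.res h
    have hfA : IsBCAlong (X.res h) fA := hA.1 p q h
    let fB : B.carrier p →ₛₗ[X.res h] B.carrier q := B.toMod.res h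
    have hfB : IsBCAlong (X.res h) fB := hB.1 p q h
    let F : (A.carrier p × B.carrier p) →ₛₗ[X.res h] (A.carrier q × B.carrier q) :=
      (prodAlg A B).toMod.res h
    show IsBCAlong (X.res h) F
    exact isBCAlong_prod (X.res h) fA hfA fB hfB F (fun x => rfl)
  · have := (hA.2 p).1
    have := (hB.2 p).1
    exact Module.Finite.prod
  · have := (hA.2 p).2
    have := (hB.2 p).2
    exact etale_prod (X.ring p) (A.carrier p) (B.carrier p)

/-- the product of two étale covers -/
def prodFEt (A B : FEt X) : FEt X := ⟨prodAlg A.obj B.obj, prodAlg_isEtCover _ _ A.property B.property⟩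

/-- the product of two étale covers is a categorical product -/
noncomputable def prodFEtIsLimit (A B : FEt X) :
    IsLimit (BinaryFan.mk (P := prodFEt A B) (ObjectProperty.homMk (prodFst A.obj B.obj))
      (ObjectProperty.homMk (prodSnd A.obj B.obj))) :=
  isLimitOfBijective _ _ (fun _ => Function.bijective_id)

end Groth.Agent.Lib.H94FEt
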