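import Groth.Agent.Lib.H94SchFinH0

/-!
# helper94: morphisms from the one-point space into a schematic finite space (geometric points):
criteria for `IsBCAlong`, cohomology of the one-point space, `pointHom_isSchematic`.
-/

set_option autoImplicit false
universe u

namespace Groth.Agent.Lib.H94SchFin

open SchFin SchFin.RSpace TensorProduct

section Generic

variable {R S : Type u} [CommRing R] [CommRing S] (g : R →+* S) {M N : Type u}
  [AddCommGroup M] [AddCommGroup N] [Module R M] [Module S N] (f : M →ₛₗ[g] N)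

theorem isBCAlong_of_subsingleton [Subsingleton N]
    (h : letI : Algebra R S := g.toAlgebra; Subsingleton (S ⊗[R] M)) : IsBCAlong g f := by
  let _ : Algebra R S := g.toAlgebra
  let _ : Module R N := Module.compHom N g
  have : IsScalarTower R S N := IsScalarTower.of_algebraMap_smul fun _ _ => rfl
  show IsBaseChange S
      ({ toFun := f, map_add' := f.map_add, map_smul' := f.map_smulₛₗ } : M →ₗ[R] N)
  have : Subsingleton (S ⊗[R] M) := h
  constructor
  · exact Function.injective_of_subsingleton _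
  · intro n
    exact ⟨0, Subsingleton.elim _ _⟩

theorem isBCAlong_of_subsingleton' [Subsingleton M] [Subsingleton N] : IsBCAlong g f := by
  apply isBCAlong_of_subsingleton
  let _ : Algebra R S := g.toAlgebra
  refine ⟨fun a b => ?_⟩
  have h0 : ∀ t : S ⊗[R] M, t = 0 := by
    intro t
    induction t using TensorProduct.induction_on with
    | zero => rfl
    | tmul s m => rw [Subsingleton.elim m 0, TensorProduct.tmul_zero]
    | add s t hs ht => rw [hs, ht, add_zero]
  rw [h0 a, h0 b]

theorem isBCAlong_of_epi_of_bijective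
    (hepi : ∀ {T : Type u} [CommRing T] (g₁ g₂ : S →+* T), g₁.comp g = g₂.comp g → g₁ = g₂)
    (hf : Function.Bijective f) : IsBCAlong g f := by
  let _ : Algebra R S := g.toAlgebra
  let _ : Module R N := Module.compHom N g
  have : IsScalarTower R S N := IsScalarTower.of_algebraMap_smul fun _ _ => rfl
  show IsBaseChange S
      ({ toFun := f, map_add' := f.map_add, map_smul' := f.map_smulₛₗ } : M →ₗ[R] N)
  have : Algebra.IsEpi R S := by
    rw [← CommRingCat.epi_iff_epi]
    refine ⟨fun {T} g₁ g₂ e => ?_⟩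
    apply CommRingCat.hom_ext
    apply hepi
    ext a
    have h1 := congrArg (fun k : CommRingCat.of R ⟶ T => k.hom a) e
    exact h1
  let fL : M ≃ₗ[R] N := LinearEquiv.ofBijective
    ({ toFun := f, map_add' := f.map_add, map_smul' := f.map_smulₛₗ } : M →ₗ[R] N) hf
  refine IsBaseChange.of_equiv
    ((TensorProduct.AlgebraTensorModule.congr (LinearEquiv.refl S S) fL).trans
      (TensorProduct.lid' R S N)) ?_
  intro x
  show TensorProduct.lid' R S N ((1 : S) ⊗ₜ[R] (fL x)) = f x
  rw [TensorProduct.lid'_apply_tmul, one_smul]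
  rfl

end Generic

/-- A prime of `S` over the kernel of `j : R → Ω` (a field), from nontriviality of `S ⊗[R] Ω`. -/
theorem exists_prime_of_nontrivial_tensor {R S Ω : Type u} [CommRing R] [CommRing S] [Field Ω]
    (g : R →+* S) (j : R →+* Ω)
    (h : letI : Algebra R S := g.toAlgebra; letI : Algebra R Ω := j.toAlgebra;
      Nontrivial (S ⊗[R] Ω)) :
    ∃ Q' : PrimeSpectrum S, Q'.asIdeal.comap g = RingHom.ker j := by
  let _ : Algebra R S := g.toAlgebra
  let _ : Algebra R Ω := j.toAlgebra
  have : Nontrivial (S ⊗[R] Ω) := h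
  obtain ⟨𝔪, h𝔪⟩ := Ideal.exists_maximal (S ⊗[R] Ω)
  have hp : 𝔪.IsPrime := h𝔪.isPrime
  let ιS : S →+* S ⊗[R] Ω := Algebra.TensorProduct.includeLeftRingHom
  let ιΩ : Ω →+* S ⊗[R] Ω :=
    (Algebra.TensorProduct.includeRight (R := R) (A := S) (B := Ω)).toRingHom
  refine ⟨⟨𝔪.comap ιS, inferInstance⟩, ?_⟩
  have hcomm : ιS.comp g = ιΩ.comp j := by
    ext r
    show (g r) ⊗ₜ[R] (1 : Ω) = (1 : S) ⊗ₜ[R] (j r)
    have h1 : g r = algebraMap R S r := rfl
    have h2 : j r = algebraMap R Ω r := rfl
    rw [h1, h2, Algebra.algebraMap_eq_smul_one, Algebra.algebraMap_eq_smul_one,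
      TensorProduct.smul_tmul]
  have hbot : 𝔪.comap ιΩ = ⊥ := by
    have : (𝔪.comap ιΩ).IsPrime := inferInstance
    exact Ideal.eq_bot_of_prime _
  show (𝔪.comap ιS).comap g = RingHom.ker j
  rw [Ideal.comap_comap, hcomm, ← Ideal.comap_comap, hbot]
  rfl

section Point

variable {Ω : Type u} [Field Ω]

theorem point_chain_isEmpty (W : Set (RSpace.point Ω).pt) (n : ℕ) : IsEmpty (Chain W (n + 1)) :=
  ⟨fun τ => by
    have h1 : τ 0 < τ 1 := τ.strictMono (by
      rw [Fin.lt_def]
      simp)
    have h2 : τ 0 = τ 1 := Subtype.ext rfl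
    exact absurd h1 (by rw [h2]; exact lt_irrefl _)⟩

variable {R : Type u} [CommRing R] {W : Set (RSpace.point Ω).pt} (φ : Coef (RSpace.point Ω) W R)

theorem point_subsingleton_H_succ (M : OMod (RSpace.point Ω)) (n : ℕ) :
    Subsingleton (H φ M (n + 1)) := by
  have := point_chain_isEmpty W n
  have h0 : Subsingleton (Cochain φ M (n + 1)) := by
    unfold Cochain
    infer_instance
  refine ⟨fun a b => ?_⟩
  obtain ⟨a, rfl⟩ := Submodule.Quotient.mk_surjective _ a
  obtain ⟨b, rfl⟩ := Submodule.Quotient.mk_surjective _ b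
  rw [Subsingleton.elim a b]

theorem point_subsingleton_H_of_notMem (hW : PUnit.unit ∉ W) (M : OMod (RSpace.point Ω)) (n : ℕ) :
    Subsingleton (H φ M n) := by
  have : IsEmpty (Chain W n) := ⟨fun σ => hW (σ 0).2⟩
  have h0 : Subsingleton (Cochain φ M n) := by
    unfold Cochain
    infer_instance
  refine ⟨fun a b => ?_⟩
  obtain ⟨a, rfl⟩ := Submodule.Quotient.mk_surjective _ a
  obtain ⟨b, rfl⟩ := Submodule.Quotient.mk_surjective _ b
  rw [Subsingleton.elim a b]

/-- constant cochains on the point space -/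
def pointConst (ω : Ω) : Cochain φ (RSpace.point Ω).str 0 := fun _ => ω

theorem pointConst_mem (ω : Ω) : pointConst φ ω ∈ cocycles φ (RSpace.point Ω).str 0 := by
  show diff _ _ 0 (pointConst φ ω) = 0
  funext τ
  exact ((point_chain_isEmpty W 0).false τ).elim

/-- the class of a constant cochain -/
def kap : Ω →+ H φ (RSpace.point Ω).str 0 where
  toFun ω := H.mk _ _ 0 ⟨pointConst φ ω, pointConst_mem φ ω⟩
  map_zero' := by
    rw [← map_zero (H.mk _ _ 0)]
    rfl
  map_add' b b' := by
    rw [← map_add (H.mk _ _ 0)]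
    rfl

theorem kap_bijective (hW : PUnit.unit ∈ W) : Function.Bijective (kap φ) := by
  constructor
  · refine (injective_iff_map_eq_zero _).2 fun ω hω => ?_
    have h1 : (⟨pointConst φ ω, pointConst_mem φ ω⟩ : cocycles φ (RSpace.point Ω).str 0) = 0 :=
      (H0_mk_bijective _ _).1 (hω.trans (map_zero _).symm)
    have h2 : pointConst φ ω = 0 := congrArg Subtype.val h1
    exact congrFun h2 (chain1 ⟨PUnit.unit, hW⟩)
  · intro m
    obtain ⟨c, rfl⟩ := (H0_mk_bijective _ _).2 m
    refine ⟨c.1 (chain1 ⟨PUnit.unit, hW⟩), ?_⟩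
    show H.mk _ _ 0 _ = H.mk _ _ 0 c
    congr 1

/-- the coefficient map at the unique point, with values in `Ω` -/
def pointCoef (hW : PUnit.unit ∈ W) : R →+* Ω := φ.map ⟨PUnit.unit, hW⟩

theorem kap_smul (hW : PUnit.unit ∈ W) (r : R) (ω : Ω) :
    kap φ (pointCoef φ hW r * ω) = r • kap φ ω := by
  show H.mk _ _ 0 _ = r • H.mk _ _ 0 _
  rw [← LinearMap.map_smul]
  rfl

theorem resH_kap {R' : Type u} [CommRing R'] {W' : Set (RSpace.point Ω).pt}
    {φ' : Coef (RSpace.point Ω) W' R'} (s : Coef.Sub φ φ') (ω : Ω) :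
    resH (RSpace.point Ω).str s 0 (kap φ ω) = kap φ' ω := rfl

theorem resH_bijective_point {R' : Type u} [CommRing R'] {W' : Set (RSpace.point Ω).pt}
    {φ' : Coef (RSpace.point Ω) W' R'} (s : Coef.Sub φ φ') (hW' : PUnit.unit ∈ W') :
    Function.Bijective (resH (RSpace.point Ω).str s 0) := by
  have h1 := kap_bijective φ (s.le hW')
  have h2 := kap_bijective φ' hW'
  have h3 : (resH (RSpace.point Ω).str s 0) ∘ (kap φ) = kap φ' := funext fun ω => resH_kap φ s ω
  have h4 : Function.Bijective ((resH (RSpace.point Ω).str s 0) ∘ (kap φ)) := by rw [h3]; exact h2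
  exact (Function.Bijective.of_comp_iff _ h1).1 h4

/-- the morphism from the one-point space on `Ω` hitting `x₀` with ring map `ρ` -/
def pointHom (X : RSpace.{u}) (x₀ : X.pt) (ρ : X.ring x₀ →+* Ω) : Hom (RSpace.point Ω) X where
  fn := fun _ => x₀
  mono := fun _ _ _ => le_refl _
  app := fun _ => ρ
  compat := fun h b => by
    show ρ b = ρ (X.res _ b)
    rw [X.res_self]

theorem pointHom_isSchematic (X : RSpace.{u}) (hX : X.IsSchematic) (x₀ : X.pt)
    (ρ : X.ring x₀ →+* Ω)
    (hmax : ∀ (y y' : X.pt) (hy : y ≤ y') (hy0 : y ≤ x₀), ¬ y' ≤ x₀ →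
      ∀ Q' : PrimeSpectrum (X.ring y'),
        Q'.asIdeal.comap (X.res hy) ≠ RingHom.ker (ρ.comp (X.res hy0))) :
    (pointHom X x₀ ρ).IsSchematic := by
  refine ⟨⟨fun _ => (inferInstance : IsNoetherianRing Ω), fun _ _ _ => RingHom.Flat.id Ω⟩, hX.1,
    fun n x x' hx y y' hy => ⟨?_, ?_⟩⟩
  · cases n with
    | succ n =>
      have h1 := point_subsingleton_H_succ (Coef.ofLE x ((pointHom X x₀ ρ).wedge x y)
        ((pointHom X x₀ ρ).wedge_subset_up x y)) (RSpace.point Ω).str n
      have h2 := point_subsingleton_H_succ (Coef.ofLE x' ((pointHom X x₀ ρ).wedge x' y)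
        ((pointHom X x₀ ρ).wedge_subset_up x' y)) (RSpace.point Ω).str n
      exact isBCAlong_of_subsingleton' _ _
    | zero =>
      by_cases h0 : y ≤ x₀
      · refine isBCAlong_of_epi_of_bijective _ _ ?_
          (resH_bijective_point _ _ ⟨le_of_eq rfl, h0⟩)
        intro T _ g₁ g₂ e
        exact e
      · have h1 := point_subsingleton_H_of_notMem (Coef.ofLE x ((pointHom X x₀ ρ).wedge x y)
          ((pointHom X x₀ ρ).wedge_subset_up x y)) (fun h => h0 h.2) (RSpace.point Ω).str 0
        have h2 := point_subsingleton_H_of_notMem (Coef.ofLE x' ((pointHom X x₀ ρ).wedge x' y)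
          ((pointHom X x₀ ρ).wedge_subset_up x' y)) (fun h => h0 h.2) (RSpace.point Ω).str 0
        exact isBCAlong_of_subsingleton' _ _
  · cases n with
    | succ n =>
      have h1 := point_subsingleton_H_succ (Coef.ofHom (pointHom X x₀ ρ) y
        ((pointHom X x₀ ρ).wedge x y) ((pointHom X x₀ ρ).wedge_subset_pre x y))
        (RSpace.point Ω).str n
      have h2 := point_subsingleton_H_succ (Coef.ofHom (pointHom X x₀ ρ) y'
        ((pointHom X x₀ ρ).wedge x y') ((pointHom X x₀ ρ).wedge_subset_pre x y'))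
        (RSpace.point Ω).str n
      exact isBCAlong_of_subsingleton' _ _
    | zero =>
      by_cases h1 : y' ≤ x₀
      · exact isBCAlong_of_epi_of_bijective _ _ (fun g₁ g₂ e => res_epi X hX hy g₁ g₂ e)
          (resH_bijective_point _ _ ⟨le_of_eq rfl, h1⟩)
      · have hs2 := point_subsingleton_H_of_notMem (Coef.ofHom (pointHom X x₀ ρ) y'
          ((pointHom X x₀ ρ).wedge x y') ((pointHom X x₀ ρ).wedge_subset_pre x y'))
          (fun h => h1 h.2) (RSpace.point Ω).str 0
        by_cases h0 : y ≤ x₀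
        · apply isBCAlong_of_subsingleton
          let _ : Algebra (X.ring y) (X.ring y') := (X.res hy).toAlgebra
          have hW : PUnit.unit ∈ (pointHom X x₀ ρ).wedge x y := ⟨le_of_eq rfl, h0⟩
          let j : X.ring y →+* Ω := pointCoef (Coef.ofHom (pointHom X x₀ ρ) y
            ((pointHom X x₀ ρ).wedge x y) ((pointHom X x₀ ρ).wedge_subset_pre x y)) hW
          let _ : Algebra (X.ring y) Ω := j.toAlgebra
          have hsub : Subsingleton (X.ring y' ⊗[X.ring y] Ω) := by
            by_contra hnt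
            rw [not_subsingleton_iff_nontrivial] at hnt
            obtain ⟨Q', hQ'⟩ := exists_prime_of_nontrivial_tensor (X.res hy) j hnt
            exact hmax y y' hy h0 h1 Q' hQ'
          let e : Ω ≃ₗ[X.ring y] H (Coef.ofHom (pointHom X x₀ ρ) y
              ((pointHom X x₀ ρ).wedge x y) ((pointHom X x₀ ρ).wedge_subset_pre x y))
              (RSpace.point Ω).str 0 :=
            LinearEquiv.ofBijective
              { toFun := kap _
                map_add' := map_add _
                map_smul' := fun r ω => kap_smul _ hW r ω } (kap_bijective _ hW)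
          exact (LinearEquiv.lTensor (X.ring y') e).symm.injective.subsingleton
        · have hs1 := point_subsingleton_H_of_notMem (Coef.ofHom (pointHom X x₀ ρ) y
            ((pointHom X x₀ ρ).wedge x y) ((pointHom X x₀ ρ).wedge_subset_pre x y))
            (fun h => h0 h.2) (RSpace.point Ω).str 0
          exact isBCAlong_of_subsingleton' _ _

end Point

end Groth.Agent.Lib.H94SchFin
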