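import Groth.Agent.Lib.H94FEt3
import Groth.Agent.Lib.H94SchFinPt
import Mathlib.CategoryTheory.Limits.Shapes.Terminal

/-!
# helper94: étale covers of schematic finite spaces, IV: the zero cover, terminal object and binary
products of `FEt X`.
-/

set_option autoImplicit false
universe u

namespace Groth.Agent.Lib.H94FEt

open TensorProduct SchFin CategoryTheory CategoryTheory.Limits

variable {X : RSpace.{u}}

/-- the zero algebra -/
def zeroAlg (X : RSpace.{u}) : Alg X where
  carrier p := PEmpty.{u + 1} → X.ring p
  res h := (X.res h).compLeft PEmpty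
  res_algebraMap _ _ := funext fun i => i.elim
  res_self _ _ := funext fun i => i.elim
  res_comp _ _ _ := funext fun i => i.elim

theorem zeroAlg_isEtCover (X : RSpace.{u}) : (zeroAlg X).IsEtCover := by
  refine ⟨fun p q h => ?_, fun p => ⟨?_, ?_⟩⟩
  · let F : (PEmpty.{u + 1} → X.ring p) →ₛₗ[X.res h] (PEmpty.{u + 1} → X.ring q) :=
      (zeroAlg X).toMod.res h
    show IsBCAlong (X.res h) F
    exact Groth.Agent.Lib.H94SchFin.isBCAlong_of_subsingleton' _ _
  · exact (inferInstance : Module.Finite (X.ring p) (PEmpty.{u + 1} → X.ring p))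
  · exact (inferInstance : Algebra.Etale (X.ring p) (PEmpty.{u + 1} → X.ring p))

/-- the zero étale cover -/
def zeroFEt (X : RSpace.{u}) : FEt X := ⟨zeroAlg X, zeroAlg_isEtCover X⟩

/-- the morphism to the zero algebra -/
def toZero (A : Alg X) : A ⟶ zeroAlg X where
  app _ :=
    { toFun := fun _ i => i.elim
      map_one' := funext fun i => i.elim
      map_mul' := fun _ _ => funext fun i => i.elim
      map_zero' := funext fun i => i.elim
      map_add' := fun _ _ => funext fun i => i.elim
      commutes' := fun _ => funext fun i => i.elim }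
  compat _ _ := funext fun i => i.elim

instance (A : FEt X) : Unique (A ⟶ zeroFEt X) where
  default := ObjectProperty.homMk (toZero A.obj)
  uniq f := by
    apply ObjectProperty.hom_ext
    apply Alg.hom_ext
    intro p
    ext a
    exact funext fun i => i.elim

theorem hasTerminal_FEt (X : RSpace.{u}) : HasTerminal (FEt X) := hasTerminal_of_unique (zeroFEt X)

theorem hasBinaryProducts_FEt (X : RSpace.{u}) : HasBinaryProducts (FEt X) := by
  have : ∀ A B : FEt X, HasLimit (pair A B) := fun A B => ⟨⟨⟨_, prodFEtIsLimit A B⟩⟩⟩
  exact hasBinaryProducts_of_hasLimit_pair _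

end Groth.Agent.Lib.H94FEt
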