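import Groth.Agent.Lib.H94FEt4
import Mathlib.RingTheory.TensorProduct.Finite
import Mathlib.RingTheory.Kaehler.Basic

/-!
# helper94: étale covers of schematic finite spaces, V: tensor products (`tensorAlg`), pushouts
(`pushAlg`, `pushFEt`, `pushIsColimit`), the initial cover (`strFEt`).
-/

set_option autoImplicit false
universe u

namespace Groth.Agent.Lib.H94FEt

open TensorProduct SchFin CategoryTheory CategoryTheory.Limits

section TensorRingMap

variable {R S A B A' B' : Type u} [CommRing R] [CommRing S] [CommRing A] [CommRing B]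
  [CommRing A'] [CommRing B'] [Algebra R A] [Algebra R B] [Algebra S A'] [Algebra S B']

/-- the ring map `A ⊗[R] B → A' ⊗[S] B'` induced by ring maps `A → A'`, `B → B'` over `R → S` -/
noncomputable def tensorRingMap (g : R →+* S) (α : A →+* A') (β : B →+* B')
    (hα : ∀ r, α (algebraMap R A r) = algebraMap S A' (g r))
    (hβ : ∀ r, β (algebraMap R B r) = algebraMap S B' (g r)) :
    A ⊗[R] B →+* A' ⊗[S] B' :=
  letI : Algebra R (A' ⊗[S] B') := ((algebraMap S (A' ⊗[S] B')).comp g).toAlgebra
  (Algebra.TensorProduct.productMap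
    ({ toRingHom := Algebra.TensorProduct.includeLeftRingHom.comp α
       commutes' := fun r => by
        show (α (algebraMap R A r)) ⊗ₜ[S] (1 : B') = algebraMap S (A' ⊗[S] B') (g r)
        rw [hα, Algebra.TensorProduct.algebraMap_apply] } : A →ₐ[R] A' ⊗[S] B')
    ({ toRingHom := (Algebra.TensorProduct.includeRight : B' →ₐ[S] A' ⊗[S] B').toRingHom.comp β
       commutes' := fun r => by
        show (1 : A') ⊗ₜ[S] (β (algebraMap R B r)) = algebraMap S (A' ⊗[S] B') (g r)
        rw [hβ, Algebra.TensorProduct.algebraMap_apply, Algebra.algebraMap_eq_smul_one,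
          Algebra.algebraMap_eq_smul_one, TensorProduct.smul_tmul] } :
      B →ₐ[R] A' ⊗[S] B')).toRingHom

theorem tensorRingMap_tmul (g : R →+* S) (α : A →+* A') (β : B →+* B')
    (hα : ∀ r, α (algebraMap R A r) = algebraMap S A' (g r))
    (hβ : ∀ r, β (algebraMap R B r) = algebraMap S B' (g r)) (a : A) (b : B) :
    tensorRingMap g α β hα hβ (a ⊗ₜ[R] b) = α a ⊗ₜ[S] β b := by
  show (α a ⊗ₜ[S] (1 : B')) * ((1 : A') ⊗ₜ[S] β b) = α a ⊗ₜ[S] β b
  rw [Algebra.TensorProduct.tmul_mul_tmul, mul_one, one_mul]

end TensorRingMap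

theorem isBCAlong_tensor {R S : Type u} [CommRing R] [CommRing S] (g : R →+* S)
    {M N M' N' P : Type u} [AddCommGroup M] [AddCommGroup N] [AddCommGroup M'] [AddCommGroup N']
    [AddCommGroup P] [Module R M] [Module R N] [Module S M'] [Module S N'] [Module S P]
    (fM : M →ₛₗ[g] M') (hM : IsBCAlong g fM) (fN : N →ₛₗ[g] N') (hN : IsBCAlong g fN)
    (ε : (M' ⊗[S] N') ≃ₗ[S] P)
    (F : (M ⊗[R] N) →ₛₗ[g] P) (hF : ∀ m n, F (m ⊗ₜ n) = ε (fM m ⊗ₜ fN n)) :
    IsBCAlong g F := by
  let _ : Algebra R S := g.toAlgebra
  let _ : Module R M' := Module.compHom M' g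
  have : IsScalarTower R S M' := IsScalarTower.of_algebraMap_smul fun _ _ => rfl
  let _ : Module R N' := Module.compHom N' g
  have : IsScalarTower R S N' := IsScalarTower.of_algebraMap_smul fun _ _ => rfl
  let _ : Module R P := Module.compHom P g
  have : IsScalarTower R S P := IsScalarTower.of_algebraMap_smul fun _ _ => rfl
  have hbcM : IsBaseChange S
      ({ toFun := fM, map_add' := fM.map_add, map_smul' := fM.map_smulₛₗ } : M →ₗ[R] M') := hM
  have hbcN : IsBaseChange S
      ({ toFun := fN, map_add' := fN.map_add, map_smul' := fN.map_smulₛₗ } : N →ₗ[R] N') := hN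
  show IsBaseChange S
      ({ toFun := F, map_add' := F.map_add, map_smul' := F.map_smulₛₗ } : (M ⊗[R] N) →ₗ[R] P)
  let e : S ⊗[R] (M ⊗[R] N) ≃ₗ[S] P :=
    ((TensorProduct.AlgebraTensorModule.distribBaseChange R S M N).trans
      (TensorProduct.congr hbcM.equiv hbcN.equiv)).trans ε
  apply IsBaseChange.of_equiv e
  intro x
  induction x using TensorProduct.induction_on with
  | zero => simp
  | tmul m n =>
    show ε ((TensorProduct.congr hbcM.equiv hbcN.equiv)
      (TensorProduct.AlgebraTensorModule.distribBaseChange R S M N ((1 : S) ⊗ₜ (m ⊗ₜ n)))) =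
        F (m ⊗ₜ n)
    rw [TensorProduct.AlgebraTensorModule.distribBaseChange_tmul, TensorProduct.congr_tmul,
      IsBaseChange.equiv_tmul, IsBaseChange.equiv_tmul, one_smul, one_smul, hF]
    rfl
  | add x y hx hy => rw [TensorProduct.tmul_add, map_add, map_add, hx, hy]

variable {X : RSpace.{u}}

/-- the tensor product (over the rings of the space) of two algebras -/
@[reducible] noncomputable def tensorAlg (A B : Alg X) : Alg X where
  carrier p := A.carrier p ⊗[X.ring p] B.carrier p
  res h := tensorRingMap (X.res h) (A.res h) (B.res h) (A.res_algebraMap h) (B.res_algebraMap h)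
  res_algebraMap h a := by
    rw [Algebra.TensorProduct.algebraMap_apply, tensorRingMap_tmul, A.res_algebraMap, map_one,
      Algebra.TensorProduct.algebraMap_apply]
  res_self p t := by
    induction t using TensorProduct.induction_on with
    | zero => exact map_zero _
    | tmul a b => rw [tensorRingMap_tmul, A.res_self, B.res_self]
    | add x y hx hy => rw [map_add, hx, hy]
  res_comp h h' t := by
    induction t using TensorProduct.induction_on with
    | zero => rw [map_zero, map_zero, map_zero]
    | tmul a b =>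
      rw [tensorRingMap_tmul, tensorRingMap_tmul, tensorRingMap_tmul, A.res_comp, B.res_comp]
    | add x y hx hy => rw [map_add, map_add, map_add, hx, hy]

theorem tensorAlg_res_tmul (A B : Alg X) {p q : X.pt} (h : p ≤ q) (a : A.carrier p)
    (b : B.carrier p) :
    (tensorAlg A B).res h (a ⊗ₜ[X.ring p] b) = A.res h a ⊗ₜ[X.ring q] B.res h b :=
  tensorRingMap_tmul (X.res h) (A.res h) (B.res h) (A.res_algebraMap h) (B.res_algebraMap h) a b

/-- left inclusion -/
noncomputable def tensorInl (A B : Alg X) : A ⟶ tensorAlg A B where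
  app p := Algebra.TensorProduct.includeLeft
  compat h a := by
    show (tensorAlg A B).res h (a ⊗ₜ[X.ring _] (1 : B.carrier _)) = A.res h a ⊗ₜ[X.ring _] (1 : B.carrier _)
    rw [tensorAlg_res_tmul, map_one]

/-- right inclusion -/
noncomputable def tensorInr (A B : Alg X) : B ⟶ tensorAlg A B where
  app p := Algebra.TensorProduct.includeRight
  compat h b := by
    show (tensorAlg A B).res h ((1 : A.carrier _) ⊗ₜ[X.ring _] b) = (1 : A.carrier _) ⊗ₜ[X.ring _] B.res h b
    rw [tensorAlg_res_tmul, map_one]

/-- the morphism out of the tensor product induced by two morphisms -/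
noncomputable def tensorDesc {A B T : Alg X} (u : A ⟶ T) (v : B ⟶ T) : tensorAlg A B ⟶ T where
  app p := Algebra.TensorProduct.productMap (u.app p) (v.app p)
  compat h t := by
    induction t using TensorProduct.induction_on with
    | zero => rw [map_zero, map_zero, map_zero, map_zero]
    | tmul a b =>
      rw [tensorAlg_res_tmul, Algebra.TensorProduct.productMap_apply_tmul,
        Algebra.TensorProduct.productMap_apply_tmul, map_mul, u.compat, v.compat]
    | add x y hx hy => rw [map_add, map_add, map_add, map_add, hx, hy]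

theorem tensorAlg_isEtCover (A B : Alg X) (hA : A.IsEtCover) (hB : B.IsEtCover) :
    (tensorAlg A B).IsEtCover := by
  refine ⟨fun p q h => ?_, fun p => ⟨?_, ?_⟩⟩
  · let fA : A.carrier p →ₛₗ[X.res h] A.carrier q := A.toMod.res h
    have hfA : IsBCAlong (X.res h) fA := hA.1 p q h
    let fB : B.carrier p →ₛₗ[X.res h] B.carrier q := B.toMod.res h
    have hfB : IsBCAlong (X.res h) fB := hB.1 p q h
    let F : (A.carrier p ⊗[X.ring p] B.carrier p) →ₛₗ[X.res h]
        (A.carrier q ⊗[X.ring q] B.carrier q) := (tensorAlg A B).toMod.res h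
    show IsBCAlong (X.res h) F
    exact isBCAlong_tensor (X.res h) fA hfA fB hfB (LinearEquiv.refl _ _) F
      (fun a b => tensorAlg_res_tmul A B h a b)
  · have := (hA.2 p).1
    have := (hB.2 p).1
    exact (inferInstance : Module.Finite (X.ring p) (A.carrier p ⊗[X.ring p] B.carrier p))
  · have := (hA.2 p).2
    have := (hB.2 p).2
    have : Algebra.Etale (A.carrier p) (A.carrier p ⊗[X.ring p] B.carrier p) := inferInstance
    exact Algebra.Etale.comp (X.ring p) (A.carrier p) (A.carrier p ⊗[X.ring p] B.carrier p)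

section Pushout

variable {A B C : Alg X} (f : C ⟶ A) (g : C ⟶ B)

/-- generators of the ideal defining the pushout inside the tensor product -/
noncomputable def pushGen (p : X.pt) (c : C.carrier p) : A.carrier p ⊗[X.ring p] B.carrier p :=
  (1 : A.carrier p) ⊗ₜ[X.ring p] g.app p c - f.app p c ⊗ₜ[X.ring p] (1 : B.carrier p)

/-- the ideal defining the pushout -/
noncomputable def pushIdeal (p : X.pt) : Ideal (A.carrier p ⊗[X.ring p] B.carrier p) :=
  Ideal.span (Set.range (pushGen f g p))

theorem res_pushGen {p q : X.pt} (h : p ≤ q) (c : C.carrier p) :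
    (tensorAlg A B).res h (pushGen f g p c) = pushGen f g q (C.res h c) := by
  unfold pushGen
  rw [map_sub, tensorAlg_res_tmul, tensorAlg_res_tmul, map_one, map_one, g.compat, f.compat]

theorem pushIdeal_le_comap {p q : X.pt} (h : p ≤ q) :
    pushIdeal f g p ≤ (pushIdeal f g q).comap ((tensorAlg A B).res h) := by
  unfold pushIdeal
  rw [Ideal.span_le]
  rintro _ ⟨c, rfl⟩
  show (tensorAlg A B).res h (pushGen f g p c) ∈ Ideal.span (Set.range (pushGen f g q))
  rw [res_pushGen]
  exact Ideal.subset_span ⟨_, rfl⟩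

theorem pushIdeal_eq_map (p : X.pt) :
    pushIdeal f g p = Ideal.map (Algebra.TensorProduct.map (f.app p) (g.app p)).toRingHom
      (KaehlerDifferential.ideal (X.ring p) (C.carrier p)) := by
  rw [← KaehlerDifferential.span_range_eq_ideal, Ideal.map_span]
  unfold pushIdeal
  congr 1
  ext t
  constructor
  · rintro ⟨c, rfl⟩
    refine ⟨_, ⟨c, rfl⟩, ?_⟩
    show Algebra.TensorProduct.map (f.app p) (g.app p)
      ((1 : C.carrier p) ⊗ₜ[X.ring p] c - c ⊗ₜ[X.ring p] (1 : C.carrier p)) = pushGen f g p c
    rw [map_sub, Algebra.TensorProduct.map_tmul, Algebra.TensorProduct.map_tmul, map_one, map_one]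
    rfl
  · rintro ⟨_, ⟨c, rfl⟩, rfl⟩
    refine ⟨c, ?_⟩
    show pushGen f g p c = Algebra.TensorProduct.map (f.app p) (g.app p)
      ((1 : C.carrier p) ⊗ₜ[X.ring p] c - c ⊗ₜ[X.ring p] (1 : C.carrier p))
    rw [map_sub, Algebra.TensorProduct.map_tmul, Algebra.TensorProduct.map_tmul, map_one, map_one]
    rfl

theorem pushIdeal_idem (hX : X.IsFinSp) (hC : C.IsEtCover) (p : X.pt) :
    ∃ e, IsIdempotentElem e ∧ pushIdeal f g p = Ideal.span {e} := by
  have := hX.1 p
  have := (hC.2 p).1
  have := (hC.2 p).2
  have : Algebra.Etale (C.carrier p) (C.carrier p ⊗[X.ring p] C.carrier p) := inferInstance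
  have : Algebra.Etale (X.ring p) (C.carrier p ⊗[X.ring p] C.carrier p) :=
    Algebra.Etale.comp (X.ring p) (C.carrier p) (C.carrier p ⊗[X.ring p] C.carrier p)
  obtain ⟨ε, hε, hker⟩ := exists_idem_ker
    (Algebra.TensorProduct.lmul' (X.ring p) : C.carrier p ⊗[X.ring p] C.carrier p →ₐ[X.ring p] C.carrier p)
  refine ⟨Algebra.TensorProduct.map (f.app p) (g.app p) ε,
    hε.map (Algebra.TensorProduct.map (f.app p) (g.app p)), ?_⟩
  rw [pushIdeal_eq_map]
  show Ideal.map _ (RingHom.ker (Algebra.TensorProduct.lmul' (X.ring p) :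
    C.carrier p ⊗[X.ring p] C.carrier p →ₐ[X.ring p] C.carrier p)) = _
  rw [hker, Ideal.map_span, Set.image_singleton]
  rfl

theorem pushIdeal_span (hA : A.IsEtCover) (hB : B.IsEtCover) (hC : C.IsEtCover) {p q : X.pt}
    (h : p ≤ q) (a' : A.carrier q ⊗[X.ring q] B.carrier q) (ha' : a' ∈ pushIdeal f g q) :
    a' ∈ Submodule.span (X.ring q) ((tensorAlg A B).res h ''
      (pushIdeal f g p : Set (A.carrier p ⊗[X.ring p] B.carrier p))) := by
  let T : Submodule (X.ring q) (A.carrier q ⊗[X.ring q] B.carrier q) :=
    Submodule.span (X.ring q) ((tensorAlg A B).res h ''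
      (pushIdeal f g p : Set (A.carrier p ⊗[X.ring p] B.carrier p)))
  let fT : (A.carrier p ⊗[X.ring p] B.carrier p) →ₛₗ[X.res h]
      (A.carrier q ⊗[X.ring q] B.carrier q) := (tensorAlg A B).toMod.res h
  have hfT : IsBCAlong (X.res h) fT := (tensorAlg_isEtCover A B hA hB).1 p q h
  let fC : C.carrier p →ₛₗ[X.res h] C.carrier q := C.toMod.res h
  have hfC : IsBCAlong (X.res h) fC := hC.1 p q h
  -- T is stable under multiplication
  have hmul : ∀ (t y : A.carrier q ⊗[X.ring q] B.carrier q), y ∈ T → t * y ∈ T := by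
    intro t y hy
    refine Submodule.span_induction ?_ ?_ ?_ ?_ hy
    · rintro _ ⟨x, hx, rfl⟩
      let T' : Submodule (X.ring q) (A.carrier q ⊗[X.ring q] B.carrier q) :=
        T.comap (LinearMap.mulRight (X.ring q) ((tensorAlg A B).res h x))
      have : t ∈ T' := by
        refine span_range_of_isBCAlong (X.res h) fT hfT T' (fun m => ?_) t
        show (tensorAlg A B).res h m * (tensorAlg A B).res h x ∈ T
        rw [← map_mul]
        exact Submodule.subset_span ⟨m * x, Ideal.mul_mem_left _ _ hx, rfl⟩
      exact this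
    · rw [mul_zero]
      exact T.zero_mem
    · intro x y _ _ hx hy
      rw [mul_add]
      exact T.add_mem hx hy
    · intro s x _ hx
      rw [mul_smul_comm]
      exact T.smul_mem s hx
  -- generators lie in T
  have hgen : ∀ c' : C.carrier q, pushGen f g q c' ∈ T := by
    intro c'
    let TC : Submodule (X.ring q) (C.carrier q) :=
      { carrier := {c' | pushGen f g q c' ∈ T}
        add_mem' := by
          intro a b ha hb
          show pushGen f g q (a + b) ∈ T
          have : pushGen f g q (a + b) = pushGen f g q a + pushGen f g q b := by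
            unfold pushGen
            rw [map_add, map_add, TensorProduct.tmul_add, TensorProduct.add_tmul]
            abel
          rw [this]
          exact T.add_mem ha hb
        zero_mem' := by
          show pushGen f g q 0 ∈ T
          have : pushGen f g q 0 = 0 := by
            unfold pushGen
            rw [map_zero, map_zero, TensorProduct.tmul_zero, TensorProduct.zero_tmul, sub_zero]
          rw [this]
          exact T.zero_mem
        smul_mem' := by
          intro s a ha
          show pushGen f g q (s • a) ∈ T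
          have : pushGen f g q (s • a) = s • pushGen f g q a := by
            unfold pushGen
            rw [map_smul, map_smul, TensorProduct.tmul_smul, ← TensorProduct.smul_tmul', smul_sub]
          rw [this]
          exact T.smul_mem s ha }
    refine span_range_of_isBCAlong (X.res h) fC hfC TC (fun c => ?_) c'
    show pushGen f g q (C.res h c) ∈ T
    rw [← res_pushGen]
    exact Submodule.subset_span ⟨_, Ideal.subset_span ⟨c, rfl⟩, rfl⟩
  unfold pushIdeal at ha'
  refine Submodule.span_induction ?_ ?_ ?_ ?_ ha'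
  · rintro _ ⟨c', rfl⟩
    exact hgen c'
  · exact T.zero_mem
  · intro x y _ _ hx hy
    exact T.add_mem hx hy
  · intro t y _ hy
    exact hmul t y hy

/-- the pushout of two morphisms of algebras, as a quotient of the tensor product -/
noncomputable def pushAlg : Alg X :=
  quotAlg (tensorAlg A B) (pushIdeal f g) (fun h => pushIdeal_le_comap f g h)

theorem pushAlg_isEtCover (hX : X.IsFinSp) (hA : A.IsEtCover) (hB : B.IsEtCover)
    (hC : C.IsEtCover) : (pushAlg f g).IsEtCover :=
  quotAlg_isEtCover (tensorAlg A B) (tensorAlg_isEtCover A B hA hB) (pushIdeal f g)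
    (fun h => pushIdeal_le_comap f g h) (pushIdeal_idem f g hX hC)
    (fun h a' ha' => pushIdeal_span f g hA hB hC h a' ha')

end Pushout

section PushoutFEt

variable {A B C : FEt X} (f : C ⟶ A) (g : C ⟶ B)

/-- the pushout object in the category of étale covers -/
noncomputable def pushFEt (hX : X.IsFinSp) : FEt X :=
  ⟨pushAlg f.hom g.hom, pushAlg_isEtCover f.hom g.hom hX A.property B.property C.property⟩

/-- left leg of the pushout -/
noncomputable def pushInl (hX : X.IsFinSp) : A ⟶ pushFEt f g hX :=
  ObjectProperty.homMk (tensorInl A.obj B.obj ≫ quotMk (tensorAlg A.obj B.obj)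
    (pushIdeal f.hom g.hom) (fun h => pushIdeal_le_comap f.hom g.hom h))

/-- right leg of the pushout -/
noncomputable def pushInr (hX : X.IsFinSp) : B ⟶ pushFEt f g hX :=
  ObjectProperty.homMk (tensorInr A.obj B.obj ≫ quotMk (tensorAlg A.obj B.obj)
    (pushIdeal f.hom g.hom) (fun h => pushIdeal_le_comap f.hom g.hom h))

theorem push_condition (hX : X.IsFinSp) : f ≫ pushInl f g hX = g ≫ pushInr f g hX := by
  apply ObjectProperty.hom_ext
  apply Alg.hom_ext
  intro p
  ext c
  show Ideal.Quotient.mk (pushIdeal f.hom g.hom p) (f.hom.app p c ⊗ₜ[X.ring p] (1 : B.obj.carrier p)) =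
    Ideal.Quotient.mk (pushIdeal f.hom g.hom p) ((1 : A.obj.carrier p) ⊗ₜ[X.ring p] g.hom.app p c)
  symm
  rw [Ideal.Quotient.eq]
  exact Ideal.subset_span ⟨c, rfl⟩

/-- the pushout cocone is a colimit -/
noncomputable def pushIsColimit (hX : X.IsFinSp) :
    IsColimit (PushoutCocone.mk (pushInl f g hX) (pushInr f g hX) (push_condition f g hX)) := by
  refine PushoutCocone.IsColimit.mk (push_condition f g hX)
    (fun s => ObjectProperty.homMk (quotLift (tensorAlg A.obj B.obj) (pushIdeal f.hom g.hom)
      (fun h => pushIdeal_le_comap f.hom g.hom h) (tensorDesc s.inl.hom s.inr.hom) ?_)) ?_ ?_ ?_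
  · intro p a ha
    unfold pushIdeal at ha
    refine Submodule.span_induction ?_ ?_ ?_ ?_ ha
    · rintro _ ⟨c, rfl⟩
      show Algebra.TensorProduct.productMap (s.inl.hom.app p) (s.inr.hom.app p)
        ((1 : A.obj.carrier p) ⊗ₜ[X.ring p] g.hom.app p c -
          f.hom.app p c ⊗ₜ[X.ring p] (1 : B.obj.carrier p)) = 0
      rw [map_sub, Algebra.TensorProduct.productMap_apply_tmul,
        Algebra.TensorProduct.productMap_apply_tmul, map_one, map_one, one_mul, mul_one, sub_eq_zero]
      have := congrArg (fun k : C ⟶ s.pt => k.hom.app p c) s.condition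
      exact this.symm
    · exact map_zero _
    · intro x y _ _ hx hy
      rw [map_add, hx, hy, add_zero]
    · intro t y _ hy
      rw [smul_eq_mul, map_mul, hy, mul_zero]
  · intro s
    apply ObjectProperty.hom_ext
    apply Alg.hom_ext
    intro p
    ext a
    show Algebra.TensorProduct.productMap (s.inl.hom.app p) (s.inr.hom.app p)
      (a ⊗ₜ[X.ring p] (1 : B.obj.carrier p)) = s.inl.hom.app p a
    rw [Algebra.TensorProduct.productMap_apply_tmul, map_one, mul_one]
  · intro s
    apply ObjectProperty.hom_ext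
    apply Alg.hom_ext
    intro p
    ext b
    show Algebra.TensorProduct.productMap (s.inl.hom.app p) (s.inr.hom.app p)
      ((1 : A.obj.carrier p) ⊗ₜ[X.ring p] b) = s.inr.hom.app p b
    rw [Algebra.TensorProduct.productMap_apply_tmul, map_one, one_mul]
  · intro s m hl hr
    apply ObjectProperty.hom_ext
    apply Alg.hom_ext
    intro p
    ext t
    obtain ⟨t, rfl⟩ := Ideal.Quotient.mk_surjective t
    let μ : (A.obj.carrier p ⊗[X.ring p] B.obj.carrier p) ⧸ pushIdeal f.hom g.hom p →+*
        s.pt.obj.carrier p := (m.hom.app p).toRingHom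
    let φ : A.obj.carrier p ⊗[X.ring p] B.obj.carrier p →+* s.pt.obj.carrier p :=
      μ.comp (Ideal.Quotient.mk (pushIdeal f.hom g.hom p))
    have h1 : ∀ a, φ (a ⊗ₜ[X.ring p] (1 : B.obj.carrier p)) = s.inl.hom.app p a := fun a =>
      congrArg (fun k : A ⟶ s.pt => k.hom.app p a) hl
    have h2 : ∀ b, φ ((1 : A.obj.carrier p) ⊗ₜ[X.ring p] b) = s.inr.hom.app p b := fun b =>
      congrArg (fun k : B ⟶ s.pt => k.hom.app p b) hr
    have hφ : ∀ t, φ t =
        Algebra.TensorProduct.productMap (s.inl.hom.app p) (s.inr.hom.app p) t := by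
      intro t
      induction t using TensorProduct.induction_on with
      | zero => rw [map_zero, map_zero]
      | tmul a b =>
        have h3 : a ⊗ₜ[X.ring p] b = (a ⊗ₜ[X.ring p] (1 : B.obj.carrier p)) *
            ((1 : A.obj.carrier p) ⊗ₜ[X.ring p] b) := by
          rw [Algebra.TensorProduct.tmul_mul_tmul, mul_one, one_mul]
        rw [Algebra.TensorProduct.productMap_apply_tmul, h3, map_mul, h1, h2]
      | add x y hx hy => rw [map_add, map_add, hx, hy]
    exact hφ t

theorem hasPushouts_FEt (hX : X.IsFinSp) : HasPushouts (FEt X) := by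
  have : ∀ {A B C : FEt X} (f : C ⟶ A) (g : C ⟶ B), HasColimit (span f g) := fun f g =>
    ⟨⟨⟨_, pushIsColimit f g hX⟩⟩⟩
  exact hasPushouts_of_hasColimit_span _

end PushoutFEt

section Initial

theorem isBCAlong_self {R S : Type u} [CommRing R] [CommRing S] (g : R →+* S)
    (F : R →ₛₗ[g] S) (hF : ∀ r, F r = g r) : IsBCAlong g F := by
  let _ : Algebra R S := g.toAlgebra
  have h := IsBaseChange.linearMap (R := R) (S := S)
  have hF' : Algebra.linearMap R S =
      ({ toFun := F, map_add' := F.map_add, map_smul' := F.map_smulₛₗ } : R →ₗ[R] S) := by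
    ext
    simp [hF]
  rw [hF'] at h
  exact h

theorem str_isEtCover (X : RSpace.{u}) : (Alg.str X).IsEtCover := by
  refine ⟨fun p q h => ?_, fun p => ⟨?_, ?_⟩⟩
  · let F : X.ring p →ₛₗ[X.res h] X.ring q := (Alg.str X).toMod.res h
    show IsBCAlong (X.res h) F
    exact isBCAlong_self (X.res h) F (fun r => rfl)
  · exact (inferInstance : Module.Finite (X.ring p) (X.ring p))
  · exact (inferInstance : Algebra.Etale (X.ring p) (X.ring p))

/-- the initial étale cover -/
def strFEt (X : RSpace.{u}) : FEt X := ⟨Alg.str X, str_isEtCover X⟩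

/-- the morphism from the structure algebra -/
def fromStr (A : Alg X) : Alg.str X ⟶ A where
  app p := Algebra.ofId (X.ring p) (A.carrier p)
  compat h a := A.res_algebraMap h a

instance (A : FEt X) : Unique (strFEt X ⟶ A) where
  default := ObjectProperty.homMk (fromStr A.obj)
  uniq f := by
    apply ObjectProperty.hom_ext
    apply Alg.hom_ext
    intro p
    ext

theorem hasInitial_FEt (X : RSpace.{u}) : HasInitial (FEt X) := hasInitial_of_unique (strFEt X)

end Initial

end Groth.Agent.Lib.H94FEt
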