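import Groth.Agent.Lib.H94FEtFib
import Mathlib.RingTheory.Flat.Rank
import Mathlib.RingTheory.Flat.LocallyFree
import Mathlib.RingTheory.LocalRing.ResidueField.Fiber
import Mathlib.RingTheory.Unramified.Field
import Mathlib.RingTheory.LocalRing.Module
import Mathlib.RingTheory.Support

/-!
# helper94: étale covers of schematic finite spaces, VII: an injective morphism of finite étale
algebras with the same rank function is bijective; pointwise bijective morphisms of algebras over a
finite ringed poset are isomorphisms.
-/

set_option autoImplicit false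
universe u

namespace Groth.Agent.Lib.H94FEt

open TensorProduct SchFin CategoryTheory

/-- Nakayama, global form: a linear map into a finite module which is surjective on all fibres is
surjective. -/
theorem surjective_of_fibre_surjective {R A B : Type u} [CommRing R] [AddCommGroup A]
    [AddCommGroup B] [Module R A] [Module R B] [Module.Finite R B] (f : A →ₗ[R] B)
    (h : ∀ P : PrimeSpectrum R,
      Function.Surjective (LinearMap.lTensor P.asIdeal.ResidueField f)) :
    Function.Surjective f := by
  rw [← LinearMap.range_eq_top, ← Submodule.Quotient.subsingleton_iff,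
    ← Module.support_eq_empty_iff (R := R), Set.eq_empty_iff_forall_notMem]
  intro P hP
  rw [Module.mem_support_iff_nontrivial_residueField_tensorProduct] at hP
  rw [← not_subsingleton_iff_nontrivial] at hP
  apply hP
  refine ⟨fun a b => ?_⟩
  have hz : ∀ z : P.asIdeal.ResidueField ⊗[R] (B ⧸ LinearMap.range f), z = 0 := by
    intro z
    obtain ⟨y, rfl⟩ := LinearMap.lTensor_surjective P.asIdeal.ResidueField
      (Submodule.mkQ_surjective (LinearMap.range f)) z
    obtain ⟨x, rfl⟩ := h P y
    rw [← LinearMap.comp_apply, ← LinearMap.lTensor_comp]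
    have : (LinearMap.range f).mkQ ∘ₗ f = 0 := by
      ext a
      simp
    rw [this, LinearMap.lTensor_zero, LinearMap.zero_apply]
  rw [hz a, hz b]

/-- an injective morphism from a finite étale algebra to a finite algebra is injective on fibres -/
theorem fibre_injective_of_injective {R A B : Type u} [CommRing R] [CommRing A] [CommRing B]
    [Algebra R A] [Algebra R B] [Algebra.Etale R A] [Module.Finite R B]
    (f : A →ₐ[R] B) (hf : Function.Injective f) (P : PrimeSpectrum R) :
    Function.Injective (Algebra.TensorProduct.map
      (AlgHom.id P.asIdeal.ResidueField P.asIdeal.ResidueField) f) := by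
  let k := P.asIdeal.ResidueField
  let g : k ⊗[R] A →ₐ[k] k ⊗[R] B := Algebra.TensorProduct.map (AlgHom.id k k) f
  have hred : IsReduced (k ⊗[R] A) := Algebra.FormallyUnramified.isReduced_of_field k (k ⊗[R] A)
  show Function.Injective g
  rw [injective_iff_map_eq_zero]
  intro z hz
  have hz0 : z ∈ nilradical (k ⊗[R] A) := by
    rw [nilradical_eq_sInf, Ideal.mem_sInf]
    intro Q' hQ'
    have hQ'p : Q'.IsPrime := hQ'
    -- the prime of `A` under `Q'`
    let qA : PrimeSpectrum.comap (algebraMap R A) ⁻¹' {P} :=
      (PrimeSpectrum.preimageEquivFiber R A P).symm ⟨Q', hQ'p⟩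
    -- lying over
    let _ : Algebra A B := f.toRingHom.toAlgebra
    have : IsScalarTower R A B := IsScalarTower.of_algebraMap_eq (fun r => (f.commutes r).symm)
    have : Module.Finite A B := Module.Finite.of_restrictScalars_finite R A B
    have : Algebra.IsIntegral A B := inferInstance
    have hker : (⊥ : Ideal B).comap (algebraMap A B) ≤ qA.1.asIdeal := by
      rw [← RingHom.ker_eq_comap_bot]
      have : RingHom.ker (algebraMap A B) = ⊥ := (RingHom.injective_iff_ker_eq_bot _).1 hf
      rw [this]
      exact bot_le
    obtain ⟨QB, -, hQB, hQBA⟩ :=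
      Ideal.exists_ideal_over_prime_of_isIntegral qA.1.asIdeal (⊥ : Ideal B) hker
    have hQBP : (⟨QB, hQB⟩ : PrimeSpectrum B) ∈ PrimeSpectrum.comap (algebraMap R B) ⁻¹' {P} := by
      have h1 := qA.2
      simp only [Set.mem_preimage, Set.mem_singleton_iff] at h1 ⊢
      rw [← h1]
      apply PrimeSpectrum.ext
      show Ideal.comap (algebraMap R B) QB = Ideal.comap (algebraMap R A) qA.1.asIdeal
      rw [← hQBA, Ideal.comap_comap, ← IsScalarTower.algebraMap_eq]
    let QB' : PrimeSpectrum (k ⊗[R] B) := PrimeSpectrum.preimageEquivFiber R B P ⟨⟨QB, hQB⟩, hQBP⟩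
    have hQB' : (PrimeSpectrum.preimageEquivFiber R B P).symm QB' = ⟨⟨QB, hQB⟩, hQBP⟩ :=
      Equiv.symm_apply_apply _ _
    have key : (PrimeSpectrum.preimageEquivFiber R A P).symm (PrimeSpectrum.comap g.toRingHom QB') = qA := by
      apply Subtype.ext
      apply PrimeSpectrum.ext
      have h2 : Ideal.comap Algebra.TensorProduct.includeRight.toRingHom QB'.asIdeal = QB :=
        congrArg (fun t => t.1.asIdeal) hQB'
      show Ideal.comap Algebra.TensorProduct.includeRight.toRingHom
        (Ideal.comap g.toRingHom QB'.asIdeal) = qA.1.asIdeal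
      rw [← hQBA]
      conv_rhs => rw [← h2]
      rw [Ideal.comap_comap, Ideal.comap_comap]
      congr 1
    have key2 := (PrimeSpectrum.preimageEquivFiber R A P).symm.injective key
    have key3 := congrArg PrimeSpectrum.asIdeal key2
    have key4 : Ideal.comap g.toRingHom QB'.asIdeal = Q' := key3
    rw [← key4, Ideal.mem_comap]
    show g z ∈ _
    rw [hz]
    exact Ideal.zero_mem _
  have := (nilradical_eq_zero (k ⊗[R] A))
  rw [this] at hz0
  exact hz0

/-- an injective morphism of finite étale algebras with the same rank function is surjective -/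
theorem surjective_of_injective_of_rankAtStalk_eq {R A B : Type u} [CommRing R] [CommRing A]
    [CommRing B] [Algebra R A] [Algebra R B] [Algebra.Etale R A] [Module.Finite R A]
    [Module.Finite R B] [Module.Flat R B]
    (f : A →ₐ[R] B) (hf : Function.Injective f)
    (h : ∀ P : PrimeSpectrum R, Module.rankAtStalk A P = Module.rankAtStalk B P) :
    Function.Surjective f := by
  apply surjective_of_fibre_surjective f.toLinearMap
  intro P
  let k := P.asIdeal.ResidueField
  let g : k ⊗[R] A →ₗ[k] k ⊗[R] B := (Algebra.TensorProduct.map (AlgHom.id k k) f).toLinearMap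
  have hg : Function.Injective g := fibre_injective_of_injective f hf P
  have hdim : Module.finrank k (k ⊗[R] A) = Module.finrank k (k ⊗[R] B) := by
    have h1 := Module.rankAtStalk_eq (M := A) P
    have h2 := Module.rankAtStalk_eq (M := B) P
    rw [h P] at h1
    exact h1.symm.trans h2
  have hs : Function.Surjective g :=
    (LinearMap.injective_iff_surjective_of_finrank_eq_finrank hdim).1 hg
  have hgl : ∀ x, LinearMap.lTensor k f.toLinearMap x = g x := by
    intro x
    induction x using TensorProduct.induction_on with
    | zero => simp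
    | tmul a b => simp [g]
    | add x y hx hy => simp only [map_add, hx, hy]
  intro y
  obtain ⟨x, hx⟩ := hs y
  exact ⟨x, (hgl x).trans hx⟩

variable {X : RSpace.{u}}

/-- the inverse of a pointwise bijective morphism of algebras -/
noncomputable def algInv {A B : Alg X} (f : A ⟶ B) (h : ∀ p, Function.Bijective (f.app p)) :
    B ⟶ A where
  app p := ((AlgEquiv.ofBijective (f.app p) (h p)).symm : B.carrier p →ₐ[X.ring p] A.carrier p)
  compat {p q} hpq b := by
    apply (h q).1
    have h1 : f.app q ((AlgEquiv.ofBijective (f.app q) (h q)).symm (B.res hpq b)) = B.res hpq b :=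
      (AlgEquiv.ofBijective (f.app q) (h q)).apply_symm_apply _
    have h2 : f.app p ((AlgEquiv.ofBijective (f.app p) (h p)).symm b) = b :=
      (AlgEquiv.ofBijective (f.app p) (h p)).apply_symm_apply _
    show f.app q (A.res hpq ((AlgEquiv.ofBijective (f.app p) (h p)).symm b)) =
      f.app q ((AlgEquiv.ofBijective (f.app q) (h q)).symm (B.res hpq b))
    rw [h1, ← f.compat, h2]

theorem alg_isIso_of_bijective {A B : Alg X} (f : A ⟶ B)
    (h : ∀ p, Function.Bijective (f.app p)) : IsIso f := by
  refine ⟨algInv f h, ?_, ?_⟩
  · apply Alg.hom_ext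
    intro p
    ext a
    exact (AlgEquiv.ofBijective (f.app p) (h p)).symm_apply_apply a
  · apply Alg.hom_ext
    intro p
    ext b
    exact (AlgEquiv.ofBijective (f.app p) (h p)).apply_symm_apply b

theorem fet_isIso_of_bijective {A B : FEt X} (f : A ⟶ B)
    (h : ∀ p, Function.Bijective (f.hom.app p)) : IsIso f := by
  refine ⟨ObjectProperty.homMk (algInv f.hom h), ?_, ?_⟩
  · apply ObjectProperty.hom_ext
    apply Alg.hom_ext
    intro p
    ext a
    exact (AlgEquiv.ofBijective (f.hom.app p) (h p)).symm_apply_apply a
  · apply ObjectProperty.hom_ext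
    apply Alg.hom_ext
    intro p
    ext b
    exact (AlgEquiv.ofBijective (f.hom.app p) (h p)).apply_symm_apply b

end Groth.Agent.Lib.H94FEt
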