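import Groth.Agent.Lib.H94FEt6

/-!
# helper94: étale covers of schematic finite spaces, VIII: under the local triviality hypothesis the
rank of an étale cover is constant; the cardinality of the fibre at a geometric point is the rank.
-/

set_option autoImplicit false
universe u

namespace Groth.Agent.Lib.H94FEt

open TensorProduct SchFin CategoryTheory

/-- the rank of a module that becomes free of rank `n` after a faithfully flat base change -/
theorem rankAtStalk_eq_of_faithfullyFlat_trivial {R S M : Type u} [CommRing R] [CommRing S]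
    [Algebra R S] [Module.FaithfullyFlat R S] [AddCommGroup M] [Module R M] [Module.Finite R M] [Module.Flat R M]
    (n : ℕ) (e : S ⊗[R] M ≃ₗ[S] (Fin n → S)) (P : PrimeSpectrum R) :
    Module.rankAtStalk M P = n := by
  obtain ⟨Q, rfl⟩ := PrimeSpectrum.comap_surjective_of_faithfullyFlat (A := R) (B := S) P
  have : Nontrivial S := Q.nontrivial
  rw [← Module.rankAtStalk_baseChange, Module.rankAtStalk_eq_of_equiv e,
    Module.rankAtStalk_eq_finrank_of_free]
  simp

variable {X : RSpace.{u}}

/-- the local triviality hypothesis of the rows on well-connected spaces -/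
def LocTriv (X : RSpace.{u}) : Prop :=
  ∀ A : FEt X, ∃ (B : Alg X) (n : ℕ), B.IsCovering ∧
    ∀ p : X.pt, Nonempty (TensorProduct (X.ring p) (B.carrier p) (A.obj.carrier p) ≃ₐ[B.carrier p]
      (Fin n → B.carrier p))

theorem rank_const (hlt : LocTriv X) (A : FEt X) :
    ∃ n : ℕ, ∀ (p : X.pt) (P : PrimeSpectrum (X.ring p)),
      Module.rankAtStalk (A.obj.carrier p) P = n := by
  obtain ⟨B, n, hB, hiso⟩ := hlt A
  refine ⟨n, fun p P => ?_⟩
  have := (hB.2 p).2
  have := (A.property.2 p).1
  have := (A.property.2 p).2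
  have : Module.Flat (X.ring p) (A.obj.carrier p) := inferInstance
  obtain ⟨e⟩ := hiso p
  exact rankAtStalk_eq_of_faithfullyFlat_trivial n e.toLinearEquiv P

/-- a finite split algebra over a field has as many primes as its dimension -/
theorem card_primeSpectrum_of_isFiniteSplit {k T : Type u} [Field k] [CommRing T] [Algebra k T]
    [Algebra.IsFiniteSplit k T] : Nat.card (PrimeSpectrum T) = Module.finrank k T := by
  obtain ⟨n, ⟨e⟩⟩ := Algebra.IsFiniteSplit.nonempty_algEquiv_fun k T
  rw [e.toLinearEquiv.finrank_eq, Module.finrank_fin_fun]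
  have e1 : PrimeSpectrum T ≃ PrimeSpectrum (Fin n → k) :=
    (PrimeSpectrum.comapEquiv e.toRingEquiv).toEquiv
  have e2 : (Σ _ : Fin n, PrimeSpectrum k) ≃ PrimeSpectrum (Fin n → k) :=
    Equiv.ofBijective _ (PrimeSpectrum.sigmaToPi_bijective (fun _ : Fin n => k))
  rw [Nat.card_congr e1, ← Nat.card_congr e2, Nat.card_sigma]
  simp

variable {Ω : Type u} [Field Ω] [IsAlgClosed Ω] (ξ : GeomPt X Ω)

attribute [local instance] algΩ

/-- the prime of the ring of the point hit by a geometric point -/
noncomputable def basePrime : PrimeSpectrum (X.ring ξ.base) :=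
  PrimeSpectrum.comap (algebraMap (X.ring ξ.base) Ω) ⊥

theorem card_fib (A : Alg X) (hA : A.IsEtCover) :
    Nat.card (ξ.Fib A) = Module.rankAtStalk (A.carrier ξ.base) (basePrime ξ) := by
  have := isFiniteSplit_fib ξ A hA
  have := (hA.2 ξ.base).1
  have := (hA.2 ξ.base).2
  have : Module.Flat (X.ring ξ.base) (A.carrier ξ.base) := inferInstance
  show Nat.card (PrimeSpectrum (Ω ⊗[X.ring ξ.base] A.carrier ξ.base)) = _
  rw [card_primeSpectrum_of_isFiniteSplit (k := Ω), basePrime, ← Module.rankAtStalk_baseChange,
    Module.rankAtStalk_eq_finrank_of_free]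
  rfl

end Groth.Agent.Lib.H94FEt
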