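import Groth.Agent.Lib.H94FEt5
import Mathlib.RingTheory.TotallySplit
import Mathlib.FieldTheory.IsSepClosed
import Mathlib.FieldTheory.IsAlgClosed.Basic
import Mathlib.RingTheory.Ideal.GoingUp
import Mathlib.RingTheory.Ideal.Over

/-!
# helper94: étale covers of schematic finite spaces, VI: the fibre of an étale cover at a geometric
point as the set of `Ω`-valued points (`beta`, `fibMap_beta`), and the behaviour of fibres under the
initial cover, the zero cover, products, pushouts, and pointwise injective / surjective morphisms.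
-/

set_option autoImplicit false
universe u

namespace Groth.Agent.Lib.H94FEt

open TensorProduct SchFin CategoryTheory CategoryTheory.Limits

theorem exists_algHom_extension {R A B Ω : Type u} [CommRing R] [CommRing A] [CommRing B]
    [Field Ω] [IsAlgClosed Ω] [Algebra R A] [Algebra R B] [Algebra R Ω] (f : A →ₐ[R] B)
    (hf : Function.Injective f) [Module.Finite R B] (u : A →ₐ[R] Ω) :
    ∃ v : B →ₐ[R] Ω, v.comp f = u := by
  let _ : Algebra A B := f.toRingHom.toAlgebra
  have : IsScalarTower R A B := IsScalarTower.of_algebraMap_eq (fun r => (f.commutes r).symm)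
  have : Module.Finite A B := Module.Finite.of_restrictScalars_finite R A B
  have : Algebra.IsIntegral A B := inferInstance
  let 𝔭 : Ideal A := RingHom.ker u
  have h𝔭 : 𝔭.IsPrime := RingHom.ker_isPrime u
  have hker : (⊥ : Ideal B).comap (algebraMap A B) ≤ 𝔭 := by
    rw [← RingHom.ker_eq_comap_bot]
    have : RingHom.ker (algebraMap A B) = ⊥ := (RingHom.injective_iff_ker_eq_bot _).1 hf
    rw [this]
    exact bot_le
  obtain ⟨𝔮, -, h𝔮, h𝔮𝔭⟩ := Ideal.exists_ideal_over_prime_of_isIntegral 𝔭 (⊥ : Ideal B) hker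
  have hlo : 𝔮.LiesOver 𝔭 := ⟨h𝔮𝔭.symm⟩
  let _ : Algebra (A ⧸ 𝔭) Ω := (RingHom.kerLift (u : A →+* Ω)).toAlgebra
  have hinj : Function.Injective (algebraMap (A ⧸ 𝔭) Ω) := RingHom.kerLift_injective (u : A →+* Ω)
  have : IsDomain (A ⧸ 𝔭) := Ideal.Quotient.isDomain 𝔭
  have : IsDomain (B ⧸ 𝔮) := Ideal.Quotient.isDomain 𝔮
  have : Module.IsTorsionFree (A ⧸ 𝔭) Ω := Module.isTorsionFree_iff_algebraMap_injective.2 hinj
  have : Module.IsTorsionFree (A ⧸ 𝔭) (B ⧸ 𝔮) := inferInstance
  have : Algebra.IsIntegral (A ⧸ 𝔭) (B ⧸ 𝔮) := inferInstance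
  have : Algebra.IsAlgebraic (A ⧸ 𝔭) (B ⧸ 𝔮) := inferInstance
  let w : (B ⧸ 𝔮) →ₐ[A ⧸ 𝔭] Ω := IsAlgClosed.lift
  have hw : ∀ a : A, w (Ideal.Quotient.mk 𝔮 (f a)) = u a := by
    intro a
    have h1 : Ideal.Quotient.mk 𝔮 (f a) = algebraMap (A ⧸ 𝔭) (B ⧸ 𝔮) (Ideal.Quotient.mk 𝔭 a) := rfl
    rw [h1, w.commutes]
    rfl
  refine ⟨{ toRingHom := (w : (B ⧸ 𝔮) →+* Ω).comp (Ideal.Quotient.mk 𝔮), commutes' := ?_ }, ?_⟩
  · intro r
    show w (Ideal.Quotient.mk 𝔮 (algebraMap R B r)) = algebraMap R Ω r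
    rw [← f.commutes r, hw, u.commutes]
  · ext a
    exact hw a


variable {X : RSpace.{u}} {Ω : Type u} [Field Ω] [IsAlgClosed Ω] (ξ : GeomPt X Ω)

/-- the algebra structure of the field of a geometric point over the ring of the point hit -/
@[reducible] def algΩ : Algebra (X.ring ξ.base) Ω := ξ.toField.toAlgebra

attribute [local instance] algΩ

/-- `Ω`-valued points of an algebra at the point hit by a geometric point -/
abbrev Pt (A : Alg X) : Type u := A.carrier ξ.base →ₐ[X.ring ξ.base] Ω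

theorem isFiniteSplit_fib (A : Alg X) (hA : A.IsEtCover) :
    Algebra.IsFiniteSplit Ω (Ω ⊗[X.ring ξ.base] A.carrier ξ.base) := by
  have := (hA.2 ξ.base).1
  have := (hA.2 ξ.base).2
  infer_instance

/-- points are the same as elements of the fibre -/
noncomputable def beta (A : Alg X) (hA : A.IsEtCover) : Pt ξ A ≃ ξ.Fib A :=
  haveI := isFiniteSplit_fib ξ A hA
  (Algebra.TensorProduct.liftEquivRight (X.ring ξ.base) Ω (A.carrier ξ.base) Ω).trans
    (Algebra.IsFiniteSplit.algHomEquivPrimeSpectrum Ω (Ω ⊗[X.ring ξ.base] A.carrier ξ.base))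

theorem beta_asIdeal (A : Alg X) (hA : A.IsEtCover) (u : Pt ξ A) :
    (beta ξ A hA u).asIdeal = RingHom.ker (Algebra.TensorProduct.lift (Algebra.ofId Ω Ω) u
      (fun _ _ => Commute.all _ _)) := rfl

theorem fibMap_beta {A B : Alg X} (hA : A.IsEtCover) (hB : B.IsEtCover) (φ : A ⟶ B)
    (u : Pt ξ B) : ξ.fibMap φ (beta ξ B hB u) = beta ξ A hA (u.comp (φ.app ξ.base)) := by
  apply PrimeSpectrum.ext
  rw [beta_asIdeal]
  show Ideal.comap (Algebra.TensorProduct.map (AlgHom.id Ω Ω) (φ.app ξ.base)).toRingHom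
    (beta ξ B hB u).asIdeal = _
  rw [beta_asIdeal]
  ext t
  simp only [Ideal.mem_comap, RingHom.mem_ker]
  have h : ∀ t, Algebra.TensorProduct.lift (Algebra.ofId Ω Ω) u (fun _ _ => Commute.all _ _)
      ((Algebra.TensorProduct.map (AlgHom.id Ω Ω) (φ.app ξ.base)) t) =
      Algebra.TensorProduct.lift (Algebra.ofId Ω Ω) (u.comp (φ.app ξ.base))
        (fun _ _ => Commute.all _ _) t := by
    intro t
    induction t using TensorProduct.induction_on with
    | zero => simp
    | tmul a b => simp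
    | add x y hx hy => simp only [map_add, hx, hy]
  exact Iff.of_eq (congrArg (· = 0) (h t))

/-- The fibre of the structure algebra is a point. -/
theorem fib_str_subsingleton_nonempty :
    Nonempty (ξ.Fib (Alg.str X)) ∧ Subsingleton (ξ.Fib (Alg.str X)) := by
  have e := beta ξ (Alg.str X) (str_isEtCover X)
  have h1 : Nonempty (Pt ξ (Alg.str X)) := ⟨Algebra.ofId (X.ring ξ.base) Ω⟩
  have h2 : Subsingleton (Pt ξ (Alg.str X)) := by
    refine ⟨fun a b => ?_⟩
    apply AlgHom.ext
    intro r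
    have ha := a.commutes r
    have hb := b.commutes r
    exact ha.trans hb.symm
  exact ⟨h1.map e, e.symm.subsingleton⟩

/-- The fibre of the zero algebra is empty. -/
theorem fib_zero_isEmpty : IsEmpty (ξ.Fib (zeroAlg X)) := by
  have e := beta ξ (zeroAlg X) (zeroAlg_isEtCover X)
  refine ⟨fun t => ?_⟩
  have u : Pt ξ (zeroAlg X) := e.symm t
  have h1 : u 1 = 1 := map_one u
  have h2 : (1 : (zeroAlg X).carrier ξ.base) = 0 := funext fun i => i.elim
  rw [h2, map_zero] at h1
  exact zero_ne_one h1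

theorem fibMap_surjective_of_injective {A B : Alg X} (hA : A.IsEtCover) (hB : B.IsEtCover)
    (φ : A ⟶ B) (hφ : Function.Injective (φ.app ξ.base)) : Function.Surjective (ξ.fibMap φ) := by
  intro a
  have := (hB.2 ξ.base).1
  obtain ⟨v, hv⟩ := exists_algHom_extension (φ.app ξ.base) hφ ((beta ξ A hA).symm a)
  refine ⟨beta ξ B hB v, ?_⟩
  rw [fibMap_beta ξ hA hB, hv, Equiv.apply_symm_apply]

theorem fibMap_injective_of_surjective {A B : Alg X} (hA : A.IsEtCover) (hB : B.IsEtCover)
    (φ : A ⟶ B) (hφ : Function.Surjective (φ.app ξ.base)) : Function.Injective (ξ.fibMap φ) := by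
  intro b b' h
  obtain ⟨v, rfl⟩ := (beta ξ B hB).surjective b
  obtain ⟨v', rfl⟩ := (beta ξ B hB).surjective b'
  rw [fibMap_beta ξ hA hB, fibMap_beta ξ hA hB] at h
  have h1 := (beta ξ A hA).injective h
  congr 1
  apply AlgHom.ext
  intro y
  obtain ⟨a, rfl⟩ := hφ y
  exact congrArg (fun k : Pt ξ A => k a) h1

theorem fib_prod_cases (A B : Alg X) (hA : A.IsEtCover) (hB : B.IsEtCover)
    (t : ξ.Fib (prodAlg A B)) :
    (∃ a, ξ.fibMap (prodFst A B) a = t) ∨ (∃ b, ξ.fibMap (prodSnd A B) b = t) := by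
  have hAB := prodAlg_isEtCover A B hA hB
  obtain ⟨w, rfl⟩ := (beta ξ (prodAlg A B) hAB).surjective t
  let w' : A.carrier ξ.base × B.carrier ξ.base →ₐ[X.ring ξ.base] Ω := w
  have he : w' (1, 0) * w' (1, 0) = w' (1, 0) := by
    rw [← map_mul]
    simp
  have hsum : w' (1, 0) + w' (0, 1) = 1 := by
    rw [← map_add]
    have : (((1 : A.carrier ξ.base), (0 : B.carrier ξ.base)) + (0, 1)) = 1 := by ext <;> simp
    rw [this, map_one]
  have h01 : w' (1, 0) = 0 ∨ w' (1, 0) = 1 := by
    have : w' (1, 0) * (w' (1, 0) - 1) = 0 := by rw [mul_sub, he, mul_one, sub_self]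
    rcases mul_eq_zero.1 this with h | h
    · exact Or.inl h
    · exact Or.inr (sub_eq_zero.1 h)
  rcases h01 with h0 | h1
  · right
    have h1' : w' (0, 1) = 1 := by rw [h0, zero_add] at hsum; exact hsum
    let v : B.carrier ξ.base →ₐ[X.ring ξ.base] Ω :=
      { toFun := fun b => w' (0, b)
        map_one' := h1'
        map_mul' := fun b b' => by rw [← map_mul]; simp
        map_zero' := by
          have : ((0 : A.carrier ξ.base), (0 : B.carrier ξ.base)) = 0 := rfl
          rw [this, map_zero]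
        map_add' := fun b b' => by rw [← map_add]; simp
        commutes' := fun r => by
          have h2 : w' (algebraMap _ _ r) = algebraMap _ _ r := w'.commutes r
          have h3 : ((0 : A.carrier ξ.base), algebraMap (X.ring ξ.base) (B.carrier ξ.base) r) =
              (0, 1) * algebraMap (X.ring ξ.base) (A.carrier ξ.base × B.carrier ξ.base) r := by
            ext <;> simp
          show w' (0, algebraMap _ _ r) = _
          rw [h3, map_mul, h1', one_mul, h2] }
    refine ⟨beta ξ B hB v, ?_⟩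
    rw [fibMap_beta ξ hAB hB]
    congr 1
    apply AlgHom.ext
    rintro ⟨a, b⟩
    show w' (0, b) = w' (a, b)
    have h4 : (a, b) = (a, 0) * (1, 0) + ((0 : A.carrier ξ.base), b) := by ext <;> simp
    rw [h4, map_add, map_mul, h0, mul_zero, zero_add]
  · left
    have h0' : w' (0, 1) = 0 := by rw [h1] at hsum; exact add_eq_left.1 hsum
    let v : A.carrier ξ.base →ₐ[X.ring ξ.base] Ω :=
      { toFun := fun a => w' (a, 0)
        map_one' := h1
        map_mul' := fun a a' => by rw [← map_mul]; simp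
        map_zero' := by
          have : ((0 : A.carrier ξ.base), (0 : B.carrier ξ.base)) = 0 := rfl
          rw [this, map_zero]
        map_add' := fun a a' => by rw [← map_add]; simp
        commutes' := fun r => by
          have h2 : w' (algebraMap _ _ r) = algebraMap _ _ r := w'.commutes r
          have h3 : (algebraMap (X.ring ξ.base) (A.carrier ξ.base) r, (0 : B.carrier ξ.base)) =
              (1, 0) * algebraMap (X.ring ξ.base) (A.carrier ξ.base × B.carrier ξ.base) r := by
            ext <;> simp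
          show w' (algebraMap _ _ r, 0) = _
          rw [h3, map_mul, h1, one_mul, h2] }
    refine ⟨beta ξ A hA v, ?_⟩
    rw [fibMap_beta ξ hAB hA]
    congr 1
    apply AlgHom.ext
    rintro ⟨a, b⟩
    show w' (a, 0) = w' (a, b)
    have h4 : (a, b) = ((a, 0) : A.carrier ξ.base × B.carrier ξ.base) + (0, b) * (0, 1) := by
      ext <;> simp
    rw [h4, map_add, map_mul, h0', mul_zero, add_zero]

theorem fib_prod_disjoint (A B : Alg X) (hA : A.IsEtCover) (hB : B.IsEtCover)
    (a : ξ.Fib A) (b : ξ.Fib B) : ξ.fibMap (prodFst A B) a ≠ ξ.fibMap (prodSnd A B) b := by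
  have hAB := prodAlg_isEtCover A B hA hB
  obtain ⟨u, rfl⟩ := (beta ξ A hA).surjective a
  obtain ⟨v, rfl⟩ := (beta ξ B hB).surjective b
  rw [fibMap_beta ξ hAB hA, fibMap_beta ξ hAB hB]
  intro h
  have h1 := (beta ξ (prodAlg A B) hAB).injective h
  have h2 := congrArg (fun k : Pt ξ (prodAlg A B) => k ((1, 0) : A.carrier ξ.base × B.carrier ξ.base)) h1
  have h3 : u 1 = v 0 := h2
  rw [map_one, map_zero] at h3
  exact one_ne_zero h3

section PushFib

variable {A B C : FEt X} (f : C ⟶ A) (g : C ⟶ B) (hX : X.IsFinSp)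

theorem fib_push_inj (t t' : ξ.Fib (pushFEt f g hX).obj)
    (h1 : ξ.fibMap (pushInl f g hX).hom t = ξ.fibMap (pushInl f g hX).hom t')
    (h2 : ξ.fibMap (pushInr f g hX).hom t = ξ.fibMap (pushInr f g hX).hom t') : t = t' := by
  have hP := (pushFEt f g hX).property
  obtain ⟨w, rfl⟩ := (beta ξ (pushFEt f g hX).obj hP).surjective t
  obtain ⟨w', rfl⟩ := (beta ξ (pushFEt f g hX).obj hP).surjective t'
  rw [fibMap_beta ξ A.property hP, fibMap_beta ξ A.property hP] at h1
  rw [fibMap_beta ξ B.property hP, fibMap_beta ξ B.property hP] at h2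
  have e1 := (beta ξ A.obj A.property).injective h1
  have e2 := (beta ξ B.obj B.property).injective h2
  congr 1
  let μ : (A.obj.carrier ξ.base ⊗[X.ring ξ.base] B.obj.carrier ξ.base) ⧸
      pushIdeal f.hom g.hom ξ.base →+* Ω := w.toRingHom
  let μ' : (A.obj.carrier ξ.base ⊗[X.ring ξ.base] B.obj.carrier ξ.base) ⧸
      pushIdeal f.hom g.hom ξ.base →+* Ω := w'.toRingHom
  let φ : A.obj.carrier ξ.base ⊗[X.ring ξ.base] B.obj.carrier ξ.base →+* Ω :=
    μ.comp (Ideal.Quotient.mk (pushIdeal f.hom g.hom ξ.base))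
  let φ' : A.obj.carrier ξ.base ⊗[X.ring ξ.base] B.obj.carrier ξ.base →+* Ω :=
    μ'.comp (Ideal.Quotient.mk (pushIdeal f.hom g.hom ξ.base))
  have ha : ∀ a, φ (a ⊗ₜ[X.ring ξ.base] (1 : B.obj.carrier ξ.base)) =
      φ' (a ⊗ₜ[X.ring ξ.base] (1 : B.obj.carrier ξ.base)) := fun a =>
    congrArg (fun k : Pt ξ A.obj => k a) e1
  have hb : ∀ b, φ ((1 : A.obj.carrier ξ.base) ⊗ₜ[X.ring ξ.base] b) =
      φ' ((1 : A.obj.carrier ξ.base) ⊗ₜ[X.ring ξ.base] b) := fun b =>
    congrArg (fun k : Pt ξ B.obj => k b) e2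
  have hφ : ∀ z, φ z = φ' z := by
    intro z
    induction z using TensorProduct.induction_on with
    | zero => rw [map_zero, map_zero]
    | tmul a b =>
      have h3 : a ⊗ₜ[X.ring ξ.base] b = (a ⊗ₜ[X.ring ξ.base] (1 : B.obj.carrier ξ.base)) *
          ((1 : A.obj.carrier ξ.base) ⊗ₜ[X.ring ξ.base] b) := by
        rw [Algebra.TensorProduct.tmul_mul_tmul, mul_one, one_mul]
      rw [h3, map_mul, map_mul, ha, hb]
    | add x y hx hy => rw [map_add, map_add, hx, hy]
  apply AlgHom.ext
  intro z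
  obtain ⟨z, rfl⟩ := Ideal.Quotient.mk_surjective z
  exact hφ z

theorem fib_push_surj (a : ξ.Fib A.obj) (b : ξ.Fib B.obj)
    (h : ξ.fibMap f.hom a = ξ.fibMap g.hom b) :
    ∃ t : ξ.Fib (pushFEt f g hX).obj, ξ.fibMap (pushInl f g hX).hom t = a ∧
      ξ.fibMap (pushInr f g hX).hom t = b := by
  have hP := (pushFEt f g hX).property
  obtain ⟨u, rfl⟩ := (beta ξ A.obj A.property).surjective a
  obtain ⟨v, rfl⟩ := (beta ξ B.obj B.property).surjective b
  rw [fibMap_beta ξ C.property A.property, fibMap_beta ξ C.property B.property] at h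
  have e := (beta ξ C.obj C.property).injective h
  have hkill : ∀ z ∈ pushIdeal f.hom g.hom ξ.base,
      Algebra.TensorProduct.productMap u v z = 0 := by
    intro z hz
    unfold pushIdeal at hz
    refine Submodule.span_induction ?_ ?_ ?_ ?_ hz
    · rintro _ ⟨c, rfl⟩
      show Algebra.TensorProduct.productMap u v
        ((1 : A.obj.carrier ξ.base) ⊗ₜ[X.ring ξ.base] g.hom.app ξ.base c -
          f.hom.app ξ.base c ⊗ₜ[X.ring ξ.base] (1 : B.obj.carrier ξ.base)) = 0
      rw [map_sub, Algebra.TensorProduct.productMap_apply_tmul,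
        Algebra.TensorProduct.productMap_apply_tmul, map_one, map_one, one_mul, mul_one, sub_eq_zero]
      exact (congrArg (fun k : Pt ξ C.obj => k c) e).symm
    · exact map_zero _
    · intro x y _ _ hx hy
      rw [map_add, hx, hy, add_zero]
    · intro s y _ hy
      rw [smul_eq_mul, map_mul, hy, mul_zero]
  let w : Pt ξ (pushFEt f g hX).obj :=
    Ideal.Quotient.liftₐ (pushIdeal f.hom g.hom ξ.base) (Algebra.TensorProduct.productMap u v) hkill
  refine ⟨beta ξ (pushFEt f g hX).obj hP w, ?_, ?_⟩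
  · rw [fibMap_beta ξ A.property hP]
    congr 1
    apply AlgHom.ext
    intro a
    show Algebra.TensorProduct.productMap u v (a ⊗ₜ[X.ring ξ.base] (1 : B.obj.carrier ξ.base)) = u a
    rw [Algebra.TensorProduct.productMap_apply_tmul, map_one, mul_one]
  · rw [fibMap_beta ξ B.property hP]
    congr 1
    apply AlgHom.ext
    intro b
    show Algebra.TensorProduct.productMap u v ((1 : A.obj.carrier ξ.base) ⊗ₜ[X.ring ξ.base] b) = v b
    rw [Algebra.TensorProduct.productMap_apply_tmul, map_one, one_mul]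

end PushFib

end Groth.Agent.Lib.H94FEt
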