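import Mathlib.RingTheory.AdicCompletion.Algebra
import Mathlib.RingTheory.AdicCompletion.RingHom
import Mathlib.RingTheory.Ideal.Quotient.Operations

/-!
# Adic completions only depend on the quotients by powers (helper94)

`IsLevelwiseBij.adicCompletionEquiv`: an `A`-algebra map `φ : R → S` and ideals `𝔞 ⊆ R`, `𝔟 ⊆ S`
such that `φ` induces bijections `R/𝔞ⁿ → S/𝔟ⁿ` for all `n` (stated elementwise) induces an
isomorphism of `A`-algebras between the `𝔞`-adic completion of `R` and the `𝔟`-adic completion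
of `S`.
-/

set_option autoImplicit false

namespace Groth.Agent.Lib.H94Hens1

variable {A : Type*} [CommRing A] {R S : Type*} [CommRing R] [CommRing S] [Algebra A R]
  [Algebra A S]

section

variable (φ : R →ₐ[A] S) (𝔞 : Ideal R) (𝔟 : Ideal S)

/-- The hypotheses: `φ` is bijective modulo `n`-th powers for every `n`. -/
structure IsLevelwiseBij : Prop where
  le : ∀ n : ℕ, 𝔞 ^ n ≤ (𝔟 ^ n).comap φ
  surj : ∀ (n : ℕ) (s : S), ∃ r : R, s - φ r ∈ 𝔟 ^ n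
  inj : ∀ (n : ℕ) (r : R), φ r ∈ 𝔟 ^ n → r ∈ 𝔞 ^ n

variable {φ 𝔞 𝔟}

/-- The induced maps on the levels. -/
noncomputable def IsLevelwiseBij.levelMap (h : IsLevelwiseBij φ 𝔞 𝔟) (n : ℕ) :
    R ⧸ 𝔞 ^ n →ₐ[A] S ⧸ 𝔟 ^ n :=
  Ideal.quotientMapₐ (𝔟 ^ n) φ (h.le n)

theorem IsLevelwiseBij.levelMap_mk (h : IsLevelwiseBij φ 𝔞 𝔟) (n : ℕ) (r : R) :
    h.levelMap n (Ideal.Quotient.mk (𝔞 ^ n) r) = Ideal.Quotient.mk (𝔟 ^ n) (φ r) := rfl

theorem IsLevelwiseBij.levelMap_bijective (h : IsLevelwiseBij φ 𝔞 𝔟) (n : ℕ) :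
    Function.Bijective (h.levelMap n) := by
  constructor
  · rw [injective_iff_map_eq_zero]
    intro x hx
    obtain ⟨r, rfl⟩ := Ideal.Quotient.mk_surjective x
    rw [h.levelMap_mk, Ideal.Quotient.eq_zero_iff_mem] at hx
    exact Ideal.Quotient.eq_zero_iff_mem.2 (h.inj n r hx)
  · intro y
    obtain ⟨s, rfl⟩ := Ideal.Quotient.mk_surjective y
    obtain ⟨r, hr⟩ := h.surj n s
    refine ⟨Ideal.Quotient.mk _ r, ?_⟩
    rw [h.levelMap_mk, eq_comm]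
    exact Ideal.Quotient.eq.2 hr

/-- The levelwise isomorphisms. -/
noncomputable def IsLevelwiseBij.levelEquiv (h : IsLevelwiseBij φ 𝔞 𝔟) (n : ℕ) :
    (R ⧸ 𝔞 ^ n) ≃ₐ[A] S ⧸ 𝔟 ^ n :=
  AlgEquiv.ofBijective (h.levelMap n) (h.levelMap_bijective n)

theorem IsLevelwiseBij.levelEquiv_apply (h : IsLevelwiseBij φ 𝔞 𝔟) (n : ℕ) (x : R ⧸ 𝔞 ^ n) :
    h.levelEquiv n x = h.levelMap n x := rfl

theorem IsLevelwiseBij.levelMap_factor (h : IsLevelwiseBij φ 𝔞 𝔟) {m n : ℕ} (hmn : m ≤ n)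
    (x : R ⧸ 𝔞 ^ n) :
    h.levelMap m (Ideal.Quotient.factorₐ A (Ideal.pow_le_pow_right hmn) x) =
      Ideal.Quotient.factorₐ A (Ideal.pow_le_pow_right hmn) (h.levelMap n x) := by
  obtain ⟨r, rfl⟩ := Ideal.Quotient.mk_surjective x
  rfl

theorem IsLevelwiseBij.levelEquiv_symm_factor (h : IsLevelwiseBij φ 𝔞 𝔟) {m n : ℕ} (hmn : m ≤ n)
    (y : S ⧸ 𝔟 ^ n) :
    (h.levelEquiv m).symm (Ideal.Quotient.factorₐ A (Ideal.pow_le_pow_right hmn) y) =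
      Ideal.Quotient.factorₐ A (Ideal.pow_le_pow_right hmn) ((h.levelEquiv n).symm y) := by
  apply (h.levelEquiv m).injective
  rw [AlgEquiv.apply_symm_apply, h.levelEquiv_apply, h.levelMap_factor hmn,
    ← h.levelEquiv_apply n, AlgEquiv.apply_symm_apply]

end

section Eval

variable (A) (𝔞 : Ideal R)

/-- `AdicCompletion.evalₐ` as a map of `A`-algebras. -/
noncomputable def evalA (n : ℕ) : AdicCompletion 𝔞 R →ₐ[A] R ⧸ 𝔞 ^ n :=
  { (AdicCompletion.evalₐ 𝔞 n).toRingHom with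
    commutes' := fun a => by
      change AdicCompletion.evalₐ 𝔞 n (AdicCompletion.of 𝔞 R (algebraMap A R a)) = _
      rw [AdicCompletion.evalₐ_of]
      rfl }

theorem evalA_apply (n : ℕ) (x : AdicCompletion 𝔞 R) :
    evalA A 𝔞 n x = AdicCompletion.evalₐ 𝔞 n x := rfl

theorem factorₐ_evalA {m n : ℕ} (hmn : m ≤ n) (x : AdicCompletion 𝔞 R) :
    Ideal.Quotient.factorₐ A (Ideal.pow_le_pow_right hmn) (evalA A 𝔞 n x) =
      evalA A 𝔞 m x := by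
  induction x using AdicCompletion.induction_on with
  | _ a =>
    rw [evalA_apply, evalA_apply, AdicCompletion.evalₐ_mk, AdicCompletion.evalₐ_mk]
    exact AdicCompletion.Ideal.mk_eq_mk 𝔞 hmn a

end Eval

section Equiv

variable {φ : R →ₐ[A] S} {𝔞 : Ideal R} {𝔟 : Ideal S}

theorem IsLevelwiseBij.fwd_compat (h : IsLevelwiseBij φ 𝔞 𝔟) {m n : ℕ} (hmn : m ≤ n) :
    (Ideal.Quotient.factorₐ A (Ideal.pow_le_pow_right hmn)).comp
      ((h.levelMap n).comp (evalA A 𝔞 n)) = (h.levelMap m).comp (evalA A 𝔞 m) := by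
  refine AlgHom.ext fun x => ?_
  change Ideal.Quotient.factorₐ A (Ideal.pow_le_pow_right hmn)
    (h.levelMap n (evalA A 𝔞 n x)) = h.levelMap m (evalA A 𝔞 m x)
  rw [← h.levelMap_factor hmn, factorₐ_evalA A 𝔞 hmn]

/-- The forward map on completions. -/
noncomputable def IsLevelwiseBij.fwd (h : IsLevelwiseBij φ 𝔞 𝔟) :
    AdicCompletion 𝔞 R →ₐ[A] AdicCompletion 𝔟 S :=
  AdicCompletion.liftAlgHom 𝔟 (fun n => (h.levelMap n).comp (evalA A 𝔞 n))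
    (fun {_ _} hmn => h.fwd_compat hmn)

theorem IsLevelwiseBij.evalₐ_fwd (h : IsLevelwiseBij φ 𝔞 𝔟) (n : ℕ) (x : AdicCompletion 𝔞 R) :
    AdicCompletion.evalₐ 𝔟 n (h.fwd x) = h.levelMap n (AdicCompletion.evalₐ 𝔞 n x) :=
  AdicCompletion.evalₐ_liftAlgHom 𝔟 (fun n => (h.levelMap n).comp (evalA A 𝔞 n))
    (fun {_ _} hmn => h.fwd_compat hmn) n x

theorem IsLevelwiseBij.bwd_compat (h : IsLevelwiseBij φ 𝔞 𝔟) {m n : ℕ} (hmn : m ≤ n) :
    (Ideal.Quotient.factorₐ A (Ideal.pow_le_pow_right hmn)).comp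
      (((h.levelEquiv n).symm : (S ⧸ 𝔟 ^ n) →ₐ[A] R ⧸ 𝔞 ^ n).comp (evalA A 𝔟 n)) =
      ((h.levelEquiv m).symm : (S ⧸ 𝔟 ^ m) →ₐ[A] R ⧸ 𝔞 ^ m).comp (evalA A 𝔟 m) := by
  refine AlgHom.ext fun x => ?_
  change Ideal.Quotient.factorₐ A (Ideal.pow_le_pow_right hmn)
    ((h.levelEquiv n).symm (evalA A 𝔟 n x)) = (h.levelEquiv m).symm (evalA A 𝔟 m x)
  rw [← h.levelEquiv_symm_factor hmn, factorₐ_evalA A 𝔟 hmn]

/-- The backward map on completions. -/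
noncomputable def IsLevelwiseBij.bwd (h : IsLevelwiseBij φ 𝔞 𝔟) :
    AdicCompletion 𝔟 S →ₐ[A] AdicCompletion 𝔞 R :=
  AdicCompletion.liftAlgHom 𝔞
    (fun n => ((h.levelEquiv n).symm : (S ⧸ 𝔟 ^ n) →ₐ[A] R ⧸ 𝔞 ^ n).comp (evalA A 𝔟 n))
    (fun {_ _} hmn => h.bwd_compat hmn)

theorem IsLevelwiseBij.evalₐ_bwd (h : IsLevelwiseBij φ 𝔞 𝔟) (n : ℕ) (y : AdicCompletion 𝔟 S) :
    AdicCompletion.evalₐ 𝔞 n (h.bwd y) = (h.levelEquiv n).symm (AdicCompletion.evalₐ 𝔟 n y) :=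
  AdicCompletion.evalₐ_liftAlgHom 𝔞
    (fun n => ((h.levelEquiv n).symm : (S ⧸ 𝔟 ^ n) →ₐ[A] R ⧸ 𝔞 ^ n).comp (evalA A 𝔟 n))
    (fun {_ _} hmn => h.bwd_compat hmn) n y

/-- The isomorphism of completions induced by a levelwise bijective map. -/
noncomputable def IsLevelwiseBij.adicCompletionEquiv (h : IsLevelwiseBij φ 𝔞 𝔟) :
    AdicCompletion 𝔞 R ≃ₐ[A] AdicCompletion 𝔟 S :=
  AlgEquiv.ofAlgHom h.fwd h.bwd
    (by
      refine AlgHom.ext fun y => ?_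
      refine AdicCompletion.ext_evalₐ fun n => ?_
      change AdicCompletion.evalₐ 𝔟 n (h.fwd (h.bwd y)) = AdicCompletion.evalₐ 𝔟 n y
      rw [h.evalₐ_fwd, h.evalₐ_bwd, ← h.levelEquiv_apply, AlgEquiv.apply_symm_apply])
    (by
      refine AlgHom.ext fun x => ?_
      refine AdicCompletion.ext_evalₐ fun n => ?_
      change AdicCompletion.evalₐ 𝔞 n (h.bwd (h.fwd x)) = AdicCompletion.evalₐ 𝔞 n x
      rw [h.evalₐ_bwd, h.evalₐ_fwd, ← h.levelEquiv_apply, AlgEquiv.symm_apply_apply])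

theorem IsLevelwiseBij.evalₐ_adicCompletionEquiv (h : IsLevelwiseBij φ 𝔞 𝔟) (n : ℕ)
    (x : AdicCompletion 𝔞 R) :
    AdicCompletion.evalₐ 𝔟 n (h.adicCompletionEquiv x) =
      h.levelMap n (AdicCompletion.evalₐ 𝔞 n x) :=
  h.evalₐ_fwd n x

end Equiv

end Groth.Agent.Lib.H94Hens1
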