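import Groth.Agent.Lib.HenselEtaleLift
import Groth.Agent.Lib.PairHenselizationProps
import Groth.Prelude.Def_Hens2
import Mathlib.RingTheory.TensorProduct.Quotient
import Mathlib.RingTheory.Smooth.Flat

/-!
# Étale neighbourhoods and henselizations of pairs

* `existsUnique_algHom_of_etale_nbhd`: an étale neighbourhood `S` of the pair `(R, I)`
  (`R/I ≅ S/IS`) admits exactly one `R`-algebra map to any `R`-algebra `C` henselian along an ideal
  `J ⊇ IC`.
* `isPairHenselization_of_etale_nbhd`: a henselization of `(S, IS)` is a henselization of `(R, I)`.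
-/

set_option autoImplicit false
universe u

namespace Groth.Agent.Lib.PairHenselizationEtale

open Groth.Agent.Lib.HenselEtaleLift

variable {R S : Type u} [CommRing R] [CommRing S] [Algebra R S]

/-- If `R/I → S/IS` is surjective, any `R`-algebra map `θ : S → C` with `IC ⊆ J` is determined
modulo `J`. -/
theorem mk_algHom_eq_of_surjective (I : Ideal R)
    (hq : Function.Surjective
      (Ideal.quotientMap (I.map (algebraMap R S)) (algebraMap R S) Ideal.le_comap_map))
    {C : Type u} [CommRing C] [Algebra R C] (J : Ideal C) (hIJ : I.map (algebraMap R C) ≤ J)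
    (θ θ' : S →ₐ[R] C) (s : S) : θ s - θ' s ∈ J := by
  obtain ⟨y, hy⟩ := hq (Ideal.Quotient.mk _ s)
  obtain ⟨r, rfl⟩ := Ideal.Quotient.mk_surjective y
  rw [Ideal.quotientMap_mk] at hy
  have hmem : s - algebraMap R S r ∈ I.map (algebraMap R S) := Ideal.Quotient.eq.1 hy.symm
  have key : ∀ ψ : S →ₐ[R] C, ψ s - algebraMap R C r ∈ J := by
    intro ψ
    have h1 : ψ (s - algebraMap R S r) ∈ (I.map (algebraMap R S)).map (ψ : S →+* C) :=
      Ideal.mem_map_of_mem _ hmem
    rw [Ideal.map_map] at h1
    have h2 : ((ψ : S →+* C).comp (algebraMap R S)) = algebraMap R C := ψ.comp_algebraMap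
    rw [h2, map_sub, ψ.commutes] at h1
    exact hIJ h1
  have := J.sub_mem (key θ) (key θ')
  simpa using this

/-- An étale neighbourhood `S` of `(R, I)` admits a unique `R`-algebra map to any `R`-algebra `C`
which is henselian along an ideal `J` containing `IC`. -/
theorem existsUnique_algHom_of_etale_nbhd [Algebra.Etale R S] (I : Ideal R)
    (hq : Function.Bijective
      (Ideal.quotientMap (I.map (algebraMap R S)) (algebraMap R S) Ideal.le_comap_map))
    {C : Type u} [CommRing C] [Algebra R C] (J : Ideal C) [HenselianRing C J]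
    (hIJ : I.map (algebraMap R C) ≤ J) : ∃! θ : S →ₐ[R] C, True := by
  set q := Ideal.quotientMap (I.map (algebraMap R S)) (algebraMap R S) Ideal.le_comap_map with hqdef
  let e : R ⧸ I ≃+* S ⧸ I.map (algebraMap R S) := RingEquiv.ofBijective q hq
  have hle : I ≤ J.comap (algebraMap R C) := Ideal.map_le_iff_le_comap.1 hIJ
  let fbar : R ⧸ I →+* C ⧸ J := Ideal.quotientMap J (algebraMap R C) hle
  let σ₀ : S →ₐ[R] C ⧸ J :=
    { toRingHom := fbar.comp (e.symm.toRingHom.comp (Ideal.Quotient.mk _))
      commutes' := fun r => by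
        change fbar (e.symm (Ideal.Quotient.mk (I.map (algebraMap R S)) (algebraMap R S r))) = _
        have h1 : e (Ideal.Quotient.mk I r) =
            Ideal.Quotient.mk (I.map (algebraMap R S)) (algebraMap R S r) :=
          Ideal.quotientMap_mk (J := I) (I := I.map (algebraMap R S)) (f := algebraMap R S)
            (H := Ideal.le_comap_map)
        rw [← h1, RingEquiv.symm_apply_apply]
        exact Ideal.quotientMap_mk (J := I) (I := J) (f := algebraMap R C) (H := hle) }
  obtain ⟨σ, -⟩ := exists_lift_of_algebra (A := R) (S := S) (C := C) J σ₀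
  refine ⟨σ, trivial, fun θ _ => ?_⟩
  exact algHom_ext_of_sub_mem J HenselianRing.jac θ σ
    (mk_algHom_eq_of_surjective I hq.2 J hIJ θ σ)

/-- Let `R → S` be étale with `R/I → S/IS` bijective. Then a henselization of `(S, IS)` is a
henselization of `(R, I)`. -/
theorem isPairHenselization_of_etale_nbhd [Algebra.Etale R S] (I : Ideal R)
    (hq : Function.Bijective
      (Ideal.quotientMap (I.map (algebraMap R S)) (algebraMap R S) Ideal.le_comap_map))
    (H : Type u) [CommRing H] [Algebra S H] [Algebra R H] [IsScalarTower R S H]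
    (hH : Hens2.IsPairHenselization S (I.map (algebraMap R S)) H) :
    Hens2.IsPairHenselization R I H := by
  have hideal : (I.map (algebraMap R S)).map (algebraMap S H) = I.map (algebraMap R H) := by
    rw [Ideal.map_map, ← IsScalarTower.algebraMap_eq]
  refine ⟨hideal ▸ hH.1, ?_⟩
  intro C _ J f hC hIJ
  let _ : Algebra R C := f.toAlgebra
  have hIJ' : I.map (algebraMap R C) ≤ J := hIJ
  obtain ⟨σ, -, hσuniq⟩ := existsUnique_algHom_of_etale_nbhd (S := S) I hq J hIJ'
  have hσJ : (I.map (algebraMap R S)).map (σ : S →+* C) ≤ J := by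
    rw [Ideal.map_map]
    have h2 : ((σ : S →+* C).comp (algebraMap R S)) = algebraMap R C := σ.comp_algebraMap
    rw [h2]
    exact hIJ'
  obtain ⟨g, hg, hguniq⟩ := hH.2 C J (σ : S →+* C) hC hσJ
  refine ⟨g, ?_, ?_⟩
  · change g.comp (algebraMap R H) = f
    rw [IsScalarTower.algebraMap_eq R S H, ← RingHom.comp_assoc, hg]
    exact σ.comp_algebraMap
  · intro g' hg'
    apply hguniq
    let σ' : S →ₐ[R] C :=
      { toRingHom := g'.comp (algebraMap S H)
        commutes' := fun r => by
          change g' (algebraMap S H (algebraMap R S r)) = f r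
          rw [← IsScalarTower.algebraMap_apply R S H]
          exact congrArg (fun k : R →+* C => k r) hg' }
    have := hσuniq σ' trivial
    change g'.comp (algebraMap S H) = (σ : S →+* C)
    rw [← this]
    rfl

section truncations

open Groth.Agent.Lib.PairHenselization

variable {A : Type u} [CommRing A] (I : Ideal A)
variable {B : Type u} [CommRing B] [Algebra A B]

/-- Elementwise surjectivity of `A/I^n → B/I^n B` for a henselization `B` of `(A, I)`. -/
theorem exists_sub_mem (hB : Hens2.IsPairHenselization A I B) (n : ℕ) (b : B) :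
    ∃ a : A, b - algebraMap A B a ∈ (I ^ n).map (algebraMap A B) := by
  obtain ⟨y, hy⟩ := (quotientMap_pow_bijective hB n).2 (Ideal.Quotient.mk _ b)
  obtain ⟨a, rfl⟩ := Ideal.Quotient.mk_surjective y
  rw [Ideal.quotientMap_mk] at hy
  exact ⟨a, Ideal.Quotient.eq.1 hy.symm⟩

/-- Elementwise injectivity of `A/I^n → B/I^n B` for a henselization `B` of `(A, I)`. -/
theorem mem_of_algebraMap_mem (hB : Hens2.IsPairHenselization A I B) (n : ℕ) (a : A)
    (h : algebraMap A B a ∈ (I ^ n).map (algebraMap A B)) : a ∈ I ^ n := by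
  have h1 : Ideal.quotientMap ((I ^ n).map (algebraMap A B)) (algebraMap A B) Ideal.le_comap_map
      (Ideal.Quotient.mk (I ^ n) a) = 0 := by
    rw [Ideal.quotientMap_mk]
    exact Ideal.Quotient.eq_zero_iff_mem.2 h
  have h2 := (quotientMap_pow_bijective hB n).1 (h1.trans (map_zero _).symm)
  exact Ideal.Quotient.eq_zero_iff_mem.1 h2

variable {R : Type u} [CommRing R] [Algebra A R] [Algebra R B] [IsScalarTower A R B]

theorem map_map_pow_eq (r : ℕ) :
    ((I.map (algebraMap A R)) ^ r).map (algebraMap R B) = (I ^ r).map (algebraMap A B) := by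
  rw [← Ideal.map_pow, Ideal.map_map, ← IsScalarTower.algebraMap_eq]

/-- For a henselization `B` of `(R, IR)`, `R` an `A`-algebra, the truncation `B/I^r B` is the base
change `(A/I^r) ⊗_A R`. -/
noncomputable def truncEquiv (hB : Hens2.IsPairHenselization R (I.map (algebraMap A R)) B)
    (r : ℕ) :
    TensorProduct A (A ⧸ I ^ r) R ≃ₐ[A ⧸ I ^ r] B ⧸ (I ^ r).map (algebraMap A B) := by
  have hle : (I ^ r).map (algebraMap A R) ≤
      ((I ^ r).map (algebraMap A B)).comap (algebraMap R B) := by
    rw [← Ideal.map_le_iff_le_comap, Ideal.map_map, ← IsScalarTower.algebraMap_eq]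
  let φ : (R ⧸ (I ^ r).map (algebraMap A R)) →ₐ[A ⧸ I ^ r] (B ⧸ (I ^ r).map (algebraMap A B)) :=
    { toRingHom := Ideal.quotientMap _ (algebraMap R B) hle
      commutes' := fun x => by
        obtain ⟨a, rfl⟩ := Ideal.Quotient.mk_surjective x
        change Ideal.quotientMap _ (algebraMap R B) hle
          (algebraMap (A ⧸ I ^ r) (R ⧸ (I ^ r).map (algebraMap A R)) (Ideal.Quotient.mk _ a)) = _
        rw [Ideal.Quotient.algebraMap_quotient_map_quotient,
          Ideal.Quotient.algebraMap_quotient_map_quotient, Ideal.quotientMap_mk,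
          ← IsScalarTower.algebraMap_apply] }
  have hbij : Function.Bijective φ := by
    constructor
    · rw [injective_iff_map_eq_zero]
      intro x hx
      obtain ⟨x, rfl⟩ := Ideal.Quotient.mk_surjective x
      change Ideal.quotientMap _ (algebraMap R B) hle (Ideal.Quotient.mk _ x) = 0 at hx
      rw [Ideal.quotientMap_mk, Ideal.Quotient.eq_zero_iff_mem, ← map_map_pow_eq (R := R)] at hx
      have := mem_of_algebraMap_mem (I.map (algebraMap A R)) hB r x hx
      rw [← Ideal.map_pow] at this
      exact Ideal.Quotient.eq_zero_iff_mem.2 this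
    · intro y
      obtain ⟨b, rfl⟩ := Ideal.Quotient.mk_surjective y
      obtain ⟨x, hx⟩ := exists_sub_mem (I.map (algebraMap A R)) hB r b
      rw [map_map_pow_eq (R := R)] at hx
      refine ⟨Ideal.Quotient.mk _ x, ?_⟩
      change Ideal.quotientMap _ (algebraMap R B) hle (Ideal.Quotient.mk _ x) = _
      rw [Ideal.quotientMap_mk]
      exact (Ideal.Quotient.eq.2 hx).symm
  exact (Algebra.TensorProduct.quotIdealMapEquivQuotTensor R (I ^ r)).symm.trans
    (AlgEquiv.ofBijective φ hbij)

/-- The henselization of `(R, IR)` is flat over `A` if `R` is. -/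
theorem flat_of_flat (hB : Hens2.IsPairHenselization R (I.map (algebraMap A R)) B)
    [Module.Flat A R] : Module.Flat A B := by
  have : Module.Flat R B := flat_of_isPairHenselization hB
  exact Module.Flat.trans A R B

end truncations

end Groth.Agent.Lib.PairHenselizationEtale
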