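import Groth.Agent.Lib.PairStep
import Groth.Prelude.Def_Hens2
import Mathlib.Algebra.Colimit.Ring
import Mathlib.Algebra.Polynomial.Lifts

/-!
# Construction of the henselization of a pair (helper22)

`Hzn2 A I` is the direct limit of the tower `A → PStep A I → PStep (PStep A I) (I · PStep A I) → ⋯`.
Main results: `(Hzn2 A I, I · Hzn2 A I)` is a henselian pair, `Hzn2 A I` is flat over `A`, and
`isPairHenselization : Hens2.IsPairHenselization A I (Hzn2 A I)`.
-/

namespace Groth.Agent.Lib.PairHenselization

open Polynomial Groth.Agent.Lib Groth.Agent.Lib.PairStep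

universe u

/-- Bundled pairs (ring, ideal) in a fixed universe. -/
structure PairRing : Type (u + 1) where
  /-- underlying type -/
  carrier : Type u
  [commRing : CommRing carrier]
  /-- the ideal -/
  ideal : Ideal carrier

attribute [instance] PairRing.commRing

/-- One step on bundled pairs. -/
noncomputable def PairRing.step (P : PairRing.{u}) : PairRing.{u} :=
  ⟨PStep P.carrier P.ideal, P.ideal.map (algebraMap P.carrier (PStep P.carrier P.ideal))⟩

variable (A : Type u) [CommRing A] (I : Ideal A)

/-- The tower of iterated steps. -/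
noncomputable def tower : ℕ → PairRing.{u}
  | 0 => ⟨A, I⟩
  | n + 1 => (tower n).step

/-- The `n`-th ring of the tower. -/
abbrev G (n : ℕ) : Type u := (tower A I n).carrier

/-- The `n`-th ideal of the tower. -/
noncomputable abbrev GI (n : ℕ) : Ideal (G A I n) := (tower A I n).ideal

/-- The structure map from one stage to the next. -/
noncomputable def next (n : ℕ) : G A I n →+* G A I (n + 1) :=
  algebraMap (G A I n) (PStep (G A I n) (GI A I n))

theorem GI_succ (n : ℕ) : GI A I (n + 1) = (GI A I n).map (next A I n) := rfl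

/-- Transition maps of the tower. -/
noncomputable def trans (m n : ℕ) (h : m ≤ n) : G A I m →+* G A I n :=
  Nat.leRecOn h (fun {k} g => (next A I k).comp g) (RingHom.id _)

theorem trans_self (n : ℕ) : trans A I n n le_rfl = RingHom.id _ :=
  Nat.leRecOn_self _

theorem trans_succ (m n : ℕ) (h : m ≤ n) :
    trans A I m (n + 1) (Nat.le_succ_of_le h) = (next A I n).comp (trans A I m n h) :=
  Nat.leRecOn_succ h _

theorem trans_trans (m n k : ℕ) (h₁ : m ≤ n) (h₂ : n ≤ k) (x : G A I m) :
    trans A I n k h₂ (trans A I m n h₁ x) = trans A I m k (h₁.trans h₂) x := by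
  induction k, h₂ using Nat.le_induction with
  | base => rw [trans_self]; rfl
  | succ k h₂ ih =>
    rw [trans_succ A I n k h₂, trans_succ A I m k (h₁.trans h₂), RingHom.comp_apply, ih]
    rfl

theorem trans_comp_trans (m n k : ℕ) (h₁ : m ≤ n) (h₂ : n ≤ k) :
    (trans A I n k h₂).comp (trans A I m n h₁) = trans A I m k (h₁.trans h₂) :=
  RingHom.ext (trans_trans A I m n k h₁ h₂)

theorem GI_map_trans (m n : ℕ) (h : m ≤ n) : (GI A I m).map (trans A I m n h) = GI A I n := by
  induction n, h using Nat.le_induction with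
  | base => rw [trans_self, Ideal.map_id]
  | succ n h ih =>
    rw [trans_succ A I m n h, ← Ideal.map_map, ih, GI_succ]

instance directedSystem : DirectedSystem (G A I) fun i j h => trans A I i j h where
  map_self i x := by rw [trans_self]; rfl
  map_map k j i hij hjk x := trans_trans A I i j k hij hjk x

/-- The henselization of the pair `(A, I)` as a type. -/
def Hzn2 : Type u := Ring.DirectLimit (G A I) (fun i j h => trans A I i j h)

noncomputable instance : CommRing (Hzn2 A I) :=
  inferInstanceAs (CommRing (Ring.DirectLimit (G A I) (fun i j h => trans A I i j h)))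

/-- The canonical map from a stage of the tower. -/
noncomputable def ofStage (n : ℕ) : G A I n →+* Hzn2 A I :=
  Ring.DirectLimit.of (G A I) (fun i j h => trans A I i j h) n

theorem ofStage_trans (i j : ℕ) (h : i ≤ j) (x : G A I i) :
    ofStage A I j (trans A I i j h x) = ofStage A I i x :=
  Ring.DirectLimit.of_f h x

theorem ofStage_comp_trans (i k : ℕ) (h : i ≤ k) :
    (ofStage A I k).comp (trans A I i k h) = ofStage A I i :=
  RingHom.ext (ofStage_trans A I i k h)

theorem ofStage_next (n : ℕ) (x : G A I n) :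
    ofStage A I (n + 1) (next A I n x) = ofStage A I n x := by
  have h := ofStage_trans A I n (n + 1) (Nat.le_succ n) x
  rw [trans_succ A I n n le_rfl, trans_self] at h
  exact h

theorem ofStage_comp_next (k : ℕ) : (ofStage A I (k + 1)).comp (next A I k) = ofStage A I k :=
  RingHom.ext (ofStage_next A I k)

theorem exists_ofStage (z : Hzn2 A I) : ∃ n x, ofStage A I n x = z :=
  Ring.DirectLimit.exists_of z

theorem ofStage_eq_zero {i : ℕ} {x : G A I i} (h : ofStage A I i x = 0) :
    ∃ (j : ℕ) (hij : i ≤ j), trans A I i j hij x = 0 :=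
  Ring.DirectLimit.of.zero_exact h

noncomputable instance : Algebra A (Hzn2 A I) := (ofStage A I 0).toAlgebra

theorem algebraMap_eq : algebraMap A (Hzn2 A I) = ofStage A I 0 := rfl

/-- The ideal `I · Hzn2 A I`. -/
noncomputable abbrev IH : Ideal (Hzn2 A I) := I.map (algebraMap A (Hzn2 A I))

theorem GI_map_ofStage (n : ℕ) : (GI A I n).map (ofStage A I n) = IH A I := by
  rw [← GI_map_trans A I 0 n (Nat.zero_le n), Ideal.map_map, ofStage_comp_trans]
  rfl

/-- Elements of `I · Hzn2 A I` come from the ideal of some stage. -/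
theorem exists_mem_GI {y : Hzn2 A I} (hy : y ∈ IH A I) :
    ∃ (n : ℕ) (x : G A I n), x ∈ GI A I n ∧ ofStage A I n x = y := by
  induction hy using Submodule.span_induction with
  | mem y hy =>
    obtain ⟨a, ha, rfl⟩ := hy
    exact ⟨0, a, ha, rfl⟩
  | zero => exact ⟨0, 0, Ideal.zero_mem _, map_zero _⟩
  | add x y _ _ hx hy =>
    obtain ⟨i, a, ha, rfl⟩ := hx
    obtain ⟨j, b, hb, rfl⟩ := hy
    let k := max i j
    have hik : i ≤ k := le_max_left i j
    have hjk : j ≤ k := le_max_right i j
    refine ⟨k, trans A I i k hik a + trans A I j k hjk b, Ideal.add_mem _ ?_ ?_, ?_⟩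
    · rw [← GI_map_trans A I i k hik]; exact Ideal.mem_map_of_mem _ ha
    · rw [← GI_map_trans A I j k hjk]; exact Ideal.mem_map_of_mem _ hb
    · rw [map_add, ofStage_trans, ofStage_trans]
  | smul z x _ hx =>
    obtain ⟨i, a, ha, rfl⟩ := hx
    obtain ⟨j, b, rfl⟩ := exists_ofStage A I z
    let k := max i j
    have hik : i ≤ k := le_max_left i j
    have hjk : j ≤ k := le_max_right i j
    refine ⟨k, trans A I j k hjk b * trans A I i k hik a, Ideal.mul_mem_left _ _ ?_, ?_⟩
    · rw [← GI_map_trans A I i k hik]; exact Ideal.mem_map_of_mem _ ha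
    · rw [map_mul, ofStage_trans, ofStage_trans, smul_eq_mul]

/-- If the image of `x` lies in `I · Hzn2 A I`, then `x` lies in the ideal at a later stage. -/
theorem exists_trans_mem_GI {i : ℕ} {x : G A I i} (hx : ofStage A I i x ∈ IH A I) :
    ∃ (l : ℕ) (hil : i ≤ l), trans A I i l hil x ∈ GI A I l := by
  obtain ⟨n, y, hy, hxy⟩ := exists_mem_GI A I hx
  let k := max i n
  have hik : i ≤ k := le_max_left i n
  have hnk : n ≤ k := le_max_right i n
  have h0 : ofStage A I k (trans A I i k hik x - trans A I n k hnk y) = 0 := by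
    rw [map_sub, ofStage_trans, ofStage_trans, hxy, sub_self]
  obtain ⟨l, hkl, hl⟩ := ofStage_eq_zero A I h0
  refine ⟨l, hik.trans hkl, ?_⟩
  rw [map_sub, trans_trans, trans_trans, sub_eq_zero] at hl
  rw [hl, ← GI_map_trans A I n l (hnk.trans hkl)]
  exact Ideal.mem_map_of_mem _ hy

theorem isUnit_next_of_isUnit_mk {n : ℕ} {x : G A I n}
    (hx : IsUnit (Ideal.Quotient.mk (GI A I n) x)) : IsUnit (next A I n x) :=
  PairStep.isUnit_algebraMap (G A I n) (GI A I n) hx

theorem IH_le_jacobson : IH A I ≤ Ideal.jacobson ⊥ := by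
  intro x hx
  rw [Ideal.mem_jacobson_bot]
  intro z
  have hxz : x * z ∈ IH A I := Ideal.mul_mem_right _ _ hx
  obtain ⟨n, y, hy, hyx⟩ := exists_mem_GI A I hxz
  have h1 : IsUnit (next A I n (y + 1)) := by
    apply isUnit_next_of_isUnit_mk
    rw [map_add, Ideal.Quotient.eq_zero_iff_mem.mpr hy, zero_add, map_one]
    exact isUnit_one
  have h2 : ofStage A I (n + 1) (next A I n (y + 1)) = x * z + 1 := by
    rw [ofStage_next, map_add, hyx, map_one]
  rw [← h2]
  exact h1.map _

section Henselian

theorem exists_monic_lift (F : (Hzn2 A I)[X]) (hF : F.Monic) :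
    ∃ (n : ℕ) (Fn : (G A I n)[X]), Fn.Monic ∧ Fn.map (ofStage A I n) = F := by
  obtain ⟨n, p, hp⟩ :=
    Ring.DirectLimit.Polynomial.exists_of (f' := fun i j h => trans A I i j h) F
  have hmem : F ∈ Polynomial.lifts (ofStage A I n) := (Polynomial.mem_lifts _).mpr ⟨p, hp⟩
  obtain ⟨q, hq, -, hqm⟩ := Polynomial.lifts_and_natDegree_eq_and_monic hmem hF
  exact ⟨n, q, hqm, hq⟩

instance henselianRing : HenselianRing (Hzn2 A I) (IH A I) := by
  refine ⟨IH_le_jacobson A I, fun F hF a₀ h₁ h₂ => ?_⟩
  obtain ⟨i, Fi, hFi, rfl⟩ := exists_monic_lift A I F hF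
  obtain ⟨j, aj, rfl⟩ := exists_ofStage A I a₀
  -- an inverse of the derivative modulo the ideal
  obtain ⟨w, hw⟩ := h₂.exists_right_inv
  obtain ⟨v, rfl⟩ := Ideal.Quotient.mk_surjective w
  obtain ⟨m, vm, rfl⟩ := exists_ofStage A I v
  let k := max (max i j) m
  have hik : i ≤ k := (le_max_left i j).trans (le_max_left _ m)
  have hjk : j ≤ k := (le_max_right i j).trans (le_max_left _ m)
  have hmk : m ≤ k := le_max_right _ m
  set Fk : (G A I k)[X] := Fi.map (trans A I i k hik) with hFk
  set ak : G A I k := trans A I j k hjk aj with hak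
  set vk : G A I k := trans A I m k hmk vm with hvk
  have hmap : Fk.map (ofStage A I k) = Fi.map (ofStage A I i) := by
    rw [hFk, Polynomial.map_map, ofStage_comp_trans]
  have hpt : ofStage A I k ak = ofStage A I j aj := ofStage_trans A I j k hjk aj
  have hv : ofStage A I k vk = ofStage A I m vm := ofStage_trans A I m k hmk vm
  rw [← hmap, ← hpt] at h₁ hw ⊢
  rw [← hv] at hw
  rw [Polynomial.eval_map, Polynomial.eval₂_at_apply] at h₁
  rw [Polynomial.derivative_map, Polynomial.eval_map, Polynomial.eval₂_at_apply, ← map_mul,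
    ← map_mul, ← sub_eq_zero, ← map_one (Ideal.Quotient.mk (IH A I)), ← map_sub,
    Ideal.Quotient.eq_zero_iff_mem, ← map_one (ofStage A I k), ← map_sub] at hw
  obtain ⟨l₁, hkl₁, hl₁⟩ := exists_trans_mem_GI A I h₁
  obtain ⟨l₂, hkl₂, hl₂⟩ := exists_trans_mem_GI A I hw
  let l := max l₁ l₂
  have hl₁l : l₁ ≤ l := le_max_left l₁ l₂
  have hl₂l : l₂ ≤ l := le_max_right l₁ l₂
  have hkl : k ≤ l := hkl₁.trans hl₁l
  set Fl : (G A I l)[X] := Fk.map (trans A I k l hkl) with hFl
  set al : G A I l := trans A I k l hkl ak with hal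
  set vl : G A I l := trans A I k l hkl vk with hvl
  have hFlm : Fl.Monic := (hFi.map _).map _
  have e₁ : Fl.eval al ∈ GI A I l := by
    have h := Ideal.mem_map_of_mem (trans A I l₁ l hl₁l) hl₁
    rw [GI_map_trans, trans_trans] at h
    rw [hFl, hal, Polynomial.eval_map, Polynomial.eval₂_at_apply]
    exact h
  have e₂ : Fl.derivative.eval al * vl - 1 ∈ GI A I l := by
    have h := Ideal.mem_map_of_mem (trans A I l₂ l hl₂l) hl₂
    rw [GI_map_trans, trans_trans] at h
    rw [hFl, hal, hvl, Polynomial.derivative_map, Polynomial.eval_map, Polynomial.eval₂_at_apply,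
      ← map_mul, ← map_one (trans A I k l hkl), ← map_sub]
    exact h
  have e₃ : IsUnit (Ideal.Quotient.mk (GI A I l) (Fl.derivative.eval al)) := by
    refine IsUnit.of_mul_eq_one (Ideal.Quotient.mk (GI A I l) vl) ?_
    rw [← map_mul, ← sub_eq_zero, ← map_one (Ideal.Quotient.mk (GI A I l)), ← map_sub,
      Ideal.Quotient.eq_zero_iff_mem]
    exact e₂
  let p : PData (G A I l) (GI A I l) := ⟨(Fl, al), hFlm, e₁, e₃⟩
  have hmapl : Fl.map (ofStage A I l) = Fk.map (ofStage A I k) := by
    rw [hFl, Polynomial.map_map, ofStage_comp_trans]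
  have hptl : ofStage A I l al = ofStage A I k ak := ofStage_trans A I k l hkl ak
  refine ⟨ofStage A I (l + 1) (PairStep.root (G A I l) (GI A I l) p), ?_, ?_⟩
  · have hr : (Fl.map (next A I l)).IsRoot (PairStep.root (G A I l) (GI A I l) p) :=
      PairStep.isRoot_root (G A I l) (GI A I l) p
    rw [IsRoot.def] at hr ⊢
    have hm : Fl.map (ofStage A I l) = (Fl.map (next A I l)).map (ofStage A I (l + 1)) :=
      (congrArg (fun g => Fl.map g) (ofStage_comp_next A I l).symm).trans
        (Polynomial.map_map (next A I l) (ofStage A I (l + 1)) Fl).symm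
    rw [← hmapl, hm, Polynomial.eval_map, Polynomial.eval₂_at_apply, hr, map_zero]
  · rw [← hptl, ← ofStage_next A I l al, ← map_sub, ← GI_map_ofStage A I (l + 1)]
    apply Ideal.mem_map_of_mem
    exact PairStep.root_sub_mem_map (G A I l) (GI A I l) p

end Henselian


section Universal

variable {A I}
variable {C : Type*} [CommRing C] (J : Ideal C) [hC : HenselianRing C J] (f : A →+* C)
  (hf : I.map f ≤ J)

/-- The compatible family of maps from the stages of the tower to `C`. -/
noncomputable def stageMap : ∀ n : ℕ, { g : G A I n →+* C // (GI A I n).map g ≤ J }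
  | 0 => ⟨f, hf⟩
  | n + 1 =>
    ⟨PairStep.lift J (stageMap n).1 (stageMap n).2, PairStep.map_lift_le J (stageMap n).1 (stageMap n).2⟩

theorem stageMap_succ_comp_next (n : ℕ) :
    (stageMap J f hf (n + 1)).1.comp (next A I n) = (stageMap J f hf n).1 :=
  PairStep.lift_comp_algebraMap J (stageMap J f hf n).1 (stageMap J f hf n).2

theorem stageMap_trans (i j : ℕ) (h : i ≤ j) (x : G A I i) :
    (stageMap J f hf j).1 (trans A I i j h x) = (stageMap J f hf i).1 x := by
  induction j, h using Nat.le_induction with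
  | base => rw [trans_self]; rfl
  | succ j h ih =>
    rw [trans_succ A I i j h, RingHom.comp_apply, ← ih]
    exact congrArg (fun k => k (trans A I i j h x)) (stageMap_succ_comp_next J f hf j)

/-- The canonical map from the henselization of the pair to a henselian pair under `(A, I)`. -/
noncomputable def liftHzn2 : Hzn2 A I →+* C :=
  Ring.DirectLimit.lift (G A I) (fun i j h => trans A I i j h) C (fun n => (stageMap J f hf n).1)
    (fun i j h x => stageMap_trans J f hf i j h x)

theorem liftHzn2_ofStage (n : ℕ) (x : G A I n) :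
    liftHzn2 J f hf (ofStage A I n x) = (stageMap J f hf n).1 x :=
  Ring.DirectLimit.lift_of _ _ _ _ _

theorem liftHzn2_comp_algebraMap : (liftHzn2 J f hf).comp (algebraMap A (Hzn2 A I)) = f :=
  RingHom.ext fun x => liftHzn2_ofStage J f hf 0 x

theorem liftHzn2_unique (ψ : Hzn2 A I →+* C) (hψ : ψ.comp (algebraMap A (Hzn2 A I)) = f) :
    ψ = liftHzn2 J f hf := by
  have key : ∀ n, ψ.comp (ofStage A I n) = (stageMap J f hf n).1 := by
    intro n
    induction n with
    | zero => exact hψ
    | succ n ih =>
      have h1 : (ψ.comp (ofStage A I (n + 1))).comp (next A I n) = (stageMap J f hf n).1 := by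
        rw [RingHom.comp_assoc, ofStage_comp_next, ih]
      exact PairStep.lift_unique J (stageMap J f hf n).1 (stageMap J f hf n).2
        (ψ.comp (ofStage A I (n + 1))) h1
  apply Ring.DirectLimit.hom_ext
  intro n
  ext x
  rw [RingHom.comp_apply, RingHom.comp_apply]
  show ψ (ofStage A I n x) = liftHzn2 J f hf (ofStage A I n x)
  rw [liftHzn2_ofStage, ← key n]
  rfl

end Universal

/-- `Hzn2 A I` is a henselization of the pair `(A, I)`. -/
theorem isPairHenselization : Hens2.IsPairHenselization A I (Hzn2 A I) := by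
  refine ⟨henselianRing A I, ?_⟩
  intro C _ J f hC hf
  refine ⟨liftHzn2 J f hf, liftHzn2_comp_algebraMap J f hf, ?_⟩
  intro ψ hψ
  exact liftHzn2_unique J f hf ψ hψ

/-- Every pair has a henselization. -/
theorem exists_isPairHenselization :
    ∃ (Ah : Type u) (_ : CommRing Ah) (_ : Algebra A Ah), Hens2.IsPairHenselization A I Ah :=
  ⟨Hzn2 A I, inferInstance, inferInstance, isPairHenselization A I⟩

end Groth.Agent.Lib.PairHenselization
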