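import Groth.Agent.Lib.H94Hens1
import Groth.Agent.Lib.HFP
import Groth.Agent.S1994

/-!
# Completions of quotients of henselizations of pairs are algebraizable (helper94)

* `isLevelwiseBij_of_isPairHenselization`: `R → Rʰ` is bijective modulo all powers of `I`.
* `adicCompletionEquivOfIsPairHenselization`: `R^ ≃ₐ[A] (Rʰ)^`.
* `exists_finiteType_of_quotient`: for `C` of finite type over a Noetherian ring `A`, `Cʰ` a
  henselization of `(C, IC)` and `J` an ideal of `Cʰ`, there is an `A`-algebra `B` of finite type
  with `B^ ≃ₐ[A] (Cʰ/J)^`.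
-/

set_option autoImplicit false
universe u

namespace Groth.Agent.Lib.H94Hens2

open Groth.Agent.Lib.H94Hens1 Groth.Agent.Lib.PairEtaleNbhd

section Levelwise

variable {A : Type u} [CommRing A] (I : Ideal A) {R Rh : Type u} [CommRing R] [CommRing Rh]
  [Algebra A R] [Algebra R Rh] [Algebra A Rh] [IsScalarTower A R Rh]

theorem map_map_tower :
    (I.map (algebraMap A R)).map (algebraMap R Rh) = I.map (algebraMap A Rh) := by
  rw [Ideal.map_map, ← IsScalarTower.algebraMap_eq]

/-- A henselization `R → Rʰ` of `(R, IR)` is bijective modulo all powers of `I`. -/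
theorem isLevelwiseBij_of_isPairHenselization
    (h : Hens2.IsPairHenselization R (I.map (algebraMap A R)) Rh) :
    IsLevelwiseBij (IsScalarTower.toAlgHom A R Rh) (I.map (algebraMap A R))
      (I.map (algebraMap A Rh)) := by
  have hpow : ∀ n : ℕ, ((I.map (algebraMap A R)) ^ n).map (algebraMap R Rh) =
      (I.map (algebraMap A Rh)) ^ n := fun n => by
    rw [Ideal.map_pow, map_map_tower]
  refine ⟨fun n => ?_, fun n s => ?_, fun n r hr => ?_⟩
  · rw [← hpow n]
    exact Ideal.le_comap_map
  · obtain ⟨r, hr⟩ := Groth.Agent.Lib.PairHenselizationEtale.exists_sub_mem _ h n s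
    rw [hpow n] at hr
    exact ⟨r, hr⟩
  · apply Groth.Agent.Lib.PairHenselizationEtale.mem_of_algebraMap_mem _ h n r
    rw [hpow n]
    exact hr

/-- The `I`-adic completions of `R` and of a henselization of `(R, IR)` are isomorphic as
`A`-algebras. -/
noncomputable def adicCompletionEquivOfIsPairHenselization
    (h : Hens2.IsPairHenselization R (I.map (algebraMap A R)) Rh) :
    AdicCompletion (I.map (algebraMap A R)) R ≃ₐ[A] AdicCompletion (I.map (algebraMap A Rh)) Rh :=
  (isLevelwiseBij_of_isPairHenselization I h).adicCompletionEquiv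

end Levelwise

section Main

variable (A : Type u) [CommRing A] [IsNoetherianRing A] (I : Ideal A) (C : Type u) [CommRing C]
  [Algebra A C] [Algebra.FiniteType A C] (Ch : Type u) [CommRing Ch] [Algebra C Ch] [Algebra A Ch]
  [IsScalarTower A C Ch]

theorem exists_finiteType_of_quotient
    (hCh : Hens2.IsPairHenselization C (I.map (algebraMap A C)) Ch) (J : Ideal Ch) :
    ∃ (B : Type u) (_ : CommRing B) (_ : Algebra A B), Algebra.FiniteType A B ∧
      Nonempty (AdicCompletion (I.map (algebraMap A B)) B ≃ₐ[A]
        AdicCompletion (I.map (algebraMap A (Ch ⧸ J))) (Ch ⧸ J)) := by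
  classical
  have hCN : IsNoetherianRing C := Algebra.FiniteType.isNoetherianRing A C
  have hChN : IsNoetherianRing Ch := (Groth.Agent.S1994.result C _ Ch hCh).1
  obtain ⟨T, hT⟩ : J.FG := IsNoetherian.noetherian J
  obtain ⟨C', _, _, hC', φ, hφ⟩ := Groth.Agent.Lib.HFP.exists_nbhd_of_finset hCh T
  -- algebra structures
  let _ : Algebra A C' := ((algebraMap C C').comp (algebraMap A C)).toAlgebra
  have : IsScalarTower A C C' := IsScalarTower.of_algebraMap_eq fun _ => rfl
  let _ : Algebra C' Ch := φ.toRingHom.toAlgebra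
  have : IsScalarTower C C' Ch := IsScalarTower.of_algebraMap_eq fun c => (φ.commutes c).symm
  have : IsScalarTower A C' Ch := IsScalarTower.of_algebraMap_eq fun a => by
    rw [IsScalarTower.algebraMap_apply A C Ch, IsScalarTower.algebraMap_apply C C' Ch]
    rfl
  -- preimages of the generators
  choose! g hg₀ using hφ
  have hg : ∀ x ∈ T, φ (g x) = x := hg₀
  let J' : Ideal C' := Ideal.span (T.image g : Set C')
  have hJ' : J'.map (algebraMap C' Ch) = J := by
    rw [← hT, Ideal.map_span]
    congr 1
    ext x
    constructor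
    · rintro ⟨y, hy, rfl⟩
      rw [Finset.coe_image] at hy
      obtain ⟨t, ht, rfl⟩ := hy
      change φ (g t) ∈ _
      rw [hg t ht]
      exact ht
    · intro hx
      refine ⟨g x, ?_, hg x hx⟩
      rw [Finset.coe_image]
      exact ⟨x, hx, rfl⟩
  subst hJ'
  have h1 : Hens2.IsPairHenselization C' ((I.map (algebraMap A C)).map (algebraMap C C')) Ch :=
    Groth.Agent.Lib.HFP.isPairHenselization_of_nbhd hC' hCh
  have h2 := Groth.Agent.Lib.HFP.isPairHenselization_quotient _ h1 J'
  refine ⟨C' ⧸ J', inferInstance, inferInstance, ?_, ?_⟩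
  · have := hC'.etale
    have h3 : Algebra.FiniteType C C' := inferInstance
    have h4 : Algebra.FiniteType A C' :=
      Algebra.FiniteType.trans (inferInstance : Algebra.FiniteType A C) h3
    exact Algebra.FiniteType.of_surjective (Ideal.Quotient.mkₐ A J')
      (Ideal.Quotient.mkₐ_surjective A J')
  · have hideal : ((I.map (algebraMap A C)).map (algebraMap C C')).map (Ideal.Quotient.mk J') =
        I.map (algebraMap A (C' ⧸ J')) := by
      rw [Ideal.map_map, Ideal.map_map]
      rfl
    rw [hideal] at h2
    have : IsScalarTower A (C' ⧸ J') (Ch ⧸ J'.map (algebraMap C' Ch)) :=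
      IsScalarTower.of_algebraMap_eq fun a => by
        change Ideal.Quotient.mk _ (algebraMap A Ch a) =
          Ideal.Quotient.mk _ (algebraMap C' Ch (algebraMap A C' a))
        rw [← IsScalarTower.algebraMap_apply A C' Ch]
    exact ⟨adicCompletionEquivOfIsPairHenselization I h2⟩

end Main

end Groth.Agent.Lib.H94Hens2
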