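import Groth.Agent.Lib.H94FEt7
import Mathlib.RingTheory.Flat.IsBaseChange

/-!
# helper94: invariants of a finite family of endomorphisms, I: the subalgebra `invSub`, and flat base
change commutes with taking invariants (`isBaseChange_inv`, `isBCAlong_inv`,
`exists_algEquiv_tensor_invSub`).
-/

set_option autoImplicit false
universe u

namespace Groth.Agent.Lib.H94FEt

open TensorProduct SchFin

/-- the subalgebra of invariants of a family of algebra endomorphisms -/
def invSub {R T : Type u} [CommRing R] [CommRing T] [Algebra R T] {G : Type u}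
    (σ : G → (T →ₐ[R] T)) : Subalgebra R T where
  carrier := {a | ∀ g, σ g a = a}
  mul_mem' ha hb g := by rw [map_mul, ha g, hb g]
  add_mem' ha hb g := by rw [map_add, ha g, hb g]
  algebraMap_mem' r g := (σ g).commutes r

theorem mem_invSub {R T : Type u} [CommRing R] [CommRing T] [Algebra R T] {G : Type u}
    (σ : G → (T →ₐ[R] T)) (a : T) : a ∈ invSub σ ↔ ∀ g, σ g a = a := Iff.rfl

/-- base change commutes with finite powers -/
theorem isBaseChange_compLeft {R S : Type u} [CommRing R] [CommRing S] [Algebra R S]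
    {M N : Type u} [AddCommGroup M] [AddCommGroup N] [Module R M] [Module R N] [Module S N]
    [IsScalarTower R S N] (f : M →ₗ[R] N) (hf : IsBaseChange S f) (ι : Type u) [Finite ι] :
    IsBaseChange S (f.compLeft ι) := by
  classical
  have := Fintype.ofFinite ι
  refine IsBaseChange.of_equiv ((TensorProduct.piRight R S S (fun _ : ι => M)) ≪≫ₗ
    (LinearEquiv.piCongrRight (fun _ => hf.equiv))) ?_
  intro x
  funext i
  simp [IsBaseChange.equiv_tmul]

/-- flat base change commutes with taking the invariants of a finite family of endomorphisms -/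
theorem isBaseChange_inv {R S : Type u} [CommRing R] [CommRing S] [Algebra R S] [Module.Flat R S]
    {M N M₁ N₁ : Type u} [AddCommGroup M] [AddCommGroup N] [AddCommGroup M₁] [AddCommGroup N₁]
    [Module R M] [Module R N] [Module S N] [IsScalarTower R S N]
    [Module R M₁] [Module R N₁] [Module S N₁] [IsScalarTower R S N₁]
    (h₂ : M →ₗ[R] N) (hbc : IsBaseChange S h₂) {G : Type u} [Finite G]
    (ρ : G → (M →ₗ[R] M)) (σ : G → (N →ₗ[S] N)) (hcomm : ∀ γ m, σ γ (h₂ m) = h₂ (ρ γ m))
    (ιM : M₁ →ₗ[R] M) (hιM : Function.Injective ιM)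
    (hM₁ : ∀ m, m ∈ LinearMap.range ιM ↔ ∀ γ, ρ γ m = m)
    (ιN : N₁ →ₗ[S] N) (hιN : Function.Injective ιN)
    (hN₁ : ∀ n, n ∈ LinearMap.range ιN ↔ ∀ γ, σ γ n = n)
    (h₁ : M₁ →ₗ[R] N₁) (hf₁ : ∀ m, ιN (h₁ m) = h₂ (ιM m)) : IsBaseChange S h₁ := by
  let δM : M →ₗ[R] (G → M) := LinearMap.pi (fun γ => ρ γ - LinearMap.id)
  let δN : N →ₗ[S] (G → N) := LinearMap.pi (fun γ => σ γ - LinearMap.id)
  have hbc3 : IsBaseChange S (h₂.compLeft G) := isBaseChange_compLeft h₂ hbc G
  refine IsBaseChange.of_left_exact S h₁ h₂ (h₂.compLeft G) (f := ιM) (g := δM) (f' := ιN)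
    (g' := δN) ?_ ?_ hbc hbc3 ?_ hιM ?_ hιN
  · ext m
    exact (hf₁ m).symm
  · ext m γ
    show h₂ (ρ γ m - m) = σ γ (h₂ m) - h₂ m
    rw [map_sub, hcomm]
  · intro m
    have hr : m ∈ Set.range ⇑ιM ↔ m ∈ LinearMap.range ιM := Iff.rfl
    rw [hr, hM₁]
    constructor
    · intro h γ
      have := congrFun h γ
      exact sub_eq_zero.1 this
    · intro h
      funext γ
      exact sub_eq_zero.2 (h γ)
  · intro n
    have hr : n ∈ Set.range ⇑ιN ↔ n ∈ LinearMap.range ιN := Iff.rfl
    rw [hr, hN₁]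
    constructor
    · intro h γ
      have := congrFun h γ
      exact sub_eq_zero.1 this
    · intro h
      funext γ
      exact sub_eq_zero.2 (h γ)

/-- flat base change commutes with taking the invariants, semilinear form -/
theorem isBCAlong_inv {R S : Type u} [CommRing R] [CommRing S] (g : R →+* S) (hflat : g.Flat)
    {M N M₁ N₁ : Type u} [AddCommGroup M] [AddCommGroup N] [AddCommGroup M₁] [AddCommGroup N₁]
    [Module R M] [Module S N] [Module R M₁] [Module S N₁]
    (f : M →ₛₗ[g] N) (hf : IsBCAlong g f) {G : Type u} [Finite G]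
    (ρ : G → (M →ₗ[R] M)) (σ : G → (N →ₗ[S] N)) (hcomm : ∀ γ m, σ γ (f m) = f (ρ γ m))
    (ιM : M₁ →ₗ[R] M) (hιM : Function.Injective ιM)
    (hM₁ : ∀ m, m ∈ LinearMap.range ιM ↔ ∀ γ, ρ γ m = m)
    (ιN : N₁ →ₗ[S] N) (hιN : Function.Injective ιN)
    (hN₁ : ∀ n, n ∈ LinearMap.range ιN ↔ ∀ γ, σ γ n = n)
    (f₁ : M₁ →ₛₗ[g] N₁) (hf₁ : ∀ m, ιN (f₁ m) = f (ιM m)) : IsBCAlong g f₁ := by
  let _ : Algebra R S := g.toAlgebra
  let _ : Module R N := Module.compHom N g
  have : IsScalarTower R S N := IsScalarTower.of_algebraMap_smul fun _ _ => rfl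
  let _ : Module R N₁ := Module.compHom N₁ g
  have : IsScalarTower R S N₁ := IsScalarTower.of_algebraMap_smul fun _ _ => rfl
  have : Module.Flat R S := hflat
  let h₂ : M →ₗ[R] N := { toFun := f, map_add' := f.map_add, map_smul' := f.map_smulₛₗ }
  have hbc : IsBaseChange S h₂ := hf
  let h₁ : M₁ →ₗ[R] N₁ := { toFun := f₁, map_add' := f₁.map_add, map_smul' := f₁.map_smulₛₗ }
  show IsBaseChange S h₁
  exact isBaseChange_inv h₂ hbc ρ σ hcomm ιM hιM hM₁ ιN hιN hN₁ h₁ hf₁

/-- invariants commute with flat base change, algebra version -/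
theorem exists_algEquiv_tensor_invSub {R B A : Type u} [CommRing R] [CommRing B] [CommRing A]
    [Algebra R B] [Algebra R A] [Module.Flat R B] {G : Type u} [Finite G]
    (ρ : G → (A →ₐ[R] A)) :
    Nonempty (B ⊗[R] (invSub ρ) ≃ₐ[B]
      invSub (fun γ => Algebra.TensorProduct.map (AlgHom.id B B) (ρ γ))) := by
  let σ : G → (B ⊗[R] A →ₐ[B] B ⊗[R] A) := fun γ => Algebra.TensorProduct.map (AlgHom.id B B) (ρ γ)
  let φ : B ⊗[R] invSub ρ →ₐ[B] B ⊗[R] A := Algebra.TensorProduct.map (AlgHom.id B B) (invSub ρ).val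
  have hmem : ∀ z, φ z ∈ invSub σ := by
    intro z γ
    induction z using TensorProduct.induction_on with
    | zero => simp
    | tmul b a =>
      show σ γ (b ⊗ₜ[R] (a : A)) = b ⊗ₜ[R] (a : A)
      show b ⊗ₜ[R] (ρ γ (a : A)) = b ⊗ₜ[R] (a : A)
      rw [a.2 γ]
    | add x y hx hy => rw [map_add, map_add, hx, hy]
  let φ' : B ⊗[R] invSub ρ →ₐ[B] invSub σ := φ.codRestrict (invSub σ) hmem
  let h₂ : A →ₗ[R] B ⊗[R] A := TensorProduct.mk R B A 1
  have hbc : IsBaseChange B h₂ := TensorProduct.isBaseChange R A B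
  let h₁ : invSub ρ →ₗ[R] invSub σ :=
    { toFun := fun a => ⟨1 ⊗ₜ[R] (a : A), hmem (1 ⊗ₜ[R] a)⟩
      map_add' := fun a b => by
        apply Subtype.ext
        show (1 : B) ⊗ₜ[R] ((a : A) + (b : A)) = 1 ⊗ₜ[R] (a : A) + 1 ⊗ₜ[R] (b : A)
        rw [TensorProduct.tmul_add]
      map_smul' := fun r a => by
        apply Subtype.ext
        show (1 : B) ⊗ₜ[R] (r • (a : A)) = r • ((1 : B) ⊗ₜ[R] (a : A))
        rw [TensorProduct.tmul_smul] }
  have hbc1 : IsBaseChange B h₁ := by
    refine isBaseChange_inv h₂ hbc (fun γ => (ρ γ).toLinearMap) (fun γ => (σ γ).toLinearMap) ?_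
      (invSub ρ).val.toLinearMap Subtype.val_injective ?_
      (invSub σ).val.toLinearMap Subtype.val_injective ?_ h₁ (fun m => rfl)
    · intro γ m
      rfl
    · intro m
      constructor
      · rintro ⟨a, rfl⟩ γ
        exact a.2 γ
      · intro h
        exact ⟨⟨m, h⟩, rfl⟩
    · intro n
      constructor
      · rintro ⟨a, rfl⟩ γ
        exact a.2 γ
      · intro h
        exact ⟨⟨n, h⟩, rfl⟩
  have heq : ∀ z, φ' z = hbc1.equiv z := by
    intro z
    induction z using TensorProduct.induction_on with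
    | zero => simp
    | tmul b a =>
      rw [IsBaseChange.equiv_tmul]
      apply Subtype.ext
      show b ⊗ₜ[R] (a : A) = b • ((1 : B) ⊗ₜ[R] (a : A))
      rw [TensorProduct.smul_tmul', smul_eq_mul, mul_one]
    | add x y hx hy => rw [map_add, map_add, hx, hy]
  have hbij : Function.Bijective φ' := by
    have : (φ' : B ⊗[R] invSub ρ → invSub σ) = hbc1.equiv := funext heq
    rw [this]
    exact hbc1.equiv.bijective
  exact ⟨AlgEquiv.ofBijective φ' hbij⟩

end Groth.Agent.Lib.H94FEt
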