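import Groth.Agent.Lib.H94Inv1

/-!
# helper94: invariants, II: for a finite group acting on a trivial cover `Fin n → C` by `C`-algebra
endomorphisms, the invariants are isomorphic to a finite product of quotients of `C` by idempotents,
hence étale (`etale_invSub_pi`).
-/

set_option autoImplicit false
set_option linter.unusedSectionVars false
universe u

namespace Groth.Agent.Lib.H94FEt

open TensorProduct

section Core

variable {C : Type u} [CommRing C] {n : ℕ} {G : Type u} [Group G] [Fintype G]
variable (σ : G → ((Fin n → C) →ₐ[C] (Fin n → C)))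

/-- the orbit idempotent of the `i`-th standard idempotent -/
noncomputable def orb (i : Fin n) : Fin n → C := 1 - ∏ g, (1 - σ g (Pi.single i 1))

/-- the disjointified orbit idempotents -/
noncomputable def uu (i : Fin n) : Fin n → C :=
  orb σ i * ∏ j ∈ Finset.univ with j < i, (1 - orb σ j)

theorem mul_prod_one_sub_eq {T : Type u} [CommRing T] {ι : Type*} (s : Finset ι) (x : ι → T) (b : T)
    (h : ∀ g ∈ s, b * x g = 0) : b * ∏ g ∈ s, (1 - x g) = b := by
  classical
  induction s using Finset.induction_on with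
  | empty => simp
  | insert a s ha ih =>
    rw [Finset.prod_insert ha, ← mul_assoc, mul_sub, mul_one, h a (Finset.mem_insert_self a s),
      sub_zero]
    exact ih (fun g hg => h g (Finset.mem_insert_of_mem hg))

theorem isIdempotentElem_prod {T : Type u} [CommRing T] {ι : Type*} (s : Finset ι) (x : ι → T)
    (h : ∀ g ∈ s, IsIdempotentElem (x g)) : IsIdempotentElem (∏ g ∈ s, x g) := by
  classical
  induction s using Finset.induction_on with
  | empty => simp [IsIdempotentElem]
  | insert a s ha ih =>
    rw [Finset.prod_insert ha]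
    exact (h a (Finset.mem_insert_self a s)).mul (ih (fun g hg => h g (Finset.mem_insert_of_mem hg)))

theorem single_idem (i : Fin n) : IsIdempotentElem (Pi.single i 1 : Fin n → C) := by
  unfold IsIdempotentElem
  rw [← Pi.single_mul, mul_one]

theorem orb_idem (i : Fin n) : IsIdempotentElem (orb σ i) := by
  unfold orb
  apply IsIdempotentElem.one_sub
  apply isIdempotentElem_prod
  intro g _
  apply IsIdempotentElem.one_sub
  exact (single_idem i).map (σ g)

variable (h1 : σ 1 = AlgHom.id C _) (hmul : ∀ g h, σ (g * h) = (σ g).comp (σ h))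

include hmul in
theorem orb_inv (h : G) (i : Fin n) : σ h (orb σ i) = orb σ i := by
  unfold orb
  rw [map_sub, map_one, map_prod]
  congr 1
  have : ∀ g, σ h (1 - σ g (Pi.single i 1)) = 1 - σ (h * g) (Pi.single i 1) := by
    intro g
    rw [map_sub, map_one, hmul]
    rfl
  simp_rw [this]
  exact Fintype.prod_equiv (Equiv.mulLeft h) _ _ (fun g => rfl)

include h1 in
theorem single_mul_orb (i : Fin n) : (Pi.single i 1 : Fin n → C) * orb σ i = Pi.single i 1 := by
  unfold orb
  rw [mul_sub, mul_one, sub_eq_self]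
  obtain ⟨r, hr⟩ := Finset.dvd_prod_of_mem (fun g => 1 - σ g (Pi.single i (1 : C)))
    (Finset.mem_univ (1 : G))
  rw [hr, ← mul_assoc, h1]
  have : (Pi.single i 1 : Fin n → C) * (1 - (AlgHom.id C (Fin n → C)) (Pi.single i 1)) = 0 := by
    rw [AlgHom.id_apply, mul_sub, mul_one, (single_idem i).eq, sub_self]
  rw [this, zero_mul]

include h1 in
theorem orb_apply_self (i : Fin n) : orb σ i i = 1 := by
  have := congrFun (single_mul_orb σ h1 i) i
  simpa using this

theorem uu_idem (i : Fin n) : IsIdempotentElem (uu σ i) := by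
  unfold uu
  apply (orb_idem σ i).mul
  apply isIdempotentElem_prod
  intro j _
  exact (orb_idem σ j).one_sub

include hmul in
theorem uu_inv (h : G) (i : Fin n) : σ h (uu σ i) = uu σ i := by
  unfold uu
  rw [map_mul, map_prod, orb_inv σ hmul]
  congr 1
  apply Finset.prod_congr rfl
  intro j _
  rw [map_sub, map_one, orb_inv σ hmul]

include h1 in
theorem sum_uu : ∑ i, uu σ i = 1 := by
  have h := Finset.prod_one_sub_ordered (Finset.univ : Finset (Fin n)) (orb σ)
  have h0 : ∏ i, (1 - orb σ i) = 0 := by
    funext k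
    rw [Finset.prod_apply]
    apply Finset.prod_eq_zero (Finset.mem_univ k)
    simp [orb_apply_self σ h1 k]
  rw [h0] at h
  unfold uu
  exact (sub_eq_zero.1 h.symm).symm

theorem uu_mul_of_lt {i j : Fin n} (hij : i < j) : uu σ i * uu σ j = 0 := by
  unfold uu
  obtain ⟨r, hr⟩ := Finset.dvd_prod_of_mem (fun k => 1 - orb σ k)
    (Finset.mem_filter.2 ⟨Finset.mem_univ i, hij⟩ : i ∈ (Finset.univ.filter (· < j)))
  rw [hr]
  have : orb σ i * (1 - orb σ i) = 0 := by
    rw [mul_sub, mul_one, (orb_idem σ i).eq, sub_self]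
  calc orb σ i * (∏ k ∈ Finset.univ with k < i, (1 - orb σ k)) * (orb σ j * ((1 - orb σ i) * r))
      = (orb σ i * (1 - orb σ i)) * ((∏ k ∈ Finset.univ with k < i, (1 - orb σ k)) * orb σ j * r) := by
        ring
    _ = 0 := by rw [this, zero_mul]

theorem uu_mul_of_ne {i j : Fin n} (hij : i ≠ j) : uu σ i * uu σ j = 0 := by
  rcases lt_or_gt_of_ne hij with h | h
  · exact uu_mul_of_lt σ h
  · rw [mul_comm]
    exact uu_mul_of_lt σ h

include hmul in
theorem inv_mul_orb (a : Fin n → C) (ha : a ∈ invSub σ) (i : Fin n) :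
    a * orb σ i = algebraMap C (Fin n → C) (a i) * orb σ i := by
  have hb : ∀ g, σ g (a - algebraMap C (Fin n → C) (a i)) = a - algebraMap C (Fin n → C) (a i) :=
    fun g => by rw [map_sub, ha g, AlgHom.commutes]
  have hbe : (a - algebraMap C (Fin n → C) (a i)) * Pi.single i 1 = 0 := by
    funext k
    by_cases hk : k = i
    · subst hk
      simp
    · simp [hk]
  have hbx : ∀ g, (a - algebraMap C (Fin n → C) (a i)) * σ g (Pi.single i 1) = 0 := fun g => by
    rw [← hb g, ← map_mul, hbe, map_zero]
  have h0 : (a - algebraMap C (Fin n → C) (a i)) * orb σ i = 0 := by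
    unfold orb
    rw [mul_sub, mul_one, mul_prod_one_sub_eq _ _ _ (fun g _ => hbx g), sub_self]
  rw [sub_mul, sub_eq_zero] at h0
  exact h0

include hmul in
theorem inv_mul_uu (a : Fin n → C) (ha : a ∈ invSub σ) (i : Fin n) :
    a * uu σ i = algebraMap C (Fin n → C) (a i) * uu σ i := by
  unfold uu
  rw [← mul_assoc, inv_mul_orb σ hmul a ha i, mul_assoc]

/-- the generator of the annihilator of `uu σ i` -/
noncomputable def ww (i : Fin n) : C := ∏ k, (1 - uu σ i k)

theorem uu_apply_idem (i k : Fin n) : IsIdempotentElem (uu σ i k) := by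
  have := congrFun (uu_idem σ i).eq k
  exact this

theorem ww_idem (i : Fin n) : IsIdempotentElem (ww σ i) := by
  unfold ww
  apply isIdempotentElem_prod
  intro k _
  exact (uu_apply_idem σ i k).one_sub

theorem mem_span_ww_iff (i : Fin n) (c : C) :
    c ∈ Ideal.span {ww σ i} ↔ ∀ k, c * uu σ i k = 0 := by
  constructor
  · intro hc k
    obtain ⟨d, rfl⟩ := Ideal.mem_span_singleton'.1 hc
    obtain ⟨r, hr⟩ := Finset.dvd_prod_of_mem (fun k => 1 - uu σ i k) (Finset.mem_univ k)
    unfold ww
    rw [hr]
    have : (1 - uu σ i k) * uu σ i k = 0 := by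
      rw [sub_mul, one_mul, (uu_apply_idem σ i k).eq, sub_self]
    calc d * ((1 - uu σ i k) * r) * uu σ i k = d * r * ((1 - uu σ i k) * uu σ i k) := by ring
      _ = 0 := by rw [this, mul_zero]
  · intro h
    have : c * ww σ i = c := mul_prod_one_sub_eq _ _ _ (fun k _ => h k)
    exact Ideal.mem_span_singleton'.2 ⟨c, this⟩

/-- the comparison map from the invariants to a product of quotients by idempotents -/
noncomputable def invPhi : invSub σ →ₐ[C] (Π i : Fin n, C ⧸ Ideal.span {ww σ i}) :=
  AlgHom.pi (fun i => (Ideal.Quotient.mkₐ C (Ideal.span {ww σ i})).comp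
    ((Pi.evalAlgHom C (fun _ : Fin n => C) i).comp (invSub σ).val))

theorem invPhi_apply (a : invSub σ) (i : Fin n) :
    invPhi σ a i = Ideal.Quotient.mk (Ideal.span {ww σ i}) (a.1 i) := rfl

include h1 hmul in
theorem invPhi_injective : Function.Injective (invPhi σ) := by
  rw [injective_iff_map_eq_zero]
  intro a ha
  have hai : ∀ i, a.1 i ∈ Ideal.span {ww σ i} := by
    intro i
    have := congrFun ha i
    rw [invPhi_apply] at this
    exact Ideal.Quotient.eq_zero_iff_mem.1 this
  apply Subtype.ext
  show a.1 = 0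
  have h2 : a.1 = ∑ i, a.1 * uu σ i := by
    rw [← Finset.mul_sum, sum_uu σ h1, mul_one]
  rw [h2]
  apply Finset.sum_eq_zero
  intro i _
  rw [inv_mul_uu σ hmul a.1 a.2 i]
  funext k
  exact (mem_span_ww_iff σ i (a.1 i)).1 (hai i) k

include h1 hmul in
theorem invPhi_surjective : Function.Surjective (invPhi σ) := by
  intro y
  choose c hc using fun i => Ideal.Quotient.mk_surjective (y i)
  have hmem : (∑ j, algebraMap C (Fin n → C) (c j) * uu σ j) ∈ invSub σ := by
    apply Subalgebra.sum_mem
    intro j _
    exact Subalgebra.mul_mem _ (Subalgebra.algebraMap_mem _ _) (fun g => uu_inv σ hmul g j)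
  refine ⟨⟨_, hmem⟩, ?_⟩
  funext i
  rw [invPhi_apply, ← hc i, Ideal.Quotient.eq, mem_span_ww_iff]
  intro k
  have h3 := inv_mul_uu σ hmul _ hmem i
  have h4 : (∑ j, algebraMap C (Fin n → C) (c j) * uu σ j) * uu σ i =
      algebraMap C (Fin n → C) (c i) * uu σ i := by
    rw [Finset.sum_mul, Finset.sum_eq_single i]
    · rw [mul_assoc, (uu_idem σ i).eq]
    · intro j _ hji
      rw [mul_assoc, uu_mul_of_ne σ hji, mul_zero]
    · intro h
      exact absurd (Finset.mem_univ i) h
  rw [h4] at h3
  have h5 := congrFun h3 k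
  simp only [Pi.mul_apply, Pi.algebraMap_apply, Algebra.algebraMap_self, RingHom.id_apply] at h5
  rw [sub_mul, sub_eq_zero]
  exact h5.symm

include h1 hmul in
/-- the invariants of a finite group acting on a trivial cover form an étale algebra -/
theorem etale_invSub_pi : Algebra.Etale C (invSub σ) := by
  have : ∀ i : Fin n, Algebra.Etale C (C ⧸ Ideal.span {ww σ i}) := fun i =>
    etale_quotient_span_idem (ww σ i) (ww_idem σ i)
  exact Algebra.Etale.of_equiv
    (AlgEquiv.ofBijective (invPhi σ) ⟨invPhi_injective σ h1 hmul, invPhi_surjective σ h1 hmul⟩).symm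


end Core

end Groth.Agent.Lib.H94FEt
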