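import Groth.Agent.Lib.H94Inv2
import Mathlib.RingTheory.Etale.Descent

/-!
# helper94: invariants, III: the invariants of a finite group acting on an algebra that becomes a
trivial cover after a faithfully flat base change form an étale algebra; the algebra of invariants
of a group action on an étale cover of a schematic finite space.
-/

set_option autoImplicit false
universe u

namespace Groth.Agent.Lib.H94FEt

open TensorProduct SchFin CategoryTheory

/-- the invariants of a finite group acting on a locally trivial algebra form an étale algebra -/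
theorem etale_invSub_of_trivial {R A B : Type u} [CommRing R] [CommRing A] [CommRing B]
    [Algebra R A] [Algebra R B] [Module.FaithfullyFlat R B] (n : ℕ)
    (e : B ⊗[R] A ≃ₐ[B] (Fin n → B)) {G : Type u} [Group G] [Finite G]
    (ρ : G → (A →ₐ[R] A)) (h1 : ρ 1 = AlgHom.id R A)
    (hmul : ∀ g h, ρ (g * h) = (ρ g).comp (ρ h)) : Algebra.Etale R (invSub ρ) := by
  have := Fintype.ofFinite G
  let σ : G → (B ⊗[R] A →ₐ[B] B ⊗[R] A) := fun γ => Algebra.TensorProduct.map (AlgHom.id B B) (ρ γ)
  let τ : G → ((Fin n → B) →ₐ[B] (Fin n → B)) := fun γ =>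
    (e.toAlgHom.comp (σ γ)).comp e.symm.toAlgHom
  have hσ1 : σ 1 = AlgHom.id B _ := by
    show Algebra.TensorProduct.map (AlgHom.id B B) (ρ 1) = _
    rw [h1]
    exact Algebra.TensorProduct.map_id
  have hσmul : ∀ g h, σ (g * h) = (σ g).comp (σ h) := by
    intro g h
    show Algebra.TensorProduct.map (AlgHom.id B B) (ρ (g * h)) = _
    rw [hmul, ← AlgHom.id_comp (AlgHom.id B B), Algebra.TensorProduct.map_comp]
  have hτ1 : τ 1 = AlgHom.id B _ := by
    apply AlgHom.ext
    intro z
    show e (σ 1 (e.symm z)) = z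
    rw [hσ1, AlgHom.id_apply, AlgEquiv.apply_symm_apply]
  have hτmul : ∀ g h, τ (g * h) = (τ g).comp (τ h) := by
    intro g h
    apply AlgHom.ext
    intro z
    show e (σ (g * h) (e.symm z)) = e (σ g (e.symm (e (σ h (e.symm z)))))
    rw [hσmul, AlgEquiv.symm_apply_apply]
    rfl
  have hcore : Algebra.Etale B (invSub τ) := etale_invSub_pi τ hτ1 hτmul
  have hmap : (invSub σ).map (e : B ⊗[R] A →ₐ[B] (Fin n → B)) = invSub τ := by
    ext z
    constructor
    · rintro ⟨w, hw, rfl⟩ γ
      show e (σ γ (e.symm (e w))) = e w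
      rw [AlgEquiv.symm_apply_apply, hw γ]
    · intro hz
      refine ⟨e.symm z, fun γ => ?_, e.apply_symm_apply z⟩
      have := hz γ
      apply e.injective
      rw [e.apply_symm_apply]
      exact this
  obtain ⟨e1⟩ := exists_algEquiv_tensor_invSub (B := B) ρ
  let e2 : invSub σ ≃ₐ[B] invSub τ :=
    (e.subalgebraMap (invSub σ)).trans (Subalgebra.equivOfEq _ _ hmap)
  have : Algebra.Etale B (B ⊗[R] invSub ρ) := Algebra.Etale.of_equiv (e1.trans e2).symm
  exact Algebra.Etale.of_etale_tensorProduct_of_faithfullyFlat B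

section InvAlg

variable {X : RSpace.{u}} {G : Type u} (A : Alg X) (ρ : G → (A ⟶ A))

/-- the algebra of invariants of a family of endomorphisms of an algebra over a finite ringed poset -/
def invAlg : Alg X where
  carrier p := invSub (fun γ => (ρ γ).app p)
  res {p q} h := (A.res h).restrict (invSub (fun γ => (ρ γ).app p)) (invSub (fun γ => (ρ γ).app q))
    (fun a ha γ => by
      show (ρ γ).app q (A.res h a) = A.res h a
      rw [← (ρ γ).compat, ha γ])
  res_algebraMap h a := Subtype.ext (A.res_algebraMap h a)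
  res_self p b := Subtype.ext (A.res_self p b)
  res_comp h h' b := Subtype.ext (A.res_comp h h' b)

/-- the inclusion of the invariants -/
def invIncl : invAlg A ρ ⟶ A where
  app p := (invSub (fun γ => (ρ γ).app p)).val
  compat _ _ := rfl

theorem invIncl_comp (γ : G) : invIncl A ρ ≫ ρ γ = invIncl A ρ := by
  apply Alg.hom_ext
  intro p
  ext a
  exact a.2 γ

/-- morphisms into the invariants -/
def invLift {T : Alg X} (s : T ⟶ A) (hs : ∀ γ, s ≫ ρ γ = s) : T ⟶ invAlg A ρ where
  app p := (s.app p).codRestrict (invSub (fun γ => (ρ γ).app p)) (fun t γ => by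
    have := congrArg (fun k : T ⟶ A => k.app p t) (hs γ)
    exact this)
  compat h b := Subtype.ext (s.compat h b)

theorem invLift_incl {T : Alg X} (s : T ⟶ A) (hs : ∀ γ, s ≫ ρ γ = s) :
    invLift A ρ s hs ≫ invIncl A ρ = s := by
  apply Alg.hom_ext
  intro p
  ext a
  rfl

theorem invIncl_mono {T : Alg X} (s t : T ⟶ invAlg A ρ)
    (h : s ≫ invIncl A ρ = t ≫ invIncl A ρ) : s = t := by
  apply Alg.hom_ext
  intro p
  ext a
  apply Subtype.ext
  exact congrArg (fun k : T ⟶ A => k.app p a) h

theorem invAlg_isEtCover [Group G] [Finite G] (hX : X.IsFinSp) (hA : A.IsEtCover)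
    (h1 : ρ 1 = 𝟙 A) (hmul : ∀ g h, ρ (g * h) = ρ h ≫ ρ g)
    (B : Alg X) (n : ℕ) (hB : B.IsCovering)
    (hiso : ∀ p : X.pt, Nonempty (TensorProduct (X.ring p) (B.carrier p) (A.carrier p)
      ≃ₐ[B.carrier p] (Fin n → B.carrier p))) : (invAlg A ρ).IsEtCover := by
  refine ⟨fun p q h => ?_, fun p => ⟨?_, ?_⟩⟩
  · let fA : A.carrier p →ₛₗ[X.res h] A.carrier q := A.toMod.res h
    have hfA : IsBCAlong (X.res h) fA := hA.1 p q h
    exact isBCAlong_inv (X.res h) (hX.2 p q h) fA hfA
      (fun γ => ((ρ γ).app p).toLinearMap) (fun γ => ((ρ γ).app q).toLinearMap)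
      (fun γ m => ((ρ γ).compat h m).symm)
      (invSub (fun γ => (ρ γ).app p)).val.toLinearMap Subtype.val_injective
      (fun m => ⟨by rintro ⟨a, rfl⟩ γ; exact a.2 γ, fun hm => ⟨⟨m, hm⟩, rfl⟩⟩)
      (invSub (fun γ => (ρ γ).app q)).val.toLinearMap Subtype.val_injective
      (fun m => ⟨by rintro ⟨a, rfl⟩ γ; exact a.2 γ, fun hm => ⟨⟨m, hm⟩, rfl⟩⟩)
      ((invAlg A ρ).toMod.res h) (fun m => rfl)
  · have := hX.1 p
    have := (hA.2 p).1
    have : IsNoetherian (X.ring p) (A.carrier p) := isNoetherian_of_isNoetherianRing_of_finite _ _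
    exact Module.Finite.of_injective (invSub (fun γ => (ρ γ).app p)).val.toLinearMap
      Subtype.val_injective
  · have := (hB.2 p).2
    obtain ⟨e⟩ := hiso p
    refine etale_invSub_of_trivial n e (fun γ => (ρ γ).app p) ?_ ?_
    · rw [h1]
      rfl
    · intro g h
      rw [hmul]
      rfl

end InvAlg

end Groth.Agent.Lib.H94FEt
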