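import Groth.Agent.Lib.H94Inv3

/-!
# helper94: invariants, IV: two ring maps to a field agreeing on the invariants of a finite group
action are conjugate (characteristic polynomial over `A[t]`); the fibres of the map from the fibre
of an étale cover to the fibre of its invariants are the orbits.
-/

set_option autoImplicit false
universe u

namespace Groth.Agent.Lib.H94FEt

open TensorProduct SchFin Polynomial

section Orbit

variable {A' D : Type u} [CommRing A'] [CommRing D] [IsDomain D] {G : Type u} [Group G] [Fintype G]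

/-- two ring maps to a domain that agree on the invariants of a finite group agree pointwise up to
the group (pointwise form) -/
theorem exists_eq_comp_pointwise (ρ : G → (A' →+* A')) (h1 : ρ 1 = RingHom.id A')
    (hmul : ∀ g h, ρ (g * h) = (ρ g).comp (ρ h)) (U U' : A' →+* D)
    (hU : ∀ c, (∀ γ, ρ γ c = c) → U c = U' c) (b : A') : ∃ γ, U' b = U (ρ γ b) := by
  let P : A'[X] := ∏ γ, (X - C (ρ γ b))
  have hinv : ∀ δ, P.map (ρ δ) = P := by
    intro δ
    show (∏ γ, (X - C (ρ γ b))).map (ρ δ) = ∏ γ, (X - C (ρ γ b))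
    rw [Polynomial.map_prod]
    have : ∀ γ, (X - C (ρ γ b)).map (ρ δ) = X - C (ρ (δ * γ) b) := by
      intro γ
      rw [Polynomial.map_sub, Polynomial.map_X, Polynomial.map_C, hmul]
      rfl
    simp_rw [this]
    exact Fintype.prod_equiv (Equiv.mulLeft δ) _ _ (fun γ => rfl)
  have hcoef : ∀ n γ, ρ γ (P.coeff n) = P.coeff n := by
    intro n γ
    rw [← Polynomial.coeff_map, hinv]
  have hmap : P.map U = P.map U' := by
    ext n
    rw [Polynomial.coeff_map, Polynomial.coeff_map]
    exact hU _ (hcoef n)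
  have h0 : (P.map U').eval (U' b) = 0 := by
    show ((∏ γ, (X - C (ρ γ b))).map U').eval (U' b) = 0
    rw [Polynomial.map_prod, Polynomial.eval_prod]
    apply Finset.prod_eq_zero (Finset.mem_univ (1 : G))
    rw [h1]
    simp
  rw [← hmap] at h0
  have h2 : (P.map U).eval (U' b) = ∏ γ, (U' b - U (ρ γ b)) := by
    show ((∏ γ, (X - C (ρ γ b))).map U).eval (U' b) = _
    rw [Polynomial.map_prod, Polynomial.eval_prod]
    apply Finset.prod_congr rfl
    intro γ _
    simp
  rw [h2, Finset.prod_eq_zero_iff] at h0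
  obtain ⟨γ, -, hγ⟩ := h0
  exact ⟨γ, sub_eq_zero.1 hγ⟩

/-- two ring maps to a field that agree on the invariants of a finite group are conjugate -/
theorem exists_eq_comp {A Ω : Type u} [CommRing A] [Field Ω] {G : Type u} [Group G] [Fintype G]
    (ρ : G → (A →+* A)) (h1 : ρ 1 = RingHom.id A)
    (hmul : ∀ g h, ρ (g * h) = (ρ g).comp (ρ h)) (u u' : A →+* Ω)
    (hu : ∀ c, (∀ γ, ρ γ c = c) → u c = u' c) : ∃ γ, ∀ a, u' a = u (ρ γ a) := by
  classical
  by_contra hcon
  push Not at hcon
  choose a ha using hcon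
  let m : G → ℕ := fun γ => (Fintype.equivFin G γ : ℕ)
  have hm : Function.Injective m := fun γ δ h =>
    (Fintype.equivFin G).injective (Fin.ext h)
  let b : A[X] := ∑ γ, C (a γ) * X ^ (m γ)
  have hb : ∀ γ, b.coeff (m γ) = a γ := by
    intro γ
    show (∑ δ, C (a δ) * X ^ (m δ)).coeff (m γ) = a γ
    rw [Polynomial.finsetSum_coeff]
    simp_rw [Polynomial.coeff_C_mul_X_pow]
    rw [Finset.sum_eq_single γ]
    · simp
    · intro δ _ hδ
      rw [if_neg]
      intro h
      exact hδ (hm h).symm
    · intro h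
      exact absurd (Finset.mem_univ γ) h
  obtain ⟨γ, hγ⟩ := exists_eq_comp_pointwise (D := Polynomial Ω) (fun γ => Polynomial.mapRingHom (ρ γ))
    (by rw [h1]; exact Polynomial.mapRingHom_id)
    (fun g h => by rw [hmul]; exact (Polynomial.mapRingHom_comp _ _).symm)
    (Polynomial.mapRingHom u) (Polynomial.mapRingHom u')
    (fun c hc => by
      ext n
      show (c.map u).coeff n = (c.map u').coeff n
      rw [Polynomial.coeff_map, Polynomial.coeff_map]
      apply hu
      intro γ
      have := congrArg (fun q : A[X] => q.coeff n) (hc γ)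
      simpa [Polynomial.coeff_map] using this) b
  have h2 := congrArg (fun q : Polynomial Ω => q.coeff (m γ)) hγ
  simp only [Polynomial.coe_mapRingHom, Polynomial.coeff_map, hb] at h2
  exact ha γ h2

end Orbit

section FibOrbit

variable {X : RSpace.{u}} {Ω : Type u} [Field Ω] [IsAlgClosed Ω] (ξ : GeomPt X Ω)

attribute [local instance] algΩ

open CategoryTheory in
/-- the fibres of the map from the fibre of a cover to the fibre of its invariants are orbits -/
theorem fib_inv_orbit {G : Type u} [Group G] [Finite G] (A : Alg X) (hA : A.IsEtCover)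
    (ρ : G → (A ⟶ A)) (h1 : ρ 1 = 𝟙 A) (hmul : ∀ g h, ρ (g * h) = ρ h ≫ ρ g)
    (hP : (invAlg A ρ).IsEtCover) (t t' : ξ.Fib A)
    (h : ξ.fibMap (invIncl A ρ) t = ξ.fibMap (invIncl A ρ) t') : ∃ γ, ξ.fibMap (ρ γ) t = t' := by
  have := Fintype.ofFinite G
  obtain ⟨v, rfl⟩ := (beta ξ A hA).surjective t
  obtain ⟨v', rfl⟩ := (beta ξ A hA).surjective t'
  rw [fibMap_beta ξ hP hA, fibMap_beta ξ hP hA] at h
  have e := (beta ξ (invAlg A ρ) hP).injective h
  obtain ⟨γ, hγ⟩ := exists_eq_comp (fun γ => ((ρ γ).app ξ.base).toRingHom)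
    (by rw [h1]; rfl) (fun g h => by rw [hmul]; rfl) v.toRingHom v'.toRingHom
    (fun c hc => congrArg (fun k : Pt ξ (invAlg A ρ) => k ⟨c, hc⟩) e)
  refine ⟨γ, ?_⟩
  rw [fibMap_beta ξ hA hA]
  congr 1
  apply AlgHom.ext
  intro a
  exact (hγ a).symm

end FibOrbit

end Groth.Agent.Lib.H94FEt
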