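import Groth.Agent.Lib.TorNat
import Groth.Agent.Lib.HomologyFilteredColim
import Mathlib.Algebra.Category.ModuleCat.AB

/-!
# `Tor` commutes with filtered colimits in each variable (helper35)
-/

set_option autoImplicit false

universe u

open CategoryTheory MonoidalCategory Limits

namespace Groth.Agent.Lib.TorColim

open Groth.Agent.Lib.TorLES Groth.Agent.Lib.TorBalance Groth.Agent.Lib.TorNat
  Groth.Agent.Lib.HomologyFilteredColim

variable {R : Type u} [CommRing R]

section preserves

variable (K : ChainComplex (ModuleCat.{u} R) ℕ) (J : Type u) [SmallCategory J]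

instance preservesColimitsOfShape_tensorCx : PreservesColimitsOfShape J (tensorCx K) :=
  HomologicalComplex.preservesColimitsOfShape_of_eval _ (fun i =>
    preservesColimitsOfShape_of_natIso (F := tensorRight (K.X i))
      (NatIso.ofComponents (fun _ => Iso.refl _) (by
        intro M M' f
        simp only [Functor.comp_obj, Functor.comp_map,
          HomologicalComplex.eval_map, Iso.refl_hom]
        exact (Category.comp_id _).trans (Category.id_comp _).symm)))

instance preservesColimitsOfShape_tensorCxR : PreservesColimitsOfShape J (tensorCxR K) :=
  HomologicalComplex.preservesColimitsOfShape_of_eval _ (fun i =>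
    preservesColimitsOfShape_of_natIso (F := tensorLeft (K.X i))
      (NatIso.ofComponents (fun _ => Iso.refl _) (by
        intro M M' f
        simp only [Functor.comp_obj, Functor.comp_map,
          HomologicalComplex.eval_map, Iso.refl_hom]
        exact (Category.comp_id _).trans (Category.id_comp _).symm)))

end preserves

section main

variable (J : Type u) [SmallCategory J] [IsFiltered J]

/-- `Tor_p(-, N)` is naturally `H_p(- ⊗ P)`. -/
noncomputable def torFlipIso {N : ModuleCat.{u} R} (P : ProjectiveResolution N) (p : ℕ) :
    (Tor (ModuleCat.{u} R) p).flip.obj N ≅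
      tensorCx P.complex ⋙ HomologicalComplex.homologyFunctor _ _ p :=
  NatIso.ofComponents (fun M => torIso P M p) (fun f => torIso_hom_naturality P f p)

/-- `M ↦ Tor_p(M, N)` preserves filtered colimits. -/
theorem preservesColimitsOfShape_tor_flip (p : ℕ) (N : ModuleCat.{u} R) :
    PreservesColimitsOfShape J ((Tor (ModuleCat.{u} R) p).flip.obj N) :=
  preservesColimitsOfShape_of_natIso (torFlipIso (ProjectiveResolution.of N) p).symm

/-- `N ↦ Tor_p(M, N)` preserves filtered colimits. -/
theorem preservesColimitsOfShape_tor (p : ℕ) (M : ModuleCat.{u} R) :
    PreservesColimitsOfShape J ((Tor (ModuleCat.{u} R) p).obj M) := by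
  let P := ProjectiveResolution.of M
  have hflat : ∀ i, Module.Flat R (P.complex.X i) := fun _ => flat_of_projective _
  obtain ⟨α⟩ := tor_natIso_of_flatResolution P.complex hflat P.π p
  exact preservesColimitsOfShape_of_natIso α.symm

end main

end Groth.Agent.Lib.TorColim
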