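import Groth.Agent.Lib.TorColim

/-!
# Symmetry of `Tor` as a bifunctor (helper35)

The balancing isomorphisms of `Lib/TorNat` are made canonical and shown to be natural in the
resolved (first) variable as well; as a consequence `Tor n ≅ (Tor n).flip`.
-/

set_option autoImplicit false

universe u

open CategoryTheory MonoidalCategory Limits

namespace Groth.Agent.Lib.TorSymm

open Groth.Agent.Lib.TorLES Groth.Agent.Lib.TorBalance Groth.Agent.Lib.TorNat

variable {R : Type u} [CommRing R]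

/-- The hypotheses making `Q` a flat resolution of `coker (Q₁ ⟶ Q₀)`. -/
structure IsFlatRes (Q : ChainComplex (ModuleCat.{u} R) ℕ) : Prop where
  flat : ∀ i, Module.Flat R (Q.X i)
  exact : ∀ j, Q.ExactAt (j + 1)

section syzMap

variable {Q Q' : ChainComplex (ModuleCat.{u} R) ℕ} (ψ : Q ⟶ Q')

/-- The morphism of syzygy sequences induced by a chain map. -/
noncomputable def syzMap (j : ℕ) : syz Q j ⟶ syz Q' j where
  τ₁ := HomologicalComplex.opcyclesMap ψ (j + 1)
  τ₂ := ψ.f j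
  τ₃ := HomologicalComplex.opcyclesMap ψ j
  comm₁₂ := by
    change HomologicalComplex.opcyclesMap ψ (j + 1) ≫ Q'.fromOpcycles (j + 1) j =
      Q.fromOpcycles (j + 1) j ≫ ψ.f j
    rw [← cancel_epi (Q.pOpcycles (j + 1)), HomologicalComplex.p_opcyclesMap_assoc,
      HomologicalComplex.p_fromOpcycles, HomologicalComplex.p_fromOpcycles_assoc, ψ.comm]
  comm₂₃ := by
    change ψ.f j ≫ Q'.pOpcycles j = Q.pOpcycles j ≫ HomologicalComplex.opcyclesMap ψ j
    rw [HomologicalComplex.p_opcyclesMap]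

end syzMap

section shift

variable {Q Q' : ChainComplex (ModuleCat.{u} R) ℕ} (hQ : IsFlatRes Q) (hQ' : IsFlatRes Q')
  (ψ : Q ⟶ Q')

/-- Naturality of `δNatIso` in the short exact sequence. -/
lemma δNatIso_naturality {S S' : ShortComplex (ModuleCat.{u} R)} (φ : S ⟶ S')
    (hS : S.ShortExact) (hS' : S'.ShortExact) [Module.Flat R S.X₂] [Module.Flat R S'.X₂] (n : ℕ) :
    (Tor (ModuleCat.{u} R) (n + 1 + 1)).map φ.τ₃ ≫ (δNatIso hS' n).hom =
      (δNatIso hS n).hom ≫ (Tor (ModuleCat.{u} R) (n + 1)).map φ.τ₁ := by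
  ext N : 2
  exact (δ_naturality_left (ProjectiveResolution.of N) φ hS hS' (n + 1)).symm

/-- The canonical dimension shifting isomorphism `Tor_{k+1}(C_j, -) ≅ Tor_1(C_m, -)`, `m = j + k`. -/
noncomputable def torShiftIso : ∀ (k j m : ℕ), m = j + k →
    ((Tor (ModuleCat.{u} R) (k + 1)).obj (Q.opcycles j) ≅
      (Tor (ModuleCat.{u} R) (0 + 1)).obj (Q.opcycles m))
  | 0, j, m, h => eqToIso (by
      obtain rfl : m = j := by omega
      rfl)
  | k + 1, j, m, h =>
      haveI : Module.Flat R (syz Q j).X₂ := hQ.flat j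
      δNatIso (syz_shortExact Q j (hQ.exact j)) k ≪≫ torShiftIso k (j + 1) m (by omega)

lemma torShiftIso_naturality : ∀ (k j m : ℕ) (h : m = j + k),
    (Tor (ModuleCat.{u} R) (k + 1)).map (HomologicalComplex.opcyclesMap ψ j) ≫
        (torShiftIso hQ' k j m h).hom =
      (torShiftIso hQ k j m h).hom ≫
        (Tor (ModuleCat.{u} R) (0 + 1)).map (HomologicalComplex.opcyclesMap ψ m)
  | 0, j, m, h => by
      obtain rfl : m = j := by omega
      simp [torShiftIso]
  | k + 1, j, m, h => by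
      have : Module.Flat R (syz Q j).X₂ := hQ.flat j
      have : Module.Flat R (syz Q' j).X₂ := hQ'.flat j
      have h1 := δNatIso_naturality (syzMap ψ j) (syz_shortExact Q j (hQ.exact j))
        (syz_shortExact Q' j (hQ'.exact j)) k
      have h2 := torShiftIso_naturality k (j + 1) m (by omega)
      simp only [torShiftIso, Iso.trans_hom, Category.assoc]
      erw [reassoc_of% h1]
      erw [h2]
      rfl

end shift

section kernelChar

lemma natIsoOfKernel_hom_comp {A : Type*} [Category A] {F₁ F₂ U V : A ⥤ ModuleCat.{u} R}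
    (ι₁ : F₁ ⟶ U) (ι₂ : F₂ ⟶ U) (β : U ⟶ V)
    (w₁ : ∀ X, ι₁.app X ≫ β.app X = 0) (w₂ : ∀ X, ι₂.app X ≫ β.app X = 0)
    (h₁ : ∀ X, (ShortComplex.mk _ _ (w₁ X)).Exact) (h₂ : ∀ X, (ShortComplex.mk _ _ (w₂ X)).Exact)
    (m₁ : ∀ X, Mono (ι₁.app X)) (m₂ : ∀ X, Mono (ι₂.app X)) :
    (natIsoOfKernel ι₁ ι₂ β w₁ w₂ h₁ h₂ m₁ m₂).hom ≫ ι₂ = ι₁ := by
  ext X : 2
  have : Mono (ShortComplex.mk _ _ (w₁ X)).f := m₁ X
  have : Mono (ShortComplex.mk _ _ (w₂ X)).f := m₂ X
  exact IsLimit.conePointUniqueUpToIso_hom_comp (h₁ X).fIsKernel (h₂ X).fIsKernel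
    WalkingParallelPair.zero

end kernelChar

section iotaNat

/-- `ι₁` is natural in the short exact sequence. -/
lemma ι₁_naturality {S S' : ShortComplex (ModuleCat.{u} R)} (φ : S ⟶ S')
    (hS : S.ShortExact) (hS' : S'.ShortExact) :
    (Tor (ModuleCat.{u} R) (0 + 1)).map φ.τ₃ ≫ ι₁ hS' =
      ι₁ hS ≫ (tensoringLeft (ModuleCat.{u} R)).map φ.τ₁ := by
  ext N : 2
  change ((Tor (ModuleCat.{u} R) (0 + 1)).map φ.τ₃).app N ≫ (ι₁ hS').app N =
    (ι₁ hS).app N ≫ φ.τ₁ ▷ N
  rw [ι₁_app, ι₁_app, Category.assoc, ← torZeroIso_hom_naturality, ← Category.assoc,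
    ← Category.assoc, δ_naturality_left (ProjectiveResolution.of N) φ hS hS' 0]

variable {Q Q' : ChainComplex (ModuleCat.{u} R) ℕ} (ψ : Q ⟶ Q')

/-- `tensorCxR` is functorial in the complex. -/
noncomputable def tensorCxRMap : tensorCxR Q ⟶ tensorCxR Q' where
  app N := ((tensorRight N).mapHomologicalComplex _).map ψ
  naturality N N' g := by
    ext i : 1
    exact whisker_exchange (ψ.f i) g

@[simp]
lemma tensorCxRMap_app_f (N : ModuleCat.{u} R) (i : ℕ) :
    ((tensorCxRMap ψ).app N).f i = ψ.f i ▷ N := rfl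

/-- The map `H_m(Q ⊗ -) ⟶ H_m(Q' ⊗ -)` induced by a chain map. -/
noncomputable def HQMap (m : ℕ) : HQ Q m ⟶ HQ Q' m :=
  Functor.whiskerRight (tensorCxRMap ψ) (HomologicalComplex.homologyFunctor _ _ m)

lemma HQMap_app (m : ℕ) (N : ModuleCat.{u} R) :
    (HQMap ψ m).app N = HomologicalComplex.homologyMap ((tensorCxRMap ψ).app N) m := rfl

lemma opcyclesTensorIso_naturality_left (N : ModuleCat.{u} R) (m : ℕ) :
    HomologicalComplex.opcyclesMap ((tensorCxRMap ψ).app N) m ≫ (opcyclesTensorIso Q' N m).hom =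
      (opcyclesTensorIso Q N m).hom ≫ HomologicalComplex.opcyclesMap ψ m ▷ N := by
  apply (cancel_epi ((QN Q N).pOpcycles m)).mp
  have h1 : (QN Q N).pOpcycles m ≫ HomologicalComplex.opcyclesMap ((tensorCxRMap ψ).app N) m =
      ((tensorCxRMap ψ).app N).f m ≫ (QN Q' N).pOpcycles m :=
    HomologicalComplex.p_opcyclesMap _ _
  have h2 : ψ.f m ▷ N ≫ Q'.pOpcycles m ▷ N =
      Q.pOpcycles m ▷ N ≫ HomologicalComplex.opcyclesMap ψ m ▷ N := by
    rw [← comp_whiskerRight, ← comp_whiskerRight, HomologicalComplex.p_opcyclesMap]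
  refine (Category.assoc _ _ _).symm.trans ?_
  refine (congrArg (· ≫ (opcyclesTensorIso Q' N m).hom) h1).trans ?_
  refine (Category.assoc _ _ _).trans ?_
  refine (congrArg (((tensorCxRMap ψ).app N).f m ≫ ·)
    (pOpcycles_opcyclesTensorIso_hom Q' N m)).trans ?_
  refine Eq.trans ?_ (Category.assoc _ _ _)
  refine Eq.trans ?_ (congrArg (· ≫ HomologicalComplex.opcyclesMap ψ m ▷ N)
    (pOpcycles_opcyclesTensorIso_hom Q N m)).symm
  exact h2

/-- `ι₂` is natural in the complex. -/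
lemma ι₂_naturality (m : ℕ) :
    HQMap ψ m ≫ ι₂ Q' m =
      ι₂ Q m ≫ (tensoringLeft (ModuleCat.{u} R)).map (HomologicalComplex.opcyclesMap ψ m) := by
  ext N : 2
  have h1 : HomologicalComplex.homologyMap ((tensorCxRMap ψ).app N) m ≫ (QN Q' N).homologyι m =
      (QN Q N).homologyι m ≫ HomologicalComplex.opcyclesMap ((tensorCxRMap ψ).app N) m :=
    HomologicalComplex.homologyι_naturality _ _
  change HomologicalComplex.homologyMap ((tensorCxRMap ψ).app N) m ≫
      (QN Q' N).homologyι m ≫ (opcyclesTensorIso Q' N m).hom =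
    ((QN Q N).homologyι m ≫ (opcyclesTensorIso Q N m).hom) ≫
      HomologicalComplex.opcyclesMap ψ m ▷ N
  refine (Category.assoc _ _ _).symm.trans ?_
  refine (congrArg (· ≫ (opcyclesTensorIso Q' N m).hom) h1).trans ?_
  refine (Category.assoc _ _ _).trans ?_
  refine (congrArg ((QN Q N).homologyι m ≫ ·) (opcyclesTensorIso_naturality_left ψ N m)).trans ?_
  exact (Category.assoc _ _ _).symm

end iotaNat

section canonical

variable {Q Q' : ChainComplex (ModuleCat.{u} R) ℕ} (hQ : IsFlatRes Q) (hQ' : IsFlatRes Q')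
  (ψ : Q ⟶ Q')

/-- The canonical isomorphism `Tor_1(C_n, -) ≅ H_{n+1}(Q ⊗ -)`. -/
noncomputable def torOneIso (n : ℕ) :
    (Tor (ModuleCat.{u} R) (0 + 1)).obj (Q.opcycles n) ≅ HQ Q (n + 1) :=
  haveI : Module.Flat R (syz Q n).X₂ := hQ.flat n
  natIsoOfKernel (ι₁ (syz_shortExact Q n (hQ.exact n))) (ι₂ Q (n + 1)) (βNat Q n)
    (ι₁_comp _) (ι₂_βNat Q n) (ι₁_exact _) (ι₂_exact Q n) (ι₁_mono _) (ι₂_mono Q (n + 1))

lemma torOneIso_hom_ι₂ (n : ℕ) :
    (torOneIso hQ n).hom ≫ ι₂ Q (n + 1) = ι₁ (syz_shortExact Q n (hQ.exact n)) :=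
  haveI : Module.Flat R (syz Q n).X₂ := hQ.flat n
  natIsoOfKernel_hom_comp _ _ _ _ _ _ _ _ _

lemma torOneIso_naturality (n : ℕ) :
    (Tor (ModuleCat.{u} R) (0 + 1)).map (HomologicalComplex.opcyclesMap ψ n) ≫
        (torOneIso hQ' n).hom =
      (torOneIso hQ n).hom ≫ HQMap ψ (n + 1) := by
  have hm : Mono (ι₂ Q' (n + 1)) := by
    have : ∀ N, Mono ((ι₂ Q' (n + 1)).app N) := ι₂_mono Q' (n + 1)
    exact NatTrans.mono_of_mono_app _
  rw [← cancel_mono (ι₂ Q' (n + 1)), Category.assoc, Category.assoc, torOneIso_hom_ι₂,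
    ι₂_naturality, reassoc_of% (torOneIso_hom_ι₂ hQ n)]
  exact ι₁_naturality (syzMap ψ n) _ _

/-- `Tor_0(M, -) ≅ M ⊗ -` is natural in `M`. -/
lemma torZeroNatIso_naturality {M M' : ModuleCat.{u} R} (f : M ⟶ M') :
    (Tor (ModuleCat.{u} R) 0).map f ≫ (torZeroNatIso M').hom =
      (torZeroNatIso M).hom ≫ (tensoringLeft (ModuleCat.{u} R)).map f := by
  ext N : 2
  exact torZeroIso_hom_naturality f N

lemma tensorLeftIsoHQZero_inv_eq : (tensorLeftIsoHQZero Q).inv = ι₂ Q 0 := by
  ext N : 2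
  rfl

lemma tensorLeftIsoHQZero_naturality :
    (tensoringLeft (ModuleCat.{u} R)).map (HomologicalComplex.opcyclesMap ψ 0) ≫
        (tensorLeftIsoHQZero Q').hom =
      (tensorLeftIsoHQZero Q).hom ≫ HQMap ψ 0 := by
  rw [← cancel_epi (tensorLeftIsoHQZero Q).inv, Iso.inv_hom_id_assoc,
    ← cancel_mono (tensorLeftIsoHQZero Q').inv, Category.assoc, Category.assoc, Iso.hom_inv_id,
    Category.comp_id, tensorLeftIsoHQZero_inv_eq, tensorLeftIsoHQZero_inv_eq, ι₂_naturality]

/-- The canonical isomorphism `Tor_n(C_0, -) ≅ H_n(Q ⊗ -)`. -/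
noncomputable def torIsoHQ : ∀ (n : ℕ), (Tor (ModuleCat.{u} R) n).obj (Q.opcycles 0) ≅ HQ Q n
  | 0 => torZeroNatIso _ ≪≫ tensorLeftIsoHQZero Q
  | n + 1 => torShiftIso hQ n 0 n (by omega) ≪≫ torOneIso hQ n

lemma torIsoHQ_naturality : ∀ (n : ℕ),
    (Tor (ModuleCat.{u} R) n).map (HomologicalComplex.opcyclesMap ψ 0) ≫ (torIsoHQ hQ' n).hom =
      (torIsoHQ hQ n).hom ≫ HQMap ψ n
  | 0 => by
      simp only [torIsoHQ, Iso.trans_hom, Category.assoc]
      rw [← tensorLeftIsoHQZero_naturality, reassoc_of% (torZeroNatIso_naturality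
        (HomologicalComplex.opcyclesMap ψ 0))]
  | n + 1 => by
      simp only [torIsoHQ, Iso.trans_hom, Category.assoc]
      rw [← torOneIso_naturality hQ hQ' ψ n,
        reassoc_of% (torShiftIso_naturality hQ hQ' ψ n 0 n (by omega))]

end canonical

section theta

variable {Q Q' : ChainComplex (ModuleCat.{u} R) ℕ} {M M' : ModuleCat.{u} R}
  (φ : Q ⟶ (ChainComplex.single₀ (ModuleCat.{u} R)).obj M)
  (φ' : Q' ⟶ (ChainComplex.single₀ (ModuleCat.{u} R)).obj M') [QuasiIso φ] [QuasiIso φ']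

/-- Naturality of `opcyclesZeroIso`. -/
lemma opcyclesZeroIso_naturality (ψ : Q ⟶ Q') (f : M ⟶ M')
    (comm : ψ ≫ φ' = φ ≫ (ChainComplex.single₀ (ModuleCat.{u} R)).map f) :
    HomologicalComplex.opcyclesMap ψ 0 ≫ (opcyclesZeroIso Q' φ').hom =
      (opcyclesZeroIso Q φ).hom ≫ f := by
  have h1 : HomologicalComplex.homologyMap ψ 0 ≫ HomologicalComplex.homologyMap φ' 0 =
      HomologicalComplex.homologyMap φ 0 ≫
        HomologicalComplex.homologyMap ((ChainComplex.single₀ (ModuleCat.{u} R)).map f) 0 := by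
    rw [← HomologicalComplex.homologyMap_comp, comm, HomologicalComplex.homologyMap_comp]
  simp only [opcyclesZeroIso, Iso.trans_hom, Iso.symm_hom, Category.assoc]
  rw [← ChainComplex.isoHomologyι₀_inv_naturality_assoc]
  congr 1
  change HomologicalComplex.homologyMap ψ 0 ≫ HomologicalComplex.homologyMap φ' 0 ≫ _ =
    HomologicalComplex.homologyMap φ 0 ≫ _ ≫ f
  rw [reassoc_of% h1, HomologicalComplex.singleObjHomologySelfIso_hom_naturality]

end theta

section braid

variable (Q : ChainComplex (ModuleCat.{u} R) ℕ)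

/-- The braiding `Q ⊗ N ≅ N ⊗ Q`, natural in `N`. -/
noncomputable def braidCx : tensorCxR Q ≅ tensorCx Q :=
  NatIso.ofComponents
    (fun N => HomologicalComplex.Hom.isoOfComponents (fun i => β_ (Q.X i) N)
      (fun i j _ => (BraidedCategory.braiding_naturality_left (Q.d i j) N).symm))
    (fun {N N'} g => by
      ext i : 1
      exact BraidedCategory.braiding_naturality_right (Q.X i) g)

variable {Q} {Q' : ChainComplex (ModuleCat.{u} R) ℕ} (ψ : Q ⟶ Q')

lemma braidCx_naturality :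
    tensorCxRMap ψ ≫ (braidCx Q').hom = (braidCx Q).hom ≫ tensorCxMap ψ := by
  ext N i : 3
  exact BraidedCategory.braiding_naturality_left (ψ.f i) N

/-- `H_n(Q ⊗ -) ≅ H_n(- ⊗ Q)`. -/
noncomputable def braidH (Q : ChainComplex (ModuleCat.{u} R) ℕ) (n : ℕ) :
    HQ Q n ≅ tensorCx Q ⋙ HomologicalComplex.homologyFunctor _ _ n :=
  Functor.isoWhiskerRight (braidCx Q) (HomologicalComplex.homologyFunctor _ _ n)

lemma braidH_naturality (n : ℕ) :
    HQMap ψ n ≫ (braidH Q' n).hom = (braidH Q n).hom ≫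
      Functor.whiskerRight (tensorCxMap ψ) (HomologicalComplex.homologyFunctor _ _ n) := by
  simp only [HQMap, braidH, Functor.isoWhiskerRight_hom, ← Functor.whiskerRight_comp,
    braidCx_naturality]

end braid

section flip

variable {N N' : ModuleCat.{u} R} (g : N ⟶ N') (P : ProjectiveResolution N)
  (P' : ProjectiveResolution N') (φ : P.complex ⟶ P'.complex)
  (comm : φ.f 0 ≫ P'.π.f 0 = P.π.f 0 ≫ g)

include comm in
lemma torFlipIso_hom_naturality (n : ℕ) :
    (Tor (ModuleCat.{u} R) n).flip.map g ≫ (Groth.Agent.Lib.TorColim.torFlipIso P' n).hom =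
      (Groth.Agent.Lib.TorColim.torFlipIso P n).hom ≫
        Functor.whiskerRight (tensorCxMap φ) (HomologicalComplex.homologyFunctor _ _ n) := by
  ext M : 2
  exact torIso_hom_naturality_right g P P' φ comm M n

include comm in
lemma torFlipIso_inv_naturality (n : ℕ) :
    Functor.whiskerRight (tensorCxMap φ) (HomologicalComplex.homologyFunctor _ _ n) ≫
        (Groth.Agent.Lib.TorColim.torFlipIso P' n).inv =
      (Groth.Agent.Lib.TorColim.torFlipIso P n).inv ≫ (Tor (ModuleCat.{u} R) n).flip.map g := by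
  rw [Iso.eq_inv_comp, ← Category.assoc, Iso.comp_inv_eq, torFlipIso_hom_naturality g P P' φ comm]

end flip

section main

lemma isFlatRes_of_projectiveResolution {M : ModuleCat.{u} R} (P : ProjectiveResolution M) :
    IsFlatRes P.complex where
  flat _ := flat_of_projective _
  exact := exactAt_succ_of_quasiIso P.complex P.π

/-- The component at `M` of the symmetry isomorphism. -/
noncomputable def torSymmApp (n : ℕ) (M : ModuleCat.{u} R) :
    (Tor (ModuleCat.{u} R) n).obj M ≅ (Tor (ModuleCat.{u} R) n).flip.obj M :=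
  (Tor (ModuleCat.{u} R) n).mapIso
      (opcyclesZeroIso (ProjectiveResolution.of M).complex (ProjectiveResolution.of M).π).symm ≪≫
    torIsoHQ (isFlatRes_of_projectiveResolution (ProjectiveResolution.of M)) n ≪≫
    braidH (ProjectiveResolution.of M).complex n ≪≫
    (Groth.Agent.Lib.TorColim.torFlipIso (ProjectiveResolution.of M) n).symm

lemma torSymmApp_naturality (n : ℕ) {M M' : ModuleCat.{u} R} (f : M ⟶ M') :
    (Tor (ModuleCat.{u} R) n).map f ≫ (torSymmApp n M').hom =
      (torSymmApp n M).hom ≫ (Tor (ModuleCat.{u} R) n).flip.map f := by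
  let P := ProjectiveResolution.of M
  let P' := ProjectiveResolution.of M'
  let ψ : P.complex ⟶ P'.complex := ProjectiveResolution.lift f P P'
  have h0 : HomologicalComplex.opcyclesMap ψ 0 ≫ (opcyclesZeroIso P'.complex P'.π).hom =
      (opcyclesZeroIso P.complex P.π).hom ≫ f :=
    opcyclesZeroIso_naturality P.π P'.π ψ f (ProjectiveResolution.lift_commutes f P P')
  have h1 : (Tor (ModuleCat.{u} R) n).map f ≫
      (Tor (ModuleCat.{u} R) n).map (opcyclesZeroIso P'.complex P'.π).inv =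
      (Tor (ModuleCat.{u} R) n).map (opcyclesZeroIso P.complex P.π).inv ≫
        (Tor (ModuleCat.{u} R) n).map (HomologicalComplex.opcyclesMap ψ 0) := by
    rw [← Functor.map_comp, ← Functor.map_comp]
    congr 1
    rw [Iso.eq_inv_comp, ← Category.assoc, Iso.comp_inv_eq, h0]
  have h2 := torIsoHQ_naturality (isFlatRes_of_projectiveResolution P)
    (isFlatRes_of_projectiveResolution P') ψ n
  have h3 := braidH_naturality ψ n
  have h4 := torFlipIso_inv_naturality f P P' ψ
    (ProjectiveResolution.lift_commutes_zero f P P') n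
  simp only [torSymmApp, Iso.trans_hom, Functor.mapIso_hom, Iso.symm_hom, Category.assoc]
  rw [reassoc_of% h1, reassoc_of% h2, reassoc_of% h3, h4]

/-- **`Tor` is symmetric as a bifunctor.** -/
noncomputable def torSymm (n : ℕ) :
    Tor (ModuleCat.{u} R) n ≅ (Tor (ModuleCat.{u} R) n).flip :=
  NatIso.ofComponents (torSymmApp n) (fun f => torSymmApp_naturality n f)

end main

end Groth.Agent.Lib.TorSymm
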