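/-
Helper library (helper94): perfect rings of characteristic `p` (`Perf p R`, allowing the zero ring),
perfect ideals `Perf.PI`, perfectness of quotients and tensor products, flatness of `(f^{1/p^∞})`,
Tor-vanishing predicate `TV`, the one-generator case `TV_onegen` and change of rings
`TV_changeOfRings` (towards Bhatt–Scholze 3.16, S14252).
-/
import Mathlib
import Groth.Agent.Lib.TorBC
import Groth.Agent.Lib.TorColim
import Groth.Agent.Lib.TorSymm
set_option autoImplicit false
set_option maxHeartbeats 400000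
set_option linter.style.haveILetI false
set_option linter.unusedSectionVars false

namespace Groth.Agent.Lib.H94PerfTor
universe u v
open CategoryTheory

theorem add_pow_of_p0 {p : ℕ} [hp : Fact p.Prime] {R : Type*} [CommRing R] (h0 : (p : R) = 0)
    (x y : R) : (x + y) ^ p = x ^ p + y ^ p := by
  rw [add_pow_prime_eq hp.out, h0]
  ring

/-- perfect ring of characteristic `p` (allowing the zero ring) -/
structure Perf (p : ℕ) (R : Type*) [CommRing R] : Prop where
  p0 : (p : R) = 0
  bij : Function.Bijective (fun a : R => a ^ p)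

namespace Perf
variable {p : ℕ} [hp : Fact p.Prime] {R : Type*} [CommRing R] (h : Perf p R)
include h

theorem add_pow (x y : R) : (x + y) ^ p = x ^ p + y ^ p := by
  rw [add_pow_prime_eq hp.out, h.p0]
  ring

theorem sub_pow (x y : R) : (x - y) ^ p = x ^ p - y ^ p := by
  have := h.add_pow (x - y) y
  rw [sub_add_cancel] at this
  rw [this]; ring

theorem eq_zero_of_pow {x : R} (hx : x ^ p = 0) : x = 0 := by
  apply h.bij.1
  show x ^ p = 0 ^ p
  rw [hx, zero_pow hp.out.ne_zero]

/-- the `p`-th root -/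
noncomputable def root (x : R) : R := (Equiv.ofBijective _ h.bij).symm x

theorem root_pow (x : R) : h.root x ^ p = x :=
  (Equiv.ofBijective _ h.bij).apply_symm_apply x

theorem root_of_pow (x : R) : h.root (x ^ p) = x :=
  (Equiv.ofBijective _ h.bij).symm_apply_apply x

theorem root_eq_iff {x y : R} : h.root x = y ↔ x = y ^ p := by
  constructor
  · rintro rfl; exact (h.root_pow x).symm
  · rintro rfl; exact h.root_of_pow y

theorem root_zero : h.root 0 = 0 := by
  rw [root_eq_iff, zero_pow hp.out.ne_zero]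

theorem root_one : h.root 1 = 1 := by
  rw [root_eq_iff, one_pow]

theorem root_mul (x y : R) : h.root (x * y) = h.root x * h.root y := by
  rw [root_eq_iff, mul_pow, root_pow, root_pow]

theorem root_add (x y : R) : h.root (x + y) = h.root x + h.root y := by
  rw [root_eq_iff, h.add_pow, root_pow, root_pow]

/-- iterated roots -/
noncomputable def rt (n : ℕ) (x : R) : R := (h.root)^[n] x

theorem rt_zero (x : R) : h.rt 0 x = x := rfl

theorem rt_succ (n : ℕ) (x : R) : h.rt (n + 1) x = h.root (h.rt n x) := by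
  unfold rt
  rw [Function.iterate_succ_apply']

theorem rt_succ_pow (n : ℕ) (x : R) : h.rt (n + 1) x ^ p = h.rt n x := by
  rw [rt_succ, root_pow]

/-- `f_n = f_{n+1} * f_{n+1}^(p-1)` -/
theorem rt_eq_mul (n : ℕ) (x : R) : h.rt n x = h.rt (n + 1) x * h.rt (n + 1) x ^ (p - 1) := by
  rw [← pow_succ', Nat.sub_add_cancel hp.out.one_le, rt_succ_pow]

theorem rt_dvd {m n : ℕ} (hmn : m ≤ n) (x : R) : h.rt n x ∣ h.rt m x := by
  induction n, hmn using Nat.le_induction with
  | base => exact dvd_rfl
  | succ k _ ih => exact (Dvd.intro _ (h.rt_eq_mul k x).symm).trans ih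

/-- ideals stable under `p`-th roots give perfect quotients -/
theorem quotient (K : Ideal R) (hK : ∀ x, x ^ p ∈ K → x ∈ K) : Perf p (R ⧸ K) := by
  refine ⟨?_, ?_, ?_⟩
  · rw [← map_natCast (Ideal.Quotient.mk K), h.p0, map_zero]
  · intro a b hab
    obtain ⟨x, rfl⟩ := Ideal.Quotient.mk_surjective a
    obtain ⟨y, rfl⟩ := Ideal.Quotient.mk_surjective b
    simp only at hab
    rw [← map_pow, ← map_pow, Ideal.Quotient.eq, ← h.sub_pow] at hab
    exact Ideal.Quotient.eq.mpr (hK _ hab)
  · intro a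
    obtain ⟨x, rfl⟩ := Ideal.Quotient.mk_surjective a
    refine ⟨Ideal.Quotient.mk K (h.root x), ?_⟩
    simp only
    rw [← map_pow, root_pow]

/-- the span of a root-closed set is root-closed -/
theorem span_rootClosed (G : Set R) (hG : ∀ g ∈ G, h.root g ∈ G) (x : R)
    (hx : x ^ p ∈ Ideal.span G) : x ∈ Ideal.span G := by
  have key : ∀ y ∈ Ideal.span G, h.root y ∈ Ideal.span G := by
    intro y hy
    induction hy using Submodule.span_induction with
    | mem y hy => exact Ideal.subset_span (hG y hy)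
    | zero => rw [root_zero]; exact zero_mem _
    | add a b _ _ ha hb => rw [root_add]; exact add_mem ha hb
    | smul c y _ hy => rw [smul_eq_mul, root_mul]; exact Ideal.mul_mem_left _ _ hy
  have := key _ hx
  rwa [root_of_pow] at this

/-- the perfect ideal generated by a set -/
noncomputable def PI (G : Set R) : Ideal R := Ideal.span {x | ∃ g ∈ G, ∃ n, h.rt n g = x}

theorem PI_rootClosed (G : Set R) (x : R) (hx : x ^ p ∈ h.PI G) : x ∈ h.PI G := by
  refine h.span_rootClosed _ ?_ x hx
  rintro _ ⟨g, hg, n, rfl⟩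
  exact ⟨g, hg, n + 1, h.rt_succ n g⟩

theorem subset_PI (G : Set R) : G ⊆ h.PI G := fun g hg =>
  Ideal.subset_span ⟨g, hg, 0, rfl⟩

theorem rt_mem_PI (G : Set R) {g : R} (hg : g ∈ G) (n : ℕ) : h.rt n g ∈ h.PI G :=
  Ideal.subset_span ⟨g, hg, n, rfl⟩

theorem PI_mono {G G' : Set R} (hGG : G ⊆ G') : h.PI G ≤ h.PI G' := by
  apply Ideal.span_mono
  rintro _ ⟨g, hg, n, rfl⟩
  exact ⟨g, hGG hg, n, rfl⟩

theorem PI_le {G : Set R} {K : Ideal R} (hK : ∀ x, x ^ p ∈ K → x ∈ K) (hG : G ⊆ K) :
    h.PI G ≤ K := by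
  rw [PI, Ideal.span_le]
  rintro _ ⟨g, hg, n, rfl⟩
  induction n with
  | zero => exact hG hg
  | succ k ih =>
    apply hK
    rw [rt_succ_pow]
    exact ih

theorem PI_union (G G' : Set R) : h.PI (G ∪ G') = h.PI G ⊔ h.PI G' := by
  apply le_antisymm
  · rw [PI, Ideal.span_le]
    rintro _ ⟨g, hg | hg, n, rfl⟩
    · exact Ideal.mem_sup_left (h.rt_mem_PI G hg n)
    · exact Ideal.mem_sup_right (h.rt_mem_PI G' hg n)
  · exact sup_le (h.PI_mono Set.subset_union_left) (h.PI_mono Set.subset_union_right)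

theorem PI_empty : h.PI (∅ : Set R) = ⊥ := by
  rw [PI, Ideal.span_eq_bot]
  rintro _ ⟨g, hg, _⟩
  exact absurd hg (Set.notMem_empty g)

theorem quotient_PI (G : Set R) : Perf p (R ⧸ h.PI G) := h.quotient _ (h.PI_rootClosed G)

end Perf

section onegen
open TensorProduct
variable {p : ℕ} [hp : Fact p.Prime] {A : Type u} [CommRing A] (h : Perf p A) (f : A)

/-- the ideal `(f^{1/p^∞})` -/
noncomputable abbrev I1 : Ideal A := h.PI {f}

theorem rt_mem_I1 (n : ℕ) : h.rt n f ∈ I1 h f := h.rt_mem_PI _ (Set.mem_singleton f) n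

theorem mem_I1 {a : A} (ha : a ∈ I1 h f) : ∃ (n : ℕ) (b : A), a = b * h.rt n f := by
  induction ha using Submodule.span_induction with
  | mem y hy =>
    obtain ⟨g, hg, n, rfl⟩ := hy
    rw [Set.mem_singleton_iff] at hg
    subst hg
    exact ⟨n, 1, (one_mul _).symm⟩
  | zero => exact ⟨0, 0, (zero_mul _).symm⟩
  | add a b _ _ ha hb =>
    obtain ⟨n, c, rfl⟩ := ha
    obtain ⟨m, d, rfl⟩ := hb
    obtain ⟨u, hu⟩ := h.rt_dvd (le_max_left n m) f
    obtain ⟨v, hv⟩ := h.rt_dvd (le_max_right n m) f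
    refine ⟨max n m, c * u + d * v, ?_⟩
    rw [hu, hv]; ring
  | smul c y _ hy =>
    obtain ⟨n, b, rfl⟩ := hy
    exact ⟨n, c * b, by rw [smul_eq_mul]; ring⟩

/-- the generator `f^{1/p^n}` as an element of the ideal -/
noncomputable def gen (n : ℕ) : I1 h f := ⟨h.rt n f, rt_mem_I1 h f n⟩

theorem gen_eq_smul (n : ℕ) : gen h f n = (h.rt (n + 1) f ^ (p - 1)) • gen h f (n + 1) := by
  apply Subtype.ext
  show h.rt n f = h.rt (n + 1) f ^ (p - 1) * h.rt (n + 1) f
  rw [h.rt_eq_mul n f]; ring

theorem gen_eq_smul_of_le {m n : ℕ} (hmn : m ≤ n) : ∃ u : A, gen h f m = u • gen h f n := by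
  obtain ⟨u, hu⟩ := h.rt_dvd hmn f
  refine ⟨u, Subtype.ext ?_⟩
  show h.rt m f = u * h.rt n f
  rw [hu]; ring

variable (N : Type v) [AddCommGroup N] [Module A N]

/-- every element of `I ⊗ N` is a pure tensor `f^{1/p^n} ⊗ x` -/
theorem exists_pure (z : I1 h f ⊗[A] N) : ∃ (n : ℕ) (x : N), z = gen h f n ⊗ₜ x := by
  induction z with
  | zero => exact ⟨0, 0, (tmul_zero _ _).symm⟩
  | tmul a x =>
    obtain ⟨n, b, hb⟩ := mem_I1 h f a.2
    refine ⟨n, b • x, ?_⟩
    have : a = b • gen h f n := Subtype.ext hb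
    rw [this, smul_tmul]
  | add z w hz hw =>
    obtain ⟨n, x, rfl⟩ := hz
    obtain ⟨m, y, rfl⟩ := hw
    obtain ⟨u, hu⟩ := gen_eq_smul_of_le h f (le_max_left n m)
    obtain ⟨v, hv⟩ := gen_eq_smul_of_le h f (le_max_right n m)
    refine ⟨max n m, u • x + v • y, ?_⟩
    rw [hu, hv, smul_tmul, smul_tmul, tmul_add]

/-- the key injectivity -/
theorem rTensor_injective
    (hN : ∀ (n : ℕ) (x : N), h.rt n f • x = 0 → h.rt (n + 1) f • x = 0) :
    Function.Injective (LinearMap.rTensor N (Submodule.subtype (I1 h f))) := by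
  rw [injective_iff_map_eq_zero]
  intro z hz
  obtain ⟨n, x, rfl⟩ := exists_pure h f N z
  rw [LinearMap.rTensor_tmul] at hz
  have h1 : h.rt n f • x = 0 := by
    have := congrArg (TensorProduct.lid A N) hz
    rwa [map_zero, TensorProduct.lid_tmul] at this
  have h2 := hN n x h1
  rw [gen_eq_smul, smul_tmul]
  have hp1 : p - 1 = (p - 2) + 1 := by have := hp.out.two_le; omega
  rw [hp1, pow_succ, mul_smul, h2, smul_zero, tmul_zero]

/-- reducedness consequence in a perfect algebra -/
theorem smul_eq_zero_step {C : Type v} [CommRing C] [Algebra A C] (hC : Perf p C) (n : ℕ) (x : C)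
    (hx : h.rt n f • x = 0) : h.rt (n + 1) f • x = 0 := by
  apply hC.eq_zero_of_pow
  rw [Algebra.smul_def] at hx ⊢
  rw [mul_pow, ← map_pow, h.rt_succ_pow]
  have hp1 : x ^ p = x ^ (p - 1) * x := by
    rw [← pow_succ, Nat.sub_add_cancel hp.out.one_le]
  rw [hp1, ← mul_assoc, mul_comm _ (x ^ (p - 1)), mul_assoc, hx, mul_zero]

theorem I1_flat : Module.Flat A (I1 h f) := by
  rw [Module.Flat.iff_lTensor_injective']
  intro J
  have hJ : ∀ (n : ℕ) (x : J), h.rt n f • x = 0 → h.rt (n + 1) f • x = 0 := by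
    intro n x hx
    apply Subtype.ext
    have hx' : h.rt n f • (x : A) = 0 := congrArg Subtype.val hx
    exact smul_eq_zero_step h f h n (x : A) hx'
  have h1 := rTensor_injective h f J hJ
  have h2 : Function.Injective (LinearMap.lTensor A (Submodule.subtype J)) :=
    Module.Flat.lTensor_preserves_injective_linearMap _ (Submodule.injective_subtype J)
  have h3 : (LinearMap.rTensor A (Submodule.subtype (I1 h f))) ∘ₗ
      (LinearMap.lTensor (I1 h f) (Submodule.subtype J)) =
      (LinearMap.lTensor A (Submodule.subtype J)) ∘ₗ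
        (LinearMap.rTensor J (Submodule.subtype (I1 h f))) := by
    rw [LinearMap.rTensor_comp_lTensor, LinearMap.lTensor_comp_rTensor]
  have h4 : Function.Injective ((LinearMap.rTensor A (Submodule.subtype (I1 h f))) ∘ₗ
      (LinearMap.lTensor (I1 h f) (Submodule.subtype J))) := by
    rw [h3]
    exact h2.comp h1
  exact Function.Injective.of_comp h4

end onegen

section tensor
open TensorProduct
variable {p : ℕ} [hp : Fact p.Prime] {A A' C : Type*} [CommRing A] [CommRing A'] [CommRing C]
  [Algebra A A'] [Algebra A C]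

theorem root_algebraMap (hA : Perf p A) (hA' : Perf p A') (a : A) :
    hA'.root (algebraMap A A' a) = algebraMap A A' (hA.root a) := by
  rw [Perf.root_eq_iff, ← map_pow, hA.root_pow]

theorem root_smul (hA : Perf p A) (hA' : Perf p A') (a : A) (x : A') :
    hA'.root (a • x) = hA.root a • hA'.root x := by
  rw [Algebra.smul_def, Algebra.smul_def, hA'.root_mul, root_algebraMap hA hA']

/-- the inverse of Frobenius on a tensor product -/
noncomputable def tensorRoot (hA : Perf p A) (hA' : Perf p A') (hC : Perf p C) :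
    A' ⊗[A] C →+ A' ⊗[A] C :=
  TensorProduct.liftAddHom
    (AddMonoidHom.mk' (fun a' => AddMonoidHom.mk' (fun c => hA'.root a' ⊗ₜ[A] hC.root c)
      (fun c c' => by rw [hC.root_add, tmul_add]))
      (fun a a' => by
        ext c
        simp only [AddMonoidHom.mk'_apply, AddMonoidHom.add_apply]
        rw [hA'.root_add, add_tmul]))
    (fun a a' c => by
      simp only [AddMonoidHom.mk'_apply]
      rw [root_smul hA hA', root_smul hA hC, smul_tmul])

theorem tensorRoot_tmul (hA : Perf p A) (hA' : Perf p A') (hC : Perf p C) (a' : A') (c : C) :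
    tensorRoot hA hA' hC (a' ⊗ₜ c) = hA'.root a' ⊗ₜ hC.root c := by
  simp [tensorRoot]

theorem tensor_p0 (hA' : Perf p A') : (p : A' ⊗[A] C) = 0 := by
  rw [← map_natCast (algebraMap A' (A' ⊗[A] C)) p, hA'.p0, map_zero]

theorem tensorRoot_pow (hA : Perf p A) (hA' : Perf p A') (hC : Perf p C) (x : A' ⊗[A] C) :
    tensorRoot hA hA' hC (x ^ p) = x := by
  induction x with
  | zero => rw [zero_pow hp.out.ne_zero, map_zero]
  | tmul a' c =>
    rw [Algebra.TensorProduct.tmul_pow, tensorRoot_tmul, hA'.root_of_pow, hC.root_of_pow]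
  | add x y hx hy =>
    rw [add_pow_of_p0 (tensor_p0 hA'), map_add, hx, hy]

theorem Perf.tensor (hA : Perf p A) (hA' : Perf p A') (hC : Perf p C) : Perf p (A' ⊗[A] C) := by
  refine ⟨tensor_p0 hA', ?_, ?_⟩
  · intro x y hxy
    simp only at hxy
    rw [← tensorRoot_pow hA hA' hC x, hxy, tensorRoot_pow]
  · intro z
    induction z with
    | zero => exact ⟨0, zero_pow hp.out.ne_zero⟩
    | tmul a' c =>
      refine ⟨hA'.root a' ⊗ₜ hC.root c, ?_⟩
      simp only
      rw [Algebra.TensorProduct.tmul_pow, hA'.root_pow, hC.root_pow]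
    | add x y hx hy =>
      obtain ⟨x', rfl⟩ := hx
      obtain ⟨y', rfl⟩ := hy
      exact ⟨x' + y', add_pow_of_p0 (tensor_p0 hA') x' y'⟩

end tensor

section cat
open Limits MonoidalCategory
open Groth.Agent.Lib.TorLES Groth.Agent.Lib.TorBalance
variable {p : ℕ} [hp : Fact p.Prime] {A : Type u} [CommRing A]

/-- Tor-vanishing predicate -/
def TV (A : Type u) [CommRing A] (M N : ModuleCat.{u} A) : Prop :=
  ∀ n : ℕ, IsZero (((Tor (ModuleCat.{u} A) (n + 1)).obj M).obj N)

theorem TV.symm {M N : ModuleCat.{u} A} (h : TV A M N) : TV A N M := fun n => isZero_tor_symm (h n)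

theorem TV.of_iso_left {M M' N : ModuleCat.{u} A} (e : M ≅ M') (h : TV A M' N) : TV A M N :=
  fun n => isZero_tor_of_iso e (n + 1) (h n)

theorem TV.of_iso_right {M N N' : ModuleCat.{u} A} (e : N ≅ N') (h : TV A M N') : TV A M N :=
  (TV.of_iso_left e h.symm).symm

theorem TV.of_flat (M N : ModuleCat.{u} A) [Module.Flat A M] : TV A M N :=
  fun n => isZero_tor_succ_of_flat_left M N n

/-- quotient short exact sequence -/
noncomputable def quotSC (I : Ideal A) : ShortComplex (ModuleCat.{u} A) :=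
  ShortComplex.mk (ModuleCat.ofHom (Submodule.subtype I) : ModuleCat.of A I ⟶ ModuleCat.of A A)
    (ModuleCat.ofHom (Submodule.mkQ I) : ModuleCat.of A A ⟶ ModuleCat.of A (A ⧸ I)) (by
      rw [← ModuleCat.ofHom_comp]
      have : Submodule.mkQ I ∘ₗ Submodule.subtype I = 0 := by
        ext x
        exact (Submodule.Quotient.mk_eq_zero I).mpr x.2
      rw [this]; rfl)

theorem quotSC_shortExact (I : Ideal A) : (quotSC I).ShortExact := by
  exact ModuleCat.shortComplex_shortExact _ (LinearMap.exact_subtype_mkQ I)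
    (Submodule.injective_subtype I) (Submodule.mkQ_surjective I)

/-- the one-generator case -/
theorem TV_onegen (h : Perf p A) (f : A) (C : Type u) [CommRing C] [Algebra A C] (hC : Perf p C) :
    TV A (ModuleCat.of A (A ⧸ I1 h f)) (ModuleCat.of A C) := by
  intro n
  have hS := quotSC_shortExact (I1 h f)
  have hflatI : Module.Flat A (I1 h f) := I1_flat h f
  have hflatI' : Module.Flat A ((quotSC (I1 h f)).X₁) := hflatI
  have hflatA : Module.Flat A ((quotSC (I1 h f)).X₂) := (inferInstance : Module.Flat A A)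
  cases n with
  | zero =>
    have e := torOneIsoKernel hS (ModuleCat.of A C)
    refine IsZero.of_iso ?_ e
    have hmono : Mono ((quotSC (I1 h f)).f ▷ (ModuleCat.of A C)) := by
      rw [ModuleCat.mono_iff_injective]
      exact rTensor_injective h f C (fun n x hx => smul_eq_zero_step h f hC n x hx)
    exact isZero_kernel_of_mono _
  | succ m =>
    exact isZero_tor_X₃ hS (m + 1) (isZero_tor_succ_of_flat_left _ _ (m + 1))
      (isZero_tor_succ_of_flat_left _ _ m)

section cr
open Groth.Agent.Lib.TFunCompare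

/-- change of rings -/
theorem TV_changeOfRings (A' : Type u) [CommRing A'] [Algebra A A'] (C : ModuleCat.{u} A)
    (h1 : TV A (ModuleCat.of A A') C) (M : ModuleCat.{u} A')
    (h2 : TV A' M ((FB (A := A) A').obj C)) :
    TV A ((RB (A := A) A').obj M) C := by
  intro n
  apply isZero_tor_symm
  have hP : ∀ q : ℕ, 0 < q →
      IsZero (((Tor (ModuleCat.{u} A) q).obj C).obj (ModuleCat.of A A')) := by
    intro q hq
    obtain ⟨q', rfl⟩ := Nat.exists_eq_succ_of_ne_zero hq.ne'
    exact isZero_tor_symm (h1 q')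
  obtain ⟨e⟩ := Groth.Agent.Lib.TorBC.tor_bc A' C hP M (n + 1)
  refine IsZero.of_iso ?_ e
  exact (RB (A := A) A').map_isZero (isZero_tor_symm (h2 n))

end cr

end cat

end Groth.Agent.Lib.H94PerfTor
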