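/-
Helper library (helper94): Tor-vanishing for perfect rings (Bhatt–Scholze 3.16):
`TV_finite` (quotient by a finitely generated perfect ideal), `TV_quotient` (any perfect ideal, via
filtered colimits), `main` (`Tor_i^A(B, C) = 0` for `i > 0`, `A → B`, `A → C` perfect of char. `p`).
-/
import Mathlib
import Groth.Agent.Lib.H94PerfTor
set_option autoImplicit false
set_option maxHeartbeats 400000
set_option linter.style.haveILetI false
set_option linter.unusedSectionVars false

namespace Groth.Agent.Lib.H94PerfTor2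
universe u v
open CategoryTheory Limits MonoidalCategory TensorProduct
open Groth.Agent.Lib.H94PerfTor
open Groth.Agent.Lib.TorLES Groth.Agent.Lib.TorBalance Groth.Agent.Lib.TFunCompare

section maps
variable {p : ℕ} [hp : Fact p.Prime] {R R' : Type*} [CommRing R] [CommRing R']
  (h : Perf p R) (h' : Perf p R') (φ : R →+* R')

theorem root_map (x : R) : h'.root (φ x) = φ (h.root x) := by
  rw [Perf.root_eq_iff, ← map_pow, h.root_pow]

theorem rt_map (n : ℕ) (x : R) : h'.rt n (φ x) = φ (h.rt n x) := by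
  induction n with
  | zero => rfl
  | succ k ih => rw [Perf.rt_succ, Perf.rt_succ, ih, root_map h h']

theorem PI_map (G : Set R) : (h.PI G).map φ = h'.PI (φ '' G) := by
  rw [Perf.PI, Perf.PI, Ideal.map_span]
  congr 1
  ext y
  constructor
  · rintro ⟨_, ⟨g, hg, n, rfl⟩, rfl⟩
    exact ⟨φ g, ⟨g, hg, rfl⟩, n, rt_map h h' φ n g⟩
  · rintro ⟨_, ⟨g, hg, rfl⟩, n, rfl⟩
    exact ⟨h.rt n g, ⟨g, hg, n, rfl⟩, (rt_map h h' φ n g).symm⟩

end maps

section rb
variable {A : Type u} [CommRing A] (A' : Type u) [CommRing A'] [Algebra A A']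

/-- restriction of scalars of a module with compatible structures -/
noncomputable def rbEquiv (X : Type u) [AddCommGroup X] [Module A' X] [Module A X]
    [IsScalarTower A A' X] :
    ((RB (A := A) A').obj (ModuleCat.of A' X)) ≃ₗ[A] X where
  toFun x := x
  invFun x := x
  map_add' _ _ := rfl
  map_smul' a x := by
    rw [ModuleCat.restrictScalars.smul_def (M := ModuleCat.of A' X)]
    exact algebraMap_smul A' a _
  left_inv _ := rfl
  right_inv _ := rfl

/-- restriction of scalars of a module with compatible structures -/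
noncomputable def rbIso (X : Type u) [AddCommGroup X] [Module A' X] [Module A X]
    [IsScalarTower A A' X] :
    (RB (A := A) A').obj (ModuleCat.of A' X) ≅ ModuleCat.of A X :=
  (rbEquiv A' X).toModuleIso

end rb

section finite
variable {p : ℕ} [hp : Fact p.Prime] {A : Type u} [CommRing A]

theorem TV_finite (h : Perf p A) (C : Type u) [CommRing C] [Algebra A C] (hC : Perf p C)
    (G : Finset A) : TV A (ModuleCat.of A (A ⧸ h.PI (G : Set A))) (ModuleCat.of A C) := by
  classical
  induction G using Finset.induction_on with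
  | empty =>
    have hbot : h.PI ((∅ : Finset A) : Set A) = ⊥ := by
      rw [Finset.coe_empty]; exact h.PI_empty
    have : Module.Flat A (A ⧸ h.PI ((∅ : Finset A) : Set A)) :=
      Module.Flat.of_linearEquiv (Submodule.quotEquivOfEqBot _ hbot)
    exact TV.of_flat _ _
  | insert f G hf ih =>
    set I' : Ideal A := h.PI (G : Set A) with hI'
    have h' : Perf p (A ⧸ I') := h.quotient_PI _
    set f' : A ⧸ I' := Ideal.Quotient.mk I' f with hf'
    have hC' : Perf p ((A ⧸ I') ⊗[A] C) := Perf.tensor h h' hC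
    have t1 : TV (A ⧸ I') (ModuleCat.of (A ⧸ I') ((A ⧸ I') ⧸ I1 h' f'))
        (ModuleCat.of (A ⧸ I') ((A ⧸ I') ⊗[A] C)) := TV_onegen h' f' _ hC'
    have t2 : TV (A ⧸ I') (ModuleCat.of (A ⧸ I') ((A ⧸ I') ⧸ I1 h' f'))
        ((FB (A := A) (A ⧸ I')).obj (ModuleCat.of A C)) :=
      TV.of_iso_right (Groth.Agent.Lib.FlatBaseChangeD.objIso (A := A) (B := A ⧸ I') C) t1
    have t3 := TV_changeOfRings (A ⧸ I') (ModuleCat.of A C) ih _ t2
    have t4 : TV A (ModuleCat.of A ((A ⧸ I') ⧸ I1 h' f')) (ModuleCat.of A C) :=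
      TV.of_iso_left (rbIso (A ⧸ I') ((A ⧸ I') ⧸ I1 h' f')).symm t3
    -- identify the double quotient
    have e1 : (h.PI {f}).map (Ideal.Quotient.mkₐ A I') = I1 h' f' := by
      have := PI_map h h' (Ideal.Quotient.mk I') {f}
      rw [Set.image_singleton] at this
      exact this
    have e2 : I' ⊔ h.PI {f} = h.PI ((insert f G : Finset A) : Set A) := by
      rw [Finset.coe_insert, Set.insert_eq, h.PI_union, sup_comm]
    let E : ((A ⧸ I') ⧸ I1 h' f') ≃ₐ[A] A ⧸ h.PI ((insert f G : Finset A) : Set A) :=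
      ((Ideal.quotientEquivAlgOfEq A e1).symm.trans
        (DoubleQuot.quotQuotEquivQuotSupₐ A I' (h.PI {f}))).trans (Ideal.quotientEquivAlgOfEq A e2)
    exact TV.of_iso_left (E.toLinearEquiv.toModuleIso).symm t4

end finite
section colim
variable {p : ℕ} [hp : Fact p.Prime] {A : Type u} [CommRing A]

/-- index set: finite subsets of a perfect ideal -/
abbrev Idx (K : Ideal A) : Type u := {G : Finset A // (G : Set A) ⊆ K}

instance (K : Ideal A) : Nonempty (Idx K) := ⟨⟨∅, by simp⟩⟩

instance (K : Ideal A) : IsDirectedOrder (Idx K) where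
  directed := fun G G' => by
    classical
    refine ⟨⟨G.1 ∪ G'.1, ?_⟩, ?_, ?_⟩
    · rw [Finset.coe_union]; exact Set.union_subset G.2 G'.2
    · exact Finset.subset_union_left
    · exact Finset.subset_union_right

variable (h : Perf p A) (K : Ideal A)

/-- the stages -/
abbrev Gm (i : Idx K) : Type u := A ⧸ h.PI (i.1 : Set A)

/-- transition maps -/
noncomputable def fm (i j : Idx K) (hij : i ≤ j) : Gm h K i →ₗ[A] Gm h K j :=
  Submodule.factor (h.PI_mono (Finset.coe_subset.mpr hij))

theorem fm_mk (i j : Idx K) (hij : i ≤ j) (a : A) :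
    fm h K i j hij (Submodule.Quotient.mk a) = Submodule.Quotient.mk a := rfl

instance : DirectedSystem (Gm h K) (fun i j hij => fm h K i j hij) where
  map_self i x := by
    obtain ⟨a, rfl⟩ := Submodule.Quotient.mk_surjective _ x
    rfl
  map_map i j k hij hjk x := by
    obtain ⟨a, rfl⟩ := Submodule.Quotient.mk_surjective _ x
    rfl

variable (hK : ∀ x, x ^ p ∈ K → x ∈ K)

/-- legs to the quotient -/
noncomputable def leg (i : Idx K) : Gm h K i →ₗ[A] A ⧸ K :=
  Submodule.factor (h.PI_le hK i.2)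

open Classical in
/-- comparison map -/
noncomputable def Φ : Module.DirectLimit (Gm h K) (fun i j hij => fm h K i j hij) →ₗ[A] A ⧸ K :=
  Module.DirectLimit.lift A (Idx K) (Gm h K) (fun i j hij => fm h K i j hij)
    (fun i => leg h K hK i) (fun i j hij x => by
      obtain ⟨a, rfl⟩ := Submodule.Quotient.mk_surjective _ x
      rfl)

open Classical in
theorem Φ_bijective : Function.Bijective (Φ h K hK) := by
  constructor
  · rw [injective_iff_map_eq_zero]
    intro z hz
    obtain ⟨i, x, rfl⟩ := Module.DirectLimit.exists_of z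
    obtain ⟨a, rfl⟩ := Submodule.Quotient.mk_surjective _ x
    rw [Φ, Module.DirectLimit.lift_of] at hz
    have ha : a ∈ K := (Submodule.Quotient.mk_eq_zero K).mp hz
    let j : Idx K := ⟨insert a i.1, by
      rw [Finset.coe_insert]
      exact Set.insert_subset ha i.2⟩
    have hij : i ≤ j := Finset.subset_insert a i.1
    rw [← Module.DirectLimit.of_f (hij := hij), fm_mk]
    have : (Submodule.Quotient.mk a : Gm h K j) = 0 := by
      rw [Submodule.Quotient.mk_eq_zero]
      apply h.subset_PI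
      show a ∈ ((insert a i.1 : Finset A) : Set A)
      simp
    rw [this, map_zero]
  · intro y
    obtain ⟨a, rfl⟩ := Submodule.Quotient.mk_surjective _ y
    refine ⟨Module.DirectLimit.of A (Idx K) (Gm h K) (fun i j hij => fm h K i j hij)
      ⟨∅, by simp⟩ (Submodule.Quotient.mk a), ?_⟩
    rw [Φ, Module.DirectLimit.lift_of]
    rfl

open Classical in
include h hK in
theorem TV_quotient (C : Type u) [CommRing C] [Algebra A C] (hC : Perf p C) :
    TV A (ModuleCat.of A (A ⧸ K)) (ModuleCat.of A C) := by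
  have key : TV A (ModuleCat.of A (Module.DirectLimit (Gm h K) (fun i j hij => fm h K i j hij)))
      (ModuleCat.of A C) := by
    intro n
    have hpres := Groth.Agent.Lib.TorColim.preservesColimitsOfShape_tor_flip (Idx K) (n + 1)
      (ModuleCat.of A C)
    have hc := isColimitOfPreserves ((Tor (ModuleCat.{u} A) (n + 1)).flip.obj (ModuleCat.of A C))
      (ModuleCat.directLimitIsColimit (Gm h K) (fun i j hij => fm h K i j hij))
    change IsZero (((Tor (ModuleCat.{u} A) (n + 1)).flip.obj (ModuleCat.of A C)).mapCocone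
      (ModuleCat.directLimitCocone (Gm h K) (fun i j hij => fm h K i j hij))).pt
    rw [IsZero.iff_id_eq_zero]
    apply hc.hom_ext
    intro i
    exact (TV_finite h C hC i.1 n).eq_of_src _ _
  exact TV.of_iso_left (LinearEquiv.ofBijective (Φ h K hK) (Φ_bijective h K hK)).toModuleIso.symm key

end colim
section final
variable {p : ℕ} [hp : Fact p.Prime]

theorem perf_zmod : Perf p (ZMod p) := by
  refine ⟨ZMod.natCast_self p, ?_⟩
  have : (fun a : ZMod p => a ^ p) = id := by
    funext a; exact ZMod.pow_card a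
  rw [this]
  exact Function.bijective_id

theorem main (A B C : Type u) [CommRing A] [CommRing B] [CommRing C]
    [CharP A p] [Algebra A B] [Algebra A C]
    (hA : Function.Bijective fun a : A => a ^ p) (hB : Function.Bijective fun b : B => b ^ p)
    (hC : Function.Bijective fun c : C => c ^ p) :
    TV A (ModuleCat.of A B) (ModuleCat.of A C) := by
  have hA' : Perf p A := ⟨CharP.cast_eq_zero A p, hA⟩
  have hB' : Perf p B :=
    ⟨by rw [← map_natCast (algebraMap A B), CharP.cast_eq_zero, map_zero], hB⟩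
  have hC' : Perf p C :=
    ⟨by rw [← map_natCast (algebraMap A C), CharP.cast_eq_zero, map_zero], hC⟩
  letI : Algebra (ZMod p) A := ZMod.algebra A p
  letI : Algebra (ZMod p) B := ((algebraMap A B).comp (algebraMap (ZMod p) A)).toAlgebra
  haveI : IsScalarTower (ZMod p) A B := IsScalarTower.of_algebraMap_eq (fun _ => rfl)
  have hP : Perf p (A ⊗[ZMod p] B) := Perf.tensor perf_zmod hA' hB'
  let μ : A ⊗[ZMod p] B →ₐ[A] B :=
    Algebra.TensorProduct.productLeftAlgHom (Algebra.ofId A B) (AlgHom.id (ZMod p) B)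
  letI : Algebra (A ⊗[ZMod p] B) B := μ.toRingHom.toAlgebra
  haveI : IsScalarTower A (A ⊗[ZMod p] B) B := IsScalarTower.of_algebraMap_eq (fun a => by
    show algebraMap A B a = μ (algebraMap A (A ⊗[ZMod p] B) a)
    rw [μ.commutes])
  have hsurj : Function.Surjective (Algebra.ofId (A ⊗[ZMod p] B) B) := by
    intro b
    refine ⟨1 ⊗ₜ b, ?_⟩
    show μ (1 ⊗ₜ b) = b
    simp [μ]
  set K : Ideal (A ⊗[ZMod p] B) := RingHom.ker (Algebra.ofId (A ⊗[ZMod p] B) B) with hKdef
  have hK : ∀ x, x ^ p ∈ K → x ∈ K := by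
    intro x hx
    rw [hKdef, RingHom.mem_ker] at hx ⊢
    rw [map_pow] at hx
    exact hB'.eq_zero_of_pow hx
  have hC'' : Perf p ((A ⊗[ZMod p] B) ⊗[A] C) := Perf.tensor hA' hP hC'
  have t1 := TV_quotient hP K hK ((A ⊗[ZMod p] B) ⊗[A] C) hC''
  let E : ((A ⊗[ZMod p] B) ⧸ K) ≃ₐ[A ⊗[ZMod p] B] B :=
    Ideal.quotientKerAlgEquivOfSurjective hsurj
  have t2 : TV (A ⊗[ZMod p] B) (ModuleCat.of (A ⊗[ZMod p] B) B)
      (ModuleCat.of (A ⊗[ZMod p] B) ((A ⊗[ZMod p] B) ⊗[A] C)) :=
    TV.of_iso_left (E.toLinearEquiv.toModuleIso).symm t1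
  have t3 : TV (A ⊗[ZMod p] B) (ModuleCat.of (A ⊗[ZMod p] B) B)
      ((FB (A := A) (A ⊗[ZMod p] B)).obj (ModuleCat.of A C)) :=
    TV.of_iso_right (Groth.Agent.Lib.FlatBaseChangeD.objIso (A := A) (B := A ⊗[ZMod p] B) C) t2
  have hflat : Module.Flat A (A ⊗[ZMod p] B) := inferInstance
  have t0 : TV A (ModuleCat.of A (A ⊗[ZMod p] B)) (ModuleCat.of A C) := TV.of_flat _ _
  have t4 := TV_changeOfRings (A ⊗[ZMod p] B) (ModuleCat.of A C) t0 _ t3
  exact TV.of_iso_left (rbIso (A ⊗[ZMod p] B) B).symm t4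

end final
end Groth.Agent.Lib.H94PerfTor2
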