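import Mathlib.Algebra.Homology.QuasiIso
import Mathlib.Algebra.Homology.SingleHomology
import Mathlib.Algebra.Homology.ShortComplex.ModuleCat
import Mathlib.Algebra.Homology.Additive
import Mathlib.Algebra.Category.ModuleCat.Monoidal.Basic
import Mathlib.CategoryTheory.Monoidal.Preadditive
import Mathlib.CategoryTheory.Abelian.Basic
import Mathlib.Algebra.Category.ModuleCat.Abelian
import Mathlib.Algebra.Homology.Homotopy
import Groth.Prelude.Def_CAlgX

/-!
# helper94: augmented (co)chain complexes that stay resolutions after tensoring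

Translation between `QuasiIso` of the image of an augmentation `K ⟶ single₀ Z` under an additive
functor and exactness of short complexes; specialisation to `tensorRight T` on `ModuleCat R`.
-/

set_option autoImplicit false
universe u v

namespace Groth.Agent.Lib.H94PureRes

open CategoryTheory Limits HomologicalComplex

section Abstract

variable {C : Type*} [Category C] [Abelian C] {D : Type*} [Category D] [Abelian D]
  (F : C ⥤ D) [F.Additive]

theorem map_d_comp_map_π {K : ChainComplex C ℕ} {Z : C} (π : K ⟶ (ChainComplex.single₀ C).obj Z) :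
    F.map (K.d 1 0) ≫ F.map (π.f 0) = 0 := by
  rw [← F.map_comp, ← π.comm 1 0, single_obj_d, comp_zero, F.map_zero]

theorem map_d_comp_map_d (K : ChainComplex C ℕ) (n : ℕ) :
    F.map (K.d (n + 2) (n + 1)) ≫ F.map (K.d (n + 1) n) = 0 := by
  rw [← F.map_comp, K.d_comp_d, F.map_zero]

/-- chain version: quasi-isomorphism of the image of an augmentation, in terms of exactness -/
theorem quasiIso_map_chain_iff {K : ChainComplex C ℕ} {Z : C}
    (π : K ⟶ (ChainComplex.single₀ C).obj Z) :
    QuasiIso ((F.mapHomologicalComplex (ComplexShape.down ℕ)).map π) ↔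
      ((ShortComplex.mk _ _ (map_d_comp_map_π F π)).Exact ∧ Epi (F.map (π.f 0))) ∧
        ∀ n : ℕ, (ShortComplex.mk _ _ (map_d_comp_map_d F K n)).Exact := by
  have hL : ∀ n : ℕ, ((F.mapHomologicalComplex (ComplexShape.down ℕ)).obj
      ((ChainComplex.single₀ C).obj Z)).ExactAt (n + 1) := by
    intro n
    apply ExactAt.of_isZero
    exact F.map_isZero (isZero_single_obj_X _ _ _ _ (by simp))
  have h0 : QuasiIsoAt ((F.mapHomologicalComplex (ComplexShape.down ℕ)).map π) 0 ↔
      ((ShortComplex.mk _ _ (map_d_comp_map_π F π)).Exact ∧ Epi (F.map (π.f 0))) := by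
    rw [ChainComplex.quasiIsoAt₀_iff, ShortComplex.quasiIso_iff_of_zeros']
    · rfl
    · show F.map (K.d 0 0) = 0
      rw [K.shape 0 0 (by simp), F.map_zero]
    · show F.map (((ChainComplex.single₀ C).obj Z).d 1 0) = 0
      rw [single_obj_d, F.map_zero]
    · show F.map (((ChainComplex.single₀ C).obj Z).d 0 0) = 0
      rw [single_obj_d, F.map_zero]
  have hsucc : ∀ n : ℕ, QuasiIsoAt ((F.mapHomologicalComplex (ComplexShape.down ℕ)).map π) (n + 1) ↔
      (ShortComplex.mk _ _ (map_d_comp_map_d F K n)).Exact := by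
    intro n
    rw [quasiIsoAt_iff_exactAt' _ _ (hL n),
      HomologicalComplex.exactAt_iff' _ (n + 2) (n + 1) n (by simp) (by simp)]
    rfl
  constructor
  · intro h
    exact ⟨h0.1 (h.quasiIsoAt 0), fun n => (hsucc n).1 (h.quasiIsoAt (n + 1))⟩
  · rintro ⟨h1, h2⟩
    refine ⟨fun n => ?_⟩
    cases n with
    | zero => exact h0.2 h1
    | succ n => exact (hsucc n).2 (h2 n)

theorem map_η_comp_map_d {K : CochainComplex C ℕ} {Z : C}
    (η : (CochainComplex.single₀ C).obj Z ⟶ K) :
    F.map (η.f 0) ≫ F.map (K.d 0 1) = 0 := by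
  rw [← F.map_comp, η.comm 0 1, single_obj_d, zero_comp, F.map_zero]

theorem map_d_comp_map_d' (K : CochainComplex C ℕ) (n : ℕ) :
    F.map (K.d n (n + 1)) ≫ F.map (K.d (n + 1) (n + 2)) = 0 := by
  rw [← F.map_comp, K.d_comp_d, F.map_zero]

/-- cochain version: quasi-isomorphism of the image of a coaugmentation, in terms of exactness -/
theorem quasiIso_map_cochain_iff {K : CochainComplex C ℕ} {Z : C}
    (η : (CochainComplex.single₀ C).obj Z ⟶ K) :
    QuasiIso ((F.mapHomologicalComplex (ComplexShape.up ℕ)).map η) ↔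
      ((ShortComplex.mk _ _ (map_η_comp_map_d F η)).Exact ∧ Mono (F.map (η.f 0))) ∧
        ∀ n : ℕ, (ShortComplex.mk _ _ (map_d_comp_map_d' F K n)).Exact := by
  have hL : ∀ n : ℕ, ((F.mapHomologicalComplex (ComplexShape.up ℕ)).obj
      ((CochainComplex.single₀ C).obj Z)).ExactAt (n + 1) := by
    intro n
    apply ExactAt.of_isZero
    exact F.map_isZero (isZero_single_obj_X _ _ _ _ (by simp))
  have h0 : QuasiIsoAt ((F.mapHomologicalComplex (ComplexShape.up ℕ)).map η) 0 ↔
      ((ShortComplex.mk _ _ (map_η_comp_map_d F η)).Exact ∧ Mono (F.map (η.f 0))) := by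
    rw [CochainComplex.quasiIsoAt₀_iff, ShortComplex.quasiIso_iff_of_zeros]
    · rfl
    · show F.map (((CochainComplex.single₀ C).obj Z).d 0 0) = 0
      rw [single_obj_d, F.map_zero]
    · show F.map (((CochainComplex.single₀ C).obj Z).d 0 1) = 0
      rw [single_obj_d, F.map_zero]
    · show F.map (K.d 0 0) = 0
      rw [K.shape 0 0 (by simp), F.map_zero]
  have hsucc : ∀ n : ℕ, QuasiIsoAt ((F.mapHomologicalComplex (ComplexShape.up ℕ)).map η) (n + 1) ↔
      (ShortComplex.mk _ _ (map_d_comp_map_d' F K n)).Exact := by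
    intro n
    rw [quasiIsoAt_iff_exactAt _ _ (hL n),
      HomologicalComplex.exactAt_iff' _ n (n + 1) (n + 2) (by simp) (by simp)]
    rfl
  constructor
  · intro h
    exact ⟨h0.1 (h.quasiIsoAt 0), fun n => (hsucc n).1 (h.quasiIsoAt (n + 1))⟩
  · rintro ⟨h1, h2⟩
    refine ⟨fun n => ?_⟩
    cases n with
    | zero => exact h0.2 h1
    | succ n => exact (hsucc n).2 (h2 n)

end Abstract

section ModuleCat

open MonoidalCategory

variable {R : Type u} [CommRing R]

/-- universal exactness of an augmented chain complex of modules, in concrete terms -/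
structure UnivExactChain (K : ChainComplex (ModuleCat.{u} R) ℕ) {Z : ModuleCat.{u} R}
    (π : K ⟶ (ChainComplex.single₀ (ModuleCat.{u} R)).obj Z) : Prop where
  exact₀ : ∀ (T : Type u) [AddCommGroup T] [Module R T],
    Function.Exact ((K.d 1 0).hom.rTensor T) ((π.f 0).hom.rTensor T)
  surj₀ : ∀ (T : Type u) [AddCommGroup T] [Module R T],
    Function.Surjective ((π.f 0).hom.rTensor T)
  exact_succ : ∀ (n : ℕ) (T : Type u) [AddCommGroup T] [Module R T],
    Function.Exact ((K.d (n + 2) (n + 1)).hom.rTensor T) ((K.d (n + 1) n).hom.rTensor T)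

theorem univExactChain_iff (K : ChainComplex (ModuleCat.{u} R) ℕ) {Z : ModuleCat.{u} R}
    (π : K ⟶ (ChainComplex.single₀ (ModuleCat.{u} R)).obj Z) :
    (∀ T : ModuleCat.{u} R,
      QuasiIso (((tensorRight T).mapHomologicalComplex (ComplexShape.down ℕ)).map π)) ↔
      UnivExactChain K π := by
  have key : ∀ T : ModuleCat.{u} R,
      QuasiIso (((tensorRight T).mapHomologicalComplex (ComplexShape.down ℕ)).map π) ↔
      (Function.Exact ((K.d 1 0).hom.rTensor T) ((π.f 0).hom.rTensor T) ∧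
        Function.Surjective ((π.f 0).hom.rTensor T)) ∧
      ∀ n : ℕ, Function.Exact ((K.d (n + 2) (n + 1)).hom.rTensor T)
        ((K.d (n + 1) n).hom.rTensor T) := by
    intro T
    rw [quasiIso_map_chain_iff, ShortComplex.ShortExact.moduleCat_exact_iff_function_exact,
      ModuleCat.epi_iff_surjective]
    refine and_congr Iff.rfl (forall_congr' fun n => ?_)
    rw [ShortComplex.ShortExact.moduleCat_exact_iff_function_exact]
    rfl
  constructor
  · intro h
    refine ⟨fun T _ _ => ?_, fun T _ _ => ?_, fun n T _ _ => ?_⟩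
    · exact ((key (ModuleCat.of R T)).1 (h _)).1.1
    · exact ((key (ModuleCat.of R T)).1 (h _)).1.2
    · exact ((key (ModuleCat.of R T)).1 (h _)).2 n
  · intro h T
    exact (key T).2 ⟨⟨h.exact₀ T, h.surj₀ T⟩, fun n => h.exact_succ n T⟩

/-- universal exactness of a coaugmented cochain complex of modules, in concrete terms -/
structure UnivExactCochain (K : CochainComplex (ModuleCat.{u} R) ℕ) {Z : ModuleCat.{u} R}
    (η : (CochainComplex.single₀ (ModuleCat.{u} R)).obj Z ⟶ K) : Prop where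
  exact₀ : ∀ (T : Type u) [AddCommGroup T] [Module R T],
    Function.Exact ((η.f 0).hom.rTensor T) ((K.d 0 1).hom.rTensor T)
  inj₀ : ∀ (T : Type u) [AddCommGroup T] [Module R T],
    Function.Injective ((η.f 0).hom.rTensor T)
  exact_succ : ∀ (n : ℕ) (T : Type u) [AddCommGroup T] [Module R T],
    Function.Exact ((K.d n (n + 1)).hom.rTensor T) ((K.d (n + 1) (n + 2)).hom.rTensor T)

theorem univExactCochain_iff (K : CochainComplex (ModuleCat.{u} R) ℕ) {Z : ModuleCat.{u} R}
    (η : (CochainComplex.single₀ (ModuleCat.{u} R)).obj Z ⟶ K) :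
    (∀ T : ModuleCat.{u} R,
      QuasiIso (((tensorRight T).mapHomologicalComplex (ComplexShape.up ℕ)).map η)) ↔
      UnivExactCochain K η := by
  have key : ∀ T : ModuleCat.{u} R,
      QuasiIso (((tensorRight T).mapHomologicalComplex (ComplexShape.up ℕ)).map η) ↔
      (Function.Exact ((η.f 0).hom.rTensor T) ((K.d 0 1).hom.rTensor T) ∧
        Function.Injective ((η.f 0).hom.rTensor T)) ∧
      ∀ n : ℕ, Function.Exact ((K.d n (n + 1)).hom.rTensor T)
        ((K.d (n + 1) (n + 2)).hom.rTensor T) := by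
    intro T
    rw [quasiIso_map_cochain_iff, ShortComplex.ShortExact.moduleCat_exact_iff_function_exact,
      ModuleCat.mono_iff_injective]
    refine and_congr Iff.rfl (forall_congr' fun n => ?_)
    rw [ShortComplex.ShortExact.moduleCat_exact_iff_function_exact]
    rfl
  constructor
  · intro h
    refine ⟨fun T _ _ => ?_, fun T _ _ => ?_, fun n T _ _ => ?_⟩
    · exact ((key (ModuleCat.of R T)).1 (h _)).1.1
    · exact ((key (ModuleCat.of R T)).1 (h _)).1.2
    · exact ((key (ModuleCat.of R T)).1 (h _)).2 n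
  · intro h T
    exact (key T).2 ⟨⟨h.exact₀ T, h.inj₀ T⟩, fun n => h.exact_succ n T⟩

end ModuleCat

section Modules

open TensorProduct

variable {R : Type u} [CommRing R]

theorem rid_rTensor {L M : Type u} [AddCommGroup L] [Module R L] [AddCommGroup M]
    [Module R M] (f : L →ₗ[R] M) (z : L ⊗[R] R) :
    f (TensorProduct.rid R L z) = TensorProduct.rid R M ((f.rTensor R) z) := by
  induction z using TensorProduct.induction_on with
  | zero => simp
  | tmul l r => simp
  | add a b ha hb => simp [map_add, ha, hb]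

/-- exactness after tensoring with `R` gives exactness -/
theorem exact_of_rTensor {L M N : Type u} [AddCommGroup L] [Module R L] [AddCommGroup M]
    [Module R M] [AddCommGroup N] [Module R N] (f : L →ₗ[R] M) (g : M →ₗ[R] N)
    (h : Function.Exact (f.rTensor R) (g.rTensor R)) : Function.Exact f g := by
  intro y
  constructor
  · intro hy
    have h1 : (g.rTensor R) (y ⊗ₜ[R] (1 : R)) = 0 := by
      rw [LinearMap.rTensor_tmul, hy, TensorProduct.zero_tmul]
    obtain ⟨z, hz⟩ := (h _).1 h1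
    refine ⟨TensorProduct.rid R L z, ?_⟩
    rw [rid_rTensor, hz]
    simp
  · rintro ⟨l, rfl⟩
    have h1 : (g.rTensor R) ((f.rTensor R) (l ⊗ₜ[R] (1 : R))) = 0 := h.apply_apply_eq_zero _
    rw [LinearMap.rTensor_tmul, LinearMap.rTensor_tmul] at h1
    have h2 := congrArg (TensorProduct.rid R N) h1
    simpa using h2

/-- surjectivity after tensoring with `R` gives surjectivity -/
theorem surjective_of_rTensor {M N : Type u} [AddCommGroup M]
    [Module R M] [AddCommGroup N] [Module R N] (g : M →ₗ[R] N)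
    (h : Function.Surjective (g.rTensor R)) : Function.Surjective g := by
  intro y
  obtain ⟨z, hz⟩ := h (y ⊗ₜ[R] (1 : R))
  refine ⟨TensorProduct.rid R M z, ?_⟩
  rw [rid_rTensor, hz]
  simp

/-- injectivity after tensoring with `R` gives injectivity -/
theorem injective_of_rTensor {M N : Type u} [AddCommGroup M]
    [Module R M] [AddCommGroup N] [Module R N] (g : M →ₗ[R] N)
    (h : Function.Injective (g.rTensor R)) : Function.Injective g := by
  intro x y hxy
  have h1 : (g.rTensor R) (x ⊗ₜ[R] (1 : R)) = (g.rTensor R) (y ⊗ₜ[R] (1 : R)) := by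
    rw [LinearMap.rTensor_tmul, LinearMap.rTensor_tmul, hxy]
  have h2 := congrArg (TensorProduct.rid R M) (h h1)
  simpa using h2

/-- the image of the second map of a universally exact pair is universally injectively included -/
theorem univInj_range_subtype {L M N : Type u} [AddCommGroup L] [Module R L] [AddCommGroup M]
    [Module R M] [AddCommGroup N] [Module R N] (f : L →ₗ[R] M) (g : M →ₗ[R] N)
    (h : ∀ (Q : Type u) [AddCommGroup Q] [Module R Q],
      Function.Exact (f.rTensor Q) (g.rTensor Q)) :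
    CAlgX.UniversallyInjective R (LinearMap.range g).subtype := by
  have hgf : ∀ l : L, g (f l) = 0 := (exact_of_rTensor f g (h R)).apply_apply_eq_zero
  intro Q _ _
  rw [injective_iff_map_eq_zero]
  intro x hx
  have hsurj : Function.Surjective (g.rangeRestrict.rTensor Q) :=
    LinearMap.rTensor_surjective Q g.surjective_rangeRestrict
  obtain ⟨y, rfl⟩ := hsurj x
  have h3 : (g.rTensor Q) y = 0 := by
    rw [← hx, ← LinearMap.comp_apply, ← LinearMap.rTensor_comp]
    rfl
  obtain ⟨z, rfl⟩ := (h Q y).1 h3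
  rw [← LinearMap.comp_apply, ← LinearMap.rTensor_comp]
  have h4 : g.rangeRestrict ∘ₗ f = 0 := by
    ext l
    exact hgf l
  rw [h4, LinearMap.rTensor_zero, LinearMap.zero_apply]

/-- the map induced on the cokernel of the first map of a universally exact pair is universally
injective -/
theorem univInj_liftQ {L M N : Type u} [AddCommGroup L] [Module R L] [AddCommGroup M]
    [Module R M] [AddCommGroup N] [Module R N] (f : L →ₗ[R] M) (g : M →ₗ[R] N)
    (h : ∀ (Q : Type u) [AddCommGroup Q] [Module R Q],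
      Function.Exact (f.rTensor Q) (g.rTensor Q))
    (hle : LinearMap.range f ≤ LinearMap.ker g) :
    CAlgX.UniversallyInjective R ((LinearMap.range f).liftQ g hle) := by
  intro Q _ _
  rw [injective_iff_map_eq_zero]
  intro x hx
  have hsurj : Function.Surjective ((LinearMap.range f).mkQ.rTensor Q) :=
    LinearMap.rTensor_surjective Q (LinearMap.range f).mkQ_surjective
  obtain ⟨y, rfl⟩ := hsurj x
  have h3 : (g.rTensor Q) y = 0 := by
    rw [← hx, ← LinearMap.comp_apply, ← LinearMap.rTensor_comp, Submodule.liftQ_mkQ]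
  obtain ⟨z, rfl⟩ := (h Q y).1 h3
  rw [← LinearMap.comp_apply, ← LinearMap.rTensor_comp]
  have h4 : (LinearMap.range f).mkQ ∘ₗ f = 0 := by
    ext l
    simp
  rw [h4, LinearMap.rTensor_zero, LinearMap.zero_apply]

/-- pure projectivity (lifting along surjections with universally injective kernel) -/
def PureProj (R : Type u) [CommRing R] (P : Type u) [AddCommGroup P] [Module R P] : Prop :=
  ∀ ⦃L T : Type u⦄ [AddCommGroup L] [Module R L] [AddCommGroup T] [Module R T] (g : L →ₗ[R] T),
    Function.Surjective g → CAlgX.UniversallyInjective R (LinearMap.ker g).subtype →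
    ∀ φ : P →ₗ[R] T, ∃ ψ : P →ₗ[R] L, g ∘ₗ ψ = φ

/-- pure injectivity (extension along universally injective maps) -/
def PureInj (R : Type u) [CommRing R] (I : Type u) [AddCommGroup I] [Module R I] : Prop :=
  ∀ ⦃K L : Type u⦄ [AddCommGroup K] [Module R K] [AddCommGroup L] [Module R L] (g : K →ₗ[R] L),
    CAlgX.UniversallyInjective R g → ∀ φ : K →ₗ[R] I, ∃ ψ : L →ₗ[R] I, ψ ∘ₗ g = φ

/-- lifting a map from a pure projective module through `b`, in a sequence
`A'' → A' → A → B` universally exact at `A'` and exact at `A`. -/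
theorem PureProj.lift {P A'' A' A B : Type u} [AddCommGroup P] [Module R P]
    [AddCommGroup A''] [Module R A''] [AddCommGroup A'] [Module R A']
    [AddCommGroup A] [Module R A] [AddCommGroup B] [Module R B] (hP : PureProj R P)
    (a' : A'' →ₗ[R] A') (a : A' →ₗ[R] A) (b : A →ₗ[R] B)
    (h1 : ∀ (Q : Type u) [AddCommGroup Q] [Module R Q],
      Function.Exact (a'.rTensor Q) (a.rTensor Q))
    (h2 : Function.Exact a b) (φ : P →ₗ[R] B) (hφ : ∀ p, φ p ∈ LinearMap.range b) :
    ∃ ψ : P →ₗ[R] A, b ∘ₗ ψ = φ := by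
  have hker : LinearMap.ker b.rangeRestrict = LinearMap.range a := by
    rw [LinearMap.ker_rangeRestrict]
    exact (LinearMap.exact_iff.1 h2)
  have hK : CAlgX.UniversallyInjective R (LinearMap.ker b.rangeRestrict).subtype := by
    rw [hker]
    exact univInj_range_subtype a' a h1
  obtain ⟨ψ, hψ⟩ := hP b.rangeRestrict b.surjective_rangeRestrict hK
    (φ.codRestrict (LinearMap.range b) hφ)
  refine ⟨ψ, ?_⟩
  ext p
  have := congrArg (fun k : P →ₗ[R] LinearMap.range b => (k p : B)) hψ
  simpa using this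

/-- extending a map into a pure injective module along `b`, in a sequence `A → B → C`
universally exact at `B`. -/
theorem PureInj.extend {I A B C : Type u} [AddCommGroup I] [Module R I]
    [AddCommGroup A] [Module R A] [AddCommGroup B] [Module R B] [AddCommGroup C] [Module R C]
    (hI : PureInj R I) (a : A →ₗ[R] B) (b : B →ₗ[R] C)
    (h1 : ∀ (Q : Type u) [AddCommGroup Q] [Module R Q],
      Function.Exact (a.rTensor Q) (b.rTensor Q))
    (φ : B →ₗ[R] I) (hφ : φ ∘ₗ a = 0) : ∃ ψ : C →ₗ[R] I, ψ ∘ₗ b = φ := by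
  have hle : LinearMap.range a ≤ LinearMap.ker b := by
    rw [LinearMap.exact_iff.1 (exact_of_rTensor a b (h1 R))]
  have hle' : LinearMap.range a ≤ LinearMap.ker φ := by
    rintro _ ⟨x, rfl⟩
    rw [LinearMap.mem_ker, ← LinearMap.comp_apply, hφ, LinearMap.zero_apply]
  obtain ⟨ψ, hψ⟩ := hI _ (univInj_liftQ a b h1 hle) ((LinearMap.range a).liftQ φ hle')
  refine ⟨ψ, ?_⟩
  have h3 : b = (LinearMap.range a).liftQ b hle ∘ₗ (LinearMap.range a).mkQ := by
    rw [Submodule.liftQ_mkQ]
  rw [h3, ← LinearMap.comp_assoc, hψ, Submodule.liftQ_mkQ]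

end Modules

section Complexes

variable {R : Type u} [CommRing R]

theorem hom_apply_eq_zero {X Y : ModuleCat.{u} R} {g : X ⟶ Y} (h : g = 0) (x : X) :
    g.hom x = 0 := by
  rw [h]; rfl

theorem exists_lift_cat {X A'' A' A B : ModuleCat.{u} R} (hX : PureProj R X)
    (a' : A'' ⟶ A') (a : A' ⟶ A) (b : A ⟶ B)
    (h1 : ∀ (Q : Type u) [AddCommGroup Q] [Module R Q],
      Function.Exact (a'.hom.rTensor Q) (a.hom.rTensor Q))
    (h2 : Function.Exact a.hom b.hom) (φ : X ⟶ B)
    (hφ : ∀ p, φ.hom p ∈ LinearMap.range b.hom) :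
    ∃ ψ : X ⟶ A, ψ ≫ b = φ := by
  obtain ⟨ψ, hψ⟩ := hX.lift a'.hom a.hom b.hom h1 h2 φ.hom hφ
  exact ⟨ModuleCat.ofHom ψ, ModuleCat.hom_ext hψ⟩

/-- comparison theorem, existence: a complex of pure projectives maps to a universally exact
resolution over a given map of modules. -/
theorem exists_chainMap {M N : ModuleCat.{u} R} (f : M ⟶ N)
    (P N' : ChainComplex (ModuleCat.{u} R) ℕ)
    (π : P ⟶ (ChainComplex.single₀ (ModuleCat.{u} R)).obj M)
    (ε : N' ⟶ (ChainComplex.single₀ (ModuleCat.{u} R)).obj N)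
    (hP : ∀ n, PureProj R (P.X n)) (hN' : UnivExactChain N' ε) :
    ∃ φ : P ⟶ N', φ ≫ ε = π ≫ (ChainComplex.single₀ (ModuleCat.{u} R)).map f := by
  have ex : ∀ n, Function.Exact (N'.d (n + 2) (n + 1)).hom (N'.d (n + 1) n).hom :=
    fun n => exact_of_rTensor _ _ (hN'.exact_succ n R)
  have ex0 : Function.Exact (N'.d 1 0).hom (ε.f 0).hom := exact_of_rTensor _ _ (hN'.exact₀ R)
  have sj0 : Function.Surjective (ε.f 0).hom := surjective_of_rTensor _ (hN'.surj₀ R)
  obtain ⟨z, hz⟩ := exists_lift_cat (hP 0) (N'.d 2 1) (N'.d 1 0) (ε.f 0)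
    (fun Q _ _ => hN'.exact_succ 0 Q) ex0
    (π.f 0 ≫ ((ChainComplex.single₀ (ModuleCat.{u} R)).map f).f 0)
    (fun p => by rw [LinearMap.range_eq_top.2 sj0]; trivial)
  have hπ : P.d 1 0 ≫ π.f 0 = 0 := by rw [← π.comm 1 0, single_obj_d, comp_zero]
  obtain ⟨o, ho⟩ := exists_lift_cat (hP 1) (N'.d 3 2) (N'.d 2 1) (N'.d 1 0)
    (fun Q _ _ => hN'.exact_succ 1 Q) (ex 0) (P.d 1 0 ≫ z)
    (fun p => (ex0 _).1 (by
      have h : (P.d 1 0 ≫ z) ≫ ε.f 0 = 0 := by
        rw [Category.assoc, hz, ← Category.assoc, hπ, zero_comp]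
      exact hom_apply_eq_zero h p))
  have succ : ∀ (n : ℕ) (p : Σ' (f : P.X n ⟶ N'.X n) (f' : P.X (n + 1) ⟶ N'.X (n + 1)),
      f' ≫ N'.d (n + 1) n = P.d (n + 1) n ≫ f),
      ∃ f'' : P.X (n + 2) ⟶ N'.X (n + 2),
        f'' ≫ N'.d (n + 2) (n + 1) = P.d (n + 2) (n + 1) ≫ p.2.1 := by
    intro n p
    refine exists_lift_cat (hP (n + 2)) (N'.d (n + 4) (n + 3)) (N'.d (n + 3) (n + 2))
      (N'.d (n + 2) (n + 1)) (fun Q _ _ => hN'.exact_succ (n + 2) Q) (ex (n + 1)) _
      (fun x => (ex n _).1 ?_)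
    have h : (P.d (n + 2) (n + 1) ≫ p.2.1) ≫ N'.d (n + 1) n = 0 := by
      rw [Category.assoc, p.2.2, ← Category.assoc, P.d_comp_d, zero_comp]
    exact hom_apply_eq_zero h x
  refine ⟨ChainComplex.mkHom P N' z o ho
    (fun n p => ⟨(succ n p).choose, (succ n p).choose_spec⟩), ?_⟩
  apply HomologicalComplex.to_single_hom_ext
  rw [HomologicalComplex.comp_f, HomologicalComplex.comp_f, ChainComplex.mkHom_f_0, hz]

/-- comparison theorem, uniqueness up to homotopy. -/
theorem exists_homotopy {N : ModuleCat.{u} R}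
    (P N' : ChainComplex (ModuleCat.{u} R) ℕ)
    (ε : N' ⟶ (ChainComplex.single₀ (ModuleCat.{u} R)).obj N)
    (hP : ∀ n, PureProj R (P.X n)) (hN' : UnivExactChain N' ε)
    (α β : P ⟶ N') (hαβ : α ≫ ε = β ≫ ε) : Nonempty (Homotopy α β) := by
  have ex : ∀ n, Function.Exact (N'.d (n + 2) (n + 1)).hom (N'.d (n + 1) n).hom :=
    fun n => exact_of_rTensor _ _ (hN'.exact_succ n R)
  have ex0 : Function.Exact (N'.d 1 0).hom (ε.f 0).hom := exact_of_rTensor _ _ (hN'.exact₀ R)
  set e : P ⟶ N' := α - β with he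
  have heε : e ≫ ε = 0 := by rw [he, Preadditive.sub_comp, hαβ, sub_self]
  have heε0 : e.f 0 ≫ ε.f 0 = 0 := by
    rw [← HomologicalComplex.comp_f, heε]; rfl
  obtain ⟨z, hz⟩ := exists_lift_cat (hP 0) (N'.d 3 2) (N'.d 2 1) (N'.d 1 0)
    (fun Q _ _ => hN'.exact_succ 1 Q) (ex 0) (e.f 0)
    (fun p => (ex0 _).1 (hom_apply_eq_zero heε0 p))
  obtain ⟨o, ho⟩ := exists_lift_cat (hP 1) (N'.d 4 3) (N'.d 3 2) (N'.d 2 1)
    (fun Q _ _ => hN'.exact_succ 2 Q) (ex 1) (e.f 1 - P.d 1 0 ≫ z)
    (fun p => (ex 0 _).1 (by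
      have h : (e.f 1 - P.d 1 0 ≫ z) ≫ N'.d 1 0 = 0 := by
        rw [Preadditive.sub_comp, Category.assoc, hz, e.comm 1 0, sub_self]
      exact hom_apply_eq_zero h p))
  have succ : ∀ (n : ℕ) (p : Σ' (f : P.X n ⟶ N'.X (n + 1)) (f' : P.X (n + 1) ⟶ N'.X (n + 2)),
      e.f (n + 1) = P.d (n + 1) n ≫ f + f' ≫ N'.d (n + 2) (n + 1)),
      ∃ f'' : P.X (n + 2) ⟶ N'.X (n + 3),
        e.f (n + 2) = P.d (n + 2) (n + 1) ≫ p.2.1 + f'' ≫ N'.d (n + 3) (n + 2) := by
    rintro n ⟨f, f', hp⟩
    dsimp only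
    obtain ⟨f'', hf''⟩ := exists_lift_cat (hP (n + 2)) (N'.d (n + 5) (n + 4))
      (N'.d (n + 4) (n + 3)) (N'.d (n + 3) (n + 2)) (fun Q _ _ => hN'.exact_succ (n + 3) Q)
      (ex (n + 2)) (e.f (n + 2) - P.d (n + 2) (n + 1) ≫ f')
      (fun x => (ex (n + 1) _).1 (by
        have h : (e.f (n + 2) - P.d (n + 2) (n + 1) ≫ f') ≫ N'.d (n + 2) (n + 1) = 0 := by
          have h2 : f' ≫ N'.d (n + 2) (n + 1) = e.f (n + 1) - P.d (n + 1) n ≫ f := by
            rw [hp]; abel
          rw [Preadditive.sub_comp, Category.assoc, h2, Preadditive.comp_sub,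
            ← Category.assoc (P.d (n + 2) (n + 1)), P.d_comp_d, zero_comp, sub_zero,
            e.comm (n + 2) (n + 1), sub_self]
        exact hom_apply_eq_zero h x))
    exact ⟨f'', by rw [hf'']; abel⟩
  have hz' : e.f 0 = z ≫ N'.d 1 0 := hz.symm
  have ho' : e.f 1 = P.d 1 0 ≫ z + o ≫ N'.d 2 1 := by rw [ho]; abel
  exact ⟨Homotopy.equivSubZero.symm (Homotopy.mkInductive e z hz' o ho'
    (fun n p => ⟨(succ n p).choose, (succ n p).choose_spec⟩))⟩

end Complexes

end Groth.Agent.Lib.H94PureRes
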