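import Groth.Agent.Lib.H94PureRes

/-!
# helper94: comparison theorem for pure injective coresolutions (cochain version)
-/

set_option autoImplicit false
universe u v

namespace Groth.Agent.Lib.H94PureRes

open CategoryTheory Limits HomologicalComplex

section Cochain

variable {R : Type u} [CommRing R]

theorem exists_extend_cat {X A B C : ModuleCat.{u} R} (hX : PureInj R X)
    (a : A ⟶ B) (b : B ⟶ C)
    (h1 : ∀ (Q : Type u) [AddCommGroup Q] [Module R Q],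
      Function.Exact (a.hom.rTensor Q) (b.hom.rTensor Q))
    (φ : B ⟶ X) (hφ : a ≫ φ = 0) : ∃ ψ : C ⟶ X, b ≫ ψ = φ := by
  have hφ' : φ.hom ∘ₗ a.hom = 0 := by
    have := congrArg ModuleCat.Hom.hom hφ
    simpa using this
  obtain ⟨ψ, hψ⟩ := hX.extend a.hom b.hom h1 φ.hom hφ'
  exact ⟨ModuleCat.ofHom ψ, ModuleCat.hom_ext hψ⟩

/-- comparison theorem for coresolutions, existence. -/
theorem exists_cochainMap {M N : ModuleCat.{u} R} (f : M ⟶ N)
    (M' I : CochainComplex (ModuleCat.{u} R) ℕ)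
    (η : (CochainComplex.single₀ (ModuleCat.{u} R)).obj M ⟶ M')
    (ε : (CochainComplex.single₀ (ModuleCat.{u} R)).obj N ⟶ I)
    (hM' : UnivExactCochain M' η) (hI : ∀ n, PureInj R (I.X n)) :
    ∃ φ : M' ⟶ I, η ≫ φ = (CochainComplex.single₀ (ModuleCat.{u} R)).map f ≫ ε := by
  obtain ⟨z₀, hz₀⟩ := hI 0 (η.f 0).hom (fun Q _ _ => hM'.inj₀ Q)
    (((CochainComplex.single₀ (ModuleCat.{u} R)).map f).f 0 ≫ ε.f 0).hom
  let z : M'.X 0 ⟶ I.X 0 := ModuleCat.ofHom z₀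
  have hz : η.f 0 ≫ z = ((CochainComplex.single₀ (ModuleCat.{u} R)).map f).f 0 ≫ ε.f 0 :=
    ModuleCat.hom_ext hz₀
  have hε : ε.f 0 ≫ I.d 0 1 = 0 := by rw [ε.comm 0 1, single_obj_d, zero_comp]
  obtain ⟨o, ho⟩ := exists_extend_cat (hI 1) (η.f 0) (M'.d 0 1) (fun Q _ _ => hM'.exact₀ Q)
    (z ≫ I.d 0 1) (by rw [← Category.assoc, hz, Category.assoc, hε, comp_zero])
  have succ : ∀ (n : ℕ) (p : Σ' (f : M'.X n ⟶ I.X n) (f' : M'.X (n + 1) ⟶ I.X (n + 1)),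
      f ≫ I.d n (n + 1) = M'.d n (n + 1) ≫ f'),
      ∃ f'' : M'.X (n + 2) ⟶ I.X (n + 2),
        p.2.1 ≫ I.d (n + 1) (n + 2) = M'.d (n + 1) (n + 2) ≫ f'' := by
    rintro n ⟨f, f', hp⟩
    dsimp only
    obtain ⟨f'', hf''⟩ := exists_extend_cat (hI (n + 2)) (M'.d n (n + 1)) (M'.d (n + 1) (n + 2))
      (fun Q _ _ => hM'.exact_succ n Q) (f' ≫ I.d (n + 1) (n + 2))
      (by rw [← Category.assoc, ← hp, Category.assoc, I.d_comp_d, comp_zero])
    exact ⟨f'', hf''.symm⟩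
  refine ⟨CochainComplex.mkHom M' I z o ho.symm
    (fun n p => ⟨(succ n p).choose, (succ n p).choose_spec⟩), ?_⟩
  apply HomologicalComplex.from_single_hom_ext
  rw [HomologicalComplex.comp_f, HomologicalComplex.comp_f, CochainComplex.mkHom_f_0, hz]

/-- comparison theorem for coresolutions, uniqueness up to homotopy. -/
theorem exists_homotopy_cochain {M : ModuleCat.{u} R}
    (M' I : CochainComplex (ModuleCat.{u} R) ℕ)
    (η : (CochainComplex.single₀ (ModuleCat.{u} R)).obj M ⟶ M')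
    (hM' : UnivExactCochain M' η) (hI : ∀ n, PureInj R (I.X n))
    (α β : M' ⟶ I) (hαβ : η ≫ α = η ≫ β) : Nonempty (Homotopy α β) := by
  set e : M' ⟶ I := α - β with he
  have hηe : η ≫ e = 0 := by rw [he, Preadditive.comp_sub, hαβ, sub_self]
  have hηe0 : η.f 0 ≫ e.f 0 = 0 := by
    rw [← HomologicalComplex.comp_f, hηe]; rfl
  obtain ⟨z, hz⟩ := exists_extend_cat (hI 0) (η.f 0) (M'.d 0 1) (fun Q _ _ => hM'.exact₀ Q)
    (e.f 0) hηe0
  obtain ⟨o, ho⟩ := exists_extend_cat (hI 1) (M'.d 0 1) (M'.d 1 2)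
    (fun Q _ _ => hM'.exact_succ 0 Q) (e.f 1 - z ≫ I.d 0 1)
    (by rw [Preadditive.comp_sub, ← Category.assoc, hz, ← e.comm 0 1, sub_self])
  have succ : ∀ (n : ℕ) (p : Σ' (f : M'.X (n + 1) ⟶ I.X n) (f' : M'.X (n + 2) ⟶ I.X (n + 1)),
      e.f (n + 1) = f ≫ I.d n (n + 1) + M'.d (n + 1) (n + 2) ≫ f'),
      ∃ f'' : M'.X (n + 3) ⟶ I.X (n + 2),
        e.f (n + 2) = p.2.1 ≫ I.d (n + 1) (n + 2) + M'.d (n + 2) (n + 3) ≫ f'' := by
    rintro n ⟨f, f', hp⟩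
    dsimp only
    obtain ⟨f'', hf''⟩ := exists_extend_cat (hI (n + 2)) (M'.d (n + 1) (n + 2))
      (M'.d (n + 2) (n + 3)) (fun Q _ _ => hM'.exact_succ (n + 1) Q)
      (e.f (n + 2) - f' ≫ I.d (n + 1) (n + 2))
      (by
        have h2 : M'.d (n + 1) (n + 2) ≫ f' = e.f (n + 1) - f ≫ I.d n (n + 1) := by
          rw [hp]; abel
        rw [Preadditive.comp_sub, ← Category.assoc, h2, Preadditive.sub_comp, Category.assoc,
          I.d_comp_d, comp_zero, sub_zero, ← e.comm (n + 1) (n + 2), sub_self])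
    exact ⟨f'', by rw [hf'']; abel⟩
  have hz' : e.f 0 = M'.d 0 1 ≫ z := hz.symm
  have ho' : e.f 1 = z ≫ I.d 0 1 + M'.d 1 2 ≫ o := by rw [ho]; abel
  exact ⟨Homotopy.equivSubZero.symm (Homotopy.mkCoinductive e z hz' o ho'
    (fun n p => ⟨(succ n p).choose, (succ n p).choose_spec⟩))⟩

end Cochain

end Groth.Agent.Lib.H94PureRes
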