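import Mathlib.RingTheory.Ideal.KrullsHeightTheorem
import Mathlib.RingTheory.Ideal.Height
import Mathlib.RingTheory.KrullDimension.Basic
import Mathlib.RingTheory.Ideal.MinimalPrime.Noetherian
import Mathlib.RingTheory.Henselian
import Mathlib.RingTheory.AdicCompletion.Noetherian
import Mathlib.RingTheory.AdicCompletion.Exactness
import Mathlib.RingTheory.Spectrum.Prime.Basic
import Groth.Agent.Lib.HenselQuot
import Groth.Agent.S9604

/-!
helper94: rig-closed primes of adic Noetherian rings (first part).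

* `height_le_one_of_forall_mem`, `krullDimLE_one_of_forall_mem`: a Noetherian domain with a nonzero
  element lying in every nonzero prime has dimension at most one.
* `eq_of_isMaximal_of_henselian`: a Noetherian domain, Henselian along `J`, all of whose maximal
  ideals are minimal over `J`, has a unique maximal ideal.
* `IsRigClosed I q`, `krullDimLE_one_quotient`, `ringKrullDim_quotient_eq_one`,
  `isRigClosed_of_ringKrullDim_eq_one`, `isAdicComplete_quotient`, `isLocalRing_quotient`,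
  `isMaximal_eq_radical`, `isAdicComplete_radical`.
-/

set_option autoImplicit false
universe u

namespace Groth.Agent.Lib.H94Rig

section GDomain

variable {D : Type*} [CommRing D] [IsDomain D] [IsNoetherianRing D]

/-- In a Noetherian domain in which a fixed nonzero element lies in every nonzero prime,
every prime has height at most one. -/
theorem height_le_one_of_forall_mem (f : D) (hf : f ≠ 0)
    (h : ∀ P : Ideal D, P.IsPrime → P ≠ ⊥ → f ∈ P) (P : Ideal D) [hP : P.IsPrime] :
    P.height ≤ 1 := by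
  classical
  by_contra hcon
  rw [not_le] at hcon
  have hfin := Ideal.finite_minimalPrimes_of_isNoetherianRing D (Ideal.span {f})
  -- P is not contained in the union of the minimal primes over f
  have hnot : ¬ ((P : Set D) ⊆ ⋃ Q ∈ (hfin.toFinset : Set (Ideal D)), ((fun Q : Ideal D => Q) Q : Set D)) := by
    intro hsub
    rw [Ideal.subset_union_prime (⊥ : Ideal D) ⊥] at hsub
    · obtain ⟨Q, hQ, hPQ⟩ := hsub
      have hQ' : Q ∈ (Ideal.span {f}).minimalPrimes := by simpa using hQ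
      have h1 : Q.height ≤ 1 :=
        Ideal.height_le_one_of_isPrincipal_of_mem_minimalPrimes (Ideal.span {f}) Q hQ'
      exact absurd ((Ideal.height_mono hPQ).trans h1) (not_le.2 hcon)
    · intro Q hQ _ _
      have hQ' : Q ∈ (Ideal.span {f}).minimalPrimes := by simpa using hQ
      exact hQ'.1.1
  rw [Set.not_subset] at hnot
  obtain ⟨x, hxP, hxQ⟩ := hnot
  have hx0 : x ≠ 0 := by
    rintro rfl
    apply hxQ
    -- need some minimal prime to exist
    obtain ⟨Q, hQ, -⟩ := Ideal.exists_minimalPrimes_le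
      (show Ideal.span {f} ≤ P from (Ideal.span_singleton_le_iff_mem _).2
        (h P hP (by rintro rfl; simp at hcon)))
    simp only [Set.mem_iUnion]
    exact ⟨Q, by simpa using hQ, Q.zero_mem⟩
  obtain ⟨Q', hQ', hQ'P⟩ := Ideal.exists_minimalPrimes_le
    (show Ideal.span {x} ≤ P from (Ideal.span_singleton_le_iff_mem _).2 hxP)
  have hQ'prime : Q'.IsPrime := hQ'.1.1
  have hxQ' : x ∈ Q' := hQ'.1.2 (Ideal.mem_span_singleton_self x)
  have hQ'ne : Q' ≠ ⊥ := by
    rintro rfl
    exact hx0 (by simpa using hxQ')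
  have hfQ' : f ∈ Q' := h Q' hQ'prime hQ'ne
  obtain ⟨Q, hQ, hQQ'⟩ := Ideal.exists_minimalPrimes_le
    (show Ideal.span {f} ≤ Q' from (Ideal.span_singleton_le_iff_mem _).2 hfQ')
  have hQprime : Q.IsPrime := hQ.1.1
  have hQne : Q ≠ ⊥ := by
    rintro rfl
    exact hf (by simpa using hQ.1.2 (Ideal.mem_span_singleton_self f))
  have hht : Q'.height ≤ 1 :=
    Ideal.height_le_one_of_isPrincipal_of_mem_minimalPrimes (Ideal.span {x}) Q' hQ'
  have hEq : Q = Q' := by
    by_contra hne
    have hlt : Q < Q' := lt_of_le_of_ne hQQ' hne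
    have h2 := Ideal.height_add_one_le_of_lt_of_isPrime hlt
    have h3 : Q.height = 0 := by
      have : Q.height + 1 ≤ 1 := h2.trans hht
      have h4 : Q.height + 1 ≤ 0 + 1 := by simpa using this
      exact le_antisymm ((ENat.add_le_add_iff_right (by simp)).1 h4) zero_le
    exact hQne (Ideal.height_eq_zero_iff_eq_bot.1 h3)
  apply hxQ
  simp only [Set.mem_iUnion]
  exact ⟨Q, by simpa using hQ, hEq ▸ hxQ'⟩

theorem krullDimLE_one_of_forall_mem (f : D) (hf : f ≠ 0)
    (h : ∀ P : Ideal D, P.IsPrime → P ≠ ⊥ → f ∈ P) : Ring.KrullDimLE 1 D := by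
  rw [Ring.krullDimLE_iff, ringKrullDim_le_iff_height_le]
  intro p hp
  have := height_le_one_of_forall_mem f hf h p
  exact_mod_cast this

end GDomain

section Local

variable {D : Type*} [CommRing D] [IsDomain D] [IsNoetherianRing D]

/-- A Noetherian domain which is Henselian along `J` and all of whose maximal ideals are minimal
over `J` has at most one maximal ideal. -/
theorem eq_of_isMaximal_of_henselian (J : Ideal D) [HenselianRing D J]
    (hmax : ∀ m : Ideal D, m.IsMaximal → m ∈ J.minimalPrimes)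
    (m₁ m₂ : Ideal D) (h₁ : m₁.IsMaximal) (h₂ : m₂.IsMaximal) : m₁ = m₂ := by
  classical
  by_contra hne
  have hfin := Ideal.finite_minimalPrimes_of_isNoetherianRing D J
  set S : Finset (Ideal D) := hfin.toFinset with hS
  have hmemS : ∀ Q, Q ∈ S ↔ Q ∈ J.minimalPrimes := fun Q => by simp [hS]
  set c : Ideal D := ⨅ m ∈ S.erase m₁, m with hc
  have hsup : m₁ ⊔ c = ⊤ := by
    apply Ideal.sup_iInf_eq_top
    intro Q hQ
    rw [Finset.mem_erase, hmemS] at hQ
    by_contra hQ1
    have heq : m₁ = m₁ ⊔ Q := h₁.eq_of_le hQ1 le_sup_left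
    have hle : Q ≤ m₁ := heq ▸ le_sup_right
    exact hQ.1 (le_antisymm hle ((hmax m₁ h₁).2 hQ.2.1 hle))
  have hinf : m₁ ⊓ c ≤ J.radical := by
    rw [← Ideal.sInf_minimalPrimes]
    refine le_sInf fun Q hQ => ?_
    by_cases hQ1 : Q = m₁
    · exact hQ1 ▸ inf_le_left
    · exact inf_le_right.trans (iInf₂_le Q (Finset.mem_erase.2 ⟨hQ1, (hmemS Q).2 hQ⟩))
  obtain ⟨k, hk⟩ := Ideal.exists_radical_pow_le_of_fg J
    ((isNoetherianRing_iff_ideal_fg D).1 inferInstance _)
  have hsup' : m₁ ^ (k + 1) ⊔ c ^ (k + 1) = ⊤ := Ideal.pow_sup_pow_eq_top hsup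
  have hmul : m₁ ^ (k + 1) * c ^ (k + 1) ≤ J := by
    rw [← mul_pow]
    calc (m₁ * c) ^ (k + 1) ≤ (m₁ ⊓ c) ^ (k + 1) := Ideal.pow_right_mono Ideal.mul_le_inf _
      _ ≤ J.radical ^ (k + 1) := Ideal.pow_right_mono hinf _
      _ ≤ J.radical ^ k := Ideal.pow_le_pow_right (Nat.le_succ k)
      _ ≤ J := hk
  obtain ⟨a, ha, b, hb, hab⟩ := Submodule.mem_sup.1 (hsup' ▸ Submodule.mem_top : (1 : D) ∈ _)
  have haJ : a * a - a ∈ J := by
    have : a * a - a = -(a * b) := by
      have hb' : b = 1 - a := by rw [← hab]; ring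
      rw [hb']; ring
    rw [this]
    exact J.neg_mem (hmul (Ideal.mul_mem_mul ha hb))
  obtain ⟨e, he, hea⟩ := Groth.Agent.Lib.HenselQuot.exists_idempotent_lift a haJ
  have hJ₁ : J ≤ m₁ := (hmax m₁ h₁).1.2
  have hJ₂ : J ≤ m₂ := (hmax m₂ h₂).1.2
  rcases IsIdempotentElem.iff_eq_zero_or_one.1 he with rfl | rfl
  · -- a ∈ J
    have haJ' : a ∈ J := by
      have := J.neg_mem hea
      simpa using this
    have hb2 : b ∈ m₂ := by
      have h1 : c ^ (k + 1) ≤ c := Ideal.pow_le_self (Nat.succ_ne_zero k)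
      have h2 : c ≤ m₂ := iInf₂_le m₂ (Finset.mem_erase.2 ⟨fun h => hne h.symm, (hmemS m₂).2 (hmax m₂ h₂)⟩)
      exact h2 (h1 hb)
    exact h₂.ne_top ((Ideal.eq_top_iff_one _).2 (hab ▸ m₂.add_mem (hJ₂ haJ') hb2))
  · have ha1 : a ∈ m₁ := Ideal.pow_le_self (Nat.succ_ne_zero k) ha
    have : (1 : D) = (1 - a) + a := by ring
    exact h₁.ne_top ((Ideal.eq_top_iff_one _).2 (this ▸ m₁.add_mem (hJ₁ hea) ha1))

end Local

section Rig

variable {A : Type u} [CommRing A]

/-- `q` is rig-closed with respect to `I`: it does not contain `I` and is maximal among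
such primes. -/
def IsRigClosed (I : Ideal A) (q : PrimeSpectrum A) : Prop :=
  ¬ I ≤ q.asIdeal ∧ ∀ y : PrimeSpectrum A, q ≤ y → ¬ I ≤ y.asIdeal → y = q

variable {I : Ideal A} {q : PrimeSpectrum A}

theorem jacobson_bot_le_of_isMaximal (m : Ideal A) [hm : m.IsMaximal] :
    (⊥ : Ideal A).jacobson ≤ m := sInf_le ⟨bot_le, hm⟩

/-- Nonzero primes of `A ⧸ q` contain the image of `I` when `q` is rig-closed. -/
theorem map_le_of_isRigClosed (hq : IsRigClosed I q) (P : Ideal (A ⧸ q.asIdeal)) (hP : P.IsPrime)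
    (hP0 : P ≠ ⊥) : I.map (Ideal.Quotient.mk q.asIdeal) ≤ P := by
  rw [Ideal.map_le_iff_le_comap]
  by_contra hI
  have hqP : q ≤ ⟨P.comap (Ideal.Quotient.mk q.asIdeal), inferInstance⟩ := by
    change q.asIdeal ≤ P.comap (Ideal.Quotient.mk q.asIdeal)
    intro x hx
    rw [Ideal.mem_comap, Ideal.Quotient.eq_zero_iff_mem.2 hx]
    exact P.zero_mem
  have := hq.2 ⟨P.comap (Ideal.Quotient.mk q.asIdeal), inferInstance⟩ hqP hI
  apply hP0
  have h2 : P.comap (Ideal.Quotient.mk q.asIdeal) = q.asIdeal := congrArg PrimeSpectrum.asIdeal this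
  rw [← Ideal.map_comap_of_surjective _ Ideal.Quotient.mk_surjective P, h2, Ideal.map_quotient_self]

theorem krullDimLE_one_quotient [IsNoetherianRing A] (hq : IsRigClosed I q) :
    Ring.KrullDimLE 1 (A ⧸ q.asIdeal) := by
  obtain ⟨a, haI, haq⟩ := SetLike.not_le_iff_exists.1 hq.1
  refine krullDimLE_one_of_forall_mem (Ideal.Quotient.mk q.asIdeal a)
    (fun h => haq (Ideal.Quotient.eq_zero_iff_mem.1 h)) fun P hP hP0 => ?_
  exact map_le_of_isRigClosed hq P hP hP0 (Ideal.mem_map_of_mem _ haI)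

theorem ringKrullDim_quotient_eq_one [IsNoetherianRing A] (hI : I ≤ (⊥ : Ideal A).jacobson)
    (hq : IsRigClosed I q) : ringKrullDim (A ⧸ q.asIdeal) = 1 := by
  have h1 := krullDimLE_one_quotient hq
  refine le_antisymm (by simpa using Ring.krullDimLE_iff.1 h1) ?_
  obtain ⟨m, hm⟩ := Ideal.exists_maximal (A ⧸ q.asIdeal)
  obtain ⟨a, haI, haq⟩ := SetLike.not_le_iff_exists.1 hq.1
  have hm' : (m.comap (Ideal.Quotient.mk q.asIdeal)).IsMaximal :=
    Ideal.comap_isMaximal_of_surjective _ Ideal.Quotient.mk_surjective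
  have ham : Ideal.Quotient.mk q.asIdeal a ∈ m := by
    have : a ∈ m.comap (Ideal.Quotient.mk q.asIdeal) :=
      jacobson_bot_le_of_isMaximal _ (hI haI)
    exact this
  have hm0 : m ≠ ⊥ := by
    rintro rfl
    exact haq (Ideal.Quotient.eq_zero_iff_mem.1 (by simpa using ham))
  have hht : (1 : ℕ∞) ≤ m.height := by
    rw [Order.one_le_iff_ne_zero]
    exact fun h => hm0 (Ideal.height_eq_zero_iff_eq_bot.1 h)
  have := Ideal.height_le_ringKrullDim_of_isPrime (I := m)
  exact le_trans (by exact_mod_cast hht) this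

theorem isRigClosed_of_ringKrullDim_eq_one (hI : I ≤ (⊥ : Ideal A).jacobson)
    (h1 : ringKrullDim (A ⧸ q.asIdeal) = 1) (h2 : ¬ I ≤ q.asIdeal) : IsRigClosed I q := by
  refine ⟨h2, fun y hqy hIy => ?_⟩
  by_contra hne
  have hK : Ring.KrullDimLE 1 (A ⧸ q.asIdeal) := Ring.krullDimLE_iff.2 (by simp [h1])
  have hker : RingHom.ker (Ideal.Quotient.mk q.asIdeal) ≤ y.asIdeal := by
    rw [Ideal.mk_ker]; exact hqy
  have hP : (y.asIdeal.map (Ideal.Quotient.mk q.asIdeal)).IsPrime :=
    Ideal.map_isPrime_of_surjective Ideal.Quotient.mk_surjective hker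
  have hcm : (y.asIdeal.map (Ideal.Quotient.mk q.asIdeal)).comap (Ideal.Quotient.mk q.asIdeal)
      = y.asIdeal := by
    rw [Ideal.comap_map_of_surjective _ Ideal.Quotient.mk_surjective]
    simpa [← RingHom.ker_eq_comap_bot, Ideal.mk_ker] using hqy
  have hP0 : y.asIdeal.map (Ideal.Quotient.mk q.asIdeal) ≠ ⊥ := by
    intro h0
    apply hne
    apply PrimeSpectrum.ext
    rw [← hcm, h0, ← RingHom.ker_eq_comap_bot, Ideal.mk_ker]
  have hmax := hP.isMaximal_of_ne_bot hP0
  have hymax : y.asIdeal.IsMaximal := by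
    rw [← hcm]
    exact Ideal.comap_isMaximal_of_surjective _ Ideal.Quotient.mk_surjective
  exact hIy (hI.trans (jacobson_bot_le_of_isMaximal _))


/-- Quotients of a Noetherian adically complete ring are adically complete. -/
theorem isAdicComplete_quotient [IsNoetherianRing A] (I : Ideal A) [IsAdicComplete I A]
    (K : Ideal A) : IsAdicComplete (I.map (Ideal.Quotient.mk K)) (A ⧸ K) := by
  have h0 : IsAdicComplete (I.map (algebraMap A (A ⧸ K))) (A ⧸ K) := by
    rw [IsAdicComplete.map_algebraMap_iff (R := A) (S := A ⧸ K) (M := A ⧸ K)]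
    have hH : IsHausdorff I (A ⧸ K) :=
      IsHausdorff.of_le_jacobson _ _ (IsAdicComplete.le_jacobson_bot I)
    have hP : IsPrecomplete I (A ⧸ K) := by
      rw [← AdicCompletion.of_surjective_iff]
      intro y
      obtain ⟨x', hx'⟩ := AdicCompletion.map_surjective I
        (f := Submodule.mkQ K) (Submodule.mkQ_surjective K) y
      obtain ⟨b, hb⟩ := (AdicCompletion.of_surjective_iff (I := I) (M := A)).2 inferInstance x'
      refine ⟨Submodule.mkQ K b, ?_⟩
      rw [← AdicCompletion.map_of, hb, hx']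
    exact { toIsHausdorff := hH, toIsPrecomplete := hP }
  exact h0

theorem map_mk_ne_bot (hq : IsRigClosed I q) : I.map (Ideal.Quotient.mk q.asIdeal) ≠ ⊥ := by
  intro h
  apply hq.1
  intro x hx
  have : Ideal.Quotient.mk q.asIdeal x ∈ I.map (Ideal.Quotient.mk q.asIdeal) :=
    Ideal.mem_map_of_mem _ hx
  rw [h] at this
  exact Ideal.Quotient.eq_zero_iff_mem.1 (by simpa using this)

theorem map_mk_le_jacobson (hI : I ≤ (⊥ : Ideal A).jacobson) (K : Ideal A) :
    I.map (Ideal.Quotient.mk K) ≤ (⊥ : Ideal (A ⧸ K)).jacobson := by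
  rw [Ideal.map_le_iff_le_comap]
  intro x hx
  rw [Ideal.mem_comap, Ideal.jacobson, Ideal.mem_sInf]
  rintro m ⟨-, hm⟩
  have hm' : (m.comap (Ideal.Quotient.mk K)).IsMaximal :=
    Ideal.comap_isMaximal_of_surjective _ Ideal.Quotient.mk_surjective
  have : x ∈ m.comap (Ideal.Quotient.mk K) := jacobson_bot_le_of_isMaximal _ (hI hx)
  exact this

theorem isMaximal_mem_minimalPrimes [IsNoetherianRing A] (hI : I ≤ (⊥ : Ideal A).jacobson)
    (hq : IsRigClosed I q) (m : Ideal (A ⧸ q.asIdeal)) (hm : m.IsMaximal) :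
    m ∈ (I.map (Ideal.Quotient.mk q.asIdeal)).minimalPrimes := by
  have hK := krullDimLE_one_quotient hq
  refine ⟨⟨hm.isPrime, (map_mk_le_jacobson hI _).trans (jacobson_bot_le_of_isMaximal m)⟩, ?_⟩
  rintro P ⟨hP, hJP⟩ hPm
  have hP0 : P ≠ ⊥ := by
    rintro rfl
    exact map_mk_ne_bot hq (le_bot_iff.1 hJP)
  have := hP.isMaximal_of_ne_bot hP0
  exact (this.eq_of_le hm.ne_top hPm).ge

theorem eq_of_isMaximal_quotient [IsNoetherianRing A] [IsAdicComplete I A]
    (hq : IsRigClosed I q) (m₁ m₂ : Ideal (A ⧸ q.asIdeal)) (h₁ : m₁.IsMaximal) (h₂ : m₂.IsMaximal) :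
    m₁ = m₂ := by
  have hI := IsAdicComplete.le_jacobson_bot I
  have := isAdicComplete_quotient I q.asIdeal
  have : HenselianRing (A ⧸ q.asIdeal) (I.map (Ideal.Quotient.mk q.asIdeal)) :=
    IsAdicComplete.henselianRing _ _
  exact eq_of_isMaximal_of_henselian (I.map (Ideal.Quotient.mk q.asIdeal))
    (isMaximal_mem_minimalPrimes hI hq) m₁ m₂ h₁ h₂

theorem isLocalRing_quotient [IsNoetherianRing A] [IsAdicComplete I A]
    (hq : IsRigClosed I q) : IsLocalRing (A ⧸ q.asIdeal) := by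
  obtain ⟨m, hm⟩ := Ideal.exists_maximal (A ⧸ q.asIdeal)
  exact IsLocalRing.of_unique_max_ideal
    ⟨m, hm, fun m' hm' => eq_of_isMaximal_quotient hq m' m hm' hm⟩

theorem isMaximal_eq_radical [IsNoetherianRing A] [IsAdicComplete I A]
    (hq : IsRigClosed I q) (m : Ideal (A ⧸ q.asIdeal)) (hm : m.IsMaximal) :
    m = (I.map (Ideal.Quotient.mk q.asIdeal)).radical := by
  have hI := IsAdicComplete.le_jacobson_bot I
  have hK := krullDimLE_one_quotient hq
  have hmin := isMaximal_mem_minimalPrimes hI hq m hm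
  apply le_antisymm
  · rw [Ideal.radical_eq_sInf]
    refine le_sInf ?_
    rintro P ⟨hJP, hP⟩
    have hP0 : P ≠ ⊥ := by
      rintro rfl
      exact map_mk_ne_bot hq (le_bot_iff.1 hJP)
    have hPmax := hP.isMaximal_of_ne_bot hP0
    exact (eq_of_isMaximal_quotient hq m P hm hPmax).le
  · exact (hm.isPrime.radical_le_iff).2 hmin.1.2

theorem isAdicComplete_radical [IsNoetherianRing A] [IsAdicComplete I A] (K : Ideal A) :
    IsAdicComplete (I.map (Ideal.Quotient.mk K)).radical (A ⧸ K) := by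
  have := isAdicComplete_quotient I K
  obtain ⟨k, hk⟩ := Ideal.exists_radical_pow_le_of_fg (I.map (Ideal.Quotient.mk K))
    ((isNoetherianRing_iff_ideal_fg _).1 inferInstance _)
  refine (Groth.Agent.S9604.result (I.map (Ideal.Quotient.mk K))
    (I.map (Ideal.Quotient.mk K)).radical 1 (k + 1) one_pos (Nat.succ_pos k) ?_ ?_ (A ⧸ K)).1 this
  · simpa using Ideal.le_radical
  · exact (Ideal.pow_le_pow_right (Nat.le_succ k)).trans hk

end Rig
end Groth.Agent.Lib.H94Rig
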