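import Groth.Agent.Lib.H94Rig9

/-!
# Rig-closed primes X: base change of rig-flatness along maps étale modulo `I`

* `flat_at_of_isRigClosed_comaps`, `flat_at_isRigClosed_of_comap`: variants of
  `flat_at_isRigClosed_of_naive` where the contraction of `q'` to `A` is assumed rig-closed.
* `isRigClosed_map_of_bijective`.
* `awayLift r s h : R_r → S_s`, `cAwayLift J L r s h hJL : R_{r} → S_{s}` (completed), with
  `cAwayLift_compat`, `cAwayLift_algebraMap`, `cAwayLift_flat`, `eq_cAwayLift`.
* `formallyUnramified_cAway`: unramified mod `I` passes to completed principal localizations.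
* `flat_descent_localization`: descent of flatness of local rings along a flat square.
-/

set_option autoImplicit false
set_option linter.unusedSectionVars false
set_option linter.unusedVariables false
universe u

namespace Groth.Agent.Lib.H94Rig

open Groth.Agent.Lib

section Core45

variable {A : Type u} [CommRing A] {I : Ideal A} [IsNoetherianRing A] [IsAdicComplete I A]
  {B : Type u} [CommRing B] [Algebra A B] [IsNoetherianRing B]
  [IsAdicComplete (I.map (algebraMap A B)) B]
  {A₁ : Type u} [CommRing A₁] [Algebra A A₁] [IsNoetherianRing A₁]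
  [IsAdicComplete (I.map (algebraMap A A₁)) A₁]
  {B₁ : Type u} [CommRing B₁] [Algebra A B₁] [Algebra B B₁] [Algebra A₁ B₁]
  [IsScalarTower A B B₁] [IsScalarTower A A₁ B₁] [IsNoetherianRing B₁]
  [IsAdicComplete (I.map (algebraMap A B₁)) B₁]

/-- Core of the local flatness argument: all three contractions of `q'` are rig-closed. -/
theorem flat_at_of_isRigClosed_comaps
    (hftA₁ : Algebra.FiniteType A (A₁ ⧸ I.map (algebraMap A A₁)))
    [Module.Flat A A₁] [Module.Flat B B₁]
    [Algebra.FormallyUnramified (A ⧸ I) (A₁ ⧸ I.map (algebraMap A A₁))]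
    (hnaive : ∀ q : PrimeSpectrum B, IsRigClosed (I.map (algebraMap A B)) q →
      (algebraMap A (Localization.AtPrime q.asIdeal)).Flat)
    (q' : PrimeSpectrum B₁)
    (hq : IsRigClosed (I.map (algebraMap A B)) (PrimeSpectrum.comap (algebraMap B B₁) q'))
    (hp' : IsRigClosed (I.map (algebraMap A A₁)) (PrimeSpectrum.comap (algebraMap A₁ B₁) q'))
    (hp : IsRigClosed I (PrimeSpectrum.comap (algebraMap A A₁)
      (PrimeSpectrum.comap (algebraMap A₁ B₁) q'))) :
    ((algebraMap B₁ (Localization.AtPrime q'.asIdeal)).comp (algebraMap A₁ B₁)).Flat := by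
  have hmax := map_map_eq_maximalIdeal hftA₁ hp rfl
  obtain ⟨q, hqe⟩ : ∃ q : PrimeSpectrum B, PrimeSpectrum.comap (algebraMap B B₁) q' = q := ⟨_, rfl⟩
  obtain ⟨p', hp'e⟩ : ∃ p' : PrimeSpectrum A₁, PrimeSpectrum.comap (algebraMap A₁ B₁) q' = p' :=
    ⟨_, rfl⟩
  rw [hp'e] at hmax hp hp'
  rw [hqe] at hq
  obtain ⟨p, hpe⟩ : ∃ p : PrimeSpectrum A, PrimeSpectrum.comap (algebraMap A A₁) p' = p := ⟨_, rfl⟩
  rw [hpe] at hmax hp
  have hqI : q.asIdeal = q'.asIdeal.comap (algebraMap B B₁) := by rw [← hqe]; rfl
  have hp'I : p'.asIdeal = q'.asIdeal.comap (algebraMap A₁ B₁) := by rw [← hp'e]; rfl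
  -- `A → (B₁)_{q'}` is flat
  have h1 : (algebraMap A (Localization.AtPrime q.asIdeal)).Flat := hnaive q hq
  have h2 : (Localization.localRingHom q.asIdeal q'.asIdeal (algebraMap B B₁) hqI).Flat :=
    RingHom.Flat.localRingHom (RingHom.flat_algebraMap_iff.2 inferInstance) q'.asIdeal q.asIdeal hqI
  have h3 := h1.comp h2
  have h4 : (Localization.localRingHom q.asIdeal q'.asIdeal (algebraMap B B₁) hqI).comp
      (algebraMap A (Localization.AtPrime q.asIdeal)) =
      algebraMap A (Localization.AtPrime q'.asIdeal) := by
    ext a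
    rw [RingHom.comp_apply, IsScalarTower.algebraMap_apply A B (Localization.AtPrime q.asIdeal),
      Localization.localRingHom_to_map, ← IsScalarTower.algebraMap_apply A B B₁,
      ← IsScalarTower.algebraMap_apply A B₁]
  rw [h4] at h3
  have hflatA : Module.Flat A (Localization.AtPrime q'.asIdeal) := RingHom.flat_algebraMap_iff.1 h3
  -- the algebra structures
  let algR'S : Algebra (Localization.AtPrime p'.asIdeal) (Localization.AtPrime q'.asIdeal) :=
    (Localization.localRingHom p'.asIdeal q'.asIdeal (algebraMap A₁ B₁) hp'I).toAlgebra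
  have hR'S : ∀ x, algebraMap (Localization.AtPrime p'.asIdeal) (Localization.AtPrime q'.asIdeal) x =
      Localization.localRingHom p'.asIdeal q'.asIdeal (algebraMap A₁ B₁) hp'I x := fun _ => rfl
  have hloc : IsLocalHom (algebraMap (Localization.AtPrime p'.asIdeal)
      (Localization.AtPrime q'.asIdeal)) :=
    Localization.isLocalHom_localRingHom p'.asIdeal q'.asIdeal (algebraMap A₁ B₁) hp'I
  have htow : IsScalarTower A (Localization.AtPrime p'.asIdeal) (Localization.AtPrime q'.asIdeal) := by
    refine IsScalarTower.of_algebraMap_eq fun a => ?_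
    rw [hR'S, IsScalarTower.algebraMap_apply A A₁ (Localization.AtPrime p'.asIdeal),
      Localization.localRingHom_to_map, ← IsScalarTower.algebraMap_apply A A₁ B₁,
      ← IsScalarTower.algebraMap_apply A B₁]
  have hmax' : p.asIdeal.map (algebraMap A (Localization.AtPrime p'.asIdeal)) =
      IsLocalRing.maximalIdeal (Localization.AtPrime p'.asIdeal) := by
    rw [← hmax, Ideal.map_map, ← IsScalarTower.algebraMap_eq]
  have hflatR' : Module.Flat (Localization.AtPrime p'.asIdeal) (Localization.AtPrime q'.asIdeal) :=
    flat_of_flat_of_map_eq_maximalIdeal p.asIdeal hmax'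
  have htow' : IsScalarTower A₁ (Localization.AtPrime p'.asIdeal)
      (Localization.AtPrime q'.asIdeal) := by
    refine IsScalarTower.of_algebraMap_eq fun a => ?_
    rw [hR'S, Localization.localRingHom_to_map,
      ← IsScalarTower.algebraMap_apply A₁ B₁ (Localization.AtPrime q'.asIdeal)]
  have hfin : Module.Flat A₁ (Localization.AtPrime q'.asIdeal) :=
    (Module.flat_iff_of_isLocalization (Localization.AtPrime p'.asIdeal)
      p'.asIdeal.primeCompl (Localization.AtPrime q'.asIdeal)).1 hflatR'
  rw [← IsScalarTower.algebraMap_eq A₁ B₁ (Localization.AtPrime q'.asIdeal)]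
  exact RingHom.flat_algebraMap_iff.2 hfin


/-- Variant of `flat_at_isRigClosed_of_naive` where instead of the Jacobson hypothesis one assumes
that the contraction of `q'` to `A` is rig-closed. -/
theorem flat_at_isRigClosed_of_comap
    (hftA₁ : Algebra.FiniteType A (A₁ ⧸ I.map (algebraMap A A₁)))
    (hftB₁ : Algebra.FiniteType A (B₁ ⧸ I.map (algebraMap A B₁)))
    [Module.Flat A A₁] [Module.Flat B B₁]
    [Algebra.FormallyUnramified (A ⧸ I) (A₁ ⧸ I.map (algebraMap A A₁))]
    (hnaive : ∀ q : PrimeSpectrum B, IsRigClosed (I.map (algebraMap A B)) q →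
      (algebraMap A (Localization.AtPrime q.asIdeal)).Flat)
    (q' : PrimeSpectrum B₁) (hq' : IsRigClosed (I.map (algebraMap A B₁)) q')
    (hp : IsRigClosed I (PrimeSpectrum.comap (algebraMap A B₁) q')) :
    ((algebraMap B₁ (Localization.AtPrime q'.asIdeal)).comp (algebraMap A₁ B₁)).Flat := by
  -- residue fields of `B₁/q'` are finite over `A`
  have hres := finite_residue_of_isRigClosed_comap hftB₁ hq' hp
  -- the pair `B → B₁`
  have hKB : (I.map (algebraMap A B)).map (algebraMap B B₁) = I.map (algebraMap A B₁) :=
    map_map_tower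
  have hcB : IsAdicComplete ((I.map (algebraMap A B)).map (algebraMap B B₁)) B₁ := by
    rw [hKB]; infer_instance
  have hftBB₁ := finiteType_tower (B := B) hftB₁
  have hq'B : IsRigClosed ((I.map (algebraMap A B)).map (algebraMap B B₁)) q' := by
    rw [hKB]; exact hq'
  have hq : IsRigClosed (I.map (algebraMap A B)) (PrimeSpectrum.comap (algebraMap B B₁) q') :=
    isRigClosed_comap_of_finite hq'B (finite_quotient_of_finite_residue hftBB₁ hq'B
      fun m hm hqm => by
        have := hres m hm hqm
        exact Module.Finite.of_restrictScalars_finite A B (B₁ ⧸ m))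
  -- the pair `A₁ → B₁`
  have hKA : (I.map (algebraMap A A₁)).map (algebraMap A₁ B₁) = I.map (algebraMap A B₁) :=
    map_map_tower
  have hcA : IsAdicComplete ((I.map (algebraMap A A₁)).map (algebraMap A₁ B₁)) B₁ := by
    rw [hKA]; infer_instance
  have hftAB₁ := finiteType_tower (B := A₁) hftB₁
  have hq'A : IsRigClosed ((I.map (algebraMap A A₁)).map (algebraMap A₁ B₁)) q' := by
    rw [hKA]; exact hq'
  have hp' : IsRigClosed (I.map (algebraMap A A₁)) (PrimeSpectrum.comap (algebraMap A₁ B₁) q') :=
    isRigClosed_comap_of_finite hq'A (finite_quotient_of_finite_residue hftAB₁ hq'A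
      fun m hm hqm => by
        have := hres m hm hqm
        exact Module.Finite.of_restrictScalars_finite A A₁ (B₁ ⧸ m))
  have hpp : PrimeSpectrum.comap (algebraMap A A₁) (PrimeSpectrum.comap (algebraMap A₁ B₁) q') =
      PrimeSpectrum.comap (algebraMap A B₁) q' := by
    ext x
    change algebraMap A₁ B₁ (algebraMap A A₁ x) ∈ q'.asIdeal ↔ algebraMap A B₁ x ∈ q'.asIdeal
    rw [← IsScalarTower.algebraMap_apply A A₁ B₁]
  exact flat_at_of_isRigClosed_comaps hftA₁ hnaive q' hq hp' (by rw [hpp]; exact hp)

end Core45

section Lift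

variable {R S : Type u} [CommRing R] [CommRing S] [Algebra R S] (J : Ideal R) (L : Ideal S)
  (r : R) (s : S)

theorem isUnit_awayLift_aux (h : algebraMap R S r = s) :
    IsUnit (((algebraMap S (Localization.Away s)).comp (algebraMap R S)) r) := by
  rw [RingHom.comp_apply, h]
  exact IsLocalization.Away.algebraMap_isUnit _

/-- The map `R_r → S_s` when `r ↦ s`. -/
noncomputable def awayLift (h : algebraMap R S r = s) :
    Localization.Away r →+* Localization.Away s :=
  IsLocalization.Away.lift r (isUnit_awayLift_aux r s h)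

theorem awayLift_comp_algebraMap (h : algebraMap R S r = s) :
    (awayLift r s h).comp (algebraMap R (Localization.Away r)) =
      (algebraMap S (Localization.Away s)).comp (algebraMap R S) :=
  IsLocalization.Away.lift_comp _ (isUnit_awayLift_aux r s h)

theorem awayLift_algebraMap (h : algebraMap R S r = s) (x : R) :
    awayLift r s h (algebraMap R (Localization.Away r) x) =
      algebraMap S (Localization.Away s) (algebraMap R S x) :=
  congrArg (fun χ => χ x) (awayLift_comp_algebraMap r s h)

theorem map_awayLift_le (h : algebraMap R S r = s) (hJL : J.map (algebraMap R S) ≤ L) :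
    (J.map (algebraMap R (Localization.Away r))).map (awayLift r s h) ≤
      L.map (algebraMap S (Localization.Away s)) := by
  rw [Ideal.map_map, awayLift_comp_algebraMap, ← Ideal.map_map]
  exact Ideal.map_mono hJL

/-- The canonical map of completed principal localizations `R_{r} → S_{s}` when `r ↦ s` and
`J S ≤ L`. -/
noncomputable def cAwayLift (h : algebraMap R S r = s) (hJL : J.map (algebraMap R S) ≤ L) :
    CAway J r →+* CAway L s :=
  FSch.complMap _ _ (awayLift r s h) (map_awayLift_le J L r s h hJL)

theorem cAwayLift_compat (h : algebraMap R S r = s) (hJL : J.map (algebraMap R S) ≤ L) :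
    (cAwayLift J L r s h hJL).comp (algebraMap (Localization.Away r) (CAway J r)) =
      (algebraMap (Localization.Away s) (CAway L s)).comp (awayLift r s h) :=
  complMap_compat _ _ _ _

theorem cAwayLift_algebraMap (h : algebraMap R S r = s) (hJL : J.map (algebraMap R S) ≤ L)
    (x : R) :
    cAwayLift J L r s h hJL (algebraMap R (CAway J r) x) =
      algebraMap S (CAway L s) (algebraMap R S x) := by
  have h1 := congrArg (fun χ => χ (algebraMap R (Localization.Away r) x))
    (cAwayLift_compat J L r s h hJL)
  simp only [RingHom.comp_apply] at h1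
  rw [IsScalarTower.algebraMap_apply R (Localization.Away r) (CAway J r), h1,
    awayLift_algebraMap, ← IsScalarTower.algebraMap_apply S (Localization.Away s) (CAway L s)]

theorem awayLift_flat [Module.Flat R S] (h : algebraMap R S r = s) : (awayLift r s h).Flat := by
  unfold RingHom.Flat
  let _ : Algebra (Localization.Away r) (Localization.Away s) := (awayLift r s h).toAlgebra
  have htow : IsScalarTower R (Localization.Away r) (Localization.Away s) := by
    refine IsScalarTower.of_algebraMap_eq fun b => ?_
    change _ = awayLift r s h _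
    rw [awayLift_algebraMap, ← IsScalarTower.algebraMap_apply R S]
  have h1 : Module.Flat R (Localization.Away s) := Module.Flat.trans R S (Localization.Away s)
  exact (Module.flat_iff_of_isLocalization (Localization.Away r) (Submonoid.powers r)
    (Localization.Away s)).2 h1

theorem cAwayLift_flat [IsNoetherianRing R] [IsNoetherianRing S] [Module.Flat R S]
    (h : algebraMap R S r = s) (hJL : J.map (algebraMap R S) ≤ L) :
    (cAwayLift J L r s h hJL).Flat :=
  flat_of_compat _ _ (awayLift r s h) (awayLift_flat r s h) (map_awayLift_le J L r s h hJL) _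
    (cAwayLift_compat J L r s h hJL)

/-- Uniqueness: a ring map of completed principal localizations which is `R`-linear (in the
appropriate sense) and sends the image of `R_r` into the image of `S_s` compatibly is the
canonical one. -/
theorem eq_cAwayLift [IsNoetherianRing R] (h : algebraMap R S r = s)
    (hJL : J.map (algebraMap R S) ≤ L) (χ : CAway J r →+* CAway L s)
    (φ : Localization.Away r →+* Localization.Away s)
    (hχ : χ.comp (algebraMap (Localization.Away r) (CAway J r)) =
      (algebraMap (Localization.Away s) (CAway L s)).comp φ)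
    (hφ : φ.comp (algebraMap R (Localization.Away r)) =
      (algebraMap S (Localization.Away s)).comp (algebraMap R S)) :
    χ = cAwayLift J L r s h hJL := by
  have hφ' : φ = awayLift r s h := by
    apply IsLocalization.ringHom_ext (Submonoid.powers r)
    rw [hφ, awayLift_comp_algebraMap]
  subst hφ'
  exact compat_unique _ _ _ (map_awayLift_le J L r s h hJL) (IsNoetherian.noetherian _) _ _ hχ
    (cAwayLift_compat J L r s h hJL)

theorem awayLift_eq_awayMap :
    awayLift r (algebraMap R S r) rfl = Localization.awayMap (algebraMap R S) r := by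
  apply IsLocalization.ringHom_ext (Submonoid.powers r)
  rw [awayLift_comp_algebraMap, awayMap_comp_algebraMap]

end Lift

section LiftComp

variable {R S T : Type u} [CommRing R] [CommRing S] [CommRing T] [Algebra R S] [Algebra S T]
  [Algebra R T] [IsScalarTower R S T] [IsNoetherianRing R]
  (J : Ideal R) (L : Ideal S) (M : Ideal T) (r : R) (s : S) (t : T)

theorem cAwayLift_comp (h₁ : algebraMap R S r = s) (h₂ : algebraMap S T s = t)
    (h₃ : algebraMap R T r = t) (hJL : J.map (algebraMap R S) ≤ L)
    (hLM : L.map (algebraMap S T) ≤ M) (hJM : J.map (algebraMap R T) ≤ M) :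
    (cAwayLift L M s t h₂ hLM).comp (cAwayLift J L r s h₁ hJL) = cAwayLift J M r t h₃ hJM := by
  refine eq_cAwayLift J M r t h₃ hJM _ ((awayLift s t h₂).comp (awayLift r s h₁)) ?_ ?_
  · rw [RingHom.comp_assoc, cAwayLift_compat, ← RingHom.comp_assoc, cAwayLift_compat,
      RingHom.comp_assoc]
  · rw [RingHom.comp_assoc, awayLift_comp_algebraMap, ← RingHom.comp_assoc,
      awayLift_comp_algebraMap, RingHom.comp_assoc, ← IsScalarTower.algebraMap_eq]

end LiftComp

section FUStep

variable {A R' : Type u} [CommRing A] [CommRing R'] [Algebra A R'] [IsNoetherianRing R']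
  (I : Ideal A) (r : R')

theorem formallyUnramified_cAway
    [Algebra.FormallyUnramified A (R' ⧸ I.map (algebraMap A R'))] :
    Algebra.FormallyUnramified A (CAway (I.map (algebraMap A R')) r ⧸
      I.map (algebraMap A (CAway (I.map (algebraMap A R')) r))) := by
  have h1 : Algebra.FormallyUnramified R' ((Localization.Away r) ⧸
      (I.map (algebraMap A R')).map (algebraMap R' (Localization.Away r))) :=
    Algebra.FormallyUnramified.of_surjective (Ideal.Quotient.mkₐ R' _)
      Ideal.Quotient.mk_surjective
  have h2 : Algebra.FormallyUnramified (R' ⧸ I.map (algebraMap A R')) ((Localization.Away r) ⧸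
      (I.map (algebraMap A R')).map (algebraMap R' (Localization.Away r))) :=
    Algebra.FormallyUnramified.of_restrictScalars R' _ _
  have htow : IsScalarTower A (R' ⧸ I.map (algebraMap A R')) ((Localization.Away r) ⧸
      (I.map (algebraMap A R')).map (algebraMap R' (Localization.Away r))) := by
    refine IsScalarTower.of_algebraMap_eq fun a => ?_
    rw [IsScalarTower.algebraMap_apply A R' (R' ⧸ I.map (algebraMap A R')),
      ← IsScalarTower.algebraMap_apply R' (R' ⧸ I.map (algebraMap A R')),
      IsScalarTower.algebraMap_apply A (Localization.Away r),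
      IsScalarTower.algebraMap_apply A R' (Localization.Away r),
      ← IsScalarTower.algebraMap_apply R' (Localization.Away r)]
  have h3 : Algebra.FormallyUnramified A ((Localization.Away r) ⧸
      (I.map (algebraMap A R')).map (algebraMap R' (Localization.Away r))) :=
    Algebra.FormallyUnramified.comp A (R' ⧸ I.map (algebraMap A R')) _
  have e := (quotAdicCompletionEquiv (I.map (algebraMap A R')) (Localization.Away r)).restrictScalars A
  have h4 : Algebra.FormallyUnramified A (CAway (I.map (algebraMap A R')) r ⧸
      (I.map (algebraMap A R')).map (algebraMap R' (CAway (I.map (algebraMap A R')) r))) :=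
    Algebra.FormallyUnramified.of_equiv e.symm
  rwa [map_map_tower (I := I) (B := R') (B₁ := CAway (I.map (algebraMap A R')) r)] at h4

end FUStep

section StepD

variable {A'₁ B'₁ A'₂ B'₂ : Type u} [CommRing A'₁] [CommRing B'₁] [CommRing A'₂] [CommRing B'₂]
  [Algebra A'₁ B'₁] [Algebra A'₁ A'₂] [Algebra B'₁ B'₂] [Algebra A'₂ B'₂] [Algebra A'₁ B'₂]
  [IsScalarTower A'₁ A'₂ B'₂] [IsScalarTower A'₁ B'₁ B'₂] [Module.Flat A'₁ A'₂]
  [Module.Flat B'₁ B'₂]

theorem flat_descent_localization (q' : PrimeSpectrum B'₁) (q'' : PrimeSpectrum B'₂)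
    (hqq : q'.asIdeal = q''.asIdeal.comap (algebraMap B'₁ B'₂))
    (h : ((algebraMap B'₂ (Localization.AtPrime q''.asIdeal)).comp (algebraMap A'₂ B'₂)).Flat) :
    ((algebraMap B'₁ (Localization.AtPrime q'.asIdeal)).comp (algebraMap A'₁ B'₁)).Flat := by
  have h1 := h
  rw [← IsScalarTower.algebraMap_eq A'₂ B'₂ (Localization.AtPrime q''.asIdeal)] at h1
  have hflat1 : Module.Flat A'₂ (Localization.AtPrime q''.asIdeal) :=
    RingHom.flat_algebraMap_iff.1 h1
  have hflat2 : Module.Flat A'₁ (Localization.AtPrime q''.asIdeal) :=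
    Module.Flat.trans A'₁ A'₂ (Localization.AtPrime q''.asIdeal)
  let algST : Algebra (Localization.AtPrime q'.asIdeal) (Localization.AtPrime q''.asIdeal) :=
    (Localization.localRingHom q'.asIdeal q''.asIdeal (algebraMap B'₁ B'₂) hqq).toAlgebra
  have hST : ∀ x, algebraMap (Localization.AtPrime q'.asIdeal)
      (Localization.AtPrime q''.asIdeal) x =
      Localization.localRingHom q'.asIdeal q''.asIdeal (algebraMap B'₁ B'₂) hqq x := fun _ => rfl
  have hloc : IsLocalHom (algebraMap (Localization.AtPrime q'.asIdeal)
      (Localization.AtPrime q''.asIdeal)) :=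
    Localization.isLocalHom_localRingHom q'.asIdeal q''.asIdeal (algebraMap B'₁ B'₂) hqq
  have hflat3 : Module.Flat (Localization.AtPrime q'.asIdeal)
      (Localization.AtPrime q''.asIdeal) :=
    RingHom.Flat.localRingHom (RingHom.flat_algebraMap_iff.2 inferInstance)
      q''.asIdeal q'.asIdeal hqq
  have hff : Module.FaithfullyFlat (Localization.AtPrime q'.asIdeal)
      (Localization.AtPrime q''.asIdeal) := Module.FaithfullyFlat.of_flat_of_isLocalHom
  have htow : IsScalarTower A'₁ (Localization.AtPrime q'.asIdeal)
      (Localization.AtPrime q''.asIdeal) := by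
    refine IsScalarTower.of_algebraMap_eq fun a => ?_
    rw [hST, IsScalarTower.algebraMap_apply A'₁ B'₁ (Localization.AtPrime q'.asIdeal),
      Localization.localRingHom_to_map, ← IsScalarTower.algebraMap_apply A'₁ B'₁ B'₂,
      ← IsScalarTower.algebraMap_apply A'₁ B'₂]
  have hfin : Module.Flat A'₁ (Localization.AtPrime q'.asIdeal) :=
    FlatCrit.flat_of_faithfullyFlat_of_flat (R := A'₁) (Localization.AtPrime q'.asIdeal)
      (N := Localization.AtPrime q''.asIdeal)
  rw [← IsScalarTower.algebraMap_eq A'₁ B'₁ (Localization.AtPrime q'.asIdeal)]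
  exact RingHom.flat_algebraMap_iff.2 hfin

end StepD

section TowerQuot

theorem isScalarTower_quotient_map_map {A : Type u} [CommRing A] (I : Ideal A) (B : Type u)
    [CommRing B] [Algebra A B] (B₁ : Type u) [CommRing B₁] [Algebra A B₁] [Algebra B B₁]
    [IsScalarTower A B B₁] :
    IsScalarTower A (B ⧸ I.map (algebraMap A B))
      (B₁ ⧸ (I.map (algebraMap A B)).map (algebraMap B B₁)) := by
  refine IsScalarTower.of_algebraMap_eq fun a => ?_
  rw [IsScalarTower.algebraMap_apply A B (B ⧸ I.map (algebraMap A B)),
    ← IsScalarTower.algebraMap_apply B (B ⧸ I.map (algebraMap A B)),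
    IsScalarTower.algebraMap_apply A B₁, IsScalarTower.algebraMap_apply A B B₁,
    ← IsScalarTower.algebraMap_apply B B₁]

/-- Unramified over `A` modulo `I` implies unramified over `B/IB`. -/
theorem formallyUnramified_quotient_of_tower {A : Type u} [CommRing A] (I : Ideal A) (B : Type u)
    [CommRing B] [Algebra A B] (B₁ : Type u) [CommRing B₁] [Algebra A B₁] [Algebra B B₁]
    [IsScalarTower A B B₁] [Algebra.FormallyUnramified A (B₁ ⧸ I.map (algebraMap A B₁))] :
    Algebra.FormallyUnramified (B ⧸ I.map (algebraMap A B))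
      (B₁ ⧸ (I.map (algebraMap A B)).map (algebraMap B B₁)) := by
  have h : Algebra.FormallyUnramified A
      (B₁ ⧸ (I.map (algebraMap A B)).map (algebraMap B B₁)) := by
    rw [map_map_tower]; infer_instance
  have := isScalarTower_quotient_map_map I B B₁
  exact Algebra.FormallyUnramified.of_restrictScalars A _ _

end TowerQuot

section MapBij

variable {A : Type u} [CommRing A] {I : Ideal A}
  {B : Type u} [CommRing B] [Algebra A B] [IsNoetherianRing B]
  [IsAdicComplete (I.map (algebraMap A B)) B]
  {B₁ : Type u} [CommRing B₁] [Algebra A B₁] [Algebra B B₁]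
  [IsScalarTower A B B₁] [IsAdicComplete (I.map (algebraMap A B₁)) B₁]

theorem isRigClosed_map_of_bijective {q : PrimeSpectrum B}
    (hq : IsRigClosed (I.map (algebraMap A B)) q)
    (hprime : (q.asIdeal.map (algebraMap B B₁)).IsPrime)
    (hbij : Function.Bijective (Ideal.quotientMap (q.asIdeal.map (algebraMap B B₁))
      (algebraMap B B₁) Ideal.le_comap_map)) :
    IsRigClosed (I.map (algebraMap A B₁))
      (⟨q.asIdeal.map (algebraMap B B₁), hprime⟩ : PrimeSpectrum B₁) := by
  have hIB : I.map (algebraMap A B) ≤ Ideal.jacobson ⊥ := IsAdicComplete.le_jacobson_bot _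
  have hI₁ : I.map (algebraMap A B₁) ≤ Ideal.jacobson ⊥ := IsAdicComplete.le_jacobson_bot _
  apply isRigClosed_of_ringKrullDim_eq_one hI₁
  · change ringKrullDim (B₁ ⧸ q.asIdeal.map (algebraMap B B₁)) = 1
    rw [← ringKrullDim_eq_of_ringEquiv (RingEquiv.ofBijective _ hbij)]
    exact ringKrullDim_quotient_eq_one hIB hq
  · intro h
    apply hq.1
    rw [Ideal.map_le_iff_le_comap]
    intro a ha
    change algebraMap A B a ∈ q.asIdeal
    rw [← Ideal.Quotient.eq_zero_iff_mem]
    apply hbij.1
    rw [Ideal.quotientMap_mk, map_zero, Ideal.Quotient.eq_zero_iff_mem,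
      ← IsScalarTower.algebraMap_apply A B B₁]
    exact h (Ideal.mem_map_of_mem _ ha)

end MapBij

end Groth.Agent.Lib.H94Rig
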