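import Groth.Agent.Lib.H94Rig10
import Groth.Agent.S8837

/-!
# Rig-closed primes XI: base change of rig-flatness along a flat map unramified modulo `I`

* `naive_rigFlat_of_unramified`: `A → B` rig-flat, commutative square `A → A' → B'`, `A → B → B'`
  of adic tft maps with `A → A'`, `B → B'` flat and `A → A'` unramified modulo `I` ⇒ `A' → B'_{q'}`
  is flat for every rig-closed prime `q'` of `B'` (Stacks, rig-flat base change along rig-étale).
-/

set_option autoImplicit false
set_option linter.unusedSectionVars false
set_option linter.unusedVariables false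
universe u

namespace Groth.Agent.Lib.H94Rig

open Groth.Agent.Lib

section Core

variable {A : Type u} [CommRing A] [IsNoetherianRing A] {I : Ideal A} [IsAdicComplete I A]
  {B : Type u} [CommRing B] [Algebra A B] [IsNoetherianRing B]
  [IsAdicComplete (I.map (algebraMap A B)) B]
  {A' : Type u} [CommRing A'] [Algebra A A'] [IsNoetherianRing A']
  [IsAdicComplete (I.map (algebraMap A A')) A']
  {B' : Type u} [CommRing B'] [Algebra A B'] [Algebra B B'] [Algebra A' B']
  [IsScalarTower A B B'] [IsScalarTower A A' B'] [IsNoetherianRing B']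
  [IsAdicComplete (I.map (algebraMap A B')) B']

/-- Base change of rig-flatness along a flat map which is unramified modulo `I`, naive form. -/
theorem naive_rigFlat_of_unramified
    (hftA' : Algebra.FiniteType A (A' ⧸ I.map (algebraMap A A')))
    (hftB' : Algebra.FiniteType A (B' ⧸ I.map (algebraMap A B')))
    [Module.Flat A A'] [Module.Flat B B']
    [Algebra.FormallyUnramified A (A' ⧸ I.map (algebraMap A A'))]
    (hAB : ∀ f : A, ∀ ψf : CAway I f →+* CAway (I.map (algebraMap A B)) (algebraMap A B f),
      ψf.comp (algebraMap (Localization.Away f) (CAway I f)) =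
        (algebraMap (Localization.Away (algebraMap A B f))
          (CAway (I.map (algebraMap A B)) (algebraMap A B f))).comp
          (Localization.awayMap (algebraMap A B) f) →
      ∀ qf : PrimeSpectrum (CAway (I.map (algebraMap A B)) (algebraMap A B f)),
        IsRigClosed (((I.map (algebraMap A B)).map
          (algebraMap B (Localization.Away (algebraMap A B f)))).map
          (algebraMap (Localization.Away (algebraMap A B f))
            (CAway (I.map (algebraMap A B)) (algebraMap A B f)))) qf →
        ((algebraMap (CAway (I.map (algebraMap A B)) (algebraMap A B f))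
          (Localization.AtPrime qf.asIdeal)).comp ψf).Flat)
    (q' : PrimeSpectrum B') (hq' : IsRigClosed (I.map (algebraMap A B')) q') :
    ((algebraMap B' (Localization.AtPrime q'.asIdeal)).comp (algebraMap A' B')).Flat := by
  -- Step A: choice of `f`
  obtain ⟨f, hfu, hint⟩ := exists_unit_and_integral hftB' hq'
  -- the maps of completed localizations
  have hg : algebraMap B B' (algebraMap A B f) = algebraMap A B' f :=
    (IsScalarTower.algebraMap_apply A B B' f).symm
  have hf' : algebraMap A' B' (algebraMap A A' f) = algebraMap A B' f :=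
    (IsScalarTower.algebraMap_apply A A' B' f).symm
  obtain ⟨ψ₂, hψ₂⟩ : ∃ ψ₂ : CAway I f →+* CAway (I.map (algebraMap A B)) (algebraMap A B f),
      ψ₂ = cAwayLift I (I.map (algebraMap A B)) f (algebraMap A B f) rfl le_rfl := ⟨_, rfl⟩
  obtain ⟨α₂, hα₂⟩ : ∃ α₂ : CAway I f →+* CAway (I.map (algebraMap A A')) (algebraMap A A' f),
      α₂ = cAwayLift I (I.map (algebraMap A A')) f (algebraMap A A' f) rfl le_rfl := ⟨_, rfl⟩
  obtain ⟨γ₂, hγ₂⟩ : ∃ γ₂ : CAway I f →+* CAway (I.map (algebraMap A B')) (algebraMap A B' f),
      γ₂ = cAwayLift I (I.map (algebraMap A B')) f (algebraMap A B' f) rfl le_rfl := ⟨_, rfl⟩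
  obtain ⟨β₂, hβ₂⟩ : ∃ β₂ : CAway (I.map (algebraMap A B)) (algebraMap A B f) →+*
      CAway (I.map (algebraMap A B')) (algebraMap A B' f),
      β₂ = cAwayLift (I.map (algebraMap A B)) (I.map (algebraMap A B')) (algebraMap A B f)
        (algebraMap A B' f) hg map_map_tower.le := ⟨_, rfl⟩
  obtain ⟨ψ'₂, hψ'₂⟩ : ∃ ψ'₂ : CAway (I.map (algebraMap A A')) (algebraMap A A' f) →+*
      CAway (I.map (algebraMap A B')) (algebraMap A B' f),
      ψ'₂ = cAwayLift (I.map (algebraMap A A')) (I.map (algebraMap A B')) (algebraMap A A' f)
        (algebraMap A B' f) hf' map_map_tower.le := ⟨_, rfl⟩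
  have hcomm1 : β₂.comp ψ₂ = γ₂ := by
    rw [hβ₂, hψ₂, hγ₂]; exact cAwayLift_comp _ _ _ _ _ _ _ _ _ _ _ _
  have hcomm2 : ψ'₂.comp α₂ = γ₂ := by
    rw [hψ'₂, hα₂, hγ₂]; exact cAwayLift_comp _ _ _ _ _ _ _ _ _ _ _ _
  -- algebra structures
  let alg1 : Algebra (CAway I f) (CAway (I.map (algebraMap A B)) (algebraMap A B f)) :=
    ψ₂.toAlgebra
  let alg2 : Algebra (CAway I f) (CAway (I.map (algebraMap A A')) (algebraMap A A' f)) :=
    α₂.toAlgebra
  let alg3 : Algebra (CAway I f) (CAway (I.map (algebraMap A B')) (algebraMap A B' f)) :=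
    γ₂.toAlgebra
  let alg4 : Algebra (CAway (I.map (algebraMap A B)) (algebraMap A B f))
      (CAway (I.map (algebraMap A B')) (algebraMap A B' f)) := β₂.toAlgebra
  let alg5 : Algebra (CAway (I.map (algebraMap A A')) (algebraMap A A' f))
      (CAway (I.map (algebraMap A B')) (algebraMap A B' f)) := ψ'₂.toAlgebra
  have tow1 : IsScalarTower (CAway I f) (CAway (I.map (algebraMap A B)) (algebraMap A B f))
      (CAway (I.map (algebraMap A B')) (algebraMap A B' f)) :=
    IsScalarTower.of_algebraMap_eq fun x => (congrArg (fun χ => χ x) hcomm1).symm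
  have tow2 : IsScalarTower (CAway I f) (CAway (I.map (algebraMap A A')) (algebraMap A A' f))
      (CAway (I.map (algebraMap A B')) (algebraMap A B' f)) :=
    IsScalarTower.of_algebraMap_eq fun x => (congrArg (fun χ => χ x) hcomm2).symm
  have towA1 : IsScalarTower A (CAway I f) (CAway (I.map (algebraMap A B)) (algebraMap A B f)) := by
    refine IsScalarTower.of_algebraMap_eq fun a => ?_
    change _ = ψ₂ _
    rw [hψ₂, cAwayLift_algebraMap]
    exact IsScalarTower.algebraMap_apply A B _ a
  have towA2 : IsScalarTower A (CAway I f)
      (CAway (I.map (algebraMap A A')) (algebraMap A A' f)) := by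
    refine IsScalarTower.of_algebraMap_eq fun a => ?_
    change _ = α₂ _
    rw [hα₂, cAwayLift_algebraMap]
    exact IsScalarTower.algebraMap_apply A A' _ a
  have towA3 : IsScalarTower A (CAway I f)
      (CAway (I.map (algebraMap A B')) (algebraMap A B' f)) := by
    refine IsScalarTower.of_algebraMap_eq fun a => ?_
    change _ = γ₂ _
    rw [hγ₂, cAwayLift_algebraMap]
    exact IsScalarTower.algebraMap_apply A B' _ a
  -- completeness
  have hc1 : IsAdicComplete ((I.map (algebraMap A (CAway I f))).map
      (algebraMap (CAway I f) (CAway (I.map (algebraMap A B)) (algebraMap A B f))))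
      (CAway (I.map (algebraMap A B)) (algebraMap A B f)) := by
    rw [map_map_tower (I := I) (B := CAway I f)
      (B₁ := CAway (I.map (algebraMap A B)) (algebraMap A B f))]
    infer_instance
  have hc2 : IsAdicComplete ((I.map (algebraMap A (CAway I f))).map
      (algebraMap (CAway I f) (CAway (I.map (algebraMap A A')) (algebraMap A A' f))))
      (CAway (I.map (algebraMap A A')) (algebraMap A A' f)) := by
    rw [map_map_tower (I := I) (B := CAway I f)
      (B₁ := CAway (I.map (algebraMap A A')) (algebraMap A A' f))]
    infer_instance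
  have hc3 : IsAdicComplete ((I.map (algebraMap A (CAway I f))).map
      (algebraMap (CAway I f) (CAway (I.map (algebraMap A B')) (algebraMap A B' f))))
      (CAway (I.map (algebraMap A B')) (algebraMap A B' f)) := by
    rw [map_map_tower (I := I) (B := CAway I f)
      (B₁ := CAway (I.map (algebraMap A B')) (algebraMap A B' f))]
    infer_instance
  -- finite type
  have hft2A' : Algebra.FiniteType A ((CAway (I.map (algebraMap A A')) (algebraMap A A' f)) ⧸
      I.map (algebraMap A (CAway (I.map (algebraMap A A')) (algebraMap A A' f)))) :=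
    finiteType_trans_quotient I hftA' (finiteType_cAway (I.map (algebraMap A A')) (algebraMap A A' f))
  have hftA'₂ := finiteType_tower (B := CAway I f) hft2A'
  have hft2B' : Algebra.FiniteType A ((CAway (I.map (algebraMap A B')) (algebraMap A B' f)) ⧸
      I.map (algebraMap A (CAway (I.map (algebraMap A B')) (algebraMap A B' f)))) :=
    finiteType_trans_quotient I hftB' (finiteType_cAway (I.map (algebraMap A B')) (algebraMap A B' f))
  have hftB'₂ := finiteType_tower (B := CAway I f) hft2B'
  -- flatness
  have flat1 : Module.Flat (CAway I f) (CAway (I.map (algebraMap A A')) (algebraMap A A' f)) := by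
    have := cAwayLift_flat I (I.map (algebraMap A A')) f (algebraMap A A' f) rfl le_rfl
    rw [← hα₂] at this
    exact this
  have flat2 : Module.Flat (CAway (I.map (algebraMap A B)) (algebraMap A B f))
      (CAway (I.map (algebraMap A B')) (algebraMap A B' f)) := by
    have := cAwayLift_flat (I.map (algebraMap A B)) (I.map (algebraMap A B')) (algebraMap A B f)
      (algebraMap A B' f) hg map_map_tower.le
    rw [← hβ₂] at this
    exact this
  -- unramified modulo `I`
  have fu1 : Algebra.FormallyUnramified A
      ((CAway (I.map (algebraMap A A')) (algebraMap A A' f)) ⧸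
        I.map (algebraMap A (CAway (I.map (algebraMap A A')) (algebraMap A A' f)))) :=
    formallyUnramified_cAway I (algebraMap A A' f)
  have fu3 : Algebra.FormallyUnramified ((CAway I f) ⧸ I.map (algebraMap A (CAway I f)))
      ((CAway (I.map (algebraMap A A')) (algebraMap A A' f)) ⧸
        (I.map (algebraMap A (CAway I f))).map (algebraMap (CAway I f)
          (CAway (I.map (algebraMap A A')) (algebraMap A A' f)))) :=
    formallyUnramified_quotient_of_tower I (CAway I f)
      (CAway (I.map (algebraMap A A')) (algebraMap A A' f))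
  -- naive rig-flatness of `A₂ → B₂`
  have hJB₂ : ((I.map (algebraMap A B)).map
      (algebraMap B (Localization.Away (algebraMap A B f)))).map
      (algebraMap (Localization.Away (algebraMap A B f))
        (CAway (I.map (algebraMap A B)) (algebraMap A B f))) =
      (I.map (algebraMap A (CAway I f))).map
        (algebraMap (CAway I f) (CAway (I.map (algebraMap A B)) (algebraMap A B f))) :=
    ((map_map_tower (A := B) (I := I.map (algebraMap A B))
      (B := Localization.Away (algebraMap A B f))
      (B₁ := CAway (I.map (algebraMap A B)) (algebraMap A B f))).trans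
      (map_map_tower (A := A) (I := I) (B := B)
        (B₁ := CAway (I.map (algebraMap A B)) (algebraMap A B f)))).trans
      (map_map_tower (I := I) (B := CAway I f)
        (B₁ := CAway (I.map (algebraMap A B)) (algebraMap A B f))).symm
  have hψ₂c : ψ₂.comp (algebraMap (Localization.Away f) (CAway I f)) =
      (algebraMap (Localization.Away (algebraMap A B f))
        (CAway (I.map (algebraMap A B)) (algebraMap A B f))).comp
        (Localization.awayMap (algebraMap A B) f) := by
    rw [hψ₂, cAwayLift_compat, awayLift_eq_awayMap]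
  have hnaive : ∀ q : PrimeSpectrum (CAway (I.map (algebraMap A B)) (algebraMap A B f)),
      IsRigClosed ((I.map (algebraMap A (CAway I f))).map
        (algebraMap (CAway I f) (CAway (I.map (algebraMap A B)) (algebraMap A B f)))) q →
      (algebraMap (CAway I f) (Localization.AtPrime q.asIdeal)).Flat := by
    intro q hq
    rw [← hJB₂] at hq
    have h := hAB f ψ₂ hψ₂c q hq
    rw [IsScalarTower.algebraMap_eq (CAway I f) (CAway (I.map (algebraMap A B)) (algebraMap A B f))
      (Localization.AtPrime q.asIdeal)]
    exact h
  -- the prime `q₂`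
  obtain ⟨hprime, hbij⟩ := Groth.Agent.S8837.main B' (I.map (algebraMap A B')) q'.asIdeal
    (algebraMap A B' f) hfu
  have hq2 : IsRigClosed (I.map (algebraMap A (CAway (I.map (algebraMap A B')) (algebraMap A B' f))))
      (⟨q'.asIdeal.map (algebraMap B' (CAway (I.map (algebraMap A B')) (algebraMap A B' f))),
        hprime⟩ : PrimeSpectrum (CAway (I.map (algebraMap A B')) (algebraMap A B' f))) :=
    isRigClosed_map_of_bijective hq' hprime hbij
  have hfA₂ : IsUnit (algebraMap A (CAway I f) f) := by
    rw [IsScalarTower.algebraMap_apply A (Localization.Away f) (CAway I f)]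
    exact (IsLocalization.Away.algebraMap_isUnit f).map _
  have hp := isRigClosed_comap_map_of_integral (A₁ := CAway I f)
    (B₁ := CAway (I.map (algebraMap A B')) (algebraMap A B' f)) hft2B' hq' hprime hbij f hfA₂ hint
  have hq3 : IsRigClosed ((I.map (algebraMap A (CAway I f))).map
      (algebraMap (CAway I f) (CAway (I.map (algebraMap A B')) (algebraMap A B' f))))
      (⟨q'.asIdeal.map (algebraMap B' (CAway (I.map (algebraMap A B')) (algebraMap A B' f))),
        hprime⟩ : PrimeSpectrum (CAway (I.map (algebraMap A B')) (algebraMap A B' f))) := by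
    rw [map_map_tower (I := I) (B := CAway I f)
      (B₁ := CAway (I.map (algebraMap A B')) (algebraMap A B' f))]
    exact hq2
  have hcore := flat_at_isRigClosed_of_comap (A := CAway I f) (I := I.map (algebraMap A (CAway I f)))
    (B := CAway (I.map (algebraMap A B)) (algebraMap A B f))
    (A₁ := CAway (I.map (algebraMap A A')) (algebraMap A A' f))
    (B₁ := CAway (I.map (algebraMap A B')) (algebraMap A B' f)) hftA'₂ hftB'₂ hnaive _ hq3 hp
  -- descent to `A' → B'_{q'}`
  have towD : IsScalarTower A' (CAway (I.map (algebraMap A A')) (algebraMap A A' f))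
      (CAway (I.map (algebraMap A B')) (algebraMap A B' f)) := by
    refine IsScalarTower.of_algebraMap_eq fun x => ?_
    change _ = ψ'₂ _
    rw [hψ'₂, cAwayLift_algebraMap]
    exact IsScalarTower.algebraMap_apply A' B' _ x
  refine flat_descent_localization (A'₂ := CAway (I.map (algebraMap A A')) (algebraMap A A' f))
    (B'₂ := CAway (I.map (algebraMap A B')) (algebraMap A B' f)) q' _ ?_ hcore
  ext x
  change x ∈ q'.asIdeal ↔ algebraMap B' _ x ∈ q'.asIdeal.map _
  rw [← Ideal.Quotient.eq_zero_iff_mem, ← Ideal.Quotient.eq_zero_iff_mem (I := Ideal.map _ _),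
    ← Ideal.quotientMap_mk (f := algebraMap B' (CAway (I.map (algebraMap A B')) (algebraMap A B' f)))
      (H := Ideal.le_comap_map)]
  exact ⟨fun h => by rw [h, map_zero], fun h => hbij.1 (by rw [h, map_zero])⟩

end Core

end Groth.Agent.Lib.H94Rig
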