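import Groth.Agent.Lib.H94Rig11

/-!
# Rig-closed primes XII: completed localizations and completed tensor products, levelwise

* `IsCLoc K s φ`: the ring map `φ : R → R₂` behaves like the completed principal localization of
  `R` at `s` for the `K`-adic topology (elementwise formulation): `s` becomes a unit, `R[1/s]` is
  dense and `Kⁿ R₂ ∩ R[1/s] = Kⁿ R[1/s]`. `isCLoc_id`, `isCLoc_cAway`.
* `IsCTP A I B C D`: `D` is levelwise (modulo all powers of `I`) the tensor product `C ⊗[A] B`.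
  `isCTP_adicCompletion` (the completed tensor product), `IsCTP.of_isCLoc` (stability under
  completed localization of all rings involved).
-/

set_option autoImplicit false
universe u

namespace Groth.Agent.Lib.H94Rig

open Groth.Agent.Lib TensorProduct

section CLoc

/-- `φ : R → R₂` behaves like the completed principal localization of `R` at `s` with respect to
the `K`-adic topology. -/
structure IsCLoc {R R₂ : Type u} [CommRing R] [CommRing R₂] (K : Ideal R) (s : R)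
    (φ : R →+* R₂) : Prop where
  unit : IsUnit (φ s)
  dense : ∀ (n : ℕ) (x : R₂), ∃ (k : ℕ) (r : R), φ s ^ k * x - φ r ∈ (K ^ n).map φ
  ker : ∀ (n : ℕ) (r : R), φ r ∈ (K ^ n).map φ → ∃ m : ℕ, s ^ m * r ∈ K ^ n

theorem isCLoc_id {R : Type u} [CommRing R] (K : Ideal R) : IsCLoc K 1 (RingHom.id R) where
  unit := by simp
  dense n x := ⟨0, x, by simp⟩
  ker n r hr := ⟨0, by simpa [Ideal.map_id] using hr⟩

theorem isCLoc_cAway {R : Type u} [CommRing R] [IsNoetherianRing R] (K : Ideal R) (s : R) :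
    IsCLoc K s (algebraMap R (CAway K s)) where
  unit := by
    rw [IsScalarTower.algebraMap_apply R (Localization.Away s) (CAway K s)]
    exact (IsLocalization.Away.algebraMap_isUnit s).map _
  dense n x := by
    obtain ⟨r', hr'⟩ := exists_sub_mem_map_pow K (Localization.Away s) n x
    obtain ⟨k, a, ha⟩ := IsLocalization.Away.surj s r'
    refine ⟨k, a, ?_⟩
    have h1 : algebraMap R (CAway K s) s ^ k * x - algebraMap R (CAway K s) a =
        algebraMap R (CAway K s) s ^ k *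
          (x - algebraMap (Localization.Away s) (CAway K s) r') := by
      rw [IsScalarTower.algebraMap_apply R (Localization.Away s) (CAway K s) a, ← ha, map_mul,
        map_pow, ← IsScalarTower.algebraMap_apply R (Localization.Away s) (CAway K s)]
      ring
    rw [h1]
    exact Ideal.mul_mem_left _ _ hr'
  ker n r hr := by
    have h1 : algebraMap R (Localization.Away s) r ∈
        (K ^ n).map (algebraMap R (Localization.Away s)) := by
      rw [Ideal.map_pow, ← Ideal.Quotient.eq_zero_iff_mem]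
      have h2 : AdicCompletion.evalₐ (K.map (algebraMap R (Localization.Away s))) n
          (algebraMap R (CAway K s) r) = 0 := by
        have h3 : algebraMap R (CAway K s) r ∈
            RingHom.ker (AdicCompletion.evalₐ (K.map (algebraMap R (Localization.Away s))) n).toRingHom := by
          rw [ComplFlat.ker_evalₐ_eq_map _ (IsNoetherian.noetherian _) n, ← Ideal.map_pow,
            map_map_tower]
          exact hr
        exact h3
      rw [IsScalarTower.algebraMap_apply R (Localization.Away s) (CAway K s),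
        AdicCompletion.algebraMap_apply] at h2
      simp only [Algebra.algebraMap_self, RingHom.id_apply] at h2
      rw [AdicCompletion.evalₐ_of] at h2
      exact h2
    rw [IsLocalization.algebraMap_mem_map_algebraMap_iff (Submonoid.powers s)] at h1
    obtain ⟨m, ⟨k, rfl⟩, hm⟩ := h1
    exact ⟨k, hm⟩

theorem isCLoc_adicCompletion {R : Type u} [CommRing R] (K : Ideal R) (hK : K.FG) :
    IsCLoc K 1 (algebraMap R (AdicCompletion K R)) where
  unit := by simp
  dense n x := by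
    obtain ⟨r, hr⟩ := Ideal.Quotient.mk_surjective (AdicCompletion.evalₐ K n x)
    refine ⟨0, r, ?_⟩
    rw [pow_zero, one_mul, ← ComplFlat.ker_evalₐ_eq_map K hK n, RingHom.mem_ker]
    change AdicCompletion.evalₐ K n (x - algebraMap R (AdicCompletion K R) r) = 0
    rw [map_sub, AdicCompletion.algebraMap_apply]
    simp only [Algebra.algebraMap_self, RingHom.id_apply]
    rw [AdicCompletion.evalₐ_of, hr, sub_self]
  ker n r hr := by
    refine ⟨0, ?_⟩
    rw [pow_zero, one_mul, ← Ideal.Quotient.eq_zero_iff_mem]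
    have h3 : algebraMap R (AdicCompletion K R) r ∈
        RingHom.ker (AdicCompletion.evalₐ K n).toRingHom := by
      rw [ComplFlat.ker_evalₐ_eq_map K hK n]
      exact hr
    have h2 : AdicCompletion.evalₐ K n (algebraMap R (AdicCompletion K R) r) = 0 := h3
    rw [AdicCompletion.algebraMap_apply] at h2
    simp only [Algebra.algebraMap_self, RingHom.id_apply] at h2
    rw [AdicCompletion.evalₐ_of] at h2
    exact h2

end CLoc

section CTP

variable (A : Type u) [CommRing A] (I : Ideal A) (B C D : Type u) [CommRing B] [CommRing C]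
  [CommRing D] [Algebra A B] [Algebra A C] [Algebra A D] [Algebra C D] [Algebra B D]
  [IsScalarTower A C D] [IsScalarTower A B D]

/-- The canonical map `C ⊗[A] B → D`. -/
noncomputable def prodMap : C ⊗[A] B →ₐ[A] D :=
  Algebra.TensorProduct.productMap (IsScalarTower.toAlgHom A C D) (IsScalarTower.toAlgHom A B D)

theorem prodMap_tmul (c : C) (b : B) :
    prodMap A B C D (c ⊗ₜ b) = algebraMap C D c * algebraMap B D b := rfl

/-- `D` is, modulo every power of `I`, the tensor product `C ⊗[A] B`. -/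
structure IsCTP : Prop where
  surj : ∀ (n : ℕ) (d : D), ∃ e : C ⊗[A] B,
    d - prodMap A B C D e ∈ (I ^ n).map (algebraMap A D)
  inj : ∀ (n : ℕ) (e : C ⊗[A] B), prodMap A B C D e ∈ (I ^ n).map (algebraMap A D) →
    e ∈ (I ^ n).map (algebraMap A (C ⊗[A] B))

variable {A B C D}

/-- If `D` is an algebra over `C ⊗[A] B` which is a "completion" of it, then `D` is levelwise the
tensor product. -/
theorem isCTP_of_isCLoc_one [Algebra (C ⊗[A] B) D] [IsScalarTower A (C ⊗[A] B) D]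
    (hC : ∀ c : C, algebraMap C D c = algebraMap (C ⊗[A] B) D (c ⊗ₜ 1))
    (hB : ∀ b : B, algebraMap B D b = algebraMap (C ⊗[A] B) D (1 ⊗ₜ b))
    (h : IsCLoc (I.map (algebraMap A (C ⊗[A] B))) 1 (algebraMap (C ⊗[A] B) D)) :
    IsCTP A I B C D := by
  have hμ : ∀ e : C ⊗[A] B, prodMap A B C D e = algebraMap (C ⊗[A] B) D e := by
    intro e
    induction e using TensorProduct.induction_on with
    | zero => simp
    | tmul c b =>
      rw [prodMap_tmul, hC, hB, ← map_mul, Algebra.TensorProduct.tmul_mul_tmul, mul_one, one_mul]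
    | add x y hx hy => rw [map_add, map_add, hx, hy]
  have hmap : ∀ n : ℕ, ((I.map (algebraMap A (C ⊗[A] B))) ^ n).map
      (algebraMap (C ⊗[A] B) D) = (I ^ n).map (algebraMap A D) := by
    intro n
    rw [← Ideal.map_pow, Ideal.map_map, ← IsScalarTower.algebraMap_eq]
  constructor
  · intro n d
    obtain ⟨k, e, he⟩ := h.dense n d
    refine ⟨e, ?_⟩
    rw [map_one, one_pow, one_mul, hmap] at he
    rw [hμ]
    exact he
  · intro n e he
    rw [hμ, ← hmap] at he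
    obtain ⟨m, hm⟩ := h.ker n e he
    rw [one_pow, one_mul, ← Ideal.map_pow] at hm
    exact hm

end CTP

section Lift

variable {A : Type u} [CommRing A] {B C : Type u} [CommRing B] [CommRing C]
  [Algebra A B] [Algebra A C]
  {A₂ : Type u} [CommRing A₂] {B₂ C₂ : Type u} [CommRing B₂] [CommRing C₂]
  [Algebra A₂ B₂] [Algebra A₂ C₂]
  (α : A →+* A₂) (β : B →+* B₂) (γ : C →+* C₂)
  (hβ : β.comp (algebraMap A B) = (algebraMap A₂ B₂).comp α)
  (hγ : γ.comp (algebraMap A C) = (algebraMap A₂ C₂).comp α)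

/-- The map `C ⊗[A] B → C₂ ⊗[A₂] B₂` induced by compatible ring maps. -/
noncomputable def tensorLift : C ⊗[A] B →+* C₂ ⊗[A₂] B₂ :=
  letI : Algebra A (C₂ ⊗[A₂] B₂) := ((algebraMap A₂ (C₂ ⊗[A₂] B₂)).comp α).toAlgebra
  (Algebra.TensorProduct.productMap (R := A)
    ({ toRingHom := (Algebra.TensorProduct.includeLeft :
          C₂ →ₐ[A₂] C₂ ⊗[A₂] B₂).toRingHom.comp γ
       commutes' := fun a => by
        have h1 : γ (algebraMap A C a) = algebraMap A₂ C₂ (α a) :=
          congrArg (fun χ => χ a) hγ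
        change (Algebra.TensorProduct.includeLeft : C₂ →ₐ[A₂] C₂ ⊗[A₂] B₂)
          (γ (algebraMap A C a)) = algebraMap A₂ (C₂ ⊗[A₂] B₂) (α a)
        rw [h1, AlgHom.commutes] } : C →ₐ[A] C₂ ⊗[A₂] B₂)
    ({ toRingHom := (Algebra.TensorProduct.includeRight :
          B₂ →ₐ[A₂] C₂ ⊗[A₂] B₂).toRingHom.comp β
       commutes' := fun a => by
        have h1 : β (algebraMap A B a) = algebraMap A₂ B₂ (α a) :=
          congrArg (fun χ => χ a) hβ
        change (Algebra.TensorProduct.includeRight : B₂ →ₐ[A₂] C₂ ⊗[A₂] B₂)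
          (β (algebraMap A B a)) = algebraMap A₂ (C₂ ⊗[A₂] B₂) (α a)
        rw [h1, AlgHom.commutes] } : B →ₐ[A] C₂ ⊗[A₂] B₂)).toRingHom

theorem tensorLift_tmul (c : C) (b : B) :
    tensorLift α β γ hβ hγ (c ⊗ₜ b) = γ c ⊗ₜ β b := by
  change (γ c ⊗ₜ[A₂] (1 : B₂)) * ((1 : C₂) ⊗ₜ[A₂] β b) = _
  rw [Algebra.TensorProduct.tmul_mul_tmul, mul_one, one_mul]

theorem tensorLift_comp_algebraMap :
    (tensorLift α β γ hβ hγ).comp (algebraMap A (C ⊗[A] B)) =
      (algebraMap A₂ (C₂ ⊗[A₂] B₂)).comp α := by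
  refine RingHom.ext fun a => ?_
  rw [RingHom.comp_apply, Algebra.TensorProduct.algebraMap_apply, tensorLift_tmul, map_one,
    RingHom.comp_apply, Algebra.TensorProduct.algebraMap_apply]
  congr 1
  exact congrArg (fun χ => χ a) hγ

end Lift

section Stab

variable {A : Type u} [CommRing A] {I : Ideal A} {B C D : Type u} [CommRing B] [CommRing C]
  [CommRing D] [Algebra A B] [Algebra A C] [Algebra A D] [Algebra C D] [Algebra B D]
  [IsScalarTower A C D] [IsScalarTower A B D]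
  {A₂ : Type u} [CommRing A₂] {B₂ C₂ D₂ : Type u} [CommRing B₂] [CommRing C₂]
  [CommRing D₂] [Algebra A₂ B₂] [Algebra A₂ C₂] [Algebra A₂ D₂] [Algebra C₂ D₂] [Algebra B₂ D₂]
  [IsScalarTower A₂ C₂ D₂] [IsScalarTower A₂ B₂ D₂]

omit [Algebra A₂ D₂] [Algebra C₂ D₂] [Algebra B₂ D₂] [IsScalarTower A₂ C₂ D₂]
  [IsScalarTower A₂ B₂ D₂] [CommRing D₂] in
theorem tmul_mem_map_left (J : Ideal A₂) {z : C₂} (hz : z ∈ J.map (algebraMap A₂ C₂)) (y : B₂) :
    z ⊗ₜ[A₂] y ∈ J.map (algebraMap A₂ (C₂ ⊗[A₂] B₂)) := by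
  have h1 : z ⊗ₜ[A₂] y = (Algebra.TensorProduct.includeLeft : C₂ →ₐ[A₂] C₂ ⊗[A₂] B₂) z *
      ((1 : C₂) ⊗ₜ[A₂] y) := by
    rw [Algebra.TensorProduct.includeLeft_apply, Algebra.TensorProduct.tmul_mul_tmul, mul_one,
      one_mul]
  rw [h1]
  refine Ideal.mul_mem_right _ _ ?_
  have h2 := Ideal.mem_map_of_mem
    (Algebra.TensorProduct.includeLeft : C₂ →ₐ[A₂] C₂ ⊗[A₂] B₂).toRingHom hz
  rw [Ideal.map_map] at h2
  have h3 : (Algebra.TensorProduct.includeLeft : C₂ →ₐ[A₂] C₂ ⊗[A₂] B₂).toRingHom.comp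
      (algebraMap A₂ C₂) = algebraMap A₂ (C₂ ⊗[A₂] B₂) := by
    refine RingHom.ext fun a => ?_
    exact (Algebra.TensorProduct.includeLeft : C₂ →ₐ[A₂] C₂ ⊗[A₂] B₂).commutes a
  rw [h3] at h2
  exact h2

omit [Algebra A₂ D₂] [Algebra C₂ D₂] [Algebra B₂ D₂] [IsScalarTower A₂ C₂ D₂]
  [IsScalarTower A₂ B₂ D₂] [CommRing D₂] in
theorem tmul_mem_map_right (J : Ideal A₂) (x : C₂) {z : B₂} (hz : z ∈ J.map (algebraMap A₂ B₂)) :
    x ⊗ₜ[A₂] z ∈ J.map (algebraMap A₂ (C₂ ⊗[A₂] B₂)) := by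
  have h1 : x ⊗ₜ[A₂] z = (Algebra.TensorProduct.includeRight : B₂ →ₐ[A₂] C₂ ⊗[A₂] B₂) z *
      (x ⊗ₜ[A₂] (1 : B₂)) := by
    rw [Algebra.TensorProduct.includeRight_apply, Algebra.TensorProduct.tmul_mul_tmul, mul_one,
      one_mul]
  rw [h1]
  refine Ideal.mul_mem_right _ _ ?_
  have h2 := Ideal.mem_map_of_mem
    (Algebra.TensorProduct.includeRight : B₂ →ₐ[A₂] C₂ ⊗[A₂] B₂).toRingHom hz
  rw [Ideal.map_map] at h2
  have h3 : (Algebra.TensorProduct.includeRight : B₂ →ₐ[A₂] C₂ ⊗[A₂] B₂).toRingHom.comp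
      (algebraMap A₂ B₂) = algebraMap A₂ (C₂ ⊗[A₂] B₂) := by
    refine RingHom.ext fun a => ?_
    exact (Algebra.TensorProduct.includeRight : B₂ →ₐ[A₂] C₂ ⊗[A₂] B₂).commutes a
  rw [h3] at h2
  exact h2

/-- Stability of `IsCTP` under (compatible) completed localizations of all rings involved. -/
theorem IsCTP.of_isCLoc (h : IsCTP A I B C D)
    (α : A →+* A₂) (β : B →+* B₂) (γ : C →+* C₂) (δ : D →+* D₂)
    (hβ : β.comp (algebraMap A B) = (algebraMap A₂ B₂).comp α)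
    (hγ : γ.comp (algebraMap A C) = (algebraMap A₂ C₂).comp α)
    (hδC : δ.comp (algebraMap C D) = (algebraMap C₂ D₂).comp γ)
    (hδB : δ.comp (algebraMap B D) = (algebraMap B₂ D₂).comp β)
    (f : A) (hf : IsUnit (α f)) (s : C) (sD : D) (hsD : algebraMap C D s = sD)
    (hB : IsCLoc (I.map (algebraMap A B)) (algebraMap A B f) β)
    (hC : IsCLoc (I.map (algebraMap A C)) s γ)
    (hD : IsCLoc (I.map (algebraMap A D)) sD δ) :
    IsCTP A₂ (I.map α) B₂ C₂ D₂ := by
  -- notation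
  obtain ⟨ι, hι⟩ : ∃ ι : C ⊗[A] B →+* C₂ ⊗[A₂] B₂, ι = tensorLift α β γ hβ hγ := ⟨_, rfl⟩
  have hιt : ∀ c b, ι (c ⊗ₜ b) = γ c ⊗ₜ β b := by
    intro c b; rw [hι, tensorLift_tmul]
  have hιA : ι.comp (algebraMap A (C ⊗[A] B)) = (algebraMap A₂ (C₂ ⊗[A₂] B₂)).comp α := by
    rw [hι, tensorLift_comp_algebraMap]
  have hδA : δ.comp (algebraMap A D) = (algebraMap A₂ D₂).comp α := by
    rw [IsScalarTower.algebraMap_eq A C D, ← RingHom.comp_assoc, hδC, RingHom.comp_assoc, hγ,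
      ← RingHom.comp_assoc, ← IsScalarTower.algebraMap_eq]
  -- (F1)
  have hF1 : ∀ e : C ⊗[A] B, prodMap A₂ B₂ C₂ D₂ (ι e) = δ (prodMap A B C D e) := by
    intro e
    induction e using TensorProduct.induction_on with
    | zero => simp
    | tmul c b =>
      rw [hιt, prodMap_tmul, prodMap_tmul, map_mul]
      have e1 : δ (algebraMap C D c) = algebraMap C₂ D₂ (γ c) := congrArg (fun χ => χ c) hδC
      have e2 : δ (algebraMap B D b) = algebraMap B₂ D₂ (β b) := congrArg (fun χ => χ b) hδB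
      rw [e1, e2]
    | add x y hx hy => simp only [map_add, hx, hy]
  -- ideals
  have hPD : ∀ n : ℕ, (((I.map α) ^ n).map (algebraMap A₂ D₂)) =
      ((I ^ n).map (algebraMap A D)).map δ := by
    intro n
    rw [← Ideal.map_pow, Ideal.map_map, Ideal.map_map, hδA]
  have hPE : ∀ n : ℕ, (((I.map α) ^ n).map (algebraMap A₂ (C₂ ⊗[A₂] B₂))) =
      ((I ^ n).map (algebraMap A (C ⊗[A] B))).map ι := by
    intro n
    rw [← Ideal.map_pow, Ideal.map_map, Ideal.map_map, hιA]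
  have hPC : ∀ n : ℕ, (((I.map α) ^ n).map (algebraMap A₂ C₂)) =
      ((I.map (algebraMap A C)) ^ n).map γ := by
    intro n
    rw [← Ideal.map_pow, ← Ideal.map_pow, Ideal.map_map, Ideal.map_map, hγ]
  have hPB : ∀ n : ℕ, (((I.map α) ^ n).map (algebraMap A₂ B₂)) =
      ((I.map (algebraMap A B)) ^ n).map β := by
    intro n
    rw [← Ideal.map_pow, ← Ideal.map_pow, Ideal.map_map, Ideal.map_map, hβ]
  have hPD' : ∀ n : ℕ, ((I.map (algebraMap A D)) ^ n).map δ =
      ((I.map α) ^ n).map (algebraMap A₂ D₂) := by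
    intro n
    rw [hPD, ← Ideal.map_pow]
  -- units
  obtain ⟨v, hv⟩ := hC.unit.exists_right_inv
  have hδs : δ sD = algebraMap C₂ D₂ (γ s) := by
    rw [← hsD]; exact congrArg (fun χ => χ s) hδC
  have hw : δ sD * algebraMap C₂ D₂ v = 1 := by
    rw [hδs, ← map_mul, hv, map_one]
  have hsv : (γ s ⊗ₜ[A₂] (1 : B₂)) * (v ⊗ₜ[A₂] (1 : B₂)) = 1 := by
    rw [Algebra.TensorProduct.tmul_mul_tmul, hv, mul_one]; rfl
  have hιs : ι (s ⊗ₜ 1) = γ s ⊗ₜ[A₂] (1 : B₂) := by rw [hιt, map_one]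
  have hμs : ∀ x : C₂, prodMap A₂ B₂ C₂ D₂ (x ⊗ₜ 1) = algebraMap C₂ D₂ x := by
    intro x; rw [prodMap_tmul, map_one, mul_one]
  constructor
  · -- surjectivity
    intro n d₂
    obtain ⟨k, d, hd⟩ := hD.dense n d₂
    obtain ⟨e, he⟩ := h.surj n d
    refine ⟨(v ⊗ₜ 1) ^ k * ι e, ?_⟩
    rw [map_mul, map_pow, hμs, hF1]
    have e1 : d₂ - algebraMap C₂ D₂ v ^ k * δ (prodMap A B C D e) =
        algebraMap C₂ D₂ v ^ k * ((δ sD ^ k * d₂ - δ d) + δ (d - prodMap A B C D e)) := by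
      have : algebraMap C₂ D₂ v ^ k * δ sD ^ k = 1 := by
        rw [← mul_pow, mul_comm, hw, one_pow]
      calc d₂ - algebraMap C₂ D₂ v ^ k * δ (prodMap A B C D e)
          = (algebraMap C₂ D₂ v ^ k * δ sD ^ k) * d₂ -
            algebraMap C₂ D₂ v ^ k * δ (prodMap A B C D e) := by rw [this, one_mul]
        _ = _ := by rw [map_sub]; ring
    rw [e1]
    refine Ideal.mul_mem_left _ _ (Ideal.add_mem _ ?_ ?_)
    · rw [← hPD']; exact hd
    · rw [hPD]; exact Ideal.mem_map_of_mem _ he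
  · -- injectivity
    intro n e₂ he₂
    -- Step 1: approximation
    have happrox : ∀ e₂ : C₂ ⊗[A₂] B₂, ∃ (k : ℕ) (e : C ⊗[A] B),
        (γ s ⊗ₜ[A₂] (1 : B₂)) ^ k * e₂ - ι e ∈
          ((I.map α) ^ n).map (algebraMap A₂ (C₂ ⊗[A₂] B₂)) := by
      intro e₂
      induction e₂ using TensorProduct.induction_on with
      | zero => exact ⟨0, 0, by simp⟩
      | tmul x y =>
        obtain ⟨l, b, hb⟩ := hB.dense n y
        have hβf : β (algebraMap A B f) = algebraMap A₂ B₂ (α f) :=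
          congrArg (fun χ => χ f) hβ
        obtain ⟨u', hu'⟩ := hf.exists_right_inv
        obtain ⟨k, c, hc⟩ := hC.dense n (algebraMap A₂ C₂ (u' ^ l) * x)
        refine ⟨k, c ⊗ₜ b, ?_⟩
        have e1 : x ⊗ₜ[A₂] y = (algebraMap A₂ C₂ (u' ^ l) * x) ⊗ₜ[A₂]
            (β (algebraMap A B f) ^ l * y) := by
          rw [hβf, ← map_pow, ← Algebra.smul_def, ← Algebra.smul_def, TensorProduct.smul_tmul,
            smul_smul, ← mul_pow, mul_comm, hu', one_pow, one_smul]
        have e2 : (γ s ⊗ₜ[A₂] (1 : B₂)) ^ k * (x ⊗ₜ[A₂] y) - ι (c ⊗ₜ b) =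
            (γ s ^ k * (algebraMap A₂ C₂ (u' ^ l) * x) - γ c) ⊗ₜ[A₂]
              (β (algebraMap A B f) ^ l * y) +
            γ c ⊗ₜ[A₂] (β (algebraMap A B f) ^ l * y - β b) := by
          rw [hιt]
          conv_lhs => rw [e1]
          rw [Algebra.TensorProduct.tmul_pow, one_pow, Algebra.TensorProduct.tmul_mul_tmul,
            one_mul, TensorProduct.sub_tmul, TensorProduct.tmul_sub]
          abel
        rw [e2]
        refine Ideal.add_mem _ (tmul_mem_map_left _ ?_ _) (tmul_mem_map_right _ _ ?_)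
        · rw [hPC]; exact hc
        · rw [hPB]; exact hb
      | add x y hx hy =>
        obtain ⟨k, e, he⟩ := hx
        obtain ⟨k', e', he'⟩ := hy
        refine ⟨k + k', (s ⊗ₜ 1) ^ k' * e + (s ⊗ₜ 1) ^ k * e', ?_⟩
        have e1 : (γ s ⊗ₜ[A₂] (1 : B₂)) ^ (k + k') * (x + y) -
            ι ((s ⊗ₜ 1) ^ k' * e + (s ⊗ₜ 1) ^ k * e') =
            (γ s ⊗ₜ[A₂] (1 : B₂)) ^ k' * ((γ s ⊗ₜ[A₂] (1 : B₂)) ^ k * x - ι e) +
            (γ s ⊗ₜ[A₂] (1 : B₂)) ^ k * ((γ s ⊗ₜ[A₂] (1 : B₂)) ^ k' * y - ι e') := by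
          rw [map_add, map_mul, map_mul, map_pow, map_pow, hιs, pow_add]
          ring
        rw [e1]
        exact Ideal.add_mem _ (Ideal.mul_mem_left _ _ he) (Ideal.mul_mem_left _ _ he')
    obtain ⟨k, e, hke⟩ := happrox e₂
    -- Step 2
    have h1 : prodMap A₂ B₂ C₂ D₂ (ι e) ∈ ((I.map α) ^ n).map (algebraMap A₂ D₂) := by
      have h2 : prodMap A₂ B₂ C₂ D₂ ((γ s ⊗ₜ[A₂] (1 : B₂)) ^ k * e₂ - ι e) ∈
          ((I.map α) ^ n).map (algebraMap A₂ D₂) := by
        have h3 := Ideal.mem_map_of_mem (prodMap A₂ B₂ C₂ D₂).toRingHom hke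
        rw [Ideal.map_map] at h3
        have h4 : (prodMap A₂ B₂ C₂ D₂).toRingHom.comp (algebraMap A₂ (C₂ ⊗[A₂] B₂)) =
            algebraMap A₂ D₂ := by
          refine RingHom.ext fun a => ?_
          exact (prodMap A₂ B₂ C₂ D₂).commutes a
        rw [h4] at h3
        exact h3
      have h5 : prodMap A₂ B₂ C₂ D₂ (ι e) =
          prodMap A₂ B₂ C₂ D₂ ((γ s ⊗ₜ[A₂] (1 : B₂)) ^ k) * prodMap A₂ B₂ C₂ D₂ e₂ -
            prodMap A₂ B₂ C₂ D₂ ((γ s ⊗ₜ[A₂] (1 : B₂)) ^ k * e₂ - ι e) := by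
        rw [map_sub, map_mul]; ring
      rw [h5]
      exact Ideal.sub_mem _ (Ideal.mul_mem_left _ _ he₂) h2
    rw [hF1, ← hPD'] at h1
    obtain ⟨m, hm⟩ := hD.ker n _ h1
    have h6 : prodMap A B C D ((s ⊗ₜ 1) ^ m * e) ∈ (I ^ n).map (algebraMap A D) := by
      rw [map_mul, map_pow, prodMap_tmul, map_one, mul_one, hsD, Ideal.map_pow]
      exact hm
    have h7 := h.inj n _ h6
    have h8 : ι ((s ⊗ₜ 1) ^ m * e) ∈ ((I.map α) ^ n).map (algebraMap A₂ (C₂ ⊗[A₂] B₂)) := by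
      rw [hPE]; exact Ideal.mem_map_of_mem _ h7
    rw [map_mul, map_pow, hιs] at h8
    have h9 : ι e ∈ ((I.map α) ^ n).map (algebraMap A₂ (C₂ ⊗[A₂] B₂)) := by
      have : ι e = (v ⊗ₜ[A₂] (1 : B₂)) ^ m * ((γ s ⊗ₜ[A₂] (1 : B₂)) ^ m * ι e) := by
        rw [← mul_assoc, ← mul_pow, mul_comm (v ⊗ₜ[A₂] (1 : B₂)), hsv, one_pow, one_mul]
      rw [this]
      exact Ideal.mul_mem_left _ _ h8
    have h10 : (γ s ⊗ₜ[A₂] (1 : B₂)) ^ k * e₂ ∈
        ((I.map α) ^ n).map (algebraMap A₂ (C₂ ⊗[A₂] B₂)) := by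
      have : (γ s ⊗ₜ[A₂] (1 : B₂)) ^ k * e₂ =
          ((γ s ⊗ₜ[A₂] (1 : B₂)) ^ k * e₂ - ι e) + ι e := by ring
      rw [this]
      exact Ideal.add_mem _ hke h9
    have : e₂ = (v ⊗ₜ[A₂] (1 : B₂)) ^ k * ((γ s ⊗ₜ[A₂] (1 : B₂)) ^ k * e₂) := by
      rw [← mul_assoc, ← mul_pow, mul_comm (v ⊗ₜ[A₂] (1 : B₂)), hsv, one_pow, one_mul]
    rw [this]
    exact Ideal.mul_mem_left _ _ h10

end Stab

end Groth.Agent.Lib.H94Rig
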