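import Groth.Agent.Lib.H94Rig12
import Groth.Agent.Lib.WEtaleNoeth68
import Mathlib.RingTheory.Localization.BaseChange

/-!
# Rig-closed primes XIII: flatness of completed tensor products at primes with finite residue

* `flat_atPrime_tensor`: base change of flatness at a prime of a tensor product.
* `localRingHom_mod`: a ring map which is bijective modulo an ideal stays so after localizing at
  a prime containing the ideal.
* `tensor_quotient_inj`, `tensor_quotient_surj`: for `D` levelwise the tensor product `C ⊗[A] B`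
  and `J ⊂ C` with `C/J` finite over `A`, `(C ⊗[A] B)/J → D/JD` is bijective.
* `finite_quotient_pow`: `C/rⁿ` is finite over `A` if `C/r` is.
* `flat_atPrime_of_isCTP`: the main flatness statement.
-/

set_option autoImplicit false
universe u

namespace Groth.Agent.Lib.H94Rig

open Groth.Agent.Lib TensorProduct

section LemG

variable {R S C : Type u} [CommRing R] [CommRing S] [CommRing C] [Algebra R S] [Algebra R C]

/-- Base change of flatness at a prime of a tensor product. -/
theorem flat_atPrime_tensor (Q : Ideal (C ⊗[R] S)) [Q.IsPrime] (𝔟 : Ideal S) [𝔟.IsPrime]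
    (h𝔟 : Q.comap (Algebra.TensorProduct.includeRight : S →ₐ[R] C ⊗[R] S).toRingHom ≤ 𝔟)
    [Module.Flat R (Localization.AtPrime 𝔟)] : Module.Flat C (Localization.AtPrime Q) := by
  let algTW : Algebra (C ⊗[R] S) (C ⊗[R] Localization.AtPrime 𝔟) :=
    (Algebra.TensorProduct.map (AlgHom.id R C)
      (IsScalarTower.toAlgHom R S (Localization.AtPrime 𝔟))).toRingHom.toAlgebra
  have towC : IsScalarTower C (C ⊗[R] S) (C ⊗[R] Localization.AtPrime 𝔟) :=
    .of_algebraMap_eq <| by intro; simp [RingHom.algebraMap_toAlgebra]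
  have hloc1 : IsLocalization (𝔟.primeCompl.map
      (Algebra.TensorProduct.includeRight (R := R) (A := C)))
      (C ⊗[R] Localization.AtPrime 𝔟) :=
    IsLocalization.tensorProduct_tensorProduct_right R C 𝔟.primeCompl (Localization.AtPrime 𝔟)
      (by ext; simp [RingHom.algebraMap_toAlgebra])
  have hle : 𝔟.primeCompl.map (Algebra.TensorProduct.includeRight (R := R) (A := C)) ≤
      Q.primeCompl := by
    rintro _ ⟨y, hy, rfl⟩
    intro hyQ
    exact hy (h𝔟 hyQ)
  have hunits : ∀ y : 𝔟.primeCompl.map (Algebra.TensorProduct.includeRight (R := R) (A := C)),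
      IsUnit (algebraMap (C ⊗[R] S) (Localization.AtPrime Q) y) := fun y =>
    IsLocalization.map_units (M := Q.primeCompl) _ ⟨y.1, hle y.2⟩
  let algWQ : Algebra (C ⊗[R] Localization.AtPrime 𝔟) (Localization.AtPrime Q) :=
    (IsLocalization.lift (M := 𝔟.primeCompl.map
      (Algebra.TensorProduct.includeRight (R := R) (A := C))) hunits).toAlgebra
  have towT : IsScalarTower (C ⊗[R] S) (C ⊗[R] Localization.AtPrime 𝔟) (Localization.AtPrime Q) :=
    .of_algebraMap_eq fun x => by
      change _ = IsLocalization.lift hunits _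
      rw [IsLocalization.lift_eq]
  have hloc2 : IsLocalization (Q.primeCompl.map (algebraMap (C ⊗[R] S)
      (C ⊗[R] Localization.AtPrime 𝔟))) (Localization.AtPrime Q) :=
    IsLocalization.isLocalization_of_submonoid_le (C ⊗[R] Localization.AtPrime 𝔟)
      (Localization.AtPrime Q) _ Q.primeCompl hle
  have flat2 : Module.Flat (C ⊗[R] Localization.AtPrime 𝔟) (Localization.AtPrime Q) :=
    IsLocalization.flat (Localization.AtPrime Q) (Q.primeCompl.map (algebraMap (C ⊗[R] S)
      (C ⊗[R] Localization.AtPrime 𝔟)))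
  have towC2 : IsScalarTower C (C ⊗[R] Localization.AtPrime 𝔟) (Localization.AtPrime Q) :=
    IsScalarTower.of_algebraMap_eq (R := C) (S := C ⊗[R] Localization.AtPrime 𝔟)
      (A := Localization.AtPrime Q) fun c => by
      have e1 : algebraMap C (Localization.AtPrime Q) c =
          algebraMap (C ⊗[R] S) (Localization.AtPrime Q) (algebraMap C (C ⊗[R] S) c) :=
        IsScalarTower.algebraMap_apply C (C ⊗[R] S) (Localization.AtPrime Q) c
      have e2 : ∀ x, algebraMap (C ⊗[R] S) (Localization.AtPrime Q) x =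
          algebraMap (C ⊗[R] Localization.AtPrime 𝔟) (Localization.AtPrime Q)
            (algebraMap (C ⊗[R] S) (C ⊗[R] Localization.AtPrime 𝔟) x) := fun x =>
        IsScalarTower.algebraMap_apply (C ⊗[R] S) (C ⊗[R] Localization.AtPrime 𝔟)
          (Localization.AtPrime Q) x
      have e3 : algebraMap C (C ⊗[R] Localization.AtPrime 𝔟) c =
          algebraMap (C ⊗[R] S) (C ⊗[R] Localization.AtPrime 𝔟) (algebraMap C (C ⊗[R] S) c) :=
        IsScalarTower.algebraMap_apply C (C ⊗[R] S) (C ⊗[R] Localization.AtPrime 𝔟) c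
      rw [e1, e2, ← e3]
  exact Module.Flat.trans C (C ⊗[R] Localization.AtPrime 𝔟) (Localization.AtPrime Q)

end LemG

section LemL

variable {E D : Type u} [CommRing E] [CommRing D] (φ : E →+* D) (K : Ideal E)

theorem localRingHom_mod_surj (hsurj : ∀ d : D, ∃ e : E, d - φ e ∈ K.map φ)
    (q : Ideal D) [q.IsPrime] (hKq : K.map φ ≤ q) (qE : Ideal E) [qE.IsPrime]
    (hqE : qE = q.comap φ) (y : Localization.AtPrime q) :
    ∃ x : Localization.AtPrime qE, y - Localization.localRingHom qE q φ hqE x ∈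
      (K.map φ).map (algebraMap D (Localization.AtPrime q)) := by
  obtain ⟨d, t, rfl⟩ := IsLocalization.exists_mk'_eq q.primeCompl y
  obtain ⟨e, he⟩ := hsurj d
  obtain ⟨e', he'⟩ := hsurj t
  have he'q : e' ∈ qE.primeCompl := by
    intro h
    have h' : φ e' ∈ q := by rw [hqE] at h; exact h
    apply t.2
    have : (t : D) = (t - φ e') + φ e' := by ring
    rw [this]
    exact Ideal.add_mem _ (hKq he') h'
  refine ⟨IsLocalization.mk' _ e ⟨e', he'q⟩, ?_⟩
  rw [Localization.localRingHom_mk', ← IsLocalization.mk'_sub,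
    IsLocalization.mk'_mem_map_algebraMap_iff q.primeCompl]
  refine ⟨1, Submonoid.one_mem _, ?_⟩
  rw [one_mul]
  have : d * φ e' - φ e * (t : D) = (d - φ e) * t - d * (t - φ e') := by ring
  change d * φ e' - φ e * (t : D) ∈ _
  rw [this]
  exact Ideal.sub_mem _ (Ideal.mul_mem_right _ _ he) (Ideal.mul_mem_left _ _ he')

theorem localRingHom_mod_inj (hsurj : ∀ d : D, ∃ e : E, d - φ e ∈ K.map φ)
    (hinj : ∀ e : E, φ e ∈ K.map φ → e ∈ K)
    (q : Ideal D) [q.IsPrime] (hKq : K.map φ ≤ q) (qE : Ideal E) [qE.IsPrime]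
    (hqE : qE = q.comap φ) (x : Localization.AtPrime qE)
    (hx : Localization.localRingHom qE q φ hqE x ∈
      (K.map φ).map (algebraMap D (Localization.AtPrime q))) :
    x ∈ K.map (algebraMap E (Localization.AtPrime qE)) := by
  obtain ⟨e, t, rfl⟩ := IsLocalization.exists_mk'_eq qE.primeCompl x
  rw [Localization.localRingHom_mk', IsLocalization.mk'_mem_map_algebraMap_iff q.primeCompl] at hx
  obtain ⟨s, hs, hse⟩ := hx
  obtain ⟨e'', he''⟩ := hsurj s
  have he''q : e'' ∈ qE.primeCompl := by
    intro h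
    have h' : φ e'' ∈ q := by rw [hqE] at h; exact h
    apply hs
    have : s = (s - φ e'') + φ e'' := by ring
    rw [this]
    exact Ideal.add_mem _ (hKq he'') h'
  rw [IsLocalization.mk'_mem_map_algebraMap_iff qE.primeCompl]
  refine ⟨e'', he''q, hinj _ ?_⟩
  have : φ (e'' * e) = s * φ e - (s - φ e'') * φ e := by rw [map_mul]; ring
  rw [this]
  exact Ideal.sub_mem _ hse (Ideal.mul_mem_right _ _ he'')

end LemL

section LemA

attribute [local instance] Algebra.TensorProduct.rightAlgebra

variable {A : Type u} [CommRing A] {I : Ideal A} {B C D : Type u} [CommRing B] [CommRing C]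
  [CommRing D] [Algebra A B] [Algebra A C] [Algebra A D] [Algebra C D] [Algebra B D]
  [IsScalarTower A C D] [IsScalarTower A B D]

omit [Algebra A C] [Algebra A D] [Algebra C D] [Algebra B D]
  [IsScalarTower A C D] [IsScalarTower A B D] [CommRing C] [CommRing D] in
/-- Elements of `Iᵐ N` lie in `(I B)ᵐ • ⊤` for a `B`-algebra `N`. -/
theorem mem_pow_smul_top_of_mem_map {N : Type u} [CommRing N] [Algebra A N] [Algebra B N]
    [IsScalarTower A B N] (m : ℕ) {x : N} (hx : x ∈ (I ^ m).map (algebraMap A N)) :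
    x ∈ (I.map (algebraMap A B)) ^ m • (⊤ : Submodule B N) := by
  rw [Ideal.smul_top_eq_map]
  change x ∈ ((I.map (algebraMap A B)) ^ m).map (algebraMap B N)
  rw [← Ideal.map_pow, Ideal.map_map, ← IsScalarTower.algebraMap_eq A B N]
  exact hx

omit [Algebra B D] [IsScalarTower A B D] in
theorem prodMap_comp_algebraMap_left [Algebra B D] [IsScalarTower A B D] :
    (prodMap A B C D).toRingHom.comp (algebraMap C (C ⊗[A] B)) = algebraMap C D := by
  refine RingHom.ext fun c => ?_
  change prodMap A B C D (algebraMap C (C ⊗[A] B) c) = _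
  rw [Algebra.TensorProduct.algebraMap_apply, prodMap_tmul, map_one, mul_one]
  rfl

theorem prodMap_smul_right (b : B) (e : C ⊗[A] B) :
    prodMap A B C D (b • e) = algebraMap B D b * prodMap A B C D e := by
  rw [Algebra.smul_def, map_mul, Algebra.TensorProduct.right_algebraMap_apply, prodMap_tmul,
    map_one, one_mul]

theorem map_map_prodMap (J : Ideal C) :
    (J.map (algebraMap C (C ⊗[A] B))).map (prodMap A B C D).toRingHom =
      J.map (algebraMap C D) := by
  rw [Ideal.map_map, prodMap_comp_algebraMap_left]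

omit [Algebra A D] [Algebra C D] [Algebra B D] [IsScalarTower A C D] [IsScalarTower A B D]
  [CommRing D] in
theorem finite_tensor_quotient (J : Ideal C) [Module.Finite A (C ⧸ J)] :
    Module.Finite B ((C ⊗[A] B) ⧸ J.map (algebraMap C (C ⊗[A] B))) := by
  let ψ : C →ₐ[A] ((C ⊗[A] B) ⧸ J.map (algebraMap C (C ⊗[A] B))) :=
    (Ideal.Quotient.mkₐ A _).comp (Algebra.TensorProduct.includeLeft : C →ₐ[A] C ⊗[A] B)
  have hψ : ∀ c, ψ c = Ideal.Quotient.mk _ (c ⊗ₜ[A] (1 : B)) := fun _ => rfl
  have hψJ : ∀ a : C, a ∈ J → ψ a = 0 := by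
    intro a ha
    rw [hψ, Ideal.Quotient.eq_zero_iff_mem]
    have : a ⊗ₜ[A] (1 : B) = algebraMap C (C ⊗[A] B) a := by
      rw [Algebra.TensorProduct.algebraMap_apply]; rfl
    rw [this]
    exact Ideal.mem_map_of_mem _ ha
  let ψ' : C ⧸ J →ₐ[A] ((C ⊗[A] B) ⧸ J.map (algebraMap C (C ⊗[A] B))) :=
    Ideal.Quotient.liftₐ J ψ hψJ
  have hψ' : ∀ c, ψ' (Ideal.Quotient.mk J c) = Ideal.Quotient.mk _ (c ⊗ₜ[A] (1 : B)) :=
    fun _ => rfl
  let F : B ⊗[A] (C ⧸ J) →ₗ[B] ((C ⊗[A] B) ⧸ J.map (algebraMap C (C ⊗[A] B))) :=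
    LinearMap.liftBaseChange B ψ'.toLinearMap
  refine Module.Finite.of_surjective F ?_
  intro y
  obtain ⟨e, rfl⟩ := Ideal.Quotient.mk_surjective y
  induction e using TensorProduct.induction_on with
  | zero => exact ⟨0, map_zero _⟩
  | tmul c b =>
    refine ⟨b ⊗ₜ Ideal.Quotient.mk J c, ?_⟩
    rw [LinearMap.liftBaseChange_tmul]
    change b • ψ' (Ideal.Quotient.mk J c) = _
    rw [hψ']
    change Ideal.Quotient.mk _ (b • (c ⊗ₜ[A] (1 : B))) = _
    rw [Algebra.smul_def, Algebra.TensorProduct.right_algebraMap_apply,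
      Algebra.TensorProduct.tmul_mul_tmul, one_mul, mul_one]
  | add x y hx hy =>
    obtain ⟨x', hx'⟩ := hx
    obtain ⟨y', hy'⟩ := hy
    exact ⟨x' + y', by rw [map_add, hx', hy', map_add]⟩

/-- Approximation of elements of `J D` by images of elements of `J (C ⊗ B)`. -/
theorem exists_mem_map_sub_mem (h : IsCTP A I B C D) (J : Ideal C) (m : ℕ) (y : D)
    (hy : y ∈ J.map (algebraMap C D)) :
    ∃ e' ∈ J.map (algebraMap C (C ⊗[A] B)),
      y - prodMap A B C D e' ∈ (I ^ m).map (algebraMap A D) := by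
  have hcomp : ∀ c : C, prodMap A B C D (algebraMap C (C ⊗[A] B) c) = algebraMap C D c :=
    fun c => congrArg (fun χ : C →+* D => χ c)
      (prodMap_comp_algebraMap_left (A := A) (B := B) (C := C) (D := D))
  refine Submodule.span_induction (p := fun y _ => ∃ e' ∈ J.map (algebraMap C (C ⊗[A] B)),
      y - prodMap A B C D e' ∈ (I ^ m).map (algebraMap A D)) ?_ ?_ ?_ ?_ hy
  · rintro _ ⟨j, hj, rfl⟩
    refine ⟨algebraMap C (C ⊗[A] B) j, Ideal.mem_map_of_mem _ hj, ?_⟩
    rw [hcomp, sub_self]
    exact Ideal.zero_mem _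
  · exact ⟨0, Ideal.zero_mem _, by simp⟩
  · rintro x y _ _ ⟨ex, hex, hx⟩ ⟨ey, hey, hy⟩
    refine ⟨ex + ey, Ideal.add_mem _ hex hey, ?_⟩
    have : x + y - prodMap A B C D (ex + ey) =
        (x - prodMap A B C D ex) + (y - prodMap A B C D ey) := by rw [map_add]; ring
    rw [this]
    exact Ideal.add_mem _ hx hy
  · rintro d y _ ⟨ey, hey, hy⟩
    obtain ⟨ed, hed⟩ := h.surj m d
    refine ⟨ed * ey, Ideal.mul_mem_left _ _ hey, ?_⟩
    have : d • y - prodMap A B C D (ed * ey) =
        d * (y - prodMap A B C D ey) + (d - prodMap A B C D ed) * prodMap A B C D ey := by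
      rw [map_mul, smul_eq_mul]; ring
    rw [this]
    exact Ideal.add_mem _ (Ideal.mul_mem_left _ _ hy) (Ideal.mul_mem_right _ _ hed)

theorem tensor_quotient_inj [IsNoetherianRing B]
    (hjac : I.map (algebraMap A B) ≤ Ideal.jacobson ⊥)
    (h : IsCTP A I B C D) (J : Ideal C) [Module.Finite A (C ⧸ J)] (e : C ⊗[A] B)
    (he : prodMap A B C D e ∈ J.map (algebraMap C D)) :
    e ∈ J.map (algebraMap C (C ⊗[A] B)) := by
  have hfin : Module.Finite B ((C ⊗[A] B) ⧸ J.map (algebraMap C (C ⊗[A] B))) :=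
    finite_tensor_quotient J
  rw [← Ideal.Quotient.eq_zero_iff_mem]
  have hkrull := Ideal.iInf_pow_smul_eq_bot_of_le_jacobson
    (M := (C ⊗[A] B) ⧸ J.map (algebraMap C (C ⊗[A] B))) (I.map (algebraMap A B)) hjac
  rw [← Submodule.mem_bot B, ← hkrull, Submodule.mem_iInf]
  intro m
  obtain ⟨e', he'K, he'⟩ := exists_mem_map_sub_mem h J m _ he
  have h1 : prodMap A B C D (e - e') ∈ (I ^ m).map (algebraMap A D) := by
    rw [map_sub]; exact he'
  have h2 := h.inj m _ h1
  have h3 : Ideal.Quotient.mk (J.map (algebraMap C (C ⊗[A] B))) e =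
      Ideal.Quotient.mk _ (e - e') := by
    rw [map_sub, Ideal.Quotient.eq_zero_iff_mem.2 he'K, sub_zero]
  rw [h3]
  apply mem_pow_smul_top_of_mem_map (I := I) m
  have h4 := Ideal.mem_map_of_mem (Ideal.Quotient.mk (J.map (algebraMap C (C ⊗[A] B)))) h2
  rw [Ideal.map_map] at h4
  exact h4

theorem tensor_quotient_surj [IsNoetherianRing A] [IsAdicComplete I A] [IsNoetherianRing B]
    [IsAdicComplete (I.map (algebraMap A B)) B] [IsNoetherianRing D]
    [IsAdicComplete (I.map (algebraMap A D)) D]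
    (h : IsCTP A I B C D) (J : Ideal C) [Module.Finite A (C ⧸ J)] (d : D) :
    ∃ e : C ⊗[A] B, d - prodMap A B C D e ∈ J.map (algebraMap C D) := by
  have hjac : I.map (algebraMap A B) ≤ Ideal.jacobson ⊥ := IsAdicComplete.le_jacobson_bot _
  have hfin₁ : Module.Finite B ((C ⊗[A] B) ⧸ J.map (algebraMap C (C ⊗[A] B))) :=
    finite_tensor_quotient J
  have hle : J.map (algebraMap C (C ⊗[A] B)) ≤
      (J.map (algebraMap C D)).comap (prodMap A B C D).toRingHom := by
    rw [← Ideal.map_le_iff_le_comap, map_map_prodMap]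
  let φ' : ((C ⊗[A] B) ⧸ J.map (algebraMap C (C ⊗[A] B))) →ₗ[B] (D ⧸ J.map (algebraMap C D)) :=
    { toFun := Ideal.quotientMap (J.map (algebraMap C D)) (prodMap A B C D).toRingHom hle
      map_add' := map_add _
      map_smul' := by
        intro b x
        obtain ⟨e, rfl⟩ := Ideal.Quotient.mk_surjective x
        change Ideal.quotientMap _ _ hle (Ideal.Quotient.mk _ (b • e)) =
          b • Ideal.quotientMap _ _ hle (Ideal.Quotient.mk _ e)
        rw [Ideal.quotientMap_mk, Ideal.quotientMap_mk]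
        change Ideal.Quotient.mk _ (prodMap A B C D (b • e)) =
          b • Ideal.Quotient.mk _ (prodMap A B C D e)
        rw [prodMap_smul_right, Algebra.smul_def, map_mul]
        rfl }
  have hφ' : ∀ e : C ⊗[A] B, φ' (Ideal.Quotient.mk (J.map (algebraMap C (C ⊗[A] B))) e) =
      Ideal.Quotient.mk (J.map (algebraMap C D)) (prodMap A B C D e) :=
    fun e => Ideal.quotientMap_mk (J := J.map (algebraMap C (C ⊗[A] B)))
      (I := J.map (algebraMap C D)) (f := (prodMap A B C D).toRingHom) (H := hle)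
  have hH : IsHausdorff (I.map (algebraMap A B)) (D ⧸ J.map (algebraMap C D)) := by
    rw [IsHausdorff.map_algebraMap_iff]
    exact isHausdorff_quotient _
  have hstep : ∀ d : D, ∃ e : C ⊗[A] B, Ideal.Quotient.mk (J.map (algebraMap C D)) d -
      φ' (Ideal.Quotient.mk _ e) ∈ I.map (algebraMap A B) •
        (⊤ : Submodule B (D ⧸ J.map (algebraMap C D))) := by
    intro d
    obtain ⟨e, he⟩ := h.surj 1 d
    refine ⟨e, ?_⟩
    rw [hφ', ← map_sub]
    have h1 := mem_pow_smul_top_of_mem_map (I := I) (B := B)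
      (N := D ⧸ J.map (algebraMap C D)) 1
      (x := Ideal.Quotient.mk (J.map (algebraMap C D)) (d - prodMap A B C D e)) (by
        have h4 := Ideal.mem_map_of_mem (Ideal.Quotient.mk (J.map (algebraMap C D))) he
        rw [Ideal.map_map] at h4
        exact h4)
    rwa [pow_one] at h1
  have hfinq : Module.Finite B ((D ⧸ J.map (algebraMap C D)) ⧸
      (I.map (algebraMap A B) • ⊤ : Submodule B (D ⧸ J.map (algebraMap C D)))) := by
    refine Module.Finite.of_surjective ((Submodule.mkQ _).comp φ') ?_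
    intro y
    obtain ⟨y', rfl⟩ := Submodule.mkQ_surjective _ y
    obtain ⟨d, rfl⟩ := Ideal.Quotient.mk_surjective y'
    obtain ⟨e, he⟩ := hstep d
    refine ⟨Ideal.Quotient.mk _ e, ?_⟩
    rw [LinearMap.comp_apply, Submodule.mkQ_apply, Submodule.mkQ_apply, eq_comm,
      Submodule.Quotient.eq]
    exact he
  have hfin₂ : Module.Finite B (D ⧸ J.map (algebraMap C D)) :=
    AdicPi.finite_of_finite_quotient (I.map (algebraMap A B)) _ hfinq
  have htop : (⊤ : Submodule B (D ⧸ J.map (algebraMap C D))) ≤ LinearMap.range φ' := by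
    apply Submodule.le_of_le_smul_of_le_jacobson_bot (Module.Finite.fg_top) hjac
    rintro y -
    obtain ⟨d, rfl⟩ := Ideal.Quotient.mk_surjective y
    obtain ⟨e, he⟩ := hstep d
    have : Ideal.Quotient.mk (J.map (algebraMap C D)) d = φ' (Ideal.Quotient.mk _ e) +
        (Ideal.Quotient.mk (J.map (algebraMap C D)) d - φ' (Ideal.Quotient.mk _ e)) := by ring
    rw [this]
    exact Submodule.add_mem_sup ⟨_, rfl⟩ he
  obtain ⟨x, hx⟩ := htop (Submodule.mem_top (x := Ideal.Quotient.mk (J.map (algebraMap C D)) d))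
  obtain ⟨e, rfl⟩ := Ideal.Quotient.mk_surjective x
  refine ⟨e, ?_⟩
  rw [← Ideal.Quotient.eq_zero_iff_mem, map_sub, sub_eq_zero, ← hφ']
  exact hx.symm

end LemA

section FinPow

variable {A : Type u} [CommRing A] {I : Ideal A} [IsNoetherianRing A] [IsAdicComplete I A]
  {C : Type u} [CommRing C] [Algebra A C] [IsNoetherianRing C]
  [IsAdicComplete (I.map (algebraMap A C)) C]

/-- `C/rⁿ` is a finite `A`-module if `C/r` is. -/
theorem finite_quotient_pow (hft : Algebra.FiniteType A (C ⧸ I.map (algebraMap A C)))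
    (r : Ideal C) [Module.Finite A (C ⧸ r)] (n : ℕ) : Module.Finite A (C ⧸ r ^ n) := by
  have hH : IsHausdorff I (C ⧸ r ^ n) := isHausdorff_quotient _
  have hft' : Algebra.FiniteType A ((C ⧸ r ^ n) ⧸ I.map (algebraMap A (C ⧸ r ^ n))) :=
    finiteType_quotient hft _
  set m : Ideal (C ⧸ r ^ n) := r.map (Ideal.Quotient.mk (r ^ n)) with hm
  have hmn : m ^ n = ⊥ := by
    rw [hm, ← Ideal.map_pow, Ideal.map_quotient_self]
  have hmrad : m ≤ (I.map (algebraMap A (C ⧸ r ^ n))).radical := by
    intro x hx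
    refine ⟨n, ?_⟩
    have : x ^ n ∈ m ^ n := Ideal.pow_mem_pow hx n
    rw [hmn, Ideal.mem_bot] at this
    rw [this]
    exact Ideal.zero_mem _
  have hle : r ≤ m.comap (Ideal.Quotient.mkₐ A (r ^ n)) := by
    rw [← Ideal.map_le_iff_le_comap]
    exact le_rfl
  have hfinm : Module.Finite A ((C ⧸ r ^ n) ⧸ m) :=
    Module.Finite.of_surjective
      (Ideal.quotientMapₐ m (Ideal.Quotient.mkₐ A (r ^ n)) hle).toLinearMap
      (Ideal.quotientMap_surjective (H := hle) (Ideal.Quotient.mkₐ_surjective A (r ^ n)))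
  exact finite_of_finite_quotient_of_le_radical I m hmrad

end FinPow

section Main

variable {A : Type u} [CommRing A] {I : Ideal A} [IsNoetherianRing A] [IsAdicComplete I A]
  {B C D : Type u} [CommRing B] [CommRing C] [CommRing D]
  [Algebra A B] [Algebra A C] [Algebra A D] [Algebra C D] [Algebra B D]
  [IsScalarTower A C D] [IsScalarTower A B D]
  [IsNoetherianRing B] [IsAdicComplete (I.map (algebraMap A B)) B]
  [IsNoetherianRing C]
  [IsNoetherianRing D] [IsAdicComplete (I.map (algebraMap A D)) D]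

/-- Let `D` be levelwise the tensor product `C ⊗[A] B` and `q` a prime of `D` such that `C/rⁿ` is
finite over `A` for `r = q ∩ C` and `B` is flat over `A` at `q ∩ B`. Then `D_q` is flat over `C`. -/
theorem flat_atPrime_of_isCTP (h : IsCTP A I B C D) (q : Ideal D) [q.IsPrime]
    (hfin : ∀ n : ℕ, Module.Finite A (C ⧸ (q.comap (algebraMap C D)) ^ n))
    [Module.Flat A (Localization.AtPrime (q.comap (algebraMap B D)))] :
    Module.Flat C (Localization.AtPrime q) := by
  have hjac : I.map (algebraMap A B) ≤ Ideal.jacobson ⊥ := IsAdicComplete.le_jacobson_bot _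
  obtain ⟨r, hr⟩ : ∃ r : Ideal C, r = q.comap (algebraMap C D) := ⟨_, rfl⟩
  obtain ⟨qE, hqE⟩ : ∃ qE : Ideal (C ⊗[A] B), qE = q.comap (prodMap A B C D).toRingHom :=
    ⟨_, rfl⟩
  have hqEp : qE.IsPrime := by rw [hqE]; exact Ideal.comap_isPrime _ _
  -- flatness of `(C ⊗ B)_{qE}` over `C`
  have h𝔟 : qE.comap (Algebra.TensorProduct.includeRight : B →ₐ[A] C ⊗[A] B).toRingHom ≤
      q.comap (algebraMap B D) := by
    intro b hb
    rw [Ideal.mem_comap, hqE, Ideal.mem_comap] at hb
    rw [Ideal.mem_comap]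
    have : (prodMap A B C D).toRingHom
        ((Algebra.TensorProduct.includeRight : B →ₐ[A] C ⊗[A] B).toRingHom b) =
        algebraMap B D b := by
      change prodMap A B C D ((1 : C) ⊗ₜ[A] b) = _
      rw [prodMap_tmul, map_one, one_mul]
    rwa [this] at hb
  have flatE : Module.Flat C (Localization.AtPrime qE) :=
    flat_atPrime_tensor qE (q.comap (algebraMap B D)) h𝔟
  -- the `C`-linear map `(C ⊗ B)_{qE} → D_q`
  have hcompC : (prodMap A B C D).toRingHom.comp (algebraMap C (C ⊗[A] B)) = algebraMap C D :=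
    prodMap_comp_algebraMap_left
  let lam : Localization.AtPrime qE →ₗ[C] Localization.AtPrime q :=
    { toFun := Localization.localRingHom qE q (prodMap A B C D).toRingHom hqE
      map_add' := map_add _
      map_smul' := by
        intro c x
        rw [Algebra.smul_def, map_mul, RingHom.id_apply, Algebra.smul_def,
          IsScalarTower.algebraMap_apply C (C ⊗[A] B) (Localization.AtPrime qE),
          Localization.localRingHom_to_map,
          IsScalarTower.algebraMap_apply C D (Localization.AtPrime q)]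
        congr 2
        exact congrArg (fun χ : C →+* D => χ c) hcompC }
  have hlam : ∀ x, lam x =
      Localization.localRingHom qE q (prodMap A B C D).toRingHom hqE x := fun _ => rfl
  have hrq : r.map (algebraMap C D) ≤ q := by
    rw [hr, Ideal.map_le_iff_le_comap]
  -- local criterion
  have hsepI : r.map (algebraMap C (Localization.AtPrime q)) ≤ Ideal.jacobson ⊥ := by
    rw [IsLocalRing.jacobson_eq_maximalIdeal ⊥ bot_ne_top,
      IsScalarTower.algebraMap_eq C D (Localization.AtPrime q), ← Ideal.map_map,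
      ← Localization.AtPrime.map_eq_maximalIdeal]
    exact Ideal.map_mono hrq
  refine FlatCrit.flat_of_flat_quotient_pow r
    (fun 𝔞 x hx => FlatCrit.eq_zero_of_forall_mem_pow_smul_top
      (S := Localization.AtPrime q) (M := Localization.AtPrime q) r hsepI x hx) ?_
  intro n _
  have hfinn : Module.Finite A (C ⧸ r ^ n) := by rw [hr]; exact hfin n
  have hKmap : ((r ^ n).map (algebraMap C (C ⊗[A] B))).map (prodMap A B C D).toRingHom =
      (r ^ n).map (algebraMap C D) := map_map_prodMap _
  have hsurjμ : ∀ d : D, ∃ e : C ⊗[A] B, d - (prodMap A B C D).toRingHom e ∈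
      ((r ^ n).map (algebraMap C (C ⊗[A] B))).map (prodMap A B C D).toRingHom := by
    intro d
    rw [hKmap]
    exact tensor_quotient_surj h (r ^ n) d
  have hinjμ : ∀ e : C ⊗[A] B, (prodMap A B C D).toRingHom e ∈
      ((r ^ n).map (algebraMap C (C ⊗[A] B))).map (prodMap A B C D).toRingHom →
      e ∈ (r ^ n).map (algebraMap C (C ⊗[A] B)) := by
    intro e he
    rw [hKmap] at he
    exact tensor_quotient_inj hjac h (r ^ n) e he
  have hKq : ((r ^ n).map (algebraMap C (C ⊗[A] B))).map (prodMap A B C D).toRingHom ≤ q := by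
    rw [hKmap]
    refine le_trans (Ideal.map_mono (Ideal.pow_le_self ?_)) hrq
    omega
  have hmapD : ∀ J : Ideal C, (J.map (algebraMap C D)).map
      (algebraMap D (Localization.AtPrime q)) = J.map (algebraMap C (Localization.AtPrime q)) := by
    intro J
    rw [Ideal.map_map, ← IsScalarTower.algebraMap_eq]
  have hmapE : ∀ J : Ideal C, (J.map (algebraMap C (C ⊗[A] B))).map
      (algebraMap (C ⊗[A] B) (Localization.AtPrime qE)) =
      J.map (algebraMap C (Localization.AtPrime qE)) := by
    intro J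
    rw [Ideal.map_map, ← IsScalarTower.algebraMap_eq]
  have hbij : Function.Bijective (lam.baseChange (C ⧸ r ^ n)) := by
    apply WEtaleNoeth68.baseChange_quotient_bijective
    · intro x hx
      rw [Ideal.smul_top_eq_map] at hx ⊢
      have hx' : lam x ∈ (r ^ n).map (algebraMap C (Localization.AtPrime q)) := hx
      rw [hlam, ← hmapD, ← hKmap] at hx'
      have := localRingHom_mod_inj (prodMap A B C D).toRingHom _ hsurjμ hinjμ q hKq qE hqE x hx'
      rw [hmapE] at this
      exact this
    · intro y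
      obtain ⟨x, hx⟩ := localRingHom_mod_surj (prodMap A B C D).toRingHom _ hsurjμ q hKq qE hqE y
      refine ⟨x, ?_⟩
      rw [Ideal.smul_top_eq_map]
      change y - lam x ∈ (r ^ n).map (algebraMap C (Localization.AtPrime q))
      rw [hlam, ← hmapD, ← hKmap]
      exact hx
  exact Module.Flat.of_linearEquiv (LinearEquiv.ofBijective _ hbij).symm

end Main

end Groth.Agent.Lib.H94Rig
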