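import Groth.Agent.Lib.H94Rig13

/-!
# Rig-closed primes XIV: rig-flat base change to a completed tensor product, naive form

`naive_rigFlat_completedTensor`: let `A → B` be rig-flat (strong form) and `C₁`, `D₁` adic tft
`A`-algebras such that `D₁` is levelwise the tensor product `C₁ ⊗[A] B`. Then `D₁` is flat over
`C₁` at every rig-closed prime of `D₁`.
-/

set_option autoImplicit false
universe u

namespace Groth.Agent.Lib.H94Rig

open Groth.Agent.Lib TensorProduct

section Core

variable {A : Type u} [CommRing A] [IsNoetherianRing A] {I : Ideal A} [IsAdicComplete I A]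
  {B : Type u} [CommRing B] [Algebra A B] [IsNoetherianRing B]
  [IsAdicComplete (I.map (algebraMap A B)) B]
  {C₁ : Type u} [CommRing C₁] [Algebra A C₁] [IsNoetherianRing C₁]
  [IsAdicComplete (I.map (algebraMap A C₁)) C₁]
  {D₁ : Type u} [CommRing D₁] [Algebra A D₁] [Algebra C₁ D₁] [Algebra B D₁]
  [IsScalarTower A C₁ D₁] [IsScalarTower A B D₁] [IsNoetherianRing D₁]
  [IsAdicComplete (I.map (algebraMap A D₁)) D₁]

omit [IsAdicComplete I A] [IsAdicComplete (I.map (algebraMap A B)) B]
  [IsAdicComplete (I.map (algebraMap A C₁)) C₁] in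
set_option maxHeartbeats 1600000 in
theorem naive_rigFlat_completedTensor
    (hftC : Algebra.FiniteType A (C₁ ⧸ I.map (algebraMap A C₁)))
    (hftD : Algebra.FiniteType A (D₁ ⧸ I.map (algebraMap A D₁)))
    (hAB : ∀ f : A, ∀ ψf : CAway I f →+* CAway (I.map (algebraMap A B)) (algebraMap A B f),
      ψf.comp (algebraMap (Localization.Away f) (CAway I f)) =
        (algebraMap (Localization.Away (algebraMap A B f))
          (CAway (I.map (algebraMap A B)) (algebraMap A B f))).comp
          (Localization.awayMap (algebraMap A B) f) →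
      ∀ qf : PrimeSpectrum (CAway (I.map (algebraMap A B)) (algebraMap A B f)),
        IsRigClosed (((I.map (algebraMap A B)).map
          (algebraMap B (Localization.Away (algebraMap A B f)))).map
          (algebraMap (Localization.Away (algebraMap A B f))
            (CAway (I.map (algebraMap A B)) (algebraMap A B f)))) qf →
        ((algebraMap (CAway (I.map (algebraMap A B)) (algebraMap A B f))
          (Localization.AtPrime qf.asIdeal)).comp ψf).Flat)
    (hH : IsCTP A I B C₁ D₁)
    (q : PrimeSpectrum D₁) (hq : IsRigClosed (I.map (algebraMap A D₁)) q) :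
    ((algebraMap D₁ (Localization.AtPrime q.asIdeal)).comp (algebraMap C₁ D₁)).Flat := by
  -- Step A: choice of `f`
  obtain ⟨f, hfu, hint⟩ := exists_unit_and_integral hftD hq
  have hgC : algebraMap C₁ D₁ (algebraMap A C₁ f) = algebraMap A D₁ f :=
    (IsScalarTower.algebraMap_apply A C₁ D₁ f).symm
  have hgB : algebraMap B D₁ (algebraMap A B f) = algebraMap A D₁ f :=
    (IsScalarTower.algebraMap_apply A B D₁ f).symm
  -- the maps of completed localizations
  obtain ⟨ψB, hψB⟩ : ∃ ψB : CAway I f →+* CAway (I.map (algebraMap A B)) (algebraMap A B f),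
      ψB = cAwayLift I (I.map (algebraMap A B)) f (algebraMap A B f) rfl le_rfl := ⟨_, rfl⟩
  obtain ⟨ψC, hψC⟩ : ∃ ψC : CAway I f →+* CAway (I.map (algebraMap A C₁)) (algebraMap A C₁ f),
      ψC = cAwayLift I (I.map (algebraMap A C₁)) f (algebraMap A C₁ f) rfl le_rfl := ⟨_, rfl⟩
  obtain ⟨ψD, hψD⟩ : ∃ ψD : CAway I f →+* CAway (I.map (algebraMap A D₁)) (algebraMap A D₁ f),
      ψD = cAwayLift I (I.map (algebraMap A D₁)) f (algebraMap A D₁ f) rfl le_rfl := ⟨_, rfl⟩
  obtain ⟨χC, hχC⟩ : ∃ χC : CAway (I.map (algebraMap A C₁)) (algebraMap A C₁ f) →+*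
      CAway (I.map (algebraMap A D₁)) (algebraMap A D₁ f),
      χC = cAwayLift (I.map (algebraMap A C₁)) (I.map (algebraMap A D₁)) (algebraMap A C₁ f)
        (algebraMap A D₁ f) hgC map_map_tower.le := ⟨_, rfl⟩
  obtain ⟨χB, hχB⟩ : ∃ χB : CAway (I.map (algebraMap A B)) (algebraMap A B f) →+*
      CAway (I.map (algebraMap A D₁)) (algebraMap A D₁ f),
      χB = cAwayLift (I.map (algebraMap A B)) (I.map (algebraMap A D₁)) (algebraMap A B f)
        (algebraMap A D₁ f) hgB map_map_tower.le := ⟨_, rfl⟩
  have hcommC : χC.comp ψC = ψD := by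
    rw [hχC, hψC, hψD]; exact cAwayLift_comp _ _ _ _ _ _ _ _ _ _ _ _
  have hcommB : χB.comp ψB = ψD := by
    rw [hχB, hψB, hψD]; exact cAwayLift_comp _ _ _ _ _ _ _ _ _ _ _ _
  -- algebra structures
  let algB : Algebra (CAway I f) (CAway (I.map (algebraMap A B)) (algebraMap A B f)) :=
    ψB.toAlgebra
  let algC : Algebra (CAway I f) (CAway (I.map (algebraMap A C₁)) (algebraMap A C₁ f)) :=
    ψC.toAlgebra
  let algD : Algebra (CAway I f) (CAway (I.map (algebraMap A D₁)) (algebraMap A D₁ f)) :=
    ψD.toAlgebra
  let algCD : Algebra (CAway (I.map (algebraMap A C₁)) (algebraMap A C₁ f))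
      (CAway (I.map (algebraMap A D₁)) (algebraMap A D₁ f)) := χC.toAlgebra
  let algBD : Algebra (CAway (I.map (algebraMap A B)) (algebraMap A B f))
      (CAway (I.map (algebraMap A D₁)) (algebraMap A D₁ f)) := χB.toAlgebra
  have towC : IsScalarTower (CAway I f) (CAway (I.map (algebraMap A C₁)) (algebraMap A C₁ f))
      (CAway (I.map (algebraMap A D₁)) (algebraMap A D₁ f)) :=
    IsScalarTower.of_algebraMap_eq fun x => (congrArg (fun χ => χ x) hcommC).symm
  have towB : IsScalarTower (CAway I f) (CAway (I.map (algebraMap A B)) (algebraMap A B f))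
      (CAway (I.map (algebraMap A D₁)) (algebraMap A D₁ f)) :=
    IsScalarTower.of_algebraMap_eq fun x => (congrArg (fun χ => χ x) hcommB).symm
  have towAB : IsScalarTower A (CAway I f) (CAway (I.map (algebraMap A B)) (algebraMap A B f)) := by
    refine IsScalarTower.of_algebraMap_eq fun a => ?_
    change _ = ψB _
    rw [hψB, cAwayLift_algebraMap]
    exact IsScalarTower.algebraMap_apply A B _ a
  have towAC : IsScalarTower A (CAway I f)
      (CAway (I.map (algebraMap A C₁)) (algebraMap A C₁ f)) := by
    refine IsScalarTower.of_algebraMap_eq fun a => ?_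
    change _ = ψC _
    rw [hψC, cAwayLift_algebraMap]
    exact IsScalarTower.algebraMap_apply A C₁ _ a
  have towAD : IsScalarTower A (CAway I f)
      (CAway (I.map (algebraMap A D₁)) (algebraMap A D₁ f)) := by
    refine IsScalarTower.of_algebraMap_eq fun a => ?_
    change _ = ψD _
    rw [hψD, cAwayLift_algebraMap]
    exact IsScalarTower.algebraMap_apply A D₁ _ a
  have towCCD : IsScalarTower C₁ (CAway (I.map (algebraMap A C₁)) (algebraMap A C₁ f))
      (CAway (I.map (algebraMap A D₁)) (algebraMap A D₁ f)) := by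
    refine IsScalarTower.of_algebraMap_eq fun x => ?_
    change _ = χC _
    rw [hχC, cAwayLift_algebraMap]
    exact IsScalarTower.algebraMap_apply C₁ D₁ _ x
  have towBBD : IsScalarTower B (CAway (I.map (algebraMap A B)) (algebraMap A B f))
      (CAway (I.map (algebraMap A D₁)) (algebraMap A D₁ f)) := by
    refine IsScalarTower.of_algebraMap_eq fun x => ?_
    change _ = χB _
    rw [hχB, cAwayLift_algebraMap]
    exact IsScalarTower.algebraMap_apply B D₁ _ x
  have towABD : IsScalarTower A (CAway (I.map (algebraMap A B)) (algebraMap A B f))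
      (CAway (I.map (algebraMap A D₁)) (algebraMap A D₁ f)) := by
    refine IsScalarTower.of_algebraMap_eq fun a => ?_
    rw [IsScalarTower.algebraMap_apply A B (CAway (I.map (algebraMap A B)) (algebraMap A B f)),
      ← IsScalarTower.algebraMap_apply B (CAway (I.map (algebraMap A B)) (algebraMap A B f)),
      IsScalarTower.algebraMap_apply B D₁ (CAway (I.map (algebraMap A D₁)) (algebraMap A D₁ f)),
      ← IsScalarTower.algebraMap_apply A B D₁,
      ← IsScalarTower.algebraMap_apply A D₁]
  -- completeness
  have hc1 : IsAdicComplete ((I.map (algebraMap A (CAway I f))).map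
      (algebraMap (CAway I f) (CAway (I.map (algebraMap A B)) (algebraMap A B f))))
      (CAway (I.map (algebraMap A B)) (algebraMap A B f)) := by
    rw [map_map_tower (I := I) (B := CAway I f)
      (B₁ := CAway (I.map (algebraMap A B)) (algebraMap A B f))]
    infer_instance
  have hc2 : IsAdicComplete ((I.map (algebraMap A (CAway I f))).map
      (algebraMap (CAway I f) (CAway (I.map (algebraMap A C₁)) (algebraMap A C₁ f))))
      (CAway (I.map (algebraMap A C₁)) (algebraMap A C₁ f)) := by
    rw [map_map_tower (I := I) (B := CAway I f)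
      (B₁ := CAway (I.map (algebraMap A C₁)) (algebraMap A C₁ f))]
    infer_instance
  have hc3 : IsAdicComplete ((I.map (algebraMap A (CAway I f))).map
      (algebraMap (CAway I f) (CAway (I.map (algebraMap A D₁)) (algebraMap A D₁ f))))
      (CAway (I.map (algebraMap A D₁)) (algebraMap A D₁ f)) := by
    rw [map_map_tower (I := I) (B := CAway I f)
      (B₁ := CAway (I.map (algebraMap A D₁)) (algebraMap A D₁ f))]
    infer_instance
  -- finite type
  have hft2C : Algebra.FiniteType A ((CAway (I.map (algebraMap A C₁)) (algebraMap A C₁ f)) ⧸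
      I.map (algebraMap A (CAway (I.map (algebraMap A C₁)) (algebraMap A C₁ f)))) :=
    finiteType_trans_quotient I hftC
      (finiteType_cAway (I.map (algebraMap A C₁)) (algebraMap A C₁ f))
  have hftC₂ := finiteType_tower (B := CAway I f) hft2C
  have hft2D : Algebra.FiniteType A ((CAway (I.map (algebraMap A D₁)) (algebraMap A D₁ f)) ⧸
      I.map (algebraMap A (CAway (I.map (algebraMap A D₁)) (algebraMap A D₁ f)))) :=
    finiteType_trans_quotient I hftD
      (finiteType_cAway (I.map (algebraMap A D₁)) (algebraMap A D₁ f))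
  have hftD₂ := finiteType_tower (B := CAway I f) hft2D
  -- the levelwise tensor product condition for the completed localizations
  have hfA₂ : IsUnit (algebraMap A (CAway I f) f) := by
    rw [IsScalarTower.algebraMap_apply A (Localization.Away f) (CAway I f)]
    exact (IsLocalization.Away.algebraMap_isUnit f).map _
  have hH₂ : IsCTP (CAway I f) (I.map (algebraMap A (CAway I f)))
      (CAway (I.map (algebraMap A B)) (algebraMap A B f))
      (CAway (I.map (algebraMap A C₁)) (algebraMap A C₁ f))
      (CAway (I.map (algebraMap A D₁)) (algebraMap A D₁ f)) := by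
    refine hH.of_isCLoc (algebraMap A (CAway I f))
      (algebraMap B (CAway (I.map (algebraMap A B)) (algebraMap A B f)))
      (algebraMap C₁ (CAway (I.map (algebraMap A C₁)) (algebraMap A C₁ f)))
      (algebraMap D₁ (CAway (I.map (algebraMap A D₁)) (algebraMap A D₁ f)))
      ?_ ?_ ?_ ?_ f hfA₂ (algebraMap A C₁ f) (algebraMap A D₁ f) hgC
      (isCLoc_cAway _ _) (isCLoc_cAway _ _) (isCLoc_cAway _ _)
    · rw [← IsScalarTower.algebraMap_eq, ← IsScalarTower.algebraMap_eq]
    · rw [← IsScalarTower.algebraMap_eq, ← IsScalarTower.algebraMap_eq]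
    · rw [← IsScalarTower.algebraMap_eq,
        ← IsScalarTower.algebraMap_eq C₁ (CAway (I.map (algebraMap A C₁)) (algebraMap A C₁ f))]
    · rw [← IsScalarTower.algebraMap_eq,
        ← IsScalarTower.algebraMap_eq B (CAway (I.map (algebraMap A B)) (algebraMap A B f))]
  -- the prime `q₂`
  obtain ⟨hprime, hbij⟩ := Groth.Agent.S8837.main D₁ (I.map (algebraMap A D₁)) q.asIdeal
    (algebraMap A D₁ f) hfu
  obtain ⟨q₂, hq₂⟩ : ∃ q₂ : PrimeSpectrum (CAway (I.map (algebraMap A D₁)) (algebraMap A D₁ f)),
      q₂ = ⟨q.asIdeal.map (algebraMap D₁ (CAway (I.map (algebraMap A D₁)) (algebraMap A D₁ f))),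
        hprime⟩ := ⟨_, rfl⟩
  have hq₂I : q₂.asIdeal = q.asIdeal.map
      (algebraMap D₁ (CAway (I.map (algebraMap A D₁)) (algebraMap A D₁ f))) := by rw [hq₂]
  have hq2 : IsRigClosed (I.map (algebraMap A (CAway (I.map (algebraMap A D₁))
      (algebraMap A D₁ f)))) q₂ := by
    rw [hq₂]; exact isRigClosed_map_of_bijective hq hprime hbij
  have hp : IsRigClosed (I.map (algebraMap A (CAway I f)))
      (PrimeSpectrum.comap (algebraMap (CAway I f)
        (CAway (I.map (algebraMap A D₁)) (algebraMap A D₁ f))) q₂) := by
    rw [hq₂]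
    exact isRigClosed_comap_map_of_integral (A₁ := CAway I f)
      (B₁ := CAway (I.map (algebraMap A D₁)) (algebraMap A D₁ f)) hft2D hq hprime hbij f hfA₂ hint
  have hq3 : IsRigClosed ((I.map (algebraMap A (CAway I f))).map
      (algebraMap (CAway I f) (CAway (I.map (algebraMap A D₁)) (algebraMap A D₁ f)))) q₂ := by
    rw [map_map_tower (I := I) (B := CAway I f)
      (B₁ := CAway (I.map (algebraMap A D₁)) (algebraMap A D₁ f))]
    exact hq2
  -- finiteness of `D₂/q₂` over `A₂`
  have hfinD : Module.Finite (CAway I f)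
      ((CAway (I.map (algebraMap A D₁)) (algebraMap A D₁ f)) ⧸ q₂.asIdeal) :=
    finite_quotient_of_finite_residue hftD₂ hq3
      (fun m hm hqm => finite_residue_of_isRigClosed_comap hftD₂ hq3 hp m hm hqm)
  -- `C₂ / r₂ⁿ` is finite over `A₂`
  have hfinC : Module.Finite (CAway I f)
      ((CAway (I.map (algebraMap A C₁)) (algebraMap A C₁ f)) ⧸ q₂.asIdeal.comap
        (algebraMap (CAway (I.map (algebraMap A C₁)) (algebraMap A C₁ f))
          (CAway (I.map (algebraMap A D₁)) (algebraMap A D₁ f)))) := by
    refine Module.Finite.of_injective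
      (Ideal.quotientMapₐ q₂.asIdeal (IsScalarTower.toAlgHom (CAway I f)
        (CAway (I.map (algebraMap A C₁)) (algebraMap A C₁ f))
        (CAway (I.map (algebraMap A D₁)) (algebraMap A D₁ f))) le_rfl).toLinearMap ?_
    intro x y hxy
    exact Ideal.quotientMap_injective'
      (J := q₂.asIdeal.comap (algebraMap (CAway (I.map (algebraMap A C₁)) (algebraMap A C₁ f))
        (CAway (I.map (algebraMap A D₁)) (algebraMap A D₁ f)))) (I := q₂.asIdeal)
      (f := algebraMap (CAway (I.map (algebraMap A C₁)) (algebraMap A C₁ f))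
        (CAway (I.map (algebraMap A D₁)) (algebraMap A D₁ f))) (H := le_rfl) le_rfl hxy
  have hfin : ∀ n : ℕ, Module.Finite (CAway I f)
      ((CAway (I.map (algebraMap A C₁)) (algebraMap A C₁ f)) ⧸ (q₂.asIdeal.comap
        (algebraMap (CAway (I.map (algebraMap A C₁)) (algebraMap A C₁ f))
          (CAway (I.map (algebraMap A D₁)) (algebraMap A D₁ f)))) ^ n) :=
    fun n => finite_quotient_pow hftC₂ _ n
  -- the prime of `B₂` below `q₂` is rig-closed
  have hfinDB : Module.Finite (CAway (I.map (algebraMap A B)) (algebraMap A B f))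
      ((CAway (I.map (algebraMap A D₁)) (algebraMap A D₁ f)) ⧸ q₂.asIdeal) :=
    Module.Finite.of_restrictScalars_finite (CAway I f) _ _
  have hq4 : IsRigClosed ((I.map (algebraMap A (CAway (I.map (algebraMap A B))
      (algebraMap A B f)))).map (algebraMap (CAway (I.map (algebraMap A B)) (algebraMap A B f))
        (CAway (I.map (algebraMap A D₁)) (algebraMap A D₁ f)))) q₂ := by
    rw [map_map_tower (I := I) (B := CAway (I.map (algebraMap A B)) (algebraMap A B f))
      (B₁ := CAway (I.map (algebraMap A D₁)) (algebraMap A D₁ f))]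
    exact hq2
  have hc4 : IsAdicComplete ((I.map (algebraMap A (CAway (I.map (algebraMap A B))
      (algebraMap A B f)))).map (algebraMap (CAway (I.map (algebraMap A B)) (algebraMap A B f))
        (CAway (I.map (algebraMap A D₁)) (algebraMap A D₁ f))))
      (CAway (I.map (algebraMap A D₁)) (algebraMap A D₁ f)) := by
    rw [map_map_tower (I := I) (B := CAway (I.map (algebraMap A B)) (algebraMap A B f))
      (B₁ := CAway (I.map (algebraMap A D₁)) (algebraMap A D₁ f))]
    infer_instance
  have h𝔟rc : IsRigClosed (I.map (algebraMap A (CAway (I.map (algebraMap A B))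
      (algebraMap A B f))))
      (PrimeSpectrum.comap (algebraMap (CAway (I.map (algebraMap A B)) (algebraMap A B f))
        (CAway (I.map (algebraMap A D₁)) (algebraMap A D₁ f))) q₂) :=
    isRigClosed_comap_of_finite hq4 hfinDB
  -- flatness of `B₂` at this prime over `A₂`
  have hψBc : ψB.comp (algebraMap (Localization.Away f) (CAway I f)) =
      (algebraMap (Localization.Away (algebraMap A B f))
        (CAway (I.map (algebraMap A B)) (algebraMap A B f))).comp
        (Localization.awayMap (algebraMap A B) f) := by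
    rw [hψB, cAwayLift_compat, awayLift_eq_awayMap]
  have hJB₂ : ((I.map (algebraMap A B)).map
      (algebraMap B (Localization.Away (algebraMap A B f)))).map
      (algebraMap (Localization.Away (algebraMap A B f))
        (CAway (I.map (algebraMap A B)) (algebraMap A B f))) =
      I.map (algebraMap A (CAway (I.map (algebraMap A B)) (algebraMap A B f))) :=
    (map_map_tower (A := B) (I := I.map (algebraMap A B))
      (B := Localization.Away (algebraMap A B f))
      (B₁ := CAway (I.map (algebraMap A B)) (algebraMap A B f))).trans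
      (map_map_tower (A := A) (I := I) (B := B)
        (B₁ := CAway (I.map (algebraMap A B)) (algebraMap A B f)))
  have hflatB : Module.Flat (CAway I f) (Localization.AtPrime (q₂.asIdeal.comap
      (algebraMap (CAway (I.map (algebraMap A B)) (algebraMap A B f))
        (CAway (I.map (algebraMap A D₁)) (algebraMap A D₁ f))))) := by
    have h := hAB f ψB hψBc (PrimeSpectrum.comap (algebraMap (CAway (I.map (algebraMap A B))
      (algebraMap A B f)) (CAway (I.map (algebraMap A D₁)) (algebraMap A D₁ f))) q₂)
      (by rw [hJB₂]; exact h𝔟rc)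
    have h' : (algebraMap (CAway I f) (Localization.AtPrime (q₂.asIdeal.comap
        (algebraMap (CAway (I.map (algebraMap A B)) (algebraMap A B f))
          (CAway (I.map (algebraMap A D₁)) (algebraMap A D₁ f)))))).Flat := by
      rw [IsScalarTower.algebraMap_eq (CAway I f)
        (CAway (I.map (algebraMap A B)) (algebraMap A B f))
        (Localization.AtPrime (q₂.asIdeal.comap
          (algebraMap (CAway (I.map (algebraMap A B)) (algebraMap A B f))
            (CAway (I.map (algebraMap A D₁)) (algebraMap A D₁ f)))))]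
      exact h
    exact RingHom.flat_algebraMap_iff.1 h'
  -- the core flatness statement
  have hX : Module.Flat (CAway (I.map (algebraMap A C₁)) (algebraMap A C₁ f))
      (Localization.AtPrime q₂.asIdeal) :=
    flat_atPrime_of_isCTP hH₂ q₂.asIdeal hfin
  have hcore : ((algebraMap (CAway (I.map (algebraMap A D₁)) (algebraMap A D₁ f))
      (Localization.AtPrime q₂.asIdeal)).comp
      (algebraMap (CAway (I.map (algebraMap A C₁)) (algebraMap A C₁ f))
        (CAway (I.map (algebraMap A D₁)) (algebraMap A D₁ f)))).Flat := by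
    rw [← IsScalarTower.algebraMap_eq (CAway (I.map (algebraMap A C₁)) (algebraMap A C₁ f))
      (CAway (I.map (algebraMap A D₁)) (algebraMap A D₁ f)) (Localization.AtPrime q₂.asIdeal)]
    exact RingHom.flat_algebraMap_iff.2 hX
  -- descent
  refine flat_descent_localization
    (A'₂ := CAway (I.map (algebraMap A C₁)) (algebraMap A C₁ f))
    (B'₂ := CAway (I.map (algebraMap A D₁)) (algebraMap A D₁ f)) q q₂ ?_ hcore
  rw [hq₂I]
  ext x
  change x ∈ q.asIdeal ↔ algebraMap D₁ _ x ∈ q.asIdeal.map _
  rw [← Ideal.Quotient.eq_zero_iff_mem, ← Ideal.Quotient.eq_zero_iff_mem (I := Ideal.map _ _),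
    ← Ideal.quotientMap_mk (f := algebraMap D₁ (CAway (I.map (algebraMap A D₁))
      (algebraMap A D₁ f))) (H := Ideal.le_comap_map)]
  exact ⟨fun h => by rw [h, map_zero], fun h => hbij.1 (by rw [h, map_zero])⟩

end Core

end Groth.Agent.Lib.H94Rig
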