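import Groth.Agent.Lib.H94Rig14
import Mathlib.RingTheory.FiniteStability

/-!
# Rig-closed primes XV: the completed tensor product as an adic tft pair

For `A` Noetherian with ideal `I`, `B` and `C` `A`-algebras with `C` Noetherian and `B/IB` of
finite type over `A`, the completed tensor product `CTensor A I B C`, the `I`-adic completion of
`C ⊗[A] B`, is Noetherian, `I`-adically complete, `CTensor/I` is of finite type over `C`, and it
is levelwise the tensor product (`isCTP_cTensor`).
-/

set_option autoImplicit false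
universe u

namespace Groth.Agent.Lib.H94Rig

open Groth.Agent.Lib TensorProduct

theorem IsCLoc.of_eq {R R₂ : Type u} [CommRing R] [CommRing R₂] {K K' : Ideal R} {s : R}
    {φ : R →+* R₂} (h : IsCLoc K s φ) (hK : K = K') : IsCLoc K' s φ := hK ▸ h

section FG

variable {A : Type u} [CommRing A] (I : Ideal A) (R : Type u) [CommRing R] [Algebra A R]

theorem ker_evalOne_restrictScalars_of_fg (hfg : (I.map (algebraMap A R)).FG) :
    RingHom.ker ((AdicCompletion.evalOneₐ (I.map (algebraMap A R))).restrictScalars A) =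
      I.map (algebraMap A (AdicCompletion (I.map (algebraMap A R)) R)) := by
  rw [map_algebraMap_adicCompletion, ← AdicCompletion.ker_evalOneₐ_eq_map _ hfg]
  rfl

/-- `Ĉ / I Ĉ ≃ R / I R` as `A`-algebras, for `I R` finitely generated. -/
noncomputable def quotAdicCompletionEquivOfFG (hfg : (I.map (algebraMap A R)).FG) :
    ((AdicCompletion (I.map (algebraMap A R)) R) ⧸
        I.map (algebraMap A (AdicCompletion (I.map (algebraMap A R)) R))) ≃ₐ[A]
      (R ⧸ I.map (algebraMap A R)) :=
  (Ideal.quotientEquivAlgOfEq A (ker_evalOne_restrictScalars_of_fg I R hfg).symm).trans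
    (Ideal.quotientKerAlgEquivOfSurjective
      (f := (AdicCompletion.evalOneₐ (I.map (algebraMap A R))).restrictScalars A)
      (AdicCompletion.evalOneₐ_surjective _))

theorem finiteType_adicCompletion_of_fg (hfg : (I.map (algebraMap A R)).FG)
    (h : Algebra.FiniteType A (R ⧸ I.map (algebraMap A R))) :
    Algebra.FiniteType A ((AdicCompletion (I.map (algebraMap A R)) R) ⧸
        I.map (algebraMap A (AdicCompletion (I.map (algebraMap A R)) R))) :=
  Algebra.FiniteType.equiv h (quotAdicCompletionEquivOfFG I R hfg).symm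

theorem isAdicComplete_adicCompletion_of_fg (hfg : (I.map (algebraMap A R)).FG) :
    IsAdicComplete (I.map (algebraMap A (AdicCompletion (I.map (algebraMap A R)) R)))
      (AdicCompletion (I.map (algebraMap A R)) R) := by
  rw [map_algebraMap_adicCompletion]
  exact AdicCompletion.isAdicComplete_self _ hfg

end FG

section CT

variable (A : Type u) [CommRing A] (I : Ideal A) (B C : Type u) [CommRing B] [CommRing C]
  [Algebra A B] [Algebra A C]

/-- The completed tensor product `C ⊗̂[A] B` (completion along `I`). -/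
abbrev CTensor : Type u :=
  AdicCompletion ((I.map (algebraMap A C)).map (algebraMap C (C ⊗[A] B))) (C ⊗[A] B)

/-- The `B`-algebra structure on the completed tensor product. -/
noncomputable abbrev cTensorAlgebraRight : Algebra B (CTensor A I B C) :=
  ((algebraMap (C ⊗[A] B) (CTensor A I B C)).comp
    (Algebra.TensorProduct.includeRight : B →ₐ[A] C ⊗[A] B).toRingHom).toAlgebra

attribute [local instance] cTensorAlgebraRight

theorem cTensor_isScalarTower_right : IsScalarTower A B (CTensor A I B C) := by
  refine IsScalarTower.of_algebraMap_eq fun a => ?_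
  change _ = algebraMap (C ⊗[A] B) (CTensor A I B C)
    ((Algebra.TensorProduct.includeRight : B →ₐ[A] C ⊗[A] B) (algebraMap A B a))
  rw [AlgHom.commutes, ← IsScalarTower.algebraMap_apply A (C ⊗[A] B) (CTensor A I B C)]

theorem map_map_tensor :
    (I.map (algebraMap A C)).map (algebraMap C (C ⊗[A] B)) = I.map (algebraMap A (C ⊗[A] B)) :=
  map_map_tower

variable [IsNoetherianRing A]

theorem fg_map_tensor : ((I.map (algebraMap A C)).map (algebraMap C (C ⊗[A] B))).FG :=
  Ideal.FG.map (Ideal.FG.map (IsNoetherian.noetherian I) _) _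

omit [IsNoetherianRing A] in
/-- `(C ⊗[A] B) / I` is of finite type over `C` if `B/IB` is of finite type over `A`. -/
theorem finiteType_tensor_quotient (hft : Algebra.FiniteType A (B ⧸ I.map (algebraMap A B))) :
    Algebra.FiniteType C ((C ⊗[A] B) ⧸ (I.map (algebraMap A C)).map
      (algebraMap C (C ⊗[A] B))) := by
  let g₀ : B →ₐ[A] ((C ⊗[A] B) ⧸ (I.map (algebraMap A C)).map (algebraMap C (C ⊗[A] B))) :=
    (Ideal.Quotient.mkₐ A _).comp (Algebra.TensorProduct.includeRight : B →ₐ[A] C ⊗[A] B)
  have hg₀ : ∀ b : B, b ∈ I.map (algebraMap A B) → g₀ b = 0 := by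
    intro b hb
    change Ideal.Quotient.mk _ ((Algebra.TensorProduct.includeRight : B →ₐ[A] C ⊗[A] B) b) = 0
    rw [Ideal.Quotient.eq_zero_iff_mem, map_map_tensor]
    have h1 := Ideal.mem_map_of_mem
      (Algebra.TensorProduct.includeRight : B →ₐ[A] C ⊗[A] B).toRingHom hb
    rw [Ideal.map_map] at h1
    have h2 : (Algebra.TensorProduct.includeRight : B →ₐ[A] C ⊗[A] B).toRingHom.comp
        (algebraMap A B) = algebraMap A (C ⊗[A] B) := by
      refine RingHom.ext fun a => ?_
      exact (Algebra.TensorProduct.includeRight : B →ₐ[A] C ⊗[A] B).commutes a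
    rw [h2] at h1
    exact h1
  let g : (B ⧸ I.map (algebraMap A B)) →ₐ[A]
      ((C ⊗[A] B) ⧸ (I.map (algebraMap A C)).map (algebraMap C (C ⊗[A] B))) :=
    Ideal.Quotient.liftₐ _ g₀ hg₀
  have hg : ∀ b, g (Ideal.Quotient.mk _ b) = Ideal.Quotient.mk _ ((1 : C) ⊗ₜ[A] b) := fun _ => rfl
  let F : C ⊗[A] (B ⧸ I.map (algebraMap A B)) →ₐ[C]
      ((C ⊗[A] B) ⧸ (I.map (algebraMap A C)).map (algebraMap C (C ⊗[A] B))) :=
    Algebra.TensorProduct.lift (Algebra.ofId C _) g (fun _ _ => Commute.all _ _)
  refine Algebra.FiniteType.of_surjective F ?_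
  intro y
  obtain ⟨e, rfl⟩ := Ideal.Quotient.mk_surjective y
  induction e using TensorProduct.induction_on with
  | zero => exact ⟨0, map_zero _⟩
  | tmul c b =>
    refine ⟨c ⊗ₜ Ideal.Quotient.mk _ b, ?_⟩
    rw [Algebra.TensorProduct.lift_tmul, hg, Algebra.ofId_apply,
      IsScalarTower.algebraMap_apply C (C ⊗[A] B), Ideal.Quotient.algebraMap_eq, ← map_mul,
      Algebra.TensorProduct.algebraMap_apply, Algebra.TensorProduct.tmul_mul_tmul, mul_one,
      one_mul]
    rfl
  | add x y hx hy =>
    obtain ⟨x', hx'⟩ := hx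
    obtain ⟨y', hy'⟩ := hy
    exact ⟨x' + y', by rw [map_add, hx', hy', map_add]⟩

variable [IsNoetherianRing C]

theorem isNoetherianRing_cTensor (hft : Algebra.FiniteType A (B ⧸ I.map (algebraMap A B))) :
    IsNoetherianRing (CTensor A I B C) := by
  have h1 := finiteType_tensor_quotient A I B C hft
  have h2 : IsNoetherianRing ((C ⊗[A] B) ⧸ (I.map (algebraMap A C)).map
      (algebraMap C (C ⊗[A] B))) := Algebra.FiniteType.isNoetherianRing C _
  exact AdicNoeth.isNoetherianRing_adicCompletion_of_fg _ (fg_map_tensor A I B C)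

omit [IsNoetherianRing C] in
theorem isAdicComplete_cTensor :
    IsAdicComplete (I.map (algebraMap A (CTensor A I B C))) (CTensor A I B C) := by
  have h := isAdicComplete_adicCompletion_of_fg (A := C) (I.map (algebraMap A C)) (C ⊗[A] B)
    (fg_map_tensor A I B C)
  have e : (I.map (algebraMap A C)).map (algebraMap C (CTensor A I B C)) =
      I.map (algebraMap A (CTensor A I B C)) := map_map_tower
  rw [e] at h
  exact h

omit [IsNoetherianRing C] in
theorem finiteType_cTensor (hft : Algebra.FiniteType A (B ⧸ I.map (algebraMap A B))) :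
    Algebra.FiniteType C ((CTensor A I B C) ⧸ (I.map (algebraMap A C)).map
      (algebraMap C (CTensor A I B C))) :=
  finiteType_adicCompletion_of_fg (A := C) (I.map (algebraMap A C)) (C ⊗[A] B)
    (fg_map_tensor A I B C) (finiteType_tensor_quotient A I B C hft)

omit [IsNoetherianRing C] in
theorem isCTP_cTensor :
    @IsCTP A _ I B C (CTensor A I B C) _ _ _ _ _ _ _ (cTensorAlgebraRight A I B C) _
      (cTensor_isScalarTower_right A I B C) := by
  have := cTensor_isScalarTower_right A I B C
  refine isCTP_of_isCLoc_one I ?_ ?_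
    ((isCLoc_adicCompletion _ (fg_map_tensor A I B C)).of_eq (map_map_tensor A I B C))
  · intro c
    rw [IsScalarTower.algebraMap_apply C (C ⊗[A] B) (CTensor A I B C),
      Algebra.TensorProduct.algebraMap_apply]
    rfl
  · intro b
    rfl

end CT

end Groth.Agent.Lib.H94Rig
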