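import Groth.Agent.Lib.H94Rig15

/-!
# Rig-closed primes XVI: rig-flat base change, abstract completed tensor product

`rigFlat_baseChange_of_isCTP`: if `A → B` is rig-flat (strong form) and `D` is a Noetherian
`I`-adically complete ring which is levelwise the tensor product `C ⊗[A] B`, then `C → D` is
rig-flat (strong form).
-/

set_option autoImplicit false
universe u

namespace Groth.Agent.Lib.H94Rig

open Groth.Agent.Lib TensorProduct

section Core

variable {A : Type u} [CommRing A] [IsNoetherianRing A] {I : Ideal A}
  {B : Type u} [CommRing B] [Algebra A B] [IsNoetherianRing B]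
  {C : Type u} [CommRing C] [Algebra A C] [IsNoetherianRing C]
  {D : Type u} [CommRing D] [Algebra A D] [Algebra C D] [Algebra B D]
  [IsScalarTower A C D] [IsScalarTower A B D] [IsNoetherianRing D]

set_option maxHeartbeats 1600000 in
theorem rigFlat_baseChange_of_isCTP
    (hftC : Algebra.FiniteType A (C ⧸ I.map (algebraMap A C)))
    (hftD_C : Algebra.FiniteType C (D ⧸ (I.map (algebraMap A C)).map (algebraMap C D)))
    (hAB : ∀ f : A, ∀ ψf : CAway I f →+* CAway (I.map (algebraMap A B)) (algebraMap A B f),
      ψf.comp (algebraMap (Localization.Away f) (CAway I f)) =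
        (algebraMap (Localization.Away (algebraMap A B f))
          (CAway (I.map (algebraMap A B)) (algebraMap A B f))).comp
          (Localization.awayMap (algebraMap A B) f) →
      ∀ qf : PrimeSpectrum (CAway (I.map (algebraMap A B)) (algebraMap A B f)),
        IsRigClosed (((I.map (algebraMap A B)).map
          (algebraMap B (Localization.Away (algebraMap A B f)))).map
          (algebraMap (Localization.Away (algebraMap A B f))
            (CAway (I.map (algebraMap A B)) (algebraMap A B f)))) qf →
        ((algebraMap (CAway (I.map (algebraMap A B)) (algebraMap A B f))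
          (Localization.AtPrime qf.asIdeal)).comp ψf).Flat)
    (hH₀ : IsCTP A I B C D) (h : C)
    (ψh : CAway (I.map (algebraMap A C)) h →+*
      CAway ((I.map (algebraMap A C)).map (algebraMap C D)) (algebraMap C D h))
    (hψh : ψh.comp (algebraMap (Localization.Away h) (CAway (I.map (algebraMap A C)) h)) =
      (algebraMap (Localization.Away (algebraMap C D h))
        (CAway ((I.map (algebraMap A C)).map (algebraMap C D)) (algebraMap C D h))).comp
        (Localization.awayMap (algebraMap C D) h))
    (qh : PrimeSpectrum (CAway ((I.map (algebraMap A C)).map (algebraMap C D))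
      (algebraMap C D h)))
    (hqh : IsRigClosed ((((I.map (algebraMap A C)).map (algebraMap C D)).map
      (algebraMap D (Localization.Away (algebraMap C D h)))).map
      (algebraMap (Localization.Away (algebraMap C D h))
        (CAway ((I.map (algebraMap A C)).map (algebraMap C D)) (algebraMap C D h)))) qh) :
    ((algebraMap (CAway ((I.map (algebraMap A C)).map (algebraMap C D)) (algebraMap C D h))
      (Localization.AtPrime qh.asIdeal)).comp ψh).Flat := by
  -- Step 0: algebra structure `C₁ → D₁`
  let algψ : Algebra (CAway (I.map (algebraMap A C)) h)
      (CAway ((I.map (algebraMap A C)).map (algebraMap C (D)))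
        (algebraMap C (D) h)) := ψh.toAlgebra
  have towC : IsScalarTower C (CAway (I.map (algebraMap A C)) h)
      (CAway ((I.map (algebraMap A C)).map (algebraMap C (D)))
        (algebraMap C (D) h)) :=
    IsScalarTower.of_algebraMap_eq fun c =>
      (psi_algebraMap (I.map (algebraMap A C)) h ψh hψh c).symm
  have towA : IsScalarTower A (CAway (I.map (algebraMap A C)) h)
      (CAway ((I.map (algebraMap A C)).map (algebraMap C (D)))
        (algebraMap C (D) h)) := by
    refine IsScalarTower.of_algebraMap_eq fun a => ?_
    have e1 : algebraMap A (CAway (I.map (algebraMap A C)) h) a =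
        algebraMap C _ (algebraMap A C a) := IsScalarTower.algebraMap_apply A C _ a
    have e2 : algebraMap A (CAway ((I.map (algebraMap A C)).map
        (algebraMap C (D))) (algebraMap C (D) h)) a =
        algebraMap C _ (algebraMap A C a) := IsScalarTower.algebraMap_apply A C _ a
    rw [e1, e2, ← IsScalarTower.algebraMap_apply C (CAway (I.map (algebraMap A C)) h)]
  have towAB : IsScalarTower A B (CAway ((I.map (algebraMap A C)).map
      (algebraMap C (D))) (algebraMap C (D) h)) := by
    refine IsScalarTower.of_algebraMap_eq fun a => ?_
    have e1 : algebraMap A (CAway ((I.map (algebraMap A C)).map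
        (algebraMap C (D))) (algebraMap C (D) h)) a =
        algebraMap (D) _ (algebraMap A (D) a) :=
      IsScalarTower.algebraMap_apply A (D) _ a
    have e2 : ∀ b : B, algebraMap B (CAway ((I.map (algebraMap A C)).map
        (algebraMap C (D))) (algebraMap C (D) h)) b =
        algebraMap (D) _ (algebraMap B (D) b) := fun b =>
      IsScalarTower.algebraMap_apply B (D) _ b
    rw [e1, e2]
    exact congrArg _ (IsScalarTower.algebraMap_apply A B (D) a)
  -- the ideal of definition of `D₁`
  have hJD₁ : (((I.map (algebraMap A C)).map (algebraMap C (D))).map
      (algebraMap (D) (Localization.Away (algebraMap C (D) h)))).map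
      (algebraMap (Localization.Away (algebraMap C (D) h))
        (CAway ((I.map (algebraMap A C)).map (algebraMap C (D)))
          (algebraMap C (D) h))) =
      I.map (algebraMap A (CAway ((I.map (algebraMap A C)).map
        (algebraMap C (D))) (algebraMap C (D) h))) :=
    ((map_map_tower (A := D)
      (I := (I.map (algebraMap A C)).map (algebraMap C (D)))
      (B := Localization.Away (algebraMap C (D) h))
      (B₁ := CAway ((I.map (algebraMap A C)).map (algebraMap C (D)))
        (algebraMap C (D) h))).trans
      (map_map_tower (A := C) (I := I.map (algebraMap A C)) (B := D)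
        (B₁ := CAway ((I.map (algebraMap A C)).map (algebraMap C (D)))
          (algebraMap C (D) h)))).trans
      (map_map_tower (A := A) (I := I) (B := C)
        (B₁ := CAway ((I.map (algebraMap A C)).map (algebraMap C (D)))
          (algebraMap C (D) h)))
  have hKD : (I.map (algebraMap A C)).map (algebraMap C (D)) =
      I.map (algebraMap A (D)) := map_map_tower
  have hcD₁ : IsAdicComplete (I.map (algebraMap A (CAway ((I.map (algebraMap A C)).map
      (algebraMap C (D))) (algebraMap C (D) h))))
      (CAway ((I.map (algebraMap A C)).map (algebraMap C (D)))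
        (algebraMap C (D) h)) := by
    rw [← hJD₁]
    exact AdicCompletion.isAdicComplete_self _ (IsNoetherian.noetherian _)
  have hq0 : IsRigClosed (I.map (algebraMap A (CAway ((I.map (algebraMap A C)).map
      (algebraMap C (D))) (algebraMap C (D) h)))) qh := by
    rw [← hJD₁]; exact hqh
  -- finite type
  have hftC₁ : Algebra.FiniteType A ((CAway (I.map (algebraMap A C)) h) ⧸
      I.map (algebraMap A (CAway (I.map (algebraMap A C)) h))) :=
    finiteType_trans_quotient I hftC (finiteType_cAway (I.map (algebraMap A C)) h)
  have hftD₁C : Algebra.FiniteType C ((CAway ((I.map (algebraMap A C)).map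
      (algebraMap C (D))) (algebraMap C (D) h)) ⧸
      (I.map (algebraMap A C)).map (algebraMap C (CAway ((I.map (algebraMap A C)).map
        (algebraMap C (D))) (algebraMap C (D) h)))) :=
    finiteType_trans_quotient (I.map (algebraMap A C)) hftD_C
      (finiteType_cAway ((I.map (algebraMap A C)).map (algebraMap C (D)))
        (algebraMap C (D) h))
  have hftD₁ : Algebra.FiniteType A ((CAway ((I.map (algebraMap A C)).map
      (algebraMap C (D))) (algebraMap C (D) h)) ⧸
      I.map (algebraMap A (CAway ((I.map (algebraMap A C)).map
        (algebraMap C (D))) (algebraMap C (D) h)))) :=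
    finiteType_trans_quotient I hftC hftD₁C
  -- the levelwise tensor product condition for `C₁ → D₁`
  have hH : IsCTP A I B (CAway (I.map (algebraMap A C)) h)
      (CAway ((I.map (algebraMap A C)).map (algebraMap C (D)))
        (algebraMap C (D) h)) := by
    have hB1 : IsCLoc (I.map (algebraMap A B)) (algebraMap A B 1) (RingHom.id B) := by
      rw [map_one]; exact isCLoc_id _
    have hD1 : IsCLoc (I.map (algebraMap A (D))) (algebraMap C (D) h)
        (algebraMap (D) (CAway ((I.map (algebraMap A C)).map
          (algebraMap C (D))) (algebraMap C (D) h))) :=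
      (isCLoc_cAway _ _).of_eq hKD
    have h1 := hH₀.of_isCLoc (RingHom.id A) (RingHom.id B)
      (algebraMap C (CAway (I.map (algebraMap A C)) h))
      (algebraMap (D) (CAway ((I.map (algebraMap A C)).map
        (algebraMap C (D))) (algebraMap C (D) h)))
      rfl
      (by rw [RingHom.comp_id, ← IsScalarTower.algebraMap_eq])
      (by
        rw [← IsScalarTower.algebraMap_eq,
          ← IsScalarTower.algebraMap_eq C (CAway (I.map (algebraMap A C)) h)])
      (by rw [RingHom.comp_id, ← IsScalarTower.algebraMap_eq])
      1 (by simp) h (algebraMap C (D) h) rfl hB1 (isCLoc_cAway _ _) hD1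
    rwa [Ideal.map_id] at h1
  exact naive_rigFlat_completedTensor hftC₁ hftD₁ hAB hH qh hq0

end Core

end Groth.Agent.Lib.H94Rig
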