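import Groth.Agent.Lib.H94Rig1
import Groth.Agent.Lib.AdicPi
import Mathlib.RingTheory.IntegralClosure.IsIntegralClosure.Basic
import Mathlib.RingTheory.Jacobson.Ring
import Mathlib.RingTheory.Ideal.GoingUp
import Mathlib.RingTheory.Ideal.HasGoingUp

/-!
helper94: rig-closed primes of adic Noetherian rings (second part): behaviour under adic
morphisms topologically of finite type.

* `isIntegral_quotient_of_le_radical`, `finite_of_finite_quotient_of_le_radical`
* `ringKrullDim_eq_of_isIntegral_of_injective`
* `isMaximal_of_lt`, `finite_quotient_of_finite_residue`, `isRigClosed_comap_of_finite`,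
  `finite_residue_of_isRigClosed_comap`
-/

set_option autoImplicit false
set_option linter.unusedSectionVars false
set_option linter.unusedVariables false
universe u

namespace Groth.Agent.Lib.H94Rig

section Finite

variable {A : Type*} [CommRing A] {D : Type*} [CommRing D] [Algebra A D]

/-- If `D/m` is integral over `A` and `m ≤ rad J`, then `D/J` is integral over `A`. -/
theorem isIntegral_quotient_of_le_radical (J m : Ideal D) (hm : m ≤ J.radical)
    [Algebra.IsIntegral A (D ⧸ m)] : Algebra.IsIntegral A (D ⧸ J) := by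
  refine ⟨fun y => ?_⟩
  obtain ⟨d, rfl⟩ := Ideal.Quotient.mk_surjective y
  obtain ⟨P, hP, hP0⟩ := Algebra.IsIntegral.isIntegral (R := A) (Ideal.Quotient.mk m d)
  have h1 : Polynomial.aeval d P ∈ m := by
    rw [← Ideal.Quotient.eq_zero_iff_mem]
    have : Polynomial.aeval (Ideal.Quotient.mk m d) P
        = Ideal.Quotient.mk m (Polynomial.aeval d P) :=
      Polynomial.aeval_algHom_apply (Ideal.Quotient.mkₐ A m) d P
    rw [← this]
    simpa [Polynomial.aeval_def] using hP0
  obtain ⟨k, hk⟩ := hm h1
  refine ⟨P ^ k, hP.pow k, ?_⟩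
  have : Polynomial.aeval (Ideal.Quotient.mk J d) (P ^ k)
      = Ideal.Quotient.mk J (Polynomial.aeval d (P ^ k)) :=
    Polynomial.aeval_algHom_apply (Ideal.Quotient.mkₐ A J) d (P ^ k)
  rw [← Polynomial.aeval_def, this, map_pow, Ideal.Quotient.eq_zero_iff_mem]
  exact hk

/-- Finiteness of a complete separated algebra from finiteness of a residue ring. -/
theorem finite_of_finite_quotient_of_le_radical (I : Ideal A) [IsPrecomplete I A]
    [IsHausdorff I D] (m : Ideal D) (hm : m ≤ (I.map (algebraMap A D)).radical)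
    [Module.Finite A (D ⧸ m)] [Algebra.FiniteType A (D ⧸ I.map (algebraMap A D))] :
    Module.Finite A D := by
  have hint : Algebra.IsIntegral A (D ⧸ I.map (algebraMap A D)) :=
    isIntegral_quotient_of_le_radical _ m hm
  have hfin : Module.Finite A (D ⧸ I.map (algebraMap A D)) := Algebra.IsIntegral.finite
  apply Groth.Agent.Lib.AdicPi.finite_of_finite_quotient I D
  rw [Ideal.smul_top_eq_map]
  exact Module.Finite.equiv
    (Submodule.Quotient.restrictScalarsEquiv A (I.map (algebraMap A D))).symm

end Finite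


section Dim

variable {R S : Type*} [CommRing R] [CommRing S] [Algebra R S]

theorem ringKrullDim_le_of_isIntegral_of_injective [Algebra.IsIntegral R S]
    (hinj : Function.Injective (algebraMap R S)) : ringKrullDim R ≤ ringKrullDim S := by
  rw [ringKrullDim, Order.krullDim]
  refine iSup_le fun l ↦ ?_
  obtain ⟨Q, -, hQ, hQc⟩ := Ideal.exists_ideal_over_prime_of_isIntegral
    (S := S) l.head.asIdeal ⊥ (by
      rw [← RingHom.ker_eq_comap_bot, (RingHom.injective_iff_ker_eq_bot _).mp hinj]
      exact bot_le)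
  have : Q.LiesOver l.head.asIdeal := ⟨hQc.symm⟩
  obtain ⟨L, hL, -, -⟩ := Ideal.exists_ltSeries_of_hasGoingUp l Q
  rw [← hL]
  exact Order.LTSeries.length_le_krullDim L

theorem ringKrullDim_eq_of_isIntegral_of_injective [Algebra.IsIntegral R S]
    (hinj : Function.Injective (algebraMap R S)) : ringKrullDim R = ringKrullDim S :=
  le_antisymm (ringKrullDim_le_of_isIntegral_of_injective hinj)
    (Order.krullDim_le_of_strictMono
      (fun I ↦ ⟨Ideal.comap (algebraMap R S) I.asIdeal, inferInstance⟩)
      (fun I J hIJ ↦ by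
        have : I.asIdeal < J.asIdeal := hIJ
        exact Ideal.IsIntegral.comap_lt_comap (R := R) this))

end Dim

section Rel

variable {A : Type u} [CommRing A] {I : Ideal A}

/-- A prime strictly containing a rig-closed prime is maximal. -/
theorem isMaximal_of_lt [IsNoetherianRing A] {q : PrimeSpectrum A} (hq : IsRigClosed I q)
    (y : Ideal A) [hy : y.IsPrime] (h : q.asIdeal < y) : y.IsMaximal := by
  have hK := krullDimLE_one_quotient hq
  have hker : RingHom.ker (Ideal.Quotient.mk q.asIdeal) ≤ y := by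
    rw [Ideal.mk_ker]; exact h.le
  have hP : (y.map (Ideal.Quotient.mk q.asIdeal)).IsPrime :=
    Ideal.map_isPrime_of_surjective Ideal.Quotient.mk_surjective hker
  have hcm : (y.map (Ideal.Quotient.mk q.asIdeal)).comap (Ideal.Quotient.mk q.asIdeal) = y := by
    rw [Ideal.comap_map_of_surjective _ Ideal.Quotient.mk_surjective]
    simpa [← RingHom.ker_eq_comap_bot, Ideal.mk_ker] using h.le
  have hP0 : y.map (Ideal.Quotient.mk q.asIdeal) ≠ ⊥ := by
    intro h0
    apply h.ne
    rw [← hcm, h0, ← RingHom.ker_eq_comap_bot, Ideal.mk_ker]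
  have hmax := hP.isMaximal_of_ne_bot hP0
  rw [← hcm]
  exact Ideal.comap_isMaximal_of_surjective _ Ideal.Quotient.mk_surjective

variable [IsNoetherianRing A] [IsAdicComplete I A] {B : Type u} [CommRing B] [Algebra A B]
  [IsNoetherianRing B] [IsAdicComplete (I.map (algebraMap A B)) B]

theorem map_algebraMap_quotient (K : Ideal B) :
    I.map (algebraMap A (B ⧸ K)) = (I.map (algebraMap A B)).map (Ideal.Quotient.mk K) := by
  rw [Ideal.map_map]; rfl

theorem finite_quotient_of_finite_residue
    (hft : Algebra.FiniteType A (B ⧸ I.map (algebraMap A B)))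
    {q : PrimeSpectrum B} (hq : IsRigClosed (I.map (algebraMap A B)) q)
    (h1 : ∀ m : Ideal B, m.IsMaximal → q.asIdeal ≤ m → Module.Finite A (B ⧸ m)) :
    Module.Finite A (B ⧸ q.asIdeal) := by
  have hloc := isLocalRing_quotient hq
  have hcomp := isAdicComplete_quotient (I.map (algebraMap A B)) q.asIdeal
  have hH : IsHausdorff I (B ⧸ q.asIdeal) := by
    rw [← IsHausdorff.map_algebraMap_iff (S := B ⧸ q.asIdeal), map_algebraMap_quotient]
    exact hcomp.toIsHausdorff
  set m := IsLocalRing.maximalIdeal (B ⧸ q.asIdeal) with hm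
  have hmrad : m ≤ (I.map (algebraMap A (B ⧸ q.asIdeal))).radical := by
    rw [map_algebraMap_quotient]
    exact (isMaximal_eq_radical hq m (IsLocalRing.maximalIdeal.isMaximal _)).le
  have hmB : (m.comap (Ideal.Quotient.mkₐ A q.asIdeal)).IsMaximal :=
    Ideal.comap_isMaximal_of_surjective (Ideal.Quotient.mkₐ A q.asIdeal)
      (Ideal.Quotient.mkₐ_surjective A q.asIdeal)
  have hqm : q.asIdeal ≤ m.comap (Ideal.Quotient.mkₐ A q.asIdeal) := by
    intro x hx
    rw [Ideal.mem_comap, Ideal.Quotient.mkₐ_eq_mk, Ideal.Quotient.eq_zero_iff_mem.2 hx]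
    exact m.zero_mem
  have hfinB := h1 _ hmB hqm
  have hfinm : Module.Finite A ((B ⧸ q.asIdeal) ⧸ m) :=
    Module.Finite.of_surjective
      (Ideal.quotientMapₐ m (Ideal.Quotient.mkₐ A q.asIdeal) le_rfl).toLinearMap
      (Ideal.quotientMap_surjective (H := le_rfl) (Ideal.Quotient.mkₐ_surjective A q.asIdeal))
  have hle : I.map (algebraMap A B) ≤
      (I.map (algebraMap A (B ⧸ q.asIdeal))).comap (Ideal.Quotient.mkₐ A q.asIdeal) := by
    rw [map_algebraMap_quotient, ← Ideal.map_le_iff_le_comap]
    exact le_rfl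
  have hftD : Algebra.FiniteType A ((B ⧸ q.asIdeal) ⧸ I.map (algebraMap A (B ⧸ q.asIdeal))) :=
    Algebra.FiniteType.of_surjective
      (Ideal.quotientMapₐ _ (Ideal.Quotient.mkₐ A q.asIdeal) hle)
      (Ideal.quotientMap_surjective (H := hle) (Ideal.Quotient.mkₐ_surjective A q.asIdeal))
  exact finite_of_finite_quotient_of_le_radical I m hmrad


theorem isRigClosed_comap_of_finite {q : PrimeSpectrum B}
    (hq : IsRigClosed (I.map (algebraMap A B)) q) (h3 : Module.Finite A (B ⧸ q.asIdeal)) :
    IsRigClosed I (PrimeSpectrum.comap (algebraMap A B) q) := by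
  have hI := IsAdicComplete.le_jacobson_bot I
  apply isRigClosed_of_ringKrullDim_eq_one hI
  · change ringKrullDim (A ⧸ q.asIdeal.comap (algebraMap A B)) = 1
    have h1 : Algebra.IsIntegral A (B ⧸ q.asIdeal) := Algebra.IsIntegral.of_finite A _
    have h2 : Algebra.IsIntegral (A ⧸ q.asIdeal.comap (algebraMap A B)) (B ⧸ q.asIdeal) :=
      Algebra.IsIntegral.tower_top A
    rw [ringKrullDim_eq_of_isIntegral_of_injective (R := A ⧸ q.asIdeal.comap (algebraMap A B))
      (S := B ⧸ q.asIdeal) Ideal.algebraMap_quotient_injective]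
    exact ringKrullDim_quotient_eq_one (IsAdicComplete.le_jacobson_bot _) hq
  · intro h
    apply hq.1
    rw [Ideal.map_le_iff_le_comap]
    exact h

theorem finite_residue_of_isRigClosed_comap
    (hft : Algebra.FiniteType A (B ⧸ I.map (algebraMap A B)))
    {q : PrimeSpectrum B} (hq : IsRigClosed (I.map (algebraMap A B)) q)
    (h2 : IsRigClosed I (PrimeSpectrum.comap (algebraMap A B) q))
    (m : Ideal B) (hm : m.IsMaximal) (hqm : q.asIdeal ≤ m) : Module.Finite A (B ⧸ m) := by
  have hIm : I.map (algebraMap A B) ≤ m :=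
    (IsAdicComplete.le_jacobson_bot _).trans (jacobson_bot_le_of_isMaximal m)
  have hlt : (PrimeSpectrum.comap (algebraMap A B) q).asIdeal < m.comap (algebraMap A B) := by
    refine lt_of_le_of_ne (Ideal.comap_mono hqm) fun h => ?_
    apply h2.1
    rw [h, ← Ideal.map_le_iff_le_comap]
    exact hIm
  have hn : (m.comap (algebraMap A B)).IsMaximal := isMaximal_of_lt h2 _ hlt
  let _ : Field (A ⧸ m.comap (algebraMap A B)) := Ideal.Quotient.field _
  let _ : Field (B ⧸ m) := Ideal.Quotient.field _
  have hftm : Algebra.FiniteType A (B ⧸ m) :=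
    Algebra.FiniteType.of_surjective (Ideal.Quotient.factorₐ A hIm)
      (Ideal.Quotient.factor_surjective hIm)
  have hftm' : Algebra.FiniteType (A ⧸ m.comap (algebraMap A B)) (B ⧸ m) :=
    Algebra.FiniteType.of_restrictScalars_finiteType A _ _
  have := finite_of_finite_type_of_isJacobsonRing (A ⧸ m.comap (algebraMap A B)) (B ⧸ m)
  exact Module.Finite.trans (A ⧸ m.comap (algebraMap A B)) (B ⧸ m)

end Rel

end Groth.Agent.Lib.H94Rig
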