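import Groth.Agent.Lib.H94Rig2
import Mathlib.RingTheory.Ideal.GoingDown
import Mathlib.RingTheory.Flat.FaithfullyFlat.Basic

set_option autoImplicit false
set_option linter.unusedSectionVars false
set_option linter.unusedVariables false
universe u

namespace Groth.Agent.Lib.H94Rig

section Exists

variable {B : Type u} [CommRing B] [IsNoetherianRing B]

/-- Above any prime not containing `J` there is a rig-closed prime. -/
theorem exists_isRigClosed_ge (J : Ideal B) (q' : PrimeSpectrum B) (h : ¬ J ≤ q'.asIdeal) :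
    ∃ q : PrimeSpectrum B, q' ≤ q ∧ IsRigClosed J q := by
  have hwf : WellFounded (InvImage (fun a b : Ideal B => a > b) (PrimeSpectrum.asIdeal (R := B))) :=
    InvImage.wf _ (wellFounded_gt)
  obtain ⟨q, ⟨hq1, hq2⟩, hmin⟩ := hwf.has_min {y : PrimeSpectrum B | q' ≤ y ∧ ¬ J ≤ y.asIdeal}
    ⟨q', le_rfl, h⟩
  refine ⟨q, hq1, hq2, fun y hqy hy => ?_⟩
  by_contra hne
  have hlt : q.asIdeal < y.asIdeal :=
    lt_of_le_of_ne hqy (fun h => hne (PrimeSpectrum.ext h.symm))
  exact hmin y ⟨hq1.trans hqy, hy⟩ hlt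

end Exists

section Flat

variable {A : Type u} [CommRing A] {I : Ideal A}
variable [IsNoetherianRing A] [IsAdicComplete I A] {B : Type u} [CommRing B] [Algebra A B]
  [IsNoetherianRing B] [IsAdicComplete (I.map (algebraMap A B)) B]

theorem exists_isRigClosed_comap_eq [Module.Flat A B] {p : PrimeSpectrum A} (hp : IsRigClosed I p)
    (Q : PrimeSpectrum B) (hpQ : p.asIdeal ≤ (PrimeSpectrum.comap (algebraMap A B) Q).asIdeal) :
    ∃ q : PrimeSpectrum B, IsRigClosed (I.map (algebraMap A B)) q ∧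
      PrimeSpectrum.comap (algebraMap A B) q = p := by
  have hQ : Q.asIdeal.LiesOver (Q.asIdeal.comap (algebraMap A B)) := ⟨rfl⟩
  obtain ⟨P, hPQ, hP, hPp⟩ := Ideal.exists_ideal_le_liesOver_of_le (p := p.asIdeal)
    (q := Q.asIdeal.comap (algebraMap A B)) Q.asIdeal hpQ
  have hPc : P.comap (algebraMap A B) = p.asIdeal := (hPp.over).symm
  have hnot : ¬ I.map (algebraMap A B) ≤ (⟨P, hP⟩ : PrimeSpectrum B).asIdeal := by
    intro h
    apply hp.1
    rw [← hPc, ← Ideal.map_le_iff_le_comap]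
    exact h
  obtain ⟨q, hPq, hq⟩ := exists_isRigClosed_ge (I.map (algebraMap A B)) ⟨P, hP⟩ hnot
  refine ⟨q, hq, hp.2 _ ?_ ?_⟩
  · change p.asIdeal ≤ q.asIdeal.comap (algebraMap A B)
    rw [← hPc]
    exact Ideal.comap_mono hPq
  · intro h
    apply hq.1
    rw [Ideal.map_le_iff_le_comap]
    exact h

theorem exists_prime_over_maximal {p : PrimeSpectrum A} (hp : IsRigClosed I p)
    {q : PrimeSpectrum B} (hq : IsRigClosed (I.map (algebraMap A B)) q)
    (hqp : PrimeSpectrum.comap (algebraMap A B) q = p) :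
    ∃ Q : PrimeSpectrum B, I.map (algebraMap A B) ≤ Q.asIdeal ∧
      p.asIdeal ≤ (PrimeSpectrum.comap (algebraMap A B) Q).asIdeal ∧
      (PrimeSpectrum.comap (algebraMap A B) Q).asIdeal.IsMaximal := by
  obtain ⟨m, hm, hqm⟩ := Ideal.exists_le_maximal q.asIdeal q.2.ne_top
  have hIm : I.map (algebraMap A B) ≤ m :=
    (IsAdicComplete.le_jacobson_bot _).trans (jacobson_bot_le_of_isMaximal m)
  have hle : p.asIdeal ≤ m.comap (algebraMap A B) := by
    rw [← hqp]
    exact Ideal.comap_mono hqm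
  refine ⟨⟨m, hm.isPrime⟩, hIm, hle, ?_⟩
  have hlt : p.asIdeal < m.comap (algebraMap A B) := by
    refine lt_of_le_of_ne hle fun h => ?_
    apply hp.1
    rw [h, ← Ideal.map_le_iff_le_comap]
    exact hIm
  exact isMaximal_of_lt hp _ hlt

end Flat

end Groth.Agent.Lib.H94Rig
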