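import Groth.Agent.Lib.H94Rig3
import Mathlib.RingTheory.Unramified.LocalRing
import Mathlib.RingTheory.Kaehler.Basic
import Mathlib.RingTheory.Nakayama
import Mathlib.RingTheory.Etale.Basic

/-!
helper94: rig-closed primes IV: morphisms unramified modulo `I`.

* `formallyUnramified_of_quotient`: Nakayama for unramifiedness.
* `isHausdorff_quotient`, `quotQuotMap`, `finiteType_quotient`: quotients of adic tft algebras.
* `finite_quotient_map_of_isRigClosed`, `formallyUnramified_quotient_map`: `B/pB` is finite and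
  unramified over `A` for rig-closed `p` when `B/IB` is unramified over `A/I`.
* `map_map_eq_maximalIdeal`: `p B_q = q B_q`.
-/

set_option autoImplicit false
set_option linter.unusedSectionVars false
set_option linter.unusedVariables false
universe u

namespace Groth.Agent.Lib.H94Rig

open TensorProduct

/-- Nakayama for unramifiedness: if `S` is of finite type over `R`, `JS` lies in the Jacobson
radical of `S` and `S/JS` is formally unramified over `R`, then so is `S`. -/
theorem formallyUnramified_of_quotient {R S : Type*} [CommRing R] [CommRing S] [Algebra R S]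
    [Algebra.FiniteType R S] (J : Ideal R)
    (hJ : J.map (algebraMap R S) ≤ (⊥ : Ideal S).jacobson)
    [Algebra.FormallyUnramified R (S ⧸ J.map (algebraMap R S))] :
    Algebra.FormallyUnramified R S := by
  constructor
  set K := J.map (algebraMap R S) with hK
  have h1 : Subsingleton ((S ⧸ K) ⊗[S] Ω[S⁄R]) := by
    refine subsingleton_of_forall_eq 0 fun x ↦ ?_
    obtain ⟨x, rfl⟩ := (KaehlerDifferential.exact_kerCotangentToTensor_mapBaseChange R S
      (S ⧸ K) Ideal.Quotient.mk_surjective x).mp (Subsingleton.elim _ _)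
    obtain ⟨⟨x, hx⟩, rfl⟩ := Ideal.toCotangent_surjective _ x
    simp only [KaehlerDifferential.kerCotangentToTensor_toCotangent]
    replace hx : x ∈ Ideal.map (algebraMap R S) J := by
      simpa [hK] using hx
    induction hx using Submodule.span_induction with
    | zero => simp
    | mem x h => obtain ⟨x, hx, rfl⟩ := h; simp
    | add x y hx hy _ _ => simp [*, TensorProduct.tmul_add]
    | smul a x hx _ =>
      have : Ideal.Quotient.mk K x = 0 := by
        rw [Ideal.Quotient.eq_zero_iff_mem]; exact Ideal.span_le.2 (fun _ h => Ideal.subset_span h) hx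
      simp [*, TensorProduct.tmul_add, TensorProduct.smul_tmul', ← Algebra.algebraMap_eq_smul_one]
  have h2 : Subsingleton (Ω[S⁄R] ⧸ (K • ⊤ : Submodule S Ω[S⁄R])) :=
    (TensorProduct.quotTensorEquivQuotSMul Ω[S⁄R] K).symm.subsingleton
  have h3 : (⊤ : Submodule S Ω[S⁄R]) ≤ K • ⊤ := by
    intro ω _
    rw [← Submodule.Quotient.mk_eq_zero]
    exact Subsingleton.elim _ _
  have hfg : (⊤ : Submodule S Ω[S⁄R]).FG := Module.finite_def.mp inferInstance
  have h4 := Submodule.eq_bot_of_le_smul_of_le_jacobson_bot K ⊤ hfg h3 hJ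
  exact (Submodule.subsingleton_iff S).1 (subsingleton_of_bot_eq_top h4.symm)


section Quot

variable {A : Type u} [CommRing A] {I : Ideal A}
variable [IsNoetherianRing A] [IsAdicComplete I A] {B : Type u} [CommRing B] [Algebra A B]
  [IsNoetherianRing B] [IsAdicComplete (I.map (algebraMap A B)) B]

theorem isHausdorff_quotient (K : Ideal B) : IsHausdorff I (B ⧸ K) := by
  have hcomp := isAdicComplete_quotient (I.map (algebraMap A B)) K
  rw [← IsHausdorff.map_algebraMap_iff (S := B ⧸ K), map_algebraMap_quotient]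
  exact hcomp.toIsHausdorff

theorem map_algebraMap_quotient_le_jacobson (K : Ideal B) :
    I.map (algebraMap A (B ⧸ K)) ≤ (⊥ : Ideal (B ⧸ K)).jacobson := by
  have hcomp := isAdicComplete_quotient (I.map (algebraMap A B)) K
  rw [map_algebraMap_quotient]
  exact IsAdicComplete.le_jacobson_bot _

/-- the canonical surjection `B/IB → (B/K)/I(B/K)`. -/
noncomputable def quotQuotMap (K : Ideal B) :
    (B ⧸ I.map (algebraMap A B)) →ₐ[A] ((B ⧸ K) ⧸ I.map (algebraMap A (B ⧸ K))) :=
  Ideal.quotientMapₐ _ (Ideal.Quotient.mkₐ A K) (by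
    rw [map_algebraMap_quotient, ← Ideal.map_le_iff_le_comap]
    exact le_rfl)

theorem quotQuotMap_surjective (K : Ideal B) :
    Function.Surjective (quotQuotMap (I := I) K) :=
  Ideal.quotientMap_surjective (H := by
    rw [map_algebraMap_quotient, ← Ideal.map_le_iff_le_comap]
    exact le_rfl) (Ideal.Quotient.mkₐ_surjective A K)

theorem finiteType_quotient (hft : Algebra.FiniteType A (B ⧸ I.map (algebraMap A B)))
    (K : Ideal B) : Algebra.FiniteType A ((B ⧸ K) ⧸ I.map (algebraMap A (B ⧸ K))) :=
  Algebra.FiniteType.of_surjective (quotQuotMap (I := I) K) (quotQuotMap_surjective K)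

end Quot


section Unram

variable {A : Type u} [CommRing A] {I : Ideal A}
variable [IsNoetherianRing A] [IsAdicComplete I A] {B : Type u} [CommRing B] [Algebra A B]
  [IsNoetherianRing B] [IsAdicComplete (I.map (algebraMap A B)) B]

/-- the maximal ideal above a rig-closed prime lies in the radical of `I + p`. -/
theorem le_radical_sup_of_isMaximal {p : PrimeSpectrum A} (hp : IsRigClosed I p)
    (M : Ideal A) (hM : M.IsMaximal) (hpM : p.asIdeal ≤ M) : M ≤ (I ⊔ p.asIdeal).radical := by
  intro x hx
  have hker : RingHom.ker (Ideal.Quotient.mk p.asIdeal) ≤ M := by rw [Ideal.mk_ker]; exact hpM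
  have hMbar : (M.map (Ideal.Quotient.mk p.asIdeal)).IsMaximal :=
    Ideal.IsMaximal.map_of_surjective_of_ker_le Ideal.Quotient.mk_surjective hker
  have h1 := isMaximal_eq_radical hp _ hMbar
  have h2 : Ideal.Quotient.mk p.asIdeal x ∈ (I.map (Ideal.Quotient.mk p.asIdeal)).radical :=
    h1 ▸ Ideal.mem_map_of_mem _ hx
  obtain ⟨k, hk⟩ := h2
  refine ⟨k, ?_⟩
  rw [← map_pow] at hk
  have h3 : x ^ k ∈ (I.map (Ideal.Quotient.mk p.asIdeal)).comap (Ideal.Quotient.mk p.asIdeal) := hk
  rw [Ideal.comap_map_of_surjective _ Ideal.Quotient.mk_surjective,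
    ← RingHom.ker_eq_comap_bot, Ideal.mk_ker] at h3
  exact h3

variable [Algebra.FormallyUnramified (A ⧸ I) (B ⧸ I.map (algebraMap A B))]

theorem formallyUnramified_quotient_base :
    Algebra.FormallyUnramified A (B ⧸ I.map (algebraMap A B)) := by
  have : Algebra.FormallyUnramified A (A ⧸ I) :=
    Algebra.FormallyUnramified.of_surjective (Algebra.ofId A (A ⧸ I)) Ideal.Quotient.mk_surjective
  exact Algebra.FormallyUnramified.comp A (A ⧸ I) _

theorem finite_quotient_map_of_isMaximal
    (hft : Algebra.FiniteType A (B ⧸ I.map (algebraMap A B)))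
    (M : Ideal A) [hM : M.IsMaximal] (hIM : I ≤ M) :
    Module.Finite A (B ⧸ M.map (algebraMap A B)) := by
  have h0 : Algebra.FormallyUnramified A (B ⧸ I.map (algebraMap A B)) :=
    formallyUnramified_quotient_base
  have hle : I.map (algebraMap A B) ≤ M.map (algebraMap A B) := Ideal.map_mono hIM
  have h1 : Algebra.FormallyUnramified A (B ⧸ M.map (algebraMap A B)) :=
    Algebra.FormallyUnramified.of_surjective (Ideal.Quotient.factorₐ A hle)
      (Ideal.Quotient.factor_surjective hle)
  have h2 : Algebra.FormallyUnramified (A ⧸ M) (B ⧸ M.map (algebraMap A B)) :=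
    Algebra.FormallyUnramified.of_restrictScalars A _ _
  have hft1 : Algebra.FiniteType A (B ⧸ M.map (algebraMap A B)) :=
    Algebra.FiniteType.of_surjective (Ideal.Quotient.factorₐ A hle)
      (Ideal.Quotient.factor_surjective hle)
  have hft2 : Algebra.FiniteType (A ⧸ M) (B ⧸ M.map (algebraMap A B)) :=
    Algebra.FiniteType.of_restrictScalars_finiteType A _ _
  let _ : Field (A ⧸ M) := Ideal.Quotient.field M
  have h3 : Module.Finite (A ⧸ M) (B ⧸ M.map (algebraMap A B)) :=
    Algebra.FormallyUnramified.finite_of_free _ _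
  exact Module.Finite.trans (A ⧸ M) _


omit [IsNoetherianRing A] [IsAdicComplete I A] [IsNoetherianRing B]
  [IsAdicComplete (I.map (algebraMap A B)) B]
  [Algebra.FormallyUnramified (A ⧸ I) (B ⧸ I.map (algebraMap A B))] in
theorem map_algebraMap_quotient' (M : Ideal A) (K : Ideal B) :
    M.map (algebraMap A (B ⧸ K)) = (M.map (algebraMap A B)).map (Ideal.Quotient.mk K) := by
  rw [Ideal.map_map]; rfl

theorem map_map_quotient_eq_bot (p : Ideal A) :
    p.map (algebraMap A (B ⧸ p.map (algebraMap A B))) = ⊥ := by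
  rw [eq_bot_iff, Ideal.map_le_iff_le_comap]
  intro x hx
  rw [Ideal.mem_comap, Ideal.mem_bot]
  change Ideal.Quotient.mk _ (algebraMap A B x) = 0
  rw [Ideal.Quotient.eq_zero_iff_mem]
  exact Ideal.mem_map_of_mem _ hx

/-- `B/pB` is finite over `A` for a rig-closed prime `p` of `A` when `B/IB` is unramified. -/
theorem finite_quotient_map_of_isRigClosed
    (hft : Algebra.FiniteType A (B ⧸ I.map (algebraMap A B)))
    {p : PrimeSpectrum A} (hp : IsRigClosed I p) :
    Module.Finite A (B ⧸ p.asIdeal.map (algebraMap A B)) := by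
  obtain ⟨M, hM, hpM⟩ := Ideal.exists_le_maximal p.asIdeal p.2.ne_top
  have hIM : I ≤ M := (IsAdicComplete.le_jacobson_bot I).trans (jacobson_bot_le_of_isMaximal M)
  have hrad := le_radical_sup_of_isMaximal hp M hM hpM
  have hfinM := finite_quotient_map_of_isMaximal hft M hIM
  set K := p.asIdeal.map (algebraMap A B) with hK
  have hH : IsHausdorff I (B ⧸ K) := isHausdorff_quotient K
  have hftK := finiteType_quotient hft K
  have hle : M.map (algebraMap A B) ≤
      (M.map (algebraMap A (B ⧸ K))).comap (Ideal.Quotient.mkₐ A K) := by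
    rw [← Ideal.map_le_iff_le_comap, map_algebraMap_quotient']
    exact le_rfl
  have hfinm : Module.Finite A ((B ⧸ K) ⧸ M.map (algebraMap A (B ⧸ K))) :=
    Module.Finite.of_surjective
      (Ideal.quotientMapₐ _ (Ideal.Quotient.mkₐ A K) hle).toLinearMap
      (Ideal.quotientMap_surjective (H := hle) (Ideal.Quotient.mkₐ_surjective A K))
  refine finite_of_finite_quotient_of_le_radical I (M.map (algebraMap A (B ⧸ K))) ?_
  rw [Ideal.map_le_iff_le_comap]
  intro x hx
  obtain ⟨k, hk⟩ := hrad hx
  refine ⟨k, ?_⟩
  rw [← map_pow]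
  have h1 : algebraMap A (B ⧸ K) (x ^ k) ∈ (I ⊔ p.asIdeal).map (algebraMap A (B ⧸ K)) :=
    Ideal.mem_map_of_mem _ hk
  rw [Ideal.map_sup, hK, map_map_quotient_eq_bot, sup_bot_eq] at h1
  exact h1

theorem formallyUnramified_quotient_map
    (hft : Algebra.FiniteType A (B ⧸ I.map (algebraMap A B)))
    {p : PrimeSpectrum A} (hp : IsRigClosed I p) :
    Algebra.FormallyUnramified A (B ⧸ p.asIdeal.map (algebraMap A B)) := by
  have hfin := finite_quotient_map_of_isRigClosed hft hp
  set K := p.asIdeal.map (algebraMap A B) with hK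
  have h0 : Algebra.FormallyUnramified A (B ⧸ I.map (algebraMap A B)) :=
    formallyUnramified_quotient_base
  have h1 : Algebra.FormallyUnramified A ((B ⧸ K) ⧸ I.map (algebraMap A (B ⧸ K))) :=
    Algebra.FormallyUnramified.of_surjective (quotQuotMap (I := I) K) (quotQuotMap_surjective K)
  exact formallyUnramified_of_quotient I (map_algebraMap_quotient_le_jacobson K)


/-- Stacks-type statement: for an adic morphism topologically of finite type which is unramified
modulo `I`, and a rig-closed prime `q` over a rig-closed prime `p`, one has `p B_q = q B_q`. -/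
theorem map_map_eq_maximalIdeal
    (hft : Algebra.FiniteType A (B ⧸ I.map (algebraMap A B)))
    {q : PrimeSpectrum B} {p' : PrimeSpectrum A}
    (hp : IsRigClosed I p') (hpq : p'.asIdeal = q.asIdeal.comap (algebraMap A B)) :
    (p'.asIdeal.map (algebraMap A B)).map
        (algebraMap B (Localization.AtPrime q.asIdeal)) =
      IsLocalRing.maximalIdeal (Localization.AtPrime q.asIdeal) := by
  have hfin : Module.Finite A (B ⧸ p'.asIdeal.map (algebraMap A B)) :=
    finite_quotient_map_of_isRigClosed hft hp
  have hunr : Algebra.FormallyUnramified A (B ⧸ p'.asIdeal.map (algebraMap A B)) :=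
    formallyUnramified_quotient_map hft hp
  obtain ⟨p, hpprime⟩ := p'
  simp only at hpq hfin hunr ⊢
  have h00 := map_map_quotient_eq_bot (B := B) p
  set K : Ideal B := p.map (algebraMap A B) with hK
  have hKq : K ≤ q.asIdeal := by rw [hK, hpq]; exact Ideal.map_comap_le
  have hker : RingHom.ker (Ideal.Quotient.mk K) ≤ q.asIdeal := by rw [Ideal.mk_ker]; exact hKq
  have hqbar : (q.asIdeal.map (Ideal.Quotient.mk K)).IsPrime :=
    Ideal.map_isPrime_of_surjective Ideal.Quotient.mk_surjective hker
  have hcm : (q.asIdeal.map (Ideal.Quotient.mk K)).comap (Ideal.Quotient.mk K) = q.asIdeal := by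
    rw [Ideal.comap_map_of_surjective _ Ideal.Quotient.mk_surjective]
    simpa [← RingHom.ker_eq_comap_bot, Ideal.mk_ker] using hKq
  have hlies : (q.asIdeal.map (Ideal.Quotient.mk K)).LiesOver p := by
    constructor
    rw [Ideal.under_def]
    have : algebraMap A (B ⧸ K) = (Ideal.Quotient.mk K).comp (algebraMap A B) := rfl
    rw [this, ← Ideal.comap_comap, hcm, hpq]
  let _ := Localization.AtPrime.algebraOfLiesOver p (q.asIdeal.map (Ideal.Quotient.mk K))
  have h1 := ((Algebra.isUnramifiedAt_iff_map_eq A p (q.asIdeal.map (Ideal.Quotient.mk K))).1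
    inferInstance).2
  have h0 : p.map (algebraMap A (Localization.AtPrime (q.asIdeal.map (Ideal.Quotient.mk K)))) = ⊥ := by
    rw [IsScalarTower.algebraMap_eq A (B ⧸ K), ← Ideal.map_map, h00, Ideal.map_bot]
  rw [h0] at h1
  apply le_antisymm
  · rw [← Localization.AtPrime.map_eq_maximalIdeal]
    exact Ideal.map_mono hKq
  · rw [← Localization.AtPrime.map_eq_maximalIdeal, Ideal.map_le_iff_le_comap]
    intro x hx
    rw [Ideal.mem_comap]
    have hx1 : algebraMap (B ⧸ K) (Localization.AtPrime (q.asIdeal.map (Ideal.Quotient.mk K)))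
        (Ideal.Quotient.mk K x) = 0 := by
      have : algebraMap (B ⧸ K) (Localization.AtPrime (q.asIdeal.map (Ideal.Quotient.mk K)))
          (Ideal.Quotient.mk K x) ∈ IsLocalRing.maximalIdeal _ := by
        rw [← Localization.AtPrime.map_eq_maximalIdeal]
        exact Ideal.mem_map_of_mem _ (Ideal.mem_map_of_mem _ hx)
      rw [← h1] at this
      simpa using this
    rw [IsLocalization.map_eq_zero_iff (q.asIdeal.map (Ideal.Quotient.mk K)).primeCompl] at hx1
    obtain ⟨⟨s, hs⟩, hsx⟩ := hx1
    obtain ⟨t, rfl⟩ := Ideal.Quotient.mk_surjective s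
    have htq : t ∈ q.asIdeal.primeCompl := fun h => hs (Ideal.mem_map_of_mem _ h)
    have htx : t * x ∈ K := by
      rw [← Ideal.Quotient.eq_zero_iff_mem, map_mul]
      exact hsx
    rw [IsLocalization.mem_map_algebraMap_iff q.asIdeal.primeCompl]
    refine ⟨(⟨t * x, htx⟩, ⟨t, htq⟩), ?_⟩
    simp only [map_mul]
    ring

end Unram

end Groth.Agent.Lib.H94Rig
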