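import Groth.Agent.Lib.H94Rig4
import Groth.Agent.Lib.ComplFlat
import Groth.Agent.Lib.FlatCrit
import Mathlib.RingTheory.Jacobson.Ring
import Mathlib.RingTheory.RingHom.Flat

/-!
# Rig-closed primes V: completed localizations as adic tft pairs, naive rig-flat ⇒ rig-flat

* `map_map_tower`, `finiteType_trans_quotient`: bookkeeping for towers `A → B → B₁`.
* `isNoetherianRing_adicCompletion`, `isAdicComplete_adicCompletion`, `quotAdicCompletionEquiv`,
  `finiteType_adicCompletion`, `formallyUnramified_adicCompletion`: for a Noetherian `A`-algebra `R`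
  the completion `Ĉ` of `R` along `I R` forms an adic tft pair over `(A, I)` whenever `R / I R` is of
  finite type over `A`.
* `CAway I f`: the completed principal localization, with the corresponding instances.
* `flat_of_flat_of_map_eq_maximalIdeal`: local criterion of flatness in the form
  `R → R' → S`, `S` flat over `R`, `m_{R'} = p R'`.
* `isJacobsonRing_quotient_map`, `isRigClosed_comap_of_isJacobsonRing` (= S8835).
* `flat_at_isRigClosed_of_naive`: abstract form of "naively rig-flat ⇒ rig-flat" (Jacobson case).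
-/

set_option autoImplicit false
universe u

namespace Groth.Agent.Lib.H94Rig

open Groth.Agent.Lib

theorem map_map_tower {A : Type*} [CommRing A] {I : Ideal A} {B : Type*} [CommRing B] [Algebra A B]
    {B₁ : Type*} [CommRing B₁] [Algebra A B₁] [Algebra B B₁] [IsScalarTower A B B₁] :
    (I.map (algebraMap A B)).map (algebraMap B B₁) = I.map (algebraMap A B₁) := by
  rw [Ideal.map_map, ← IsScalarTower.algebraMap_eq]

theorem finiteType_trans_quotient {A : Type u} [CommRing A] (I : Ideal A) {B : Type u} [CommRing B]
    [Algebra A B] {B₁ : Type u} [CommRing B₁] [Algebra A B₁] [Algebra B B₁] [IsScalarTower A B B₁]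
    (hB : Algebra.FiniteType A (B ⧸ I.map (algebraMap A B)))
    (h : Algebra.FiniteType B (B₁ ⧸ (I.map (algebraMap A B)).map (algebraMap B B₁))) :
    Algebra.FiniteType A (B₁ ⧸ I.map (algebraMap A B₁)) := by
  have h1 : Algebra.FiniteType (B ⧸ I.map (algebraMap A B))
      (B₁ ⧸ (I.map (algebraMap A B)).map (algebraMap B B₁)) :=
    Algebra.FiniteType.of_restrictScalars_finiteType B _ _
  have : IsScalarTower A (B ⧸ I.map (algebraMap A B))
      (B₁ ⧸ (I.map (algebraMap A B)).map (algebraMap B B₁)) := by
    refine IsScalarTower.of_algebraMap_eq fun a => ?_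
    rw [IsScalarTower.algebraMap_apply A B (B ⧸ I.map (algebraMap A B)),
      ← IsScalarTower.algebraMap_apply B (B ⧸ I.map (algebraMap A B)),
      IsScalarTower.algebraMap_apply A B₁, IsScalarTower.algebraMap_apply A B B₁,
      ← IsScalarTower.algebraMap_apply B B₁]
  have h2 : Algebra.FiniteType A (B₁ ⧸ (I.map (algebraMap A B)).map (algebraMap B B₁)) :=
    Algebra.FiniteType.trans hB h1
  rwa [map_map_tower] at h2

section Compl

variable {A : Type u} [CommRing A] (I : Ideal A) (R : Type u) [CommRing R] [Algebra A R]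

theorem map_algebraMap_adicCompletion :
    I.map (algebraMap A (AdicCompletion (I.map (algebraMap A R)) R)) =
      (I.map (algebraMap A R)).map
        (algebraMap R (AdicCompletion (I.map (algebraMap A R)) R)) := by
  rw [Ideal.map_map, ← IsScalarTower.algebraMap_eq]

variable [IsNoetherianRing R]

theorem isNoetherianRing_adicCompletion :
    IsNoetherianRing (AdicCompletion (I.map (algebraMap A R)) R) :=
  Groth.Agent.Lib.AdicNoeth.isNoetherianRing_adicCompletion _

theorem isAdicComplete_adicCompletion :
    IsAdicComplete (I.map (algebraMap A (AdicCompletion (I.map (algebraMap A R)) R)))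
      (AdicCompletion (I.map (algebraMap A R)) R) := by
  rw [map_algebraMap_adicCompletion]
  exact AdicCompletion.isAdicComplete_self _ (IsNoetherian.noetherian _)

theorem ker_evalOne_restrictScalars :
    RingHom.ker ((AdicCompletion.evalOneₐ (I.map (algebraMap A R))).restrictScalars A) =
      I.map (algebraMap A (AdicCompletion (I.map (algebraMap A R)) R)) := by
  rw [map_algebraMap_adicCompletion,
    ← AdicCompletion.ker_evalOneₐ_eq_map _ (IsNoetherian.noetherian _)]
  rfl

/-- `Ĉ / I Ĉ ≃ R / I R` as `A`-algebras. -/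
noncomputable def quotAdicCompletionEquiv :
    ((AdicCompletion (I.map (algebraMap A R)) R) ⧸
        I.map (algebraMap A (AdicCompletion (I.map (algebraMap A R)) R))) ≃ₐ[A]
      (R ⧸ I.map (algebraMap A R)) :=
  (Ideal.quotientEquivAlgOfEq A (ker_evalOne_restrictScalars I R).symm).trans
    (Ideal.quotientKerAlgEquivOfSurjective
      (f := (AdicCompletion.evalOneₐ (I.map (algebraMap A R))).restrictScalars A)
      (AdicCompletion.evalOneₐ_surjective _))

theorem finiteType_adicCompletion (h : Algebra.FiniteType A (R ⧸ I.map (algebraMap A R))) :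
    Algebra.FiniteType A ((AdicCompletion (I.map (algebraMap A R)) R) ⧸
        I.map (algebraMap A (AdicCompletion (I.map (algebraMap A R)) R))) :=
  Algebra.FiniteType.equiv h (quotAdicCompletionEquiv I R).symm

theorem formallyUnramified_adicCompletion [Algebra.FormallyUnramified A R] :
    Algebra.FormallyUnramified (A ⧸ I) ((AdicCompletion (I.map (algebraMap A R)) R) ⧸
        I.map (algebraMap A (AdicCompletion (I.map (algebraMap A R)) R))) := by
  have h1 : Algebra.FormallyUnramified A (R ⧸ I.map (algebraMap A R)) :=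
    Algebra.FormallyUnramified.of_surjective (Ideal.Quotient.mkₐ A _)
      Ideal.Quotient.mk_surjective
  have h2 : Algebra.FormallyUnramified A ((AdicCompletion (I.map (algebraMap A R)) R) ⧸
        I.map (algebraMap A (AdicCompletion (I.map (algebraMap A R)) R))) :=
    Algebra.FormallyUnramified.of_equiv (quotAdicCompletionEquiv I R).symm
  exact Algebra.FormallyUnramified.of_restrictScalars A _ _

end Compl

section Inst

variable {A : Type u} [CommRing A] (I : Ideal A) (f : A)

/-- The completed principal localization `A_{f}`. -/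
abbrev CAway : Type u :=
  AdicCompletion (I.map (algebraMap A (Localization.Away f))) (Localization.Away f)

variable [IsNoetherianRing A]

instance : IsNoetherianRing (CAway I f) := isNoetherianRing_adicCompletion I _

instance : IsAdicComplete (I.map (algebraMap A (CAway I f))) (CAway I f) :=
  isAdicComplete_adicCompletion I _

theorem finiteType_cAway :
    Algebra.FiniteType A (CAway I f ⧸ I.map (algebraMap A (CAway I f))) :=
  finiteType_adicCompletion I _
    (Algebra.FiniteType.of_surjective (Ideal.Quotient.mkₐ A _) Ideal.Quotient.mk_surjective)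

instance : Module.Flat (Localization.Away f) (CAway I f) := AdicCompletion.flat_of_isNoetherian _

instance : Module.Flat A (CAway I f) := Module.Flat.trans A (Localization.Away f) (CAway I f)

instance : Algebra.FormallyUnramified (A ⧸ I) (CAway I f ⧸ I.map (algebraMap A (CAway I f))) :=
  formallyUnramified_adicCompletion I _

variable {B : Type u} [CommRing B] [Algebra A B] [IsNoetherianRing B]

instance : IsAdicComplete (I.map (algebraMap A (CAway (I.map (algebraMap A B)) (algebraMap A B f))))
    (CAway (I.map (algebraMap A B)) (algebraMap A B f)) := by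
  have : (I.map (algebraMap A B)).map (algebraMap B (CAway (I.map (algebraMap A B))
      (algebraMap A B f))) = I.map (algebraMap A (CAway (I.map (algebraMap A B))
      (algebraMap A B f))) := map_map_tower
  rw [← this]
  infer_instance

end Inst

section LocalFlat

theorem flat_of_flat_of_map_eq_maximalIdeal {R R' S : Type u} [CommRing R] [CommRing R']
    [CommRing S] [Algebra R R'] [Algebra R' S] [Algebra R S] [IsScalarTower R R' S]
    [IsNoetherianRing R'] [IsLocalRing R'] [IsNoetherianRing S] [IsLocalRing S]
    [IsLocalHom (algebraMap R' S)] [Module.Flat R S] (p : Ideal R)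
    (hp : p.map (algebraMap R R') = IsLocalRing.maximalIdeal R') : Module.Flat R' S := by
  have hI : (IsLocalRing.maximalIdeal R').map (algebraMap R' S) ≤ Ideal.jacobson ⊥ := by
    rw [IsLocalRing.jacobson_eq_maximalIdeal ⊥ bot_ne_top]
    exact IsLocalRing.map_maximalIdeal_le (algebraMap R' S)
  let _ : Field (R' ⧸ IsLocalRing.maximalIdeal R') := Ideal.Quotient.field _
  refine FlatCrit.flat_of_idealSeparated (IsLocalRing.maximalIdeal R')
    (fun 𝔞 x hx => FlatCrit.eq_zero_of_forall_mem_pow_smul_top (S := S) (M := S) _ hI x hx) ?_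
  rw [← hp]
  exact FlatCrit.rTensor_map_injective (S := R') p
    (Module.Flat.rTensor_preserves_injective_linearMap _ Subtype.val_injective)

end LocalFlat

section Jac

variable {A : Type u} [CommRing A] {I : Ideal A}
variable [IsNoetherianRing A] [IsAdicComplete I A] {B : Type u} [CommRing B] [Algebra A B]
variable [IsNoetherianRing B] [IsAdicComplete (I.map (algebraMap A B)) B]

omit [IsNoetherianRing A] [IsAdicComplete I A] [IsNoetherianRing B]
  [IsAdicComplete (I.map (algebraMap A B)) B] in
theorem isJacobsonRing_quotient_map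
    (hft : Algebra.FiniteType A (B ⧸ I.map (algebraMap A B))) (hJ : IsJacobsonRing (A ⧸ I)) :
    IsJacobsonRing (B ⧸ I.map (algebraMap A B)) := by
  have : Algebra.FiniteType (A ⧸ I) (B ⧸ I.map (algebraMap A B)) :=
    Algebra.FiniteType.of_restrictScalars_finiteType A _ _
  exact isJacobsonRing_of_finiteType (A := A ⧸ I)

theorem isRigClosed_comap_of_isJacobsonRing
    (hft : Algebra.FiniteType A (B ⧸ I.map (algebraMap A B))) (hJ : IsJacobsonRing (A ⧸ I))
    {q : PrimeSpectrum B} (hq : IsRigClosed (I.map (algebraMap A B)) q) :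
    IsRigClosed I (PrimeSpectrum.comap (algebraMap A B) q) := by
  refine isRigClosed_comap_of_finite hq (finite_quotient_of_finite_residue hft hq ?_)
  intro m hm hqm
  have hIm : I.map (algebraMap A B) ≤ m :=
    (IsAdicComplete.le_jacobson_bot _).trans (jacobson_bot_le_of_isMaximal m)
  have hIn : I ≤ m.comap (algebraMap A B) := Ideal.map_le_iff_le_comap.1 hIm
  have hJn : IsJacobsonRing (A ⧸ m.comap (algebraMap A B)) :=
    isJacobsonRing_of_surjective ⟨Ideal.Quotient.factor hIn, Ideal.Quotient.factor_surjective hIn⟩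
  let _ : Field (B ⧸ m) := Ideal.Quotient.field _
  have hftm : Algebra.FiniteType A (B ⧸ m) :=
    Algebra.FiniteType.of_surjective (Ideal.Quotient.factorₐ A hIm)
      (Ideal.Quotient.factor_surjective hIm)
  have hftm' : Algebra.FiniteType (A ⧸ m.comap (algebraMap A B)) (B ⧸ m) :=
    Algebra.FiniteType.of_restrictScalars_finiteType A _ _
  have := finite_of_finite_type_of_isJacobsonRing (A ⧸ m.comap (algebraMap A B)) (B ⧸ m)
  exact Module.Finite.trans (A ⧸ m.comap (algebraMap A B)) (B ⧸ m)

end Jac

section Abs41

variable {A : Type u} [CommRing A] {I : Ideal A} [IsNoetherianRing A] [IsAdicComplete I A]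
  {B : Type u} [CommRing B] [Algebra A B] [IsNoetherianRing B]
  [IsAdicComplete (I.map (algebraMap A B)) B]
  {A₁ : Type u} [CommRing A₁] [Algebra A A₁] [IsNoetherianRing A₁]
  [IsAdicComplete (I.map (algebraMap A A₁)) A₁]
  {B₁ : Type u} [CommRing B₁] [Algebra A B₁] [Algebra B B₁] [Algebra A₁ B₁]
  [IsScalarTower A B B₁] [IsScalarTower A A₁ B₁] [IsNoetherianRing B₁]
  [IsAdicComplete (I.map (algebraMap A B₁)) B₁]

omit [IsNoetherianRing A] [IsAdicComplete I A] [IsNoetherianRing B]
  [IsAdicComplete (I.map (algebraMap A B)) B] [IsNoetherianRing B₁]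
  [IsAdicComplete (I.map (algebraMap A B₁)) B₁] [Algebra A₁ B₁] [IsScalarTower A A₁ B₁]
  [IsNoetherianRing A₁] [IsAdicComplete (I.map (algebraMap A A₁)) A₁] in
theorem finiteType_tower (h : Algebra.FiniteType A (B₁ ⧸ I.map (algebraMap A B₁))) :
    Algebra.FiniteType B (B₁ ⧸ (I.map (algebraMap A B)).map (algebraMap B B₁)) := by
  rw [map_map_tower]
  exact Algebra.FiniteType.of_restrictScalars_finiteType A _ _

theorem flat_at_isRigClosed_of_naive
    (hftB : Algebra.FiniteType A (B ⧸ I.map (algebraMap A B)))
    (hftA₁ : Algebra.FiniteType A (A₁ ⧸ I.map (algebraMap A A₁)))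
    (hftB₁ : Algebra.FiniteType A (B₁ ⧸ I.map (algebraMap A B₁)))
    [Module.Flat A A₁] [Module.Flat B B₁]
    [Algebra.FormallyUnramified (A ⧸ I) (A₁ ⧸ I.map (algebraMap A A₁))]
    (hJ : IsJacobsonRing (A ⧸ I))
    (hnaive : ∀ q : PrimeSpectrum B, IsRigClosed (I.map (algebraMap A B)) q →
      (algebraMap A (Localization.AtPrime q.asIdeal)).Flat)
    (q' : PrimeSpectrum B₁) (hq' : IsRigClosed (I.map (algebraMap A B₁)) q') :
    ((algebraMap B₁ (Localization.AtPrime q'.asIdeal)).comp (algebraMap A₁ B₁)).Flat := by
  have hJB := isJacobsonRing_quotient_map hftB hJ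
  have hJA₁ := isJacobsonRing_quotient_map hftA₁ hJ
  -- the pair `B → B₁`
  have hKB : (I.map (algebraMap A B)).map (algebraMap B B₁) = I.map (algebraMap A B₁) :=
    map_map_tower
  have hcB : IsAdicComplete ((I.map (algebraMap A B)).map (algebraMap B B₁)) B₁ := by
    rw [hKB]; infer_instance
  have hftBB₁ := finiteType_tower (B := B) hftB₁
  have hq : IsRigClosed (I.map (algebraMap A B)) (PrimeSpectrum.comap (algebraMap B B₁) q') :=
    isRigClosed_comap_of_isJacobsonRing hftBB₁ hJB (by rw [hKB]; exact hq')
  -- the pair `A₁ → B₁`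
  have hKA : (I.map (algebraMap A A₁)).map (algebraMap A₁ B₁) = I.map (algebraMap A B₁) :=
    map_map_tower
  have hcA : IsAdicComplete ((I.map (algebraMap A A₁)).map (algebraMap A₁ B₁)) B₁ := by
    rw [hKA]; infer_instance
  have hftAB₁ := finiteType_tower (B := A₁) hftB₁
  have hp' : IsRigClosed (I.map (algebraMap A A₁)) (PrimeSpectrum.comap (algebraMap A₁ B₁) q') :=
    isRigClosed_comap_of_isJacobsonRing hftAB₁ hJA₁ (by rw [hKA]; exact hq')
  have hp : IsRigClosed I (PrimeSpectrum.comap (algebraMap A A₁)
      (PrimeSpectrum.comap (algebraMap A₁ B₁) q')) :=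
    isRigClosed_comap_of_isJacobsonRing hftA₁ hJ hp'
  have hmax := map_map_eq_maximalIdeal hftA₁ hp rfl
  obtain ⟨q, hqe⟩ : ∃ q : PrimeSpectrum B, PrimeSpectrum.comap (algebraMap B B₁) q' = q := ⟨_, rfl⟩
  obtain ⟨p', hp'e⟩ : ∃ p' : PrimeSpectrum A₁, PrimeSpectrum.comap (algebraMap A₁ B₁) q' = p' :=
    ⟨_, rfl⟩
  rw [hp'e] at hmax hp hp'
  rw [hqe] at hq
  obtain ⟨p, hpe⟩ : ∃ p : PrimeSpectrum A, PrimeSpectrum.comap (algebraMap A A₁) p' = p := ⟨_, rfl⟩
  rw [hpe] at hmax hp
  have hqI : q.asIdeal = q'.asIdeal.comap (algebraMap B B₁) := by rw [← hqe]; rfl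
  have hp'I : p'.asIdeal = q'.asIdeal.comap (algebraMap A₁ B₁) := by rw [← hp'e]; rfl
  -- `A → (B₁)_{q'}` is flat
  have h1 : (algebraMap A (Localization.AtPrime q.asIdeal)).Flat := hnaive q hq
  have h2 : (Localization.localRingHom q.asIdeal q'.asIdeal (algebraMap B B₁) hqI).Flat :=
    RingHom.Flat.localRingHom (RingHom.flat_algebraMap_iff.2 inferInstance) q'.asIdeal q.asIdeal hqI
  have h3 := h1.comp h2
  have h4 : (Localization.localRingHom q.asIdeal q'.asIdeal (algebraMap B B₁) hqI).comp
      (algebraMap A (Localization.AtPrime q.asIdeal)) =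
      algebraMap A (Localization.AtPrime q'.asIdeal) := by
    ext a
    rw [RingHom.comp_apply, IsScalarTower.algebraMap_apply A B (Localization.AtPrime q.asIdeal),
      Localization.localRingHom_to_map, ← IsScalarTower.algebraMap_apply A B B₁,
      ← IsScalarTower.algebraMap_apply A B₁]
  rw [h4] at h3
  have hflatA : Module.Flat A (Localization.AtPrime q'.asIdeal) := RingHom.flat_algebraMap_iff.1 h3
  -- the algebra structures
  let algR'S : Algebra (Localization.AtPrime p'.asIdeal) (Localization.AtPrime q'.asIdeal) :=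
    (Localization.localRingHom p'.asIdeal q'.asIdeal (algebraMap A₁ B₁) hp'I).toAlgebra
  have hR'S : ∀ x, algebraMap (Localization.AtPrime p'.asIdeal) (Localization.AtPrime q'.asIdeal) x =
      Localization.localRingHom p'.asIdeal q'.asIdeal (algebraMap A₁ B₁) hp'I x := fun _ => rfl
  have hloc : IsLocalHom (algebraMap (Localization.AtPrime p'.asIdeal)
      (Localization.AtPrime q'.asIdeal)) :=
    Localization.isLocalHom_localRingHom p'.asIdeal q'.asIdeal (algebraMap A₁ B₁) hp'I
  have htow : IsScalarTower A (Localization.AtPrime p'.asIdeal) (Localization.AtPrime q'.asIdeal) := by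
    refine IsScalarTower.of_algebraMap_eq fun a => ?_
    rw [hR'S, IsScalarTower.algebraMap_apply A A₁ (Localization.AtPrime p'.asIdeal),
      Localization.localRingHom_to_map, ← IsScalarTower.algebraMap_apply A A₁ B₁,
      ← IsScalarTower.algebraMap_apply A B₁]
  have hmax' : p.asIdeal.map (algebraMap A (Localization.AtPrime p'.asIdeal)) =
      IsLocalRing.maximalIdeal (Localization.AtPrime p'.asIdeal) := by
    rw [← hmax, Ideal.map_map, ← IsScalarTower.algebraMap_eq]
  have hflatR' : Module.Flat (Localization.AtPrime p'.asIdeal) (Localization.AtPrime q'.asIdeal) :=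
    flat_of_flat_of_map_eq_maximalIdeal p.asIdeal hmax'
  have htow' : IsScalarTower A₁ (Localization.AtPrime p'.asIdeal)
      (Localization.AtPrime q'.asIdeal) := by
    refine IsScalarTower.of_algebraMap_eq fun a => ?_
    rw [hR'S, Localization.localRingHom_to_map,
      ← IsScalarTower.algebraMap_apply A₁ B₁ (Localization.AtPrime q'.asIdeal)]
  have hfin : Module.Flat A₁ (Localization.AtPrime q'.asIdeal) :=
    (Module.flat_iff_of_isLocalization (Localization.AtPrime p'.asIdeal)
      p'.asIdeal.primeCompl (Localization.AtPrime q'.asIdeal)).1 hflatR'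
  rw [← IsScalarTower.algebraMap_eq A₁ B₁ (Localization.AtPrime q'.asIdeal)]
  exact RingHom.flat_algebraMap_iff.2 hfin

end Abs41

end Groth.Agent.Lib.H94Rig
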