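import Groth.Agent.Lib.H94Rig5
import Mathlib.RingTheory.Algebraic.Integral
import Mathlib.RingTheory.Jacobson.Ring

/-!
# Rig-closed primes VI: rig-closed primes below, after a completed principal localization

* `exists_pow_smul_isIntegral`: a field of finite type over `A` is "integral over `A[1/f]`" for some
  `f` nonzero in the field (phrased without localizations).
* `isIntegral_of_pow_smul`.
* `exists_unit_and_integral`: choice of `f` for a rig-closed prime `q` of `B`.
* `isRigClosed_comap_map_of_integral`: abstract form of S8840.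
* `psi_algebraMap`: a ring map `ψ : A_{f} → B_{f}` compatible with `A_f → B_f` is `A`-linear.
-/

set_option autoImplicit false
universe u

namespace Groth.Agent.Lib.H94Rig

section L1

/-- A field of finite type over a ring `A` becomes integral after inverting one element of `A`
which is nonzero in the field. -/
theorem exists_pow_smul_isIntegral (A : Type*) (κ : Type*) [CommRing A] [Field κ] [Algebra A κ]
    [Algebra.FiniteType A κ] :
    ∃ f : A, algebraMap A κ f ≠ 0 ∧ ∀ x : κ, ∃ N : ℕ, IsIntegral A (f ^ N • x) := by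
  classical
  let D := A ⧸ RingHom.ker (algebraMap A κ)
  have hprime : (RingHom.ker (algebraMap A κ)).IsPrime := RingHom.ker_isPrime _
  let _ : Algebra D κ := (RingHom.kerLift (algebraMap A κ)).toAlgebra
  have hDκ : ∀ a : A, algebraMap D κ (Ideal.Quotient.mk _ a) = algebraMap A κ a := fun a => rfl
  have hinj : Function.Injective (algebraMap D κ) := RingHom.kerLift_injective _
  have htow : IsScalarTower A D κ := IsScalarTower.of_algebraMap_eq fun a => (hDκ a).symm
  let K := FractionRing D
  let _ : Algebra K κ := (IsFractionRing.lift hinj).toAlgebra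
  have htow2 : IsScalarTower D K κ :=
    IsScalarTower.of_algebraMap_eq fun x => (IsFractionRing.lift_algebraMap hinj x).symm
  have htow3 : IsScalarTower A K κ := by
    refine IsScalarTower.of_algebraMap_eq fun a => ?_
    rw [IsScalarTower.algebraMap_apply A D K, ← IsScalarTower.algebraMap_apply D K κ,
      ← IsScalarTower.algebraMap_apply A D κ]
  have hft : Algebra.FiniteType K κ := Algebra.FiniteType.of_restrictScalars_finiteType A K κ
  have hfin : Module.Finite K κ := finite_of_finite_type_of_isJacobsonRing K κ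
  have halg1 : Algebra.IsAlgebraic K κ := Algebra.IsAlgebraic.of_finite K κ
  have halg2 : Algebra.IsAlgebraic D K := IsLocalization.isAlgebraic K (nonZeroDivisors D)
  have halg : Algebra.IsAlgebraic D κ := Algebra.IsAlgebraic.trans D K κ
  obtain ⟨s, hs⟩ := (Algebra.FiniteType.out : (⊤ : Subalgebra A κ).FG)
  obtain ⟨y, hy0, hy⟩ := Algebra.IsAlgebraic.exists_integral_multiples D s
  obtain ⟨f, rfl⟩ := Ideal.Quotient.mk_surjective y
  have hDint : Algebra.IsIntegral A D := Algebra.isIntegral_of_surjective Ideal.Quotient.mk_surjective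
  have hs' : ∀ z ∈ s, IsIntegral A (f • z) := by
    intro z hz
    have h1 := hy z hz
    have h2 : (Ideal.Quotient.mk (RingHom.ker (algebraMap A κ)) f : D) • z = f • z :=
      algebraMap_smul D f z
    rw [h2] at h1
    exact isIntegral_trans _ h1
  refine ⟨f, ?_, ?_⟩
  · rw [← hDκ]
    exact fun h => hy0 (hinj (by rw [h, map_zero]))
  · intro x
    have hx : x ∈ Algebra.adjoin A (s : Set κ) := by rw [hs]; trivial
    induction hx using Algebra.adjoin_induction with
    | mem z hz => exact ⟨1, by rw [pow_one]; exact hs' z hz⟩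
    | algebraMap a => exact ⟨0, by rw [pow_zero, one_smul]; exact isIntegral_algebraMap⟩
    | add x y _ _ hx hy =>
      obtain ⟨N₁, h₁⟩ := hx
      obtain ⟨N₂, h₂⟩ := hy
      refine ⟨N₁ + N₂, ?_⟩
      have : f ^ (N₁ + N₂) • (x + y) = f ^ N₂ • (f ^ N₁ • x) + f ^ N₁ • (f ^ N₂ • y) := by
        rw [smul_add, smul_smul, smul_smul, ← pow_add, ← pow_add, add_comm N₂ N₁]
      rw [this]
      exact (h₁.smul _).add (h₂.smul _)
    | mul x y _ _ hx hy =>
      obtain ⟨N₁, h₁⟩ := hx
      obtain ⟨N₂, h₂⟩ := hy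
      refine ⟨N₁ + N₂, ?_⟩
      have : f ^ (N₁ + N₂) • (x * y) = (f ^ N₁ • x) * (f ^ N₂ • y) := by
        rw [smul_mul_smul_comm, pow_add]
      rw [this]
      exact h₁.mul h₂

theorem isIntegral_of_pow_smul {A A₁ F : Type*} [CommRing A] [CommRing A₁] [CommRing F]
    [Algebra A A₁] [Algebra A F] [Algebra A₁ F] [IsScalarTower A A₁ F] {f : A}
    (hf : IsUnit (algebraMap A A₁ f)) {x : F} {N : ℕ} (h : IsIntegral A (f ^ N • x)) :
    IsIntegral A₁ x := by
  have h1 : IsIntegral A₁ (f ^ N • x) := h.tower_top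
  obtain ⟨u, hu⟩ := hf
  have h2 : x = ((u⁻¹ : A₁ˣ) : A₁) ^ N • (f ^ N • x) := by
    rw [← algebraMap_smul A₁ (f ^ N) x, map_pow, ← hu, smul_smul, ← mul_pow, Units.inv_mul,
      one_pow, one_smul]
  rw [h2]
  exact h1.smul _

end L1

section Choice

variable {A : Type u} [CommRing A] {I : Ideal A}
variable [IsNoetherianRing A] [IsAdicComplete I A] {B : Type u} [CommRing B] [Algebra A B]
variable [IsNoetherianRing B] [IsAdicComplete (I.map (algebraMap A B)) B]

omit [IsNoetherianRing A] [IsAdicComplete I A] in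
theorem exists_unit_and_integral (hft : Algebra.FiniteType A (B ⧸ I.map (algebraMap A B)))
    {q : PrimeSpectrum B} (hq : IsRigClosed (I.map (algebraMap A B)) q) :
    ∃ f : A, IsUnit (Ideal.Quotient.mk q.asIdeal (algebraMap A B f)) ∧
      ∀ m : Ideal B, m.IsMaximal → q.asIdeal ≤ m → ∀ x : B ⧸ m,
        ∃ N : ℕ, IsIntegral A (f ^ N • x) := by
  have hloc : IsLocalRing (B ⧸ q.asIdeal) := isLocalRing_quotient hq
  set m₀ : Ideal B := (IsLocalRing.maximalIdeal (B ⧸ q.asIdeal)).comap
    (Ideal.Quotient.mk q.asIdeal) with hm₀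
  have hm₀max : m₀.IsMaximal := Ideal.comap_isMaximal_of_surjective _ Ideal.Quotient.mk_surjective
  have hIm : I.map (algebraMap A B) ≤ m₀ :=
    (IsAdicComplete.le_jacobson_bot _).trans (jacobson_bot_le_of_isMaximal m₀)
  let _ : Field (B ⧸ m₀) := Ideal.Quotient.field _
  have hftm : Algebra.FiniteType A (B ⧸ m₀) :=
    Algebra.FiniteType.of_surjective (Ideal.Quotient.factorₐ A hIm)
      (Ideal.Quotient.factor_surjective hIm)
  obtain ⟨f, hf0, hf⟩ := exists_pow_smul_isIntegral A (B ⧸ m₀)
  refine ⟨f, ?_, ?_⟩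
  · rw [← IsLocalRing.notMem_maximalIdeal]
    intro h
    apply hf0
    rw [IsScalarTower.algebraMap_apply A B (B ⧸ m₀), Ideal.Quotient.algebraMap_eq,
      Ideal.Quotient.eq_zero_iff_mem]
    exact h
  · intro m hm hqm
    have hker : RingHom.ker (Ideal.Quotient.mk q.asIdeal) ≤ m := by rwa [Ideal.mk_ker]
    have h1 : (m.map (Ideal.Quotient.mk q.asIdeal)).IsMaximal :=
      Ideal.IsMaximal.map_of_surjective_of_ker_le Ideal.Quotient.mk_surjective hker
    have h2 : m.map (Ideal.Quotient.mk q.asIdeal) = IsLocalRing.maximalIdeal (B ⧸ q.asIdeal) :=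
      IsLocalRing.eq_maximalIdeal h1
    have h3 : m = m₀ := by
      rw [hm₀, ← h2, Ideal.comap_map_of_surjective _ Ideal.Quotient.mk_surjective]
      simpa [← RingHom.ker_eq_comap_bot, Ideal.mk_ker] using hqm
    rw [h3]
    exact hf

end Choice

section Abs40

variable {A : Type u} [CommRing A] {I : Ideal A} [IsNoetherianRing A] [IsAdicComplete I A]
  {B : Type u} [CommRing B] [Algebra A B] [IsNoetherianRing B]
  [IsAdicComplete (I.map (algebraMap A B)) B]
  {A₁ : Type u} [CommRing A₁] [Algebra A A₁] [IsNoetherianRing A₁]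
  [IsAdicComplete (I.map (algebraMap A A₁)) A₁]
  {B₁ : Type u} [CommRing B₁] [Algebra A B₁] [Algebra B B₁] [Algebra A₁ B₁]
  [IsScalarTower A B B₁] [IsScalarTower A A₁ B₁] [IsNoetherianRing B₁]
  [IsAdicComplete (I.map (algebraMap A B₁)) B₁]

omit [IsNoetherianRing A] [IsAdicComplete I A] in
theorem isRigClosed_comap_map_of_integral
    (hft₁ : Algebra.FiniteType A (B₁ ⧸ I.map (algebraMap A B₁)))
    {q : PrimeSpectrum B} (hq : IsRigClosed (I.map (algebraMap A B)) q)
    (hprime : (q.asIdeal.map (algebraMap B B₁)).IsPrime)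
    (hbij : Function.Bijective (Ideal.quotientMap (q.asIdeal.map (algebraMap B B₁))
      (algebraMap B B₁) Ideal.le_comap_map))
    (f : A) (hf : IsUnit (algebraMap A A₁ f))
    (hint : ∀ m : Ideal B, m.IsMaximal → q.asIdeal ≤ m → ∀ x : B ⧸ m,
      ∃ N : ℕ, IsIntegral A (f ^ N • x)) :
    IsRigClosed (I.map (algebraMap A A₁)) (PrimeSpectrum.comap (algebraMap A₁ B₁)
      ⟨q.asIdeal.map (algebraMap B B₁), hprime⟩) := by
  have hIB : I.map (algebraMap A B) ≤ Ideal.jacobson ⊥ := IsAdicComplete.le_jacobson_bot _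
  have hI₁ : I.map (algebraMap A B₁) ≤ Ideal.jacobson ⊥ := IsAdicComplete.le_jacobson_bot _
  -- `q B₁` is rig-closed
  have hq₁ : IsRigClosed (I.map (algebraMap A B₁))
      (⟨q.asIdeal.map (algebraMap B B₁), hprime⟩ : PrimeSpectrum B₁) := by
    apply isRigClosed_of_ringKrullDim_eq_one hI₁
    · change ringKrullDim (B₁ ⧸ q.asIdeal.map (algebraMap B B₁)) = 1
      rw [← ringKrullDim_eq_of_ringEquiv (RingEquiv.ofBijective _ hbij)]
      exact ringKrullDim_quotient_eq_one hIB hq
    · intro h
      apply hq.1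
      rw [Ideal.map_le_iff_le_comap]
      intro a ha
      change algebraMap A B a ∈ q.asIdeal
      rw [← Ideal.Quotient.eq_zero_iff_mem]
      apply hbij.1
      rw [Ideal.quotientMap_mk, map_zero, Ideal.Quotient.eq_zero_iff_mem,
        ← IsScalarTower.algebraMap_apply A B B₁]
      exact h (Ideal.mem_map_of_mem _ ha)
  -- the pair `A₁ → B₁`
  have hKA : (I.map (algebraMap A A₁)).map (algebraMap A₁ B₁) = I.map (algebraMap A B₁) :=
    map_map_tower
  have hcA : IsAdicComplete ((I.map (algebraMap A A₁)).map (algebraMap A₁ B₁)) B₁ := by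
    rw [hKA]; infer_instance
  have hftAB₁ := finiteType_tower (B := A₁) hft₁
  have hq₁' : IsRigClosed ((I.map (algebraMap A A₁)).map (algebraMap A₁ B₁))
      (⟨q.asIdeal.map (algebraMap B B₁), hprime⟩ : PrimeSpectrum B₁) := by
    rw [hKA]; exact hq₁
  refine isRigClosed_comap_of_finite hq₁' (finite_quotient_of_finite_residue hftAB₁ hq₁' ?_)
  intro m₁ hm₁ hqm₁
  change q.asIdeal.map (algebraMap B B₁) ≤ m₁ at hqm₁
  have hsurj : Function.Surjective ((Ideal.Quotient.mk m₁).comp (algebraMap B B₁)) := by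
    intro y
    obtain ⟨b₁, rfl⟩ := Ideal.Quotient.mk_surjective y
    obtain ⟨x, hx⟩ := hbij.2 (Ideal.Quotient.mk _ b₁)
    obtain ⟨b, rfl⟩ := Ideal.Quotient.mk_surjective x
    refine ⟨b, ?_⟩
    rw [Ideal.quotientMap_mk, Ideal.Quotient.eq] at hx
    rw [RingHom.comp_apply, Ideal.Quotient.eq]
    exact hqm₁ hx
  have hker : RingHom.ker ((Ideal.Quotient.mk m₁).comp (algebraMap B B₁)) =
      m₁.comap (algebraMap B B₁) := by
    rw [← RingHom.comap_ker, Ideal.mk_ker]
  let _ : Field (B₁ ⧸ m₁) := Ideal.Quotient.field _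
  have hm : (m₁.comap (algebraMap B B₁)).IsMaximal := by
    rw [← hker]
    exact RingHom.ker_isMaximal_of_surjective _ hsurj
  have hqm : q.asIdeal ≤ m₁.comap (algebraMap B B₁) :=
    Ideal.le_comap_map.trans (Ideal.comap_mono hqm₁)
  let φ : (B ⧸ m₁.comap (algebraMap B B₁)) →ₐ[A] (B₁ ⧸ m₁) :=
    Ideal.quotientMapₐ m₁ (IsScalarTower.toAlgHom A B B₁) le_rfl
  have hφ : Function.Surjective φ := by
    intro y
    obtain ⟨b, hb⟩ := hsurj y
    exact ⟨Ideal.Quotient.mk _ b, hb⟩
  have hint₁ : Algebra.IsIntegral A₁ (B₁ ⧸ m₁) := by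
    refine ⟨fun y => ?_⟩
    obtain ⟨x, rfl⟩ := hφ y
    obtain ⟨N, hN⟩ := hint _ hm hqm x
    have h1 := hN.map φ
    rw [map_smul] at h1
    exact isIntegral_of_pow_smul hf h1
  have hIm : (I.map (algebraMap A A₁)).map (algebraMap A₁ B₁) ≤ m₁ :=
    (IsAdicComplete.le_jacobson_bot _).trans (jacobson_bot_le_of_isMaximal m₁)
  have hftm : Algebra.FiniteType A₁ (B₁ ⧸ m₁) :=
    Algebra.FiniteType.of_surjective (Ideal.Quotient.factorₐ A₁ hIm)
      (Ideal.Quotient.factor_surjective hIm)
  exact Algebra.IsIntegral.finite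

end Abs40

section Psi

variable {A : Type u} [CommRing A] (I : Ideal A) {B : Type u} [CommRing B] [Algebra A B] (f : A)

theorem psi_algebraMap
    (ψ : CAway I f →+* CAway (I.map (algebraMap A B)) (algebraMap A B f))
    (hψ : ψ.comp (algebraMap (Localization.Away f) (CAway I f)) =
      (algebraMap (Localization.Away (algebraMap A B f))
        (CAway (I.map (algebraMap A B)) (algebraMap A B f))).comp
        (Localization.awayMap (algebraMap A B) f)) (a : A) :
    ψ (algebraMap A (CAway I f) a) =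
      algebraMap A (CAway (I.map (algebraMap A B)) (algebraMap A B f)) a := by
  have h1 := congrArg (fun φ => φ (algebraMap A (Localization.Away f) a)) hψ
  simp only [RingHom.comp_apply] at h1
  rw [← IsScalarTower.algebraMap_apply A (Localization.Away f)] at h1
  rw [h1, Localization.awayMap, IsLocalization.Away.map, IsLocalization.map_eq,
    ← IsScalarTower.algebraMap_apply B, ← IsScalarTower.algebraMap_apply A B]

end Psi

end Groth.Agent.Lib.H94Rig
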