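import Groth.Agent.Lib.H94Rig6

/-!
# Rig-closed primes VII: composition of rig-flat maps, uniqueness of completed maps

* `flat_comp_of_rigFlat`: abstract composition of rig-flat maps.
* `evalₐ_of_compat`, `compat_unique`: a ring map of adic completions compatible with a map of the
  uncompleted rings is unique; `complMap_compat`.
* `cAwayMap I B f : A_{f} → B_{f}`: the canonical map of completed principal localizations,
  `cAwayMap_compat`.
-/

set_option autoImplicit false
universe u

namespace Groth.Agent.Lib.H94Rig

open Groth.Agent.Lib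

section AbsComp

variable {A₁ B₁ C₁ : Type u} [CommRing A₁] [CommRing B₁] [CommRing C₁] [Algebra A₁ B₁]
  [Algebra B₁ C₁] [Algebra A₁ C₁] [IsScalarTower A₁ B₁ C₁] [IsNoetherianRing B₁]

theorem flat_comp_of_rigFlat (J_B : Ideal B₁) (J_C : Ideal C₁)
    (hJ : J_C ≤ J_B.map (algebraMap B₁ C₁))
    (hAB : ∀ q : PrimeSpectrum B₁, IsRigClosed J_B q →
      ((algebraMap B₁ (Localization.AtPrime q.asIdeal)).comp (algebraMap A₁ B₁)).Flat)
    (hBC : ∀ r : PrimeSpectrum C₁, IsRigClosed J_C r →
      ((algebraMap C₁ (Localization.AtPrime r.asIdeal)).comp (algebraMap B₁ C₁)).Flat)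
    (r : PrimeSpectrum C₁) (hr : IsRigClosed J_C r) :
    ((algebraMap C₁ (Localization.AtPrime r.asIdeal)).comp (algebraMap A₁ C₁)).Flat := by
  -- the prime of `B₁` below `r` and a rig-closed prime above it
  have h0 : ¬ J_B ≤ (PrimeSpectrum.comap (algebraMap B₁ C₁) r).asIdeal := by
    intro h
    apply hr.1
    refine hJ.trans ?_
    rw [Ideal.map_le_iff_le_comap]
    exact h
  obtain ⟨q, hq0, hq⟩ := exists_isRigClosed_ge J_B _ h0
  -- algebra structure `(B₁)_q → (C₁)_r`
  have hunits : ∀ y : q.asIdeal.primeCompl,
      IsUnit (algebraMap B₁ (Localization.AtPrime r.asIdeal) y) := by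
    intro y
    rw [IsScalarTower.algebraMap_apply B₁ C₁ (Localization.AtPrime r.asIdeal)]
    refine IsLocalization.map_units (M := r.asIdeal.primeCompl) _ ⟨algebraMap B₁ C₁ y, ?_⟩
    intro hy
    exact y.2 (hq0 hy)
  let algST : Algebra (Localization.AtPrime q.asIdeal) (Localization.AtPrime r.asIdeal) :=
    (IsLocalization.lift hunits).toAlgebra
  have hST : ∀ x, algebraMap (Localization.AtPrime q.asIdeal) (Localization.AtPrime r.asIdeal) x =
      IsLocalization.lift hunits x := fun _ => rfl
  have htow1 : IsScalarTower B₁ (Localization.AtPrime q.asIdeal)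
      (Localization.AtPrime r.asIdeal) :=
    IsScalarTower.of_algebraMap_eq fun x => by rw [hST, IsLocalization.lift_eq]
  have htow2 : IsScalarTower A₁ (Localization.AtPrime q.asIdeal)
      (Localization.AtPrime r.asIdeal) := by
    refine IsScalarTower.of_algebraMap_eq fun a => ?_
    rw [IsScalarTower.algebraMap_apply A₁ B₁ (Localization.AtPrime q.asIdeal),
      ← IsScalarTower.algebraMap_apply B₁ (Localization.AtPrime q.asIdeal),
      IsScalarTower.algebraMap_apply A₁ C₁ (Localization.AtPrime r.asIdeal),
      IsScalarTower.algebraMap_apply A₁ B₁ C₁,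
      ← IsScalarTower.algebraMap_apply B₁ C₁ (Localization.AtPrime r.asIdeal)]
  -- flatness
  have h1 := hAB q hq
  rw [← IsScalarTower.algebraMap_eq A₁ B₁ (Localization.AtPrime q.asIdeal)] at h1
  have hflat1 : Module.Flat A₁ (Localization.AtPrime q.asIdeal) := RingHom.flat_algebraMap_iff.1 h1
  have h2 := hBC r hr
  rw [← IsScalarTower.algebraMap_eq B₁ C₁ (Localization.AtPrime r.asIdeal)] at h2
  have hflat2 : Module.Flat B₁ (Localization.AtPrime r.asIdeal) := RingHom.flat_algebraMap_iff.1 h2
  have hflat3 : Module.Flat (Localization.AtPrime q.asIdeal) (Localization.AtPrime r.asIdeal) :=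
    (Module.flat_iff_of_isLocalization (Localization.AtPrime q.asIdeal) q.asIdeal.primeCompl
      (Localization.AtPrime r.asIdeal)).2 hflat2
  have hflat : Module.Flat A₁ (Localization.AtPrime r.asIdeal) :=
    Module.Flat.trans A₁ (Localization.AtPrime q.asIdeal) (Localization.AtPrime r.asIdeal)
  rw [← IsScalarTower.algebraMap_eq A₁ C₁ (Localization.AtPrime r.asIdeal)]
  exact RingHom.flat_algebraMap_iff.2 hflat

end AbsComp

section Uniq

variable {R S : Type u} [CommRing R] [CommRing S] (J : Ideal R) (L : Ideal S) (φ : R →+* S)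

theorem evalₐ_of_compat (h : J.map φ ≤ L) (hJ : J.FG)
    (ψ : AdicCompletion J R →+* AdicCompletion L S)
    (hψ : ψ.comp (algebraMap R (AdicCompletion J R)) = (algebraMap S (AdicCompletion L S)).comp φ)
    (n : ℕ) (x : AdicCompletion J R) (r : R)
    (hr : Ideal.Quotient.mk (J ^ n) r = AdicCompletion.evalₐ J n x) :
    AdicCompletion.evalₐ L n (ψ x) = Ideal.Quotient.mk (L ^ n) (φ r) := by
  have hx : x - algebraMap R (AdicCompletion J R) r ∈
      (J ^ n).map (algebraMap R (AdicCompletion J R)) := by
    rw [← ComplFlat.ker_evalₐ_eq_map J hJ n, RingHom.mem_ker]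
    change AdicCompletion.evalₐ J n (x - algebraMap R (AdicCompletion J R) r) = 0
    rw [map_sub, AdicCompletion.algebraMap_apply]
    simp only [Algebra.algebraMap_self, RingHom.id_apply]
    rw [AdicCompletion.evalₐ_of, hr, sub_self]
  have h2 : ψ (x - algebraMap R (AdicCompletion J R) r) ∈
      (L ^ n).map (algebraMap S (AdicCompletion L S)) := by
    have h3 := Ideal.mem_map_of_mem ψ hx
    rw [Ideal.map_map, hψ, ← Ideal.map_map] at h3
    refine Ideal.map_mono ?_ h3
    rw [Ideal.map_pow]
    exact Ideal.pow_right_mono h n
  have h4 : (L ^ n).map (algebraMap S (AdicCompletion L S)) ≤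
      RingHom.ker (AdicCompletion.evalₐ L n).toRingHom := by
    rw [Ideal.map_le_iff_le_comap]
    intro s hs
    rw [Ideal.mem_comap, RingHom.mem_ker]
    change AdicCompletion.evalₐ L n (algebraMap S (AdicCompletion L S) s) = 0
    rw [AdicCompletion.algebraMap_apply]
    simp only [Algebra.algebraMap_self, RingHom.id_apply]
    rw [AdicCompletion.evalₐ_of, Ideal.Quotient.eq_zero_iff_mem]
    exact hs
  have h5 : AdicCompletion.evalₐ L n (ψ (x - algebraMap R (AdicCompletion J R) r)) = 0 := h4 h2
  have h6 : ψ (algebraMap R (AdicCompletion J R) r) = algebraMap S (AdicCompletion L S) (φ r) :=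
    congrArg (fun χ => χ r) hψ
  rw [map_sub, map_sub, sub_eq_zero, h6] at h5
  rw [h5, AdicCompletion.algebraMap_apply]
  simp only [Algebra.algebraMap_self, RingHom.id_apply]
  rw [AdicCompletion.evalₐ_of]

/-- A ring map between adic completions compatible with a given map of the uncompleted rings is
unique. -/
theorem compat_unique (h : J.map φ ≤ L) (hJ : J.FG)
    (ψ₁ ψ₂ : AdicCompletion J R →+* AdicCompletion L S)
    (h₁ : ψ₁.comp (algebraMap R (AdicCompletion J R)) =
      (algebraMap S (AdicCompletion L S)).comp φ)
    (h₂ : ψ₂.comp (algebraMap R (AdicCompletion J R)) =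
      (algebraMap S (AdicCompletion L S)).comp φ) : ψ₁ = ψ₂ := by
  refine RingHom.ext fun x => ?_
  refine AdicCompletion.ext_evalₐ fun n => ?_
  obtain ⟨r, hr⟩ := Ideal.Quotient.mk_surjective (AdicCompletion.evalₐ J n x)
  rw [evalₐ_of_compat J L φ h hJ ψ₁ h₁ n x r hr, evalₐ_of_compat J L φ h hJ ψ₂ h₂ n x r hr]

theorem complMap_compat (h : J.map φ ≤ L) :
    (FSch.complMap J L φ h).comp (algebraMap R (AdicCompletion J R)) =
      (algebraMap S (AdicCompletion L S)).comp φ := by
  refine RingHom.ext fun r => ?_
  exact ComplMap.complMap_algebraMap J L φ h r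

end Uniq

section AwayCompat

variable {A : Type u} [CommRing A] (I : Ideal A) (B : Type u) [CommRing B] [Algebra A B] (f : A)

theorem awayMap_comp_algebraMap :
    (Localization.awayMap (algebraMap A B) f).comp (algebraMap A (Localization.Away f)) =
      (algebraMap B (Localization.Away (algebraMap A B f))).comp (algebraMap A B) := by
  refine RingHom.ext fun a => ?_
  rw [RingHom.comp_apply, Localization.awayMap, IsLocalization.Away.map, IsLocalization.map_eq,
    RingHom.comp_apply]

theorem map_awayMap_eq :
    (I.map (algebraMap A (Localization.Away f))).map (Localization.awayMap (algebraMap A B) f) =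
      (I.map (algebraMap A B)).map (algebraMap B (Localization.Away (algebraMap A B f))) := by
  rw [Ideal.map_map, awayMap_comp_algebraMap, ← Ideal.map_map]

/-- The canonical map `A_{f} → B_{f}` of completed principal localizations. -/
noncomputable def cAwayMap : CAway I f →+* CAway (I.map (algebraMap A B)) (algebraMap A B f) :=
  FSch.complMap _ _ (Localization.awayMap (algebraMap A B) f) (map_awayMap_eq I B f).le

theorem cAwayMap_compat :
    (cAwayMap I B f).comp (algebraMap (Localization.Away f) (CAway I f)) =
      (algebraMap (Localization.Away (algebraMap A B f))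
        (CAway (I.map (algebraMap A B)) (algebraMap A B f))).comp
        (Localization.awayMap (algebraMap A B) f) :=
  complMap_compat _ _ _ _

theorem map_cAwayMap :
    ((I.map (algebraMap A (Localization.Away f))).map
        (algebraMap (Localization.Away f) (CAway I f))).map (cAwayMap I B f) =
      ((I.map (algebraMap A B)).map (algebraMap B (Localization.Away (algebraMap A B f)))).map
        (algebraMap (Localization.Away (algebraMap A B f))
          (CAway (I.map (algebraMap A B)) (algebraMap A B f))) := by
  have e1 : Ideal.map (cAwayMap I B f) (Ideal.map (algebraMap (Localization.Away f) (CAway I f))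
      (I.map (algebraMap A (Localization.Away f)))) =
      Ideal.map ((cAwayMap I B f).comp (algebraMap (Localization.Away f) (CAway I f)))
        (I.map (algebraMap A (Localization.Away f))) := Ideal.map_map _ _
  rw [cAwayMap_compat] at e1
  have e2 : Ideal.map ((algebraMap (Localization.Away (algebraMap A B f))
        (CAway (I.map (algebraMap A B)) (algebraMap A B f))).comp
        (Localization.awayMap (algebraMap A B) f)) (I.map (algebraMap A (Localization.Away f))) =
      Ideal.map (algebraMap (Localization.Away (algebraMap A B f))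
        (CAway (I.map (algebraMap A B)) (algebraMap A B f)))
        (Ideal.map (Localization.awayMap (algebraMap A B) f)
          (I.map (algebraMap A (Localization.Away f)))) := (Ideal.map_map _ _).symm
  rw [map_awayMap_eq] at e2
  exact e1.trans e2

end AwayCompat

end Groth.Agent.Lib.H94Rig
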