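import Groth.Agent.Lib.H94Rig7
import Mathlib.RingTheory.AdicCompletion.AsTensorProduct
import Mathlib.RingTheory.Flat.FaithfullyFlat.Algebra
import Mathlib.RingTheory.Spectrum.Prime.Topology

/-!
# Rig-closed primes VIII: flatness of completed maps, descent of rig-flatness

* `compatibleSMul_quotient`, `flat_quotient_tensor`, `surjective_algebraMap_quotient`: due to
  helper33 (`Lib/FlatCompl33`), copied to keep imports light.
* `flat_of_compat`: `φ : R → S` flat map of Noetherian rings, `J φ ≤ L` ⇒ any ring map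
  `R̂_J → Ŝ_L` compatible with `φ` is flat (Stacks 0AGW).
* `exists_prime_comap_eq_of_compat`: lifting primes containing `J R̂` along a completed map.
* `rigFlat_descent`: abstract descent of rig-flatness.
* `exists_prime_away_lift`: lifting primes along `B_g → B'_{c'}` for `B → B'` faithfully flat.
-/

set_option autoImplicit false
universe u

namespace Groth.Agent.Lib.H94Rig

open Groth.Agent.Lib TensorProduct

section Compat33

/-! The next three lemmas are due to helper33 (`Lib/FlatCompl33`), copied here to keep imports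
light. -/

variable {A R' : Type*} [CommRing A] [CommRing R'] [Algebra A R'] (J : Ideal A) (J' : Ideal R')

theorem compatibleSMul_quotient (hJ : J' = J.map (algebraMap A R'))
    (hsurj : Function.Surjective (algebraMap A (R' ⧸ J')))
    (M : Type*) [AddCommGroup M] [Module A M] [Module R' M] [IsScalarTower A R' M] :
    TensorProduct.CompatibleSMul A R' (R' ⧸ J') M := by
  constructor
  intro r' s' m
  have hkill : ∀ j' ∈ J', ∀ (s' : R' ⧸ J') (m : M), s' ⊗ₜ[A] (j' • m) = 0 := by
    intro j' hj'
    rw [hJ] at hj'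
    refine Submodule.span_induction
      (p := fun j' _ => ∀ (s' : R' ⧸ J') (m : M), s' ⊗ₜ[A] (j' • m) = 0) ?_ ?_ ?_ ?_ hj'
    · rintro _ ⟨j, hj, rfl⟩ s' m
      rw [algebraMap_smul, ← TensorProduct.smul_tmul]
      have : j • s' = 0 := by
        rw [Algebra.smul_def]
        have : algebraMap A (R' ⧸ J') j = 0 := by
          rw [IsScalarTower.algebraMap_apply A R' (R' ⧸ J'), Ideal.Quotient.algebraMap_eq,
            Ideal.Quotient.eq_zero_iff_mem, hJ]
          exact Ideal.mem_map_of_mem _ hj
        rw [this, zero_mul]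
      rw [this, TensorProduct.zero_tmul]
    · intro s' m
      rw [zero_smul, TensorProduct.tmul_zero]
    · intro x y _ _ hx hy s' m
      rw [add_smul, TensorProduct.tmul_add, hx, hy, add_zero]
    · intro a x _ hx s' m
      rw [smul_eq_mul, mul_comm, mul_smul]
      exact hx s' (a • m)
  obtain ⟨a, ha⟩ := hsurj (Ideal.Quotient.mk J' r')
  have ha' : Ideal.Quotient.mk J' (algebraMap A R' a) = Ideal.Quotient.mk J' r' := by
    rw [← ha, IsScalarTower.algebraMap_apply A R' (R' ⧸ J'), Ideal.Quotient.algebraMap_eq]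
  have h1 : r' - algebraMap A R' a ∈ J' := by
    rw [← Ideal.Quotient.eq, ha']
  have h2 : r' • s' = a • s' := by
    rw [Algebra.smul_def r', Algebra.smul_def a, Ideal.Quotient.algebraMap_eq, ← ha',
      IsScalarTower.algebraMap_apply A R' (R' ⧸ J'), Ideal.Quotient.algebraMap_eq]
  rw [h2, TensorProduct.smul_tmul]
  have h3 : r' • m = a • m + (r' - algebraMap A R' a) • m := by
    rw [sub_smul, algebraMap_smul]
    abel
  rw [h3, TensorProduct.tmul_add, hkill _ h1, add_zero]

/-- If `A → R'/J'` is surjective with `J' = J R'`, and `M` is an `R'`-module flat over `A`, then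
`(R'/J') ⊗[R'] M` is flat over `R'/J'`. -/
theorem flat_quotient_tensor (hJ : J' = J.map (algebraMap A R'))
    (hsurj : Function.Surjective (algebraMap A (R' ⧸ J')))
    (M : Type*) [AddCommGroup M] [Module A M] [Module R' M] [IsScalarTower A R' M]
    [Module.Flat A M] : Module.Flat (R' ⧸ J') ((R' ⧸ J') ⊗[R'] M) := by
  have hc : TensorProduct.CompatibleSMul A R' (R' ⧸ J') M :=
    compatibleSMul_quotient J J' hJ hsurj M
  let e : (R' ⧸ J') ⊗[R'] M ≃ₗ[R' ⧸ J'] (R' ⧸ J') ⊗[A] M :=
    TensorProduct.equivOfCompatibleSMul A R' (R' ⧸ J') (R' ⧸ J') M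
  exact Module.Flat.of_linearEquiv e

end Compat33

section Surj33

variable {A : Type u} [CommRing A] [IsNoetherianRing A] (I : Ideal A)

/-- `A → Â/(IÂ)ⁿ` is surjective. -/
theorem surjective_algebraMap_quotient (n : ℕ) :
    Function.Surjective (algebraMap A (AdicCompletion I A ⧸
      (I.map (algebraMap A (AdicCompletion I A))) ^ n)) := by
  intro y
  obtain ⟨x, rfl⟩ := Ideal.Quotient.mk_surjective y
  obtain ⟨a, ha⟩ := Ideal.Quotient.mk_surjective (AdicCompletion.evalₐ I n x)
  refine ⟨a, ?_⟩
  rw [IsScalarTower.algebraMap_apply A (AdicCompletion I A)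
    (AdicCompletion I A ⧸ (I.map (algebraMap A (AdicCompletion I A))) ^ n),
    Ideal.Quotient.algebraMap_eq, Ideal.Quotient.eq, ← Ideal.map_pow,
    ← ComplFlat.ker_evalₐ_eq_map I (IsNoetherian.noetherian I) n, RingHom.mem_ker]
  change AdicCompletion.evalₐ I n (algebraMap A (AdicCompletion I A) a - x) = 0
  rw [map_sub, AdicCompletion.algebraMap_apply]
  simp only [Algebra.algebraMap_self, RingHom.id_apply]
  rw [AdicCompletion.evalₐ_of, ha, sub_self]

end Surj33

section FlatCompat

variable {R S : Type u} [CommRing R] [CommRing S] [IsNoetherianRing R] [IsNoetherianRing S]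
  (J : Ideal R) (L : Ideal S) (φ : R →+* S)

/-- **Completion of a flat map of Noetherian rings is flat** (Stacks 0AGW), for any ring map of
completions compatible with the given map. -/
theorem flat_of_compat (hφ : φ.Flat) (h : J.map φ ≤ L)
    (ψ : AdicCompletion J R →+* AdicCompletion L S)
    (hψ : ψ.comp (algebraMap R (AdicCompletion J R)) =
      (algebraMap S (AdicCompletion L S)).comp φ) : ψ.Flat := by
  unfold RingHom.Flat
  let _ : Algebra R S := φ.toAlgebra
  let _ : Algebra (AdicCompletion J R) (AdicCompletion L S) := ψ.toAlgebra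
  have halg : ∀ x, algebraMap (AdicCompletion J R) (AdicCompletion L S) x = ψ x := fun _ => rfl
  have htower : IsScalarTower R (AdicCompletion J R) (AdicCompletion L S) := by
    refine IsScalarTower.of_algebraMap_eq fun a => ?_
    rw [halg]
    exact (congrArg (fun χ => χ a) hψ).symm
  have hRS : Module.Flat R S := hφ
  have hflB : Module.Flat S (AdicCompletion L S) := AdicCompletion.flat_of_isNoetherian L
  have hflA : Module.Flat R (AdicCompletion L S) := Module.Flat.trans R S (AdicCompletion L S)
  have hcompl : IsAdicComplete (L.map (algebraMap S (AdicCompletion L S))) (AdicCompletion L S) :=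
    AdicCompletion.isAdicComplete_self L (IsNoetherian.noetherian L)
  have hNS : IsNoetherianRing (AdicCompletion L S) :=
    AdicNoeth.isNoetherianRing_adicCompletion L
  have hNR : IsNoetherianRing (AdicCompletion J R) :=
    AdicNoeth.isNoetherianRing_adicCompletion J
  have hI : ((J.map (algebraMap R (AdicCompletion J R))).map
      (algebraMap (AdicCompletion J R) (AdicCompletion L S))) ≤ Ideal.jacobson ⊥ := by
    refine le_trans ?_ (IsAdicComplete.le_jacobson_bot (L.map (algebraMap S (AdicCompletion L S))))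
    rw [Ideal.map_map]
    change Ideal.map (ψ.comp _) J ≤ _
    rw [hψ, ← Ideal.map_map]
    exact Ideal.map_mono h
  refine FlatCrit.flat_of_flat_quotient_pow (J.map (algebraMap R (AdicCompletion J R))) ?_ ?_
  · intro 𝔞 x hx
    exact FlatCrit.eq_zero_of_forall_mem_pow_smul_top (S := AdicCompletion L S)
      (M := AdicCompletion L S) _ hI x hx
  · intro n _
    exact flat_quotient_tensor (A := R) (J ^ n) _ (Ideal.map_pow _ _ _).symm
      (surjective_algebraMap_quotient J n) (AdicCompletion L S)

end FlatCompat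

section SurjSpec

variable {R S : Type u} [CommRing R] [CommRing S] [IsNoetherianRing R] (J : Ideal R) (L : Ideal S)
  (φ : R →+* S)

theorem exists_prime_comap_eq_of_compat (h : J.map φ ≤ L)
    (ψ : AdicCompletion J R →+* AdicCompletion L S)
    (hψ : ψ.comp (algebraMap R (AdicCompletion J R)) =
      (algebraMap S (AdicCompletion L S)).comp φ)
    (hsurj : ∀ n : Ideal R, n.IsPrime → J ≤ n →
      ∃ Q : Ideal S, Q.IsPrime ∧ L ≤ Q ∧ Q.comap φ = n)
    (m : Ideal (AdicCompletion J R)) (hm : m.IsPrime)
    (hJm : J.map (algebraMap R (AdicCompletion J R)) ≤ m) :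
    ∃ Q : Ideal (AdicCompletion L S), Q.IsPrime ∧ Q.comap ψ = m := by
  have hJ : J.FG := IsNoetherian.noetherian J
  have hn : (m.comap (algebraMap R (AdicCompletion J R))).IsPrime := Ideal.comap_isPrime _ _
  obtain ⟨𝔔, h𝔔, hL𝔔, h𝔔n⟩ := hsurj _ hn (Ideal.map_le_iff_le_comap.1 hJm)
  have hL1 : L ^ 1 ≤ 𝔔 := by rwa [pow_one]
  have hker : RingHom.ker (Ideal.Quotient.mk (L ^ 1)) ≤ 𝔔 := by rwa [Ideal.mk_ker]
  have hP : (𝔔.map (Ideal.Quotient.mk (L ^ 1))).IsPrime :=
    Ideal.map_isPrime_of_surjective Ideal.Quotient.mk_surjective hker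
  refine ⟨(𝔔.map (Ideal.Quotient.mk (L ^ 1))).comap (AdicCompletion.evalₐ L 1).toRingHom,
    Ideal.comap_isPrime _ _, ?_⟩
  ext x
  obtain ⟨r, hr⟩ := Ideal.Quotient.mk_surjective (AdicCompletion.evalₐ J 1 x)
  have h1 := evalₐ_of_compat J L φ h hJ ψ hψ 1 x r hr
  have hx : x - algebraMap R (AdicCompletion J R) r ∈ m := by
    apply hJm
    have : x - algebraMap R (AdicCompletion J R) r ∈
        (J ^ 1).map (algebraMap R (AdicCompletion J R)) := by
      rw [← ComplFlat.ker_evalₐ_eq_map J hJ 1, RingHom.mem_ker]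
      change AdicCompletion.evalₐ J 1 (x - algebraMap R (AdicCompletion J R) r) = 0
      rw [map_sub, AdicCompletion.algebraMap_apply]
      simp only [Algebra.algebraMap_self, RingHom.id_apply]
      rw [AdicCompletion.evalₐ_of, hr, sub_self]
    rwa [pow_one] at this
  rw [Ideal.mem_comap, Ideal.mem_comap]
  change AdicCompletion.evalₐ L 1 (ψ x) ∈ _ ↔ _
  rw [h1, Ideal.mem_quotient_iff_mem hL1, ← Ideal.mem_comap, h𝔔n, Ideal.mem_comap]
  constructor
  · intro hr'
    have := m.add_mem hx hr'
    rwa [sub_add_cancel] at this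
  · intro hx'
    have := m.sub_mem hx' hx
    rwa [sub_sub_cancel] at this

end SurjSpec

section AbsDescent

variable {A₁ : Type u} [CommRing A₁] {J : Ideal A₁}
  {B₁ : Type u} [CommRing B₁] [Algebra A₁ B₁] [IsNoetherianRing B₁]
  [IsAdicComplete (J.map (algebraMap A₁ B₁)) B₁]
  {A₁' : Type u} [CommRing A₁'] [Algebra A₁ A₁']
  {B₁' : Type u} [CommRing B₁'] [Algebra A₁ B₁'] [Algebra B₁ B₁'] [Algebra A₁' B₁']
  [IsScalarTower A₁ B₁ B₁'] [IsScalarTower A₁ A₁' B₁'] [IsNoetherianRing B₁']
  [IsAdicComplete (J.map (algebraMap A₁ B₁')) B₁']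

theorem rigFlat_descent [Module.Flat A₁ A₁'] [Module.Flat B₁ B₁']
    (hsurj : ∀ m : Ideal B₁, m.IsMaximal →
      ∃ Q : Ideal B₁', Q.IsPrime ∧ Q.comap (algebraMap B₁ B₁') = m)
    (hA'B' : ∀ q' : PrimeSpectrum B₁', IsRigClosed (J.map (algebraMap A₁ B₁')) q' →
      ((algebraMap B₁' (Localization.AtPrime q'.asIdeal)).comp (algebraMap A₁' B₁')).Flat)
    (q : PrimeSpectrum B₁) (hq : IsRigClosed (J.map (algebraMap A₁ B₁)) q) :
    ((algebraMap B₁ (Localization.AtPrime q.asIdeal)).comp (algebraMap A₁ B₁)).Flat := by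
  obtain ⟨m, hm, hqm⟩ := Ideal.exists_le_maximal q.asIdeal q.2.ne_top
  obtain ⟨Q, hQ, hQm⟩ := hsurj m hm
  have hK : (J.map (algebraMap A₁ B₁)).map (algebraMap B₁ B₁') = J.map (algebraMap A₁ B₁') :=
    map_map_tower
  have hc : IsAdicComplete ((J.map (algebraMap A₁ B₁)).map (algebraMap B₁ B₁')) B₁' := by
    rw [hK]; infer_instance
  obtain ⟨q', hq', hq'q⟩ := exists_isRigClosed_comap_eq hq ⟨Q, hQ⟩ (by
    change q.asIdeal ≤ Q.comap (algebraMap B₁ B₁')
    rw [hQm]; exact hqm)
  rw [hK] at hq'
  have hqI : q.asIdeal = q'.asIdeal.comap (algebraMap B₁ B₁') := by rw [← hq'q]; rfl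
  -- `A₁ → (B₁')_{q'}` is flat
  have h1 := hA'B' q' hq'
  rw [← IsScalarTower.algebraMap_eq A₁' B₁' (Localization.AtPrime q'.asIdeal)] at h1
  have hflat1 : Module.Flat A₁' (Localization.AtPrime q'.asIdeal) :=
    RingHom.flat_algebraMap_iff.1 h1
  have hflat2 : Module.Flat A₁ (Localization.AtPrime q'.asIdeal) :=
    Module.Flat.trans A₁ A₁' (Localization.AtPrime q'.asIdeal)
  -- `(B₁)_q → (B₁')_{q'}` is faithfully flat
  let algST : Algebra (Localization.AtPrime q.asIdeal) (Localization.AtPrime q'.asIdeal) :=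
    (Localization.localRingHom q.asIdeal q'.asIdeal (algebraMap B₁ B₁') hqI).toAlgebra
  have hST : ∀ x, algebraMap (Localization.AtPrime q.asIdeal) (Localization.AtPrime q'.asIdeal) x =
      Localization.localRingHom q.asIdeal q'.asIdeal (algebraMap B₁ B₁') hqI x := fun _ => rfl
  have hloc : IsLocalHom (algebraMap (Localization.AtPrime q.asIdeal)
      (Localization.AtPrime q'.asIdeal)) :=
    Localization.isLocalHom_localRingHom q.asIdeal q'.asIdeal (algebraMap B₁ B₁') hqI
  have hflat3 : Module.Flat (Localization.AtPrime q.asIdeal) (Localization.AtPrime q'.asIdeal) :=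
    RingHom.Flat.localRingHom (RingHom.flat_algebraMap_iff.2 inferInstance)
      q'.asIdeal q.asIdeal hqI
  have hff : Module.FaithfullyFlat (Localization.AtPrime q.asIdeal)
      (Localization.AtPrime q'.asIdeal) := Module.FaithfullyFlat.of_flat_of_isLocalHom
  have htow : IsScalarTower A₁ (Localization.AtPrime q.asIdeal)
      (Localization.AtPrime q'.asIdeal) := by
    refine IsScalarTower.of_algebraMap_eq fun a => ?_
    rw [hST, IsScalarTower.algebraMap_apply A₁ B₁ (Localization.AtPrime q.asIdeal),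
      Localization.localRingHom_to_map, ← IsScalarTower.algebraMap_apply A₁ B₁ B₁',
      ← IsScalarTower.algebraMap_apply A₁ B₁']
  have hfin : Module.Flat A₁ (Localization.AtPrime q.asIdeal) :=
    FlatCrit.flat_of_faithfullyFlat_of_flat (R := A₁) (Localization.AtPrime q.asIdeal)
      (N := Localization.AtPrime q'.asIdeal)
  rw [← IsScalarTower.algebraMap_eq A₁ B₁ (Localization.AtPrime q.asIdeal)]
  exact RingHom.flat_algebraMap_iff.2 hfin

end AbsDescent

section AwayLift

variable {B B' : Type u} [CommRing B] [CommRing B'] [Algebra B B'] [Module.FaithfullyFlat B B']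
  (g : B) (c' : B')
  (φ : Localization.Away g →+* Localization.Away c')
  (hφ : φ.comp (algebraMap B (Localization.Away g)) =
    (algebraMap B' (Localization.Away c')).comp (algebraMap B B'))

include hφ in
theorem exists_prime_away_lift (hc : algebraMap B B' g = c')
    (n : Ideal (Localization.Away g)) (hn : n.IsPrime) :
    ∃ Q : Ideal (Localization.Away c'), Q.IsPrime ∧ Q.comap φ = n ∧
      ∀ K : Ideal B, K.map (algebraMap B (Localization.Away g)) ≤ n →
        (K.map (algebraMap B B')).map (algebraMap B' (Localization.Away c')) ≤ Q := by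
  have hn₀ : (n.comap (algebraMap B (Localization.Away g))).IsPrime := Ideal.comap_isPrime _ _
  obtain ⟨Q₀, hQ₀⟩ := PrimeSpectrum.comap_surjective_of_faithfullyFlat (A := B) (B := B')
    ⟨_, hn₀⟩
  have hQ₀' : Q₀.asIdeal.comap (algebraMap B B') = n.comap (algebraMap B (Localization.Away g)) :=
    congrArg PrimeSpectrum.asIdeal hQ₀
  have hdisj : Disjoint (Submonoid.powers c' : Set B') (Q₀.asIdeal : Set B') := by
    rw [Set.disjoint_left]
    rintro _ ⟨k, rfl⟩ hk
    have h1 : c' ∈ Q₀.asIdeal := Q₀.2.mem_of_pow_mem k hk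
    have h2 : g ∈ Q₀.asIdeal.comap (algebraMap B B') := by
      rw [Ideal.mem_comap, hc]; exact h1
    rw [hQ₀', Ideal.mem_comap] at h2
    exact hn.ne_top (Ideal.eq_top_of_isUnit_mem _ h2 (IsLocalization.Away.algebraMap_isUnit g))
  have hQprime : (Q₀.asIdeal.map (algebraMap B' (Localization.Away c'))).IsPrime :=
    IsLocalization.isPrime_of_isPrime_disjoint (Submonoid.powers c') _ _ Q₀.2 hdisj
  have hQcomap : (Q₀.asIdeal.map (algebraMap B' (Localization.Away c'))).comap
      (algebraMap B' (Localization.Away c')) = Q₀.asIdeal :=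
    IsLocalization.under_map_of_isPrime_disjoint (Submonoid.powers c') _ Q₀.2 hdisj
  refine ⟨_, hQprime, ?_, ?_⟩
  · have key : (Ideal.comap φ (Q₀.asIdeal.map (algebraMap B' (Localization.Away c')))).comap
        (algebraMap B (Localization.Away g)) = n.comap (algebraMap B (Localization.Away g)) := by
      rw [Ideal.comap_comap, hφ, ← Ideal.comap_comap, hQcomap, hQ₀']
    have h1 := IsLocalization.map_under (Submonoid.powers g) (Localization.Away g) n
    have h2 := IsLocalization.map_under (Submonoid.powers g) (Localization.Away g)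
      (Ideal.comap φ (Q₀.asIdeal.map (algebraMap B' (Localization.Away c'))))
    rw [Ideal.under_def] at h1 h2
    rw [← h1, ← h2, key]
  · intro K hK
    refine Ideal.map_mono ?_
    rw [Ideal.map_le_iff_le_comap, hQ₀', ← Ideal.map_le_iff_le_comap]
    exact hK

end AwayLift

end Groth.Agent.Lib.H94Rig
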