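import Groth.Agent.Lib.H94Rig8

/-!
# Rig-closed primes IX: polynomial ring versus restricted power series at rig-closed primes

For a Noetherian `A`-algebra `R` (`A` Noetherian, `I`-adically complete) and `C` the `I`-adic
completion of `R`:
* `exists_sub_mem_map_pow`: density of `R` in `C`.
* `surjective_mk_comp_algebraMap`: if `C/K` is a finite `A`-module then `R → C/K` is surjective.
* `map_comap_eq_of_finite`: in that case `K = (K ∩ R) C`.
* `exists_sub_mem_pow` (helper14), `localRingHom_bijective_mod_pow`: flat `R → C`, `q = (q ∩ R) C`,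
  `R → C/q` surjective ⇒ `R_{q ∩ R} → C_q` is bijective modulo all powers of the maximal ideals.
-/

set_option autoImplicit false
universe u

namespace Groth.Agent.Lib.H94Rig

open Groth.Agent.Lib IsLocalRing

section Dense

variable {A : Type u} [CommRing A] (I : Ideal A) [IsNoetherianRing A] [IsAdicComplete I A]
  (R : Type u) [CommRing R] [Algebra A R] [IsNoetherianRing R]

omit [IsNoetherianRing A] [IsAdicComplete I A] in
/-- Every element of the completion is congruent to an element of `R` modulo `Iⁿ`. -/
theorem exists_sub_mem_map_pow (n : ℕ) (c : AdicCompletion (I.map (algebraMap A R)) R) :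
    ∃ r : R, c - algebraMap R (AdicCompletion (I.map (algebraMap A R)) R) r ∈
      (I ^ n).map (algebraMap A (AdicCompletion (I.map (algebraMap A R)) R)) := by
  obtain ⟨r, hr⟩ := Ideal.Quotient.mk_surjective
    (AdicCompletion.evalₐ (I.map (algebraMap A R)) n c)
  refine ⟨r, ?_⟩
  have h1 : c - algebraMap R (AdicCompletion (I.map (algebraMap A R)) R) r ∈
      ((I.map (algebraMap A R)) ^ n).map
        (algebraMap R (AdicCompletion (I.map (algebraMap A R)) R)) := by
    rw [← ComplFlat.ker_evalₐ_eq_map _ (IsNoetherian.noetherian _) n, RingHom.mem_ker]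
    change AdicCompletion.evalₐ _ n (c - algebraMap R _ r) = 0
    rw [map_sub, AdicCompletion.algebraMap_apply]
    simp only [Algebra.algebraMap_self, RingHom.id_apply]
    rw [AdicCompletion.evalₐ_of, hr, sub_self]
  rwa [← Ideal.map_pow, map_map_tower] at h1

variable {R}

omit [IsNoetherianRing A] in
/-- If `C/K` is a finite `A`-module then `R → C/K` is surjective (density + Nakayama). -/
theorem surjective_mk_comp_algebraMap (K : Ideal (AdicCompletion (I.map (algebraMap A R)) R))
    [Module.Finite A ((AdicCompletion (I.map (algebraMap A R)) R) ⧸ K)] :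
    Function.Surjective ((Ideal.Quotient.mk K).comp
      (algebraMap R (AdicCompletion (I.map (algebraMap A R)) R))) := by
  let φ : R →ₗ[A] (AdicCompletion (I.map (algebraMap A R)) R) ⧸ K :=
    ((Ideal.Quotient.mkₐ A K).toLinearMap).comp
      (IsScalarTower.toAlgHom A R (AdicCompletion (I.map (algebraMap A R)) R)).toLinearMap
  have hφ : ∀ r, φ r = Ideal.Quotient.mk K (algebraMap R _ r) := fun _ => rfl
  have htop : (⊤ : Submodule A ((AdicCompletion (I.map (algebraMap A R)) R) ⧸ K)) ≤
      LinearMap.range φ := by
    apply Submodule.le_of_le_smul_of_le_jacobson_bot (Module.Finite.fg_top)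
      (IsAdicComplete.le_jacobson_bot I)
    rintro y -
    obtain ⟨c, rfl⟩ := Ideal.Quotient.mk_surjective y
    obtain ⟨r, hr⟩ := exists_sub_mem_map_pow I R 1 c
    rw [pow_one] at hr
    have h2 : Ideal.Quotient.mk K (c - algebraMap R _ r) ∈
        I • (⊤ : Submodule A ((AdicCompletion (I.map (algebraMap A R)) R) ⧸ K)) := by
      rw [Ideal.smul_top_eq_map]
      change _ ∈ I.map (algebraMap A ((AdicCompletion (I.map (algebraMap A R)) R) ⧸ K))
      rw [IsScalarTower.algebraMap_eq A (AdicCompletion (I.map (algebraMap A R)) R)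
        ((AdicCompletion (I.map (algebraMap A R)) R) ⧸ K), ← Ideal.map_map]
      exact Ideal.mem_map_of_mem _ hr
    have h3 : Ideal.Quotient.mk K c = φ r + Ideal.Quotient.mk K (c - algebraMap R _ r) := by
      rw [hφ, ← map_add, add_sub_cancel]
    rw [h3]
    exact Submodule.add_mem_sup ⟨r, rfl⟩ h2
  intro y
  obtain ⟨r, hr⟩ := htop (Submodule.mem_top (x := y))
  exact ⟨r, hr⟩

theorem map_comap_eq_of_finite (K : Ideal (AdicCompletion (I.map (algebraMap A R)) R))
    [Module.Finite A ((AdicCompletion (I.map (algebraMap A R)) R) ⧸ K)] :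
    (K.comap (algebraMap R (AdicCompletion (I.map (algebraMap A R)) R))).map
      (algebraMap R (AdicCompletion (I.map (algebraMap A R)) R)) = K := by
  refine le_antisymm Ideal.map_comap_le fun y hy => ?_
  have hN : IsNoetherianRing (AdicCompletion (I.map (algebraMap A R)) R) :=
    isNoetherianRing_adicCompletion I R
  have hC : IsAdicComplete (I.map (algebraMap A (AdicCompletion (I.map (algebraMap A R)) R)))
      (AdicCompletion (I.map (algebraMap A R)) R) := isAdicComplete_adicCompletion I R
  set Q' : Ideal (AdicCompletion (I.map (algebraMap A R)) R) :=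
    (K.comap (algebraMap R (AdicCompletion (I.map (algebraMap A R)) R))).map
      (algebraMap R (AdicCompletion (I.map (algebraMap A R)) R)) with hQ'
  have hH : IsHausdorff I ((AdicCompletion (I.map (algebraMap A R)) R) ⧸ Q') :=
    isHausdorff_quotient Q'
  rw [← Ideal.Quotient.eq_zero_iff_mem]
  refine hH.haus' _ fun n => ?_
  rw [SModEq.zero]
  -- the `A`-linear map `R → C/K`
  let φ : R →ₗ[A] (AdicCompletion (I.map (algebraMap A R)) R) ⧸ K :=
    ((Ideal.Quotient.mkₐ A K).toLinearMap).comp
      (IsScalarTower.toAlgHom A R (AdicCompletion (I.map (algebraMap A R)) R)).toLinearMap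
  have hφ : ∀ r, φ r = Ideal.Quotient.mk K (algebraMap R _ r) := fun _ => rfl
  have hφsurj : LinearMap.range φ = ⊤ := by
    rw [LinearMap.range_eq_top]
    exact surjective_mk_comp_algebraMap I K
  obtain ⟨r, hr⟩ := exists_sub_mem_map_pow I R n y
  -- `φ r ∈ Iⁿ • ⊤`
  have h1 : φ r ∈ I ^ n • (⊤ : Submodule A ((AdicCompletion (I.map (algebraMap A R)) R) ⧸ K)) := by
    have h2 : φ r = - Ideal.Quotient.mk K (y - algebraMap R _ r) := by
      rw [hφ, map_sub, Ideal.Quotient.eq_zero_iff_mem.2 hy, zero_sub, neg_neg]
    rw [h2]
    refine Submodule.neg_mem _ ?_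
    rw [Ideal.smul_top_eq_map]
    change _ ∈ (I ^ n).map (algebraMap A ((AdicCompletion (I.map (algebraMap A R)) R) ⧸ K))
    rw [IsScalarTower.algebraMap_eq A (AdicCompletion (I.map (algebraMap A R)) R)
      ((AdicCompletion (I.map (algebraMap A R)) R) ⧸ K), ← Ideal.map_map]
    exact Ideal.mem_map_of_mem _ hr
  rw [← Submodule.map_top φ |>.trans hφsurj, ← Submodule.map_smul''] at h1
  obtain ⟨r', hr', hrr'⟩ := h1
  rw [Ideal.smul_top_eq_map] at hr'
  have hr'' : r' ∈ (I ^ n).map (algebraMap A R) := hr'
  have h3 : r - r' ∈ K.comap (algebraMap R (AdicCompletion (I.map (algebraMap A R)) R)) := by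
    rw [Ideal.mem_comap, ← Ideal.Quotient.eq_zero_iff_mem, map_sub, map_sub, ← hφ, ← hφ, hrr',
      sub_self]
  have h4 : Ideal.Quotient.mk Q' y = Ideal.Quotient.mk Q' (y - algebraMap R _ r) +
      Ideal.Quotient.mk Q' (algebraMap R _ r') := by
    rw [← map_add, eq_comm, Ideal.Quotient.eq, hQ']
    have : y - algebraMap R _ r + algebraMap R _ r' - y = - algebraMap R _ (r - r') := by
      rw [map_sub]; ring
    rw [this]
    exact neg_mem (Ideal.mem_map_of_mem _ h3)
  rw [h4, Ideal.smul_top_eq_map]
  change _ ∈ (I ^ n).map (algebraMap A ((AdicCompletion (I.map (algebraMap A R)) R) ⧸ Q'))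
  rw [IsScalarTower.algebraMap_eq A (AdicCompletion (I.map (algebraMap A R)) R)
    ((AdicCompletion (I.map (algebraMap A R)) R) ⧸ Q'), ← Ideal.map_map]
  refine Ideal.add_mem _ (Ideal.mem_map_of_mem _ hr) (Ideal.mem_map_of_mem _ ?_)
  rw [← map_map_tower (I := I ^ n) (B := R)]
  exact Ideal.mem_map_of_mem _ hr''

end Dense

section L1
/-! `exists_sub_mem_pow` is due to helper14 (`Lib/H14AdicLocal`), copied to keep imports light. -/
variable (A B : Type u) [CommRing A] [CommRing B]
  [IsLocalRing A] [IsLocalRing B] [Algebra A B]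

theorem exists_sub_mem_pow
    (hmax : (maximalIdeal A).map (algebraMap A B) = maximalIdeal B)
    (hres : ∀ b : B, ∃ a : A, b - algebraMap A B a ∈ maximalIdeal B) (n : ℕ) :
    ∀ b : B, ∃ a : A, b - algebraMap A B a ∈ maximalIdeal B ^ n := by
  induction n with
  | zero => intro b; exact ⟨0, by simp⟩
  | succ n ih =>
    have key : ∀ y ∈ maximalIdeal B ^ n, ∃ a ∈ maximalIdeal A ^ n,
        y - algebraMap A B a ∈ maximalIdeal B ^ (n + 1) := by
      intro y hy
      rw [← hmax, ← Ideal.map_pow] at hy
      refine Submodule.span_induction (p := fun y _ => ∃ a ∈ maximalIdeal A ^ n,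
        y - algebraMap A B a ∈ maximalIdeal B ^ (n + 1)) ?_ ?_ ?_ ?_ hy
      · rintro _ ⟨x, hx, rfl⟩
        exact ⟨x, hx, by simp⟩
      · exact ⟨0, zero_mem _, by simp⟩
      · rintro y z _ _ ⟨a, ha, hya⟩ ⟨c, hc, hzc⟩
        refine ⟨a + c, add_mem ha hc, ?_⟩
        have : y + z - algebraMap A B (a + c) = (y - algebraMap A B a) + (z - algebraMap A B c) := by
          rw [map_add]; ring
        rw [this]
        exact add_mem hya hzc
      · rintro b y _ ⟨a, ha, hya⟩
        obtain ⟨c, hc⟩ := hres b
        refine ⟨c * a, Ideal.mul_mem_left _ _ ha, ?_⟩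
        have hfa : algebraMap A B a ∈ maximalIdeal B ^ n := by
          rw [← hmax, ← Ideal.map_pow]
          exact Ideal.mem_map_of_mem _ ha
        have : b • y - algebraMap A B (c * a) =
            b * (y - algebraMap A B a) + (b - algebraMap A B c) * algebraMap A B a := by
          rw [map_mul, smul_eq_mul]; ring
        rw [this]
        refine add_mem (Ideal.mul_mem_left _ _ hya) ?_
        rw [pow_succ']
        exact Ideal.mul_mem_mul hc hfa
    intro b
    obtain ⟨a, ha⟩ := ih b
    obtain ⟨c, _, hc⟩ := key _ ha
    refine ⟨a + c, ?_⟩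
    have : b - algebraMap A B (a + c) = (b - algebraMap A B a) - algebraMap A B c := by
      rw [map_add]; ring
    rw [this]
    exact hc

end L1

section LocalBij

variable {R C : Type u} [CommRing R] [CommRing C] [Algebra R C] [Module.Flat R C]

/-- Flat map `R → C`, prime `q` of `C` with `q = (q ∩ R) C` and `R → C/q` surjective: the local
map `R_{q ∩ R} → C_q` is bijective modulo all powers of the maximal ideals. -/
theorem localRingHom_bijective_mod_pow (q : Ideal C) [q.IsPrime]
    (hq : (q.comap (algebraMap R C)).map (algebraMap R C) = q)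
    (hsurj : Function.Surjective ((Ideal.Quotient.mk q).comp (algebraMap R C))) (m : ℕ) :
    (∀ x : Localization.AtPrime (q.comap (algebraMap R C)),
      Localization.localRingHom (q.comap (algebraMap R C)) q (algebraMap R C) rfl x ∈
        maximalIdeal (Localization.AtPrime q) ^ m →
      x ∈ maximalIdeal (Localization.AtPrime (q.comap (algebraMap R C))) ^ m) ∧
    (∀ y : Localization.AtPrime q, ∃ x : Localization.AtPrime (q.comap (algebraMap R C)),
      y - Localization.localRingHom (q.comap (algebraMap R C)) q (algebraMap R C) rfl x ∈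
        maximalIdeal (Localization.AtPrime q) ^ m) := by
  let alg : Algebra (Localization.AtPrime (q.comap (algebraMap R C))) (Localization.AtPrime q) :=
    (Localization.localRingHom (q.comap (algebraMap R C)) q (algebraMap R C) rfl).toAlgebra
  have halg : ∀ x, algebraMap (Localization.AtPrime (q.comap (algebraMap R C)))
      (Localization.AtPrime q) x =
      Localization.localRingHom (q.comap (algebraMap R C)) q (algebraMap R C) rfl x := fun _ => rfl
  have hloc : IsLocalHom (algebraMap (Localization.AtPrime (q.comap (algebraMap R C)))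
      (Localization.AtPrime q)) :=
    Localization.isLocalHom_localRingHom _ q (algebraMap R C) rfl
  have hflat : Module.Flat (Localization.AtPrime (q.comap (algebraMap R C)))
      (Localization.AtPrime q) :=
    RingHom.Flat.localRingHom (RingHom.flat_algebraMap_iff.2 inferInstance) q _ rfl
  have hff : Module.FaithfullyFlat (Localization.AtPrime (q.comap (algebraMap R C)))
      (Localization.AtPrime q) := Module.FaithfullyFlat.of_flat_of_isLocalHom
  have hmax : (maximalIdeal (Localization.AtPrime (q.comap (algebraMap R C)))).map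
      (algebraMap (Localization.AtPrime (q.comap (algebraMap R C))) (Localization.AtPrime q)) =
      maximalIdeal (Localization.AtPrime q) := by
    rw [← IsLocalization.AtPrime.map_eq_maximalIdeal (q.comap (algebraMap R C))
      (Localization.AtPrime (q.comap (algebraMap R C))),
      ← IsLocalization.AtPrime.map_eq_maximalIdeal q (Localization.AtPrime q), Ideal.map_map]
    have : (algebraMap (Localization.AtPrime (q.comap (algebraMap R C)))
        (Localization.AtPrime q)).comp
        (algebraMap R (Localization.AtPrime (q.comap (algebraMap R C)))) =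
        (algebraMap C (Localization.AtPrime q)).comp (algebraMap R C) := by
      refine RingHom.ext fun r => ?_
      rw [RingHom.comp_apply, halg, Localization.localRingHom_to_map, RingHom.comp_apply]
    rw [this, ← Ideal.map_map, hq]
  have hres : ∀ s : Localization.AtPrime q,
      ∃ t : Localization.AtPrime (q.comap (algebraMap R C)),
        s - algebraMap _ (Localization.AtPrime q) t ∈ maximalIdeal (Localization.AtPrime q) := by
    intro s
    obtain ⟨y, ⟨t, ht⟩, rfl⟩ := IsLocalization.exists_mk'_eq q.primeCompl s
    obtain ⟨P, hP⟩ := hsurj (Ideal.Quotient.mk q y)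
    obtain ⟨T, hT⟩ := hsurj (Ideal.Quotient.mk q t)
    rw [RingHom.comp_apply, Ideal.Quotient.eq] at hP hT
    have hTq : T ∈ (q.comap (algebraMap R C)).primeCompl := by
      intro hTmem
      apply ht
      have := q.sub_mem hTmem hT
      rwa [sub_sub_cancel] at this
    refine ⟨IsLocalization.mk' _ P ⟨T, hTq⟩, ?_⟩
    rw [halg, Localization.localRingHom_mk', ← IsLocalization.mk'_sub,
      ← IsLocalization.AtPrime.map_eq_maximalIdeal q (Localization.AtPrime q),
      IsLocalization.mk'_mem_map_algebraMap_iff]
    refine ⟨1, Submonoid.one_mem _, ?_⟩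
    rw [one_mul]
    simp only
    have : y * algebraMap R C T - algebraMap R C P * t =
        y * (algebraMap R C T - t) - t * (algebraMap R C P - y) := by ring
    rw [this]
    exact q.sub_mem (q.mul_mem_left _ hT) (q.mul_mem_left _ hP)
  constructor
  · intro x hx
    rw [← hmax, ← Ideal.map_pow, ← halg, ← Ideal.mem_comap,
      Ideal.comap_map_eq_self_of_faithfullyFlat] at hx
    exact hx
  · intro y
    obtain ⟨x, hx⟩ := exists_sub_mem_pow _ _ hmax hres m y
    exact ⟨x, hx⟩

end LocalBij

end Groth.Agent.Lib.H94Rig
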