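import Groth.Prelude.Def_SchFin2

/-!
# helper94: schematic finite spaces (Def_SchFin): restriction maps are ring epimorphisms
-/

set_option autoImplicit false
universe u

namespace Groth.Agent.Lib.H94SchFin

open SchFin SchFin.RSpace


theorem epi_of_isBCAlong {R S : Type u} [CommRing R] [CommRing S] (g : R →+* S) {M N : Type u}
    [AddCommGroup M] [AddCommGroup N] [Module R M] [Module S N] (f : M →ₛₗ[g] N)
    (hf : IsBCAlong g f) (ev : M →+ S) (hev : ∀ (a : R) (m : M), ev (a • m) = g a * ev m)
    (e : S → M) (he : ∀ b, ev (e b) = b) (hfe : ∀ b, f (e b) = b • f (e 1))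
    {T : Type u} [CommRing T] (g₁ g₂ : S →+* T) (hg : g₁.comp g = g₂.comp g) : g₁ = g₂ := by
  let _ : Algebra R S := g.toAlgebra
  let _ : Module R N := Module.compHom N g
  have : IsScalarTower R S N := IsScalarTower.of_algebraMap_smul fun _ _ => rfl
  let _ : Module S T := Module.compHom T g₁
  let _ : Module R T := Module.compHom T (g₁.comp g)
  have : IsScalarTower R S T := IsScalarTower.of_algebraMap_smul fun _ _ => rfl
  have hbc : IsBaseChange S
      ({ toFun := f, map_add' := f.map_add, map_smul' := f.map_smulₛₗ } : M →ₗ[R] N) := hf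
  let γ : M →ₗ[R] T :=
    { toFun := fun m => g₂ (ev m)
      map_add' := fun a b => by rw [map_add, map_add]
      map_smul' := fun a m => by
        show g₂ (ev (a • m)) = (g₁.comp g) a * g₂ (ev m)
        rw [hev, map_mul, hg]
        rfl }
  ext b
  have h1 : hbc.lift γ (f (e b)) = g₂ b := by
    have := hbc.lift_eq γ (e b)
    rw [show (g₂ b) = γ (e b) from by show g₂ b = g₂ (ev (e b)); rw [he]]
    exact this
  have h2 : hbc.lift γ (f (e 1)) = 1 := by
    have := hbc.lift_eq γ (e 1)
    rw [show (1 : T) = γ (e 1) from by show (1 : T) = g₂ (ev (e 1)); rw [he, map_one]]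
    exact this
  rw [hfe, map_smul, h2] at h1
  rw [← h1]
  show g₁ b = g₁ b * 1
  rw [mul_one]


variable (X : RSpace.{u}) {p q : X.pt} (h : p ≤ q)

/-- the one-point chain at `q` in the wedge -/
def chainQ : Chain ((Hom.id X).wedge p q) 0 :=
  OrderEmbedding.ofMapLEIff (fun _ => ⟨q, h, le_refl q⟩) (by
    intro a b
    have hab : a = b := by
      apply Fin.ext
      have h1 := a.isLt
      have h2 := b.isLt
      omega
    simp [hab])

/-- the constant cochain of an element of the ring of `q` -/
def constCochain (b : X.ring q) :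
    Cochain (Coef.ofLE p ((Hom.id X).wedge p q) ((Hom.id X).wedge_subset_up p q)) X.str 0 :=
  fun σ => X.res (σ (Fin.last 0)).2.2 b

theorem constCochain_mem (b : X.ring q) :
    constCochain X b ∈ cocycles (Coef.ofLE p ((Hom.id X).wedge p q)
      ((Hom.id X).wedge_subset_up p q)) X.str 0 := by
  show diff _ _ 0 (constCochain X b) = 0
  funext τ
  show (∑ j : Fin 2, ((-1 : ℤ) ^ (j : ℕ)) • (constCochain X b).faceVal τ j) = 0
  rw [Fin.sum_univ_two]
  have h0 : (constCochain X b).faceVal τ 0 = X.res (τ (Fin.last 1)).2.2 b :=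
    X.res_comp _ _ b
  have h1 : (constCochain X b).faceVal τ 1 = X.res (τ (Fin.last 1)).2.2 b :=
    X.res_comp _ _ b
  rw [h0, h1]
  simp


/-- In a schematic finite space the restriction maps are epimorphisms of rings. -/
theorem res_epi (X : RSpace.{u}) (hX : X.IsSchematic) {x y : X.pt} (h : x ≤ y)
    {T : Type u} [CommRing T] (g₁ g₂ : X.ring y →+* T) (hg : g₁.comp (X.res h) = g₂.comp (X.res h)) :
    g₁ = g₂ := by
  have hbc := (hX.2.2 0 x y h y y le_rfl).1
  -- the class of the constant cochain
  let e : X.ring y → H (Coef.ofLE x ((Hom.id X).wedge x y) ((Hom.id X).wedge_subset_up x y)) X.str 0 :=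
    fun b => H.mk _ _ 0 ⟨constCochain X b, constCochain_mem X b⟩
  let _ : Module (X.ring x) (X.ring y) := Module.compHom _ (X.res h)
  let ℓ : cocycles (Coef.ofLE x ((Hom.id X).wedge x y) ((Hom.id X).wedge_subset_up x y)) X.str 0
      →ₗ[X.ring x] X.ring y :=
    { toFun := fun c => c.1 (chainQ X h)
      map_add' := fun a b => rfl
      map_smul' := fun a c => rfl }
  let ev : H (Coef.ofLE x ((Hom.id X).wedge x y) ((Hom.id X).wedge_subset_up x y)) X.str 0
      →ₗ[X.ring x] X.ring y :=
    Submodule.liftQ _ ℓ (by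
      intro c hc
      have hc' : c.1 = 0 := hc
      show c.1 (chainQ X h) = 0
      rw [hc']
      rfl)
  refine epi_of_isBCAlong (X.res h) _ hbc ev.toAddMonoidHom (fun a m => ev.map_smul a m) e ?_ ?_
    g₁ g₂ hg
  · intro b
    show X.res _ b = b
    exact X.res_self y b
  · intro b
    show H.mk (Coef.ofLE y ((Hom.id X).wedge y y) ((Hom.id X).wedge_subset_up y y)) X.str 0 _ =
      b • H.mk (Coef.ofLE y ((Hom.id X).wedge y y) ((Hom.id X).wedge_subset_up y y)) X.str 0 _
    rw [← LinearMap.map_smul]
    congr 1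
    apply Subtype.ext
    funext σ
    show X.res _ b = X.res _ b * X.res _ 1
    rw [map_one]
    exact (mul_one _).symm


end Groth.Agent.Lib.H94SchFin
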