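import Groth.Agent.Lib.H94SchFinLoc

/-!
# helper94: degree-zero cohomology of the standard complex = sections; the ring of sections over
`up x ∩ up y` of a schematic finite space is the pushout of the rings of `x` and `y` over a common
point below (`exists_lift`).
-/

set_option autoImplicit false
universe u

namespace Groth.Agent.Lib.H94SchFin

open SchFin SchFin.RSpace TensorProduct

section H0

variable {X : RSpace.{u}} {U : Set X.pt} {R : Type u} [CommRing R] (φ : Coef X U R) (M : OMod X)

/-- the one-point chain -/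
def chain1 (q : U) : Chain U 0 :=
  OrderEmbedding.ofMapLEIff (fun _ => q) (by
    intro a b
    have hab : a = b := by
      apply Fin.ext
      have h1 := a.isLt
      have h2 := b.isLt
      omega
    simp [hab])

/-- the two-point chain -/
def chain2 (q q' : U) (h : q < q') : Chain U 1 :=
  OrderEmbedding.ofStrictMono (fun i : Fin 2 => if i = 0 then q else q') (by
    intro a b hab
    fin_cases a <;> fin_cases b <;> simp_all)

theorem chain_eq_chain1 (σ : Chain U 0) : σ = chain1 (σ (Fin.last 0)) := by
  apply RelEmbedding.ext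
  intro i
  have : i = Fin.last 0 := by
    apply Fin.ext
    have h1 := i.isLt
    simp only [Fin.val_last]
    omega
  rw [this]
  rfl

theorem face_eq_chain1 (τ : Chain U 1) (j : Fin 2) :
    τ.face j = chain1 (τ (j.succAbove (Fin.last 0))) := by
  rw [chain_eq_chain1 (τ.face j)]
  rfl

/-- sections to `0`-cochains -/
def cochOf (s : (q : U) → M.carrier q.1) : Cochain φ M 0 := fun σ => s (σ (Fin.last 0))

/-- `0`-cochains to sections -/
def secOf (c : Cochain φ M 0) : (q : U) → M.carrier q.1 := fun q => c (chain1 q)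

theorem secOf_cochOf (s : (q : U) → M.carrier q.1) : secOf φ M (cochOf φ M s) = s := rfl

theorem res_cochain_congr (c : Cochain φ M 0) {σ σ' : Chain U 0} (h : σ = σ') {t : X.pt}
    (h1 : (σ (Fin.last 0)).1 ≤ t) (h2 : (σ' (Fin.last 0)).1 ≤ t) :
    M.res h1 (c σ) = M.res h2 (c σ') := by
  subst h
  rfl

theorem cochOf_secOf (c : Cochain φ M 0) : cochOf φ M (secOf φ M c) = c := by
  funext σ
  have h := res_cochain_congr φ M c (chain_eq_chain1 σ).symm (le_refl (σ (Fin.last 0)).1)
    (le_refl (σ (Fin.last 0)).1)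
  exact ((M.res_self _ _).symm.trans h).trans (M.res_self _ _)

theorem diff0_apply (c : Cochain φ M 0) (τ : Chain U 1) :
    diff φ M 0 c τ = c.faceVal τ 0 - c.faceVal τ 1 := by
  show (∑ j : Fin 2, ((-1 : ℤ) ^ (j : ℕ)) • c.faceVal τ j) = _
  rw [Fin.sum_univ_two]
  simp [sub_eq_add_neg]

theorem cochOf_mem_cocycles (s : (q : U) → M.carrier q.1) (hs : s ∈ M.sect U) :
    cochOf φ M s ∈ cocycles φ M 0 := by
  show diff φ M 0 (cochOf φ M s) = 0
  funext τ
  rw [diff0_apply]
  have h0 : (cochOf φ M s).faceVal τ 0 = s (τ (Fin.last 1)) := hs _ _ _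
  have h1 : (cochOf φ M s).faceVal τ 1 = s (τ (Fin.last 1)) := hs _ _ _
  rw [h0, h1, sub_self]
  rfl

theorem secOf_mem_sect (c : Cochain φ M 0) (hc : c ∈ cocycles φ M 0) :
    secOf φ M c ∈ M.sect U := by
  intro q q' h
  rcases eq_or_lt_of_le h with e | hlt
  · have e' : q = q' := Subtype.ext e
    subst e'
    exact M.res_self _ _
  · have hlt' : q < q' := hlt
    have hd : diff φ M 0 c (chain2 q q' hlt') = 0 := by
      have : diff φ M 0 c = 0 := hc
      rw [this]
      rfl
    rw [diff0_apply, sub_eq_zero] at hd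
    have e0 : c.faceVal (chain2 q q' hlt') 0 = secOf φ M c q' := by
      have := res_cochain_congr φ M c (face_eq_chain1 (chain2 q q' hlt') 0)
        (Chain.face_last_le 0 (chain2 q q' hlt')) (le_refl q'.1)
      exact this.trans (M.res_self _ _)
    have e1 : c.faceVal (chain2 q q' hlt') 1 = M.res h (secOf φ M c q) :=
      res_cochain_congr φ M c (face_eq_chain1 (chain2 q q' hlt') 1)
        (Chain.face_last_le 1 (chain2 q q' hlt')) h
    rw [e0, e1] at hd
    exact hd.symm

theorem H0_mk_bijective : Function.Bijective (H.mk φ M 0) := by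
  constructor
  · refine (injective_iff_map_eq_zero _).2 fun c hc => ?_
    have h1 : c ∈ (cobdry φ M 0).comap (cocycles φ M 0).subtype :=
      (Submodule.Quotient.mk_eq_zero _).1 hc
    have h2 : c.1 = 0 := h1
    exact Subtype.ext h2
  · exact Submodule.mkQ_surjective _

end H0

theorem exists_lift_of_isBCAlong {R A B Γ : Type u} [CommRing R] [CommRing A] [CommRing B]
    [CommRing Γ] (f : R →+* A) (g : R →+* B) (α : A →+* Γ) (β : B →+* Γ)
    (hαβ : α.comp f = β.comp g)
    {M N : Type u} [AddCommGroup M] [AddCommGroup N] [Module R M] [Module A N]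
    (fL : M →ₛₗ[f] N) (hbc : IsBCAlong f fL)
    (eM : B →+ M) (heM : Function.Bijective eM) (heM_smul : ∀ r b, eM (g r * b) = r • eM b)
    (eN : Γ →+ N) (heN : Function.Bijective eN)
    (heN_mul : ∀ a b, eN (α a * β b) = a • fL (eM b))
    {T : Type u} [CommRing T] (ψA : A →+* T) (ψB : B →+* T) (hψ : ψA.comp f = ψB.comp g) :
    ∃ Φ : Γ →+* T, Φ.comp α = ψA ∧ Φ.comp β = ψB := by
  let _ : Algebra R A := f.toAlgebra
  let _ : Algebra R B := g.toAlgebra
  let _ : Algebra R Γ := (α.comp f).toAlgebra
  let _ : Algebra R T := (ψA.comp f).toAlgebra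
  let _ : Module R N := Module.compHom N f
  have : IsScalarTower R A N := IsScalarTower.of_algebraMap_smul fun _ _ => rfl
  have hbc' : IsBaseChange A
      ({ toFun := fL, map_add' := fL.map_add, map_smul' := fL.map_smulₛₗ } : M →ₗ[R] N) := hbc
  let αa : A →ₐ[R] Γ := { α with commutes' := fun r => rfl }
  let βa : B →ₐ[R] Γ := { β with commutes' := fun r => (RingHom.congr_fun hαβ r).symm }
  let ψAa : A →ₐ[R] T := { ψA with commutes' := fun r => rfl }
  let ψBa : B →ₐ[R] T := { ψB with commutes' := fun r => (RingHom.congr_fun hψ r).symm }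
  let eMl : B ≃ₗ[R] M := LinearEquiv.ofBijective
    { toFun := eM, map_add' := eM.map_add, map_smul' := fun r b => heM_smul r b } heM
  have key : ∀ t : A ⊗[R] B, eN (Algebra.TensorProduct.productMap αa βa t) =
      hbc'.equiv (LinearEquiv.lTensor A eMl t) := by
    intro t
    induction t using TensorProduct.induction_on with
    | zero => simp
    | tmul a b =>
      rw [Algebra.TensorProduct.productMap_apply_tmul, LinearEquiv.lTensor_tmul,
        IsBaseChange.equiv_tmul]
      exact heN_mul a b
    | add s t hs ht => rw [map_add, map_add, map_add, map_add, hs, ht]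
  have hbij : Function.Bijective (Algebra.TensorProduct.productMap αa βa) := by
    have h1 : Function.Bijective (fun t => eN (Algebra.TensorProduct.productMap αa βa t)) := by
      have : (fun t => eN (Algebra.TensorProduct.productMap αa βa t)) =
          fun t => hbc'.equiv (LinearEquiv.lTensor A eMl t) := funext key
      rw [this]
      exact hbc'.equiv.bijective.comp (LinearEquiv.lTensor A eMl).bijective
    exact (Function.Bijective.of_comp_iff' heN _).1 h1
  let e : A ⊗[R] B ≃+* Γ :=
    RingEquiv.ofBijective (Algebra.TensorProduct.productMap αa βa : A ⊗[R] B →+* Γ) hbij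
  refine ⟨((Algebra.TensorProduct.productMap ψAa ψBa : A ⊗[R] B →ₐ[R] T) : A ⊗[R] B →+* T).comp
    e.symm.toRingHom, ?_, ?_⟩
  · ext a
    have h1 : e.symm (α a) = a ⊗ₜ[R] (1 : B) := by
      rw [RingEquiv.symm_apply_eq]
      show α a = Algebra.TensorProduct.productMap αa βa (a ⊗ₜ[R] (1 : B))
      rw [Algebra.TensorProduct.productMap_apply_tmul, map_one, mul_one]
      rfl
    show Algebra.TensorProduct.productMap ψAa ψBa (e.symm (α a)) = ψA a
    rw [h1, Algebra.TensorProduct.productMap_apply_tmul, map_one, mul_one]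
    rfl
  · ext b
    have h1 : e.symm (β b) = (1 : A) ⊗ₜ[R] b := by
      rw [RingEquiv.symm_apply_eq]
      show β b = Algebra.TensorProduct.productMap αa βa ((1 : A) ⊗ₜ[R] b)
      rw [Algebra.TensorProduct.productMap_apply_tmul, map_one, one_mul]
      rfl
    show Algebra.TensorProduct.productMap ψAa ψBa (e.symm (β b)) = ψB b
    rw [h1, Algebra.TensorProduct.productMap_apply_tmul, map_one, one_mul]
    rfl


section Pushout

variable (X : RSpace.{u})

/-- the class of the constant cochain, as an additive map -/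
def eM {s y : X.pt} (_hy : s ≤ y) : X.ring y →+
    H (Coef.ofLE s ((Hom.id X).wedge s y) ((Hom.id X).wedge_subset_up s y)) X.str 0 where
  toFun b := H.mk _ _ 0 ⟨constCochain X b, constCochain_mem X b⟩
  map_zero' := by
    rw [← map_zero (H.mk _ _ 0)]
    congr 1
    apply Subtype.ext
    funext σ
    exact map_zero _
  map_add' b b' := by
    rw [← map_add (H.mk _ _ 0)]
    congr 1
    apply Subtype.ext
    funext σ
    exact map_add _ _ _

theorem eM_bijective {s y : X.pt} (hy : s ≤ y) : Function.Bijective (eM X hy) := by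
  constructor
  · refine (injective_iff_map_eq_zero _).2 fun b hb => ?_
    have h1 : (⟨constCochain X b, constCochain_mem X b⟩ :
        cocycles (Coef.ofLE s ((Hom.id X).wedge s y) ((Hom.id X).wedge_subset_up s y)) X.str 0) = 0 :=
      (H0_mk_bijective _ _).1 (hb.trans (map_zero _).symm)
    have h2 : constCochain X (p := s) b = 0 := congrArg Subtype.val h1
    have h3 : constCochain X (p := s) b (chainQ X hy) = 0 := by rw [h2]; rfl
    exact (X.res_self y b).symm.trans h3
  · intro m
    obtain ⟨c, rfl⟩ := (H0_mk_bijective _ _).2 m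
    refine ⟨c.1 (chainQ X hy), ?_⟩
    show H.mk _ _ 0 _ = H.mk _ _ 0 c
    congr 1
    apply Subtype.ext
    funext σ
    have hsec := secOf_mem_sect _ X.str c.1 c.2 ⟨y, hy, le_refl y⟩ (σ (Fin.last 0)) (σ (Fin.last 0)).2.2
    have h4 := congrFun (cochOf_secOf _ X.str c.1) σ
    exact hsec.trans h4

/-- sections over `up x ∩ up y` to degree-zero cohomology over the wedge -/
def eN (x y : X.pt) : X.sectRing (X.up x ∩ X.up y) →+
    H (Coef.ofLE x ((Hom.id X).wedge x y) ((Hom.id X).wedge_subset_up x y)) X.str 0 where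
  toFun γ := H.mk _ _ 0 ⟨cochOf _ X.str γ.1, cochOf_mem_cocycles _ X.str γ.1 γ.2⟩
  map_zero' := by
    rw [← map_zero (H.mk _ _ 0)]
    rfl
  map_add' b b' := by
    rw [← map_add (H.mk _ _ 0)]
    rfl

theorem eN_bijective (x y : X.pt) : Function.Bijective (eN X x y) := by
  constructor
  · refine (injective_iff_map_eq_zero _).2 fun γ hγ => ?_
    have h1 : (⟨cochOf _ X.str γ.1, cochOf_mem_cocycles _ X.str γ.1 γ.2⟩ :
        cocycles (Coef.ofLE x ((Hom.id X).wedge x y) ((Hom.id X).wedge_subset_up x y)) X.str 0) = 0 :=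
      (H0_mk_bijective _ _).1 (hγ.trans (map_zero _).symm)
    have h2 : cochOf (Coef.ofLE x ((Hom.id X).wedge x y) ((Hom.id X).wedge_subset_up x y))
        X.str γ.1 = 0 := congrArg Subtype.val h1
    apply Subtype.ext
    funext q
    exact congrFun h2 (chain1 q)
  · intro m
    obtain ⟨c, rfl⟩ := (H0_mk_bijective _ _).2 m
    refine ⟨⟨secOf _ X.str c.1, secOf_mem_sect _ X.str c.1 c.2⟩, ?_⟩
    show H.mk _ _ 0 _ = H.mk _ _ 0 c
    congr 1
    apply Subtype.ext
    exact cochOf_secOf _ X.str c.1

theorem exists_lift (hX : X.IsSchematic) {s x y : X.pt} (hx : s ≤ x) (hy : s ≤ y)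
    {T : Type u} [CommRing T] (ψA : X.ring x →+* T) (ψB : X.ring y →+* T)
    (hψ : ψA.comp (X.res hx) = ψB.comp (X.res hy)) :
    ∃ Φ : X.sectRing (X.up x ∩ X.up y) →+* T,
      Φ.comp (X.resSect x _ Set.inter_subset_left) = ψA ∧
      Φ.comp (X.resSect y _ Set.inter_subset_right) = ψB := by
  have hbc := (hX.2.2 0 s x hx y y le_rfl).1
  refine exists_lift_of_isBCAlong (X.res hx) (X.res hy) (X.resSect x _ Set.inter_subset_left)
    (X.resSect y _ Set.inter_subset_right) ?_ _ hbc (eM X hy) (eM_bijective X hy) ?_ (eN X x y)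
    (eN_bijective X x y) ?_ ψA ψB hψ
  · ext r q
    exact (X.res_comp _ _ r).trans (X.res_comp _ _ r).symm
  · intro r b
    show H.mk _ _ 0 _ = r • H.mk _ _ 0 _
    rw [← LinearMap.map_smul]
    congr 1
    apply Subtype.ext
    funext σ
    show X.res _ (X.res hy r * b) = X.res _ r * X.res _ b
    rw [map_mul, X.res_comp]
    rfl
  · intro a b
    show H.mk _ _ 0 _ = a • H.mk _ _ 0 _
    rw [← LinearMap.map_smul]
    congr 1

end Pushout

end Groth.Agent.Lib.H94SchFin
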