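import Groth.Agent.Lib.H94SchFin
import Mathlib.Algebra.Category.Ring.Epi
import Mathlib.RingTheory.Flat.FaithfullyFlat.Descent
import Mathlib.RingTheory.Flat.Localization
import Mathlib.RingTheory.Flat.FaithfullyFlat.Algebra

/-!
# helper94: flat epimorphisms of rings are local isomorphisms; application to schematic finite spaces
-/

set_option autoImplicit false
universe u

namespace Groth.Agent.Lib.H94SchFin


open TensorProduct CategoryTheory

theorem bijective_of_faithfullyFlat_isEpi (R S : Type u) [CommRing R] [CommRing S] [Algebra R S]
    [Module.FaithfullyFlat R S] [Algebra.IsEpi R S] : Function.Bijective (algebraMap R S) := by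
  apply Module.FaithfullyFlat.bijective_of_tensorProduct (S := S)
  have h : ∀ s : S, algebraMap S (S ⊗[R] S) s = (TensorProduct.lid' R S S).symm s := by
    intro s
    rw [TensorProduct.lid'_symm_apply, Algebra.TensorProduct.algebraMap_apply]
    exact Algebra.tmul_comm R s 1
  have : (algebraMap S (S ⊗[R] S) : S → S ⊗[R] S) = (TensorProduct.lid' R S S).symm := funext h
  rw [this]
  exact (TensorProduct.lid' R S S).symm.bijective

theorem localRingHom_bijective_of_flat_epi {A B : Type u} [CommRing A] [CommRing B] (f : A →+* B)
    (hflat : f.Flat)
    (hepi : ∀ {T : Type u} [CommRing T] (g₁ g₂ : B →+* T), g₁.comp f = g₂.comp f → g₁ = g₂)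
    (P : Ideal B) [P.IsPrime] :
    Function.Bijective (Localization.localRingHom (P.comap f) P f rfl) := by
  letI : Algebra A B := f.toAlgebra
  letI : Algebra (Localization.AtPrime (P.comap f)) (Localization.AtPrime P) :=
    (Localization.localRingHom (P.comap f) P f rfl).toAlgebra
  haveI : IsScalarTower A (Localization.AtPrime (P.comap f)) (Localization.AtPrime P) :=
    IsScalarTower.of_algebraMap_eq (fun x => by
      rw [IsScalarTower.algebraMap_apply A B (Localization.AtPrime P)]
      exact (Localization.localRingHom_to_map (P.comap f) P f rfl x).symm)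
  haveI : Module.Flat A B := hflat
  haveI : Module.Flat B (Localization.AtPrime P) := IsLocalization.flat _ P.primeCompl
  haveI : Module.Flat A (Localization.AtPrime P) := Module.Flat.trans A B _
  haveI : Module.Flat (Localization.AtPrime (P.comap f)) (Localization.AtPrime P) :=
    (Module.flat_iff_of_isLocalization (Localization.AtPrime (P.comap f))
      (P.comap f).primeCompl (Localization.AtPrime P)).2 inferInstance
  haveI : IsLocalHom (algebraMap (Localization.AtPrime (P.comap f)) (Localization.AtPrime P)) :=
    Localization.isLocalHom_localRingHom (P.comap f) P f rfl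
  haveI : Module.FaithfullyFlat (Localization.AtPrime (P.comap f)) (Localization.AtPrime P) :=
    Module.FaithfullyFlat.of_flat_of_isLocalHom
  haveI : Algebra.IsEpi (Localization.AtPrime (P.comap f)) (Localization.AtPrime P) := by
    rw [← CommRingCat.epi_iff_epi]
    refine ⟨fun {T} g₁ g₂ e => ?_⟩
    apply CommRingCat.hom_ext
    apply IsLocalization.ringHom_ext P.primeCompl
    apply hepi
    ext a
    have h1 := congrArg (fun k : CommRingCat.of (Localization.AtPrime (P.comap f)) ⟶ T =>
      k.hom (algebraMap A (Localization.AtPrime (P.comap f)) a)) e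
    simp only [CommRingCat.hom_comp, CommRingCat.hom_ofHom, RingHom.comp_apply] at h1
    change g₁.hom (Localization.localRingHom (P.comap f) P f rfl (algebraMap A _ a)) =
      g₂.hom (Localization.localRingHom (P.comap f) P f rfl (algebraMap A _ a)) at h1
    rw [Localization.localRingHom_to_map] at h1
    exact h1
  exact bijective_of_faithfullyFlat_isEpi _ _


open SchFin SchFin.RSpace in
/-- In a schematic finite space the restriction maps induce isomorphisms of local rings. -/
theorem localRingHom_res_bijective (X : RSpace.{u}) (hX : X.IsSchematic)
    {x y : X.pt} (h : x ≤ y) (P : Ideal (X.ring y)) [P.IsPrime] :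
    Function.Bijective (Localization.localRingHom (P.comap (X.res h)) P (X.res h) rfl) :=
  localRingHom_bijective_of_flat_epi (X.res h) (hX.1.2 x y h)
    (fun g₁ g₂ hg => res_epi X hX h g₁ g₂ hg) P

end Groth.Agent.Lib.H94SchFin
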