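import Mathlib
import Groth.Agent.Lib.HFP
import Groth.Agent.Lib.HenselPair
import Groth.Agent.Lib.HenselQuot
import Groth.Agent.Lib.HenselQFDecomp
import Groth.Agent.Lib.H94HensNoeth
set_option autoImplicit false
set_option linter.style.haveILetI false
set_option linter.unusedSectionVars false
open Polynomial

/-!
# Henselian Weierstrass preparation in `R{t}` (helper94)

`R` a henselian local ring, `B` a henselization of the pair `(R[X], (X))`.
* `IsDist P`: `P` monic with lower coefficients in the maximal ideal.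
* `bijective_quot_dist`: `R[X]/(P) → B/(P)` is bijective for distinguished `P`.
* `isUnit_of_not_mem`, `map_maximalIdeal_le_jacobson`: `B` is local with maximal ideal `(t) + mB`.
* `exists_order`: `f ∉ mB` is `t^n · unit` modulo `mB`.
* `finite_quot`: `B/(t^n + g)` is finite over `R` for `g ∈ mB`.
* `exists_dist`: Weierstrass polynomial of `t^n + g`.
* `main`: the preparation theorem (= S15752).
-/

namespace Groth.Agent.Lib.H94Weierstrass
universe u

open Groth.Agent.Lib


/-- a distinguished polynomial: monic, lower coefficients in `m` -/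
def IsDist {R : Type u} [CommRing R] [IsLocalRing R] (P : R[X]) : Prop :=
  P.Monic ∧ ∀ i : ℕ, i < P.natDegree → P.coeff i ∈ IsLocalRing.maximalIdeal R

section piece6
variable (R : Type u) [CommRing R] [HenselianLocalRing R]

/-- `R[X]/(P)` is henselian along `(X)` for distinguished `P`. -/
theorem henselian_quot_dist (P : R[X]) (hP : IsDist P) :
    HenselianRing (R[X] ⧸ Ideal.span {P})
      ((Ideal.span {(X : R[X])}).map (Ideal.Quotient.mk (Ideal.span {P}))) := by
  -- `R[X]/(P) = AdjoinRoot P` is finite over `R`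
  have hfin : Module.Finite R (AdjoinRoot P) := (AdjoinRoot.powerBasis' hP.1).finite
  have hint : Algebra.IsIntegral R (AdjoinRoot P) := Algebra.IsIntegral.of_finite R _
  have h1 : HenselianRing (AdjoinRoot P)
      ((IsLocalRing.maximalIdeal R).map (algebraMap R (AdjoinRoot P))) :=
    HenselIdem.henselianRing_of_isIntegral (A := R) (B := AdjoinRoot P) (IsLocalRing.maximalIdeal R)
  have h2 := HenselPair.henselian_radical
    ((IsLocalRing.maximalIdeal R).map (algebraMap R (AdjoinRoot P)))
  have hle : (Ideal.span {(X : R[X])}).map (Ideal.Quotient.mk (Ideal.span {P})) ≤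
      ((IsLocalRing.maximalIdeal R).map (algebraMap R (AdjoinRoot P))).radical := by
    rw [Ideal.map_span, Set.image_singleton, Ideal.span_le, Set.singleton_subset_iff]
    refine ⟨P.natDegree, ?_⟩
    -- root^n = -(lower terms)
    have hsum : P = X ^ P.natDegree + ∑ i ∈ Finset.range P.natDegree, C (P.coeff i) * X ^ i := by
      conv_lhs => rw [hP.1.as_sum]
    have hroot : (AdjoinRoot.mk P)
        (X ^ P.natDegree + ∑ i ∈ Finset.range P.natDegree, C (P.coeff i) * X ^ i) = 0 := by
      rw [← hsum]; exact AdjoinRoot.mk_self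
    rw [map_add, map_pow, map_sum] at hroot
    have h3 : (AdjoinRoot.mk P X) ^ P.natDegree =
        -∑ i ∈ Finset.range P.natDegree, AdjoinRoot.mk P (C (P.coeff i) * X ^ i) :=
      eq_neg_of_add_eq_zero_left hroot
    change (AdjoinRoot.mk P X) ^ P.natDegree ∈ _
    rw [h3]
    refine neg_mem (Ideal.sum_mem _ fun i hi => ?_)
    rw [map_mul]
    refine Ideal.mul_mem_right _ _ ?_
    rw [AdjoinRoot.mk_C]
    exact Ideal.mem_map_of_mem _ (hP.2 i (Finset.mem_range.mp hi))
  exact @HenselPair.henselian_of_le _ _ _ _ hle h2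

variable {R}
variable (B : Type u) [CommRing B] [Algebra R B] [Algebra R[X] B] [IsScalarTower R R[X] B]

/-- `R[X]/(P) → B/(P)` is bijective for distinguished `P`. -/
theorem bijective_quot_dist (hB : Hens2.IsPairHenselization R[X] (Ideal.span {(X : R[X])}) B)
    (P : R[X]) (hP : IsDist P) :
    Function.Bijective (algebraMap (R[X] ⧸ Ideal.span {P})
      (B ⧸ (Ideal.span {P}).map (algebraMap R[X] B))) := by
  have hq := HFP.isPairHenselization_quotient (Ideal.span {(X : R[X])}) hB (Ideal.span {P})
  haveI := henselian_quot_dist R P hP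
  have hs := HFP.isPairHenselization_self
    ((Ideal.span {(X : R[X])}).map (Ideal.Quotient.mk (Ideal.span {P})))
  exact PairHenselizationIntegral.bijective_of_isPairHenselization _ hs hq _ (by
    rw [Algebra.algebraMap_self, RingHom.comp_id])

end piece6



/-- Piece 1: a Noetherian ring with `t` in the radical and everything outside `(t)` a unit:
every nonzero element is `t^n * unit`. -/
theorem exists_pow_mul_unit {D : Type*} [CommRing D] [IsNoetherianRing D] (t : D)
    (hjac : Ideal.span {t} ≤ Ideal.jacobson ⊥) (hunit : ∀ x : D, x ∉ Ideal.span {t} → IsUnit x)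
    (x : D) (hx : x ≠ 0) : ∃ (n : ℕ) (y : D), IsUnit y ∧ x = t ^ n * y := by
  classical
  have hkrull : (⨅ i : ℕ, (Ideal.span {t}) ^ i • ⊤ : Submodule D D) = ⊥ :=
    Ideal.iInf_pow_smul_eq_bot_of_le_jacobson _ hjac
  have hex : ∃ n : ℕ, x ∉ Ideal.span {t ^ n} := by
    by_contra hcon
    push Not at hcon
    apply hx
    have : x ∈ (⨅ i : ℕ, (Ideal.span {t}) ^ i • ⊤ : Submodule D D) := by
      rw [Submodule.mem_iInf]
      intro i
      rw [smul_eq_mul, Ideal.mul_top, Ideal.span_singleton_pow]
      exact hcon i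
    rw [hkrull] at this
    exact this
  have h0 : ¬ (x ∉ Ideal.span {t ^ 0}) := by
    rw [pow_zero, Ideal.span_singleton_one]; exact fun h => h Submodule.mem_top
  have hN : Nat.find hex ≠ 0 := fun h => h0 (h ▸ Nat.find_spec hex)
  obtain ⟨n, hn⟩ := Nat.exists_eq_succ_of_ne_zero hN
  have h1 : x ∈ Ideal.span {t ^ n} := by
    have := Nat.find_min hex (m := n) (by omega)
    exact not_not.mp this
  obtain ⟨y, rfl⟩ := Ideal.mem_span_singleton'.mp h1
  refine ⟨n, y, hunit y fun hy => ?_, mul_comm _ _⟩
  obtain ⟨z, rfl⟩ := Ideal.mem_span_singleton'.mp hy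
  have h2 := Nat.find_spec hex
  rw [hn] at h2
  apply h2
  rw [Ideal.mem_span_singleton']
  exact ⟨z, by rw [pow_succ]; ring⟩

section piece2
variable {R : Type u} [CommRing R] [IsLocalRing R]
variable (B : Type u) [CommRing B] [Algebra R B] [Algebra R[X] B] [IsScalarTower R R[X] B]

theorem map_C_map_eq : ((IsLocalRing.maximalIdeal R).map (C : R →+* R[X])).map (algebraMap R[X] B) =
    (IsLocalRing.maximalIdeal R).map (algebraMap R B) := by
  rw [Ideal.map_map]
  congr 1
  rw [IsScalarTower.algebraMap_eq R R[X] B, Polynomial.algebraMap_eq]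

theorem isNoetherianRing_quot_map_C :
    IsNoetherianRing (R[X] ⧸ (IsLocalRing.maximalIdeal R).map (C : R →+* R[X])) := by
  haveI : IsNoetherianRing (R ⧸ IsLocalRing.maximalIdeal R) :=
    (inferInstance : IsNoetherianRing (IsLocalRing.ResidueField R))
  exact isNoetherianRing_of_ringEquiv _
    (Ideal.polynomialQuotientEquivQuotientPolynomial (IsLocalRing.maximalIdeal R))

variable (hB : Hens2.IsPairHenselization R[X] (Ideal.span {(X : R[X])}) B)
include hB

/-- every element of `B` is congruent to a constant mod `t`. -/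
theorem exists_const_sub_mem (x : B) :
    ∃ c : R, x - algebraMap R B c ∈ Ideal.span {algebraMap R[X] B X} := by
  obtain ⟨p, hp⟩ := (PairEtaleNbhd.qbij_of_isPairHenselization hB).exists_sub_mem x
  rw [Ideal.map_span, Set.image_singleton] at hp
  refine ⟨p.coeff 0, ?_⟩
  have h1 : algebraMap R[X] B p = algebraMap R[X] B (divX p) * algebraMap R[X] B X +
      algebraMap R B (p.coeff 0) := by
    conv_lhs => rw [← divX_mul_X_add p]
    rw [map_add, map_mul, IsScalarTower.algebraMap_apply R R[X] B, Polynomial.algebraMap_apply,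
      Algebra.algebraMap_self_apply]
  have h2 : x - algebraMap R B (p.coeff 0) =
      (x - algebraMap R[X] B p) + algebraMap R[X] B (divX p) * algebraMap R[X] B X := by
    rw [h1]; ring
  rw [h2]
  exact Ideal.add_mem _ hp (Ideal.mul_mem_left _ _ (Ideal.mem_span_singleton_self _))

theorem span_t_le_jacobson : Ideal.span {algebraMap R[X] B X} ≤ Ideal.jacobson ⊥ := by
  have := hB.1.jac
  rwa [Ideal.map_span, Set.image_singleton] at this

/-- elements outside `(t) + mB` are units -/
theorem isUnit_of_not_mem (x : B)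
    (hx : x ∉ Ideal.span {algebraMap R[X] B X} ⊔
      (IsLocalRing.maximalIdeal R).map (algebraMap R B)) : IsUnit x := by
  obtain ⟨c, hc⟩ := exists_const_sub_mem B hB x
  have hcu : IsUnit c := by
    by_contra hcon
    apply hx
    have h1 : algebraMap R B c ∈ (IsLocalRing.maximalIdeal R).map (algebraMap R B) :=
      Ideal.mem_map_of_mem _ ((IsLocalRing.mem_maximalIdeal c).mpr hcon)
    have : x = (x - algebraMap R B c) + algebraMap R B c := by ring
    rw [this]
    exact Ideal.add_mem _ (Ideal.mem_sup_left hc) (Ideal.mem_sup_right h1)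
  exact HenselPair.isUnit_of_sub_mem (span_t_le_jacobson B hB) hc (hcu.map _)

/-- the residue map of `B` -/
theorem exists_residue_hom : ∃ g : B →+* IsLocalRing.ResidueField R,
    g (algebraMap R[X] B X) = 0 ∧ ∀ r : R, g (algebraMap R B r) = IsLocalRing.residue R r := by
  have hbot : HenselianRing (IsLocalRing.ResidueField R) ⊥ := HenselQuot.henselian_bot
  obtain ⟨g, hg, -⟩ := hB.2 (IsLocalRing.ResidueField R) ⊥
    ((IsLocalRing.residue R).comp (Polynomial.constantCoeff)) hbot (by
      rw [Ideal.map_span, Set.image_singleton, Ideal.span_le, Set.singleton_subset_iff]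
      simp)
  refine ⟨g, ?_, fun r => ?_⟩
  · have := congrArg (fun k : R[X] →+* IsLocalRing.ResidueField R => k X) hg
    simpa using this
  · have := congrArg (fun k : R[X] →+* IsLocalRing.ResidueField R => k (C r)) hg
    simp only [RingHom.comp_apply] at this
    rw [IsScalarTower.algebraMap_apply R R[X] B, Polynomial.algebraMap_apply,
      Algebra.algebraMap_self_apply, this]
    simp

theorem one_not_mem : (1 : B) ∉ Ideal.span {algebraMap R[X] B X} ⊔
    (IsLocalRing.maximalIdeal R).map (algebraMap R B) := by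
  obtain ⟨g, hg1, hg2⟩ := exists_residue_hom B hB
  intro h
  have hle : Ideal.span {algebraMap R[X] B X} ⊔
      (IsLocalRing.maximalIdeal R).map (algebraMap R B) ≤ RingHom.ker g := by
    rw [sup_le_iff]
    constructor
    · rw [Ideal.span_le, Set.singleton_subset_iff]
      exact hg1
    · rw [Ideal.map_le_iff_le_comap]
      intro r hr
      rw [Ideal.mem_comap, RingHom.mem_ker, hg2]
      exact (IsLocalRing.residue_eq_zero_iff r).mpr hr
  have := hle h
  rw [RingHom.mem_ker, map_one] at this
  exact one_ne_zero this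

theorem map_maximalIdeal_le_jacobson :
    (IsLocalRing.maximalIdeal R).map (algebraMap R B) ≤ Ideal.jacobson ⊥ := by
  intro x hx
  rw [Ideal.mem_jacobson_bot]
  intro y
  apply isUnit_of_not_mem B hB
  intro hmem
  -- then `1 ∈ (t) + mB`, but `B/((t)+mB)` is nonzero
  have h1 : x * y ∈ Ideal.span {algebraMap R[X] B X} ⊔
      (IsLocalRing.maximalIdeal R).map (algebraMap R B) :=
    Ideal.mul_mem_right _ _ (Ideal.mem_sup_right hx)
  have h2 : (1 : B) ∈ Ideal.span {algebraMap R[X] B X} ⊔
      (IsLocalRing.maximalIdeal R).map (algebraMap R B) := by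
    have := Ideal.sub_mem _ hmem h1
    simpa using this
  exact one_not_mem B hB h2


/-- Piece 3: the `t`-adic order of `f` modulo `m`. -/
theorem exists_order (f : B) (hf : f ∉ (IsLocalRing.maximalIdeal R).map (algebraMap R B)) :
    ∃ (n : ℕ) (y : B), IsUnit y ∧
      f - algebraMap R[X] B X ^ n * y ∈ (IsLocalRing.maximalIdeal R).map (algebraMap R B) := by
  set 𝔞 : Ideal R[X] := (IsLocalRing.maximalIdeal R).map (C : R →+* R[X]) with h𝔞
  set 𝔟 : Ideal B := 𝔞.map (algebraMap R[X] B) with h𝔟
  have h𝔟' : 𝔟 = (IsLocalRing.maximalIdeal R).map (algebraMap R B) := map_C_map_eq B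
  have hBq := HFP.isPairHenselization_quotient (Ideal.span {(X : R[X])}) hB 𝔞
  -- `R[X]/m[X]` is Noetherian
  haveI hnoeA : IsNoetherianRing (R[X] ⧸ 𝔞) := isNoetherianRing_quot_map_C
  haveI hnoeB : IsNoetherianRing (B ⧸ 𝔟) := by
    refine H94HensNoeth.isNoetherianRing_of_pieces _
      (Ideal.FG.map (Submodule.fg_span_singleton (X : R[X])) _) (B ⧸ 𝔟) hBq ?_
    intro l c
    exact ⟨R[X] ⧸ 𝔞, inferInstance, inferInstance, inferInstance, inferInstance, _,
      by rw [Algebra.algebraMap_self, Ideal.map_id], fun i => ⟨c i, rfl⟩⟩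
  set t : B := algebraMap R[X] B X with ht
  have hjac : Ideal.span {Ideal.Quotient.mk 𝔟 t} ≤ Ideal.jacobson ⊥ := by
    have := HenselPair.map_mk_le_jacobson (I := 𝔟) (span_t_le_jacobson B hB)
    rwa [Ideal.map_span, Set.image_singleton] at this
  have hunit : ∀ x : B ⧸ 𝔟, x ∉ Ideal.span {Ideal.Quotient.mk 𝔟 t} → IsUnit x := by
    intro x hx
    obtain ⟨x, rfl⟩ := Ideal.Quotient.mk_surjective x
    refine (isUnit_of_not_mem B hB x fun hmem => hx ?_).map _
    obtain ⟨a, ha, b, hb, rfl⟩ := Submodule.mem_sup.mp hmem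
    have hb' : b ∈ 𝔟 := by rw [h𝔟']; exact hb
    rw [map_add, Ideal.Quotient.eq_zero_iff_mem.mpr hb', add_zero]
    have := Ideal.mem_map_of_mem (Ideal.Quotient.mk 𝔟) ha
    rwa [Ideal.map_span, Set.image_singleton] at this
  have hf0 : Ideal.Quotient.mk 𝔟 f ≠ 0 := by
    rw [Ne, Ideal.Quotient.eq_zero_iff_mem, h𝔟']
    exact hf
  obtain ⟨n, y, hy, hfy⟩ := exists_pow_mul_unit _ hjac hunit _ hf0
  obtain ⟨y, rfl⟩ := Ideal.Quotient.mk_surjective y
  refine ⟨n, y, ?_, ?_⟩
  · have hle : 𝔟 ≤ Ideal.jacobson ⊥ := by rw [h𝔟']; exact map_maximalIdeal_le_jacobson B hB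
    exact HenselPair.isUnit_of_isUnit_mk hle hy
  · rw [← h𝔟', ← Ideal.Quotient.eq_zero_iff_mem, map_sub, map_mul, map_pow, hfy, sub_self]

end piece2



section piece4
variable {R : Type u} [CommRing R] [HenselianLocalRing R]
variable (B : Type u) [CommRing B] [Algebra R B] [Algebra R[X] B] [IsScalarTower R R[X] B]
variable (hB : Hens2.IsPairHenselization R[X] (Ideal.span {(X : R[X])}) B)
include hB

/-- `B` is henselian along `mB`. -/
theorem henselian_map_maximalIdeal :
    HenselianRing B ((IsLocalRing.maximalIdeal R).map (algebraMap R B)) := by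
  set m := IsLocalRing.maximalIdeal R
  set IB : Ideal B := (Ideal.span {(X : R[X])}).map (algebraMap R[X] B) with hIB
  haveI h1 : HenselianRing B IB := hB.1
  -- `R → B/IB` is surjective
  have hsurj : Function.Surjective (algebraMap R (B ⧸ IB)) := by
    intro x
    obtain ⟨x, rfl⟩ := Ideal.Quotient.mk_surjective x
    obtain ⟨p, hp⟩ := (PairEtaleNbhd.qbij_of_isPairHenselization hB).exists_sub_mem x
    refine ⟨p.coeff 0, ?_⟩
    rw [IsScalarTower.algebraMap_apply R B (B ⧸ IB), Ideal.Quotient.algebraMap_eq,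
      eq_comm, Ideal.Quotient.eq]
    have h1 : algebraMap R[X] B p = algebraMap R[X] B (divX p) * algebraMap R[X] B X +
        algebraMap R B (p.coeff 0) := by
      conv_lhs => rw [← divX_mul_X_add p]
      rw [map_add, map_mul, IsScalarTower.algebraMap_apply R R[X] B, Polynomial.algebraMap_apply,
        Algebra.algebraMap_self_apply]
    have h2 : x - algebraMap R B (p.coeff 0) =
        (x - algebraMap R[X] B p) + algebraMap R[X] B (divX p) * algebraMap R[X] B X := by
      rw [h1]; ring
    rw [h2]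
    exact Ideal.add_mem _ hp (Ideal.mul_mem_left _ _
      (Ideal.mem_map_of_mem _ (Ideal.mem_span_singleton_self _)))
  haveI : Algebra.IsIntegral R (B ⧸ IB) := Algebra.isIntegral_of_surjective hsurj
  have h2 : HenselianRing (B ⧸ IB) (m.map (algebraMap R (B ⧸ IB))) :=
    HenselIdem.henselianRing_of_isIntegral (A := R) (B := B ⧸ IB) m
  have h3 : m.map (algebraMap R (B ⧸ IB)) =
      Ideal.map (Ideal.Quotient.mk IB) (IB ⊔ m.map (algebraMap R B)) := by
    rw [Ideal.map_sup, Ideal.map_quotient_self, bot_sup_eq, Ideal.map_map]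
    rfl
  rw [h3] at h2
  haveI := h2
  have h4 : HenselianRing B (IB ⊔ m.map (algebraMap R B)) :=
    HenselPair.henselian_of_henselian_quotient (I := IB) le_sup_left
  exact @HenselPair.henselian_of_le _ _ _ _ le_sup_right h4


/-- `B/(t^n)` is finite over `R`. -/
theorem finite_quot_pow (n : ℕ) :
    Module.Finite R (B ⧸ Ideal.span {algebraMap R[X] B X ^ n}) := by
  have hfin : Module.Finite R (AdjoinRoot ((X : R[X]) ^ n)) :=
    (AdjoinRoot.powerBasis' (monic_X_pow n)).finite
  let ψ : R[X] →ₐ[R] B := IsScalarTower.toAlgHom R R[X] B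
  have hle : Ideal.span {(X : R[X]) ^ n} ≤
      (Ideal.span {algebraMap R[X] B X ^ n}).comap ψ := by
    rw [Ideal.span_le, Set.singleton_subset_iff]
    change ψ (X ^ n) ∈ Ideal.span {algebraMap R[X] B X ^ n}
    rw [map_pow]
    exact Ideal.mem_span_singleton_self _
  let Ψ : (R[X] ⧸ Ideal.span {(X : R[X]) ^ n}) →ₐ[R]
      (B ⧸ Ideal.span {algebraMap R[X] B X ^ n}) :=
    Ideal.quotientMapₐ _ ψ hle
  have hsurj : Function.Surjective Ψ := by
    intro x
    obtain ⟨x, rfl⟩ := Ideal.Quotient.mk_surjective x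
    obtain ⟨p, hp⟩ := PairHenselizationEtale.exists_sub_mem _ hB n x
    rw [Ideal.span_singleton_pow, Ideal.map_span, Set.image_singleton, map_pow] at hp
    refine ⟨Ideal.Quotient.mk _ p, ?_⟩
    change Ideal.Quotient.mk _ (algebraMap R[X] B p) = _
    rw [eq_comm, Ideal.Quotient.eq]
    exact hp
  haveI : Module.Finite R (R[X] ⧸ Ideal.span {(X : R[X]) ^ n}) := hfin
  exact Module.Finite.of_surjective Ψ.toLinearMap hsurj


/-- Piece 4: `B/(t^n + g)` is finite over `R` for `g ∈ mB`. -/
theorem finite_quot (n : ℕ) (g : B)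
    (hg : g ∈ (IsLocalRing.maximalIdeal R).map (algebraMap R B)) :
    Module.Finite R (B ⧸ Ideal.span {algebraMap R[X] B X ^ n + g}) := by
  classical
  set m := IsLocalRing.maximalIdeal R with hm
  -- (a) write `g` as a combination
  obtain ⟨k, b, μ, hsum⟩ := Submodule.mem_span_set'.mp hg
  -- (b) an étale neighbourhood containing the `b i`
  obtain ⟨A', _, _, hA', φ, hφ⟩ := HFP.exists_nbhd_of_finset hB (Finset.univ.image b)
  choose b' hb' using fun i : Fin k => hφ (b i) (Finset.mem_image_of_mem b (Finset.mem_univ i))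
  choose μ' hμ'm hμ' using fun i : Fin k => (μ i).2
  -- (c) algebra structures
  letI algRA' : Algebra R A' := ((algebraMap R[X] A').comp (algebraMap R R[X])).toAlgebra
  haveI towRA' : IsScalarTower R R[X] A' := IsScalarTower.of_algebraMap_eq (fun _ => rfl)
  letI algA'B : Algebra A' B := φ.toRingHom.toAlgebra
  haveI towA'B : IsScalarTower R[X] A' B :=
    IsScalarTower.of_algebraMap_eq (fun x => (φ.commutes x).symm)
  haveI towRA'B : IsScalarTower R A' B := IsScalarTower.of_algebraMap_eq (fun r => by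
    rw [IsScalarTower.algebraMap_apply R R[X] B, IsScalarTower.algebraMap_apply R[X] A' B]
    rfl)
  have hφalg : ∀ a : A', algebraMap A' B a = φ a := fun _ => rfl
  -- the element `f_λ`
  set fl : A' := algebraMap R[X] A' X ^ n + ∑ i, b' i * algebraMap R A' (μ' i) with hfl
  have hφfl : algebraMap A' B fl = algebraMap R[X] B X ^ n + g := by
    rw [hfl, map_add, map_pow, ← IsScalarTower.algebraMap_apply, map_sum, ← hsum]
    congr 1
    refine Finset.sum_congr rfl fun i _ => ?_
    have hb'' : φ (b' i) = b i := hb' i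
    rw [map_mul, ← IsScalarTower.algebraMap_apply, hφalg, hb'', smul_eq_mul, ← hμ' i]
  set J : Ideal A' := Ideal.span {fl} with hJ
  have hJmap : J.map (algebraMap A' B) = Ideal.span {algebraMap R[X] B X ^ n + g} := by
    rw [hJ, Ideal.map_span, Set.image_singleton, hφfl]
  rw [← hJmap]
  -- finite presentation of `C = A'/J`
  haveI := hA'.etale
  haveI : Algebra.FinitePresentation R[X] A' := Algebra.Etale.finitePresentation
  haveI : Algebra.FinitePresentation R A' := Algebra.FinitePresentation.trans R R[X] A'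
  haveI : Algebra.FinitePresentation R (A' ⧸ J) :=
    Algebra.FinitePresentation.quotient (Submodule.fg_span_singleton fl)
  -- henselizations
  have hB₁ := HFP.isPairHenselization_of_nbhd hA' hB
  have hB₂ := HFP.isPairHenselization_quotient _ hB₁ J
  haveI towRCB' : IsScalarTower R (A' ⧸ J) (B ⧸ J.map (algebraMap A' B)) :=
    IsScalarTower.of_algebraMap_eq (fun r => by
      rw [IsScalarTower.algebraMap_apply R B (B ⧸ J.map (algebraMap A' B)),
        IsScalarTower.algebraMap_apply R A' (A' ⧸ J), Ideal.Quotient.algebraMap_eq,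
        Ideal.Quotient.algebraMap_eq, Ideal.Quotient.algebraMap_quotient_map_quotient,
        ← IsScalarTower.algebraMap_apply])
  -- `t_C^n ∈ m C`
  have htC : (Ideal.Quotient.mk J (algebraMap R[X] A' X)) ^ n ∈ m.map (algebraMap R (A' ⧸ J)) := by
    have h0 : Ideal.Quotient.mk J fl = 0 :=
      Ideal.Quotient.eq_zero_iff_mem.mpr (Ideal.mem_span_singleton_self fl)
    rw [hfl, map_add, map_pow, map_sum] at h0
    rw [eq_neg_of_add_eq_zero_left h0]
    refine neg_mem (Ideal.sum_mem _ fun i _ => ?_)
    rw [map_mul]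
    refine Ideal.mul_mem_left _ _ ?_
    have : Ideal.Quotient.mk J (algebraMap R A' (μ' i)) = algebraMap R (A' ⧸ J) (μ' i) := rfl
    rw [this]
    exact Ideal.mem_map_of_mem _ (hμ'm i)
  have hB₃ : Hens2.IsPairHenselization (A' ⧸ J) (m.map (algebraMap R (A' ⧸ J)))
      (B ⧸ J.map (algebraMap A' B)) := by
    refine ⟨?_, ?_⟩
    · have h1 : (m.map (algebraMap R (A' ⧸ J))).map
          (algebraMap (A' ⧸ J) (B ⧸ J.map (algebraMap A' B))) =
          (m.map (algebraMap R B)).map (Ideal.Quotient.mk (J.map (algebraMap A' B))) := by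
        rw [Ideal.map_map, Ideal.map_map, ← IsScalarTower.algebraMap_eq]
        rfl
      rw [h1]
      haveI := henselian_map_maximalIdeal B hB
      exact HenselQuot.henselian_quotient_general _ _
    · intro D _ JD γ hD hγ
      haveI := hD
      have hDr : HenselianRing D JD.radical := HenselPair.henselian_radical JD
      refine hB₂.2 D JD.radical γ hDr ?_
      rw [Ideal.map_map, Ideal.map_span, Set.image_singleton, Ideal.map_span,
        Set.image_singleton, Ideal.span_le, Set.singleton_subset_iff]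
      refine ⟨n, ?_⟩
      have := Ideal.mem_map_of_mem γ htC
      rw [map_pow] at this
      exact hγ this
  -- finiteness of the closed fibre
  have hfin : Module.Finite R ((B ⧸ J.map (algebraMap A' B)) ⧸
      m.map (algebraMap R (B ⧸ J.map (algebraMap A' B)))) := by
    haveI := finite_quot_pow B hB n
    set K : Ideal B := Ideal.span {algebraMap R[X] B X ^ n} with hK
    set B' := B ⧸ J.map (algebraMap A' B) with hB'
    let π : B →ₐ[R] (B' ⧸ m.map (algebraMap R B')) :=
      (Ideal.Quotient.mkₐ R (m.map (algebraMap R B'))).comp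
        (Ideal.Quotient.mkₐ R (J.map (algebraMap A' B)))
    have hπK : ∀ x ∈ K, π x = 0 := by
      intro x hx
      have hle : K ≤ RingHom.ker π.toRingHom := by
        rw [hK, Ideal.span_le, Set.singleton_subset_iff]
        change π (algebraMap R[X] B X ^ n) = 0
        have h1 : algebraMap R[X] B X ^ n = algebraMap A' B fl - g := by rw [hφfl]; ring
        rw [h1, map_sub]
        have h2 : π (algebraMap A' B fl) = 0 := by
          change Ideal.Quotient.mk _ (Ideal.Quotient.mk _ (algebraMap A' B fl)) = 0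
          rw [Ideal.Quotient.eq_zero_iff_mem.mpr
            (Ideal.mem_map_of_mem _ (Ideal.mem_span_singleton_self fl)), map_zero]
        have h3 : π g = 0 := by
          change Ideal.Quotient.mk _ (Ideal.Quotient.mk _ g) = 0
          rw [Ideal.Quotient.eq_zero_iff_mem]
          have := Ideal.mem_map_of_mem (Ideal.Quotient.mk (J.map (algebraMap A' B))) hg
          rw [Ideal.map_map] at this
          exact this
        rw [h2, h3, sub_zero]
      exact hle hx
    let Pq : (B ⧸ K) →ₐ[R] (B' ⧸ m.map (algebraMap R B')) := Ideal.Quotient.liftₐ K π hπK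
    have hPq : Function.Surjective Pq := by
      intro y
      obtain ⟨y, rfl⟩ := Ideal.Quotient.mk_surjective y
      obtain ⟨y, rfl⟩ := Ideal.Quotient.mk_surjective y
      exact ⟨Ideal.Quotient.mk K y, rfl⟩
    exact Module.Finite.of_surjective Pq.toLinearMap hPq
  exact (HenselQFDecomp.finite_of_finite_quotient m (A' ⧸ J) (B ⧸ J.map (algebraMap A' B))
    hB₃ hfin).1

end piece4



section piece5
variable {R : Type u} [CommRing R] [IsLocalRing R]
variable (B : Type u) [CommRing B] [Algebra R B] [Algebra R[X] B] [IsScalarTower R R[X] B]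

omit [IsLocalRing R] [Algebra R[X] B] [IsScalarTower R R[X] B] in
/-- decomposition of elements of `IB` -/
theorem exists_sum_of_mem_map (I : Ideal R) (x : B) (hx : x ∈ I.map (algebraMap R B)) :
    ∃ (k : ℕ) (c : Fin k → B) (μ : Fin k → R), (∀ j, μ j ∈ I) ∧
      x = ∑ j, c j * algebraMap R B (μ j) := by
  obtain ⟨k, b, μ, hsum⟩ := Submodule.mem_span_set'.mp hx
  choose μ' hμ'm hμ' using fun i : Fin k => (μ i).2
  refine ⟨k, b, μ', hμ'm, ?_⟩
  rw [← hsum]
  refine Finset.sum_congr rfl fun i _ => ?_
  rw [smul_eq_mul, hμ' i]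

variable (hB : Hens2.IsPairHenselization R[X] (Ideal.span {(X : R[X])}) B)
include hB

/-- coefficients below `N` of a polynomial whose image lies in `(t^N) + mB` lie in `m`. -/
theorem coeff_mem_of_mem (N : ℕ) (r : R[X])
    (h : algebraMap R[X] B r ∈ Ideal.span {algebraMap R[X] B X ^ N} ⊔
      (IsLocalRing.maximalIdeal R).map (algebraMap R B)) (i : ℕ) (hi : i < N) :
    r.coeff i ∈ IsLocalRing.maximalIdeal R := by
  obtain ⟨a, ha, c, hc, hac⟩ := Submodule.mem_sup.mp h
  obtain ⟨k, cc, μ, hμ, rfl⟩ := exists_sum_of_mem_map B _ c hc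
  choose q hq using fun j => PairHenselizationEtale.exists_sub_mem _ hB N (cc j)
  have hIN : ((Ideal.span {(X : R[X])}) ^ N).map (algebraMap R[X] B) =
      Ideal.span {algebraMap R[X] B X ^ N} := by
    rw [Ideal.span_singleton_pow, Ideal.map_span, Set.image_singleton, map_pow]
  have h1 : algebraMap R[X] B (r - ∑ j, q j * C (μ j)) ∈
      ((Ideal.span {(X : R[X])}) ^ N).map (algebraMap R[X] B) := by
    rw [hIN]
    have h2 : algebraMap R[X] B (r - ∑ j, q j * C (μ j)) =
        a + ∑ j, (cc j - algebraMap R[X] B (q j)) * algebraMap R B (μ j) := by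
      rw [map_sub, ← hac, map_sum]
      simp only [map_mul, sub_mul, Finset.sum_sub_distrib]
      have : ∀ j, algebraMap R[X] B (C (μ j)) = algebraMap R B (μ j) := fun j => by
        rw [IsScalarTower.algebraMap_apply R R[X] B, Polynomial.algebraMap_apply,
          Algebra.algebraMap_self_apply]
      simp only [this]
      ring
    rw [h2]
    refine Ideal.add_mem _ ha (Ideal.sum_mem _ fun j _ => Ideal.mul_mem_right _ _ ?_)
    rw [← hIN]
    exact hq j
  have h3 := PairHenselizationEtale.mem_of_algebraMap_mem _ hB N _ h1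
  rw [Ideal.span_singleton_pow, Ideal.mem_span_singleton] at h3
  obtain ⟨w, hw⟩ := h3
  have h4 : r = X ^ N * w + ∑ j, q j * C (μ j) := by rw [← hw]; ring
  rw [h4, coeff_add, coeff_X_pow_mul', if_neg (by omega), zero_add, finset_sum_coeff]
  refine Ideal.sum_mem _ fun j _ => ?_
  rw [coeff_mul_C]
  exact Ideal.mul_mem_left _ _ (hμ j)

end piece5


section piece5b
variable {R : Type u} [CommRing R] [HenselianLocalRing R]
variable (B : Type u) [CommRing B] [Algebra R B] [Algebra R[X] B] [IsScalarTower R R[X] B]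
variable (hB : Hens2.IsPairHenselization R[X] (Ideal.span {(X : R[X])}) B)
include hB

/-- Piece 5: Weierstrass polynomial of a normalized element. -/
theorem exists_dist (n : ℕ) (g : B)
    (hg : g ∈ (IsLocalRing.maximalIdeal R).map (algebraMap R B)) :
    ∃ (P : R[X]) (v : B), IsDist P ∧ IsUnit v ∧
      algebraMap R[X] B P = (algebraMap R[X] B X ^ n + g) * v := by
  classical
  set m := IsLocalRing.maximalIdeal R with hm
  set t : B := algebraMap R[X] B X with ht
  set f' : B := t ^ n + g with hf'
  haveI hfin : Module.Finite R (B ⧸ Ideal.span {f'}) := finite_quot B hB n g hg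
  let ψ : R[X] →ₗ[R] (B ⧸ Ideal.span {f'}) :=
    ((Ideal.Quotient.mkₐ R (Ideal.span {f'})).comp (IsScalarTower.toAlgHom R R[X] B)).toLinearMap
  have hψ : ∀ p, ψ p = Ideal.Quotient.mk _ (algebraMap R[X] B p) := fun _ => rfl
  set N : Submodule R (B ⧸ Ideal.span {f'}) := (degreeLT R n).map ψ with hN
  -- Nakayama
  have hle : (⊤ : Submodule R (B ⧸ Ideal.span {f'})) ≤ N ⊔ m • ⊤ := by
    intro x _
    obtain ⟨x, rfl⟩ := Ideal.Quotient.mk_surjective x
    obtain ⟨p, hp⟩ := PairHenselizationEtale.exists_sub_mem _ hB n x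
    rw [Ideal.span_singleton_pow, Ideal.map_span, Set.image_singleton, map_pow,
      Ideal.mem_span_singleton'] at hp
    obtain ⟨w, hw⟩ := hp
    -- x = alg p + w t^n, p = p %ₘ X^n + X^n * (p /ₘ X^n)
    have hp2 := modByMonic_add_div p ((X : R[X]) ^ n)
    have hx : x = algebraMap R[X] B (p %ₘ X ^ n) +
        (f' * (algebraMap R[X] B (p /ₘ X ^ n) + w) - g * (algebraMap R[X] B (p /ₘ X ^ n) + w)) := by
      have : x = algebraMap R[X] B p + w * t ^ n := by rw [hw]; ring
      rw [this]
      conv_lhs => rw [← hp2]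
      rw [map_add, map_mul, map_pow, hf']
      ring
    rw [hx, map_add, map_sub]
    refine Submodule.add_mem_sup ?_ ?_
    · refine ⟨p %ₘ X ^ n, ?_, rfl⟩
      rw [SetLike.mem_coe, mem_degreeLT]
      have := degree_modByMonic_lt p (monic_X_pow (R := R) n)
      rwa [degree_X_pow] at this
    · have h0 : Ideal.Quotient.mk (Ideal.span {f'})
          (f' * (algebraMap R[X] B (p /ₘ X ^ n) + w)) = 0 :=
        Ideal.Quotient.eq_zero_iff_mem.mpr
          (Ideal.mul_mem_right _ _ (Ideal.mem_span_singleton_self f'))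
      rw [h0, zero_sub]
      refine neg_mem ?_
      obtain ⟨k, cc, μ, hμ, hgsum⟩ := exists_sum_of_mem_map B m g hg
      rw [hgsum, Finset.sum_mul, map_sum]
      refine Submodule.sum_mem _ fun j _ => ?_
      have : Ideal.Quotient.mk (Ideal.span {f'})
          (cc j * algebraMap R B (μ j) * (algebraMap R[X] B (p /ₘ X ^ n) + w)) =
          μ j • Ideal.Quotient.mk (Ideal.span {f'})
            (cc j * (algebraMap R[X] B (p /ₘ X ^ n) + w)) := by
        rw [Algebra.smul_def, IsScalarTower.algebraMap_apply R B (B ⧸ Ideal.span {f'}),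
          Ideal.Quotient.algebraMap_eq, ← map_mul]
        congr 1
        ring
      rw [this]
      exact Submodule.smul_mem_smul (hμ j) Submodule.mem_top
  have htop : (⊤ : Submodule R (B ⧸ Ideal.span {f'})) ≤ N :=
    Submodule.le_of_le_smul_of_le_jacobson_bot Module.Finite.fg_top
      (IsLocalRing.maximalIdeal_le_jacobson _) hle
  -- `t^n` is a combination of lower powers
  obtain ⟨r, hr, hrn⟩ := htop (Submodule.mem_top (x := ψ (X ^ n)))
  rw [SetLike.mem_coe, mem_degreeLT] at hr
  set P : R[X] := X ^ n - r with hP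
  have hPmonic : P.Monic := monic_X_pow_sub hr
  have hPdeg : P.natDegree = n := by
    apply natDegree_eq_of_degree_eq_some
    rw [hP, degree_sub_eq_left_of_degree_lt (by rwa [degree_X_pow]), degree_X_pow]
  have hPmem : algebraMap R[X] B P ∈ Ideal.span {f'} := by
    rw [← Ideal.Quotient.eq_zero_iff_mem, ← hψ, hP, map_sub, hrn, sub_self]
  obtain ⟨v, hv⟩ := Ideal.mem_span_singleton'.mp hPmem
  -- `f' ≡ t^n` modulo `mB`
  have key : ∀ (N' : ℕ) (z : B), z ∈ Ideal.span {t ^ N'} ⊔ m.map (algebraMap R B) →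
      f' * z ∈ Ideal.span {t ^ (n + N')} ⊔ m.map (algebraMap R B) := by
    intro N' z hz
    obtain ⟨a, ha, c, hc, rfl⟩ := Submodule.mem_sup.mp hz
    obtain ⟨a', rfl⟩ := Ideal.mem_span_singleton'.mp ha
    have : f' * (a' * t ^ N' + c) = a' * t ^ (n + N') + (g * (a' * t ^ N') + f' * c) := by
      rw [hf', pow_add]; ring
    rw [this]
    exact Submodule.add_mem_sup (Ideal.mul_mem_left _ _ (Ideal.mem_span_singleton_self _))
      (Ideal.add_mem _ (Ideal.mul_mem_right _ _ hg) (Ideal.mul_mem_left _ _ hc))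
  refine ⟨P, v, ⟨hPmonic, fun i hi => ?_⟩, ?_, by rw [← hv]; ring⟩
  · -- coefficients
    rw [hPdeg] at hi
    have h1 : algebraMap R[X] B P ∈ Ideal.span {t ^ n} ⊔ m.map (algebraMap R B) := by
      rw [← hv, mul_comm]
      have := key 0 v (by rw [pow_zero, Ideal.span_singleton_one]; exact Submodule.mem_sup_left Submodule.mem_top)
      rwa [add_zero] at this
    exact coeff_mem_of_mem B hB n P h1 i hi
  · -- `v` is a unit
    apply isUnit_of_not_mem B hB
    intro hvmem
    have h1 : algebraMap R[X] B P ∈ Ideal.span {t ^ (n + 1)} ⊔ m.map (algebraMap R B) := by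
      rw [← hv, mul_comm]
      exact key 1 v (by rwa [pow_one])
    have h2 := coeff_mem_of_mem B hB (n + 1) P h1 n (Nat.lt_succ_self n)
    have h3 : P.coeff n = 1 := by
      have := hPmonic.coeff_natDegree
      rwa [hPdeg] at this
    rw [h3] at h2
    exact (Ideal.ne_top_iff_one _).mp (IsLocalRing.maximalIdeal.isMaximal R).ne_top h2


/-- the quotient comparison for a factorization `f = P u`. -/
theorem bij_of_factor (f : B) (P : R[X]) (u : Bˣ) (hP : IsDist P)
    (hf : f = algebraMap R[X] B P * (u : B)) :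
    (∀ b : B, ∃ q : R[X], algebraMap R[X] B q - b ∈ Ideal.span {f}) ∧
    (∀ q : R[X], algebraMap R[X] B q ∈ Ideal.span {f} → q ∈ Ideal.span {P}) := by
  have hspan : (Ideal.span {P}).map (algebraMap R[X] B) = Ideal.span {f} := by
    rw [Ideal.map_span, Set.image_singleton, hf, Ideal.span_singleton_mul_right_unit u.isUnit]
  have hbij := bijective_quot_dist B hB P hP
  constructor
  · intro b
    obtain ⟨y, hy⟩ := hbij.2 (Ideal.Quotient.mk _ b)
    obtain ⟨q, rfl⟩ := Ideal.Quotient.mk_surjective y
    refine ⟨q, ?_⟩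
    rw [← hspan, ← Ideal.Quotient.eq]
    exact hy
  · intro q hq
    have h0 : algebraMap (R[X] ⧸ Ideal.span {P}) (B ⧸ (Ideal.span {P}).map (algebraMap R[X] B))
        (Ideal.Quotient.mk _ q) = 0 := by
      rw [Ideal.Quotient.algebraMap_quotient_map_quotient, Ideal.Quotient.eq_zero_iff_mem, hspan]
      exact hq
    have hinj := bijective_quot_dist B hB P hP
    have := hinj.1 (h0.trans (map_zero _).symm)
    exact Ideal.Quotient.eq_zero_iff_mem.mp this

theorem main (f : B) (hf : f ∉ (IsLocalRing.maximalIdeal R).map (algebraMap R B)) :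
    (∃! Pu : R[X] × Bˣ, Pu.1.Monic ∧
        (∀ i : ℕ, i < Pu.1.natDegree → Pu.1.coeff i ∈ IsLocalRing.maximalIdeal R) ∧
        f = algebraMap R[X] B Pu.1 * (Pu.2 : B)) ∧
    (∀ (P : R[X]) (u : Bˣ), P.Monic →
        (∀ i : ℕ, i < P.natDegree → P.coeff i ∈ IsLocalRing.maximalIdeal R) →
        f = algebraMap R[X] B P * (u : B) →
      (∀ b : B, ∃ q : R[X], algebraMap R[X] B q - b ∈ Ideal.span {f}) ∧
      (∀ q : R[X], algebraMap R[X] B q ∈ Ideal.span {f} → q ∈ Ideal.span {P})) := by
  refine ⟨?_, fun P u h1 h2 h3 => bij_of_factor B hB f P u ⟨h1, h2⟩ h3⟩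
  -- existence
  obtain ⟨n, y, hy, hfy⟩ := exists_order B hB f hf
  obtain ⟨y, rfl⟩ := hy
  set g : B := (f - algebraMap R[X] B X ^ n * (y : B)) * ((y⁻¹ : Bˣ) : B) with hg
  have hgm : g ∈ (IsLocalRing.maximalIdeal R).map (algebraMap R B) := Ideal.mul_mem_right _ _ hfy
  obtain ⟨P, v, hP, hv, hPv⟩ := exists_dist B hB n g hgm
  obtain ⟨v, rfl⟩ := hv
  have hfac : f = algebraMap R[X] B P * ((y * v⁻¹ : Bˣ) : B) := by
    rw [hPv, hg, Units.val_mul]
    have h1 : ((y⁻¹ : Bˣ) : B) * (y : B) = 1 := by simp
    have h2 : (v : B) * ((v⁻¹ : Bˣ) : B) = 1 := by simp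
    calc f = f * (((y⁻¹ : Bˣ) : B) * (y : B)) * ((v : B) * ((v⁻¹ : Bˣ) : B)) := by
          rw [h1, h2, mul_one, mul_one]
      _ = _ := by
        have h3 : algebraMap R[X] B X ^ n * (y : B) * ((y⁻¹ : Bˣ) : B) =
            algebraMap R[X] B X ^ n := by
          rw [mul_assoc, mul_comm (y : B), h1, mul_one]
        rw [sub_mul, h3]
        ring
  refine ⟨(P, y * v⁻¹), ⟨hP.1, hP.2, hfac⟩, ?_⟩
  rintro ⟨P', u'⟩ ⟨hP'1, hP'2, hfac'⟩
  have hP' : IsDist P' := ⟨hP'1, hP'2⟩
  simp only at hfac' hP'1 hP'2
  -- `P ∣ P'` and `P' ∣ P`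
  have hd1 : P' ∈ Ideal.span {P} := by
    refine (bij_of_factor B hB f P _ hP hfac).2 P' ?_
    rw [hfac', Ideal.span_singleton_mul_right_unit u'.isUnit]
    exact Ideal.mem_span_singleton_self _
  have hd2 : P ∈ Ideal.span {P'} := by
    refine (bij_of_factor B hB f P' u' hP' hfac').2 P ?_
    rw [hfac, Ideal.span_singleton_mul_right_unit (Units.isUnit _)]
    exact Ideal.mem_span_singleton_self _
  obtain ⟨q, hq⟩ := Ideal.mem_span_singleton.mp hd1
  obtain ⟨q', hq'⟩ := Ideal.mem_span_singleton.mp hd2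
  have hqm : q.Monic := hP.1.of_mul_monic_left (hq ▸ hP'1)
  have hq'm : q'.Monic := hP'1.of_mul_monic_left (hq' ▸ hP.1)
  have hdeg1 : P'.natDegree = P.natDegree + q.natDegree := by rw [hq, hP.1.natDegree_mul hqm]
  have hdeg2 : P.natDegree = P'.natDegree + q'.natDegree := by rw [hq', hP'1.natDegree_mul hq'm]
  have hq1 : q = 1 := eq_one_of_monic_natDegree_zero hqm (by omega)
  have hPP : P' = P := by rw [hq, hq1, mul_one]
  subst hPP
  -- units agree
  haveI : Module.Flat R[X] B := PairHenselization.flat_of_isPairHenselization hB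
  have hreg : IsSMulRegular B (algebraMap R[X] B P') :=
    IsSMulRegular.of_flat (hP'1.isRegular.left.isSMulRegular)
  have hu : (u' : B) = ((y * v⁻¹ : Bˣ) : B) := by
    refine hreg ?_
    show algebraMap R[X] B P' • (u' : B) = algebraMap R[X] B P' • ((y * v⁻¹ : Bˣ) : B)
    rw [smul_eq_mul, smul_eq_mul, ← hfac', ← hfac]
  have : u' = y * v⁻¹ := Units.ext hu
  rw [this]

end piece5b

end Groth.Agent.Lib.H94Weierstrass
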