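/-
Helper library (helper94): ideal correspondence between `R[s]` (`s = t⁻¹`) and a "Laurent-type"
`R[t]`-algebra `L` in which `t` is invertible, for a local ring `R`, under three abstract
Weierstrass-type hypotheses `k1 k2 k3` (`ideal_corr`).  Instantiated for `L = R{t}[1/t]`
(`hens_k1`, `hens_k2`, `hens_k3`).
-/
import Mathlib
import Groth.Agent.Lib.H94Weierstrass
set_option autoImplicit false
set_option maxHeartbeats 400000
set_option linter.style.haveILetI false
set_option linter.unusedSectionVars false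
open Polynomial

namespace Groth.Agent.Lib.H94WeierIdeal
universe u

open Groth.Agent.Lib Groth.Agent.Lib.H94Weierstrass


section reflect
variable {R : Type u} [CommRing R]
variable {L : Type u} [CommRing L] [Algebra R[X] L] [Algebra R L] [IsScalarTower R R[X] L]
variable (ψ : R[X] →ₐ[R] L) (hψ : ψ X * algebraMap R[X] L X = 1)
include hψ

theorem psi_reflect_mul_pow (q : R[X]) (N : ℕ) (hq : q.natDegree ≤ N) :
    ψ (reflect N q) * algebraMap R[X] L X ^ N = algebraMap R[X] L q := by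
  letI : Invertible (algebraMap R[X] L X) := ⟨ψ X, hψ, by rw [mul_comm]; exact hψ⟩
  have h := eval₂_reflect_mul_pow (algebraMap R L) (algebraMap R[X] L X) N q hq
  have h1 : ∀ p : R[X], eval₂ (algebraMap R L) (ψ X) p = ψ p := by
    intro p
    rw [← aeval_def, aeval_algHom_apply, aeval_X_left_apply]
  have h2 : ∀ p : R[X], eval₂ (algebraMap R L) (algebraMap R[X] L X) p = algebraMap R[X] L p := by
    intro p
    have := aeval_algHom_apply (IsScalarTower.toAlgHom R R[X] L) (X : R[X]) p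
    rw [aeval_X_left_apply] at this
    rw [← aeval_def]
    exact this
  rw [h2] at h
  rw [← h, ← h1]
  rfl

theorem beta_reflect_mul_pow (q : R[X]) (N : ℕ) (hq : q.natDegree ≤ N) :
    algebraMap R[X] L (reflect N q) * ψ X ^ N = ψ q := by
  letI : Invertible (ψ X) := ⟨algebraMap R[X] L X, by rw [mul_comm]; exact hψ, hψ⟩
  have h := eval₂_reflect_mul_pow (algebraMap R L) (ψ X) N q hq
  have h1 : ∀ p : R[X], eval₂ (algebraMap R L) (ψ X) p = ψ p := by
    intro p
    rw [← aeval_def, aeval_algHom_apply, aeval_X_left_apply]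
  have h2 : ∀ p : R[X], eval₂ (algebraMap R L) (algebraMap R[X] L X) p = algebraMap R[X] L p := by
    intro p
    have := aeval_algHom_apply (IsScalarTower.toAlgHom R R[X] L) (X : R[X]) p
    rw [aeval_X_left_apply] at this
    rw [← aeval_def]
    exact this
  rw [h1] at h
  rw [← h, ← h2]
  rfl

end reflect

section dist
variable {R : Type u} [CommRing R] [IsLocalRing R]

theorem coeff_mem_of_oneMod {f : R[X]}
    (hf : f - 1 ∈ (IsLocalRing.maximalIdeal R).map (C : R →+* R[X])) (i : ℕ) (hi : i ≠ 0) :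
    f.coeff i ∈ IsLocalRing.maximalIdeal R := by
  have := (Ideal.mem_map_C_iff.mp hf) i
  rwa [coeff_sub, coeff_one, if_neg hi, sub_zero] at this

theorem isUnit_coeff_zero_of_oneMod {f : R[X]}
    (hf : f - 1 ∈ (IsLocalRing.maximalIdeal R).map (C : R →+* R[X])) : IsUnit (f.coeff 0) := by
  have := (Ideal.mem_map_C_iff.mp hf) 0
  rw [coeff_sub, coeff_one_zero] at this
  by_contra hcon
  have h1 : f.coeff 0 ∈ IsLocalRing.maximalIdeal R := (IsLocalRing.mem_maximalIdeal _).mpr hcon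
  have h2 := Ideal.sub_mem _ h1 this
  rw [sub_sub_cancel] at h2
  exact (Ideal.ne_top_iff_one _).mp (IsLocalRing.maximalIdeal.isMaximal R).ne_top h2

/-- (R2) -/
theorem dist_of_oneMod {f : R[X]}
    (hf : f - 1 ∈ (IsLocalRing.maximalIdeal R).map (C : R →+* R[X])) :
    ∃ (u : Rˣ) (P : R[X]), (u : R) = f.coeff 0 ∧ IsDist P ∧ P.natDegree = f.natDegree ∧
      P = C ((u⁻¹ : Rˣ) : R) * reflect f.natDegree f := by
  obtain ⟨u, hu⟩ := isUnit_coeff_zero_of_oneMod hf
  set d := f.natDegree with hd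
  set P : R[X] := C ((u⁻¹ : Rˣ) : R) * reflect d f with hP
  have hcoeff : ∀ i, P.coeff i = ((u⁻¹ : Rˣ) : R) * f.coeff (revAt d i) := by
    intro i
    rw [hP, coeff_C_mul, coeff_reflect]
  have hle : P.natDegree ≤ d := by
    rw [natDegree_le_iff_coeff_eq_zero]
    intro i hi
    rw [hcoeff, revAt_eq_self_of_lt hi, coeff_eq_zero_of_natDegree_lt hi, mul_zero]
  have h1 : P.coeff d = 1 := by
    rw [hcoeff, revAt_le le_rfl, Nat.sub_self, ← hu]
    simp
  have hmonic : P.Monic := monic_of_natDegree_le_of_coeff_eq_one d hle h1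
  have hdeg : P.natDegree = d := by
    refine le_antisymm hle (le_natDegree_of_ne_zero ?_)
    rw [h1]; exact one_ne_zero
  refine ⟨u, P, hu, ⟨hmonic, fun i hi => ?_⟩, hdeg, rfl⟩
  rw [hdeg] at hi
  rw [hcoeff, revAt_le hi.le]
  exact Ideal.mul_mem_left _ _ (coeff_mem_of_oneMod hf _ (by omega))

/-- (R3) -/
theorem oneMod_of_dist {P : R[X]} (hP : IsDist P) :
    reflect P.natDegree P - 1 ∈ (IsLocalRing.maximalIdeal R).map (C : R →+* R[X]) := by
  rw [Ideal.mem_map_C_iff]
  intro i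
  rw [coeff_sub, coeff_reflect, coeff_one]
  by_cases hi0 : i = 0
  · subst hi0
    rw [revAt_zero, if_pos rfl, hP.1.coeff_natDegree, sub_self]
    exact zero_mem _
  · rw [if_neg hi0, sub_zero]
    by_cases hi : i ≤ P.natDegree
    · rw [revAt_le hi]
      exact hP.2 _ (by omega)
    · rw [revAt_eq_self_of_lt (by omega), coeff_eq_zero_of_natDegree_lt (by omega)]
      exact zero_mem _

end dist

section abstract
variable {R : Type u} [CommRing R] [IsLocalRing R]
variable {L : Type u} [CommRing L] [Algebra R[X] L] [Algebra R L] [IsScalarTower R R[X] L]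
variable (ψ : R[X] →ₐ[R] L) (hψ : ψ X * algebraMap R[X] L X = 1)
variable (k1 : ∀ P : R[X], IsDist P → ∀ l : L, ∃ (q : R[X]) (k : ℕ),
    algebraMap R[X] L X ^ k * l - algebraMap R[X] L q ∈ Ideal.span {algebraMap R[X] L P})
variable (k2 : ∀ P : R[X], IsDist P → ∀ q : R[X],
    algebraMap R[X] L q ∈ Ideal.span {algebraMap R[X] L P} → ∃ N : ℕ, X ^ N * q ∈ Ideal.span {P})
include hψ

/-- the ideals `(ψ f)` and `(β P)` agree. -/
theorem span_psi_eq {f : R[X]} {u : Rˣ} {P : R[X]}
    (hPf : P = C ((u⁻¹ : Rˣ) : R) * reflect f.natDegree f) :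
    Ideal.span {algebraMap R[X] L P} = Ideal.span {ψ f} := by
  have h1 := beta_reflect_mul_pow ψ hψ f f.natDegree le_rfl
  have ht : IsUnit (algebraMap R[X] L X) := IsUnit.of_mul_eq_one _ (by rw [mul_comm]; exact hψ)
  have hs : IsUnit (ψ X) := IsUnit.of_mul_eq_one _ hψ
  have h2 : algebraMap R[X] L P =
      ψ f * (algebraMap R L ((u⁻¹ : Rˣ) : R) * algebraMap R[X] L X ^ f.natDegree) := by
    rw [hPf, map_mul, ← h1, IsScalarTower.algebraMap_apply R R[X] L, Polynomial.algebraMap_apply,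
      Algebra.algebraMap_self_apply]
    have : ψ X ^ f.natDegree * algebraMap R[X] L X ^ f.natDegree = 1 := by
      rw [← mul_pow, hψ, one_pow]
    calc _ = algebraMap R[X] L (C ((u⁻¹ : Rˣ) : R)) * algebraMap R[X] L (reflect f.natDegree f) *
        (ψ X ^ f.natDegree * algebraMap R[X] L X ^ f.natDegree) := by rw [this, mul_one]
      _ = _ := by ring
  rw [h2]
  refine Ideal.span_singleton_mul_right_unit (IsUnit.mul ?_ (ht.pow _)) _
  exact (Units.isUnit (u⁻¹)).map (algebraMap R L)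

include k1 in
/-- (H1s) -/
theorem h1s {f : R[X]} (hf : f - 1 ∈ (IsLocalRing.maximalIdeal R).map (C : R →+* R[X])) (l : L) :
    ∃ x : R[X], ψ x - l ∈ Ideal.span {ψ f} := by
  obtain ⟨u, P, hu, hP, hdeg, hPf⟩ := dist_of_oneMod hf
  have hspan := span_psi_eq ψ hψ hPf
  obtain ⟨q, k, hqk⟩ := k1 P hP l
  rw [hspan] at hqk
  set 𝔠 : Ideal L := Ideal.span {ψ f} with h𝔠
  set t : L := algebraMap R[X] L X with ht
  set e := q.natDegree with he
  set h : R[X] := -(C ((u⁻¹ : Rˣ) : R) * divX f) with hh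
  -- `t ≡ ψ h`
  have hth : t - ψ h ∈ 𝔠 := by
    have hf0 : f = divX f * X + C (u : R) := by rw [hu]; exact (divX_mul_X_add f).symm
    have hC : ∀ r : R, ψ (C r) = algebraMap R L r := fun r => by
      have := ψ.commutes r
      rwa [Polynomial.algebraMap_eq] at this
    have h1 : t - ψ h = (t * algebraMap R L ((u⁻¹ : Rˣ) : R)) * ψ f := by
      conv_rhs => rw [hf0]
      rw [hh, map_neg, map_mul, map_add, map_mul, hC, hC]
      have h2 : algebraMap R L ((u⁻¹ : Rˣ) : R) * algebraMap R L (u : R) = 1 := by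
        rw [← map_mul]; simp
      have h3 : t * ψ X = 1 := by rw [mul_comm]; exact hψ
      calc t - -(algebraMap R L ((u⁻¹ : Rˣ) : R) * ψ (divX f))
          = t * (algebraMap R L ((u⁻¹ : Rˣ) : R) * algebraMap R L (u : R)) +
            (t * ψ X) * (algebraMap R L ((u⁻¹ : Rˣ) : R) * ψ (divX f)) := by
            rw [h2, h3]; ring
        _ = _ := by ring
    rw [h1]
    exact Ideal.mul_mem_left _ _ (Ideal.mem_span_singleton_self _)
  refine ⟨X ^ k * h ^ e * reflect e q, ?_⟩
  have hβq := psi_reflect_mul_pow ψ hψ q e le_rfl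
  rw [← Ideal.Quotient.eq] at hth hqk ⊢
  calc Ideal.Quotient.mk 𝔠 (ψ (X ^ k * h ^ e * reflect e q))
      = Ideal.Quotient.mk 𝔠 (ψ X) ^ k * Ideal.Quotient.mk 𝔠 (ψ h) ^ e *
          Ideal.Quotient.mk 𝔠 (ψ (reflect e q)) := by simp only [map_mul, map_pow]
    _ = Ideal.Quotient.mk 𝔠 (ψ X) ^ k * Ideal.Quotient.mk 𝔠 t ^ e *
          Ideal.Quotient.mk 𝔠 (ψ (reflect e q)) := by rw [hth]
    _ = Ideal.Quotient.mk 𝔠 (ψ X) ^ k * Ideal.Quotient.mk 𝔠 (ψ (reflect e q) * t ^ e) := by
        simp only [map_mul, map_pow]; ring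
    _ = Ideal.Quotient.mk 𝔠 (ψ X) ^ k * Ideal.Quotient.mk 𝔠 (t ^ k * l) := by rw [hβq, hqk]
    _ = Ideal.Quotient.mk 𝔠 ((ψ X * t) ^ k * l) := by simp only [map_mul, map_pow]; ring
    _ = Ideal.Quotient.mk 𝔠 l := by rw [hψ, one_pow, one_mul]

include k2 in
/-- (H1i) -/
theorem h1i {f : R[X]} (hf : f - 1 ∈ (IsLocalRing.maximalIdeal R).map (C : R →+* R[X]))
    (x : R[X]) (hx : ψ x ∈ Ideal.span {ψ f}) : x ∈ Ideal.span {f} := by
  obtain ⟨u, P, hu, hP, hdeg, hPf⟩ := dist_of_oneMod hf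
  have hspan := span_psi_eq ψ hψ hPf
  set d := f.natDegree with hd
  set e := max x.natDegree d with he
  have h1 := beta_reflect_mul_pow ψ hψ x e (le_max_left _ _)
  have h2 : algebraMap R[X] L (reflect e x) ∈ Ideal.span {algebraMap R[X] L P} := by
    rw [hspan]
    have : algebraMap R[X] L (reflect e x) = ψ x * algebraMap R[X] L X ^ e := by
      rw [← h1, mul_assoc, ← mul_pow, hψ, one_pow, mul_one]
    rw [this]
    exact Ideal.mul_mem_right _ _ hx
  obtain ⟨N, hN⟩ := k2 P hP _ h2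
  obtain ⟨w, hw⟩ := Ideal.mem_span_singleton.mp hN
  by_cases hw0 : w = 0
  · rw [hw0, mul_zero] at hw
    have h3 : reflect e x = 0 := by
      have := (monic_X_pow (R := R) N).isRegular.left
      exact this (show X ^ N * reflect e x = X ^ N * 0 by rw [hw, mul_zero])
    rw [reflect_eq_zero_iff.mp h3]
    exact zero_mem _
  set W := N + e - d with hW
  have hNe : N + e = d + W := by
    have : d ≤ e := le_max_right _ _
    omega
  have hwdeg : w.natDegree ≤ W := by
    have h3 : (P * w).natDegree = d + w.natDegree := by rw [hP.1.natDegree_mul' hw0, hdeg]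
    have h4 : (X ^ N * reflect e x).natDegree ≤ N + e := by
      refine (natDegree_mul_le).trans (add_le_add (natDegree_X_pow_le N) ?_)
      refine natDegree_reflect_le.trans ?_
      rw [max_eq_left (le_max_left _ _)]
    rw [hw, h3] at h4
    omega
  have h5 : reflect (N + e) (X ^ N * reflect e x) = x := by
    rw [reflect_mul _ _ (natDegree_X_pow_le N)
      (natDegree_reflect_le.trans (by rw [max_eq_left (le_max_left _ _)])),
      reflect_monomial, revAt_le le_rfl, Nat.sub_self, pow_zero, one_mul, reflect_reflect]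
  have h6 : reflect (d + W) (P * w) = C ((u⁻¹ : Rˣ) : R) * f * reflect W w := by
    rw [reflect_mul _ _ hdeg.le hwdeg, hPf, reflect_C_mul, reflect_reflect]
  rw [hw, hNe, h6] at h5
  rw [← h5, Ideal.mem_span_singleton]
  exact ⟨C ((u⁻¹ : Rˣ) : R) * reflect W w, by ring⟩

variable (k3 : ∀ J : Ideal L, J ⊔ (IsLocalRing.maximalIdeal R).map (algebraMap R L) = ⊤ →
    ∃ P : R[X], IsDist P ∧ algebraMap R[X] L P ∈ J)

omit hψ in
theorem map_psi_map_C (ψ : R[X] →ₐ[R] L) :
    ((IsLocalRing.maximalIdeal R).map (C : R →+* R[X])).map ψ.toRingHom =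
      (IsLocalRing.maximalIdeal R).map (algebraMap R L) := by
  rw [Ideal.map_map]
  congr 1
  ext r
  have := ψ.commutes r
  rw [Polynomial.algebraMap_eq] at this
  simpa using this

omit hψ in
theorem exists_oneMod_of_sup {I : Ideal R[X]}
    (hI : I ⊔ (IsLocalRing.maximalIdeal R).map (C : R →+* R[X]) = ⊤) :
    ∃ f ∈ I, f - 1 ∈ (IsLocalRing.maximalIdeal R).map (C : R →+* R[X]) := by
  have h1 : (1 : R[X]) ∈ I ⊔ (IsLocalRing.maximalIdeal R).map (C : R →+* R[X]) := by
    rw [hI]; trivial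
  obtain ⟨y, hy, z, hz, hyz⟩ := Submodule.mem_sup.mp h1
  refine ⟨y, hy, ?_⟩
  have : y - 1 = -z := by rw [← hyz]; ring
  rw [this]
  exact neg_mem hz

omit hψ in
theorem sup_eq_top_of_oneMod {I : Ideal R[X]} {f : R[X]} (hfI : f ∈ I)
    (hf : f - 1 ∈ (IsLocalRing.maximalIdeal R).map (C : R →+* R[X])) :
    I ⊔ (IsLocalRing.maximalIdeal R).map (C : R →+* R[X]) = ⊤ := by
  rw [Ideal.eq_top_iff_one]
  have : (1 : R[X]) = f + -(f - 1) := by ring
  rw [this]
  exact Submodule.add_mem_sup hfI (neg_mem hf)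

omit hψ in
theorem sup_eq_top_of_oneMod' {J : Ideal L} {f : R[X]} (hfJ : ψ f ∈ J)
    (hf : f - 1 ∈ (IsLocalRing.maximalIdeal R).map (C : R →+* R[X])) :
    J ⊔ (IsLocalRing.maximalIdeal R).map (algebraMap R L) = ⊤ := by
  rw [Ideal.eq_top_iff_one]
  have : (1 : L) = ψ f + -(ψ (f - 1)) := by rw [map_sub, map_one]; ring
  rw [this]
  refine Submodule.add_mem_sup hfJ (neg_mem ?_)
  rw [← map_psi_map_C ψ]
  exact Ideal.mem_map_of_mem ψ.toRingHom hf

include k1 k2 in
theorem partA (I : Ideal R[X])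
    (hI : I ⊔ (IsLocalRing.maximalIdeal R).map (algebraMap R R[X]) = ⊤) :
    (I.map ψ.toRingHom).comap ψ.toRingHom = I ∧
    I.map ψ.toRingHom ⊔ (IsLocalRing.maximalIdeal R).map (algebraMap R L) = ⊤ ∧
    Function.Bijective (Ideal.quotientMap (I.map ψ.toRingHom) ψ.toRingHom Ideal.le_comap_map) := by
  rw [Polynomial.algebraMap_eq] at hI
  obtain ⟨f, hfI, hf⟩ := exists_oneMod_of_sup hI
  have hspanI : Ideal.span {ψ f} ≤ I.map ψ.toRingHom := by
    rw [Ideal.span_le, Set.singleton_subset_iff]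
    exact Ideal.mem_map_of_mem ψ.toRingHom hfI
  have hA1 : (I.map ψ.toRingHom).comap ψ.toRingHom = I := by
    refine le_antisymm ?_ Ideal.le_comap_map
    intro x hx
    rw [Ideal.mem_comap] at hx
    have key : ∀ z ∈ I.map ψ.toRingHom, ∃ y ∈ I, ψ y - z ∈ Ideal.span {ψ f} := by
      intro z hz
      refine Submodule.span_induction (p := fun z _ => ∃ y ∈ I, ψ y - z ∈ Ideal.span {ψ f})
        ?_ ?_ ?_ ?_ hz
      · rintro _ ⟨y, hy, rfl⟩
        exact ⟨y, hy, by simp⟩
      · exact ⟨0, zero_mem _, by simp⟩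
      · rintro a b _ _ ⟨ya, hya, ha⟩ ⟨yb, hyb, hb⟩
        refine ⟨ya + yb, add_mem hya hyb, ?_⟩
        have : ψ (ya + yb) - (a + b) = (ψ ya - a) + (ψ yb - b) := by rw [map_add]; ring
        rw [this]
        exact add_mem ha hb
      · rintro l a _ ⟨ya, hya, ha⟩
        obtain ⟨xl, hxl⟩ := h1s ψ hψ k1 hf l
        refine ⟨xl * ya, Ideal.mul_mem_left _ _ hya, ?_⟩
        have : ψ (xl * ya) - l • a = ψ xl * (ψ ya - a) + a * (ψ xl - l) := by
          rw [map_mul, smul_eq_mul]; ring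
        rw [this]
        exact add_mem (Ideal.mul_mem_left _ _ ha) (Ideal.mul_mem_left _ _ hxl)
    obtain ⟨y, hy, hyx⟩ := key _ hx
    have h1 : ψ (y - x) ∈ Ideal.span {ψ f} := by rwa [map_sub]
    have h2 := h1i ψ hψ k2 hf _ h1
    have h3 : y - x ∈ I := (Ideal.span_le.mpr (Set.singleton_subset_iff.mpr hfI)) h2
    have : x = y - (y - x) := by ring
    rw [this]
    exact sub_mem hy h3
  refine ⟨hA1, sup_eq_top_of_oneMod' ψ (Ideal.mem_map_of_mem ψ.toRingHom hfI) hf, ?_, ?_⟩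
  · exact Ideal.quotientMap_injective' hA1.le
  · intro z
    obtain ⟨l, rfl⟩ := Ideal.Quotient.mk_surjective z
    obtain ⟨x, hx⟩ := h1s ψ hψ k1 hf l
    refine ⟨Ideal.Quotient.mk _ x, ?_⟩
    rw [Ideal.quotientMap_mk, Ideal.Quotient.eq]
    exact hspanI hx

include k1 k3 in
theorem partB (J : Ideal L)
    (hJ : J ⊔ (IsLocalRing.maximalIdeal R).map (algebraMap R L) = ⊤) :
    (J.comap ψ.toRingHom).map ψ.toRingHom = J ∧
    J.comap ψ.toRingHom ⊔ (IsLocalRing.maximalIdeal R).map (algebraMap R R[X]) = ⊤ := by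
  rw [Polynomial.algebraMap_eq]
  obtain ⟨P, hP, hPJ⟩ := k3 J hJ
  set d := P.natDegree with hd
  set f := reflect d P with hfdef
  have hf : f - 1 ∈ (IsLocalRing.maximalIdeal R).map (C : R →+* R[X]) := oneMod_of_dist hP
  have hfJ : ψ f ∈ J := by
    have hdeg : f.natDegree ≤ d := by
      refine natDegree_reflect_le.trans ?_
      rw [max_self]
    have := beta_reflect_mul_pow ψ hψ f d hdeg
    rw [hfdef, reflect_reflect] at this
    rw [hfdef, ← this]
    exact Ideal.mul_mem_right _ _ hPJ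
  have hfc : f ∈ J.comap ψ.toRingHom := hfJ
  refine ⟨le_antisymm Ideal.map_comap_le ?_, sup_eq_top_of_oneMod hfc hf⟩
  intro l hl
  obtain ⟨x, hx⟩ := h1s ψ hψ k1 hf l
  have hspanJ : Ideal.span {ψ f} ≤ J := by
    rw [Ideal.span_le, Set.singleton_subset_iff]; exact hfJ
  have hspanM : Ideal.span {ψ f} ≤ (J.comap ψ.toRingHom).map ψ.toRingHom := by
    rw [Ideal.span_le, Set.singleton_subset_iff]
    exact Ideal.mem_map_of_mem ψ.toRingHom hfc
  have hxJ : ψ x ∈ J := by
    have : ψ x = (ψ x - l) + l := by ring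
    rw [this]
    exact add_mem (hspanJ hx) hl
  have hxM : ψ x ∈ (J.comap ψ.toRingHom).map ψ.toRingHom :=
    Ideal.mem_map_of_mem ψ.toRingHom (show x ∈ J.comap ψ.toRingHom from hxJ)
  have : l = ψ x - (ψ x - l) := by ring
  rw [this]
  exact sub_mem hxM (hspanM hx)

include k1 k2 k3 in
theorem ideal_corr :
    (∀ I : Ideal R[X], I ⊔ (IsLocalRing.maximalIdeal R).map (algebraMap R R[X]) = ⊤ →
        (I.map ψ.toRingHom).comap ψ.toRingHom = I ∧
        I.map ψ.toRingHom ⊔ (IsLocalRing.maximalIdeal R).map (algebraMap R L) = ⊤ ∧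
        Function.Bijective (Ideal.quotientMap (I.map ψ.toRingHom) ψ.toRingHom Ideal.le_comap_map)) ∧
    (∀ J : Ideal L, J ⊔ (IsLocalRing.maximalIdeal R).map (algebraMap R L) = ⊤ →
        (J.comap ψ.toRingHom).map ψ.toRingHom = J ∧
        J.comap ψ.toRingHom ⊔ (IsLocalRing.maximalIdeal R).map (algebraMap R R[X]) = ⊤) :=
  ⟨fun I hI => partA ψ hψ k1 k2 I hI, fun J hJ => partB ψ hψ k1 k3 J hJ⟩

end abstract

section hens
variable {R : Type u} [CommRing R] [HenselianLocalRing R]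
variable (B : Type u) [CommRing B] [Algebra R B] [Algebra R[X] B] [IsScalarTower R R[X] B]
variable (hB : Hens2.IsPairHenselization R[X] (Ideal.span {(X : R[X])}) B)
variable (L : Type u) [CommRing L] [Algebra B L] [IsLocalization.Away (algebraMap R[X] B X) L]
variable [Algebra R[X] L] [IsScalarTower R[X] B L] [Algebra R L] [IsScalarTower R B L]
include hB

theorem hens_k1 (P : R[X]) (hP : IsDist P) (l : L) : ∃ (q : R[X]) (k : ℕ),
    algebraMap R[X] L X ^ k * l - algebraMap R[X] L q ∈ Ideal.span {algebraMap R[X] L P} := by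
  obtain ⟨n, a, hna⟩ := IsLocalization.Away.surj (algebraMap R[X] B X) l
  obtain ⟨hs, -⟩ := bij_of_factor B hB (algebraMap R[X] B P) P 1 hP (by simp)
  obtain ⟨q, hq⟩ := hs a
  obtain ⟨c, hc⟩ := Ideal.mem_span_singleton'.mp hq
  refine ⟨q, n, ?_⟩
  rw [Ideal.mem_span_singleton']
  refine ⟨-algebraMap B L c, ?_⟩
  have h1 : algebraMap B L (c * algebraMap R[X] B P) =
      algebraMap B L (algebraMap R[X] B q - a) := by rw [hc]
  rw [map_mul, map_sub, ← hna, ← IsScalarTower.algebraMap_apply,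
    ← IsScalarTower.algebraMap_apply, ← IsScalarTower.algebraMap_apply] at h1
  rw [neg_mul, h1]
  ring

theorem hens_k2 (P : R[X]) (hP : IsDist P) (q : R[X])
    (hq : algebraMap R[X] L q ∈ Ideal.span {algebraMap R[X] L P}) :
    ∃ N : ℕ, X ^ N * q ∈ Ideal.span {P} := by
  obtain ⟨l, hl⟩ := Ideal.mem_span_singleton'.mp hq
  obtain ⟨n, a, hna⟩ := IsLocalization.Away.surj (algebraMap R[X] B X) l
  obtain ⟨-, hi⟩ := bij_of_factor B hB (algebraMap R[X] B P) P 1 hP (by simp)
  have h1 : algebraMap B L (algebraMap R[X] B q * algebraMap R[X] B X ^ n) =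
      algebraMap B L (a * algebraMap R[X] B P) := by
    rw [map_mul, map_mul, ← hna, map_pow, ← IsScalarTower.algebraMap_apply,
      ← IsScalarTower.algebraMap_apply, ← IsScalarTower.algebraMap_apply, ← hl]
    ring
  obtain ⟨m, hm⟩ := IsLocalization.Away.exists_of_eq (algebraMap R[X] B X) h1
  refine ⟨m + n, hi _ ?_⟩
  rw [Ideal.mem_span_singleton']
  refine ⟨algebraMap R[X] B X ^ m * a, ?_⟩
  rw [mul_assoc, ← hm, map_mul, map_pow, pow_add]
  ring

theorem hens_k3 (J : Ideal L)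
    (hJ : J ⊔ (IsLocalRing.maximalIdeal R).map (algebraMap R L) = ⊤) :
    ∃ P : R[X], IsDist P ∧ algebraMap R[X] L P ∈ J := by
  have h1 : (1 : L) ∈ J ⊔ (IsLocalRing.maximalIdeal R).map (algebraMap R L) := by
    rw [hJ]; trivial
  obtain ⟨j, hj, z, hz, hjz⟩ := Submodule.mem_sup.mp h1
  have hmap : (IsLocalRing.maximalIdeal R).map (algebraMap R L) =
      ((IsLocalRing.maximalIdeal R).map (algebraMap R B)).map (algebraMap B L) := by
    rw [Ideal.map_map, IsScalarTower.algebraMap_eq R B L]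
  rw [hmap, IsLocalization.mem_map_algebraMap_iff (Submonoid.powers (algebraMap R[X] B X)) L] at hz
  obtain ⟨⟨⟨g, hg⟩, ⟨s, n, rfl⟩⟩, hgs⟩ := hz
  simp only at hgs
  obtain ⟨P, v, hP, hv, hPv⟩ := exists_dist B hB n (-g) (neg_mem hg)
  refine ⟨P, hP, ?_⟩
  rw [IsScalarTower.algebraMap_apply R[X] B L, hPv, map_mul]
  refine Ideal.mul_mem_right _ _ ?_
  have : algebraMap B L (algebraMap R[X] B X ^ n + -g) =
      j * algebraMap B L (algebraMap R[X] B X ^ n) := by
    rw [map_add, map_neg, ← hgs]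
    have : j = 1 - z := by rw [← hjz]; ring
    rw [this]; ring
  rw [this]
  exact Ideal.mul_mem_right _ _ hj

end hens

end Groth.Agent.Lib.H94WeierIdeal
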