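/-
Helper library (helper94): polynomial Weierstrass preparation over a henselian local ring
(`poly_weierstrass`), invertibility of polynomials with unit constant term modulo a distinguished
polynomial (`unit_mod_dist`), and the hypotheses `k1 k2 k3` of `H94WeierIdeal.ideal_corr` for the
localisation of `R[t]` at the monoid generated by `t` and `1 + tR[t]` (`zar_k1`, `zar_k2`, `zar_k3`).
-/
import Mathlib
import Groth.Agent.Lib.H94Weierstrass
import Groth.Agent.Lib.H94WeierIdeal
set_option autoImplicit false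
set_option maxHeartbeats 400000
set_option linter.style.haveILetI false
set_option linter.unusedSectionVars false
open Polynomial

namespace Groth.Agent.Lib.H94WeierZariski
universe u

open Groth.Agent.Lib Groth.Agent.Lib.H94Weierstrass Groth.Agent.Lib.H94WeierIdeal


section aux
variable {R : Type u} [CommRing R] [HenselianLocalRing R]
variable (B : Type u) [CommRing B] [Algebra R B] [Algebra R[X] B] [IsScalarTower R R[X] B]
variable (hB : Hens2.IsPairHenselization R[X] (Ideal.span {(X : R[X])}) B)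
include hB

theorem not_mem_of_coeff {G : R[X]} {k : ℕ} (hk : G.coeff k ∉ IsLocalRing.maximalIdeal R) :
    algebraMap R[X] B G ∉ Ideal.span {algebraMap R[X] B X ^ (k + 1)} ⊔
      (IsLocalRing.maximalIdeal R).map (algebraMap R B) := by
  intro h
  exact hk (coeff_mem_of_mem B hB (k + 1) G h k (Nat.lt_succ_self k))

/-- polynomials with unit constant term become units in `R{t}` -/
theorem isUnit_alg_of_coeff_zero {σ : R[X]} (hσ : IsUnit (σ.coeff 0)) :
    IsUnit (algebraMap R[X] B σ) := by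
  apply isUnit_of_not_mem B hB
  have := not_mem_of_coeff B hB (G := σ) (k := 0)
    (fun h => (IsLocalRing.mem_maximalIdeal _).mp h hσ)
  rwa [zero_add, pow_one] at this

/-- (F2) -/
theorem unit_mod_dist_aux (P : R[X]) (hP : IsDist P) (σ : R[X]) (hσ : IsUnit (σ.coeff 0)) :
    ∃ c : R[X], σ * c - 1 ∈ Ideal.span {P} := by
  obtain ⟨v, hv⟩ := isUnit_alg_of_coeff_zero B hB hσ
  obtain ⟨hs, hi⟩ := bij_of_factor B hB (algebraMap R[X] B P) P 1 hP (by simp)
  obtain ⟨c, hc⟩ := hs ((v⁻¹ : Bˣ) : B)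
  refine ⟨c, hi _ ?_⟩
  have : algebraMap R[X] B (σ * c - 1) =
      algebraMap R[X] B σ * (algebraMap R[X] B c - ((v⁻¹ : Bˣ) : B)) := by
    rw [map_sub, map_mul, map_one, mul_sub, ← hv, Units.mul_inv]
  rw [this]
  exact Ideal.mul_mem_left _ _ hc

/-- polynomial Weierstrass preparation -/
theorem poly_weierstrass_aux (G : R[X])
    (hG : G ∉ (IsLocalRing.maximalIdeal R).map (C : R →+* R[X])) :
    ∃ P U : R[X], IsDist P ∧ IsUnit (U.coeff 0) ∧ G = P * U := by
  have hk : ∃ k, G.coeff k ∉ IsLocalRing.maximalIdeal R := by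
    by_contra hcon
    push Not at hcon
    exact hG (Ideal.mem_map_C_iff.mpr hcon)
  obtain ⟨k, hk⟩ := hk
  have hG' : algebraMap R[X] B G ∉ (IsLocalRing.maximalIdeal R).map (algebraMap R B) :=
    fun h => not_mem_of_coeff B hB hk (Ideal.mem_sup_right h)
  obtain ⟨⟨⟨P, u⟩, ⟨hmonic, hcoeff, hfac⟩, -⟩, -⟩ := main B hB _ hG'
  simp only at hmonic hcoeff hfac
  have hP : IsDist P := ⟨hmonic, hcoeff⟩
  obtain ⟨-, hi⟩ := bij_of_factor B hB (algebraMap R[X] B P) P 1 hP (by simp)
  have hdiv := modByMonic_add_div G P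
  have hr : G %ₘ P ∈ Ideal.span {P} := by
    apply hi
    have : algebraMap R[X] B (G %ₘ P) =
        algebraMap R[X] B P * ((u : B) - algebraMap R[X] B (G /ₘ P)) := by
      have h1 : algebraMap R[X] B G = algebraMap R[X] B (G %ₘ P) +
          algebraMap R[X] B P * algebraMap R[X] B (G /ₘ P) := by
        rw [← map_mul, ← map_add, hdiv]
      rw [mul_sub, ← hfac, h1]; ring
    rw [this]
    exact Ideal.mul_mem_right _ _ (Ideal.mem_span_singleton_self _)
  have hdvd : P ∣ G := by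
    rw [← hdiv]
    exact dvd_add (Ideal.mem_span_singleton.mp hr) (dvd_mul_right _ _)
  have hr0 : G %ₘ P = 0 := (modByMonic_eq_zero_iff_dvd hmonic).mpr hdvd
  rw [hr0, zero_add] at hdiv
  refine ⟨P, G /ₘ P, hP, ?_, hdiv.symm⟩
  -- `alg (G /ₘ P) = u`
  haveI : Module.Flat R[X] B := PairHenselization.flat_of_isPairHenselization hB
  have hreg : IsSMulRegular B (algebraMap R[X] B P) :=
    IsSMulRegular.of_flat (hmonic.isRegular.left.isSMulRegular)
  have hu : algebraMap R[X] B (G /ₘ P) = (u : B) := by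
    refine hreg ?_
    show algebraMap R[X] B P • algebraMap R[X] B (G /ₘ P) = algebraMap R[X] B P • (u : B)
    rw [smul_eq_mul, smul_eq_mul, ← hfac, ← map_mul, hdiv]
  obtain ⟨g, hg0, hgr⟩ := exists_residue_hom B hB
  have hcomp : ∀ q : R[X], g (algebraMap R[X] B q) = IsLocalRing.residue R (q.coeff 0) := by
    intro q
    have h1 : (g : B →+* _).comp (algebraMap R[X] B) =
        (eval₂RingHom (IsLocalRing.residue R) 0) := by
      apply Polynomial.ringHom_ext
      · intro r
        simp only [RingHom.comp_apply, coe_eval₂RingHom, eval₂_C]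
        rw [← Polynomial.algebraMap_eq, ← IsScalarTower.algebraMap_apply R R[X] B]
        exact hgr r
      · simp only [RingHom.comp_apply, coe_eval₂RingHom, eval₂_X]
        exact hg0
    have h2 := congrArg (fun φ => φ q) h1
    simp only [RingHom.comp_apply, coe_eval₂RingHom, eval₂_at_zero] at h2
    exact h2
  have h3 : IsUnit (IsLocalRing.residue R ((G /ₘ P).coeff 0)) := by
    rw [← hcomp, hu]
    exact (Units.isUnit u).map g
  by_contra hcon
  have h4 : (G /ₘ P).coeff 0 ∈ IsLocalRing.maximalIdeal R :=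
    (IsLocalRing.mem_maximalIdeal _).mpr hcon
  rw [(IsLocalRing.residue_eq_zero_iff _).mpr h4] at h3
  exact not_isUnit_zero h3

end aux

section exist
variable (R : Type u) [CommRing R]

theorem exists_hens : ∃ (B : Type u) (_ : CommRing B) (_ : Algebra R B) (_ : Algebra R[X] B)
    (_ : IsScalarTower R R[X] B), Hens2.IsPairHenselization R[X] (Ideal.span {(X : R[X])}) B := by
  let B := PairHenselization.Hzn2 R[X] (Ideal.span {(X : R[X])})
  letI : Algebra R B := ((algebraMap R[X] B).comp (C : R →+* R[X])).toAlgebra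
  haveI : IsScalarTower R R[X] B := IsScalarTower.of_algebraMap_eq (fun r => rfl)
  exact ⟨B, inferInstance, inferInstance, inferInstance, inferInstance,
    PairHenselization.isPairHenselization _ _⟩

end exist

section zar
variable {R : Type u} [CommRing R] [HenselianLocalRing R]

theorem unit_mod_dist (P : R[X]) (hP : IsDist P) (σ : R[X]) (hσ : IsUnit (σ.coeff 0)) :
    ∃ c : R[X], σ * c - 1 ∈ Ideal.span {P} := by
  obtain ⟨B, _, _, _, _, hB⟩ := exists_hens R
  exact unit_mod_dist_aux B hB P hP σ hσ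

theorem poly_weierstrass (G : R[X])
    (hG : G ∉ (IsLocalRing.maximalIdeal R).map (C : R →+* R[X])) :
    ∃ P U : R[X], IsDist P ∧ IsUnit (U.coeff 0) ∧ G = P * U := by
  obtain ⟨B, _, _, _, _, hB⟩ := exists_hens R
  exact poly_weierstrass_aux B hB G hG

/-- the multiplicative set -/
noncomputable abbrev S (R : Type u) [CommRing R] : Submonoid R[X] :=
  Submonoid.closure ({f : R[X] | f.coeff 0 = 1} ∪ {X})

omit [HenselianLocalRing R] in
/-- (F1) -/
theorem exists_of_mem_S {σ : R[X]} (hσ : σ ∈ S R) :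
    ∃ (k : ℕ) (σ₁ : R[X]), σ₁.coeff 0 = 1 ∧ σ = X ^ k * σ₁ := by
  induction hσ using Submonoid.closure_induction with
  | mem x hx =>
    rcases hx with hx | hx
    · exact ⟨0, x, hx, by simp⟩
    · rw [Set.mem_singleton_iff] at hx
      exact ⟨1, 1, by simp, by simp [hx]⟩
  | one => exact ⟨0, 1, by simp, by simp⟩
  | mul x y _ _ hx hy =>
    obtain ⟨k, a, ha, rfl⟩ := hx
    obtain ⟨l, b, hb, rfl⟩ := hy
    refine ⟨k + l, a * b, by rw [mul_coeff_zero, ha, hb, mul_one], by ring⟩

variable (L : Type u) [CommRing L] [Algebra R[X] L] [IsLocalization (S R) L]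
variable [Algebra R L] [IsScalarTower R R[X] L]

theorem zar_k1 (P : R[X]) (hP : IsDist P) (l : L) : ∃ (q : R[X]) (k : ℕ),
    algebraMap R[X] L X ^ k * l - algebraMap R[X] L q ∈ Ideal.span {algebraMap R[X] L P} := by
  obtain ⟨⟨a, ⟨σ, hσ⟩⟩, hl⟩ := IsLocalization.surj (S R) l
  simp only at hl
  obtain ⟨k, σ₁, hσ₁, rfl⟩ := exists_of_mem_S hσ
  obtain ⟨c, hc⟩ := unit_mod_dist P hP σ₁ (by rw [hσ₁]; exact isUnit_one)
  obtain ⟨w, hw⟩ := Ideal.mem_span_singleton'.mp hc
  refine ⟨a * c, k, ?_⟩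
  rw [Ideal.mem_span_singleton']
  refine ⟨-(algebraMap R[X] L X ^ k * l * algebraMap R[X] L w), ?_⟩
  have h1 : algebraMap R[X] L (σ₁ * c) = 1 + algebraMap R[X] L w * algebraMap R[X] L P := by
    rw [← map_mul, hw, map_sub, map_one]; ring
  rw [map_mul, map_pow] at hl
  rw [map_mul, ← hl]
  rw [map_mul] at h1
  linear_combination (algebraMap R[X] L X ^ k * l) * h1

theorem zar_k2 (P : R[X]) (hP : IsDist P) (q : R[X])
    (hq : algebraMap R[X] L q ∈ Ideal.span {algebraMap R[X] L P}) :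
    ∃ N : ℕ, X ^ N * q ∈ Ideal.span {P} := by
  obtain ⟨l, hl⟩ := Ideal.mem_span_singleton'.mp hq
  obtain ⟨⟨a, ⟨σ, hσ⟩⟩, hla⟩ := IsLocalization.surj (S R) l
  simp only at hla
  have h1 : algebraMap R[X] L (q * σ) = algebraMap R[X] L (a * P) := by
    rw [map_mul, map_mul, ← hla, ← hl]; ring
  obtain ⟨⟨τ, hτ⟩, hτe⟩ := (IsLocalization.eq_iff_exists (S R) L).mp h1
  simp only at hτe
  obtain ⟨N, σ₁, hσ₁, hN⟩ := exists_of_mem_S (mul_mem hτ hσ)
  obtain ⟨c, hc⟩ := unit_mod_dist P hP σ₁ (by rw [hσ₁]; exact isUnit_one)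
  obtain ⟨w, hw⟩ := Ideal.mem_span_singleton'.mp hc
  refine ⟨N, ?_⟩
  rw [Ideal.mem_span_singleton']
  refine ⟨c * τ * a - w * X ^ N * q, ?_⟩
  linear_combination (c * q) * hN - (X ^ N * q) * hw - c * hτe

theorem zar_k3 (J : Ideal L)
    (hJ : J ⊔ (IsLocalRing.maximalIdeal R).map (algebraMap R L) = ⊤) :
    ∃ P : R[X], IsDist P ∧ algebraMap R[X] L P ∈ J := by
  have h1 : (1 : L) ∈ J ⊔ (IsLocalRing.maximalIdeal R).map (algebraMap R L) := by
    rw [hJ]; trivial
  obtain ⟨j, hj, z, hz, hjz⟩ := Submodule.mem_sup.mp h1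
  have hmap : (IsLocalRing.maximalIdeal R).map (algebraMap R L) =
      ((IsLocalRing.maximalIdeal R).map (C : R →+* R[X])).map (algebraMap R[X] L) := by
    rw [Ideal.map_map, IsScalarTower.algebraMap_eq R R[X] L, Polynomial.algebraMap_eq]
  rw [hmap, IsLocalization.mem_map_algebraMap_iff (S R) L] at hz
  obtain ⟨⟨⟨g, hg⟩, ⟨σ, hσ⟩⟩, hgs⟩ := hz
  simp only at hgs
  obtain ⟨k, σ₁, hσ₁, rfl⟩ := exists_of_mem_S hσ
  set G : R[X] := X ^ k * σ₁ - g with hGdef
  have hGJ : algebraMap R[X] L G ∈ J := by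
    have : algebraMap R[X] L G = j * algebraMap R[X] L (X ^ k * σ₁) := by
      rw [hGdef, map_sub, ← hgs]
      have : j = 1 - z := by rw [← hjz]; ring
      rw [this]; ring
    rw [this]
    exact Ideal.mul_mem_right _ _ hj
  have hG : G ∉ (IsLocalRing.maximalIdeal R).map (C : R →+* R[X]) := by
    intro h
    have h2 := (Ideal.mem_map_C_iff.mp h) k
    have h3 := (Ideal.mem_map_C_iff.mp hg) k
    have h4 : G.coeff k = 1 - g.coeff k := by
      rw [hGdef, coeff_sub, coeff_X_pow_mul', if_pos le_rfl, Nat.sub_self, hσ₁]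
    rw [h4] at h2
    have h5 := Ideal.add_mem _ h2 h3
    rw [sub_add_cancel] at h5
    exact (Ideal.ne_top_iff_one _).mp (IsLocalRing.maximalIdeal.isMaximal R).ne_top h5
  obtain ⟨P, U, hP, hU, hGPU⟩ := poly_weierstrass G hG
  refine ⟨P, hP, ?_⟩
  obtain ⟨u₀, hu₀⟩ := hU
  set U₁ : R[X] := C ((u₀⁻¹ : Rˣ) : R) * U with hU₁
  have hU₁S : U₁ ∈ S R := by
    apply Submonoid.subset_closure
    left
    show U₁.coeff 0 = 1
    rw [hU₁, coeff_C_mul, ← hu₀]
    simp
  have hunit : IsUnit (algebraMap R[X] L U₁) := IsLocalization.map_units L ⟨U₁, hU₁S⟩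
  obtain ⟨v, hv⟩ := hunit
  have : algebraMap R[X] L P =
      algebraMap R[X] L G * (algebraMap R[X] L (C ((u₀⁻¹ : Rˣ) : R)) * ((v⁻¹ : Lˣ) : L)) := by
    rw [hGPU, map_mul]
    have : algebraMap R[X] L U * algebraMap R[X] L (C ((u₀⁻¹ : Rˣ) : R)) = (v : L) := by
      rw [hv, hU₁, map_mul]; ring
    calc algebraMap R[X] L P = algebraMap R[X] L P * ((v : L) * ((v⁻¹ : Lˣ) : L)) := by
          rw [Units.mul_inv, mul_one]
      _ = _ := by rw [← this]; ring
  rw [this]
  exact Ideal.mul_mem_right _ _ hGJ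

end zar

end Groth.Agent.Lib.H94WeierZariski
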