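import Groth.Agent.Lib.SubtrFamH52

set_option autoImplicit false
universe u
open CategoryTheory CategoryTheory.Limits AlgebraicGeometry IsLocalRing Topology

namespace Groth.Agent.Lib.HCoverSigmaH52

open Groth.Agent.Lib Groth.Agent.Lib.ValSpecialize Subtr HTop
  Groth.Agent.Lib.SubtrH52 Groth.Agent.Lib.HTopBasic Groth.Agent.Lib.SubtrFamH52

variable {X : Scheme.{u}}

/-- A family is a V covering as soon as, over every affine open `U`, valuation rings lift (after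
extension) to the coproduct with closed point landing in a fixed compact subset of the part of the
coproduct over `U`. -/
theorem isVCover_of_compact_lift (E : PreZeroHypercover.{u} X)
    (H : ∀ U : X.affineOpens, ∃ K : Set ↑(∐ E.X), IsCompact K ∧
      K ⊆ (Sigma.desc E.f) ⁻¹' ((U : X.Opens) : Set X) ∧
      ∀ (V : CommRingCat.{u}) [IsDomain V] [ValuationRing V]
        (g : Spec V ⟶ ((U : X.Opens) : Scheme.{u})),
        ∃ (W : CommRingCat.{u}) (_ : IsDomain W) (_ : ValuationRing W) (φ : V ⟶ W),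
          IsExtVal V W φ ∧ ∃ g'' : Spec W ⟶ ∐ E.X,
            g'' ≫ Sigma.desc E.f = Spec.map φ ≫ g ≫ (U : X.Opens).ι ∧ g'' (closedPoint W) ∈ K) :
    IsVCover E := by
  classical
  intro U
  have hUaff : IsAffineOpen (U : X.Opens) := U.2
  obtain ⟨K, hK, hKU, hlift⟩ := H U
  have h2 : ∀ x : ↥K, ∃ (i : E.I₀) (V : (E.X i).Opens), IsAffineOpen V ∧
      x.1 ∈ Sigma.ι E.X i '' (V : Set (E.X i)) ∧ V ≤ (E.f i) ⁻¹ᵁ (U : X.Opens) := fun x => by
    obtain ⟨i, y, hy⟩ := exists_sigmaι_eq E.X x.1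
    have hyU : y ∈ (E.f i) ⁻¹ᵁ (U : X.Opens) := by
      show E.f i y ∈ (U : X.Opens)
      have h3 : Sigma.desc E.f x.1 ∈ (U : X.Opens) := hKU x.2
      rw [← hy, ← Scheme.Hom.comp_apply, Sigma.ι_desc] at h3
      exact h3
    obtain ⟨V, hV, hyV, hle⟩ :=
      exists_isAffineOpen_mem_and_subset (X := E.X i) (x := y) (U := (E.f i) ⁻¹ᵁ (U : X.Opens)) hyU
    exact ⟨i, V, hV, ⟨y, hyV, hy⟩, hle⟩
  choose i V hVaff hxV hVU using h2
  obtain ⟨s, hs⟩ := hK.elim_finite_subcover (fun x => Sigma.ι E.X (i x) '' (V x : Set (E.X (i x))))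
    (fun x => (Sigma.ι E.X (i x)).isOpenEmbedding.isOpenMap _ (V x).2)
    (fun x hx => Set.mem_iUnion.mpr ⟨⟨x, hx⟩, hxV ⟨x, hx⟩⟩)
  let e : Fin s.card ≃ ↥s := s.equivFin.symm
  let pt : Fin s.card → ↥K := fun k => (e k).1
  let F : PreZeroHypercover.{0} ((U : X.Opens) : Scheme.{u}) :=
    { I₀ := Fin s.card
      X := fun k => ((V (pt k) : (E.X (i (pt k))).Opens) : Scheme.{u})
      f := fun k => (E.f (i (pt k))).resLE (U : X.Opens) (V (pt k)) (hVU (pt k)) }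
  have hFι : ∀ k, F.f k ≫ (U : X.Opens).ι = (V (pt k)).ι ≫ E.f (i (pt k)) := fun k =>
    Scheme.Hom.resLE_comp_ι _ _
  refine ⟨F, ⟨hUaff, inferInstanceAs (Finite (Fin s.card)), fun k => hVaff (pt k), ?_⟩, ?_⟩
  · intro W₀ _ _ g
    obtain ⟨W, hWd, hWv, φ, hφ, g'', hg'', hmem⟩ := hlift W₀ g
    have ht := hs hmem
    simp only [Set.mem_iUnion] at ht
    obtain ⟨x, hxs, v, hvV, hv⟩ := ht
    obtain ⟨k, hk⟩ : ∃ k : Fin s.card, pt k = x := ⟨e.symm ⟨x, hxs⟩, by simp [pt]⟩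
    subst hk
    -- `g''` lands in the affine open `V (pt k)` of the summand `i (pt k)`
    have hsub1 : Set.range g'' ⊆ Set.range ((V (pt k)).ι ≫ Sigma.ι E.X (i (pt k))) := by
      have hopen : IsOpen (Set.range ((V (pt k)).ι ≫ Sigma.ι E.X (i (pt k)))) :=
        ((V (pt k)).ι ≫ Sigma.ι E.X (i (pt k))).isOpenEmbedding.isOpen_range
      refine range_subset_of_closedPoint_mem W g'' _ hopen ?_
      rw [← hv]
      exact ⟨⟨v, hvV⟩, rfl⟩
    let l : Spec W ⟶ ((V (pt k) : (E.X (i (pt k))).Opens) : Scheme.{u}) :=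
      IsOpenImmersion.lift ((V (pt k)).ι ≫ Sigma.ι E.X (i (pt k))) g'' hsub1
    have hl : l ≫ (V (pt k)).ι ≫ Sigma.ι E.X (i (pt k)) = g'' := IsOpenImmersion.lift_fac _ _ _
    refine ⟨W, hWd, hWv, φ, hφ, k, l, ?_⟩
    rw [← cancel_mono (U : X.Opens).ι, Category.assoc, hFι, Category.assoc, ← hg'', ← hl,
      Category.assoc, Category.assoc, Sigma.ι_desc]
  · intro k
    exact ⟨i (pt k), (V (pt k)).ι, (hFι k).symm⟩

end Groth.Agent.Lib.HCoverSigmaH52
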