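import Groth.Agent.Lib.HFP
import Groth.Agent.Lib.EtaleLiftSurj
import Groth.Agent.Lib.HenselEtaleLift
import Groth.Agent.S17597
import Mathlib.RingTheory.Smooth.Quotient
import Mathlib.RingTheory.Smooth.Flat

/-!
# Henselian finitely presented maps which are étale modulo `I`

Let `(A, I)` be a henselian pair and `B` the henselization of a finitely presented `A`-algebra.
If `A/I → B/IB` is étale, then `B` is a quotient of the henselization `H` of an étale `A`-algebra
by a finitely generated ideal contained in `IH`.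
-/

set_option autoImplicit false
universe u

namespace Groth.Agent.Lib.HEtale

open Groth.Agent.Lib.PairEtaleNbhd Groth.Agent.Lib.PairHenselizationEtale
open Groth.Agent.Lib.PairHenselization Groth.Agent.Lib.HFP

/-- A surjective henselian finitely presented map has finitely generated kernel. -/
theorem fg_ker_of_surjective (A : Type u) [CommRing A] (I : Ideal A) [HenselianRing A I]
    (T : Type u) [CommRing T] [Algebra A T] [Algebra.FinitePresentation A T]
    (B : Type u) [CommRing B] [Algebra T B] [Algebra A B] [IsScalarTower A T B]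
    (hB : Hens2.IsPairHenselization T (I.map (algebraMap A T)) B)
    (hsurj : Function.Surjective (algebraMap A B)) :
    (RingHom.ker (algebraMap A B)).FG := by
  obtain ⟨n, P, _, _, _, tower, hP, φ', hφ', hker⟩ :=
    exists_surjective_of_isPairHenselization I T B hB
  choose h hh using fun j : Fin n =>
    hsurj (φ' (algebraMap (MvPolynomial (Fin n) A) P (MvPolynomial.X j)))
  let ε₀ : MvPolynomial (Fin n) A →ₐ[A] A := MvPolynomial.aeval h
  have hε₀ : (I.map (algebraMap A (MvPolynomial (Fin n) A))).map (ε₀ : _ →+* A) ≤ I := by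
    rw [Ideal.map_map, AlgHom.comp_algebraMap]
    simp
  have hA : HenselianRing A I := inferInstance
  obtain ⟨ε, hε, -⟩ := hP.2 A I ε₀.toRingHom hA hε₀
  have hεalg : ∀ a : A, ε (algebraMap A P a) = a := by
    intro a
    rw [IsScalarTower.algebraMap_apply A (MvPolynomial (Fin n) A) P]
    have := congrArg (fun k : MvPolynomial (Fin n) A →+* A => k (algebraMap A _ a)) hε
    simp only [RingHom.comp_apply] at this
    rw [this]
    exact ε₀.commutes a
  -- `B` is henselian along `IB`
  have hIB : (I.map (algebraMap A T)).map (algebraMap T B) = I.map (algebraMap A B) := by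
    rw [Ideal.map_map, ← IsScalarTower.algebraMap_eq]
  have hHB : HenselianRing B (I.map (algebraMap A B)) := hIB ▸ hB.1
  -- the two maps `P → B` agree
  let f : MvPolynomial (Fin n) A →+* B := (φ' : P →+* B).comp (algebraMap _ P)
  have hf : (I.map (algebraMap A (MvPolynomial (Fin n) A))).map f ≤ I.map (algebraMap A B) := by
    rw [Ideal.map_map]
    apply le_of_eq
    congr 1
    ext a
    change φ' (algebraMap (MvPolynomial (Fin n) A) P (algebraMap A _ a)) = algebraMap A B a
    rw [← IsScalarTower.algebraMap_apply A (MvPolynomial (Fin n) A) P]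
    exact φ'.commutes a
  obtain ⟨g, -, hguniq⟩ := hP.2 B (I.map (algebraMap A B)) f hHB hf
  have h1 : (φ' : P →+* B) = g := hguniq _ rfl
  have h2 : (algebraMap A B).comp ε = g := by
    apply hguniq
    change ((algebraMap A B).comp ε).comp (algebraMap _ P) = f
    rw [RingHom.comp_assoc, hε]
    apply MvPolynomial.ringHom_ext
    · intro a
      change algebraMap A B (ε₀ (MvPolynomial.C a)) =
        φ' (algebraMap (MvPolynomial (Fin n) A) P (MvPolynomial.C a))
      rw [show (MvPolynomial.C a : MvPolynomial (Fin n) A) = algebraMap A _ a from rfl,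
        ε₀.commutes, ← IsScalarTower.algebraMap_apply A (MvPolynomial (Fin n) A) P, φ'.commutes]
      rfl
    · intro j
      change algebraMap A B (ε₀ (MvPolynomial.X j)) = _
      rw [show ε₀ (MvPolynomial.X j) = h j from MvPolynomial.aeval_X h j, hh j]
      rfl
  have h3 : ∀ y : P, algebraMap A B (ε y) = φ' y := by
    intro y
    have := congrArg (fun k : P →+* B => k y) (h2.trans h1.symm)
    exact this
  have hkey : RingHom.ker (algebraMap A B) = (RingHom.ker φ').map ε := by
    apply le_antisymm
    · intro a ha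
      rw [RingHom.mem_ker] at ha
      have : algebraMap A P a ∈ RingHom.ker φ' := by
        rw [RingHom.mem_ker, φ'.commutes, ha]
      have h4 := Ideal.mem_map_of_mem ε this
      rwa [hεalg] at h4
    · rw [Ideal.map_le_iff_le_comap]
      intro y hy
      rw [Ideal.mem_comap, RingHom.mem_ker, h3]
      exact hy
  rw [hkey]
  exact hker.map ε

/-- Let `(A, I)` be a henselian pair and `B` the henselization of a finitely presented
`A`-algebra with `A/I → B/IB` étale.  Then `B` is a quotient of the henselization `H` of an étale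
`A`-algebra by a finitely generated ideal, and `H/IH → B/IB` is injective. -/
theorem exists_etale_surjection (A : Type u) [CommRing A] (I : Ideal A) [HenselianRing A I]
    (R₀ : Type u) [CommRing R₀] [Algebra A R₀] [Algebra.FinitePresentation A R₀]
    (B : Type u) [CommRing B] [Algebra R₀ B] [Algebra A B] [IsScalarTower A R₀ B]
    (hB : Hens2.IsPairHenselization R₀ (I.map (algebraMap A R₀)) B)
    [het : Algebra.Etale (A ⧸ I ^ 1) (B ⧸ (I ^ 1).map (algebraMap A B))] :
    ∃ (R : Type u) (_ : CommRing R) (_ : Algebra A R) (H : Type u) (_ : CommRing H)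
      (_ : Algebra R H) (_ : Algebra A H) (_ : IsScalarTower A R H),
      Algebra.Etale A R ∧ Hens2.IsPairHenselization R (I.map (algebraMap A R)) H ∧
      ∃ φ : H →ₐ[A] B, Function.Surjective φ ∧ (RingHom.ker φ).FG ∧
        ∀ x : H, φ x ∈ I.map (algebraMap A B) → x ∈ I.map (algebraMap A H) := by
  -- Step 1: lift the étale algebra `B/IB` over `A/I` to an étale `A`-algebra `R`
  have hsurj : Function.Surjective (algebraMap A (A ⧸ I ^ 1)) := Ideal.Quotient.mk_surjective
  obtain ⟨R, _, _, ψ, hRet, hψ, hkerψ⟩ :=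
    Groth.Agent.Lib.EtaleLiftSurj.exists_etale_lift (R := A) (B := A ⧸ I ^ 1)
      (B' := B ⧸ (I ^ 1).map (algebraMap A B)) hsurj
  have hker' : RingHom.ker ψ = I.map (algebraMap A R) := by
    rw [hkerψ, Ideal.Quotient.algebraMap_eq, Ideal.mk_ker, pow_one]
  -- Step 2: lift `R → B/IB` to `ρ : R → B`
  have hIB : (I.map (algebraMap A R₀)).map (algebraMap R₀ B) = (I ^ 1).map (algebraMap A B) := by
    rw [Ideal.map_map, ← IsScalarTower.algebraMap_eq, pow_one]
  have hHB : HenselianRing B ((I ^ 1).map (algebraMap A B)) := hIB ▸ hB.1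
  obtain ⟨ρ, hρ⟩ := Groth.Agent.Lib.HenselEtaleLift.exists_lift_of_algebra (A := A) (S := R)
    ((I ^ 1).map (algebraMap A B)) ψ
  have hHB1 : HenselianRing B (I.map (algebraMap A B)) := by
    have := hHB
    rwa [pow_one] at this
  -- Step 3: extend to the henselization `H` of `(R, IR)`
  let H := Hzn2 R (I.map (algebraMap A R))
  let _ : Algebra A H := ((algebraMap R H).comp (algebraMap A R)).toAlgebra
  have tower : IsScalarTower A R H := IsScalarTower.of_algebraMap_eq (fun _ => rfl)
  have hH : Hens2.IsPairHenselization R (I.map (algebraMap A R)) H := isPairHenselization _ _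
  have hρI : (I.map (algebraMap A R)).map ρ.toRingHom ≤ I.map (algebraMap A B) := by
    rw [Ideal.map_map]
    apply le_of_eq
    congr 1
    exact ρ.comp_algebraMap
  obtain ⟨φ₀, hφ₀, -⟩ := hH.2 B (I.map (algebraMap A B)) ρ.toRingHom hHB1 hρI
  have hφ₀' : ∀ r : R, φ₀ (algebraMap R H r) = ρ r := fun r =>
    congrArg (fun k : R →+* B => k r) hφ₀
  let φ : H →ₐ[A] B :=
    { toRingHom := φ₀
      commutes' := fun a => by
        change φ₀ (algebraMap R H (algebraMap A R a)) = algebraMap A B a
        rw [hφ₀']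
        exact ρ.commutes a }
  -- Step 4: `φ` is surjective
  let _ : Algebra H B := φ.toRingHom.toAlgebra
  have towerB : IsScalarTower A H B :=
    IsScalarTower.of_algebraMap_eq (fun a => (φ.commutes a).symm)
  obtain ⟨T, _, _, _, towerT, hTfp, hBT⟩ := exists_fp_of_algebra I R H hH R₀ B hB
  have hIH : (I.map (algebraMap A R)).map (algebraMap R H) = I.map (algebraMap A H) := by
    rw [Ideal.map_map, ← IsScalarTower.algebraMap_eq]
  have hHH : HenselianRing H (I.map (algebraMap A H)) := hIH ▸ hH.1
  have hIHB : (I.map (algebraMap A H)).map (algebraMap H B) = I.map (algebraMap A B) := by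
    rw [Ideal.map_map, ← IsScalarTower.algebraMap_eq]
  have hsurjq : Function.Surjective (Ideal.quotientMap
      ((I.map (algebraMap A H)).map (algebraMap H B)) (algebraMap H B) Ideal.le_comap_map) := by
    intro y
    obtain ⟨b, rfl⟩ := Ideal.Quotient.mk_surjective y
    obtain ⟨r, hr⟩ := hψ (Ideal.Quotient.mk _ b)
    refine ⟨Ideal.Quotient.mk _ (algebraMap R H r), ?_⟩
    rw [Ideal.quotientMap_mk, Ideal.Quotient.eq, hIHB]
    have h1 : algebraMap H B (algebraMap R H r) = ρ r := hφ₀' r
    rw [h1]
    have h2 : Ideal.Quotient.mk ((I ^ 1).map (algebraMap A B)) (ρ r) = Ideal.Quotient.mk _ b := by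
      rw [← hr, ← hρ]
      rfl
    rw [Ideal.Quotient.eq, pow_one] at h2
    exact h2
  have hφsurj : Function.Surjective (algebraMap H B) :=
    Groth.Agent.S17597.result H (I.map (algebraMap A H)) T B hBT hsurjq
  -- Step 5: the kernel is finitely generated
  have hfg : (RingHom.ker (algebraMap H B)).FG :=
    fg_ker_of_surjective H (I.map (algebraMap A H)) T B hBT hφsurj
  -- Step 6: injectivity modulo `I`
  have hqb : QBij (I.map (algebraMap A R)) H := qbij_of_isPairHenselization hH
  have h6 : ∀ x : H, φ x ∈ I.map (algebraMap A B) → x ∈ I.map (algebraMap A H) := by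
    intro x hx
    obtain ⟨r, hr⟩ := hqb.exists_sub_mem x
    rw [hIH] at hr
    have h1 : φ (algebraMap R H r) = ρ r := hφ₀' r
    have h2 : φ (x - algebraMap R H r) ∈ I.map (algebraMap A B) := by
      have := Ideal.mem_map_of_mem (algebraMap H B) hr
      rwa [hIHB] at this
    have h3 : ρ r ∈ I.map (algebraMap A B) := by
      have : ρ r = φ x - φ (x - algebraMap R H r) := by
        rw [map_sub, h1]
        ring
      rw [this]
      exact sub_mem hx h2
    have h4 : r ∈ RingHom.ker ψ := by
      rw [RingHom.mem_ker, ← hρ]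
      change Ideal.Quotient.mk _ (ρ r) = 0
      rw [Ideal.Quotient.eq_zero_iff_mem, pow_one]
      exact h3
    rw [hker'] at h4
    have h5 : algebraMap R H r ∈ I.map (algebraMap A H) := by
      rw [← hIH]
      exact Ideal.mem_map_of_mem _ h4
    have : x = (x - algebraMap R H r) + algebraMap R H r := by ring
    rw [this]
    exact add_mem hr h5
  exact ⟨R, inferInstance, inferInstance, H, inferInstance, inferInstance, inferInstance, tower,
    hRet, hH, φ, hφsurj, hfg, h6⟩

section Flat

variable {A H B : Type u} [CommRing A] [CommRing H] [CommRing B] [Algebra A H] [Algebra A B]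

/-- If `B` is flat over `A` and `φ : H → B` is surjective, injective modulo `I`, with finitely
generated kernel and `IH` in the Jacobson radical, then `φ` is injective. -/
theorem ker_eq_bot_of_flat (I : Ideal A) (φ : H →ₐ[A] B) (hφ : Function.Surjective φ)
    (hfg : (RingHom.ker φ).FG) (hjac : I.map (algebraMap A H) ≤ Ideal.jacobson ⊥)
    (h6 : ∀ x : H, φ x ∈ I.map (algebraMap A B) → x ∈ I.map (algebraMap A H))
    [Module.Flat A B] : RingHom.ker φ = ⊥ := by
  have key := LinearMap.ker_inf_smul_top_eq_smul_of_flat I φ.toLinearMap hφ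
  have hle : RingHom.ker φ ≤ (I.map (algebraMap A H)) • RingHom.ker φ := by
    intro x hx
    have hx0 : φ x = 0 := hx
    have h1 : x ∈ LinearMap.ker φ.toLinearMap := hx0
    have h2 : x ∈ I • (⊤ : Submodule A H) := by
      rw [Ideal.smul_top_eq_map]
      exact h6 x (by rw [hx0]; exact zero_mem _)
    have h3 : x ∈ I • LinearMap.ker φ.toLinearMap := by
      rw [← key]
      exact ⟨h1, h2⟩
    have h4 : I • LinearMap.ker φ.toLinearMap ≤
        ((I.map (algebraMap A H)) • RingHom.ker φ).restrictScalars A := by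
      rw [Submodule.smul_le]
      intro a ha n hn
      change a • n ∈ (I.map (algebraMap A H)) • RingHom.ker φ
      have hsm : a • n = algebraMap A H a • n := by rw [Algebra.smul_def, smul_eq_mul]
      rw [hsm]
      have hn' : n ∈ RingHom.ker φ := hn
      exact Submodule.smul_mem_smul (Ideal.mem_map_of_mem (algebraMap A H) ha) hn'
    exact h4 h3
  exact Submodule.eq_bot_of_le_smul_of_le_jacobson_bot _ _ hfg hle hjac

/-- If `B/IⁿB` is flat over `A/Iⁿ` and `φ : H → B` is surjective and injective modulo `I`, then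
`φ` is injective modulo `Iⁿ`. -/
theorem ker_le_pow_of_flat (I : Ideal A) (n : ℕ) (φ : H →ₐ[A] B) (hφ : Function.Surjective φ)
    (h6 : ∀ x : H, φ x ∈ I.map (algebraMap A B) → x ∈ I.map (algebraMap A H))
    [Module.Flat (A ⧸ I ^ n) (B ⧸ (I ^ n).map (algebraMap A B))] (hn : 1 ≤ n) :
    RingHom.ker φ ≤ (I ^ n).map (algebraMap A H) := by
  have hle : (I ^ n).map (algebraMap A H) ≤ ((I ^ n).map (algebraMap A B)).comap φ := by
    rw [← Ideal.map_le_iff_le_comap]
    apply le_of_eq
    have := Ideal.map_map (I := I ^ n) (algebraMap A H) (φ : H →+* B)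
    rw [φ.comp_algebraMap] at this
    exact this
  let f₀ : (H ⧸ (I ^ n).map (algebraMap A H)) →ₐ[A] (B ⧸ (I ^ n).map (algebraMap A B)) :=
    Ideal.quotientMapₐ _ φ hle
  let f₁ : (H ⧸ (I ^ n).map (algebraMap A H)) →ₐ[A ⧸ I ^ n] (B ⧸ (I ^ n).map (algebraMap A B)) :=
    AlgHom.extendScalarsOfSurjective (S := A ⧸ I ^ n) Ideal.Quotient.mk_surjective f₀
  have hf₁ : ∀ x : H, f₁ (Ideal.Quotient.mk _ x) = Ideal.Quotient.mk _ (φ x) := fun x => rfl
  have hf₁surj : Function.Surjective f₁.toLinearMap := by
    intro y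
    obtain ⟨b, rfl⟩ := Ideal.Quotient.mk_surjective y
    obtain ⟨x, rfl⟩ := hφ b
    exact ⟨Ideal.Quotient.mk _ x, rfl⟩
  let 𝔞 : Ideal (A ⧸ I ^ n) := I.map (Ideal.Quotient.mk (I ^ n))
  -- the kernel lies in `𝔞 H'`
  have h1 : LinearMap.ker f₁.toLinearMap ≤
      𝔞 • (⊤ : Submodule (A ⧸ I ^ n) (H ⧸ (I ^ n).map (algebraMap A H))) := by
    intro y hy
    obtain ⟨x, rfl⟩ := Ideal.Quotient.mk_surjective y
    have hy0 : Ideal.Quotient.mk ((I ^ n).map (algebraMap A B)) (φ x) = 0 := hy
    rw [Ideal.Quotient.eq_zero_iff_mem] at hy0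
    have hx : x ∈ I.map (algebraMap A H) := by
      apply h6
      refine Ideal.map_mono ?_ hy0
      exact Ideal.pow_le_self (by omega)
    rw [Ideal.smul_top_eq_map]
    change Ideal.Quotient.mk _ x ∈ Ideal.map _ 𝔞
    rw [Ideal.map_map]
    have h2 := Ideal.mem_map_of_mem (Ideal.Quotient.mk ((I ^ n).map (algebraMap A H))) hx
    rw [Ideal.map_map] at h2
    exact h2
  have h2 : ∀ k : ℕ, LinearMap.ker f₁.toLinearMap ≤
      (𝔞 ^ k) • (⊤ : Submodule (A ⧸ I ^ n) (H ⧸ (I ^ n).map (algebraMap A H))) := by
    intro k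
    induction k with
    | zero =>
      rw [pow_zero, Ideal.one_eq_top, Submodule.top_smul]
      exact le_top
    | succ k ih =>
      have key := LinearMap.ker_inf_smul_top_eq_smul_of_flat (𝔞 ^ k) f₁.toLinearMap hf₁surj
      calc LinearMap.ker f₁.toLinearMap
          = LinearMap.ker f₁.toLinearMap ⊓ (𝔞 ^ k) • ⊤ := (inf_eq_left.2 ih).symm
        _ = (𝔞 ^ k) • LinearMap.ker f₁.toLinearMap := key
        _ ≤ (𝔞 ^ k) • (𝔞 • ⊤) := Submodule.smul_mono le_rfl h1
        _ = (𝔞 ^ (k + 1)) • ⊤ := by rw [pow_succ, Submodule.mul_smul]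
  have h3 : 𝔞 ^ n = ⊥ := by
    change (I.map (Ideal.Quotient.mk (I ^ n))) ^ n = ⊥
    rw [← Ideal.map_pow, Ideal.map_quotient_self]
  have h4 : LinearMap.ker f₁.toLinearMap = ⊥ := by
    have := h2 n
    rw [h3, Submodule.bot_smul] at this
    exact le_bot_iff.1 this
  intro x hx
  have hx0 : φ x = 0 := hx
  have : Ideal.Quotient.mk ((I ^ n).map (algebraMap A H)) x ∈ LinearMap.ker f₁.toLinearMap := by
    change f₁ (Ideal.Quotient.mk _ x) = 0
    rw [hf₁, hx0, map_zero]
  rw [h4, Submodule.mem_bot, Ideal.Quotient.eq_zero_iff_mem] at this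
  exact this

end Flat

end Groth.Agent.Lib.HEtale
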