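import Mathlib.RingTheory.Etale.Basic
import Mathlib.RingTheory.Smooth.Basic
import Mathlib.RingTheory.Unramified.Basic
import Mathlib.RingTheory.Ideal.Over

/-!
# Truncated infinitesimal lifting ("h-formally smooth / étale")

Let `A` be a ring, `K` an ideal, `B` an `A`-algebra, and put `Ā = A/K`, `B̄ = B/KB`.  For
`A`-algebras `E`, `C` killed by `K`, `A`-algebra maps `B → E` are the same as `Ā`-algebra maps
`B̄ → E`; hence `B̄` is formally smooth (étale) over `Ā` iff `B` has the (unique) lifting property
against nilpotent surjections `E → C` of `A`-algebras killed by `K`.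
-/

set_option autoImplicit false
set_option linter.style.haveILetI false
set_option linter.unusedSectionVars false
universe u

namespace Groth.Agent.Lib.HFormal

variable {A : Type u} [CommRing A] (K : Ideal A) {B : Type u} [CommRing B] [Algebra A B]

/-- The `A/K`-algebra structure on an `A`-algebra killed by `K`. -/
@[reducible] noncomputable def algebraQuot (E : Type u) [CommRing E] [Algebra A E]
    (hE : K.map (algebraMap A E) = ⊥) : Algebra (A ⧸ K) E :=
  (Ideal.Quotient.lift K (algebraMap A E) (fun a ha => by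
    have := Ideal.mem_map_of_mem (algebraMap A E) ha
    rwa [hE] at this)).toAlgebra

theorem isScalarTower_algebraQuot (E : Type u) [CommRing E] [Algebra A E]
    (hE : K.map (algebraMap A E) = ⊥) :
    letI := algebraQuot K E hE
    IsScalarTower A (A ⧸ K) E :=
  letI := algebraQuot K E hE
  IsScalarTower.of_algebraMap_eq fun _ => rfl

section descend

variable {E : Type u} [CommRing E] [Algebra A E] [Algebra (A ⧸ K) E] [IsScalarTower A (A ⧸ K) E]

theorem map_eq_bot_of_isScalarTower : K.map (algebraMap A E) = ⊥ := by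
  rw [eq_bot_iff, Ideal.map_le_iff_le_comap]
  intro a ha
  rw [Ideal.mem_comap, Ideal.mem_bot, IsScalarTower.algebraMap_apply A (A ⧸ K) E,
    Ideal.Quotient.algebraMap_eq, Ideal.Quotient.eq_zero_iff_mem.2 ha, map_zero]

/-- Descend an `A`-algebra map `B → E` to an `A/K`-algebra map `B/KB → E`. -/
noncomputable def descend (v : B →ₐ[A] E) : (B ⧸ K.map (algebraMap A B)) →ₐ[A ⧸ K] E :=
  { toRingHom := Ideal.Quotient.lift (K.map (algebraMap A B)) (v : B →+* E) (by
      intro b hb
      have h1 : v b ∈ (K.map (algebraMap A B)).map (v : B →+* E) := Ideal.mem_map_of_mem _ hb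
      rw [Ideal.map_map] at h1
      have h2 : ((v : B →+* E).comp (algebraMap A B)) = algebraMap A E := v.comp_algebraMap
      rw [h2, map_eq_bot_of_isScalarTower K] at h1
      exact h1)
    commutes' := fun x => by
      obtain ⟨a, rfl⟩ := Ideal.Quotient.mk_surjective x
      change Ideal.Quotient.lift _ (v : B →+* E) _
        (algebraMap (A ⧸ K) (B ⧸ K.map (algebraMap A B)) (Ideal.Quotient.mk K a)) = _
      rw [Ideal.Quotient.algebraMap_quotient_map_quotient, Ideal.Quotient.lift_mk]
      change v (algebraMap A B a) = _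
      rw [v.commutes, ← Ideal.Quotient.algebraMap_eq, ← IsScalarTower.algebraMap_apply] }

@[simp] theorem descend_mk (v : B →ₐ[A] E) (b : B) :
    descend K v (Ideal.Quotient.mk _ b) = v b := rfl

/-- Restrict an `A/K`-algebra map `B/KB → E` to an `A`-algebra map `B → E`. -/
noncomputable def ascend (w : (B ⧸ K.map (algebraMap A B)) →ₐ[A ⧸ K] E) : B →ₐ[A] E :=
  { toRingHom := (w : _ →+* E).comp (Ideal.Quotient.mk (K.map (algebraMap A B)))
    commutes' := fun a => by
      change w (Ideal.Quotient.mk _ (algebraMap A B a)) = _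
      rw [← Ideal.Quotient.algebraMap_quotient_map_quotient, w.commutes,
        ← Ideal.Quotient.algebraMap_eq, ← IsScalarTower.algebraMap_apply] }

@[simp] theorem ascend_apply (w : (B ⧸ K.map (algebraMap A B)) →ₐ[A ⧸ K] E) (b : B) :
    ascend K w b = w (Ideal.Quotient.mk _ b) := rfl

theorem descend_ascend (w : (B ⧸ K.map (algebraMap A B)) →ₐ[A ⧸ K] E) :
    descend K (ascend K w) = w := by
  ext x
  obtain ⟨b, rfl⟩ := Ideal.Quotient.mk_surjective x
  rfl

theorem ascend_descend (v : B →ₐ[A] E) : ascend K (descend K v) = v := by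
  ext b
  rfl

end descend

section lifting

variable {E C : Type u} [CommRing E] [CommRing C] [Algebra A E] [Algebra A C]

/-- An `A`-algebra map between algebras killed by `K` is `A/K`-linear. -/
noncomputable def extend [Algebra (A ⧸ K) E] [IsScalarTower A (A ⧸ K) E] [Algebra (A ⧸ K) C]
    [IsScalarTower A (A ⧸ K) C] (p : E →ₐ[A] C) : E →ₐ[A ⧸ K] C :=
  p.extendScalarsOfSurjective Ideal.Quotient.mk_surjective

/-- If `B/KB` is formally smooth over `A/K`, then `B` lifts against nilpotent surjections of
`A`-algebras killed by `K`. -/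
theorem exists_lift_of_formallySmooth
    [Algebra.FormallySmooth (A ⧸ K) (B ⧸ K.map (algebraMap A B))]
    (hE : K.map (algebraMap A E) = ⊥) (hC : K.map (algebraMap A C) = ⊥)
    (p : E →ₐ[A] C) (hp : Function.Surjective p) (hnil : IsNilpotent (RingHom.ker p))
    (u : B →ₐ[A] C) : ∃ v : B →ₐ[A] E, p.comp v = u := by
  letI := algebraQuot K E hE
  letI := algebraQuot K C hC
  haveI := isScalarTower_algebraQuot K E hE
  haveI := isScalarTower_algebraQuot K C hC
  let p' : E →ₐ[A ⧸ K] C := extend K p
  have hp' : Function.Surjective p' := hp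
  have hnil' : IsNilpotent (RingHom.ker (p' : E →+* C)) := hnil
  let w := Algebra.FormallySmooth.liftOfSurjective (descend K u) p' hp' hnil'
  refine ⟨ascend K w, ?_⟩
  ext b
  change p' (w (Ideal.Quotient.mk _ b)) = u b
  rw [Algebra.FormallySmooth.liftOfSurjective_apply]
  rfl

/-- If `B/KB` is formally unramified over `A/K`, lifts against nilpotent surjections of
`A`-algebras killed by `K` are unique. -/
theorem lift_unique_of_formallyUnramified
    [Algebra.FormallyUnramified (A ⧸ K) (B ⧸ K.map (algebraMap A B))]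
    (hE : K.map (algebraMap A E) = ⊥) (hC : K.map (algebraMap A C) = ⊥)
    (p : E →ₐ[A] C) (hnil : IsNilpotent (RingHom.ker p))
    (v₁ v₂ : B →ₐ[A] E) (h : p.comp v₁ = p.comp v₂) : v₁ = v₂ := by
  letI := algebraQuot K E hE
  letI := algebraQuot K C hC
  haveI := isScalarTower_algebraQuot K E hE
  haveI := isScalarTower_algebraQuot K C hC
  let p' : E →ₐ[A ⧸ K] C := extend K p
  have hnil' : IsNilpotent (RingHom.ker (p' : E →+* C)) := hnil
  have h1 : descend K v₁ = descend K v₂ := by
    refine Algebra.FormallyUnramified.lift_unique' p' hnil' _ _ ?_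
    ext x
    obtain ⟨b, rfl⟩ := Ideal.Quotient.mk_surjective x
    exact congrArg (fun f : B →ₐ[A] C => f b) h
  rw [← ascend_descend K v₁, ← ascend_descend K v₂, h1]

end lifting

section converse

/-- If `B` lifts against square-zero surjections of `A`-algebras killed by `K`, then `B/KB` is
formally smooth over `A/K`. -/
theorem formallySmooth_of_exists_lift
    (H : ∀ (E C : Type u) [CommRing E] [CommRing C] [Algebra A E] [Algebra A C],
      K.map (algebraMap A E) = ⊥ → K.map (algebraMap A C) = ⊥ → ∀ p : E →ₐ[A] C,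
      Function.Surjective p → RingHom.ker p ^ 2 = ⊥ → ∀ u : B →ₐ[A] C,
      ∃ v : B →ₐ[A] E, p.comp v = u) :
    Algebra.FormallySmooth (A ⧸ K) (B ⧸ K.map (algebraMap A B)) := by
  refine Algebra.FormallySmooth.of_comp_surjective fun T _ _ J hJ f => ?_
  letI : Algebra A T := Algebra.compHom T (Ideal.Quotient.mk K)
  haveI : IsScalarTower A (A ⧸ K) T := IsScalarTower.of_algebraMap_eq fun _ => rfl
  haveI : IsScalarTower A (A ⧸ K) (T ⧸ J) := IsScalarTower.of_algebraMap_eq fun _ => rfl
  let p : T →ₐ[A] T ⧸ J := Ideal.Quotient.mkₐ A J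
  have hker : RingHom.ker p = J := Ideal.mk_ker
  obtain ⟨v, hv⟩ := H T (T ⧸ J) (map_eq_bot_of_isScalarTower K) (map_eq_bot_of_isScalarTower K) p
    Ideal.Quotient.mk_surjective (by rw [hker, hJ]) (ascend K f)
  refine ⟨descend K v, ?_⟩
  ext x
  obtain ⟨b, rfl⟩ := Ideal.Quotient.mk_surjective x
  exact congrArg (fun g : B →ₐ[A] T ⧸ J => g b) hv

/-- If lifts of `B` against square-zero surjections of `A`-algebras killed by `K` are unique, then
`B/KB` is formally unramified over `A/K`. -/
theorem formallyUnramified_of_lift_unique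
    (H : ∀ (E C : Type u) [CommRing E] [CommRing C] [Algebra A E] [Algebra A C],
      K.map (algebraMap A E) = ⊥ → K.map (algebraMap A C) = ⊥ → ∀ p : E →ₐ[A] C,
      Function.Surjective p → RingHom.ker p ^ 2 = ⊥ → ∀ v₁ v₂ : B →ₐ[A] E,
      p.comp v₁ = p.comp v₂ → v₁ = v₂) :
    Algebra.FormallyUnramified (A ⧸ K) (B ⧸ K.map (algebraMap A B)) := by
  rw [Algebra.FormallyUnramified.iff_comp_injective_of_small.{u}]
  intro T _ _ J hJ g₁ g₂ hg
  letI : Algebra A T := Algebra.compHom T (Ideal.Quotient.mk K)
  haveI : IsScalarTower A (A ⧸ K) T := IsScalarTower.of_algebraMap_eq fun _ => rfl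
  haveI : IsScalarTower A (A ⧸ K) (T ⧸ J) := IsScalarTower.of_algebraMap_eq fun _ => rfl
  let p : T →ₐ[A] T ⧸ J := Ideal.Quotient.mkₐ A J
  have hker : RingHom.ker p = J := Ideal.mk_ker
  have h1 : ascend K g₁ = ascend K g₂ := by
    refine H T (T ⧸ J) (map_eq_bot_of_isScalarTower K) (map_eq_bot_of_isScalarTower K) p
      Ideal.Quotient.mk_surjective (by rw [hker, hJ]) _ _ ?_
    ext b
    exact congrArg (fun g : (B ⧸ K.map (algebraMap A B)) →ₐ[A ⧸ K] T ⧸ J =>
      g (Ideal.Quotient.mk _ b)) hg
  rw [← descend_ascend K g₁, ← descend_ascend K g₂, h1]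

end converse

end Groth.Agent.Lib.HFormal
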