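import Groth.Agent.Lib.CohLESLinear
import Mathlib.LinearAlgebra.Dimension.Constructions
import Mathlib.CategoryTheory.Limits.Shapes.Biproducts
import Mathlib.CategoryTheory.Abelian.Basic

/-!
# Cohomology of a finite direct sum of `O_X`-modules

For a finite family `M : ι → X.Modules` on a scheme `X` over `Spec A`:
* `hhBiproductEquiv A M q : Coh.HH X (⨁ M) q ≃ₗ[A] Π i, Coh.HH X (M i) q`,
* `hhSigmaEquiv A M q : Coh.HH X (∐ M) q ≃ₗ[A] Π i, Coh.HH X (M i) q`
  (components: `mapₗ A (Sigma.ι M i)` one way, see `hhSigmaEquiv_symm_single`),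
* `finite_hhSigma`, `finrank_hhSigma` (over a field, with finite-dimensional components),
  `finrank_hhBiproduct`.

Note: the finiteness hypothesis on the components cannot be dropped from the `finrank` formula
(`finrank` of an infinite-dimensional space is `0`).
-/

set_option autoImplicit false
universe u

open CategoryTheory CategoryTheory.Limits AlgebraicGeometry

namespace Groth.Agent.Lib.HHSigma77

open Groth.Agent.Lib.CohLES

variable {X : Scheme.{u}}

theorem map_sum {ι : Type*} (s : Finset ι) {M N : X.Modules} (φ : ι → (M ⟶ N)) (n : ℕ)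
    (x : Coh.HH X M n) : map (∑ i ∈ s, φ i) n x = ∑ i ∈ s, map (φ i) n x := by
  classical
  induction s using Finset.induction_on with
  | empty => simp [map_zero']
  | insert a s ha ih => rw [Finset.sum_insert ha, Finset.sum_insert ha, map_add', ih]

section Over

variable (A : Type u) [CommRing A] [X.Over (Spec (CommRingCat.of A))]
variable {ι : Type} [Fintype ι] (M : ι → X.Modules) (q : ℕ)

/-- `H^q(X, ⨁ M) ≃ Π i, H^q(X, M i)` for a finite family. -/
noncomputable def hhBiproductEquiv [HasBiproduct M] :
    Coh.HH X (⨁ M) q ≃ₗ[A] ∀ i, Coh.HH X (M i) q where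
  toFun x i := map (biproduct.π M i) q x
  map_add' x y := by
    funext i
    simp only [_root_.map_add, Pi.add_apply]
  map_smul' a x := by
    funext i
    exact (mapₗ A (biproduct.π M i) q).map_smul a x
  invFun y := ∑ i, map (biproduct.ι M i) q (y i)
  left_inv x := by
    classical
    simp only [← map_comp]
    rw [← map_sum, biproduct.total, map_id]
  right_inv y := by
    classical
    funext j
    simp only [_root_.map_sum, ← map_comp]
    rw [Finset.sum_eq_single j]
    · rw [biproduct.ι_π_self, map_id]
    · intro i _ hij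
      rw [biproduct.ι_π_ne _ hij, map_zero']
    · intro h
      exact absurd (Finset.mem_univ j) h

theorem hhBiproductEquiv_apply [HasBiproduct M] (x : Coh.HH X (⨁ M) q) (i : ι) :
    hhBiproductEquiv A M q x i = map (biproduct.π M i) q x := rfl

theorem hhBiproductEquiv_symm_apply [HasBiproduct M] (y : ∀ i, Coh.HH X (M i) q) :
    (hhBiproductEquiv A M q).symm y = ∑ i, map (biproduct.ι M i) q (y i) := rfl

/-- `H^q(X, ∐ M) ≃ Π i, H^q(X, M i)` for a finite family. -/
noncomputable def hhSigmaEquiv [HasBiproduct M] :
    Coh.HH X (∐ M) q ≃ₗ[A] ∀ i, Coh.HH X (M i) q :=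
  (mapEquivₗ A (biproduct.isoCoproduct M).symm q).trans (hhBiproductEquiv A M q)

theorem hhSigmaEquiv_symm_apply [HasBiproduct M] (y : ∀ i, Coh.HH X (M i) q) :
    (hhSigmaEquiv A M q).symm y = ∑ i, map (Sigma.ι M i) q (y i) := by
  change map (biproduct.isoCoproduct M).hom q (∑ i, map (biproduct.ι M i) q (y i)) = _
  simp only [_root_.map_sum, ← map_comp]
  refine Finset.sum_congr rfl fun i _ => ?_
  rw [biproduct.isoCoproduct_hom, biproduct.ι_desc]

theorem finite_hhSigma [HasBiproduct M] [∀ i, Module.Finite A (Coh.HH X (M i) q)] :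
    Module.Finite A (Coh.HH X (∐ M) q) :=
  Module.Finite.equiv (hhSigmaEquiv A M q).symm

theorem finite_hhBiproduct [HasBiproduct M] [∀ i, Module.Finite A (Coh.HH X (M i) q)] :
    Module.Finite A (Coh.HH X (⨁ M) q) :=
  Module.Finite.equiv (hhBiproductEquiv A M q).symm

end Over

section Field

variable (k : Type u) [Field k] [X.Over (Spec (CommRingCat.of k))]
variable {ι : Type} [Fintype ι] (M : ι → X.Modules) (q : ℕ)

theorem finrank_hhSigma [HasBiproduct M] [∀ i, Module.Finite k (Coh.HH X (M i) q)] :
    Module.finrank k (Coh.HH X (∐ M) q) = ∑ i, Module.finrank k (Coh.HH X (M i) q) := by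
  rw [(hhSigmaEquiv k M q).finrank_eq, Module.finrank_pi_fintype]

theorem finrank_hhBiproduct [HasBiproduct M] [∀ i, Module.Finite k (Coh.HH X (M i) q)] :
    Module.finrank k (Coh.HH X (⨁ M) q) = ∑ i, Module.finrank k (Coh.HH X (M i) q) := by
  rw [(hhBiproductEquiv k M q).finrank_eq, Module.finrank_pi_fintype]

/-- Version for a family indexed by `Fin r` with no instance arguments on biproducts
(`X.Modules` is abelian). -/
theorem finrank_hhSigma_fin {r : ℕ} (N : Fin r → X.Modules)
    [∀ i, Module.Finite k (Coh.HH X (N i) q)] :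
    Module.finrank k (Coh.HH X (∐ N) q) = ∑ i, Module.finrank k (Coh.HH X (N i) q) := by
  have : HasFiniteBiproducts X.Modules := Abelian.hasFiniteBiproducts
  exact finrank_hhSigma k N q

/-- Same for any finite index type (in `Type`). -/
theorem finrank_hhSigma' [∀ i, Module.Finite k (Coh.HH X (M i) q)] :
    Module.finrank k (Coh.HH X (∐ M) q) = ∑ i, Module.finrank k (Coh.HH X (M i) q) := by
  have : HasFiniteBiproducts X.Modules := Abelian.hasFiniteBiproducts
  have : Finite ι := Finite.of_fintype ι
  exact finrank_hhSigma k M q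

theorem finite_hhSigma' (A : Type u) [CommRing A] [X.Over (Spec (CommRingCat.of A))]
    [∀ i, Module.Finite A (Coh.HH X (M i) q)] :
    Module.Finite A (Coh.HH X (∐ M) q) := by
  have : HasFiniteBiproducts X.Modules := Abelian.hasFiniteBiproducts
  have : Finite ι := Finite.of_fintype ι
  exact finite_hhSigma A M q

end Field

end Groth.Agent.Lib.HHSigma77
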