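import Groth.Agent.Lib.HFP
import Groth.Agent.Lib.HenselQuot
import Groth.Agent.Lib.DirLimHens50
import Mathlib.Algebra.Colimit.DirectLimit
import Mathlib.Order.DirectedInverseSystem

/-!
# Limit preserving maps of henselian pairs are henselian finitely presented

* `exists_fp_of_retract`: an `A`-algebra retract of a henselian finitely presented algebra is
  henselian finitely presented.
* `Factors A I B`: every `A`-algebra map from `B` to a directed colimit of henselian pairs over
  `(A, I)` factors through a stage.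
* `exists_fp_of_quotient`: a quotient of a henselian finitely presented algebra with the
  factorization property is henselian finitely presented.
-/

set_option autoImplicit false
universe u

namespace Groth.Agent.Lib.HLimPres

open Groth.Agent.Lib.PairEtaleNbhd Groth.Agent.Lib.PairHenselizationEtale
open Groth.Agent.Lib.PairHenselization Groth.Agent.Lib.HFP

/-- An `A`-algebra retract of a henselian finitely presented algebra is henselian finitely
presented. -/
theorem exists_fp_of_retract (A : Type u) [CommRing A] (I : Ideal A)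
    (Q : Type u) [CommRing Q] [Algebra A Q] [Algebra.FinitePresentation A Q]
    (P : Type u) [CommRing P] [Algebra Q P] [Algebra A P] [IsScalarTower A Q P]
    (hP : Hens2.IsPairHenselization Q (I.map (algebraMap A Q)) P)
    (B : Type u) [CommRing B] [Algebra A B] (π : P →ₐ[A] B) (φ : B →ₐ[A] P)
    (hπφ : ∀ b, π (φ b) = b) :
    ∃ (R : Type u) (_ : CommRing R) (_ : Algebra A R) (_ : Algebra R B) (_ : IsScalarTower A R B),
      Algebra.FinitePresentation A R ∧
        Hens2.IsPairHenselization R (I.map (algebraMap A R)) B := by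
  classical
  obtain ⟨s, hs⟩ := (Algebra.FiniteType.out : (⊤ : Subalgebra A Q).FG)
  let e : P →ₐ[A] P := φ.comp π
  let 𝔟 : Ideal P :=
    Ideal.span ((fun x : Q => e (algebraMap Q P x) - algebraMap Q P x) '' (s : Set Q))
  have hfg : 𝔟.FG := Submodule.fg_span (Set.Finite.image _ s.finite_toSet)
  have hIP : (I.map (algebraMap A Q)).map (algebraMap Q P) = I.map (algebraMap A P) := by
    rw [Ideal.map_map, ← IsScalarTower.algebraMap_eq]
  have hPh : HenselianRing P (I.map (algebraMap A P)) := hIP ▸ hP.1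
  have hD : HenselianRing (P ⧸ 𝔟) ((I.map (algebraMap A P)).map (Ideal.Quotient.mk 𝔟)) :=
    Groth.Agent.Lib.HenselQuot.henselian_quotient_general _ 𝔟
  let f₁ : Q →ₐ[A] P ⧸ 𝔟 :=
    (Ideal.Quotient.mkₐ A 𝔟).comp (e.comp (IsScalarTower.toAlgHom A Q P))
  let f₂ : Q →ₐ[A] P ⧸ 𝔟 := (Ideal.Quotient.mkₐ A 𝔟).comp (IsScalarTower.toAlgHom A Q P)
  have h12 : f₁ = f₂ := by
    apply AlgHom.ext_of_adjoin_eq_top hs
    intro x hx
    exact Ideal.Quotient.eq.2 (Ideal.subset_span ⟨x, hx, rfl⟩)
  have hJD : (I.map (algebraMap A Q)).map (f₂ : Q →+* P ⧸ 𝔟) ≤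
      (I.map (algebraMap A P)).map (Ideal.Quotient.mk 𝔟) := by
    rw [Ideal.map_map, Ideal.map_map]
    apply le_of_eq
    congr 1
    ext a
    change Ideal.Quotient.mk 𝔟 (algebraMap Q P (algebraMap A Q a)) = _
    rw [← IsScalarTower.algebraMap_apply A Q P]
    rfl
  obtain ⟨g, -, hguniq⟩ := hP.2 (P ⧸ 𝔟) _ (f₂ : Q →+* P ⧸ 𝔟) hD hJD
  have hg1 : (Ideal.Quotient.mk 𝔟).comp (e : P →+* P) = g := by
    apply hguniq
    ext x
    exact AlgHom.congr_fun h12 x
  have hg2 : Ideal.Quotient.mk 𝔟 = g := hguniq _ rfl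
  have hker : RingHom.ker π.toRingHom = 𝔟 := by
    apply le_antisymm
    · intro y hy
      have hy0 : π y = 0 := hy
      have h1 : Ideal.Quotient.mk 𝔟 (e y) = Ideal.Quotient.mk 𝔟 y :=
        congrArg (fun k : P →+* P ⧸ 𝔟 => k y) (hg1.trans hg2.symm)
      have he0 : e y = 0 := by
        change φ (π y) = 0
        rw [hy0, map_zero]
      rw [he0, map_zero] at h1
      exact Ideal.Quotient.eq_zero_iff_mem.1 h1.symm
    · rw [Ideal.span_le]
      rintro _ ⟨x, -, rfl⟩
      change π (e (algebraMap Q P x) - algebraMap Q P x) = 0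
      rw [map_sub]
      change π (φ (π _)) - _ = 0
      rw [hπφ, sub_self]
  have hsurj : Function.Surjective π := fun b => ⟨φ b, hπφ b⟩
  exact exists_fp_of_surjective I Q P hP B π hsurj (hker ▸ hfg)

/-- Every `A`-algebra map from `B` to a directed colimit of henselian pairs over `(A, I)` factors
through a stage. -/
def Factors (A : Type u) [CommRing A] (I : Ideal A) (B : Type u) [CommRing B] [Algebra A B] :
    Prop :=
  ∀ (κ : Type u) [Preorder κ] [IsDirectedOrder κ] [Nonempty κ]
    (Ra : κ → Type u) [∀ a, CommRing (Ra a)] [∀ a, Algebra A (Ra a)]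
    [∀ a, HenselianRing (Ra a) (I.map (algebraMap A (Ra a)))]
    (t : ∀ a b : κ, a ≤ b → (Ra a →+* Ra b)) [DirectedSystem Ra (fun a b hab => t a b hab)],
    (∀ (a b : κ) (hab : a ≤ b), (t a b hab).comp (algebraMap A (Ra a)) = algebraMap A (Ra b)) →
    ∀ [Algebra A (DirectLimit Ra t)],
    (∀ (a : κ) (x : A), algebraMap A (DirectLimit Ra t) x =
      DirectLimit.Ring.of Ra t a (algebraMap A (Ra a) x)) →
    ∀ χ : B →ₐ[A] DirectLimit Ra t, ∃ (a : κ) (φ : B →ₐ[A] Ra a),
      ∀ x : B, DirectLimit.Ring.of Ra t a (φ x) = χ x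

section Quotient

variable {A : Type u} [CommRing A] (I : Ideal A)
    {Q : Type u} [CommRing Q] [Algebra A Q] [Algebra.FinitePresentation A Q]
    {P : Type u} [CommRing P] [Algebra Q P] [Algebra A P] [IsScalarTower A Q P]
    (hP : Hens2.IsPairHenselization Q (I.map (algebraMap A Q)) P)
    {B : Type u} [CommRing B] [Algebra A B] (ρ : P →ₐ[A] B)

/-- The ideal generated by a finite subset of the kernel. -/
def cId (T : Finset (RingHom.ker ρ.toRingHom)) : Ideal P :=
  Ideal.span (Subtype.val '' (T : Set (RingHom.ker ρ.toRingHom)))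

theorem cId_mono {T T' : Finset (RingHom.ker ρ.toRingHom)} (h : T ≤ T') :
    cId ρ T ≤ cId ρ T' :=
  Ideal.span_mono (Set.image_mono h)

theorem cId_le_ker (T : Finset (RingHom.ker ρ.toRingHom)) :
    cId ρ T ≤ RingHom.ker ρ.toRingHom := by
  rw [cId, Ideal.span_le]
  rintro _ ⟨x, -, rfl⟩
  exact x.2

theorem cId_fg (T : Finset (RingHom.ker ρ.toRingHom)) : (cId ρ T).FG :=
  Submodule.fg_span (Set.Finite.image _ T.finite_toSet)

include hP in
theorem henselian_quot (T : Finset (RingHom.ker ρ.toRingHom)) :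
    HenselianRing (P ⧸ cId ρ T) (I.map (algebraMap A (P ⧸ cId ρ T))) := by
  have hIP : (I.map (algebraMap A Q)).map (algebraMap Q P) = I.map (algebraMap A P) := by
    rw [Ideal.map_map, ← IsScalarTower.algebraMap_eq]
  have hPh : HenselianRing P (I.map (algebraMap A P)) := hIP ▸ hP.1
  have := Groth.Agent.Lib.HenselQuot.henselian_quotient_general (I.map (algebraMap A P))
    (cId ρ T)
  rwa [Ideal.map_map, Ideal.Quotient.mk_comp_algebraMap] at this

include hP in
/-- A quotient of a henselian finitely presented algebra which has the factorization property is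
henselian finitely presented. -/
theorem exists_fp_of_quotient (hρ : Function.Surjective ρ) (hfac : Factors A I B) :
    ∃ (R : Type u) (_ : CommRing R) (_ : Algebra A R) (_ : Algebra R B) (_ : IsScalarTower A R B),
      Algebra.FinitePresentation A R ∧
        Hens2.IsPairHenselization R (I.map (algebraMap A R)) B := by
  classical
  let κ := Finset (RingHom.ker ρ.toRingHom)
  let Ra : κ → Type u := fun T => P ⧸ cId ρ T
  have hRa : ∀ T : κ, HenselianRing (Ra T) (I.map (algebraMap A (Ra T))) :=
    fun T => henselian_quot I hP ρ T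
  let t : ∀ a b : κ, a ≤ b → (Ra a →+* Ra b) :=
    fun a b hab => Ideal.Quotient.factor (cId_mono ρ hab)
  have ht : ∀ (a b : κ) (hab : a ≤ b) (p : P),
      t a b hab (Ideal.Quotient.mk _ p) = Ideal.Quotient.mk _ p := fun a b hab p => rfl
  have hdir : DirectedSystem Ra (fun a b hab => t a b hab) :=
    { map_self := fun a x => by
        obtain ⟨p, rfl⟩ := Ideal.Quotient.mk_surjective x
        rfl
      map_map := fun {a b c} hab hbc x => by
        obtain ⟨p, rfl⟩ := Ideal.Quotient.mk_surjective x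
        rfl }
  have hcompat : ∀ (a b : κ) (hab : a ≤ b),
      (t a b hab).comp (algebraMap A (Ra a)) = algebraMap A (Ra b) := by
    intro a b hab
    ext x
    rfl
  let a₀ : κ := ∅
  letI algL : Algebra A (DirectLimit Ra t) :=
    ((DirectLimit.Ring.of Ra t a₀).comp (algebraMap A (Ra a₀))).toAlgebra
  have halgL : ∀ (a : κ) (x : A), algebraMap A (DirectLimit Ra t) x =
      DirectLimit.Ring.of Ra t a (algebraMap A (Ra a) x) := by
    intro a x
    have h0 : a₀ ≤ a := Finset.empty_subset a
    change DirectLimit.Ring.of Ra t a₀ (algebraMap A (Ra a₀) x) = _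
    rw [← DirectLimit.Ring.of_f (G := Ra) (f := t) h0]
    rfl
  -- the map `χ : B → L`
  let χ₀ : P →+* DirectLimit Ra t :=
    (DirectLimit.Ring.of Ra t a₀).comp (Ideal.Quotient.mk (cId ρ a₀))
  have hχ₀ : RingHom.ker ρ.toRingHom ≤ RingHom.ker χ₀ := by
    intro c hc
    rw [RingHom.mem_ker]
    let T : κ := {⟨c, hc⟩}
    have h0 : a₀ ≤ T := Finset.empty_subset T
    change DirectLimit.Ring.of Ra t a₀ (Ideal.Quotient.mk (cId ρ a₀) c) = 0
    rw [← DirectLimit.Ring.of_f (G := Ra) (f := t) h0, ht _ _ h0]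
    have hcT : c ∈ cId ρ T := Ideal.subset_span ⟨⟨c, hc⟩, Finset.mem_coe.2 (Finset.mem_singleton_self _), rfl⟩
    rw [Ideal.Quotient.eq_zero_iff_mem.2 hcT, map_zero]
  let χ₁ : B →+* DirectLimit Ra t := RingHom.liftOfSurjective ρ.toRingHom hρ ⟨χ₀, hχ₀⟩
  have hχ₁ : ∀ p : P, χ₁ (ρ p) = χ₀ p := fun p =>
    RingHom.liftOfSurjective_comp_apply ρ.toRingHom hρ ⟨χ₀, hχ₀⟩ p
  let χ : B →ₐ[A] DirectLimit Ra t :=
    { toRingHom := χ₁
      commutes' := fun a => by
        change χ₁ (algebraMap A B a) = _
        rw [← ρ.commutes a, hχ₁]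
        rfl }
  obtain ⟨T, φ, hφ⟩ := hfac κ Ra t hcompat halgL χ
  -- the projections
  let πT : ∀ T : κ, Ra T →ₐ[A] B := fun T =>
    Ideal.Quotient.liftₐ (cId ρ T) ρ (fun x hx => cId_le_ker ρ T hx)
  have hπT : ∀ (T : κ) (p : P), πT T (Ideal.Quotient.mk _ p) = ρ p := fun T p => rfl
  let Λ : DirectLimit Ra t →+* B :=
    DirectLimit.Ring.lift Ra t B (fun T => (πT T : Ra T →+* B)) (by
      intro a b hab x
      obtain ⟨p, rfl⟩ := Ideal.Quotient.mk_surjective x
      rfl)
  have hΛχ : ∀ b : B, Λ (χ b) = b := by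
    intro b
    obtain ⟨p, rfl⟩ := hρ b
    change Λ (χ₁ (ρ p)) = ρ p
    rw [hχ₁]
    rfl
  have hπφ : ∀ b : B, πT T (φ b) = b := by
    intro b
    have h1 : Λ (DirectLimit.Ring.of Ra t T (φ b)) = πT T (φ b) := rfl
    rw [← h1, hφ, hΛχ]
  -- `Ra T` is henselian finitely presented
  have hkerT : RingHom.ker (Ideal.Quotient.mkₐ A (cId ρ T)).toRingHom = cId ρ T :=
    Ideal.mk_ker
  obtain ⟨R', _, _, _, tower', hfp', hRaT⟩ := exists_fp_of_surjective I Q P hP (Ra T)
    (Ideal.Quotient.mkₐ A (cId ρ T)) Ideal.Quotient.mk_surjective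
    (by rw [hkerT]; exact cId_fg ρ T)
  exact exists_fp_of_retract A I R' (Ra T) hRaT B (πT T) φ hπφ

end Quotient

section Subalg

variable {A : Type u} [CommRing A] (I : Ideal A) {B : Type u} [CommRing B] [Algebra A B]

/-- The henselization of a subalgebra `C` of `B` along `IC`. -/
def HC (C : Subalgebra A B) : Type u := Hzn2 ↥C (I.map (algebraMap A ↥C))

noncomputable instance (C : Subalgebra A B) : CommRing (HC I C) :=
  inferInstanceAs (CommRing (Hzn2 ↥C (I.map (algebraMap A ↥C))))

noncomputable instance (C : Subalgebra A B) : Algebra ↥C (HC I C) :=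
  inferInstanceAs (Algebra ↥C (Hzn2 ↥C (I.map (algebraMap A ↥C))))

noncomputable instance algHC (C : Subalgebra A B) : Algebra A (HC I C) :=
  ((algebraMap ↥C (HC I C)).comp (algebraMap A ↥C)).toAlgebra

instance towerHC (C : Subalgebra A B) : IsScalarTower A ↥C (HC I C) :=
  IsScalarTower.of_algebraMap_eq (fun _ => rfl)

theorem hHC (C : Subalgebra A B) :
    Hens2.IsPairHenselization ↥C (I.map (algebraMap A ↥C)) (HC I C) :=
  isPairHenselization _ _

theorem map_map_HC (C : Subalgebra A B) :
    (I.map (algebraMap A ↥C)).map (algebraMap ↥C (HC I C)) = I.map (algebraMap A (HC I C)) := by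
  rw [Ideal.map_map, ← IsScalarTower.algebraMap_eq]

instance henselianHC (C : Subalgebra A B) :
    HenselianRing (HC I C) (I.map (algebraMap A (HC I C))) :=
  map_map_HC I C ▸ (hHC I C).1

theorem hmap_cond {C C' : Subalgebra A B} (h : C ≤ C') :
    (I.map (algebraMap A ↥C)).map
      ((algebraMap ↥C' (HC I C')).comp (Subalgebra.inclusion h).toRingHom) ≤
      I.map (algebraMap A (HC I C')) := by
  rw [Ideal.map_map]
  apply le_of_eq
  congr 1

/-- The transition maps. -/
noncomputable def hmap {C C' : Subalgebra A B} (h : C ≤ C') : HC I C →+* HC I C' :=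
  ((hHC I C).2 (HC I C') (I.map (algebraMap A (HC I C'))) _ (henselianHC I C')
    (hmap_cond I h)).exists.choose

theorem hmap_comp {C C' : Subalgebra A B} (h : C ≤ C') :
    (hmap I h).comp (algebraMap ↥C (HC I C)) =
      (algebraMap ↥C' (HC I C')).comp (Subalgebra.inclusion h).toRingHom :=
  ((hHC I C).2 (HC I C') (I.map (algebraMap A (HC I C'))) _ (henselianHC I C')
    (hmap_cond I h)).exists.choose_spec

theorem hmap_unique {C C' : Subalgebra A B} (h : C ≤ C') (g : HC I C →+* HC I C')
    (hg : g.comp (algebraMap ↥C (HC I C)) =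
      (algebraMap ↥C' (HC I C')).comp (Subalgebra.inclusion h).toRingHom) : g = hmap I h :=
  ((hHC I C).2 (HC I C') (I.map (algebraMap A (HC I C'))) _ (henselianHC I C')
    (hmap_cond I h)).unique hg (hmap_comp I h)

theorem hmap_algebraMap {C C' : Subalgebra A B} (h : C ≤ C') (x : C) :
    hmap I h (algebraMap ↥C (HC I C) x) = algebraMap ↥C' (HC I C') (Subalgebra.inclusion h x) :=
  congrArg (fun k : ↥C →+* HC I C' => k x) (hmap_comp I h)

theorem hmap_self (C : Subalgebra A B) (h : C ≤ C) (x : HC I C) : hmap I h x = x := by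
  have : RingHom.id (HC I C) = hmap I h := hmap_unique I h _ (by ext y; rfl)
  rw [← this]
  rfl

theorem hmap_trans {C C' C'' : Subalgebra A B} (h : C ≤ C') (h' : C' ≤ C'') (x : HC I C) :
    hmap I h' (hmap I h x) = hmap I (h.trans h') x := by
  have : (hmap I h').comp (hmap I h) = hmap I (h.trans h') := hmap_unique I _ _ (by
    ext y
    change hmap I h' (hmap I h (algebraMap ↥C (HC I C) y)) = _
    rw [hmap_algebraMap, hmap_algebraMap]
    rfl)
  exact congrArg (fun k : HC I C →+* HC I C'' => k x) this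

variable [hB : HenselianRing B (I.map (algebraMap A B))]

theorem piC_cond (C : Subalgebra A B) :
    (I.map (algebraMap A ↥C)).map C.val.toRingHom ≤ I.map (algebraMap A B) := by
  rw [Ideal.map_map]
  apply le_of_eq
  congr 1

/-- The canonical map to `B`. -/
noncomputable def piC (C : Subalgebra A B) : HC I C →+* B :=
  ((hHC I C).2 B (I.map (algebraMap A B)) C.val.toRingHom hB (piC_cond I C)).exists.choose

theorem piC_comp (C : Subalgebra A B) :
    (piC I C).comp (algebraMap ↥C (HC I C)) = C.val.toRingHom :=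
  ((hHC I C).2 B (I.map (algebraMap A B)) C.val.toRingHom hB (piC_cond I C)).exists.choose_spec

theorem piC_unique (C : Subalgebra A B) (g : HC I C →+* B)
    (hg : g.comp (algebraMap ↥C (HC I C)) = C.val.toRingHom) : g = piC I C :=
  ((hHC I C).2 B (I.map (algebraMap A B)) C.val.toRingHom hB (piC_cond I C)).unique hg
    (piC_comp I C)

theorem piC_algebraMap (C : Subalgebra A B) (x : C) :
    piC I C (algebraMap ↥C (HC I C) x) = x :=
  congrArg (fun k : ↥C →+* B => k x) (piC_comp I C)

theorem piC_hmap {C C' : Subalgebra A B} (h : C ≤ C') (x : HC I C) :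
    piC I C' (hmap I h x) = piC I C x := by
  have : (piC I C').comp (hmap I h) = piC I C := piC_unique I C _ (by
    ext y
    change piC I C' (hmap I h (algebraMap ↥C (HC I C) y)) = _
    rw [hmap_algebraMap, piC_algebraMap]
    rfl)
  exact congrArg (fun k : HC I C →+* B => k x) this

end Subalg

end Groth.Agent.Lib.HLimPres
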