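import Groth.Agent.Lib.HLimPres

/-!
# Limit preserving maps of henselian pairs: the system of finitely generated subalgebras
-/

set_option autoImplicit false
universe u

namespace Groth.Agent.Lib.HLimPres

open Groth.Agent.Lib.PairEtaleNbhd Groth.Agent.Lib.PairHenselizationEtale
open Groth.Agent.Lib.PairHenselization Groth.Agent.Lib.HFP

section SubalgColimit

variable {A : Type u} [CommRing A] (I : Ideal A) (B : Type u) [CommRing B] [Algebra A B]

/-- The index set: finitely generated subalgebras. -/
abbrev FGSub : Type u := {C : Subalgebra A B // C.FG}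

instance : IsDirectedOrder (FGSub (A := A) B) :=
  ⟨fun a b => ⟨⟨a.1 ⊔ b.1, a.2.sup b.2⟩, (le_sup_left : a.1 ≤ a.1 ⊔ b.1),
    (le_sup_right : b.1 ≤ a.1 ⊔ b.1)⟩⟩

instance : Nonempty (FGSub (A := A) B) := ⟨⟨⊥, Subalgebra.fg_bot⟩⟩

/-- The stages. -/
abbrev Stage (a : FGSub (A := A) B) : Type u := HC I a.1

/-- The transition maps. -/
noncomputable abbrev trans (a b : FGSub (A := A) B) (hab : a ≤ b) : Stage I B a →+* Stage I B b :=
  hmap I hab

instance : DirectedSystem (Stage I B) (fun a b hab => trans I B a b hab) where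
  map_self a x := hmap_self I a.1 _ x
  map_map {a b c} hab hbc x := hmap_trans I hab hbc x

theorem trans_compat (a b : FGSub (A := A) B) (hab : a ≤ b) :
    (trans I B a b hab).comp (algebraMap A (Stage I B a)) = algebraMap A (Stage I B b) := by
  ext x
  change hmap I hab (algebraMap ↥a.1 (HC I a.1) (algebraMap A ↥a.1 x)) = _
  rw [hmap_algebraMap]
  rfl

/-- The colimit. -/
abbrev Lim : Type u := DirectLimit (Stage I B) (trans I B)

noncomputable instance algLim : Algebra A (Lim I B) :=
  ((DirectLimit.Ring.of (Stage I B) (trans I B) ⟨⊥, Subalgebra.fg_bot⟩).comp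
    (algebraMap A (Stage I B ⟨⊥, Subalgebra.fg_bot⟩))).toAlgebra

theorem algLim_compat (a : FGSub (A := A) B) (x : A) :
    algebraMap A (Lim I B) x =
      DirectLimit.Ring.of (Stage I B) (trans I B) a (algebraMap A (Stage I B a) x) := by
  have h0 : (⟨⊥, Subalgebra.fg_bot⟩ : FGSub (A := A) B) ≤ a := bot_le (a := a.1)
  change DirectLimit.Ring.of (Stage I B) (trans I B) ⟨⊥, Subalgebra.fg_bot⟩
    (algebraMap A (Stage I B ⟨⊥, Subalgebra.fg_bot⟩) x) = _
  rw [← DirectLimit.Ring.of_f (G := Stage I B) (f := trans I B) h0]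
  congr 1
  exact congrArg (fun k : A →+* Stage I B a => k x) (trans_compat I B _ a h0)

/-- The subalgebra generated by one element. -/
noncomputable def adj1 (b : B) : FGSub (A := A) B :=
  ⟨Algebra.adjoin A {b}, by
    have := Subalgebra.fg_adjoin_finset (R := A) ({b} : Finset B)
    simpa using this⟩

/-- The subalgebra generated by two elements. -/
noncomputable def adj2 (b b' : B) : FGSub (A := A) B :=
  ⟨Algebra.adjoin A {b, b'}, by
    classical
    have := Subalgebra.fg_adjoin_finset (R := A) ({b, b'} : Finset B)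
    simpa using this⟩

theorem mem_adj1 (b : B) : b ∈ (adj1 (A := A) B b).1 :=
  Algebra.subset_adjoin (Set.mem_singleton b)

theorem mem_adj2_left (b b' : B) : b ∈ (adj2 (A := A) B b b').1 :=
  Algebra.subset_adjoin (Set.mem_insert b _)

theorem mem_adj2_right (b b' : B) : b' ∈ (adj2 (A := A) B b b').1 :=
  Algebra.subset_adjoin (Set.mem_insert_of_mem b (Set.mem_singleton b'))

/-- The map `B → colim` on elements. -/
noncomputable def chiFun (b : B) : Lim I B :=
  DirectLimit.Ring.of (Stage I B) (trans I B) (adj1 B b)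
    (algebraMap ↥(adj1 (A := A) B b).1 (HC I (adj1 (A := A) B b).1) ⟨b, mem_adj1 B b⟩)

theorem chi_eq (C : FGSub (A := A) B) (b : B) (hb : b ∈ C.1) :
    DirectLimit.Ring.of (Stage I B) (trans I B) C (algebraMap ↥C.1 (HC I C.1) ⟨b, hb⟩) =
      chiFun I B b := by
  have hle : adj1 (A := A) B b ≤ C := Algebra.adjoin_le (Set.singleton_subset_iff.2 hb)
  unfold chiFun
  rw [← DirectLimit.Ring.of_f (G := Stage I B) (f := trans I B) hle]
  congr 1
  exact (hmap_algebraMap I hle ⟨b, mem_adj1 B b⟩).symm

/-- The map `B → colim`. -/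
noncomputable def chi : B →ₐ[A] Lim I B where
  toFun := chiFun I B
  map_one' := by
    rw [← chi_eq I B (adj1 B 1) 1 (one_mem _)]
    have : (⟨1, one_mem _⟩ : ↥(adj1 (A := A) B 1).1) = 1 := rfl
    rw [this, map_one, map_one]
  map_mul' x y := by
    have hx := mem_adj2_left (A := A) B x y
    have hy := mem_adj2_right (A := A) B x y
    rw [← chi_eq I B (adj2 B x y) x hx, ← chi_eq I B (adj2 B x y) y hy,
      ← chi_eq I B (adj2 B x y) (x * y) (mul_mem hx hy), ← map_mul, ← map_mul]
    rfl
  map_zero' := by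
    rw [← chi_eq I B (adj1 B 0) 0 (zero_mem _)]
    have : (⟨0, zero_mem _⟩ : ↥(adj1 (A := A) B 0).1) = 0 := rfl
    rw [this, map_zero, map_zero]
  map_add' x y := by
    have hx := mem_adj2_left (A := A) B x y
    have hy := mem_adj2_right (A := A) B x y
    rw [← chi_eq I B (adj2 B x y) x hx, ← chi_eq I B (adj2 B x y) y hy,
      ← chi_eq I B (adj2 B x y) (x + y) (add_mem hx hy), ← map_add, ← map_add]
    rfl
  commutes' a := by
    rw [algLim_compat I B (adj1 B (algebraMap A B a))]
    change chiFun I B (algebraMap A B a) = _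
    rw [← chi_eq I B (adj1 B (algebraMap A B a)) _ (Subalgebra.algebraMap_mem _ a)]
    rfl

variable [hB : HenselianRing B (I.map (algebraMap A B))]

/-- The factorization property gives a finitely generated subalgebra `C` with `hens(C) → B`
surjective. -/
theorem exists_fg_surjective (hfac : Factors A I B) :
    ∃ C : Subalgebra A B, C.FG ∧ Function.Surjective (piC I C) := by
  obtain ⟨C, φ, hφ⟩ := hfac (FGSub (A := A) B) (Stage I B) (trans I B) (trans_compat I B)
    (algLim_compat I B) (chi I B)
  let Λ : Lim I B →+* B := DirectLimit.Ring.lift (Stage I B) (trans I B) B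
    (fun a => piC I a.1) (fun a b hab x => piC_hmap I hab x)
  have hΛ : ∀ b : B, Λ (chi I B b) = b := by
    intro b
    change piC I (adj1 (A := A) B b).1 (algebraMap ↥(adj1 (A := A) B b).1
      (HC I (adj1 (A := A) B b).1) ⟨b, mem_adj1 B b⟩) = b
    rw [piC_algebraMap]
  refine ⟨C.1, C.2, fun b => ⟨φ b, ?_⟩⟩
  have h1 : Λ (DirectLimit.Ring.of (Stage I B) (trans I B) C (φ b)) = piC I C.1 (φ b) := rfl
  rw [← h1, hφ, hΛ]

/-- The factorization property implies henselian finitely presented. -/
theorem exists_fp_of_factors (hfac : Factors A I B) :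
    ∃ (R : Type u) (_ : CommRing R) (_ : Algebra A R) (_ : Algebra R B) (_ : IsScalarTower A R B),
      Algebra.FinitePresentation A R ∧
        Hens2.IsPairHenselization R (I.map (algebraMap A R)) B := by
  obtain ⟨C, hCfg, hC⟩ := exists_fg_surjective I B hfac
  have hft : Algebra.FiniteType A ↥C := (Subalgebra.fg_iff_finiteType C).1 hCfg
  obtain ⟨n, f, hf⟩ := Algebra.FiniteType.iff_quotient_mvPolynomial''.1 hft
  let P := Hzn2 (MvPolynomial (Fin n) A) (I.map (algebraMap A (MvPolynomial (Fin n) A)))
  let _ : Algebra A P := ((algebraMap (MvPolynomial (Fin n) A) P).comp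
    (algebraMap A (MvPolynomial (Fin n) A))).toAlgebra
  have htower : IsScalarTower A (MvPolynomial (Fin n) A) P :=
    IsScalarTower.of_algebraMap_eq (fun _ => rfl)
  have hP : Hens2.IsPairHenselization (MvPolynomial (Fin n) A)
      (I.map (algebraMap A (MvPolynomial (Fin n) A))) P := isPairHenselization _ _
  obtain ⟨ψ, hψ, -⟩ := exists_surjective_of_surjective I ↥C (HC I C) (hHC I C) f hf P hP
  let πa : HC I C →ₐ[A] B :=
    { toRingHom := piC I C
      commutes' := fun a => by
        change piC I C (algebraMap ↥C (HC I C) (algebraMap A ↥C a)) = _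
        rw [piC_algebraMap]
        rfl }
  have hρ : Function.Surjective (πa.comp ψ) := hC.comp hψ
  exact exists_fp_of_quotient I hP (πa.comp ψ) hρ hfac

end SubalgColimit

end Groth.Agent.Lib.HLimPres
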