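import Mathlib.Algebra.Order.Group.Basic
import Mathlib.Algebra.Order.Monoid.Unbundled.Pow
import Mathlib.Algebra.Order.Field.Rat
import Mathlib.Algebra.BigOperators.Fin
import Mathlib.Data.Finset.Max
import Mathlib.Algebra.Order.BigOperators.Ring.Finset
import Mathlib.Data.Rat.Lemmas
import Mathlib.Tactic.Linarith
import Mathlib.Tactic.FieldSimp
import Mathlib.Tactic.Ring

/-!
# Integer solutions of linear inequalities solvable in an ordered group (helper38)

Fourier–Motzkin elimination: a finite system of strict and non-strict homogeneous linear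
inequalities with integer coefficients that has a solution in some linearly ordered commutative
group has a solution in the integers.  Mathlib-only.
-/

set_option autoImplicit false
set_option linter.unusedSectionVars false
set_option linter.unusedSimpArgs false
universe u

namespace Groth.Agent.Lib.LPOrd38

section Interval

/-- choosing a point between finitely many lower and upper bounds, some strict -/
theorem exists_between_flags (Lo Hi : Finset (ℚ × Bool))
    (h : ∀ l ∈ Lo, ∀ u ∈ Hi, l.1 ≤ u.1 ∧ ((l.2 = true ∨ u.2 = true) → l.1 < u.1)) :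
    ∃ x : ℚ, (∀ l ∈ Lo, l.1 ≤ x ∧ (l.2 = true → l.1 < x)) ∧
      (∀ u ∈ Hi, x ≤ u.1 ∧ (u.2 = true → x < u.1)) := by
  classical
  by_cases hLo : Lo.Nonempty
  · obtain ⟨l₀, hl₀, hl₀max⟩ := Finset.exists_max_image Lo (fun l => l.1) hLo
    by_cases hHi : Hi.Nonempty
    · obtain ⟨u₀, hu₀, hu₀min⟩ := Finset.exists_min_image Hi (fun u => u.1) hHi
      have hle := (h l₀ hl₀ u₀ hu₀).1
      rcases lt_or_eq_of_le hle with hlt | heq
      · refine ⟨(l₀.1 + u₀.1) / 2, ?_, ?_⟩
        · intro l hl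
          have := hl₀max l hl
          constructor
          · linarith
          · intro _; linarith
        · intro u hu
          have := hu₀min u hu
          constructor
          · linarith
          · intro _; linarith
      · refine ⟨l₀.1, ?_, ?_⟩
        · intro l hl
          refine ⟨hl₀max l hl, fun hs => ?_⟩
          have := (h l hl u₀ hu₀).2 (Or.inl hs)
          rw [heq]; exact this
        · intro u hu
          have h1 := hu₀min u hu
          refine ⟨by rw [heq]; exact h1, fun ht => ?_⟩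
          exact (h l₀ hl₀ u hu).2 (Or.inr ht)
    · refine ⟨l₀.1 + 1, ?_, ?_⟩
      · intro l hl
        have := hl₀max l hl
        constructor
        · linarith
        · intro _; linarith
      · intro u hu
        exact absurd ⟨u, hu⟩ hHi
  · by_cases hHi : Hi.Nonempty
    · obtain ⟨u₀, hu₀, hu₀min⟩ := Finset.exists_min_image Hi (fun u => u.1) hHi
      refine ⟨u₀.1 - 1, ?_, ?_⟩
      · intro l hl
        exact absurd ⟨l, hl⟩ hLo
      · intro u hu
        have := hu₀min u hu
        constructor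
        · linarith
        · intro _; linarith
    · exact ⟨0, fun l hl => absurd ⟨l, hl⟩ hLo, fun u hu => absurd ⟨u, hu⟩ hHi⟩

end Interval

section FM
variable {G : Type u} [CommGroup G] [LinearOrder G] [IsOrderedMonoid G]

/-- the value of an integer vector on `γ` -/
def ev {n : ℕ} (γ : Fin n → G) (c : Fin n → ℤ) : G := ∏ i, γ i ^ c i

/-- the rational pairing -/
def dot {n : ℕ} (c : Fin n → ℤ) (r : Fin n → ℚ) : ℚ := ∑ i, (c i : ℚ) * r i

/-- a constraint (vector, strictness flag) holds for `γ` -/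
def SatG {n : ℕ} (γ : Fin n → G) (cs : (Fin n → ℤ) × Bool) : Prop :=
  1 ≤ ev γ cs.1 ∧ (cs.2 = true → 1 < ev γ cs.1)

/-- a constraint holds for the rational vector `r` -/
def SatQ {n : ℕ} (r : Fin n → ℚ) (cs : (Fin n → ℤ) × Bool) : Prop :=
  0 ≤ dot cs.1 r ∧ (cs.2 = true → 0 < dot cs.1 r)

theorem ev_succ {n : ℕ} (γ : Fin (n + 1) → G) (c : Fin (n + 1) → ℤ) :
    ev γ c = γ 0 ^ c 0 * ev (fun i => γ i.succ) (fun i => c i.succ) := by
  simp [ev, Fin.prod_univ_succ]

theorem dot_cons {n : ℕ} (c : Fin (n + 1) → ℤ) (r₀ : ℚ) (r' : Fin n → ℚ) :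
    dot c (Fin.cons r₀ r') = (c 0 : ℚ) * r₀ + dot (fun i => c i.succ) r' := by
  simp [dot, Fin.sum_univ_succ]

/-- the Fourier–Motzkin combination eliminating the first variable -/
def comb {n : ℕ} (a b : (Fin (n + 1) → ℤ) × Bool) : (Fin n → ℤ) × Bool :=
  (fun i => (-(b.1 0)) * a.1 i.succ + a.1 0 * b.1 i.succ, a.2 || b.2)

theorem ev_comb {n : ℕ} (γ : Fin (n + 1) → G) (a b : (Fin (n + 1) → ℤ) × Bool) :
    ev (fun i => γ i.succ) (comb a b).1 = ev γ a.1 ^ (-(b.1 0)) * ev γ b.1 ^ (a.1 0) := by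
  rw [ev_succ γ a.1, ev_succ γ b.1, mul_zpow, mul_zpow, ← zpow_mul, ← zpow_mul]
  have h0 : γ 0 ^ (a.1 0 * -(b.1 0)) * γ 0 ^ (b.1 0 * a.1 0) = 1 := by
    rw [← zpow_add]
    have : a.1 0 * -(b.1 0) + b.1 0 * a.1 0 = 0 := by ring
    rw [this, zpow_zero]
  have h1 : ev (fun i => γ i.succ) (comb a b).1 =
      ev (fun i => γ i.succ) (fun i => a.1 i.succ) ^ (-(b.1 0)) *
        ev (fun i => γ i.succ) (fun i => b.1 i.succ) ^ (a.1 0) := by
    simp only [ev, comb]
    rw [← Finset.prod_zpow, ← Finset.prod_zpow, ← Finset.prod_mul_distrib]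
    apply Finset.prod_congr rfl
    intro i _
    rw [zpow_add, zpow_mul, zpow_mul, ← zpow_mul, ← zpow_mul, ← zpow_mul, ← zpow_mul,
      mul_comm (a.1 i.succ), mul_comm (b.1 i.succ)]
  rw [h1]
  calc _ = (γ 0 ^ (a.1 0 * -(b.1 0)) * γ 0 ^ (b.1 0 * a.1 0)) *
        (ev (fun i => γ i.succ) (fun i => a.1 i.succ) ^ (-(b.1 0)) *
        ev (fun i => γ i.succ) (fun i => b.1 i.succ) ^ (a.1 0)) := by rw [h0, one_mul]
    _ = _ := by
      simp only [mul_assoc, mul_left_comm, mul_comm]

theorem satG_comb {n : ℕ} (γ : Fin (n + 1) → G) (a b : (Fin (n + 1) → ℤ) × Bool)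
    (ha : SatG γ a) (hb : SatG γ b) (ha0 : 0 < a.1 0) (hb0 : b.1 0 < 0) :
    SatG (fun i => γ i.succ) (comb a b) := by
  have hb0' : 0 < -(b.1 0) := by omega
  refine ⟨?_, ?_⟩
  · rw [ev_comb]
    exact Left.one_le_mul (one_le_zpow ha.1 hb0'.le) (one_le_zpow hb.1 ha0.le)
  · intro hs
    rw [ev_comb]
    have hs' : a.2 = true ∨ b.2 = true := by
      simpa [comb, Bool.or_eq_true] using hs
    rcases hs' with h | h
    · exact one_lt_mul_of_lt_of_le' (one_lt_zpow (ha.2 h) hb0') (one_le_zpow hb.1 ha0.le)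
    · exact one_lt_mul_of_le_of_lt' (one_le_zpow ha.1 hb0'.le) (one_lt_zpow (hb.2 h) ha0)

theorem dot_comb {n : ℕ} (a b : (Fin (n + 1) → ℤ) × Bool) (r' : Fin n → ℚ) :
    dot (comb a b).1 r' = (-(b.1 0 : ℚ)) * dot (fun i => a.1 i.succ) r' +
      (a.1 0 : ℚ) * dot (fun i => b.1 i.succ) r' := by
  simp only [dot, comb, Finset.mul_sum, ← Finset.sum_add_distrib]
  apply Finset.sum_congr rfl
  intro i _
  push_cast
  ring

/-- **Fourier–Motzkin**: rational solutions -/
theorem exists_rat : ∀ (n : ℕ) (γ : Fin n → G) (L : Finset ((Fin n → ℤ) × Bool)),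
    (∀ cs ∈ L, SatG γ cs) → ∃ r : Fin n → ℚ, ∀ cs ∈ L, SatQ r cs := by
  classical
  intro n
  induction n with
  | zero =>
    intro γ L hL
    refine ⟨fun _ => 0, fun cs hcs => ?_⟩
    have h := hL cs hcs
    have hev : ev γ cs.1 = 1 := by simp [ev]
    refine ⟨by simp [dot], fun hs => ?_⟩
    have := h.2 hs
    rw [hev] at this
    exact absurd this (lt_irrefl _)
  | succ n ih =>
    intro γ L hL
    set γ' : Fin n → G := fun i => γ i.succ with hγ'
    let Lpos := L.filter (fun cs => 0 < cs.1 0)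
    let Lneg := L.filter (fun cs => cs.1 0 < 0)
    let Lzero := L.filter (fun cs => cs.1 0 = 0)
    let L' : Finset ((Fin n → ℤ) × Bool) :=
      Lzero.image (fun cs => ((fun i => cs.1 i.succ), cs.2)) ∪
        (Lpos ×ˢ Lneg).image (fun ab => comb ab.1 ab.2)
    have hL' : ∀ cs ∈ L', SatG γ' cs := by
      intro cs hcs
      rcases Finset.mem_union.mp hcs with h | h
      · obtain ⟨c, hc, rfl⟩ := Finset.mem_image.mp h
        have hcL := (Finset.mem_filter.mp hc).1
        have hc0 : c.1 0 = 0 := (Finset.mem_filter.mp hc).2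
        have := hL c hcL
        unfold SatG at this ⊢
        rw [ev_succ, hc0, zpow_zero, one_mul] at this
        exact this
      · obtain ⟨⟨a, b⟩, hab, rfl⟩ := Finset.mem_image.mp h
        obtain ⟨ha, hb⟩ := Finset.mem_product.mp hab
        exact satG_comb γ a b (hL a (Finset.mem_filter.mp ha).1) (hL b (Finset.mem_filter.mp hb).1)
          (Finset.mem_filter.mp ha).2 (Finset.mem_filter.mp hb).2
    obtain ⟨r', hr'⟩ := ih γ' L' hL'
    -- bounds for the first coordinate
    let Lo : Finset (ℚ × Bool) :=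
      Lpos.image (fun a => (-(dot (fun i => a.1 i.succ) r') / (a.1 0 : ℚ), a.2))
    let Hi : Finset (ℚ × Bool) :=
      Lneg.image (fun b => (dot (fun i => b.1 i.succ) r' / (-(b.1 0 : ℚ)), b.2))
    have hbetween : ∀ l ∈ Lo, ∀ u ∈ Hi, l.1 ≤ u.1 ∧ ((l.2 = true ∨ u.2 = true) → l.1 < u.1) := by
      intro l hl u hu
      obtain ⟨a, ha, rfl⟩ := Finset.mem_image.mp hl
      obtain ⟨b, hb, rfl⟩ := Finset.mem_image.mp hu
      have ha0 : (0 : ℚ) < (a.1 0 : ℚ) := by exact_mod_cast (Finset.mem_filter.mp ha).2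
      have hb0 : (0 : ℚ) < -(b.1 0 : ℚ) := by
        have : b.1 0 < 0 := (Finset.mem_filter.mp hb).2
        have : (b.1 0 : ℚ) < 0 := by exact_mod_cast this
        linarith
      have hmem : comb a b ∈ L' :=
        Finset.mem_union_right _ (Finset.mem_image.mpr ⟨(a, b), Finset.mem_product.mpr ⟨ha, hb⟩, rfl⟩)
      have hsat := hr' _ hmem
      unfold SatQ at hsat
      rw [dot_comb] at hsat
      simp only
      constructor
      · rw [div_le_div_iff₀ ha0 hb0]
        linarith [hsat.1]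
      · intro hs
        have hs' : (comb a b).2 = true := by
          simpa [comb, Bool.or_eq_true] using hs
        rw [div_lt_div_iff₀ ha0 hb0]
        linarith [hsat.2 hs']
    obtain ⟨r₀, hlo, hhi⟩ := exists_between_flags Lo Hi hbetween
    refine ⟨Fin.cons r₀ r', fun cs hcs => ?_⟩
    unfold SatQ
    rw [dot_cons]
    rcases lt_trichotomy (cs.1 0) 0 with hneg | hzero | hpos
    · have hb : cs ∈ Lneg := Finset.mem_filter.mpr ⟨hcs, hneg⟩
      have hb0 : (0 : ℚ) < -(cs.1 0 : ℚ) := by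
        have : (cs.1 0 : ℚ) < 0 := by exact_mod_cast hneg
        linarith
      have := hhi _ (Finset.mem_image.mpr ⟨cs, hb, rfl⟩)
      simp only at this
      constructor
      · have h1 := this.1
        rw [le_div_iff₀ hb0] at h1
        linarith
      · intro hs
        have h1 := this.2 hs
        rw [lt_div_iff₀ hb0] at h1
        linarith
    · have hz : cs ∈ Lzero := Finset.mem_filter.mpr ⟨hcs, hzero⟩
      have hmem : ((fun i => cs.1 i.succ), cs.2) ∈ L' :=
        Finset.mem_union_left _ (Finset.mem_image.mpr ⟨cs, hz, rfl⟩)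
      have := hr' _ hmem
      unfold SatQ at this
      rw [hzero]
      simpa using this
    · have ha : cs ∈ Lpos := Finset.mem_filter.mpr ⟨hcs, hpos⟩
      have ha0 : (0 : ℚ) < (cs.1 0 : ℚ) := by exact_mod_cast hpos
      have := hlo _ (Finset.mem_image.mpr ⟨cs, ha, rfl⟩)
      simp only at this
      constructor
      · have h1 := this.1
        rw [div_le_iff₀ ha0] at h1
        linarith
      · intro hs
        have h1 := this.2 hs
        rw [div_lt_iff₀ ha0] at h1
        linarith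

/-- clearing denominators -/
theorem exists_int_scale {n : ℕ} (r : Fin n → ℚ) :
    ∃ (N : ℕ) (z : Fin n → ℤ), 0 < N ∧ ∀ i, (z i : ℚ) = (N : ℚ) * r i := by
  classical
  refine ⟨∏ i, (r i).den, fun i => (r i).num * ∏ j ∈ Finset.univ.erase i, ((r j).den : ℤ), ?_, ?_⟩
  · exact Finset.prod_pos fun i _ => (r i).den_pos
  · intro i
    have hden : ((r i).den : ℚ) ≠ 0 := by exact_mod_cast (r i).den_ne_zero
    have h1 : ((∏ j, (r j).den : ℕ) : ℚ) =
        ((r i).den : ℚ) * ∏ j ∈ Finset.univ.erase i, ((r j).den : ℚ) := by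
      rw [Nat.cast_prod, Finset.mul_prod_erase Finset.univ (fun j => ((r j).den : ℚ))
        (Finset.mem_univ i)]
    have h2 : r i * ((r i).den : ℚ) = ((r i).num : ℚ) := Rat.mul_den_eq_num (r i)
    rw [h1]
    push_cast
    rw [← h2]
    ring

/-- **Fourier–Motzkin**: integer solutions -/
theorem exists_int {n : ℕ} (γ : Fin n → G) (L : Finset ((Fin n → ℤ) × Bool))
    (hL : ∀ cs ∈ L, SatG γ cs) :
    ∃ z : Fin n → ℤ, ∀ cs ∈ L, 0 ≤ ∑ i, cs.1 i * z i ∧ (cs.2 = true → 0 < ∑ i, cs.1 i * z i) := by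
  obtain ⟨r, hr⟩ := exists_rat n γ L hL
  obtain ⟨N, z, hN, hz⟩ := exists_int_scale r
  have hNq : (0 : ℚ) < (N : ℚ) := by exact_mod_cast hN
  refine ⟨z, fun cs hcs => ?_⟩
  have hcast : ((∑ i, cs.1 i * z i : ℤ) : ℚ) = (N : ℚ) * dot cs.1 r := by
    push_cast
    rw [dot, Finset.mul_sum]
    apply Finset.sum_congr rfl
    intro i _
    rw [hz i]
    ring
  have h := hr cs hcs
  constructor
  · have : (0 : ℚ) ≤ ((∑ i, cs.1 i * z i : ℤ) : ℚ) := by
      rw [hcast]; exact mul_nonneg hNq.le h.1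
    exact_mod_cast this
  · intro hs
    have : (0 : ℚ) < ((∑ i, cs.1 i * z i : ℤ) : ℚ) := by
      rw [hcast]; exact mul_pos hNq (h.2 hs)
    exact_mod_cast this

theorem ev_sub_const {n : ℕ} (γ : Fin n → G) (hγ : ∏ i, γ i = 1) (c : Fin n → ℤ) (N s : ℤ) :
    ev γ (fun i => N * c i - s) = ev γ c ^ N := by
  simp only [ev]
  have : ∀ i, γ i ^ (N * c i - s) = (γ i ^ c i) ^ N * (γ i ^ s)⁻¹ := by
    intro i
    rw [zpow_sub, zpow_mul, ← zpow_mul, ← zpow_mul, mul_comm N]
  simp only [this]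
  rw [Finset.prod_mul_distrib, Finset.prod_inv_distrib, Finset.prod_zpow, Finset.prod_zpow, hγ,
    one_zpow, inv_one, mul_one]

/-- integer solutions with coordinate sum zero, when the product of the `γ i` is one -/
theorem exists_int_sum_zero {n : ℕ} (γ : Fin n → G) (hγ : ∏ i, γ i = 1)
    (L : Finset ((Fin n → ℤ) × Bool)) (hL : ∀ cs ∈ L, SatG γ cs) :
    ∃ z : Fin n → ℤ, ∑ i, z i = 0 ∧
      ∀ cs ∈ L, 0 ≤ ∑ i, cs.1 i * z i ∧ (cs.2 = true → 0 < ∑ i, cs.1 i * z i) := by
  classical
  rcases Nat.eq_zero_or_pos n with hn | hn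
  · subst hn
    obtain ⟨z, hz⟩ := exists_int γ L hL
    exact ⟨z, by simp, hz⟩
  · let L' : Finset ((Fin n → ℤ) × Bool) :=
      L.image (fun cs => ((fun i => (n : ℤ) * cs.1 i - ∑ j, cs.1 j), cs.2))
    have hL' : ∀ cs ∈ L', SatG γ cs := by
      intro cs hcs
      obtain ⟨c, hc, rfl⟩ := Finset.mem_image.mp hcs
      have h := hL c hc
      unfold SatG
      simp only
      rw [ev_sub_const γ hγ, zpow_natCast]
      exact ⟨one_le_pow_of_one_le' h.1 n, fun hs => one_lt_pow' (h.2 hs) hn.ne'⟩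
    obtain ⟨z, hz⟩ := exists_int γ L' hL'
    refine ⟨fun i => (n : ℤ) * z i - ∑ j, z j, ?_, fun cs hcs => ?_⟩
    · rw [Finset.sum_sub_distrib, ← Finset.mul_sum, Finset.sum_const, Finset.card_univ,
        Fintype.card_fin]
      simp
    · have h := hz _ (Finset.mem_image.mpr ⟨cs, hcs, rfl⟩)
      simp only at h
      have e : ∑ i, cs.1 i * ((n : ℤ) * z i - ∑ j, z j) =
          ∑ i, ((n : ℤ) * cs.1 i - ∑ j, cs.1 j) * z i := by
        simp only [mul_sub, sub_mul, Finset.sum_sub_distrib, ← Finset.sum_mul, ← Finset.mul_sum]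
        congr 1
        · apply Finset.sum_congr rfl
          intro i _
          ring
      rw [e]
      exact h

end FM

end Groth.Agent.Lib.LPOrd38
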