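import Groth.Agent.Lib.FormsAct38
import Groth.Agent.Lib.Cartan38
import Groth.Agent.Lib.LPOrd38
import Mathlib.RingTheory.Valuation.ValuationRing

/-!
# The valuative core of the Hilbert–Mumford criterion for forms (helper38)

`R` a valuation ring containing the field `k`, with residue field `k`; `G ∈ SL_n(Frac R)` moving the
`k`-point `a` of the space of forms to an `R`-point `u`.  The Cartan decomposition `G = A D B`
produces `g₀ = A mod 𝔪 ∈ SL_n(k)` and elements `δ i` of the value group with product one such that
every monomial `m` in the support of `a·g₀` has `∏ δ i ^ m i ≥ 1` (`> 1` if `u` reduces to `0`).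
-/

set_option autoImplicit false
set_option linter.unusedSectionVars false
universe u v w
open MvPolynomial CoordGrp

namespace Groth.Agent.Lib.HMVal38
open Groth.Agent.Lib.FormsAct38 Groth.Agent.Lib.Cartan38

section Val
variable {R : Type v} [CommRing R] [IsDomain R] [ValuationRing R]
  {K : Type w} [Field K] [Algebra R K] [IsFractionRing R K]

theorem integers : (ValuationRing.valuation R K).Integers R where
  hom_inj := IsFractionRing.injective R K
  map_le_one r := (Valuation.mem_integer_iff _ _).1 ((ValuationRing.mem_integer_iff R K _).2 ⟨r, rfl⟩)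
  exists_of_le_one {x} hx := (ValuationRing.mem_integer_iff R K x).1 ((Valuation.mem_integer_iff _ _).2 hx)

theorem val_lt_one_of_mem {r : R} (hr : r ∈ IsLocalRing.maximalIdeal R) :
    ValuationRing.valuation R K (algebraMap R K r) < 1 := by
  refine lt_of_le_of_ne ((integers (R := R) (K := K)).map_le_one r) ?_
  intro h
  exact (IsLocalRing.mem_maximalIdeal _).1 hr ((integers (R := R) (K := K)).isUnit_iff_valuation_eq_one.2 h)

theorem val_eq_one_of_not_mem {r : R} (hr : r ∉ IsLocalRing.maximalIdeal R) :
    ValuationRing.valuation R K (algebraMap R K r) = 1 := by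
  have : IsUnit r := by
    by_contra h
    exact hr ((IsLocalRing.mem_maximalIdeal _).2 h)
  exact (integers (R := R) (K := K)).one_of_isUnit this

end Val

section Core
variable {k : Type u} [Field k] {n d : ℕ}
  {R : Type v} [CommRing R] [IsDomain R] [ValuationRing R] [Algebra k R]
  {K : Type w} [Field K] [Algebra R K] [IsFractionRing R K] [Algebra k K] [IsScalarTower k R K]

theorem val_core (res : R →ₐ[k] k) (hres : RingHom.ker res = IsLocalRing.maximalIdeal R)
    (G : Matrix (Fin n) (Fin n) K) (hG : G.det = 1) (a : FormIdx n d → k) (u : FormIdx n d → R)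
    (hu : ∀ m, act k (fun l => algebraMap k K (a l)) G m = algebraMap R K (u m)) :
    ∃ (g₀ : Matrix (Fin n) (Fin n) k) (δ : Fin n → (ValuationRing.ValueGroup R K)ˣ),
      g₀.det = 1 ∧ ∏ i, δ i = 1 ∧
      ((∀ i, δ i = 1) → ∃ G' : Matrix (Fin n) (Fin n) R, G = G'.map (algebraMap R K)) ∧
      (∀ m, act k a g₀ m ≠ 0 → 1 ≤ ∏ i, δ i ^ (m.1 i)) ∧
      ((∀ m, u m ∈ IsLocalRing.maximalIdeal R) → ∀ m, act k a g₀ m ≠ 0 → 1 < ∏ i, δ i ^ (m.1 i)) := by
  classical
  obtain ⟨A, B, dd, hA, hB, hGd⟩ := exists_cartan (R := R) (K := K) n G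
  set f := algebraMap R K with hf
  let fa : R →ₐ[k] K := IsScalarTower.toAlgHom k R K
  have hfa : ∀ r, fa r = f r := fun r => rfl
  set v := ValuationRing.valuation R K with hv
  have hdetA : (A.map f).det = 1 := by
    rw [← RingHom.mapMatrix_apply, ← RingHom.map_det, hA, map_one]
  have hdetB : (B.map f).det = 1 := by
    rw [← RingHom.mapMatrix_apply, ← RingHom.map_det, hB, map_one]
  have hprod : ∏ i, dd i = 1 := by
    have := hG
    rw [hGd, Matrix.det_mul, Matrix.det_mul, hdetA, hdetB, Matrix.det_diagonal, one_mul, mul_one] at this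
    exact this
  have hdd : ∀ i, dd i ≠ 0 := by
    intro i hi
    have : ∏ j, dd j = 0 := Finset.prod_eq_zero (Finset.mem_univ i) hi
    rw [hprod] at this
    exact one_ne_zero this
  have hvdd : ∀ i, v (dd i) ≠ 0 := fun i => (Valuation.ne_zero_iff v).2 (hdd i)
  let γ : Fin n → (ValuationRing.ValueGroup R K)ˣ := fun i => Units.mk0 (v (dd i)) (hvdd i)
  have hγprod : ∏ i, γ i = 1 := by
    apply Units.ext
    rw [Units.coe_prod, Units.val_one]
    simp only [γ, Units.val_mk0]
    rw [← map_prod, hprod, map_one]
  -- reductions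
  have hresalg : ∀ c : k, res (algebraMap k R c) = c := fun c => by
    rw [AlgHom.commutes]; rfl
  set w : FormIdx n d → R := act k (fun l => algebraMap k R (a l)) A with hw
  have hwK : ∀ m, f (w m) = act k (fun l => algebraMap k K (a l)) (A.map f) m := by
    intro m
    rw [← hfa, hw, act_map]
    congr 1
    funext l
    rw [hfa, hf, ← IsScalarTower.algebraMap_apply]
  have hwres : ∀ m, res (w m) = act k a (A.map res) m := by
    intro m
    rw [hw, act_map]
    congr 1
    funext l
    exact hresalg _
  set u' : FormIdx n d → R := act k u B.adjugate with hu'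
  have hu'K : ∀ m, f (u' m) = act k (fun l => f (u l)) (B.adjugate.map f) m := by
    intro m
    rw [← hfa, hu', act_map]
    rfl
  have hBB : B.map f * B.adjugate.map f = 1 := by
    rw [← Matrix.map_mul, Matrix.mul_adjugate, hB, one_smul, Matrix.map_one _ (map_zero _) (map_one _)]
  -- the key identity
  have hkey : ∀ m, f (w m) * ∏ i, dd i ^ m.1 i = f (u' m) := by
    intro m
    have h1 : act k (fun l => algebraMap k K (a l)) G = fun l => f (u l) := funext hu
    rw [hGd, ← act_mul, ← act_mul] at h1
    have hX : ∀ X : FormIdx n d → K, act k (act k X (B.map f)) (B.adjugate.map f) = X := fun X => by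
      rw [act_mul, hBB, act_one]
    have h2 := congrArg (fun b => act k b (B.adjugate.map f)) h1
    simp only [hX] at h2
    have h3 := congrFun h2 m
    rw [act_diagonal, ← hu'K] at h3
    rw [← h3]
    congr 1
    exact hwK m
  have hvkey : ∀ m, v (f (w m)) * ((∏ i, γ i ^ m.1 i : (ValuationRing.ValueGroup R K)ˣ) :
      ValuationRing.ValueGroup R K) = v (f (u' m)) := by
    intro m
    rw [← hkey m, map_mul, map_prod, Units.coe_prod]
    congr 1
    apply Finset.prod_congr rfl
    intro i _
    rw [map_pow, Units.val_pow_eq_pow_val, Units.val_mk0]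
  refine ⟨A.map res, fun i => (γ i)⁻¹, ?_, ?_, ?_, ?_, ?_⟩
  · rw [← AlgHom.coe_toRingHom, ← RingHom.mapMatrix_apply, ← RingHom.map_det, hA, map_one]
  · rw [Finset.prod_inv_distrib, hγprod, inv_one]
  · intro hall
    have hγ1 : ∀ i, v (dd i) = 1 := by
      intro i
      have := hall i
      rw [inv_eq_one] at this
      have h2 := congrArg Units.val this
      simpa [γ] using h2
    have hex : ∀ i, ∃ e : R, f e = dd i := fun i =>
      (integers (R := R) (K := K)).exists_of_le_one (le_of_eq (hγ1 i))
    choose e he using hex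
    refine ⟨A * Matrix.diagonal e * B, ?_⟩
    rw [hGd, Matrix.map_mul, Matrix.map_mul, Matrix.diagonal_map (map_zero f)]
    congr 3
    funext i
    exact (he i).symm
  · intro m hm
    rw [← hwres] at hm
    have hwm : w m ∉ IsLocalRing.maximalIdeal R := by
      rw [← hres, RingHom.mem_ker]
      exact hm
    have h1 := hvkey m
    rw [val_eq_one_of_not_mem hwm, one_mul] at h1
    have h2 : ((∏ i, γ i ^ m.1 i : (ValuationRing.ValueGroup R K)ˣ) : ValuationRing.ValueGroup R K) ≤ 1 := by
      rw [h1]
      exact (integers (R := R) (K := K)).map_le_one _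
    have h3 : (∏ i, γ i ^ m.1 i : (ValuationRing.ValueGroup R K)ˣ) ≤ 1 := by
      rw [← Units.val_le_val]
      exact h2
    simp only [inv_pow, Finset.prod_inv_distrib]
    exact one_le_inv'.2 h3
  · intro hum m hm
    rw [← hwres] at hm
    have hwm : w m ∉ IsLocalRing.maximalIdeal R := by
      rw [← hres, RingHom.mem_ker]
      exact hm
    have hu'm : u' m ∈ IsLocalRing.maximalIdeal R := by
      rw [hu', act]
      exact Ideal.sum_mem _ fun l _ => Ideal.mul_mem_right _ _ (hum l)
    have h1 := hvkey m
    rw [val_eq_one_of_not_mem hwm, one_mul] at h1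
    have h2 : ((∏ i, γ i ^ m.1 i : (ValuationRing.ValueGroup R K)ˣ) : ValuationRing.ValueGroup R K) < 1 := by
      rw [h1]
      exact val_lt_one_of_mem hu'm
    have h3 : (∏ i, γ i ^ m.1 i : (ValuationRing.ValueGroup R K)ˣ) < 1 := by
      rw [← Units.val_lt_val]
      exact h2
    simp only [inv_pow, Finset.prod_inv_distrib]
    exact one_lt_inv'.2 h3

end Core

end Groth.Agent.Lib.HMVal38
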