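import Groth.Agent.Lib.PlaceExt38
import Groth.Agent.Lib.GITQuot38

/-!
# Valuation rings detecting non-integrality (helper38)

For `φ : P → A` a map of `k`-algebras (`k` algebraically closed, `P` of finite type) and `c : A` not
integral over `P`, there is a valuation ring `R ⊇ k` with residue field `k`, a point `Ξ` of `A` with
values in `Frac R` whose restriction to `P` has values in `R`, and `Ξ c ∉ R`.
-/

set_option autoImplicit false
universe u v w
open Polynomial

namespace Groth.Agent.Lib.PlaceExt38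

section Point2
variable {k : Type u} [Field k] [IsAlgClosed k]

/-- packaging of `exists_place` as an abstract valuation ring -/
theorem exists_valuationRing_of_place {K : Type u} [Field K] [Algebra k K] {P : Type u} [CommRing P]
    [Algebra k P] (ψ : P →ₐ[k] K) (y : P →ₐ[k] k) (hker : RingHom.ker ψ ≤ RingHom.ker y) :
    ∃ (R : Type u) (_ : CommRing R) (_ : IsDomain R) (_ : ValuationRing R) (_ : Algebra k R)
      (res : R →ₐ[k] k) (ι : K →ₐ[k] FractionRing R) (h : P →ₐ[k] R),
      RingHom.ker res = IsLocalRing.maximalIdeal R ∧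
        (∀ p : P, algebraMap R (FractionRing R) (h p) = ι (ψ p)) ∧ res.comp h = y := by
  obtain ⟨Γ, hΓ, hmem, hV1, hV2⟩ := exists_place ψ y hker
  have hdom : IsDomain Γ := isDomain_of_isGraph hΓ
  have hval : ValuationRing Γ := valuationRing_of_isGraph hΓ hV1
  let _ : Algebra Γ K := algFst Γ
  have hfrac : IsFractionRing Γ K := isFractionRing_of_isGraph hΓ hV1
  have htower : IsScalarTower k Γ K := IsScalarTower.of_algebraMap_eq fun c => by
    show algebraMap k K c = fstHom Γ (algebraMap k Γ c)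
    rw [AlgHom.commutes]
  let e : FractionRing Γ ≃ₐ[Γ] K := FractionRing.algEquiv Γ K
  let h : P →ₐ[k] Γ := (ψ.prod y).codRestrict Γ hmem
  refine ⟨Γ, inferInstance, hdom, hval, inferInstance, sndHom Γ,
    ((e.symm.restrictScalars k : K ≃ₐ[k] FractionRing Γ) : K →ₐ[k] FractionRing Γ), h,
    ker_sndHom_eq_maximalIdeal hV2, ?_, ?_⟩
  · intro p
    show algebraMap Γ (FractionRing Γ) (h p) = e.symm (ψ p)
    have : ψ p = algebraMap Γ K (h p) := rfl
    rw [this, AlgEquiv.commutes]
  · apply AlgHom.ext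
    intro p
    rfl

/-- **Valuation rings detect non-integrality.** -/
theorem exists_valuationRing_of_not_isIntegral {A P : Type u} [CommRing A] [Algebra k A] [CommRing P]
    [Algebra k P] [Algebra.FiniteType k P] (φ : P →ₐ[k] A) (c : A)
    (hc : ¬ φ.toRingHom.IsIntegralElem c) :
    ∃ (R : Type u) (_ : CommRing R) (_ : IsDomain R) (_ : ValuationRing R) (_ : Algebra k R)
      (res : R →ₐ[k] k) (Ξ : A →ₐ[k] FractionRing R) (h : P →ₐ[k] R),
      RingHom.ker res = IsLocalRing.maximalIdeal R ∧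
        (IsScalarTower.toAlgHom k R (FractionRing R)).comp h = Ξ.comp φ ∧
          Ξ c ∉ Set.range (algebraMap R (FractionRing R)) := by
  classical
  -- the multiplicative set of monic expressions in `c`
  let S : Submonoid A :=
    { carrier := {a | ∃ p : P[X], p.Monic ∧ eval₂ φ.toRingHom c p = a}
      one_mem' := ⟨1, monic_one, by simp⟩
      mul_mem' := by
        rintro a b ⟨p, hp, rfl⟩ ⟨q, hq, rfl⟩
        exact ⟨p * q, hp.mul hq, by rw [eval₂_mul]⟩ }
  have h0 : (0 : A) ∉ S := by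
    rintro ⟨p, hp, hp0⟩
    exact hc ⟨p, hp, hp0⟩
  have hdisj : Disjoint ((⊥ : Ideal A) : Set A) (S : Set A) := by
    rw [Set.disjoint_left]
    intro a ha haS
    have : a = 0 := by simpa using ha
    exact h0 (this ▸ haS)
  obtain ⟨𝔮, h𝔮prime, -, h𝔮S⟩ := Ideal.exists_le_prime_disjoint ⊥ S hdisj
  let K := FractionRing (A ⧸ 𝔮)
  let Ξ₀ : A →ₐ[k] K := (IsScalarTower.toAlgHom k (A ⧸ 𝔮) K).comp (Ideal.Quotient.mkₐ k 𝔮)
  have hΞ₀ : ∀ a : A, Ξ₀ a = 0 → a ∈ 𝔮 := by
    intro a ha
    have h1 : algebraMap (A ⧸ 𝔮) K (Ideal.Quotient.mk 𝔮 a) = 0 := ha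
    have h2 := (IsFractionRing.injective (A ⧸ 𝔮) K) (h1.trans (map_zero _).symm)
    exact Ideal.Quotient.eq_zero_iff_mem.1 h2
  set c' : K := Ξ₀ c with hc'
  let ψ₀ : P →ₐ[k] K := Ξ₀.comp φ
  have hmonic : ∀ p : P[X], p.Monic → eval₂ ψ₀.toRingHom c' p ≠ 0 := by
    intro p hp h
    have h1 : eval₂ ψ₀.toRingHom c' p = Ξ₀ (eval₂ φ.toRingHom c p) := by
      rw [hc']
      exact (hom_eval₂ p φ.toRingHom Ξ₀.toRingHom c).symm
    rw [h1] at h
    have h2 := hΞ₀ _ h
    exact (Set.disjoint_left.1 h𝔮S) h2 ⟨p, hp, rfl⟩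
  have hc'0 : c' ≠ 0 := by
    have := hmonic X monic_X
    rwa [eval₂_X] at this
  let ψ' : P[X] →ₐ[k] K := aevalTower ψ₀ c'⁻¹
  have hψ'X : ψ' X = c'⁻¹ := aevalTower_X _ _
  have hψ'eval : ∀ q : P[X], ψ' q = eval₂ ψ₀.toRingHom c'⁻¹ q := fun q => rfl
  -- the ideal `ker ψ' + (X)` is proper
  have hJ : RingHom.ker ψ' ⊔ Ideal.span {(X : P[X])} ≠ ⊤ := by
    intro htop
    have h1 : (1 : P[X]) ∈ RingHom.ker ψ' ⊔ Ideal.span {(X : P[X])} := htop ▸ Submodule.mem_top
    obtain ⟨u, hu, w, hw, huw⟩ := Submodule.mem_sup.1 h1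
    obtain ⟨q, rfl⟩ := Ideal.mem_span_singleton'.1 hw
    have hu0 : ψ' u = 0 := hu
    have h2 := congrArg ψ' huw
    rw [map_add, hu0, zero_add, map_mul, hψ'X, map_one] at h2
    -- `c' = ψ' q`
    have h3 : ψ' q = c' := by
      have := congrArg (fun t => t * c') h2
      simp only [one_mul] at this
      rw [mul_assoc, inv_mul_cancel₀ hc'0, mul_one] at this
      exact this
    set N := q.natDegree with hN
    have hinv : Invertible c'⁻¹ := ⟨c', mul_inv_cancel₀ hc'0, inv_mul_cancel₀ hc'0⟩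
    have h4 := eval₂_reflect_mul_pow ψ₀.toRingHom c'⁻¹ N q le_rfl
    have h5 : ⅟(c'⁻¹) = c' := by
      rw [invOf_eq_inv, inv_inv]
    rw [h5, ← hψ'eval, h3] at h4
    have h6 : eval₂ ψ₀.toRingHom c' (reflect N q) = c' ^ (N + 1) := by
      have : eval₂ ψ₀.toRingHom c' (reflect N q) * c'⁻¹ ^ N * c' ^ N = c' * c' ^ N := by rw [h4]
      rw [mul_assoc, ← mul_pow, inv_mul_cancel₀ hc'0, one_pow, mul_one] at this
      rw [this, pow_succ, mul_comm]
    have hdeg : (reflect N q).degree < ((N + 1 : ℕ) : WithBot ℕ) := by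
      refine lt_of_le_of_lt degree_le_natDegree ?_
      have := natDegree_reflect_le (N := N) (p := q)
      rw [max_eq_left le_rfl] at this
      exact_mod_cast Nat.lt_succ_of_le this
    have hm : (X ^ (N + 1) - reflect N q).Monic := monic_X_pow_sub hdeg
    apply hmonic _ hm
    rw [eval₂_sub, eval₂_pow, eval₂_X, h6, sub_self]
  have : Algebra.FiniteType k P[X] := inferInstance
  obtain ⟨y', hy'⟩ := Groth.Agent.Lib.GITQuot38.exists_algHom_ker_ge (k := k)
    (RingHom.ker ψ' ⊔ Ideal.span {(X : P[X])}) hJ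
  have hker : RingHom.ker ψ' ≤ RingHom.ker y' := le_sup_left.trans hy'
  have hy'X : y' X = 0 := hy' (Ideal.mem_sup_right (Ideal.subset_span rfl))
  obtain ⟨R, iR, iD, iV, iA, res, ι, h', hres, hcomm, hred⟩ :=
    exists_valuationRing_of_place ψ' y' hker
  refine ⟨R, iR, iD, iV, iA, res, ι.comp Ξ₀,
    h'.comp (IsScalarTower.toAlgHom k P P[X]), hres, ?_, ?_⟩
  · apply AlgHom.ext
    intro p
    show algebraMap R (FractionRing R) (h' (C p)) = ι (Ξ₀ (φ p))
    rw [hcomm]
    congr 1
    exact aevalTower_C _ _ _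
  · rintro ⟨r, hr⟩
    have hr' : algebraMap R (FractionRing R) r = ι c' := hr
    have h1 : algebraMap R (FractionRing R) (r * h' X) = 1 := by
      rw [map_mul, hcomm, hψ'X, hr', ← map_mul, mul_inv_cancel₀ hc'0, map_one]
    have h2 : r * h' X = 1 := by
      apply IsFractionRing.injective R (FractionRing R)
      rw [h1, map_one]
    have h3 : h' X ∈ IsLocalRing.maximalIdeal R := by
      rw [← hres, RingHom.mem_ker]
      have := congrArg (fun f : P[X] →ₐ[k] k => f X) hred
      simp only [AlgHom.comp_apply] at this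
      rw [this, hy'X]
    have h4 : IsUnit (h' X) := IsUnit.of_mul_eq_one r (by rw [mul_comm]; exact h2)
    exact (IsLocalRing.mem_maximalIdeal _).1 h3 h4

end Point2

end Groth.Agent.Lib.PlaceExt38
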