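import Groth.Agent.Lib.OrbitDim38b
import Groth.Agent.Lib.DynConv

set_option autoImplicit false
set_option linter.unusedSectionVars false
universe u v w
open TensorProduct

namespace Groth.Agent.Lib.StabLie38
open Groth.Agent.Lib.Comod Groth.Agent.Lib.Cartier38 Groth.Agent.Lib.GLinGrading38
  Groth.Agent.Lib.GITOrbit38 Groth.Agent.Lib.GITQuot38 Groth.Agent.Lib.OrbitDim38

section HopfFinite
variable {k : Type u} [Field k] [IsAlgClosed k] {H : Type v} [CommRing H] [HopfAlgebra k H]
  [Algebra.FiniteType k H]

/-- every maximal ideal is the kernel of a rational point -/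
theorem exists_point_ker_eq (m : Ideal H) (hm : m.IsMaximal) :
    ∃ g : H →ₐ[k] k, RingHom.ker g = m := by
  obtain ⟨g, hg⟩ := GITQuot38.exists_algHom_ker_ge (k := k) m hm.ne_top
  have hne : RingHom.ker g ≠ ⊤ := by
    intro h
    have h1 : (1 : H) ∈ RingHom.ker g := h ▸ Submodule.mem_top
    rw [RingHom.mem_ker, map_one] at h1
    exact one_ne_zero h1
  exact ⟨g, (hm.eq_of_le hne hg).symm⟩

/-- If the augmentation ideal is idempotent then so is every maximal ideal. -/
theorem isMaximal_le_sq (h : augI k H ≤ augI k H ^ 2) (m : Ideal H) (hm : m.IsMaximal) :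
    m ≤ m ^ 2 := by
  obtain ⟨g, rfl⟩ := exists_point_ker_eq (k := k) m hm
  let τ := translate g
  have hτ : ∀ a, a ∈ RingHom.ker g ↔ τ a ∈ augI k H := fun a => by
    rw [RingHom.mem_ker, mem_augI, counit_translate]
  have key : ∀ b ∈ augI k H ^ 2, τ.symm b ∈ RingHom.ker g ^ 2 := by
    intro b hb
    rw [pow_two] at hb ⊢
    refine Submodule.mul_induction_on hb ?_ ?_
    · intro p hp q hq
      rw [map_mul]
      refine Ideal.mul_mem_mul ?_ ?_
      · rw [hτ, AlgEquiv.apply_symm_apply]; exact hp
      · rw [hτ, AlgEquiv.apply_symm_apply]; exact hq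
    · intro p q hp hq
      rw [map_add]
      exact Ideal.add_mem _ hp hq
  intro a ha
  have := key (τ a) (h ((hτ a).1 ha))
  rwa [AlgEquiv.symm_apply_apply] at this

/-- A finite type Hopf algebra with idempotent augmentation ideal has finitely many maximal
ideals. -/
theorem finite_isMaximal_of_augI_le_sq (h : augI k H ≤ augI k H ^ 2) :
    {m : Ideal H | m.IsMaximal}.Finite := by
  classical
  have hHn : IsNoetherianRing H := Algebra.FiniteType.isNoetherianRing k H
  -- each maximal ideal is generated by an idempotent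
  have hidem : ∀ m : Ideal H, m.IsMaximal → ∃ e : H, IsIdempotentElem e ∧ m = Ideal.span {e} := by
    intro m hm
    have h1 : IsIdempotentElem m := by
      rw [IsIdempotentElem, ← pow_two]
      exact le_antisymm (Ideal.pow_le_self two_ne_zero) (isMaximal_le_sq (k := k) h m hm)
    exact (Ideal.isIdempotentElem_iff_of_fg m (IsNoetherian.noetherian m)).1 h1
  choose! e he using hidem
  let 𝔠 : Ideal H := Ideal.span {x | ∃ m : Ideal H, m.IsMaximal ∧ x = 1 - e m}
  have h𝔠 : 𝔠 = ⊤ := by
    by_contra hne
    obtain ⟨m₀, hm₀, hle⟩ := Ideal.exists_le_maximal 𝔠 hne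
    have h1 : 1 - e m₀ ∈ m₀ := hle (Ideal.subset_span ⟨m₀, hm₀, rfl⟩)
    have h2 : e m₀ ∈ m₀ :=
      ((SetLike.ext_iff.1 (he m₀ hm₀).2) (e m₀)).2 (Ideal.subset_span rfl)
    have : (1 : H) ∈ m₀ := by
      have := m₀.add_mem h1 h2
      rwa [sub_add_cancel] at this
    exact hm₀.ne_top ((Ideal.eq_top_iff_one m₀).2 this)
  have h1 : (1 : H) ∈ 𝔠 := h𝔠 ▸ Submodule.mem_top
  obtain ⟨T, hTsub, hT1⟩ := Submodule.mem_span_finite_of_mem_span h1
  -- the finitely many maximal ideals appearing
  choose! μ hμ using fun x (hx : x ∈ (T : Set H)) => hTsub hx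
  refine (T.finite_toSet.image μ).subset ?_
  intro m hm
  by_contra hnot
  -- every generator in T lies in m
  have hTm : (T : Set H) ⊆ m := by
    intro x hx
    obtain ⟨hμm, hxe⟩ := hμ x hx
    have hne : μ x ≠ m := fun h => hnot ⟨x, hx, h⟩
    generalize μ x = n at hμm hxe hne
    have hmul : ∀ a ∈ n, (1 - e n) * a = 0 := by
      intro a ha
      rw [(he _ hμm).2, Ideal.mem_span_singleton'] at ha
      obtain ⟨b, rfl⟩ := ha
      have hi := (he _ hμm).1
      rw [IsIdempotentElem] at hi
      calc (1 - e n) * (b * e n) = b * (e n - e n * e n) := by ring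
        _ = 0 := by rw [hi, sub_self, mul_zero]
    by_contra hx1
    apply hne
    have hle : n ≤ m := by
      intro a ha
      have := hmul a ha
      have h0 : (1 - e n) * a ∈ m := by rw [this]; exact m.zero_mem
      rcases (Ideal.IsMaximal.isPrime hm).mem_or_mem h0 with h | h
      · exact absurd (hxe ▸ h) hx1
      · exact h
    exact hμm.eq_of_le (Ideal.IsMaximal.ne_top hm) hle
  have : (1 : H) ∈ m := (Ideal.span_le.2 hTm) hT1
  exact (Ideal.IsMaximal.ne_top hm) ((Ideal.eq_top_iff_one m).2 this)

/-- Conversely (characteristic zero): finitely many maximal ideals force the augmentation ideal to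
be idempotent. -/
theorem augI_le_sq_of_finite [CharZero k] (hfin : {m : Ideal H | m.IsMaximal}.Finite) :
    augI k H ≤ augI k H ^ 2 := by
  classical
  have hred : IsReduced H := isReduced_of_charZero k H
  have hJ : IsJacobsonRing H := isJacobsonRing_of_finiteType (A := k)
  have hImax : (augI k H).IsMaximal := RingHom.ker_isMaximal_of_surjective _
    (fun c => ⟨algebraMap k H c, by simp⟩)
  let T : Finset (Ideal H) := hfin.toFinset.erase (augI k H)
  let 𝔠 : Ideal H := T.inf id
  have hsup : augI k H ⊔ 𝔠 = ⊤ := by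
    by_contra hne
    have h1 : augI k H ⊔ 𝔠 = augI k H := (hImax.eq_of_le hne le_sup_left).symm
    have h2 : 𝔠 ≤ augI k H := h1 ▸ le_sup_right
    obtain ⟨m, hm, hle⟩ := (Ideal.IsPrime.inf_le' hImax.isPrime).1 h2
    have hmT := Finset.mem_erase.1 hm
    have hmmax : m.IsMaximal := hfin.mem_toFinset.1 hmT.2
    exact hmT.1 (hmmax.eq_of_le hImax.ne_top hle)
  have hinf : augI k H ⊓ 𝔠 = ⊥ := by
    rw [eq_bot_iff]
    intro a ha
    have hnil : a ∈ (⊥ : Ideal H).jacobson := by
      rw [Ideal.jacobson, Ideal.mem_sInf]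
      rintro m ⟨-, hm⟩
      by_cases hmI : m = augI k H
      · rw [hmI]; exact ha.1
      · have : m ∈ T := Finset.mem_erase.2 ⟨hmI, hfin.mem_toFinset.2 hm⟩
        exact (Finset.inf_le (f := id) this) ha.2
    rw [hJ.out' ⊥ (by
      intro x hx
      obtain ⟨n, hn⟩ := hx
      exact (IsNilpotent.eq_zero ⟨n, hn⟩ : x = 0) ▸ Ideal.zero_mem _)] at hnil
    exact hnil
  have h1 : (1 : H) ∈ augI k H ⊔ 𝔠 := hsup ▸ Submodule.mem_top
  obtain ⟨a, ha, b, hb, hab⟩ := Submodule.mem_sup.1 h1
  intro c hc
  have hcb : c * b = 0 := by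
    have : c * b ∈ augI k H ⊓ 𝔠 := ⟨Ideal.mul_mem_right _ _ hc, Ideal.mul_mem_left _ _ hb⟩
    rw [hinf] at this
    exact this
  have : c = c * a := by
    calc c = c * (a + b) := by rw [hab, mul_one]
      _ = c * a := by rw [mul_add, hcb, add_zero]
  rw [this, pow_two]
  exact Ideal.mul_mem_mul hc ha

end HopfFinite

section Stab
variable {k : Type u} [Field k] {A : Type u} [CommRing A] [HopfAlgebra k A]
  {R : Type u} [CommRing R] [Algebra k R] [HopfRep.Comod k A R] [GLin.IsCoactAlg k A R]

theorem orbitHom_sub_mem_stabIdeal (y : R →ₐ[k] k) (f : R) :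
    GLin.orbitHom k A y f - algebraMap k A (y f) ∈ GLin.stabIdeal k A y := by
  have hmem : f - algebraMap k R (y f) ∈ RingHom.ker y := by
    rw [RingHom.mem_ker, map_sub, AlgHom.commutes, sub_eq_zero]; rfl
  have := Ideal.mem_map_of_mem (GLin.orbitHom k A y) hmem
  rwa [map_sub, AlgHom.commutes] at this

/-- the condition on points cut out by the stabiliser ideal -/
theorem stabIdeal_represents (y : R →ₐ[k] k) :
    Dyn.Represents k A (GLin.stabIdeal k A y)
      (fun T _ _ g => g.comp (GLin.orbitHom k A y) = (Algebra.ofId k T).comp y) := by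
  intro T _ _ g
  constructor
  · intro h
    apply AlgHom.ext
    intro f
    have := h _ (orbitHom_sub_mem_stabIdeal y f)
    rw [map_sub, AlgHom.commutes, sub_eq_zero] at this
    exact this
  · intro h
    have hle : GLin.stabIdeal k A y ≤ RingHom.ker g := by
      rw [GLin.stabIdeal, Ideal.map_le_iff_le_comap]
      intro f hf
      rw [Ideal.mem_comap, RingHom.mem_ker]
      have := AlgHom.congr_fun h f
      rw [AlgHom.comp_apply] at this
      rw [this, AlgHom.comp_apply, (RingHom.mem_ker).1 hf, map_zero]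
    exact fun a ha => hle ha

theorem antipode_orbitHom_sub_mem (y : R →ₐ[k] k) (f : R) :
    HopfAlgebraStruct.antipode k (GLin.orbitHom k A y f) - algebraMap k A (y f) ∈
      GLin.stabIdeal k A y := by
  set φ := GLin.orbitHom k A y with hφ
  have key : ∀ t : R ⊗[k] A,
      LinearMap.mul' k A ((HopfAlgebraStruct.antipode k (A := A)).lTensor A
        (φ.toLinearMap.rTensor A t)) -
      HopfAlgebraStruct.antipode k ((TensorProduct.lid k A) (y.toLinearMap.rTensor A t)) ∈
        GLin.stabIdeal k A y := by
    intro t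
    induction t using TensorProduct.induction_on with
    | zero => simp
    | add a b ha hb =>
      simp only [map_add]
      have := Ideal.add_mem _ ha hb
      convert this using 1
      ring
    | tmul r a =>
      simp only [LinearMap.rTensor_tmul, LinearMap.lTensor_tmul, AlgHom.toLinearMap_apply,
        LinearMap.mul'_apply, TensorProduct.lid_tmul, map_smul]
      have h1 : φ r * HopfAlgebraStruct.antipode k a - y r • HopfAlgebraStruct.antipode k a =
          (φ r - algebraMap k A (y r)) * HopfAlgebraStruct.antipode k a := by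
        rw [Algebra.smul_def]; ring
      rw [h1]
      exact Ideal.mul_mem_right _ _ (orbitHom_sub_mem_stabIdeal y r)
  have h := key (HopfRep.Comod.coact (k := k) (A := A) f)
  have hcom := LinearMap.congr_fun (isComodHom_orbitHom (A := A) y) f
  simp only [LinearMap.coe_comp, Function.comp_apply, AlgHom.toLinearMap_apply] at hcom
  have hcom' : CoalgebraStruct.comul (R := k) (φ f) =
      φ.toLinearMap.rTensor A (HopfRep.Comod.coact (k := k) (A := A) f) := hcom
  rw [← hcom', ← orbitHom_apply] at h
  have hanti := LinearMap.congr_fun (HopfAlgebra.mul_antipode_lTensor_comul (R := k) (A := A)) (φ f)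
  simp only [LinearMap.coe_comp, Function.comp_apply] at hanti
  rw [hanti] at h
  have hε : CoalgebraStruct.counit (R := k) (φ f) = y f :=
    Groth.Agent.Lib.IsMu38.counit_orbitHom (A := A) y f
  rw [Algebra.linearMap_apply, hε] at h
  have := Ideal.neg_mem_iff _ |>.2 h
  rwa [neg_sub] at this

theorem stabIdeal_isHopfIdeal (y : R →ₐ[k] k) : (GLin.stabIdeal k A y).IsHopfIdeal k := by
  refine Groth.Agent.Lib.DynConv.isHopfIdeal_of_represents k A _ _ (stabIdeal_represents y) ?_ ?_ ?_
  · apply AlgHom.ext
    intro f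
    show algebraMap k k (CoalgebraStruct.counit (R := k) (GLin.orbitHom k A y f)) = _
    rw [Groth.Agent.Lib.IsMu38.counit_orbitHom]
    rfl
  · intro T _ _ g g' hg hg'
    apply AlgHom.ext
    intro f
    rw [AlgHom.comp_apply]
    have hmul : (WithConv.toConv g * WithConv.toConv g').ofConv (GLin.orbitHom k A y f) =
        Algebra.TensorProduct.lift g g' (fun _ _ => .all ..)
          (CoalgebraStruct.comul (R := k) (GLin.orbitHom k A y f)) :=
      AlgHom.convMul_apply (WithConv.toConv g) (WithConv.toConv g') _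
    rw [hmul]
    have hcom := LinearMap.congr_fun (isComodHom_orbitHom (A := A) y) f
    simp only [LinearMap.coe_comp, Function.comp_apply, AlgHom.toLinearMap_apply] at hcom
    have hcom' : CoalgebraStruct.comul (R := k) (GLin.orbitHom k A y f) =
        (GLin.orbitHom k A y).toLinearMap.rTensor A
          (HopfRep.Comod.coact (k := k) (A := A) f) := hcom
    rw [hcom']
    have key : ∀ t : R ⊗[k] A,
        Algebra.TensorProduct.lift g g' (fun _ _ => .all ..)
          ((GLin.orbitHom k A y).toLinearMap.rTensor A t) =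
        g' ((TensorProduct.lid k A) (y.toLinearMap.rTensor A t)) := by
      intro t
      induction t using TensorProduct.induction_on with
      | zero => simp
      | add a b ha hb => simp only [map_add, ha, hb]
      | tmul r a =>
        simp only [LinearMap.rTensor_tmul, AlgHom.toLinearMap_apply,
          Algebra.TensorProduct.lift_tmul, TensorProduct.lid_tmul, map_smul]
        have := AlgHom.congr_fun hg r
        rw [AlgHom.comp_apply] at this
        rw [this, AlgHom.comp_apply, Algebra.smul_def]
        rfl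
    rw [key, ← orbitHom_apply]
    exact AlgHom.congr_fun hg' f
  · intro T _ _ g hg
    apply AlgHom.ext
    intro f
    have hkill := (stabIdeal_represents y T g).2 hg
    have h1 := hkill _ (antipode_orbitHom_sub_mem y f)
    rw [map_sub, AlgHom.commutes, sub_eq_zero] at h1
    exact h1

end Stab


section Points
variable {k : Type u} [Field k] [IsAlgClosed k] {H : Type v} [CommRing H] [Algebra k H]
  [Algebra.FiniteType k H]

/-- rational points and maximal ideals of a finite type algebra over an algebraically closed field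
are finite together -/
theorem finite_points_iff_finite_isMaximal :
    (Set.univ : Set (H →ₐ[k] k)).Finite ↔ {m : Ideal H | m.IsMaximal}.Finite := by
  constructor
  · intro h
    refine (h.image fun g : H →ₐ[k] k => RingHom.ker g).subset ?_
    intro m hm
    obtain ⟨g, hg⟩ := GITQuot38.exists_algHom_ker_ge (k := k) m (Ideal.IsMaximal.ne_top hm)
    have hne : RingHom.ker g ≠ ⊤ := by
      intro h
      have h1 : (1 : H) ∈ RingHom.ker g := h ▸ Submodule.mem_top
      rw [RingHom.mem_ker, map_one] at h1
      exact one_ne_zero h1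
    exact ⟨g, trivial, (Ideal.IsMaximal.eq_of_le hm hne hg).symm⟩
  · intro h
    refine Set.Finite.of_injOn (f := fun g : H →ₐ[k] k => RingHom.ker g) ?_ ?_ h
    · intro g _
      exact RingHom.ker_isMaximal_of_surjective (g : H →+* k)
        (fun c => ⟨algebraMap k H c, AlgHom.commutes g c⟩)
    · intro g _ g' _ hgg
      exact algHom_eq_of_ker_le' (le_of_eq (show RingHom.ker g' = RingHom.ker g from hgg.symm))

end Points

section Crit
variable {k : Type u} [Field k] {A : Type u} [CommRing A] [HopfAlgebra k A]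
  {R : Type u} [CommRing R] [Algebra k R] [HopfRep.Comod k A R] [GLin.IsCoactAlg k A R]
  {ι : Type} [Fintype ι] [DecidableEq ι] (c : Coords k A ι)

/-- the infinitesimal action at `y` is free: the differential of the orbit map hits every
coordinate functional -/
def IsInfFree (y : R →ₐ[k] k) : Prop :=
  ∀ j : ι, ∃ f : R, ∀ i : ι, c.d i (GLin.orbitHom k A y f) = if i = j then 1 else 0

theorem stabIdeal_le_augI (y : R →ₐ[k] k) : GLin.stabIdeal k A y ≤ augI k A := by
  rw [GLin.stabIdeal, Ideal.map_le_iff_le_comap]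
  intro f hf
  rw [Ideal.mem_comap, mem_augI, Groth.Agent.Lib.IsMu38.counit_orbitHom]
  exact hf

/-- values of the coordinate functionals on the stabiliser ideal are realised by functions -/
theorem exists_d_eq_of_mem_stabIdeal (y : R →ₐ[k] k) {b : A} (hb : b ∈ GLin.stabIdeal k A y) :
    ∃ f : R, ∀ i, c.d i b = c.d i (GLin.orbitHom k A y f) := by
  rw [GLin.stabIdeal, Ideal.map] at hb
  induction hb using Submodule.span_induction with
  | mem b hb =>
    obtain ⟨f, -, rfl⟩ := hb
    exact ⟨f, fun i => rfl⟩
  | zero => exact ⟨0, fun i => by rw [map_zero, map_zero, map_zero]⟩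
  | add b b' _ _ hb hb' =>
    obtain ⟨f, hf⟩ := hb
    obtain ⟨f', hf'⟩ := hb'
    exact ⟨f + f', fun i => by rw [map_add, map_add, map_add, hf, hf']⟩
  | smul a b hbmem hb =>
    obtain ⟨f, hf⟩ := hb
    refine ⟨CoalgebraStruct.counit (R := k) a • f, fun i => ?_⟩
    have hbI : CoalgebraStruct.counit (R := k) b = 0 := by
      have : b ∈ GLin.stabIdeal k A y := hbmem
      exact mem_augI.1 (stabIdeal_le_augI y this)
    rw [smul_eq_mul, c.isEpsDer i a b, hbI, mul_zero, add_zero, map_smul, map_smul, smul_eq_mul, hf]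

theorem augI_le_iff (y : R →ₐ[k] k) :
    augI k A ≤ GLin.stabIdeal k A y ⊔ augI k A ^ 2 ↔ IsInfFree c y := by
  constructor
  · intro h j
    obtain ⟨b, hb, e, he, hbe⟩ := Submodule.mem_sup.1 (h (c.hx j))
    obtain ⟨f, hf⟩ := exists_d_eq_of_mem_stabIdeal c y hb
    refine ⟨f, fun i => ?_⟩
    rw [← hf i, ← c.hd_x i j, ← hbe, map_add, c.hd_sq i e he, add_zero]
  · intro h a ha
    choose f hf using h
    -- elements of the stabiliser ideal dual to the coordinates
    let b : ι → A := fun j => GLin.orbitHom k A y (f j) - algebraMap k A (y (f j))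
    have hbJ : ∀ j, b j ∈ GLin.stabIdeal k A y := fun j => orbitHom_sub_mem_stabIdeal y (f j)
    have hbd : ∀ i j, c.d i (b j) = if i = j then 1 else 0 := by
      intro i j
      show c.d i (_ - _) = _
      rw [map_sub, hf j i, Algebra.algebraMap_eq_smul_one, map_smul, c.hd_one, smul_zero, sub_zero]
    have hxb : ∀ j, c.x j - b j ∈ augI k A ^ 2 := by
      intro j
      have hmem : c.x j - b j ∈ augI k A :=
        Ideal.sub_mem _ (c.hx j) (stabIdeal_le_augI y (hbJ j))
      have := c.hspan _ hmem
      have hz : ∑ i, c.d i (c.x j - b j) • c.x i = 0 := by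
        refine Finset.sum_eq_zero fun i _ => ?_
        rw [map_sub, c.hd_x, hbd, sub_self, zero_smul]
      rwa [hz, sub_zero] at this
    have h1 := c.hspan a ha
    have h2 : a = ∑ j, c.d j a • b j +
        ((a - ∑ j, c.d j a • c.x j) + ∑ j, c.d j a • (c.x j - b j)) := by
      simp only [smul_sub, Finset.sum_sub_distrib]
      ring
    rw [h2]
    refine Submodule.add_mem_sup ?_ ?_
    · refine Ideal.sum_mem _ fun j _ => ?_
      rw [Algebra.smul_def]
      exact Ideal.mul_mem_left _ _ (hbJ j)
    · refine Ideal.add_mem _ h1 (Ideal.sum_mem _ fun j _ => ?_)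
      rw [Algebra.smul_def]
      exact Ideal.mul_mem_left _ _ (hxb j)

end Crit


section Quot
variable {k : Type u} [Field k] {A : Type u} [CommRing A] [HopfAlgebra k A]
  (J : Ideal A) [J.IsHopfIdeal k]

theorem counit_mk (a : A) :
    CoalgebraStruct.counit (R := k) (Ideal.Quotient.mk J a) = CoalgebraStruct.counit (R := k) a :=
  rfl

theorem map_augI_eq : Ideal.map (Ideal.Quotient.mk J) (augI k A) = augI k (A ⧸ J) := by
  apply le_antisymm
  · rw [Ideal.map_le_iff_le_comap]
    intro a ha
    rw [Ideal.mem_comap, mem_augI, counit_mk]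
    exact mem_augI.1 ha
  · intro h hh
    obtain ⟨a, rfl⟩ := Ideal.Quotient.mk_surjective h
    rw [mem_augI, counit_mk] at hh
    exact Ideal.mem_map_of_mem _ (mem_augI.2 hh)

theorem augI_quot_le_sq_iff :
    augI k (A ⧸ J) ≤ augI k (A ⧸ J) ^ 2 ↔ augI k A ≤ J ⊔ augI k A ^ 2 := by
  rw [← map_augI_eq J, ← Ideal.map_pow]
  constructor
  · intro h a ha
    have h1 := h (Ideal.mem_map_of_mem (Ideal.Quotient.mk J) ha)
    obtain ⟨e, he, hea⟩ := (Ideal.mem_map_iff_of_surjective _ Ideal.Quotient.mk_surjective).1 h1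
    have h2 : a - e ∈ J := by
      rw [← Ideal.Quotient.eq]
      exact hea.symm
    have : a = (a - e) + e := by ring
    rw [this]
    exact Submodule.add_mem_sup h2 he
  · intro h
    rw [Ideal.map_le_iff_le_comap]
    intro a ha
    obtain ⟨j, hj, e, he, rfl⟩ := Submodule.mem_sup.1 (h ha)
    rw [Ideal.mem_comap, map_add, Ideal.Quotient.eq_zero_iff_mem.2 hj, zero_add]
    exact Ideal.mem_map_of_mem _ he

end Quot

section Main
variable {k : Type u} [Field k] [IsAlgClosed k] {A : Type u} [CommRing A] [HopfAlgebra k A]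
  [Algebra.FiniteType k A]
  {R : Type u} [CommRing R] [Algebra k R] [HopfRep.Comod k A R] [GLin.IsCoactAlg k A R]
  {ι : Type} [Fintype ι] [DecidableEq ι] (c : Coords k A ι)

theorem finite_stab_iff_finite_points (y : R →ₐ[k] k) :
    {g : A →ₐ[k] k | GLin.actPt k g y = y}.Finite ↔
      (Set.univ : Set ((A ⧸ GLin.stabIdeal k A y) →ₐ[k] k)).Finite := by
  set J := GLin.stabIdeal k A y with hJ
  have hrep : ∀ g : A →ₐ[k] k, (∀ a ∈ GLin.stabIdeal k A y, g a = 0) ↔
      g.comp (GLin.orbitHom k A y) = (Algebra.ofId k k).comp y :=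
    fun g => stabIdeal_represents (A := A) y k g
  have hid : (Algebra.ofId k k).comp y = y := AlgHom.ext fun f => rfl
  constructor
  · intro h
    refine Set.Finite.of_injOn (f := fun g' : (A ⧸ J) →ₐ[k] k => g'.comp (Ideal.Quotient.mkₐ k J))
      ?_ ?_ h
    · intro g' _
      have h1 : ∀ a ∈ J, (g'.comp (Ideal.Quotient.mkₐ k J)) a = 0 := by
        intro a ha
        show g' (Ideal.Quotient.mk J a) = 0
        rw [Ideal.Quotient.eq_zero_iff_mem.2 ha, map_zero]
      have h2 := (hrep _).1 h1
      rw [hid] at h2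
      exact h2
    · intro g₁ _ g₂ _ h12
      apply AlgHom.ext
      intro q
      obtain ⟨a, rfl⟩ := Ideal.Quotient.mk_surjective q
      exact AlgHom.congr_fun h12 a
  · intro h
    refine (h.image fun g' : (A ⧸ J) →ₐ[k] k => g'.comp (Ideal.Quotient.mkₐ k J)).subset ?_
    intro g hg
    have hg' : g.comp (GLin.orbitHom k A y) = (Algebra.ofId k k).comp y := by
      rw [hid]; exact hg
    have hkill := (hrep g).2 hg'
    refine ⟨Ideal.Quotient.liftₐ J g hkill, trivial, ?_⟩
    apply AlgHom.ext
    intro a
    rfl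

/-- **Infinitesimal criterion for finite stabilisers** (characteristic zero). -/
theorem finite_stab_iff [CharZero k] (y : R →ₐ[k] k) :
    {g : A →ₐ[k] k | GLin.actPt k g y = y}.Finite ↔ IsInfFree c y := by
  have hH : (GLin.stabIdeal k A y).IsHopfIdeal k := stabIdeal_isHopfIdeal y
  have hft : Algebra.FiniteType k (A ⧸ GLin.stabIdeal k A y) :=
    Algebra.FiniteType.of_surjective (Ideal.Quotient.mkₐ k _) (Ideal.Quotient.mkₐ_surjective k _)
  rw [finite_stab_iff_finite_points, finite_points_iff_finite_isMaximal, ← augI_le_iff,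
    ← augI_quot_le_sq_iff]
  exact ⟨augI_le_sq_of_finite, finite_isMaximal_of_augI_le_sq⟩

end Main


end Groth.Agent.Lib.StabLie38
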