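import Groth.Prelude.Def_GLin
import Mathlib.RingTheory.Spectrum.Prime.Topology
import Mathlib.RingTheory.IntegralClosure.IsIntegralClosure.Basic
import Mathlib.RingTheory.FiniteType

/-!
# A point with integral orbit morphism is stable (helper38)

If the orbit morphism `R → A` of a rational point is integral, then the orbit is closed (going up)
and the stabiliser is finite.
-/

set_option autoImplicit false
universe u v w
open Polynomial

namespace Groth.Agent.Lib.StableInt38

variable {k : Type u} [Field k] {A : Type v} [CommRing A] [Bialgebra k A]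
  {R : Type w} [CommRing R] [Algebra k R] [HopfRep.Comod k A R] [GLin.IsCoactAlg k A R]

theorem isClosedOrbit_of_isIntegral (x : R →ₐ[k] k)
    (h : (GLin.orbitHom k A x).toRingHom.IsIntegral) : GLin.IsClosedOrbit k A x :=
  (PrimeSpectrum.isClosedMap_comap_of_isIntegral _ h).isClosed_range

theorem orbitHom_sub_mem (x : R →ₐ[k] k) (f : R) :
    GLin.orbitHom k A x f - algebraMap k A (x f) ∈ GLin.stabIdeal k A x := by
  have h1 : f - algebraMap k R (x f) ∈ RingHom.ker x := by
    rw [RingHom.mem_ker, map_sub, AlgHom.commutes, sub_eq_zero]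
    rfl
  have h2 := Ideal.mem_map_of_mem (GLin.orbitHom k A x) h1
  rw [map_sub, AlgHom.commutes] at h2
  exact h2

theorem hasFiniteStab_of_isIntegral [Algebra.FiniteType k A] (x : R →ₐ[k] k)
    (h : (GLin.orbitHom k A x).toRingHom.IsIntegral) : GLin.HasFiniteStab k A x := by
  set I := GLin.stabIdeal k A x with hI
  have hcomp : (algebraMap k (A ⧸ I)).comp x.toRingHom =
      (Ideal.Quotient.mk I).comp (GLin.orbitHom k A x).toRingHom := by
    ext f
    simp only [RingHom.comp_apply]
    symm
    rw [← sub_eq_zero]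
    have h1 : Ideal.Quotient.mk I (GLin.orbitHom k A x f - algebraMap k A (x f)) = 0 :=
      Ideal.Quotient.eq_zero_iff_mem.2 (orbitHom_sub_mem x f)
    rw [map_sub] at h1
    exact h1
  have hint : Algebra.IsIntegral k (A ⧸ I) := by
    refine ⟨fun b => ?_⟩
    obtain ⟨a, rfl⟩ := Ideal.Quotient.mk_surjective b
    obtain ⟨p, hp, hpa⟩ := h a
    refine ⟨p.map x.toRingHom, hp.map _, ?_⟩
    rw [eval₂_map, hcomp, ← hom_eval₂, hpa, map_zero]
  have hft : Algebra.FiniteType k (A ⧸ I) :=
    Algebra.FiniteType.of_surjective (Ideal.Quotient.mkₐ k I) (Ideal.Quotient.mkₐ_surjective k I)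
  exact Algebra.IsIntegral.finite

theorem isStablePt_of_isIntegral [Algebra.FiniteType k A] (x : R →ₐ[k] k)
    (h : (GLin.orbitHom k A x).toRingHom.IsIntegral) : GLin.IsStablePt k A x :=
  ⟨isClosedOrbit_of_isIntegral x h, hasFiniteStab_of_isIntegral x h⟩

end Groth.Agent.Lib.StableInt38
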