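import Groth.Agent.Lib.SLnForms38
import Groth.Agent.Lib.HMVal38
import Groth.Agent.Lib.PlaceExt38b
import Groth.Agent.Lib.StableInt38
import Groth.Agent.Lib.GITOrbit38
import Groth.Agent.Lib.StabLie38

/-!
# The Hilbert–Mumford criterion for `SL_n` acting on forms (helper38)

Numerical criteria, in terms of the moved coordinate vector `act k a M` and integer weights `r`:
* `not_isStableVec_iff` (any characteristic): `a` is not stable iff for some `M ∈ SL_n(k)` and some
  `r ≠ 0` with `∑ r = 0` all monomials `m` in the support of `a·M` have `⟨m, r⟩ ≥ 0`;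
* `isNullform_iff` (characteristic zero): `a` is a nullform iff for some `M`, `r` all monomials in the
  support of `a·M` have `⟨m, r⟩ > 0`.
-/

set_option autoImplicit false
set_option linter.unusedSectionVars false
universe u v
open MvPolynomial CoordGrp

namespace Groth.Agent.Lib.HMForms38
open Groth.Agent.Lib.FormsAct38 Groth.Agent.Lib.SLnForms38

attribute [local instance] fC fCA

section Weights
variable {k : Type u} [Field k] {n d : ℕ}

/-- the weight of the monomial `m` for the diagonal one-parameter subgroup with exponents `r` -/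
def wt (r : Fin n → ℤ) (m : FormIdx n d) : ℤ := ∑ i, (m.1 i : ℤ) * r i

theorem prod_zpow_eq {ι : Type*} (t : k) (ht : t ≠ 0) (s : Finset ι) (e : ι → ℤ) :
    ∏ i ∈ s, t ^ e i = t ^ ∑ i ∈ s, e i := by
  classical
  induction s using Finset.induction_on with
  | empty => simp
  | insert a s ha ih => rw [Finset.prod_insert ha, Finset.sum_insert ha, zpow_add₀ ht, ih]

/-- the diagonal matrix `diag(t^r)` -/
noncomputable def dg (r : Fin n → ℤ) (t : k) : Matrix (Fin n) (Fin n) k :=
  Matrix.diagonal fun i => t ^ r i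

theorem det_dg (r : Fin n → ℤ) (hr : ∑ i, r i = 0) (t : k) (ht : t ≠ 0) : (dg r t).det = 1 := by
  rw [dg, Matrix.det_diagonal, prod_zpow_eq t ht, hr, zpow_zero]

theorem act_dg (a : FormIdx n d → k) (r : Fin n → ℤ) (t : k) (ht : t ≠ 0) (m : FormIdx n d) :
    act k a (dg r t) m = a m * t ^ wt r m := by
  rw [dg, act_diagonal, wt, ← prod_zpow_eq t ht]
  congr 1
  apply Finset.prod_congr rfl
  intro i _
  rw [← zpow_natCast, ← zpow_mul, mul_comm]

/-- the polynomial curve `t ↦ a·diag(t^r)` (for weights `≥ 0` on the support of `a`) -/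
noncomputable def curve (a : FormIdx n d → k) (r : Fin n → ℤ) (m : FormIdx n d) : Polynomial k :=
  Polynomial.C (a m) * Polynomial.X ^ (wt r m).toNat

theorem eval_curve (a : FormIdx n d → k) (r : Fin n → ℤ)
    (h : ∀ m, a m ≠ 0 → 0 ≤ wt r m) (t : k) (ht : t ≠ 0) (m : FormIdx n d) :
    (curve a r m).eval t = act k a (dg r t) m := by
  rw [act_dg a r t ht, curve, Polynomial.eval_mul, Polynomial.eval_C, Polynomial.eval_pow,
    Polynomial.eval_X]
  by_cases ha : a m = 0
  · rw [ha, zero_mul, zero_mul]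
  · congr 1
    rw [← zpow_natCast, Int.toNat_of_nonneg (h m ha)]

theorem eval_zero_curve (a : FormIdx n d → k) (r : Fin n → ℤ) (m : FormIdx n d) :
    (curve a r m).eval 0 = if (wt r m).toNat = 0 then a m else 0 := by
  rw [curve, Polynomial.eval_mul, Polynomial.eval_C, Polynomial.eval_pow, Polynomial.eval_X]
  split_ifs with h
  · rw [h, pow_zero, mul_one]
  · rw [zero_pow h, mul_zero]

/-- evaluating a polynomial function along the curve -/
theorem eval_aeval_curve (b : FormIdx n d → Polynomial k) (F : FormRing k n d) (t : k) :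
    (aeval b F).eval t = MvPolynomial.eval (fun m => (b m).eval t) F := by
  have h : (Polynomial.evalRingHom t).comp (aeval b : FormRing k n d →ₐ[k] Polynomial k).toRingHom =
      (MvPolynomial.eval fun m => (b m).eval t) := by
    apply MvPolynomial.ringHom_ext
    · intro c
      simp
    · intro m
      simp
  exact congrArg (fun φ : FormRing k n d →+* k => φ F) h

end Weights

section Easy
variable {k : Type u} [Field k] {n d : ℕ}

theorem vecPt_apply (a : FormIdx n d → k) (F : FormRing k n d) :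
    GLin.vecPt k (FormIdx n d) a F = MvPolynomial.eval a F := by
  show aeval a F = _
  exact congrArg (fun φ : FormRing k n d →+* k => φ F) (MvPolynomial.coe_aeval_eq_eval a)

/-- invariant polynomials are constant along orbits -/
theorem eval_act_of_mem_invariants {F : FormRing k n d}
    (hF : F ∈ GLin.invariants k (SLn n k) (FormRing k n d))
    (a : FormIdx n d → k) (M : Matrix (Fin n) (Fin n) k) (hM : M.det = 1) :
    MvPolynomial.eval (act k a M) F = MvPolynomial.eval a F := by
  have h1 := congrArg (fun z : FormRing k n d →ₐ[k] k => z F) (actPt_pt M hM a)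
  simp only [vecPt_apply] at h1
  rw [← h1]
  show (SLn.pt n k M hM) (GLin.orbitHom k (SLn n k) (GLin.vecPt k (FormIdx n d) a) F) = _
  rw [Groth.Agent.Lib.GITQuot38.orbitHom_of_mem_invariants _ hF, AlgHom.commutes, vecPt_apply]
  rfl

variable [Infinite k]

theorem infinite_ne_zero : {t : k | t ≠ 0}.Infinite := by
  have : {t : k | t ≠ 0} = ({0} : Set k)ᶜ := by
    ext t
    simp
  rw [this]
  exact (Set.finite_singleton 0).infinite_compl

/-- a polynomial function vanishing on the punctured curve vanishes at its limit point -/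
theorem eval_limit_eq (b : FormIdx n d → Polynomial k) (F : FormRing k n d) (c : k)
    (h : ∀ t : k, t ≠ 0 → MvPolynomial.eval (fun m => (b m).eval t) F = c) :
    MvPolynomial.eval (fun m => (b m).eval 0) F = c := by
  have hP : aeval b F = Polynomial.C c := by
    apply Polynomial.eq_of_infinite_eval_eq
    refine infinite_ne_zero.mono ?_
    intro t ht
    show (aeval b F).eval t = (Polynomial.C c).eval t
    rw [eval_aeval_curve, h t ht, Polynomial.eval_C]
  rw [← eval_aeval_curve, hP, Polynomial.eval_C]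

/-- **Hilbert–Mumford, easy direction for nullforms.** -/
theorem isNullform_of_weights (a : FormIdx n d → k) (M : Matrix (Fin n) (Fin n) k) (hM : M.det = 1)
    (r : Fin n → ℤ) (hr : ∑ i, r i = 0) (h : ∀ m, act k a M m ≠ 0 → 0 < wt r m) :
    GLin.IsNullform k (SLn n k) a := by
  intro F hF e he hFe
  set a' := act k a M with ha'
  have h1 : ∀ t : k, t ≠ 0 →
      MvPolynomial.eval (fun m => (curve a' r m).eval t) F = MvPolynomial.eval a F := by
    intro t ht
    have : (fun m => (curve a' r m).eval t) = act k a' (dg r t) := by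
      funext m
      exact eval_curve a' r (fun m hm => (h m hm).le) t ht m
    rw [this, eval_act_of_mem_invariants hF _ _ (det_dg r hr t ht),
      eval_act_of_mem_invariants hF _ _ hM]
  have h2 := eval_limit_eq (curve a' r) F _ h1
  have h3 : (fun m => (curve a' r m).eval 0) = fun _ => (0 : k) := by
    funext m
    rw [eval_zero_curve]
    split_ifs with h0
    · by_contra hne
      have := h m hne
      omega
    · rfl
  rw [h3, MvPolynomial.eval_zero'] at h2
  rw [← h2]
  exact hFe.coeff_eq_zero (by simpa using he.ne)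

end Easy

section EasyStable
variable {k : Type u} [Field k] [IsAlgClosed k] {n d : ℕ}

theorem finite_stab_of_hasFiniteStab (x : FormRing k n d →ₐ[k] k)
    (h : GLin.HasFiniteStab k (SLn n k) x) :
    {g : SLn n k →ₐ[k] k | GLin.actPt k g x = x}.Finite := by
  rw [Groth.Agent.Lib.StabLie38.finite_stab_iff_finite_points]
  have hfin : Module.Finite k (SLn n k ⧸ GLin.stabIdeal k (SLn n k) x) := h
  have hft : Algebra.FiniteType k (SLn n k ⧸ GLin.stabIdeal k (SLn n k) x) :=
    Algebra.FiniteType.of_surjective (Ideal.Quotient.mkₐ k _) (Ideal.Quotient.mkₐ_surjective k _)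
  rw [Groth.Agent.Lib.StabLie38.finite_points_iff_finite_isMaximal]
  have : IsArtinianRing (SLn n k ⧸ GLin.stabIdeal k (SLn n k) x) := IsArtinianRing.of_finite k _
  exact IsArtinianRing.setOfPred_isMaximal_finite _

theorem zpow_eq_natAbs {t t₀ : k} {e : ℤ} (h : t ^ e = t₀ ^ e) :
    t ^ e.natAbs = t₀ ^ e.natAbs := by
  rcases Int.natAbs_eq e with he | he
  · rw [he, zpow_natCast, zpow_natCast] at h
    exact h
  · rw [he, zpow_neg, zpow_neg, zpow_natCast, zpow_natCast, inv_inj] at h
    exact h

/-- **Hilbert–Mumford, easy direction for stability.** -/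
theorem not_isStableVec_of_weights (a : FormIdx n d → k) (M : Matrix (Fin n) (Fin n) k)
    (hM : M.det = 1) (r : Fin n → ℤ) (hr : ∑ i, r i = 0) (hr0 : r ≠ 0)
    (h : ∀ m, act k a M m ≠ 0 → 0 ≤ wt r m) : ¬ GLin.IsStableVec k (SLn n k) a := by
  classical
  rintro ⟨hcl, hfin⟩
  have : Infinite k := IsAlgClosed.instInfinite
  set x := GLin.vecPt k (FormIdx n d) a with hx
  set a' := act k a M with ha'
  set z₀ : FormIdx n d → k := fun m => (curve a' r m).eval 0 with hz₀def
  have hz : GLin.InOrbitClosure k (SLn n k) x (GLin.vecPt k (FormIdx n d) z₀) := by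
    intro f hf
    rw [RingHom.mem_ker] at hf ⊢
    rw [vecPt_apply]
    apply eval_limit_eq (curve a' r) f 0
    intro t ht
    have h1 : (fun m => (curve a' r m).eval t) = act k a (M * dg r t) := by
      funext m
      rw [eval_curve a' r h t ht m, act_mul]
    have hdet : (M * dg r t).det = 1 := by rw [Matrix.det_mul, hM, det_dg r hr t ht, mul_one]
    rw [h1, ← vecPt_apply, ← actPt_pt (M * dg r t) hdet a]
    show (SLn.pt n k (M * dg r t) hdet) (GLin.orbitHom k (SLn n k) x f) = 0
    rw [hf, map_zero]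
  obtain ⟨g, hg⟩ := Groth.Agent.Lib.GITOrbit38.exists_actPt_eq_of_isClosedOrbit x
    (GLin.vecPt k (FormIdx n d) z₀) hcl hz
  set N := matOf g with hN
  have hNdet : N.det = 1 := det_matOf g
  have hz₀ : z₀ = act k a N := vecPt_injective (hg.trans (actPt_vecPt g a))
  have hfix : ∀ t : k, t ≠ 0 → act k z₀ (dg r t) = z₀ := by
    intro t ht
    funext m
    rw [act_dg _ _ _ ht]
    show (curve a' r m).eval 0 * _ = (curve a' r m).eval 0
    rw [eval_zero_curve]
    split_ifs with h0
    · by_cases ham : a' m = 0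
      · rw [ham, zero_mul]
      · have h1 := h m ham
        have h2 : wt r m = 0 := by omega
        rw [h2, zpow_zero, mul_one]
    · rw [zero_mul]
  have hNN : N * N.adjugate = 1 := by rw [Matrix.mul_adjugate, hNdet, one_smul]
  have hNN' : N.adjugate * N = 1 := by rw [Matrix.adjugate_mul, hNdet, one_smul]
  have hsdet : ∀ t : k, t ≠ 0 → (N * dg r t * N.adjugate).det = 1 := by
    intro t ht
    rw [Matrix.det_mul, Matrix.det_mul, hNdet, det_dg r hr t ht, Matrix.det_adjugate, hNdet]
    simp
  have hstab : ∀ (t : k) (ht : t ≠ 0),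
      GLin.actPt k (SLn.pt n k (N * dg r t * N.adjugate) (hsdet t ht)) x = x := by
    intro t ht
    rw [actPt_pt]
    congr 1
    rw [← act_mul, ← act_mul, ← hz₀, hfix t ht, hz₀, act_mul, hNN, act_one]
  have hS := finite_stab_of_hasFiniteStab x hfin
  have hSfin : Finite {g : SLn n k →ₐ[k] k | GLin.actPt k g x = x} := hS.to_subtype
  have hTinf : Infinite {t : k | t ≠ 0} := infinite_ne_zero.to_subtype
  let ψ : {t : k | t ≠ 0} → {g : SLn n k →ₐ[k] k | GLin.actPt k g x = x} :=
    fun t => ⟨SLn.pt n k (N * dg r t.1 * N.adjugate) (hsdet t.1 t.2), hstab t.1 t.2⟩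
  obtain ⟨y, hy⟩ := Finite.exists_infinite_fiber ψ
  obtain ⟨i₀, hi₀⟩ : ∃ i, r i ≠ 0 := by
    by_contra hc
    exact hr0 (funext fun i => not_not.1 fun hi => hc ⟨i, hi⟩)
  obtain ⟨t₀, ht₀⟩ : (ψ ⁻¹' {y}).Nonempty := Set.Nonempty.of_subtype
  have hsub : (Subtype.val '' (ψ ⁻¹' {y}) : Set k) ⊆
      ((Polynomial.nthRoots (r i₀).natAbs (t₀.1 ^ (r i₀).natAbs)).toFinset : Set k) := by
    rintro _ ⟨t, ht, rfl⟩
    have h1 : ψ t = ψ t₀ := by
      rw [Set.mem_preimage, Set.mem_singleton_iff] at ht ht₀
      rw [ht, ht₀]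
    have h2 := congrArg (fun s : {g : SLn n k →ₐ[k] k | GLin.actPt k g x = x} => matOf s.1) h1
    simp only [ψ, matOf_pt] at h2
    have h3 : dg r t.1 = dg r t₀.1 := by
      have := congrArg (fun X => N.adjugate * X * N) h2
      rw [Matrix.mul_assoc, Matrix.mul_assoc, hNN', Matrix.mul_one, ← Matrix.mul_assoc, hNN',
        Matrix.one_mul, Matrix.mul_assoc, Matrix.mul_assoc, hNN', Matrix.mul_one, ← Matrix.mul_assoc,
        hNN', Matrix.one_mul] at this
      exact this
    have h4 : t.1 ^ r i₀ = t₀.1 ^ r i₀ := by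
      have := congrFun (congrFun h3 i₀) i₀
      simpa [dg] using this
    have h5 := zpow_eq_natAbs h4
    rw [Finset.mem_coe, Multiset.mem_toFinset, Polynomial.mem_nthRoots (Int.natAbs_pos.2 hi₀)]
    exact h5
  have hfin2 : (Subtype.val '' (ψ ⁻¹' {y}) : Set k).Finite := (Finset.finite_toSet _).subset hsub
  have hinf2 : (Subtype.val '' (ψ ⁻¹' {y}) : Set k).Infinite :=
    (Set.infinite_coe_iff.1 hy).image Subtype.val_injective.injOn
  exact hinf2 hfin2

end EasyStable

section Hard
variable {k : Type u} [Field k] [IsAlgClosed k] {n d : ℕ}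
open Groth.Agent.Lib.PlaceExt38 Groth.Agent.Lib.HMVal38 Groth.Agent.Lib.LPOrd38

/-- the valuative data attached to a `Frac R`-point of `SL_n` moving `a` into `R`-coordinates -/
theorem exists_val_data (a : FormIdx n d → k)
    {R : Type u} [CommRing R] [IsDomain R] [ValuationRing R] [Algebra k R]
    (res : R →ₐ[k] k) (hres : RingHom.ker res = IsLocalRing.maximalIdeal R)
    (Ξ : SLn n k →ₐ[k] FractionRing R) (hh : FormRing k n d →ₐ[k] R)
    (hcomm : (IsScalarTower.toAlgHom k R (FractionRing R)).comp hh =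
      Ξ.comp (GLin.orbitHom k (SLn n k) (GLin.vecPt k (FormIdx n d) a))) :
    ∃ (g₀ : Matrix (Fin n) (Fin n) k) (δ : Fin n → (ValuationRing.ValueGroup R (FractionRing R))ˣ),
      g₀.det = 1 ∧ ∏ i, δ i = 1 ∧
      ((∀ i, δ i = 1) → ∀ c, Ξ c ∈ Set.range (algebraMap R (FractionRing R))) ∧
      (∀ m, act k a g₀ m ≠ 0 → 1 ≤ ∏ i, δ i ^ (m.1 i)) ∧
      ((∀ m, res (hh (X m)) = 0) → ∀ m, act k a g₀ m ≠ 0 → 1 < ∏ i, δ i ^ (m.1 i)) := by
  have hu : ∀ m, act k (fun l => algebraMap k (FractionRing R) (a l)) (matOf Ξ) m =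
      algebraMap R (FractionRing R) (hh (X m)) := by
    intro m
    have h1 := congrArg (fun φ : FormRing k n d →ₐ[k] FractionRing R => φ (X m)) hcomm
    simp only [AlgHom.comp_apply] at h1
    have h2 := congrArg (fun φ : FormRing k n d →ₐ[k] FractionRing R => φ (X m)) (comp_orbitHom Ξ a)
    simp only [AlgHom.comp_apply, aeval_X] at h2
    rw [← h2, ← h1]
    rfl
  obtain ⟨g₀, δ, hg₀, hδ, hint, hle, hlt⟩ := val_core res hres (matOf Ξ) (det_matOf Ξ) a
    (fun m => hh (X m)) hu
  refine ⟨g₀, δ, hg₀, hδ, ?_, hle, ?_⟩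
  · intro hall c
    obtain ⟨G', hG'⟩ := hint hall
    have hdet : G'.det = 1 := by
      apply IsFractionRing.injective R (FractionRing R)
      rw [RingHom.map_det, RingHom.mapMatrix_apply, ← hG', det_matOf, map_one]
    have hΞ : Ξ = (IsScalarTower.toAlgHom k R (FractionRing R)).comp (SLn.pt n k G' hdet) := by
      apply SLn.algHom_ext
      · intro i j
        rw [AlgHom.comp_apply, SLn.pt_X]
        have := congrFun (congrFun hG' i) j
        exact this
      · rw [Groth.Agent.Lib.SLnInt38.mk_Dinv, map_one, map_one]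
    rw [hΞ]
    exact ⟨SLn.pt n k G' hdet c, rfl⟩
  · intro h0
    apply hlt
    intro m
    rw [← hres, RingHom.mem_ker]
    exact h0 m

theorem sum_single_mul {n : ℕ} (i₀ : Fin n) (s : ℤ) (z : Fin n → ℤ) :
    ∑ i, (Pi.single i₀ s : Fin n → ℤ) i * z i = s * z i₀ := by
  classical
  rw [Finset.sum_eq_single i₀]
  · rw [Pi.single_eq_same]
  · intro j _ hj
    rw [Pi.single_eq_of_ne hj, zero_mul]
  · intro h; exact absurd (Finset.mem_univ _) h

/-- **Hilbert–Mumford, hard direction for stability** (any characteristic). -/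
theorem exists_weights_of_not_isStableVec (a : FormIdx n d → k)
    (h : ¬ GLin.IsStableVec k (SLn n k) a) :
    ∃ (M : Matrix (Fin n) (Fin n) k) (r : Fin n → ℤ), M.det = 1 ∧ ∑ i, r i = 0 ∧ r ≠ 0 ∧
      ∀ m, act k a M m ≠ 0 → 0 ≤ wt r m := by
  classical
  set x := GLin.vecPt k (FormIdx n d) a with hx
  have hni : ¬ (GLin.orbitHom k (SLn n k) x).toRingHom.IsIntegral := fun hi =>
    h (Groth.Agent.Lib.StableInt38.isStablePt_of_isIntegral x hi)
  obtain ⟨c, hc⟩ : ∃ c, ¬ (GLin.orbitHom k (SLn n k) x).toRingHom.IsIntegralElem c := by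
    by_contra hcon
    exact hni fun c => not_not.1 fun hc => hcon ⟨c, hc⟩
  obtain ⟨R, iR, iD, iV, iA, res, Ξ, hh, hres, hcomm, hΞc⟩ :=
    exists_valuationRing_of_not_isIntegral (GLin.orbitHom k (SLn n k) x) c hc
  obtain ⟨g₀, δ, hg₀, hδ, hint, hle, -⟩ := exists_val_data a res hres Ξ hh hcomm
  obtain ⟨i₀, hi₀⟩ : ∃ i, δ i ≠ 1 := by
    by_contra hcon
    exact hΞc (hint (fun i => not_not.1 fun hi => hcon ⟨i, hi⟩) c)
  obtain ⟨s, hs⟩ : ∃ s : ℤ, 1 < δ i₀ ^ s := by
    rcases lt_or_gt_of_ne hi₀ with hlt | hgt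
    · exact ⟨-1, by rw [zpow_neg, zpow_one]; exact one_lt_inv'.2 hlt⟩
    · exact ⟨1, by rw [zpow_one]; exact hgt⟩
  let L : Finset ((Fin n → ℤ) × Bool) :=
    insert ((Pi.single i₀ s : Fin n → ℤ), true)
      ((Finset.univ.filter fun m : FormIdx n d => act k a g₀ m ≠ 0).image
        fun m => ((fun i => (m.1 i : ℤ)), false))
  have hL : ∀ cs ∈ L, SatG δ cs := by
    intro cs hcs
    rcases Finset.mem_insert.1 hcs with rfl | hcs
    · have : ev δ (Pi.single i₀ s : Fin n → ℤ) = δ i₀ ^ s := by
        rw [ev, Finset.prod_eq_single i₀]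
        · rw [Pi.single_eq_same]
        · intro j _ hj
          rw [Pi.single_eq_of_ne hj, zpow_zero]
        · intro h; exact absurd (Finset.mem_univ _) h
      exact ⟨by rw [this]; exact hs.le, fun _ => by rw [this]; exact hs⟩
    · obtain ⟨m, hm, rfl⟩ := Finset.mem_image.1 hcs
      rw [Finset.mem_filter] at hm
      refine ⟨?_, fun h => by simp at h⟩
      have := hle m hm.2
      simpa [ev, zpow_natCast] using this
  obtain ⟨z, hz0, hz⟩ := exists_int_sum_zero δ hδ L hL
  refine ⟨g₀, z, hg₀, hz0, ?_, ?_⟩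
  · intro hzz
    have := (hz _ (Finset.mem_insert_self _ _)).2 rfl
    rw [sum_single_mul, hzz] at this
    simp at this
  · intro m hm
    have hmem : ((fun i => (m.1 i : ℤ)), false) ∈ L :=
      Finset.mem_insert_of_mem (Finset.mem_image.2 ⟨m, Finset.mem_filter.2 ⟨Finset.mem_univ _, hm⟩, rfl⟩)
    exact (hz _ hmem).1

/-- a nullform has the same invariants as the origin -/
theorem apply_eq_zero_apply_of_isNullform (a : FormIdx n d → k)
    (h : GLin.IsNullform k (SLn n k) a) {f : FormRing k n d}
    (hf : f ∈ GLin.invariants k (SLn n k) (FormRing k n d)) :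
    GLin.vecPt k (FormIdx n d) a f = GLin.vecPt k (FormIdx n d) (fun _ => (0 : k)) f := by
  rw [vecPt_apply, vecPt_apply]
  have hsum := MvPolynomial.sum_homogeneousComponent f
  have key : ∀ e : ℕ, MvPolynomial.eval a (MvPolynomial.homogeneousComponent e f) =
      MvPolynomial.eval (fun _ => (0 : k)) (MvPolynomial.homogeneousComponent e f) := by
    intro e
    rcases Nat.eq_zero_or_pos e with he | he
    · subst he
      rw [MvPolynomial.homogeneousComponent_zero, MvPolynomial.eval_C, MvPolynomial.eval_C]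
    · have hinv := Groth.Agent.Lib.GLinGrading38.homogeneousComponent_mem_invariants
        (fLin k n d) e hf
      have hhom := MvPolynomial.homogeneousComponent_isHomogeneous e f
      rw [h _ hinv e he hhom, MvPolynomial.eval_zero']
      exact (hhom.coeff_eq_zero (by simpa using he.ne)).symm
  conv_lhs => rw [← hsum]
  conv_rhs => rw [← hsum]
  rw [map_sum, map_sum]
  exact Finset.sum_congr rfl fun e _ => key e

/-- **Hilbert–Mumford, hard direction for nullforms** (characteristic zero). -/
theorem exists_weights_of_isNullform [CharZero k] (a : FormIdx n d → k)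
    (h : GLin.IsNullform k (SLn n k) a) :
    ∃ (M : Matrix (Fin n) (Fin n) k) (r : Fin n → ℤ), M.det = 1 ∧ ∑ i, r i = 0 ∧
      ∀ m, act k a M m ≠ 0 → 0 < wt r m := by
  classical
  set x := GLin.vecPt k (FormIdx n d) a with hx
  set x0 := GLin.vecPt k (FormIdx n d) (fun _ => (0 : k)) with hx0
  have hG : HopfRep.IsLinearlyReductive k (SLn n k) :=
    Groth.Agent.Lib.SLnInt38.isLinearlyReductive_SLn
  have hne := Groth.Agent.Lib.GITQuot38.ker_orbitHom_sup_ne_top hG x x0
    (fun f hf => apply_eq_zero_apply_of_isNullform a h hf)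
  obtain ⟨z, hz⟩ := Groth.Agent.Lib.GITQuot38.exists_algHom_ker_ge (k := k) _ hne
  have hzx0 : z = x0 := by
    apply MvPolynomial.algHom_ext
    intro m
    have h1 : (X m : FormRing k n d) ∈ RingHom.ker (GLin.orbitHom k (SLn n k) x0) := by
      rw [RingHom.mem_ker, hx0, orbitHom_X]
      simp
    have h2 := hz (Ideal.mem_sup_right h1)
    rw [RingHom.mem_ker] at h2
    rw [h2, hx0]
    simp
  have hy : RingHom.ker (GLin.orbitHom k (SLn n k) x) ≤ RingHom.ker x0 := by
    rw [← hzx0]
    exact le_sup_left.trans hz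
  obtain ⟨R, iR, iD, iV, iA, res, Ξ, hh, hres, hcomm, hred⟩ :=
    exists_valuationRing_point (GLin.orbitHom k (SLn n k) x) x0 hy
  obtain ⟨g₀, δ, hg₀, hδ, -, -, hlt⟩ := exists_val_data a res hres Ξ hh hcomm
  have hlt' := hlt (fun m => by
    have := congrArg (fun φ : FormRing k n d →ₐ[k] k => φ (X m)) hred
    simp only [AlgHom.comp_apply] at this
    rw [this, hx0]
    simp)
  let L : Finset ((Fin n → ℤ) × Bool) :=
    (Finset.univ.filter fun m : FormIdx n d => act k a g₀ m ≠ 0).image
      fun m => ((fun i => (m.1 i : ℤ)), true)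
  have hL : ∀ cs ∈ L, SatG δ cs := by
    intro cs hcs
    obtain ⟨m, hm, rfl⟩ := Finset.mem_image.1 hcs
    rw [Finset.mem_filter] at hm
    have := hlt' m hm.2
    have h2 : 1 < ev δ (fun i => (m.1 i : ℤ)) := by
      simpa [ev, zpow_natCast] using this
    exact ⟨h2.le, fun _ => h2⟩
  obtain ⟨z, hz0, hz⟩ := exists_int_sum_zero δ hδ L hL
  refine ⟨g₀, z, hg₀, hz0, ?_⟩
  intro m hm
  have hmem : ((fun i => (m.1 i : ℤ)), true) ∈ L :=
    Finset.mem_image.2 ⟨m, Finset.mem_filter.2 ⟨Finset.mem_univ _, hm⟩, rfl⟩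
  exact (hz _ hmem).2 rfl

end Hard

section Iff
variable {k : Type u} [Field k] [IsAlgClosed k] {n d : ℕ}

/-- **Hilbert–Mumford criterion for stability of forms under `SL_n`** (any characteristic). -/
theorem not_isStableVec_iff (a : FormIdx n d → k) :
    ¬ GLin.IsStableVec k (SLn n k) a ↔
      ∃ (M : Matrix (Fin n) (Fin n) k) (r : Fin n → ℤ), M.det = 1 ∧ ∑ i, r i = 0 ∧ r ≠ 0 ∧
        ∀ m, act k a M m ≠ 0 → 0 ≤ wt r m := by
  constructor
  · exact exists_weights_of_not_isStableVec a
  · rintro ⟨M, r, hM, hr, hr0, h⟩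
    exact not_isStableVec_of_weights a M hM r hr hr0 h

/-- **Hilbert–Mumford criterion for nullforms under `SL_n`** (characteristic zero). -/
theorem isNullform_iff [CharZero k] (a : FormIdx n d → k) :
    GLin.IsNullform k (SLn n k) a ↔
      ∃ (M : Matrix (Fin n) (Fin n) k) (r : Fin n → ℤ), M.det = 1 ∧ ∑ i, r i = 0 ∧
        ∀ m, act k a M m ≠ 0 → 0 < wt r m := by
  constructor
  · exact exists_weights_of_isNullform a
  · rintro ⟨M, r, hM, hr, h⟩
    have : Infinite k := IsAlgClosed.instInfinite
    exact isNullform_of_weights a M hM r hr h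

end Iff

section Poly
variable {k : Type u} [Field k] {n d : ℕ}

theorem multinomial_ne_zero (hd : (d.factorial : k) ≠ 0) (m : FormIdx n d) :
    (m.1.multinomial : k) ≠ 0 := by
  intro h
  apply hd
  have h1 := Nat.multinomial_spec m.1.support m.1
  have h2 : ∑ i ∈ m.1.support, m.1 i = d := by
    have := m.2
    rw [Finsupp.degree_eq_sum] at this
    refine Eq.trans ?_ this
    apply Finset.sum_subset (Finset.subset_univ _)
    intro i _ hi
    exact Finsupp.notMem_support_iff.1 hi
  rw [h2, ← Finsupp.multinomial_eq] at h1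
  rw [← h1, Nat.cast_mul, h, mul_zero]

/-- the moved coordinate is non-zero iff the monomial occurs in the substituted form -/
theorem act_ne_zero_iff (hd : (d.factorial : k) ≠ 0) (a : FormIdx n d → k)
    (M : Matrix (Fin n) (Fin n) k) (m : FormIdx n d) :
    act k a M m ≠ 0 ↔ coeff m.1 (aeval (linM M) (formPoly a)) ≠ 0 := by
  rw [← formPoly_act k a M, coeff_formPoly]
  constructor
  · intro h
    exact mul_ne_zero (multinomial_ne_zero hd m) h
  · intro h h0
    rw [h0, mul_zero] at h
    exact h rfl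

end Poly

end Groth.Agent.Lib.HMForms38
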