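/-
`HMNum` helpers (helper27): uniqueness of limit points under a one-parameter subgroup for separated `X`
(`attrPlus_ext`, `isLimitPt_unique`), limit points are fixed (`isFixedBy_limitPt`), fixed points are
their own limit (`isLimitPt_self`), `A(M)_S ≅ S` for a trivial monoid `M` (`subsingleton_hom_AMonS`).
-/
import Mathlib
import Groth.Prelude.Def_HMNum
import Groth.Agent.Lib.MagnetDense27

set_option autoImplicit false
universe u
open CategoryTheory Limits MonoidalCategory CartesianMonoidalCategory MonObj AlgebraicGeometry Opposite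
open Magnet HMNum

namespace Groth.Agent.Lib.HMNum27

theorem subsingleton_hom_of_isIso {S : Scheme.{u}} (A : Over S) [IsIso A.hom] (T : Over S) :
    Subsingleton (T ⟶ A) := by
  constructor
  intro f g
  ext
  rw [← cancel_mono A.hom, Over.w f, Over.w g]

theorem bijective_algebraMap_monoidAlgebra (R : Type u) [CommRing R] (M : Type) [Monoid M]
    [Subsingleton M] : Function.Bijective (algebraMap R (MonoidAlgebra R M)) := by
  have : ⇑(algebraMap R (MonoidAlgebra R M)) = ⇑(MonoidAlgebra.uniqueRingEquiv (R := R) M).symm := by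
    ext r
    rw [MonoidAlgebra.uniqueRingEquiv_symm_apply]
    rfl
  rw [this]
  exact (MonoidAlgebra.uniqueRingEquiv (R := R) M).symm.bijective

instance isIso_AMon_hom (R : Type u) [CommRing R] (M : Type) [AddCommMonoid M] [Subsingleton M] :
    IsIso (AMon R M).hom := by
  have h : (AMon R M).hom = Spec.map (CommRingCat.ofHom
      (algebraMap R (MonoidAlgebra R (Multiplicative M)))) := rfl
  rw [h]
  have : IsIso (CommRingCat.ofHom (algebraMap R (MonoidAlgebra R (Multiplicative M)))) := by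
    rw [ConcreteCategory.isIso_iff_bijective]
    exact bijective_algebraMap_monoidAlgebra R (Multiplicative M)
  exact inferInstanceAs (IsIso (Scheme.Spec.map (CommRingCat.ofHom
      (algebraMap R (MonoidAlgebra R (Multiplicative M)))).op))

instance isIso_AMonS_hom (S : Scheme.{u}) (M : Type) [AddCommMonoid M] [Subsingleton M] :
    IsIso (AMonS S M).hom :=
  inferInstanceAs (IsIso (pullback.snd (AMon (ULift.{u} ℤ) M).hom
    (IsTerminal.from specULiftZIsTerminal S)))

theorem subsingleton_hom_AMonS (S : Scheme.{u}) (M : Type) [AddCommMonoid M] [Subsingleton M]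
    (T : Over S) : Subsingleton (T ⟶ AMonS S M) :=
  subsingleton_hom_of_isIso _ T

variable {S : Scheme.{u}} {G X : Over S} [GrpObj G] (a : AlgGrp.Action G X) (l : Red.Gm S ⟶ G) [IsMonHom l]

/-- value of a point of the attractor on `G_m × T`: the orbit map of its base point. -/
theorem incl_whiskerRight_comp {T : Over S} (φ : (attrPlus a l).obj (op T)) :
    (incl S ▷ T) ≫ φ.1 =
      (Red.Gm S ◁ ((attrToX (gmAct a l) plus).app (op T) φ)) ≫ (gmAct a l).act := by
  apply Magnet.hom_ext_lift₂
  intro T' u t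
  have h := (MonAct.mem_eqvHom_iff φ.1).1 φ.2 T' u 1 t
  rw [lift_whiskerRight_assoc, lift_whiskerLeft_assoc]
  have h1 : lift u (1 : T' ⟶ A1 S) ≫ (subAct S ℤ plus).act = u ≫ incl S := by
    rw [subAct, MonAct.lift_restrict_act, MonAct.lift_regular_act, _root_.mul_one]
  rw [h1] at h
  rw [h]
  congr 2
  rw [MonAct.eqvHom.evalAt_app, comp_lift_assoc, Category.comp_id]
  have h2 : (t ≫ toUnit (unop (op T))) ≫ η[A1 S] = (1 : T' ⟶ A1 S) := by
    rw [Hom.one_def]; congr 1; exact toUnit_unique _ _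
  rw [← Category.assoc, h2]

/-- **Uniqueness of limits**: for `X` separated over `S`, a point of the attractor `X⁺` is determined by
its base point. -/
theorem attrPlus_ext [IsSeparated X.hom] {T : Over S} (φ₁ φ₂ : (attrPlus a l).obj (op T))
    (h : (attrToX (gmAct a l) plus).app (op T) φ₁ = (attrToX (gmAct a l) plus).app (op T) φ₂) :
    φ₁ = φ₂ := by
  apply Subtype.ext
  apply Groth.Agent.Lib.MagnetDense27.hom_ext_of_whiskerRight_map S plus.subtype
    Subtype.val_injective
  have e1 := incl_whiskerRight_comp a l φ₁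
  have e2 := incl_whiskerRight_comp a l φ₂
  rw [h] at e1
  exact e1.trans e2.symm

variable {a l}

theorem isLimitPt_unique [IsSeparated X.hom] {T : Over S} {x y y' : T ⟶ X}
    (h : IsLimitPt a l x y) (h' : IsLimitPt a l x y') : y = y' := by
  obtain ⟨φ, hφ, rfl⟩ := h
  obtain ⟨φ', hφ', rfl⟩ := h'
  rw [attrPlus_ext a l φ φ' (hφ.trans hφ'.symm)]

/-- the limit point is fixed. -/
theorem isFixedBy_limitPt {T : Over S} (φ : (attrPlus a l).obj (op T)) :
    IsFixedBy a l (limitPt φ) := by
  rw [isFixedBy_iff]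
  intro T' t g
  have hx : t ≫ limitPt φ = lift (1 : T' ⟶ AMonS S ↥(⊥ : AddSubmonoid ℤ)) t ≫
      ((attrFace (gmAct a l) isFace_bot).app (op T) φ).1 := by
    change t ≫ lift (toUnit T ≫ η[AMonS S ↥(⊥ : AddSubmonoid ℤ)]) (𝟙 T) ≫ _ = _
    rw [comp_lift_assoc, Category.comp_id]
    congr 2
    rw [Hom.one_def, ← Category.assoc]; congr 1; exact toUnit_unique _ _
  have h := (MonAct.mem_eqvHom_iff _).1
    ((attrFace (gmAct a l) isFace_bot).app (op T) φ).2 T' g 1 t
  rw [hx, ← h]
  congr 2
  have : Subsingleton ↥(⊥ : AddSubmonoid ℤ) :=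
    ⟨fun x y => Subtype.ext ((AddSubmonoid.mem_bot.1 x.2).trans (AddSubmonoid.mem_bot.1 y.2).symm)⟩
  have := subsingleton_hom_AMonS S ↥(⊥ : AddSubmonoid ℤ) T'
  exact Subsingleton.elim _ _

theorem IsLimitPt.isFixedBy {T : Over S} {x y : T ⟶ X} (h : IsLimitPt a l x y) :
    IsFixedBy a l y := by
  obtain ⟨φ, -, rfl⟩ := h
  exact isFixedBy_limitPt φ

/-- a fixed point is its own limit. -/
theorem isLimitPt_self {T : Over S} {y : T ⟶ X} (hy : IsFixedBy a l y) : IsLimitPt a l y y := by
  rw [isFixedBy_iff] at hy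
  have hmem : MonAct.IsEquivariant ((subAct S ℤ plus).prod (MonAct.trivial (AMonS S ℤ) T))
      (gmAct a l) (snd (A1 S) T ≫ y) := by
    rw [MonAct.mem_eqvHom_iff]
    intro T' g b t
    rw [lift_snd_assoc, lift_snd_assoc, hy]
  let ψ : (attrPlus a l).obj (op T) := ⟨snd (A1 S) T ≫ y, hmem⟩
  refine ⟨ψ, ?_, ?_⟩
  · rw [MonAct.eqvHom.evalAt_app]
    change lift _ (𝟙 T) ≫ snd (A1 S) T ≫ y = y
    rw [lift_snd_assoc, Category.id_comp]
  · rw [limitPt_eq]
    change lift _ (𝟙 T) ≫ snd (A1 S) T ≫ y = y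
    rw [lift_snd_assoc, Category.id_comp]

end Groth.Agent.Lib.HMNum27
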