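/-
`HMNum` helpers II (helper27): evaluation of a fibrewise linear lift at points (`eval_linearLift`,
`eval_act`), action calculus (`act_one`, `act_mul`, `act_inv_act`, `act_act_inv`), transport of fibre
weights and limit points under conjugation of the one-parameter subgroup (`hasFibreWeight_conj`,
`isLimitPt_conj`).
-/
import Mathlib
import Groth.Prelude.Def_HMNum
import Groth.Agent.Lib.HMNum27

set_option autoImplicit false
universe u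
open CategoryTheory Limits MonoidalCategory CartesianMonoidalCategory MonObj AlgebraicGeometry Opposite
open Magnet HMNum GLinSh

namespace Groth.Agent.Lib.HMNum27

variable {S : Scheme.{u}} {G X V : Over S} [GrpObj G]

theorem evalFn_congr (π : V ⟶ X) {U : X.left.Opens} (y : Γ(V.left, π.left ⁻¹ᵁ U)) {T' : Over S}
    {v v' : T' ⟶ V} (e : v = v') (h : ⊤ ≤ v.left ⁻¹ᵁ (π.left ⁻¹ᵁ U))
    (h' : ⊤ ≤ v'.left ⁻¹ᵁ (π.left ⁻¹ᵁ U)) : evalFn π y v h = evalFn π y v' h' := by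
  subst e; rfl

theorem appLE_appLE_apply {X Y Z : Scheme.{u}} (f : X ⟶ Y) (g : Y ⟶ Z) (U : Z.Opens) (V : Y.Opens)
    (W : X.Opens) (e₁ : V ≤ g ⁻¹ᵁ U) (e₂ : W ≤ f ⁻¹ᵁ V) (s : Γ(Z, U)) :
    (f.appLE V W e₂).hom ((g.appLE U V e₁).hom s) =
      ((f ≫ g).appLE U W (e₂.trans ((TopologicalSpace.Opens.map f.base).map (homOfLE e₁)).le)).hom s := by
  rw [← Scheme.Hom.appLE_comp_appLE]; rfl

theorem appLE_congr_hom {X Y : Scheme.{u}} {f f' : X ⟶ Y} (e : f = f') (U : Y.Opens) (W : X.Opens)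
    (h : W ≤ f ⁻¹ᵁ U) (h' : W ≤ f' ⁻¹ᵁ U) (s : Γ(Y, U)) :
    (f.appLE U W h).hom s = (f'.appLE U W h').hom s := by
  subst e; rfl

theorem eval_linearLift {a : AlgGrp.Action G X} (B : LinBun G a) {U U' : X.left.Opens}
    (y : Γ(B.V.left, B.π.left ⁻¹ᵁ U)) (y' : Γ(B.V.left, B.π.left ⁻¹ᵁ U'))
    (c : Γ((G ⊗ X).left, a.act.left ⁻¹ᵁ U' ⊓ (snd G X).left ⁻¹ᵁ U))
    (hc : B.lift.act.left.appLE (B.π.left ⁻¹ᵁ U') (liftOpen a B.π U U')
        (liftOpen_le_act a B.π B.lift B.lift_π) y' =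
          (G ◁ B.π).left.appLE _ (liftOpen a B.π U U') (liftOpen_le_base a B.π) c *
            (snd G B.V).left.appLE (B.π.left ⁻¹ᵁ U) (liftOpen a B.π U U') (liftOpen_le_snd a B.π) y)
    {T' : Over S} (gg : T' ⟶ G) (v : T' ⟶ B.V)
    (hv : ⊤ ≤ v.left ⁻¹ᵁ (B.π.left ⁻¹ᵁ U))
    (hggv : ⊤ ≤ (lift gg v ≫ B.lift.act).left ⁻¹ᵁ (B.π.left ⁻¹ᵁ U'))
    (hb : ⊤ ≤ (lift gg (v ≫ B.π)).left ⁻¹ᵁ (a.act.left ⁻¹ᵁ U' ⊓ (snd G X).left ⁻¹ᵁ U)) :
    evalFn B.π y' (lift gg v ≫ B.lift.act) hggv =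
      (lift gg (v ≫ B.π)).left.appLE _ ⊤ hb c * evalFn B.π y v hv := by
  have hp : ⊤ ≤ (lift gg v).left ⁻¹ᵁ liftOpen a B.π U U' := by
    rw [Scheme.Hom.preimage_inf]
    refine le_inf ?_ ?_
    · have : (lift gg v).left ⁻¹ᵁ (((G ◁ B.π) ≫ a.act).left ⁻¹ᵁ U') =
          (lift gg v ≫ B.lift.act).left ⁻¹ᵁ (B.π.left ⁻¹ᵁ U') := by
        have e : (lift gg v ≫ B.lift.act) ≫ B.π = lift gg v ≫ (G ◁ B.π) ≫ a.act := by
          rw [Category.assoc, B.lift_π]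
        change (lift gg v ≫ (G ◁ B.π) ≫ a.act).left ⁻¹ᵁ U' =
          ((lift gg v ≫ B.lift.act) ≫ B.π).left ⁻¹ᵁ U'
        rw [e]
      rw [this]; exact hggv
    · have : (lift gg v).left ⁻¹ᵁ (((G ◁ B.π) ≫ snd G X).left ⁻¹ᵁ U) =
          v.left ⁻¹ᵁ (B.π.left ⁻¹ᵁ U) := by
        change (lift gg v ≫ (G ◁ B.π) ≫ snd G X).left ⁻¹ᵁ U = (v ≫ B.π).left ⁻¹ᵁ U
        rw [whiskerLeft_snd, lift_snd_assoc]
      rw [this]; exact hv
  have key := congrArg ((lift gg v).left.appLE (liftOpen a B.π U U') ⊤ hp).hom hc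
  rw [map_mul] at key
  change ((lift gg v).left.appLE _ ⊤ hp).hom ((B.lift.act.left.appLE _ _ _).hom y') =
    ((lift gg v).left.appLE _ ⊤ hp).hom (((G ◁ B.π).left.appLE _ _ _).hom c) *
    ((lift gg v).left.appLE _ ⊤ hp).hom (((snd G B.V).left.appLE _ _ _).hom y) at key
  rw [appLE_appLE_apply, appLE_appLE_apply, appLE_appLE_apply] at key
  have c1 : (lift gg v).left ≫ (G ◁ B.π).left = (lift gg (v ≫ B.π)).left := by
    rw [← Over.comp_left, lift_whiskerLeft]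
  have c2 : (lift gg v).left ≫ (snd G B.V).left = v.left := by rw [← Over.comp_left, lift_snd]
  unfold evalFn
  refine (key.trans ?_)
  congr 1
  · exact appLE_congr_hom c1 _ _ _ _ _
  · exact appLE_congr_hom c2 _ _ _ _ _

theorem top_le_of_eq {U : X.left.Opens} {T T' : Over S} {x₀ : T ⟶ X} (hU : x₀.left ⁻¹ᵁ U = ⊤)
    {q : T' ⟶ X} {t : T' ⟶ T} (hq : q = t ≫ x₀) : ⊤ ≤ q.left ⁻¹ᵁ U := by
  have h2 : (t ≫ x₀).left ⁻¹ᵁ U = t.left ⁻¹ᵁ (x₀.left ⁻¹ᵁ U) := rfl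
  rw [hq, h2, hU]
  exact le_of_eq rfl

/-- evaluation of a linear lift at points over fixed base points: `y'(β·v) = C · y(v)` with `C` depending
only on `β` and the base point. -/
theorem eval_act {a : AlgGrp.Action G X} (B : LinBun G a) {U U' : X.left.Opens}
    (y : Γ(B.V.left, B.π.left ⁻¹ᵁ U)) (y' : Γ(B.V.left, B.π.left ⁻¹ᵁ U'))
    (hy : y ∈ B.atlas.chart U) (hy' : y' ∈ B.atlas.chart U')
    {T T' : Over S} (y₁ y₂ : T ⟶ X) (hU₁ : y₁.left ⁻¹ᵁ U = ⊤) (hU₂ : y₂.left ⁻¹ᵁ U' = ⊤)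
    (t : T' ⟶ T) (β : T' ⟶ G) (hβ : lift β (t ≫ y₁) ≫ a.act = t ≫ y₂) :
    ∃ C : Γ(T'.left, ⊤), ∀ (v : T' ⟶ B.V) (hv : v ≫ B.π = t ≫ y₁)
      (hβv : (lift β v ≫ B.lift.act) ≫ B.π = t ≫ y₂),
      evalFn B.π y' (lift β v ≫ B.lift.act) (top_le_preimage B.π hU₂ hβv) =
        C * evalFn B.π y v (top_le_preimage B.π hU₁ hv) := by
  obtain ⟨c, hc⟩ := B.lift_linear U U' y y' hy hy'
  have hb : ⊤ ≤ (lift β (t ≫ y₁)).left ⁻¹ᵁ (a.act.left ⁻¹ᵁ U' ⊓ (snd G X).left ⁻¹ᵁ U) := by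
    rw [Scheme.Hom.preimage_inf]
    refine le_inf ?_ ?_
    · change ⊤ ≤ (lift β (t ≫ y₁) ≫ a.act).left ⁻¹ᵁ U'
      exact top_le_of_eq hU₂ hβ
    · change ⊤ ≤ (lift β (t ≫ y₁) ≫ snd G X).left ⁻¹ᵁ U
      exact top_le_of_eq hU₁ (lift_snd _ _)
  refine ⟨((lift β (t ≫ y₁)).left.appLE _ ⊤ hb).hom c, fun v hv hβv => ?_⟩
  have hb' : ⊤ ≤ (lift β (v ≫ B.π)).left ⁻¹ᵁ (a.act.left ⁻¹ᵁ U' ⊓ (snd G X).left ⁻¹ᵁ U) := by
    rw [hv]; exact hb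
  rw [eval_linearLift B y y' c hc β v (top_le_preimage B.π hU₁ hv) (top_le_preimage B.π hU₂ hβv) hb']
  congr 1
  exact appLE_congr_hom (by rw [hv]) _ _ _ _ _

section ActCalc

variable (a : AlgGrp.Action G X)

theorem act_one {T : Over S} (x : T ⟶ X) : lift (1 : T ⟶ G) x ≫ a.act = x :=
  (MonAct.ofAction a).lift_one_act x

theorem act_mul {T : Over S} (g h : T ⟶ G) (x : T ⟶ X) :
    lift (g * h) x ≫ a.act = lift g (lift h x ≫ a.act) ≫ a.act :=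
  (MonAct.ofAction a).lift_mul_act g h x

theorem act_inv_act {T : Over S} (g : T ⟶ G) (x : T ⟶ X) :
    lift g⁻¹ (lift g x ≫ a.act) ≫ a.act = x := by
  rw [← act_mul, inv_mul_cancel, act_one]

theorem act_act_inv {T : Over S} (g : T ⟶ G) (x : T ⟶ X) :
    lift g (lift g⁻¹ x ≫ a.act) ≫ a.act = x := by
  rw [← act_mul, mul_inv_cancel, act_one]

end ActCalc

/-- transport of the fibre weight under conjugation: if `l' = α⁻¹ l α` then the weight of `l` at `α·y'`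
is the weight of `l'` at `y'` (given a chart around `y'`). -/
theorem hasFibreWeight_conj {a : AlgGrp.Action G X} (B : LinBun G a) (l l' : Red.Gm S ⟶ G)
    {T : Over S} (α : T ⟶ G) (y' : T ⟶ X) (w : ℤ)
    (hconj : ∀ (T' : Over S) (t : T' ⟶ T) (g : T' ⟶ Red.Gm S),
      g ≫ l' = (t ≫ α)⁻¹ * (g ≫ l) * (t ≫ α))
    (hchart : ∃ (U' : X.left.Opens) (yc' : Γ(B.V.left, B.π.left ⁻¹ᵁ U')),
      yc' ∈ B.atlas.chart U' ∧ y'.left ⁻¹ᵁ U' = ⊤)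
    (h : HasFibreWeight B l (lift α y' ≫ a.act) w) : HasFibreWeight B l' y' w := by
  obtain ⟨hfix, U, yc, hyc, hU, hW⟩ := h
  obtain ⟨U', yc', hyc', hU'⟩ := hchart
  have hty : ∀ {T' : Over S} (t : T' ⟶ T),
      t ≫ lift α y' ≫ a.act = lift (t ≫ α) (t ≫ y') ≫ a.act := fun t => by rw [comp_lift_assoc]
  refine ⟨?_, U', yc', hyc', hU', ?_⟩
  · intro T' t g
    rw [hconj T' t g, act_mul, act_mul, ← hty, hfix T' t g, hty, act_inv_act]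
  · intro T' t g v' hv' hgv'
    have hΦπ : ∀ (β : T' ⟶ G) (u : T' ⟶ B.V), (lift β u ≫ B.lift.act) ≫ B.π =
        lift β (u ≫ B.π) ≫ a.act := fun β u => by
      rw [Category.assoc, B.lift_π, lift_whiskerLeft_assoc]
    have hv : (lift (t ≫ α) v' ≫ B.lift.act) ≫ B.π = t ≫ lift α y' ≫ a.act := by
      rw [hΦπ, hv', hty]
    have hv₁ : (lift (g ≫ l) (lift (t ≫ α) v' ≫ B.lift.act) ≫ B.lift.act) ≫ B.π =
        t ≫ lift α y' ≫ a.act := by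
      rw [hΦπ, hv, hfix T' t g]
    have E1 := hW T' t g _ hv hv₁
    have hβ : lift (t ≫ α)⁻¹ (t ≫ lift α y' ≫ a.act) ≫ a.act = t ≫ y' := by
      rw [hty, act_inv_act]
    obtain ⟨C, hC⟩ := eval_act B yc yc' hyc hyc' (lift α y' ≫ a.act) y' hU hU' t (t ≫ α)⁻¹ hβ
    have e1 : lift (t ≫ α)⁻¹ (lift (g ≫ l) (lift (t ≫ α) v' ≫ B.lift.act) ≫ B.lift.act) ≫
        B.lift.act = lift (g ≫ l') v' ≫ B.lift.act := by
      rw [hconj T' t g, act_mul, act_mul]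
    have e2 : lift (t ≫ α)⁻¹ (lift (t ≫ α) v' ≫ B.lift.act) ≫ B.lift.act = v' :=
      act_inv_act _ _ _
    have E2 := hC _ hv₁ (by rw [e1]; exact hgv')
    have E3 := hC _ hv (by rw [e2]; exact hv')
    rw [evalFn_congr B.π yc' e1.symm _ (top_le_preimage B.π hU' (by rw [e1]; exact hgv')), E2, E1,
      evalFn_congr B.π yc' e2.symm _ (top_le_preimage B.π hU' (by rw [e2]; exact hv')), E3]
    ring

/-- transport of limit points under conjugation: if `l' = α⁻¹ l α` and `y₁` is the limit of `l(u)·x₁`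
then `α⁻¹·y₁` is the limit of `l'(u)·(α⁻¹·x₁)`. -/
theorem isLimitPt_conj {a : AlgGrp.Action G X} (l l' : Red.Gm S ⟶ G) [IsMonHom l] [IsMonHom l']
    {T : Over S} (α : T ⟶ G) (x₁ y₁ : T ⟶ X)
    (hconj : ∀ (T' : Over S) (t : T' ⟶ T) (g : T' ⟶ Red.Gm S),
      g ≫ l' = (t ≫ α)⁻¹ * (g ≫ l) * (t ≫ α))
    (h : IsLimitPt a l x₁ y₁) :
    IsLimitPt a l' (lift α⁻¹ x₁ ≫ a.act) (lift α⁻¹ y₁ ≫ a.act) := by
  obtain ⟨φ, hφx, hφy⟩ := h
  have hφ := (MonAct.mem_eqvHom_iff φ.1).1 φ.2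
  have hmem : MonAct.IsEquivariant ((subAct S ℤ plus).prod (MonAct.trivial (AMonS S ℤ) T))
      (gmAct a l') (lift (snd (A1 S) T ≫ α⁻¹) φ.1 ≫ a.act) := by
    rw [MonAct.mem_eqvHom_iff]
    intro T' g b t
    rw [comp_lift_assoc, comp_lift_assoc, lift_snd_assoc, lift_snd_assoc, hφ T' g b t,
      MonAct.lift_restrict_act, MonAct.lift_restrict_act, MonAct.ofAction_act, hconj T' t g,
      GrpObj.comp_inv, act_mul, act_mul, act_act_inv]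
  let ψ : (attrPlus a l').obj (op T) := ⟨lift (snd (A1 S) T ≫ α⁻¹) φ.1 ≫ a.act, hmem⟩
  refine ⟨ψ, ?_, ?_⟩
  · rw [← hφx, MonAct.eqvHom.evalAt_app, MonAct.eqvHom.evalAt_app]
    change lift _ (𝟙 T) ≫ lift (snd (A1 S) T ≫ α⁻¹) φ.1 ≫ a.act = _
    rw [comp_lift_assoc, lift_snd_assoc, Category.id_comp]
  · rw [← hφy, limitPt_eq, limitPt_eq]
    change lift _ (𝟙 T) ≫ lift (snd (A1 S) T ≫ α⁻¹) φ.1 ≫ a.act = _
    rw [comp_lift_assoc, lift_snd_assoc, Category.id_comp]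

end Groth.Agent.Lib.HMNum27
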