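/-
`HMNum` helpers III (helper27): `isMonHom_of_points`, `isMonHom_conj` (conjugate of a monoid hom into a
group object by a constant point is a monoid hom).
-/
import Mathlib

set_option autoImplicit false
universe v u
open CategoryTheory MonoidalCategory CartesianMonoidalCategory MonObj

namespace Groth.Agent.Lib.HMNum27

variable {C : Type u} [Category.{v} C] [CartesianMonoidalCategory C]

theorem isMonHom_of_points {A G : C} [MonObj A] [MonObj G] (f : A ⟶ G)
    (h1 : (1 : 𝟙_ C ⟶ A) ≫ f = 1)
    (hmul : ∀ (T : C) (p q : T ⟶ A), (p * q) ≫ f = (p ≫ f) * (q ≫ f)) : IsMonHom f where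
  one_hom := by
    have e : ∀ (M : C) [MonObj M], (1 : 𝟙_ C ⟶ M) = η[M] := fun M _ => by
      rw [Hom.one_def, toUnit_unique (toUnit _) (𝟙 _), Category.id_comp]
    rw [← e A, h1, e G]
  mul_hom := by
    have e : μ[A] = fst A A * snd A A := by
      rw [Hom.mul_def, lift_fst_snd, Category.id_comp]
    rw [e, hmul, Hom.mul_def, ← lift_fst_comp_snd_comp]

/-- the conjugate of a monoid hom into a group object by a constant point is a monoid hom. -/
theorem isMonHom_conj {A G : C} [MonObj A] [GrpObj G] (l : A ⟶ G) [IsMonHom l] (c : 𝟙_ C ⟶ G) :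
    IsMonHom ((toUnit A ≫ c)⁻¹ * l * (toUnit A ≫ c)) := by
  apply isMonHom_of_points
  · rw [MonObj.comp_mul, MonObj.comp_mul, GrpObj.comp_inv, MonObj.one_comp l]
    group
  · intro T p q
    have hc : ∀ r : T ⟶ A, r ≫ toUnit A ≫ c = toUnit T ≫ c := fun r => by
      rw [← Category.assoc, toUnit_unique (r ≫ toUnit A) (toUnit T)]
    simp only [MonObj.comp_mul, GrpObj.comp_inv, hc, MonObj.mul_comp]
    group

end Groth.Agent.Lib.HMNum27
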