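/-
`HMNum` helpers IV (helper27): the origin of `𝔸¹` is absorbing (`incl_mul_origin`), points of the
parabolic `P(l)` (`parabolic_conj`), invariance of the numerical function under `P(l)`
(`isMu_of_parabolic`).
-/
import Mathlib
import Groth.Prelude.Def_HMNum
import Groth.Agent.Lib.HMNum27b

set_option autoImplicit false
universe u
open CategoryTheory Limits MonoidalCategory CartesianMonoidalCategory MonObj AlgebraicGeometry Opposite
open Magnet HMNum GLinSh

namespace Groth.Agent.Lib.HMNum27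

variable {S : Scheme.{u}} {G X : Over S} [GrpObj G]

/-- the origin of the affine line is absorbing for the action of `G_m`. -/
theorem incl_mul_origin {T' : Over S} (g : T' ⟶ Red.Gm S) :
    (g ≫ incl S) * (toUnit T' ≫ origin S) = toUnit T' ≫ origin S := by
  have h := (MonAct.isEquivariant_iff _ _ _).1 (isEquivariant_faceMapS S (M := ℤ) isFace_bot) T' g
    (1 : T' ⟶ AMonS S ↥(⊥ : AddSubmonoid ℤ))
  have hsub : Subsingleton ↥(⊥ : AddSubmonoid ℤ) :=
    ⟨fun x y => Subtype.ext ((AddSubmonoid.mem_bot.1 x.2).trans (AddSubmonoid.mem_bot.1 y.2).symm)⟩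
  have hs := subsingleton_hom_AMonS S ↥(⊥ : AddSubmonoid ℤ) T'
  have e1 : (1 : T' ⟶ AMonS S ↥(⊥ : AddSubmonoid ℤ)) ≫ AMonS.faceMap S isFace_bot =
      toUnit T' ≫ origin S := by
    rw [Hom.one_def, Category.assoc]; rfl
  rw [← Category.assoc, Subsingleton.elim (lift g 1 ≫ (subAct S ℤ ⊥).act) 1, e1] at h
  rw [subAct, MonAct.lift_restrict_act, MonAct.lift_regular_act] at h
  exact h.symm

/-- if `f : 𝔸¹ ⟶ G` extends `u ↦ l(u) γ l(u)⁻¹` then `f(g·b) = l(g) f(b) l(g)⁻¹`. -/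
theorem parabolic_conj [IsSeparated G.hom] (l : Red.Gm S ⟶ G) [IsMonHom l]
    (g₀ : 𝟙_ (Over S) ⟶ G) (f : A1 S ⟶ G) (hf : incl S ≫ f = l * (toUnit _ ≫ g₀) * l⁻¹)
    {T' : Over S} (g : T' ⟶ Red.Gm S) (b : T' ⟶ A1 S) :
    ((g ≫ incl S) * b) ≫ f = (g ≫ l) * (b ≫ f) * (g ≫ l)⁻¹ := by
  have key : ((snd (A1 S) (Red.Gm S) ≫ incl S) * fst (A1 S) (Red.Gm S)) ≫ f =
      (snd (A1 S) (Red.Gm S) ≫ l) * (fst (A1 S) (Red.Gm S) ≫ f) *
        (snd (A1 S) (Red.Gm S) ≫ l)⁻¹ := by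
    apply Groth.Agent.Lib.MagnetDense27.hom_ext_of_whiskerRight_map S plus.subtype
      Subtype.val_injective
    apply Magnet.hom_ext_lift₂
    intro T'' u g'
    have hc : ∀ r : T'' ⟶ Red.Gm S, r ≫ toUnit (Red.Gm S) ≫ g₀ = toUnit T'' ≫ g₀ := fun r => by
      rw [← Category.assoc, toUnit_unique (r ≫ toUnit _) (toUnit T'')]
    rw [lift_whiskerRight_assoc, lift_whiskerRight_assoc]
    simp only [MonObj.comp_mul, GrpObj.comp_inv, ← Category.assoc,
      lift_fst, lift_snd]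
    simp only [Category.assoc, hf, ← MonObj.mul_comp, MonObj.comp_mul, GrpObj.comp_inv, hc]
    rw [MonObj.mul_comp]
    group
  have := congrArg (fun ψ => lift b g ≫ ψ) key
  simp only [MonObj.comp_mul, GrpObj.comp_inv, ← Category.assoc,
    lift_fst, lift_snd] at this
  exact this

/-- a point `g₀` of the parabolic `P(l)` does not change the numerical function: one direction. -/
theorem isMu_of_parabolic {a : AlgGrp.Action G X} (B : LinBun G a) [IsSeparated G.hom]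
    (l : Red.Gm S ⟶ G) [IsMonHom l] (g₀ : 𝟙_ (Over S) ⟶ G) (f : A1 S ⟶ G)
    (hf : incl S ≫ f = l * (toUnit _ ≫ g₀) * l⁻¹)
    (hch : ∀ y' : 𝟙_ (Over S) ⟶ X, ∃ (U' : X.left.Opens) (yc' : Γ(B.V.left, B.π.left ⁻¹ᵁ U')),
      yc' ∈ B.atlas.chart U' ∧ y'.left ⁻¹ᵁ U' = ⊤)
    (x : 𝟙_ (Over S) ⟶ X) (m : ℤ) (h : IsMu B l x m) : IsMu B l (lift g₀ x ≫ a.act) m := by
  obtain ⟨y, ⟨φ, hφx, hφy⟩, hw⟩ := h
  have hφ := (MonAct.mem_eqvHom_iff φ.1).1 φ.2
  have hmem : MonAct.IsEquivariant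
      ((subAct S ℤ plus).prod (MonAct.trivial (AMonS S ℤ) (𝟙_ (Over S)))) (gmAct a l)
      (lift (fst (A1 S) (𝟙_ (Over S)) ≫ f) φ.1 ≫ a.act) := by
    rw [MonAct.mem_eqvHom_iff]
    intro T' g b t
    rw [comp_lift_assoc, comp_lift_assoc, lift_fst_assoc, lift_fst_assoc, hφ T' g b t,
      MonAct.lift_restrict_act, MonAct.lift_restrict_act, MonAct.ofAction_act]
    have e : lift g b ≫ (subAct S ℤ plus).act = (g ≫ incl S) * b := by
      rw [subAct, MonAct.lift_restrict_act, MonAct.lift_regular_act]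
    rw [e, parabolic_conj l g₀ f hf g b, ← act_mul, ← act_mul]
    congr 2
    group
  let Ψ : (attrPlus a l).obj (op (𝟙_ (Over S))) := ⟨_, hmem⟩
  refine ⟨lift (origin S ≫ f) y ≫ a.act, ⟨Ψ, ?_, ?_⟩, ?_⟩
  · rw [← hφx, MonAct.eqvHom.evalAt_app, MonAct.eqvHom.evalAt_app]
    change lift _ (𝟙 _) ≫ lift (fst (A1 S) (𝟙_ (Over S)) ≫ f) φ.1 ≫ a.act = _
    rw [comp_lift_assoc, lift_fst_assoc]
    congr 2
    have h1 : η[A1 S] = η[Red.Gm S] ≫ incl S := (IsMonHom.one_hom (f := incl S)).symm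
    have h2 : toUnit (𝟙_ (Over S)) = 𝟙 _ := toUnit_unique _ _
    rw [h2, Category.id_comp, h1, Category.assoc, hf, MonObj.comp_mul, MonObj.comp_mul,
      GrpObj.comp_inv, IsMonHom.one_hom (f := l), ← Category.assoc,
      toUnit_unique (η[Red.Gm S] ≫ toUnit _) (𝟙 _), Category.id_comp]
    have h3 : η[G] = (1 : 𝟙_ (Over S) ⟶ G) := by
      rw [Hom.one_def, h2, Category.id_comp]
    rw [h3]
    group
  · rw [← hφy, limitPt_eq, limitPt_eq]
    change lift _ (𝟙 _) ≫ lift (fst (A1 S) (𝟙_ (Over S)) ≫ f) φ.1 ≫ a.act = _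
    have h2 : toUnit (𝟙_ (Over S)) = 𝟙 _ := toUnit_unique _ _
    rw [comp_lift_assoc, lift_fst_assoc, h2, Category.id_comp]
  · refine hasFibreWeight_conj B l l (origin S ≫ f)⁻¹ _ _ ?_ (hch _) ?_
    · intro T' t g
      have h1 := parabolic_conj l g₀ f hf g (toUnit T' ≫ origin S)
      rw [incl_mul_origin] at h1
      have h2 : t = toUnit T' := toUnit_unique _ _
      rw [GrpObj.comp_inv, _root_.inv_inv, h2]
      rw [Category.assoc] at h1
      have h3 : (toUnit T' ≫ origin S ≫ f) * (g ≫ l) = (g ≫ l) * (toUnit T' ≫ origin S ≫ f) := by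
        have := congrArg (· * (g ≫ l)) h1
        simpa only [inv_mul_cancel_right] using this
      rw [h3, mul_inv_cancel_right]
    · rw [act_inv_act]; exact hw

end Groth.Agent.Lib.HMNum27
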