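import Groth.Prelude.Def_HRes
import Groth.Agent.Lib.ExtAdj

/-!
# Coherence of `HRes.pull` (identity and composition laws)
-/

universe w v u

open CategoryTheory CategoryTheory.Limits CategoryTheory.Abelian AlgebraicGeometry Opposite

namespace Groth.Agent.Lib.HResCoh95

section Id

variable {C : Type u} [Category.{v} C] [Abelian C] [HasExt.{w} C]

attribute [local instance] Ext.subsingleton_of_injective in
theorem mapExactFunctor_id [EnoughInjectives C] {X Y : C} {n : ℕ} (e : Ext.{w} X Y n) :
    e.mapExactFunctor (𝟭 C) = e := by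
  induction n generalizing Y with
  | zero =>
    obtain ⟨f, rfl⟩ := (Ext.mk₀_bijective _ _).2 e
    simp only [Ext.mapExactFunctor_mk₀]
    rfl
  | succ n hn =>
    let I : InjectivePresentation Y := Classical.arbitrary _
    let S := ShortComplex.mk _ _ (cokernel.condition I.f)
    have : Injective S.X₂ := I.injective
    have hS : S.ShortExact := { exact := ShortComplex.exact_cokernel I.f }
    obtain ⟨x₃, rfl⟩ := Ext.covariant_sequence_exact₁ _ hS e (by subsingleton) rfl
    have h1 : hS.extClass.mapExactFunctor (𝟭 C) = hS.extClass :=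
      Ext.mapExactFunctor_extClass (𝟭 C) hS
    rw [Ext.mapExactFunctor_comp, hn x₃, h1]

end Id

variable (K : Precoverage Scheme.{u}) {S T T' : Scheme.{u}}

/-- characterization of `pullConst.inv` -/
theorem toSheafify_pullConst_inv (f : T ⟶ S) (M : AddCommGrpCat.{u + 1}) :
    toSheafify (QuotSh.J K T) ((Functor.const _).obj M) ≫ (HRes.pullConst K f M).inv.hom =
      Functor.whiskerLeft (Over.map f).op (toSheafify (QuotSh.J K S) ((Functor.const _).obj M)) :=
  (Over.map f).toSheafify_pullbackSheafificationCompatibility AddCommGrpCat.{u + 1}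
    (QuotSh.J K T) (QuotSh.J K S) ((Functor.const _).obj M)

theorem toSheafify_pullConst_inv_app (f : T ⟶ S) (M : AddCommGrpCat.{u + 1}) (U : (Over T)ᵒᵖ) :
    (toSheafify (QuotSh.J K T) ((Functor.const _).obj M)).app U ≫
      (HRes.pullConst K f M).inv.hom.app U =
      (toSheafify (QuotSh.J K S) ((Functor.const _).obj M)).app ((Over.map f).op.obj U) :=
  congrArg (fun t => t.app U) (toSheafify_pullConst_inv K f M)

theorem pullConst_id (M : AddCommGrpCat.{u + 1}) :
    (HRes.pullConst K (𝟙 S) M).inv ≫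
      (K.toGrothendieck.overMapPullbackId AddCommGrpCat.{u + 1} S).hom.app
        ((constantSheaf (QuotSh.J K S) AddCommGrpCat.{u + 1}).obj M) = 𝟙 _ := by
  apply Sheaf.hom_ext
  apply sheafify_hom_ext _ _ _ ((constantSheaf (QuotSh.J K S) AddCommGrpCat.{u + 1}).obj M).property
  apply NatTrans.ext
  funext U
  have h := toSheafify_pullConst_inv_app K (𝟙 S) M U
  simp only [NatTrans.comp_app, ObjectProperty.FullSubcategory.comp_hom, ObjectProperty.FullSubcategory.id_hom, NatTrans.id_app]
  refine ((Category.assoc _ _ _).symm.trans (congrArg (· ≫ _) h)).trans ?_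
  simp
  refine ((toSheafify (QuotSh.J K S) ((Functor.const (Over S)ᵒᵖ).obj M)).naturality
    ((Over.mapId S).inv.app (unop U)).op).symm.trans ?_
  simp
  exact (Category.comp_id _).symm


theorem main_id (F : BigSite.Ab K S) (n : ℕ) (x : BigSite.H K S F n) :
    Sheaf.H.map ((K.toGrothendieck.overMapPullbackId AddCommGrpCat.{u + 1} S).hom.app F) n
      (HRes.pull K (𝟙 S) F n x) = x := by
  rw [HRes.pull_apply, Sheaf.H.map_apply]
  have h1 := Groth.Agent.Lib.ExtAdj.mapExactFunctor_naturality
    (K.toGrothendieck.overMapPullbackId AddCommGrpCat.{u + 1} S).hom x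
  refine (Ext.comp_assoc _ _ _ (zero_add n) (add_zero n) (by omega)).trans ?_
  refine (congrArg (fun z => (Ext.mk₀ (HRes.pullConst K (𝟙 S)
    (AddCommGrpCat.of (ULift.{u + 1} ℤ))).inv).comp z (zero_add n)) h1).trans ?_
  refine (Ext.comp_assoc _ _ _ (zero_add 0) (zero_add n) (by omega)).symm.trans ?_
  rw [mapExactFunctor_id]
  refine (congrArg (fun z => Ext.comp z x (zero_add n)) (Ext.mk₀_comp_mk₀ _ _)).trans ?_
  refine (congrArg (fun z => Ext.comp (Ext.mk₀ z) x (zero_add n)) (pullConst_id K _)).trans ?_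
  exact Ext.mk₀_id_comp x

theorem pullConst_comp (f : T ⟶ S) (g : T' ⟶ T) (M : AddCommGrpCat.{u + 1}) :
    (HRes.pullConst K (g ≫ f) M).inv =
      (HRes.pullConst K g M).inv ≫
        (BigSite.pullBig K g AddCommGrpCat.{u + 1}).map (HRes.pullConst K f M).inv ≫
        (K.toGrothendieck.overMapPullbackComp AddCommGrpCat.{u + 1} g f).hom.app
          ((constantSheaf (QuotSh.J K S) AddCommGrpCat.{u + 1}).obj M) := by
  apply Sheaf.hom_ext
  apply sheafify_hom_ext _ _ _ ((BigSite.pullBig K (g ≫ f) AddCommGrpCat.{u + 1}).obj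
    ((constantSheaf (QuotSh.J K S) AddCommGrpCat.{u + 1}).obj M)).property
  apply NatTrans.ext
  funext U
  have h1 := toSheafify_pullConst_inv_app K (g ≫ f) M U
  have h2 := toSheafify_pullConst_inv_app K g M U
  have h3 := toSheafify_pullConst_inv_app K f M ((Over.map g).op.obj U)
  simp only [NatTrans.comp_app, ObjectProperty.FullSubcategory.comp_hom]
  refine h1.trans ?_
  refine Eq.trans ?_ (Category.assoc _ _ _)
  refine Eq.trans ?_ (congrArg (· ≫ _) h2.symm)
  refine Eq.trans ?_ (Category.assoc _ _ _)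
  refine Eq.trans ?_ (congrArg (· ≫ _) h3.symm)
  simp
  refine Eq.trans ?_ ((toSheafify (QuotSh.J K S) ((Functor.const (Over S)ᵒᵖ).obj M)).naturality
    ((Over.mapComp g f).hom.app (unop U)).op)
  simp


theorem main_comp (f : T ⟶ S) (g : T' ⟶ T) (F : BigSite.Ab K S) (n : ℕ) (x : BigSite.H K S F n) :
    HRes.pull K (g ≫ f) F n x =
      Sheaf.H.map ((K.toGrothendieck.overMapPullbackComp AddCommGrpCat.{u + 1} g f).hom.app F) n
        (HRes.pull K g ((BigSite.pullBig K f AddCommGrpCat.{u + 1}).obj F) n (HRes.pull K f F n x)) := by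
  rw [HRes.pull_apply, HRes.pull_apply, HRes.pull_apply, Sheaf.H.map_apply]
  have h1 := Groth.Agent.Lib.ExtAdj.mapExactFunctor_naturality
    (K.toGrothendieck.overMapPullbackComp AddCommGrpCat.{u + 1} g f).hom x
  have h2 := Groth.Agent.Lib.ExtAdj.mapExactFunctor_mapExactFunctor
    (BigSite.pullBig K f AddCommGrpCat.{u + 1}) (BigSite.pullBig K g AddCommGrpCat.{u + 1}) x
  rw [Ext.mapExactFunctor_comp, Ext.mapExactFunctor_mk₀, h2]
  symm
  refine (Ext.comp_assoc _ _ _ (zero_add n) (add_zero n) (by omega)).trans ?_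
  refine (congrArg (fun z => (Ext.mk₀ (HRes.pullConst K g
    (AddCommGrpCat.of (ULift.{u + 1} ℤ))).inv).comp z (zero_add n))
      (Ext.comp_assoc _ _ _ (zero_add n) (add_zero n) (by omega))).trans ?_
  refine (congrArg (fun z => (Ext.mk₀ (HRes.pullConst K g
    (AddCommGrpCat.of (ULift.{u + 1} ℤ))).inv).comp
      ((Ext.mk₀ ((BigSite.pullBig K g AddCommGrpCat.{u + 1}).map (HRes.pullConst K f
    (AddCommGrpCat.of (ULift.{u + 1} ℤ))).inv)).comp z (zero_add n)) (zero_add n)) h1).trans ?_
  refine (congrArg (fun z => (Ext.mk₀ (HRes.pullConst K g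
    (AddCommGrpCat.of (ULift.{u + 1} ℤ))).inv).comp z (zero_add n))
      (Ext.comp_assoc _ _ _ (zero_add 0) (zero_add n) (by omega)).symm).trans ?_
  refine (Ext.comp_assoc _ _ _ (zero_add 0) (zero_add n) (by omega)).symm.trans ?_
  rw [Ext.mk₀_comp_mk₀, Ext.mk₀_comp_mk₀, pullConst_comp]

end Groth.Agent.Lib.HResCoh95
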