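/-
Helper library (helper75): the Hartshorne–Speiser–Lyubeznik theorem over a complete Noetherian local
ring, for `p`-semilinear additive maps of Artinian modules (`p ≥ 2`; no characteristic hypothesis is
needed: only `f (b • y) = b ^ p • f y`).

Proof ("Gabber's argument dualised"): `K n = ker f^n`; the ideals `𝔟 n = (K n : K (n+1))` increase
(semilinearity) hence stabilise at `𝔟`; `𝔟 ^ 2` kills `N / K n₀`; on the Matlis dual (a finite module)
the chain `(K n)^⊥` is locally stable at a minimal prime `𝔭` of `𝔟` (helper18 `EqChain18`), which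
produces `s ∉ 𝔭` with `s ∈ 𝔟`, a contradiction unless the chain `K n` stops.
-/
import Mathlib
import Groth.Agent.S0299
import Groth.Agent.S0317
import Groth.Agent.Lib.H29Matlis
import Groth.Agent.Lib.EqChain18

set_option autoImplicit false
set_option linter.style.haveILetI false
set_option linter.unusedSectionVars false
universe u

namespace Groth.Agent.Lib.HSLComplete75

open IsLocalRing

variable {B : Type u} [CommRing B]
  {N : Type u} [AddCommGroup N] [Module B N]
  (p : ℕ) (f : N →+ N) (hf : ∀ (b : B) (y : N), f (b • y) = b ^ p • f y)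

include hf in
theorem iterate_smul (n : ℕ) (b : B) (y : N) : (⇑f)^[n] (b • y) = b ^ (p ^ n) • (⇑f)^[n] y := by
  induction n generalizing y with
  | zero => simp
  | succ n ih =>
    rw [Function.iterate_succ_apply', Function.iterate_succ_apply', ih, hf, ← pow_mul, pow_succ]

theorem iterate_add (n : ℕ) (y y' : N) : (⇑f)^[n] (y + y') = (⇑f)^[n] y + (⇑f)^[n] y' := by
  induction n generalizing y y' with
  | zero => simp
  | succ n ih =>
    rw [Function.iterate_succ_apply', Function.iterate_succ_apply', Function.iterate_succ_apply', ih,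
      map_add]

theorem iterate_zero (n : ℕ) : (⇑f)^[n] (0 : N) = 0 := by
  induction n with
  | zero => simp
  | succ n ih => rw [Function.iterate_succ_apply', ih, map_zero]

/-- The kernel of the `n`-th iterate, a submodule. -/
def K (n : ℕ) : Submodule B N where
  carrier := {y | (⇑f)^[n] y = 0}
  add_mem' := fun {y y'} hy hy' => by
    change (⇑f)^[n] y = 0 at hy
    change (⇑f)^[n] y' = 0 at hy'
    change (⇑f)^[n] (y + y') = 0
    rw [iterate_add, hy, hy', add_zero]
  zero_mem' := iterate_zero f n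
  smul_mem' := fun b y hy => by
    change (⇑f)^[n] y = 0 at hy
    change (⇑f)^[n] (b • y) = 0
    rw [iterate_smul p f hf, hy, smul_zero]

theorem mem_K (n : ℕ) (y : N) : y ∈ K p f hf n ↔ (⇑f)^[n] y = 0 := Iff.rfl

theorem mem_K_succ (n : ℕ) (y : N) : y ∈ K p f hf (n + 1) ↔ f y ∈ K p f hf n := by
  rw [mem_K, mem_K, Function.iterate_succ_apply]

theorem K_mono : Monotone (K p f hf) := by
  apply monotone_nat_of_le_succ
  intro n y hy
  rw [mem_K] at hy
  rw [mem_K, Function.iterate_succ_apply', hy, map_zero]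

theorem K_stable (n : ℕ) (h : K p f hf n = K p f hf (n + 1)) (j : ℕ) :
    K p f hf (n + j) = K p f hf n := by
  induction j with
  | zero => rfl
  | succ j ih =>
    apply le_antisymm
    · intro y hy
      rw [← add_assoc, mem_K_succ] at hy
      rw [ih, h] at hy
      have : y ∈ K p f hf (n + 1 + 1) := (mem_K_succ p f hf _ y).mpr hy
      have h2 : y ∈ K p f hf (n + 1) := by
        rw [mem_K_succ]
        have h3 := (mem_K_succ p f hf _ y).mp this
        rwa [← h] at h3
      rwa [← h] at h2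
    · exact K_mono p f hf (Nat.le_add_right _ _)

/-- The colon ideals `(K n : K (n+1))`. -/
def bb (n : ℕ) : Ideal B := (K p f hf n).colon (K p f hf (n + 1) : Set N)

theorem mem_bb (n : ℕ) (b : B) : b ∈ bb p f hf n ↔ ∀ y ∈ K p f hf (n + 1), b • y ∈ K p f hf n := by
  rw [bb, Submodule.mem_colon]
  rfl

theorem bb_mono (hp : 1 ≤ p) : Monotone (bb p f hf) := by
  apply monotone_nat_of_le_succ
  intro n b hb
  rw [mem_bb] at hb ⊢
  intro y hy
  rw [mem_K_succ] at hy ⊢
  rw [hf]
  obtain ⟨q, rfl⟩ : ∃ q, p = q + 1 := ⟨p - 1, by omega⟩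
  rw [pow_succ, mul_smul]
  exact Submodule.smul_mem _ _ (hb _ hy)


section dual

variable {E : Type u} [AddCommGroup E] [Module B E]

/-- The functionals vanishing on a submodule. -/
def perp (E : Type u) [AddCommGroup E] [Module B E] (L : Submodule B N) :
    Submodule B (N →ₗ[B] E) where
  carrier := {d | ∀ y ∈ L, d y = 0}
  add_mem' := fun {d d'} hd hd' y hy => by
    rw [LinearMap.add_apply, hd y hy, hd' y hy, add_zero]
  zero_mem' := fun y _ => rfl
  smul_mem' := fun b d hd y hy => by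
    rw [LinearMap.smul_apply, hd y hy, smul_zero]

theorem mem_perp (L : Submodule B N) (d : N →ₗ[B] E) : d ∈ perp E L ↔ ∀ y ∈ L, d y = 0 := Iff.rfl

theorem perp_anti {L L' : Submodule B N} (h : L ≤ L') : perp E L' ≤ perp E L :=
  fun _ hd y hy => hd y (h hy)

variable [IsLocalRing B] (ι : ResidueField B →ₗ[B] E) (hι : _root_.InjHull.IsInjectiveHull ι)

include hι in
/-- Separation: an element outside `L` is detected by a functional vanishing on `L`. -/
theorem exists_perp_ne_zero (L : Submodule B N) (y : N) (hy : y ∉ L) :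
    ∃ d ∈ perp E L, d y ≠ 0 := by
  have hne : L.mkQ y ≠ 0 := by
    rwa [Ne, Submodule.mkQ_apply, Submodule.Quotient.mk_eq_zero]
  obtain ⟨θ, hθ⟩ := Groth.Agent.Lib.H29Matlis.exists_dual_ne_zero ι hι _ hne
  refine ⟨θ ∘ₗ L.mkQ, ?_, hθ⟩
  intro z hz
  rw [LinearMap.comp_apply, Submodule.mkQ_apply, (Submodule.Quotient.mk_eq_zero L).mpr hz, map_zero]

end dual

section main

variable [IsLocalRing B] [IsNoetherianRing B] [IsAdicComplete (maximalIdeal B) B] [IsArtinian B N]

include hf in
theorem exists_K_eq_succ (hp : 2 ≤ p) (hloc : ∀ y : N, ∃ n : ℕ, (⇑f)^[n] y = 0) :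
    ∃ n, K p f hf n = K p f hf (n + 1) := by
  by_contra hcon
  push Not at hcon
  -- the injective hull
  obtain ⟨E, _, _, ι, hι⟩ := Groth.Agent.S0299.result B (ResidueField B)
  -- stabilisation of the colon ideals
  obtain ⟨n0, hn0⟩ := monotone_stabilizes_iff_noetherian.mpr (inferInstance : IsNoetherian B B)
    ⟨bb p f hf, bb_mono p f hf (by omega)⟩
  simp only [OrderHom.coe_mk] at hn0
  set 𝔟 := bb p f hf n0 with h𝔟
  have h𝔟top : 𝔟 ≠ ⊤ := by
    intro htop
    have h1 : (1 : B) ∈ bb p f hf n0 := by rw [← h𝔟, htop]; trivial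
    rw [mem_bb] at h1
    apply hcon n0
    apply le_antisymm (K_mono p f hf (Nat.le_succ _))
    intro y hy
    simpa using h1 y hy
  -- a minimal prime
  obtain ⟨M, hM, hMle⟩ := Ideal.exists_le_maximal 𝔟 h𝔟top
  obtain ⟨𝔭, h𝔭, -⟩ := Ideal.exists_minimalPrimes_le hMle
  haveI : 𝔭.IsPrime := h𝔭.1.1
  -- the ideal killing N / K n0
  set 𝔠 : Ideal B := (K p f hf n0).colon (⊤ : Submodule B N) with h𝔠
  have hmem𝔠 : ∀ b, b ∈ 𝔠 ↔ ∀ y, b • y ∈ K p f hf n0 := by
    intro b
    rw [h𝔠, Submodule.mem_colon]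
    exact ⟨fun h y => h y trivial, fun h y _ => h y⟩
  have h𝔠le : 𝔠 ≤ 𝔟 := by
    intro b hb
    rw [hmem𝔠] at hb
    rw [h𝔟, mem_bb]
    exact fun y _ => hb y
  -- the square trick
  have hsq : ∀ j, ∀ y ∈ K p f hf (n0 + j), ∀ b ∈ 𝔟, ∀ b' ∈ 𝔟, b' • b • y ∈ K p f hf n0 := by
    intro j
    induction j with
    | zero =>
      intro y hy b _ b' _
      exact Submodule.smul_mem _ _ (Submodule.smul_mem _ _ hy)
    | succ j ih =>
      intro y hy b hb b' hb'
      rw [← add_assoc, mem_K_succ] at hy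
      have h1 : b • y ∈ K p f hf (n0 + 1) := by
        rw [mem_K_succ, hf]
        obtain ⟨q, rfl⟩ : ∃ q, p = q + 2 := ⟨p - 2, by omega⟩
        rw [pow_add, pow_two, mul_smul, mul_smul]
        exact Submodule.smul_mem _ _ (ih _ hy b hb b hb)
      rw [h𝔟, mem_bb] at hb'
      exact hb' _ h1
  have hsqle : 𝔟 * 𝔟 ≤ 𝔠 := by
    rw [Ideal.mul_le]
    intro r hr s hs
    rw [hmem𝔠]
    intro y
    obtain ⟨n, hn⟩ := hloc y
    have hy : y ∈ K p f hf (n0 + n) := K_mono p f hf (Nat.le_add_left n n0) hn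
    rw [mul_smul]
    exact hsq n y hy s hs r hr
  have hrad : 𝔠.radical = 𝔟.radical := by
    apply le_antisymm (Ideal.radical_mono h𝔠le)
    have := Ideal.radical_mono hsqle
    rwa [← pow_two, Ideal.radical_pow 𝔟 two_ne_zero] at this
  have h𝔭𝔠 : 𝔭 ∈ 𝔠.minimalPrimes := by
    rw [← Ideal.radical_minimalPrimes, hrad, Ideal.radical_minimalPrimes]
    exact h𝔭
  -- the dual chain
  have hfin : Module.Finite B (N →ₗ[B] E) := (Groth.Agent.S0317.result B E ι hι N).1
  haveI : IsNoetherian B (N →ₗ[B] E) := isNoetherian_of_isNoetherianRing_of_finite B _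
  let DD : ℕ → Submodule B (N →ₗ[B] E) := fun j => perp E (K p f hf (n0 + j))
  have hDD : Antitone DD := fun i j hij => perp_anti (K_mono p f hf (Nat.add_le_add_left hij n0))
  have hann : (DD 0).annihilator = 𝔠 := by
    ext b
    rw [Submodule.mem_annihilator, hmem𝔠]
    constructor
    · intro hb y
      by_contra hy
      obtain ⟨d, hd, hdy⟩ := exists_perp_ne_zero ι hι _ _ hy
      apply hdy
      have := hb d hd
      have h2 := LinearMap.congr_fun this y
      rwa [LinearMap.smul_apply, ← map_smul, LinearMap.zero_apply] at h2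
    · intro hb d hd
      ext y
      rw [LinearMap.smul_apply, ← map_smul, LinearMap.zero_apply]
      exact hd _ (hb y)
  have h𝔭ann : 𝔭 ∈ (DD 0).annihilator.minimalPrimes := by rw [hann]; exact h𝔭𝔠
  obtain ⟨j, hj⟩ := Groth.Agent.Lib.EqChain18.exists_local_stable DD hDD
    (IsNoetherian.noetherian _) 𝔭 h𝔭ann
  obtain ⟨s, hs𝔭, hs⟩ := Groth.Agent.Lib.EqChain18.exists_forall_smul_mem_of_fg 𝔭
    (IsNoetherian.noetherian (DD j)) hj
  have hsb : s ∈ bb p f hf (n0 + j) := by
    rw [mem_bb]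
    intro y hy
    by_contra hsy
    obtain ⟨d, hd, hdy⟩ := exists_perp_ne_zero ι hι _ _ hsy
    apply hdy
    have h1 := hs d hd
    have h2 := h1 y hy
    rwa [LinearMap.smul_apply, ← map_smul] at h2
  have hs𝔟 : s ∈ 𝔟 := by
    rw [hn0 (n0 + j) (Nat.le_add_right _ _)]
    exact hsb
  exact hs𝔭 (h𝔭.1.2 hs𝔟)

include hf in
/-- **Hartshorne–Speiser–Lyubeznik**, complete case. -/
theorem main (hp : 2 ≤ p) (hloc : ∀ y : N, ∃ n : ℕ, (⇑f)^[n] y = 0) :
    ∃ n : ℕ, ∀ y : N, (⇑f)^[n] y = 0 := by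
  obtain ⟨n, hn⟩ := exists_K_eq_succ p f hf hp hloc
  refine ⟨n, fun y => ?_⟩
  obtain ⟨m, hm⟩ := hloc y
  have hy : y ∈ K p f hf (n + m) := K_mono p f hf (Nat.le_add_left m n) hm
  rw [K_stable p f hf n hn m] at hy
  exact hy

end main

end Groth.Agent.Lib.HSLComplete75
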