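/-
Sheaves on `Over S` for a topology induced from schemes: separatedness along covering families,
descent along a covering singleton; h-covering pairs of proper f.p. morphisms (helper52).
-/
import Groth.Agent.Lib.HCoverFinH52

set_option autoImplicit false
universe u
open CategoryTheory CategoryTheory.Limits AlgebraicGeometry Opposite

namespace Groth.Agent.Lib.HSheafH52

open HTop Groth.Agent.Lib.HCoverFinH52

/-- a covering family of schemes gives a covering sieve of `Over S` -/
theorem generate_ofArrows_mem_over {S : Scheme.{u}} (J : GrothendieckTopology Scheme.{u})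
    {T : Over S} {ι : Type*} (X : ι → Scheme.{u}) (f : ∀ i, X i ⟶ T.left)
    (hf : Sieve.generate (Presieve.ofArrows X f) ∈ J T.left) :
    Sieve.generate (Presieve.ofArrows (fun i => Over.mk (f i ≫ T.hom))
      (fun i => (Over.homMk (f i) : Over.mk (f i ≫ T.hom) ⟶ T))) ∈ (J.over S) T := by
  rw [GrothendieckTopology.mem_over_iff]
  refine J.superset_covering ?_ hf
  rintro Z g ⟨W, h, k, ⟨i⟩, rfl⟩
  exact ⟨Over.mk (f i ≫ T.hom), Over.homMk (f i), h, ⟨_, 𝟙 _, _, ⟨i⟩, by simp⟩, rfl⟩

/-- sections of a sheaf on `Over S` agreeing on a covering family are equal -/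
theorem ext_of_family {S : Scheme.{u}} (J : GrothendieckTopology Scheme.{u})
    (F : Sheaf (J.over S) (Type (u + 1))) {T : Over S} {ι : Type*} (X : ι → Scheme.{u})
    (f : ∀ i, X i ⟶ T.left) (hf : Sieve.generate (Presieve.ofArrows X f) ∈ J T.left)
    (a b : F.obj.obj (op T))
    (h : ∀ i, F.obj.map (Over.homMk (f i) : Over.mk (f i ≫ T.hom) ⟶ T).op a =
      F.obj.map (Over.homMk (f i) : Over.mk (f i ≫ T.hom) ⟶ T).op b) : a = b := by
  have hmem := generate_ofArrows_mem_over J X f hf
  have hsh : Presieve.IsSheafFor F.obj (Presieve.ofArrows (fun i => Over.mk (f i ≫ T.hom))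
      (fun i => (Over.homMk (f i) : Over.mk (f i ≫ T.hom) ⟶ T))) := by
    rw [Presieve.isSheafFor_iff_generate]
    exact ((isSheaf_iff_isSheaf_of_type _ _).mp F.property) _ hmem
  apply hsh.isSeparatedFor.ext
  rintro Y g ⟨i⟩
  exact h i

/-- descent of a section along a covering singleton -/
theorem existsUnique_of_singleton {S : Scheme.{u}} (J : GrothendieckTopology Scheme.{u})
    (F : Sheaf (J.over S) (Type (u + 1))) {X Y : Over S} (f : X ⟶ Y)
    (hf : Sieve.generate (Presieve.singleton f.left) ∈ J Y.left) (s' : F.obj.obj (op X))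
    (h : ∀ (T : Over S) (p₁ p₂ : T ⟶ X), p₁ ≫ f = p₂ ≫ f →
      F.obj.map p₁.op s' = F.obj.map p₂.op s') :
    ∃! s : F.obj.obj (op Y), F.obj.map f.op s = s' := by
  have hmem : Sieve.generate (Presieve.singleton f) ∈ (J.over S) Y := by
    rw [GrothendieckTopology.mem_over_iff]
    refine J.superset_covering ?_ hf
    rintro Z g ⟨W, h, k, ⟨⟩, rfl⟩
    exact ⟨X, f, h, ⟨X, 𝟙 X, f, ⟨⟩, by simp⟩, rfl⟩
  have hsh : Presieve.IsSheafFor F.obj (Presieve.singleton f) := by
    rw [Presieve.isSheafFor_iff_generate]
    exact ((isSheaf_iff_isSheaf_of_type _ _).mp F.property) _ hmem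
  rw [Presieve.isSheafFor_singleton] at hsh
  exact hsh s' (fun {Z} p₁ p₂ hp => h Z p₁ p₂ hp)

/-- a universally closed surjective morphism locally of finite presentation generates an h
covering sieve -/
theorem generate_singleton_mem_hTopology {X Y : Scheme.{u}} (p : X ⟶ Y) [UniversallyClosed p]
    [Surjective p] [LocallyOfFinitePresentation p] :
    Sieve.generate (Presieve.singleton p) ∈ hTopology Y := by
  have h := generate_mem_hTopology (PreZeroHypercover.singleton.{0} p)
    (fun _ => inferInstanceAs (UniversallyClosed p))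
    (fun _ => inferInstanceAs (LocallyOfFinitePresentation p))
    (fun t => ⟨PUnit.unit, p.surjective t⟩)
  rwa [PreZeroHypercover.presieve₀_singleton] at h

/-- sections of an h sheaf agreeing on two universally closed f.p. morphisms which are jointly
surjective are equal -/
theorem ext_of_pair {S : Scheme.{u}} (F : HTop.ShH S) {T : Over S} {T₁ T₂ : Scheme.{u}}
    (a₁ : T₁ ⟶ T.left) (a₂ : T₂ ⟶ T.left) [UniversallyClosed a₁] [UniversallyClosed a₂]
    [LocallyOfFinitePresentation a₁] [LocallyOfFinitePresentation a₂]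
    (hs : ∀ t : T.left, t ∈ Set.range a₁ ∨ t ∈ Set.range a₂) (a b : F.obj.obj (op T))
    (h₁ : F.obj.map (Over.homMk a₁ : Over.mk (a₁ ≫ T.hom) ⟶ T).op a =
      F.obj.map (Over.homMk a₁ : Over.mk (a₁ ≫ T.hom) ⟶ T).op b)
    (h₂ : F.obj.map (Over.homMk a₂ : Over.mk (a₂ ≫ T.hom) ⟶ T).op a =
      F.obj.map (Over.homMk a₂ : Over.mk (a₂ ≫ T.hom) ⟶ T).op b) : a = b := by
  let X : Bool → Scheme.{u} := fun b => bif b then T₁ else T₂
  let f : ∀ b, X b ⟶ T.left := fun b => match b with
    | true => a₁
    | false => a₂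
  let E : PreZeroHypercover.{0} T.left := ⟨Bool, X, f⟩
  have hmem : Sieve.generate (Presieve.ofArrows X f) ∈ hTopology T.left := by
    refine generate_mem_hTopology E ?_ ?_ ?_
    · rintro (_ | _)
      · exact inferInstanceAs (UniversallyClosed a₂)
      · exact inferInstanceAs (UniversallyClosed a₁)
    · rintro (_ | _)
      · exact inferInstanceAs (LocallyOfFinitePresentation a₂)
      · exact inferInstanceAs (LocallyOfFinitePresentation a₁)
    · intro t
      rcases hs t with h | h
      · exact ⟨true, h⟩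
      · exact ⟨false, h⟩
  refine ext_of_family hTopology F X f hmem a b ?_
  rintro (_ | _)
  · exact h₂
  · exact h₁

end Groth.Agent.Lib.HSheafH52
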