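import Groth.Agent.Lib.PairHenselizationEtale
import Groth.Agent.Lib.EtaleLift
import Groth.Agent.Lib.UnramEq
import Mathlib.RingTheory.Flat.EquationalCriterion
import Mathlib.RingTheory.Etale.StandardEtale
import Mathlib.RingTheory.Polynomial.Basic

/-!
# Étale neighbourhoods of a pair and the henselization as their filtered colimit

`QBij I C` says that `A/I → C/IC` is bijective. We prove closure properties (tensor products,
localisation at elements `≡ 1`, transitivity), filteredness of the étale neighbourhoods, and that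
a henselization `B` of `(A, I)` is the filtered colimit of the étale neighbourhoods.
-/

set_option autoImplicit false
universe u

namespace Groth.Agent.Lib.PairEtaleNbhd

open TensorProduct

section QBij

variable {A : Type*} [CommRing A] (I : Ideal A)

/-- `A/I → C/IC` is bijective. -/
def QBij (C : Type*) [CommRing C] [Algebra A C] : Prop :=
  Function.Bijective
    (Ideal.quotientMap (I.map (algebraMap A C)) (algebraMap A C) Ideal.le_comap_map)

variable {I}
variable {C : Type*} [CommRing C] [Algebra A C]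

theorem qbij_iff : QBij I C ↔
    (∀ c : C, ∃ a : A, c - algebraMap A C a ∈ I.map (algebraMap A C)) ∧
      (∀ a : A, algebraMap A C a ∈ I.map (algebraMap A C) → a ∈ I) := by
  constructor
  · intro h
    refine ⟨fun c => ?_, fun a ha => ?_⟩
    · obtain ⟨y, hy⟩ := h.2 (Ideal.Quotient.mk _ c)
      obtain ⟨a, rfl⟩ := Ideal.Quotient.mk_surjective y
      rw [Ideal.quotientMap_mk] at hy
      exact ⟨a, Ideal.Quotient.eq.1 hy.symm⟩
    · have h1 : Ideal.quotientMap (I.map (algebraMap A C)) (algebraMap A C) Ideal.le_comap_map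
          (Ideal.Quotient.mk I a) = 0 := by
        rw [Ideal.quotientMap_mk]
        exact Ideal.Quotient.eq_zero_iff_mem.2 ha
      have h2 := h.1 (h1.trans (map_zero _).symm)
      exact Ideal.Quotient.eq_zero_iff_mem.1 h2
  · rintro ⟨h1, h2⟩
    constructor
    · rw [injective_iff_map_eq_zero]
      intro x hx
      obtain ⟨a, rfl⟩ := Ideal.Quotient.mk_surjective x
      rw [Ideal.quotientMap_mk, Ideal.Quotient.eq_zero_iff_mem] at hx
      exact Ideal.Quotient.eq_zero_iff_mem.2 (h2 a hx)
    · intro y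
      obtain ⟨c, rfl⟩ := Ideal.Quotient.mk_surjective y
      obtain ⟨a, ha⟩ := h1 c
      refine ⟨Ideal.Quotient.mk I a, ?_⟩
      rw [Ideal.quotientMap_mk]
      exact (Ideal.Quotient.eq.2 ha).symm

theorem QBij.exists_sub_mem (h : QBij I C) (c : C) :
    ∃ a : A, c - algebraMap A C a ∈ I.map (algebraMap A C) := (qbij_iff.1 h).1 c

theorem QBij.mem_of_algebraMap_mem (h : QBij I C) {a : A}
    (ha : algebraMap A C a ∈ I.map (algebraMap A C)) : a ∈ I := (qbij_iff.1 h).2 a ha

theorem qbij_self : QBij I A := by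
  rw [qbij_iff]
  refine ⟨fun c => ⟨c, by simp⟩, fun a ha => ?_⟩
  simpa using ha

/-- An `A`-algebra map to `A/I` kills `IC`. -/
theorem algHom_eq_zero_of_mem (π : C →ₐ[A] A ⧸ I) {c : C} (hc : c ∈ I.map (algebraMap A C)) :
    π c = 0 := by
  have hle : I.map (algebraMap A C) ≤ RingHom.ker (π : C →+* A ⧸ I) := by
    rw [Ideal.map_le_iff_le_comap]
    intro a ha
    rw [Ideal.mem_comap, RingHom.mem_ker]
    change π (algebraMap A C a) = 0
    rw [π.commutes]
    exact Ideal.Quotient.eq_zero_iff_mem.2 ha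
  exact hle hc

/-- Criterion: elementwise surjectivity together with a retraction to `A/I`. -/
theorem qbij_of_algHom (h1 : ∀ c : C, ∃ a : A, c - algebraMap A C a ∈ I.map (algebraMap A C))
    (π : C →ₐ[A] A ⧸ I) : QBij I C := by
  rw [qbij_iff]
  refine ⟨h1, fun a ha => ?_⟩
  have := algHom_eq_zero_of_mem π ha
  rw [π.commutes] at this
  exact Ideal.Quotient.eq_zero_iff_mem.1 this

/-- The retraction `C → C/IC ≅ A/I`. -/
noncomputable def QBij.retr (h : QBij I C) : C →ₐ[A] A ⧸ I :=
  let e : (A ⧸ I) ≃+* C ⧸ I.map (algebraMap A C) := RingEquiv.ofBijective _ h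
  { toRingHom := e.symm.toRingHom.comp (Ideal.Quotient.mk _)
    commutes' := fun r => by
      change e.symm (Ideal.Quotient.mk (I.map (algebraMap A C)) (algebraMap A C r)) = _
      have h1 : e (Ideal.Quotient.mk I r) =
          Ideal.Quotient.mk (I.map (algebraMap A C)) (algebraMap A C r) :=
        Ideal.quotientMap_mk (J := I) (I := I.map (algebraMap A C)) (f := algebraMap A C)
          (H := Ideal.le_comap_map)
      rw [← h1, RingEquiv.symm_apply_apply]
      rfl }

theorem QBij.mem_of_retr_eq_zero (h : QBij I C) {c : C} (hc : h.retr c = 0) :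
    c ∈ I.map (algebraMap A C) := by
  obtain ⟨a, ha⟩ := h.exists_sub_mem c
  have h1 := algHom_eq_zero_of_mem h.retr ha
  rw [map_sub, hc, zero_sub, neg_eq_zero, AlgHom.commutes] at h1
  have h2 : a ∈ I := Ideal.Quotient.eq_zero_iff_mem.1 h1
  have h3 : algebraMap A C a ∈ I.map (algebraMap A C) := Ideal.mem_map_of_mem _ h2
  have := Ideal.add_mem _ ha h3
  simpa using this

/-- Transitivity. -/
theorem qbij_trans {D : Type*} [CommRing D] [Algebra A D] [Algebra C D] [IsScalarTower A C D]
    (h₁ : QBij I C) (h₂ : QBij (I.map (algebraMap A C)) D) : QBij I D := by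
  have hideal : (I.map (algebraMap A C)).map (algebraMap C D) = I.map (algebraMap A D) := by
    rw [Ideal.map_map, ← IsScalarTower.algebraMap_eq]
  rw [qbij_iff]
  constructor
  · intro d
    obtain ⟨c, hc⟩ := h₂.exists_sub_mem d
    obtain ⟨a, ha⟩ := h₁.exists_sub_mem c
    refine ⟨a, ?_⟩
    rw [hideal] at hc
    have h3 : algebraMap C D (c - algebraMap A C a) ∈ I.map (algebraMap A D) := by
      rw [← hideal]
      exact Ideal.mem_map_of_mem _ ha
    rw [map_sub, ← IsScalarTower.algebraMap_apply] at h3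
    have := Ideal.add_mem _ hc h3
    simpa using this
  · intro a ha
    rw [← hideal, IsScalarTower.algebraMap_apply A C D] at ha
    exact h₁.mem_of_algebraMap_mem (h₂.mem_of_algebraMap_mem ha)

/-- Localising at an element congruent to `1`. -/
theorem qbij_away_self (J : Ideal C) (t : C) (ht : t - 1 ∈ J) :
    QBij J (Localization.Away t) := by
  have hunit : ∀ y : Submonoid.powers t, IsUnit ((Ideal.Quotient.mkₐ C J) y) := by
    rintro ⟨_, n, rfl⟩
    have : Ideal.Quotient.mk J t = 1 := by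
      rw [← sub_eq_zero, ← map_one (Ideal.Quotient.mk J), ← map_sub]
      exact Ideal.Quotient.eq_zero_iff_mem.2 ht
    change IsUnit (Ideal.Quotient.mk J (t ^ n))
    rw [map_pow, this, one_pow]
    exact isUnit_one
  let π : Localization.Away t →ₐ[C] C ⧸ J :=
    IsLocalization.liftAlgHom (M := Submonoid.powers t) (f := Ideal.Quotient.mkₐ C J) hunit
  refine qbij_of_algHom (fun z => ?_) π
  set JL : Ideal (Localization.Away t) := J.map (algebraMap C (Localization.Away t)) with hJL
  obtain ⟨n, b, hnb⟩ := IsLocalization.Away.surj t z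
  refine ⟨b, ?_⟩
  have h1 : algebraMap C (Localization.Away t) t - 1 ∈ JL := by
    have := Ideal.mem_map_of_mem (algebraMap C (Localization.Away t)) ht
    rwa [map_sub, map_one] at this
  have h2 : algebraMap C (Localization.Away t) t ^ n - 1 ∈ JL := by
    have hmk : Ideal.Quotient.mk JL (algebraMap C (Localization.Away t) t) = 1 := by
      rw [← sub_eq_zero, ← map_one (Ideal.Quotient.mk JL), ← map_sub,
        Ideal.Quotient.eq_zero_iff_mem]
      exact h1
    rw [← Ideal.Quotient.eq_zero_iff_mem, map_sub, map_pow, hmk, one_pow, map_one, sub_self]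
  have h4 : z - algebraMap C (Localization.Away t) b =
      -(z * (algebraMap C (Localization.Away t) t ^ n - 1)) := by
    rw [← hnb]; ring
  rw [h4]
  exact JL.neg_mem (JL.mul_mem_left _ h2)

theorem qbij_away (h : QBij I C) (t : C) (ht : t - 1 ∈ I.map (algebraMap A C)) :
    QBij I (Localization.Away t) :=
  qbij_trans h (qbij_away_self _ t ht)

/-- Tensor products. -/
theorem qbij_tensor {A₁ A₂ : Type*} [CommRing A₁] [Algebra A A₁] [CommRing A₂] [Algebra A A₂]
    (h₁ : QBij I A₁) (h₂ : QBij I A₂) : QBij I (A₁ ⊗[A] A₂) := by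
  refine qbij_of_algHom (fun z => ?_) (Algebra.TensorProduct.productMap h₁.retr h₂.retr)
  set IT : Ideal (A₁ ⊗[A] A₂) := I.map (algebraMap A (A₁ ⊗[A] A₂)) with hIT
  have hleft : ∀ x ∈ I.map (algebraMap A A₁), ∀ y : A₂, x ⊗ₜ[A] y ∈ IT := by
    intro x hx y
    have h1 : (Algebra.TensorProduct.includeLeft : A₁ →ₐ[A] A₁ ⊗[A] A₂) x ∈ IT := by
      have := Ideal.mem_map_of_mem
        ((Algebra.TensorProduct.includeLeft : A₁ →ₐ[A] A₁ ⊗[A] A₂) : A₁ →+* A₁ ⊗[A] A₂) hx
      rw [Ideal.map_map] at this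
      have h2 : ((Algebra.TensorProduct.includeLeft : A₁ →ₐ[A] A₁ ⊗[A] A₂) : A₁ →+* _).comp
          (algebraMap A A₁) = algebraMap A (A₁ ⊗[A] A₂) :=
        (Algebra.TensorProduct.includeLeft : A₁ →ₐ[A] A₁ ⊗[A] A₂).comp_algebraMap
      rw [h2] at this
      exact this
    have h3 : x ⊗ₜ[A] y = (Algebra.TensorProduct.includeLeft : A₁ →ₐ[A] A₁ ⊗[A] A₂) x *
        ((1 : A₁) ⊗ₜ[A] y) := by
      rw [Algebra.TensorProduct.includeLeft_apply, Algebra.TensorProduct.tmul_mul_tmul, mul_one,
        one_mul]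
    rw [h3]
    exact IT.mul_mem_right _ h1
  have hright : ∀ (x : A₁), ∀ y ∈ I.map (algebraMap A A₂), x ⊗ₜ[A] y ∈ IT := by
    intro x y hy
    have h1 : (Algebra.TensorProduct.includeRight : A₂ →ₐ[A] A₁ ⊗[A] A₂) y ∈ IT := by
      have := Ideal.mem_map_of_mem
        ((Algebra.TensorProduct.includeRight : A₂ →ₐ[A] A₁ ⊗[A] A₂) : A₂ →+* A₁ ⊗[A] A₂) hy
      rw [Ideal.map_map] at this
      have h2 : ((Algebra.TensorProduct.includeRight : A₂ →ₐ[A] A₁ ⊗[A] A₂) : A₂ →+* _).comp
          (algebraMap A A₂) = algebraMap A (A₁ ⊗[A] A₂) :=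
        (Algebra.TensorProduct.includeRight : A₂ →ₐ[A] A₁ ⊗[A] A₂).comp_algebraMap
      rw [h2] at this
      exact this
    have h3 : x ⊗ₜ[A] y = (Algebra.TensorProduct.includeRight : A₂ →ₐ[A] A₁ ⊗[A] A₂) y *
        (x ⊗ₜ[A] (1 : A₂)) := by
      rw [Algebra.TensorProduct.includeRight_apply, Algebra.TensorProduct.tmul_mul_tmul, mul_one,
        one_mul]
    rw [h3]
    exact IT.mul_mem_right _ h1
  induction z using TensorProduct.induction_on with
  | zero => exact ⟨0, by simp⟩
  | tmul x y =>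
    obtain ⟨a, ha⟩ := h₁.exists_sub_mem x
    obtain ⟨b, hb⟩ := h₂.exists_sub_mem y
    refine ⟨a * b, ?_⟩
    have h6 : algebraMap A (A₁ ⊗[A] A₂) (a * b) =
        (algebraMap A A₁ a) ⊗ₜ[A] (algebraMap A A₂ b) := by
      rw [Algebra.TensorProduct.algebraMap_apply, map_mul,
        Algebra.algebraMap_eq_smul_one (A := A₂) b, TensorProduct.tmul_smul,
        TensorProduct.smul_tmul', Algebra.smul_def b, mul_comm]
    have h5 : x ⊗ₜ[A] y - algebraMap A (A₁ ⊗[A] A₂) (a * b) =
        (x - algebraMap A A₁ a) ⊗ₜ[A] y + (algebraMap A A₁ a) ⊗ₜ[A] (y - algebraMap A A₂ b) := by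
      rw [h6, TensorProduct.sub_tmul, TensorProduct.tmul_sub]
      abel
    rw [h5]
    exact IT.add_mem (hleft _ ha _) (hright _ _ hb)
  | add z w hz hw =>
    obtain ⟨a, ha⟩ := hz
    obtain ⟨b, hb⟩ := hw
    refine ⟨a + b, ?_⟩
    have : z + w - algebraMap A (A₁ ⊗[A] A₂) (a + b) =
        (z - algebraMap A (A₁ ⊗[A] A₂) a) + (w - algebraMap A (A₁ ⊗[A] A₂) b) := by
      rw [map_add]; ring
    rw [this]
    exact IT.add_mem ha hb

end QBij


section Nbhd

variable {A : Type u} [CommRing A] (I : Ideal A)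

/-- An étale neighbourhood of the pair `(A, I)`. -/
structure IsNbhd (A' : Type u) [CommRing A'] [Algebra A A'] : Prop where
  etale : Algebra.Etale A A'
  qbij : QBij I A'

variable {I}

theorem IsNbhd.self : IsNbhd I A := ⟨inferInstance, qbij_self⟩

theorem IsNbhd.tensor {A₁ A₂ : Type u} [CommRing A₁] [Algebra A A₁] [CommRing A₂] [Algebra A A₂]
    (h₁ : IsNbhd I A₁) (h₂ : IsNbhd I A₂) : IsNbhd I (A₁ ⊗[A] A₂) := by
  have := h₁.etale
  have := h₂.etale
  have : Algebra.Etale A₁ (A₁ ⊗[A] A₂) := inferInstance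
  exact ⟨Algebra.Etale.comp A A₁ (A₁ ⊗[A] A₂), qbij_tensor h₁.qbij h₂.qbij⟩

theorem IsNbhd.trans {A' A'' : Type u} [CommRing A'] [Algebra A A'] [CommRing A'']
    [Algebra A A''] [Algebra A' A''] [IsScalarTower A A' A''] (h₁ : IsNbhd I A')
    (h₂ : IsNbhd (I.map (algebraMap A A')) A'') : IsNbhd I A'' := by
  have := h₁.etale
  have := h₂.etale
  exact ⟨Algebra.Etale.comp A A' A'', qbij_trans h₁.qbij h₂.qbij⟩

theorem IsNbhd.away_self {C : Type u} [CommRing C] (J : Ideal C) (t : C) (ht : t - 1 ∈ J) :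
    IsNbhd J (Localization.Away t) :=
  ⟨Algebra.Etale.of_isLocalizationAway t, qbij_away_self J t ht⟩

theorem IsNbhd.away {A' : Type u} [CommRing A'] [Algebra A A'] (h : IsNbhd I A') (t : A')
    (ht : t - 1 ∈ I.map (algebraMap A A')) : IsNbhd I (Localization.Away t) :=
  h.trans (IsNbhd.away_self _ t ht)

/-- Filteredness, part (2): two parallel maps between étale neighbourhoods are coequalised by a
further étale neighbourhood. -/
theorem exists_coequalizer {A₁ A₂ : Type u} [CommRing A₁] [Algebra A A₁] [CommRing A₂]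
    [Algebra A A₂] (h₁ : IsNbhd I A₁) (f g : A₁ →ₐ[A] A₂) :
    ∃ t : A₂, t - 1 ∈ I.map (algebraMap A A₂) ∧
      (IsScalarTower.toAlgHom A A₂ (Localization.Away t)).comp f =
        (IsScalarTower.toAlgHom A A₂ (Localization.Away t)).comp g := by
  have := h₁.etale
  obtain ⟨e, he, hJ⟩ := Groth.Agent.Lib.UnramEq.exists_idempotent f g
  have hle : Groth.Agent.Lib.UnramEq.diffIdeal f g ≤ I.map (algebraMap A A₂) := by
    rw [Groth.Agent.Lib.UnramEq.diffIdeal, Ideal.span_le]
    rintro _ ⟨b, rfl⟩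
    exact Groth.Agent.Lib.PairHenselizationEtale.mk_algHom_eq_of_surjective I h₁.qbij.2
      (I.map (algebraMap A A₂)) le_rfl f g b
  have heI : e ∈ I.map (algebraMap A A₂) := hle (hJ ▸ Ideal.mem_span_singleton_self e)
  refine ⟨1 - e, ?_, ?_⟩
  · have : (1 - e) - 1 = -e := by ring
    rw [this]
    exact neg_mem heI
  · ext b
    change algebraMap A₂ (Localization.Away (1 - e)) (f b) =
      algebraMap A₂ (Localization.Away (1 - e)) (g b)
    have hmem : f b - g b ∈ Ideal.span {e} := hJ ▸ Groth.Agent.Lib.UnramEq.sub_mem_diffIdeal f g b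
    obtain ⟨c, hc⟩ := Ideal.mem_span_singleton'.mp hmem
    have he0 : algebraMap A₂ (Localization.Away (1 - e)) e = 0 := by
      have hunit : IsUnit (algebraMap A₂ (Localization.Away (1 - e)) (1 - e)) :=
        IsLocalization.Away.algebraMap_isUnit (1 - e)
      have hzero : (1 - e) * e = 0 := by
        have he' : e * e = e := he
        linear_combination (-1 : A₂) * he'
      have h2 : algebraMap A₂ (Localization.Away (1 - e)) (1 - e) *
          algebraMap A₂ (Localization.Away (1 - e)) e = 0 := by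
        rw [← map_mul, hzero, map_zero]
      exact (hunit.mul_right_eq_zero).mp h2
    rw [← sub_eq_zero, ← map_sub, ← hc, map_mul, he0, mul_zero]

end Nbhd


section Colimit

open Groth.Agent.Lib.PairHenselizationEtale Groth.Agent.Lib.PairHenselization Polynomial

variable {A : Type u} [CommRing A] {I : Ideal A} {B : Type u} [CommRing B] [Algebra A B]

/-- A henselization of `(A, I)` satisfies `A/I ≅ B/IB`. -/
theorem qbij_of_isPairHenselization (hB : Hens2.IsPairHenselization A I B) : QBij I B := by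
  rw [qbij_iff]
  refine ⟨fun b => ?_, fun a ha => ?_⟩
  · obtain ⟨a, ha⟩ := Groth.Agent.Lib.PairHenselizationEtale.exists_sub_mem I hB 1 b
    rw [pow_one] at ha
    exact ⟨a, ha⟩
  · have := Groth.Agent.Lib.PairHenselizationEtale.mem_of_algebraMap_mem I hB 1 a
      (by rw [pow_one]; exact ha)
    rwa [pow_one] at this

/-- Part (a): an étale neighbourhood has exactly one `A`-algebra map to the henselization. -/
theorem existsUnique_algHom (hB : Hens2.IsPairHenselization A I B) {A' : Type u} [CommRing A']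
    [Algebra A A'] (hA' : IsNbhd I A') : ∃! _θ : A' →ₐ[A] B, True := by
  have := hA'.etale
  have : HenselianRing B (I.map (algebraMap A B)) := hB.1
  exact existsUnique_algHom_of_etale_nbhd I hA'.qbij (I.map (algebraMap A B)) le_rfl

theorem algHom_ext (hB : Hens2.IsPairHenselization A I B) {A' : Type u} [CommRing A']
    [Algebra A A'] (hA' : IsNbhd I A') (θ θ' : A' →ₐ[A] B) : θ = θ' :=
  (existsUnique_algHom hB hA').unique trivial trivial

/-- If `φ w ∈ IB` then `w ∈ IA'`. -/
theorem mem_of_algHom_mem (hB : Hens2.IsPairHenselization A I B) {A' : Type u} [CommRing A']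
    [Algebra A A'] (hA' : QBij I A') (φ : A' →ₐ[A] B) {w : A'}
    (hw : φ w ∈ I.map (algebraMap A B)) : w ∈ I.map (algebraMap A A') := by
  obtain ⟨a, ha⟩ := hA'.exists_sub_mem w
  have h1 : φ (w - algebraMap A A' a) ∈ I.map (algebraMap A B) := by
    have := Ideal.mem_map_of_mem (φ : A' →+* B) ha
    rw [Ideal.map_map] at this
    have h2 : ((φ : A' →+* B).comp (algebraMap A A')) = algebraMap A B := φ.comp_algebraMap
    rwa [h2] at this
  rw [map_sub, φ.commutes] at h1
  have h3 : algebraMap A B a ∈ I.map (algebraMap A B) := by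
    have := Ideal.sub_mem _ hw h1
    simpa using this
  have h4 : a ∈ I := (qbij_of_isPairHenselization hB).mem_of_algebraMap_mem h3
  have h5 : algebraMap A A' a ∈ I.map (algebraMap A A') := Ideal.mem_map_of_mem _ h4
  have := Ideal.add_mem _ ha h5
  simpa using this

/-- If `φ w` is a unit modulo `IB` then `w` is a unit modulo `IA'`. -/
theorem isUnit_mk_of_algHom (hB : Hens2.IsPairHenselization A I B) {A' : Type u} [CommRing A']
    [Algebra A A'] (hA' : QBij I A') (φ : A' →ₐ[A] B) {w : A'}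
    (hw : IsUnit (Ideal.Quotient.mk (I.map (algebraMap A B)) (φ w))) :
    IsUnit (Ideal.Quotient.mk (I.map (algebraMap A A')) w) := by
  obtain ⟨v', hv'⟩ := isUnit_iff_exists_inv.1 hw
  obtain ⟨v, rfl⟩ := Ideal.Quotient.mk_surjective v'
  obtain ⟨c, hc⟩ := (qbij_of_isPairHenselization hB).exists_sub_mem v
  have h1 : φ w * v - 1 ∈ I.map (algebraMap A B) := by
    rw [← Ideal.Quotient.eq_zero_iff_mem, map_sub, map_mul, hv', map_one, sub_self]
  have h2 : φ (w * algebraMap A A' c - 1) ∈ I.map (algebraMap A B) := by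
    have : φ (w * algebraMap A A' c - 1) = (φ w * v - 1) - φ w * (v - algebraMap A B c) := by
      rw [map_sub, map_mul, φ.commutes, map_one]; ring
    rw [this]
    exact Ideal.sub_mem _ h1 (Ideal.mul_mem_left _ _ hc)
  have h3 := mem_of_algHom_mem hB hA' φ h2
  refine IsUnit.of_mul_eq_one (Ideal.Quotient.mk _ (algebraMap A A' c)) ?_
  rw [← map_mul, ← sub_eq_zero, ← map_one (Ideal.Quotient.mk (I.map (algebraMap A A'))),
    ← map_sub, Ideal.Quotient.eq_zero_iff_mem]
  exact h3

/-- Part (c) for the constructed henselization: an element of `A` dying in `Hzn2 A I` is killed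
by some `t ≡ 1` modulo `I`. -/
theorem exists_mul_eq_zero_of_algebraMap_Hzn2_eq_zero (I : Ideal A) (s : A)
    (hs : algebraMap A (Hzn2 A I) s = 0) : ∃ t : A, t - 1 ∈ I ∧ t * s = 0 := by
  have hH := isPairHenselization A I
  have hq := qbij_of_isPairHenselization hH
  have hrel : ∑ i : Fin 1, (fun _ => s) i • (fun _ => (1 : Hzn2 A I)) i = 0 := by
    simp only [Finset.univ_unique, Finset.sum_singleton]
    rw [Algebra.smul_def, mul_one]
    exact hs
  obtain ⟨k, a, y, h1, h2⟩ := Module.Flat.isTrivialRelation_of_sum_smul_eq_zero hrel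
  choose c hc using fun j => hq.exists_sub_mem (y j)
  refine ⟨∑ j, a 0 j * c j, ?_, ?_⟩
  · apply hq.mem_of_algebraMap_mem
    have h3 : algebraMap A (Hzn2 A I) (∑ j, a 0 j * c j - 1) =
        -∑ j, a 0 j • (y j - algebraMap A (Hzn2 A I) (c j)) := by
      have h10 := h1 0
      simp only [smul_sub, Finset.sum_sub_distrib] at *
      rw [← h10, map_sub, map_one, map_sum]
      simp only [map_mul, Algebra.smul_def]
      ring
    rw [h3]
    refine neg_mem (Ideal.sum_mem _ fun j _ => ?_)
    rw [Algebra.smul_def]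
    exact Ideal.mul_mem_left _ _ (hc j)
  · rw [Finset.sum_mul]
    refine Finset.sum_eq_zero fun j _ => ?_
    have := h2 j
    simp only [Finset.univ_unique, Finset.sum_singleton] at this
    have h0 : (default : Fin 1) = 0 := rfl
    rw [h0] at this
    calc a 0 j * c j * s = (s * a 0 j) * c j := by ring
      _ = 0 := by rw [this, zero_mul]

/-- Part (c): an element of an étale neighbourhood dying in the henselization already dies in a
further étale neighbourhood (a localisation at an element `≡ 1`). -/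
theorem exists_mul_eq_zero_of_algHom_eq_zero (hB : Hens2.IsPairHenselization A I B)
    {A' : Type u} [CommRing A'] [Algebra A A'] (hA' : IsNbhd I A') (φ : A' →ₐ[A] B) (s : A')
    (hs : φ s = 0) : ∃ t : A', t - 1 ∈ I.map (algebraMap A A') ∧ t * s = 0 := by
  have := hA'.etale
  apply exists_mul_eq_zero_of_algebraMap_Hzn2_eq_zero
  set J := I.map (algebraMap A A') with hJ
  let _ : Algebra A (Hzn2 A' J) := ((algebraMap A' (Hzn2 A' J)).comp (algebraMap A A')).toAlgebra
  have : IsScalarTower A A' (Hzn2 A' J) := IsScalarTower.of_algebraMap_eq (fun _ => rfl)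
  have hH : Hens2.IsPairHenselization A I (Hzn2 A' J) :=
    isPairHenselization_of_etale_nbhd I hA'.qbij (Hzn2 A' J) (isPairHenselization A' J)
  let e : Hzn2 A' J ≃ₐ[A] B := (equivHzn2 hH).trans (equivHzn2 hB).symm
  have hφ : φ = (e : Hzn2 A' J →ₐ[A] B).comp (IsScalarTower.toAlgHom A A' (Hzn2 A' J)) :=
    algHom_ext hB hA' _ _
  have h1 : e (algebraMap A' (Hzn2 A' J) s) = 0 := by
    have := AlgHom.congr_fun hφ s
    rw [hs] at this
    exact this.symm
  exact (map_eq_zero_iff e e.injective).1 h1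


variable (I B) in
/-- The subalgebra of the elements of `B` coming from étale neighbourhoods of `(A, I)`. -/
def fromNbhd : Subalgebra A B where
  carrier := {x | ∃ (A' : Type u) (_ : CommRing A') (_ : Algebra A A') (_ : IsNbhd I A')
    (φ : A' →ₐ[A] B), x ∈ φ.range}
  mul_mem' := by
    rintro x y ⟨A₁, _, _, h₁, φ₁, s₁, rfl⟩ ⟨A₂, _, _, h₂, φ₂, s₂, rfl⟩
    refine ⟨A₁ ⊗[A] A₂, inferInstance, inferInstance, h₁.tensor h₂,
      Algebra.TensorProduct.productMap φ₁ φ₂, s₁ ⊗ₜ s₂, ?_⟩
    simp
  add_mem' := by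
    rintro x y ⟨A₁, _, _, h₁, φ₁, s₁, rfl⟩ ⟨A₂, _, _, h₂, φ₂, s₂, rfl⟩
    refine ⟨A₁ ⊗[A] A₂, inferInstance, inferInstance, h₁.tensor h₂,
      Algebra.TensorProduct.productMap φ₁ φ₂, s₁ ⊗ₜ 1 + 1 ⊗ₜ s₂, ?_⟩
    simp
  algebraMap_mem' := fun a =>
    ⟨A, inferInstance, inferInstance, IsNbhd.self, Algebra.ofId A B, a, rfl⟩

/-- The map from an étale neighbourhood to `fromNbhd`. -/
def toFromNbhd {A' : Type u} [CommRing A'] [Algebra A A'] (hA' : IsNbhd I A') (φ : A' →ₐ[A] B) :
    A' →ₐ[A] fromNbhd I B :=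
  φ.codRestrict (fromNbhd I B) fun a => ⟨A', inferInstance, inferInstance, hA', φ, a, rfl⟩

theorem exists_algHom_fromNbhd (x : fromNbhd I B) :
    ∃ (A' : Type u) (_ : CommRing A') (_ : Algebra A A') (_ : IsNbhd I A')
      (ψ : A' →ₐ[A] fromNbhd I B), x ∈ ψ.range := by
  obtain ⟨x, A', _, _, hA', φ, s, rfl⟩ := x
  exact ⟨A', inferInstance, inferInstance, hA', toFromNbhd hA' φ, s, rfl⟩

theorem exists_algHom_fromNbhd_finset (S : Finset (fromNbhd I B)) :
    ∃ (A' : Type u) (_ : CommRing A') (_ : Algebra A A') (_ : IsNbhd I A')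
      (ψ : A' →ₐ[A] fromNbhd I B), ∀ x ∈ S, x ∈ ψ.range := by
  classical
  induction S using Finset.induction_on with
  | empty =>
    exact ⟨A, inferInstance, inferInstance, IsNbhd.self, Algebra.ofId A _, by simp⟩
  | insert x S _ ih =>
    obtain ⟨A₁, _, _, h₁, ψ₁, hS⟩ := ih
    obtain ⟨A₂, _, _, h₂, ψ₂, s₂, hs₂⟩ := exists_algHom_fromNbhd x
    refine ⟨A₁ ⊗[A] A₂, inferInstance, inferInstance, h₁.tensor h₂,
      Algebra.TensorProduct.productMap ψ₁ ψ₂, ?_⟩
    intro y hy
    rcases Finset.mem_insert.1 hy with rfl | hy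
    · refine ⟨1 ⊗ₜ s₂, ?_⟩
      change Algebra.TensorProduct.productMap ψ₁ ψ₂ (1 ⊗ₜ s₂) = _
      rw [Algebra.TensorProduct.productMap_apply_tmul, map_one, one_mul]
      exact hs₂
    · obtain ⟨s₁, hs₁⟩ := hS y hy
      refine ⟨s₁ ⊗ₜ 1, ?_⟩
      change Algebra.TensorProduct.productMap ψ₁ ψ₂ (s₁ ⊗ₜ 1) = _
      rw [Algebra.TensorProduct.productMap_apply_tmul, map_one, mul_one]
      exact hs₁

theorem algHom_fromNbhd_ext (hB : Hens2.IsPairHenselization A I B) {A' : Type u} [CommRing A']
    [Algebra A A'] (hA' : IsNbhd I A') (ψ ψ' : A' →ₐ[A] fromNbhd I B) : ψ = ψ' := by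
  have := algHom_ext hB hA' ((fromNbhd I B).val.comp ψ) ((fromNbhd I B).val.comp ψ')
  ext a
  exact AlgHom.congr_fun this a

theorem map_map_val : (I.map (algebraMap A (fromNbhd I B))).map (fromNbhd I B).val =
    I.map (algebraMap A B) := by
  have : (((fromNbhd I B).val : fromNbhd I B →+* B).comp (algebraMap A (fromNbhd I B))) =
      algebraMap A B := (fromNbhd I B).val.comp_algebraMap
  rw [← this, ← Ideal.map_map]
  rfl

theorem mem_of_algHom_fromNbhd_mem (hB : Hens2.IsPairHenselization A I B) {A' : Type u}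
    [CommRing A'] [Algebra A A'] (hA' : QBij I A') (ψ : A' →ₐ[A] fromNbhd I B) {w : A'}
    (hw : ψ w ∈ I.map (algebraMap A (fromNbhd I B))) : w ∈ I.map (algebraMap A A') := by
  apply mem_of_algHom_mem hB hA' ((fromNbhd I B).val.comp ψ)
  rw [← map_map_val]
  exact Ideal.mem_map_of_mem _ hw

theorem isUnit_mk_of_algHom_fromNbhd (hB : Hens2.IsPairHenselization A I B) {A' : Type u}
    [CommRing A'] [Algebra A A'] (hA' : QBij I A') (ψ : A' →ₐ[A] fromNbhd I B) {w : A'}
    (hw : IsUnit (Ideal.Quotient.mk (I.map (algebraMap A (fromNbhd I B))) (ψ w))) :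
    IsUnit (Ideal.Quotient.mk (I.map (algebraMap A A')) w) := by
  apply isUnit_mk_of_algHom hB hA' ((fromNbhd I B).val.comp ψ)
  obtain ⟨v', hv'⟩ := isUnit_iff_exists_inv.1 hw
  obtain ⟨v, rfl⟩ := Ideal.Quotient.mk_surjective v'
  refine IsUnit.of_mul_eq_one (Ideal.Quotient.mk _ ((fromNbhd I B).val v)) ?_
  rw [← map_mul, ← sub_eq_zero, ← map_one (Ideal.Quotient.mk (I.map (algebraMap A B))),
    ← map_sub, Ideal.Quotient.eq_zero_iff_mem, ← map_map_val]
  have h1 : ψ w * v - 1 ∈ I.map (algebraMap A (fromNbhd I B)) := by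
    rw [← Ideal.Quotient.eq_zero_iff_mem, map_sub, map_mul, hv', map_one, sub_self]
  have := Ideal.mem_map_of_mem (fromNbhd I B).val h1
  simpa using this


/-- A further neighbourhood `A''` of a neighbourhood `A'`, as a neighbourhood of `(A, I)`,
together with the compatibility of the maps to `fromNbhd`. -/
theorem exists_algHom_fromNbhd_of_nbhd (hB : Hens2.IsPairHenselization A I B) {A' : Type u}
    [CommRing A'] [Algebra A A'] (hA' : IsNbhd I A') (ψ : A' →ₐ[A] fromNbhd I B)
    (A'' : Type u) [CommRing A''] [Algebra A' A'']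
    (hA'' : IsNbhd (I.map (algebraMap A A')) A'') :
    ∃ ψ'' : A'' →+* fromNbhd I B, ψ''.comp (algebraMap A' A'') = (ψ : A' →+* fromNbhd I B) ∧
      (I.map (algebraMap A A')).map ((algebraMap A' A'')) ≤
        (I.map (algebraMap A (fromNbhd I B))).comap ψ'' := by
  let _ : Algebra A A'' := ((algebraMap A' A'').comp (algebraMap A A')).toAlgebra
  have : IsScalarTower A A' A'' := IsScalarTower.of_algebraMap_eq (fun _ => rfl)
  have hn : IsNbhd I A'' := hA'.trans hA''
  obtain ⟨φ'', -, -⟩ := existsUnique_algHom hB hn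
  let ψ'' : A'' →ₐ[A] fromNbhd I B := toFromNbhd hn φ''
  have hcomp : ψ''.comp (IsScalarTower.toAlgHom A A' A'') = ψ := algHom_fromNbhd_ext hB hA' _ _
  refine ⟨ψ'', ?_, ?_⟩
  · ext a
    exact congrArg Subtype.val (AlgHom.congr_fun hcomp a)
  · rw [Ideal.map_map, ← IsScalarTower.algebraMap_eq, Ideal.map_le_iff_le_comap]
    intro a ha
    rw [Ideal.mem_comap, Ideal.mem_comap]
    change ψ'' (algebraMap A A'' a) ∈ _
    rw [ψ''.commutes]
    exact Ideal.mem_map_of_mem _ ha

/-- The subalgebra of elements coming from étale neighbourhoods is henselian along `I`. -/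
theorem henselianRing_fromNbhd (hB : Hens2.IsPairHenselization A I B) :
    HenselianRing (fromNbhd I B) (I.map (algebraMap A (fromNbhd I B))) := by
  set L := fromNbhd I B with hL
  set IL := I.map (algebraMap A L) with hIL
  refine { jac := ?_, is_henselian := ?_ }
  · intro x hx
    rw [Ideal.mem_jacobson_bot]
    intro y
    have hz : x * y ∈ IL := Ideal.mul_mem_right _ _ hx
    obtain ⟨A', _, _, hA', ψ, w, hw⟩ := exists_algHom_fromNbhd (x * y)
    have hw' : ψ w = x * y := hw
    have hwI : w ∈ I.map (algebraMap A A') :=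
      mem_of_algHom_fromNbhd_mem hB hA'.qbij ψ (by rw [hw']; exact hz)
    have ht : (w + 1) - 1 ∈ I.map (algebraMap A A') := by simpa using hwI
    obtain ⟨ψ'', hψ'', -⟩ := exists_algHom_fromNbhd_of_nbhd hB hA' ψ
      (Localization.Away (w + 1)) (IsNbhd.away_self _ (w + 1) ht)
    have h1 : ψ'' (algebraMap A' (Localization.Away (w + 1)) (w + 1)) = x * y + 1 := by
      have := congrArg (fun k : A' →+* L => k (w + 1)) hψ''
      simp only [RingHom.comp_apply] at this
      rw [this]
      change ψ (w + 1) = _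
      rw [map_add, map_one, hw']
    rw [← h1]
    exact (IsLocalization.Away.algebraMap_isUnit (w + 1)).map ψ''
  · intro f hf a₀ h₁ h₂
    rcases subsingleton_or_nontrivial L with hsub | hnt
    · exact ⟨a₀, Subsingleton.elim _ _, by rw [sub_self]; exact Ideal.zero_mem _⟩
    classical
    obtain ⟨A', _, _, hA', ψ, hS⟩ := exists_algHom_fromNbhd_finset (insert a₀ f.coeffs)
    have hlifts : f ∈ Polynomial.lifts (ψ : A' →+* L) := by
      rw [Polynomial.lifts_iff_coeffs_subset_range]
      intro c hc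
      obtain ⟨s, hs⟩ := hS c (Finset.mem_insert_of_mem hc)
      exact ⟨s, hs⟩
    obtain ⟨F, hFf, -, hFmonic⟩ := Polynomial.lifts_and_degree_eq_and_monic hlifts hf
    obtain ⟨α₀, hα₀⟩ := hS a₀ (Finset.mem_insert_self _ _)
    have hα₀' : ψ α₀ = a₀ := hα₀
    have hev : ∀ G : A'[X], ψ (G.eval α₀) = (G.map (ψ : A' →+* L)).eval a₀ := by
      intro G
      rw [← hα₀', Polynomial.eval_map]
      exact (Polynomial.eval₂_hom (ψ : A' →+* L) α₀).symm
    have hFI : F.eval α₀ ∈ I.map (algebraMap A A') := by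
      apply mem_of_algHom_fromNbhd_mem hB hA'.qbij ψ
      rw [hev, hFf]
      exact h₁
    have hFU : IsUnit (Ideal.Quotient.mk (I.map (algebraMap A A')) (F.derivative.eval α₀)) := by
      apply isUnit_mk_of_algHom_fromNbhd hB hA'.qbij ψ
      rw [hev, ← Polynomial.derivative_map, hFf]
      exact h₂
    -- the standard étale algebra
    set J := I.map (algebraMap A A') with hJ
    let P : StandardEtalePair A' := ⟨F, hFmonic, F.derivative, ⟨1, 0, 1, by simp⟩⟩
    have hmap : P.HasMap (Ideal.Quotient.mk J α₀) := by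
      constructor
      · change Polynomial.aeval (Ideal.Quotient.mk J α₀) F = 0
        rw [← Ideal.Quotient.algebraMap_eq, Polynomial.aeval_algebraMap_apply_eq_algebraMap_eval,
          Ideal.Quotient.algebraMap_eq]
        exact Ideal.Quotient.eq_zero_iff_mem.2 hFI
      · change IsUnit (Polynomial.aeval (Ideal.Quotient.mk J α₀) F.derivative)
        rw [← Ideal.Quotient.algebraMap_eq, Polynomial.aeval_algebraMap_apply_eq_algebraMap_eval,
          Ideal.Quotient.algebraMap_eq]
        exact hFU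
    let σ : P.Ring →ₐ[A'] A' ⧸ J := P.lift _ hmap
    obtain ⟨A'', _, _, hEt, hbij, τ, hτ⟩ :=
      Groth.Agent.Lib.EtaleLift.exists_etale_lift_of_etale (A := A') (B := P.Ring) J σ
    have hA'' : IsNbhd J A'' := ⟨hEt, hbij⟩
    obtain ⟨ψ'', hψ'', hψ''I⟩ := exists_algHom_fromNbhd_of_nbhd hB hA' ψ A'' hA''
    set a : A'' := τ P.X with ha
    have haroot : Polynomial.aeval a F = 0 := (StandardEtalePair.hasMap_X.map τ).1
    have hacong : a - algebraMap A' A'' α₀ ∈ J.map (algebraMap A' A'') := by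
      have h3 := hτ P.X
      rw [StandardEtalePair.lift_X] at h3
      rw [← Ideal.Quotient.eq_zero_iff_mem, map_sub, h3]
      rw [Ideal.Quotient.algebraMap_quotient_map_quotient, sub_self]
    refine ⟨ψ'' a, ?_, ?_⟩
    · rw [Polynomial.IsRoot, ← hFf, Polynomial.eval_map, ← hψ'', ← Polynomial.hom_eval₂,
        ← Polynomial.aeval_def, haroot, map_zero]
    · have h4 : ψ'' (algebraMap A' A'' α₀) = a₀ := by
        have := congrArg (fun k : A' →+* L => k α₀) hψ''
        simp only [RingHom.comp_apply] at this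
        rw [this]
        exact hα₀'
      rw [← h4, ← map_sub]
      exact hψ''I hacong

/-- Part (b): every element of a henselization of `(A, I)` comes from an étale neighbourhood. -/
theorem fromNbhd_eq_top (hB : Hens2.IsPairHenselization A I B) : fromNbhd I B = ⊤ := by
  have hL := henselianRing_fromNbhd hB
  obtain ⟨g, hg, -⟩ := hB.2 (fromNbhd I B) _ (algebraMap A (fromNbhd I B)) hL le_rfl
  obtain ⟨e, -, he⟩ := hB.2 B _ (algebraMap A B) hB.1 le_rfl
  have h1 : ((fromNbhd I B).val : fromNbhd I B →+* B).comp g = RingHom.id B := by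
    rw [he (((fromNbhd I B).val : fromNbhd I B →+* B).comp g)
      (by
        show (((fromNbhd I B).val : fromNbhd I B →+* B).comp g).comp (algebraMap A B) = _
        rw [RingHom.comp_assoc, hg]; exact (fromNbhd I B).val.comp_algebraMap),
      he (RingHom.id B) rfl]
  rw [eq_top_iff]
  intro x _
  have := congrArg (fun k : B →+* B => k x) h1
  simp only [RingHom.comp_apply, RingHom.id_apply] at this
  rw [← this]
  exact (g x).2

theorem exists_nbhd_of_mem (hB : Hens2.IsPairHenselization A I B) (x : B) :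
    ∃ (A' : Type u) (_ : CommRing A') (_ : Algebra A A') (_ : IsNbhd I A')
      (φ : A' →ₐ[A] B) (s : A'), φ s = x := by
  have : x ∈ fromNbhd I B := by rw [fromNbhd_eq_top hB]; exact Algebra.mem_top
  obtain ⟨A', _, _, hA', φ, s, hs⟩ := this
  exact ⟨A', inferInstance, inferInstance, hA', φ, s, hs⟩

end Colimit

end Groth.Agent.Lib.PairEtaleNbhd
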