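import Groth.Agent.Lib.HFP
import Groth.Agent.Lib.PairEtaleNbhd
import Groth.Agent.Lib.PairHenselizationEtale
import Groth.Agent.Lib.H80PointwiseSmooth
import Groth.Agent.Lib.EtaleDescend45

/-!
# h-smooth maps of henselian pairs (helper22)

For a henselization `B` of `(R₀, I R₀)`, `R₀` finitely presented over `A`, with `B` flat over `A`
and `R₀/I R₀` smooth over `A/I`: a principal localization `(R₀)_g`, `g ≡ 1 mod I R₀`, is smooth
over `A`, and `B` is the henselization of `((R₀)_g, I (R₀)_g)`.
-/

set_option autoImplicit false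
universe u

namespace Groth.Agent.Lib.HSmooth22

open Groth.Agent.Lib.PairEtaleNbhd Groth.Agent.Lib.PairHenselization

section primes

variable {R₀ : Type u} [CommRing R₀] {J : Ideal R₀} {B : Type u} [CommRing B] [Algebra R₀ B]

/-- Primes containing `J` lift to the henselization of `(R₀, J)`. -/
theorem exists_prime_liesOver (hB : Hens2.IsPairHenselization R₀ J B) (q : Ideal R₀) [q.IsPrime]
    (hq : J ≤ q) : ∃ Q : Ideal B, Q.IsPrime ∧ Q.LiesOver q := by
  have hqb : QBij J B := qbij_of_isPairHenselization hB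
  let retr : B →ₐ[R₀] R₀ ⧸ J := hqb.retr
  have hprime : (q.map (Ideal.Quotient.mk J)).IsPrime :=
    Ideal.map_isPrime_of_surjective Ideal.Quotient.mk_surjective (by rwa [Ideal.mk_ker])
  refine ⟨(q.map (Ideal.Quotient.mk J)).comap retr, inferInstance, ⟨?_⟩⟩
  ext r
  rw [Ideal.mem_comap, Ideal.mem_comap, retr.commutes]
  exact (Ideal.mem_quotient_iff_mem hq).symm

end primes

section flat

variable {A R₀ B : Type u} [CommRing A] [CommRing R₀] [CommRing B] [Algebra A R₀] [Algebra R₀ B]
  [Algebra A B] [IsScalarTower A R₀ B]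

theorem flat_localization_of_liesOver [Module.Flat A B] [Module.Flat R₀ B]
    (q : Ideal R₀) [q.IsPrime] (Q : Ideal B) [Q.IsPrime] [Q.LiesOver q] :
    Module.Flat A (Localization.AtPrime q) := by
  letI := Localization.AtPrime.algebraOfLiesOver q Q
  haveI : IsLocalHom (algebraMap (Localization.AtPrime q) (Localization.AtPrime Q)) :=
    Localization.isLocalHom_localRingHom q Q (algebraMap R₀ B) Ideal.LiesOver.over
  haveI : Module.FaithfullyFlat (Localization.AtPrime q) (Localization.AtPrime Q) :=
    Module.FaithfullyFlat.of_flat_of_isLocalHom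
  haveI : Module.Flat A (Localization.AtPrime Q) := Module.Flat.trans A B _
  exact Groth.Agent.Lib.EtaleDescend45.flat_of_flat_of_faithfullyFlat A (Localization.AtPrime q)
    (Localization.AtPrime Q)

end flat

section locus

variable {A R₀ : Type u} [CommRing A] [CommRing R₀] [Algebra A R₀]

open PrimeSpectrum in
/-- A finitely presented algebra smooth at all primes of `V(K)` is smooth on some `D(g)`,
`g ≡ 1 mod K`. -/
theorem exists_away_smooth [Algebra.FinitePresentation A R₀] (K : Ideal R₀)
    (h : ∀ (q : Ideal R₀) [q.IsPrime], K ≤ q → Algebra.IsSmoothAt A q) :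
    ∃ g : R₀, g - 1 ∈ K ∧ Algebra.Smooth A (Localization.Away g) := by
  have hopen : IsOpen (Algebra.smoothLocus A R₀) := Algebra.isOpen_smoothLocus
  set Z : Set (PrimeSpectrum R₀) := (Algebra.smoothLocus A R₀)ᶜ with hZ
  have hZc : IsClosed Z := hopen.isClosed_compl
  have hZeq : zeroLocus (vanishingIdeal Z : Set R₀) = Z := by
    rw [zeroLocus_vanishingIdeal_eq_closure, hZc.closure_eq]
  have htop : vanishingIdeal Z ⊔ K = ⊤ := by
    by_contra hne
    obtain ⟨m, hm, hle⟩ := Ideal.exists_le_maximal _ hne
    have hmZ : (⟨m, hm.isPrime⟩ : PrimeSpectrum R₀) ∈ Z := by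
      rw [← hZeq, mem_zeroLocus]
      exact fun x hx => hle (Ideal.mem_sup_left hx)
    exact hmZ (h m (le_trans le_sup_right hle))
  obtain ⟨c, hc, k, hk, hck⟩ := Submodule.mem_sup.mp ((Ideal.eq_top_iff_one _).mp htop)
  refine ⟨c, ?_, ?_⟩
  · have : c - 1 = -k := by rw [← hck]; ring
    rw [this]
    exact K.neg_mem hk
  · rw [← Algebra.basicOpen_subset_smoothLocus_iff_smooth]
    intro p hp
    by_contra hpn
    have hpZ : p ∈ Z := hpn
    rw [← hZeq, mem_zeroLocus] at hpZ
    exact hp (hpZ hc)

end locus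

section main

variable (A : Type u) [CommRing A] (I : Ideal A) (R₀ : Type u) [CommRing R₀] [Algebra A R₀]
  (B : Type u) [CommRing B] [Algebra R₀ B] [Algebra A B] [IsScalarTower A R₀ B]

theorem exists_smooth_isPairHenselization [Algebra.FinitePresentation A R₀]
    (hB : Hens2.IsPairHenselization R₀ (I.map (algebraMap A R₀)) B) [Module.Flat A B]
    (J : Ideal A) (hJI : J ≤ I)
    [Algebra.FormallySmooth (A ⧸ J) (TensorProduct A (A ⧸ J) R₀)] :
    ∃ g : R₀, g - 1 ∈ I.map (algebraMap A R₀) ∧ Algebra.Smooth A (Localization.Away g) ∧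
      ∃ (_ : Algebra (Localization.Away g) B) (_ : IsScalarTower R₀ (Localization.Away g) B),
        Hens2.IsPairHenselization (Localization.Away g)
          ((I.map (algebraMap A R₀)).map (algebraMap R₀ (Localization.Away g))) B := by
  haveI : Module.Flat R₀ B := flat_of_isPairHenselization hB
  have hsm : ∀ (q : Ideal R₀) [q.IsPrime], I.map (algebraMap A R₀) ≤ q →
      Algebra.IsSmoothAt A q := by
    intro q _ hq
    obtain ⟨Q, hQ, hQq⟩ := exists_prime_liesOver hB q hq
    haveI : Module.Flat A (Localization.AtPrime q) := flat_localization_of_liesOver q Q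
    have hJp : J ≤ q.under A := by
      intro a ha
      rw [Ideal.under_def, Ideal.mem_comap]
      exact hq (Ideal.mem_map_of_mem _ (hJI ha))
    haveI : Algebra.FormallySmooth (q.under A).ResidueField ((q.under A).Fiber R₀) :=
      Groth.Agent.Lib.H80PointwiseSmooth.formallySmooth_fiber_of_quotient J (q.under A) hJp
    exact Groth.Agent.Lib.H80PointwiseSmooth.isSmoothAt_of_flat_localization (q.under A) q
  obtain ⟨g, hg1, hgsm⟩ := exists_away_smooth (I.map (algebraMap A R₀)) hsm
  refine ⟨g, hg1, hgsm, ?_⟩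
  have hgu : IsUnit (algebraMap R₀ B g) := by
    refine Ideal.isUnit_of_sub_one_mem_jacobson_bot _ (hB.1.jac ?_)
    rw [← map_one (algebraMap R₀ B), ← map_sub]
    exact Ideal.mem_map_of_mem _ hg1
  letI : Algebra (Localization.Away g) B := (IsLocalization.Away.lift g hgu).toAlgebra
  haveI : IsScalarTower R₀ (Localization.Away g) B :=
    IsScalarTower.of_algebraMap_eq fun r => (IsLocalization.Away.lift_eq g hgu r).symm
  exact ⟨inferInstance, inferInstance,
    Groth.Agent.Lib.HFP.isPairHenselization_of_nbhd (IsNbhd.away_self _ g hg1) hB⟩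

end main

end Groth.Agent.Lib.HSmooth22
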