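import Groth.Agent.Lib.HenselIdem

/-!
# Lifting idempotent matrices over a henselian pair (helper22)

`exists_idempotent_matrix_lift`: for a henselian pair `(A, I)` every idempotent matrix over `A/I`
is the reduction of an idempotent matrix over `A`.

Proof: pick any lift `p`; `m = p² - p` has entries in `I`, so `F = χ_m(X² - X)` is a monic
polynomial killing `p` with `F ≡ (X² - X)^n mod I`.  In the commutative finite `A`-algebra
`C = A[X]/(F)` idempotents lift from `C/IC` (`HenselIdem`), and `X` is idempotent modulo a nil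
ideal of `C/IC`.
-/

set_option autoImplicit false
universe u

namespace Groth.Agent.Lib.IdemMatrixLift22

open Polynomial Matrix

variable {A : Type u} [CommRing A]

/-- a polynomial with coefficients in `I` maps into `I (A[X]/F)` -/
theorem mk_mem_map_of_coeff_mem (I : Ideal A) (F q : A[X]) (hq : ∀ i, q.coeff i ∈ I) :
    AdjoinRoot.mk F q ∈ I.map (algebraMap A (AdjoinRoot F)) := by
  have h1 : q ∈ I.map (C : A →+* A[X]) := (Ideal.mem_map_C_iff).mpr hq
  have h2 := Ideal.mem_map_of_mem (AdjoinRoot.mk F) h1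
  rw [Ideal.map_map] at h2
  exact h2

theorem exists_idempotent_matrix_lift (I : Ideal A) [HenselianRing A I] {n : ℕ}
    (π : Matrix (Fin n) (Fin n) (A ⧸ I)) (hπ : π * π = π) :
    ∃ π₀ : Matrix (Fin n) (Fin n) A, π₀ * π₀ = π₀ ∧ π₀.map (Ideal.Quotient.mk I) = π := by
  classical
  rcases subsingleton_or_nontrivial A with hA | hA
  · haveI : Subsingleton (A ⧸ I) := (Ideal.Quotient.mk_surjective (I := I)).subsingleton
    exact ⟨0, Subsingleton.elim _ _, Subsingleton.elim _ _⟩
  -- the reduction ring hom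
  let ρ : Matrix (Fin n) (Fin n) A →+* Matrix (Fin n) (Fin n) (A ⧸ I) :=
    (Ideal.Quotient.mk I).mapMatrix
  have hρ : ∀ M : Matrix (Fin n) (Fin n) A, ρ M = M.map (Ideal.Quotient.mk I) := fun M => rfl
  -- a lift
  obtain ⟨p, hp⟩ : ∃ p : Matrix (Fin n) (Fin n) A, ρ p = π := by
    refine ⟨Matrix.of fun i j => (Ideal.Quotient.mk_surjective (π i j)).choose, ?_⟩
    ext i j
    exact (Ideal.Quotient.mk_surjective (π i j)).choose_spec
  set m : Matrix (Fin n) (Fin n) A := p * p - p with hm
  have hρm : m.map (Ideal.Quotient.mk I) = 0 := by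
    rw [← hρ, hm, map_sub, map_mul, hp, hπ, sub_self]
  set q : A[X] := X ^ 2 - X with hq
  have hqm : q.Monic := monic_X_pow_sub (by
    refine lt_of_le_of_lt degree_X_le ?_
    norm_num)
  have hqdeg : q.natDegree ≠ 0 := by
    have : q.natDegree = 2 := by
      rw [hq, natDegree_sub_eq_left_of_natDegree_lt] <;> simp
    omega
  set F : A[X] := m.charpoly.comp q with hF
  have hFm : F.Monic := (Matrix.charpoly_monic m).comp hqm hqdeg
  -- F kills p
  have hFp : aeval p F = 0 := by
    rw [hF, aeval_comp]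
    have : aeval p q = m := by
      rw [hq, hm]
      simp [pow_two]
    rw [this, Matrix.aeval_self_charpoly]
  -- F ≡ q^n mod I
  have hFI : ∀ i, (q ^ n - F).coeff i ∈ I := by
    intro i
    rw [← Ideal.Quotient.eq_zero_iff_mem, ← coeff_map]
    have : (q ^ n - F).map (Ideal.Quotient.mk I) = 0 := by
      rw [Polynomial.map_sub, hF, map_comp, ← Matrix.charpoly_map, hρm, Matrix.charpoly_zero,
        Polynomial.map_pow, Fintype.card_fin, X_pow_comp, sub_self]
    rw [this, coeff_zero]
  -- the commutative algebra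
  let Cc := AdjoinRoot F
  let b : Cc := AdjoinRoot.root F
  haveI : Module.Finite A Cc := hFm.finite_adjoinRoot
  haveI : Algebra.IsIntegral A Cc := Algebra.IsIntegral.of_finite A Cc
  let IC : Ideal Cc := I.map (algebraMap A Cc)
  have hbn : (b * b - b) ^ n ∈ IC := by
    have h1 : (b * b - b) ^ n = AdjoinRoot.mk F (q ^ n - F) := by
      rw [map_sub, AdjoinRoot.mk_self, sub_zero, map_pow, hq, map_sub, map_pow, AdjoinRoot.mk_X,
        pow_two]
    rw [h1]
    exact mk_mem_map_of_coeff_mem I F _ hFI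
  -- the map to matrices
  let ψ : Cc →+* Matrix (Fin n) (Fin n) A :=
    Ideal.Quotient.lift (Ideal.span {F}) ((aeval p : A[X] →ₐ[A] _) : A[X] →+* _) (by
      intro g hg
      obtain ⟨y, rfl⟩ := Ideal.mem_span_singleton.mp hg
      change aeval p (F * y) = 0
      rw [map_mul, hFp, zero_mul])
  have hψb : ψ b = p := by
    change ψ (AdjoinRoot.mk F X) = p
    change (aeval p : A[X] →ₐ[A] _) X = p
    simp
  have hψalg : ∀ a : A, ψ (algebraMap A Cc a) = algebraMap A _ a := by
    intro a
    change ψ (AdjoinRoot.mk F (C a)) = _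
    change (aeval p : A[X] →ₐ[A] _) (C a) = _
    simp
  let Θ : Cc →+* Matrix (Fin n) (Fin n) (A ⧸ I) := ρ.comp ψ
  have hΘb : Θ b = π := by
    change ρ (ψ b) = π
    rw [hψb, hp]
  have hΘI : ∀ x ∈ IC, Θ x = 0 := by
    have : IC ≤ RingHom.ker Θ := by
      rw [Ideal.map_le_iff_le_comap]
      intro a ha
      rw [Ideal.mem_comap, RingHom.mem_ker]
      change ρ (ψ (algebraMap A Cc a)) = 0
      rw [hψalg, hρ]
      ext i j
      simp only [Matrix.map_apply, Matrix.algebraMap_matrix_apply, Matrix.zero_apply]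
      split_ifs
      · simpa [Ideal.Quotient.eq_zero_iff_mem] using ha
      · simp
    intro x hx
    exact this hx
  -- idempotent in C / IC close to b
  let Cbar := Cc ⧸ IC
  let bb : Cbar := Ideal.Quotient.mk IC b
  have hbbn : (bb * bb - bb) ^ n = 0 := by
    change (Ideal.Quotient.mk IC b * Ideal.Quotient.mk IC b - Ideal.Quotient.mk IC b) ^ n = 0
    rw [← map_mul, ← map_sub, ← map_pow, Ideal.Quotient.eq_zero_iff_mem]
    exact hbn
  let K : Ideal Cbar := Ideal.span {bb * bb - bb}
  let f : Cbar →+* Cbar ⧸ K := Ideal.Quotient.mk K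
  have hker : ∀ x ∈ RingHom.ker f, IsNilpotent x := by
    intro x hx
    rw [Ideal.mk_ker] at hx
    obtain ⟨y, rfl⟩ := Ideal.mem_span_singleton'.mp hx
    exact ⟨n, by rw [mul_pow, hbbn, mul_zero]⟩
  have hidem : IsIdempotentElem (f bb) := by
    change f bb * f bb = f bb
    rw [← map_mul, ← sub_eq_zero, ← map_sub]
    exact Ideal.Quotient.eq_zero_iff_mem.mpr (Ideal.subset_span rfl)
  obtain ⟨e', he', hfe'⟩ := exists_isIdempotentElem_eq_of_ker_isNilpotent f hker (f bb)
    ⟨bb, rfl⟩ hidem
  obtain ⟨b', rfl⟩ := Ideal.Quotient.mk_surjective e'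
  have hb' : b' * b' - b' ∈ I.map (algebraMap A Cc) := by
    rw [← Ideal.Quotient.eq, map_mul]
    exact he'
  obtain ⟨e, he, heb'⟩ :=
    Groth.Agent.Lib.HenselIdem.exists_idempotent_lift_of_isIntegral (A := A) (B := Cc) I b' hb'
  refine ⟨ψ e, ?_, ?_⟩
  · rw [← map_mul, he.eq]
  · rw [← hρ]
    change Θ e = π
    -- Θ e = Θ b' = Θ̄ (mk b') and mk b' ≡ bb mod K
    have h1 : Θ e = Θ b' := by
      rw [← sub_eq_zero, ← map_sub]
      exact hΘI _ heb'
    rw [h1]
    have h2 : Ideal.Quotient.mk IC b' - bb ∈ K := by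
      rw [← Ideal.Quotient.eq]
      exact hfe'
    obtain ⟨y, hy⟩ := Ideal.mem_span_singleton'.mp h2
    obtain ⟨y', rfl⟩ := Ideal.Quotient.mk_surjective y
    have h3 : b' - b - y' * (b * b - b) ∈ IC := by
      rw [← Ideal.Quotient.eq_zero_iff_mem, map_sub, map_sub, map_mul, map_sub, map_mul]
      rw [← hy]
      ring
    have h4 := hΘI _ h3
    rw [map_sub, map_sub, map_mul, map_sub, map_mul, hΘb, hπ, sub_self, mul_zero, sub_zero,
      sub_eq_zero] at h4
    exact h4

end Groth.Agent.Lib.IdemMatrixLift22
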