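import Mathlib
import Groth.Agent.Lib.HFP
import Groth.Agent.Lib.IdemMatrixLift22

/-!
# Lifting smooth algebras (helper22), part d: idempotent matrices on étale neighbourhoods

`exists_nbhd_projector`: a matrix `c` over `P` that is idempotent modulo an ideal `L` is congruent
modulo `L P'` to a matrix `π` over an étale neighbourhood `P'` of `(P, L)`, idempotent up to
multiplication by an element `t ≡ 1 mod L P'`.
-/

set_option autoImplicit false
universe u

namespace Groth.Agent.Lib.SmoothAlgLift22

open Groth.Agent.Lib.PairEtaleNbhd Groth.Agent.Lib.PairHenselization Groth.Agent.Lib.HFP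

theorem exists_nbhd_projector {P : Type u} [CommRing P] (L : Ideal P) {n : ℕ}
    (c : Matrix (Fin n) (Fin n) P) (hc : ∀ j l, (c * c - c) j l ∈ L) :
    ∃ (P' : Type u) (_ : CommRing P') (_ : Algebra P P'), IsNbhd L P' ∧
      ∃ (π : Matrix (Fin n) (Fin n) P') (t : P'), t - 1 ∈ L.map (algebraMap P P') ∧
        t • (π * π - π) = 0 ∧ ∀ j l, π j l - algebraMap P P' (c j l) ∈ L.map (algebraMap P P') := by
  classical
  let H := Hzn2 P L
  have hH : Hens2.IsPairHenselization P L H := isPairHenselization P L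
  have hHens : HenselianRing H (L.map (algebraMap P H)) := hH.1
  let κ : H →+* H ⧸ L.map (algebraMap P H) := Ideal.Quotient.mk _
  -- the matrix over `H / LH`
  let πb : Matrix (Fin n) (Fin n) (H ⧸ L.map (algebraMap P H)) :=
    (κ.comp (algebraMap P H)).mapMatrix c
  have hπb : πb * πb = πb := by
    rw [← sub_eq_zero, ← map_mul, ← map_sub]
    ext j l
    simp only [RingHom.mapMatrix_apply, Matrix.map_apply, Matrix.zero_apply, RingHom.comp_apply]
    rw [Ideal.Quotient.eq_zero_iff_mem]
    exact Ideal.mem_map_of_mem _ (hc j l)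
  obtain ⟨πH, hπH, hπHb⟩ :=
    Groth.Agent.Lib.IdemMatrixLift22.exists_idempotent_matrix_lift (L.map (algebraMap P H)) πb hπb
  -- descend the entries to a neighbourhood
  obtain ⟨P', _, _, hP', φ, hφ⟩ := exists_nbhd_of_finset hH
    (Finset.univ.image fun jl : Fin n × Fin n => πH jl.1 jl.2)
  have hex : ∀ j l, ∃ x : P', φ x = πH j l := fun j l =>
    hφ _ (Finset.mem_image.2 ⟨(j, l), Finset.mem_univ _, rfl⟩)
  choose π hπ using hex
  let πM : Matrix (Fin n) (Fin n) P' := Matrix.of π
  have hφπ : (φ : P' →+* H).mapMatrix πM = πH := by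
    ext j l
    exact hπ j l
  -- the defect of idempotency dies in `H`
  have hzero : ∀ j l, φ ((πM * πM - πM) j l) = 0 := by
    intro j l
    have : (φ : P' →+* H).mapMatrix (πM * πM - πM) = 0 := by
      rw [map_sub, map_mul, hφπ, hπH, sub_self]
    exact congrFun (congrFun this j) l
  have hex2 : ∀ jl : Fin n × Fin n, ∃ t : P', t - 1 ∈ L.map (algebraMap P P') ∧
      t * (πM * πM - πM) jl.1 jl.2 = 0 := fun jl =>
    exists_mul_eq_zero_of_algHom_eq_zero hH hP' φ _ (hzero jl.1 jl.2)
  choose tt htt1 htt2 using hex2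
  refine ⟨P', inferInstance, inferInstance, hP', πM, ∏ jl, tt jl, ?_, ?_, ?_⟩
  · exact prod_sub_one_mem _ _ _ fun jl _ => htt1 jl
  · ext j l
    rw [Matrix.smul_apply, Matrix.zero_apply, smul_eq_mul,
      ← Finset.mul_prod_erase Finset.univ tt (Finset.mem_univ (j, l)), mul_right_comm,
      htt2 (j, l), zero_mul]
  · intro j l
    apply mem_of_algHom_mem hH hP'.qbij φ
    rw [map_sub, φ.commutes]
    have h1 : φ (πM j l) = πH j l := hπ j l
    rw [h1, ← Ideal.Quotient.eq_zero_iff_mem, map_sub, sub_eq_zero]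
    have := congrFun (congrFun hπHb j) l
    simp only [Matrix.map_apply] at this
    rw [this]
    rfl

end Groth.Agent.Lib.SmoothAlgLift22
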