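import Groth.Agent.Lib.SmoothLift22
import Groth.Agent.Lib.IdemMatrixLift22
import Groth.Agent.Lib.H15MvHensel

/-!
# Lifting points of smooth algebras over henselian pairs (helper22)

`exists_lift_of_smooth`: `(A, I)` henselian pair, `B` smooth `A`-algebra: every `A`-algebra map
`B → A/I` lifts to `B → A`.
-/

set_option autoImplicit false
universe u

namespace Groth.Agent.Lib.SmoothLift22

open MvPolynomial

section calculus

variable {A : Type u} [CommRing A] {σ τ : Type*}

theorem pderiv_mem_of_mem_sq (J : Ideal (MvPolynomial σ A)) {x : MvPolynomial σ A}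
    (hx : x ∈ J ^ 2) (k : σ) : pderiv k x ∈ J := by
  rw [pow_two] at hx
  refine Submodule.mul_induction_on hx ?_ ?_
  · intro y hy z hz
    rw [Derivation.leibniz]
    simp only [smul_eq_mul]
    exact J.add_mem (J.mul_mem_right _ hy) (J.mul_mem_right _ hz)
  · intro y z hy hz
    rw [map_add]
    exact J.add_mem hy hz

theorem pderiv_bind₁ [Fintype σ] (θ : σ → MvPolynomial τ A) (G : MvPolynomial σ A) (m : τ) :
    pderiv m (bind₁ θ G) = ∑ k, bind₁ θ (pderiv k G) * pderiv m (θ k) := by
  classical
  induction G using MvPolynomial.induction_on with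
  | C a => simp
  | add p q hp hq =>
    simp only [map_add, hp, hq, add_mul, Finset.sum_add_distrib]
  | mul_X p j hp =>
    simp only [map_mul, bind₁_X_right, Derivation.leibniz, smul_eq_mul, hp, pderiv_X, map_add,
      add_mul, Finset.sum_add_distrib]
    rw [Finset.mul_sum]
    congr 1
    · rw [Finset.sum_eq_single j]
      · simp
      · intro b _ hb
        simp [hb.symm]
      · simp
    · refine Finset.sum_congr rfl fun k _ => ?_
      ring

end calculus

section main

variable {A : Type u} [CommRing A] {B : Type u} [CommRing B] [Algebra A B]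

theorem eval_bind₁' {n m : ℕ} (u : Fin m → A) (θ : Fin n → MvPolynomial (Fin m) A)
    (G : MvPolynomial (Fin n) A) : eval u (bind₁ θ G) = eval (fun k => eval u (θ k)) G :=
  eval₂Hom_bind₁ (RingHom.id A) u θ G

theorem exists_lift_of_smooth (I : Ideal A) [HenselianRing A I] [Algebra.Smooth A B]
    (σ : B →ₐ[A] A ⧸ I) : ∃ τ : B →ₐ[A] A, (Ideal.Quotient.mkₐ A I).comp τ = σ := by
  classical
  obtain ⟨n, φ, hφ, hfg⟩ := (inferInstance : Algebra.FinitePresentation A B).out
  obtain ⟨g, hgJ, hstar⟩ := exists_conormal_sections φ hφ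
  have hJeq : RingHom.ker φ.toRingHom = RingHom.ker φ := rfl
  rw [hJeq] at hfg
  have hjac : I ≤ Ideal.jacobson ⊥ := HenselianRing.jac
  -- the approximate point
  choose a0 ha0 using fun j : Fin n => Ideal.Quotient.mk_surjective (σ (φ (X j)))
  have hev : ∀ x : MvPolynomial (Fin n) A, Ideal.Quotient.mk I (eval a0 x) = σ (φ x) := by
    intro x
    have : ((Ideal.Quotient.mk I).comp (eval a0)) =
        ((σ : B →+* A ⧸ I).comp (φ : MvPolynomial (Fin n) A →+* B)) := by
      apply MvPolynomial.ringHom_ext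
      · intro r
        simp only [RingHom.comp_apply, eval_C, RingHom.coe_coe]
        rw [← MvPolynomial.algebraMap_eq, φ.commutes, σ.commutes]
        rfl
      · intro j
        simp only [RingHom.comp_apply, eval_X, RingHom.coe_coe]
        exact ha0 j
    exact RingHom.congr_fun this x
  have hevJ : ∀ x ∈ RingHom.ker φ, Ideal.Quotient.mk I (eval a0 x) = 0 := by
    intro x hx
    rw [hev, (RingHom.mem_ker).mp hx, map_zero]
  -- the projector
  let π : Matrix (Fin n) (Fin n) (A ⧸ I) :=
    Matrix.of fun j k => Ideal.Quotient.mk I (eval a0 (pderiv k (g j)))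
  have hrow : ∀ h ∈ RingHom.ker φ, ∀ k,
      Ideal.Quotient.mk I (eval a0 (pderiv k h)) =
        ∑ j, Ideal.Quotient.mk I (eval a0 (pderiv j h)) * π j k := by
    intro h hh k
    have h1 := pderiv_mem_of_mem_sq _ (hstar h hh) k
    have h2 := hevJ _ h1
    rw [map_sub, map_sub, map_sub, sub_eq_zero] at h2
    rw [h2, map_sum, map_sum, map_sum]
    refine Finset.sum_congr rfl fun j _ => ?_
    rw [Derivation.leibniz, smul_eq_mul, smul_eq_mul, map_add, map_add, map_mul, map_mul,
      map_mul, map_mul, hevJ _ (hgJ j), zero_mul, add_zero]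
    rfl
  have hππ : π * π = π := by
    ext j k
    rw [Matrix.mul_apply]
    exact (hrow (g j) (hgJ j) k).symm
  obtain ⟨π₀, hπ₀, hπ₀π⟩ := Groth.Agent.Lib.IdemMatrixLift22.exists_idempotent_matrix_lift I π hππ
  have hπ₀π' : ∀ j k, Ideal.Quotient.mk I (π₀ j k) = π j k := by
    intro j k
    rw [← hπ₀π]
    rfl
  -- complementary projector
  set ν : Matrix (Fin n) (Fin n) A := 1 - π₀ with hν
  have hνν : ν * ν = ν := by
    rw [hν, Matrix.sub_mul, Matrix.mul_sub, Matrix.mul_sub, Matrix.one_mul, Matrix.mul_one,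
      Matrix.one_mul, hπ₀]
    abel
  -- the substitution and the system
  let θ : Fin n → MvPolynomial (Fin n) A := fun k => C (a0 k) + ∑ m, C (π₀ k m) * X m
  let Φ : Fin n → MvPolynomial (Fin n) A := fun i => bind₁ θ (g i) + ∑ m, C (ν i m) * X m
  have hθ0 : ∀ k, eval (0 : Fin n → A) (θ k) = a0 k := by
    intro k
    simp [θ]
  have hθu : ∀ (u : Fin n → A) k, eval u (θ k) = a0 k + ∑ m, π₀ k m * u m := by
    intro u k
    simp [θ]
  have hdθ : ∀ k m, pderiv m (θ k) = C (π₀ k m) := by
    intro k m
    simp only [θ, map_add, pderiv_C, zero_add, map_sum, pderiv_C_mul, pderiv_X]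
    rw [Finset.sum_eq_single m]
    · simp
    · intro b _ hb
      simp [hb]
    · simp
  have hdΦ : ∀ i m, pderiv m (Φ i) = ∑ k, bind₁ θ (pderiv k (g i)) * C (π₀ k m) + C (ν i m) := by
    intro i m
    simp only [Φ, map_add, pderiv_bind₁, hdθ, map_sum, pderiv_C_mul, pderiv_X]
    congr 1
    rw [Finset.sum_eq_single m]
    · simp
    · intro b _ hb
      simp [hb]
    · simp
  have hΦ0 : ∀ i, eval (0 : Fin n → A) (Φ i) ∈ I := by
    intro i
    simp only [Φ, map_add, eval_bind₁', map_sum, map_mul, eval_C, eval_X, Pi.zero_apply, mul_zero,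
      Finset.sum_const_zero, add_zero]
    rw [← Ideal.Quotient.eq_zero_iff_mem]
    have : (fun k => eval (0 : Fin n → A) (θ k)) = a0 := funext hθ0
    rw [this]
    exact hevJ _ (hgJ i)
  have hJ0 : IsUnit (Ideal.Quotient.mk I
      (eval (0 : Fin n → A) (Groth.Agent.Lib.H15MvHensel.jacDet Φ))) := by
    have : Ideal.Quotient.mk I (eval (0 : Fin n → A) (Groth.Agent.Lib.H15MvHensel.jacDet Φ)) =
        (1 : Matrix (Fin n) (Fin n) (A ⧸ I)).det := by
      unfold Groth.Agent.Lib.H15MvHensel.jacDet
      rw [RingHom.map_det, RingHom.map_det]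
      congr 1
      ext i j
      simp only [RingHom.mapMatrix_apply, Matrix.map_apply, Matrix.of_apply, hdΦ, map_add, map_sum,
        map_mul, eval_C, eval_bind₁']
      have : (fun k => eval (0 : Fin n → A) (θ k)) = a0 := funext hθ0
      rw [this]
      have h1 : ∑ k, Ideal.Quotient.mk I (eval a0 (pderiv k (g j))) * Ideal.Quotient.mk I (π₀ k i) =
          (π * π) j i := by
        rw [Matrix.mul_apply]
        refine Finset.sum_congr rfl fun k _ => ?_
        rw [hπ₀π']
        rfl
      rw [h1, hππ, hν, Matrix.sub_apply, map_sub, hπ₀π']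
      rw [Matrix.one_apply, Matrix.one_apply]
      split_ifs with h1 h2 h2
      · simp
      · exact absurd h1.symm h2
      · exact absurd h2.symm h1
      · simp
    rw [this, Matrix.det_one]
    exact isUnit_one
  obtain ⟨u, hu, huI⟩ := Groth.Agent.Lib.H15MvHensel.exists_root Φ I 0 hΦ0 hJ0
  have huI' : ∀ j, u j ∈ I := by
    intro j
    simpa using huI j
  -- the solution point
  let a : Fin n → A := fun k => eval u (θ k)
  let w : Fin n → A := ν.mulVec u
  have hga : ∀ i, eval a (g i) = - w i := by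
    intro i
    have h1 := hu i
    simp only [Φ, map_add, eval_bind₁', map_sum, map_mul, eval_C, eval_X] at h1
    rw [eq_neg_iff_add_eq_zero]
    exact h1
  have haI : ∀ k, a k - a0 k ∈ I := by
    intro k
    change eval u (θ k) - a0 k ∈ I
    rw [hθu, add_sub_cancel_left]
    exact I.sum_mem fun m _ => I.mul_mem_left _ (huI' m)
  have heva : ∀ x : MvPolynomial (Fin n) A,
      Ideal.Quotient.mk I (eval a x) = Ideal.Quotient.mk I (eval a0 x) := by
    intro x
    have : ((Ideal.Quotient.mk I).comp (eval a)) = ((Ideal.Quotient.mk I).comp (eval a0)) := by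
      apply MvPolynomial.ringHom_ext
      · intro r
        simp
      · intro j
        simp only [RingHom.comp_apply, eval_X]
        exact Ideal.Quotient.eq.mpr (haI j)
    exact RingHom.congr_fun this x
  have hevaJ : ∀ x ∈ RingHom.ker φ, eval a x ∈ I := by
    intro x hx
    rw [← Ideal.Quotient.eq_zero_iff_mem, heva]
    exact hevJ x hx
  -- the ideals
  set Ja : Ideal A := (RingHom.ker φ).map (eval a) with hJa
  have hJafg : Ja.FG := hfg.map _
  set G : Ideal A := Ideal.span (Set.range fun i => eval a (g i)) with hG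
  have hGfg : G.FG := by
    rw [hG]
    exact ⟨(Finset.univ.image fun i => eval a (g i)), by simp⟩
  have hJaI : Ja ≤ I := by
    rw [hJa, Ideal.map_le_iff_le_comap]
    intro x hx
    exact hevaJ x hx
  have hsq : ∀ x ∈ (RingHom.ker φ) ^ 2, eval a x ∈ I • Ja := by
    intro x hx
    have h1 : eval a x ∈ ((RingHom.ker φ) ^ 2).map (eval a) := Ideal.mem_map_of_mem _ hx
    rw [Ideal.map_pow, pow_two] at h1
    rw [smul_eq_mul]
    exact Ideal.mul_mono_left hJaI h1
  have hdecomp : ∀ x ∈ RingHom.ker φ,
      eval a x = eval a (x - ∑ j, pderiv j x * g j) + ∑ j, eval a (pderiv j x) * eval a (g j) := by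
    intro x _
    simp only [map_sub, map_sum, map_mul]
    ring
  have hgG : ∀ j, eval a (g j) ∈ G := fun j => Ideal.subset_span ⟨j, rfl⟩
  have hclaim1 : Ja ≤ G ⊔ I • Ja := by
    rw [hJa, Ideal.map_le_iff_le_comap]
    intro x hx
    rw [Ideal.mem_comap, hdecomp x hx, add_comm]
    refine Submodule.add_mem_sup ?_ (hsq _ (hstar x hx))
    exact G.sum_mem fun j _ => G.mul_mem_left _ (hgG j)
  have hJaG : Ja ≤ G := Submodule.le_of_le_smul_of_le_jacobson_bot hJafg hjac hclaim1
  -- second Nakayama
  have hclaim2 : ∀ k, eval a (g k) ∈ I • G := by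
    intro k
    let hk : MvPolynomial (Fin n) A := ∑ i, C (ν k i) * g i
    have hkJ : hk ∈ RingHom.ker φ := Ideal.sum_mem _ fun i _ => Ideal.mul_mem_left _ _ (hgJ i)
    have hkval : eval a hk = eval a (g k) := by
      simp only [hk, map_sum, map_mul, eval_C, hga]
      have h1 : ∑ i, ν k i * -w i = - (ν.mulVec w) k := by
        simp [Matrix.mulVec, dotProduct]
      rw [h1]
      change -(ν.mulVec (ν.mulVec u)) k = - (ν.mulVec u) k
      rw [Matrix.mulVec_mulVec, hνν]
    rw [← hkval, hdecomp hk hkJ]
    refine Submodule.add_mem _ ?_ ?_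
    · have := hsq _ (hstar hk hkJ)
      exact Submodule.smul_mono le_rfl hJaG this
    · refine Submodule.sum_mem _ fun j _ => ?_
      rw [← smul_eq_mul]
      refine Submodule.smul_mem_smul ?_ (hgG j)
      rw [← Ideal.Quotient.eq_zero_iff_mem, heva]
      simp only [hk, map_sum, pderiv_C_mul, map_mul, eval_C]
      have h2 : ∑ i, Ideal.Quotient.mk I (ν k i) * Ideal.Quotient.mk I (eval a0 (pderiv j (g i))) =
          ((1 - π) * π) k j := by
        rw [Matrix.mul_apply]
        refine Finset.sum_congr rfl fun i _ => ?_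
        rw [hν, Matrix.sub_apply, map_sub, hπ₀π', Matrix.sub_apply]
        congr 2
        rw [Matrix.one_apply, Matrix.one_apply]
        split_ifs <;> simp
      rw [h2, Matrix.sub_mul, Matrix.one_mul, hππ, sub_self]
      rfl
  have hG0 : G = ⊥ := by
    refine Submodule.eq_bot_of_le_smul_of_le_jacobson_bot I G hGfg ?_ hjac
    rw [hG, Ideal.span_le]
    rintro _ ⟨k, rfl⟩
    exact hclaim2 k
  have hJa0 : ∀ x ∈ RingHom.ker φ, eval a x = 0 := by
    intro x hx
    have : eval a x ∈ Ja := Ideal.mem_map_of_mem _ hx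
    have := hJaG this
    rw [hG0] at this
    exact this
  -- the lift
  have hker : RingHom.ker φ.toRingHom ≤ RingHom.ker (aeval a : MvPolynomial (Fin n) A →ₐ[A] A).toRingHom := by
    intro x hx
    rw [RingHom.mem_ker]
    change aeval a x = 0
    rw [aeval_eq_eval]
    exact hJa0 x hx
  refine ⟨AlgHom.liftOfSurjective φ hφ (aeval a) hker, ?_⟩
  ext b
  obtain ⟨x, rfl⟩ := hφ b
  rw [AlgHom.comp_apply, AlgHom.liftOfSurjective_apply, ← hev, ← heva]
  simp [aeval_eq_eval]

end main

end Groth.Agent.Lib.SmoothLift22
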