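import Mathlib
import Groth.Agent.Lib.SmoothLift22b

/-!
# Lifting smooth algebras (helper22), part e: the polynomial-level facts

`R` a ring, `I` an ideal, `A₀` a formally smooth `R/I`-algebra presented as a quotient of
`(R/I)[x_1..x_n]` by `φb`.  `ψ : R[x] → A₀` the induced surjection, `L = ker ψ`.
-/

set_option autoImplicit false
universe u

namespace Groth.Agent.Lib.SmoothAlgLift22

open MvPolynomial Groth.Agent.Lib.SmoothLift22

section poly

variable {R : Type u} [CommRing R] (I : Ideal R) {A₀ : Type u} [CommRing A₀] [Algebra (R ⧸ I) A₀]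
  {n : ℕ} (φb : MvPolynomial (Fin n) (R ⧸ I) →ₐ[R ⧸ I] A₀)

/-- reduction of polynomials modulo `I` -/
noncomputable def redHom : MvPolynomial (Fin n) R →+* MvPolynomial (Fin n) (R ⧸ I) :=
  MvPolynomial.map (Ideal.Quotient.mk I)

theorem redHom_surjective : Function.Surjective (redHom I (n := n)) :=
  MvPolynomial.map_surjective _ Ideal.Quotient.mk_surjective

theorem ker_redHom : RingHom.ker (redHom I (n := n)) = I.map (C : R →+* MvPolynomial (Fin n) R) := by
  rw [redHom, MvPolynomial.ker_map, Ideal.mk_ker]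

theorem redHom_pderiv (j : Fin n) (x : MvPolynomial (Fin n) R) :
    redHom I (pderiv j x) = pderiv j (redHom I x) :=
  (MvPolynomial.pderiv_map (φ := Ideal.Quotient.mk I) (i := j) (f := x)).symm

/-- the surjection `R[x] → A₀` -/
noncomputable def psi : MvPolynomial (Fin n) R →+* A₀ :=
  (φb : MvPolynomial (Fin n) (R ⧸ I) →+* A₀).comp (redHom I)

theorem psi_apply (x : MvPolynomial (Fin n) R) : psi I φb x = φb (redHom I x) := rfl

theorem psi_surjective (hφb : Function.Surjective φb) : Function.Surjective (psi I φb) :=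
  hφb.comp (redHom_surjective I)

theorem psi_C (r : R) : psi I φb (C r) = algebraMap (R ⧸ I) A₀ (Ideal.Quotient.mk I r) := by
  rw [psi_apply, redHom, MvPolynomial.map_C, ← MvPolynomial.algebraMap_eq, φb.commutes]

theorem map_C_le_ker_psi : I.map (C : R →+* MvPolynomial (Fin n) R) ≤ RingHom.ker (psi I φb) := by
  rw [← ker_redHom]
  intro x hx
  rw [RingHom.mem_ker, psi_apply, (RingHom.mem_ker).1 hx, map_zero]

theorem comap_ker_eq : (RingHom.ker (φb : MvPolynomial (Fin n) (R ⧸ I) →+* A₀)).comap (redHom I) =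
    RingHom.ker (psi I φb) := by
  ext x
  simp [RingHom.mem_ker, psi_apply]

theorem map_ker_psi : (RingHom.ker (psi I φb)).map (redHom I) =
    RingHom.ker (φb : MvPolynomial (Fin n) (R ⧸ I) →+* A₀) := by
  rw [← comap_ker_eq, Ideal.map_comap_of_surjective _ (redHom_surjective I)]

variable (gb : Fin n → MvPolynomial (Fin n) (R ⧸ I)) (hgb : ∀ j, gb j ∈ RingHom.ker φb)
  (hstar : ∀ h ∈ RingHom.ker φb, h - ∑ j, pderiv j h * gb j ∈ (RingHom.ker φb) ^ 2)
  (g : Fin n → MvPolynomial (Fin n) R) (hg : ∀ j, redHom I (g j) = gb j)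

include hgb hg in
theorem g_mem_ker_psi (l : Fin n) : g l ∈ RingHom.ker (psi I φb) := by
  rw [RingHom.mem_ker, psi_apply, hg]
  exact hgb l

include hgb hstar hg in
/-- the Jacobian matrix `(∂_j g_l)` is idempotent modulo `L` -/
theorem jac_idem (j l : Fin n) :
    ((Matrix.of fun j l => pderiv j (g l)) * (Matrix.of fun j l => pderiv j (g l)) -
      (Matrix.of fun j l => pderiv j (g l))) j l ∈ RingHom.ker (psi I φb) := by
  rw [Matrix.sub_apply, Matrix.mul_apply, RingHom.mem_ker, psi_apply, map_sub, map_sum]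
  simp only [Matrix.of_apply, map_mul, redHom_pderiv, hg]
  rw [map_sub, map_sum]
  have h1 := pderiv_mem_of_mem_sq _ (hstar (gb l) (hgb l)) j
  have h2 : φb (pderiv j (gb l - ∑ k, pderiv k (gb l) * gb k)) = 0 := h1
  rw [map_sub, map_sum, map_sub, map_sum, sub_eq_zero] at h2
  rw [sub_eq_zero, h2]
  refine Finset.sum_congr rfl fun k _ => ?_
  have h0 : φb (gb k) = 0 := hgb k
  rw [Derivation.leibniz, smul_eq_mul, smul_eq_mul, map_add, map_mul, map_mul, map_mul,
    h0, zero_mul, add_zero, mul_comm]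

include hstar hg in
/-- the conormal property at the level of `R[x]` -/
theorem star_lift (x : MvPolynomial (Fin n) R) (hx : x ∈ RingHom.ker (psi I φb)) :
    x - ∑ k, pderiv k x * g k ∈
      (RingHom.ker (psi I φb)) ^ 2 ⊔ I.map (C : R →+* MvPolynomial (Fin n) R) := by
  have hx' : redHom I x ∈ RingHom.ker φb := hx
  have h1 := hstar _ hx'
  have h2 : redHom I (x - ∑ k, pderiv k x * g k) ∈
      ((RingHom.ker (psi I φb)) ^ 2).map (redHom I) := by
    rw [Ideal.map_pow, map_ker_psi]
    rw [map_sub, map_sum]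
    simp only [map_mul, redHom_pderiv, hg]
    exact h1
  have h3 := Ideal.mem_comap.2 h2
  rw [Ideal.comap_map_of_surjective _ (redHom_surjective I)] at h3
  rw [← ker_redHom]
  exact h3

end poly

end Groth.Agent.Lib.SmoothAlgLift22
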