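import Mathlib

/-!
# Lifting smooth algebras (helper22), part a: a projector criterion for formal smoothness

`formallySmooth_of_projector`: let `Q` be a formally smooth `R`-algebra whose module of differentials
is free with basis `b` (indexed by `Fin n`), `T = Q / (g_1, …, g_n)`. Suppose `π` is an idempotent
`n × n` matrix over `Q` with `g_k = ∑_l π_{lk} g_l`, and that, for the Jacobian matrix
`D_{jk} = ∂_j g_k`, the matrix `π D π + 1 - π` is left-invertible modulo `(g)`. Then `T` is formally
smooth over `R`.
-/

set_option autoImplicit false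
universe u v w

namespace Groth.Agent.Lib.SmoothAlgLift22

open KaehlerDifferential TensorProduct Algebra

section LemmaS

variable {R : Type u} {Q : Type v} {T : Type w} [CommRing R] [CommRing Q] [CommRing T]
  [Algebra R Q] [Algebra R T] [Algebra Q T] [IsScalarTower R Q T] {n : ℕ}

/-- The Jacobian matrix `(∂_j g_k)` with respect to a basis of the differentials. -/
noncomputable def jacMatrix (b : Module.Basis (Fin n) Q Ω[Q⁄R]) (g : Fin n → Q) :
    Matrix (Fin n) (Fin n) Q :=
  Matrix.of fun j k => b.repr (D R Q (g k)) j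

theorem formallySmooth_of_projector [Algebra.FormallySmooth R Q]
    (hsurj : Function.Surjective (algebraMap Q T))
    (b : Module.Basis (Fin n) Q Ω[Q⁄R])
    (g : Fin n → Q) (hg : Ideal.span (Set.range g) = RingHom.ker (algebraMap Q T))
    (π F : Matrix (Fin n) (Fin n) Q)
    (hπ : π * π = π) (h1 : ∀ k, ∑ l, π l k * g l = g k)
    (hF : (F * (π * jacMatrix b g * π + 1 - π)).map (algebraMap Q T) = 1) :
    Algebra.FormallySmooth R T := by
  classical
  let P : Algebra.Extension.{v} R T := ⟨Q, Function.surjInv hsurj, Function.surjInv_eq hsurj⟩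
  have : Algebra.FormallySmooth R P.Ring := ‹_›
  rw [P.formallySmooth_iff_split_injection]
  -- images of the matrices in `T`
  set πb : Matrix (Fin n) (Fin n) T := π.map (algebraMap Q T) with hπb
  set Fb : Matrix (Fin n) (Fin n) T := F.map (algebraMap Q T) with hFb
  set Db : Matrix (Fin n) (Fin n) T := (jacMatrix b g).map (algebraMap Q T) with hDb
  have hgker : ∀ m, g m ∈ P.ker := fun m => by
    change g m ∈ RingHom.ker (algebraMap Q T)
    rw [← hg]
    exact Ideal.subset_span ⟨m, rfl⟩
  have hg0 : ∀ m, algebraMap Q T (g m) = 0 := fun m => hgker m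
  have hπb2 : πb * πb = πb := by
    rw [hπb, ← Matrix.map_mul, hπ]
  -- `D π = D` modulo `(g)`
  have hDπ : Db * πb = Db := by
    ext j k
    rw [Matrix.mul_apply]
    have hk := h1 k
    have h2 : D R Q (g k) = ∑ l, (π l k • D R Q (g l) + g l • D R Q (π l k)) := by
      conv_lhs => rw [← hk]
      rw [map_sum]
      refine Finset.sum_congr rfl fun l _ => ?_
      rw [Derivation.leibniz]
    have h3 : b.repr (D R Q (g k)) j =
        ∑ l, (π l k * b.repr (D R Q (g l)) j + g l * b.repr (D R Q (π l k)) j) := by
      rw [h2, map_sum, Finsupp.finsetSum_apply]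
      refine Finset.sum_congr rfl fun l _ => ?_
      simp
    have h4 := congrArg (algebraMap Q T) h3
    rw [map_sum] at h4
    simp only [map_add, map_mul, hg0, zero_mul, add_zero] at h4
    simp only [hDb, hπb, Matrix.map_apply, jacMatrix, Matrix.of_apply]
    rw [h4]
    exact Finset.sum_congr rfl fun l _ => mul_comm _ _
  have hFE : Fb * (πb * Db * πb + 1 - πb) = 1 := by
    have := hF
    change (algebraMap Q T).mapMatrix _ = 1 at this
    rw [map_mul, map_sub, map_add, map_mul, map_mul, map_one] at this
    exact this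
  -- the key matrix identity
  have hkey : Fb * πb * Db = πb := by
    have e1 : Fb * πb * Db = Fb * (πb * Db * πb) := by
      rw [Matrix.mul_assoc πb Db πb, hDπ, Matrix.mul_assoc]
    have e2 : Fb * (πb * Db * πb) = Fb * ((πb * Db * πb + 1 - πb) * πb) := by
      congr 1
      rw [sub_mul, add_mul, one_mul, Matrix.mul_assoc (πb * Db) πb πb, hπb2]
      abel
    rw [e1, e2, ← Matrix.mul_assoc, hFE, one_mul]
  -- the retraction
  let γ : Fin n → P.Cotangent := fun m => Extension.Cotangent.mk ⟨g m, hgker m⟩
  let bT : Module.Basis (Fin n) T P.CotangentSpace := b.baseChange T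
  let l : P.CotangentSpace →ₗ[T] P.Cotangent :=
    bT.constr T (fun j => ∑ m, (Fb * πb) m j • γ m)
  refine ⟨l, ?_⟩
  have hspan := Extension.Cotangent.span_eq_top_of_span_eq_ker (P := P) g hg
  apply LinearMap.ext_on_range hspan
  intro k
  change l (P.cotangentComplex (γ k)) = γ k
  have hcc : P.cotangentComplex (γ k) = ∑ j, Db j k • bT j := by
    change P.cotangentComplex (Extension.Cotangent.mk ⟨g k, hgker k⟩) = _
    rw [Extension.cotangentComplex_mk]
    have hrepr := b.sum_repr (D R Q (g k))
    change (1 : T) ⊗ₜ[Q] (D R Q (g k)) = _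
    conv_lhs => rw [← hrepr]
    rw [TensorProduct.tmul_sum]
    refine Finset.sum_congr rfl fun j _ => ?_
    rw [TensorProduct.tmul_smul, TensorProduct.smul_tmul', Algebra.smul_def, mul_one]
    simp only [bT, Module.Basis.baseChange_apply, hDb, Matrix.map_apply, jacMatrix, Matrix.of_apply]
    rw [TensorProduct.smul_tmul', smul_eq_mul, mul_one]
  rw [hcc, map_sum]
  simp only [map_smul, l, Module.Basis.constr_basis]
  -- `∑_j D_{jk} ∑_m (Fπ)_{mj} γ_m = ∑_m (FπD)_{mk} γ_m = ∑_m π_{mk} γ_m = γ_k`
  have e3 : ∑ j, Db j k • ∑ m, (Fb * πb) m j • γ m = ∑ m, (Fb * πb * Db) m k • γ m := by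
    simp only [Finset.smul_sum, smul_smul]
    rw [Finset.sum_comm]
    refine Finset.sum_congr rfl fun m _ => ?_
    rw [← Finset.sum_smul]
    congr 1
    rw [Matrix.mul_apply]
    exact Finset.sum_congr rfl fun j _ => mul_comm _ _
  rw [e3, hkey]
  -- `∑_m π_{mk} γ_m = γ_k`
  have e4 : ∑ m, πb m k • γ m = γ k := by
    have hk := h1 k
    have : (⟨g k, hgker k⟩ : P.ker) = ∑ m, π m k • (⟨g m, hgker m⟩ : P.ker) := by
      ext
      simp [← hk]
    change _ = Extension.Cotangent.mk (P := P) ⟨g k, hgker k⟩
    rw [this, map_sum]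
    refine Finset.sum_congr rfl fun m _ => ?_
    rw [map_smul]
    simp only [hπb, Matrix.map_apply, γ]
    rw [algebraMap_smul]
  exact e4

end LemmaS

end Groth.Agent.Lib.SmoothAlgLift22
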