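import Mathlib
import Groth.Agent.Lib.SmoothAlgLift22a

/-!
# Lifting smooth algebras (helper22), part b: differentials of formally étale algebras over a
polynomial ring

For `Q` formally étale over `P = R[x_1, …, x_n]`: `etaleBasis : Basis (Fin n) Q Ω[Q⁄R]` (the images of
the `dx_j`), with coordinates of `d (algebraMap p)` equal to the images of the partial derivatives.
-/

set_option autoImplicit false
universe u v

namespace Groth.Agent.Lib.SmoothAlgLift22

open KaehlerDifferential TensorProduct Algebra MvPolynomial

section leibniz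

variable {R : Type u} [CommRing R] {Q : Type v} [CommRing Q] [Algebra R Q]

/-- Leibniz rule in coordinates. -/
theorem repr_D_mul {m : ℕ} (b : Module.Basis (Fin m) Q Ω[Q⁄R]) (x y : Q) (j : Fin m) :
    b.repr (D R Q (x * y)) j = x * b.repr (D R Q y) j + y * b.repr (D R Q x) j := by
  rw [Derivation.leibniz]
  simp

end leibniz

section etaleBasis

variable (R : Type u) [CommRing R] (n : ℕ) (Q : Type v) [CommRing Q]
  [Algebra R Q] [Algebra (MvPolynomial (Fin n) R) Q] [IsScalarTower R (MvPolynomial (Fin n) R) Q]
  [Algebra.FormallyEtale (MvPolynomial (Fin n) R) Q]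

/-- The basis `dx_j` of the differentials of a formally étale algebra over a polynomial ring. -/
noncomputable def etaleBasis : Module.Basis (Fin n) Q Ω[Q⁄R] :=
  ((mvPolynomialBasis R (Fin n)).baseChange Q).map
    (tensorKaehlerEquivOfFormallyEtale R (MvPolynomial (Fin n) R) Q)

theorem etaleBasis_repr_D_algebraMap (p : MvPolynomial (Fin n) R) (j : Fin n) :
    (etaleBasis R n Q).repr (D R Q (algebraMap (MvPolynomial (Fin n) R) Q p)) j =
      algebraMap (MvPolynomial (Fin n) R) Q (pderiv j p) := by
  rw [etaleBasis, Module.Basis.map_repr, LinearEquiv.trans_apply,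
    tensorKaehlerEquivOfFormallyEtale_symm_D_algebraMap, Module.Basis.baseChange_repr_tmul,
    mvPolynomialBasis_repr_apply, Algebra.smul_def, mul_one]

end etaleBasis

theorem formallySmooth_of_formallyEtale_mvPolynomial (R : Type u) [CommRing R] (n : ℕ)
    (Q : Type v) [CommRing Q] [Algebra R Q] [Algebra (MvPolynomial (Fin n) R) Q]
    [IsScalarTower R (MvPolynomial (Fin n) R) Q]
    [Algebra.FormallyEtale (MvPolynomial (Fin n) R) Q] : Algebra.FormallySmooth R Q := by
  have : Algebra.FormallySmooth (MvPolynomial (Fin n) R) Q := inferInstance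
  exact Algebra.FormallySmooth.comp R (MvPolynomial (Fin n) R) Q

end Groth.Agent.Lib.SmoothAlgLift22
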