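import Mathlib
import Groth.Agent.Lib.SmoothAlgLift22b

/-!
# Lifting smooth algebras (helper22), part c: pointwise smoothness of the twisted quotient

`P'` formally étale over `P = R[x_1..x_n]`, `L'` an ideal of `P'`, `g_l ∈ P` with images in `L'`,
`π` an `n × n` matrix over `P'`, idempotent up to an element `t ≡ 1 mod L'`, congruent mod `L'` to
the Jacobian matrix `(∂_j g_l)`.  Then `P' / (∑_l π_{lk} g_l)_k` is smooth over `R` at all primes
containing `L'`.
-/

set_option autoImplicit false
universe u

namespace Groth.Agent.Lib.SmoothAlgLift22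

open KaehlerDifferential TensorProduct Algebra MvPolynomial

section local_

variable {R : Type u} [CommRing R] {n : ℕ} {P' : Type u} [CommRing P'] [Algebra R P']
  [Algebra (MvPolynomial (Fin n) R) P'] [IsScalarTower R (MvPolynomial (Fin n) R) P']
  [Algebra.FormallyEtale (MvPolynomial (Fin n) R) P']

/-- the twisted equations `g'_k = ∑_l π_{lk} g_l` -/
noncomputable def twisted (π : Matrix (Fin n) (Fin n) P') (g : Fin n → MvPolynomial (Fin n) R)
    (k : Fin n) : P' :=
  ∑ l, π l k * algebraMap (MvPolynomial (Fin n) R) P' (g l)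

variable (L' : Ideal P') (g : Fin n → MvPolynomial (Fin n) R)
  (hgL : ∀ l, algebraMap (MvPolynomial (Fin n) R) P' (g l) ∈ L')
  (π : Matrix (Fin n) (Fin n) P') (t : P') (ht : t - 1 ∈ L') (htπ : t • (π * π - π) = 0)
  (hπ : ∀ j l, π j l - algebraMap (MvPolynomial (Fin n) R) P' (pderiv j (g l)) ∈ L')

include hgL htπ hπ in
/-- Core local statement, abstract form: `Q` a local ring, formally étale over `P`, receiving `P'`
with `L'` mapping into the maximal ideal and `t` to a unit. -/
theorem formallySmooth_quotient_of_local (Q : Type u) [CommRing Q] [IsLocalRing Q] [Algebra R Q]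
    [Algebra (MvPolynomial (Fin n) R) Q] [IsScalarTower R (MvPolynomial (Fin n) R) Q]
    [Algebra P' Q] [IsScalarTower (MvPolynomial (Fin n) R) P' Q]
    [Algebra.FormallyEtale (MvPolynomial (Fin n) R) Q]
    (hmax : ∀ x ∈ L', algebraMap P' Q x ∈ IsLocalRing.maximalIdeal Q)
    (htu : IsUnit (algebraMap P' Q t)) :
    Algebra.FormallySmooth R
      (Q ⧸ (Ideal.span (Set.range (twisted π g))).map (algebraMap P' Q)) := by
  classical
  let ι : P' →+* Q := algebraMap P' Q
  let b := etaleBasis R n Q
  have : Algebra.FormallySmooth R Q := formallySmooth_of_formallyEtale_mvPolynomial R n Q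
  -- images
  let πQ : Matrix (Fin n) (Fin n) Q := ι.mapMatrix π
  have hπQa : ∀ i j, πQ i j = ι (π i j) := fun i j => rfl
  let gP : Fin n → Q := fun l => algebraMap (MvPolynomial (Fin n) R) Q (g l)
  have hgP : ∀ l, gP l = ι (algebraMap (MvPolynomial (Fin n) R) P' (g l)) := fun l =>
    IsScalarTower.algebraMap_apply _ P' Q _
  let gQ : Fin n → Q := fun k => ι (twisted π g k)
  have hgQ : ∀ k, gQ k = ∑ l, πQ l k * gP l := by
    intro k
    simp only [gQ, twisted, map_sum, map_mul, hπQa, hgP]
  have hπQ2 : πQ * πQ = πQ := by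
    have h2 : ι.mapMatrix (t • (π * π - π)) = 0 := by rw [htπ, map_zero]
    have e : ι.mapMatrix (t • (π * π - π)) = ι t • (πQ * πQ - πQ) := by
      have : ∀ M : Matrix (Fin n) (Fin n) P', ι.mapMatrix (t • M) = ι t • ι.mapMatrix M := by
        intro M
        ext i j
        simp
      rw [this, map_sub, map_mul]
    rw [e] at h2
    have h3 : πQ * πQ - πQ = 0 := by
      have hinv : (htu.unit⁻¹ : Qˣ).1 * ι t = 1 := IsUnit.val_inv_mul htu
      have := congrArg (fun M => (htu.unit⁻¹ : Qˣ).1 • M) h2
      simp only [smul_smul, smul_zero, hinv, one_smul] at this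
      exact this
    exact sub_eq_zero.1 h3
  -- h1 of Lemma S
  have h1 : ∀ k, ∑ l, πQ l k * gQ l = gQ k := by
    intro k
    have e0 : ∀ l, πQ l k * gQ l = ∑ m, πQ m l * πQ l k * gP m := by
      intro l
      rw [hgQ l, Finset.mul_sum]
      exact Finset.sum_congr rfl fun m _ => by ring
    rw [Finset.sum_congr rfl fun l _ => e0 l, Finset.sum_comm, hgQ k]
    refine Finset.sum_congr rfl fun m _ => ?_
    rw [← Finset.sum_mul]
    congr 1
    have := congrFun (congrFun hπQ2 m) k
    rw [Matrix.mul_apply] at this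
    exact this
  -- span
  have hspan : Ideal.span (Set.range gQ) =
      RingHom.ker (algebraMap Q (Q ⧸ (Ideal.span (Set.range (twisted π g))).map
        (algebraMap P' Q))) := by
    rw [Ideal.Quotient.algebraMap_eq, Ideal.mk_ker, Ideal.map_span, ← Set.range_comp]
    rfl
  let κ := Ideal.Quotient.mk (IsLocalRing.maximalIdeal Q)
  have hκ0 : ∀ x ∈ L', κ (ι x) = 0 := fun x hx =>
    Ideal.Quotient.eq_zero_iff_mem.2 (hmax x hx)
  -- the Jacobian matrix is congruent to `π`
  have hD : κ.mapMatrix (jacMatrix b gQ) = κ.mapMatrix πQ := by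
    ext j k
    simp only [RingHom.mapMatrix_apply, Matrix.map_apply, jacMatrix, Matrix.of_apply]
    have e1 : b.repr (D R Q (gQ k)) j =
        ∑ l, (πQ l k * algebraMap (MvPolynomial (Fin n) R) Q (pderiv j (g l)) +
          gP l * b.repr (D R Q (πQ l k)) j) := by
      rw [hgQ k, map_sum, map_sum, Finsupp.finsetSum_apply]
      refine Finset.sum_congr rfl fun l _ => ?_
      rw [repr_D_mul]
      congr 1
      rw [etaleBasis_repr_D_algebraMap]
    rw [e1, map_sum]
    have e2 : ∀ l, κ (πQ l k * algebraMap (MvPolynomial (Fin n) R) Q (pderiv j (g l)) +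
          gP l * b.repr (D R Q (πQ l k)) j) = κ (πQ j l) * κ (πQ l k) := by
      intro l
      rw [map_add, map_mul, map_mul]
      have h3 : κ (gP l) = 0 := by rw [hgP]; exact hκ0 _ (hgL l)
      have h4 : κ (algebraMap (MvPolynomial (Fin n) R) Q (pderiv j (g l))) = κ (πQ j l) := by
        rw [IsScalarTower.algebraMap_apply _ P' Q, eq_comm, ← sub_eq_zero, ← map_sub, hπQa,
          ← map_sub]
        exact hκ0 _ (hπ j l)
      rw [h3, h4, zero_mul, add_zero, mul_comm]
    rw [Finset.sum_congr rfl fun l _ => e2 l]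
    have := congrArg κ (congrFun (congrFun hπQ2 j) k)
    rw [Matrix.mul_apply, map_sum] at this
    simp only [map_mul] at this
    exact this
  -- `E ≡ 1`
  have hE1 : κ.mapMatrix (πQ * jacMatrix b gQ * πQ + 1 - πQ) = 1 := by
    have hπ2 : κ.mapMatrix πQ * κ.mapMatrix πQ = κ.mapMatrix πQ := by
      rw [← map_mul, hπQ2]
    rw [map_sub, map_add, map_mul, map_mul, map_one, hD, hπ2, hπ2]
    abel
  have hdet : IsUnit (πQ * jacMatrix b gQ * πQ + 1 - πQ).det := by
    have h5 : κ (πQ * jacMatrix b gQ * πQ + 1 - πQ).det = 1 := by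
      rw [RingHom.map_det, hE1, Matrix.det_one]
    by_contra hnu
    have : (πQ * jacMatrix b gQ * πQ + 1 - πQ).det ∈ IsLocalRing.maximalIdeal Q :=
      (IsLocalRing.mem_maximalIdeal _).2 hnu
    rw [← Ideal.Quotient.eq_zero_iff_mem] at this
    change κ _ = 0 at this
    rw [h5] at this
    exact one_ne_zero this
  have hFE := Matrix.nonsing_inv_mul (πQ * jacMatrix b gQ * πQ + 1 - πQ) hdet
  refine formallySmooth_of_projector (Q := Q)
    (T := Q ⧸ (Ideal.span (Set.range (twisted π g))).map (algebraMap P' Q))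
    Ideal.Quotient.mk_surjective b gQ hspan πQ (πQ * jacMatrix b gQ * πQ + 1 - πQ)⁻¹ hπQ2 h1 ?_
  rw [hFE]
  change (algebraMap Q (Q ⧸ (Ideal.span (Set.range (twisted π g))).map
    (algebraMap P' Q))).mapMatrix 1 = 1
  rw [map_one]

include hgL ht htπ hπ in
/-- The twisted quotient is smooth over `R` at every prime containing the image of `L'`. -/
theorem isSmoothAt_quotient
    (q : Ideal (P' ⧸ Ideal.span (Set.range (twisted π g)))) [q.IsPrime]
    (hq : L'.map (Ideal.Quotient.mk (Ideal.span (Set.range (twisted π g)))) ≤ q) :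
    Algebra.IsSmoothAt R q := by
  classical
  let 𝔮 : Ideal P' := q.comap (Ideal.Quotient.mk (Ideal.span (Set.range (twisted π g))))
  have : 𝔮.IsPrime := Ideal.comap_isPrime _ _
  have h𝔮 : L' ≤ 𝔮 := fun x hx => hq (Ideal.mem_map_of_mem _ hx)
  have htu : IsUnit (algebraMap P' (Localization.AtPrime 𝔮) t) := by
    apply IsLocalization.map_units (Localization.AtPrime 𝔮) (⟨t, ?_⟩ : 𝔮.primeCompl)
    intro htq
    have h1 : (1 : P') ∈ 𝔮 := by
      have := 𝔮.sub_mem htq (h𝔮 ht)
      simpa using this
    exact (Ideal.ne_top_iff_one 𝔮).1 (Ideal.IsPrime.ne_top ‹_›) h1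
  have hmax : ∀ x ∈ L', algebraMap P' (Localization.AtPrime 𝔮) x ∈
      IsLocalRing.maximalIdeal (Localization.AtPrime 𝔮) := by
    intro x hx
    rw [← Localization.AtPrime.map_eq_maximalIdeal]
    exact Ideal.mem_map_of_mem _ (h𝔮 hx)
  have hsm := formallySmooth_quotient_of_local L' g hgL π t htπ hπ (Localization.AtPrime 𝔮)
    hmax htu
  have hloc : IsLocalization q.primeCompl
      (Localization.AtPrime 𝔮 ⧸ (Ideal.span (Set.range (twisted π g))).map
        (algebraMap P' (Localization.AtPrime 𝔮))) := by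
    have h0 : IsLocalization (Algebra.algebraMapSubmonoid
        (P' ⧸ Ideal.span (Set.range (twisted π g))) 𝔮.primeCompl)
        (Localization.AtPrime 𝔮 ⧸ (Ideal.span (Set.range (twisted π g))).map
          (algebraMap P' (Localization.AtPrime 𝔮))) := inferInstance
    have e : Algebra.algebraMapSubmonoid
        (P' ⧸ Ideal.span (Set.range (twisted π g))) 𝔮.primeCompl = q.primeCompl := by
      ext x
      constructor
      · rintro ⟨y, hy, rfl⟩
        exact hy
      · intro hx
        obtain ⟨y, rfl⟩ := Ideal.Quotient.mk_surjective x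
        exact ⟨y, hx, rfl⟩
    rwa [e] at h0
  have : IsScalarTower R (P' ⧸ Ideal.span (Set.range (twisted π g)))
      (Localization.AtPrime 𝔮 ⧸ (Ideal.span (Set.range (twisted π g))).map
        (algebraMap P' (Localization.AtPrime 𝔮))) :=
    IsScalarTower.of_algebraMap_eq (fun r => by
      rw [IsScalarTower.algebraMap_apply R P' (P' ⧸ Ideal.span (Set.range (twisted π g))),
        IsScalarTower.algebraMap_apply R (Localization.AtPrime 𝔮)
          (Localization.AtPrime 𝔮 ⧸ (Ideal.span (Set.range (twisted π g))).map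
            (algebraMap P' (Localization.AtPrime 𝔮))),
        IsScalarTower.algebraMap_apply R P' (Localization.AtPrime 𝔮)]
      rfl)
  let e := IsLocalization.algEquiv q.primeCompl (Localization.AtPrime q)
    (Localization.AtPrime 𝔮 ⧸ (Ideal.span (Set.range (twisted π g))).map
      (algebraMap P' (Localization.AtPrime 𝔮)))
  exact Algebra.FormallySmooth.of_equiv (e.symm.restrictScalars R)

end local_

end Groth.Agent.Lib.SmoothAlgLift22
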