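import Mathlib
import Groth.Agent.Lib.SmoothAlgLift22c

/-!
# Lifting smooth algebras (helper22), part f: the Nakayama step

In the twisted quotient `T' = P' / (g'_k)`, the image `N` of `L` satisfies `N ≤ N² + I T'`, hence
`u N ⊆ I T'` for some `u ≡ 1 mod N`.
-/

set_option autoImplicit false
universe u

namespace Groth.Agent.Lib.SmoothAlgLift22

open MvPolynomial

section nak

variable {R : Type u} [CommRing R] {n : ℕ} {P' : Type u} [CommRing P'] [Algebra R P']
  [Algebra (MvPolynomial (Fin n) R) P'] [IsScalarTower R (MvPolynomial (Fin n) R) P']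
  (I : Ideal R) (L : Ideal (MvPolynomial (Fin n) R))
  (g : Fin n → MvPolynomial (Fin n) R) (π : Matrix (Fin n) (Fin n) P')

/-- `P → P' → T'` -/
noncomputable def thetaHom : MvPolynomial (Fin n) R →+* P' ⧸ Ideal.span (Set.range (twisted π g)) :=
  (Ideal.Quotient.mk _).comp (algebraMap (MvPolynomial (Fin n) R) P')

variable (hgL : ∀ l, g l ∈ L)
  (hstar : ∀ x ∈ L, x - ∑ k, pderiv k x * g k ∈
    L ^ 2 ⊔ I.map (C : R →+* MvPolynomial (Fin n) R))
  (hπ : ∀ j l, π j l - algebraMap (MvPolynomial (Fin n) R) P' (pderiv j (g l)) ∈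
    L.map (algebraMap (MvPolynomial (Fin n) R) P'))

theorem map_theta_sup_le :
    (L ^ 2 ⊔ I.map (C : R →+* MvPolynomial (Fin n) R)).map (thetaHom g π) ≤
      (L.map (thetaHom g π)) ^ 2 ⊔
        I.map (algebraMap R (P' ⧸ Ideal.span (Set.range (twisted π g)))) := by
  rw [Ideal.map_sup, Ideal.map_pow, Ideal.map_map]
  refine sup_le_sup le_rfl (le_of_eq ?_)
  congr 1
  ext r
  simp only [thetaHom, RingHom.comp_apply]
  rw [← MvPolynomial.algebraMap_eq, ← IsScalarTower.algebraMap_apply R _ P',
    IsScalarTower.algebraMap_apply R P' (P' ⧸ Ideal.span (Set.range (twisted π g)))]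
  rfl

include hgL hstar hπ in
theorem theta_g_mem (k : Fin n) :
    thetaHom g π (g k) ∈ (L.map (thetaHom g π)) ^ 2 ⊔
      I.map (algebraMap R (P' ⧸ Ideal.span (Set.range (twisted π g)))) := by
  have hK : Ideal.Quotient.mk (Ideal.span (Set.range (twisted π g))) (twisted π g k) = 0 :=
    Ideal.Quotient.eq_zero_iff_mem.2 (Ideal.subset_span ⟨k, rfl⟩)
  have e : thetaHom g π (g k) =
      thetaHom g π (g k - ∑ l, pderiv l (g k) * g l) -
        ∑ l, Ideal.Quotient.mk (Ideal.span (Set.range (twisted π g)))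
          (π l k - algebraMap (MvPolynomial (Fin n) R) P' (pderiv l (g k))) *
          thetaHom g π (g l) := by
    have h0 : thetaHom g π (g k) = thetaHom g π (g k) -
        Ideal.Quotient.mk (Ideal.span (Set.range (twisted π g))) (twisted π g k) := by
      rw [hK, sub_zero]
    conv_lhs => rw [h0]
    simp only [twisted, thetaHom, map_sub, map_sum, map_mul, RingHom.comp_apply]
    rw [sub_sub, ← Finset.sum_add_distrib]
    congr 1
    refine Finset.sum_congr rfl fun l _ => ?_
    ring
  rw [e]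
  refine Ideal.sub_mem _ ?_ (Ideal.sum_mem _ fun l _ => ?_)
  · exact map_theta_sup_le I L g π (Ideal.mem_map_of_mem _ (hstar _ (hgL k)))
  · refine Ideal.mem_sup_left ?_
    rw [pow_two]
    refine Ideal.mul_mem_mul ?_ (Ideal.mem_map_of_mem _ (hgL l))
    have := Ideal.mem_map_of_mem (Ideal.Quotient.mk (Ideal.span (Set.range (twisted π g))))
      (hπ l k)
    rw [Ideal.map_map] at this
    exact this

include hgL hstar hπ in
theorem map_theta_le :
    L.map (thetaHom g π) ≤ (L.map (thetaHom g π)) ^ 2 ⊔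
      I.map (algebraMap R (P' ⧸ Ideal.span (Set.range (twisted π g)))) := by
  rw [Ideal.map_le_iff_le_comap]
  intro x hx
  rw [Ideal.mem_comap]
  have e : thetaHom g π x = thetaHom g π (x - ∑ k, pderiv k x * g k) +
      ∑ k, thetaHom g π (pderiv k x) * thetaHom g π (g k) := by
    rw [map_sub, map_sum]
    simp only [map_mul]
    ring
  rw [e]
  refine Ideal.add_mem _ ?_ (Ideal.sum_mem _ fun k _ => ?_)
  · exact map_theta_sup_le I L g π (Ideal.mem_map_of_mem _ (hstar _ hx))
  · exact Ideal.mul_mem_left _ _ (theta_g_mem I L g π hgL hstar hπ k)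

include hgL hstar hπ in
/-- The Nakayama step. -/
theorem exists_unit_mul_mem (hfg : ∃ s : Finset (MvPolynomial (Fin n) R),
      L = Ideal.span (s : Set (MvPolynomial (Fin n) R)) ⊔
        I.map (C : R →+* MvPolynomial (Fin n) R)) :
    ∃ u : P' ⧸ Ideal.span (Set.range (twisted π g)), u - 1 ∈ L.map (thetaHom g π) ∧
      ∀ x ∈ L.map (thetaHom g π),
        u * x ∈ I.map (algebraMap R (P' ⧸ Ideal.span (Set.range (twisted π g)))) := by
  classical
  obtain ⟨s, hs⟩ := hfg
  set T' := P' ⧸ Ideal.span (Set.range (twisted π g)) with hT'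
  set N : Ideal T' := L.map (thetaHom g π) with hN
  set IT : Ideal T' := I.map (algebraMap R T') with hIT
  have hle : N ≤ N ^ 2 ⊔ IT := map_theta_le I L g π hgL hstar hπ
  -- `N = span (θ s) ⊔ IT`
  have hNs : N = Ideal.span ((thetaHom g π) '' (s : Set (MvPolynomial (Fin n) R))) ⊔ IT := by
    rw [hN]
    conv_lhs => rw [hs]
    rw [Ideal.map_sup, Ideal.map_span, Ideal.map_map]
    congr 1
    rw [hIT]
    congr 1
    ext r
    simp only [thetaHom, RingHom.comp_apply]
    rw [← MvPolynomial.algebraMap_eq, ← IsScalarTower.algebraMap_apply R _ P',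
      IsScalarTower.algebraMap_apply R P' T']
    rfl
  -- the image of `N` in `T'/IT`
  let Nb : Submodule T' (T' ⧸ IT) := Submodule.map (Submodule.mkQ IT) N
  have hNbfg : Nb.FG := by
    have : Nb = Submodule.map (Submodule.mkQ IT)
        (Ideal.span ((thetaHom g π) '' (s : Set (MvPolynomial (Fin n) R)))) := by
      change Submodule.map (Submodule.mkQ IT) N = _
      rw [hNs, Submodule.map_sup]
      have : Submodule.map (Submodule.mkQ IT) IT = ⊥ := by
        rw [Submodule.mkQ_map_self]
      rw [this, sup_bot_eq]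
    rw [this]
    apply Submodule.FG.map
    exact ⟨s.image (thetaHom g π), by rw [Finset.coe_image]⟩
  have hNb : Nb ≤ N • Nb := by
    change Submodule.map (Submodule.mkQ IT) N ≤ N • Submodule.map (Submodule.mkQ IT) N
    rw [← Submodule.map_smul'']
    have h2 : Submodule.map (Submodule.mkQ IT) N ≤
        Submodule.map (Submodule.mkQ IT) (N ^ 2 ⊔ IT) := Submodule.map_mono hle
    refine h2.trans ?_
    rw [Submodule.map_sup]
    have : Submodule.map (Submodule.mkQ IT) IT = ⊥ := by
      rw [Submodule.mkQ_map_self]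
    rw [this, sup_bot_eq, pow_two]
    rfl
  obtain ⟨r, hr1, hr2⟩ :=
    Submodule.exists_sub_one_mem_and_smul_eq_zero_of_fg_of_le_smul N Nb hNbfg hNb
  refine ⟨r, hr1, fun x hx => ?_⟩
  have h3 := hr2 (Submodule.mkQ IT x) (Submodule.mem_map_of_mem hx)
  rw [← map_smul, Submodule.mkQ_apply, Submodule.Quotient.mk_eq_zero] at h3
  exact h3

end nak

end Groth.Agent.Lib.SmoothAlgLift22
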