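import Mathlib

/-!
# Lifting smooth algebras (helper22), part g: identifying the reduction of a localization
-/

set_option autoImplicit false
universe u

namespace Groth.Agent.Lib.SmoothAlgLift22

section iso

variable {R : Type u} [CommRing R] (I : Ideal R) {T : Type u} [CommRing T] [Algebra R T]
  {A₀ : Type u} [CommRing A₀] [Algebra (R ⧸ I) A₀] [Algebra R A₀] [IsScalarTower R (R ⧸ I) A₀]

/-- `χ₁ : T → A₀` a surjective `R`-algebra map, `u = w v` an element with `χ₁ u = 1` and
`v · ker χ₁ ⊆ I T`.  Then `T_u / I T_u ≅ A₀` as `R/I`-algebras. -/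
theorem nonempty_algEquiv_of_away (χ₁ : T →ₐ[R] A₀) (hχ₁ : Function.Surjective χ₁)
    (w v : T) (hu : χ₁ (w * v) = 1)
    (hv : ∀ x ∈ RingHom.ker χ₁, v * x ∈ I.map (algebraMap R T)) :
    Nonempty ((Localization.Away (w * v) ⧸
      I.map (algebraMap R (Localization.Away (w * v)))) ≃ₐ[R ⧸ I] A₀) := by
  classical
  set A := Localization.Away (w * v) with hA
  have hunit : IsUnit (χ₁ (w * v)) := by rw [hu]; exact isUnit_one
  let χ : A →ₐ[R] A₀ := IsLocalization.liftAlgHom (M := Submonoid.powers (w * v)) (f := χ₁) (by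
    rintro ⟨_, k, rfl⟩
    rw [map_pow, hu, one_pow]
    exact isUnit_one)
  have hχ : ∀ x : T, χ (algebraMap T A x) = χ₁ x := fun x => IsLocalization.lift_eq _ x
  have hχs : Function.Surjective χ := by
    intro y
    obtain ⟨x, rfl⟩ := hχ₁ y
    exact ⟨algebraMap T A x, hχ x⟩
  have hvu : IsUnit (algebraMap T A v) := by
    have h1 : IsUnit (algebraMap T A (w * v)) :=
      IsLocalization.map_units A (⟨w * v, Submonoid.mem_powers _⟩ : Submonoid.powers (w * v))
    rw [map_mul] at h1
    exact isUnit_of_mul_isUnit_right h1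
  have hker : RingHom.ker χ = I.map (algebraMap R A) := by
    apply le_antisymm
    · intro y hy
      obtain ⟨a, s, rfl⟩ := IsLocalization.exists_mk'_eq (Submonoid.powers (w * v)) y
      have h2 : χ₁ a = 0 := by
        have h3 : χ (IsLocalization.mk' A a s) * χ (algebraMap T A s) = χ (algebraMap T A a) := by
          rw [← map_mul, IsLocalization.mk'_spec]
        rw [(RingHom.mem_ker).1 hy, zero_mul, hχ] at h3
        exact h3.symm
      have h4 : v * a ∈ I.map (algebraMap R T) := hv a h2
      have h5 : algebraMap T A (v * a) ∈ I.map (algebraMap R A) := by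
        have := Ideal.mem_map_of_mem (algebraMap T A) h4
        rwa [Ideal.map_map, ← IsScalarTower.algebraMap_eq] at this
      rw [map_mul] at h5
      have h6 : algebraMap T A a ∈ I.map (algebraMap R A) := by
        have := Ideal.mul_mem_left _ ((hvu.unit⁻¹ : Aˣ) : A) h5
        rwa [← mul_assoc, IsUnit.val_inv_mul, one_mul] at this
      rw [IsLocalization.mk'_eq_mul_mk'_one]
      exact Ideal.mul_mem_right _ _ h6
    · rw [Ideal.map_le_iff_le_comap]
      intro i hi
      rw [Ideal.mem_comap, RingHom.mem_ker, χ.commutes,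
        IsScalarTower.algebraMap_apply R (R ⧸ I) A₀, Ideal.Quotient.algebraMap_eq,
        Ideal.Quotient.eq_zero_iff_mem.2 hi, map_zero]
  let e₁ : (A ⧸ I.map (algebraMap R A)) ≃+* A₀ :=
    (Ideal.quotEquivOfEq hker.symm).trans (RingHom.quotientKerEquivOfSurjective hχs)
  have he₁ : ∀ a : A, e₁ (Ideal.Quotient.mk _ a) = χ a := fun a => rfl
  refine ⟨AlgEquiv.ofRingEquiv (f := e₁) ?_⟩
  intro x
  obtain ⟨r, rfl⟩ := Ideal.Quotient.mk_surjective x
  have h7 : algebraMap (R ⧸ I) (A ⧸ I.map (algebraMap R A)) (Ideal.Quotient.mk I r) =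
      Ideal.Quotient.mk _ (algebraMap R A r) := rfl
  rw [h7, he₁, χ.commutes, IsScalarTower.algebraMap_apply R (R ⧸ I) A₀]
  rfl

end iso

end Groth.Agent.Lib.SmoothAlgLift22
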