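import Mathlib
import Groth.Agent.Lib.SmoothAlgLift22d
import Groth.Agent.Lib.SmoothAlgLift22e
import Groth.Agent.Lib.SmoothAlgLift22f
import Groth.Agent.Lib.SmoothAlgLift22g
import Groth.Agent.Lib.HSmooth22

/-!
# Lifting smooth algebras along a surjection (helper22; Elkik, Arabia; Stacks 07M8 (2))

`exists_smooth_lift`: `I` an ideal of `R`, `A₀` a smooth `R/I`-algebra.  Then there is a smooth
`R`-algebra `A` with `A / I A ≅ A₀` as `R/I`-algebras.
-/

set_option autoImplicit false
universe u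

namespace Groth.Agent.Lib.SmoothAlgLift22

open MvPolynomial Groth.Agent.Lib.PairEtaleNbhd Groth.Agent.Lib.SmoothLift22

theorem exists_smooth_lift {R A₀ : Type u} [CommRing R] (I : Ideal R) [CommRing A₀]
    [Algebra (R ⧸ I) A₀] [Algebra.Smooth (R ⧸ I) A₀] :
    ∃ (A : Type u) (_ : CommRing A) (_ : Algebra R A), Algebra.Smooth R A ∧
      Nonempty ((A ⧸ I.map (algebraMap R A)) ≃ₐ[R ⧸ I] A₀) := by
  classical
  obtain ⟨n, φb, hφb, hfg⟩ := (inferInstance : Algebra.FinitePresentation (R ⧸ I) A₀).out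
  obtain ⟨gb, hgb, hstar⟩ := exists_conormal_sections φb hφb
  choose g hg using fun j => redHom_surjective I (gb j)
  -- the étale neighbourhood with the projector
  obtain ⟨P', _, _, hP', π, t, ht, htπ, hπ⟩ :=
    exists_nbhd_projector (RingHom.ker (psi I φb)) (Matrix.of fun j l => pderiv j (g l))
      (jac_idem I φb gb hgb hstar g hg)
  letI : Algebra R P' :=
    ((algebraMap (MvPolynomial (Fin n) R) P').comp (algebraMap R (MvPolynomial (Fin n) R))).toAlgebra
  haveI : IsScalarTower R (MvPolynomial (Fin n) R) P' := IsScalarTower.of_algebraMap_eq fun _ => rfl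
  haveI : Algebra.Etale (MvPolynomial (Fin n) R) P' := hP'.etale
  have hgL : ∀ l, g l ∈ RingHom.ker (psi I φb) := g_mem_ker_psi I φb gb hgb g hg
  have hgL' : ∀ l, algebraMap (MvPolynomial (Fin n) R) P' (g l) ∈
      (RingHom.ker (psi I φb)).map (algebraMap (MvPolynomial (Fin n) R) P') :=
    fun l => Ideal.mem_map_of_mem _ (hgL l)
  -- finite presentation of the twisted quotient
  haveI : Algebra.FinitePresentation R P' :=
    Algebra.FinitePresentation.trans R (MvPolynomial (Fin n) R) P'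
  haveI : Algebra.FinitePresentation R (P' ⧸ Ideal.span (Set.range (twisted π g))) :=
    Algebra.FinitePresentation.quotient (R := R) (A := P')
      (I := Ideal.span (Set.range (twisted π g))) ⟨Finset.univ.image (twisted π g), by simp⟩
  -- smoothness near `V(L')`
  have hmapmap : ((RingHom.ker (psi I φb)).map (algebraMap (MvPolynomial (Fin n) R) P')).map
      (Ideal.Quotient.mk (Ideal.span (Set.range (twisted π g)))) =
      (RingHom.ker (psi I φb)).map (thetaHom g π) := by
    rw [Ideal.map_map]; rfl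
  have hsm : ∀ (q : Ideal (P' ⧸ Ideal.span (Set.range (twisted π g)))) [q.IsPrime],
      (RingHom.ker (psi I φb)).map (thetaHom g π) ≤ q → Algebra.IsSmoothAt R q := by
    intro q _ hq
    exact isSmoothAt_quotient _ g hgL' π t ht htπ hπ q (hmapmap ▸ hq)
  obtain ⟨u₁, hu₁, hu₁sm⟩ :=
    Groth.Agent.Lib.HSmooth22.exists_away_smooth ((RingHom.ker (psi I φb)).map (thetaHom g π)) hsm
  -- the Nakayama step
  have hfgL : ∃ s : Finset (MvPolynomial (Fin n) R),
      RingHom.ker (psi I φb) = Ideal.span (s : Set (MvPolynomial (Fin n) R)) ⊔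
        I.map (C : R →+* MvPolynomial (Fin n) R) := by
    obtain ⟨sb, hsb⟩ := hfg
    choose! lift hlift using fun x : MvPolynomial (Fin n) (R ⧸ I) => redHom_surjective I x
    refine ⟨sb.image lift, ?_⟩
    rw [← comap_ker_eq, ← ker_redHom]
    have h1 : (RingHom.ker (φb : MvPolynomial (Fin n) (R ⧸ I) →+* A₀)) =
        (Ideal.span ((sb.image lift : Finset _) : Set (MvPolynomial (Fin n) R))).map (redHom I) := by
      rw [Ideal.map_span, Finset.coe_image, ← Set.image_comp]
      have : (redHom I (n := n)) ∘ lift = id := funext hlift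
      rw [this, Set.image_id]
      exact hsb.symm
    rw [h1, Ideal.comap_map_of_surjective _ (redHom_surjective I)]
    rfl
  obtain ⟨u₂, hu₂, hu₂N⟩ := exists_unit_mul_mem I (RingHom.ker (psi I φb)) g π hgL
    (star_lift I φb gb hstar g hg) hπ hfgL
  -- the smooth algebra
  have hsmooth : Algebra.Smooth R (Localization.Away (u₁ * u₂)) := by
    rw [← Algebra.basicOpen_subset_smoothLocus_iff_smooth]
    rw [← Algebra.basicOpen_subset_smoothLocus_iff_smooth] at hu₁sm
    refine le_trans ?_ hu₁sm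
    intro p hp
    simp only [SetLike.mem_coe, PrimeSpectrum.mem_basicOpen] at hp ⊢
    exact fun h => hp (Ideal.mul_mem_right _ _ h)
  refine ⟨Localization.Away (u₁ * u₂), inferInstance, inferInstance, hsmooth, ?_⟩
  -- the map to `A₀`
  letI : Algebra R A₀ := ((algebraMap (R ⧸ I) A₀).comp (Ideal.Quotient.mk I)).toAlgebra
  haveI : IsScalarTower R (R ⧸ I) A₀ := IsScalarTower.of_algebraMap_eq fun _ => rfl
  let χ₀ : P' →+* A₀ := (RingHom.kerLift (psi I φb)).comp
    ((hP'.qbij.retr : P' →ₐ[MvPolynomial (Fin n) R] _) : P' →+* _)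
  have hχ₀ker : ∀ x : P', χ₀ x = 0 ↔
      x ∈ (RingHom.ker (psi I φb)).map (algebraMap (MvPolynomial (Fin n) R) P') := by
    intro x
    constructor
    · intro hx
      apply hP'.qbij.mem_of_retr_eq_zero
      exact (RingHom.kerLift_injective (psi I φb)) (by rw [map_zero]; exact hx)
    · intro hx
      change RingHom.kerLift (psi I φb) (hP'.qbij.retr x) = 0
      rw [algHom_eq_zero_of_mem hP'.qbij.retr hx, map_zero]
  have hχ₀alg : ∀ p : MvPolynomial (Fin n) R,
      χ₀ (algebraMap (MvPolynomial (Fin n) R) P' p) = psi I φb p := by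
    intro p
    change RingHom.kerLift (psi I φb) (hP'.qbij.retr (algebraMap _ P' p)) = _
    rw [AlgHom.commutes]
    rfl
  have hχ₀surj : Function.Surjective χ₀ := by
    intro y
    obtain ⟨p, rfl⟩ := psi_surjective I φb hφb y
    exact ⟨algebraMap _ P' p, hχ₀alg p⟩
  have hKker : ∀ x ∈ Ideal.span (Set.range (twisted π g)), χ₀ x = 0 := by
    intro x hx
    rw [hχ₀ker]
    refine (Ideal.span_le (I := (RingHom.ker (psi I φb)).map
      (algebraMap (MvPolynomial (Fin n) R) P'))).2 ?_ hx
    rintro _ ⟨k, rfl⟩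
    exact Ideal.sum_mem _ fun l _ => Ideal.mul_mem_left _ _ (hgL' l)
  let χ₁r : (P' ⧸ Ideal.span (Set.range (twisted π g))) →+* A₀ :=
    Ideal.Quotient.lift _ χ₀ hKker
  let χ₁ : (P' ⧸ Ideal.span (Set.range (twisted π g))) →ₐ[R] A₀ :=
    { χ₁r with
      commutes' := fun r => by
        change χ₀ (algebraMap (MvPolynomial (Fin n) R) P' (C r)) = _
        rw [hχ₀alg, psi_C]
        rfl }
  have hχ₁mk : ∀ x : P', χ₁ (Ideal.Quotient.mk _ x) = χ₀ x := fun x => rfl
  have hχ₁surj : Function.Surjective χ₁ := by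
    intro y
    obtain ⟨x, rfl⟩ := hχ₀surj y
    exact ⟨Ideal.Quotient.mk _ x, hχ₁mk x⟩
  have hχ₁ker : ∀ x, x ∈ RingHom.ker χ₁ ↔ x ∈ (RingHom.ker (psi I φb)).map (thetaHom g π) := by
    intro x
    obtain ⟨x, rfl⟩ := Ideal.Quotient.mk_surjective x
    rw [RingHom.mem_ker, hχ₁mk, hχ₀ker, ← hmapmap]
    constructor
    · intro hx
      exact Ideal.mem_map_of_mem _ hx
    · intro hx
      rw [Ideal.mem_map_iff_of_surjective _ Ideal.Quotient.mk_surjective] at hx
      obtain ⟨y, hy, hxy⟩ := hx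
      have h1 : x - y ∈ Ideal.span (Set.range (twisted π g)) := by
        rw [← Ideal.Quotient.eq_zero_iff_mem, map_sub, hxy, sub_self]
      have h2 : x - y ∈ (RingHom.ker (psi I φb)).map (algebraMap (MvPolynomial (Fin n) R) P') := by
        rw [← hχ₀ker]
        exact hKker _ h1
      have := Ideal.add_mem _ h2 hy
      rwa [sub_add_cancel] at this
  have hu1 : χ₁ (u₁ * u₂) = 1 := by
    have h1 : χ₁ (u₁ - 1) = 0 := (hχ₁ker _).2 hu₁
    have h2 : χ₁ (u₂ - 1) = 0 := (hχ₁ker _).2 hu₂
    rw [map_sub, map_one, sub_eq_zero] at h1 h2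
    rw [map_mul, h1, h2, one_mul]
  exact nonempty_algEquiv_of_away I χ₁ hχ₁surj u₁ u₂ hu1
    (fun x hx => hu₂N x ((hχ₁ker x).1 hx))

end Groth.Agent.Lib.SmoothAlgLift22
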