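import Groth.Agent.Lib.HEtale
import Groth.Agent.Lib.SmoothAlgLift22h
import Groth.Agent.Lib.SmoothLift22b

/-!
# h-smooth maps are quotients of henselized smooth algebras (helper22)

`exists_smooth_surjection`: `(A, I)` a henselian pair, `B` the henselization of a finitely presented
`A`-algebra with `A/I → B/IB` smooth.  Then `B` is a quotient of the henselization `H` of a smooth
`A`-algebra by a finitely generated ideal, and `H/IH → B/IB` is injective.
-/

set_option autoImplicit false
universe u

namespace Groth.Agent.Lib.HSmoothSurj22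

open TensorProduct Groth.Agent.Lib.PairEtaleNbhd Groth.Agent.Lib.PairHenselizationEtale
  Groth.Agent.Lib.PairHenselization Groth.Agent.Lib.HFP Groth.Agent.Lib.HEtale

/-- Sections of smooth algebras lift along henselian pairs, relative version. -/
theorem exists_lift_of_smooth_of_algebra {A S C : Type u} [CommRing A] [CommRing S] [CommRing C]
    [Algebra A S] [Algebra A C] [Algebra.Smooth A S] (J : Ideal C) [HenselianRing C J]
    (σ : S →ₐ[A] C ⧸ J) : ∃ τ : S →ₐ[A] C, (Ideal.Quotient.mkₐ A J).comp τ = σ := by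
  let σC : C ⊗[A] S →ₐ[C] C ⧸ J :=
    Algebra.TensorProduct.lift (Algebra.ofId C _) σ (fun _ _ => Commute.all _ _)
  obtain ⟨τC, hτC⟩ := Groth.Agent.Lib.SmoothLift22.exists_lift_of_smooth J σC
  refine ⟨(τC.restrictScalars A).comp Algebra.TensorProduct.includeRight, ?_⟩
  ext s
  have := congr($hτC ((1 : C) ⊗ₜ[A] s))
  simpa [σC] using this

theorem exists_smooth_surjection (A : Type u) [CommRing A] (I : Ideal A) [HenselianRing A I]
    (R₀ : Type u) [CommRing R₀] [Algebra A R₀] [Algebra.FinitePresentation A R₀]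
    (B : Type u) [CommRing B] [Algebra R₀ B] [Algebra A B] [IsScalarTower A R₀ B]
    (hB : Hens2.IsPairHenselization R₀ (I.map (algebraMap A R₀)) B)
    [het : Algebra.Smooth (A ⧸ I ^ 1) (B ⧸ (I ^ 1).map (algebraMap A B))] :
    ∃ (R : Type u) (_ : CommRing R) (_ : Algebra A R) (H : Type u) (_ : CommRing H)
      (_ : Algebra R H) (_ : Algebra A H) (_ : IsScalarTower A R H),
      Algebra.Smooth A R ∧ Hens2.IsPairHenselization R (I.map (algebraMap A R)) H ∧
      ∃ φ : H →ₐ[A] B, Function.Surjective φ ∧ (RingHom.ker φ).FG ∧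
        ∀ x : H, φ x ∈ I.map (algebraMap A B) → x ∈ I.map (algebraMap A H) := by
  -- Step 1: lift the smooth algebra `B/IB` over `A/I` to a smooth `A`-algebra `R`
  obtain ⟨R, _, _, hRsm, ⟨e⟩⟩ :=
    Groth.Agent.Lib.SmoothAlgLift22.exists_smooth_lift (R := A) (I ^ 1)
      (A₀ := B ⧸ (I ^ 1).map (algebraMap A B))
  let ψ : R →ₐ[A] B ⧸ (I ^ 1).map (algebraMap A B) :=
    { toRingHom := (e : _ →+* _).comp (Ideal.Quotient.mk ((I ^ 1).map (algebraMap A R)))
      commutes' := fun a => by
        change e (Ideal.Quotient.mk _ (algebraMap A R a)) = _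
        have h1 : Ideal.Quotient.mk ((I ^ 1).map (algebraMap A R)) (algebraMap A R a) =
            algebraMap (A ⧸ I ^ 1) (R ⧸ (I ^ 1).map (algebraMap A R))
              (Ideal.Quotient.mk (I ^ 1) a) := rfl
        rw [h1, e.commutes]
        rfl }
  have hψ : Function.Surjective ψ := fun y => by
    obtain ⟨x, hx⟩ := e.surjective y
    obtain ⟨r, rfl⟩ := Ideal.Quotient.mk_surjective x
    exact ⟨r, hx⟩
  have hker' : RingHom.ker ψ = I.map (algebraMap A R) := by
    ext r
    rw [RingHom.mem_ker]
    change e (Ideal.Quotient.mk _ r) = 0 ↔ _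
    rw [map_eq_zero_iff e e.injective, Ideal.Quotient.eq_zero_iff_mem, pow_one]
  -- Step 2: lift `R → B/IB` to `ρ : R → B`
  have hIB : (I.map (algebraMap A R₀)).map (algebraMap R₀ B) = (I ^ 1).map (algebraMap A B) := by
    rw [Ideal.map_map, ← IsScalarTower.algebraMap_eq, pow_one]
  have hHB : HenselianRing B ((I ^ 1).map (algebraMap A B)) := hIB ▸ hB.1
  obtain ⟨ρ, hρ⟩ := exists_lift_of_smooth_of_algebra (A := A) (S := R)
    ((I ^ 1).map (algebraMap A B)) ψ
  have hHB1 : HenselianRing B (I.map (algebraMap A B)) := by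
    have := hHB
    rwa [pow_one] at this
  -- Step 3: extend to the henselization `H` of `(R, IR)`
  let H := Hzn2 R (I.map (algebraMap A R))
  let _ : Algebra A H := ((algebraMap R H).comp (algebraMap A R)).toAlgebra
  have tower : IsScalarTower A R H := IsScalarTower.of_algebraMap_eq (fun _ => rfl)
  have hH : Hens2.IsPairHenselization R (I.map (algebraMap A R)) H := isPairHenselization _ _
  have hρI : (I.map (algebraMap A R)).map ρ.toRingHom ≤ I.map (algebraMap A B) := by
    rw [Ideal.map_map]
    apply le_of_eq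
    congr 1
    exact ρ.comp_algebraMap
  obtain ⟨φ₀, hφ₀, -⟩ := hH.2 B (I.map (algebraMap A B)) ρ.toRingHom hHB1 hρI
  have hφ₀' : ∀ r : R, φ₀ (algebraMap R H r) = ρ r := fun r =>
    congrArg (fun k : R →+* B => k r) hφ₀
  let φ : H →ₐ[A] B :=
    { toRingHom := φ₀
      commutes' := fun a => by
        change φ₀ (algebraMap R H (algebraMap A R a)) = algebraMap A B a
        rw [hφ₀']
        exact ρ.commutes a }
  -- Step 4: `φ` is surjective
  let _ : Algebra H B := φ.toRingHom.toAlgebra
  have towerB : IsScalarTower A H B :=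
    IsScalarTower.of_algebraMap_eq (fun a => (φ.commutes a).symm)
  have : Algebra.FinitePresentation A R := hRsm.finitePresentation
  obtain ⟨T, _, _, _, towerT, hTfp, hBT⟩ := exists_fp_of_algebra I R H hH R₀ B hB
  have hIH : (I.map (algebraMap A R)).map (algebraMap R H) = I.map (algebraMap A H) := by
    rw [Ideal.map_map, ← IsScalarTower.algebraMap_eq]
  have hHH : HenselianRing H (I.map (algebraMap A H)) := hIH ▸ hH.1
  have hIHB : (I.map (algebraMap A H)).map (algebraMap H B) = I.map (algebraMap A B) := by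
    rw [Ideal.map_map, ← IsScalarTower.algebraMap_eq]
  have hsurjq : Function.Surjective (Ideal.quotientMap
      ((I.map (algebraMap A H)).map (algebraMap H B)) (algebraMap H B) Ideal.le_comap_map) := by
    intro y
    obtain ⟨b, rfl⟩ := Ideal.Quotient.mk_surjective y
    obtain ⟨r, hr⟩ := hψ (Ideal.Quotient.mk _ b)
    refine ⟨Ideal.Quotient.mk _ (algebraMap R H r), ?_⟩
    rw [Ideal.quotientMap_mk, Ideal.Quotient.eq, hIHB]
    have h1 : algebraMap H B (algebraMap R H r) = ρ r := hφ₀' r
    rw [h1]
    have h2 : Ideal.Quotient.mk ((I ^ 1).map (algebraMap A B)) (ρ r) = Ideal.Quotient.mk _ b := by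
      rw [← hr, ← hρ]
      rfl
    rw [Ideal.Quotient.eq, pow_one] at h2
    exact h2
  have hφsurj : Function.Surjective (algebraMap H B) :=
    Groth.Agent.S17597.result H (I.map (algebraMap A H)) T B hBT hsurjq
  -- Step 5: the kernel is finitely generated
  have hfg : (RingHom.ker (algebraMap H B)).FG :=
    fg_ker_of_surjective H (I.map (algebraMap A H)) T B hBT hφsurj
  -- Step 6: injectivity modulo `I`
  have hqb : QBij (I.map (algebraMap A R)) H := qbij_of_isPairHenselization hH
  have h6 : ∀ x : H, φ x ∈ I.map (algebraMap A B) → x ∈ I.map (algebraMap A H) := by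
    intro x hx
    obtain ⟨r, hr⟩ := hqb.exists_sub_mem x
    rw [hIH] at hr
    have h1 : φ (algebraMap R H r) = ρ r := hφ₀' r
    have h2 : φ (x - algebraMap R H r) ∈ I.map (algebraMap A B) := by
      have := Ideal.mem_map_of_mem (algebraMap H B) hr
      rwa [hIHB] at this
    have h3 : ρ r ∈ I.map (algebraMap A B) := by
      have : ρ r = φ x - φ (x - algebraMap R H r) := by
        rw [map_sub, h1]
        ring
      rw [this]
      exact sub_mem hx h2
    have h4 : r ∈ RingHom.ker ψ := by
      rw [RingHom.mem_ker, ← hρ]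
      change Ideal.Quotient.mk _ (ρ r) = 0
      rw [Ideal.Quotient.eq_zero_iff_mem, pow_one]
      exact h3
    rw [hker'] at h4
    have h5 : algebraMap R H r ∈ I.map (algebraMap A H) := by
      rw [← hIH]
      exact Ideal.mem_map_of_mem _ h4
    have : x = (x - algebraMap R H r) + algebraMap R H r := by ring
    rw [this]
    exact add_mem hr h5
  exact ⟨R, inferInstance, inferInstance, H, inferInstance, inferInstance, inferInstance, tower,
    hRsm, hH, φ, hφsurj, hfg, h6⟩

end Groth.Agent.Lib.HSmoothSurj22
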