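import Groth.Agent.Lib.HFP
import Groth.Agent.Lib.PairHenselizationProps
import Groth.Agent.Lib.HenselQFDecomp

/-!
# Descent from `H ⊗ B` to `A' ⊗ B` for étale neighbourhoods `A'`

Let `H` be a henselization of the pair `(A, I)` and `B` an `A`-algebra.  Then `H ⊗[A] B` is the
filtered colimit of the `A' ⊗[A] B` over the étale neighbourhoods `A'` of `(A, I)`.  We prove
the elementwise versions: finitely many elements of `H ⊗ B` come from some `A' ⊗ B`, and finitely
many elements of `A' ⊗ B` dying in `H ⊗ B` die in `A'' ⊗ B` for a further neighbourhood.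
-/

set_option autoImplicit false
universe u

namespace Groth.Agent.Lib.HTensorDescent

open TensorProduct Groth.Agent.Lib.PairEtaleNbhd Groth.Agent.Lib.PairHenselizationEtale
  Groth.Agent.Lib.PairHenselization Groth.Agent.Lib.HFP

section FlatTrick

variable {R S B' : Type u} [CommRing R] [CommRing S] [CommRing B'] [Algebra R S] [Algebra S B']
  [Algebra R B'] [IsScalarTower R S B']

/-- If `B'` is flat over `S` and `x : S ⊗[R] E` dies in `B' ⊗[R] E`, then the annihilator of `x`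
in `S` generates the unit ideal of `B'`. -/
theorem one_mem_map_ker_of_flat [Module.Flat S B'] {E : Type u} [AddCommGroup E] [Module R E]
    (x : S ⊗[R] E)
    (hx : LinearMap.rTensor E (IsScalarTower.toAlgHom R S B').toLinearMap x = 0) :
    (1 : B') ∈ Ideal.map (algebraMap S B')
      (LinearMap.ker (LinearMap.toSpanSingleton S (S ⊗[R] E) x) : Ideal S) := by
  set g := LinearMap.rTensor E (IsScalarTower.toAlgHom R S B').toLinearMap with hg
  let tx : S →ₗ[S] S ⊗[R] E := LinearMap.toSpanSingleton S _ x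
  let 𝔞 : Ideal S := LinearMap.ker tx
  let ι : (S ⧸ 𝔞) →ₗ[S] S ⊗[R] E := Submodule.liftQ 𝔞 tx le_rfl
  have hι : Function.Injective ι := by
    rw [← LinearMap.ker_eq_bot]
    exact Submodule.ker_liftQ_eq_bot' 𝔞 tx rfl
  have hιB : Function.Injective (ι.lTensor B') :=
    Module.Flat.lTensor_preserves_injective_linearMap ι hι
  let c := TensorProduct.AlgebraTensorModule.cancelBaseChange R S S B' E
  have hc : ∀ y : S ⊗[R] E, c ((1 : B') ⊗ₜ[S] y) = g y := by
    intro y
    induction y using TensorProduct.induction_on with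
    | zero => simp
    | tmul s e =>
      rw [TensorProduct.AlgebraTensorModule.cancelBaseChange_tmul]
      change (s • (1 : B')) ⊗ₜ[R] e = (algebraMap S B' s) ⊗ₜ[R] e
      rw [Algebra.smul_def, mul_one]
    | add y z hy hz => rw [TensorProduct.tmul_add, map_add, map_add, hy, hz]
  have h1 : (1 : B') ⊗ₜ[S] x = 0 := by
    apply c.injective
    rw [hc, hx, map_zero]
  have h2 : (1 : B') ⊗ₜ[S] (Submodule.Quotient.mk (1 : S) : S ⧸ 𝔞) = 0 := by
    apply hιB
    rw [LinearMap.lTensor_tmul, map_zero]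
    have : ι (Submodule.Quotient.mk (1 : S)) = x := by
      change tx 1 = x
      rw [LinearMap.toSpanSingleton_apply, one_smul]
    rw [this, h1]
  let θ : B' →ₐ[S] B' ⧸ 𝔞.map (algebraMap S B') := Ideal.Quotient.mkₐ S _
  have hψ : ∀ a ∈ 𝔞, (Algebra.ofId S (B' ⧸ 𝔞.map (algebraMap S B'))) a = 0 := by
    intro a ha
    change algebraMap S (B' ⧸ 𝔞.map (algebraMap S B')) a = 0
    rw [IsScalarTower.algebraMap_apply S B' (B' ⧸ 𝔞.map (algebraMap S B')),
      Ideal.Quotient.algebraMap_eq, Ideal.Quotient.eq_zero_iff_mem]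
    exact Ideal.mem_map_of_mem _ ha
  let ψ : (S ⧸ 𝔞) →ₐ[S] B' ⧸ 𝔞.map (algebraMap S B') :=
    Ideal.Quotient.liftₐ 𝔞 (Algebra.ofId S _) hψ
  have h3 := congrArg (Algebra.TensorProduct.productMap θ ψ) h2
  rw [map_zero, Algebra.TensorProduct.productMap_apply_tmul, map_one] at h3
  have h4 : ψ (Submodule.Quotient.mk (1 : S) : S ⧸ 𝔞) = 1 := map_one ψ
  rw [h4, mul_one] at h3
  rw [← Ideal.Quotient.eq_zero_iff_mem, map_one]
  exact h3

end FlatTrick

variable {A : Type u} [CommRing A] {I : Ideal A} {H : Type u} [CommRing H] [Algebra A H]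

/-- The henselization is flat over every étale neighbourhood. -/
theorem flat_of_isNbhd (hH : Hens2.IsPairHenselization A I H) {A' : Type u} [CommRing A']
    [Algebra A A'] [Algebra A' H] [IsScalarTower A A' H] (hA' : IsNbhd I A') :
    Module.Flat A' H := by
  have := hA'.etale
  set J := I.map (algebraMap A A') with hJ
  let _ : Algebra A (Hzn2 A' J) := ((algebraMap A' (Hzn2 A' J)).comp (algebraMap A A')).toAlgebra
  have : IsScalarTower A A' (Hzn2 A' J) := IsScalarTower.of_algebraMap_eq (fun _ => rfl)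
  have hH' : Hens2.IsPairHenselization A I (Hzn2 A' J) :=
    isPairHenselization_of_etale_nbhd I hA'.qbij (Hzn2 A' J) (isPairHenselization A' J)
  let e : Hzn2 A' J ≃ₐ[A] H := (equivHzn2 hH').trans (equivHzn2 hH).symm
  have hφ : IsScalarTower.toAlgHom A A' H =
      (e : Hzn2 A' J →ₐ[A] H).comp (IsScalarTower.toAlgHom A A' (Hzn2 A' J)) :=
    algHom_ext hH hA' _ _
  have hflat : Module.Flat A' (Hzn2 A' J) := flat_of_isPairHenselization (isPairHenselization A' J)
  let eL : H ≃ₗ[A'] Hzn2 A' J :=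
    { e.symm.toLinearEquiv with
      map_smul' := by
        intro a' x
        change e.symm (a' • x) = a' • e.symm x
        rw [Algebra.smul_def, Algebra.smul_def, map_mul]
        congr 1
        have := AlgHom.congr_fun hφ a'
        change algebraMap A' H a' = e (algebraMap A' (Hzn2 A' J) a') at this
        rw [this, AlgEquiv.symm_apply_apply] }
  exact Module.Flat.of_linearEquiv eL

/-- Bundled étale neighbourhoods of the pair `(A, I)`. -/
structure Nb (A : Type u) [CommRing A] (I : Ideal A) where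
  /-- the underlying ring -/
  X : Type u
  [ring : CommRing X]
  [alg : Algebra A X]
  isNbhd : IsNbhd I X

attribute [instance] Nb.ring Nb.alg

section Descent

variable (hH : Hens2.IsPairHenselization A I H)

/-- The unique map from an étale neighbourhood to the henselization. -/
noncomputable def Nb.φ (N : Nb A I) : N.X →ₐ[A] H :=
  (existsUnique_algHom hH N.isNbhd).exists.choose

theorem Nb.φ_eq (N : Nb A I) (θ : N.X →ₐ[A] H) : θ = N.φ hH := algHom_ext hH N.isNbhd _ _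

theorem Nb.φ_comp {N N' : Nb A I} (ψ : N.X →ₐ[A] N'.X) : (N'.φ hH).comp ψ = N.φ hH :=
  algHom_ext hH N.isNbhd _ _

theorem Nb.φ_comp_apply {N N' : Nb A I} (ψ : N.X →ₐ[A] N'.X) (x : N.X) :
    N'.φ hH (ψ x) = N.φ hH x := AlgHom.congr_fun (Nb.φ_comp hH ψ) x

variable (B : Type u) [CommRing B] [Algebra A B]

/-- base change of a map of `A`-algebras to `B` -/
noncomputable abbrev tmap {X Y : Type u} [CommRing X] [CommRing Y] [Algebra A X] [Algebra A Y]
    (ψ : X →ₐ[A] Y) : X ⊗[A] B →ₐ[A] Y ⊗[A] B :=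
  Algebra.TensorProduct.map ψ (AlgHom.id A B)

/-- The map `N ⊗ B → H ⊗ B`. -/
noncomputable def Nb.τ (N : Nb A I) : N.X ⊗[A] B →ₐ[A] H ⊗[A] B := tmap B (N.φ hH)

theorem tmap_comp {X Y Z : Type u} [CommRing X] [CommRing Y] [CommRing Z] [Algebra A X]
    [Algebra A Y] [Algebra A Z] (ψ : X →ₐ[A] Y) (χ : Y →ₐ[A] Z) (x : X ⊗[A] B) :
    tmap B χ (tmap B ψ x) = tmap B (χ.comp ψ) x := by
  induction x using TensorProduct.induction_on with
  | zero => simp
  | tmul a b => simp
  | add y z hy hz => simp only [map_add, hy, hz]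

theorem Nb.τ_tmap {N N' : Nb A I} (ψ : N.X →ₐ[A] N'.X) (x : N.X ⊗[A] B) :
    N'.τ hH B (tmap B ψ x) = N.τ hH B x := by
  rw [Nb.τ, Nb.τ, tmap_comp, Nb.φ_comp]

theorem tmap_eq_rTensor {X Y : Type u} [CommRing X] [CommRing Y] [Algebra A X] [Algebra A Y]
    (ψ : X →ₐ[A] Y) (x : X ⊗[A] B) : tmap B ψ x = LinearMap.rTensor B ψ.toLinearMap x := by
  induction x using TensorProduct.induction_on with
  | zero => simp
  | tmul a b => simp
  | add y z hy hz => simp only [map_add, hy, hz]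

theorem tmap_smul {X Y : Type u} [CommRing X] [CommRing Y] [Algebra A X] [Algebra A Y]
    (ψ : X →ₐ[A] Y) (a : X) (x : X ⊗[A] B) : tmap B ψ (a • x) = ψ a • tmap B ψ x := by
  rw [Algebra.smul_def, Algebra.smul_def, map_mul]
  congr 1

/-- Finitely many elements of `H ⊗ B` and of `H` come from a common étale neighbourhood. -/
theorem exists_nb_of_finset (Z : Finset (H ⊗[A] B)) (W : Finset H) :
    ∃ N : Nb A I, (∀ z ∈ Z, z ∈ (N.τ hH B).range) ∧ ∀ w ∈ W, w ∈ (N.φ hH).range := by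
  classical
  choose S hS using fun z : H ⊗[A] B => TensorProduct.exists_finset z
  let T : Finset H := W ∪ Z.biUnion (fun z => (S z).image Prod.fst)
  obtain ⟨A', _, _, hA', φ, hφ⟩ := exists_nbhd_of_finset hH T
  let N : Nb A I := ⟨A', hA'⟩
  have hφN : φ = N.φ hH := N.φ_eq hH φ
  refine ⟨N, fun z hz => ?_, fun w hw => ?_⟩
  · rw [hS z]
    refine Subalgebra.sum_mem _ fun p hp => ?_
    have hp1 : p.1 ∈ T :=
      Finset.mem_union_right _ (Finset.mem_biUnion.2 ⟨z, hz, Finset.mem_image_of_mem _ hp⟩)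
    obtain ⟨a', ha'⟩ := hφ _ hp1
    refine ⟨a' ⊗ₜ[A] p.2, ?_⟩
    change tmap B (N.φ hH) (a' ⊗ₜ[A] p.2) = _
    rw [← hφN]
    simp only [Algebra.TensorProduct.map_tmul, AlgHom.coe_id, id_eq]
    rw [← ha']
    rfl
  · rw [← hφN]
    exact hφ _ (Finset.mem_union_left _ hw)

/-- An ideal of an étale neighbourhood generating the unit ideal of the henselization generates
the unit ideal of a further étale neighbourhood. -/
theorem exists_nb_one_mem (N : Nb A I) (𝔞 : Ideal N.X) (h : (1 : H) ∈ 𝔞.map (N.φ hH)) :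
    ∃ (N' : Nb A I) (ψ : N.X →ₐ[A] N'.X), (1 : N'.X) ∈ 𝔞.map ψ := by
  classical
  rw [Ideal.map, Ideal.span, Submodule.mem_span_image_iff_exists_fun] at h
  obtain ⟨t, ht, c, hc⟩ := h
  obtain ⟨N₁, -, hW⟩ := exists_nb_of_finset hH A ∅ (Finset.univ.image c)
  have hd : ∀ i : t, ∃ d : N₁.X, N₁.φ hH d = c i := fun i =>
    hW _ (Finset.mem_image_of_mem _ (Finset.mem_univ i))
  choose d hd using hd
  let N₂ : Nb A I := ⟨N.X ⊗[A] N₁.X, N.isNbhd.tensor N₁.isNbhd⟩
  let ψ₀ : N.X →ₐ[A] N₂.X := Algebra.TensorProduct.includeLeft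
  let ψ₁ : N₁.X →ₐ[A] N₂.X := Algebra.TensorProduct.includeRight
  let u : N₂.X := 1 - ∑ i : t, ψ₁ (d i) * ψ₀ (i : N.X)
  have hu : N₂.φ hH u = 0 := by
    rw [map_sub, map_one, map_sum, sub_eq_zero, ← hc]
    refine Finset.sum_congr rfl fun i _ => ?_
    rw [map_mul, Nb.φ_comp_apply, Nb.φ_comp_apply, hd, smul_eq_mul]
  obtain ⟨t', ht', htu⟩ := exists_mul_eq_zero_of_algHom_eq_zero hH N₂.isNbhd (N₂.φ hH) u hu
  let N₃ : Nb A I := ⟨Localization.Away t', N₂.isNbhd.away t' ht'⟩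
  let ψ : N.X →ₐ[A] N₃.X := (IsScalarTower.toAlgHom A N₂.X N₃.X).comp ψ₀
  refine ⟨N₃, ψ, ?_⟩
  have hunit : IsUnit (algebraMap N₂.X N₃.X t') := IsLocalization.Away.algebraMap_isUnit t'
  have hu0 : algebraMap N₂.X N₃.X u = 0 := by
    have h2 : algebraMap N₂.X N₃.X t' * algebraMap N₂.X N₃.X u = 0 := by
      rw [← map_mul, htu, map_zero]
    exact (hunit.mul_right_eq_zero).mp h2
  have h1 : (1 : N₃.X) = ∑ i : t, algebraMap N₂.X N₃.X (ψ₁ (d i)) * ψ (i : N.X) := by
    have := hu0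
    rw [map_sub, map_one, sub_eq_zero, map_sum] at this
    rw [this]
    refine Finset.sum_congr rfl fun i _ => ?_
    rw [map_mul]
    rfl
  rw [h1]
  refine Ideal.sum_mem _ fun i _ => Ideal.mul_mem_left _ _ (Ideal.mem_map_of_mem _ (ht i.2))

/-- The annihilator of an element of `N ⊗ B` dying in `H ⊗ B` generates the unit ideal of `H`. -/
theorem one_mem_map_ann (N : Nb A I) (y : N.X ⊗[A] B) (hy : N.τ hH B y = 0) :
    (1 : H) ∈ Ideal.map (N.φ hH)
      (LinearMap.ker (LinearMap.toSpanSingleton N.X (N.X ⊗[A] B) y) : Ideal N.X) := by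
  let _ : Algebra N.X H := (N.φ hH).toRingHom.toAlgebra
  have : IsScalarTower A N.X H := IsScalarTower.of_algebraMap_eq fun a => ((N.φ hH).commutes a).symm
  have : Module.Flat N.X H := flat_of_isNbhd hH N.isNbhd
  have hφ : IsScalarTower.toAlgHom A N.X H = N.φ hH := (N.φ_eq hH _)
  have h := one_mem_map_ker_of_flat (R := A) (S := N.X) (B' := H) (E := B) y (by
    rw [hφ, ← tmap_eq_rTensor]
    exact hy)
  exact h

/-- Finitely many elements of `N ⊗ B` dying in `H ⊗ B` die in `N' ⊗ B` for a further étale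
neighbourhood `N'`. -/
theorem exists_nb_of_map_eq_zero (N : Nb A I) (Y : Finset (N.X ⊗[A] B))
    (hY : ∀ y ∈ Y, N.τ hH B y = 0) :
    ∃ (N' : Nb A I) (ψ : N.X →ₐ[A] N'.X), ∀ y ∈ Y, tmap B ψ y = 0 := by
  classical
  have h1 : ∃ 𝔞 : Ideal N.X, (∀ y ∈ Y, ∀ a ∈ 𝔞, a • y = 0) ∧ (1 : H) ∈ 𝔞.map (N.φ hH) := by
    induction Y using Finset.induction_on with
    | empty =>
      refine ⟨⊤, by simp, ?_⟩
      rw [Ideal.map_top]
      exact Submodule.mem_top
    | insert y Y₀ hy ih =>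
      obtain ⟨𝔞₀, h𝔞₀, h1₀⟩ := ih fun y hy' => hY y (Finset.mem_insert_of_mem hy')
      have h1y := one_mem_map_ann hH B N y (hY y (Finset.mem_insert_self _ _))
      set 𝔞y : Ideal N.X := LinearMap.ker (LinearMap.toSpanSingleton N.X (N.X ⊗[A] B) y)
      refine ⟨𝔞₀ * 𝔞y, ?_, ?_⟩
      · intro z hz a ha
        have ha' := Ideal.mul_le_inf ha
        rcases Finset.mem_insert.1 hz with rfl | hz
        · have : a ∈ 𝔞y := ha'.2
          rw [LinearMap.mem_ker, LinearMap.toSpanSingleton_apply] at this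
          exact this
        · exact h𝔞₀ z hz a ha'.1
      · rw [Ideal.map_mul]
        have := Ideal.mul_mem_mul h1₀ h1y
        rwa [one_mul] at this
  obtain ⟨𝔞, h𝔞, h1𝔞⟩ := h1
  obtain ⟨N', ψ, hψ⟩ := exists_nb_one_mem hH N 𝔞 h1𝔞
  refine ⟨N', ψ, fun y hy => ?_⟩
  let K : Ideal N'.X := LinearMap.ker (LinearMap.toSpanSingleton N'.X (N'.X ⊗[A] B) (tmap B ψ y))
  have hle : 𝔞.map ψ ≤ K := by
    rw [Ideal.map_le_iff_le_comap]
    intro a ha
    change ψ a ∈ K
    rw [LinearMap.mem_ker, LinearMap.toSpanSingleton_apply, ← tmap_smul, h𝔞 y hy a ha, map_zero]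
  have h2 : (1 : N'.X) ∈ K := hle hψ
  rw [LinearMap.mem_ker, LinearMap.toSpanSingleton_apply, one_smul] at h2
  exact h2

end Descent

section Retraction

variable {C : Type u} [CommRing C] [Algebra A C] (hq : QBij I C)
  (B : Type u) [CommRing B] [Algebra A B]

/-- The retraction `C ⊗[A] B → B / IB` for `A / I ≅ C / IC`. -/
noncomputable def rho : C ⊗[A] B →ₐ[A] B ⧸ I.map (algebraMap A B) :=
  Algebra.TensorProduct.productMap
    ((Ideal.quotientMapₐ (I.map (algebraMap A B)) (Algebra.ofId A B)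
      (Ideal.le_comap_map (f := algebraMap A B))).comp hq.retr)
    (Ideal.Quotient.mkₐ A (I.map (algebraMap A B)))

theorem rho_one_tmul (b : B) :
    rho hq B ((1 : C) ⊗ₜ[A] b) = Ideal.Quotient.mk (I.map (algebraMap A B)) b := by
  rw [rho, Algebra.TensorProduct.productMap_apply_tmul, map_one, one_mul]
  rfl

theorem rho_eq_zero_of_mem {z : C ⊗[A] B} (hz : z ∈ I.map (algebraMap A (C ⊗[A] B))) :
    rho hq B z = 0 := by
  have hle : I.map (algebraMap A (C ⊗[A] B)) ≤
      RingHom.ker (rho hq B : C ⊗[A] B →+* B ⧸ I.map (algebraMap A B)) := by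
    rw [Ideal.map_le_iff_le_comap]
    intro a ha
    rw [Ideal.mem_comap, RingHom.mem_ker]
    change rho hq B (algebraMap A (C ⊗[A] B) a) = 0
    rw [(rho hq B).commutes, IsScalarTower.algebraMap_apply A B (B ⧸ I.map (algebraMap A B)),
      Ideal.Quotient.algebraMap_eq, Ideal.Quotient.eq_zero_iff_mem]
    exact Ideal.mem_map_of_mem _ ha
  exact hle hz

omit hq in
theorem tmul_mem_of_left {x : C} (hx : x ∈ I.map (algebraMap A C)) (b : B) :
    x ⊗ₜ[A] b ∈ I.map (algebraMap A (C ⊗[A] B)) := by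
  have h1 : (Algebra.TensorProduct.includeLeft : C →ₐ[A] C ⊗[A] B) x ∈
      I.map (algebraMap A (C ⊗[A] B)) := by
    have := Ideal.mem_map_of_mem
      ((Algebra.TensorProduct.includeLeft : C →ₐ[A] C ⊗[A] B) : C →+* C ⊗[A] B) hx
    rw [Ideal.map_map] at this
    have h2 : ((Algebra.TensorProduct.includeLeft : C →ₐ[A] C ⊗[A] B) : C →+* _).comp
        (algebraMap A C) = algebraMap A (C ⊗[A] B) :=
      (Algebra.TensorProduct.includeLeft : C →ₐ[A] C ⊗[A] B).comp_algebraMap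
    rw [h2] at this
    exact this
  have h3 : x ⊗ₜ[A] b = (Algebra.TensorProduct.includeLeft : C →ₐ[A] C ⊗[A] B) x *
      ((1 : C) ⊗ₜ[A] b) := by
    rw [Algebra.TensorProduct.includeLeft_apply, Algebra.TensorProduct.tmul_mul_tmul, mul_one,
      one_mul]
  rw [h3]
  exact Ideal.mul_mem_right _ _ h1

omit hq in
theorem one_tmul_mem {b : B} (hb : b ∈ I.map (algebraMap A B)) :
    (1 : C) ⊗ₜ[A] b ∈ I.map (algebraMap A (C ⊗[A] B)) := by
  have := Ideal.mem_map_of_mem
    ((Algebra.TensorProduct.includeRight : B →ₐ[A] C ⊗[A] B) : B →+* C ⊗[A] B) hb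
  rw [Ideal.map_map] at this
  have h2 : ((Algebra.TensorProduct.includeRight : B →ₐ[A] C ⊗[A] B) : B →+* _).comp
      (algebraMap A B) = algebraMap A (C ⊗[A] B) :=
    (Algebra.TensorProduct.includeRight : B →ₐ[A] C ⊗[A] B).comp_algebraMap
  rw [h2] at this
  exact this

include hq in
theorem exists_sub_one_tmul_mem (z : C ⊗[A] B) :
    ∃ b : B, z - (1 : C) ⊗ₜ[A] b ∈ I.map (algebraMap A (C ⊗[A] B)) := by
  induction z using TensorProduct.induction_on with
  | zero => exact ⟨0, by simp⟩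
  | tmul c b =>
    obtain ⟨a, ha⟩ := hq.exists_sub_mem c
    refine ⟨a • b, ?_⟩
    have : c ⊗ₜ[A] b - (1 : C) ⊗ₜ[A] (a • b) = (c - algebraMap A C a) ⊗ₜ[A] b := by
      rw [TensorProduct.sub_tmul, Algebra.algebraMap_eq_smul_one, TensorProduct.smul_tmul]
    rw [this]
    exact tmul_mem_of_left B ha b
  | add x y hx hy =>
    obtain ⟨b₁, h₁⟩ := hx
    obtain ⟨b₂, h₂⟩ := hy
    refine ⟨b₁ + b₂, ?_⟩
    have : x + y - (1 : C) ⊗ₜ[A] (b₁ + b₂) = (x - (1 : C) ⊗ₜ[A] b₁) + (y - (1 : C) ⊗ₜ[A] b₂) := by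
      rw [TensorProduct.tmul_add]; ring
    rw [this]
    exact Ideal.add_mem _ h₁ h₂

theorem mem_of_rho_eq_zero {z : C ⊗[A] B} (hz : rho hq B z = 0) :
    z ∈ I.map (algebraMap A (C ⊗[A] B)) := by
  obtain ⟨b, hb⟩ := exists_sub_one_tmul_mem hq B z
  have h1 := rho_eq_zero_of_mem hq B hb
  rw [map_sub, hz, zero_sub, neg_eq_zero, rho_one_tmul, Ideal.Quotient.eq_zero_iff_mem] at h1
  have h2 := one_tmul_mem (C := C) B h1
  have := Ideal.add_mem _ hb h2
  simpa using this

include hq in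
/-- `C ⊗ B / I (C ⊗ B)` is a finite `A`-module when `B / IB` is. -/
theorem finite_quotient_tensor (hfin : Module.Finite A (B ⧸ I.map (algebraMap A B))) :
    Module.Finite A ((C ⊗[A] B) ⧸ I.map (algebraMap A (C ⊗[A] B))) := by
  let g : B →ₐ[A] (C ⊗[A] B) ⧸ I.map (algebraMap A (C ⊗[A] B)) :=
    (Ideal.Quotient.mkₐ A _).comp Algebra.TensorProduct.includeRight
  have hg : ∀ b ∈ I.map (algebraMap A B), g b = 0 := by
    intro b hb
    change Ideal.Quotient.mk _ ((1 : C) ⊗ₜ[A] b) = 0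
    rw [Ideal.Quotient.eq_zero_iff_mem]
    exact one_tmul_mem B hb
  let g' : (B ⧸ I.map (algebraMap A B)) →ₐ[A] (C ⊗[A] B) ⧸ I.map (algebraMap A (C ⊗[A] B)) :=
    Ideal.Quotient.liftₐ _ g hg
  have hsurj : Function.Surjective g' := by
    intro y
    obtain ⟨z, rfl⟩ := Ideal.Quotient.mk_surjective y
    obtain ⟨b, hb⟩ := exists_sub_one_tmul_mem hq B z
    refine ⟨Ideal.Quotient.mk _ b, ?_⟩
    change Ideal.Quotient.mk _ ((1 : C) ⊗ₜ[A] b) = Ideal.Quotient.mk _ z
    rw [eq_comm, Ideal.Quotient.eq]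
    exact hb
  exact Module.Finite.of_surjective g'.toLinearMap hsurj

end Retraction

section Main

open Polynomial

variable (B : Type u) [CommRing B] [Algebra A B]

theorem tmap_eval₂ {X Y : Type u} [CommRing X] [CommRing Y] [Algebra A X] [Algebra A Y]
    (ψ : X →ₐ[A] Y) (z : X ⊗[A] B) (Q : X[X]) :
    tmap B ψ (Q.eval₂ (algebraMap X (X ⊗[A] B)) z) =
      (Q.map (ψ : X →+* Y)).eval₂ (algebraMap Y (Y ⊗[A] B)) (tmap B ψ z) := by
  rw [Polynomial.eval₂_map]
  have := Polynomial.hom_eval₂ Q (algebraMap X (X ⊗[A] B)) (tmap B ψ : X ⊗[A] B →+* Y ⊗[A] B) z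
  rw [RingHom.coe_coe] at this
  rw [this]
  congr 1

theorem map_tmap_mem {X Y : Type u} [CommRing X] [CommRing Y] [Algebra A X] [Algebra A Y]
    (ψ : X →ₐ[A] Y) {z : X ⊗[A] B} (hz : z ∈ I.map (algebraMap A (X ⊗[A] B))) :
    tmap B ψ z ∈ I.map (algebraMap A (Y ⊗[A] B)) := by
  have := Ideal.mem_map_of_mem (tmap B ψ : X ⊗[A] B →+* Y ⊗[A] B) hz
  rw [Ideal.map_map] at this
  have h2 : ((tmap B ψ : X ⊗[A] B →+* Y ⊗[A] B)).comp (algebraMap A (X ⊗[A] B)) =
      algebraMap A (Y ⊗[A] B) := (tmap B ψ).comp_algebraMap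
  rw [h2] at this
  exact this

/-- **Descent of the finite part.**  If `B` is of finite type over `A` with `B / IB` finite, then
over some étale neighbourhood `N` of `(A, I)` there is an idempotent `e'` of `N ⊗ B`, congruent
to `1` modulo `I`, such that the `e' (1 ⊗ b)`, `b ∈ s`, are integral over `N`. -/
theorem exists_nb_idempotent (hH : Hens2.IsPairHenselization A I H) [Algebra.FiniteType A B]
    (hfin : Module.Finite A (B ⧸ I.map (algebraMap A B))) (s : Finset B) :
    ∃ (N : Nb A I) (e' : N.X ⊗[A] B), IsIdempotentElem e' ∧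
      1 - e' ∈ I.map (algebraMap A (N.X ⊗[A] B)) ∧
      ∀ b ∈ s, IsIntegral N.X (e' * ((1 : N.X) ⊗ₜ[A] b)) := by
  classical
  have hqH : QBij I H := qbij_of_isPairHenselization hH
  set IH : Ideal H := I.map (algebraMap A H) with hIH
  have : HenselianRing H IH := hH.1
  have hideal : IH.map (algebraMap H (H ⊗[A] B)) = I.map (algebraMap A (H ⊗[A] B)) := by
    rw [hIH, Ideal.map_map, ← IsScalarTower.algebraMap_eq]
  have hfinH : Module.Finite H ((H ⊗[A] B) ⧸ IH.map (algebraMap H (H ⊗[A] B))) := by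
    rw [hideal]
    have := finite_quotient_tensor hqH B hfin
    exact Module.Finite.of_restrictScalars_finite A H _
  obtain ⟨e, he, he1, heint⟩ :=
    Groth.Agent.Lib.HenselQFDecomp.exists_idempotent_of_finite_quotient IH hfinH
  rw [hideal] at he1
  choose P hPm hP0 using fun b : B => heint ((1 : H) ⊗ₜ[A] b)
  let W : Finset H := s.biUnion fun b => (P b).coeffs
  obtain ⟨N₁, hZ, hW⟩ := exists_nb_of_finset hH B {e} W
  obtain ⟨x', hx'⟩ := hZ e (Finset.mem_singleton_self e)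
  replace hx' : N₁.τ hH B x' = e := hx'
  have hQ : ∀ b : B, ∃ Q : N₁.X[X], b ∈ s →
      (Q.map (N₁.φ hH : N₁.X →+* H) = P b ∧ Q.Monic) := by
    intro b
    by_cases hb : b ∈ s
    · have hl : P b ∈ Polynomial.lifts (N₁.φ hH : N₁.X →+* H) := by
        rw [Polynomial.lifts_iff_coeffs_subset_range]
        intro c hc
        obtain ⟨n, hn⟩ := hW c (Finset.mem_biUnion.2 ⟨b, hb, hc⟩)
        exact ⟨n, hn⟩
      obtain ⟨Q, hQ1, -, hQ2⟩ := Polynomial.lifts_and_natDegree_eq_and_monic hl (hPm b)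
      exact ⟨Q, fun _ => ⟨hQ1, hQ2⟩⟩
    · exact ⟨0, fun h => absurd h hb⟩
  choose Q hQ using hQ
  let Y : Finset (N₁.X ⊗[A] B) := insert (x' * x' - x')
    (s.image fun b => (Q b).eval₂ (algebraMap N₁.X (N₁.X ⊗[A] B)) (x' * ((1 : N₁.X) ⊗ₜ[A] b)))
  have hY : ∀ y ∈ Y, N₁.τ hH B y = 0 := by
    intro y hy
    rcases Finset.mem_insert.1 hy with rfl | hy
    · rw [map_sub, map_mul, hx', he.eq, sub_self]
    · obtain ⟨b, hb, rfl⟩ := Finset.mem_image.1 hy
      change tmap B (N₁.φ hH) _ = 0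
      rw [tmap_eval₂, (hQ b hb).1, map_mul]
      change Polynomial.eval₂ _ (N₁.τ hH B x' * _) _ = 0
      rw [hx']
      have : tmap B (N₁.φ hH) ((1 : N₁.X) ⊗ₜ[A] b) = (1 : H) ⊗ₜ[A] b := by simp
      rw [this]
      exact hP0 b
  obtain ⟨N₂, ψ, hψ⟩ := exists_nb_of_map_eq_zero hH B N₁ Y hY
  refine ⟨N₂, tmap B ψ x', ?_, ?_, ?_⟩
  · have := hψ _ (Finset.mem_insert_self _ _)
    rw [map_sub, map_mul, sub_eq_zero] at this
    exact this
  · obtain ⟨b, hb⟩ := exists_sub_one_tmul_mem N₂.isNbhd.qbij B (1 - tmap B ψ x')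
    have h1 := map_tmap_mem B (N₂.φ hH) hb
    have h2 : tmap B (N₂.φ hH) (tmap B ψ x') = e := by
      have := Nb.τ_tmap hH B ψ x'
      rw [hx'] at this
      exact this
    rw [map_sub, map_sub, map_one, h2] at h1
    have h3 : tmap B (N₂.φ hH) ((1 : N₂.X) ⊗ₜ[A] b) = (1 : H) ⊗ₜ[A] b := by simp
    rw [h3] at h1
    have h4 : (1 : H) ⊗ₜ[A] b ∈ I.map (algebraMap A (H ⊗[A] B)) := by
      have := Ideal.sub_mem _ he1 h1
      simpa using this
    have h5 := rho_eq_zero_of_mem hqH B h4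
    rw [rho_one_tmul, Ideal.Quotient.eq_zero_iff_mem] at h5
    have h6 := one_tmul_mem (C := N₂.X) B h5
    have := Ideal.add_mem _ hb h6
    simpa using this
  · intro b hb
    refine ⟨(Q b).map (ψ : N₁.X →+* N₂.X), (hQ b hb).2.map _, ?_⟩
    have h1 := hψ _ (Finset.mem_insert_of_mem (Finset.mem_image_of_mem _ hb))
    rw [tmap_eval₂, map_mul] at h1
    have h3 : tmap B ψ ((1 : N₁.X) ⊗ₜ[A] b) = (1 : N₂.X) ⊗ₜ[A] b := by simp
    rw [h3] at h1
    exact h1

end Main

end Groth.Agent.Lib.HTensorDescent
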