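import Groth.Agent.Lib.HTensorDescent

/-!
# Étale localization of algebras with finite special fibre over a pair

If `B` is of finite type over `A` with `B / IB` finite over `A`, there are an étale neighbourhood
`A'` of `(A, I)` and an étale neighbourhood `C` of `(B, IB)` which is finite over `A'`.
-/

set_option autoImplicit false
universe u

namespace Groth.Agent.Lib.HTensorDescent

open TensorProduct Groth.Agent.Lib.PairEtaleNbhd Groth.Agent.Lib.PairHenselization

attribute [local instance] Algebra.TensorProduct.rightAlgebra

section Assembly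

variable {A : Type u} [CommRing A] {I : Ideal A} (B : Type u) [CommRing B] [Algebra A B]
  {A' : Type u} [CommRing A'] [Algebra A A']

/-- `A' ⊗[A] B` is étale over `B` when `A'` is étale over `A`. -/
theorem etale_tensor_right [Algebra.Etale A A'] : Algebra.Etale B (A' ⊗[A] B) := by
  let e : B ⊗[A] A' ≃ₐ[B] A' ⊗[A] B :=
    { Algebra.TensorProduct.comm A B A' with
      commutes' := fun b => by
        change Algebra.TensorProduct.comm A B A' (b ⊗ₜ[A] 1) = (1 : A') ⊗ₜ[A] b
        simp }
  exact Algebra.Etale.of_equiv e

variable (hA' : IsNbhd I A') (e' : A' ⊗[A] B) (he : IsIdempotentElem e')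
  (he1 : 1 - e' ∈ I.map (algebraMap A (A' ⊗[A] B)))

include he in
theorem algebraMap_away_surjective :
    Function.Surjective (algebraMap (A' ⊗[A] B) (Localization.Away e')) :=
  IsLocalization.Away.algebraMap_surjective_of_isIdempotentElem e' he

include he in
theorem algebraMap_away_self : algebraMap (A' ⊗[A] B) (Localization.Away e') e' = 1 := by
  have hunit : IsUnit (algebraMap (A' ⊗[A] B) (Localization.Away e') e') :=
    IsLocalization.Away.algebraMap_isUnit e'
  have h : algebraMap (A' ⊗[A] B) (Localization.Away e') e' *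
      algebraMap (A' ⊗[A] B) (Localization.Away e') e' =
      algebraMap (A' ⊗[A] B) (Localization.Away e') e' * 1 := by
    rw [← map_mul, he.eq, mul_one]
  exact hunit.mul_left_cancel h

include he in
/-- finiteness of the localization at the idempotent -/
theorem finite_away (s : Finset B) (hs : Algebra.adjoin A (s : Set B) = ⊤)
    (hint : ∀ b ∈ s, IsIntegral A' (e' * ((1 : A') ⊗ₜ[A] b))) :
    Module.Finite A' (Localization.Away e') := by
  set C := Localization.Away e' with hC
  have hsurj := algebraMap_away_surjective B e' he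
  have : Algebra.FiniteType A B := ⟨⟨s, hs⟩⟩
  have hft : Algebra.FiniteType A' C :=
    Algebra.FiniteType.of_surjective (IsScalarTower.toAlgHom A' (A' ⊗[A] B) C) hsurj
  have hB : ∀ b : B, IsIntegral A' (algebraMap B C b) := by
    intro b
    have hb : b ∈ Algebra.adjoin A (s : Set B) := hs ▸ Algebra.mem_top
    induction hb using Algebra.adjoin_induction with
    | mem x hx =>
      have h1 := (hint x hx).map (IsScalarTower.toAlgHom A' (A' ⊗[A] B) C)
      have h2 : IsScalarTower.toAlgHom A' (A' ⊗[A] B) C (e' * ((1 : A') ⊗ₜ[A] x)) =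
          algebraMap B C x := by
        change algebraMap (A' ⊗[A] B) C (e' * ((1 : A') ⊗ₜ[A] x)) = _
        rw [map_mul, algebraMap_away_self B e' he, one_mul]
        rfl
      rwa [h2] at h1
    | algebraMap a =>
      rw [← IsScalarTower.algebraMap_apply A B C, IsScalarTower.algebraMap_apply A A' C]
      exact isIntegral_algebraMap
    | add x y _ _ hx hy => rw [map_add]; exact hx.add hy
    | mul x y _ _ hx hy => rw [map_mul]; exact hx.mul hy
  have hint' : Algebra.IsIntegral A' C := by
    constructor
    intro c
    obtain ⟨z, rfl⟩ := hsurj c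
    induction z using TensorProduct.induction_on with
    | zero => rw [map_zero]; exact isIntegral_zero
    | tmul a b =>
      have : a ⊗ₜ[A] b = algebraMap A' (A' ⊗[A] B) a * algebraMap B (A' ⊗[A] B) b := by
        rw [Algebra.TensorProduct.algebraMap_apply]
        change _ = (a ⊗ₜ[A] (1 : B)) * ((1 : A') ⊗ₜ[A] b)
        rw [Algebra.TensorProduct.tmul_mul_tmul, mul_one, one_mul]
      rw [this, map_mul, ← IsScalarTower.algebraMap_apply, ← IsScalarTower.algebraMap_apply]
      exact isIntegral_algebraMap.mul (hB b)
    | add x y hx hy => rw [map_add]; exact hx.add hy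
  exact Algebra.IsIntegral.finite

include hA' in
theorem exists_sub_mem_away (c : Localization.Away e') (hsurj :
    Function.Surjective (algebraMap (A' ⊗[A] B) (Localization.Away e'))) :
    ∃ b : B, c - algebraMap B (Localization.Away e') b ∈
      I.map (algebraMap A (Localization.Away e')) := by
  obtain ⟨z, rfl⟩ := hsurj c
  obtain ⟨b, hb⟩ := exists_sub_one_tmul_mem hA'.qbij B z
  refine ⟨b, ?_⟩
  have h1 := Ideal.mem_map_of_mem (algebraMap (A' ⊗[A] B) (Localization.Away e')) hb
  rw [Ideal.map_map, ← IsScalarTower.algebraMap_eq, map_sub] at h1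
  exact h1

include hA' he1 in
theorem mem_of_algebraMap_away_mem (b : B)
    (hb : algebraMap B (Localization.Away e') b ∈ I.map (algebraMap A (Localization.Away e'))) :
    b ∈ I.map (algebraMap A B) := by
  set C := Localization.Away e' with hC
  let ρ := rho hA'.qbij B
  have hρe : ρ e' = 1 := by
    have := rho_eq_zero_of_mem hA'.qbij B he1
    rw [map_sub, map_one, sub_eq_zero] at this
    exact this.symm
  have hu : IsUnit ((ρ : A' ⊗[A] B →+* B ⧸ I.map (algebraMap A B)) e') := by
    rw [RingHom.coe_coe, hρe]
    exact isUnit_one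
  let ρC : C →+* B ⧸ I.map (algebraMap A B) := IsLocalization.Away.lift e' hu
  have hρC : ∀ z, ρC (algebraMap (A' ⊗[A] B) C z) = ρ z := fun z =>
    IsLocalization.Away.lift_eq e' hu z
  have hle : I.map (algebraMap A C) ≤ RingHom.ker ρC := by
    rw [Ideal.map_le_iff_le_comap]
    intro a ha
    rw [Ideal.mem_comap, RingHom.mem_ker, IsScalarTower.algebraMap_apply A (A' ⊗[A] B) C, hρC,
      ρ.commutes, IsScalarTower.algebraMap_apply A B (B ⧸ I.map (algebraMap A B)),
      Ideal.Quotient.algebraMap_eq, Ideal.Quotient.eq_zero_iff_mem]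
    exact Ideal.mem_map_of_mem _ ha
  have h1 := hle hb
  rw [RingHom.mem_ker, IsScalarTower.algebraMap_apply B (A' ⊗[A] B) C, hρC] at h1
  have h2 : ρ (algebraMap B (A' ⊗[A] B) b) = Ideal.Quotient.mk _ b := rho_one_tmul hA'.qbij B b
  rw [h2, Ideal.Quotient.eq_zero_iff_mem] at h1
  exact h1

end Assembly

/-- from the elementwise description to surjectivity and kernel -/
theorem surjective_and_ker {B C : Type u} [CommRing B] [CommRing C] (f : B →+* C) (J : Ideal B)
    (K : Ideal C) (h1 : ∀ c : C, ∃ b : B, c - f b ∈ K) (h2 : ∀ b : B, f b ∈ K → b ∈ J)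
    (h3 : J.map f ≤ K) :
    Function.Surjective ((Ideal.Quotient.mk K).comp f) ∧
      RingHom.ker ((Ideal.Quotient.mk K).comp f) = J := by
  constructor
  · intro y
    obtain ⟨c, rfl⟩ := Ideal.Quotient.mk_surjective y
    obtain ⟨b, hb⟩ := h1 c
    refine ⟨b, ?_⟩
    rw [RingHom.comp_apply, eq_comm, Ideal.Quotient.eq]
    exact hb
  · ext b
    rw [RingHom.mem_ker, RingHom.comp_apply, Ideal.Quotient.eq_zero_iff_mem]
    exact ⟨h2 b, fun hb => h3 (Ideal.mem_map_of_mem f hb)⟩

/-- **Étale localization of algebras with finite special fibre over a pair.** -/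
theorem exists_etale_nbhd_finite (A : Type u) [CommRing A] (I : Ideal A) (B : Type u) [CommRing B]
    [Algebra A B] [Algebra.FiniteType A B]
    (hfin : Module.Finite A (B ⧸ Ideal.map (algebraMap A B) I)) :
    ∃ (A' : Type u) (_ : CommRing A') (_ : Algebra A A') (_ : Algebra.Etale A A')
      (C : Type u) (_ : CommRing C) (_ : Algebra A C) (_ : Algebra A' C) (_ : Algebra B C)
      (_ : IsScalarTower A A' C) (_ : IsScalarTower A B C),
      Function.Surjective ((Ideal.Quotient.mk (Ideal.map (algebraMap A A') I)).comp
        (algebraMap A A')) ∧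
      RingHom.ker ((Ideal.Quotient.mk (Ideal.map (algebraMap A A') I)).comp
        (algebraMap A A')) = I ∧
      Algebra.Etale B C ∧ Module.Finite A' C ∧
      Function.Surjective ((Ideal.Quotient.mk (Ideal.map (algebraMap A C) I)).comp
        (algebraMap B C)) ∧
      RingHom.ker ((Ideal.Quotient.mk (Ideal.map (algebraMap A C) I)).comp (algebraMap B C)) =
        Ideal.map (algebraMap A B) I := by
  obtain ⟨s, hs⟩ := (inferInstance : Algebra.FiniteType A B).out
  obtain ⟨N, e', he, he1, hint⟩ :=
    exists_nb_idempotent B (isPairHenselization A I) hfin s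
  have hN := N.isNbhd
  have := hN.etale
  have hsurj := algebraMap_away_surjective B e' he
  have hA := surjective_and_ker (algebraMap A N.X) I (I.map (algebraMap A N.X))
    (fun c => hN.qbij.exists_sub_mem c) (fun a ha => hN.qbij.mem_of_algebraMap_mem ha) le_rfl
  have hC := surjective_and_ker (algebraMap B (Localization.Away e')) (I.map (algebraMap A B))
    (I.map (algebraMap A (Localization.Away e')))
    (fun c => exists_sub_mem_away B hN e' c hsurj)
    (fun b hb => mem_of_algebraMap_away_mem B hN e' he1 b hb) (by
      rw [Ideal.map_map, ← IsScalarTower.algebraMap_eq])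
  have het : Algebra.Etale B (Localization.Away e') := by
    have h1 : Algebra.Etale B (N.X ⊗[A] B) := etale_tensor_right B
    have h2 : Algebra.Etale (N.X ⊗[A] B) (Localization.Away e') :=
      Algebra.Etale.of_isLocalizationAway e'
    exact Algebra.Etale.comp B (N.X ⊗[A] B) (Localization.Away e')
  exact ⟨N.X, inferInstance, inferInstance, hN.etale, Localization.Away e', inferInstance,
    inferInstance, inferInstance, inferInstance, inferInstance, inferInstance,
    hA.1, hA.2, het, finite_away B e' he s hs hint, hC.1, hC.2⟩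

end Groth.Agent.Lib.HTensorDescent
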