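import Groth.Agent.Lib.H8LocTrans
import Groth.Agent.Lib.LocCohIndepBase
import Groth.Agent.Lib.LocCohLES

/-!
# Transfer of vanishing of `H^j_m` along ring isomorphisms and double localization (helper53)
-/

set_option maxHeartbeats 400000
set_option linter.unusedSectionVars false
universe u

namespace Groth.Agent.Lib.HTransfer53
open Groth.Agent.Lib.LocCohLES

section ringEquiv
variable {R R' : Type u} [CommRing R] [CommRing R'] [IsNoetherianRing R] [IsNoetherianRing R']
  {M M' : Type u} [AddCommGroup M] [Module R M] [AddCommGroup M'] [Module R' M']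

/-- local cohomology along a ring isomorphism with a semilinear additive equivalence. -/
theorem subsingleton_H_iff_of_ringEquiv (e : R ≃+* R') (f : M ≃+ M')
    (hf : ∀ (r : R) (m : M), f (r • m) = e r • f m) (I : Ideal R) (j : ℕ) :
    Subsingleton (LocCoh.H I j M) ↔
      Subsingleton (LocCoh.H (I.map (e : R →+* R')) j M') := by
  letI : Algebra R R' := (e : R →+* R').toAlgebra
  letI : Module R M' := Module.compHom M' (e : R →+* R')
  haveI : IsScalarTower R R' M' := IsScalarTower.of_algebraMap_smul fun _ _ => rfl
  let fL : M ≃ₗ[R] M' := { f with map_smul' := fun r m => hf r m }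
  have h1 := Hmap_bijective_of_equiv I fL j
  obtain ⟨ψ, -⟩ := Groth.Agent.Lib.LocCohIndepBase.indep_base (R := R) (R' := R') I j M'
  have e1 : LocCoh.H I j M ≃ LocCoh.H I j M' := Equiv.ofBijective _ h1
  constructor
  · intro h
    haveI : Subsingleton (LocCoh.H I j M') := e1.symm.subsingleton
    exact ψ.toEquiv.subsingleton
  · intro h
    haveI : Subsingleton (LocCoh.H I j M') := ψ.symm.toEquiv.subsingleton
    exact e1.subsingleton

theorem subsingleton_H_max_iff_of_ringEquiv [IsLocalRing R] [IsLocalRing R'] (e : R ≃+* R')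
    (f : M ≃+ M') (hf : ∀ (r : R) (m : M), f (r • m) = e r • f m) (j : ℕ) :
    Subsingleton (LocCoh.H (IsLocalRing.maximalIdeal R) j M) ↔
      Subsingleton (LocCoh.H (IsLocalRing.maximalIdeal R') j M') := by
  rw [subsingleton_H_iff_of_ringEquiv e f hf]
  have : (IsLocalRing.maximalIdeal R).map (e : R →+* R') = IsLocalRing.maximalIdeal R' :=
    IsLocalRing.eq_maximalIdeal (Ideal.map_isMaximal_of_equiv e)
  rw [this]

end ringEquiv

section abstractLoc
variable {R : Type u} [CommRing R] [IsNoetherianRing R] (p : Ideal R) [p.IsPrime]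
  (Rp : Type u) [CommRing Rp] [Algebra R Rp] [IsLocalization.AtPrime Rp p] [IsLocalRing Rp]
  {M : Type u} [AddCommGroup M] [Module R M]
  {Mp : Type u} [AddCommGroup Mp] [Module R Mp] [Module Rp Mp] [IsScalarTower R Rp Mp]
  (f : M →ₗ[R] Mp) [IsLocalizedModule p.primeCompl f]

include f in
theorem subsingleton_H_iff_of_isLocalizedModule (j : ℕ) :
    Subsingleton (LocCoh.H (IsLocalRing.maximalIdeal Rp) j Mp) ↔
      Subsingleton (LocCoh.H (IsLocalRing.maximalIdeal (Localization.AtPrime p)) j
        (LocalizedModule p.primeCompl M)) := by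
  haveI : IsNoetherianRing Rp := IsLocalization.isNoetherianRing p.primeCompl Rp inferInstance
  exact (subsingleton_H_max_iff_of_ringEquiv
    (IsLocalization.algEquiv p.primeCompl (Localization.AtPrime p) Rp).toRingEquiv
    (IsLocalizedModule.iso p.primeCompl f).toAddEquiv
    (Groth.Agent.Lib.H8LocTrans.iso_smul p Rp f) j).symm

end abstractLoc

section double
variable {B : Type u} [CommRing B] [IsNoetherianRing B] (S : Submonoid B)
  (B' : Type u) [CommRing B'] [Algebra B B'] [IsLocalization S B']
  {M : Type u} [AddCommGroup M] [Module B M]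
  {M' : Type u} [AddCommGroup M'] [Module B M'] [Module B' M'] [IsScalarTower B B' M']

include S in
/-- double localization for the vanishing of `H^j` at the maximal ideal. -/
theorem subsingleton_H_double (g : M →ₗ[B] M') [IsLocalizedModule S g] (Q : Ideal B')
    [Q.IsPrime] (j : ℕ) :
    Subsingleton (LocCoh.H (IsLocalRing.maximalIdeal (Localization.AtPrime Q)) j
        (LocalizedModule Q.primeCompl M')) ↔
      Subsingleton (LocCoh.H (IsLocalRing.maximalIdeal
        (Localization.AtPrime (Q.comap (algebraMap B B')))) j
        (LocalizedModule (Q.comap (algebraMap B B')).primeCompl M)) := by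
  haveI : IsScalarTower B B' (Localization.AtPrime Q) := inferInstance
  obtain ⟨h1, h2⟩ := Groth.Agent.Lib.H8LocTrans.isLocalizedModule_comp S B' g Q
    (Localization.AtPrime Q) (LocalizedModule.mkLinearMap Q.primeCompl M')
  exact subsingleton_H_iff_of_isLocalizedModule (Q.comap (algebraMap B B'))
    (Localization.AtPrime Q)
    (((LocalizedModule.mkLinearMap Q.primeCompl M').restrictScalars B).comp g) j

end double

end Groth.Agent.Lib.HTransfer53
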