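/-
helper66: for a morphism of ringed sites `f : (C, O_C) → (D, O_D)` with underlying functor `u : D ⥤ C`:
`f^*(j_{V!} O_V) ≅ j_{uV!} O_{uV}`.
-/
import Groth.Agent.Lib.ModSiteFreeOn

set_option autoImplicit false
universe u
open CategoryTheory CategoryTheory.Limits Opposite

namespace Groth.Agent.Lib.PullFreeOn66

open Groth.Agent.Lib.ModSiteFreeOn

variable {C : Type u} [SmallCategory C] {J : GrothendieckTopology C} {O_C : Sheaf J CommRingCat.{u}}
  {D : Type u} [SmallCategory D] {K : GrothendieckTopology D} {O_D : Sheaf K CommRingCat.{u}}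
  (f : ModSite.RMor O_C O_D)

/-- `f^*(freeOn V)` corepresents sections over `u V` -/
noncomputable def pullFreeOnCorep (V : D) :
    (evalFunctor O_C (f.fn.obj V)).CorepresentableBy (f.pull.obj (ModSite.freeOn O_D V)) where
  homEquiv {M} := (f.adj.homEquiv _ M).trans (freeOnHomEquiv O_D V (f.push.obj M))
  homEquiv_comp {M N} g φ := by
    change freeOnHomEquiv O_D V (f.push.obj N) (f.adj.homEquiv _ N (φ ≫ g)) = _
    rw [Adjunction.homEquiv_naturality_right, freeOnHomEquiv_comp]
    rfl

/-- `f^*(j_{V!} O_V) ≅ j_{uV!} O_{uV}` -/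
noncomputable def pullFreeOnIso (V : D) :
    f.pull.obj (ModSite.freeOn O_D V) ≅ ModSite.freeOn O_C (f.fn.obj V) :=
  (pullFreeOnCorep f V).uniqueUpToIso (freeOnCorep O_C (f.fn.obj V))

end Groth.Agent.Lib.PullFreeOn66
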