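/-
helper66: for a flat morphism of ringed sites `f : (C, O_C) → (D, O_D)` (underlying functor `u : D ⥤ C`), a right
adjoint `R` of `f^*` on derived categories, and an `O_D`-module `F'` at which the unit is an isomorphism:
`H^k(u V, f^* F') = 0` implies `H^k(V, F') = 0`.
-/
import Groth.Agent.Lib.PullFreeOn66
import Groth.Agent.Lib.ModGen31
import Groth.Agent.Lib.DAdjEquiv11
import Groth.Prelude.Def_SiteCmp

set_option autoImplicit false
universe u
open CategoryTheory CategoryTheory.Limits Opposite Pretriangulated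

namespace Groth.Agent.Lib.HUPull66

attribute [local instance] HasDerivedCategory.standard

open DerivedCategory Groth.Agent.LocGen31 Groth.Agent.Lib.DAdjEquiv11

section Generic

variable {𝒞 𝒟 : Type*} [Category 𝒞] [Category 𝒟] {G : 𝒞 ⥤ 𝒟} {R : 𝒟 ⥤ 𝒞} (adj : G ⊣ R)

include adj in
/-- `G` is injective on morphisms into an object at which the unit is a monomorphism -/
lemma map_injective_of_mono_unit (Z T : 𝒞) [Mono (adj.unit.app T)] :
    Function.Injective (fun φ : Z ⟶ T => G.map φ) := by
  intro φ φ' h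
  have h1 := adj.unit.naturality φ
  have h2 := adj.unit.naturality φ'
  simp only [Functor.id_map, Functor.comp_map] at h1 h2
  have h3 : G.map φ = G.map φ' := h
  rw [← cancel_mono (adj.unit.app T), h1, h2, h3]

end Generic

variable {C : Type u} [SmallCategory C] {J : GrothendieckTopology C} {O_C : Sheaf J CommRingCat.{u}}
  {D : Type u} [SmallCategory D] {K : GrothendieckTopology D} {O_D : Sheaf K CommRingCat.{u}}
  (f : ModSite.RMor O_C O_D) [PreservesFiniteLimits f.pull]
  (R : DerivedCategory (ModSite.Mod O_C) ⥤ DerivedCategory (ModSite.Mod O_D))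
  (adj : f.pull.mapDerivedCategory ⊣ R)

include adj in
theorem subsingleton_HU_of_pull (F' : ModSite.Mod O_D) (V : D) (k : ℕ)
    (hu : IsIso (adj.unit.app
      ((shiftFunctor _ ((k : ℕ) : ℤ)).obj ((singleFunctor (ModSite.Mod O_D) 0).obj F'))))
    (h : Subsingleton (ModSite.HU O_C (f.pull.obj F') k (f.fn.obj V))) :
    Subsingleton (ModSite.HU O_D F' k V) := by
  have := Groth.Agent.ModGen31.enoughInjectives O_C
  have := Groth.Agent.ModGen31.enoughInjectives O_D
  -- C-side vanishing of Hom in the derived category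
  have hC := (Groth.Agent.ModGen31.gen O_C).subsingleton_hom_ZD_single_nat
    (Groth.Agent.ModGen31.hacyc O_C) (f.fn.obj V) (f.pull.obj F') k h
  -- transport to `G'(ZD V) ⟶ G'(T)`
  let Z : DerivedCategory (ModSite.Mod O_D) := (Groth.Agent.ModGen31.gen O_D).ZD V
  let T : DerivedCategory (ModSite.Mod O_D) :=
    (shiftFunctor _ ((k : ℕ) : ℤ)).obj ((singleFunctor (ModSite.Mod O_D) 0).obj F')
  have eZ : f.pull.mapDerivedCategory.obj Z ≅ (Groth.Agent.ModGen31.gen O_C).ZD (f.fn.obj V) :=
    (f.pull.mapDerivedCategorySingleFunctor 0).app (ModSite.freeOn O_D V) ≪≫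
      (singleFunctor (ModSite.Mod O_C) 0).mapIso (Groth.Agent.Lib.PullFreeOn66.pullFreeOnIso f V)
  have eT : f.pull.mapDerivedCategory.obj T ≅
      (shiftFunctor _ ((k : ℕ) : ℤ)).obj ((singleFunctor (ModSite.Mod O_C) 0).obj (f.pull.obj F')) :=
    (f.pull.mapDerivedCategory.commShiftIso ((k : ℕ) : ℤ)).app _ ≪≫
      (shiftFunctor _ ((k : ℕ) : ℤ)).mapIso ((f.pull.mapDerivedCategorySingleFunctor 0).app F')
  have hGT : Subsingleton (f.pull.mapDerivedCategory.obj Z ⟶ f.pull.mapDerivedCategory.obj T) :=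
    ⟨fun a b => by
      rw [← cancel_epi eZ.inv, ← cancel_mono eT.hom]
      exact Subsingleton.elim _ _⟩
  have hZT : Subsingleton (Z ⟶ T) :=
    (map_injective_of_mono_unit adj Z T).subsingleton
  -- back to `HU`
  have := hasExt_of_hasDerivedCategory (ModSite.Mod O_D)
  have hZT' : Subsingleton (ShiftedHom ((singleFunctor (ModSite.Mod O_D) 0).obj (ModSite.freeOn O_D V))
      ((singleFunctor (ModSite.Mod O_D) 0).obj F') ((k : ℕ) : ℤ)) := hZT
  have hExt : Subsingleton (Abelian.Ext (ModSite.freeOn O_D V) F' k) :=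
    (Abelian.Ext.homEquiv (X := ModSite.freeOn O_D V) (Y := F') (n := k)).subsingleton
  have hExt' : Subsingleton (Abelian.Ext ((Groth.Agent.ModGen31.gen O_D).Z V) F' k) := hExt
  obtain ⟨e⟩ := Groth.Agent.Lib.ExtCompare95.nonempty_addEquiv (Groth.Agent.ModGen31.Γ O_D)
    ((Groth.Agent.ModGen31.gen O_D).ι V) ((Groth.Agent.ModGen31.gen O_D).bijective_ι V)
    (fun I hI p => Groth.Agent.ModGen31.hacyc O_D I hI V p) k F'
  exact e.symm.toEquiv.subsingleton

end Groth.Agent.Lib.HUPull66
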