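import Groth.Agent.Lib.MVNat
import Groth.Agent.Lib.LocMap

/-!
# Degree zero cohomology classes on an open are sections

`sec A U : H'^0(U, A) ≃ A(U)`, compatible with zero, restriction and morphisms of sheaves.
-/

set_option autoImplicit false
universe u
open CategoryTheory TopologicalSpace Opposite Limits Abelian

namespace Groth.Agent.Lib.HUSec

open Groth.Agent.Lib.FlasqueAcyclic Groth.Agent.Lib.AffVanTop

variable {X : TopCat.{u}}

/-- Degree zero classes are sections. -/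
noncomputable def sec (A : CohTop.Ab X) (U : Opens X) : CohTop.HU A 0 U ≃ A.obj.obj (op U) :=
  (Ext.homEquiv₀ (X := freeSh U) (Y := A)).trans (homEquiv U A)

lemma sec_mk₀ (A : CohTop.Ab X) (U : Opens X) (φ : freeSh U ⟶ A) :
    sec A U (Ext.mk₀ φ) = homEquiv U A φ := by
  change homEquiv U A (Ext.homEquiv₀ (Ext.mk₀ φ)) = _
  congr 1
  exact (Ext.homEquiv₀ (X := freeSh U) (Y := A)).symm.injective (by simp)

lemma sec_zero (A : CohTop.Ab X) (U : Opens X) : sec A U 0 = 0 := by
  have : (0 : CohTop.HU A 0 U) = Ext.mk₀ (0 : freeSh U ⟶ A) := by rw [Ext.mk₀_zero]; rfl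
  rw [this, sec_mk₀, homEquiv_zero]

lemma sec_eq_zero_iff (A : CohTop.Ab X) (U : Opens X) (α : CohTop.HU A 0 U) :
    sec A U α = 0 ↔ α = 0 := by
  constructor
  · intro h
    apply (sec A U).injective
    rw [h, sec_zero]
  · rintro rfl
    exact sec_zero A U

lemma sec_res (A : CohTop.Ab X) {U V : Opens X} (h : V ≤ U) (α : CohTop.HU A 0 U) :
    sec A V (CohTop.res A 0 h α) = A.obj.map (homOfLE h).op (sec A U α) := by
  obtain ⟨φ, rfl⟩ := (Ext.mk₀_bijective (freeSh U) A).2 α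
  rw [res_eq, Ext.mk₀_comp_mk₀, sec_mk₀, sec_mk₀, homEquiv_map]

lemma sec_HUmap {A A' : CohTop.Ab X} (φ : A ⟶ A') (U : Opens X) (α : CohTop.HU A 0 U) :
    sec A' U (CohTop.HUmap φ 0 U α) = φ.hom.app (op U) (sec A U α) := by
  obtain ⟨ψ, rfl⟩ := (Ext.mk₀_bijective (freeSh U) A).2 α
  have : CohTop.HUmap φ 0 U (Ext.mk₀ ψ) = Ext.mk₀ (ψ ≫ φ) := by
    change (Ext.mk₀ ψ).comp (Ext.mk₀ φ) (add_zero 0) = _
    rw [Ext.mk₀_comp_mk₀]
  rw [this, sec_mk₀, sec_mk₀, homEquiv_comp]

open Groth.Agent.Lib.LocMap in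
lemma sec_iterate {A : CohTop.Ab X} (φ : A ⟶ A) (U : Opens X) (k : ℕ) (α : CohTop.HU A 0 U) :
    sec A U ((CohTop.HUmap φ 0 U)^[k] α) = (φ.hom.app (op U))^[k] (sec A U α) := by
  induction k generalizing α with
  | zero => rfl
  | succ k ih => rw [Function.iterate_succ_apply, Function.iterate_succ_apply, ih, sec_HUmap]

open Groth.Agent.Lib.LocMap in
/-- In degree zero, the localization property can be checked on sections. -/
theorem isLocMap_zero_of_sections {A : CohTop.Ab X} (φ : A ⟶ A) {U U' : Opens X} (h : U' ≤ U)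
    (hu : Function.Bijective (φ.hom.app (op U')))
    (hs : ∀ t : A.obj.obj (op U'), ∃ (n : ℕ) (s : A.obj.obj (op U)),
      (φ.hom.app (op U'))^[n] t = A.obj.map (homOfLE h).op s)
    (hk : ∀ s : A.obj.obj (op U), A.obj.map (homOfLE h).op s = 0 →
      ∃ n : ℕ, (φ.hom.app (op U))^[n] s = 0) :
    IsLocMap (CohTop.HUmap φ 0 U) (CohTop.HUmap φ 0 U') (CohTop.res A 0 h) where
  comm m := Groth.Agent.Lib.MVNat.res_HUmap φ 0 h m
  bij := by
    constructor
    · intro a b hab
      apply (sec A U').injective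
      apply hu.1
      rw [← sec_HUmap, ← sec_HUmap, hab]
    · intro b
      obtain ⟨t, ht⟩ := hu.2 (sec A U' b)
      refine ⟨(sec A U').symm t, ?_⟩
      apply (sec A U').injective
      rw [sec_HUmap, Equiv.apply_symm_apply, ht]
  surj n := by
    obtain ⟨k, s, hks⟩ := hs (sec A U' n)
    refine ⟨k, (sec A U).symm s, ?_⟩
    apply (sec A U').injective
    rw [sec_iterate, hks, sec_res, Equiv.apply_symm_apply]
  ker m hm := by
    have h0 : A.obj.map (homOfLE h).op (sec A U m) = 0 := by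
      rw [← sec_res, hm, sec_zero]
    obtain ⟨k, hk'⟩ := hk _ h0
    refine ⟨k, ?_⟩
    rw [← sec_eq_zero_iff, sec_iterate, hk']

end Groth.Agent.Lib.HUSec
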