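import Groth.Agent.Lib.ExtPreDerived92
import Groth.Agent.Lib.HZPairDerived
import Groth.Prelude.Def_SuppFam

/-!
# The presheaf `V ↦ H^q_{Z ∩ V}(V, F)` is the `q`-th derived functor of `F ↦ (V ↦ Γ_Z(F)(V))`

Closed case (`Z = X ∖ U`): the right derived functors of `sectSuppF U ⋙ sheafToPresheaf` are the
presheaves `V ↦ Ext^q(ℤ_V/ℤ_{V ⊓ U}, F)` with the change-of-pair maps as restriction maps, as
functors of `F` with values in presheaves.
-/

set_option autoImplicit false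

universe u

open CategoryTheory CategoryTheory.Limits TopologicalSpace Opposite DeltaF Abelian

namespace Groth.Agent.Lib.HZPreDerived92

variable {X : TopCat.{u}}

open Groth.Agent.S6023 (ιZ)
open Groth.Agent.Lib.ExtDelta (hF hF_map_apply)
open Groth.Agent.Lib.ExtPreDelta92 (pF pF_obj_map_apply pF_map_app)
open Groth.Agent.Lib.HZPairDerived

local notation "JX" => Opens.grothendieckTopology X

/-- the functor `V ↦ ℤ_V/ℤ_{V ⊓ U}` -/
noncomputable def ZqC (U : Opens X) : Opens X ⥤ CohTop.Ab X where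
  obj V := LocCohZ.zq (inf_le_left : V ⊓ U ≤ V)
  map {V' V} g := LocCohZ.zqMap (inf_le_left : V ⊓ U ≤ V) (inf_le_left : V' ⊓ U ≤ V')
    (inf_le_inf_right U (leOfHom g)) (leOfHom g)
  map_id V := SuppFam.zqMap_id _
  map_comp _ _ := (SuppFam.zqMap_comp _ _ _ _ _ _ _).symm

/-- the functor `F ↦ (V ↦ Γ_Z(F)(V))` -/
noncomputable abbrev TC (U : Opens X) : CohTop.Ab X ⥤ ((Opens X)ᵒᵖ ⥤ AddCommGrpCat.{u}) :=
  LocCohZ.sectSuppF U ⋙ sheafToPresheaf JX AddCommGrpCat.{u}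

instance preservesFiniteLimits_TC (U : Opens X) : PreservesFiniteLimits (TC U) := by
  have := Groth.Agent.S6023.preservesFiniteLimits_sectSuppF U
  infer_instance

/-- the embedding of `Γ_Z(F)(V)` in `F(V)` -/
noncomputable def a2 (U : Opens X) (F : CohTop.Ab X) (k : (Opens X)ᵒᵖ) :
    (((TC U).obj F).obj k : AddCommGrpCat.{u}) →+
      (((sheafToPresheaf JX AddCommGrpCat.{u}).obj F).obj k : AddCommGrpCat.{u}) :=
  bHom U k.unop F

/-- the embedding of `Hom(ℤ_V/ℤ_{V ⊓ U}, F)` in `F(V)` -/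
noncomputable def b2 (U : Opens X) (F : CohTop.Ab X) (k : (Opens X)ᵒᵖ) :
    (((pF (ZqC U) 0).obj F).obj k : AddCommGrpCat.{u}) →+
      (((sheafToPresheaf JX AddCommGrpCat.{u}).obj F).obj k : AddCommGrpCat.{u}) :=
  aHom (inf_le_left : k.unop ⊓ U ≤ k.unop) F

lemma a2_map (U : Opens X) (F : CohTop.Ab X) {k k' : (Opens X)ᵒᵖ} (g : k ⟶ k')
    (x : (((TC U).obj F).obj k : AddCommGrpCat.{u})) :
    a2 U F k' (((TC U).obj F).map g x) =
      ((sheafToPresheaf JX AddCommGrpCat.{u}).obj F).map g (a2 U F k x) :=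
  ConcreteCategory.congr_hom ((ιZ U F).hom.naturality g) x

/-- the canonical map `ℤ_V ⟶ ℤ_V/ℤ_{V ⊓ U}` -/
noncomputable def πC (U V : Opens X) : CohCx.freeSheaf JX V ⟶ (ZqC U).obj V :=
  cokernel.π (CohCx.freeSheafMap JX (homOfLE (inf_le_left : V ⊓ U ≤ V)))

instance (U V : Opens X) : Epi (πC U V) :=
  (LocCohZ.zqSeq_shortExact (inf_le_left : V ⊓ U ≤ V)).epi_g

lemma b2_mk₀ (U : Opens X) (F : CohTop.Ab X) (k : (Opens X)ᵒᵖ)
    (φ : (ZqC U).obj k.unop ⟶ F) :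
    b2 U F k (Ext.mk₀ φ) = CohFree.evalGen JX k.unop F (πC U k.unop ≫ φ) :=
  aHom_mk₀ _ F φ

lemma πC_map (U : Opens X) {V' V : Opens X} (g : V' ⟶ V) :
    πC U V' ≫ (ZqC U).map g = CohCx.freeSheafMap JX g ≫ πC U V :=
  cokernel.π_desc _ _ _

lemma pF_map_mk₀ (U : Opens X) (F : CohTop.Ab X) {k k' : (Opens X)ᵒᵖ} (g : k ⟶ k')
    (φ : (ZqC U).obj k.unop ⟶ F) :
    ((pF (ZqC U) 0).obj F).map g (Ext.mk₀ φ) = Ext.mk₀ ((ZqC U).map g.unop ≫ φ) :=
  (pF_obj_map_apply (ZqC U) 0 F g (Ext.mk₀ φ)).trans (Ext.mk₀_comp_mk₀ _ _)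

lemma b2_map' (U : Opens X) (F : CohTop.Ab X) {k k' : (Opens X)ᵒᵖ} (g : k ⟶ k')
    (φ : (ZqC U).obj k.unop ⟶ F) :
    b2 U F k' (((pF (ZqC U) 0).obj F).map g (Ext.mk₀ φ)) =
      ((sheafToPresheaf JX AddCommGrpCat.{u}).obj F).map g (b2 U F k (Ext.mk₀ φ)) := by
  have e1 := pF_map_mk₀ U F g φ
  have e2 : b2 U F k' (((pF (ZqC U) 0).obj F).map g (Ext.mk₀ φ)) =
      b2 U F k' (Ext.mk₀ ((ZqC U).map g.unop ≫ φ)) := congrArg (b2 U F k') e1
  refine e2.trans ?_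
  have e3 : πC U k'.unop ≫ ((ZqC U).map g.unop ≫ φ) =
      CohCx.freeSheafMap JX g.unop ≫ (πC U k.unop ≫ φ) := by
    rw [← Category.assoc, πC_map, Category.assoc]
  refine (b2_mk₀ U F k' _).trans ?_
  refine (congrArg (CohFree.evalGen JX k'.unop F) e3).trans ?_
  refine (CohFree.evalGen_freeSheafMap_comp JX g.unop F _).trans ?_
  rw [b2_mk₀]
  rfl

lemma b2_map (U : Opens X) (F : CohTop.Ab X) {k k' : (Opens X)ᵒᵖ} (g : k ⟶ k')
    (x : (((pF (ZqC U) 0).obj F).obj k : AddCommGrpCat.{u})) :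
    b2 U F k' (((pF (ZqC U) 0).obj F).map g x) =
      ((sheafToPresheaf JX AddCommGrpCat.{u}).obj F).map g (b2 U F k x) := by
  obtain ⟨φ, rfl⟩ : ∃ φ : (ZqC U).obj k.unop ⟶ F, Ext.mk₀ φ = x :=
    ⟨_, Ext.mk₀_addEquiv₀_apply (show Ext ((ZqC U).obj k.unop) F 0 from x)⟩
  exact b2_map' U F g φ

/-- degree zero, as functors to presheaves -/
theorem nonempty_iso_zero (U : Opens X) : Nonempty (TC U ≅ pF (ZqC U) 0) :=
  Groth.Agent.Lib.ExtPreDerived92.nonempty_iso_of_range_eq₂ (TC U) (pF (ZqC U) 0)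
    (sheafToPresheaf JX AddCommGrpCat.{u}) (a2 U) (b2 U)
    (fun F k => bHom_injective U k.unop F) (fun F k => aHom_injective _ F)
    (fun F k => (bHom_range U k.unop F).trans (aHom_range _ F).symm)
    (fun φ k x => bHom_natural U k.unop φ x)
    (fun φ _ x => aHom_natural _ φ x)
    (fun F _ _ g x => a2_map U F g x) (fun F _ _ g x => b2_map U F g x)

/-- **the derived functors of `F ↦ (V ↦ Γ_Z(F)(V))` are the presheaves
`V ↦ Ext^q(ℤ_V/ℤ_{V ⊓ U}, F)`** -/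
theorem nonempty_rightDerived_iso (U : Opens X) (q : ℕ) :
    Nonempty ((TC U).rightDerived q ≅ pF (ZqC U) q) := by
  obtain ⟨e0⟩ := nonempty_iso_zero U
  exact Groth.Agent.Lib.ExtPreDerived92.nonempty_rightDerived_iso (ZqC U) (TC U) e0 q

end Groth.Agent.Lib.HZPreDerived92

namespace Groth.Agent.Lib.HZPreDerived92

variable {X : TopCat.{u}}

open Groth.Agent.Lib.ExtPreDelta92 (pF pF_obj_map_apply)

local notation "JX" => Opens.grothendieckTopology X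

/-- compatibility of the restriction maps of `V ↦ H^q_{Z ∩ V}(V, F)` with the maps to `H^q(V, F)` -/
lemma toHU_pF_map (U : Opens X) (F : CohTop.Ab X) (q : ℕ) {V' V : Opens X} (g : V' ⟶ V)
    (x : Ext ((ZqC U).obj V) F q) :
    (Ext.mk₀ (πC U V')).comp (((pF (ZqC U) q).obj F).map g.op x) (zero_add q) =
      (Ext.mk₀ (CohCx.freeSheafMap JX g)).comp ((Ext.mk₀ (πC U V)).comp x (zero_add q))
        (zero_add q) := by
  have e1 : ((pF (ZqC U) q).obj F).map g.op x = (Ext.mk₀ ((ZqC U).map g)).comp x (zero_add q) :=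
    pF_obj_map_apply (ZqC U) q F g.op x
  rw [e1, Ext.mk₀_comp_mk₀_assoc, Ext.mk₀_comp_mk₀_assoc, πC_map]

end Groth.Agent.Lib.HZPreDerived92
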