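import Groth.Agent.Lib.HZPreDerived92
import Groth.Agent.Lib.Excision92

/-!
# Locally closed case: derived functors of `F ↦ (V' ↦ Γ_Z(F)(V'))`, `Z = V ∖ W`

The right derived functors of `SuppFam.sectSuppLC h ⋙ sheafToPresheaf` are the presheaves
`V' ↦ Ext^q(ℤ_{V ⊓ V'}/ℤ_{W ⊓ V'}, F)` (i.e. `SuppFam.HZpre F q h`).
-/

set_option autoImplicit false

universe u

open CategoryTheory CategoryTheory.Limits TopologicalSpace Opposite DeltaF Abelian

namespace Groth.Agent.Lib.HZPreDerivedLC92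

variable {X : TopCat.{u}}

open Groth.Agent.S19245 (res_res)
open Groth.Agent.S6023 (ιZ)
open Groth.Agent.Lib.ExtDelta (hF hF_map_apply)
open Groth.Agent.Lib.ExtPreDelta92 (pF pF_obj_map_apply pF_map_app)
open Groth.Agent.Lib.OpenShriek (jF jF_obj_le le_jF_preimage)

local notation "JX" => Opens.grothendieckTopology X

/-- the functor `V' ↦ ℤ_{V ⊓ V'}/ℤ_{W ⊓ V'}` -/
noncomputable def ZqLC {W V : Opens X} (h : W ≤ V) : Opens X ⥤ CohTop.Ab X where
  obj V' := LocCohZ.zq (inf_le_inf_right V' h : W ⊓ V' ≤ V ⊓ V')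
  map {V'' V'} g := LocCohZ.zqMap (inf_le_inf_right V' h) (inf_le_inf_right V'' h)
    (inf_le_inf_left W (leOfHom g)) (inf_le_inf_left V (leOfHom g))
  map_id V := SuppFam.zqMap_id _
  map_comp _ _ := (SuppFam.zqMap_comp _ _ _ _ _ _ _).symm

/-- the presheaf `V' ↦ Ext^q(ℤ_{V ⊓ V'}/ℤ_{W ⊓ V'}, F)` is `SuppFam.HZpre` -/
noncomputable def pFIsoHZpre {W V : Opens X} (h : W ≤ V) (F : CohTop.Ab X) (q : ℕ) :
    (pF (ZqLC h) q).obj F ≅ SuppFam.HZpre F q h :=
  NatIso.ofComponents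
    (fun k => (show ((pF (ZqLC h) q).obj F).obj k ≅ (SuppFam.HZpre F q h).obj k from
      (AddEquiv.refl (LocCohZ.HZ F q
        (inf_le_inf_right k.unop h : W ⊓ k.unop ≤ V ⊓ k.unop))).toAddCommGrpIso))
    (by
      intro k k' g
      ext x
      rfl)

/-- the functor `F ↦ (V' ↦ Γ_Z(F)(V'))` -/
noncomputable abbrev TLC {W V : Opens X} (h : W ≤ V) :
    CohTop.Ab X ⥤ ((Opens X)ᵒᵖ ⥤ AddCommGrpCat.{u}) :=
  SuppFam.sectSuppLC h ⋙ sheafToPresheaf JX AddCommGrpCat.{u}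

instance preservesFiniteLimits_push (V : Opens X) :
    PreservesFiniteLimits (CohTop.push (CohCx.incl V)) := by
  have : (CohTop.push (CohCx.incl V)).IsRightAdjoint :=
    (TopCat.Sheaf.pullbackPushforwardAdjunction AddCommGrpCat.{u} (CohCx.incl V)).isRightAdjoint
  infer_instance

instance preservesFiniteLimits_TLC {W V : Opens X} (h : W ≤ V) :
    PreservesFiniteLimits (TLC h) := by
  have := Groth.Agent.S6023.preservesFiniteLimits_sectSuppF (SuppFam.inOpen V W)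
  unfold TLC SuppFam.sectSuppLC
  infer_instance

/-- `V' ↦ V ⊓ V'` -/
def infF (V : Opens X) : Opens X ⥤ Opens X where
  obj V' := V ⊓ V'
  map g := homOfLE (inf_le_inf_left V (leOfHom g))

/-- `F ↦ (V' ↦ F(V ⊓ V'))` -/
noncomputable abbrev RLC (V : Opens X) : CohTop.Ab X ⥤ ((Opens X)ᵒᵖ ⥤ AddCommGrpCat.{u}) :=
  sheafToPresheaf JX AddCommGrpCat.{u} ⋙ (Functor.whiskeringLeft _ _ _).obj (infF V).op

/-- the trace of `k` on the subspace `V` -/
abbrev pb (V k : Opens X) : Opens (TopCat.of V) := (Opens.map (CohCx.incl V)).obj k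

lemma le1 (V k : Opens X) : V ⊓ k ≤ (jF V).obj (pb V k) :=
  fun x hx => ⟨⟨x, hx.1⟩, hx.2, rfl⟩

lemma le2 (V k : Opens X) : (jF V).obj (pb V k) ≤ V ⊓ k := by
  rintro x ⟨y, hy, rfl⟩
  exact ⟨y.2, hy⟩

lemma le3 {W V : Opens X} (h : W ≤ V) (k : Opens X) :
    W ⊓ k ≤ (jF V).obj (pb V k ⊓ SuppFam.inOpen V W) :=
  fun x hx => ⟨⟨x, h hx.1⟩, ⟨hx.2, hx.1⟩, rfl⟩

lemma le4 (W V k : Opens X) : (jF V).obj (pb V k ⊓ SuppFam.inOpen V W) ≤ W ⊓ k := by
  rintro x ⟨y, hy, rfl⟩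
  exact ⟨hy.2, hy.1⟩

lemma res_id (F : CohTop.Ab X) (A : Opens X) (hA : A ≤ A) (z : F.obj.obj (op A)) :
    F.obj.map (homOfLE hA).op z = z := by
  have : (homOfLE hA).op = 𝟙 (op A) := rfl
  rw [this, F.obj.map_id]
  rfl

lemma res_injective_of_le (F : CohTop.Ab X) {A B : Opens X} (h1 : A ≤ B) (h2 : B ≤ A) :
    Function.Injective (F.obj.map (homOfLE h1).op) := by
  intro s t hst
  have h3 := congrArg (fun z => F.obj.map (homOfLE h2).op z) hst
  simp only at h3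
  rw [res_res, res_res, res_id, res_id] at h3
  exact h3

open Groth.Agent.Lib.HZPairDerived (gammaZV bHom bHom_injective bHom_range bHom_natural aHom
  aHom_injective aHom_range aHom_natural aHom_mk₀)

/-- the embedding of `Γ_Z(F)(V')` in `F(V ⊓ V')` -/
noncomputable def a3' (W V : Opens X) (F : CohTop.Ab X) (k : Opens X) :
    ((gammaZV (SuppFam.inOpen V W) (pb V k)).obj (CohTop.restr F V) : AddCommGrpCat.{u}) →+
      F.obj.obj (op (V ⊓ k)) :=
  (F.obj.map (homOfLE (le1 V k)).op).hom.comp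
    (bHom (SuppFam.inOpen V W) (pb V k) (CohTop.restr F V))

lemma a3'_apply (W V : Opens X) (F : CohTop.Ab X) (k : Opens X)
    (x : ((gammaZV (SuppFam.inOpen V W) (pb V k)).obj (CohTop.restr F V) : AddCommGrpCat.{u})) :
    a3' W V F k x = F.obj.map (homOfLE (le1 V k)).op
      (show F.obj.obj (op ((jF V).obj (pb V k))) from
        bHom (SuppFam.inOpen V W) (pb V k) (CohTop.restr F V) x) := rfl

lemma a3'_injective (W V : Opens X) (F : CohTop.Ab X) (k : Opens X) :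
    Function.Injective (a3' W V F k) :=
  (res_injective_of_le F (le1 V k) (le2 V k)).comp
    (bHom_injective (SuppFam.inOpen V W) (pb V k) (CohTop.restr F V))

lemma mem_sectZ_restr_iff (V : Opens X) (F : CohTop.Ab X) {A B : Opens (TopCat.of V)}
    (hAB : A ≤ B) (t : F.obj.obj (op ((jF V).obj B))) :
    (show (CohTop.restr F V).obj.obj (op B) from t) ∈ LocCohZ.sectZ (CohTop.restr F V) hAB ↔
      F.obj.map (homOfLE ((jF V).map (homOfLE hAB)).le).op t = 0 := by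
  rw [AddMonoidHom.mem_ker]
  exact Iff.rfl

lemma a3'_range {W V : Opens X} (h : W ≤ V) (F : CohTop.Ab X) (k : Opens X) :
    (a3' W V F k).range = LocCohZ.sectZ F (inf_le_inf_right k h : W ⊓ k ≤ V ⊓ k) := by
  ext s
  constructor
  · rintro ⟨x, rfl⟩
    rw [AddMonoidHom.mem_ker, a3'_apply]
    let t : F.obj.obj (op ((jF V).obj (pb V k))) :=
      bHom (SuppFam.inOpen V W) (pb V k) (CohTop.restr F V) x
    have hx : (show (CohTop.restr F V).obj.obj (op (pb V k)) from t) ∈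
        LocCohZ.sectZ (CohTop.restr F V)
          (inf_le_left : pb V k ⊓ SuppFam.inOpen V W ≤ pb V k) := by
      rw [← bHom_range (SuppFam.inOpen V W) (pb V k) (CohTop.restr F V)]
      exact ⟨x, rfl⟩
    have h1 := (mem_sectZ_restr_iff V F _ t).1 hx
    have h2 : F.obj.map (homOfLE (le3 h k)).op
        (F.obj.map (homOfLE ((jF V).map (homOfLE
          (inf_le_left : pb V k ⊓ SuppFam.inOpen V W ≤ pb V k))).le).op t) = 0 := by
      rw [h1, map_zero]
    have e1 := res_res F ((jF V).map (homOfLE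
      (inf_le_left : pb V k ⊓ SuppFam.inOpen V W ≤ pb V k))).le (le3 h k) t
    have e2 := res_res F (le1 V k) (inf_le_inf_right k h : W ⊓ k ≤ V ⊓ k) t
    exact e2.trans (e1.symm.trans h2)
  · intro hs
    rw [AddMonoidHom.mem_ker] at hs
    let t : F.obj.obj (op ((jF V).obj (pb V k))) := F.obj.map (homOfLE (le2 V k)).op s
    have ht : (show (CohTop.restr F V).obj.obj (op (pb V k)) from t) ∈
        LocCohZ.sectZ (CohTop.restr F V)
          (inf_le_left : pb V k ⊓ SuppFam.inOpen V W ≤ pb V k) := by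
      rw [mem_sectZ_restr_iff]
      have h2 : F.obj.map (homOfLE (le4 W V k)).op
          (F.obj.map (homOfLE (inf_le_inf_right k h : W ⊓ k ≤ V ⊓ k)).op s) = 0 := by
        have : F.obj.map (homOfLE (inf_le_inf_right k h : W ⊓ k ≤ V ⊓ k)).op s = 0 := hs
        rw [this, map_zero]
      have e1 := res_res F (inf_le_inf_right k h : W ⊓ k ≤ V ⊓ k) (le4 W V k) s
      have e2 := res_res F (le2 V k) ((jF V).map (homOfLE
        (inf_le_left : pb V k ⊓ SuppFam.inOpen V W ≤ pb V k))).le s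
      exact e2.trans (e1.symm.trans h2)
    rw [← bHom_range (SuppFam.inOpen V W) (pb V k) (CohTop.restr F V)] at ht
    obtain ⟨x, hx⟩ := ht
    refine ⟨x, ?_⟩
    rw [a3'_apply]
    have hx' : (show F.obj.obj (op ((jF V).obj (pb V k))) from
        bHom (SuppFam.inOpen V W) (pb V k) (CohTop.restr F V) x) = t := hx
    rw [hx']
    exact (res_res F (le2 V k) (le1 V k) s).trans (res_id F _ _ s)

/-- the embedding of `Γ_Z(F)(V')` in `F(V ⊓ V')`, typed for the presheaf-valued functors -/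
noncomputable def a3 {W V : Opens X} (h : W ≤ V) (F : CohTop.Ab X) (k : (Opens X)ᵒᵖ) :
    (((TLC h).obj F).obj k : AddCommGrpCat.{u}) →+ (((RLC V).obj F).obj k : AddCommGrpCat.{u}) :=
  a3' W V F k.unop

/-- the embedding of `Hom(ℤ_{V ⊓ V'}/ℤ_{W ⊓ V'}, F)` in `F(V ⊓ V')` -/
noncomputable def b3 {W V : Opens X} (h : W ≤ V) (F : CohTop.Ab X) (k : (Opens X)ᵒᵖ) :
    (((pF (ZqLC h) 0).obj F).obj k : AddCommGrpCat.{u}) →+
      (((RLC V).obj F).obj k : AddCommGrpCat.{u}) :=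
  aHom (inf_le_inf_right k.unop h : W ⊓ k.unop ≤ V ⊓ k.unop) F

lemma a3_injective {W V : Opens X} (h : W ≤ V) (F : CohTop.Ab X) (k : (Opens X)ᵒᵖ) :
    Function.Injective (a3 h F k) := a3'_injective W V F k.unop

lemma b3_injective {W V : Opens X} (h : W ≤ V) (F : CohTop.Ab X) (k : (Opens X)ᵒᵖ) :
    Function.Injective (b3 h F k) :=
  aHom_injective _ F

lemma range_eq {W V : Opens X} (h : W ≤ V) (F : CohTop.Ab X) (k : (Opens X)ᵒᵖ) :
    (a3 h F k).range = (b3 h F k).range :=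
  (a3'_range h F k.unop).trans (aHom_range _ F).symm

lemma a3'_natural (W V : Opens X) {F G : CohTop.Ab X} (φ : F ⟶ G) (k : Opens X)
    (x : ((gammaZV (SuppFam.inOpen V W) (pb V k)).obj (CohTop.restr F V) : AddCommGrpCat.{u})) :
    a3' W V G k ((gammaZV (SuppFam.inOpen V W) (pb V k)).map ((CohTop.restrFunctor V).map φ) x) =
      φ.hom.app (op (V ⊓ k)) (a3' W V F k x) := by
  rw [a3'_apply, a3'_apply, bHom_natural]
  exact Groth.Agent.S6023.restrict_map_apply φ (le1 V k) _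

lemma a3_natural {W V : Opens X} (h : W ≤ V) {F G : CohTop.Ab X} (φ : F ⟶ G) (k : (Opens X)ᵒᵖ)
    (x : (((TLC h).obj F).obj k : AddCommGrpCat.{u})) :
    a3 h G k (((TLC h).map φ).app k x) = ((RLC V).map φ).app k (a3 h F k x) :=
  a3'_natural W V φ k.unop x

lemma b3_natural {W V : Opens X} (h : W ≤ V) {F G : CohTop.Ab X} (φ : F ⟶ G) (k : (Opens X)ᵒᵖ)
    (x : (((pF (ZqLC h) 0).obj F).obj k : AddCommGrpCat.{u})) :
    b3 h G k (((pF (ZqLC h) 0).map φ).app k x) = ((RLC V).map φ).app k (b3 h F k x) :=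
  aHom_natural _ φ x

lemma a3_map {W V : Opens X} (h : W ≤ V) (F : CohTop.Ab X) {k k' : (Opens X)ᵒᵖ} (g : k ⟶ k')
    (x : (((TLC h).obj F).obj k : AddCommGrpCat.{u})) :
    a3 h F k' (((TLC h).obj F).map g x) = ((RLC V).obj F).map g (a3 h F k x) := by
  have e0 : bHom (SuppFam.inOpen V W) (pb V k'.unop) (CohTop.restr F V)
      (((TLC h).obj F).map g x) =
      (CohTop.restr F V).obj.map ((Opens.map (CohCx.incl V)).map g.unop).op
        (bHom (SuppFam.inOpen V W) (pb V k.unop) (CohTop.restr F V) x) :=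
    ConcreteCategory.congr_hom
      ((ιZ (SuppFam.inOpen V W) (CohTop.restr F V)).hom.naturality
        ((Opens.map (CohCx.incl V)).map g.unop).op) x
  change F.obj.map (homOfLE (le1 V k'.unop)).op
    (show F.obj.obj (op ((jF V).obj (pb V k'.unop))) from
      bHom (SuppFam.inOpen V W) (pb V k'.unop) (CohTop.restr F V) (((TLC h).obj F).map g x)) =
    F.obj.map (homOfLE (inf_le_inf_left V (leOfHom g.unop))).op
      (F.obj.map (homOfLE (le1 V k.unop)).op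
        (show F.obj.obj (op ((jF V).obj (pb V k.unop))) from
          bHom (SuppFam.inOpen V W) (pb V k.unop) (CohTop.restr F V) x))
  rw [e0]
  change F.obj.map (homOfLE (le1 V k'.unop)).op
    (F.obj.map (homOfLE ((jF V).map ((Opens.map (CohCx.incl V)).map g.unop)).le).op
      (show F.obj.obj (op ((jF V).obj (pb V k.unop))) from
        bHom (SuppFam.inOpen V W) (pb V k.unop) (CohTop.restr F V) x)) = _
  rw [res_res, res_res]

/-- the canonical map `ℤ_{V ⊓ V'} ⟶ ℤ_{V ⊓ V'}/ℤ_{W ⊓ V'}` -/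
noncomputable def πLC {W V : Opens X} (h : W ≤ V) (k : Opens X) :
    CohCx.freeSheaf JX (V ⊓ k) ⟶ (ZqLC h).obj k :=
  cokernel.π (CohCx.freeSheafMap JX (homOfLE (inf_le_inf_right k h : W ⊓ k ≤ V ⊓ k)))

instance {W V : Opens X} (h : W ≤ V) (k : Opens X) : Epi (πLC h k) :=
  (LocCohZ.zqSeq_shortExact (inf_le_inf_right k h : W ⊓ k ≤ V ⊓ k)).epi_g

lemma b3_mk₀ {W V : Opens X} (h : W ≤ V) (F : CohTop.Ab X) (k : (Opens X)ᵒᵖ)
    (φ : (ZqLC h).obj k.unop ⟶ F) :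
    b3 h F k (Ext.mk₀ φ) = CohFree.evalGen JX (V ⊓ k.unop) F (πLC h k.unop ≫ φ) :=
  aHom_mk₀ _ F φ

lemma πLC_map {W V : Opens X} (h : W ≤ V) {k' k : Opens X} (g : k' ⟶ k) :
    πLC h k' ≫ (ZqLC h).map g =
      CohCx.freeSheafMap JX (homOfLE (inf_le_inf_left V (leOfHom g)) : V ⊓ k' ⟶ V ⊓ k) ≫
        πLC h k :=
  cokernel.π_desc _ _ _

lemma pF_map_mk₀ {W V : Opens X} (h : W ≤ V) (F : CohTop.Ab X) {k k' : (Opens X)ᵒᵖ} (g : k ⟶ k')
    (φ : (ZqLC h).obj k.unop ⟶ F) :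
    ((pF (ZqLC h) 0).obj F).map g (Ext.mk₀ φ) = Ext.mk₀ ((ZqLC h).map g.unop ≫ φ) :=
  (pF_obj_map_apply (ZqLC h) 0 F g (Ext.mk₀ φ)).trans (Ext.mk₀_comp_mk₀ _ _)

lemma b3_map' {W V : Opens X} (h : W ≤ V) (F : CohTop.Ab X) {k k' : (Opens X)ᵒᵖ} (g : k ⟶ k')
    (φ : (ZqLC h).obj k.unop ⟶ F) :
    b3 h F k' (((pF (ZqLC h) 0).obj F).map g (Ext.mk₀ φ)) =
      ((RLC V).obj F).map g (b3 h F k (Ext.mk₀ φ)) := by
  have e1 := pF_map_mk₀ h F g φ
  have e2 : b3 h F k' (((pF (ZqLC h) 0).obj F).map g (Ext.mk₀ φ)) =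
      b3 h F k' (Ext.mk₀ ((ZqLC h).map g.unop ≫ φ)) := congrArg (b3 h F k') e1
  refine e2.trans ?_
  have e3 : πLC h k'.unop ≫ ((ZqLC h).map g.unop ≫ φ) =
      CohCx.freeSheafMap JX
        (homOfLE (inf_le_inf_left V (leOfHom g.unop)) : V ⊓ k'.unop ⟶ V ⊓ k.unop) ≫
          (πLC h k.unop ≫ φ) := by
    rw [← Category.assoc, πLC_map, Category.assoc]
  refine (b3_mk₀ h F k' _).trans ?_
  refine (congrArg (CohFree.evalGen JX (V ⊓ k'.unop) F) e3).trans ?_
  refine (CohFree.evalGen_freeSheafMap_comp JX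
    (homOfLE (inf_le_inf_left V (leOfHom g.unop)) : V ⊓ k'.unop ⟶ V ⊓ k.unop) F _).trans ?_
  rw [b3_mk₀]
  rfl

lemma b3_map {W V : Opens X} (h : W ≤ V) (F : CohTop.Ab X) {k k' : (Opens X)ᵒᵖ} (g : k ⟶ k')
    (x : (((pF (ZqLC h) 0).obj F).obj k : AddCommGrpCat.{u})) :
    b3 h F k' (((pF (ZqLC h) 0).obj F).map g x) = ((RLC V).obj F).map g (b3 h F k x) := by
  obtain ⟨φ, rfl⟩ : ∃ φ : (ZqLC h).obj k.unop ⟶ F, Ext.mk₀ φ = x :=
    ⟨_, Ext.mk₀_addEquiv₀_apply (show Ext ((ZqLC h).obj k.unop) F 0 from x)⟩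
  exact b3_map' h F g φ

/-- degree zero, as functors to presheaves -/
theorem nonempty_iso_zero {W V : Opens X} (h : W ≤ V) : Nonempty (TLC h ≅ pF (ZqLC h) 0) :=
  Groth.Agent.Lib.ExtPreDerived92.nonempty_iso_of_range_eq₂ (TLC h) (pF (ZqLC h) 0) (RLC V)
    (a3 h) (b3 h) (a3_injective h) (b3_injective h) (range_eq h)
    (fun φ k x => a3_natural h φ k x) (fun φ k x => b3_natural h φ k x)
    (fun F _ _ g x => a3_map h F g x) (fun F _ _ g x => b3_map h F g x)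

instance TLC_additive {W V : Opens X} (h : W ≤ V) : (TLC h).Additive := by
  unfold TLC
  infer_instance

/-- **the derived functors of `F ↦ (V' ↦ Γ_Z(F)(V'))`, `Z = V ∖ W`, are the presheaves
`V' ↦ Ext^q(ℤ_{V ⊓ V'}/ℤ_{W ⊓ V'}, F)`** -/
theorem nonempty_rightDerived_iso {W V : Opens X} (h : W ≤ V) (q : ℕ) :
    Nonempty ((TLC h).rightDerived q ≅ pF (ZqLC h) q) := by
  obtain ⟨e0⟩ := nonempty_iso_zero h
  exact Groth.Agent.Lib.ExtPreDerived92.nonempty_rightDerived_iso (ZqLC h) (TLC h) e0 q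

end Groth.Agent.Lib.HZPreDerivedLC92
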