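import Groth.Prelude.Def_LocCohZ
import Groth.Agent.Lib.ExtMV
import Groth.Agent.Lib.H4ThreeByThree
import Mathlib.Topology.Sheaves.MayerVietoris

/-!
# Mayer–Vietoris for cohomology with supports `H^i_Z(X, F) = Ext^i(ℤ_X/ℤ_U, F)` (helper92)

* `shortExact_of_cokernels` : 3×3 lemma with a prescribed cokernel row.
* `shortExact_zq` : `0 ⟶ ℤ/ℤ_{U⊓U'} ⟶ ℤ/ℤ_U ⊞ ℤ/ℤ_{U'} ⟶ ℤ/ℤ_{U⊔U'} ⟶ 0` is short exact.
* `isMV_HZc` : the Mayer–Vietoris sequence (`ExtMV.IsMV`) for `LocCohZ.HZc` and `LocCohZ.resZ`.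
-/

set_option autoImplicit false
universe v u
open CategoryTheory CategoryTheory.Limits TopologicalSpace Opposite

namespace Groth.Agent.Lib.HZcMV92

section Abstract

variable {C : Type u} [Category.{v} C] [Abelian C]

/-- 3×3 lemma with a prescribed cokernel row. -/
theorem shortExact_of_cokernels {S₁ S₂ T : ShortComplex C} (h₁ : S₁.ShortExact)
    (h₂ : S₂.ShortExact) (v : S₁ ⟶ S₂) [Mono v.τ₃] (π' : S₂ ⟶ T)
    (w₁ : v.τ₁ ≫ π'.τ₁ = 0) (w₂ : v.τ₂ ≫ π'.τ₂ = 0) (w₃ : v.τ₃ ≫ π'.τ₃ = 0)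
    (e₁ : (ShortComplex.mk _ _ w₁).Exact) [Epi π'.τ₁]
    (e₂ : (ShortComplex.mk _ _ w₂).Exact) [Epi π'.τ₂]
    (e₃ : (ShortComplex.mk _ _ w₃).Exact) [Epi π'.τ₃] : T.ShortExact := by
  obtain ⟨S₃, π, u₁, u₂, u₃, hS₃, x₁, hx₁, x₂, hx₂, x₃, hx₃⟩ :=
    Groth.Agent.Lib.H4ThreeByThree.exists_cokernel_row h₁ h₂ v
  have c₁ : IsColimit (CokernelCofork.ofπ π.τ₁ u₁) := x₁.gIsCokernel
  have c₂ : IsColimit (CokernelCofork.ofπ π.τ₂ u₂) := x₂.gIsCokernel
  have c₃ : IsColimit (CokernelCofork.ofπ π.τ₃ u₃) := x₃.gIsCokernel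
  have d₁ : IsColimit (CokernelCofork.ofπ π'.τ₁ w₁) := e₁.gIsCokernel
  have d₂ : IsColimit (CokernelCofork.ofπ π'.τ₂ w₂) := e₂.gIsCokernel
  have d₃ : IsColimit (CokernelCofork.ofπ π'.τ₃ w₃) := e₃.gIsCokernel
  let i₁ : S₃.X₁ ≅ T.X₁ := c₁.coconePointUniqueUpToIso d₁
  let i₂ : S₃.X₂ ≅ T.X₂ := c₂.coconePointUniqueUpToIso d₂
  let i₃ : S₃.X₃ ≅ T.X₃ := c₃.coconePointUniqueUpToIso d₃
  have f₁ : π.τ₁ ≫ i₁.hom = π'.τ₁ :=
    IsColimit.comp_coconePointUniqueUpToIso_hom c₁ d₁ WalkingParallelPair.one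
  have f₂ : π.τ₂ ≫ i₂.hom = π'.τ₂ :=
    IsColimit.comp_coconePointUniqueUpToIso_hom c₂ d₂ WalkingParallelPair.one
  have f₃ : π.τ₃ ≫ i₃.hom = π'.τ₃ :=
    IsColimit.comp_coconePointUniqueUpToIso_hom c₃ d₃ WalkingParallelPair.one
  refine ShortComplex.shortExact_of_iso (ShortComplex.isoMk i₁ i₂ i₃ ?_ ?_) hS₃
  · rw [← cancel_epi π.τ₁, reassoc_of% f₁, π'.comm₁₂, ← f₂, π.comm₁₂_assoc]
  · rw [← cancel_epi π.τ₂, reassoc_of% f₂, π'.comm₂₃, ← f₃, π.comm₂₃_assoc]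

/-- the cokernel of a direct sum of maps is the direct sum of the cokernels -/
theorem exact_biprod_map {X X' Y Y' Z Z' : C} (f : X ⟶ Y) (g : Y ⟶ Z) (f' : X' ⟶ Y') (g' : Y' ⟶ Z')
    (w : f ≫ g = 0) (w' : f' ≫ g' = 0) (h : (ShortComplex.mk f g w).Exact)
    (h' : (ShortComplex.mk f' g' w').Exact) [Epi g] [Epi g'] :
    (ShortComplex.mk (biprod.map f f') (biprod.map g g')
      (by ext <;> simp [w, w'])).Exact ∧ Epi (biprod.map g g') := by
  have c : IsColimit (CokernelCofork.ofπ g w) := h.gIsCokernel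
  have c' : IsColimit (CokernelCofork.ofπ g' w') := h'.gIsCokernel
  refine (ShortComplex.exact_and_epi_g_iff_g_is_cokernel _).2 ⟨?_⟩
  refine CokernelCofork.IsColimit.ofπ _ _
    (fun {W} s hs => biprod.desc
      (c.desc (CokernelCofork.ofπ (biprod.inl ≫ s) (by
        have := biprod.inl ≫= hs
        rwa [biprod.inl_map_assoc, comp_zero] at this)))
      (c'.desc (CokernelCofork.ofπ (biprod.inr ≫ s) (by
        have := biprod.inr ≫= hs
        rwa [biprod.inr_map_assoc, comp_zero] at this)))) ?_ ?_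
  · intro W s hs
    apply biprod.hom_ext'
    · rw [biprod.inl_map_assoc, biprod.inl_desc]
      exact c.fac _ WalkingParallelPair.one
    · rw [biprod.inr_map_assoc, biprod.inr_desc]
      exact c'.fac _ WalkingParallelPair.one
  · intro W s hs m hm
    apply biprod.hom_ext'
    · rw [biprod.inl_desc]
      apply Cofork.IsColimit.hom_ext c
      rw [Cofork.π_ofπ]
      erw [c.fac _ WalkingParallelPair.one]
      change g ≫ biprod.inl ≫ m = biprod.inl ≫ s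
      rw [← hm]
      exact (biprod.inl_map_assoc _ _ _).symm
    · rw [biprod.inr_desc]
      apply Cofork.IsColimit.hom_ext c'
      rw [Cofork.π_ofπ]
      erw [c'.fac _ WalkingParallelPair.one]
      change g' ≫ biprod.inr ≫ m = biprod.inr ≫ s
      rw [← hm]
      exact (biprod.inr_map_assoc _ _ _).symm

/-- the split short exact sequence `A ⟶ A ⊞ A ⟶ A` -/
theorem splitSC_shortExact (A : C) (w : biprod.lift (𝟙 A) (-𝟙 A) ≫ biprod.desc (𝟙 A) (𝟙 A) = 0) :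
    (ShortComplex.mk (biprod.lift (𝟙 A) (-𝟙 A)) (biprod.desc (𝟙 A) (𝟙 A)) w).ShortExact := by
  refine ShortComplex.Splitting.shortExact
    { r := biprod.fst
      s := biprod.inr
      f_r := by simp
      s_g := by simp
      id := ?_ }
  show biprod.fst ≫ biprod.lift (𝟙 A) (-𝟙 A) + biprod.desc (𝟙 A) (𝟙 A) ≫ biprod.inr = 𝟙 (A ⊞ A)
  apply biprod.hom_ext <;> apply biprod.hom_ext' <;>
    simp [Preadditive.comp_add, Preadditive.add_comp]

/-- change of sign convention for the short complex of a commutative square -/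
theorem shortExact_shortComplex'_of_neg {P A B Q : C} {a : P ⟶ A} {b : P ⟶ B} {c : A ⟶ Q}
    {d : B ⟶ Q} (sq : CommSq a b c d) (w : biprod.lift a (-b) ≫ biprod.desc c d = 0)
    (h : (ShortComplex.mk (biprod.lift a (-b)) (biprod.desc c d) w).ShortExact) :
    sq.shortComplex'.ShortExact := by
  let e₂ : A ⊞ B ≅ A ⊞ B :=
    { hom := biprod.map (𝟙 _) (-𝟙 _)
      inv := biprod.map (𝟙 _) (-𝟙 _)
      hom_inv_id := by apply biprod.hom_ext <;> apply biprod.hom_ext' <;> simp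
      inv_hom_id := by apply biprod.hom_ext <;> apply biprod.hom_ext' <;> simp }
  have e : ShortComplex.mk (biprod.lift a (-b)) (biprod.desc c d) w ≅ sq.shortComplex' := by
    refine ShortComplex.isoMk (Iso.refl _) e₂ (Iso.refl _) ?_ ?_
    · show 𝟙 P ≫ biprod.lift a b = biprod.lift a (-b) ≫ biprod.map (𝟙 A) (-𝟙 B)
      apply biprod.hom_ext <;> simp
    · show biprod.map (𝟙 A) (-𝟙 B) ≫ biprod.desc c (-d) = biprod.desc c d ≫ 𝟙 Q
      apply biprod.hom_ext' <;> simp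
  exact ShortComplex.shortExact_of_iso e h

end Abstract

section Top

variable {X : TopCat.{u}} (U U' : Opens X)

open LocCohZ

/-- `ℤ_A ⟶ ℤ_B` for `A ≤ B` -/
noncomputable def fm {A B : Opens X} (h : A ≤ B) :
    CohCx.freeSheaf (Opens.grothendieckTopology X) A ⟶
      CohCx.freeSheaf (Opens.grothendieckTopology X) B :=
  CohCx.freeSheafMap (Opens.grothendieckTopology X) (homOfLE h)

lemma fm_comp {A B C : Opens X} (h : A ≤ B) (h' : B ≤ C) : fm h ≫ fm h' = fm (h.trans h') := by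
  unfold fm
  rw [← CohFree.freeSheafMap_comp]
  congr 1

instance mono_fm {A B : Opens X} (h : A ≤ B) : Mono (fm h) := by
  unfold fm
  have := (zqSeq_shortExact h).mono_f
  exact this

/-- the Mayer–Vietoris short complex of free sheaves for `A ⊓ B, A, B, A ⊔ B`, in clean form -/
noncomputable def mvSC (A B : Opens X) : ShortComplex (CohTop.Ab X) :=
  ShortComplex.mk
    (biprod.lift (fm (inf_le_left : A ⊓ B ≤ A)) (-fm (inf_le_right : A ⊓ B ≤ B)))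
    (biprod.desc (fm (le_sup_left : A ≤ A ⊔ B)) (fm (le_sup_right : B ≤ A ⊔ B)))
    (by rw [biprod.lift_desc, Preadditive.neg_comp, fm_comp, fm_comp, add_neg_cancel])

theorem mvSC_shortExact (A B : Opens X) : (mvSC A B).ShortExact :=
  (Opens.mayerVietorisSquare A B).shortComplex_shortExact

/-- the split short complex `ℤ_X ⟶ ℤ_X ⊞ ℤ_X ⟶ ℤ_X` -/
noncomputable def topSC (X : TopCat.{u}) : ShortComplex (CohTop.Ab X) :=
  ShortComplex.mk
    (biprod.lift (𝟙 (CohCx.freeSheaf (Opens.grothendieckTopology X) (⊤ : Opens X))) (-𝟙 _))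
    (biprod.desc (𝟙 _) (𝟙 _))
    (by rw [biprod.lift_desc, Preadditive.neg_comp, Category.comp_id, add_neg_cancel])

theorem topSC_shortExact (X : TopCat.{u}) : (topSC X).ShortExact :=
  splitSC_shortExact _ _

/-- the map from the Mayer–Vietoris sequence of `(U, U')` to the split one -/
noncomputable def vMap : mvSC U U' ⟶ topSC X where
  τ₁ := fm le_top
  τ₂ := biprod.map (fm le_top) (fm le_top)
  τ₃ := fm le_top
  comm₁₂ := by
    dsimp [mvSC, topSC]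
    apply biprod.hom_ext
    · simp [fm_comp]
    · simp [fm_comp]
  comm₂₃ := by
    dsimp [mvSC, topSC]
    apply biprod.hom_ext'
    · simp [fm_comp]
    · simp [fm_comp]

/-- `ℤ/ℤ_{U⊓U'} ⟶ ℤ/ℤ_U` -/
noncomputable abbrev mA : zq (le_top : U ⊓ U' ≤ ⊤) ⟶ zq (le_top : U ≤ ⊤) :=
  zqMap (le_top : U ≤ ⊤) (le_top : U ⊓ U' ≤ ⊤) inf_le_left le_rfl
/-- `ℤ/ℤ_{U⊓U'} ⟶ ℤ/ℤ_{U'}` -/
noncomputable abbrev mB : zq (le_top : U ⊓ U' ≤ ⊤) ⟶ zq (le_top : U' ≤ ⊤) :=
  zqMap (le_top : U' ≤ ⊤) (le_top : U ⊓ U' ≤ ⊤) inf_le_right le_rfl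
/-- `ℤ/ℤ_U ⟶ ℤ/ℤ_{U⊔U'}` -/
noncomputable abbrev mC : zq (le_top : U ≤ ⊤) ⟶ zq (le_top : U ⊔ U' ≤ ⊤) :=
  zqMap (le_top : U ⊔ U' ≤ ⊤) (le_top : U ≤ ⊤) le_sup_left le_rfl
/-- `ℤ/ℤ_{U'} ⟶ ℤ/ℤ_{U⊔U'}` -/
noncomputable abbrev mD : zq (le_top : U' ≤ ⊤) ⟶ zq (le_top : U ⊔ U' ≤ ⊤) :=
  zqMap (le_top : U ⊔ U' ≤ ⊤) (le_top : U' ≤ ⊤) le_sup_right le_rfl

/-- the projection `ℤ_X ⟶ ℤ_X/ℤ_W` -/
noncomputable def pr (W : Opens X) :
    CohCx.freeSheaf (Opens.grothendieckTopology X) (⊤ : Opens X) ⟶ zq (le_top : W ≤ ⊤) :=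
  cokernel.π _

instance epi_pr (W : Opens X) : Epi (pr W) := by unfold pr; infer_instance

lemma fm_pr (W : Opens X) : fm (le_top : W ≤ ⊤) ≫ pr W = 0 := by
  unfold fm pr
  exact cokernel.condition _

lemma exact_fm_pr (W : Opens X) : (ShortComplex.mk _ _ (fm_pr W)).Exact :=
  (zqSeq_shortExact (le_top : W ≤ ⊤)).exact

/-- `cokernel.π` followed by `zqMap` (closed case) -/
@[reassoc]
lemma pr_zqMap {W W' : Opens X} (hW : W' ≤ W) :
    pr W' ≫ zqMap (le_top : W ≤ ⊤) (le_top : W' ≤ ⊤) hW le_rfl = pr W := by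
  unfold zqMap pr
  rw [cokernel.π_desc]
  have : CohCx.freeSheafMap (Opens.grothendieckTopology X) (homOfLE (le_rfl : (⊤ : Opens X) ≤ ⊤)) =
      𝟙 _ := CohFree.freeSheafMap_id _ _
  rw [this, Category.id_comp]

lemma zq_sq : CommSq (mA U U') (mB U U') (mC U U') (mD U U') := by
  constructor
  rw [← cancel_epi (pr (U ⊓ U')), pr_zqMap_assoc, pr_zqMap, pr_zqMap_assoc, pr_zqMap]

/-- the target short complex with Mathlib's sign convention -/
noncomputable def zqSC : ShortComplex (CohTop.Ab X) :=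
  ShortComplex.mk (biprod.lift (mA U U') (-mB U U')) (biprod.desc (mC U U') (mD U U'))
    (by rw [biprod.lift_desc, Preadditive.neg_comp, (zq_sq U U').w, add_neg_cancel])

/-- the projection from the split complex onto `zqSC` -/
noncomputable def prMap : topSC X ⟶ zqSC U U' where
  τ₁ := pr (U ⊓ U')
  τ₂ := biprod.map (pr U) (pr U')
  τ₃ := pr (U ⊔ U')
  comm₁₂ := by
    dsimp [zqSC, topSC]
    apply biprod.hom_ext
    · simp [pr_zqMap]
    · simp [pr_zqMap]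
  comm₂₃ := by
    dsimp [zqSC, topSC]
    apply biprod.hom_ext'
    · simp [pr_zqMap]
    · simp [pr_zqMap]

theorem zqSC_shortExact : (zqSC U U').ShortExact := by
  haveI : Mono (vMap U U').τ₃ := mono_fm _
  haveI : Epi (prMap U U').τ₁ := epi_pr _
  haveI : Epi (prMap U U').τ₃ := epi_pr _
  have h2 := exact_biprod_map _ _ _ _ (fm_pr U) (fm_pr U') (exact_fm_pr U) (exact_fm_pr U')
  haveI : Epi (prMap U U').τ₂ := h2.2
  exact shortExact_of_cokernels (mvSC_shortExact U U') (topSC_shortExact X) (vMap U U')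
    (prMap U U') (fm_pr _) _ (fm_pr _) (exact_fm_pr _) h2.1 (exact_fm_pr _)

/-- `0 ⟶ ℤ/ℤ_{U⊓U'} ⟶ ℤ/ℤ_U ⊞ ℤ/ℤ_{U'} ⟶ ℤ/ℤ_{U⊔U'} ⟶ 0` is short exact. -/
theorem shortExact_zq : (zq_sq U U').shortComplex'.ShortExact :=
  shortExact_shortComplex'_of_neg (zq_sq U U') _ (zqSC_shortExact U U')

/-- Mayer–Vietoris for cohomology with supports in closed subsets. -/
theorem isMV_HZc (F : CohTop.Ab X) :
    Groth.Agent.Lib.ExtMV.IsMV
      (fun n => resZ F n (le_top : U ⊔ U' ≤ ⊤) (le_top : U ≤ ⊤) le_sup_left le_rfl)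
      (fun n => resZ F n (le_top : U ⊔ U' ≤ ⊤) (le_top : U' ≤ ⊤) le_sup_right le_rfl)
      (fun n => resZ F n (le_top : U ≤ ⊤) (le_top : U ⊓ U' ≤ ⊤) inf_le_left le_rfl)
      (fun n => resZ F n (le_top : U' ≤ ⊤) (le_top : U ⊓ U' ≤ ⊤) inf_le_right le_rfl) :=
  Groth.Agent.Lib.ExtMV.isMV_of_shortExact (zq_sq U U') (shortExact_zq U U') F

end Top

end Groth.Agent.Lib.HZcMV92
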