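import Groth.Agent.Lib.H15ShriekAdj
import Groth.Agent.Lib.OpenShriek
import Groth.Prelude.Def_SuppFam

/-!
# Sections with support in a locally closed subset preserve injectives (topological spaces; helper65)
-/

set_option autoImplicit false
universe u
open CategoryTheory CategoryTheory.Limits TopologicalSpace Opposite

namespace Groth.Agent.Lib.SuppLCInj65

open Groth.Agent.Lib.H15ClosedSupp

variable {X : TopCat.{u}}

instance preservesFiniteLimits_pull {Y : TopCat.{u}} (f : X ⟶ Y) : PreservesFiniteLimits (CohTop.pull f) := by
  show PreservesFiniteLimits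
    ((Opens.map f).sheafPullback AddCommGrpCat.{u} (Opens.grothendieckTopology Y)
      (Opens.grothendieckTopology X))
  apply CategoryTheory.Functor.sheafPullbackConstruction.preservesFiniteLimits

/-- direct images preserve injectives -/
lemma injective_push {Y : TopCat.{u}} (f : X ⟶ Y) (I : CohTop.Ab X) (hI : Injective I) :
    Injective ((CohTop.push f).obj I) := by
  have h : (CohTop.pull f).PreservesMonomorphisms :=
    have := preservesFiniteLimits_pull f
    inferInstance
  exact @Injective.injective_of_adjoint _ _ _ _ (CohTop.pull f) (CohTop.push f) h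
    (TopCat.Sheaf.pullbackPushforwardAdjunction AddCommGrpCat.{u} f) I hI

/-- `Γ_Z` (closed complement of an open) preserves injectives -/
theorem injective_sectSuppF (U : Opens X) (I : CohTop.Ab X) [Injective I] :
    Injective ((LocCohZ.sectSuppF U).obj I) := by
  obtain ⟨adj⟩ := Groth.Agent.Lib.H15ShriekAdj.main U
  let i := CohCx.inclCompl U
  have hi : Topology.IsInducing i := Topology.IsInducing.subtypeVal
  have hrange : Set.range i = (U : Set X)ᶜ := Subtype.range_coe
  have hcl : IsClosed (Set.range i) := by rw [hrange]; exact U.2.isClosed_compl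
  have : (CohTop.push i).PreservesMonomorphisms :=
    have : (CohTop.push i).IsRightAdjoint :=
      (TopCat.Sheaf.pullbackPushforwardAdjunction AddCommGrpCat.{u} i).isRightAdjoint
    inferInstance
  have h1 : Injective ((LocCohZ.sectSuppF U ⋙ CohTop.pull i).obj I) :=
    Injective.injective_of_adjoint adj I
  have h2 : Injective ((CohTop.push i).obj ((LocCohZ.sectSuppF U ⋙ CohTop.pull i).obj I)) :=
    injective_push i _ h1
  have h3 : IsIso ((TopCat.Sheaf.pullbackPushforwardAdjunction AddCommGrpCat.{u} i).unit.app
      (CohCx.sectSupp U I)) :=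
    isIso_unit_of_supported AddCommGrpCat.{u} i (CohCx.sectSupp U I) hi hcl
      (fun V hV => subsingleton_sectSupp U I V (by
        intro x hx
        by_contra hxU
        exact Set.disjoint_left.1 hV hx (by rw [hrange]; exact hxU)))
      (fun V => ⟨0⟩)
  exact Injective.of_iso (asIso ((TopCat.Sheaf.pullbackPushforwardAdjunction AddCommGrpCat.{u} i).unit.app
      (CohCx.sectSupp U I))).symm h2

/-- `Γ_Z` for `Z = V ∖ W` locally closed preserves injectives -/
theorem injective_sectSuppLC {W V : Opens X} (h : W ≤ V) (F : CohTop.Ab X) [Injective F] :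
    Injective ((SuppFam.sectSuppLC h).obj F) := by
  have h1 : Injective ((CohTop.restrFunctor V).obj F) := Groth.Agent.Lib.OpenShriek.injective_restr V F
  have h2 := injective_sectSuppF (SuppFam.inOpen V W) ((CohTop.restrFunctor V).obj F)
  exact injective_push (CohCx.incl V) _ h2

end Groth.Agent.Lib.SuppLCInj65
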