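import Groth.Agent.Lib.HZPairDerived
import Groth.Agent.Lib.HCompInj65
import Groth.Agent.Lib.SuppLCInj65

/-!
# Edge isomorphism `Γ(V, ℋ^d_Z F) ≅ H^d_{Z ∩ V}(V, F)` when `ℋ^i_Z F = 0` for `i < d`
-/

set_option autoImplicit false
universe u
open CategoryTheory CategoryTheory.Limits TopologicalSpace Opposite

namespace Groth.Agent.Lib.HZshEdge92

open Groth.Agent.Lib.SectDerived (sect)
open Groth.Agent.Lib.HZPairDerived (gammaZV)

variable {X : TopCat.{u}}

instance preservesInjectiveObjects_sectSuppF (U : Opens X) :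
    (LocCohZ.sectSuppF U).PreservesInjectiveObjects where
  injective_obj {I} _ := Groth.Agent.Lib.SuppLCInj65.injective_sectSuppF U I

/-- transport of `HZ` along an equality of the smaller open -/
noncomputable def hzCongr (F : CohTop.Ab X) (i : ℕ) {W W' V : Opens X} (e : W = W') (h : W ≤ V)
    (h' : W' ≤ V) : LocCohZ.HZ F i h ≃+ LocCohZ.HZ F i h' := by
  subst e
  exact AddEquiv.refl _

/-- **edge isomorphism** -/
theorem nonempty_sections_addEquiv (F : CohTop.Ab X) (U V : Opens X) (d : ℕ)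
    (h : ∀ i : ℕ, i < d → IsZero ((LocCohZ.HZsh U i).obj F)) :
    Nonempty ((((LocCohZ.HZsh U d).obj F).obj.obj (op V) : AddCommGrpCat.{u}) ≃+
      LocCohZ.HZ F d (inf_le_left : V ⊓ U ≤ V)) := by
  have := Groth.Agent.S6023.preservesFiniteLimits_sectSuppF U
  have hiso := Groth.Agent.Lib.HCompInj65.isIso_edgeOut (LocCohZ.sectSuppF U)
    (sect (Opens.grothendieckTopology X) V) d F h
  obtain ⟨e⟩ := Groth.Agent.Lib.HZPairDerived.nonempty_rightDerived_obj_iso U V F d
  let e2 := (asIso (RDer.edgeOut (LocCohZ.sectSuppF U)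
    (sect (Opens.grothendieckTopology X) V) d F)).symm ≪≫ e
  exact ⟨e2.addCommGroupIsoToAddEquiv⟩

/-- the case `V = ⊤` -/
theorem nonempty_sections_top_addEquiv (F : CohTop.Ab X) (U : Opens X) (d : ℕ)
    (h : ∀ i : ℕ, i < d → IsZero ((LocCohZ.HZsh U i).obj F)) :
    Nonempty ((((LocCohZ.HZsh U d).obj F).obj.obj (op ⊤) : AddCommGrpCat.{u}) ≃+
      LocCohZ.HZc F d U) := by
  obtain ⟨e⟩ := nonempty_sections_addEquiv F U ⊤ d h
  exact ⟨e.trans (hzCongr F d (top_inf_eq U) _ _)⟩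

end Groth.Agent.Lib.HZshEdge92
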