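import Groth.Agent.Lib.LocalHomotopy
import Mathlib.Algebra.Homology.HomotopyCategory.HomologicalFunctor
import Mathlib.Algebra.Homology.HomotopyCategory.ShiftSequence
import Mathlib.Algebra.Homology.HomotopyCategory.Triangulated

/-!
# Local lifting, up to homotopy, of maps from strictly perfect complexes through
"quasi-isomorphisms in degrees `> a`"
-/

set_option autoImplicit false
universe u

open CategoryTheory CategoryTheory.Limits AlgebraicGeometry

namespace Groth.Agent.Lib.LocalLiftCone

section Abstract

variable {A : Type*} [Category A] [Abelian A]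

open CochainComplex in
/-- If `α ≫ inr φ` is null-homotopic, then `α` factors through `φ` up to homotopy. -/
theorem exists_factor_of_homotopy_inr {K L M : CochainComplex A ℤ} (φ : K ⟶ L) (α : M ⟶ L)
    (H : Homotopy (α ≫ mappingCone.inr φ) 0) :
    ∃ β : M ⟶ K, Nonempty (Homotopy (β ≫ φ) α) := by
  let Q := HomotopyCategory.quotient A (ComplexShape.up ℤ)
  have hT := HomotopyCategory.mappingCone_triangleh_distinguished φ
  have h0 : Q.map α ≫ (mappingCone.triangleh φ).mor₂ = 0 := by
    change Q.map α ≫ Q.map (mappingCone.inr φ) = 0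
    rw [← Q.map_comp, HomotopyCategory.eq_of_homotopy _ _ H, Q.map_zero]
  obtain ⟨g, hg⟩ := Pretriangulated.Triangle.coyoneda_exact₂ _ hT (Q.map α) h0
  obtain ⟨β, rfl⟩ := Q.map_surjective g
  refine ⟨β, ⟨HomotopyCategory.homotopyOfEq _ _ ?_⟩⟩
  rw [Q.map_comp]
  exact hg.symm


open CochainComplex in
/-- The mapping cone of `f` has no cohomology in degree `i` if `H^i(f)` is an epimorphism and
`H^{i+1}(f)` is a monomorphism. -/
theorem isZero_homology_mappingCone {G F : CochainComplex A ℤ} (f : G ⟶ F) (i : ℤ)
    (h1 : Epi (HomologicalComplex.homologyMap f i))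
    (h2 : Mono (HomologicalComplex.homologyMap f (i + 1))) :
    IsZero ((mappingCone f).homology i) := by
  let H0 := HomotopyCategory.homologyFunctor A (ComplexShape.up ℤ) 0
  let T := mappingCone.triangleh f
  have hT : T ∈ distTriang _ := HomotopyCategory.mappingCone_triangleh_distinguished f
  have ex := H0.homologySequence_exact₃ T hT i (i + 1) rfl
  have hepi : Epi ((H0.shift i).map T.mor₁) := by
    have e := NatIso.naturality_2 (HomotopyCategory.homologyFunctorFactors A (ComplexShape.up ℤ) i) f
    change Epi ((HomotopyCategory.homologyFunctor A (ComplexShape.up ℤ) i).map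
      ((HomotopyCategory.quotient A (ComplexShape.up ℤ)).map f))
    have h1' : Epi ((HomologicalComplex.homologyFunctor A (ComplexShape.up ℤ) i).map f) := h1
    rw [← Functor.comp_map, ← e]
    infer_instance
  have hmono : Mono ((H0.shift (i + 1)).map T.mor₁) := by
    have e := NatIso.naturality_2
      (HomotopyCategory.homologyFunctorFactors A (ComplexShape.up ℤ) (i + 1)) f
    change Mono ((HomotopyCategory.homologyFunctor A (ComplexShape.up ℤ) (i + 1)).map
      ((HomotopyCategory.quotient A (ComplexShape.up ℤ)).map f))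
    have h2' : Mono ((HomologicalComplex.homologyFunctor A (ComplexShape.up ℤ) (i + 1)).map f) :=
      h2
    rw [← Functor.comp_map, ← e]
    infer_instance
  have e1 : (H0.shift i).map T.mor₂ = 0 :=
    (H0.homologySequence_epi_shift_map_mor₁_iff T hT i).1 hepi
  have e2 : H0.homologySequenceδ T i (i + 1) rfl = 0 :=
    (H0.homologySequence_mono_shift_map_mor₁_iff T hT i (i + 1) rfl).1 hmono
  have hz := ex.isZero_of_both_zeros e1 e2
  exact IsZero.of_iso hz
    ((HomotopyCategory.homologyFunctorFactors A (ComplexShape.up ℤ) i).app (mappingCone f)).symm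

end Abstract


section Main

variable {X : Scheme.{u}}

open CochainComplex Groth.Agent.Lib.LocalHomotopy in
/-- Stacks 08C7-type lemma: `E` strictly perfect with `E^j = 0` for `j < a`, `f : G ⟶ F` an
isomorphism on `H^j` for `j > a` and an epimorphism on `H^a`, `α : E ⟶ F`. Then locally there is
`β : E ⟶ G` with `β ≫ f` homotopic to `α`. -/
theorem exists_lift_up_to_homotopy {E F G : CochainComplex X.Modules ℤ}
    (α : E ⟶ F) (f : G ⟶ F) (hE : DCoh.IsStrictlyPerfect E) (a : ℤ)
    (hEa : ∀ j : ℤ, j < a → IsZero (E.X j))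
    (hf : ∀ j : ℤ, a < j → IsIso (HomologicalComplex.homologyMap f j))
    (hfa : Epi (HomologicalComplex.homologyMap f a)) (x : X) :
    ∃ (V : X.Opens) (β : (DCoh.restrictCx V).obj E ⟶ (DCoh.restrictCx V).obj G), x ∈ V ∧
      Nonempty (Homotopy (β ≫ (DCoh.restrictCx V).map f) ((DCoh.restrictCx V).map α)) := by
  have hC : ∀ i : ℤ, a ≤ i → IsZero ((mappingCone f).homology i) := by
    intro i hi
    have h2 : IsIso (HomologicalComplex.homologyMap f (i + 1)) := hf (i + 1) (by omega)
    refine isZero_homology_mappingCone f i ?_ inferInstance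
    rcases eq_or_lt_of_le hi with rfl | hi'
    · exact hfa
    · have := hf i hi'
      infer_instance
  obtain ⟨V, hxV, ⟨H⟩⟩ := exists_homotopy_zero (α ≫ mappingCone.inr f) hE a hEa hC x
  let iso := mappingCone.mapHomologicalComplexIso f (Scheme.Modules.restrictFunctor V.ι)
  have H' : Homotopy ((DCoh.restrictCx V).map α ≫ mappingCone.inr ((DCoh.restrictCx V).map f))
      0 := by
    have H1 := H.compRight iso.hom
    refine (Homotopy.ofEq ?_).trans (H1.trans (Homotopy.ofEq zero_comp))
    rw [Functor.map_comp, Category.assoc]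
    congr 1
    exact (mappingCone.map_inr f (Scheme.Modules.restrictFunctor V.ι)).symm
  obtain ⟨β, hβ⟩ := exists_factor_of_homotopy_inr ((DCoh.restrictCx V).map f)
    ((DCoh.restrictCx V).map α) H'
  exact ⟨V, β, hxV, hβ⟩

end Main

end Groth.Agent.Lib.LocalLiftCone
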