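import Groth.Agent.Lib.FlatModClosure
import Groth.Agent.Lib.DRingPerfAmp
import Groth.Agent.Lib.PseudoCohSummand
import Groth.Agent.S0944

/-!
# Pseudo-coherent + finite tor dimension ⇒ perfect, for `D(O_X)`
-/

set_option autoImplicit false
universe u

open CategoryTheory CategoryTheory.Limits AlgebraicGeometry
open scoped ZeroObject

namespace Groth.Agent.Lib.PerfectFlatAmp

attribute [local instance] HasDerivedCategory.standard

open Groth.Agent.Lib.RestrictExact Groth.Agent.Lib.FinLocFree Groth.Agent.Lib.PerfectLocal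
  Groth.Agent.Lib.PerfectD Groth.Agent.Lib.FlatBaseChangeD Groth.Agent.Lib.PseudoCohD
  Groth.Agent.Lib.PseudoCohTriangle Groth.Agent.Lib.FlatModClosure

section Core

variable {Y : Scheme.{u}}

/-- Flatness as an object property. -/
def flatProp (Y : Scheme.{u}) : ObjectProperty Y.Modules := fun M => FlatMod.IsFlat M

instance : (flatProp Y).IsClosedUnderIsomorphisms := ⟨fun e h => isFlat_of_iso e h⟩

instance : (flatProp Y).ContainsZero := ⟨⟨0, isZero_zero _, isFlat_of_isZero (isZero_zero _)⟩⟩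

open Groth.Agent.Lib.DRingPerfAmp in
/-- If `g₀ : P ⟶ F` is a quasi-isomorphism in degrees `≥ a` from a strictly perfect complex to a
complex of flat modules vanishing outside `[a, c]`, then `τ_{≥ a} P` is strictly perfect and
quasi-isomorphic to `F`. -/
theorem truncGE_strictlyPerfect {P F : CochainComplex Y.Modules ℤ}
    (hP : DCoh.IsStrictlyPerfect P) (a c : ℤ) (hvan : DCoh.VanishesOutside F a c)
    (hflat : ∀ i, FlatMod.IsFlat (F.X i)) (g₀ : P ⟶ F)
    (hg₀ : ∀ i : ℤ, a ≤ i → QuasiIsoAt g₀ i) :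
    DCoh.IsStrictlyPerfect (P.truncGE a) ∧
      Nonempty (DerivedCategory.Q.obj (P.truncGE a) ≅ DerivedCategory.Q.obj F) := by
  obtain ⟨⟨a', b, hab⟩, hfree⟩ := hP
  have hF : F.IsStrictlyGE a := by
    rw [CochainComplex.isStrictlyGE_iff]
    exact fun i hi => hvan i (Or.inl hi)
  have hπ : IsIso (F.πTruncGE a) := (F.isIso_πTruncGE_iff a).2 hF
  have hq : QuasiIso (CochainComplex.truncGEMap g₀ a) :=
    (CochainComplex.quasiIso_truncGEMap_iff g₀ a).2 hg₀
  let g : P.truncGE a ⟶ F := CochainComplex.truncGEMap g₀ a ≫ inv (F.πTruncGE a)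
  have hg : QuasiIso g := by dsimp only [g]; infer_instance
  have hXflat : ∀ i : ℤ, a < i → FlatMod.IsFlat ((P.truncGE a).X i) := fun i hi =>
    isFlat_of_iso (P.truncGEXIso a i hi).symm (isFlat_of_isFinLocFree (hfree i))
  have hc : a ≤ max (max a c) b := le_trans (le_max_left a c) (le_max_left _ _)
  have hbot : FlatMod.IsFlat (((P.truncGE a).truncGE a).X a) :=
    prop_truncGE_bottom (flatProp Y) (fun _ _ h1 h2 => isFlat_prod h1 h2)
      (fun E F u hu hE hF => by haveI := hu; exact isFlat_kernel_of_epi u hE hF)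
      a (max (max a c) b) hc g hXflat
      (fun i hi => IsZero.of_iso (hab i (Or.inr (lt_of_le_of_lt (le_max_right _ _) hi)))
        (P.truncGEXIso a i (lt_of_le_of_lt hc hi)))
      hflat
      (fun i hi => hvan i (by
        rcases hi with hi | hi
        · exact Or.inl hi
        · exact Or.inr (lt_of_le_of_lt (le_trans (le_max_right a c) (le_max_left _ _)) hi)))
  have hπE : IsIso ((P.truncGE a).πTruncGE a) := ((P.truncGE a).isIso_πTruncGE_iff a).2 inferInstance
  have hEa : FlatMod.IsFlat ((P.truncGE a).X a) :=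
    isFlat_of_iso ((HomologicalComplex.eval _ _ a).mapIso (asIso ((P.truncGE a).πTruncGE a))).symm
      hbot
  let eco : cokernel (P.d (a - 1) a) ≅ P.opcycles a :=
    (colimit.isColimit _).coconePointUniqueUpToIso (P.opcyclesIsCokernel (a - 1) a (by simp))
  let eX : (P.truncGE a).X a ≅ cokernel (P.d (a - 1) a) := P.truncGEXIsoOpcycles a ≪≫ eco.symm
  have hfp : CohB1.IsFP (cokernel (P.d (a - 1) a)) :=
    Groth.Agent.Lib.LocalFlex.isFP_cokernel_of_isFinLocFree (hfree _) (hfree _) _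
  have hlf : FlatMod.IsFinLocFree ((P.truncGE a).X a) :=
    isFinLocFree_of_iso eX.symm
      (Groth.Agent.Lib.LocFreeFP.isFinLocFree_of_isFP_of_flat _ hfp (isFlat_of_iso eX hEa))
  refine ⟨⟨⟨a, max a b, fun i hi => ?_⟩, fun i => ?_⟩, ⟨asIso (DerivedCategory.Q.map g)⟩⟩
  · rcases hi with hi | hi
    · exact (P.truncGE a).isZero_of_isStrictlyGE a i hi
    · exact IsZero.of_iso (hab i (Or.inr (lt_of_le_of_lt (le_max_right a b) hi)))
        (P.truncGEXIso a i (lt_of_le_of_lt (le_max_left a b) hi))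
  · rcases lt_trichotomy i a with hi | rfl | hi
    · exact Groth.Agent.Lib.CyclesRetract.isFinLocFree_of_isZero
        ((P.truncGE a).isZero_of_isStrictlyGE a i hi)
    · exact hlf
    · exact isFinLocFree_of_iso (P.truncGEXIso a i hi).symm (hfree i)

end Core

section Main

variable {X : Scheme.{u}}

theorem isFlat_restrict {Y : Scheme.{u}} (j : Y ⟶ X) [IsOpenImmersion j] {M : X.Modules}
    (h : FlatMod.IsFlat M) : FlatMod.IsFlat (M.restrict j) :=
  fun y => (Groth.Agent.Lib.RestrictStalk.flat_restrict_iff j M y).2 (h (j y))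

open Groth.Agent.Lib.PCohStupid in
/-- Local form: if `E|_V` is represented by a complex of flat modules vanishing outside `[a, c]`
and is `(a-1)`-pseudo-coherent on `V`, then `E` is represented by a strictly perfect complex near
each point of `V`. -/
theorem repOn_of_flat_of_pcOn (E : DCoh.D X) {V : X.Opens} {x : X} (hx : x ∈ V) (a c : ℤ)
    (F : CochainComplex (V : Scheme.{u}).Modules ℤ) (hvan : DCoh.VanishesOutside F a c)
    (hflat : ∀ i, FlatMod.IsFlat (F.X i))
    (iso : DerivedCategory.Q.obj F ≅ (DCoh.restrictD V.ι).obj E) (hpc : PCOn (a - 1) E V.ι) :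
    ∃ (Y : Scheme.{u}) (k : Y ⟶ X) (_ : IsOpenImmersion k), x ∈ Set.range k ∧ RepOn E k := by
  obtain ⟨P, α, hP, hα⟩ := (pcOn_iff _ _ _).1 hpc
  obtain ⟨W, hxW, hW⟩ := Groth.Agent.S0944.result (F := F) hP (α ≫ iso.inv) ⟨x, hx⟩
  obtain ⟨β, hβ⟩ := hW
  let fac := (Scheme.Modules.restrictFunctor W.ι).mapDerivedCategoryFactors
  have hQβ : DerivedCategory.Q.map β =
      fac.inv.app P ≫ (DCoh.restrictD W.ι).map (α ≫ iso.inv) ≫ fac.hom.app F := by
    rw [hβ]
    dsimp only [fac]
    rw [Category.assoc, Category.assoc, Iso.inv_hom_id_app, Iso.inv_hom_id_app_assoc]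
    erw [Category.comp_id]
  have hq : QIsoAbove (a - 1) (DerivedCategory.Q.map β) := by
    rw [hQβ]
    exact (QIsoAbove.of_iso _ (fac.symm.app P)).comp
      (((hα.comp (QIsoAbove.of_iso _ iso.symm)).restrict W.ι).comp
        (QIsoAbove.of_iso _ (fac.app F)))
  have hβq : ∀ i : ℤ, a ≤ i → QuasiIsoAt β i := fun i hi => by
    rw [quasiIsoAt_iff_isIso_homologyMap]
    exact (isIso_homologyFunctor_map_Q_iff β i).1 (hq.1 i (by omega))
  obtain ⟨hperf, ⟨e⟩⟩ := truncGE_strictlyPerfect (isStrictlyPerfect_resCx W.ι hP) a c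
    (fun i hi => (Scheme.Modules.restrictFunctor W.ι).map_isZero (hvan i hi))
    (fun i => isFlat_restrict W.ι (hflat i)) β hβq
  refine ⟨W, W.ι ≫ V.ι, inferInstance, ⟨⟨⟨x, hx⟩, hxW⟩, rfl⟩, _, hperf, ⟨?_⟩⟩
  exact ((restrictDCompIso W.ι V.ι _ rfl).app E).symm ≪≫ (DCoh.restrictD W.ι).mapIso iso.symm ≪≫
    fac.app F ≪≫ e.symm

/-- Stacks 08CQ-type statement: flat amplitude in `[a, b]` and `(a-1)`-pseudo-coherent implies
perfect. -/
theorem isPerfect_of_flatAmplitude_of_pc (E : DCoh.D X) (a b : ℤ)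
    (h1 : DCoh.HasFlatAmplitudeIn a b E) (h2 : DCoh.IsPseudoCoherentD (a - 1) E) :
    DCoh.IsPerfect E := by
  apply isPerfect_of_forall_repOn
  intro x
  obtain ⟨F, hvan, hflat, ⟨iso⟩⟩ := h1
  obtain ⟨V, hxV, hV⟩ := (isPseudoCoherentD_iff_pcOn _ _).1 h2 x
  refine repOn_of_flat_of_pcOn E hxV a b ((DCoh.restrictCx V).obj F)
    (fun i hi => (Scheme.Modules.restrictFunctor V.ι).map_isZero (hvan i hi))
    (fun i => isFlat_restrict V.ι (hflat i)) ?_ hV
  exact ((Scheme.Modules.restrictFunctor V.ι).mapDerivedCategoryFactors.app F).symm ≪≫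
    (DCoh.restrictD V.ι).mapIso iso

end Main

end Groth.Agent.Lib.PerfectFlatAmp
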