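import Groth.Agent.Lib.HZshKoszulVanish92
import Groth.Agent.Lib.KoszulPow92
import Groth.Agent.Lib.QCohFlat
import Groth.Agent.Lib.PerfectFlatAmp

/-!
# Local cohomology sheaves along a Koszul-regular locus, flat coefficients

If `Z = X ∖ U` is, locally on `X`, the zero locus of a Koszul-regular sequence of length `c`, then
`ℋ^i_Z(F) = 0` for `i ≠ c` and `F` flat quasi-coherent (abelian-sheaf version).
-/

set_option autoImplicit false
universe u
open CategoryTheory CategoryTheory.Limits TopologicalSpace AlgebraicGeometry Opposite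
open LocCohZ

namespace Groth.Agent.Lib.HZshKoszulRegular92

open Groth.Agent.Lib.HZDepthAffine92 (eR eM)
open Groth.Agent.Lib.KoszulCone (kcx)

section Algebra

variable {R R' : Type u} [CommRing R] [CommRing R']

/-- Koszul-regular sequences map to Koszul-regular sequences under flat ring maps -/
theorem isKoszulRegularSeq_map_of_flat (φ : R →+* R') (hφ : φ.Flat) (l : List R)
    (h : LCI.IsKoszulRegularSeq R l) : LCI.IsKoszulRegularSeq R' (l.map φ) := by
  let _ := φ.toAlgebra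
  have : Module.Flat R R' := hφ
  exact Groth.Agent.Lib.KoszulQuot.isKoszulRegularSeq_map_of_flat l h

/-- Koszul cohomology with flat coefficients along a Koszul-regular sequence vanishes outside
degree `0` -/
theorem isZero_homology_kcx_of_flat (l : List R) (h : LCI.IsKoszulRegularSeq R l)
    (M : ModuleCat.{u} R) [Module.Flat R M] (j : ℤ) (hj : j ≠ 0) :
    IsZero ((kcx M l).homology j) := by
  rcases lt_or_gt_of_ne hj with h2 | h2
  · exact Groth.Agent.Lib.KoszulQuot.isZero_homology_kcx_of_flat M l j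
      ((Groth.Agent.Lib.KoszulQuot.isKoszulRegularSeq_iff l).1 h j h2)
  · have := Groth.Agent.Lib.KoszulMinLen.subsingleton_homology_pos M l j h2
    exact ModuleCat.isZero_of_subsingleton _

end Algebra

variable {X : Scheme.{u}}

/-- restriction maps between affine opens are flat -/
theorem flat_res {V V' : X.Opens} (hV : IsAffineOpen V) (hV' : IsAffineOpen V') (hle : V' ≤ V) :
    (X.presheaf.map (homOfLE hle).op).hom.Flat := by
  have h := Scheme.Hom.flat_appLE (𝟙 X) hV hV' (show V' ≤ (𝟙 X) ⁻¹ᵁ V from hle)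
  have e : (𝟙 X : X ⟶ X).appLE V V' (show V' ≤ (𝟙 X) ⁻¹ᵁ V from hle) =
      X.presheaf.map (homOfLE hle).op := by
    simp only [Scheme.Hom.appLE, Scheme.Hom.id_app]
    exact Category.id_comp _
  rwa [e] at h

/-- `H^i_{Z ∩ V}(V, F) = 0` for `i ≠ c` when `V` is affine, `Z ∩ V` is the zero locus of a
Koszul-regular sequence of length `c` on `V` and `F` is flat quasi-coherent. -/
theorem subsingleton_HZ_of_koszulRegular (U : X.Opens) (F : X.Modules) (hF : Coh.IsQCoh F)
    (hFl : FlatMod.IsFlat F)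
    {V : X.Opens} (hV : IsAffineOpen V) (fs : List Γ(X, V))
    (hreg : LCI.IsKoszulRegularSeq Γ(X, V) fs)
    (hfs : X.zeroLocus (U := V) {a | a ∈ fs} ∩ (V : Set X) = (U : Set X)ᶜ ∩ (V : Set X))
    (i : ℕ) (hi : i ≠ fs.length) :
    Subsingleton (LocCohZ.HZ (Coh.toAb F) i (inf_le_left : V ⊓ U ≤ V)) := by
  obtain ⟨e⟩ := Groth.Agent.Lib.HZshKoszulVanish92.nonempty_HZ_addEquiv_koszulHLim U F hF hV fs hfs i
  have : F.IsQuasicoherent := hF
  have : IsAffine (V : Scheme.{u}) := hV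
  have : (F.restrict V.ι).IsQuasicoherent := Scheme.Modules.isQuasicoherent_restrictFunctor _ _
  have hflat : FlatMod.IsFlat (F.restrict V.ι) :=
    Groth.Agent.Lib.PerfectFlatAmp.isFlat_restrict V.ι hFl
  have htop : IsAffineOpen (⊤ : (V : Scheme.{u}).Opens) := isAffineOpen_top _
  have hM : Module.Flat Γ((V : Scheme.{u}), ⊤) ((F.restrict V.ι).val.obj (op ⊤)) :=
    (Groth.Agent.Lib.QCohFlat.isFlat_iff_forall_affine (F.restrict V.ι)).1 hflat ⟨⊤, htop⟩
  have hreg' : LCI.IsKoszulRegularSeq Γ((V : Scheme.{u}), ⊤) (fs.map (eR V).symm) :=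
    isKoszulRegularSeq_map_of_flat ((eR V).symm : Γ(X, V) →+* Γ((V : Scheme.{u}), ⊤))
      (RingHom.Flat.of_bijective (eR V).symm.bijective) fs hreg
  have hlen : (fs.map (eR V).symm).length = fs.length := List.length_map _
  have hs := Groth.Agent.Lib.KoszulPow92.subsingleton_koszulHLim
    (ModuleCat.of Γ((V : Scheme.{u}), ⊤) ((F.restrict V.ι).val.obj (op ⊤)))
    (fs.map (eR V).symm) i
    (isZero_homology_kcx_of_flat _ hreg' _ _ (by rw [hlen]; omega))
  exact e.toEquiv.subsingleton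

/-- **vanishing of `ℋ^i_Z(F)` for `i ≠ c`** -/
theorem isZero_HZsh_of_locally_koszulRegular (U : X.Opens) (c : ℕ)
    (hZ : ∀ x : X, ∃ (V : X.Opens) (fs : List Γ(X, V)), x ∈ V ∧ IsAffineOpen V ∧ fs.length = c ∧
      LCI.IsKoszulRegularSeq Γ(X, V) fs ∧
      X.zeroLocus (U := V) {a | a ∈ fs} ∩ (V : Set ↥X) = (U : Set ↥X)ᶜ ∩ (V : Set ↥X))
    (F : X.Modules) (hF : Coh.IsQCoh F) (hFl : FlatMod.IsFlat F) (i : ℕ) (hi : i ≠ c) :
    IsZero ((LocCohZ.HZsh (X := X.carrier) U i).obj (Coh.toAb F)) := by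
  refine Groth.Agent.Lib.HZshBasis92.isZero_HZsh_of_basis (X := X.carrier) (Coh.toAb F) U i
    {V' | IsAffineOpen V' ∧ ∃ fs : List Γ(X, V'), fs.length = c ∧
      LCI.IsKoszulRegularSeq Γ(X, V') fs ∧
      X.zeroLocus (U := V') {a | a ∈ fs} ∩ (V' : Set X) = (U : Set X)ᶜ ∩ (V' : Set X)} ?_ ?_
  · intro W x hxW
    obtain ⟨V, fs, hxV, hV, hlen, hreg, hz⟩ := hZ x
    obtain ⟨V', hV', hxV', hle⟩ := (Opens.isBasis_iff_nbhd.1 X.isBasis_affineOpens)
      (show x ∈ V ⊓ W from ⟨hxV, hxW⟩)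
    have hV'V : V' ≤ V := hle.trans inf_le_left
    refine ⟨V', ⟨hV', fs.map (X.presheaf.map (homOfLE hV'V).op).hom, ?_, ?_, ?_⟩, hxV',
      hle.trans inf_le_right⟩
    · rw [List.length_map]
      exact hlen
    · exact isKoszulRegularSeq_map_of_flat _ (flat_res hV hV' hV'V) fs hreg
    · exact Groth.Agent.Lib.HZshKoszulVanish92.zeroLocus_map_res U hV'V fs hz
  · rintro V' ⟨hV', fs, hlen, hreg, hz⟩
    exact subsingleton_HZ_of_koszulRegular U F hF hFl hV' fs hreg hz i (by rw [hlen]; exact hi)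

end Groth.Agent.Lib.HZshKoszulRegular92
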