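import Mathlib
import Groth.Prelude.Def_QuadGrp
import Groth.Agent.S17014

/-!
# The half-discriminant: evaluation, change of basis and the block formula (helper16)

`evalC`, `halfDisc_eq`, `gramFam Q v` (polar matrix of a family), `map_univPolarMat`, `disc_eq_det`, `two_mul_halfDisc`
(`2 * halfDisc = det` of the polar matrix, odd rank), `evalC_sub_mem`, `halfDisc_map` (`halfDisc (b.map g) = det g ^ 2 * halfDisc b`),
`isUnit_halfDisc_iff` (independence of the basis), `killCross`, `killCross_halfDiscUniv` (universal block formula),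
`halfDisc_sub_mem` (block formula modulo an ideal), `halfDisc_eq_mul` (`halfDisc = Q (b 0) * det (polar matrix of the other
basis vectors)` when `b 0` is orthogonal to them).
-/

set_option autoImplicit false
set_option linter.style.haveILetI false
set_option linter.unusedSectionVars false
set_option linter.unusedSimpArgs false
set_option linter.unusedVariables false

namespace Groth.Agent.Lib.HalfDisc16
open QuadraticMap MvPolynomial

universe u v
variable {R : Type u} [CommRing R] {M : Type v} [AddCommGroup M] [Module R M] {n : ℕ}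

/-- evaluation of integral polynomials in the coefficients. -/
noncomputable def evalC (c : Sym2 (Fin n) → R) : MvPolynomial (Sym2 (Fin n)) ℤ →+* R :=
  eval₂Hom (Int.castRingHom R) c

@[simp] theorem evalC_X (c : Sym2 (Fin n) → R) (s : Sym2 (Fin n)) : evalC c (X s) = c s := by
  simp [evalC]

theorem halfDisc_eq (b : Module.Basis (Fin n) R M) (Q : QuadraticForm R M) :
    QuadGrp.halfDisc b (LinearEquiv.refl R R) Q =
      evalC (QuadGrp.coeffs b (LinearEquiv.refl R R) Q) (QuadGrp.halfDiscUniv n) := rfl

theorem disc_eq (b : Module.Basis (Fin n) R M) (Q : QuadraticForm R M) :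
    QuadGrp.disc b (LinearEquiv.refl R R) Q =
      evalC (QuadGrp.coeffs b (LinearEquiv.refl R R) Q) (QuadGrp.discUniv n) := rfl

/-- the polar matrix of a family of vectors. -/
def gramFam {ι : Type*} (Q : QuadraticForm R M) (v : ι → M) : Matrix ι ι R :=
  Matrix.of fun i j => polar Q (v i) (v j)

theorem map_univPolarMat (b : Module.Basis (Fin n) R M) (Q : QuadraticForm R M) :
    (QuadGrp.univPolarMat n).map (evalC (QuadGrp.coeffs b (LinearEquiv.refl R R) Q)) = gramFam Q b := by
  ext i j
  simp only [QuadGrp.univPolarMat, Matrix.map_apply, Matrix.of_apply, gramFam]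
  by_cases h : i = j
  · subst h
    rw [if_pos rfl, map_mul, evalC_X, QuadGrp.coeffs_mk, if_pos rfl, LinearEquiv.refl_apply,
      QuadraticMap.polar_self, map_ofNat]
    simp
  · rw [if_neg h, evalC_X, QuadGrp.coeffs_mk, if_neg h, LinearEquiv.refl_apply]

theorem disc_eq_det (b : Module.Basis (Fin n) R M) (Q : QuadraticForm R M) :
    QuadGrp.disc b (LinearEquiv.refl R R) Q = (gramFam Q b).det := by
  rw [disc_eq, QuadGrp.discUniv, RingHom.map_det, RingHom.mapMatrix_apply, map_univPolarMat]

theorem two_mul_halfDisc (hn : Odd n) (b : Module.Basis (Fin n) R M) (Q : QuadraticForm R M) :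
    2 * QuadGrp.halfDisc b (LinearEquiv.refl R R) Q = (gramFam Q b).det := by
  rw [← disc_eq_det, disc_eq, Groth.Agent.S17014.discUniv_eq_two_mul n hn, map_mul, halfDisc_eq,
    map_ofNat]

/-- two evaluation points congruent modulo an ideal give congruent values. -/
theorem evalC_sub_mem (I : Ideal R) (c c' : Sym2 (Fin n) → R) (h : ∀ s, c s - c' s ∈ I)
    (p : MvPolynomial (Sym2 (Fin n)) ℤ) : evalC c p - evalC c' p ∈ I := by
  have : (Ideal.Quotient.mk I).comp (evalC c) = (Ideal.Quotient.mk I).comp (evalC c') := by
    apply MvPolynomial.ringHom_ext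
    · intro r; simp [evalC]
    · intro s
      simp only [RingHom.comp_apply, evalC_X]
      exact (Ideal.Quotient.eq).2 (h s)
  have h2 := RingHom.congr_fun this p
  simp only [RingHom.comp_apply] at h2
  exact (Ideal.Quotient.eq).1 h2

/-- change of basis: the half-discriminant is multiplied by the square of the determinant. -/
theorem halfDisc_map (m : ℕ) (b : Module.Basis (Fin (2 * m + 1)) R M) (Q : QuadraticForm R M)
    (g : M ≃ₗ[R] M) :
    QuadGrp.halfDisc (b.map g) (LinearEquiv.refl R R) Q =
      LinearMap.det g.toLinearMap ^ 2 * QuadGrp.halfDisc b (LinearEquiv.refl R R) Q := by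
  rw [← Groth.Agent.S17014.result m b Q g.toLinearMap]
  rw [halfDisc_eq, halfDisc_eq]
  congr 2
  funext s
  induction s using Sym2.ind with
  | _ i j =>
    rw [QuadGrp.coeffs_mk, QuadGrp.coeffs_mk]
    simp only [Module.Basis.map_apply, QuadraticMap.comp_apply, LinearEquiv.coe_coe]
    by_cases h : i = j
    · rw [if_pos h, if_pos h]
    · rw [if_neg h, if_neg h]
      congr 1
      simp only [polar, QuadraticMap.comp_apply, LinearEquiv.coe_coe, map_add]

theorem isUnit_halfDisc_iff (m : ℕ) (b b' : Module.Basis (Fin (2 * m + 1)) R M)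
    (Q : QuadraticForm R M) :
    IsUnit (QuadGrp.halfDisc b' (LinearEquiv.refl R R) Q) ↔
      IsUnit (QuadGrp.halfDisc b (LinearEquiv.refl R R) Q) := by
  have hb : b' = b.map (b.equiv b' (Equiv.refl _)) := by
    apply Module.Basis.eq_of_apply_eq
    intro i
    simp
  rw [hb, halfDisc_map]
  have hu : IsUnit (LinearMap.det (b.equiv b' (Equiv.refl _)).toLinearMap) :=
    LinearEquiv.isUnit_det' _
  constructor
  · intro h1
    exact (IsUnit.mul_iff.1 h1).2
  · intro h1
    exact (hu.pow 2).mul h1

end Groth.Agent.Lib.HalfDisc16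

namespace Groth.Agent.Lib.HalfDisc16
open QuadraticMap MvPolynomial

universe u v
variable {R : Type u} [CommRing R] {M : Type v} [AddCommGroup M] [Module R M] {k : ℕ}

/-- the variables `A_{0 j}`, `j ≠ 0`. -/
def cross (k : ℕ) (s : Sym2 (Fin (k + 1))) : Prop := ∃ j : Fin k, s = s(0, j.succ)

theorem not_cross_succ_succ (i j : Fin k) : ¬ cross k s(i.succ, j.succ) := by
  rintro ⟨l, hl⟩
  rw [Sym2.eq_iff] at hl
  rcases hl with ⟨h1, -⟩ | ⟨-, h2⟩
  · exact Fin.succ_ne_zero i h1
  · exact Fin.succ_ne_zero j h2

theorem not_cross_zero_zero : ¬ cross k s((0 : Fin (k + 1)), 0) := by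
  rintro ⟨l, hl⟩
  rw [Sym2.eq_iff] at hl
  rcases hl with ⟨-, h2⟩ | ⟨h2, -⟩
  · exact Fin.succ_ne_zero l h2.symm
  · exact Fin.succ_ne_zero l h2.symm

open Classical in
/-- substitute `0` for the cross variables. -/
noncomputable def killCross (k : ℕ) :
    MvPolynomial (Sym2 (Fin (k + 1))) ℤ →ₐ[ℤ] MvPolynomial (Sym2 (Fin (k + 1))) ℤ :=
  bind₁ (fun s => if cross k s then 0 else X s)

theorem killCross_X_of_cross (s : Sym2 (Fin (k + 1))) (h : cross k s) : killCross k (X s) = 0 := by
  classical
  rw [killCross, bind₁_X_right, if_pos h]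

theorem killCross_X_of_not_cross (s : Sym2 (Fin (k + 1))) (h : ¬ cross k s) :
    killCross k (X s) = X s := by
  classical
  rw [killCross, bind₁_X_right, if_neg h]

/-- the universal polar matrix of the last `k` variables. -/
noncomputable def subPolarMat (k : ℕ) : Matrix (Fin k) (Fin k) (MvPolynomial (Sym2 (Fin (k + 1))) ℤ) :=
  Matrix.of fun i j => QuadGrp.univPolarMat (k + 1) i.succ j.succ

theorem killCross_univPolarMat_zero_succ (j : Fin k) :
    killCross k (QuadGrp.univPolarMat (k + 1) 0 j.succ) = 0 := by
  simp only [QuadGrp.univPolarMat, Matrix.of_apply]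
  rw [if_neg (Fin.succ_ne_zero j).symm]
  exact killCross_X_of_cross _ ⟨j, rfl⟩

theorem killCross_univPolarMat_zero_zero :
    killCross k (QuadGrp.univPolarMat (k + 1) 0 0) = 2 * X s((0 : Fin (k + 1)), 0) := by
  simp only [QuadGrp.univPolarMat, Matrix.of_apply]
  rw [if_pos trivial, map_mul, killCross_X_of_not_cross _ not_cross_zero_zero, map_ofNat]

theorem killCross_univPolarMat_succ_succ (i j : Fin k) :
    killCross k (QuadGrp.univPolarMat (k + 1) i.succ j.succ) =
      QuadGrp.univPolarMat (k + 1) i.succ j.succ := by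
  simp only [QuadGrp.univPolarMat, Matrix.of_apply]
  by_cases h : i.succ = j.succ
  · rw [if_pos h, map_mul, killCross_X_of_not_cross _ (not_cross_succ_succ i j), map_ofNat]
  · rw [if_neg h, killCross_X_of_not_cross _ (not_cross_succ_succ i j)]

/-- **universal block formula**: killing the cross terms, the half-discriminant becomes `A₀₀` times the discriminant of the
remaining variables. -/
theorem killCross_halfDiscUniv (hk : Odd (k + 1)) :
    killCross k (QuadGrp.halfDiscUniv (k + 1)) = X s((0 : Fin (k + 1)), 0) * (subPolarMat k).det := by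
  have h2 : (2 : MvPolynomial (Sym2 (Fin (k + 1))) ℤ) * killCross k (QuadGrp.halfDiscUniv (k + 1)) =
      2 * (X s((0 : Fin (k + 1)), 0) * (subPolarMat k).det) := by
    have h1 : killCross k (QuadGrp.discUniv (k + 1)) =
        2 * killCross k (QuadGrp.halfDiscUniv (k + 1)) := by
      rw [Groth.Agent.S17014.discUniv_eq_two_mul (k + 1) hk, map_mul, map_ofNat]
    rw [← h1, QuadGrp.discUniv, AlgHom.map_det, Matrix.det_succ_row_zero, Fin.sum_univ_succ]
    have hz : ∀ j : Fin k, (-1 : MvPolynomial (Sym2 (Fin (k + 1))) ℤ) ^ (j.succ : ℕ) *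
        (killCross k).mapMatrix (QuadGrp.univPolarMat (k + 1)) 0 j.succ *
        (((killCross k).mapMatrix (QuadGrp.univPolarMat (k + 1))).submatrix Fin.succ
          (Fin.succAbove j.succ)).det = 0 := by
      intro j
      rw [AlgHom.mapMatrix_apply, Matrix.map_apply, killCross_univPolarMat_zero_succ, mul_zero,
        zero_mul]
    rw [Finset.sum_eq_zero (fun j _ => hz j), add_zero, AlgHom.mapMatrix_apply, Matrix.map_apply,
      killCross_univPolarMat_zero_zero]
    have hsub : ((QuadGrp.univPolarMat (k + 1)).map (killCross k)).submatrix Fin.succ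
        (Fin.succAbove 0) = subPolarMat k := by
      apply Matrix.ext
      intro i j
      simp only [Matrix.submatrix_apply, Matrix.map_apply, Fin.succAbove_zero, subPolarMat,
        Matrix.of_apply]
      exact killCross_univPolarMat_succ_succ i j
    rw [hsub]
    simp
    ring
  exact mul_left_cancel₀ two_ne_zero h2

end Groth.Agent.Lib.HalfDisc16

namespace Groth.Agent.Lib.HalfDisc16
open QuadraticMap MvPolynomial

universe u v
variable {R : Type u} [CommRing R] {M : Type v} [AddCommGroup M] [Module R M] {k : ℕ}

open Classical in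
theorem evalC_killCross (c : Sym2 (Fin (k + 1)) → R) (p : MvPolynomial (Sym2 (Fin (k + 1))) ℤ) :
    evalC c (killCross k p) = evalC (fun s => if cross k s then 0 else c s) p := by
  have : (evalC c).comp (killCross k : MvPolynomial (Sym2 (Fin (k + 1))) ℤ →+* _) =
      evalC (fun s => if cross k s then 0 else c s) := by
    apply MvPolynomial.ringHom_ext
    · intro r; simp [evalC]
    · intro s
      simp only [RingHom.comp_apply, evalC_X, RingHom.coe_coe]
      by_cases h : cross k s
      · rw [killCross_X_of_cross s h, if_pos h, map_zero]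
      · rw [killCross_X_of_not_cross s h, if_neg h, evalC_X]
  exact RingHom.congr_fun this p

theorem subPolarMat_map (b : Module.Basis (Fin (k + 1)) R M) (Q : QuadraticForm R M) :
    (subPolarMat k).map (evalC (QuadGrp.coeffs b (LinearEquiv.refl R R) Q)) =
      gramFam Q (fun j : Fin k => b j.succ) := by
  have h := map_univPolarMat b Q
  ext i j
  have := congrFun (congrFun h i.succ) j.succ
  simpa [subPolarMat, gramFam] using this

/-- **block formula modulo an ideal**: if the first basis vector is orthogonal to the others modulo `I`, then the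
half-discriminant is `Q (b 0)` times the determinant of the polar matrix of the others, modulo `I`. -/
theorem halfDisc_sub_mem (I : Ideal R) (hk : Odd (k + 1)) (b : Module.Basis (Fin (k + 1)) R M)
    (Q : QuadraticForm R M) (hcross : ∀ j : Fin k, polar Q (b 0) (b j.succ) ∈ I) :
    QuadGrp.halfDisc b (LinearEquiv.refl R R) Q -
      Q (b 0) * (gramFam Q (fun j : Fin k => b j.succ)).det ∈ I := by
  classical
  set c := QuadGrp.coeffs b (LinearEquiv.refl R R) Q with hc
  have h1 : evalC (fun s => if cross k s then 0 else c s) (QuadGrp.halfDiscUniv (k + 1)) =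
      Q (b 0) * (gramFam Q (fun j : Fin k => b j.succ)).det := by
    rw [← evalC_killCross, killCross_halfDiscUniv hk, map_mul, evalC_X, RingHom.map_det,
      RingHom.mapMatrix_apply, subPolarMat_map, hc, QuadGrp.coeffs_mk, if_pos rfl,
      LinearEquiv.refl_apply]
  rw [halfDisc_eq, ← h1]
  apply evalC_sub_mem
  intro s
  by_cases h : cross k s
  · rw [if_pos h, sub_zero]
    obtain ⟨j, rfl⟩ := h
    rw [QuadGrp.coeffs_mk, if_neg (Fin.succ_ne_zero j).symm, LinearEquiv.refl_apply]
    exact hcross j
  · rw [if_neg h, sub_self]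
    exact I.zero_mem

/-- **block formula**: if the first basis vector is orthogonal to the others, the half-discriminant is `Q (b 0)` times the
determinant of the polar matrix of the others. -/
theorem halfDisc_eq_mul (hk : Odd (k + 1)) (b : Module.Basis (Fin (k + 1)) R M)
    (Q : QuadraticForm R M) (hcross : ∀ j : Fin k, polar Q (b 0) (b j.succ) = 0) :
    QuadGrp.halfDisc b (LinearEquiv.refl R R) Q =
      Q (b 0) * (gramFam Q (fun j : Fin k => b j.succ)).det := by
  have := halfDisc_sub_mem (⊥ : Ideal R) hk b Q (fun j => by rw [hcross j]; exact Ideal.zero_mem _)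
  exact sub_eq_zero.1 ((Submodule.mem_bot R).1 this)

end Groth.Agent.Lib.HalfDisc16
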