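import Groth.Agent.Lib.OddDecomp16

/-!
# Half-discriminant over a field and the residue-field criterion (helper70)

`gram_det_eq_zero_iff`, `mem_ker_of_forall_basis`, `case_ker_bot`, `case_ker_ne_bot`,
`isUnit_halfDisc_iff_nondegenerate` (field, odd rank: `halfDisc ≠ 0 ↔ Q.Nondegenerate`),
`baseChangeForm_one_tmul`, `coeffs_baseChange`, `halfDisc_baseChange` (half-discriminant commutes with base change),
`isUnit_iff_forall_residueField_ne_zero`.
-/

set_option autoImplicit false

namespace Groth.Agent.Lib.HalfDiscField70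
open QuadraticMap Groth.Agent.Lib.HalfDisc16 Groth.Agent.Lib.OddDecomp16

universe u v
variable {K : Type u} [Field K] {V : Type v} [AddCommGroup V] [Module K V]

theorem gram_det_eq_zero_iff {ι : Type*} [Fintype ι] [DecidableEq ι] (Q : QuadraticForm K V)
    (v : ι → V) :
    (gramFam Q v).det = 0 ↔ ∃ c : ι → K, c ≠ 0 ∧ ∀ i, polar Q (v i) (∑ j, c j • v j) = 0 := by
  rw [← Matrix.exists_mulVec_eq_zero_iff]
  refine exists_congr fun c => and_congr Iff.rfl ?_
  rw [funext_iff]
  refine forall_congr' fun i => ?_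
  have : (gramFam Q v).mulVec c i = polar Q (v i) (∑ j, c j • v j) := by
    rw [← polarBilin_apply_apply, map_sum]
    simp [Matrix.mulVec, dotProduct, gramFam, mul_comm]
  rw [this]; rfl

/-- A vector polar-orthogonal to all basis vectors is in the polar kernel. -/
theorem mem_ker_of_forall_basis {ι : Type*} (b : Module.Basis ι K V) (Q : QuadraticForm K V) (u : V)
    (h : ∀ i, polar Q (b i) u = 0) : u ∈ LinearMap.ker Q.polarBilin := by
  rw [LinearMap.mem_ker]
  apply b.ext
  intro i
  rw [polarBilin_apply_apply, polar_comm, h i, LinearMap.zero_apply]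

theorem polar_eq_zero_of_mem_ker (Q : QuadraticForm K V) {w : V} (hw : w ∈ LinearMap.ker Q.polarBilin)
    (y : V) : polar Q w y = 0 := by
  rw [LinearMap.mem_ker] at hw
  rw [← polarBilin_apply_apply, hw, LinearMap.zero_apply]

theorem polar_eq_zero_of_mem_ker' (Q : QuadraticForm K V) {w : V} (hw : w ∈ LinearMap.ker Q.polarBilin)
    (y : V) : polar Q y w = 0 := by
  rw [polar_comm, polar_eq_zero_of_mem_ker Q hw]

/-- Case of trivial polar kernel. -/
theorem case_ker_bot (m : ℕ) (b : Module.Basis (Fin (2 * m + 1)) K V) (Q : QuadraticForm K V)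
    (h : LinearMap.ker Q.polarBilin = ⊥) :
    IsUnit (QuadGrp.halfDisc b (LinearEquiv.refl K K) Q) ∧ Q.Nondegenerate := by
  constructor
  · rw [isUnit_iff_ne_zero]
    intro h0
    have h2 := two_mul_halfDisc ⟨m, rfl⟩ b Q
    rw [h0, mul_zero] at h2
    obtain ⟨c, hc, hc'⟩ := (gram_det_eq_zero_iff Q b).1 h2.symm
    have hu : (∑ j, c j • b j) ∈ LinearMap.ker Q.polarBilin := mem_ker_of_forall_basis b Q _ hc'
    rw [h, Submodule.mem_bot] at hu
    apply hc
    funext j
    have h1 := congrFun (b.repr_sum_self c) j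
    rw [hu, map_zero] at h1
    exact h1.symm
  · refine ⟨?_, ?_⟩
    · exact le_bot_iff.1 (h ▸ radical_le_ker_polarBilin)
    · rw [h]
      simp


/-- Case of nontrivial polar kernel. -/
theorem case_ker_ne_bot (m : ℕ) (b : Module.Basis (Fin (2 * m + 1)) K V) (Q : QuadraticForm K V)
    (w : V) (hw : w ∈ LinearMap.ker Q.polarBilin) (hw0 : w ≠ 0) :
    IsUnit (QuadGrp.halfDisc b (LinearEquiv.refl K K) Q) ↔ Q.Nondegenerate := by
  obtain ⟨i₀, hi₀⟩ : ∃ i₀, b.repr w i₀ ≠ 0 := by
    by_contra hcon
    push Not at hcon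
    apply hw0
    apply b.repr.injective
    ext i
    simp [hcon i]
  obtain ⟨b', hb'⟩ := exists_basis_zero_eq b w i₀ (isUnit_iff_ne_zero.2 hi₀)
  rw [← isUnit_halfDisc_iff m b b' Q]
  have hodd : Odd (2 * m + 1) := ⟨m, rfl⟩
  rw [halfDisc_eq_mul hodd b' Q (fun j => by rw [hb']; exact polar_eq_zero_of_mem_ker Q hw _), hb']
  rw [isUnit_iff_ne_zero, mul_ne_zero_iff]
  constructor
  · rintro ⟨hQw, hD0⟩
    have key : ∀ x ∈ LinearMap.ker Q.polarBilin, ∃ t : K, x = t • w := by
      intro x hx
      refine ⟨b'.repr x 0, ?_⟩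
      have hsum := b'.sum_repr x
      rw [Fin.sum_univ_succ, hb'] at hsum
      by_contra hne
      apply hD0
      rw [gram_det_eq_zero_iff]
      refine ⟨fun j => b'.repr x j.succ, ?_, ?_⟩
      · intro hzero
        apply hne
        have hz : ∀ j : Fin (2 * m), b'.repr x j.succ = 0 := fun j => congrFun hzero j
        have hs0 : (∑ i : Fin (2 * m), (b'.repr x) i.succ • b' i.succ) = 0 :=
          Finset.sum_eq_zero (fun j _ => by rw [hz j, zero_smul])
        rw [hs0, add_zero] at hsum
        exact hsum.symm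
      · intro i
        have hx' : (∑ j : Fin (2 * m), b'.repr x j.succ • b' j.succ) = x - b'.repr x 0 • w :=
          eq_sub_of_add_eq' hsum
        rw [hx']
        exact polar_eq_zero_of_mem_ker' Q
          (Submodule.sub_mem _ hx (Submodule.smul_mem _ _ hw)) _
    refine ⟨?_, ?_⟩
    · rw [eq_bot_iff]
      intro x hx
      obtain ⟨t, rfl⟩ := key x (radical_le_ker_polarBilin hx)
      have h1 : Q (t • w) = 0 := (mem_radical_iff'.1 hx).1
      rw [QuadraticMap.map_smul, smul_eq_mul] at h1
      have ht : t = 0 := by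
        rcases mul_eq_zero.1 h1 with h2 | h2
        · exact mul_self_eq_zero.1 h2
        · exact absurd h2 hQw
      rw [ht, zero_smul]
      exact Submodule.zero_mem _
    · rw [rank_submodule_le_one_iff']
      refine ⟨w, fun x hx => ?_⟩
      obtain ⟨t, rfl⟩ := key x hx
      exact Submodule.smul_mem _ _ (Submodule.mem_span_singleton_self w)
  · intro hnd
    obtain ⟨v₀, hv₀⟩ := (rank_submodule_le_one_iff' _).1 hnd.rank_rad_polar_le
    have key : ∀ x ∈ LinearMap.ker Q.polarBilin, ∃ t : K, x = t • w := by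
      intro x hx
      obtain ⟨a, ha⟩ := Submodule.mem_span_singleton.1 (hv₀ hx)
      obtain ⟨r, hr⟩ := Submodule.mem_span_singleton.1 (hv₀ hw)
      have hr0 : r ≠ 0 := by
        rintro rfl
        rw [zero_smul] at hr
        exact hw0 hr.symm
      refine ⟨a * r⁻¹, ?_⟩
      rw [← hr, smul_smul, mul_assoc, inv_mul_cancel₀ hr0, mul_one, ha]
    constructor
    · intro hQw
      apply hw0
      have h1 : w ∈ Q.radical := ⟨hQw, LinearMap.mem_ker.1 hw⟩
      rw [hnd.radical_eq_bot] at h1
      exact (Submodule.mem_bot K).1 h1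
    · intro hD0
      rw [gram_det_eq_zero_iff] at hD0
      obtain ⟨c, hc, hc'⟩ := hD0
      have hu : (∑ j, c j • b' j.succ) ∈ LinearMap.ker Q.polarBilin :=
        mem_ker_of_forall_basis b' Q _ (fun i => Fin.cases
          (by rw [hb']; exact polar_eq_zero_of_mem_ker Q hw _) hc' i)
      obtain ⟨t, ht⟩ := key _ hu
      have h0 : b'.repr (∑ j, c j • b' j.succ) 0 = 0 := by
        simp [Finsupp.single_apply, Fin.succ_ne_zero]
      have ht0 : t = 0 := by
        have h1 := congrArg (fun x => b'.repr x 0) ht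
        simp only [h0] at h1
        rw [← hb'] at h1
        simpa using h1.symm
      apply hc
      funext j
      have h2 : b'.repr (∑ j, c j • b' j.succ) j.succ = c j := by
        simp [Finsupp.single_apply]
      rw [← h2, ht, ht0, zero_smul, map_zero]
      rfl

/-- **Field case**: over a field, in odd rank, the half-discriminant is nonzero iff the form is nondegenerate. -/
theorem isUnit_halfDisc_iff_nondegenerate (m : ℕ) (b : Module.Basis (Fin (2 * m + 1)) K V)
    (Q : QuadraticForm K V) :
    IsUnit (QuadGrp.halfDisc b (LinearEquiv.refl K K) Q) ↔ Q.Nondegenerate := by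
  by_cases h : LinearMap.ker Q.polarBilin = ⊥
  · exact iff_of_true (case_ker_bot m b Q h).1 (case_ker_bot m b Q h).2
  · obtain ⟨w, hw, hw0⟩ := Submodule.exists_mem_ne_zero_of_ne_bot h
    exact case_ker_ne_bot m b Q w hw hw0

section BaseChange
open TensorProduct

variable {R : Type u} [CommRing R] {M : Type v} [AddCommGroup M] [Module R M] [Module.Free R M]
  (A : Type u) [CommRing A] [Algebra R A]

theorem baseChangeForm_one_tmul (Q : QuadraticForm R M) (x : M) :
    QuadGrp.baseChangeForm A Q ((1 : A) ⊗ₜ[R] x) = algebraMap R A (Q x) := by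
  rw [QuadGrp.baseChangeForm, LinearMap.compQuadraticMap_apply, QuadGrp.baseChange_tmul]
  simp [Algebra.algebraMap_eq_smul_one]

theorem coeffs_baseChange {n : ℕ} (b : Module.Basis (Fin n) R M) (Q : QuadraticForm R M)
    (z : Sym2 (Fin n)) :
    QuadGrp.coeffs (Algebra.TensorProduct.basis A b) (LinearEquiv.refl A A)
      (QuadGrp.baseChangeForm A Q) z =
      algebraMap R A (QuadGrp.coeffs b (LinearEquiv.refl R R) Q z) := by
  induction z using Sym2.ind with
  | _ i j =>
    rw [QuadGrp.coeffs_mk, QuadGrp.coeffs_mk]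
    simp only [Algebra.TensorProduct.basis_apply, LinearEquiv.refl_apply]
    by_cases h : i = j
    · rw [if_pos h, if_pos h, baseChangeForm_one_tmul]
    · rw [if_neg h, if_neg h]
      simp only [polar, ← TensorProduct.tmul_add, baseChangeForm_one_tmul, map_sub]

theorem halfDisc_baseChange {n : ℕ} (b : Module.Basis (Fin n) R M) (Q : QuadraticForm R M) :
    QuadGrp.halfDisc (Algebra.TensorProduct.basis A b) (LinearEquiv.refl A A)
      (QuadGrp.baseChangeForm A Q) =
      algebraMap R A (QuadGrp.halfDisc b (LinearEquiv.refl R R) Q) := by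
  rw [QuadGrp.halfDisc, QuadGrp.halfDisc, MvPolynomial.eval₂_comp_left (algebraMap R A)]
  have h1 : (algebraMap R A).comp (Int.castRingHom R) = Int.castRingHom A := RingHom.ext_int _ _
  rw [h1]
  congr 1
  funext z
  exact coeffs_baseChange A b Q z

end BaseChange

theorem isUnit_iff_forall_residueField_ne_zero {R : Type u} [CommRing R] (x : R) :
    IsUnit x ↔ ∀ (p : Ideal R) [p.IsPrime], algebraMap R p.ResidueField x ≠ 0 := by
  constructor
  · intro hx p _
    exact (hx.map (algebraMap R p.ResidueField)).ne_zero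
  · intro h
    by_contra hnu
    obtain ⟨P, hP, hxP⟩ := exists_max_ideal_of_mem_nonunits hnu
    haveI := hP.isPrime
    exact h P ((Ideal.algebraMap_residueField_eq_zero).2 hxP)

end Groth.Agent.Lib.HalfDiscField70
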