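import Groth.Agent.Lib.HartogsAlg
import Groth.Agent.Lib.AssPoints
import Groth.Agent.Lib.CohFinite
import Groth.Agent.Lib.DepthFlat33
import Mathlib.AlgebraicGeometry.Noetherian

/-!
# Hartogs-type extension for coherent modules (helper63)

`X` locally Noetherian, `F` coherent, `U` open with `depth F_x ≥ 2` for all `x ∉ U`.
Then `Γ(V, F) → Γ(V ⊓ U, F)` is bijective for every open `V`.
-/

set_option autoImplicit false
universe u
open CategoryTheory AlgebraicGeometry TopologicalSpace Opposite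

namespace Groth.Agent.Lib.Hartogs

open Groth.Agent.Lib.QCohStalk Groth.Agent.Lib.AssPoints Groth.Agent.Lib.HartogsAlg
open Groth.Agent.Lib

variable {X : Scheme.{u}}

/-- A point where the stalk has depth at least one is not an associated point. -/
theorem not_isAssPoint_of_one_le_depth [IsLocallyNoetherian X] (F : X.Modules) (hF : Coh.IsCoh F)
    (y : X) (h : (1 : ℕ∞) ≤ LocCoh.depth (X.presheaf.stalk y) (F.presheaf.stalk y)) :
    ¬ Curv2.IsAssPoint F y := by
  intro hass
  haveI := CohFinite.finite_stalk_of_isCoh F hF y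
  haveI : Nontrivial (F.presheaf.stalk y) := by
    by_contra hnt
    rw [not_nontrivial_iff_subsingleton] at hnt
    exact not_isAssociatedPrime_of_subsingleton hass
  have := (DepthFlat33.depth_eq_zero_iff (F.presheaf.stalk y)).mpr hass
  rw [this] at h
  simp at h

/-- **Injectivity.** If `depth F_x ≥ 1` off `U`, a section over `V` vanishing on an open `W`
containing `V ⊓ U` vanishes. -/
theorem eq_zero_of_res_eq_zero [IsLocallyNoetherian X] (F : X.Modules) (hF : Coh.IsCoh F)
    (U : X.Opens)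
    (hdepth : ∀ x : X, x ∉ U → (1 : ℕ∞) ≤ LocCoh.depth (X.presheaf.stalk x) (F.presheaf.stalk x))
    {V W : X.Opens} (hWV : W ≤ V) (hW : V ⊓ U ≤ W) (s : Γ(F, V)) (hs : res F hWV s = 0) :
    s = 0 := by
  haveI : F.IsQuasicoherent := hF.1
  by_contra hne
  obtain ⟨x, hxV, hx⟩ : ∃ (x : X) (hxV : x ∈ V), F.presheaf.germ V x hxV s ≠ 0 := by
    by_contra hall
    push Not at hall
    apply hne
    apply TopCat.Presheaf.section_ext ⟨F.presheaf, F.isSheaf⟩ V s 0
    intro x hx
    rw [map_zero]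
    exact hall x hx
  obtain ⟨y, hyV, -, hyass, hys⟩ := exists_isWeakAssPoint_of_germ_ne_zero F s x hxV hx
  have hyass' : Curv2.IsAssPoint F y := (isAssPoint_iff_isWeakAssPoint F y).mpr hyass
  by_cases hyU : y ∈ U
  · have hyW : y ∈ W := hW ⟨hyV, hyU⟩
    apply hys
    rw [← germ_res F hWV y hyW s, hs, map_zero]
  · exact not_isAssPoint_of_one_le_depth F hF y (hdepth y hyU) hyass'

/-- Regularity of a function on sections over an affine open passes to all stalks. -/
theorem isSMulRegular_stalk (F : X.Modules) [F.IsQuasicoherent] {V : X.Opens}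
    (hV : IsAffineOpen V) (a : Γ(X, V)) (ha : IsSMulRegular Γ(F, V) a) (y : X) (hy : y ∈ V) :
    IsSMulRegular (F.presheaf.stalk y) (X.presheaf.germ V y hy a) := by
  rw [isSMulRegular_iff_right_eq_zero_of_smul]
  intro ξ hξ
  obtain ⟨g, s, hg, hgs⟩ := exists_germ_smul_eq_germ F hV y hy ξ
  have h1 : F.presheaf.germ V y hy (a • s) = 0 := by
    rw [germ_smul, ← hgs, smul_comm, hξ, smul_zero]
  obtain ⟨g', hg', hg's⟩ := exists_smul_eq_zero_of_germ_eq_zero F hV y hy (a • s) h1
  have h2 : g' • s = 0 := by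
    apply ha
    show a • g' • s = a • 0
    rw [smul_zero, smul_comm]
    exact hg's
  have h3 : X.presheaf.germ V y hy g' • F.presheaf.germ V y hy s = 0 := by
    rw [← germ_smul, h2, map_zero]
  have h4 : F.presheaf.germ V y hy s = 0 := by
    have := congrArg (fun t => (hg'.unit⁻¹ : (X.presheaf.stalk y)ˣ) • t) h3
    simpa [Units.smul_def, ← mul_smul] using this
  rw [h4] at hgs
  have := congrArg (fun t => (hg.unit⁻¹ : (X.presheaf.stalk y)ˣ) • t) hgs
  simpa [Units.smul_def, ← mul_smul] using this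

section VanIdeal

variable {V : X.Opens} (hV : IsAffineOpen V) (U : X.Opens)

/-- The ideal of functions on the affine open `V` vanishing at all points of `V` outside `U`. -/
noncomputable def vanIdeal : Ideal Γ(X, V) :=
  ⨅ (y : V) (_ : y.1 ∉ U), (hV.primeIdealOf y).asIdeal

theorem mem_vanIdeal_iff (c : Γ(X, V)) : c ∈ vanIdeal hV U ↔ X.basicOpen c ≤ U := by
  unfold vanIdeal
  simp only [Submodule.mem_iInf]
  constructor
  · intro h y hy
    have hyV : y ∈ V := X.basicOpen_le c hy
    by_contra hyU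
    have h1 := h ⟨y, hyV⟩ hyU
    have h2 := (X.mem_basicOpen c y hyV).mp hy
    rw [isUnit_germ_iff hV ⟨y, hyV⟩ c] at h2
    exact h2 h1
  · intro h y hyU
    by_contra hc
    have h2 : IsUnit (X.presheaf.germ V y.1 y.2 c) := (isUnit_germ_iff hV y c).mpr hc
    exact hyU (h ((X.mem_basicOpen c y.1 y.2).mpr h2))

/-- A prime containing the vanishing ideal gives a point outside `U`. -/
theorem fromSpec_notMem_of_vanIdeal_le (P : PrimeSpectrum Γ(X, V))
    (h : vanIdeal hV U ≤ P.asIdeal) : hV.fromSpec P ∉ U := by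
  intro hyU
  have hyV : hV.fromSpec P ∈ V := fromSpec_mem hV P
  obtain ⟨f, hfU, hyf⟩ := hV.exists_basicOpen_le (⟨hV.fromSpec P, hyU⟩ : U) hyV
  have hfP : f ∈ P.asIdeal := h ((mem_vanIdeal_iff hV U f).mpr hfU)
  have h2 := (X.mem_basicOpen f _ hyV).mp hyf
  rw [isUnit_germ_iff hV ⟨_, hyV⟩ f, primeIdealOf_fromSpec hV P] at h2
  exact h2 hfP

end VanIdeal

section Regular

open Pointwise

variable [IsLocallyNoetherian X] (F : X.Modules) (hF : Coh.IsCoh F) {V : X.Opens}
  (hV : IsAffineOpen V) (U : X.Opens)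

include hF in
/-- If `depth F_x ≥ 1` at the points of `V` outside `U`, some function on `V` vanishing on `V ∖ U`
is regular on `Γ(F, V)`. -/
theorem exists_regular_fst
    (hdepth : ∀ x : X, x ∈ V → x ∉ U →
      (1 : ℕ∞) ≤ LocCoh.depth (X.presheaf.stalk x) (F.presheaf.stalk x)) :
    ∃ a ∈ vanIdeal hV U, IsSMulRegular Γ(F, V) a := by
  haveI : F.IsQuasicoherent := hF.1
  haveI : IsNoetherianRing Γ(X, V) := IsLocallyNoetherian.component_noetherian ⟨V, hV⟩
  haveI := CohFinite.finite_sections_of_isCoh F hF hV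
  apply exists_isSMulRegular_mem
  intro P hP hle
  haveI : P.IsPrime := hP.isPrime
  set Q : PrimeSpectrum Γ(X, V) := ⟨P, inferInstance⟩ with hQ
  have hyU := fromSpec_notMem_of_vanIdeal_le hV U Q hle
  have hyV := fromSpec_mem hV Q
  apply not_isAssPoint_of_one_le_depth F hF _ (hdepth _ hyV hyU)
  rw [isAssPoint_iff_isWeakAssPoint]
  obtain ⟨-, m, hm⟩ := (isAssociatedPrime_iff).mp hP
  apply isWeakAssPoint_of_minimal F hV ⟨_, hyV⟩ (isLocAt_of_isQuasicoherent F hV _) m
  rw [primeIdealOf_fromSpec hV Q]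
  have hann : ann Γ(X, V) m = P := by
    rw [hm]
    ext c
    rw [mem_ann, Submodule.mem_colon_singleton, Submodule.mem_bot]
  rw [hann, Ideal.minimalPrimes_eq_subsingleton_self]
  exact Set.mem_singleton _

include hF in
/-- If `depth F_x ≥ 2` at the points of `V` outside `U` and `a` is regular on `Γ(F, V)` and
vanishes on `V ∖ U`, some function vanishing on `V ∖ U` is regular on `Γ(F, V)/a`. -/
theorem exists_regular_snd
    (hdepth : ∀ x : X, x ∈ V → x ∉ U →
      (2 : ℕ∞) ≤ LocCoh.depth (X.presheaf.stalk x) (F.presheaf.stalk x))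
    (a : Γ(X, V)) (haI : a ∈ vanIdeal hV U) (ha : IsSMulRegular Γ(F, V) a) :
    ∃ b ∈ vanIdeal hV U, IsSMulRegular (QuotSMulTop a Γ(F, V)) b := by
  haveI : F.IsQuasicoherent := hF.1
  haveI : IsNoetherianRing Γ(X, V) := IsLocallyNoetherian.component_noetherian ⟨V, hV⟩
  haveI := CohFinite.finite_sections_of_isCoh F hF hV
  apply exists_isSMulRegular_mem
  intro P hP hle
  haveI : P.IsPrime := hP.isPrime
  set Q : PrimeSpectrum Γ(X, V) := ⟨P, inferInstance⟩ with hQ
  have hyU := fromSpec_notMem_of_vanIdeal_le hV U Q hle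
  have hyV := fromSpec_mem hV Q
  set y : X := hV.fromSpec Q with hy
  have hprime : (hV.primeIdealOf ⟨y, hyV⟩).asIdeal = P := by
    rw [primeIdealOf_fromSpec hV Q]
  have hunit : ∀ g : Γ(X, V), IsUnit (X.presheaf.germ V y hyV g) ↔ g ∉ P := by
    intro g
    rw [isUnit_germ_iff hV ⟨y, hyV⟩ g, hprime]
  haveI := CohFinite.finite_stalk_of_isCoh F hF y
  -- the germ of `a` is a regular element of the maximal ideal
  have hay : X.presheaf.germ V y hyV a ∈ IsLocalRing.maximalIdeal (X.presheaf.stalk y) := by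
    rw [IsLocalRing.mem_maximalIdeal, mem_nonunits_iff, hunit, not_not]
    exact hle haI
  have hareg := isSMulRegular_stalk F hV a ha y hyV
  have hd := DepthFlat33.depth_quotSMulTop_add_one' (F.presheaf.stalk y) hay hareg
  have hd2 := hdepth y hyV hyU
  -- the associated prime `P = ann (m mod a)`
  obtain ⟨-, q, hq⟩ := (isAssociatedPrime_iff).mp hP
  obtain ⟨m, rfl⟩ := Submodule.Quotient.mk_surjective _ q
  have hmemP : ∀ c : Γ(X, V), c ∈ P ↔ ∃ w : Γ(F, V), c • m = a • w := by
    intro c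
    rw [hq, Submodule.mem_colon_singleton, Submodule.mem_bot, ← Submodule.Quotient.mk_smul,
      Submodule.Quotient.mk_eq_zero, Submodule.mem_smul_pointwise_iff_exists]
    constructor
    · rintro ⟨w, -, hw⟩
      exact ⟨w, hw.symm⟩
    · rintro ⟨w, hw⟩
      exact ⟨w, Submodule.mem_top, hw.symm⟩
  set ξ : F.presheaf.stalk y := F.presheaf.germ V y hyV m with hξ
  set ay : X.presheaf.stalk y := X.presheaf.germ V y hyV a with hay'
  -- Claim A: the class of `ξ` modulo `a` is nonzero
  have hA : ¬ ∃ η : F.presheaf.stalk y, ξ = ay • η := by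
    rintro ⟨η, hη⟩
    obtain ⟨g, u, hg, hgu⟩ := exists_germ_smul_eq_germ F hV y hyV η
    have h1 : F.presheaf.germ V y hyV (g • m - a • u) = 0 := by
      rw [map_sub, germ_smul, germ_smul, ← hgu, ← hξ, hη, smul_comm, sub_self]
    obtain ⟨g', hg', hg'0⟩ := exists_smul_eq_zero_of_germ_eq_zero F hV y hyV _ h1
    have h2 : (g' * g) ∈ P := by
      rw [hmemP]
      refine ⟨g' • u, ?_⟩
      rw [smul_sub, sub_eq_zero] at hg'0
      rw [mul_smul, hg'0, smul_comm]
    rcases (inferInstance : P.IsPrime).mem_or_mem h2 with h3 | h3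
    · exact (hunit g').mp hg' h3
    · exact (hunit g).mp hg h3
  -- Claim B: the maximal ideal kills the class of `ξ`
  have hB : ∀ σ ∈ IsLocalRing.maximalIdeal (X.presheaf.stalk y),
      ∃ η : F.presheaf.stalk y, σ • ξ = ay • η := by
    intro σ hσ
    letI : Algebra Γ(X, V) (X.presheaf.stalk y) := X.presheaf.algebra_section_stalk ⟨y, hyV⟩
    haveI : IsLocalization.AtPrime (X.presheaf.stalk y) (hV.primeIdealOf ⟨y, hyV⟩).asIdeal :=
      hV.isLocalization_stalk ⟨y, hyV⟩
    obtain ⟨⟨c, g⟩, hcg⟩ := IsLocalization.surj (hV.primeIdealOf ⟨y, hyV⟩).asIdeal.primeCompl σ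
    have hcg' : σ * X.presheaf.germ V y hyV g.1 = X.presheaf.germ V y hyV c := hcg
    have hgu : IsUnit (X.presheaf.germ V y hyV g.1) := by
      rw [hunit, ← hprime]
      exact g.2
    have hcP : c ∈ P := by
      by_contra hc
      have hcu := (hunit c).mpr hc
      rw [← hcg'] at hcu
      have hσu : IsUnit σ := isUnit_of_mul_isUnit_left hcu
      exact (IsLocalRing.mem_maximalIdeal σ).mp hσ hσu
    obtain ⟨w, hw⟩ := (hmemP c).mp hcP
    refine ⟨(hgu.unit⁻¹ : (X.presheaf.stalk y)ˣ) • F.presheaf.germ V y hyV w, ?_⟩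
    have h3 : X.presheaf.germ V y hyV g.1 • (σ • ξ) = ay • F.presheaf.germ V y hyV w := by
      rw [← mul_smul, mul_comm, hcg', hξ, ← germ_smul, hw, germ_smul]
    have h4 := congrArg (fun t => (hgu.unit⁻¹ : (X.presheaf.stalk y)ˣ) • t) h3
    simp only [Units.smul_def] at h4 ⊢
    rw [← mul_smul, IsUnit.val_inv_mul, one_smul] at h4
    rw [h4, smul_comm]
  -- hence the maximal ideal is associated to `F_y / a F_y`
  set ξbar : QuotSMulTop ay (F.presheaf.stalk y) := Submodule.Quotient.mk ξ with hξbar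
  have hξbar0 : ξbar ≠ 0 := by
    rw [hξbar, Ne, Submodule.Quotient.mk_eq_zero, Submodule.mem_smul_pointwise_iff_exists]
    rintro ⟨η, -, hη⟩
    exact hA ⟨η, hη.symm⟩
  haveI : Nontrivial (QuotSMulTop ay (F.presheaf.stalk y)) := ⟨⟨ξbar, 0, hξbar0⟩⟩
  have hcolon : Submodule.colon (⊥ : Submodule (X.presheaf.stalk y)
      (QuotSMulTop ay (F.presheaf.stalk y))) {ξbar} =
      IsLocalRing.maximalIdeal (X.presheaf.stalk y) := by
    apply le_antisymm
    · apply IsLocalRing.le_maximalIdeal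
      rw [Ne, Ideal.eq_top_iff_one, Submodule.mem_colon_singleton, one_smul, Submodule.mem_bot]
      exact hξbar0
    · intro σ hσ
      obtain ⟨η, hη⟩ := hB σ hσ
      rw [Submodule.mem_colon_singleton, Submodule.mem_bot, hξbar, ← Submodule.Quotient.mk_smul,
        Submodule.Quotient.mk_eq_zero, Submodule.mem_smul_pointwise_iff_exists]
      exact ⟨η, Submodule.mem_top, hη.symm⟩
  have hass : IsLocalRing.maximalIdeal (X.presheaf.stalk y) ∈
      associatedPrimes (X.presheaf.stalk y) (QuotSMulTop ay (F.presheaf.stalk y)) := by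
    refine ⟨inferInstance, ξbar, ?_⟩
    rw [hcolon, Ideal.IsPrime.radical inferInstance]
  have hzero := (DepthFlat33.depth_eq_zero_iff (QuotSMulTop ay (F.presheaf.stalk y))).mpr hass
  rw [hzero, zero_add] at hd
  rw [← hd] at hd2
  exact absurd hd2 (by norm_num)

end Regular

section Extension

lemma res_sub (F : X.Modules) {V U : X.Opens} (h : V ≤ U) (s t : Γ(F, U)) :
    res F h (s - t) = res F h s - res F h t :=
  map_sub (F.presheaf.map (homOfLE h).op).hom s t

lemma isUnit_resO_basicOpen {V : X.Opens} (a : Γ(X, V)) :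
    IsUnit (resO X (X.basicOpen_le a) a) :=
  X.toRingedSpace.isUnit_res_basicOpen a

variable [IsLocallyNoetherian X] (F : X.Modules) (hF : Coh.IsCoh F) {V : X.Opens}
  (hV : IsAffineOpen V) (U : X.Opens)

include hF hV in
/-- **Affine Hartogs extension.** -/
theorem exists_extension_affine
    (hdepth : ∀ x : X, x ∈ V → x ∉ U →
      (2 : ℕ∞) ≤ LocCoh.depth (X.presheaf.stalk x) (F.presheaf.stalk x))
    (t : Γ(F, V ⊓ U)) : ∃ z : Γ(F, V), res F inf_le_left z = t := by
  haveI : F.IsQuasicoherent := hF.1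
  obtain ⟨a, haI, ha⟩ := exists_regular_fst F hF hV U
    (fun x hx hxU => le_trans (by norm_num) (hdepth x hx hxU))
  obtain ⟨b, hbI, hb⟩ := exists_regular_snd F hF hV U hdepth a haI ha
  rw [isSMulRegular_quotSMulTop_iff] at hb
  have hDa : X.basicOpen a ≤ V ⊓ U :=
    le_inf (X.basicOpen_le a) ((mem_vanIdeal_iff hV U a).mp haI)
  have hDb : X.basicOpen b ≤ V ⊓ U :=
    le_inf (X.basicOpen_le b) ((mem_vanIdeal_iff hV U b).mp hbI)
  obtain ⟨n, x, hx⟩ := exists_pow_smul_eq_res F hV a (res F hDa t)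
  obtain ⟨m, y, hy⟩ := exists_pow_smul_eq_res F hV b (res F hDb t)
  have h1 : X.basicOpen (a * b) ≤ X.basicOpen a := by
    rw [Scheme.basicOpen_mul]; exact inf_le_left
  have h2 : X.basicOpen (a * b) ≤ X.basicOpen b := by
    rw [Scheme.basicOpen_mul]; exact inf_le_right
  have hxW : res F (X.basicOpen_le (a * b)) x =
      resO X (X.basicOpen_le (a * b)) a ^ n • res F (h1.trans hDa) t := by
    rw [← res_res F h1 (X.basicOpen_le a) x, ← hx, res_smul, resO_pow, resO_resO, res_res]
  have hyW : res F (X.basicOpen_le (a * b)) y =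
      resO X (X.basicOpen_le (a * b)) b ^ m • res F (h1.trans hDa) t := by
    rw [← res_res F h2 (X.basicOpen_le b) y, ← hy, res_smul, resO_pow, resO_resO, res_res]
  have hab : res F (X.basicOpen_le (a * b)) (b ^ m • x - a ^ n • y) = 0 := by
    rw [res_sub, res_smul, res_smul, resO_pow, resO_pow, hxW, hyW, smul_comm, sub_self]
  obtain ⟨k, hk⟩ := exists_pow_smul_eq_zero F hV (a * b) _ hab
  obtain ⟨z, hz1, -⟩ := exists_of_regular_pair ha hb x y n m k hk
  refine ⟨z, ?_⟩
  -- the difference vanishes on `D(a)`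
  set d : Γ(F, V ⊓ U) := res F inf_le_left z - t with hd
  have hdDa : res F hDa d = 0 := by
    have h3 : resO X (X.basicOpen_le a) a ^ n • res F hDa d = 0 := by
      rw [hd, res_sub, smul_sub, hx, res_res, ← resO_pow, ← res_smul, hz1, sub_self]
    have hu := (isUnit_resO_basicOpen a).pow n
    have h4 := congrArg (fun t => (hu.unit⁻¹ : (Γ(X, X.basicOpen a))ˣ) • t) h3
    simp only [Units.smul_def, smul_zero] at h4
    rwa [← mul_smul, IsUnit.val_inv_mul, one_smul] at h4
  suffices hd0 : d = 0 by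
    rw [hd, sub_eq_zero] at hd0
    exact hd0
  apply TopCat.Presheaf.section_ext ⟨F.presheaf, F.isSheaf⟩ (V ⊓ U) d 0
  intro p hp
  rw [map_zero]
  obtain ⟨c, hcU, hpc⟩ := hV.exists_basicOpen_le (⟨p, hp⟩ : (V ⊓ U : X.Opens)) hp.1
  replace hpc : p ∈ X.basicOpen c := hpc
  have hDc : IsAffineOpen (X.basicOpen c) := hV.basicOpen c
  set a' : Γ(X, X.basicOpen c) := resO X (X.basicOpen_le c) a with ha'
  have hle : X.basicOpen a' ≤ X.basicOpen a := by
    rw [ha', Scheme.basicOpen_res]
    exact inf_le_right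
  have h5 : res F (X.basicOpen_le a') (res F hcU d) = 0 := by
    rw [res_res, ← res_res F hle hDa d, hdDa, res_zero]
  obtain ⟨N, hN⟩ := exists_pow_smul_eq_zero F hDc a' (res F hcU d) h5
  have h6 := congrArg (fun s => F.presheaf.germ (X.basicOpen c) p hpc s) hN
  simp only [map_zero] at h6
  rw [germ_smul, map_pow, ha', germO_res, germ_res] at h6
  have hreg := (isSMulRegular_stalk F hV a ha p hp.1).pow N
  apply hreg
  show X.presheaf.germ V p hp.1 a ^ N • F.presheaf.germ (V ⊓ U) p hp d =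
    X.presheaf.germ V p hp.1 a ^ N • 0
  rw [smul_zero]
  exact h6

end Extension

section Main

variable [IsLocallyNoetherian X] (F : X.Modules) (hF : Coh.IsCoh F) (U : X.Opens)

include hF in
theorem res_injective
    (hdepth : ∀ x : X, x ∉ U → (1 : ℕ∞) ≤ LocCoh.depth (X.presheaf.stalk x) (F.presheaf.stalk x))
    {V W : X.Opens} (hWV : W ≤ V) (hW : V ⊓ U ≤ W) : Function.Injective (res F hWV) := by
  intro s s' h
  have h0 : res F hWV (s - s') = 0 := by rw [res_sub, h, sub_self]
  have := eq_zero_of_res_eq_zero F hF U hdepth hWV hW (s - s') h0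
  exact sub_eq_zero.mp this

include hF in
/-- **Hartogs extension theorem for coherent modules** (sections form). -/
theorem res_bijective
    (hdepth : ∀ x : X, x ∉ U → (2 : ℕ∞) ≤ LocCoh.depth (X.presheaf.stalk x) (F.presheaf.stalk x))
    (V : X.Opens) : Function.Bijective (res F (inf_le_left : V ⊓ U ≤ V)) := by
  have hdepth1 : ∀ x : X, x ∉ U →
      (1 : ℕ∞) ≤ LocCoh.depth (X.presheaf.stalk x) (F.presheaf.stalk x) :=
    fun x hx => le_trans (by norm_num) (hdepth x hx)
  refine ⟨res_injective F hF U hdepth1 inf_le_left le_rfl, ?_⟩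
  intro t
  -- local extensions over the affine opens contained in `V`
  let ι := {W : X.Opens // IsAffineOpen W ∧ W ≤ V}
  let Uι : ι → X.Opens := fun i => i.1
  have hle : ∀ i : ι, Uι i ⊓ U ≤ V ⊓ U := fun i => inf_le_inf_right U i.2.2
  have hex : ∀ i : ι, ∃ z : Γ(F, Uι i), res F inf_le_left z = res F (hle i) t := fun i =>
    exists_extension_affine F hF i.2.1 U (fun x _ hxU => hdepth x hxU) _
  choose sf hsf using hex
  have hcompat : TopCat.Presheaf.IsCompatible F.presheaf Uι sf := by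
    intro i j
    apply res_injective F hF U hdepth1 (le_refl (Uι i ⊓ Uι j)) inf_le_left
    apply res_injective F hF U hdepth1 (inf_le_left : (Uι i ⊓ Uι j) ⊓ U ≤ Uι i ⊓ Uι j) le_rfl
    have e1 : res F (inf_le_left : (Uι i ⊓ Uι j) ⊓ U ≤ Uι i ⊓ Uι j)
        (res F (le_refl _) (F.presheaf.map (Opens.infLELeft (Uι i) (Uι j)).op (sf i))) =
        res F (inf_le_inf_right U (inf_le_left.trans i.2.2)) t := by
      have : F.presheaf.map (Opens.infLELeft (Uι i) (Uι j)).op (sf i) =
          res F (inf_le_left : Uι i ⊓ Uι j ≤ Uι i) (sf i) := rfl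
      rw [this, res_res, res_res,
        ← res_res F (inf_le_inf_right U inf_le_left : (Uι i ⊓ Uι j) ⊓ U ≤ Uι i ⊓ U) inf_le_left,
        hsf i, res_res]
    have e2 : res F (inf_le_left : (Uι i ⊓ Uι j) ⊓ U ≤ Uι i ⊓ Uι j)
        (res F (le_refl _) (F.presheaf.map (Opens.infLERight (Uι i) (Uι j)).op (sf j))) =
        res F (inf_le_inf_right U (inf_le_left.trans i.2.2)) t := by
      have : F.presheaf.map (Opens.infLERight (Uι i) (Uι j)).op (sf j) =
          res F (inf_le_right : Uι i ⊓ Uι j ≤ Uι j) (sf j) := rfl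
      rw [this, res_res, res_res,
        ← res_res F (inf_le_inf_right U inf_le_right : (Uι i ⊓ Uι j) ⊓ U ≤ Uι j ⊓ U) inf_le_left,
        hsf j, res_res]
    rw [e1, e2]
  have hcover : V ≤ iSup Uι := by
    intro x hx
    obtain ⟨_, ⟨W, hW, rfl⟩, hxW, hWV⟩ :=
      X.isBasis_affineOpens.exists_subset_of_mem_open hx V.2
    exact Opens.mem_iSup.mpr ⟨⟨W, hW, hWV⟩, hxW⟩
  obtain ⟨z, hz, -⟩ := TopCat.Sheaf.existsUnique_gluing' (⟨F.presheaf, F.isSheaf⟩ :
    TopCat.Sheaf AddCommGrpCat X) Uι V (fun i => homOfLE i.2.2) hcover sf hcompat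
  refine ⟨z, ?_⟩
  apply TopCat.Presheaf.section_ext ⟨F.presheaf, F.isSheaf⟩ (V ⊓ U)
  intro x hx
  obtain ⟨_, ⟨W, hW, rfl⟩, hxW, hWV⟩ :=
    X.isBasis_affineOpens.exists_subset_of_mem_open hx.1 V.2
  let i : ι := ⟨W, hW, hWV⟩
  have hxi : x ∈ Uι i ⊓ U := ⟨hxW, hx.2⟩
  have hzi : res F (i.2.2 : Uι i ≤ V) z = sf i := hz i
  have h1 : F.presheaf.germ (V ⊓ U) x hx (res F inf_le_left z) =
      F.presheaf.germ (Uι i ⊓ U) x hxi (res F inf_le_left (sf i)) := by
    rw [germ_res, germ_res, ← hzi, germ_res]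
  have h2 : F.presheaf.germ (V ⊓ U) x hx t =
      F.presheaf.germ (Uι i ⊓ U) x hxi (res F (hle i) t) := by
    rw [germ_res]
  exact h1.trans ((congrArg _ (hsf i)).trans h2.symm)

end Main

end Groth.Agent.Lib.Hartogs
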