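import Mathlib.RingTheory.Regular.IsSMulRegular
import Mathlib.RingTheory.Ideal.AssociatedPrime.Finiteness
import Mathlib.RingTheory.Regular.RegularSequence

/-!
# Algebra for the Hartogs-type extension theorem (helper63)

Mathlib-only.

* `exists_isSMulRegular_mem` : prime avoidance: an ideal contained in no associated prime of a
  finite module over a Noetherian ring contains a regular element.
* `isSMulRegular_quotSMulTop_iff` : elementwise form of regularity on `M/aM`.
* `exists_of_regular_pair` : the Čech-type gluing lemma: if `a` is `M`-regular and `b` is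
  `M/aM`-regular, then fractions `x/a^n` and `y/b^m` agreeing in `M_{ab}` come from a unique
  `z ∈ M`.
-/

set_option autoImplicit false

namespace Groth.Agent.Lib.HartogsAlg

open Pointwise

variable {A : Type*} [CommRing A] {M : Type*} [AddCommGroup M] [Module A M]

/-- Prime avoidance: an ideal contained in no associated prime contains a regular element. -/
theorem exists_isSMulRegular_mem [IsNoetherianRing A] [Module.Finite A M] (I : Ideal A)
    (h : ∀ P ∈ associatedPrimes A M, ¬ I ≤ P) : ∃ a ∈ I, IsSMulRegular M a := by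
  by_contra hcon
  push Not at hcon
  have hsub : ((I : Ideal A) : Set A) ⊆ ⋃ p ∈ associatedPrimes A M, (id p : Ideal A) := by
    intro r hr
    have : r ∈ {r : A | IsSMulRegular M r}ᶜ := hcon r hr
    rw [← biUnion_associatedPrimes_eq_compl_regular A M] at this
    exact this
  obtain ⟨P, hP, hle⟩ := (Ideal.subset_union_prime_finite (associatedPrimes.finite A M)
    (f := id) I I (fun Q hQ _ _ => hQ.isPrime)).mp hsub
  exact h P hP hle

/-- Elementwise form of regularity on `M/aM`. -/
theorem isSMulRegular_quotSMulTop_iff (a b : A) :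
    IsSMulRegular (QuotSMulTop a M) b ↔ ∀ u : M, (∃ w : M, b • u = a • w) → ∃ w : M, u = a • w := by
  rw [isSMulRegular_iff_right_eq_zero_of_smul]
  constructor
  · intro h u ⟨w, hw⟩
    have h1 : b • (Submodule.Quotient.mk u : QuotSMulTop a M) = 0 := by
      rw [← Submodule.Quotient.mk_smul, Submodule.Quotient.mk_eq_zero,
        Submodule.mem_smul_pointwise_iff_exists]
      exact ⟨w, Submodule.mem_top, hw.symm⟩
    have h2 := h _ h1
    rw [Submodule.Quotient.mk_eq_zero, Submodule.mem_smul_pointwise_iff_exists] at h2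
    obtain ⟨w', -, hw'⟩ := h2
    exact ⟨w', hw'.symm⟩
  · intro h q hq
    obtain ⟨u, rfl⟩ := Submodule.Quotient.mk_surjective _ q
    rw [← Submodule.Quotient.mk_smul, Submodule.Quotient.mk_eq_zero,
      Submodule.mem_smul_pointwise_iff_exists] at hq
    obtain ⟨w, -, hw⟩ := hq
    obtain ⟨w', hw'⟩ := h u ⟨w, hw.symm⟩
    rw [Submodule.Quotient.mk_eq_zero, Submodule.mem_smul_pointwise_iff_exists]
    exact ⟨w', Submodule.mem_top, hw'.symm⟩

variable {a b : A}

theorem exists_eq_pow_smul_of_smul (ha : IsSMulRegular M a)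
    (hb : ∀ u : M, (∃ w : M, b • u = a • w) → ∃ w : M, u = a • w) (n : ℕ) :
    ∀ u : M, (∃ w : M, b • u = a ^ n • w) → ∃ w : M, u = a ^ n • w := by
  induction n with
  | zero =>
    intro u _
    exact ⟨u, by rw [pow_zero, one_smul]⟩
  | succ n ih =>
    rintro u ⟨w, hw⟩
    obtain ⟨u₁, rfl⟩ := hb u ⟨a ^ n • w, by rw [hw, pow_succ', mul_smul]⟩
    have h1 : b • u₁ = a ^ n • w := by
      apply ha
      show a • b • u₁ = a • a ^ n • w
      rw [smul_comm a b u₁, hw, pow_succ', mul_smul]
    obtain ⟨w₁, rfl⟩ := ih u₁ ⟨w, h1⟩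
    exact ⟨w₁, by rw [pow_succ', mul_smul]⟩

theorem exists_eq_pow_smul_of_pow_smul (ha : IsSMulRegular M a)
    (hb : ∀ u : M, (∃ w : M, b • u = a • w) → ∃ w : M, u = a • w) (n j : ℕ) :
    ∀ u : M, (∃ w : M, b ^ j • u = a ^ n • w) → ∃ w : M, u = a ^ n • w := by
  induction j with
  | zero =>
    rintro u ⟨w, hw⟩
    exact ⟨w, by rwa [pow_zero, one_smul] at hw⟩
  | succ j ih =>
    rintro u ⟨w, hw⟩
    have h1 : ∃ w' : M, b • u = a ^ n • w' := by
      apply ih (b • u)
      exact ⟨w, by rw [← hw, pow_succ, mul_smul]⟩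
    exact exists_eq_pow_smul_of_smul ha hb n u h1

/-- **Gluing lemma.** If `a` is `M`-regular and `b` is regular on `M/aM`, then elements
`x/a^n ∈ M_a` and `y/b^m ∈ M_b` which agree in `M_{ab}` come from an element `z ∈ M`. -/
theorem exists_of_regular_pair (ha : IsSMulRegular M a)
    (hb : ∀ u : M, (∃ w : M, b • u = a • w) → ∃ w : M, u = a • w)
    (x y : M) (n m k : ℕ) (h : (a * b) ^ k • (b ^ m • x - a ^ n • y) = 0) :
    ∃ z : M, a ^ n • z = x ∧ b ^ k • (b ^ m • z - y) = 0 := by
  have h1 : b ^ k • (b ^ m • x - a ^ n • y) = 0 := by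
    apply ha.pow k
    show a ^ k • b ^ k • (b ^ m • x - a ^ n • y) = a ^ k • 0
    rw [smul_zero, ← mul_smul, ← mul_pow]
    exact h
  have h2 : b ^ (k + m) • x = a ^ n • (b ^ k • y) := by
    rw [smul_sub, sub_eq_zero] at h1
    rw [pow_add, mul_smul, h1, smul_comm]
  obtain ⟨z, hz⟩ := exists_eq_pow_smul_of_pow_smul ha hb n (k + m) x ⟨_, h2⟩
  refine ⟨z, hz.symm, ?_⟩
  apply ha.pow n
  show a ^ n • b ^ k • (b ^ m • z - y) = a ^ n • 0
  rw [smul_zero, smul_comm (a ^ n) (b ^ k), smul_sub, smul_comm (a ^ n) (b ^ m), ← hz]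
  exact h1

end Groth.Agent.Lib.HartogsAlg
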