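import Mathlib.RingTheory.Ideal.MinimalPrime.Localization
import Mathlib.RingTheory.Localization.AtPrime.Basic
import Mathlib.RingTheory.Regular.RegularSequence
import Groth.Agent.Lib.HartogsAlg

/-!
# Non-Noetherian Hartogs: the algebra (helper63)

`A` any commutative ring, `g : ι → A` a finite family (`U = ⋃ D(g i) ⊆ Spec A`).  Assume that for every
prime `p` containing all `g i` the local ring `A_p` has a regular pair `a, b ∈ p A_p`
(`HasRegPairAt p`, phrased inside `A`).  Then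

* `eq_zero_of_forall_pow_mul` : an element killed by a power of each `g i` is zero
  (`Γ(Spec A, O) → Γ(U, O)` is injective);
* `exists_extension` : every compatible family `s i / g i ^ N ∈ A_{g i}` comes from an element of `A`
  (`Γ(Spec A, O) → Γ(U, O)` is surjective).

No Noetherian hypothesis: the proof localises at a minimal prime over the annihilator, resp. over the
ideal of denominators.
-/

set_option autoImplicit false

namespace Groth.Agent.Lib.HartogsNN

variable {A : Type*} [CommRing A]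

/-- `A_p` has a regular pair in its maximal ideal (phrased with elements of `A`). -/
def HasRegPairAt (p : Ideal A) : Prop :=
  ∃ a ∈ p, ∃ b ∈ p,
    (∀ x h : A, h ∉ p → h * (a * x) = 0 → ∃ h' : A, h' ∉ p ∧ h' * x = 0) ∧
    (∀ x y h : A, h ∉ p → h * (b * x) = a * y → ∃ z h' : A, h' ∉ p ∧ h' * x = a * z)

section local_lemmas

variable {p : Ideal A} [hp : p.IsPrime] {a b : A}
  (R1 : ∀ x h : A, h ∉ p → h * (a * x) = 0 → ∃ h' : A, h' ∉ p ∧ h' * x = 0)
  (R2 : ∀ x y h : A, h ∉ p → h * (b * x) = a * y → ∃ z h' : A, h' ∉ p ∧ h' * x = a * z)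

include R1 in
omit hp in
theorem pow_R1 (n : ℕ) : ∀ x h : A, h ∉ p → h * (a ^ n * x) = 0 → ∃ h' : A, h' ∉ p ∧ h' * x = 0 := by
  induction n with
  | zero =>
    intro x h hh hx
    exact ⟨h, hh, by simpa using hx⟩
  | succ n ih =>
    intro x h hh hx
    obtain ⟨h₁, hh₁, hx₁⟩ := R1 (a ^ n * x) h hh (by rw [← hx]; ring)
    exact ih x h₁ hh₁ hx₁

include hp R1 R2 in
theorem pow_R2 (n : ℕ) : ∀ x y h : A, h ∉ p → h * (b * x) = a ^ n * y →
    ∃ z h' : A, h' ∉ p ∧ h' * x = a ^ n * z := by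
  induction n with
  | zero =>
    intro x y h hh hx
    exact ⟨x, 1, fun h1 => hp.ne_top ((Ideal.eq_top_iff_one p).mpr h1), by ring⟩
  | succ n ih =>
    intro x y h hh hx
    obtain ⟨z₁, h₁, hh₁, hz₁⟩ := R2 x (a ^ n * y) h hh (by rw [hx]; ring)
    have e1 : (1 : A) * (a * (h * (b * z₁) - h₁ * (a ^ n * y))) = 0 := by
      have : a * (h * (b * z₁)) = h₁ * (h * (b * x)) := by
        rw [show a * (h * (b * z₁)) = h * b * (a * z₁) by ring, ← hz₁]; ring
      rw [one_mul, mul_sub, this, hx]; ring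
    obtain ⟨h₂, hh₂, e2⟩ := R1 _ 1
      (fun h1 => hp.ne_top ((Ideal.eq_top_iff_one p).mpr h1)) e1
    have e3 : (h₂ * h) * (b * z₁) = a ^ n * (h₂ * h₁ * y) := by
      have := e2
      rw [mul_sub, sub_eq_zero] at this
      rw [show h₂ * h * (b * z₁) = h₂ * (h * (b * z₁)) by ring, this]; ring
    obtain ⟨z₂, h₃, hh₃, hz₂⟩ := ih z₁ (h₂ * h₁ * y) (h₂ * h)
      (fun hm => (hp.mem_or_mem hm).elim hh₂ hh) e3
    refine ⟨z₂, h₃ * h₁, fun hm => (hp.mem_or_mem hm).elim hh₃ hh₁, ?_⟩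
    rw [show h₃ * h₁ * x = h₃ * (h₁ * x) by ring, hz₁,
      show h₃ * (a * z₁) = a * (h₃ * z₁) by ring, hz₂]; ring

include hp R1 R2 in
theorem pow_pow_R2 (n m : ℕ) : ∀ x y h : A, h ∉ p → h * (b ^ m * x) = a ^ n * y →
    ∃ z h' : A, h' ∉ p ∧ h' * x = a ^ n * z := by
  induction m with
  | zero =>
    intro x y h hh hx
    exact ⟨y, h, hh, by simpa using hx⟩
  | succ m ih =>
    intro x y h hh hx
    obtain ⟨z₁, h₁, hh₁, hz₁⟩ := ih (b * x) y h hh (by rw [← hx]; ring)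
    exact pow_R2 R1 R2 n x z₁ h₁ hh₁ hz₁

end local_lemmas

/-- If `p` is a minimal prime over `J` and `x ∈ p` then `x ^ n * y ∈ J` for some `y ∉ p`. -/
theorem exists_pow_mul_mem_of_mem_minimalPrimes {J p : Ideal A} (hp : p ∈ J.minimalPrimes) {x : A}
    (hx : x ∈ p) : ∃ y : A, y ∉ p ∧ ∃ n : ℕ, x ^ n * y ∈ J := by
  haveI : p.IsPrime := hp.1.1
  have hrad := IsLocalization.AtPrime.radical_map_of_mem_minimalPrimes
    (A := Localization.AtPrime p) p J hp
  have hx' : algebraMap A (Localization.AtPrime p) x ∈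
      (J.map (algebraMap A (Localization.AtPrime p))).radical := by
    rw [hrad]; exact Ideal.mem_map_of_mem _ hx
  obtain ⟨n, hn⟩ := hx'
  rw [IsLocalization.mem_map_algebraMap_iff p.primeCompl] at hn
  obtain ⟨⟨c, t⟩, hct⟩ := hn
  rw [← map_pow, ← map_mul, IsLocalization.eq_iff_exists p.primeCompl] at hct
  obtain ⟨u, hu⟩ := hct
  refine ⟨u * t, fun hm => (hp.1.1.mem_or_mem hm).elim u.2 t.2, n, ?_⟩
  have : x ^ n * ((u : A) * (t : A)) = (u : A) * (c : A) := by
    rw [← hu]; ring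
  rw [this]
  exact J.mul_mem_left _ c.2

variable {ι : Type*} [Fintype ι] (g : ι → A)
  (hyp : ∀ p : Ideal A, p.IsPrime → (∀ i, g i ∈ p) → HasRegPairAt p)

include hyp in
omit [Fintype ι] in
/-- Injectivity of `A → Γ(⋃ D(g i), O)`. -/
theorem eq_zero_of_forall_pow_mul (s : A) (hs : ∀ i, ∃ M : ℕ, g i ^ M * s = 0) : s = 0 := by
  by_contra hne
  let I : Ideal A := LinearMap.ker (LinearMap.toSpanSingleton A A s)
  have hI : ∀ f : A, f ∈ I ↔ f * s = 0 := fun f => by
    simp only [I, LinearMap.mem_ker, LinearMap.toSpanSingleton_apply, smul_eq_mul]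
  have hItop : I ≠ ⊤ := by
    intro h
    have : (1 : A) ∈ I := h ▸ Submodule.mem_top
    rw [hI, one_mul] at this
    exact hne this
  obtain ⟨p, hp⟩ := Ideal.nonempty_minimalPrimes hItop
  haveI hpp : p.IsPrime := hp.1.1
  have hg : ∀ i, g i ∈ p := fun i => by
    obtain ⟨M, hM⟩ := hs i
    exact hpp.mem_of_pow_mem M (hp.1.2 ((hI _).mpr hM))
  obtain ⟨a, hap, b, -, R1, -⟩ := hyp p hpp hg
  obtain ⟨y, hy, n, hn⟩ := exists_pow_mul_mem_of_mem_minimalPrimes hp hap
  rw [hI] at hn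
  obtain ⟨h', hh', e⟩ := pow_R1 R1 n (y * s) 1
    (fun h1 => hpp.ne_top ((Ideal.eq_top_iff_one p).mpr h1)) (by rw [one_mul, ← hn]; ring)
  have : h' * y ∈ I := (hI _).mpr (by rw [← e]; ring)
  exact (hpp.mem_or_mem (hp.1.2 this)).elim hh' hy

include hyp in
/-- Surjectivity of `A → Γ(⋃ D(g i), O)`: a compatible family `s i / g i ^ N` extends. -/
theorem exists_extension (N : ℕ) (s : ι → A)
    (hc : ∀ i j, ∃ M : ℕ, (g i * g j) ^ M * (s i * g j ^ N - s j * g i ^ N) = 0) :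
    ∃ σ : A, ∀ i, ∃ M : ℕ, g i ^ M * (σ * g i ^ N - s i) = 0 := by
  classical
  -- the ideal of denominators
  let J : Ideal A :=
    { carrier := {f | ∃ σ : A, ∀ i, ∃ M : ℕ, g i ^ M * (σ * g i ^ N - f * s i) = 0}
      zero_mem' := ⟨0, fun i => ⟨0, by ring⟩⟩
      add_mem' := by
        rintro f₁ f₂ ⟨σ₁, h₁⟩ ⟨σ₂, h₂⟩
        refine ⟨σ₁ + σ₂, fun i => ?_⟩
        obtain ⟨M₁, e₁⟩ := h₁ i
        obtain ⟨M₂, e₂⟩ := h₂ i
        refine ⟨M₁ + M₂, ?_⟩
        have : g i ^ (M₁ + M₂) * ((σ₁ + σ₂) * g i ^ N - (f₁ + f₂) * s i) =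
            g i ^ M₂ * (g i ^ M₁ * (σ₁ * g i ^ N - f₁ * s i)) +
            g i ^ M₁ * (g i ^ M₂ * (σ₂ * g i ^ N - f₂ * s i)) := by
          rw [pow_add]; ring
        rw [this, e₁, e₂]; ring
      smul_mem' := by
        rintro c f ⟨σ, h⟩
        refine ⟨c * σ, fun i => ?_⟩
        obtain ⟨M, e⟩ := h i
        refine ⟨M, ?_⟩
        have : g i ^ M * (c * σ * g i ^ N - c • f * s i) =
            c * (g i ^ M * (σ * g i ^ N - f * s i)) := by
          rw [smul_eq_mul]; ring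
        rw [this, e, mul_zero] }
  have hJ : ∀ f : A, f ∈ J ↔ ∃ σ : A, ∀ i, ∃ M : ℕ, g i ^ M * (σ * g i ^ N - f * s i) = 0 :=
    fun f => Iff.rfl
  suffices h1 : (1 : A) ∈ J by
    obtain ⟨σ, hσ⟩ := (hJ 1).mp h1
    exact ⟨σ, fun i => by simpa using hσ i⟩
  by_contra h1
  have hJtop : J ≠ ⊤ := fun h => h1 (h ▸ Submodule.mem_top)
  obtain ⟨p, hp⟩ := Ideal.nonempty_minimalPrimes hJtop
  haveI hpp : p.IsPrime := hp.1.1
  have hone : (1 : A) ∉ p := fun h1 => hpp.ne_top ((Ideal.eq_top_iff_one p).mpr h1)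
  -- powers of the `g j` are denominators
  choose Mc hMc using hc
  have hgJ : ∀ j, g j ^ (N + ∑ i, Mc i j) ∈ J := by
    intro j
    refine (hJ _).mpr ⟨s j * g j ^ (∑ i, Mc i j), fun i => ⟨Mc i j, ?_⟩⟩
    have hle : Mc i j ≤ ∑ i, Mc i j :=
      Finset.single_le_sum (f := fun i => Mc i j) (fun _ _ => Nat.zero_le _) (Finset.mem_univ i)
    obtain ⟨d, hd⟩ := Nat.exists_eq_add_of_le hle
    have : g i ^ Mc i j * (s j * g j ^ (∑ i, Mc i j) * g i ^ N - g j ^ (N + ∑ i, Mc i j) * s i) =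
        - (g j ^ d * ((g i * g j) ^ Mc i j * (s i * g j ^ N - s j * g i ^ N))) := by
      rw [hd, pow_add, pow_add, mul_pow]; ring
    rw [this, hMc i j, mul_zero, neg_zero]
  have hg : ∀ i, g i ∈ p := fun i => hpp.mem_of_pow_mem _ (hp.1.2 (hgJ i))
  obtain ⟨a, hap, b, hbp, R1, R2⟩ := hyp p hpp hg
  obtain ⟨y₁, hy₁, n₁, hn₁⟩ := exists_pow_mul_mem_of_mem_minimalPrimes hp hap
  obtain ⟨y₂, hy₂, n₂, hn₂⟩ := exists_pow_mul_mem_of_mem_minimalPrimes hp hbp
  obtain ⟨σ₁, hσ₁⟩ := (hJ _).mp hn₁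
  obtain ⟨σ₂, hσ₂⟩ := (hJ _).mp hn₂
  choose M₁ hM₁ using hσ₁
  choose M₂ hM₂ using hσ₂
  -- the two numerators are compatible
  have hδ : b ^ n₂ * y₂ * σ₁ - a ^ n₁ * y₁ * σ₂ = 0 := by
    apply eq_zero_of_forall_pow_mul g hyp
    intro i
    refine ⟨M₁ i + M₂ i + N, ?_⟩
    have : g i ^ (M₁ i + M₂ i + N) * (b ^ n₂ * y₂ * σ₁ - a ^ n₁ * y₁ * σ₂) =
        b ^ n₂ * y₂ * g i ^ M₂ i * (g i ^ M₁ i * (σ₁ * g i ^ N - a ^ n₁ * y₁ * s i)) -
        a ^ n₁ * y₁ * g i ^ M₁ i * (g i ^ M₂ i * (σ₂ * g i ^ N - b ^ n₂ * y₂ * s i)) := by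
      rw [pow_add, pow_add]; ring
    rw [this, hM₁ i, hM₂ i]; ring
  obtain ⟨z, h', hh', hz⟩ := pow_pow_R2 R1 R2 n₁ n₂ σ₁ (y₁ * σ₂) y₂ hy₂ (by
    rw [sub_eq_zero] at hδ
    rw [show y₂ * (b ^ n₂ * σ₁) = b ^ n₂ * y₂ * σ₁ by ring, hδ]; ring)
  -- cancel `a ^ n₁` locally at `p`
  have hf : ∀ i, ∃ f : A, f ∉ p ∧ f * (g i ^ M₁ i * (z * g i ^ N - y₁ * h' * s i)) = 0 := by
    intro i
    refine pow_R1 R1 n₁ _ 1 hone ?_
    have : (1 : A) * (a ^ n₁ * (g i ^ M₁ i * (z * g i ^ N - y₁ * h' * s i))) =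
        g i ^ M₁ i * (a ^ n₁ * z * g i ^ N) - h' * (g i ^ M₁ i * (a ^ n₁ * y₁ * s i)) := by ring
    rw [this, ← hz]
    have e := hM₁ i
    rw [mul_sub, sub_eq_zero] at e
    rw [← e]; ring
  choose f hfp hf0 using hf
  have hprod : (∏ i, f i) ∉ p := by
    rw [hpp.prod_mem_iff]
    rintro ⟨i, -, hi⟩
    exact hfp i hi
  have hmem : (∏ i, f i) * (y₁ * h') ∈ J := by
    refine (hJ _).mpr ⟨(∏ i, f i) * z, fun i => ⟨M₁ i, ?_⟩⟩
    obtain ⟨c, hc⟩ := Finset.dvd_prod_of_mem f (Finset.mem_univ i)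
    have : g i ^ M₁ i * ((∏ i, f i) * z * g i ^ N - (∏ i, f i) * (y₁ * h') * s i) =
        c * (f i * (g i ^ M₁ i * (z * g i ^ N - y₁ * h' * s i))) := by
      rw [hc]; ring
    rw [this, hf0 i, mul_zero]
  rcases hpp.mem_or_mem (hp.1.2 hmem) with h | h
  · exact hprod h
  · exact (hpp.mem_or_mem h).elim hy₁ hh'

/-- A regular pair in the maximal ideal of a localisation `S` of `A` at `p` gives `HasRegPairAt p`. -/
theorem hasRegPairAt_of_isLocalization (p : Ideal A) [hp : p.IsPrime] (S : Type*) [CommRing S]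
    [Algebra A S] [IsLocalization.AtPrime S p] (a₀ b₀ : S) (ha₀ : ¬ IsUnit a₀) (hb₀ : ¬ IsUnit b₀)
    (hreg₁ : IsSMulRegular S a₀) (hreg₂ : IsSMulRegular (QuotSMulTop a₀ S) b₀) :
    HasRegPairAt p := by
  have hreg₂' := (HartogsAlg.isSMulRegular_quotSMulTop_iff (M := S) a₀ b₀).mp hreg₂
  obtain ⟨a, sa, rfl⟩ := IsLocalization.exists_mk'_eq p.primeCompl a₀
  obtain ⟨b, sb, rfl⟩ := IsLocalization.exists_mk'_eq p.primeCompl b₀
  have hunit : ∀ h : A, h ∉ p → IsUnit (algebraMap A S h) := fun h hh =>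
    IsLocalization.map_units S (⟨h, hh⟩ : p.primeCompl)
  have hmem : ∀ (c : A) (sc : p.primeCompl), ¬ IsUnit (IsLocalization.mk' S c sc) → c ∈ p := by
    intro c sc hc
    by_contra hcp
    apply hc
    have : IsLocalization.mk' S c sc * algebraMap A S sc = algebraMap A S c :=
      IsLocalization.mk'_spec S c sc
    exact isUnit_of_mul_isUnit_left (this ▸ hunit c hcp)
  have hzero : ∀ x : A, algebraMap A S x = 0 → ∃ h' : A, h' ∉ p ∧ h' * x = 0 := by
    intro x hx
    obtain ⟨t, ht⟩ := (IsLocalization.map_eq_zero_iff p.primeCompl S x).mp hx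
    exact ⟨t, t.2, ht⟩
  have ea : algebraMap A S a = IsLocalization.mk' S a sa * algebraMap A S sa :=
    (IsLocalization.mk'_spec S a sa).symm
  have eb : algebraMap A S b = IsLocalization.mk' S b sb * algebraMap A S sb :=
    (IsLocalization.mk'_spec S b sb).symm
  refine ⟨a, hmem a sa ha₀, b, hmem b sb hb₀, ?_, ?_⟩
  · intro x h hh hx
    apply hzero
    have h1 : algebraMap A S h * (algebraMap A S a * algebraMap A S x) = 0 := by
      rw [← map_mul, ← map_mul, hx, map_zero]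
    have h2 := (hunit h hh).mul_right_eq_zero.mp h1
    rw [ea, mul_assoc] at h2
    have h3 : algebraMap A S sa * algebraMap A S x = 0 := by
      apply hreg₁
      simp only [smul_eq_mul, mul_zero]
      exact h2
    exact (hunit sa sa.2).mul_right_eq_zero.mp h3
  · intro x y h hh hxy
    have h1 : algebraMap A S h * (algebraMap A S b * algebraMap A S x) =
        algebraMap A S a * algebraMap A S y := by
      rw [← map_mul, ← map_mul, hxy, map_mul]
    rw [ea, eb] at h1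
    have h2 : IsLocalization.mk' S b sb • (algebraMap A S h * algebraMap A S sb * algebraMap A S x) =
        IsLocalization.mk' S a sa • (algebraMap A S sa * algebraMap A S y) := by
      simp only [smul_eq_mul]
      rw [← mul_assoc (IsLocalization.mk' S a sa), ← h1]; ring
    obtain ⟨w, hw⟩ := hreg₂' _ ⟨_, h2⟩
    obtain ⟨w', sw, rfl⟩ := IsLocalization.exists_mk'_eq p.primeCompl w
    -- h * sb * x = (a / sa) * (w' / sw)
    have h3 : algebraMap A S ((sa : A) * (sw : A) * (h * (sb : A) * x)) = algebraMap A S (a * w') := by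
      simp only [map_mul]
      have e1 := IsLocalization.mk'_spec S a sa
      have e2 := IsLocalization.mk'_spec S w' sw
      simp only [smul_eq_mul] at hw
      calc algebraMap A S sa * algebraMap A S sw *
            (algebraMap A S h * algebraMap A S sb * algebraMap A S x)
          = algebraMap A S sa * algebraMap A S sw *
            (IsLocalization.mk' S a sa * IsLocalization.mk' S w' sw) := by rw [hw]
        _ = (IsLocalization.mk' S a sa * algebraMap A S sa) *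
            (IsLocalization.mk' S w' sw * algebraMap A S sw) := by ring
        _ = algebraMap A S a * algebraMap A S w' := by rw [e1, e2]
    obtain ⟨t, ht⟩ := (IsLocalization.eq_iff_exists p.primeCompl S).mp h3
    refine ⟨(t : A) * w', (t : A) * ((sa : A) * (sw : A) * (h * (sb : A))), ?_, ?_⟩
    · intro hm
      rcases hp.mem_or_mem hm with h4 | h4
      · exact t.2 h4
      · rcases hp.mem_or_mem h4 with h5 | h5
        · rcases hp.mem_or_mem h5 with h6 | h6
          · exact sa.2 h6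
          · exact sw.2 h6
        · rcases hp.mem_or_mem h5 with h6 | h6
          · exact hh h6
          · exact sb.2 h6
    · have : (t : A) * ((sa : A) * (sw : A) * (h * (sb : A))) * x =
          (t : A) * ((sa : A) * (sw : A) * (h * (sb : A) * x)) := by ring
      rw [this, ht]; ring

end Groth.Agent.Lib.HartogsNN
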