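import Groth.Agent.Lib.HartogsNN
import Groth.Agent.Lib.Hartogs
import Groth.Agent.Lib.HartogsO
import Mathlib.AlgebraicGeometry.Morphisms.QuasiCompact

/-!
# Non-Noetherian Hartogs for the structure sheaf (helper63)

`X` any scheme, `U` an open subscheme with quasi-compact inclusion such that at every point `z ∉ U` the
maximal ideal of `O_{X,z}` contains a weakly regular sequence of length two (`RegPairOff U`).  Then
`Γ(X, V) → Γ(X, V ⊓ U)` is bijective for every open `V`.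
-/

set_option autoImplicit false
universe u
open CategoryTheory AlgebraicGeometry TopologicalSpace Opposite

namespace Groth.Agent.Lib.HartogsNNScheme

open Groth.Agent.Lib.QCohStalk Groth.Agent.Lib.AssPoints Groth.Agent.Lib.Hartogs
open Groth.Agent.Lib

variable {X : Scheme.{u}} (U : X.Opens)

/-- At every point off `U` the maximal ideal of the local ring contains a weakly regular pair. -/
def RegPairOff : Prop :=
  ∀ z : X, z ∉ U → ∃ a b : X.presheaf.stalk z, a ∈ IsLocalRing.maximalIdeal (X.presheaf.stalk z) ∧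
    b ∈ IsLocalRing.maximalIdeal (X.presheaf.stalk z) ∧
      RingTheory.Sequence.IsWeaklyRegular (X.presheaf.stalk z) [a, b]

/-- restriction as a ring homomorphism -/
noncomputable abbrev ρ {W W' : X.Opens} (h : W' ≤ W) : Γ(X, W) →+* Γ(X, W') :=
  (X.presheaf.map (homOfLE h).op).hom

lemma ρ_ρ {W W' W'' : X.Opens} (h : W' ≤ W) (h' : W'' ≤ W') (s : Γ(X, W)) :
    ρ h' (ρ h s) = ρ (h'.trans h) s := resO_resO X h' h s

lemma germ_ρ {W W' : X.Opens} (h : W' ≤ W) (x : X) (hx : x ∈ W') (s : Γ(X, W)) :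
    X.presheaf.germ W' x hx (ρ h s) = X.presheaf.germ W x (h hx) s := germO_res X h x hx s

theorem isCompact_inf [QuasiCompact U.ι] {V : X.Opens} (hV : IsAffineOpen V) :
    IsCompact ((V ⊓ U : X.Opens) : Set X) := by
  have h1 : IsCompact (U.ι ⁻¹' (V : Set X)) :=
    QuasiCompact.isCompact_preimage (f := U.ι) _ V.isOpen hV.isCompact
  have h2 := h1.image U.ι.continuous
  convert h2 using 1
  rw [Set.image_preimage_eq_inter_range, Scheme.Opens.range_ι]
  rfl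

theorem exists_finite_cover [QuasiCompact U.ι] {V : X.Opens} (hV : IsAffineOpen V) :
    ∃ t : Finset {g : Γ(X, V) // X.basicOpen g ≤ V ⊓ U},
      ∀ x ∈ V ⊓ U, ∃ g ∈ t, x ∈ X.basicOpen g.1 := by
  have hK := isCompact_inf U hV
  obtain ⟨t, ht⟩ := hK.elim_finite_subcover
    (fun g : {g : Γ(X, V) // X.basicOpen g ≤ V ⊓ U} => ((X.basicOpen g.1 : X.Opens) : Set X))
    (fun g => (X.basicOpen g.1).isOpen) (by
      intro x hx
      obtain ⟨f, hf, hxf⟩ := hV.exists_basicOpen_le (⟨x, hx⟩ : (V ⊓ U : X.Opens)) hx.1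
      exact Set.mem_iUnion.mpr ⟨⟨f, hf⟩, hxf⟩)
  refine ⟨t, fun x hx => ?_⟩
  have := ht hx
  simp only [Set.mem_iUnion] at this
  obtain ⟨g, hg, hxg⟩ := this
  exact ⟨g, hg, hxg⟩

variable {U}

theorem hasRegPairAt (h : RegPairOff U) {V : X.Opens} (hV : IsAffineOpen V)
    (t : Finset {g : Γ(X, V) // X.basicOpen g ≤ V ⊓ U})
    (ht : ∀ x ∈ V ⊓ U, ∃ g ∈ t, x ∈ X.basicOpen g.1)
    (p : Ideal Γ(X, V)) (hp : p.IsPrime) (hg : ∀ g ∈ t, g.1 ∈ p) : HartogsNN.HasRegPairAt p := by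
  let y : PrimeSpectrum Γ(X, V) := ⟨p, hp⟩
  have hmem : hV.fromSpec y ∈ V := fromSpec_mem hV y
  have hzU : hV.fromSpec y ∉ U := by
    intro hzU
    obtain ⟨g, hgt, hxg⟩ := ht _ ⟨hmem, hzU⟩
    have h2 := (X.mem_basicOpen g.1 _ hmem).mp hxg
    rw [isUnit_germ_iff hV ⟨_, hmem⟩ g.1, primeIdealOf_fromSpec hV y] at h2
    exact h2 (hg g hgt)
  obtain ⟨a, b, ha, hb, hreg⟩ := h _ hzU
  letI : Algebra Γ(X, V) (X.presheaf.stalk (hV.fromSpec y)) :=
    TopCat.Presheaf.algebra_section_stalk X.presheaf ⟨hV.fromSpec y, hmem⟩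
  haveI : IsLocalization.AtPrime (X.presheaf.stalk (hV.fromSpec y)) p :=
    hV.isLocalization_stalk' y hmem
  rw [RingTheory.Sequence.isWeaklyRegular_cons_iff, RingTheory.Sequence.isWeaklyRegular_cons_iff]
    at hreg
  exact HartogsNN.hasRegPairAt_of_isLocalization p (X.presheaf.stalk (hV.fromSpec y)) a b
    ((IsLocalRing.mem_maximalIdeal a).mp ha) ((IsLocalRing.mem_maximalIdeal b).mp hb)
    hreg.1 hreg.2.1

theorem exists_pow_mul_eq_zero {V : X.Opens} (hV : IsAffineOpen V) (g σ : Γ(X, V))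
    (h0 : ρ (X.basicOpen_le g) σ = 0) : ∃ M : ℕ, g ^ M * σ = 0 := by
  haveI := hV.isLocalization_basicOpen g
  obtain ⟨⟨_, M, rfl⟩, hM⟩ :=
    (IsLocalization.map_eq_zero_iff (Submonoid.powers g) Γ(X, X.basicOpen g) σ).mp h0
  exact ⟨M, hM⟩

theorem exists_pow_mul_eq {V : X.Opens} (hV : IsAffineOpen V) (g : Γ(X, V))
    (τ : Γ(X, X.basicOpen g)) :
    ∃ (N : ℕ) (s : Γ(X, V)), τ * ρ (X.basicOpen_le g) g ^ N = ρ (X.basicOpen_le g) s := by
  haveI := hV.isLocalization_basicOpen g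
  obtain ⟨⟨s, ⟨_, N, rfl⟩⟩, hs⟩ := IsLocalization.surj (Submonoid.powers g) τ
  refine ⟨N, s, ?_⟩
  rw [← map_pow]
  exact hs

theorem isUnit_ρ_basicOpen {V : X.Opens} (hV : IsAffineOpen V) (g : Γ(X, V)) :
    IsUnit (ρ (X.basicOpen_le g) g) := by
  haveI := hV.isLocalization_basicOpen g
  exact IsLocalization.map_units Γ(X, X.basicOpen g) (⟨g, 1, pow_one g⟩ : Submonoid.powers g)

theorem compat_aux {V : X.Opens} (g₁ g₂ s₁ s₂ : Γ(X, V)) (N : ℕ) {W : X.Opens}
    (hW₁ : X.basicOpen g₁ ≤ W) (hW₂ : X.basicOpen g₂ ≤ W) (τ : Γ(X, W))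
    (h₁ : ρ hW₁ τ * ρ (X.basicOpen_le g₁) g₁ ^ N = ρ (X.basicOpen_le g₁) s₁)
    (h₂ : ρ hW₂ τ * ρ (X.basicOpen_le g₂) g₂ ^ N = ρ (X.basicOpen_le g₂) s₂) :
    ρ (X.basicOpen_le (g₁ * g₂)) (s₁ * g₂ ^ N - s₂ * g₁ ^ N) = 0 := by
  have hij : X.basicOpen (g₁ * g₂) ≤ X.basicOpen g₁ := by
    rw [X.basicOpen_mul]; exact inf_le_left
  have hji : X.basicOpen (g₁ * g₂) ≤ X.basicOpen g₂ := by
    rw [X.basicOpen_mul]; exact inf_le_right
  have e1 : ∀ c : Γ(X, V), ρ (X.basicOpen_le (g₁ * g₂)) c =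
      ρ hij (ρ (X.basicOpen_le g₁) c) := fun c => (ρ_ρ _ _ c).symm
  have e2 : ∀ c : Γ(X, V), ρ (X.basicOpen_le (g₁ * g₂)) c =
      ρ hji (ρ (X.basicOpen_le g₂) c) := fun c => (ρ_ρ _ _ c).symm
  have e3 : ρ hij (ρ hW₁ τ) = ρ hji (ρ hW₂ τ) := by rw [ρ_ρ, ρ_ρ]
  have k1 : ρ (X.basicOpen_le (g₁ * g₂)) s₁ =
      ρ hij (ρ hW₁ τ) * ρ (X.basicOpen_le (g₁ * g₂)) g₁ ^ N := by
    rw [e1 s₁, ← h₁, map_mul, map_pow, ← e1]
  have k2 : ρ (X.basicOpen_le (g₁ * g₂)) s₂ =
      ρ hij (ρ hW₁ τ) * ρ (X.basicOpen_le (g₁ * g₂)) g₂ ^ N := by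
    rw [e2 s₂, ← h₂, map_mul, map_pow, ← e2, e3]
  rw [map_sub, map_mul, map_mul, map_pow, map_pow, k1, k2]
  ring

/-- **Non-Noetherian Hartogs**, affine case. -/
theorem res_bijective_affine [QuasiCompact U.ι] (h : RegPairOff U) {V : X.Opens}
    (hV : IsAffineOpen V) : Function.Bijective (ρ (inf_le_left : V ⊓ U ≤ V)) := by
  classical
  obtain ⟨t, ht⟩ := exists_finite_cover U hV
  let g : (↥t) → Γ(X, V) := fun i => i.1.1
  have hD : ∀ i : ↥t, X.basicOpen (g i) ≤ V ⊓ U := fun i => i.1.2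
  have hyp : ∀ p : Ideal Γ(X, V), p.IsPrime → (∀ i, g i ∈ p) → HartogsNN.HasRegPairAt p :=
    fun p hp hg => hasRegPairAt h hV t ht p hp (fun g' hg' => hg ⟨g', hg'⟩)
  have hinj : Function.Injective (ρ (inf_le_left : V ⊓ U ≤ V)) := by
    rw [injective_iff_map_eq_zero]
    intro σ hσ
    apply HartogsNN.eq_zero_of_forall_pow_mul g hyp
    intro i
    apply exists_pow_mul_eq_zero hV
    rw [← ρ_ρ inf_le_left (hD i), hσ, map_zero]
  refine ⟨hinj, ?_⟩
  intro τ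
  -- local numerators
  have hloc : ∀ i : ↥t, ∃ (N : ℕ) (s : Γ(X, V)),
      ρ (hD i) τ * ρ (X.basicOpen_le (g i)) (g i) ^ N = ρ (X.basicOpen_le (g i)) s :=
    fun i => exists_pow_mul_eq hV (g i) _
  choose Ni si hsi using hloc
  let N : ℕ := ∑ i, Ni i
  have hNi : ∀ i, Ni i ≤ N := fun i =>
    Finset.single_le_sum (f := Ni) (fun _ _ => Nat.zero_le _) (Finset.mem_univ i)
  obtain ⟨s, hs⟩ : ∃ s : ↥t → Γ(X, V), ∀ i, ρ (hD i) τ * ρ (X.basicOpen_le (g i)) (g i) ^ N =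
      ρ (X.basicOpen_le (g i)) (s i) := by
    refine ⟨fun i => si i * g i ^ (N - Ni i), fun i => ?_⟩
    have : N = Ni i + (N - Ni i) := (Nat.add_sub_cancel' (hNi i)).symm
    rw [map_mul, map_pow, ← hsi i]
    conv_lhs => rw [this, pow_add, ← mul_assoc]
  have hc : ∀ i j, ∃ M : ℕ, (g i * g j) ^ M * (s i * g j ^ N - s j * g i ^ N) = 0 := by
    intro i j
    apply exists_pow_mul_eq_zero hV
    exact compat_aux (g i) (g j) (s i) (s j) N (hD i) (hD j) τ (hs i) (hs j)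
  obtain ⟨σ, hσ⟩ := HartogsNN.exists_extension g hyp N s hc
  refine ⟨σ, ?_⟩
  apply TopCat.Presheaf.section_ext X.sheaf (V ⊓ U)
  intro x hx
  obtain ⟨g', hg', hxg⟩ := ht x hx
  let i : ↥t := ⟨g', hg'⟩
  have hxi : x ∈ X.basicOpen (g i) := hxg
  -- on `D(g i)` the two sections agree
  have hagree : ρ (hD i) (ρ (inf_le_left : V ⊓ U ≤ V) σ) = ρ (hD i) τ := by
    obtain ⟨M, hM⟩ := hσ i
    have hu := isUnit_ρ_basicOpen hV (g i)
    have h1 : ρ (X.basicOpen_le (g i)) (g i) ^ M *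
        (ρ (X.basicOpen_le (g i)) σ * ρ (X.basicOpen_le (g i)) (g i) ^ N -
          ρ (X.basicOpen_le (g i)) (s i)) = 0 := by
      rw [← map_pow, ← map_pow, ← map_mul, ← map_sub, ← map_mul, hM, map_zero]
    have h2 := (hu.pow M).mul_right_eq_zero.mp h1
    rw [← hs i, ← sub_mul] at h2
    have h3 := (hu.pow N).mul_left_eq_zero.mp h2
    rw [ρ_ρ]
    exact sub_eq_zero.mp h3
  have e1 := germ_ρ (hD i) x hxi (ρ (inf_le_left : V ⊓ U ≤ V) σ)
  have e2 := germ_ρ (hD i) x hxi τ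
  rw [hagree] at e1
  exact e1.symm.trans e2

section Glue

variable (F : X.Modules) (U)

/-- Injectivity of restriction to `V ⊓ U` on affines implies injectivity on all opens. -/
theorem eq_zero_of_res_eq_zero_of_affine
    (hinj : ∀ V : X.Opens, IsAffineOpen V → Function.Injective (res F (inf_le_left : V ⊓ U ≤ V)))
    {V W : X.Opens} (hWV : W ≤ V) (hW : V ⊓ U ≤ W) (s : Γ(F, V)) (hs : res F hWV s = 0) :
    s = 0 := by
  apply TopCat.Presheaf.section_ext ⟨F.presheaf, F.isSheaf⟩ V s 0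
  intro x hx
  rw [map_zero]
  obtain ⟨_, ⟨V', hV', rfl⟩, hxV', hV'V⟩ :=
    X.isBasis_affineOpens.exists_subset_of_mem_open hx V.2
  replace hV'V : V' ≤ V := hV'V
  have h0 : res F (inf_le_left : V' ⊓ U ≤ V') (res F hV'V s) = 0 := by
    rw [res_res, ← res_res F (le_trans (inf_le_inf_right U hV'V) hW : V' ⊓ U ≤ W) hWV s, hs,
      res_zero]
  have h2 : res F hV'V s = 0 := hinj V' hV' (h0.trans (res_zero F _).symm)
  have h3 := congrArg (fun t => F.presheaf.germ V' x hxV' t) h2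
  simp only [map_zero] at h3
  rw [germ_res] at h3
  exact h3

theorem res_injective_of_affine
    (hinj : ∀ V : X.Opens, IsAffineOpen V → Function.Injective (res F (inf_le_left : V ⊓ U ≤ V)))
    {V W : X.Opens} (hWV : W ≤ V) (hW : V ⊓ U ≤ W) : Function.Injective (res F hWV) := by
  intro s s' h
  have h0 : res F hWV (s - s') = 0 := by rw [Hartogs.res_sub, h, sub_self]
  have := eq_zero_of_res_eq_zero_of_affine U F hinj hWV hW (s - s') h0
  exact sub_eq_zero.mp this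

/-- Bijectivity of restriction to `V ⊓ U` on affines implies bijectivity on all opens. -/
theorem res_bijective_of_affine
    (haff : ∀ V : X.Opens, IsAffineOpen V → Function.Bijective (res F (inf_le_left : V ⊓ U ≤ V)))
    (V : X.Opens) : Function.Bijective (res F (inf_le_left : V ⊓ U ≤ V)) := by
  have hinj := fun V hV => (haff V hV).1
  refine ⟨res_injective_of_affine U F hinj inf_le_left le_rfl, ?_⟩
  intro t
  let ι := {W : X.Opens // IsAffineOpen W ∧ W ≤ V}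
  let Uι : ι → X.Opens := fun i => i.1
  have hle : ∀ i : ι, Uι i ⊓ U ≤ V ⊓ U := fun i => inf_le_inf_right U i.2.2
  have hex : ∀ i : ι, ∃ z : Γ(F, Uι i), res F inf_le_left z = res F (hle i) t := fun i =>
    (haff _ i.2.1).2 _
  choose sf hsf using hex
  have hcompat : TopCat.Presheaf.IsCompatible F.presheaf Uι sf := by
    intro i j
    apply res_injective_of_affine U F hinj (le_refl (Uι i ⊓ Uι j)) inf_le_left
    apply res_injective_of_affine U F hinj
      (inf_le_left : (Uι i ⊓ Uι j) ⊓ U ≤ Uι i ⊓ Uι j) le_rfl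
    have e1 : res F (inf_le_left : (Uι i ⊓ Uι j) ⊓ U ≤ Uι i ⊓ Uι j)
        (res F (le_refl _) (F.presheaf.map (Opens.infLELeft (Uι i) (Uι j)).op (sf i))) =
        res F (inf_le_inf_right U (inf_le_left.trans i.2.2)) t := by
      have : F.presheaf.map (Opens.infLELeft (Uι i) (Uι j)).op (sf i) =
          res F (inf_le_left : Uι i ⊓ Uι j ≤ Uι i) (sf i) := rfl
      rw [this, res_res, res_res,
        ← res_res F (inf_le_inf_right U inf_le_left : (Uι i ⊓ Uι j) ⊓ U ≤ Uι i ⊓ U) inf_le_left,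
        hsf i, res_res]
    have e2 : res F (inf_le_left : (Uι i ⊓ Uι j) ⊓ U ≤ Uι i ⊓ Uι j)
        (res F (le_refl _) (F.presheaf.map (Opens.infLERight (Uι i) (Uι j)).op (sf j))) =
        res F (inf_le_inf_right U (inf_le_left.trans i.2.2)) t := by
      have : F.presheaf.map (Opens.infLERight (Uι i) (Uι j)).op (sf j) =
          res F (inf_le_right : Uι i ⊓ Uι j ≤ Uι j) (sf j) := rfl
      rw [this, res_res, res_res,
        ← res_res F (inf_le_inf_right U inf_le_right : (Uι i ⊓ Uι j) ⊓ U ≤ Uι j ⊓ U) inf_le_left,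
        hsf j, res_res]
    rw [e1, e2]
  have hcover : V ≤ iSup Uι := by
    intro x hx
    obtain ⟨_, ⟨W, hW, rfl⟩, hxW, hWV⟩ :=
      X.isBasis_affineOpens.exists_subset_of_mem_open hx V.2
    exact Opens.mem_iSup.mpr ⟨⟨W, hW, hWV⟩, hxW⟩
  obtain ⟨z, hz, -⟩ := TopCat.Sheaf.existsUnique_gluing' (⟨F.presheaf, F.isSheaf⟩ :
    TopCat.Sheaf AddCommGrpCat X) Uι V (fun i => homOfLE i.2.2) hcover sf hcompat
  refine ⟨z, ?_⟩
  apply TopCat.Presheaf.section_ext ⟨F.presheaf, F.isSheaf⟩ (V ⊓ U)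
  intro x hx
  obtain ⟨_, ⟨W, hW, rfl⟩, hxW, hWV⟩ :=
    X.isBasis_affineOpens.exists_subset_of_mem_open hx.1 V.2
  let i : ι := ⟨W, hW, hWV⟩
  have hxi : x ∈ Uι i ⊓ U := ⟨hxW, hx.2⟩
  have hzi : res F (i.2.2 : Uι i ≤ V) z = sf i := hz i
  have h1 : F.presheaf.germ (V ⊓ U) x hx (res F inf_le_left z) =
      F.presheaf.germ (Uι i ⊓ U) x hxi (res F inf_le_left (sf i)) := by
    rw [germ_res, germ_res, ← hzi, germ_res]
  have h2 : F.presheaf.germ (V ⊓ U) x hx t =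
      F.presheaf.germ (Uι i ⊓ U) x hxi (res F (hle i) t) := by
    rw [germ_res]
  exact h1.trans ((congrArg _ (hsf i)).trans h2.symm)

end Glue

/-- **Non-Noetherian Hartogs for functions**: all opens. -/
theorem resO_bijective [QuasiCompact U.ι] (h : RegPairOff U) {V W : X.Opens} (hWV : W ≤ V)
    (hW : W = V ⊓ U) : Function.Bijective (X.presheaf.map (homOfLE hWV).op) := by
  subst hW
  exact res_bijective_of_affine U (Coh.structureModule X)
    (fun V' hV' => res_bijective_affine h hV') V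

/-- The restriction `Γ(X, ⊤) ⟶ Γ(U, ⊤)` is an isomorphism of rings. -/
theorem isIso_ι_appTop [QuasiCompact U.ι] (h : RegPairOff U) : IsIso U.ι.appTop := by
  rw [Scheme.Opens.ι_appTop, ConcreteCategory.isIso_iff_bijective]
  exact resO_bijective h _ (by rw [Scheme.Opens.ι_image_top, top_inf_eq])

end Groth.Agent.Lib.HartogsNNScheme
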