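import Groth.Agent.Lib.HartogsNNScheme
import Mathlib.AlgebraicGeometry.PullbackCarrier
import Mathlib.AlgebraicGeometry.Morphisms.Affine

/-!
# Relative Hartogs extension, abstract form (helper63)

`HartogsExt j` : the morphism `j : V ⟶ Y` has, locally on `Y` (after pullback along every open
immersion `T ⟶ Y`), the unique extension property for morphisms to affine schemes.
* `hom_ext_of_isAffineHom`, `existsUnique_extension` : the relative version, for `X`-morphisms to a
  scheme `Y'` affine over `X` (generalises `Lib/HartogsRel`, no Noetherian hypotheses).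
* `hartogsExt_ι` : `HartogsExt U.ι` for an open `U` with quasi-compact inclusion and a weakly regular
  pair in the maximal ideal of `O_{X,z}` at every `z ∉ U`.
-/

set_option autoImplicit false
universe u
open CategoryTheory CategoryTheory.Limits AlgebraicGeometry

namespace Groth.Agent.Lib.HartogsRel2

/-- `j` has the unique extension property for morphisms to affine schemes, locally on the target. -/
def HartogsExt {V Y : Scheme.{u}} (j : V ⟶ Y) : Prop :=
  ∀ ⦃T : Scheme.{u}⦄ (ι : T ⟶ Y) [IsOpenImmersion ι] ⦃Z : Scheme.{u}⦄ [IsAffine Z]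
    (ψ : pullback j ι ⟶ Z), ∃! φ : T ⟶ Z, pullback.snd j ι ≫ φ = ψ

theorem HartogsExt.pullback_snd {V Y T : Scheme.{u}} {j : V ⟶ Y} (h : HartogsExt j)
    (ι : T ⟶ Y) [IsOpenImmersion ι] : HartogsExt (pullback.snd j ι) := by
  intro T' ι' _ Z _ ψ
  let e := pullbackLeftPullbackSndIso j ι ι'
  obtain ⟨φ, hφ, huniq⟩ := h (ι' ≫ ι) (e.inv ≫ ψ)
  have he : pullback.snd (pullback.snd j ι) ι' = e.hom ≫ pullback.snd j (ι' ≫ ι) :=
    (pullbackLeftPullbackSndIso_hom_snd j ι ι').symm
  refine ⟨φ, ?_, ?_⟩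
  · beta_reduce at hφ ⊢
    rw [he, Category.assoc, hφ, Iso.hom_inv_id_assoc]
  · intro φ' hφ'
    apply huniq
    rw [← hφ', he, Category.assoc, Iso.inv_hom_id_assoc]

section Relative

variable {V Y X Y' : Scheme.{u}} (j : V ⟶ Y) (h : HartogsExt j) (f : Y ⟶ X) (g : Y' ⟶ X)
  [IsAffineHom g]

include h in
/-- Uniqueness in the relative Hartogs extension. -/
theorem hom_ext_of_isAffineHom (a b : Y ⟶ Y') (ha : a ≫ g = f) (hb : b ≫ g = f)
    (hab : j ≫ a = j ≫ b) : a = b := by
  let 𝒲 := X.affineCover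
  refine Scheme.Cover.hom_ext (𝒲.pullback₁ f) _ _ fun i => ?_
  change pullback.fst f (𝒲.f i) ≫ a = pullback.fst f (𝒲.f i) ≫ b
  haveI : IsAffine (pullback g (𝒲.f i)) := isAffine_of_isAffineHom (pullback.snd g (𝒲.f i))
  let ai : pullback f (𝒲.f i) ⟶ pullback g (𝒲.f i) :=
    pullback.lift (pullback.fst f (𝒲.f i) ≫ a) (pullback.snd f (𝒲.f i))
      (by rw [Category.assoc, ha, pullback.condition])
  let bi : pullback f (𝒲.f i) ⟶ pullback g (𝒲.f i) :=
    pullback.lift (pullback.fst f (𝒲.f i) ≫ b) (pullback.snd f (𝒲.f i))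
      (by rw [Category.assoc, hb, pullback.condition])
  have key : ai = bi := by
    obtain ⟨φ, _, huniq⟩ := h (pullback.fst f (𝒲.f i))
      (pullback.snd j (pullback.fst f (𝒲.f i)) ≫ ai)
    rw [huniq ai rfl]
    refine (huniq bi ?_).symm
    beta_reduce
    apply pullback.hom_ext
    · simp only [Category.assoc, ai, bi, pullback.lift_fst]
      rw [← pullback.condition_assoc, ← pullback.condition_assoc, hab]
    · simp only [Category.assoc, ai, bi, pullback.lift_snd]
  have h1 : pullback.fst f (𝒲.f i) ≫ a = ai ≫ pullback.fst g (𝒲.f i) := by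
    simp only [ai, pullback.lift_fst]
  have h2 : pullback.fst f (𝒲.f i) ≫ b = bi ≫ pullback.fst g (𝒲.f i) := by
    simp only [bi, pullback.lift_fst]
  rw [h1, h2, key]

include h in
/-- **Relative Hartogs extension.** -/
theorem existsUnique_extension (ψ : V ⟶ Y') (hψ : ψ ≫ g = j ≫ f) :
    ∃! φ : Y ⟶ Y', φ ≫ g = f ∧ j ≫ φ = ψ := by
  let 𝒲 := X.affineCover
  -- local extensions
  have loc : ∀ i, ∃ φi : pullback f (𝒲.f i) ⟶ Y', φi ≫ g = pullback.fst f (𝒲.f i) ≫ f ∧
      pullback.snd j (pullback.fst f (𝒲.f i)) ≫ φi =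
        pullback.fst j (pullback.fst f (𝒲.f i)) ≫ ψ := by
    intro i
    haveI : IsAffine (pullback g (𝒲.f i)) := isAffine_of_isAffineHom (pullback.snd g (𝒲.f i))
    let ψi : pullback j (pullback.fst f (𝒲.f i)) ⟶ pullback g (𝒲.f i) :=
      pullback.lift (pullback.fst j (pullback.fst f (𝒲.f i)) ≫ ψ)
        (pullback.snd j (pullback.fst f (𝒲.f i)) ≫ pullback.snd f (𝒲.f i)) (by
          rw [Category.assoc, hψ, pullback.condition_assoc, Category.assoc, pullback.condition])
    obtain ⟨φi', hφi', -⟩ := h (pullback.fst f (𝒲.f i)) ψi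
    have hsnd : φi' ≫ pullback.snd g (𝒲.f i) = pullback.snd f (𝒲.f i) := by
      obtain ⟨χ, _, hχ⟩ := h (pullback.fst f (𝒲.f i))
        (pullback.snd j (pullback.fst f (𝒲.f i)) ≫ pullback.snd f (𝒲.f i))
      rw [hχ (φi' ≫ pullback.snd g (𝒲.f i))
        (by beta_reduce; rw [← Category.assoc, hφi', pullback.lift_snd]),
        hχ (pullback.snd f (𝒲.f i)) rfl]
    refine ⟨φi' ≫ pullback.fst g (𝒲.f i), ?_, ?_⟩
    · rw [Category.assoc, pullback.condition, ← Category.assoc, hsnd, pullback.condition]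
    · rw [← Category.assoc, hφi', pullback.lift_fst]
  choose φi hφig hφij using loc
  have helper : ∀ i {P : Scheme.{u}} (p : P ⟶ V) (q : P ⟶ pullback f (𝒲.f i)),
      p ≫ j = q ≫ pullback.fst f (𝒲.f i) → q ≫ φi i = p ≫ ψ := by
    intro i P p q hpq
    have : q = pullback.lift p q hpq ≫ pullback.snd j (pullback.fst f (𝒲.f i)) :=
      (pullback.lift_snd _ _ _).symm
    rw [this, Category.assoc, hφij, ← Category.assoc, pullback.lift_fst]
  have compat : ∀ i k, pullback.fst (pullback.fst f (𝒲.f i)) (pullback.fst f (𝒲.f k)) ≫ φi i =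
      pullback.snd (pullback.fst f (𝒲.f i)) (pullback.fst f (𝒲.f k)) ≫ φi k := by
    intro i k
    let ι := pullback.fst (pullback.fst f (𝒲.f i)) (pullback.fst f (𝒲.f k)) ≫
      pullback.fst f (𝒲.f i)
    refine hom_ext_of_isAffineHom (pullback.snd j ι) (h.pullback_snd ι) (ι ≫ f) g _ _ ?_ ?_ ?_
    · rw [Category.assoc, hφig, Category.assoc]
    · rw [Category.assoc, hφig, ← pullback.condition_assoc, Category.assoc]
    · rw [← Category.assoc, ← Category.assoc,
        helper i (pullback.fst j ι) (pullback.snd j ι ≫ pullback.fst _ _)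
          (by rw [Category.assoc]; exact pullback.condition),
        helper k (pullback.fst j ι) (pullback.snd j ι ≫ pullback.snd _ _)
          (by rw [Category.assoc, ← pullback.condition]; exact pullback.condition)]
  let 𝒰 := 𝒲.pullback₁ f
  refine ⟨Scheme.Cover.glueMorphisms 𝒰 φi compat, ⟨?_, ?_⟩, ?_⟩
  · refine Scheme.Cover.hom_ext 𝒰 _ _ fun i => ?_
    rw [← Category.assoc, Scheme.Cover.ι_glueMorphisms]
    exact hφig i
  · refine Scheme.Cover.hom_ext (𝒰.pullback₁ j) _ _ fun i => ?_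
    change pullback.fst j (𝒰.f i) ≫ j ≫ _ = pullback.fst j (𝒰.f i) ≫ ψ
    rw [pullback.condition_assoc, Scheme.Cover.ι_glueMorphisms]
    exact hφij i
  · rintro φ' ⟨h1, h2⟩
    refine hom_ext_of_isAffineHom j h f g _ _ h1 ?_ ?_
    · refine Scheme.Cover.hom_ext 𝒰 _ _ fun i => ?_
      rw [← Category.assoc, Scheme.Cover.ι_glueMorphisms]
      exact hφig i
    · rw [h2]
      symm
      refine Scheme.Cover.hom_ext (𝒰.pullback₁ j) _ _ fun i => ?_
      change pullback.fst j (𝒰.f i) ≫ j ≫ _ = pullback.fst j (𝒰.f i) ≫ ψ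
      rw [pullback.condition_assoc, Scheme.Cover.ι_glueMorphisms]
      exact hφij i

end Relative

/-- A morphism inducing an isomorphism on global sections has the unique extension property for
morphisms to affine schemes. -/
theorem existsUnique_of_isIso_appTop {P T Z : Scheme.{u}} (p : P ⟶ T) [IsIso p.appTop]
    [IsAffine Z] (ψ : P ⟶ Z) : ∃! φ : T ⟶ Z, p ≫ φ = ψ := by
  have key : p ≫ T.toSpecΓ ≫ Spec.map (ψ.appTop ≫ inv p.appTop) ≫ inv Z.toSpecΓ = ψ := by
    rw [← cancel_mono Z.toSpecΓ]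
    simp only [Category.assoc, IsIso.inv_hom_id, Category.comp_id]
    rw [← Category.assoc, Scheme.toSpecΓ_naturality, Category.assoc, ← Spec.map_comp,
      Category.assoc, IsIso.inv_hom_id, Category.comp_id, ← Scheme.toSpecΓ_naturality]
  refine ⟨T.toSpecΓ ≫ Spec.map (ψ.appTop ≫ inv p.appTop) ≫ inv Z.toSpecΓ, key, ?_⟩
  intro φ hφ
  apply ext_of_isAffine
  have h1 : φ.appTop ≫ p.appTop = ψ.appTop := by
    rw [← Scheme.Hom.comp_appTop, hφ]
  have h2 : (T.toSpecΓ ≫ Spec.map (ψ.appTop ≫ inv p.appTop) ≫ inv Z.toSpecΓ).appTop ≫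
      p.appTop = ψ.appTop := by
    rw [← Scheme.Hom.comp_appTop, key]
  rw [← cancel_mono p.appTop, h1, h2]

open Groth.Agent.Lib.HartogsNNScheme in
/-- Non-Noetherian Hartogs: `U.ι` has the local unique extension property. -/
theorem hartogsExt_ι {X : Scheme.{u}} (U : X.Opens) [QuasiCompact U.ι] (h : RegPairOff U) :
    HartogsExt U.ι := by
  intro T ι _ Z _ ψ
  let p := pullback.snd U.ι ι
  -- the range of `p`
  have hrange : p.opensRange = ι ⁻¹ᵁ U := by
    ext t
    simp only [Scheme.Hom.coe_opensRange, p, Scheme.Pullback.range_snd, Scheme.Opens.range_ι,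
      Scheme.Hom.coe_preimage]
  -- bijectivity of restriction on `T`
  have hbij : Function.Bijective (T.presheaf.map (homOfLE (le_top : p.opensRange ≤ ⊤)).op) := by
    have hnat := ι.appIso_hom_naturality (homOfLE (le_top : p.opensRange ≤ ⊤)).op
    have hle : ι ''ᵁ p.opensRange ≤ ι ''ᵁ ⊤ := ι.image_mono le_top
    have hW : ι ''ᵁ p.opensRange = ι ''ᵁ ⊤ ⊓ U := by
      rw [hrange, Scheme.Hom.image_preimage_eq_opensRange_inf, Scheme.Hom.image_top_eq_opensRange]
    have hb := resO_bijective h hle hW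
    have e : T.presheaf.map (homOfLE (le_top : p.opensRange ≤ ⊤)).op =
        (ι.appIso ⊤).inv ≫ X.presheaf.map (homOfLE hle).op ≫ (ι.appIso p.opensRange).hom := by
      rw [← cancel_epi (ι.appIso ⊤).hom, Iso.hom_inv_id_assoc]
      exact hnat.symm
    rw [e]
    have b1 : Function.Bijective (ι.appIso ⊤).inv :=
      (ConcreteCategory.isIso_iff_bijective _).mp inferInstance
    have b2 : Function.Bijective (ι.appIso p.opensRange).hom :=
      (ConcreteCategory.isIso_iff_bijective _).mp inferInstance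
    simp only [CommRingCat.hom_comp, RingHom.coe_comp]
    exact b2.comp (hb.comp b1)
  have hbij' : ∀ (W : T.Opens) (hW : W = p.opensRange),
      Function.Bijective (T.presheaf.map (homOfLE (le_top : W ≤ ⊤)).op) := by
    intro W hW
    subst hW
    exact hbij
  haveI h1 : IsIso p.opensRange.ι.appTop := by
    rw [Scheme.Opens.ι_appTop, ConcreteCategory.isIso_iff_bijective]
    exact hbij' _ (by rw [Scheme.Opens.ι_image_top])
  haveI h2 : IsIso p.isoOpensRange.hom.appTop :=
    inferInstanceAs (IsIso (p.isoOpensRange.hom.app ⊤))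
  haveI : IsIso p.appTop := by
    have : p = p.isoOpensRange.hom ≫ p.opensRange.ι := (Scheme.Hom.isoOpensRange_hom_ι p).symm
    rw [this, Scheme.Hom.comp_appTop]
    exact IsIso.comp_isIso
  exact existsUnique_of_isIso_appTop p ψ

end Groth.Agent.Lib.HartogsRel2
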