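import Groth.Agent.S2663

/-!
# Hartshorne's connectedness theorem: chains of minimal primes (helper63)

`A` Noetherian with connected spectrum, `P` a predicate on primes such that `depth A_r ≥ 2` for every
prime `r` with `¬ P r`.  Then any two minimal primes are joined by a chain of minimal primes in which
consecutive members lie in a common prime satisfying `P`.
-/

set_option autoImplicit false
universe u

namespace Groth.Agent.Lib.HartshorneConn

variable (A : Type u) [CommRing A]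

/-- Two minimal primes are linked when they lie in a common prime satisfying `P`. -/
def Rel (P : Ideal A → Prop) (p q : Ideal A) : Prop :=
  p ∈ minimalPrimes A ∧ q ∈ minimalPrimes A ∧ ∃ r : Ideal A, r.IsPrime ∧ p ≤ r ∧ q ≤ r ∧ P r

variable [IsNoetherianRing A] [ConnectedSpace (PrimeSpectrum A)]

theorem reflTransGen_rel (P : Ideal A → Prop)
    (h : ∀ (p : Ideal A) [p.IsPrime], ¬ P p →
      (2 : ℕ∞) ≤ LocCoh.depth (Localization.AtPrime p) (Localization.AtPrime p))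
    (p' p'' : Ideal A) (hp' : p' ∈ minimalPrimes A) (hp'' : p'' ∈ minimalPrimes A) :
    Relation.ReflTransGen (Rel A P) p' p'' := by
  classical
  by_contra hcon
  -- the two families of minimal primes
  let C₁ : Set (Ideal A) := {p | p ∈ minimalPrimes A ∧ Relation.ReflTransGen (Rel A P) p' p}
  let C₂ : Set (Ideal A) := {p | p ∈ minimalPrimes A ∧ ¬ Relation.ReflTransGen (Rel A P) p' p}
  have hfin : (minimalPrimes A).Finite := minimalPrimes.finite_of_isNoetherianRing A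
  have hC₁fin : C₁.Finite := hfin.subset (fun p hp => hp.1)
  have hC₂fin : C₂.Finite := hfin.subset (fun p hp => hp.1)
  let Z₁ : Set (PrimeSpectrum A) := ⋃ p ∈ C₁, PrimeSpectrum.zeroLocus (p : Set A)
  let Z₂ : Set (PrimeSpectrum A) := ⋃ p ∈ C₂, PrimeSpectrum.zeroLocus (p : Set A)
  have hZ₁ : IsClosed Z₁ := hC₁fin.isClosed_biUnion fun p _ => PrimeSpectrum.isClosed_zeroLocus _
  have hZ₂ : IsClosed Z₂ := hC₂fin.isClosed_biUnion fun p _ => PrimeSpectrum.isClosed_zeroLocus _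
  have hmem₁ : ∀ x : PrimeSpectrum A, x ∈ Z₁ ↔ ∃ p ∈ C₁, p ≤ x.asIdeal := by
    intro x
    simp only [Z₁, Set.mem_iUnion, PrimeSpectrum.mem_zeroLocus, SetLike.coe_subset_coe, exists_prop]
  have hmem₂ : ∀ x : PrimeSpectrum A, x ∈ Z₂ ↔ ∃ p ∈ C₂, p ≤ x.asIdeal := by
    intro x
    simp only [Z₂, Set.mem_iUnion, PrimeSpectrum.mem_zeroLocus, SetLike.coe_subset_coe, exists_prop]
  have hcover : ∀ x : PrimeSpectrum A, x ∈ Z₁ ∨ x ∈ Z₂ := by
    intro x
    obtain ⟨p, hp, hpx⟩ := Ideal.exists_minimalPrimes_le (bot_le : (⊥ : Ideal A) ≤ x.asIdeal)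
    by_cases hr : Relation.ReflTransGen (Rel A P) p' p
    · exact Or.inl ((hmem₁ x).mpr ⟨p, ⟨hp, hr⟩, hpx⟩)
    · exact Or.inr ((hmem₂ x).mpr ⟨p, ⟨hp, hr⟩, hpx⟩)
  -- points of the intersection do not satisfy `P`
  have hinter : ∀ x : PrimeSpectrum A, x ∈ Z₁ ∩ Z₂ → ¬ P x.asIdeal := by
    rintro x ⟨hx1, hx2⟩ hPx
    obtain ⟨p₁, ⟨hp₁, hr₁⟩, hp₁x⟩ := (hmem₁ x).mp hx1
    obtain ⟨p₂, ⟨hp₂, hr₂⟩, hp₂x⟩ := (hmem₂ x).mp hx2
    exact hr₂ (hr₁.tail ⟨hp₁, hp₂, x.asIdeal, x.isPrime, hp₁x, hp₂x, hPx⟩)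
  let I : Ideal A := PrimeSpectrum.vanishingIdeal (Z₁ ∩ Z₂)
  have hI : PrimeSpectrum.zeroLocus (I : Set A) = Z₁ ∩ Z₂ := by
    rw [PrimeSpectrum.zeroLocus_vanishingIdeal_eq_closure]
    exact (hZ₁.inter hZ₂).closure_eq
  have hpre : IsPreconnected ((PrimeSpectrum.zeroLocus (I : Set A))ᶜ) := by
    apply Groth.Agent.S2663.result A I
    intro p hp hIp
    apply h p
    have : (⟨p, hp⟩ : PrimeSpectrum A) ∈ PrimeSpectrum.zeroLocus (I : Set A) :=
      (PrimeSpectrum.mem_zeroLocus _ _).mpr hIp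
    rw [hI] at this
    exact hinter ⟨p, hp⟩ this
  rw [hI] at hpre
  -- the generic points of `p'` and `p''`
  have hp'prime : p'.IsPrime := hp'.1.1
  have hp''prime : p''.IsPrime := hp''.1.1
  have hx' : (⟨p', hp'prime⟩ : PrimeSpectrum A) ∉ Z₂ := by
    intro hx
    obtain ⟨p₂, ⟨hp₂, hr₂⟩, hp₂x⟩ := (hmem₂ _).mp hx
    have : p₂ = p' := le_antisymm hp₂x (hp'.2 ⟨hp₂.1.1, bot_le⟩ hp₂x)
    exact hr₂ (this ▸ Relation.ReflTransGen.refl)
  have hx'' : (⟨p'', hp''prime⟩ : PrimeSpectrum A) ∉ Z₁ := by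
    intro hx
    obtain ⟨p₁, ⟨hp₁, hr₁⟩, hp₁x⟩ := (hmem₁ _).mp hx
    have : p₁ = p'' := le_antisymm hp₁x (hp''.2 ⟨hp₁.1.1, bot_le⟩ hp₁x)
    exact hcon (this ▸ hr₁)
  obtain ⟨y, _, hy2, hy1⟩ := hpre Z₂ᶜ Z₁ᶜ hZ₂.isOpen_compl hZ₁.isOpen_compl
    (by
      intro x hx
      by_contra hne
      simp only [Set.mem_union, Set.mem_compl_iff, not_or, not_not] at hne
      exact hx ⟨hne.2, hne.1⟩)
    ⟨⟨p', hp'prime⟩, fun hx => hx' hx.2, hx'⟩
    ⟨⟨p'', hp''prime⟩, fun hx => hx'' hx.1, hx''⟩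
  rcases hcover y with hy | hy
  · exact hy1 hy
  · exact hy2 hy

/-- A `ReflTransGen` path as a `Fin`-indexed chain. -/
theorem exists_fin_chain {α : Type*} (r : α → α → Prop) {a b : α}
    (h : Relation.ReflTransGen r a b) :
    ∃ (n : ℕ) (c : Fin (n + 1) → α), c 0 = a ∧ c (Fin.last n) = b ∧
      ∀ i : Fin n, r (c i.castSucc) (c i.succ) := by
  refine Relation.ReflTransGen.head_induction_on h ?_ ?_
  · exact ⟨0, fun _ => b, rfl, rfl, fun i => i.elim0⟩
  · intro x y hxy _ ih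
    obtain ⟨n, c, hc0, hcl, hc⟩ := ih
    refine ⟨n + 1, Fin.cons x c, Fin.cons_zero _ _, ?_, ?_⟩
    · rw [← Fin.succ_last, Fin.cons_succ, hcl]
    · intro i
      refine Fin.cases ?_ (fun j => ?_) i
      · rw [Fin.castSucc_zero, Fin.cons_zero, Fin.cons_succ, hc0]
        exact hxy
      · rw [← Fin.succ_castSucc, Fin.cons_succ, Fin.cons_succ]
        exact hc j

end Groth.Agent.Lib.HartshorneConn
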