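import Mathlib.CategoryTheory.Triangulated.TStructure.Heart
import Mathlib.CategoryTheory.Triangulated.TStructure.TruncLEGT
import Mathlib.CategoryTheory.Triangulated.TStructure.AbelianSubcategory
import Mathlib.CategoryTheory.Limits.Constructions.FiniteProductsOfBinaryProducts

/-!
# The heart of a t-structure is abelian (helper97)

Via Mathlib's `Triangulated.AbelianSubcategory.abelian`: we check the vanishing of negative
self-extensions, admissibility of all morphisms (truncation triangle of the cone) and finite products.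
-/

set_option autoImplicit false

universe v' u' v u

open CategoryTheory CategoryTheory.Limits CategoryTheory.Pretriangulated CategoryTheory.Triangulated
open ZeroObject

namespace Groth.Agent.Lib.HeartAbelian97

variable {C : Type u} [Category.{v} C] [Preadditive C] [HasZeroObject C] [HasShift C ℤ]
  [∀ n : ℤ, (shiftFunctor C n).Additive] [Pretriangulated C]
  (t : TStructure C) {H : Type u'} [Category.{v'} H] [Preadditive H] [t.Heart H]

theorem hom_shift_neg_eq_zero ⦃X Y : H⦄ ⦃n : ℤ⦄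
    (f : t.ιHeart.obj X ⟶ (t.ιHeart.obj Y)⟦n⟧) (hn : n < 0) : f = 0 := by
  have : t.IsGE ((t.ιHeart.obj Y)⟦n⟧) (-n) := t.isGE_shift _ 0 n (-n) (by omega)
  exact t.zero_of_isLE_of_isGE f 0 (-n) (by omega) inferInstance this

/-- An object in the heart is (isomorphic to) the image of an object of `H`. -/
theorem exists_iso_of_isLE_of_isGE (X : C) [t.IsLE X 0] [t.IsGE X 0] :
    ∃ K : H, Nonempty (t.ιHeart.obj K ≅ X) := by
  have hX : t.heart X := (t.mem_heart_iff X).2 ⟨inferInstance, inferInstance⟩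
  rw [← t.essImage_ιHeart H] at hX
  obtain ⟨K, ⟨e⟩⟩ := hX
  exact ⟨K, ⟨e⟩⟩

variable [IsTriangulated C]

theorem admissibleMorphism_eq_top :
    AbelianSubcategory.admissibleMorphism (t.ιHeart (H := H)) = ⊤ := by
  ext X₁ X₂ f₁
  simp only [MorphismProperty.top_apply, iff_true]
  intro X₃ f₂ f₃ hT
  have hT' := rot_of_distTriang _ hT
  have h1 : t.IsLE ((t.ιHeart.obj X₁)⟦(1 : ℤ)⟧) (-1) := t.isLE_shift _ 0 1 (-1) (by omega)
  have h1' : t.IsGE ((t.ιHeart.obj X₁)⟦(1 : ℤ)⟧) (-1) := t.isGE_shift _ 0 1 (-1) (by omega)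
  have hLE : t.IsLE X₃ 0 := t.isLE₂ _ hT' 0
    (show t.IsLE (t.ιHeart.obj X₂) 0 from inferInstance)
    (show t.IsLE ((t.ιHeart.obj X₁)⟦(1 : ℤ)⟧) 0 from t.isLE_of_le _ (-1) 0 (by omega))
  have hGE : t.IsGE X₃ (-1) := t.isGE₂ _ hT' (-1)
    (show t.IsGE (t.ιHeart.obj X₂) (-1) from t.isGE_of_ge _ (-1) 0 (by omega))
    (show t.IsGE ((t.ιHeart.obj X₁)⟦(1 : ℤ)⟧) (-1) from h1')
  -- the truncation triangle of `X₃`
  have hTr := t.triangleLEGE_distinguished (-1) 0 (by omega) X₃
  have h2 : t.IsLE (((t.truncLE (-1)).obj X₃)⟦(-1 : ℤ)⟧) 0 := t.isLE_shift _ (-1) (-1) 0 (by omega)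
  have h2' : t.IsGE (((t.truncLE (-1)).obj X₃)⟦(-1 : ℤ)⟧) 0 := t.isGE_shift _ (-1) (-1) 0 (by omega)
  obtain ⟨K, ⟨eK⟩⟩ := exists_iso_of_isLE_of_isGE (H := H) t (((t.truncLE (-1)).obj X₃)⟦(-1 : ℤ)⟧)
  obtain ⟨Q, ⟨eQ⟩⟩ := exists_iso_of_isLE_of_isGE (H := H) t ((t.truncGE 0).obj X₃)
  let e₁ : (t.ιHeart.obj K)⟦(1 : ℤ)⟧ ≅ (t.truncLE (-1)).obj X₃ :=
    (shiftFunctor C (1 : ℤ)).mapIso eK ≪≫ (shiftEquiv C (1 : ℤ)).counitIso.app _
  refine ⟨K, Q, e₁.hom ≫ (t.truncLEι (-1)).app X₃, (t.truncGEπ 0).app X₃ ≫ eQ.inv,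
    eQ.hom ≫ (t.truncGEδLE (-1) 0 (by omega)).app X₃ ≫ (shiftFunctor C (1 : ℤ)).map e₁.inv, ?_⟩
  refine isomorphic_distinguished _ hTr _ ?_
  refine Triangle.isoMk _ _ e₁ (Iso.refl _) eQ ?_ ?_ ?_
  · exact Category.comp_id _
  · change ((t.truncGEπ 0).app X₃ ≫ eQ.inv) ≫ eQ.hom = 𝟙 X₃ ≫ (t.truncGEπ 0).app X₃
    rw [Category.assoc, Iso.inv_hom_id, Category.comp_id, Category.id_comp]
  · change (eQ.hom ≫ (t.truncGEδLE (-1) 0 (by omega)).app X₃ ≫
        (shiftFunctor C (1 : ℤ)).map e₁.inv) ≫ (shiftFunctor C (1 : ℤ)).map e₁.hom =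
      eQ.hom ≫ (t.truncGEδLE (-1) 0 (by omega)).app X₃
    rw [Category.assoc, Category.assoc, ← CategoryTheory.Functor.map_comp, Iso.inv_hom_id,
      CategoryTheory.Functor.map_id]
    erw [Category.comp_id]

include t in
omit [IsTriangulated C] in
theorem hasZeroObject : HasZeroObject H := by
  obtain ⟨Z, ⟨e⟩⟩ := exists_iso_of_isLE_of_isGE (H := H) t (0 : C)
  refine ⟨⟨Z, ?_⟩⟩
  rw [IsZero.iff_id_eq_zero]
  apply t.ιHeart.map_injective
  exact (IsZero.of_iso (isZero_zero C) e).eq_of_src _ _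

include t in
omit [IsTriangulated C] in
theorem hasBinaryBiproduct (X Y : H) : HasBinaryBiproduct X Y := by
  have hT := binaryBiproductTriangle_distinguished (t.ιHeart.obj X) (t.ιHeart.obj Y)
  have hLE : t.IsLE (t.ιHeart.obj X ⊞ t.ιHeart.obj Y) 0 := t.isLE₂ _ hT 0
    (show t.IsLE (t.ιHeart.obj X) 0 from inferInstance)
    (show t.IsLE (t.ιHeart.obj Y) 0 from inferInstance)
  have hGE : t.IsGE (t.ιHeart.obj X ⊞ t.ιHeart.obj Y) 0 := t.isGE₂ _ hT 0
    (show t.IsGE (t.ιHeart.obj X) 0 from inferInstance)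
    (show t.IsGE (t.ιHeart.obj Y) 0 from inferInstance)
  obtain ⟨W, ⟨e⟩⟩ := exists_iso_of_isLE_of_isGE (H := H) t (t.ιHeart.obj X ⊞ t.ιHeart.obj Y)
  let b : BinaryBicone X Y :=
    { pt := W
      fst := t.ιHeart.preimage (e.hom ≫ biprod.fst)
      snd := t.ιHeart.preimage (e.hom ≫ biprod.snd)
      inl := t.ιHeart.preimage (biprod.inl ≫ e.inv)
      inr := t.ιHeart.preimage (biprod.inr ≫ e.inv)
      inl_fst := t.ιHeart.map_injective (by simp)
      inl_snd := t.ιHeart.map_injective (by simp)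
      inr_fst := t.ιHeart.map_injective (by simp)
      inr_snd := t.ιHeart.map_injective (by simp) }
  refine HasBinaryBiproduct.mk ⟨b, isBinaryBilimitOfTotal b ?_⟩
  apply t.ιHeart.map_injective
  simp only [b, Functor.map_add, Functor.map_comp, Functor.map_preimage, Category.assoc]
  rw [← Category.assoc biprod.fst, ← Category.assoc biprod.snd, ← Preadditive.comp_add,
    ← Preadditive.add_comp, biprod.total, Category.id_comp, Iso.hom_inv_id,
    CategoryTheory.Functor.map_id]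

include t in
omit [IsTriangulated C] in
theorem hasFiniteProducts : HasFiniteProducts H := by
  have := hasZeroObject t (H := H)
  have : HasBinaryBiproducts H := ⟨fun X Y => hasBinaryBiproduct t X Y⟩
  exact hasFiniteProducts_of_has_binary_and_terminal

include t in
/-- The heart of a t-structure is an abelian category. -/
@[instance_reducible]
noncomputable def abelianHeart : Abelian H :=
  haveI := hasFiniteProducts t (H := H)
  AbelianSubcategory.abelian (t.ιHeart (H := H)) (hom_shift_neg_eq_zero t)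
    (admissibleMorphism_eq_top t)

theorem abelianHeart_toPreadditive :
    (abelianHeart t (H := H)).toPreadditive = ‹Preadditive H› := rfl

end Groth.Agent.Lib.HeartAbelian97
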