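import Groth.Agent.Lib.SerreProp6

/-!
# Eisenbud–Evans basic elements at primes of bounded height (helper6)

Namespace `Groth.Agent.Lib.HeightBasic6`.  Main result `main` (= statement S13533): over a Noetherian
ring whose associated primes have height `≤ k`, a finite module that is free of rank `r ≥ k` at all
primes of height `≤ k` has a free submodule `N` of rank `r - k` with `M/N` free of rank `k` at those
primes.  Ingredients: `exists_frame`, `le_rk_of_free`, `exists_family` (the Eisenbud–Evans induction,
via `BasicElt6b.core`), `quotient_free_of_retraction`, `locFam`, `exists_retraction`.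
-/

set_option autoImplicit false
open Module

namespace Groth.Agent.Lib.HeightBasic6

open Groth.Agent.Lib.BasicElt6 (κ algebraMap_κ_eq_zero red red_apply red_smul)
open Groth.Agent.Lib.SerreProp6 (ev ev_apply ρq ρq_apply ρq_eq_zero_iff rk_rel rk_le_of_subset_span
  rk_range_le range_snoc_eq)

universe u


/-- A split injection `A_p^d → M_p` is detected by a `d × d` matrix of values of global linear forms
on global elements whose determinant is not in `p`. -/
lemma exists_frame {A : Type u} [CommRing A] (M : Type u) [AddCommGroup M] [Module A M]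
    [Module.FinitePresentation A M] (p : Ideal A) [p.IsPrime] (d : ℕ)
    (f : (Fin d → Localization.AtPrime p) →ₗ[Localization.AtPrime p]
      LocalizedModule p.primeCompl M)
    (g : LocalizedModule p.primeCompl M →ₗ[Localization.AtPrime p]
      (Fin d → Localization.AtPrime p))
    (hgf : g ∘ₗ f = LinearMap.id) :
    ∃ (m : Fin d → M) (φ : Fin d → (M →ₗ[A] A)), (Matrix.of fun i l => φ l (m i)).det ∉ p := by
  classical
  have hgf' : ∀ y, g (f y) = y := fun y => LinearMap.congr_fun hgf y
  choose ms hms using fun i : Fin d =>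
    IsLocalizedModule.surj p.primeCompl
      (LocalizedModule.mkLinearMap p.primeCompl M) (f (Pi.single i 1))
  let gt : Fin d → (M →ₗ[A] Localization.AtPrime p) := fun l =>
    ((LinearMap.proj l ∘ₗ g).restrictScalars A) ∘ₗ LocalizedModule.mkLinearMap p.primeCompl M
  choose φ τ hφ using fun l : Fin d =>
    Module.FinitePresentation.exists_lift_of_isLocalizedModule p.primeCompl
      (Algebra.linearMap A (Localization.AtPrime p)) (gt l)
  have key : ∀ l i, algebraMap A (Localization.AtPrime p) (φ l (ms i).1) =
      if l = i then algebraMap A (Localization.AtPrime p) ((τ l : A) * ((ms i).2 : A))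
      else 0 := by
    intro l i
    have h1 := LinearMap.congr_fun (hφ l) (ms i).1
    simp only [LinearMap.coe_comp, Function.comp_apply, Algebra.linearMap_apply,
      LinearMap.smul_apply, gt, LinearMap.coe_restrictScalars, LinearMap.coe_proj,
      Function.eval] at h1
    have h2 : g (LocalizedModule.mkLinearMap p.primeCompl M (ms i).1) =
        algebraMap A (Localization.AtPrime p) ((ms i).2 : A) •
          (Pi.single i 1 : Fin d → Localization.AtPrime p) := by
      rw [← hms i, Submonoid.smul_def, ← algebraMap_smul (Localization.AtPrime p),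
        map_smul, hgf']
    rw [h1, h2]
    simp only [Pi.smul_apply, Pi.single_apply]
    split_ifs with h
    · rw [Submonoid.smul_def, Algebra.smul_def, smul_eq_mul, mul_one, map_mul]
    · simp
  refine ⟨fun i => (ms i).1, φ, fun hdet => ?_⟩
  have hmap : (algebraMap A (Localization.AtPrime p)).mapMatrix
      (Matrix.of fun i l => φ l (ms i).1) =
      Matrix.diagonal (fun i => algebraMap A (Localization.AtPrime p)
        ((τ i : A) * ((ms i).2 : A))) := by
    ext i l
    simp only [RingHom.mapMatrix_apply, Matrix.map_apply, Matrix.of_apply, key l i,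
      Matrix.diagonal_apply]
    by_cases h : l = i
    · subst h; simp
    · rw [if_neg h, if_neg (Ne.symm h)]
  have hdet' : algebraMap A (Localization.AtPrime p) (Matrix.of fun i l => φ l (ms i).1).det =
      algebraMap A (Localization.AtPrime p) (∏ i, ((τ i : A) * ((ms i).2 : A))) := by
    rw [RingHom.map_det, hmap, Matrix.det_diagonal, map_prod]
  have hunit : IsUnit (algebraMap A (Localization.AtPrime p)
      (∏ i, ((τ i : A) * ((ms i).2 : A)))) := by
    rw [IsLocalization.AtPrime.isUnit_to_map_iff (Localization.AtPrime p) p]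
    exact Submonoid.prod_mem _ fun i _ => Submonoid.mul_mem _ (τ i).2 (ms i).2.2
  rw [← hdet', IsLocalization.AtPrime.isUnit_to_map_iff (Localization.AtPrime p) p] at hunit
  exact hunit hdet

/-- a minor not in `p` bounds the rank from below -/
lemma le_rk_of_det_notMem {A : Type u} [CommRing A] {J : Type*} (p : PrimeSpectrum A)
    (S : Set (J → A)) (hS : S.Finite) {d : ℕ} (s : Fin d → J → A) (c : Fin d → J)
    (hs : ∀ i, s i ∈ S) (hdet : (Matrix.of fun i l => s i (c l)).det ∉ p.asIdeal) :
    d ≤ BasicElt6.rk (κ p) S := by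
  by_contra hlt
  rw [not_le, BasicElt6.rk_lt_iff_κ p S hS d] at hlt
  exact hdet (hlt (Ideal.subset_span ⟨s, c, hs, rfl⟩))

/-- if `M_p` is free of rank `r` then the evaluation vectors of generators have rank `≥ r` at `p` -/
lemma le_rk_of_free {A : Type u} [CommRing A] (M : Type u) [AddCommGroup M] [Module A M]
    [Module.FinitePresentation A M] (p : PrimeSpectrum A) (r : ℕ)
    (e : LocalizedModule p.asIdeal.primeCompl M ≃ₗ[Localization.AtPrime p.asIdeal]
      (Fin r → Localization.AtPrime p.asIdeal))
    {T : ℕ} (g : Fin T → M) (hg : Submodule.span A (Set.range g) = ⊤) :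
    r ≤ BasicElt6.rk (κ p) (Set.range fun j => ev A M (g j)) := by
  obtain ⟨m, φ, hdet⟩ := exists_frame M p.asIdeal r e.symm.toLinearMap e.toLinearMap
    (by ext y; simp)
  have h1 : r ≤ BasicElt6.rk (κ p) (Set.range fun i => ev A M (m i)) :=
    le_rk_of_det_notMem p _ (Set.finite_range _) (fun i => ev A M (m i)) φ
      (fun i => ⟨i, rfl⟩) hdet
  refine h1.trans (rk_le_of_subset_span _ (Set.finite_range _) ?_)
  rintro _ ⟨i, rfl⟩
  have : m i ∈ Submodule.span A (Set.range g) := by rw [hg]; trivial
  have h2 := Submodule.apply_mem_span_image_of_mem_span (ev A M) this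
  rwa [← Set.range_comp] at h2


lemma le_rk_range_iff {R : Type*} [CommRing R] (K : Type*) [Field K] [Algebra R K] {J : Type*}
    {h : ℕ} (f : Fin h → J → R) :
    h ≤ BasicElt6.rk K (Set.range f) ↔ LinearIndependent K (fun i => red K (f i)) := by
  have hrange : red K '' (Set.range f) = Set.range (fun i => red K (f i)) := by
    rw [← Set.range_comp]; rfl
  have hle : BasicElt6.rk K (Set.range f) ≤ h := rk_range_le K f
  rw [linearIndependent_iff_card_eq_finrank_span, Fintype.card_fin, Set.finrank, ← hrange]
  constructor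
  · intro h1; exact le_antisymm h1 hle
  · intro h1; exact h1.le

set_option maxHeartbeats 800000 in
/-- Eisenbud–Evans: a family of `j` elements that is part of a basis at all primes of height `≤ k`,
when `M` has rank `≥ j + k` at those primes. -/
theorem exists_family (A : Type u) [CommRing A] [IsNoetherianRing A] (M : Type u)
    [AddCommGroup M] [Module A M] (k r : ℕ)
    (T : ℕ) (g : Fin T → M) (hg : Submodule.span A (Set.range g) = ⊤)
    (hrank : ∀ p : PrimeSpectrum A, p.asIdeal.height ≤ k →
      r ≤ BasicElt6.rk (κ p) (Set.range fun j => ev A M (g j))) :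
    ∀ j, j + k ≤ r → ∃ x : Fin j → M, ∀ p : PrimeSpectrum A, p.asIdeal.height ≤ k →
      j ≤ BasicElt6.rk (κ p) (Set.range fun i => ev A M (x i)) := by
  classical
  intro j
  induction j with
  | zero => intro _; exact ⟨Fin.elim0, fun p _ => Nat.zero_le _⟩
  | succ j ih =>
    intro hj
    obtain ⟨x, hx⟩ := ih (by omega)
    obtain ⟨U, hU⟩ : ∃ U : Set ((M →ₗ[A] A) → A), U = Set.range fun i => ev A M (x i) :=
      ⟨_, rfl⟩
    have hUfin : U.Finite := hU ▸ Set.finite_range _
    obtain ⟨uu, huu⟩ : ∃ uu : Fin T → ((M →ₗ[A] A) → A), uu = fun j => ev A M (g j) := ⟨_, rfl⟩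
    let X : Set (PrimeSpectrum A) := {p | p.asIdeal.height ≤ (k : ℕ∞)}
    let δ : PrimeSpectrum A → ℕ := fun p => k - p.asIdeal.height.toNat
    have f1 : ∀ p ∈ X, BasicElt6.rk (κ p) U = j := by
      intro p hp
      have h1 := hx p hp
      rw [← hU] at h1
      have h3 : BasicElt6.rk (κ p) U ≤ j := by rw [hU]; exact rk_range_le _ _
      omega
    have f3 : ∀ p ∈ X, ∀ S : Set ((M →ₗ[A] A) → A), S.Finite →
        BasicElt6b.rk (κ p) (ρq (κ p) U) S + j = BasicElt6.rk (κ p) (U ∪ S) := by
      intro p hp S hS
      rw [← f1 p hp]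
      exact rk_rel (κ p) U hUfin S hS
    have hδ : ∀ p ∈ X, ∀ q ∈ X, p < q → δ q < δ p := by
      intro p hp q hq hpq
      have hlt : p.asIdeal.height < q.asIdeal.height :=
        Ideal.height_strict_mono_of_isPrime hpq
      have hp' : p.asIdeal.height ≤ (k : ℕ∞) := hp
      have hq' : q.asIdeal.height ≤ (k : ℕ∞) := hq
      obtain ⟨a, ha⟩ := ENat.ne_top_iff_exists.mp
        (lt_of_le_of_lt hp' (ENat.natCast_lt_top k)).ne
      obtain ⟨b, hb⟩ := ENat.ne_top_iff_exists.mp
        (lt_of_le_of_lt hq' (ENat.natCast_lt_top k)).ne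
      simp only [δ]
      rw [← ha, ← hb] at hlt
      rw [← hb] at hq'
      rw [← ha, ← hb, ENat.toNat_natCast, ENat.toNat_natCast]
      have h1 : a < b := by exact_mod_cast hlt
      have h2 : b ≤ k := by exact_mod_cast hq'
      omega
    have hcl : ∀ (S : Set ((M →ₗ[A] A) → A)), S.Finite → ∀ m : ℕ,
        ∃ F₀ : Finset (PrimeSpectrum A),
        (∀ q ∈ F₀, q ∈ X ∧ BasicElt6b.rk (κ q) (ρq (κ q) U) S < m) ∧
          ∀ p ∈ X, BasicElt6b.rk (κ p) (ρq (κ p) U) S < m → ∃ q ∈ F₀, q ≤ p := by
      intro S hS m
      obtain ⟨I, hI⟩ : ∃ I : Ideal A, I = BasicElt6.minorsIdeal (U ∪ S) (m + j) := ⟨_, rfl⟩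
      have hfin : {q : PrimeSpectrum A | q.asIdeal ∈ I.minimalPrimes}.Finite := by
        have h1 := I.finite_minimalPrimes_of_isNoetherianRing
        refine Set.Finite.of_finite_image (f := PrimeSpectrum.asIdeal) (h1.subset ?_) ?_
        · rintro _ ⟨q, hq, rfl⟩; exact hq
        · intro a _ b _ hab; exact PrimeSpectrum.ext hab
      refine ⟨hfin.toFinset.filter (fun q => q ∈ X), ?_, ?_⟩
      · intro q hq
        obtain ⟨hqF, hqX⟩ := Finset.mem_filter.mp hq
        rw [Set.Finite.mem_toFinset] at hqF
        refine ⟨hqX, ?_⟩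
        have hle : I ≤ q.asIdeal := hqF.1.2
        rw [hI] at hle
        have h1 := (BasicElt6.rk_lt_iff_κ q (U ∪ S) (hUfin.union hS) (m + j)).mpr hle
        have h2 := f3 q hqX S hS
        omega
      · intro p hpX hp
        have h2 := f3 p hpX S hS
        have h1 : BasicElt6.rk (κ p) (U ∪ S) < m + j := by omega
        have hle := (BasicElt6.rk_lt_iff_κ p (U ∪ S) (hUfin.union hS) (m + j)).mp h1
        rw [← hI] at hle
        obtain ⟨q, hq, hqp⟩ := Ideal.exists_minimalPrimes_le hle
        have hqprime : q.IsPrime := hq.1.1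
        refine ⟨⟨q, hqprime⟩, Finset.mem_filter.mpr ⟨?_, ?_⟩, hqp⟩
        · rw [Set.Finite.mem_toFinset]; exact hq
        · exact le_trans (Ideal.height_mono hqp) hpX
    have H1 : ∀ p ∈ X, min (T + 1) (δ p + 1) ≤
        BasicElt6b.rk (κ p) (ρq (κ p) U) (insert (ev A M 0) (Set.range uu)) := by
      intro p hpX
      have h2 := f3 p hpX (insert (ev A M 0) (Set.range uu)) ((Set.finite_range _).insert _)
      have h3 : BasicElt6.rk (κ p) (Set.range uu) ≤
          BasicElt6.rk (κ p) (U ∪ insert (ev A M 0) (Set.range uu)) :=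
        BasicElt6.rk_mono (κ p) (hUfin.union ((Set.finite_range _).insert _))
          (fun y hy => Or.inr (Set.mem_insert_of_mem _ hy))
      have h4 := hrank p hpX
      rw [← huu] at h4
      have h6 : δ p ≤ k := Nat.sub_le _ _
      have : min (T + 1) (δ p + 1) ≤ δ p + 1 := min_le_right _ _
      omega
    have H2 : ∀ p ∈ X, (⊤ : Ideal A) ≤ p.asIdeal → ρq (κ p) U (ev A M 0) ≠ 0 := by
      intro p _ hle
      exact absurd (top_le_iff.mp hle) p.isPrime.ne_top
    obtain ⟨w, hw, hwne⟩ := BasicElt6b.core
      (W := fun p => ((M →ₗ[A] A) → κ p) ⧸ BasicElt6.spanK (κ p) U)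
      (fun p => ρq (κ p) U) X δ hδ hcl ⊤ T (ev A M 0) uu H1 H2
    have hspan : Submodule.span A (Set.range uu) = Submodule.map (ev A M) ⊤ := by
      rw [← hg, Submodule.map_span, ← Set.range_comp, huu]
      rfl
    rw [hspan, ← Submodule.map_smul''] at hw
    obtain ⟨y, -, rfl⟩ := hw
    refine ⟨Fin.snoc x y, fun p hp => ?_⟩
    have hrange : (Set.range fun i => ev A M ((Fin.snoc x y : Fin (j + 1) → M) i)) =
        U ∪ {ev A M y} := by
      have : (fun i => ev A M ((Fin.snoc x y : Fin (j + 1) → M) i)) =
          (Fin.snoc (fun i => ev A M (x i)) (ev A M y) : Fin (j + 1) → _) := by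
        funext i
        induction i using Fin.lastCases with
        | last => simp
        | cast i => simp
      rw [this, range_snoc_eq, hU]
    rw [hrange]
    have h1 := hwne p hp
    rw [map_zero, zero_add] at h1
    have h2 := f3 p hp {ev A M y} (Set.finite_singleton _)
    have h3 : BasicElt6b.rk (κ p) (ρq (κ p) U) {ev A M y} = 1 := by
      rw [BasicElt6b.rk, BasicElt6b.spanK, Set.image_singleton]
      exact finrank_span_singleton h1
    omega


/-- over a local ring: the cokernel of a split injection `R^j → P ≅ R^r` is free of rank `r - j`. -/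
lemma quotient_free_of_retraction {R : Type*} [CommRing R] [IsLocalRing R] {P : Type*}
    [AddCommGroup P] [Module R P] (r j k : ℕ) (hjk : j + k = r) (e : P ≃ₗ[R] (Fin r → R))
    (f : (Fin j → R) →ₗ[R] P) (g : P →ₗ[R] (Fin j → R)) (hgf : g ∘ₗ f = LinearMap.id) :
    Nonempty ((P ⧸ LinearMap.range f) ≃ₗ[R] (Fin k → R)) := by
  have hgf' : ∀ v, g (f v) = v := fun v => LinearMap.congr_fun hgf v
  have hinj : Function.Injective f := Function.LeftInverse.injective hgf'
  have hc : IsCompl (LinearMap.range f) (LinearMap.ker g) := by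
    constructor
    · rw [Submodule.disjoint_def]
      rintro _ ⟨v, rfl⟩ hv
      rw [LinearMap.mem_ker, hgf'] at hv
      rw [hv, map_zero]
    · rw [codisjoint_iff, eq_top_iff]
      intro m _
      have : m = f (g m) + (m - f (g m)) := by abel
      rw [this]
      refine Submodule.add_mem_sup ⟨_, rfl⟩ ?_
      rw [LinearMap.mem_ker, map_sub, hgf', sub_self]
  have hfreeP : Module.Free R P := Module.Free.of_equiv e.symm
  have hfinP : Module.Finite R P := Module.Finite.equiv e.symm
  let K := LinearMap.ker g
  have hprojK : Module.Projective R K :=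
    Module.Projective.of_split K.subtype (K.projectionOnto (LinearMap.range f) hc.symm)
      (by ext y; simp [Submodule.projectionOnto_apply_left])
  have hfinK : Module.Finite R K :=
    Module.Finite.of_surjective (K.projectionOnto (LinearMap.range f) hc.symm)
      (Submodule.projectionOnto_surjective hc.symm)
  have hfreeK : Module.Free R K := Module.free_of_flat_of_isLocalRing
  let e1 : (Fin j → R) ≃ₗ[R] LinearMap.range f := LinearEquiv.ofInjective f hinj
  let e2 : ((Fin j → R) × K) ≃ₗ[R] (Fin r → R) :=
    ((e1.prodCongr (LinearEquiv.refl R K)).trans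
      (Submodule.prodEquivOfIsCompl _ _ hc)).trans e
  have hrank : j + finrank R K = r := by
    have := e2.finrank_eq
    rw [Module.finrank_prod, Module.finrank_fin_fun, Module.finrank_fin_fun] at this
    exact this
  have hK : finrank R K = k := by omega
  exact ⟨(Submodule.quotientEquivOfIsCompl _ _ hc).trans
    (Module.finBasisOfFinrankEq R K hK).equivFun⟩


section Loc
variable {A : Type u} [CommRing A] {M : Type u} [AddCommGroup M] [Module A M]

/-- the localized family map `A_p^j → M_p` -/
noncomputable def locFam (p : Ideal A) [p.IsPrime] {j : ℕ} (x : Fin j → M) :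
    (Fin j → Localization.AtPrime p) →ₗ[Localization.AtPrime p]
      LocalizedModule p.primeCompl M :=
  Fintype.linearCombination (Localization.AtPrime p)
    (fun i => LocalizedModule.mkLinearMap p.primeCompl M (x i))

lemma locFam_apply (p : Ideal A) [p.IsPrime] {j : ℕ} (x : Fin j → M)
    (v : Fin j → Localization.AtPrime p) :
    locFam p x v = ∑ i, v i • LocalizedModule.mkLinearMap p.primeCompl M (x i) := by
  rw [locFam, Fintype.linearCombination_apply]

lemma locFam_algebraMap (p : Ideal A) [p.IsPrime] {j : ℕ} (x : Fin j → M) (v : Fin j → A) :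
    locFam p x (fun i => algebraMap A (Localization.AtPrime p) (v i)) =
      LocalizedModule.mkLinearMap p.primeCompl M (Fintype.linearCombination A x v) := by
  rw [locFam_apply, Fintype.linearCombination_apply, map_sum]
  refine Finset.sum_congr rfl fun i _ => ?_
  rw [algebraMap_smul, map_smul]

lemma range_locFam (p : Ideal A) [p.IsPrime] {j : ℕ} (x : Fin j → M) :
    LinearMap.range (locFam p x) =
      (Submodule.span A (Set.range x)).localized p.primeCompl := by
  rw [locFam, Fintype.range_linearCombination, Submodule.localized, Submodule.localized'_span,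
    ← Set.range_comp]
  rfl

lemma exists_retraction (p : Ideal A) [p.IsPrime] {j : ℕ} (x : Fin j → M)
    (c : Fin j → (M →ₗ[A] A)) (hdet : (Matrix.of fun i l => c l (x i)).det ∉ p) :
    ∃ g : LocalizedModule p.primeCompl M →ₗ[Localization.AtPrime p]
      (Fin j → Localization.AtPrime p), g ∘ₗ locFam p x = LinearMap.id := by
  classical
  let c' : Fin j → (LocalizedModule p.primeCompl M →ₗ[Localization.AtPrime p]
      Localization.AtPrime p) := fun l =>
    IsLocalizedModule.mapExtendScalars p.primeCompl (LocalizedModule.mkLinearMap p.primeCompl M)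
      (Algebra.linearMap A (Localization.AtPrime p)) (Localization.AtPrime p) (c l)
  have hc' : ∀ l m, c' l (LocalizedModule.mkLinearMap p.primeCompl M m) =
      algebraMap A (Localization.AtPrime p) (c l m) := by
    intro l m
    simp only [c', IsLocalizedModule.mapExtendScalars_apply_apply, IsLocalizedModule.map_apply,
      Algebra.linearMap_apply]
  let a : Matrix (Fin j) (Fin j) (Localization.AtPrime p) :=
    (algebraMap A (Localization.AtPrime p)).mapMatrix (Matrix.of fun i l => c l (x i))
  have ha : IsUnit a.det := by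
    have : a.det = algebraMap A (Localization.AtPrime p) (Matrix.of fun i l => c l (x i)).det := by
      rw [RingHom.map_det]
    rw [this, IsLocalization.AtPrime.isUnit_to_map_iff (Localization.AtPrime p) p]
    exact hdet
  refine ⟨(a⁻¹).vecMulLinear ∘ₗ LinearMap.pi c', ?_⟩
  refine LinearMap.ext fun v => ?_
  have h1 : LinearMap.pi c' (locFam p x v) = Matrix.vecMul v a := by
    funext l
    rw [LinearMap.pi_apply, locFam_apply, map_sum]
    simp only [map_smul, hc', smul_eq_mul, Matrix.vecMul, dotProduct, a, RingHom.mapMatrix_apply,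
      Matrix.map_apply, Matrix.of_apply]
  rw [LinearMap.comp_apply, LinearMap.comp_apply, h1, Matrix.vecMulLinear_apply,
    Matrix.vecMul_vecMul, Matrix.mul_nonsing_inv a ha, Matrix.vecMul_one, LinearMap.id_apply]

end Loc


/-- a family of rank `j` at `p` admits linear forms with a minor outside `p` -/
lemma exists_forms_of_le_rk {A : Type u} [CommRing A] {M : Type u} [AddCommGroup M] [Module A M]
    (p : PrimeSpectrum A) {j : ℕ} (x : Fin j → M)
    (h : j ≤ BasicElt6.rk (κ p) (Set.range fun i => ev A M (x i))) :
    ∃ c : Fin j → (M →ₗ[A] A), (Matrix.of fun i l => c l (x i)).det ∉ p.asIdeal := by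
  rw [le_rk_range_iff] at h
  obtain ⟨c, hc⟩ := BasicElt6.exists_det_ne_zero_of_linearIndependent _ h
  refine ⟨c, fun hmem => hc ?_⟩
  have : (Matrix.of fun i l => red (κ p) (ev A M (x i)) (c l)) =
      (algebraMap A (κ p)).mapMatrix (Matrix.of fun i l => c l (x i)) := by
    ext i l
    simp
  rw [this, ← RingHom.map_det]
  exact algebraMap_κ_eq_zero.mpr hmem

theorem main (A : Type u) [CommRing A] [IsNoetherianRing A]
    (M : Type u) [AddCommGroup M] [Module A M] [Module.Finite A M] (k r : ℕ) (hkr : k ≤ r)
    (hAss : ∀ p ∈ associatedPrimes A A, p.height ≤ k)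
    (hM : ∀ p : PrimeSpectrum A, p.asIdeal.height ≤ k →
      Nonempty (LocalizedModule p.asIdeal.primeCompl M ≃ₗ[Localization.AtPrime p.asIdeal]
        (Fin r → Localization.AtPrime p.asIdeal))) :
    ∃ N : Submodule A M, Nonempty (N ≃ₗ[A] (Fin (r - k) → A)) ∧
      ∀ p : PrimeSpectrum A, p.asIdeal.height ≤ k →
        Nonempty (LocalizedModule p.asIdeal.primeCompl (M ⧸ N) ≃ₗ[Localization.AtPrime p.asIdeal]
          (Fin k → Localization.AtPrime p.asIdeal)) := by
  classical
  have hfp : Module.FinitePresentation A M := Module.finitePresentation_of_finite A M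
  obtain ⟨T, g, hg⟩ := Module.Finite.exists_fin (R := A) (M := M)
  have hrank : ∀ p : PrimeSpectrum A, p.asIdeal.height ≤ k →
      r ≤ BasicElt6.rk (κ p) (Set.range fun j => ev A M (g j)) := by
    intro p hp
    obtain ⟨e⟩ := hM p hp
    exact le_rk_of_free M p r e g hg
  obtain ⟨x, hx⟩ := exists_family A M k r T g hg hrank (r - k) (by omega)
  -- local retractions
  have hret : ∀ p : PrimeSpectrum A, p.asIdeal.height ≤ k →
      ∃ gp : LocalizedModule p.asIdeal.primeCompl M →ₗ[Localization.AtPrime p.asIdeal]
        (Fin (r - k) → Localization.AtPrime p.asIdeal),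
        gp ∘ₗ locFam p.asIdeal x = LinearMap.id := by
    intro p hp
    obtain ⟨c, hc⟩ := exists_forms_of_le_rk p x (hx p hp)
    exact exists_retraction p.asIdeal x c hc
  -- injectivity
  have hinj : Function.Injective (Fintype.linearCombination A x) := by
    rw [← LinearMap.ker_eq_bot, LinearMap.ker_eq_bot']
    intro v hv
    by_contra hne
    obtain ⟨i, hi⟩ : ∃ i, v i ≠ 0 := by
      by_contra hcon
      push Not at hcon
      exact hne (funext hcon)
    obtain ⟨P, hP, hle⟩ := exists_le_isAssociatedPrime_of_isNoetherianRing A (v i) hi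
    have hPprime : P.IsPrime := hP.isPrime
    have hPht : P.height ≤ k := hAss P hP
    obtain ⟨gp, hgp⟩ := hret ⟨P, hPprime⟩ hPht
    have h1 := locFam_algebraMap P x v
    rw [hv, map_zero] at h1
    have h2 := LinearMap.congr_fun hgp (fun i => algebraMap A (Localization.AtPrime P) (v i))
    rw [LinearMap.comp_apply, h1, map_zero, LinearMap.id_apply] at h2
    have h3 : algebraMap A (Localization.AtPrime P) (v i) = 0 := (congrFun h2 i).symm
    rw [IsLocalization.map_eq_zero_iff P.primeCompl] at h3
    obtain ⟨s, hs⟩ := h3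
    have hs' : (s : A) ∈ (⊥ : Submodule A A).colon {v i} := by
      rw [Submodule.mem_colon_singleton]
      simpa using hs
    exact s.2 (hle hs')
  refine ⟨Submodule.span A (Set.range x), ⟨?_⟩, fun p hp => ?_⟩
  · exact ((LinearEquiv.ofInjective _ hinj).trans
      (LinearEquiv.ofEq _ _ (Fintype.range_linearCombination A x))).symm
  · obtain ⟨gp, hgp⟩ := hret p hp
    obtain ⟨e⟩ := hM p hp
    obtain ⟨e'⟩ := quotient_free_of_retraction r (r - k) k (by omega) e
      (locFam p.asIdeal x) gp hgp
    exact ⟨((localizedQuotientEquiv p.asIdeal.primeCompl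
      (Submodule.span A (Set.range x))).symm.trans
      (Submodule.quotEquivOfEq _ _ (range_locFam p.asIdeal x).symm)).trans e'⟩

end Groth.Agent.Lib.HeightBasic6
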