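import Mathlib
import Groth.Prelude.Def_Found
import Groth.Prelude.Def_EGA4b
import Groth.Agent.Lib.CplNormalLocal51
import Groth.Agent.Lib.H30NormalHom
import Groth.Agent.Lib.GeomNormalFibres98
import Groth.Agent.Lib.FormalFibreNagata98
import Groth.Agent.Lib.H87Japanese
import Groth.Agent.Lib.H87FieldN2
import Groth.Agent.Lib.HenselIntegralLocal

/-!
EGA IV 18.9.x (S5056): for a Noetherian henselian local domain `A` with geometrically normal formal
fibres and `Â` a domain, `Frac Â` is separable over `Frac A` and `Frac A` is algebraically closed in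
`Frac Â`.
-/

set_option autoImplicit false
set_option maxHeartbeats 400000
universe u

namespace Groth.Agent.Lib.HenselAlgClosed98

open IsLocalRing TensorProduct Groth.Agent.Lib

section Part1

variable (A : Type u) [CommRing A] [IsNoetherianRing A] [IsLocalRing A] [IsDomain A]
  (K L : Type u) [Field K] [Field L] [Algebra A K] [IsFractionRing A K]
  [Algebra (EGA4.Cpl A) L] [IsFractionRing (EGA4.Cpl A) L] [Algebra K L] [Algebra A L]
  [IsScalarTower A K L] [IsScalarTower A (EGA4.Cpl A) L]

/-- `Frac Â` is geometrically reduced over `Frac A` when the formal fibres are geometrically normal. -/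
theorem isGeometricallyReduced (h : EGA4.HasGeomNormalFormalFibres A) [IsDomain (EGA4.Cpl A)] :
    Algebra.IsGeometricallyReduced K L := by
  rw [Algebra.isGeometricallyReduced_field_iff]
  have hnh : EGA4.IsNormalHom A (EGA4.Cpl A) :=
    ⟨AdicCompletion.flat_of_isNoetherian _, fun p _ => h p⟩
  have hnorm : EGA4.IsNormalRing (AlgebraicClosure K ⊗[A] EGA4.Cpl A) :=
    H30NormalHom.isNormalRing_field_tensor_of_isNormalHom A (EGA4.Cpl A) hnh (AlgebraicClosure K)
  haveI hred : IsReduced (AlgebraicClosure K ⊗[A] EGA4.Cpl A) :=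
    GeomNormalFibres98.isReduced_of_isNormalRing _ hnorm
  haveI : Module.Flat A K := IsLocalization.flat K (nonZeroDivisors A)
  haveI : Module.Flat A (AlgebraicClosure K) := Module.Flat.trans A K (AlgebraicClosure K)
  -- the comparison map
  let ρ : AlgebraicClosure K ⊗[A] EGA4.Cpl A →ₐ[A] AlgebraicClosure K ⊗[A] L :=
    Algebra.TensorProduct.map (AlgHom.id A (AlgebraicClosure K))
      (IsScalarTower.toAlgHom A (EGA4.Cpl A) L)
  have hρinj : Function.Injective ρ := by
    have h1 : Function.Injective (LinearMap.lTensor (AlgebraicClosure K)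
        (IsScalarTower.toAlgHom A (EGA4.Cpl A) L).toLinearMap) :=
      Module.Flat.lTensor_preserves_injective_linearMap _
        (IsFractionRing.injective (EGA4.Cpl A) L)
    have h2 : ∀ x, ρ x = LinearMap.lTensor (AlgebraicClosure K)
        (IsScalarTower.toAlgHom A (EGA4.Cpl A) L).toLinearMap x := by
      intro x
      induction x using TensorProduct.induction_on with
      | zero => simp
      | tmul b c => simp [ρ]
      | add u v hu hv => simp only [map_add, hu, hv]
    intro x y hxy
    apply h1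
    rw [← h2, ← h2, hxy]
  -- clearing denominators
  have hden : ∀ z : AlgebraicClosure K ⊗[A] L, ∃ s : EGA4.Cpl A, s ≠ 0 ∧
      ∃ w : AlgebraicClosure K ⊗[A] EGA4.Cpl A,
        ((1 : AlgebraicClosure K) ⊗ₜ[A] (algebraMap (EGA4.Cpl A) L s)) * z = ρ w := by
    intro z
    induction z using TensorProduct.induction_on with
    | zero => exact ⟨1, one_ne_zero, 0, by simp⟩
    | tmul ω l =>
      obtain ⟨a, s, hs, rfl⟩ := IsFractionRing.div_surjective (A := EGA4.Cpl A) l
      have hs0 : s ≠ 0 := nonZeroDivisors.ne_zero hs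
      have hsL : algebraMap (EGA4.Cpl A) L s ≠ 0 :=
        (map_ne_zero_iff _ (IsFractionRing.injective (EGA4.Cpl A) L)).mpr hs0
      refine ⟨s, hs0, ω ⊗ₜ a, ?_⟩
      rw [Algebra.TensorProduct.tmul_mul_tmul, one_mul, mul_div_cancel₀ _ hsL]
      simp [ρ]
    | add z₁ z₂ h₁ h₂ =>
      obtain ⟨s₁, hs₁, w₁, hw₁⟩ := h₁
      obtain ⟨s₂, hs₂, w₂, hw₂⟩ := h₂
      refine ⟨s₁ * s₂, mul_ne_zero hs₁ hs₂,
        ((1 : AlgebraicClosure K) ⊗ₜ[A] s₂) * w₁ + ((1 : AlgebraicClosure K) ⊗ₜ[A] s₁) * w₂, ?_⟩
      have e1 : ((1 : AlgebraicClosure K) ⊗ₜ[A] (algebraMap (EGA4.Cpl A) L (s₁ * s₂))) =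
          ((1 : AlgebraicClosure K) ⊗ₜ[A] (algebraMap (EGA4.Cpl A) L s₁)) *
            ((1 : AlgebraicClosure K) ⊗ₜ[A] (algebraMap (EGA4.Cpl A) L s₂)) := by
        rw [Algebra.TensorProduct.tmul_mul_tmul, one_mul, map_mul]
      have e2 : ∀ s : EGA4.Cpl A, ρ ((1 : AlgebraicClosure K) ⊗ₜ[A] s) =
          (1 : AlgebraicClosure K) ⊗ₜ[A] (algebraMap (EGA4.Cpl A) L s) := by
        intro s; simp [ρ]
      calc ((1 : AlgebraicClosure K) ⊗ₜ[A] (algebraMap (EGA4.Cpl A) L (s₁ * s₂))) * (z₁ + z₂)
          = ((1 : AlgebraicClosure K) ⊗ₜ[A] (algebraMap (EGA4.Cpl A) L s₂)) *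
              (((1 : AlgebraicClosure K) ⊗ₜ[A] (algebraMap (EGA4.Cpl A) L s₁)) * z₁) +
            ((1 : AlgebraicClosure K) ⊗ₜ[A] (algebraMap (EGA4.Cpl A) L s₁)) *
              (((1 : AlgebraicClosure K) ⊗ₜ[A] (algebraMap (EGA4.Cpl A) L s₂)) * z₂) := by
            rw [e1]; ring
        _ = ((1 : AlgebraicClosure K) ⊗ₜ[A] (algebraMap (EGA4.Cpl A) L s₂)) * ρ w₁ +
            ((1 : AlgebraicClosure K) ⊗ₜ[A] (algebraMap (EGA4.Cpl A) L s₁)) * ρ w₂ := by
            rw [hw₁, hw₂]
        _ = ρ (((1 : AlgebraicClosure K) ⊗ₜ[A] s₂) * w₁ +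
              ((1 : AlgebraicClosure K) ⊗ₜ[A] s₁) * w₂) := by
            rw [map_add, map_mul, map_mul, e2, e2]
  haveI hredL : IsReduced (AlgebraicClosure K ⊗[A] L) := by
    refine ⟨fun z hz => ?_⟩
    obtain ⟨s, hs, w, hw⟩ := hden z
    have hsL : algebraMap (EGA4.Cpl A) L s ≠ 0 :=
      (map_ne_zero_iff _ (IsFractionRing.injective (EGA4.Cpl A) L)).mpr hs
    have hwnil : IsNilpotent w := by
      apply (IsNilpotent.map_iff hρinj).mp
      rw [← hw]
      exact (Commute.all _ _).isNilpotent_mul_left hz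
    have hw0 : w = 0 := hwnil.eq_zero
    rw [hw0, map_zero] at hw
    have h3 : ((1 : AlgebraicClosure K) ⊗ₜ[A] (algebraMap (EGA4.Cpl A) L s)⁻¹) *
        (((1 : AlgebraicClosure K) ⊗ₜ[A] (algebraMap (EGA4.Cpl A) L s)) * z) = z := by
      rw [← mul_assoc, Algebra.TensorProduct.tmul_mul_tmul, one_mul, inv_mul_cancel₀ hsL,
        ← Algebra.TensorProduct.one_def, one_mul]
    rw [← h3, hw, mul_zero]
  exact isReduced_of_injective
    (IsLocalization.algebraTensorEquiv (nonZeroDivisors A) K (AlgebraicClosure K) L)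
    (IsLocalization.algebraTensorEquiv (nonZeroDivisors A) K (AlgebraicClosure K) L).injective

end Part1

section Part2

variable (A : Type u) [CommRing A] [IsNoetherianRing A] [HenselianLocalRing A] [IsDomain A]
  (K L : Type u) [Field K] [Field L] [Algebra A K] [IsFractionRing A K]
  [Algebra (EGA4.Cpl A) L] [IsFractionRing (EGA4.Cpl A) L] [Algebra K L] [Algebra A L]
  [IsScalarTower A K L] [IsScalarTower A (EGA4.Cpl A) L]

/-- `Frac A` is algebraically closed in `Frac Â`. -/
theorem mem_range_of_isAlgebraic (h : EGA4.HasGeomNormalFormalFibres A) [IsDomain (EGA4.Cpl A)]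
    (x : L) (hx : IsAlgebraic K x) : x ∈ Set.range (algebraMap K L) := by
  classical
  by_contra hxK
  have hNag : CAlg.IsNagata A := FormalFibreNagata98.isNagata_of_geomReducedFormalFibres A
    (GeomNormalFibres98.hasGeomReduced_of_hasGeomNormal A h)
  have hN2 : CAlg.IsN2 A :=
    H87FieldN2.isN2_of_ringEquiv (RingEquiv.quotientBot A) (hNag.2 (⊥ : Ideal A))
  have hinjAL : Function.Injective (algebraMap A L) := by
    rw [IsScalarTower.algebraMap_eq A K L]
    exact (algebraMap K L).injective.comp (IsFractionRing.injective A K)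
  haveI : FaithfulSMul A L := (faithfulSMul_iff_algebraMap_injective A L).mpr hinjAL
  haveI : Algebra.IsAlgebraic A K := IsLocalization.isAlgebraic K (nonZeroDivisors A)
  have hxA : IsAlgebraic A x := hx.restrictScalars A
  obtain ⟨a, ha0, hint⟩ := hxA.exists_integral_multiple
  -- the intermediate field
  let K' : IntermediateField K L := IntermediateField.adjoin K {x}
  haveI : IsScalarTower A K' L := IsScalarTower.of_algebraMap_eq (fun _ => rfl)
  haveI hfin : FiniteDimensional K K' := IntermediateField.adjoin.finiteDimensional hx.isIntegral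
  have hinjAK' : Function.Injective (algebraMap A K') := by
    intro u v huv
    apply hinjAL
    have := congrArg (algebraMap K' L) huv
    rwa [← IsScalarTower.algebraMap_apply, ← IsScalarTower.algebraMap_apply] at this
  haveI hA'fin : Module.Finite A (integralClosure A K') :=
    H87Japanese.finite_of_isN2 A hN2 K K' hfin
  haveI : IsIntegrallyClosed (integralClosure A K') :=
    integralClosure.isIntegrallyClosedOfFiniteExtension K
  haveI : Algebra.IsIntegral A (integralClosure A K') := Algebra.IsIntegral.of_finite A _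
  haveI : IsLocalRing (integralClosure A K') :=
    HenselIntegralLocal.isLocalRing_of_isDomain_of_isIntegral A (integralClosure A K')
  haveI : IsNoetherianRing (integralClosure A K') := IsNoetherianRing.of_finite A _
  have hinjAA' : Function.Injective (algebraMap A (integralClosure A K')) := by
    intro u v huv
    apply hinjAK'
    exact congrArg Subtype.val huv
  haveI : FaithfulSMul A (integralClosure A K') :=
    (faithfulSMul_iff_algebraMap_injective A _).mpr hinjAA'
  haveI hdom : IsDomain (integralClosure A K' ⊗[A] EGA4.Cpl A) :=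
    CplNormalLocal51.isDomain_tensor_cpl A (integralClosure A K') h
  -- the element x' = a • x
  have hxK' : x ∈ K' := IntermediateField.mem_adjoin_simple_self K x
  have hx'K' : a • x ∈ K' := by
    rw [Algebra.smul_def, IsScalarTower.algebraMap_apply A K L]
    exact K'.mul_mem (K'.algebraMap_mem _) hxK'
  let f : K' →ₐ[A] L := IsScalarTower.toAlgHom A K' L
  have hfinj : Function.Injective f := (algebraMap K' L).injective
  have hx'int : IsIntegral A (⟨a • x, hx'K'⟩ : K') := by
    rw [← isIntegral_algHom_iff f hfinj]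
    exact hint
  let X' : integralClosure A K' := ⟨⟨a • x, hx'K'⟩, hx'int⟩
  -- the multiplication map
  let μ : integralClosure A K' ⊗[A] EGA4.Cpl A →ₐ[A] L :=
    Algebra.TensorProduct.productMap (f.comp (integralClosure A K').val)
      (IsScalarTower.toAlgHom A (EGA4.Cpl A) L)
  have hμX : ∀ (c : integralClosure A K') (s : EGA4.Cpl A),
      μ (c ⊗ₜ s) = ((c : K') : L) * algebraMap (EGA4.Cpl A) L s := by
    intro c s
    show Algebra.TensorProduct.productMap (f.comp (integralClosure A K').val)
      (IsScalarTower.toAlgHom A (EGA4.Cpl A) L) (c ⊗ₜ s) = _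
    rw [Algebra.TensorProduct.productMap_apply_tmul]
    rfl
  have hμinj : Function.Injective μ := by
    letI algR : Algebra (EGA4.Cpl A) (integralClosure A K' ⊗[A] EGA4.Cpl A) :=
      Algebra.TensorProduct.rightAlgebra
    haveI : Algebra.IsIntegral (EGA4.Cpl A) (integralClosure A K' ⊗[A] EGA4.Cpl A) :=
      ⟨fun y => CplNormalLocal51.includeRight_isIntegral A (integralClosure A K') y⟩
    have hcomap : (RingHom.ker μ.toRingHom).comap
        (algebraMap (EGA4.Cpl A) (integralClosure A K' ⊗[A] EGA4.Cpl A)) = ⊥ := by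
      rw [eq_bot_iff]
      intro s hs
      rw [Ideal.mem_comap, RingHom.mem_ker] at hs
      have h1 : μ ((1 : integralClosure A K') ⊗ₜ[A] s) = 0 := hs
      rw [hμX] at h1
      simp only [OneMemClass.coe_one, one_mul] at h1
      exact (Ideal.mem_bot).mpr
        ((map_eq_zero_iff _ (IsFractionRing.injective (EGA4.Cpl A) L)).mp h1)
    have hker := Ideal.eq_bot_of_comap_eq_bot hcomap
    exact (RingHom.injective_iff_ker_eq_bot μ.toRingHom).mpr hker
  -- write x' as a fraction
  obtain ⟨n, s, hs, hfrac⟩ := IsFractionRing.div_surjective (A := EGA4.Cpl A) (a • x)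
  have hs0 : s ≠ 0 := nonZeroDivisors.ne_zero hs
  have hsL : algebraMap (EGA4.Cpl A) L s ≠ 0 :=
    (map_ne_zero_iff _ (IsFractionRing.injective (EGA4.Cpl A) L)).mpr hs0
  have hξ : X' ⊗ₜ[A] s - (1 : integralClosure A K') ⊗ₜ[A] n = 0 := by
    apply hμinj
    rw [map_sub, hμX, hμX, map_zero]
    show (a • x) * algebraMap (EGA4.Cpl A) L s - ((1 : K') : L) * algebraMap (EGA4.Cpl A) L n = 0
    rw [← hfrac, div_mul_cancel₀ _ hsL]
    simp
  -- linear independence of 1, x' over A
  let ι : A × A →ₗ[A] integralClosure A K' :=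
    LinearMap.coprod (LinearMap.toSpanSingleton A _ 1) (LinearMap.toSpanSingleton A _ X')
  have hι : ∀ u v : A, ((ι (u, v) : K') : L) = algebraMap A L u + algebraMap A L v * (a • x) := by
    intro u v
    show f ((integralClosure A K').val (ι (u, v))) = _
    simp only [ι, LinearMap.coprod_apply, LinearMap.toSpanSingleton_apply, map_add, map_smul,
      map_one]
    rw [Algebra.smul_def, Algebra.smul_def, mul_one]
    rfl
  have hιinj : Function.Injective ι := by
    rw [← LinearMap.ker_eq_bot, LinearMap.ker_eq_bot']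
    rintro ⟨u, v⟩ huv
    have h1 : algebraMap A L u + algebraMap A L v * (a • x) = 0 := by
      rw [← hι, huv]; simp
    have hv : v = 0 := by
      by_contra hv0
      apply hxK
      have hvL : algebraMap A L v ≠ 0 := (map_ne_zero_iff _ hinjAL).mpr hv0
      have haL : algebraMap A L a ≠ 0 := (map_ne_zero_iff _ hinjAL).mpr ha0
      refine ⟨-(algebraMap A K u) / (algebraMap A K v * algebraMap A K a), ?_⟩
      rw [map_div₀, map_neg, map_mul, ← IsScalarTower.algebraMap_apply,
        ← IsScalarTower.algebraMap_apply, ← IsScalarTower.algebraMap_apply]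
      rw [Algebra.smul_def] at h1
      field_simp
      linear_combination -h1
    subst hv
    have hu : u = 0 := by
      apply hinjAL
      simpa using h1
    subst hu
    rfl
  haveI : Module.Flat A (EGA4.Cpl A) := AdicCompletion.flat_of_isNoetherian _
  have hιT : Function.Injective (LinearMap.rTensor (EGA4.Cpl A) ι) :=
    Module.Flat.rTensor_preserves_injective_linearMap ι hιinj
  have ht : ((0, 1) : A × A) ⊗ₜ[A] s - ((1, 0) : A × A) ⊗ₜ[A] n = 0 := by
    apply hιT
    rw [map_sub, LinearMap.rTensor_tmul, LinearMap.rTensor_tmul, map_zero]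
    have e1 : ι (0, 1) = X' := by simp [ι]
    have e2 : ι (1, 0) = 1 := by simp [ι]
    rw [e1, e2]
    exact hξ
  have h2 := congrArg (fun z => TensorProduct.lid A (EGA4.Cpl A)
    (LinearMap.rTensor (EGA4.Cpl A) (LinearMap.snd A A A) z)) ht
  simp at h2
  exact hs0 h2

end Part2

end Groth.Agent.Lib.HenselAlgClosed98
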