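import Mathlib

/-!
Generic lemmas for S3831: `Frac(B) ⊗_B D` is a domain when `D` is a domain and `B → D` injective;
re-bracketing of iterated tensor products.
-/

set_option autoImplicit false
universe u

namespace Groth.Agent.Lib.HenselFF96A

open TensorProduct

/-- If `B` is a domain with fraction field `K` and `D` is a `B`-algebra which is a domain with
`B → D` injective, then `K ⊗_B D` is a domain. -/
theorem isDomain_fraction_tensor (B K D : Type u) [CommRing B] [IsDomain B] [Field K] [Algebra B K]
    [IsFractionRing B K] [CommRing D] [IsDomain D] [Algebra B D]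
    (hinj : Function.Injective (algebraMap B D)) : IsDomain (K ⊗[B] D) := by
  let _ : Algebra D (K ⊗[B] D) := Algebra.TensorProduct.rightAlgebra
  have : IsLocalization (Algebra.algebraMapSubmonoid D (nonZeroDivisors B)) (K ⊗[B] D) :=
    IsLocalization.tensorRight K (nonZeroDivisors B)
  refine IsLocalization.isDomain_of_le_nonZeroDivisors (R := D) (K ⊗[B] D)
    (M := Algebra.algebraMapSubmonoid D (nonZeroDivisors B)) ?_
  rintro _ ⟨b, hb, rfl⟩
  have hb0 : b ≠ 0 := nonZeroDivisors.ne_zero hb
  exact mem_nonZeroDivisors_of_ne_zero ((map_ne_zero_iff _ hinj).mpr hb0)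

end Groth.Agent.Lib.HenselFF96A
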