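import Mathlib
import Groth.Prelude.Def_EGA4b
import Groth.Agent.Lib.HenselFF96A
import Groth.Agent.Lib.CplNormalLocal51
import Groth.Agent.Lib.QuotFormalFibres98
import Groth.Agent.Lib.FormalFibreNagata98
import Groth.Agent.Lib.GeomNormalFibres98
import Groth.Agent.Lib.H87Japanese
import Groth.Agent.Lib.H87FieldN2
import Groth.Agent.Lib.HenselIntegralLocal

/-!
EGA IV 18.9.x: formal fibres of a henselian Noetherian local ring with geometrically normal formal
fibres stay domains after finite extensions of the residue field of the prime.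
-/

set_option autoImplicit false
set_option linter.style.haveILetI false
universe u

namespace Groth.Agent.Lib.HenselFF96B

open TensorProduct IsLocalRing Groth.Agent.Lib

section domainCase

/-- The domain case: `K ⊗_A Â` is a domain for `K` finite over `Frac A`. -/
theorem isDomain_tensor_cpl_of_finite
    (A : Type u) [CommRing A] [HenselianLocalRing A] [IsNoetherianRing A] [IsDomain A]
    (k : Type u) [Field k] [Algebra A k] [IsFractionRing A k]
    (K : Type u) [Field K] [Algebra k K] [Algebra A K] [IsScalarTower A k K]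
    [FiniteDimensional k K] (hA : EGA4.HasGeomNormalFormalFibres A) :
    IsDomain (K ⊗[A] EGA4.Cpl A) := by
  have hNag : CAlg.IsNagata A := FormalFibreNagata98.isNagata_of_geomReducedFormalFibres A
    (GeomNormalFibres98.hasGeomReduced_of_hasGeomNormal A hA)
  have hN2 : CAlg.IsN2 A :=
    H87FieldN2.isN2_of_ringEquiv (RingEquiv.quotientBot A) (hNag.2 (⊥ : Ideal A))
  have hinjAK : Function.Injective (algebraMap A K) := by
    rw [IsScalarTower.algebraMap_eq A k K]
    exact (algebraMap k K).injective.comp (IsFractionRing.injective A k)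
  haveI : FaithfulSMul A K := (faithfulSMul_iff_algebraMap_injective A K).mpr hinjAK
  haveI hfin : Module.Finite A (integralClosure A K) :=
    H87Japanese.finite_of_isN2 A hN2 k K inferInstance
  haveI : IsIntegrallyClosed (integralClosure A K) :=
    integralClosure.isIntegrallyClosedOfFiniteExtension k
  haveI : Algebra.IsIntegral A (integralClosure A K) := Algebra.IsIntegral.of_finite A _
  haveI : IsLocalRing (integralClosure A K) :=
    HenselIntegralLocal.isLocalRing_of_isDomain_of_isIntegral A (integralClosure A K)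
  haveI : IsNoetherianRing (integralClosure A K) := IsNoetherianRing.of_finite A _
  have hinjAB : Function.Injective (algebraMap A (integralClosure A K)) := by
    intro u v huv
    apply hinjAK
    exact congrArg Subtype.val huv
  haveI : FaithfulSMul A (integralClosure A K) :=
    (faithfulSMul_iff_algebraMap_injective A _).mpr hinjAB
  haveI hdom : IsDomain (integralClosure A K ⊗[A] EGA4.Cpl A) :=
    CplNormalLocal51.isDomain_tensor_cpl A (integralClosure A K) hA
  haveI : IsFractionRing (integralClosure A K) K :=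
    integralClosure.isFractionRing_of_finite_extension k K
  haveI : Module.FaithfullyFlat A (EGA4.Cpl A) := by
    haveI : Module.Flat A (EGA4.Cpl A) := AdicCompletion.flat_of_isNoetherian _
    exact Module.FaithfullyFlat.of_flat_of_isLocalHom
  haveI : Module.FaithfullyFlat (integralClosure A K) (integralClosure A K ⊗[A] EGA4.Cpl A) :=
    inferInstance
  have hinjBD : Function.Injective
      (algebraMap (integralClosure A K) (integralClosure A K ⊗[A] EGA4.Cpl A)) :=
    FaithfulSMul.algebraMap_injective _ _
  haveI h1 : IsDomain (K ⊗[integralClosure A K] (integralClosure A K ⊗[A] EGA4.Cpl A)) :=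
    HenselFF96A.isDomain_fraction_tensor (integralClosure A K) K _ hinjBD
  exact (Algebra.TensorProduct.cancelBaseChange A (integralClosure A K) (integralClosure A K) K
    (EGA4.Cpl A)).symm.toRingEquiv.toMulEquiv.isDomain _

end domainCase

section general

/-- The general case for finite extensions: reduce to `A ⧸ p`. -/
theorem isDomain_of_finite (A : Type u) [CommRing A] [HenselianLocalRing A] [IsNoetherianRing A]
    (hA : EGA4.HasGeomNormalFormalFibres A) (p : Ideal A) [p.IsPrime]
    (K : Type u) [Field K] [Algebra p.ResidueField K] [Module.Finite p.ResidueField K] :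
    IsDomain (K ⊗[p.ResidueField] EGA4.formalFibre A p) := by
  haveI : Nontrivial (A ⧸ p) := Ideal.Quotient.nontrivial_iff.mpr ‹p.IsPrime›.ne_top
  haveI : Algebra.IsIntegral A (A ⧸ p) :=
    Algebra.isIntegral_of_surjective Ideal.Quotient.mk_surjective
  haveI : HenselianLocalRing (A ⧸ p) :=
    HenselIntegralLocal.henselianLocalRing_of_isIntegral A (A ⧸ p)
  have hA0 : EGA4.HasGeomNormalFormalFibres (A ⧸ p) :=
    QuotFormalFibres98.hasGeomNormalFormalFibres_quotient A p hA
  letI algA0K : Algebra (A ⧸ p) K :=
    ((algebraMap p.ResidueField K).comp (algebraMap (A ⧸ p) p.ResidueField)).toAlgebra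
  haveI : IsScalarTower (A ⧸ p) p.ResidueField K := IsScalarTower.of_algebraMap_eq (fun _ => rfl)
  letI algAK : Algebra A K :=
    ((algebraMap p.ResidueField K).comp (algebraMap A p.ResidueField)).toAlgebra
  haveI : IsScalarTower A p.ResidueField K := IsScalarTower.of_algebraMap_eq (fun _ => rfl)
  haveI : IsScalarTower A (A ⧸ p) K := IsScalarTower.of_algebraMap_eq (fun x => by
    show algebraMap p.ResidueField K (algebraMap A p.ResidueField x) =
      algebraMap p.ResidueField K (algebraMap (A ⧸ p) p.ResidueField (algebraMap A (A ⧸ p) x))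
    rw [← IsScalarTower.algebraMap_apply A (A ⧸ p) p.ResidueField])
  haveI h1 : IsDomain (K ⊗[A ⧸ p] EGA4.Cpl (A ⧸ p)) :=
    isDomain_tensor_cpl_of_finite (A ⧸ p) p.ResidueField K hA0
  obtain ⟨alg, tower, hpush⟩ := QuotFormalFibres98.exists_pushout A p
  let e : (A ⧸ p) ⊗[A] EGA4.Cpl A ≃ₐ[A ⧸ p] EGA4.Cpl (A ⧸ p) :=
    Algebra.IsPushout.equiv A (A ⧸ p) (EGA4.Cpl A) (EGA4.Cpl (A ⧸ p))
  -- chain of isomorphisms
  let e1 : K ⊗[p.ResidueField] EGA4.formalFibre A p ≃ₐ[p.ResidueField] K ⊗[A] EGA4.Cpl A :=
    Algebra.TensorProduct.cancelBaseChange A p.ResidueField p.ResidueField K (EGA4.Cpl A)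
  let e2 : K ⊗[A ⧸ p] ((A ⧸ p) ⊗[A] EGA4.Cpl A) ≃ₐ[A ⧸ p] K ⊗[A] EGA4.Cpl A :=
    Algebra.TensorProduct.cancelBaseChange A (A ⧸ p) (A ⧸ p) K (EGA4.Cpl A)
  let e3 : K ⊗[A ⧸ p] ((A ⧸ p) ⊗[A] EGA4.Cpl A) ≃ₐ[A ⧸ p] K ⊗[A ⧸ p] EGA4.Cpl (A ⧸ p) :=
    Algebra.TensorProduct.congr AlgEquiv.refl e
  exact (e1.toRingEquiv.trans (e2.symm.toRingEquiv.trans e3.toRingEquiv)).toMulEquiv.isDomain _

end general

end Groth.Agent.Lib.HenselFF96B
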