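import Groth.Agent.Lib.FinEtaleGalois61
import Groth.Agent.Lib.DiagFlat
import Mathlib

/-!
# Galois correspondence for finite etale local algebras over a henselian local domain (helper61)

Let `A` be a henselian local domain, `E'` a finite etale local `A`-algebra which is a domain and
whose residue field is Galois over that of `A`. Then every intermediate field `L` of
`Frac(E') / Frac(A)` is the fraction field of a finite etale local `A`-subalgebra of `E'`.
-/

set_option autoImplicit false
universe u

namespace Groth.Agent.Lib.HenselGalois61

open IsLocalRing Groth.Agent.Lib.FinEtaleGalois61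

section flat

/-- A map of `A`-algebras from an etale local algebra `E` to a flat local `A`-algebra `S` which is
local is faithfully flat. -/
theorem faithfullyFlat_of_etale {A E S : Type*} [CommRing A] [CommRing E] [CommRing S]
    [Algebra A E] [Algebra A S] [Algebra E S] [IsScalarTower A E S] [Algebra.Etale A E]
    [Module.Flat A S] [IsLocalRing E] [IsLocalRing S] [IsLocalHom (algebraMap E S)] :
    Module.FaithfullyFlat E S := by
  have hflat : Module.Flat E S :=
    Groth.Agent.Lib.DiagFlat.flat_of_flat_lmul' (Algebra.WeaklyEtale.flat_lmul' A E) S
  exact Module.FaithfullyFlat.of_flat_of_isLocalHom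

end flat

section galois

variable (A : Type u) [CommRing A] [HenselianLocalRing A] [IsDomain A]
variable (E' : Type u) [CommRing E'] [IsLocalRing E'] [IsDomain E'] [Algebra A E']
  [IsLocalHom (algebraMap A E')] [Module.Finite A E'] [Algebra.Etale A E']
variable (K K' : Type*) [Field K] [Field K'] [Algebra A K] [IsFractionRing A K]
  [Algebra E' K'] [IsFractionRing E' K'] [Algebra K K'] [Algebra A K'] [IsScalarTower A K K']
  [IsScalarTower A E' K']

omit [IsDomain A] [IsDomain E'] in
/-- The automorphism group of a finite etale local algebra with Galois residue extension has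
order the rank. -/
theorem card_aut_eq [IsGalois (ResidueField A) (ResidueField E')] :
    Nat.card (E' ≃ₐ[A] E') = Module.finrank A E' := by
  rw [finrank_eq_finrank_residueField A E',
    ← IsGalois.card_aut_eq_finrank (ResidueField A) (ResidueField E')]
  exact Nat.card_congr (Equiv.ofBijective (red (A := A) E')
    ⟨red_injective E', red_surjective E'⟩)

omit [IsDomain A] [IsDomain E'] [Module.Finite A E'] in
theorem finite_aut : Finite (E' ≃ₐ[A] E') :=
  Finite.of_injective (red (A := A) E') (red_injective E')

omit [IsDomain A] [IsDomain E'] in
include A in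
theorem isGaloisGroup [IsGalois (ResidueField A) (ResidueField E')] :
    letI := IsFractionRing.mulSemiringAction (E' ≃ₐ[A] E') E' K'
    IsGaloisGroup (E' ≃ₐ[A] E') K K' := by
  let G := E' ≃ₐ[A] E'
  let _ : MulSemiringAction G K' := IsFractionRing.mulSemiringAction G E' K'
  have hfin : Finite G := finite_aut A E'
  have hfaith : FaithfulSMul G K' := IsFractionRing.faithfulSMul G E' K'
  have hcomm : SMulCommClass G K K' := IsFractionRing.smulCommClass G A E' K K'
  have hn : Module.finrank K K' = Nat.card G := by
    rw [IsFractionRing.finrank_eq A K E' K', card_aut_eq A E']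
  have hfd : FiniteDimensional K K' := by
    apply FiniteDimensional.of_finrank_pos
    rw [hn]
    exact Nat.card_pos
  let F : IntermediateField K K' := FixedPoints.intermediateField G
  have hF : Module.finrank F K' = Nat.card G := by
    have := Fintype.ofFinite G
    rw [Nat.card_eq_fintype_card]
    exact FixedPoints.finrank_eq_card G K'
  have hF1 : Module.finrank K F = 1 := by
    have h1 := Module.finrank_mul_finrank K F K'
    rw [hF, hn] at h1
    have hpos : 0 < Nat.card G := Nat.card_pos
    exact Nat.eq_of_mul_eq_mul_right hpos (by rw [h1, one_mul])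
  have hFbot : F = ⊥ := IntermediateField.finrank_eq_one_iff.mp hF1
  refine ⟨hfaith, hcomm, ⟨fun x hx => ?_⟩⟩
  have hxF : x ∈ F := hx
  rw [hFbot, IntermediateField.mem_bot] at hxF
  exact hxF

omit [IsDomain A] [IsDomain E'] in
/-- **Galois descent for finite etale local algebras over a henselian local domain.** -/
theorem exists_sub_of_intermediateField [IsGalois (ResidueField A) (ResidueField E')]
    (L : IntermediateField K K') :
    ∃ (E : Type u) (_ : CommRing E) (_ : IsLocalRing E) (_ : Algebra A E)
      (_ : IsLocalHom (algebraMap A E)),
      Module.Finite A E ∧ Algebra.Etale A E ∧ ∃ ι : E →ₐ[A] E', Function.Injective ι ∧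
        (∀ x, algebraMap E' K' (ι x) ∈ L) ∧
        ∀ l ∈ L, ∃ x b : E, b ≠ 0 ∧ l * algebraMap E' K' (ι b) = algebraMap E' K' (ι x) := by
  classical
  let k := ResidueField A
  let k' := ResidueField E'
  let G := E' ≃ₐ[A] E'
  let _ : MulSemiringAction G K' := IsFractionRing.mulSemiringAction G E' K'
  have hGal : IsGaloisGroup G K K' := isGaloisGroup A E' K K'
  have hfin : Finite G := finite_aut A E'
  have hn : Module.finrank K K' = Nat.card G := by
    rw [IsFractionRing.finrank_eq A K E' K', card_aut_eq A E']
  have hnk : Module.finrank k k' = Nat.card G := by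
    rw [← finrank_eq_finrank_residueField A E', card_aut_eq A E']
  have hfd : FiniteDimensional K K' := by
    apply FiniteDimensional.of_finrank_pos
    rw [hn]
    exact Nat.card_pos
  -- the fixing subgroup
  let H : Subgroup G := fixingSubgroup G (L : Set K')
  have hHfix : (FixedPoints.intermediateField H : IntermediateField K K') = L :=
    IsGaloisGroup.fixedPoints_fixingSubgroup G K K' L
  have hHcard : Nat.card H = Module.finrank L K' :=
    IsGaloisGroup.card_fixingSubgroup_eq_finrank G K K' L
  -- residue side
  let Hk : Subgroup (k' ≃ₐ[k] k') := H.map (red (A := A) E')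
  have hHk : Nat.card Hk = Nat.card H := Subgroup.card_map_of_injective (red_injective E')
  let kL : IntermediateField k k' := IntermediateField.fixedField Hk
  have hkL : Module.finrank kL k' = Nat.card H := by
    rw [← hHk]
    exact IntermediateField.finrank_fixedField_eq_card Hk
  have hsepk : Algebra.IsSeparable k k' := inferInstance
  have hsepL : Algebra.IsSeparable k kL := Algebra.isSeparable_tower_bot_of_isSeparable k kL k'
  -- the lift of `kL`
  obtain ⟨E, _, _, _, _, hEfin, hEet, ⟨θ⟩⟩ :=
    Groth.Agent.Lib.FiniteEtaleLiftLocal.exists_local_finite_etale A kL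
  let σ : ResidueField E →ₐ[k] k' := kL.val.comp (θ : ResidueField E →ₐ[k] kL)
  obtain ⟨ι, hι⟩ := exists_lift E E' σ
  have hσmem : ∀ y, σ y ∈ kL := fun y => (θ y).2
  -- `H` fixes the image of `ι`
  have hfix : ∀ g ∈ H, ∀ x, g (ι x) = ι x := by
    intro g hg x
    have h1 : (g : E' →ₐ[A] E').comp ι = ι := by
      apply lift_unique
      intro y
      have h2 : residue E' (g (ι y)) = red (A := A) E' g (residue E' (ι y)) := rfl
      change residue E' (g (ι y)) = residue E' (ι y)
      rw [h2, hι]
      have h3 : red (A := A) E' g ∈ Hk := ⟨g, hg, rfl⟩
      exact (IntermediateField.mem_fixedField_iff Hk (σ (residue E y))).mp (hσmem _) _ h3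
    exact congr($h1 x)
  -- `ι` is local, hence faithfully flat and injective
  have hιloc : IsLocalHom (ι : E →+* E') := by
    refine ((local_hom_TFAE (ι : E →+* E')).out 2 0).mp ?_
    have hm : (maximalIdeal A).map (algebraMap A E) = maximalIdeal E :=
      Algebra.FormallyUnramified.map_maximalIdeal
    rw [← hm, Ideal.map_map]
    have : (ι : E →+* E').comp (algebraMap A E) = algebraMap A E' := ι.comp_algebraMap
    rw [this]
    exact map_maximalIdeal_le (algebraMap A E')
  have hιinj : Function.Injective ι := by
    let _ : Algebra E E' := (ι : E →+* E').toAlgebra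
    have htower : IsScalarTower A E E' :=
      IsScalarTower.of_algebraMap_eq (fun r => (ι.commutes r).symm)
    have : IsLocalHom (algebraMap E E') := hιloc
    have hff : Module.FaithfullyFlat E E' := faithfullyFlat_of_etale (A := A)
    exact FaithfulSMul.algebraMap_injective E E'
  refine ⟨E, inferInstance, inferInstance, inferInstance, inferInstance, hEfin, hEet, ι, ?_, ?_, ?_⟩
  · exact hιinj
  · intro x
    rw [← hHfix]
    intro h
    have h1 : (h : G) • algebraMap E' K' (ι x) = algebraMap E' K' ((h : G) • ι x) :=
      (algebraMap.smul' (h : G) (ι x) K').symm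
    change (h : G) • algebraMap E' K' (ι x) = algebraMap E' K' (ι x)
    rw [h1]
    congr 1
    exact hfix h h.2 x
  · -- dimension count
    have hAinj : Function.Injective (algebraMap A E') :=
      algebraMap_injective_of_field_isFractionRing A E' K K'
    have hAEinj : Function.Injective (algebraMap A E) := by
      have : (ι : E →+* E').comp (algebraMap A E) = algebraMap A E' := ι.comp_algebraMap
      have h2 : Function.Injective ((ι : E →+* E').comp (algebraMap A E)) := by
        rw [this]; exact hAinj
      exact Function.Injective.of_comp h2
    have hflatE : Module.Flat A E := inferInstance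
    have hfreeE : Module.Free A E := Module.free_of_flat_of_isLocalRing
    have hrk : Module.finrank A E = Module.finrank K L := by
      rw [finrank_eq_finrank_residueField A E, θ.toLinearEquiv.finrank_eq]
      have h1 := Module.finrank_mul_finrank k kL k'
      have h2 := Module.finrank_mul_finrank K L K'
      rw [hkL, hnk] at h1
      rw [← hHcard, hn] at h2
      have hpos : 0 < Nat.card H := Nat.card_pos
      exact Nat.eq_of_mul_eq_mul_right hpos (h1.trans h2.symm)
    let r := Module.finrank A E
    let b : Module.Basis (Fin r) A E := Module.finBasis A E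
    let f : E →ₗ[A] K' := (IsScalarTower.toAlgHom A E' K').toLinearMap ∘ₗ ι.toLinearMap
    have hf : ∀ x, f x = algebraMap E' K' (ι x) := fun _ => rfl
    have hfinj : Function.Injective f := by
      intro x y hxy
      rw [hf, hf] at hxy
      exact hιinj (IsFractionRing.injective E' K' hxy)
    have hliA : LinearIndependent A (fun i => f (b i)) :=
      b.linearIndependent.map' f (LinearMap.ker_eq_bot.mpr hfinj)
    have hliK : LinearIndependent K (fun i => f (b i)) :=
      LinearIndependent.localization K (nonZeroDivisors A) hliA
    have hmemL : ∀ x, f x ∈ L := by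
      intro x
      rw [hf, ← hHfix]
      intro h
      have h1 : (h : G) • algebraMap E' K' (ι x) = algebraMap E' K' ((h : G) • ι x) :=
        (algebraMap.smul' (h : G) (ι x) K').symm
      change (h : G) • algebraMap E' K' (ι x) = algebraMap E' K' (ι x)
      rw [h1]
      congr 1
      exact hfix h h.2 x
    let v : Fin r → L := fun i => ⟨f (b i), hmemL _⟩
    have hliL : LinearIndependent K v := by
      apply LinearIndependent.of_comp L.val.toLinearMap
      exact hliK
    have hcard : Fintype.card (Fin r) = Module.finrank K L := (Fintype.card_fin r).trans hrk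
    have hrpos : 0 < r := by
      change 0 < Module.finrank A E
      rw [hrk]
      exact Module.finrank_pos
    have hne : Nonempty (Fin r) := ⟨⟨0, hrpos⟩⟩
    let B : Module.Basis (Fin r) K L := basisOfLinearIndependentOfCardEqFinrank hliL hcard
    have hB : ∀ i, B i = v i := fun i => by
      simp only [B, coe_basisOfLinearIndependentOfCardEqFinrank]
    intro l hl
    obtain ⟨c, hc⟩ : ∃ c : Fin r → K, l = ∑ i, c i • f (b i) := by
      refine ⟨fun i => B.repr ⟨l, hl⟩ i, ?_⟩
      have h1 := B.sum_repr ⟨l, hl⟩
      have h2 := congr((($h1 : L) : K'))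
      simp only [hB] at h2
      calc l = ((∑ i, B.repr ⟨l, hl⟩ i • v i : L) : K') := h2.symm
        _ = ∑ i, B.repr ⟨l, hl⟩ i • f (b i) := by simp [v]
    obtain ⟨d, hd⟩ := IsLocalization.exist_integer_multiples_of_finite (nonZeroDivisors A) c
    choose a ha using hd
    refine ⟨∑ i, a i • b i, algebraMap A E d, ?_, ?_⟩
    · intro h0
      have : (d : A) = 0 := hAEinj (by rw [h0, map_zero])
      exact nonZeroDivisors.coe_ne_zero d this
    · have h3 : algebraMap E' K' (ι (algebraMap A E d)) = algebraMap A K' d := by
        rw [ι.commutes, ← IsScalarTower.algebraMap_apply]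
      rw [h3, ← hf, map_sum]
      conv_lhs => rw [hc]
      rw [Finset.sum_mul]
      refine Finset.sum_congr rfl fun i _ => ?_
      rw [map_smul, Algebra.smul_def (a i), IsScalarTower.algebraMap_apply A K K' (a i), ha i,
        Algebra.smul_def, Algebra.smul_def, IsScalarTower.algebraMap_apply A K K' d, map_mul]
      ring

end galois

end Groth.Agent.Lib.HenselGalois61
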