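import Mathlib.RingTheory.Henselian
import Mathlib.RingTheory.AdicCompletion.Basic
import Mathlib.Algebra.Polynomial.Taylor
import Mathlib.Tactic.LinearCombination
import Mathlib.Tactic.Ring
import Groth.Agent.Lib.HenselRadical

/-!
Hensel's lemma for adically complete rings, for arbitrary (not necessarily monic) polynomials,
and the strong form: if `f a₀ = (f' a₀)^2 * e` with `e ∈ I` then `f` has a root
`a₀ + f' a₀ * y` with `y ∈ (e)`.
-/

set_option autoImplicit false
universe u

namespace Groth.Agent.Lib.HenselGeneral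

open Polynomial Groth.Agent.Lib.HenselRadical
open scoped Ring

variable {R : Type u} [CommRing R]

/-- Hensel's lemma in an adically complete ring, for arbitrary polynomials.
(The proof is the one of Mathlib's `IsAdicComplete.henselianRing`, which never uses monicity.) -/
theorem exists_root_of_isAdicComplete (I : Ideal R) [IsAdicComplete I R] (f : R[X]) (a₀ : R)
    (h₁ : f.eval a₀ ∈ I) (h₂ : IsUnit (Ideal.Quotient.mk I (f.derivative.eval a₀))) :
    ∃ a : R, f.IsRoot a ∧ a - a₀ ∈ I := by
  classical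
    let f' := derivative f
    let c : ℕ → R := fun n => Nat.recOn n a₀ fun _ b => b - f.eval b * (f'.eval b)⁻¹ʳ
    have hc : ∀ n, c (n + 1) = c n - f.eval (c n) * (f'.eval (c n))⁻¹ʳ := by
      intro n
      simp only [c]
    have hc_mod : ∀ n, c n ≡ a₀ [SMOD I] := by
      intro n
      induction n with
      | zero => rfl
      | succ n ih => ?_
      rw [hc, sub_eq_add_neg, ← add_zero a₀]
      refine ih.add ?_
      rw [SModEq.zero, Ideal.neg_mem_iff]
      refine I.mul_mem_right _ ?_
      rw [← SModEq.zero] at h₁ ⊢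
      exact (ih.eval f).trans h₁
    have hf'c : ∀ n, IsUnit (f'.eval (c n)) := by
      intro n
      have := isLocalHom_of_le_jacobson_bot I (IsAdicComplete.le_jacobson_bot I)
      apply IsUnit.of_map (Ideal.Quotient.mk I)
      convert! h₂ using 1
      exact SModEq.def.mp ((hc_mod n).eval _)
    have hfcI : ∀ n, f.eval (c n) ∈ I ^ (n + 1) := by
      intro n
      induction n with
      | zero => simpa only [Nat.rec_zero, zero_add, pow_one] using! h₁
      | succ n ih => ?_
      rw [← taylor_eval_sub (c n), hc, sub_eq_add_neg, sub_eq_add_neg,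
        add_neg_cancel_comm]
      rw [eval_eq_sum, sum_over_range' _ _ _ (lt_add_of_pos_right _ zero_lt_two), ←
        Finset.sum_range_add_sum_Ico _ (Nat.le_add_left _ _)]
      swap
      · intro i
        rw [zero_mul]
      refine Ideal.add_mem _ ?_ ?_
      · rw [← one_add_one_eq_two, Finset.sum_range_succ, Finset.range_one, Finset.sum_singleton,
          taylor_coeff_zero, taylor_coeff_one, pow_zero, pow_one, mul_one, mul_neg,
          mul_left_comm, Ring.mul_inverse_cancel _ (hf'c n), mul_one, add_neg_cancel]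
        exact Ideal.zero_mem _
      · refine Submodule.sum_mem _ ?_
        simp only [Finset.mem_Ico]
        rintro i ⟨h2i, _⟩
        have aux : n + 2 ≤ i * (n + 1) := by trans 2 * (n + 1) <;> nlinarith only [h2i]
        refine Ideal.mul_mem_left _ _ (Ideal.pow_le_pow_right aux ?_)
        rw [pow_mul']
        exact Ideal.pow_mem_pow ((Ideal.neg_mem_iff _).2 <| Ideal.mul_mem_right _ _ ih) _
    have aux : ∀ m n, m ≤ n → c m ≡ c n [SMOD (I ^ m • ⊤ : Ideal R)] := by
      intro m n hmn
      rw [← Ideal.one_eq_top, Ideal.smul_eq_mul, mul_one]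
      obtain ⟨k, rfl⟩ := Nat.exists_eq_add_of_le hmn
      clear hmn
      induction k with
      | zero => rw [add_zero]
      | succ k ih => ?_
      rw [← add_assoc, hc, ← add_zero (c m), sub_eq_add_neg]
      refine ih.add ?_
      symm
      rw [SModEq.zero, Ideal.neg_mem_iff]
      refine Ideal.mul_mem_right _ _ (Ideal.pow_le_pow_right ?_ (hfcI _))
      rw [add_assoc]
      exact le_self_add
    obtain ⟨a, ha⟩ := IsPrecomplete.prec' c (aux _ _)
    refine ⟨a, ?_, ?_⟩
    · show f.IsRoot a
      suffices ∀ n, f.eval a ≡ 0 [SMOD (I ^ n • ⊤ : Ideal R)] by exact IsHausdorff.haus' _ this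
      intro n
      specialize ha n
      rw [← Ideal.one_eq_top, Ideal.smul_eq_mul, mul_one] at ha ⊢
      refine (ha.symm.eval f).trans ?_
      rw [SModEq.zero]
      exact Ideal.pow_le_pow_right le_self_add (hfcI _)
    · show a - a₀ ∈ I
      specialize ha (0 + 1)
      rw [hc, pow_one, ← Ideal.one_eq_top, Ideal.smul_eq_mul, mul_one, sub_eq_add_neg] at ha
      rw [← SModEq.sub_mem, ← add_zero a₀]
      refine ha.symm.trans (SModEq.rfl.add ?_)
      rw [SModEq.zero, Ideal.neg_mem_iff]
      exact Ideal.mul_mem_right _ _ h₁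

/-- Refinement: the root differs from `a₀` by a multiple of `f a₀`. -/
theorem exists_root_sub_mem_span (I : Ideal R) [IsAdicComplete I R] (f : R[X]) (a₀ : R)
    (h₁ : f.eval a₀ ∈ I) (h₂ : IsUnit (f.derivative.eval a₀)) :
    ∃ a : R, f.IsRoot a ∧ a - a₀ ∈ Ideal.span {f.eval a₀} := by
  obtain ⟨a, ha1, ha2⟩ := exists_root_of_isAdicComplete I f a₀ h₁ (h₂.map _)
  refine ⟨a, ha1, ?_⟩
  have hjac : I ≤ Ideal.jacobson ⊥ := IsAdicComplete.le_jacobson_bot I
  obtain ⟨c, hc⟩ := exists_mul_sq_add_linear_part_eq_eval_add f a₀ (a - a₀)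
  have ha1' : f.eval a = 0 := ha1
  rw [add_sub_cancel, ha1'] at hc
  have hunit : IsUnit (c * (a - a₀) + f.derivative.eval a₀) := by
    apply isUnit_of_sub_mem hjac h₂
    have : c * (a - a₀) + f.derivative.eval a₀ - f.derivative.eval a₀ = c * (a - a₀) := by ring
    rw [this]
    exact Ideal.mul_mem_left _ _ ha2
  obtain ⟨v, hv⟩ := hunit
  have h3 : (a - a₀) * (v : R) = - f.eval a₀ := by
    rw [hv]; linear_combination hc
  have hkey : (a - a₀) = (- ↑v⁻¹) * (f.eval a₀) := by
    calc (a - a₀) = (a - a₀) * ((v : R) * ↑v⁻¹) := by rw [v.mul_inv, mul_one]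
      _ = ((a - a₀) * (v : R)) * ↑v⁻¹ := by ring
      _ = (- ↑v⁻¹) * (f.eval a₀) := by rw [h3]; ring
  rw [hkey]
  exact Ideal.mul_mem_left _ _ (Ideal.subset_span rfl)

/-- Strong form of Hensel's lemma: if `f a₀ = (f' a₀)^2 * e` with `e ∈ I`, then `f` has a root
of the form `a₀ + f' a₀ * y` with `y ∈ (e)`. -/
theorem exists_root_of_eval_eq_sq_mul (I : Ideal R) [IsAdicComplete I R] (f : R[X]) (a₀ e : R)
    (he : e ∈ I) (h : f.eval a₀ = (f.derivative.eval a₀) ^ 2 * e) :
    ∃ y : R, y ∈ Ideal.span {e} ∧ f.IsRoot (a₀ + f.derivative.eval a₀ * y) := by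
  set d := f.derivative.eval a₀ with hd
  set T := taylor a₀ f with hT
  let G : R[X] := ∑ k ∈ Finset.range T.natDegree, C (T.coeff (k + 2) * d ^ k) * X ^ k
  let g : R[X] := C e + X + X ^ 2 * G
  have hT0 : T.coeff 0 = d ^ 2 * e := by rw [hT, taylor_coeff_zero, h]
  have hT1 : T.coeff 1 = d := by rw [hT, taylor_coeff_one]
  have key : ∀ y : R, f.eval (a₀ + d * y) = d ^ 2 * g.eval y := by
    intro y
    have h1 : f.eval (a₀ + d * y) = T.eval (d * y) := by
      rw [hT, taylor_eval, add_comm]
    have h2 : T.eval (d * y) = ∑ i ∈ Finset.range (T.natDegree + 2), T.coeff i * (d * y) ^ i :=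
      T.eval_eq_sum_range' (n := T.natDegree + 2) (by omega) (d * y)
    rw [h1, h2, Finset.sum_range_succ', Finset.sum_range_succ']
    simp only [g, G, eval_add, eval_mul, eval_C, eval_X, eval_pow, eval_finsetSum]
    rw [hT0, hT1, Finset.mul_sum]
    have h3 : ∀ k ∈ Finset.range T.natDegree,
        T.coeff (k + 1 + 1) * (d * y) ^ (k + 1 + 1) =
        d ^ 2 * (y ^ 2 * (T.coeff (k + 2) * d ^ k * y ^ k)) := by
      intro k _
      ring
    rw [Finset.sum_congr rfl h3]
    rw [← Finset.mul_sum, ← Finset.mul_sum]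
    ring
  have hg0 : g.eval 0 = e := by
    simp [g]
  have hg0' : g.derivative.eval 0 = 1 := by
    simp [g, derivative_mul]
  have hgI : g.eval 0 ∈ I := by rw [hg0]; exact he
  obtain ⟨y, hy1, hy2⟩ := exists_root_sub_mem_span I g 0 hgI (by rw [hg0']; exact isUnit_one)
  refine ⟨y, ?_, ?_⟩
  · rw [sub_zero, hg0] at hy2; exact hy2
  · show f.eval (a₀ + d * y) = 0
    rw [key y]
    have : g.eval y = 0 := hy1
    rw [this, mul_zero]

end Groth.Agent.Lib.HenselGeneral
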