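import Groth.Agent.Lib.HenselIntegralLocalization61

/-!
# Localizations of ind-quasi-finite algebras over henselian local rings (helper61)

* `isIntegral_localization_atPrime_of_forall_exists`: `A` henselian local, `D` an `A`-algebra,
  `Q` a prime of `D` over `m_A`; if any two elements of `D` lie in the image of a finite type
  quasi-finite `A`-algebra, then `D_Q` is integral over `A`.
* `exists_range_baseChange`: in `Ash ⊗[A] B`, any two elements come from `Ash ⊗[A] B₀` for a
  subalgebra `B₀` containing a suitable finite set.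
* `isIntegral_of_indQuasiFinite_strict`: the ind-quasi-finite analogue of
  `isIntegral_of_isIntegral_strict`.
-/

set_option autoImplicit false
universe u

namespace Groth.Agent.Lib.HenselIndQFLocalization61

open IsLocalRing TensorProduct

/-- See the module docstring. -/
theorem isIntegral_localization_atPrime_of_forall_exists
    (A : Type u) [CommRing A] [HenselianLocalRing A]
    (D : Type u) [CommRing D] [Algebra A D]
    (Q : Ideal D) [Q.IsPrime] [hQ : Q.LiesOver (maximalIdeal A)]
    (H : ∀ d s : D, ∃ (D₀ : Type u) (_ : CommRing D₀) (_ : Algebra A D₀)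
      (_ : Algebra.FiniteType A D₀) (_ : Algebra.QuasiFinite A D₀) (ψ : D₀ →ₐ[A] D),
      d ∈ ψ.range ∧ s ∈ ψ.range) :
    Algebra.IsIntegral A (Localization.AtPrime Q) := by
  refine ⟨fun x => ?_⟩
  obtain ⟨d, s, rfl⟩ := IsLocalization.exists_mk'_eq Q.primeCompl x
  obtain ⟨D₀, _, _, hft, hqf, ψ, ⟨d₀, hd₀⟩, ⟨s₀, hs₀⟩⟩ := H d s
  replace hd₀ : ψ d₀ = d := hd₀
  replace hs₀ : ψ s₀ = (s : D) := hs₀
  let Q₀ : Ideal D₀ := Q.comap ψ
  have hQ₀prime : Q₀.IsPrime := Ideal.comap_isPrime _ Q
  have hQ₀lies : Q₀.LiesOver (maximalIdeal A) := by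
    constructor
    have h1 : maximalIdeal A = Q.under A := hQ.over
    rw [h1]
    ext a
    simp only [Ideal.under_def, Ideal.mem_comap, Q₀, AlgHom.commutes]
  have hqfat : Algebra.QuasiFiniteAt A Q₀ := inferInstance
  have hfinL : Module.Finite A (Localization.AtPrime Q₀) :=
    Groth.Agent.Lib.HenselQFLocalization61.finite_localization_atPrime_of_quasiFiniteAt A D₀ Q₀
  let ψ' : Localization.AtPrime Q₀ →ₐ[A] Localization.AtPrime Q :=
    Localization.localAlgHom Q₀ Q ψ rfl
  have hs₀' : s₀ ∈ Q₀.primeCompl := by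
    intro h
    apply s.2
    have : ψ s₀ ∈ Q := h
    rwa [hs₀] at this
  have hx : IsLocalization.mk' (Localization.AtPrime Q) d s
      = ψ' (IsLocalization.mk' (Localization.AtPrime Q₀) d₀ ⟨s₀, hs₀'⟩) := by
    rw [Localization.localAlgHom_apply, Localization.localRingHom_mk']
    congr 1
    · exact hd₀.symm
    · exact Subtype.ext hs₀.symm
  rw [hx]
  exact (Algebra.IsIntegral.isIntegral _).map ψ'

/-- Any two elements of `Ash ⊗[A] B` come from `Ash ⊗[A] B₀` for `B₀` containing a suitable finite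
set. -/
theorem exists_finset_range_baseChange (A Ash B : Type u) [CommRing A] [CommRing Ash]
    [Algebra A Ash] [CommRing B] [Algebra A B] (d s : Ash ⊗[A] B) :
    ∃ t : Finset B, ∀ B₀ : Subalgebra A B, (↑t : Set B) ⊆ ↑B₀ →
      d ∈ (Algebra.TensorProduct.map (AlgHom.id Ash Ash) B₀.val).range ∧
      s ∈ (Algebra.TensorProduct.map (AlgHom.id Ash Ash) B₀.val).range := by
  classical
  obtain ⟨Sd, rfl⟩ := TensorProduct.exists_finset d
  obtain ⟨Ss, rfl⟩ := TensorProduct.exists_finset s
  refine ⟨(Sd ∪ Ss).image Prod.snd, fun B₀ hB₀ => ?_⟩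
  have key : ∀ i ∈ Sd ∪ Ss, (i.1 ⊗ₜ[A] i.2 : Ash ⊗[A] B) ∈
      (Algebra.TensorProduct.map (AlgHom.id Ash Ash) B₀.val).range := by
    intro i hi
    have hi2 : i.2 ∈ B₀ := hB₀ (by
      rw [Finset.coe_image]
      exact ⟨i, hi, rfl⟩)
    exact ⟨i.1 ⊗ₜ[A] ⟨i.2, hi2⟩, by simp⟩
  exact ⟨Subalgebra.sum_mem _ fun i hi => key i (Finset.mem_union_left _ hi),
    Subalgebra.sum_mem _ fun i hi => key i (Finset.mem_union_right _ hi)⟩

section Strict

variable (R : Type u) [CommRing R] (S : Type u)
    [CommRing S] [Algebra R S] (p : Ideal R) [p.IsPrime] (q : Ideal S) [q.IsPrime] [q.LiesOver p]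
    (Rh : Type u) [CommRing Rh] [IsLocalRing Rh] [Algebra (Localization.AtPrime p) Rh]
    [IsLocalHom (algebraMap (Localization.AtPrime p) Rh)]
    [Hensel.IsStrictHenselization (Localization.AtPrime p) Rh]
    [Algebra R Rh] [IsScalarTower R (Localization.AtPrime p) Rh]
    (Sh : Type u) [CommRing Sh] [IsLocalRing Sh] [Algebra (Localization.AtPrime q) Sh]
    [IsLocalHom (algebraMap (Localization.AtPrime q) Sh)]
    [Hensel.IsStrictHenselization (Localization.AtPrime q) Sh]
    [Algebra S Sh]
    [IsScalarTower S (Localization.AtPrime q) Sh] [Algebra R Sh] [IsScalarTower R S Sh]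
    [Algebra Rh Sh] [IsScalarTower R Rh Sh]

open Groth.Agent.Lib.HenselizationTensorPrime61

include p q in
/-- If `(Rh ⊗[R] S)_Q` is integral over `Rh`, then `Phi` is bijective and `Sh` is integral over
`Rh`. -/
theorem isIntegral_of_isIntegral_localization
    (hintL : Algebra.IsIntegral Rh (Localization.AtPrime (Q R S Rh Sh))) :
    Function.Bijective (Phi R S Rh Sh) ∧ Algebra.IsIntegral Rh Sh := by
  let _ : Algebra (Localization.AtPrime (Q R S Rh Sh)) Sh := (Phi R S Rh Sh).toAlgebra
  have hPhi : IsLocalHom (algebraMap (Localization.AtPrime (Q R S Rh Sh)) Sh) :=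
    isLocalHom_Phi R S Rh Sh
  have hH : Hensel.IsStrictHenselization (Localization.AtPrime (Q R S Rh Sh)) Sh :=
    isStrictHenselization_Phi R S p q Rh Sh
  have hloc : IsLocalHom (algebraMap Rh Sh) := isLocalHom_algebraMap_strict R S p q Rh Sh
  have hRh : HenselianLocalRing Rh :=
    Hensel.IsStrictHenselization.henselian (R := Localization.AtPrime p)
  have hHL : HenselianLocalRing (Localization.AtPrime (Q R S Rh Sh)) :=
    Groth.Agent.Lib.HenselIntegralLocal.henselianLocalRing_of_isIntegral Rh
      (Localization.AtPrime (Q R S Rh Sh))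
  have hklocal : IsLocalHom (algebraMap Rh (Localization.AtPrime (Q R S Rh Sh))) := by
    refine ⟨fun x hx => ?_⟩
    have h1 : IsUnit (Phi R S Rh Sh (algebraMap Rh (Localization.AtPrime (Q R S Rh Sh)) x)) :=
      hx.map _
    rw [Phi_algebraMap_left] at h1
    exact isUnit_of_map_unit (algebraMap Rh Sh) x h1
  have hsc : IsSepClosed (ResidueField Rh) :=
    (Hensel.IsStrictHenselization.isSepClosure (R := Localization.AtPrime p) (S := Rh)).sep_closed
  have hint' : Algebra.IsIntegral (ResidueField Rh)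
      (ResidueField (Localization.AtPrime (Q R S Rh Sh))) :=
    Groth.Agent.Lib.TensorPurelyInsepHensel61.isIntegral_residueField Rh _
  have halg : Algebra.IsAlgebraic (ResidueField Rh)
      (ResidueField (Localization.AtPrime (Q R S Rh Sh))) := Algebra.IsIntegral.isAlgebraic
  have hsc' : IsSepClosed (ResidueField (Localization.AtPrime (Q R S Rh Sh))) :=
    Algebra.IsAlgebraic.isSepClosed (F := ResidueField Rh)
  have hself : Hensel.IsStrictHenselization (Localization.AtPrime (Q R S Rh Sh))
      (Localization.AtPrime (Q R S Rh Sh)) :=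
    Groth.Agent.Lib.HenselQFLocalization61.isStrictHenselization_self _
  obtain ⟨e⟩ := Groth.Agent.Lib.StrictHenselizationEpi61.exists_algEquiv_of_isStrictHenselization
    (Localization.AtPrime (Q R S Rh Sh)) (Localization.AtPrime (Q R S Rh Sh)) Sh
  have he : ∀ x, e x = Phi R S Rh Sh x := fun x => e.commutes x
  have hbij : Function.Bijective (Phi R S Rh Sh) := by
    have : (Phi R S Rh Sh : Localization.AtPrime (Q R S Rh Sh) → Sh) = e := by
      funext x; exact (he x).symm
    rw [this]
    exact e.bijective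
  refine ⟨hbij, ⟨fun y => ?_⟩⟩
  obtain ⟨x, rfl⟩ := hbij.2 y
  let PhiAlg : Localization.AtPrime (Q R S Rh Sh) →ₐ[Rh] Sh :=
    { Phi R S Rh Sh with commutes' := Phi_algebraMap_left R S Rh Sh }
  exact (Algebra.IsIntegral.isIntegral x).map PhiAlg

include p q in
/-- If `S` is a directed union of finite type quasi-finite `R`-subalgebras then `Phi` is bijective
and `Sh` is integral over `Rh`. -/
theorem isIntegral_of_indQuasiFinite_strict
    (hS : ∀ s : Finset S, ∃ S₀ : Subalgebra R S, (↑s : Set S) ⊆ ↑S₀ ∧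
      Algebra.FiniteType R ↥S₀ ∧ Algebra.QuasiFinite R ↥S₀) :
    Function.Bijective (Phi R S Rh Sh) ∧ Algebra.IsIntegral Rh Sh := by
  have hloc : IsLocalHom (algebraMap Rh Sh) := isLocalHom_algebraMap_strict R S p q Rh Sh
  have hRh : HenselianLocalRing Rh :=
    Hensel.IsStrictHenselization.henselian (R := Localization.AtPrime p)
  have hlies : (Q R S Rh Sh).LiesOver (maximalIdeal Rh) := Q_liesOver R S Rh Sh
  refine isIntegral_of_isIntegral_localization R S p q Rh Sh ?_
  refine isIntegral_localization_atPrime_of_forall_exists Rh (Rh ⊗[R] S) (Q R S Rh Sh) ?_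
  intro d s
  obtain ⟨t, ht⟩ := exists_finset_range_baseChange R Rh S d s
  obtain ⟨S₀, hS₀, hft, hqf⟩ := hS t
  exact ⟨Rh ⊗[R] S₀, inferInstance, inferInstance, inferInstance, inferInstance,
    Algebra.TensorProduct.map (AlgHom.id Rh Rh) S₀.val, ht S₀ hS₀⟩

end Strict

end Groth.Agent.Lib.HenselIndQFLocalization61
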