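import Groth.Agent.Lib.HenselQFLocalization61
import Groth.Agent.Lib.HenselFin

/-!
# Isolated points of the closed fibre over a henselian local ring (helper34)

Algebra: `A` henselian local, `D` a finite type `A`-algebra, `Q` a prime over `m_A` at which `D`
is quasi-finite, `S` any localization of `D` at `Q`.  Then `S` is module-finite over `A` and
`S` is also the localization of `D` away from an idempotent `ε ∉ Q`
(so `Spec S → Spec D` is an open and closed immersion).
Built on helper61's `HenselQFLocalization61.exists_idem_isLocalization`.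
-/

set_option autoImplicit false
universe u

namespace Groth.Agent.Lib.HenselIsol

open IsLocalRing

theorem finite_and_exists_idem_away (A : Type u) [CommRing A] [HenselianLocalRing A]
    (D : Type u) [CommRing D] [Algebra A D] [Algebra.FiniteType A D]
    (Q : Ideal D) [Q.IsPrime] [Q.LiesOver (maximalIdeal A)] [Algebra.QuasiFiniteAt A Q]
    (S : Type u) [CommRing S] [Algebra D S] [Algebra A S] [IsScalarTower A D S]
    [IsLocalization.AtPrime S Q] :
    Module.Finite A S ∧ ∃ ε : D, IsIdempotentElem ε ∧ ε ∉ Q ∧ IsLocalization.Away ε S := by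
  obtain ⟨ε, hε, hεQ, hfin, hloc⟩ :=
    Groth.Agent.Lib.HenselQFLocalization61.exists_idem_isLocalization A D Q
  let e : (D ⧸ Ideal.span {1 - ε}) ≃ₐ[D] S := IsLocalization.algEquiv Q.primeCompl _ _
  refine ⟨Module.Finite.equiv (e.restrictScalars A).toLinearEquiv, ε, hε, hεQ, ?_⟩
  have h1 : IsLocalization.Away ε (D ⧸ Ideal.span {1 - ε}) :=
    IsLocalization.Away.quotient_of_isIdempotentElem hε
  exact IsLocalization.isLocalization_of_algEquiv (Submonoid.powers ε) e

open AlgebraicGeometry CategoryTheory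

set_option backward.isDefEq.respectTransparency false in
lemma quasiFiniteAt_SpecMap_iff {R S : CommRingCat.{u}} (φ : R ⟶ S) (x : Spec S) :
    (Spec.map φ).QuasiFiniteAt x ↔ φ.hom.QuasiFiniteAt x.asIdeal := by
  algebraize [φ.hom]
  let := Localization.AtPrime.algebraOfLiesOver (x.asIdeal.under R) x.asIdeal
  trans Algebra.QuasiFinite (Localization.AtPrime (x.asIdeal.under R))
    (Localization.AtPrime x.asIdeal)
  · rw [← RingHom.quasiFinite_algebraMap]
    exact RingHom.QuasiFinite.respectsIso.arrow_mk_iso_iff (Scheme.arrowStalkMapSpecIso ..)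
  exact ⟨fun _ ↦ .trans _ (Localization.AtPrime (x.asIdeal.under R)) _,
    fun _ ↦ .of_restrictScalars R _ _⟩

/-- topological isolatedness in the fibre gives `QuasiFiniteAt` -/
lemma quasiFiniteAt_of_isOpen {X Y : Scheme.{u}} (f : X ⟶ Y) [LocallyOfFiniteType f] (x : X) (y : Y)
    (hx : f.base x = y)
    (hisol : IsOpen ((Subtype.val : (f.base ⁻¹' {y}) → X) ⁻¹' {x})) : f.QuasiFiniteAt x := by
  subst hx
  rw [Scheme.Hom.quasiFiniteAt_iff_isOpen_singleton_asFiber,
    ← (f.fiberHomeo (f x)).isOpen_image]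
  simp only [Set.image_singleton, Scheme.Hom.asFiber, Homeomorph.apply_symm_apply]
  convert hisol using 1
  ext ⟨z, hz⟩
  simp

/-- **Isolated points of the closed fibre split off over a henselian local base**:
`f : X ⟶ Spec A` separated, locally of finite type, `A` henselian local, `x` over the closed
point with `f` quasi-finite at `x`.  Then `𝒪_{X,x}` is finite over `A` and `Spec 𝒪_{X,x} ⟶ X`
is an open and closed immersion. -/
theorem finite_stalk_and_isOpenImmersion_fromSpecStalk (A : Type u) [CommRing A] [HenselianLocalRing A] (X : Scheme.{u})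
    (f : X ⟶ Spec (CommRingCat.of A)) [LocallyOfFiniteType f] [IsSeparated f]
    (x : X) (hx : f.base x = closedPoint A) (hqf : f.QuasiFiniteAt x) :
    ((Scheme.ΓSpecIso (CommRingCat.of A)).inv ≫ f.appTop ≫ X.presheaf.germ ⊤ x trivial).hom.Finite ∧
      IsOpenImmersion (X.fromSpecStalk x) ∧ IsClosedImmersion (X.fromSpecStalk x) := by
  obtain ⟨_, ⟨V, hV, rfl⟩, hxV, -⟩ := X.isBasis_affineOpens.exists_subset_of_mem_open
    (Set.mem_univ x) isOpen_univ
  have hle : V ≤ f ⁻¹ᵁ ⊤ := le_top
  let ψ : CommRingCat.of A ⟶ Γ(X, V) :=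
    (Scheme.ΓSpecIso (CommRingCat.of A)).inv ≫ f.appLE ⊤ V hle
  have hfac : hV.fromSpec ≫ f = Spec.map ψ := by
    rw [Spec.map_comp, ← IsAffineOpen.SpecMap_appLE_fromSpec f (isAffineOpen_top _) hV hle,
      IsAffineOpen.fromSpec_top, Scheme.isoSpec_Spec_inv]
  set Q := hV.primeIdealOf ⟨x, hxV⟩ with hQ
  have hQx : hV.fromSpec Q = x := hV.fromSpec_primeIdealOf ⟨x, hxV⟩
  have hψft : ψ.hom.FiniteType := by
    have : LocallyOfFiniteType (Spec.map ψ) := hfac ▸ inferInstance
    exact (HasRingHomProperty.Spec_iff (P := @LocallyOfFiniteType)).mp this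
  have hψqf : ψ.hom.QuasiFiniteAt Q.asIdeal := by
    rw [← quasiFiniteAt_SpecMap_iff, ← hfac, Scheme.Hom.quasiFiniteAt_comp_iff_of_isOpenImmersion,
      hQx]
    exact hqf
  algebraize [ψ.hom]
  have hlies : Q.asIdeal.LiesOver (maximalIdeal A) := by
    constructor
    have h1 : (Spec.map ψ) Q = closedPoint A := by
      rw [← hfac, Scheme.Hom.comp_apply, hQx]; exact hx
    have h2 := congrArg PrimeSpectrum.asIdeal h1
    exact h2.symm
  let := X.presheaf.algebra_section_stalk ⟨x, hxV⟩
  have hloc := hV.isLocalization_stalk ⟨x, hxV⟩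
  let χ : CommRingCat.of A ⟶ X.presheaf.stalk x := ψ ≫ X.presheaf.germ V x hxV
  let : Algebra A (X.presheaf.stalk x) := χ.hom.toAlgebra
  have : IsScalarTower A Γ(X, V) (X.presheaf.stalk x) := .of_algebraMap_eq' rfl
  have : Algebra.QuasiFiniteAt A Q.asIdeal := hψqf
  obtain ⟨hfin, ε, hε, hεQ, haway⟩ :=
    Groth.Agent.Lib.HenselIsol.finite_and_exists_idem_away A Γ(X, V) Q.asIdeal (X.presheaf.stalk x)
  have hχ : χ = (Scheme.ΓSpecIso (CommRingCat.of A)).inv ≫ f.appTop ≫
      X.presheaf.germ ⊤ x trivial := by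
    dsimp only [χ, ψ]
    rw [Category.assoc, ← X.presheaf.germ_res (homOfLE (le_top : V ≤ ⊤)) x hxV,
      Scheme.Hom.appLE, Category.assoc]
    rfl
  have hχfin : χ.hom.Finite := RingHom.finite_algebraMap.mpr hfin
  have h0 := IsOpenImmersion.of_isLocalization (R := Γ(X, V)) (S := X.presheaf.stalk x) ε
  have heq : CommRingCat.ofHom (algebraMap Γ(X, V) (X.presheaf.stalk x)) =
      X.presheaf.germ V x hxV := rfl
  have h1 : IsOpenImmersion (Spec.map (X.presheaf.germ V x hxV)) := heq ▸ h0
  have h2 : IsOpenImmersion (X.fromSpecStalk x) := by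
    rw [← hV.fromSpecStalk_eq_fromSpecStalk hxV, IsAffineOpen.fromSpecStalk]
    infer_instance
  have h3 : X.fromSpecStalk x ≫ f = Spec.map χ := by
    rw [← hV.fromSpecStalk_eq_fromSpecStalk hxV, IsAffineOpen.fromSpecStalk, Category.assoc, hfac,
      ← Spec.map_comp]
  have h4 : IsFinite (X.fromSpecStalk x ≫ f) := by
    rw [h3]; exact (IsFinite.SpecMap_iff χ).mpr hχfin
  have h5 : IsProper (X.fromSpecStalk x) := IsProper.of_comp _ f
  refine ⟨hχ ▸ hχfin, h2, ?_⟩
  exact IsClosedImmersion.of_isPreimmersion _ (X.fromSpecStalk x).isClosedMap.isClosed_range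

end Groth.Agent.Lib.HenselIsol
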