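import Mathlib.RingTheory.Henselian
import Mathlib.RingTheory.AdjoinRoot
import Mathlib.RingTheory.Nakayama
import Mathlib.Algebra.Polynomial.Identities

set_option autoImplicit false
universe u v w

namespace Groth.Agent.Lib.HenselOfPiLocal

open IsLocalRing Polynomial

/-- A ring map from a finite product of rings to a field factors through one coordinate: there is
an index whose idempotent is sent to `1`. -/
theorem exists_single_one {ι : Type v} [Fintype ι] [DecidableEq ι] {A : ι → Type w}
    [∀ i, CommRing (A i)] {k : Type*} [Field k] (ψ : (∀ i, A i) →+* k) :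
    ∃ i₀, ψ (Pi.single i₀ 1) = 1 := by
  have hsum : ∑ i, ψ (Pi.single i (1 : A i)) = 1 := by
    rw [← map_sum]
    have : ∑ i, Pi.single i (1 : A i) = (1 : ∀ i, A i) := Finset.univ_sum_single (1 : ∀ i, A i)
    rw [this, map_one]
  have : ∃ i, ψ (Pi.single i (1 : A i)) ≠ 0 := by
    by_contra hcon
    push Not at hcon
    rw [Finset.sum_eq_zero (fun i _ => hcon i)] at hsum
    exact zero_ne_one hsum
  obtain ⟨i, hi⟩ := this
  refine ⟨i, ?_⟩
  have hidem : ψ (Pi.single i (1 : A i)) * ψ (Pi.single i (1 : A i)) = ψ (Pi.single i (1 : A i)) := by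
    rw [← map_mul, ← Pi.single_mul, one_mul]
  have : ψ (Pi.single i (1 : A i)) * (ψ (Pi.single i (1 : A i)) - 1) = 0 := by
    rw [mul_sub, hidem, mul_one, sub_self]
  rcases mul_eq_zero.mp this with h | h
  · exact absurd h hi
  · exact sub_eq_zero.mp h

/-- Key step: if `R[X]/(F)` is a finite product of local rings, simple roots mod `m` lift. -/
theorem exists_root_of_pi_local {R : Type u} [CommRing R] [IsLocalRing R] (F : R[X])
    (hF : F.Monic) {ι : Type v} [Fintype ι] (A : ι → Type w) [∀ i, CommRing (A i)]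
    [∀ i, IsLocalRing (A i)] (e : AdjoinRoot F ≃+* (∀ i, A i)) (a₀ : R)
    (h₀ : F.eval a₀ ∈ maximalIdeal R) (h₁ : IsUnit (F.derivative.eval a₀)) :
    ∃ a : R, F.IsRoot a ∧ a - a₀ ∈ maximalIdeal R := by
  classical
  let k := ResidueField R
  -- the residue point
  have hψ0 : F.eval₂ (residue R) (residue R a₀) = 0 := by
    rw [Polynomial.eval₂_hom, residue_eq_zero_iff]
    exact h₀
  let ψ : AdjoinRoot F →+* k := AdjoinRoot.lift (residue R) (residue R a₀) hψ0
  have hψof : ∀ r : R, ψ (AdjoinRoot.of F r) = residue R r := fun r => AdjoinRoot.lift_of hψ0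
  have hψroot : ψ (AdjoinRoot.root F) = residue R a₀ := AdjoinRoot.lift_root hψ0
  obtain ⟨i₀, hi₀⟩ := exists_single_one (ψ.comp (e.symm : (∀ i, A i) →+* AdjoinRoot F))
  set ε : AdjoinRoot F := e.symm (Pi.single i₀ 1) with hε
  have hψε : ψ ε = 1 := hi₀
  let π : AdjoinRoot F →+* A i₀ := (Pi.evalRingHom A i₀).comp (e : AdjoinRoot F →+* (∀ i, A i))
  have hπ : ∀ b, π b = e b i₀ := fun _ => rfl
  have hπsurj : Function.Surjective π := by
    intro z
    refine ⟨e.symm (Pi.single i₀ z), ?_⟩
    rw [hπ, RingEquiv.apply_symm_apply, Pi.single_eq_same]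
  have hπker : ∀ b, π b = 0 → b * ε = 0 := by
    intro b hb
    apply e.injective
    rw [map_mul, map_zero, hε, RingEquiv.apply_symm_apply]
    ext i
    by_cases hi : i = i₀
    · subst hi
      rw [Pi.mul_apply, ← hπ, hb, zero_mul, Pi.zero_apply]
    · rw [Pi.mul_apply, Pi.single_eq_of_ne hi, mul_zero, Pi.zero_apply]
  have hψπ : ∀ b, π b = 0 → ψ b = 0 := by
    intro b hb
    have := congr(ψ $(hπker b hb))
    rwa [map_mul, hψε, mul_one, map_zero] at this
  -- nonunits
  have hψmax : ∀ b, ψ b = 0 → π b ∈ maximalIdeal (A i₀) := by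
    intro b hb
    rw [mem_maximalIdeal, mem_nonunits_iff]
    intro hu
    obtain ⟨c, hc⟩ := hπsurj (hu.unit⁻¹ : (A i₀)ˣ)
    have h1 : π (b * c - 1) = 0 := by
      rw [map_sub, map_mul, hc, map_one, IsUnit.mul_val_inv, sub_self]
    have h2 := hψπ _ h1
    rw [map_sub, map_mul, hb, zero_mul, map_one, zero_sub, neg_eq_zero] at h2
    exact one_ne_zero h2
  let g : R →+* A i₀ := π.comp (AdjoinRoot.of F)
  have hg : ∀ r, g r = π (AdjoinRoot.of F r) := fun _ => rfl
  set x : A i₀ := π (AdjoinRoot.root F) with hx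
  set y : A i₀ := x - g a₀ with hy
  have hxy : x = g a₀ + y := by rw [hy]; ring
  have hymax : y ∈ maximalIdeal (A i₀) := by
    have : y = π (AdjoinRoot.root F - AdjoinRoot.of F a₀) := by
      rw [map_sub, hy, hx, hg]
    rw [this]
    apply hψmax
    rw [map_sub, hψroot, hψof, sub_self]
  -- evaluation of polynomials at x
  have hevalx : ∀ p : R[X], π (AdjoinRoot.mk F p) = (p.map g).eval x := by
    intro p
    rw [Polynomial.eval_map, hx]
    have : AdjoinRoot.mk F p = p.eval₂ (AdjoinRoot.of F) (AdjoinRoot.root F) := by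
      rw [← AdjoinRoot.aeval_eq]
      rfl
    rw [this, Polynomial.hom_eval₂]
  have hFx : (F.map g).eval x = 0 := by
    rw [← hevalx, AdjoinRoot.mk_self, map_zero]
  -- y ∈ m A
  have hymap : y ∈ Ideal.map g (maximalIdeal R) := by
    obtain ⟨c, hc⟩ := Polynomial.binomExpansion (F.map g) (g a₀) y
    rw [← hxy, hFx, Polynomial.eval_map, Polynomial.eval₂_at_apply, Polynomial.derivative_map,
      Polynomial.eval_map, Polynomial.eval₂_at_apply] at hc
    have hu : IsUnit (g (F.derivative.eval a₀) + c * y) := by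
      by_contra hnu
      have h3 : g (F.derivative.eval a₀) + c * y ∈ maximalIdeal (A i₀) := hnu
      have h4 : c * y ∈ maximalIdeal (A i₀) := Ideal.mul_mem_left _ _ hymax
      have h5 : g (F.derivative.eval a₀) ∈ maximalIdeal (A i₀) := by
        have := Ideal.sub_mem _ h3 h4
        rwa [add_sub_cancel_right] at this
      exact h5 (h₁.map g)
    have h6 : (g (F.derivative.eval a₀) + c * y) * y = - g (F.eval a₀) := by
      linear_combination -hc
    have h7 : y = hu.unit⁻¹ * (- g (F.eval a₀)) := by
      rw [← h6, ← mul_assoc, IsUnit.val_inv_mul, one_mul]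
    rw [h7]
    apply Ideal.mul_mem_left
    rw [← map_neg]
    exact Ideal.mem_map_of_mem _ (neg_mem h₀)
  -- surjectivity of g by Nakayama
  let _ : Algebra R (A i₀) := g.toAlgebra
  have halg : ∀ r, algebraMap R (A i₀) r = g r := fun _ => rfl
  let πl : AdjoinRoot F →ₐ[R] A i₀ := { π with commutes' := fun r => rfl }
  have hfin : Module.Finite R (AdjoinRoot F) := hF.finite_adjoinRoot
  have hfinA : Module.Finite R (A i₀) := Module.Finite.of_surjective πl.toLinearMap hπsurj
  have htop : (⊤ : Submodule R (A i₀)) ≤ LinearMap.range (Algebra.linearMap R (A i₀)) := by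
    apply Submodule.le_of_le_smul_of_le_jacobson_bot (I := maximalIdeal R) hfinA.fg_top
      (IsLocalRing.maximalIdeal_le_jacobson _)
    intro z _
    obtain ⟨b, rfl⟩ := hπsurj z
    obtain ⟨p, rfl⟩ := AdjoinRoot.mk_surjective b
    rw [hevalx, hxy]
    obtain ⟨c, hc⟩ := Polynomial.evalSubFactor (p.map g) (g a₀ + y) (g a₀)
    rw [add_sub_cancel_left] at hc
    have h8 : (p.map g).eval (g a₀ + y) = (p.map g).eval (g a₀) + c * y := by
      linear_combination hc
    rw [h8]
    apply Submodule.add_mem_sup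
    · refine ⟨p.eval a₀, ?_⟩
      rw [Polynomial.eval_map, Polynomial.eval₂_at_apply]
      rfl
    · rw [Ideal.smul_top_eq_map]
      change c * y ∈ Ideal.map (algebraMap R (A i₀)) (maximalIdeal R)
      exact Ideal.mul_mem_left _ _ hymap
  have hgsurj : Function.Surjective g := by
    intro z
    obtain ⟨r, hr⟩ := htop (Submodule.mem_top (x := z))
    exact ⟨r, hr⟩
  -- injectivity of g via coordinates of ε
  have hginj : Function.Injective g := by
    rw [injective_iff_map_eq_zero]
    intro r hr
    have h9 : AdjoinRoot.of F r * ε = 0 := hπker _ hr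
    let pb := AdjoinRoot.powerBasis' hF
    have h10 : ∃ j, pb.basis.repr ε j ∉ maximalIdeal R := by
      by_contra hcon
      push Not at hcon
      have h11 : ε = ∑ j, pb.basis.repr ε j • pb.basis j := (pb.basis.sum_repr ε).symm
      have h12 : ψ ε = 0 := by
        rw [h11, map_sum]
        apply Finset.sum_eq_zero
        intro j _
        rw [Algebra.smul_def, map_mul]
        have : ψ (algebraMap R (AdjoinRoot F) (pb.basis.repr ε j)) = 0 := by
          change ψ (AdjoinRoot.of F _) = 0
          rw [hψof, residue_eq_zero_iff]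
          exact hcon j
        rw [this, zero_mul]
      rw [hψε] at h12
      exact one_ne_zero h12
    obtain ⟨j, hj⟩ := h10
    have hju : IsUnit (pb.basis.repr ε j) := by
      by_contra h
      exact hj h
    have h13 : r • ε = 0 := by
      rw [Algebra.smul_def]
      exact h9
    have h14 := congr(pb.basis.repr $h13 j)
    rw [map_smul, Finsupp.smul_apply, map_zero, Finsupp.zero_apply, smul_eq_mul] at h14
    exact (hju.mul_left_eq_zero).mp h14
  -- conclusion
  obtain ⟨a, ha⟩ := hgsurj x
  refine ⟨a, ?_, ?_⟩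
  · apply hginj
    rw [map_zero, ← Polynomial.eval₂_at_apply, ← Polynomial.eval_map, ha, hFx]
  · rw [← residue_eq_zero_iff, map_sub, sub_eq_zero]
    have h15 : π (AdjoinRoot.of F a - AdjoinRoot.root F) = 0 := by
      rw [map_sub, ← hg, ha, hx, sub_self]
    have h16 := hψπ _ h15
    rw [map_sub, hψof, hψroot, sub_eq_zero] at h16
    exact h16

/-- If `R[X]/(F)` is a finite product of local rings for every monic `F`, then `R` is henselian. -/
theorem henselianLocalRing_of_adjoinRoot_pi_local (R : Type u) [CommRing R] [IsLocalRing R]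
    (h : ∀ F : R[X], F.Monic →
      ∃ (ι : Type v) (_ : Fintype ι) (A : ι → Type w) (_ : ∀ i, CommRing (A i)),
        (∀ i, IsLocalRing (A i)) ∧ Nonempty (AdjoinRoot F ≃+* (∀ i, A i))) :
    HenselianLocalRing R where
  is_henselian F hF a₀ h₀ h₁ := by
    obtain ⟨ι, _, A, _, hA, ⟨e⟩⟩ := h F hF
    exact exists_root_of_pi_local F hF A e a₀ h₀ h₁

end Groth.Agent.Lib.HenselOfPiLocal

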