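import Mathlib

/-!
# A local ring all of whose quasi-finite localizations are finite is henselian

If `R` is a local ring such that for every monic `f` the localization of `R[X]/(f)` at a prime
over the maximal ideal is a finite `R`-module, then `R` is henselian.
-/

set_option autoImplicit false
universe u

namespace Groth.Agent.Lib.HenselOfQF22

open Polynomial IsLocalRing

variable {R : Type u} [CommRing R] [IsLocalRing R]

/-- The core: a simple root modulo `𝔪` lifts as soon as the localization of `R[X]/(f)` at the
corresponding prime is finite over `R`. -/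
theorem exists_root_of_finite (f : R[X]) (hf : f.Monic) (a₀ : R)
    (h₁ : f.eval a₀ ∈ maximalIdeal R) (h₂ : IsUnit (f.derivative.eval a₀))
    (H : ∀ (q : Ideal (AdjoinRoot f)) [q.IsPrime], q.LiesOver (maximalIdeal R) →
      Module.Finite R (Localization.AtPrime q)) :
    ∃ a : R, f.IsRoot a ∧ a - a₀ ∈ maximalIdeal R := by
  classical
  set S := AdjoinRoot f with hS
  set t : S := AdjoinRoot.root f with ht
  have hres0 : f.eval₂ (residue R) (residue R a₀) = 0 := by
    rw [Polynomial.eval₂_at_apply]
    exact (residue_eq_zero_iff _).2 h₁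
  let χ : S →+* ResidueField R := AdjoinRoot.lift (residue R) (residue R a₀) hres0
  have hχmk : ∀ P : R[X], χ (AdjoinRoot.mk f P) = residue R (P.eval a₀) := by
    intro P
    rw [AdjoinRoot.lift_mk, Polynomial.eval₂_at_apply]
  have hχof : ∀ r : R, χ (algebraMap R S r) = residue R r := by
    intro r
    rw [AdjoinRoot.algebraMap_eq]
    exact AdjoinRoot.lift_of hres0
  set q : Ideal S := RingHom.ker χ with hq
  have hqprime : q.IsPrime := RingHom.ker_isPrime χ
  have hlies : q.LiesOver (maximalIdeal R) := by
    constructor
    ext r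
    rw [Ideal.under, Ideal.mem_comap, hq, RingHom.mem_ker, hχof, residue_eq_zero_iff]
  have hfin : Module.Finite R (Localization.AtPrime q) := H q hlies
  set L := Localization.AtPrime q with hL
  set 𝔪L : Ideal L := (maximalIdeal R).map (algebraMap R L) with h𝔪L
  -- the retraction to the residue field
  have hunits : ∀ y : q.primeCompl, IsUnit (χ y) := by
    rintro ⟨y, hy⟩
    rw [isUnit_iff_ne_zero]
    exact fun h => hy (RingHom.mem_ker.2 h)
  let χL : L →+* ResidueField R := IsLocalization.lift (M := q.primeCompl) (g := χ) hunits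
  have hχL : ∀ s : S, χL (algebraMap S L s) = χ s := fun s => IsLocalization.lift_eq hunits s
  have hχLof : ∀ r : R, χL (algebraMap R L r) = residue R r := by
    intro r
    rw [IsScalarTower.algebraMap_apply R S L, hχL, hχof]
  have hχLm : ∀ x ∈ 𝔪L, χL x = 0 := by
    have hle : 𝔪L ≤ RingHom.ker χL := by
      rw [h𝔪L, Ideal.map_le_iff_le_comap]
      intro r hr
      rw [Ideal.mem_comap, RingHom.mem_ker, hχLof]
      exact (residue_eq_zero_iff _).2 hr
    exact fun x hx => hle hx
  -- division of `f` by `X - a₀`
  set g : R[X] := f /ₘ (X - C a₀) with hg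
  have hdiv : (X - C a₀) * g + C (f.eval a₀) = f := by
    have := Polynomial.modByMonic_add_div f (X - C a₀)
    rw [Polynomial.modByMonic_X_sub_C_eq_C_eval] at this
    rw [add_comm]
    exact this
  have hgeval : g.eval a₀ = f.derivative.eval a₀ := by
    have hd : f.derivative = g + (X - C a₀) * g.derivative := by
      conv_lhs => rw [← hdiv]
      simp only [derivative_add, derivative_mul, derivative_sub, derivative_X, derivative_C,
        sub_zero, one_mul, add_zero]
    rw [hd]
    simp
  -- `g(t)` is a unit of `L`
  have hgunit : IsUnit (algebraMap S L (AdjoinRoot.mk f g)) := by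
    have : AdjoinRoot.mk f g ∈ q.primeCompl := by
      intro h
      have h' : AdjoinRoot.mk f g ∈ q := h
      rw [hq, RingHom.mem_ker, hχmk, hgeval, residue_eq_zero_iff] at h'
      exact (mem_maximalIdeal _).1 h' h₂
    exact IsLocalization.map_units L ⟨_, this⟩
  set tL : L := algebraMap S L t with htL
  -- `t - a₀ ∈ 𝔪 L`
  have htmem : tL - algebraMap R L a₀ ∈ 𝔪L := by
    have h0 : (t - algebraMap R S a₀) * AdjoinRoot.mk f g + algebraMap R S (f.eval a₀) = 0 := by
      have : AdjoinRoot.mk f ((X - C a₀) * g + C (f.eval a₀)) = 0 := by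
        rw [hdiv]
        exact AdjoinRoot.mk_self
      rw [map_add, map_mul, map_sub, AdjoinRoot.mk_X, AdjoinRoot.mk_C, AdjoinRoot.mk_C] at this
      rw [AdjoinRoot.algebraMap_eq]
      exact this
    have h1 := congrArg (algebraMap S L) h0
    rw [map_add, map_mul, map_sub, map_zero, ← IsScalarTower.algebraMap_apply,
      ← IsScalarTower.algebraMap_apply] at h1
    obtain ⟨v, hv⟩ := hgunit.exists_right_inv
    have h2 : tL - algebraMap R L a₀ = -(algebraMap R L (f.eval a₀)) * v := by
      have h3 : (tL - algebraMap R L a₀) * algebraMap S L (AdjoinRoot.mk f g) =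
          -(algebraMap R L (f.eval a₀)) := by
        linear_combination h1
      calc tL - algebraMap R L a₀
          = (tL - algebraMap R L a₀) * (algebraMap S L (AdjoinRoot.mk f g) * v) := by
            rw [hv, mul_one]
        _ = -(algebraMap R L (f.eval a₀)) * v := by rw [← mul_assoc, h3]
    rw [h2]
    exact Ideal.mul_mem_right _ _ (neg_mem (Ideal.mem_map_of_mem _ h₁))
  -- elements of `S` are congruent to elements of `R`
  have hA : ∀ s : S, ∃ r : R, algebraMap S L s - algebraMap R L r ∈ 𝔪L := by
    intro s
    obtain ⟨P, rfl⟩ := AdjoinRoot.mk_surjective s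
    refine ⟨P.eval a₀, ?_⟩
    have e1 : algebraMap S L (AdjoinRoot.mk f P) = (P.map (algebraMap R L)).eval tL := by
      rw [← AdjoinRoot.aeval_eq, htL, ht, ← Polynomial.aeval_algebraMap_apply L (AdjoinRoot.root f) P,
        Polynomial.aeval_def, Polynomial.eval_map]
    have e2 : algebraMap R L (P.eval a₀) = (P.map (algebraMap R L)).eval (algebraMap R L a₀) := by
      rw [Polynomial.eval_map, Polynomial.eval₂_at_apply]
    rw [e1, e2]
    obtain ⟨c, hc⟩ := Polynomial.sub_dvd_eval_sub tL (algebraMap R L a₀) (P.map (algebraMap R L))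
    rw [hc]
    exact Ideal.mul_mem_right _ _ htmem
  have hB : ∀ x : L, ∃ r : R, x - algebraMap R L r ∈ 𝔪L := by
    intro x
    obtain ⟨s, u, rfl⟩ := IsLocalization.exists_mk'_eq q.primeCompl x
    obtain ⟨rs, hrs⟩ := hA s
    obtain ⟨ru, hru⟩ := hA u
    have hruunit : IsUnit ru := by
      by_contra hnu
      have h1 : ru ∈ maximalIdeal R := (mem_maximalIdeal _).2 hnu
      have h2 := hχLm _ hru
      rw [map_sub, hχL, hχLof, (residue_eq_zero_iff _).2 h1, sub_zero] at h2
      exact u.2 (RingHom.mem_ker.2 h2)
    obtain ⟨w, hw⟩ := hruunit.exists_left_inv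
    refine ⟨rs * w, ?_⟩
    have huL : IsUnit (algebraMap S L u) := IsLocalization.map_units L u
    obtain ⟨v, hv⟩ := huL.exists_right_inv
    have hmk : IsLocalization.mk' L s u * algebraMap S L u = algebraMap S L s :=
      IsLocalization.mk'_spec L s u
    have key : (IsLocalization.mk' L s u - algebraMap R L (rs * w)) * algebraMap S L u ∈ 𝔪L := by
      have : (IsLocalization.mk' L s u - algebraMap R L (rs * w)) * algebraMap S L u =
          (algebraMap S L s - algebraMap R L rs) -
            algebraMap R L (rs * w) * (algebraMap S L u - algebraMap R L ru) := by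
        rw [sub_mul, hmk]
        have hwr : algebraMap R L (rs * w) * algebraMap R L ru = algebraMap R L rs := by
          rw [← map_mul, mul_assoc, hw, mul_one]
        linear_combination (-1 : L) * hwr
      rw [this]
      exact Ideal.sub_mem _ hrs (Ideal.mul_mem_left _ _ hru)
    have : IsLocalization.mk' L s u - algebraMap R L (rs * w) =
        ((IsLocalization.mk' L s u - algebraMap R L (rs * w)) * algebraMap S L u) * v := by
      rw [mul_assoc, hv, mul_one]
    rw [this]
    exact Ideal.mul_mem_right _ _ key
  -- Nakayama: `R → L` is surjective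
  have hsurj : Function.Surjective (algebraMap R L) := by
    have htop : (⊤ : Submodule R L) ≤ Submodule.span R {(1 : L)} := by
      apply Submodule.le_of_le_smul_of_le_jacobson_bot (I := maximalIdeal R) hfin.fg_top
        (IsLocalRing.maximalIdeal_le_jacobson _)
      intro x _
      obtain ⟨r, hr⟩ := hB x
      have hx : x = algebraMap R L r + (x - algebraMap R L r) := by ring
      rw [hx]
      refine Submodule.add_mem_sup ?_ ?_
      · rw [Algebra.algebraMap_eq_smul_one]
        exact Submodule.smul_mem _ _ (Submodule.mem_span_singleton_self _)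
      · rw [Ideal.smul_top_eq_map]
        exact hr
    intro x
    obtain ⟨r, hr⟩ := Submodule.mem_span_singleton.1 (htop (Submodule.mem_top : x ∈ ⊤))
    exact ⟨r, by rw [Algebra.algebraMap_eq_smul_one, hr]⟩
  -- flatness, freeness, injectivity
  have hfreeS : Module.Free R S := hf.free_adjoinRoot
  have hflatSL : Module.Flat S L := IsLocalization.flat L q.primeCompl
  have hflat : Module.Flat R L := Module.Flat.trans R S L
  have hfree : Module.Free R L := Module.free_of_flat_of_isLocalRing
  have hinj : Function.Injective (algebraMap R L) := by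
    let b := Module.Free.chooseBasis R L
    obtain ⟨i₀⟩ : Nonempty (Module.Free.ChooseBasisIndex R L) := b.index_nonempty
    let ι : R →ₗ[R] L := LinearMap.toSpanSingleton R L (b i₀)
    have hι : Function.Injective ι := by
      rw [injective_iff_map_eq_zero]
      intro r hr
      rw [LinearMap.toSpanSingleton_apply] at hr
      have := congrArg (fun z => b.repr z i₀) hr
      simpa using this
    have := OrzechProperty.injective_of_surjective_of_injective ι (Algebra.linearMap R L) hι hsurj
    exact this
  -- the root
  obtain ⟨a, ha⟩ := hsurj tL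
  refine ⟨a, ?_, ?_⟩
  · apply hinj
    rw [map_zero, ← Polynomial.eval₂_at_apply, ha, ← Polynomial.eval_map]
    have e1 : algebraMap S L (AdjoinRoot.mk f f) = (f.map (algebraMap R L)).eval tL := by
      rw [← AdjoinRoot.aeval_eq, htL, ht, ← Polynomial.aeval_algebraMap_apply L (AdjoinRoot.root f) f,
        Polynomial.aeval_def, Polynomial.eval_map]
    rw [← e1, AdjoinRoot.mk_self, map_zero]
  · have h1 : algebraMap R L (a - a₀) ∈ 𝔪L := by
      rw [map_sub, ha]
      exact htmem
    have h2 := hχLm _ h1
    rw [hχLof, residue_eq_zero_iff] at h2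
    exact h2

end Groth.Agent.Lib.HenselOfQF22
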