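import Mathlib.RingTheory.Henselian
import Mathlib.RingTheory.AdjoinRoot
import Mathlib.RingTheory.Nakayama
import Mathlib.Algebra.Polynomial.Identities
import Mathlib.RingTheory.QuasiFinite.Basic
import Mathlib.RingTheory.Flat.EquationalCriterion
import Mathlib.RingTheory.Flat.Localization
import Mathlib.RingTheory.Localization.Away.AdjoinRoot
import Mathlib.Tactic.LinearCombination

set_option autoImplicit false
universe u

namespace Groth.Agent.Lib.HenselOfSplit

open IsLocalRing Polynomial

variable {R : Type u} [CommRing R]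

lemma eq_add_mul_divByMonic (F : R[X]) (a₀ : R) :
    F = C (F.eval a₀) + (X - C a₀) * (F /ₘ (X - C a₀)) := by
  have := Polynomial.modByMonic_add_div F (X - C a₀)
  rw [Polynomial.modByMonic_X_sub_C_eq_C_eval] at this
  exact this.symm

lemma eval_divByMonic (F : R[X]) (a₀ : R) :
    (F /ₘ (X - C a₀)).eval a₀ = F.derivative.eval a₀ := by
  have h := congr(Polynomial.eval a₀ (Polynomial.derivative $(eq_add_mul_divByMonic F a₀)))
  simp only [Polynomial.derivative_add, Polynomial.derivative_C, Polynomial.derivative_mul,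
    Polynomial.derivative_sub, Polynomial.derivative_X, Polynomial.eval_add, Polynomial.eval_mul,
    Polynomial.eval_sub, Polynomial.eval_X, Polynomial.eval_C, Polynomial.eval_zero,
    Polynomial.eval_one] at h
  rw [h]
  ring

set_option maxHeartbeats 800000 in
/-- Key step for Stacks 04GG (11) ⇒ (1). -/
theorem exists_root_of_split [IsLocalRing R]
    (h : ∀ (S : Type u) [CommRing S] [Algebra R S] [Algebra.FiniteType R S],
      ∃ e : S, IsIdempotentElem e ∧ Module.Finite R (S ⧸ Ideal.span ({1 - e} : Set S)) ∧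
        ∀ (q : Ideal (S ⧸ Ideal.span ({e} : Set S))) [q.IsPrime],
          q.LiesOver (IsLocalRing.maximalIdeal R) → ¬ Algebra.QuasiFiniteAt R q)
    (F : R[X]) (hF : F.Monic) (a₀ : R) (h₀ : F.eval a₀ ∈ maximalIdeal R)
    (h₁ : IsUnit (F.derivative.eval a₀)) :
    ∃ a : R, F.IsRoot a ∧ a - a₀ ∈ maximalIdeal R := by
  classical
  let k := ResidueField R
  set H := F /ₘ (X - C a₀) with hH
  have hFH : F = C (F.eval a₀) + (X - C a₀) * H := eq_add_mul_divByMonic F a₀
  have hHa : H.eval a₀ = F.derivative.eval a₀ := eval_divByMonic F a₀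
  have hfinB : Module.Finite R (AdjoinRoot F) := hF.finite_adjoinRoot
  have hfreeB : Module.Free R (AdjoinRoot F) := hF.free_adjoinRoot
  let hB : AdjoinRoot F := AdjoinRoot.mk F H
  let S := Localization.Away hB
  obtain ⟨e, he, hfinA, hq⟩ := h S
  -- the residue point
  have hψ0 : F.eval₂ (residue R) (residue R a₀) = 0 := by
    rw [Polynomial.eval₂_hom, residue_eq_zero_iff]
    exact h₀
  let ψB : AdjoinRoot F →+* k := AdjoinRoot.lift (residue R) (residue R a₀) hψ0
  have hψBof : ∀ r : R, ψB (AdjoinRoot.of F r) = residue R r := fun r => AdjoinRoot.lift_of hψ0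
  have hψBroot : ψB (AdjoinRoot.root F) = residue R a₀ := AdjoinRoot.lift_root hψ0
  have hψBmk : ∀ p : R[X], ψB (AdjoinRoot.mk F p) = residue R (p.eval a₀) := by
    intro p
    change AdjoinRoot.lift (residue R) (residue R a₀) hψ0 (AdjoinRoot.mk F p) = _
    rw [AdjoinRoot.lift_mk, Polynomial.eval₂_hom]
  have hψBunit : IsUnit (ψB hB) := by
    rw [hψBmk, hHa]
    exact h₁.map _
  let ψS : S →+* k := IsLocalization.Away.lift hB hψBunit
  have hψSB : ∀ b, ψS (algebraMap (AdjoinRoot F) S b) = ψB b :=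
    fun b => IsLocalization.Away.lift_eq hB hψBunit b
  have hψSR : ∀ r, ψS (algebraMap R S r) = residue R r := by
    intro r
    rw [IsScalarTower.algebraMap_apply R (AdjoinRoot F) S, hψSB, AdjoinRoot.algebraMap_eq, hψBof]
  -- ψS e = 1
  have hψSe : ψS e = 1 := by
    have hidem : ψS e * (ψS e - 1) = 0 := by
      rw [mul_sub, ← map_mul, he.eq, mul_one, sub_self]
    rcases mul_eq_zero.mp hidem with h0 | h1'
    · exfalso
      let ψ' : S ⧸ Ideal.span ({e} : Set S) →+* k :=
        Ideal.Quotient.lift _ ψS (by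
          intro x hx
          obtain ⟨c, rfl⟩ := Ideal.mem_span_singleton'.mp hx
          rw [map_mul, h0, mul_zero])
      have hψ' : ∀ x, ψ' (Ideal.Quotient.mk _ x) = ψS x := fun x => Ideal.Quotient.lift_mk _ _ _
      let q : Ideal (S ⧸ Ideal.span ({e} : Set S)) := RingHom.ker ψ'
      have hqp : q.IsPrime := RingHom.ker_isPrime ψ'
      have hLO : q.LiesOver (maximalIdeal R) := by
        refine ⟨?_⟩
        ext r
        rw [Ideal.under_def, Ideal.mem_comap, RingHom.mem_ker]
        have : algebraMap R (S ⧸ Ideal.span ({e} : Set S)) r =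
            Ideal.Quotient.mk _ (algebraMap R S r) := rfl
        rw [this, hψ', hψSR, residue_eq_zero_iff]
      exact hq q hLO inferInstance
    · exact sub_eq_zero.mp h1'
  -- S = R + m S
  let I : Ideal S := Ideal.map (algebraMap R S) (maximalIdeal R)
  let φ : S →+* S ⧸ I := Ideal.Quotient.mk I
  let ιB : AdjoinRoot F →+* S := algebraMap (AdjoinRoot F) S
  have hιBof : ∀ r, ιB (AdjoinRoot.of F r) = algebraMap R S r := by
    intro r
    rw [IsScalarTower.algebraMap_apply R (AdjoinRoot F) S, AdjoinRoot.algebraMap_eq]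
  have hunitS : IsUnit (ιB hB) := IsLocalization.Away.algebraMap_isUnit hB
  have hrootB : (AdjoinRoot.root F - AdjoinRoot.of F a₀) * hB = - AdjoinRoot.of F (F.eval a₀) := by
    have h1 := congr(AdjoinRoot.mk F $hFH)
    rw [AdjoinRoot.mk_self, map_add, map_mul, map_sub, AdjoinRoot.mk_C, AdjoinRoot.mk_X,
      AdjoinRoot.mk_C] at h1
    linear_combination -h1
  have hρ : φ (ιB (AdjoinRoot.root F - AdjoinRoot.of F a₀)) = 0 := by
    rw [Ideal.Quotient.eq_zero_iff_mem]
    have h2 : ιB (AdjoinRoot.root F - AdjoinRoot.of F a₀) * ιB hB =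
        - algebraMap R S (F.eval a₀) := by
      rw [← map_mul, hrootB, map_neg, hιBof]
    have h3 : ιB (AdjoinRoot.root F - AdjoinRoot.of F a₀) =
        - algebraMap R S (F.eval a₀) * (hunitS.unit⁻¹ : Sˣ) := by
      rw [← h2, mul_assoc, IsUnit.mul_val_inv, mul_one]
    rw [h3]
    apply Ideal.mul_mem_right
    apply neg_mem
    exact Ideal.mem_map_of_mem _ h₀
  have hφmk : ∀ p : R[X], φ (ιB (AdjoinRoot.mk F p)) = φ (algebraMap R S (p.eval a₀)) := by
    intro p
    obtain ⟨c, hc⟩ := Polynomial.evalSubFactor (p.map (AdjoinRoot.of F)) (AdjoinRoot.root F)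
      (AdjoinRoot.of F a₀)
    have h4 : (p.map (AdjoinRoot.of F)).eval (AdjoinRoot.root F) = AdjoinRoot.mk F p := by
      rw [Polynomial.eval_map, ← AdjoinRoot.algebraMap_eq, ← Polynomial.aeval_def,
        AdjoinRoot.aeval_eq]
    have h5 : (p.map (AdjoinRoot.of F)).eval (AdjoinRoot.of F a₀) = AdjoinRoot.of F (p.eval a₀) := by
      rw [Polynomial.eval_map, Polynomial.eval₂_at_apply]
    rw [h4, h5] at hc
    have h6 : AdjoinRoot.mk F p = AdjoinRoot.of F (p.eval a₀) +
        c * (AdjoinRoot.root F - AdjoinRoot.of F a₀) := by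
      rw [← hc]; ring
    rw [h6, map_add, map_add, map_mul, map_mul, hρ, mul_zero, add_zero, hιBof]
  have hS : ∀ s : S, ∃ r : R, φ s = φ (algebraMap R S r) := by
    intro s
    obtain ⟨n, b, hs⟩ := IsLocalization.Away.surj hB s
    obtain ⟨p, rfl⟩ := AdjoinRoot.mk_surjective b
    have hu : IsUnit (H.eval a₀) := hHa ▸ h₁
    obtain ⟨u', hu'⟩ := hu.exists_right_inv
    refine ⟨u' ^ n * p.eval a₀, ?_⟩
    have h7 := congr(φ $hs)
    change φ (s * ιB hB ^ n) = φ (ιB (AdjoinRoot.mk F p)) at h7
    rw [map_mul, map_pow, hφmk, hφmk] at h7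
    have h8 : φ (algebraMap R S (H.eval a₀)) ^ n * φ (algebraMap R S u') ^ n = 1 := by
      rw [← mul_pow, ← map_mul, ← map_mul, hu', map_one, map_one, one_pow]
    calc φ s = φ s * (φ (algebraMap R S (H.eval a₀)) ^ n * φ (algebraMap R S u') ^ n) := by
          rw [h8, mul_one]
      _ = φ (algebraMap R S (p.eval a₀)) * φ (algebraMap R S u') ^ n := by
          rw [← mul_assoc, h7]
      _ = φ (algebraMap R S (u' ^ n * p.eval a₀)) := by
          rw [map_mul, map_mul, map_pow, map_pow, mul_comm]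
  -- A = S/(1-e)
  let J : Ideal S := Ideal.span ({1 - e} : Set S)
  let πA : S →+* S ⧸ J := Ideal.Quotient.mk J
  have halgA : ∀ r, algebraMap R (S ⧸ J) r = πA (algebraMap R S r) := fun _ => rfl
  have htop : (⊤ : Submodule R (S ⧸ J)) ≤ LinearMap.range (Algebra.linearMap R (S ⧸ J)) := by
    apply Submodule.le_of_le_smul_of_le_jacobson_bot (I := maximalIdeal R) hfinA.fg_top
      (IsLocalRing.maximalIdeal_le_jacobson _)
    intro z _
    obtain ⟨s, rfl⟩ := Ideal.Quotient.mk_surjective z
    obtain ⟨r, hr⟩ := hS s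
    have h9 : s - algebraMap R S r ∈ I := Ideal.Quotient.eq.mp hr
    have h10 : Ideal.Quotient.mk J s = algebraMap R (S ⧸ J) r + πA (s - algebraMap R S r) := by
      rw [halgA, ← map_add]
      congr 1
      ring
    rw [h10]
    apply Submodule.add_mem_sup
    · exact ⟨r, rfl⟩
    · rw [Ideal.smul_top_eq_map]
      change πA (s - algebraMap R S r) ∈ Ideal.map (algebraMap R (S ⧸ J)) (maximalIdeal R)
      have h11 : algebraMap R (S ⧸ J) = πA.comp (algebraMap R S) := rfl
      rw [h11, ← Ideal.map_map]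
      exact Ideal.mem_map_of_mem _ h9
  have hgsurj : Function.Surjective (algebraMap R (S ⧸ J)) := by
    intro z
    obtain ⟨r, hr⟩ := htop (Submodule.mem_top (x := z))
    exact ⟨r, hr⟩
  -- injectivity via flatness
  have hflat : Module.Flat R S := Module.Flat.trans R (AdjoinRoot F) S
  have hginj : Function.Injective (algebraMap R (S ⧸ J)) := by
    rw [injective_iff_map_eq_zero]
    intro r hr
    rw [halgA, Ideal.Quotient.eq_zero_iff_mem] at hr
    obtain ⟨c, hc⟩ := Ideal.mem_span_singleton'.mp hr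
    have h12 : r • e = 0 := by
      rw [Algebra.smul_def, ← hc, mul_assoc, sub_mul, one_mul, he.eq, sub_self, mul_zero]
    have h13 : ∑ _i : Unit, (fun _ : Unit => r) _i • (fun _ : Unit => e) _i = 0 := by
      simpa using h12
    obtain ⟨l, a, y, hx, ha⟩ := Module.Flat.isTrivialRelation_of_sum_smul_eq_zero h13
    have hx' : e = ∑ j, a () j • y j := hx ()
    have h14 : ∃ j, a () j ∉ maximalIdeal R := by
      by_contra hcon
      push Not at hcon
      have h15 : ψS e = 0 := by
        rw [hx', map_sum]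
        apply Finset.sum_eq_zero
        intro j _
        rw [Algebra.smul_def, map_mul, hψSR, (residue_eq_zero_iff _).mpr (hcon j), zero_mul]
      rw [hψSe] at h15
      exact one_ne_zero h15
    obtain ⟨j, hj⟩ := h14
    have hju : IsUnit (a () j) := by
      by_contra hnu
      exact hj hnu
    have h16 := ha j
    simp only [Finset.univ_unique, Finset.sum_singleton] at h16
    exact (hju.mul_left_eq_zero).mp h16
  -- conclusion
  obtain ⟨a, ha⟩ := hgsurj (πA (ιB (AdjoinRoot.root F)))
  refine ⟨a, ?_, ?_⟩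
  · apply hginj
    rw [map_zero, ← Polynomial.eval₂_at_apply, ha]
    have h17 : F.eval₂ (algebraMap R (S ⧸ J)) (πA (ιB (AdjoinRoot.root F))) =
        πA (ιB (F.eval₂ (AdjoinRoot.of F) (AdjoinRoot.root F))) := by
      rw [Polynomial.hom_eval₂, Polynomial.hom_eval₂]
      congr 1
    rw [h17, AdjoinRoot.eval₂_root, map_zero, map_zero]
  · rw [← residue_eq_zero_iff, map_sub, sub_eq_zero]
    rw [halgA] at ha
    have h18 : algebraMap R S a - ιB (AdjoinRoot.root F) ∈ J := Ideal.Quotient.eq.mp ha
    obtain ⟨c, hc⟩ := Ideal.mem_span_singleton'.mp h18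
    have h19 := congr(ψS $hc)
    rw [map_mul, map_sub, map_one, hψSe, sub_self, mul_zero, map_sub, hψSR] at h19
    change 0 = residue R a - ψS (algebraMap (AdjoinRoot F) S (AdjoinRoot.root F)) at h19
    rw [hψSB, hψBroot] at h19
    exact (sub_eq_zero.mp h19.symm)

/-- Stacks 04GG (11) ⇒ (1). -/
theorem henselianLocalRing_of_split [IsLocalRing R]
    (h : ∀ (S : Type u) [CommRing S] [Algebra R S] [Algebra.FiniteType R S],
      ∃ e : S, IsIdempotentElem e ∧ Module.Finite R (S ⧸ Ideal.span ({1 - e} : Set S)) ∧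
        ∀ (q : Ideal (S ⧸ Ideal.span ({e} : Set S))) [q.IsPrime],
          q.LiesOver (IsLocalRing.maximalIdeal R) → ¬ Algebra.QuasiFiniteAt R q) :
    HenselianLocalRing R where
  is_henselian F hF a₀ h₀ h₁ := exists_root_of_split h F hF a₀ h₀ h₁

end Groth.Agent.Lib.HenselOfSplit
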