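import Groth.Agent.Lib.LocConst5C
import Groth.Agent.Lib.H80DvrOpenFlat2
import Groth.Agent.Lib.H77GeomRedSch

/-!
# Local constancy of the number of geometric components, part D (helper5): the DVR lemma

`X` proper over a discrete valuation ring `A`, universally open at all points of the closed fibre,
closed fibre geometrically reduced. Then the geometric number of connected components of the
generic fibre is at most that of the closed fibre.
-/

set_option autoImplicit false
universe u

open CategoryTheory CategoryTheory.Limits AlgebraicGeometry TopologicalSpace Opposite TensorProduct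
  IsLocalRing

namespace Groth.Agent.Lib.LocConst5

open Groth.Agent.Lib.GeomCompLSC5 Groth.Agent.Lib.H47DvrFibre Groth.Agent.Lib.H80DvrOpenFlat
  Groth.Agent.Lib.H77GeomRedSch

section Flat

variable (A : Type u) [CommRing A] [IsDomain A] [IsDiscreteValuationRing A]
  {X : Scheme.{u}} (p : X ⟶ Spec (CommRingCat.of A))

/-- Over a discrete valuation ring, a morphism locally of finite type which is universally open at
the points of the closed fibre, with reduced closed fibre, is flat. -/
theorem flat_of_isUnivOpenAt_of_isReduced [LocallyOfFiniteType p]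
    (hopen : ∀ x : X, p.base x = closedPoint A → EGA43.IsUnivOpenAt p x)
    (hred : AlgebraicGeometry.IsReduced (p.fiber (closedPoint A))) : Flat p := by
  apply Flat.of_stalkMap
  intro x
  by_cases hx : p.base x = closedPoint A
  · apply flat_stalkMap_of_isOpenAt_of_isReduced p x hx
    · intro z _ _
      apply isOpenAt_of_isUnivOpenAt
      apply hopen
      rw [← hx]
      have hz : (p.fiberι (p.base x)).base z ∈ p.base ⁻¹' {p.base x} := by
        rw [← p.range_fiberι (p.base x)]
        exact Set.mem_range_self z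
      exact hz
    · have : ∀ (a : ↥(Spec (CommRingCat.of A))) (ha : p.base x = a)
          (_ : AlgebraicGeometry.IsReduced (p.fiber a)),
          _root_.IsReduced ((p.fiber (p.base x)).presheaf.stalk (p.asFiber x)) := by
        rintro _ rfl h
        infer_instance
      exact this _ hx hred
  · obtain ⟨ϖ, hϖ⟩ := IsDiscreteValuationRing.exists_irreducible A
    have hmax : maximalIdeal A = Ideal.span {ϖ} := hϖ.maximalIdeal_eq
    have hnot : ϖ ∉ (p x).asIdeal := by
      intro hmem
      apply hx
      apply PrimeSpectrum.ext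
      change (p x).asIdeal = maximalIdeal A
      apply le_antisymm (IsLocalRing.le_maximalIdeal (p x).isPrime.ne_top)
      rw [hmax, Ideal.span_singleton_le_iff_mem]
      exact hmem
    have hunit := isUnit_toStalkX_of_not_mem p ϖ x hnot
    apply flat_stalkMap_of_flat_toStalkX p x
    apply flat_of_regular_of_dvr (toStalkX p x) ϖ hϖ
    intro b hb
    exact (hunit.mul_right_eq_zero).mp hb

end Flat

section Sections

variable {A : Type u} [CommRing A] [IsDomain A]
  {X : Scheme.{u}} (p : X ⟶ Spec (CommRingCat.of A)) [Flat p]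

/-- Nonzero elements of the base act regularly on sections of a flat scheme over any open. -/
theorem regular_resTop (a : A) (ha : a ≠ 0) (W : X.Opens) (s : Γ(X, W))
    (h : resTop W (toΓ p a) * s = 0) : s = 0 := by
  let ι := {G : X.affineOpens // G.1 ≤ W}
  let U : ι → X.Opens := fun G => G.1.1
  have hcover : W ≤ iSup U := by
    intro x hx
    obtain ⟨_, ⟨V, hV, rfl⟩, hxV, hVW⟩ :=
      X.isBasis_affineOpens.exists_subset_of_mem_open hx W.2
    exact Opens.mem_iSup.mpr ⟨⟨⟨V, hV⟩, hVW⟩, hxV⟩
  refine TopCat.Sheaf.eq_of_locally_eq' X.sheaf U W (fun G => homOfLE G.2) hcover _ _ fun G => ?_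
  change X.presheaf.map (homOfLE G.2).op s = X.presheaf.map (homOfLE G.2).op 0
  rw [map_zero]
  apply regular_toΓG p a ha G.1.2
  have h1 : toΓG p G.1.1 a = X.presheaf.map (homOfLE G.2).op (resTop W (toΓ p a)) :=
    (res_resTop (homOfLE G.2) (toΓ p a)).symm
  rw [h1, ← map_mul, h, map_zero]

end Sections

section GeomRed

variable {A : Type u} [CommRing A]
  {X : Scheme.{u}} (p : X ⟶ Spec (CommRingCat.of A))

theorem fromSpec_comp {V : X.Opens} (hV : IsAffineOpen V) :
    hV.fromSpec ≫ p = Spec.map (CommRingCat.ofHom (toΓG p V)) := by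
  have h1 := IsAffineOpen.SpecMap_appLE_fromSpec p (isAffineOpen_top (Spec (CommRingCat.of A))) hV
    (le_top : V ≤ p ⁻¹ᵁ ⊤)
  rw [← h1, IsAffineOpen.fromSpec_top, Scheme.isoSpec_Spec_inv, ← Spec.map_comp]
  congr 1

/-- If the fibre of `p` over the prime `y` is geometrically reduced, then for every affine open
`V` of `X`, the algebra `L ⊗_A Γ(X, V)` is reduced, for every field `L` over `κ(y)`. -/
theorem isReduced_tensor_sections (y : PrimeSpectrum A) (hgrf : GRF p y) {V : X.Opens}
    (hV : IsAffineOpen V) (L : Type u) [Field L] [Algebra A L] [Algebra y.asIdeal.ResidueField L]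
    [IsScalarTower A y.asIdeal.ResidueField L] :
    letI := (toΓG p V).toAlgebra
    IsReduced (L ⊗[A] Γ(X, V)) := by
  letI := (toΓG p V).toAlgebra
  let 𝒰 : X.OpenCover := X.affineCover.add hV.fromSpec
  have h1 : GRF (hV.fromSpec ≫ p) y := ((geomRedFiber_iff_of_openCover 𝒰 p y).mp hgrf) none
  rw [fromSpec_comp p hV] at h1
  have h2 := (geomRedFiber_spec_iff (CommRingCat.ofHom (toΓG p V)) y).mp h1
  haveI : Algebra.IsGeometricallyReduced y.asIdeal.ResidueField
      (y.asIdeal.ResidueField ⊗[A] Γ(X, V)) := h2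
  haveI := isGeometricallyReduced_of_algHom y.asIdeal.ResidueField L Γ(X, V)
    (IsScalarTower.toAlgHom A y.asIdeal.ResidueField L)
  exact Algebra.isReduced_of_isGeometricallyReduced L

end GeomRed

section Main

open Groth.Agent.Lib.ProperFinHyp Groth.Agent.Lib.ConnFib5

variable (A : Type u) [CommRing A] [IsNoetherianRing A]
  {X : Scheme.{u}} (p : X ⟶ Spec (CommRingCat.of A))

theorem toSpecΓ_specMap_toΓ :
    X.toSpecΓ ≫ Spec.map (CommRingCat.ofHom (toΓ p)) = p := by
  have h1 : CommRingCat.ofHom (toΓ p) =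
      (Scheme.ΓSpecIso (CommRingCat.of A)).inv ≫ p.appTop := rfl
  rw [h1, Spec.map_comp, ← Scheme.toSpecΓ_naturality_assoc, toSpecΓ_SpecMap_ΓSpecIso_inv,
    Category.comp_id]

theorem finite_toΓ (H2 : Hyp.{u}) [IsProper p] : (toΓ p).Finite := by
  have h1 := Groth.Agent.Lib.SteinFin5.finite_appTop_of_hyp H2 A X p
  have h2 : ((Scheme.ΓSpecIso (CommRingCat.of A)).inv.hom).Finite :=
    RingHom.Finite.of_surjective _
      (ConcreteCategory.bijective_of_isIso (Scheme.ΓSpecIso (CommRingCat.of A)).inv).2
  exact h1.comp h2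

/-- The counting formula: for `X` proper over a Noetherian ring `A` and a separably closed field
`K` over `A`, the geometric number of connected components of the fibre of `X` over the image
point of `Spec K` is the number of primes of `K ⊗_A Γ(X, O_X)`. -/
theorem nGeomConnComp_eq_card_tensor (H2 : Hyp.{u}) (H58 : Hyp58.{u}) [IsProper p]
    (K : Type u) [Field K] [IsSepClosed K] [Algebra A K] :
    letI := (toΓ p).toAlgebra
    MoreMor.nGeomConnComp p
      ((Spec.map (CommRingCat.ofHom (algebraMap A K))).base (IsLocalRing.closedPoint K)) =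
      ENat.card (PrimeSpectrum (K ⊗[A] Γ(X, ⊤))) := by
  letI : Algebra A Γ(X, ⊤) := (toΓ p).toAlgebra
  haveI : Module.Finite A Γ(X, ⊤) := finite_toΓ A p H2
  haveI : IsNoetherianRing Γ(X, ⊤) := IsNoetherianRing.of_finite A Γ(X, ⊤)
  have hfac : X.toSpecΓ ≫ Spec.map (CommRingCat.ofHom (algebraMap A Γ(X, ⊤))) = p :=
    toSpecΓ_specMap_toΓ A p
  haveI : IsProper (X.toSpecΓ ≫ Spec.map (CommRingCat.ofHom (algebraMap A Γ(X, ⊤)))) := by
    rw [hfac]; infer_instance
  haveI : IsProper X.toSpecΓ :=
    IsProper.of_comp X.toSpecΓ (Spec.map (CommRingCat.ofHom (algebraMap A Γ(X, ⊤))))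
  haveI : CompactSpace X := (quasiCompact_iff_compactSpace p).mp inferInstance
  haveI : QuasiSeparatedSpace X := quasiSeparatedSpace_of_quasiSeparated p
  haveI : GeometricallyConnected X.toSpecΓ :=
    Groth.Agent.Lib.ConnFib5.geometricallyConnected_of_isIso_app X.toSpecΓ H2 H58
      (fun V => Groth.Agent.Lib.SteinField5.isIso_toSpecΓ_app V)
  haveI : IsFinite (Spec.map (CommRingCat.ofHom (algebraMap A Γ(X, ⊤)))) := by
    rw [IsFinite.SpecMap_iff]
    exact finite_toΓ A p H2
  have h1 := nGeomConnComp_comp_eq_card (Spec.map (CommRingCat.ofHom (algebraMap A Γ(X, ⊤))))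
    X.toSpecΓ K (Spec.map (CommRingCat.ofHom (algebraMap A K)))
  rw [hfac] at h1
  rw [h1]
  exact card_pullback_specMap A Γ(X, ⊤) K

end Main

section DVR

open Groth.Agent.Lib.ProperFinHyp Groth.Agent.Lib.ConnFib5

variable (A : Type u) [CommRing A] [IsDomain A] [IsDiscreteValuationRing A]
  {X : Scheme.{u}} (p : X ⟶ Spec (CommRingCat.of A))

theorem specMap_closedPoint_of_ker (K : Type u) [Field K] [Algebra A K] (q : PrimeSpectrum A)
    (hq : RingHom.ker (algebraMap A K) = q.asIdeal) :
    (Spec.map (CommRingCat.ofHom (algebraMap A K))).base (IsLocalRing.closedPoint K) = q := by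
  apply PrimeSpectrum.ext
  rw [← hq]
  change Ideal.comap (algebraMap A K) (maximalIdeal K) = _
  rw [IsLocalRing.maximalIdeal_eq_bot]
  rfl

set_option maxHeartbeats 400000 in
/-- **The DVR lemma.** -/
theorem nGeomConnComp_generic_le_closed (H2 : Hyp.{u}) (H58 : Hyp58.{u}) [IsProper p]
    (hopen : ∀ x : X, p.base x = closedPoint A → EGA43.IsUnivOpenAt p x)
    (hgrf : GRF p (closedPoint A)) :
    MoreMor.nGeomConnComp p (genericPoint (Spec (CommRingCat.of A))) ≤
      MoreMor.nGeomConnComp p (closedPoint A) := by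
  have hred : AlgebraicGeometry.IsReduced (p.fiber (closedPoint A)) :=
    hgrf.geometrically_isReduced (𝟙 _) (𝟙 _) (p.fiberToSpecResidueField (closedPoint A))
      (IsPullback.id_horiz _)
  haveI : Flat p := flat_of_isUnivOpenAt_of_isReduced A p hopen hred
  letI : Algebra A Γ(X, ⊤) := (toΓ p).toAlgebra
  haveI : Module.Finite A Γ(X, ⊤) := finite_toΓ A p H2
  haveI : CompactSpace X := (quasiCompact_iff_compactSpace p).mp inferInstance
  obtain ⟨s, hsfin, hs⟩ := (isCompact_iff_finite_and_eq_biUnion_affineOpens (U := (⊤ : X.Opens))).mp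
    isCompact_univ
  let ι := ↥s
  haveI : Finite ι := hsfin
  let V : ι → X.Opens := fun i => i.1.1
  have hVaff : ∀ i, IsAffineOpen (V i) := fun i => i.1.2
  have hV : (⊤ : X.Opens) ≤ iSup V := by
    rw [hs, iSup_subtype']
  letI : ∀ i, Algebra A Γ(X, V i) := fun i => (toΓG p (V i)).toAlgebra
  let ρ : ∀ i, Γ(X, ⊤) →ₐ[A] Γ(X, V i) := fun i =>
    { (resTop (V i)).hom with commutes' := fun a => rfl }
  have hρ : ∀ i (b : Γ(X, ⊤)), ρ i b = resTop (V i) b := fun i b => rfl
  have hsmul : ∀ i (a : A) (c : Γ(X, V i)), a • c = resTop (V i) (toΓ p a) * c := fun i a c => rfl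
  haveI : ∀ i, Module.IsTorsionFree A Γ(X, V i) := fun i => ⟨fun a ha => by
    rw [isSMulRegular_iff_right_eq_zero_of_smul]
    intro c hc
    exact regular_resTop p a ha.ne_zero (V i) c (by rw [← hsmul]; exact hc)⟩
  have hinj : ∀ b : Γ(X, ⊤), (∀ i, ρ i b = 0) → b = 0 := by
    intro b hb
    refine TopCat.Sheaf.eq_of_locally_eq' X.sheaf V ⊤ (fun i => homOfLE le_top) hV _ _ fun i => ?_
    change resTop (V i) b = resTop (V i) 0
    rw [map_zero]
    exact hb i
  have hsat : ∀ (a : A) (b : Γ(X, ⊤)), a ≠ 0 → (∀ i, ∃ c : Γ(X, V i), ρ i b = a • c) →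
      ∃ b' : Γ(X, ⊤), b = a • b' := by
    intro a b ha hb
    obtain ⟨c, hc⟩ := exists_eq_mul_of_locally (toΓ p a) b
      (fun W s h => regular_resTop p a ha W s h) V hV
      (fun i => by
        obtain ⟨c, hc⟩ := hb i
        exact ⟨c, by rw [← hρ, hc, hsmul]⟩)
    exact ⟨c, hc⟩
  let κ := (closedPoint A).asIdeal.ResidueField
  let Ks := AlgebraicClosure κ
  let Kη := AlgebraicClosure (FractionRing A)
  have hredi : ∀ i, IsReduced (Ks ⊗[A] Γ(X, V i)) := fun i =>
    isReduced_tensor_sections p (closedPoint A) hgrf (hVaff i) Ks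
  have key := natCard_primeSpectrum_tensor_le A Γ(X, ⊤) (fun i => Γ(X, V i)) ρ hinj hsat Kη Ks hredi
  have hη := nGeomConnComp_eq_card_tensor A p H2 H58 Kη
  have hs' := nGeomConnComp_eq_card_tensor A p H2 H58 Ks
  have hptη : (Spec.map (CommRingCat.ofHom (algebraMap A Kη))).base (IsLocalRing.closedPoint Kη) =
      genericPoint (Spec (CommRingCat.of A)) := by
    rw [genericPoint_eq_bot_of_affine (CommRingCat.of A)]
    apply specMap_closedPoint_of_ker
    change _ = (⊥ : Ideal A)
    rw [IsScalarTower.algebraMap_eq A (FractionRing A) Kη, ← RingHom.comap_ker,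
      (RingHom.injective_iff_ker_eq_bot _).mp (algebraMap (FractionRing A) Kη).injective]
    exact (RingHom.injective_iff_ker_eq_bot _).mp (IsFractionRing.injective A (FractionRing A))
  have hpts : (Spec.map (CommRingCat.ofHom (algebraMap A Ks))).base (IsLocalRing.closedPoint Ks) =
      closedPoint A := by
    apply specMap_closedPoint_of_ker
    rw [IsScalarTower.algebraMap_eq A κ Ks, ← RingHom.comap_ker,
      (RingHom.injective_iff_ker_eq_bot _).mp (algebraMap κ Ks).injective]
    exact Ideal.ker_algebraMap_residueField _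
  rw [hptη] at hη
  rw [hpts] at hs'
  rw [hη, hs']
  haveI : IsArtinianRing (Kη ⊗[A] Γ(X, ⊤)) := IsArtinianRing.of_finite Kη _
  haveI : IsArtinianRing (Ks ⊗[A] Γ(X, ⊤)) := IsArtinianRing.of_finite Ks _
  rw [ENat.card_eq_coe_natCard, ENat.card_eq_coe_natCard]
  exact_mod_cast key

end DVR

end Groth.Agent.Lib.LocConst5
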