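import Groth.Agent.Lib.H15HenselCouple
import Groth.Agent.Lib.LocConst5D
import Groth.Agent.Lib.DescFPSpread
import Groth.Agent.Lib.H77ProperLim

/-!
# Proper finitely presented schemes over a henselian pair (helper5)

`(A, I)` a henselian pair (no Noetherian hypothesis), `f : X ⟶ Spec A` proper of finite
presentation, `X₀ = X ×_A A/I`. Then clopen subsets of `X₀` lift uniquely to clopen subsets of `X`
(`liftsClopens_range_fst`), and `X` is connected iff `X₀` is (`connectedSpace_iff`).

Proof: Noetherian approximation `X = X' ×_{A'} A` with `A'` a finitely generated `ℤ`-algebra; Stein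
factorization `X' ⟶ Spec B' ⟶ Spec A'` (`B'` finite over `A'`, first map proper with geometrically
connected fibres); base change to `A` gives `X ⟶ T ⟶ Spec A` with `T` affine and finite over `A`,
hence `(Γ(T), I Γ(T))` is a henselian pair, and `X ⟶ T` is closed, surjective with connected fibres.
-/

set_option autoImplicit false
set_option linter.style.haveILetI false
set_option linter.unusedSectionVars false
universe u

open CategoryTheory CategoryTheory.Limits AlgebraicGeometry TopologicalSpace Opposite Set Topology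

namespace Groth.Agent.Lib.HenselProper5

open Groth.Agent.Lib.H15ClopenLift Groth.Agent.Lib.H15HenselCouple Groth.Agent.Lib.ProperFinHyp
  Groth.Agent.Lib.ConnFib5 Groth.Agent.Lib.H47DvrFibre Groth.Agent.Lib.LocConst5

/-- Noetherian approximation of a proper finitely presented morphism over an affine base. -/
theorem exists_noetherian_model_proper (A : Type u) [CommRing A] {X : Scheme.{u}}
    (f : X ⟶ Spec (CommRingCat.of A)) [IsProper f] [LocallyOfFinitePresentation f] :
    ∃ (A₀ : Type u) (_ : CommRing A₀) (_ : IsNoetherianRing A₀) (φ : A₀ →+* A) (X₀ : Scheme.{u})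
      (f₀ : X₀ ⟶ Spec (CommRingCat.of A₀)) (g : X ⟶ X₀),
      IsProper f₀ ∧ IsPullback g f f₀ (Spec.map (CommRingCat.ofHom φ)) := by
  haveI : MorphismProperty.RespectsIso @IsProper.{u} :=
    MorphismProperty.IsStableUnderBaseChange.respectsIso
  obtain ⟨A₀, hA₀, X₀, f₀, g, h1, -, -, -, sq⟩ :=
    Groth.Agent.Lib.DescFP.exists_model_over_fg @IsProper.{u}
      Groth.Agent.Lib.H77ProperLim.descends_isProper A f ‹_›
  haveI : Algebra.FiniteType ℤ ↥A₀ := (Subalgebra.fg_iff_finiteType A₀).mp hA₀
  haveI : IsNoetherianRing ↥A₀ := Algebra.FiniteType.isNoetherianRing ℤ ↥A₀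
  exact ⟨↥A₀, inferInstance, inferInstance, algebraMap ↥A₀ A, X₀, f₀, g, h1, sq⟩

/-- Stein factorization (hypothesis form) over a Noetherian ring: `X ⟶ Spec Γ(X, O_X)` is proper
with geometrically connected fibres and `Γ(X, O_X)` is finite over the base. -/
theorem stein_noetherian (H2 : Hyp.{u}) (H58 : Hyp58.{u}) (A : Type u) [CommRing A]
    [IsNoetherianRing A] {X : Scheme.{u}} (f : X ⟶ Spec (CommRingCat.of A)) [IsProper f] :
    IsProper X.toSpecΓ ∧ GeometricallyConnected X.toSpecΓ ∧ (toΓ f).Finite ∧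
      X.toSpecΓ ≫ Spec.map (CommRingCat.ofHom (toΓ f)) = f := by
  letI : Algebra A Γ(X, ⊤) := (toΓ f).toAlgebra
  haveI : Module.Finite A Γ(X, ⊤) := finite_toΓ A f H2
  haveI : IsNoetherianRing Γ(X, ⊤) := IsNoetherianRing.of_finite A Γ(X, ⊤)
  have hfac : X.toSpecΓ ≫ Spec.map (CommRingCat.ofHom (algebraMap A Γ(X, ⊤))) = f :=
    toSpecΓ_specMap_toΓ A f
  haveI : IsProper (X.toSpecΓ ≫ Spec.map (CommRingCat.ofHom (algebraMap A Γ(X, ⊤)))) := by
    rw [hfac]; infer_instance
  haveI : IsProper X.toSpecΓ :=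
    IsProper.of_comp X.toSpecΓ (Spec.map (CommRingCat.ofHom (algebraMap A Γ(X, ⊤))))
  haveI : CompactSpace X := (quasiCompact_iff_compactSpace f).mp inferInstance
  haveI : QuasiSeparatedSpace X := quasiSeparatedSpace_of_quasiSeparated f
  have hgc : GeometricallyConnected X.toSpecΓ :=
    Groth.Agent.Lib.ConnFib5.geometricallyConnected_of_isIso_app X.toSpecΓ H2 H58
      (fun V => Groth.Agent.Lib.SteinField5.isIso_toSpecΓ_app V)
  exact ⟨inferInstance, hgc, finite_toΓ A f H2, hfac⟩

/-- Factorization of a proper finitely presented morphism to an affine scheme through a scheme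
`T` finite over the base, with `X ⟶ T` proper with geometrically connected fibres. -/
theorem exists_stein_factor (H2 : Hyp.{u}) (H58 : Hyp58.{u}) (A : Type u) [CommRing A]
    {X : Scheme.{u}} (f : X ⟶ Spec (CommRingCat.of A)) [IsProper f]
    [LocallyOfFinitePresentation f] :
    ∃ (T : Scheme.{u}) (h : X ⟶ T) (q : T ⟶ Spec (CommRingCat.of A)),
      IsProper h ∧ GeometricallyConnected h ∧ IsFinite q ∧ h ≫ q = f := by
  obtain ⟨A₀, _, _, φ, X₀, f₀, g, hp, sq⟩ := exists_noetherian_model_proper A f
  obtain ⟨h1, h2, h3, hfac⟩ := stein_noetherian H2 H58 A₀ f₀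
  let b : Spec (CommRingCat.of Γ(X₀, ⊤)) ⟶ Spec (CommRingCat.of A₀) :=
    Spec.map (CommRingCat.ofHom (toΓ f₀))
  have hbfin : IsFinite b := by
    rw [IsFinite.SpecMap_iff]
    exact h3
  let a : Spec (CommRingCat.of A) ⟶ Spec (CommRingCat.of A₀) := Spec.map (CommRingCat.ofHom φ)
  have hbot : IsPullback (pullback.fst b a) (pullback.snd b a) b a := IsPullback.of_hasPullback b a
  have hcond : (g ≫ X₀.toSpecΓ) ≫ b = f ≫ a := by
    rw [Category.assoc, hfac, sq.w]
  let h : X ⟶ pullback b a := hbot.lift (g ≫ X₀.toSpecΓ) f hcond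
  have htop : IsPullback g h X₀.toSpecΓ (pullback.fst b a) := by
    refine IsPullback.of_bot ?_ (hbot.lift_fst _ _ hcond).symm hbot
    rw [hbot.lift_snd, hfac]
    exact sq
  refine ⟨pullback b a, h, pullback.snd b a, ?_, ?_, ?_, hbot.lift_snd _ _ hcond⟩
  · exact MorphismProperty.of_isPullback htop h1
  · exact MorphismProperty.of_isPullback htop h2
  · exact MorphismProperty.of_isPullback hbot hbfin

section Top

variable {S T₀ : Type*} [TopologicalSpace S] [TopologicalSpace T₀]

/-- If clopen subsets of `T₀` lift uniquely along `e : T₀ → S` to clopen subsets of `S`, then `S` is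
connected iff `T₀` is. -/
theorem connectedSpace_iff_of_existsUnique_clopen (e : T₀ → S) (he : Continuous e)
    (hl : ∀ V : Set T₀, IsClopen V → ∃! U : Set S, IsClopen U ∧ e ⁻¹' U = V) :
    ConnectedSpace S ↔ ConnectedSpace T₀ := by
  rw [connectedSpace_iff_clopen, connectedSpace_iff_clopen]
  constructor
  · rintro ⟨hne, hS⟩
    refine ⟨?_, fun V hV => ?_⟩
    · by_contra hemp
      rw [not_nonempty_iff] at hemp
      obtain ⟨U, -, huniq⟩ := hl ∅ isClopen_empty
      have h1 := huniq ∅ ⟨isClopen_empty, rfl⟩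
      have h2 := huniq Set.univ ⟨isClopen_univ, Set.eq_empty_of_isEmpty _⟩
      have h3 : (∅ : Set S) = Set.univ := h1.trans h2.symm
      exact (Set.empty_ne_univ (α := S)) h3
    · obtain ⟨U, ⟨hU, hUV⟩, -⟩ := hl V hV
      rcases hS U hU with rfl | rfl
      · left; rw [← hUV]; rfl
      · right; rw [← hUV]; rfl
  · rintro ⟨hne, hT⟩
    refine ⟨hne.map e, fun U hU => ?_⟩
    have hV : IsClopen (e ⁻¹' U) := hU.preimage he
    obtain ⟨U', -, huniq⟩ := hl (e ⁻¹' U) hV
    have h1 := huniq U ⟨hU, rfl⟩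
    rcases hT (e ⁻¹' U) hV with h | h
    · left
      have h2 := huniq ∅ ⟨isClopen_empty, by rw [h]; rfl⟩
      exact h1.trans h2.symm
    · right
      have h2 := huniq Set.univ ⟨isClopen_univ, by rw [h]; rfl⟩
      exact h1.trans h2.symm

end Top

section Hensel

variable (H2 : Hyp.{u}) (H58 : Hyp58.{u}) (A : Type u) [CommRing A] (I : Ideal A)
  [HenselianRing A I] {X : Scheme.{u}} (f : X ⟶ Spec (CommRingCat.of A)) [IsProper f]
  [LocallyOfFinitePresentation f]

include H2 H58

theorem hasClosedPoints_primeSpectrum (B : Type u) [CommRing B] :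
    HasClosedPoints (PrimeSpectrum B) := by
  intro F hF hne
  exact IsClosed.exists_closed_singleton hF hne

/-- Clopen subsets of the closed fibre `X₀ = X ×_A A/I` lift uniquely to clopen subsets of `X`, for
`X` proper of finite presentation over a henselian pair `(A, I)`. -/
theorem liftsClopens_range_fst :
    LiftsClopens (Set.range
      (pullback.fst f (Spec.map (CommRingCat.ofHom (Ideal.Quotient.mk I))))) := by
  obtain ⟨T, h, q, hh, hgc, hq, hfac⟩ := exists_stein_factor H2 H58 A f
  haveI : IsAffine T := isAffine_of_isAffineHom q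
  let ψ : A →+* Γ(T, ⊤) := ((Scheme.ΓSpecIso (CommRingCat.of A)).inv ≫ q.appTop).hom
  have hψfin : ψ.Finite := by
    have h1 : (q.appTop).hom.Finite := q.finite_appTop
    have h2 : ((Scheme.ΓSpecIso (CommRingCat.of A)).inv).hom.Finite :=
      RingHom.Finite.of_surjective _
        (ConcreteCategory.bijective_of_isIso (Scheme.ΓSpecIso (CommRingCat.of A)).inv).2
    exact h1.comp h2
  letI : Algebra A Γ(T, ⊤) := ψ.toAlgebra
  haveI : Module.Finite A Γ(T, ⊤) := hψfin
  haveI : Algebra.IsIntegral A Γ(T, ⊤) := Algebra.IsIntegral.of_finite A _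
  haveI : HenselianRing Γ(T, ⊤) (I.map (algebraMap A Γ(T, ⊤))) :=
    Groth.Agent.Lib.HenselIdem.henselianRing_of_isIntegral I
  have h1 := liftsClopens_zeroLocus_of_henselian Γ(T, ⊤) (I.map ψ)
  haveI : IsIso T.toSpecΓ := IsAffine.affine
  let H : X ⟶ Spec Γ(T, ⊤) := h ≫ T.toSpecΓ
  haveI : IsProper H := inferInstance
  have hsurj : Function.Surjective H := by
    haveI : Surjective h := inferInstance
    exact (inferInstance : Surjective (h ≫ T.toSpecΓ)).surj
  have hfib : ∀ s : PrimeSpectrum Γ(T, ⊤), IsClosed ({s} : Set (PrimeSpectrum Γ(T, ⊤))) →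
      _root_.IsPreconnected ((H : X → PrimeSpectrum Γ(T, ⊤)) ⁻¹' {s}) := by
    intro s _
    obtain ⟨t, rfl⟩ := (inferInstance : Surjective T.toSpecΓ).surj s
    have e : (H : X → PrimeSpectrum Γ(T, ⊤)) ⁻¹' {T.toSpecΓ t} = h ⁻¹' {t} := by
      ext x
      have hinj : Function.Injective T.toSpecΓ := T.toSpecΓ.homeomorph.injective
      exact ⟨fun hx => hinj hx, fun hx => congrArg T.toSpecΓ hx⟩
    have hp := (h.isConnected_preimage_singleton t).isPreconnected
    rw [← e] at hp
    exact hp
  have h2 := liftsClopens_preimage (H : X → PrimeSpectrum Γ(T, ⊤)) H.continuous H.isClosedMap hsurj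
    (hasClosedPoints_primeSpectrum H2 H58 Γ(T, ⊤)) hfib _ (PrimeSpectrum.isClosed_zeroLocus _) h1
  have e2 : (H : X → PrimeSpectrum Γ(T, ⊤)) ⁻¹' (PrimeSpectrum.zeroLocus (I.map ψ : Set Γ(T, ⊤))) =
      Set.range (pullback.fst f (Spec.map (CommRingCat.ofHom (Ideal.Quotient.mk I)))) := by
    rw [Scheme.Pullback.range_fst, ← hfac]
    ext x
    have := Set.ext_iff.mp (preimage_range_SpecMap_mk I q) (h x)
    exact this.symm
  rw [e2] at h2
  exact h2

/-- **S17963 (hypothesis form).** -/
theorem connectedSpace_iff :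
    ConnectedSpace ↥X ↔
      ConnectedSpace ↥(pullback f (Spec.map (CommRingCat.ofHom (Ideal.Quotient.mk I)))) := by
  haveI := isClosedImmersion_SpecMap_mk I
  let e := pullback.fst f (Spec.map (CommRingCat.ofHom (Ideal.Quotient.mk I)))
  have hl := (liftsClopens_range_iff (e : _ → X) e.isClosedEmbedding.isEmbedding).1
    (liftsClopens_range_fst H2 H58 A I f)
  exact connectedSpace_iff_of_existsUnique_clopen (e : _ → X) e.continuous hl

end Hensel

end Groth.Agent.Lib.HenselProper5
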