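import Groth.Agent.Lib.HenselProper5A
import Groth.Agent.Lib.ApproxCons5C
import Groth.Agent.Lib.ClosedImmLim62
import Groth.Agent.Lib.NoethTop

/-!
# Proper schemes over a henselian local ring, without finite presentation (helper5)

`A` henselian local (not necessarily Noetherian), `f : X ⟶ Spec A` proper, `X₀` the closed fibre.
Then `π₀(X₀) → π₀(X)` is bijective (`bijective_connectedComponentsMap_fiberι`), in hypothesis form
over `Hyp7383` (relative approximation), `Hyp` (S0002) and `Hyp58` (S0058).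

Proof: `X` is a closed subscheme of a proper finitely presented `X₁` (`ApproxCons5C`), with ideal
`ℐ` the directed union of its finite type subideals `𝒥`; since the closed fibre of `X₁` is a
Noetherian space, `V(𝒥) ∩ X₁₀ = X₀` for some `𝒥`; clopens of `X₀` lift to `V(𝒥)` by
`HenselProper5A`, and restrict to `X`.
-/

set_option autoImplicit false
set_option linter.style.haveILetI false
set_option linter.unusedSectionVars false
universe u

open CategoryTheory CategoryTheory.Limits AlgebraicGeometry TopologicalSpace Opposite Set Topology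

namespace Groth.Agent.Lib.HenselProper5

section Top

variable {T₀ T : Type*} [TopologicalSpace T₀] [TopologicalSpace T]

/-- A criterion for `π₀(T₀) → π₀(T)` to be bijective. -/
theorem bijective_connectedComponentsMap (e : T₀ → T) (he : Continuous e)
    (hopen : ∀ a : T₀, IsOpen (connectedComponent a))
    (hmeet : ∀ t : T, ∃ a : T₀, e a ∈ connectedComponent t)
    (hlift : ∀ V : Set T₀, IsClopen V → ∃ U : Set T, IsClopen U ∧ e ⁻¹' U = V) :
    Function.Bijective he.connectedComponentsMap := by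
  constructor
  · intro a b hab
    obtain ⟨a, rfl⟩ := ConnectedComponents.surjective_coe a
    obtain ⟨b, rfl⟩ := ConnectedComponents.surjective_coe b
    rw [he.connectedComponentsMap_mk, he.connectedComponentsMap_mk,
      ConnectedComponents.coe_eq_coe'] at hab
    rw [ConnectedComponents.coe_eq_coe']
    obtain ⟨U, hU, hUV⟩ := hlift (connectedComponent b) ⟨isClosed_connectedComponent, hopen b⟩
    have hb : e b ∈ U := by
      have : b ∈ e ⁻¹' U := by rw [hUV]; exact mem_connectedComponent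
      exact this
    have hsub : connectedComponent (e b) ⊆ U := hU.connectedComponent_subset hb
    have ha : a ∈ e ⁻¹' U := hsub hab
    rw [hUV] at ha
    exact ha
  · intro c
    obtain ⟨t, rfl⟩ := ConnectedComponents.surjective_coe c
    obtain ⟨a, ha⟩ := hmeet t
    refine ⟨ConnectedComponents.mk a, ?_⟩
    rw [he.connectedComponentsMap_mk, ConnectedComponents.coe_eq_coe']
    exact ha

end Top

section Ideal

open Groth.Agent.Lib.ClosedImmLim62

variable {Y : Scheme.{u}}

/-- On a qcqs scheme, the trace of `V(I)` on a Noetherian subspace `W` is already the trace of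
`V(J)` for some finite type ideal sheaf `J ≤ I`. -/
theorem exists_FT_support_inter_eq [CompactSpace Y] [QuasiSeparatedSpace Y]
    (I : Y.IdealSheafData) (W : Set Y) [NoetherianSpace W] :
    ∃ J : FT I, ∀ K : FT I, J ≤ K →
      (K.val.support : Set Y) ∩ W = (I.support : Set Y) ∩ W := by
  classical
  let g : FT I → Closeds W := fun J =>
    ⟨(Subtype.val : W → Y) ⁻¹' (J.val.support : Set Y),
      J.val.support.isClosed.preimage continuous_subtype_val⟩
  have hwf : WellFounded ((· < ·) : Closeds W → Closeds W → Prop) := wellFounded_lt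
  obtain ⟨_, ⟨J₀, rfl⟩, hmin⟩ := hwf.has_min (Set.range g) ⟨g (Classical.arbitrary _), ⟨_, rfl⟩⟩
  have hanti : ∀ J K : FT I, J ≤ K → g K ≤ g J := by
    intro J K hJK x hx
    exact Scheme.IdealSheafData.support_antitone hJK hx
  have hconst : ∀ K : FT I, J₀ ≤ K → g K = g J₀ := by
    intro K hK
    by_contra hne
    exact hmin (g K) ⟨K, rfl⟩ (lt_of_le_of_ne (hanti J₀ K hK) hne)
  refine ⟨J₀, fun K hK => ?_⟩
  apply Set.Subset.antisymm
  · rintro x ⟨hxK, hxW⟩
    refine ⟨?_, hxW⟩
    by_contra hxI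
    obtain ⟨_, ⟨U, hU, rfl⟩, hxU, -⟩ :=
      Y.isBasis_affineOpens.exists_subset_of_mem_open (Set.mem_univ x) isOpen_univ
    let U' : Y.affineOpens := ⟨U, hU⟩
    rw [SetLike.mem_coe, Scheme.IdealSheafData.mem_support_iff_of_mem (U := U') hxU,
      Scheme.mem_zeroLocus_iff] at hxI
    push Not at hxI
    obtain ⟨a, ha, hxa⟩ := hxI
    obtain ⟨J, hJ1, hJ2, hJ3⟩ := exists_finiteType_le_mem I U' a ha
    obtain ⟨L, hKL, hJL⟩ := directed_of (fun a b : FT I => a ≤ b) K (⟨J, hJ1, hJ2⟩ : FT I)
    have h1 : g L = g K := (hconst L (hK.trans hKL)).trans (hconst K hK).symm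
    have hxL : (⟨x, hxW⟩ : W) ∈ g L := by
      rw [h1]; exact hxK
    have hxL' : x ∈ L.val.support := hxL
    rw [Scheme.IdealSheafData.mem_support_iff_of_mem (U := U') hxU,
      Scheme.mem_zeroLocus_iff] at hxL'
    have haL : a ∈ L.val.ideal U' := (Scheme.IdealSheafData.le_def.1 hJL) U' hJ3
    exact hxL' a haL hxa
  · rintro x ⟨hxI, hxW⟩
    exact ⟨Scheme.IdealSheafData.support_antitone K.le hxI, hxW⟩

end Ideal

section Main

open Groth.Agent.Lib.ClosedImmLim62 Groth.Agent.Lib.AbsApproxHyp62 Groth.Agent.Lib.ApproxCons5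
  Groth.Agent.Lib.H15ClopenLift Groth.Agent.Lib.H15HenselCouple Groth.Agent.Lib.ProperFinHyp
  Groth.Agent.Lib.ConnFib5

theorem closedPoint_mem_of_isClosed (A : Type u) [CommRing A] [IsLocalRing A]
    (F : Set (PrimeSpectrum A)) (hF : IsClosed F) (hne : F.Nonempty) :
    IsLocalRing.closedPoint A ∈ F := by
  obtain ⟨p, hp⟩ := hne
  exact (IsLocalRing.specializes_closedPoint p).mem_closed hF hp

theorem noetherianSpace_fiber {X Y : Scheme.{u}} (f : X ⟶ Y) [LocallyOfFiniteType f]
    [QuasiCompact f] (y : Y) : NoetherianSpace (f.fiber y) := by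
  haveI hft : LocallyOfFiniteType (f.fiberToSpecResidueField y) :=
    show LocallyOfFiniteType (pullback.snd _ _) from inferInstance
  haveI : IsLocallyNoetherian (f.fiber y) :=
    LocallyOfFiniteType.isLocallyNoetherian (f.fiberToSpecResidueField y)
  haveI : IsNoetherian (f.fiber y) := {}
  infer_instance

theorem noetherianSpace_preimage_singleton {X Y : Scheme.{u}} (f : X ⟶ Y) [LocallyOfFiniteType f]
    [QuasiCompact f] (y : Y) : NoetherianSpace ↥(f ⁻¹' {y}) := by
  haveI := noetherianSpace_fiber f y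
  rw [← f.range_fiberι y]
  exact NoetherianSpace.range _ (f.fiberι y).continuous

theorem range_fst_SpecMap_mk_maximalIdeal (A : Type u) [CommRing A] [IsLocalRing A]
    {X : Scheme.{u}} (f : X ⟶ Spec (CommRingCat.of A)) :
    Set.range (pullback.fst f (Spec.map (CommRingCat.ofHom
      (Ideal.Quotient.mk (IsLocalRing.maximalIdeal A))))) =
      f ⁻¹' {(IsLocalRing.closedPoint A : PrimeSpectrum A)} := by
  rw [Scheme.Pullback.range_fst, range_SpecMap_mk, PrimeSpectrum.zeroLocus_eq_singleton]
  rfl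

variable (H : Hyp7383.{u}) (H2 : Hyp.{u}) (H58 : Hyp58.{u})

include H H2 H58

/-- Clopen subsets of the closed fibre of a proper scheme over a henselian local ring lift to
clopen subsets of the total space. -/
theorem exists_isClopen_inter_eq (A : Type u) [CommRing A] [HenselianLocalRing A] {X : Scheme.{u}}
    (f : X ⟶ Spec (CommRingCat.of A)) [IsProper f] (x₀ : ↥(Spec (CommRingCat.of A)))
    (hx₀ : x₀ = (IsLocalRing.closedPoint A : PrimeSpectrum A)) (V : Set X)
    (hVZ : V ⊆ f ⁻¹' {x₀}) (hV : IsClosed V) (hV' : IsClosed (f ⁻¹' {x₀} \ V)) :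
    ∃ U : Set X, IsClopen U ∧ U ∩ f ⁻¹' {x₀} = V := by
  obtain ⟨X₁, f₁, j, hprop, hlfp, hj, hfac⟩ := exists_proper_fp_closedImmersion H f
  haveI := hprop
  haveI := hlfp
  haveI := hj
  haveI : CompactSpace X₁ := QuasiCompact.compactSpace_of_compactSpace f₁
  haveI : QuasiSeparatedSpace X₁ := quasiSeparatedSpace_of_quasiSeparated f₁
  haveI : NoetherianSpace ↥(f₁ ⁻¹' {x₀}) := noetherianSpace_preimage_singleton f₁ x₀
  obtain ⟨J, hJ⟩ := exists_FT_support_inter_eq j.ker (f₁ ⁻¹' {x₀})
  have hJ' := hJ J le_rfl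
  have hker : (j.ker.support : Set X₁) = Set.range j := by
    rw [Scheme.Hom.support_ker]
    exact j.isClosedEmbedding.isClosed_range.closure_eq
  rw [hker, ← Scheme.IdealSheafData.range_subschemeι] at hJ'
  let ι' : J.val.subscheme ⟶ X₁ := J.val.subschemeι
  let j' : X ⟶ J.val.subscheme := toStage j J
  have hj'ι' : j' ≫ ι' = j := toStage_subschemeι j J
  haveI : IsClosedImmersion (j' ≫ ι') := by rw [hj'ι']; infer_instance
  haveI : IsClosedImmersion j' := IsClosedImmersion.of_comp j' ι'
  haveI : LocallyOfFinitePresentation ι' := by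
    rw [Groth.Agent.Lib.H69ClosedLfp.lfp_iff_ker_fg, Scheme.IdealSheafData.ker_subschemeι]
    exact J.fg
  let f' : J.val.subscheme ⟶ Spec (CommRingCat.of A) := ι' ≫ f₁
  have hf' : j' ≫ f' = f := by rw [← Category.assoc, hj'ι', hfac]
  have hL₀ := liftsClopens_range_fst H2 H58 A (IsLocalRing.maximalIdeal A) f'
  rw [range_fst_SpecMap_mk_maximalIdeal] at hL₀
  have hL : LiftsClopens (f' ⁻¹' {x₀}) := by rw [hx₀]; exact hL₀
  have hfj' : ∀ x : X, f' (j' x) = f x := fun x => by
    rw [← hf']; rfl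
  have hinj : Function.Injective j' := j'.isClosedEmbedding.injective
  have hι'inj : Function.Injective ι' := ι'.isClosedEmbedding.injective
  -- points of the closed fibre of `X'` come from the closed fibre of `X`
  have hZ' : ∀ z : J.val.subscheme, f' z = x₀ → ∃ x : X, f x = x₀ ∧ j' x = z := by
    intro z hz
    have h1 : ι' z ∈ Set.range ι' ∩ f₁ ⁻¹' {x₀} := ⟨⟨z, rfl⟩, hz⟩
    rw [hJ'] at h1
    obtain ⟨⟨x, hx⟩, -⟩ := h1
    have h2 : ι' (j' x) = ι' z := by
      rw [← hx]
      exact congrArg (fun g : X ⟶ X₁ => g x) hj'ι'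
    have h3 : j' x = z := hι'inj h2
    refine ⟨x, ?_, h3⟩
    rw [← hfj', h3]; exact hz
  let V' : Set ↥(f' ⁻¹' {x₀}) := {z | z.1 ∈ j' '' V}
  have hV'cl : IsClopen V' := by
    constructor
    · exact (j'.isClosedEmbedding.isClosedMap V hV).preimage continuous_subtype_val
    · have : V'ᶜ = {z | z.1 ∈ j' '' (f ⁻¹' {x₀} \ V)} := by
        ext z
        constructor
        · intro hz
          obtain ⟨x, hx, hxz⟩ := hZ' z.1 z.2
          refine ⟨x, ⟨hx, fun hxV => hz ⟨x, hxV, hxz⟩⟩, hxz⟩
        · rintro ⟨x, ⟨-, hxV⟩, hxz⟩ ⟨x', hx'V, hx'z⟩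
          have : x = x' := hinj (hxz.trans hx'z.symm)
          exact hxV (this ▸ hx'V)
      rw [← isClosed_compl_iff, this]
      exact (j'.isClosedEmbedding.isClosedMap _ hV').preimage continuous_subtype_val
  obtain ⟨U', ⟨hU', hU'V⟩, -⟩ := hL V' hV'cl
  refine ⟨j' ⁻¹' U', hU'.preimage j'.continuous, ?_⟩
  ext x
  constructor
  · rintro ⟨hxU, hxZ⟩
    have hz : j' x ∈ f' ⁻¹' {x₀} := by
      change f' (j' x) = x₀
      rw [hfj']; exact hxZ
    have : (⟨j' x, hz⟩ : ↥(f' ⁻¹' {x₀})) ∈ V' := by
      rw [← hU'V]; exact hxU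
    obtain ⟨x', hx'V, hx'⟩ := this
    exact (hinj hx') ▸ hx'V
  · intro hxV
    have hxZ := hVZ hxV
    have hz : j' x ∈ f' ⁻¹' {x₀} := by
      change f' (j' x) = x₀
      rw [hfj']; exact hxZ
    have h3 : (⟨j' x, hz⟩ : ↥(f' ⁻¹' {x₀})) ∈ V' := ⟨x, hxV, rfl⟩
    rw [← hU'V] at h3
    exact ⟨h3, hxZ⟩

/-- **S8533 (hypothesis form).** For `f : X ⟶ Spec A` proper, `A` henselian local, the closed fibre
`X₀ ⟶ X` induces a bijection on connected components. -/
theorem bijective_connectedComponentsMap_fiberι (A : Type u) [CommRing A] [HenselianLocalRing A]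
    {X : Scheme.{u}} (f : X ⟶ Spec (CommRingCat.of A)) [IsProper f] :
    Function.Bijective
      (Continuous.connectedComponentsMap
        (f.fiberι ((IsLocalRing.closedPoint A : PrimeSpectrum A) :
          ↥(Spec (CommRingCat.of A)))).continuous) := by
  set x₀ : ↥(Spec (CommRingCat.of A)) := (IsLocalRing.closedPoint A : PrimeSpectrum A) with hx₀
  haveI := noetherianSpace_fiber f x₀
  have hrange : Set.range (f.fiberι x₀) = f ⁻¹' {x₀} := f.range_fiberι x₀
  have hclosed : IsClosed (f ⁻¹' {x₀}) :=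
    (IsLocalRing.isClosed_singleton_closedPoint (R := A)).preimage f.continuous
  have hemb : IsClosedEmbedding (f.fiberι x₀) :=
    ⟨(f.fiberι x₀).isEmbedding, by rw [hrange]; exact hclosed⟩
  apply bijective_connectedComponentsMap
  · intro a
    exact Groth.Agent.Lib.NoethTop.isOpen_connectedComponent_of_finite
      NoetherianSpace.finite_irreducibleComponents a
  · intro t
    have hC : IsClosed (f '' connectedComponent t) :=
      f.isClosedMap _ isClosed_connectedComponent
    have hne : (f '' connectedComponent t).Nonempty := ⟨f t, t, mem_connectedComponent, rfl⟩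
    obtain ⟨y, hy, hfy⟩ := closedPoint_mem_of_isClosed A _ hC hne
    have hy' : y ∈ Set.range (f.fiberι x₀) := by rw [hrange]; exact hfy
    obtain ⟨a, rfl⟩ := hy'
    exact ⟨a, hy⟩
  · intro V hV
    have hsub : (f.fiberι x₀) '' V ⊆ f ⁻¹' {x₀} := by
      rw [← hrange]; exact Set.image_subset_range _ _
    have hdiff : f ⁻¹' {x₀} \ (f.fiberι x₀) '' V = (f.fiberι x₀) '' Vᶜ := by
      rw [← hrange, ← Set.image_univ, ← Set.image_sdiff hemb.injective, Set.compl_eq_univ_sdiff]
    obtain ⟨U, hU, hUV⟩ := exists_isClopen_inter_eq H H2 H58 A f x₀ hx₀ ((f.fiberι x₀) '' V) hsub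
      (hemb.isClosedMap V hV.1) (by rw [hdiff]; exact hemb.isClosedMap _ hV.2.isClosed_compl)
    refine ⟨U, hU, ?_⟩
    ext a
    constructor
    · intro ha
      have : f.fiberι x₀ a ∈ U ∩ f ⁻¹' {x₀} := ⟨ha, by rw [← hrange]; exact ⟨a, rfl⟩⟩
      rw [hUV] at this
      obtain ⟨a', ha', h⟩ := this
      exact (hemb.injective h) ▸ ha'
    · intro ha
      have : f.fiberι x₀ a ∈ U ∩ f ⁻¹' {x₀} := by rw [hUV]; exact ⟨a, ha, rfl⟩
      exact this.1

end Main

end Groth.Agent.Lib.HenselProper5
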