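import Groth.Agent.Lib.H15WLocSquare
import Mathlib.Algebra.Polynomial.Lifts

/-!
# Quotients of (strictly) henselian local rings (helper39)

* `henselianLocalRing_of_surjective`, `isStrictlyHenselian_of_surjective`.
-/

set_option autoImplicit false
universe u

namespace Groth.Agent.Lib.HenselQuot39

open Polynomial IsLocalRing

theorem henselianLocalRing_of_surjective {A B : Type*} [CommRing A] [CommRing B]
    [HenselianLocalRing A] [IsLocalRing B] (φ : A →+* B) (hφ : Function.Surjective φ) :
    HenselianLocalRing B where
  is_henselian := by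
    intro f hf b₀ h0 h1
    have hloc : IsLocalHom φ := IsLocalHom.of_surjective φ hφ
    have hl : f ∈ lifts φ := by
      rw [lifts_iff_coeff_lifts]
      intro n
      exact hφ _
    obtain ⟨F, hF, -, hFm⟩ := lifts_and_natDegree_eq_and_monic hl hf
    obtain ⟨a₀, rfl⟩ := hφ b₀
    have hev : ∀ a : A, φ (F.eval a) = f.eval (φ a) := by
      intro a
      rw [← hF, eval_map, eval₂_hom]
    have hdev : ∀ a : A, φ (F.derivative.eval a) = f.derivative.eval (φ a) := by
      intro a
      rw [← hF, derivative_map, eval_map, eval₂_hom]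
    have h0' : F.eval a₀ ∈ maximalIdeal A := by
      rw [mem_maximalIdeal, mem_nonunits_iff]
      intro hu
      have := hu.map φ
      rw [hev] at this
      exact h0 this
    have h1' : IsUnit (F.derivative.eval a₀) := by
      apply isUnit_of_map_unit φ
      rw [hdev]
      exact h1
    obtain ⟨a, ha, ha'⟩ := HenselianLocalRing.is_henselian F hFm a₀ h0' h1'
    refine ⟨φ a, ?_, ?_⟩
    · rw [IsRoot.def, ← hev, ha.eq_zero, map_zero]
    · rw [← map_sub, mem_maximalIdeal, mem_nonunits_iff]
      intro hu
      exact ha' (isUnit_of_map_unit φ _ hu)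

theorem isStrictlyHenselian_of_surjective {A B : Type u} [CommRing A] [CommRing B]
    [IsLocalRing B] (φ : A →+* B) (hφ : Function.Surjective φ)
    (h : EtCoh.IsStrictlyHenselianLocalRing A) : EtCoh.IsStrictlyHenselianLocalRing B := by
  obtain ⟨hH, hsep⟩ := h
  have hB : HenselianLocalRing B := henselianLocalRing_of_surjective φ hφ
  refine ⟨hB, ?_⟩
  have hloc : IsLocalHom φ := IsLocalHom.of_surjective φ hφ
  have hsurj : Function.Surjective (ResidueField.map φ) := by
    intro y
    obtain ⟨b, rfl⟩ := residue_surjective y
    obtain ⟨a, rfl⟩ := hφ b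
    exact ⟨residue A a, ResidueField.map_residue φ a⟩
  have hbij : Function.Bijective (ResidueField.map φ) :=
    ⟨(ResidueField.map φ).injective, hsurj⟩
  exact Groth.Agent.Lib.H15WLocSquare.isSepClosed_of_ringEquiv
    (RingEquiv.ofBijective (ResidueField.map φ) hbij)

end Groth.Agent.Lib.HenselQuot39
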