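import Groth.Agent.Lib.HenselIntegralLocal
import Mathlib

/-!
# Lifting simple roots modulo a maximal ideal through a henselian quotient (helper61)

* `hensel_surj`: `π : R → C` surjective onto a henselian local ring, `M` a maximal ideal of `R`
  containing `ker π`; a simple root modulo `M` of a monic polynomial lifts to a root modulo `ker π`.
* `hensel_of_integral`: `R` integral over a henselian local ring `B`, `r : R → K` a ring map to a
  domain with `ker r ≤ M`: a simple root modulo `M` of a monic polynomial over `B` lifts to a root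
  modulo `ker r`.
-/

set_option autoImplicit false
universe u

namespace Groth.Agent.Lib.HenselQuotientLift61

open Polynomial IsLocalRing

theorem hensel_surj {R C : Type*} [CommRing R] [CommRing C] [HenselianLocalRing C] (π : R →+* C)
    (hπ : Function.Surjective π) (M : Ideal R) [M.IsMaximal] (hker : RingHom.ker π ≤ M)
    (F : R[X]) (hF : F.Monic) (y : R) (h1 : F.eval y ∈ M) (h2 : (derivative F).eval y ∉ M) :
    ∃ y₁ : R, F.eval y₁ ∈ RingHom.ker π ∧ y₁ - y ∈ M := by
  have hmap_ne : M.map π ≠ ⊤ := by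
    intro htop
    have h3 : (M.map π).comap π = ⊤ := by rw [htop]; rfl
    rw [Ideal.comap_map_of_surjective _ hπ, ← RingHom.ker_eq_comap_bot, sup_eq_left.mpr hker] at h3
    exact (inferInstance : M.IsMaximal).ne_top h3
  have hle : M.map π ≤ maximalIdeal C := IsLocalRing.le_maximalIdeal hmap_ne
  have hMeq : M = (maximalIdeal C).comap π := by
    apply Ideal.IsMaximal.eq_of_le inferInstance
      (Ideal.comap_ne_top _ (maximalIdeal.isMaximal _).ne_top)
    exact Ideal.map_le_iff_le_comap.mp hle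
  have hMmem : ∀ z : R, z ∈ M ↔ π z ∈ maximalIdeal C := by
    intro z
    conv_lhs => rw [hMeq]
    rfl
  have hev : ∀ (G : R[X]) (z : R), (G.map π).eval (π z) = π (G.eval z) := by
    intro G z
    rw [eval_map, eval₂_at_apply]
  have h1' : (F.map π).eval (π y) ∈ maximalIdeal C := by
    rw [hev, ← hMmem]
    exact h1
  have h2' : IsUnit ((derivative (F.map π)).eval (π y)) := by
    rw [derivative_map, hev]
    by_contra hnu
    exact h2 ((hMmem _).mpr hnu)
  obtain ⟨a, haroot, haa₀⟩ := HenselianLocalRing.is_henselian _ (hF.map π) _ h1' h2'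
  obtain ⟨y₁, rfl⟩ := hπ a
  refine ⟨y₁, ?_, ?_⟩
  · rw [RingHom.mem_ker, ← hev]
    exact haroot
  · rw [hMmem, map_sub]
    exact haa₀

theorem hensel_of_integral (B R : Type u) [CommRing B] [HenselianLocalRing B] [CommRing R]
    [Algebra B R] [Algebra.IsIntegral B R] {K : Type*} [CommRing K] [IsDomain K] (r : R →+* K)
    (M : Ideal R) [M.IsMaximal] (hker : RingHom.ker r ≤ M)
    (F : B[X]) (hF : F.Monic) (y : R) (h1 : F.eval₂ (algebraMap B R) y ∈ M)
    (h2 : (derivative F).eval₂ (algebraMap B R) y ∉ M) :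
    ∃ y₁ : R, F.eval₂ (r.comp (algebraMap B R)) (r y₁) = 0 ∧ y₁ - y ∈ M := by
  obtain ⟨𝔮, h𝔮⟩ : ∃ I : Ideal R, I = RingHom.ker r := ⟨_, rfl⟩
  have h𝔮p : 𝔮.IsPrime := by rw [h𝔮]; exact RingHom.ker_isPrime _
  have hintC : Algebra.IsIntegral B (R ⧸ 𝔮) :=
    Algebra.IsIntegral.of_surjective (Ideal.Quotient.mkₐ B 𝔮) (Ideal.Quotient.mkₐ_surjective B 𝔮)
  have hlocC : IsLocalRing (R ⧸ 𝔮) :=
    Groth.Agent.Lib.HenselIntegralLocal.isLocalRing_of_isDomain_of_isIntegral B (R ⧸ 𝔮)
  have hhensC : HenselianLocalRing (R ⧸ 𝔮) :=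
    Groth.Agent.Lib.HenselIntegralLocal.henselianLocalRing_of_isIntegral B (R ⧸ 𝔮)
  have hker' : RingHom.ker (Ideal.Quotient.mk 𝔮) ≤ M := by
    rw [Ideal.mk_ker, h𝔮]
    exact hker
  obtain ⟨y₁, hy₁, hy₁y⟩ := hensel_surj (Ideal.Quotient.mk 𝔮) Ideal.Quotient.mk_surjective M hker'
    (F.map (algebraMap B R)) (hF.map _) y (by rw [eval_map]; exact h1)
    (by rw [derivative_map, eval_map]; exact h2)
  refine ⟨y₁, ?_, hy₁y⟩
  rw [Ideal.mk_ker, h𝔮, RingHom.mem_ker, eval_map, hom_eval₂] at hy₁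
  exact hy₁

end Groth.Agent.Lib.HenselQuotientLift61
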