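import Mathlib
import Groth.Agent.Lib.EssEtaleLift
import Groth.Agent.Lib.FEtFaithful

/-!
# Sections of étale schemes over a henselian local ring (helper61)

* `exists_section`: `R` henselian local, `f : X ⟶ Spec R` étale, `t : Spec k ⟶ X` a point of the
  closed fibre rational over the residue field `k`; then `t` extends to a section of `f`.
* `section_unique`: for `f` étale and separated, two sections that agree on the closed point
  are equal.
-/

set_option autoImplicit false
universe u
open CategoryTheory CategoryTheory.Limits AlgebraicGeometry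

namespace Groth.Agent.Lib.HenselSection61

/-- ring-level: a morphism `Spec k ⟶ Spec C` over `Spec R` (`R` henselian local with residue
field `k`, `C` étale over `R`) lifts to a section `Spec R ⟶ Spec C`. -/
theorem exists_section_affine (R : Type u) [CommRing R] [HenselianLocalRing R]
    (C : CommRingCat.{u}) (φ : CommRingCat.of R ⟶ C) (hφ : φ.hom.Etale)
    (χ₀ : C ⟶ CommRingCat.of (IsLocalRing.ResidueField R))
    (h : φ ≫ χ₀ = CommRingCat.ofHom (IsLocalRing.residue R)) :
    ∃ σ : C ⟶ CommRingCat.of R, φ ≫ σ = 𝟙 _ ∧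
      σ ≫ CommRingCat.ofHom (IsLocalRing.residue R) = χ₀ := by
  algebraize [φ.hom]
  have : Algebra.Etale R C := hφ
  let χ : C →ₐ[R] IsLocalRing.ResidueField R :=
    { χ₀.hom with
      commutes' := fun r => by
        have := congr($(h).hom r)
        simp only [CommRingCat.hom_comp, RingHom.coe_comp, Function.comp_apply,
          CommRingCat.hom_ofHom] at this
        exact this }
  have hχ_apply : ∀ x, χ x = χ₀.hom x := fun _ => rfl
  have hqprime : (RingHom.ker χ.toRingHom).IsPrime := RingHom.ker_isPrime _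
  obtain ⟨σ, hσ⟩ := Groth.Agent.Lib.EssEtaleLift.exists_algHom_lift (A := R) (C := C) (B := R)
    (RingHom.ker χ.toRingHom) χ (fun x hx => hx)
  refine ⟨CommRingCat.ofHom σ.toRingHom, ?_, ?_⟩
  · ext r
    change σ (algebraMap R C r) = r
    rw [σ.commutes]
    rfl
  · ext x
    change IsLocalRing.residue R (σ x) = χ₀.hom x
    rw [hσ, hχ_apply]

theorem exists_section (R : Type u) [CommRing R] [HenselianLocalRing R]
    {X : Scheme.{u}} (f : X ⟶ Spec (CommRingCat.of R)) [Etale f]
    (t : Spec (CommRingCat.of (IsLocalRing.ResidueField R)) ⟶ X)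
    (ht : t ≫ f = Spec.map (CommRingCat.ofHom (IsLocalRing.residue R))) :
    ∃ s : Spec (CommRingCat.of R) ⟶ X, s ≫ f = 𝟙 _ ∧
      Spec.map (CommRingCat.ofHom (IsLocalRing.residue R)) ≫ s = t := by
  let pt : Spec (CommRingCat.of (IsLocalRing.ResidueField R)) :=
    (⊥ : PrimeSpectrum (IsLocalRing.ResidueField R))
  obtain ⟨C, j, hj, x', hx'⟩ := X.exists_Spec_apply_eq (t pt)
  have hrange : Set.range t ⊆ Set.range j := by
    rintro _ ⟨z, rfl⟩
    have hz : z = pt := Subsingleton.elim (α := PrimeSpectrum (IsLocalRing.ResidueField R)) _ _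
    rw [hz]
    exact ⟨x', hx'⟩
  let t' : Spec (CommRingCat.of (IsLocalRing.ResidueField R)) ⟶ Spec C :=
    IsOpenImmersion.lift j t hrange
  have ht' : t' ≫ j = t := IsOpenImmersion.lift_fac j t hrange
  obtain ⟨φ, hφ⟩ := Spec.map_surjective (j ≫ f)
  obtain ⟨χ₀, hχ₀⟩ := Spec.map_surjective t'
  have hφet : φ.hom.Etale := by
    have : Etale (Spec.map φ) := by rw [hφ]; infer_instance
    exact (HasRingHomProperty.Spec_iff (P := @Etale)).mp this
  have hcomp : φ ≫ χ₀ = CommRingCat.ofHom (IsLocalRing.residue R) := by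
    apply Spec.map_injective
    rw [Spec.map_comp, hφ, hχ₀, ← Category.assoc, ht', ht]
  obtain ⟨σ, hσ1, hσ2⟩ := exists_section_affine R C φ hφet χ₀ hcomp
  refine ⟨Spec.map σ ≫ j, ?_, ?_⟩
  · rw [Category.assoc, ← hφ, ← Spec.map_comp, hσ1, Spec.map_id]
  · rw [← Category.assoc, ← Spec.map_comp, hσ2, hχ₀, ht']

theorem section_unique (R : Type u) [CommRing R] [IsLocalRing R]
    {X : Scheme.{u}} (f : X ⟶ Spec (CommRingCat.of R)) [Etale f] [IsSeparated f]
    (s s' : Spec (CommRingCat.of R) ⟶ X) (hs : s ≫ f = 𝟙 _) (hs' : s' ≫ f = 𝟙 _)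
    (h : Spec.map (CommRingCat.ofHom (IsLocalRing.residue R)) ≫ s =
      Spec.map (CommRingCat.ofHom (IsLocalRing.residue R)) ≫ s') : s = s' := by
  refine Groth.Agent.Lib.FEtFaithful.eq_of_comp_eq f s s' (hs.trans hs'.symm)
    (Spec.map (CommRingCat.ofHom (IsLocalRing.residue R))) ?_ h
  intro Z hZ hsub
  -- the closed point lies in `Z`
  have hcl : (IsLocalRing.closedPoint R : PrimeSpectrum R) ∈ Z := by
    apply hsub
    refine ⟨(⊥ : PrimeSpectrum (IsLocalRing.ResidueField R)), ?_⟩
    apply PrimeSpectrum.ext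
    change Ideal.comap (IsLocalRing.residue R) ⊥ = IsLocalRing.maximalIdeal R
    rw [← RingHom.ker_eq_comap_bot]
    exact IsLocalRing.ker_residue
  rw [Set.eq_univ_iff_forall]
  intro z
  have hspec : (z : PrimeSpectrum R) ⤳ IsLocalRing.closedPoint R :=
    IsLocalRing.specializes_closedPoint z
  exact hspec.mem_open hZ.2 hcl

end Groth.Agent.Lib.HenselSection61
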