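import Groth.Agent.Lib.HenselizationConstr
import Groth.Agent.Lib.HenselizationUP

/-!
# Recognising a henselization through a "generating" pair of subrings (helper61)

* `exists_algEquiv_of_isHenselization`: two henselizations of a local ring `L` are isomorphic as
  `L`-algebras.
* `isHenselization_of_epi`: let `Rh` be a henselization of `R₀`, `Sh` a henselization of `S₀`, and
  `L` a local ring with a local map `L → Sh`, together with maps `j : S₀ → L`, `k : Rh → L` that
  are jointly epimorphic, compatible with a local map `ρ : R₀ → S₀`, and such that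
  `S₀ → L → Sh` is the structure map.  Then `Sh` is a henselization of `L`.
  (Typical case: `L = (Rh ⊗[R] S)_Q`.)
-/

set_option autoImplicit false
universe u

namespace Groth.Agent.Lib.HenselizationEpi61

open IsLocalRing

section Unique

variable (L E Sh : Type u) [CommRing L] [IsLocalRing L]
  [CommRing E] [IsLocalRing E] [Algebra L E] [IsLocalHom (algebraMap L E)]
  [Hensel.IsHenselization L E]
  [CommRing Sh] [IsLocalRing Sh] [Algebra L Sh] [IsLocalHom (algebraMap L Sh)]
  [Hensel.IsHenselization L Sh]

/-- Two henselizations of `L` are isomorphic as `L`-algebras. -/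
theorem exists_algEquiv_of_isHenselization : Nonempty (E ≃ₐ[L] Sh) :=
  ⟨(Groth.Agent.Lib.HenselizationConstr.equivHzn L E).trans
    (Groth.Agent.Lib.HenselizationConstr.equivHzn L Sh).symm⟩

end Unique

section Epi

variable (R₀ Rh S₀ Sh L : Type u) [CommRing R₀] [IsLocalRing R₀] [CommRing Rh] [IsLocalRing Rh]
  [Algebra R₀ Rh] [IsLocalHom (algebraMap R₀ Rh)] [Hensel.IsHenselization R₀ Rh]
  [CommRing S₀] [IsLocalRing S₀] [CommRing Sh] [IsLocalRing Sh] [Algebra S₀ Sh]
  [IsLocalHom (algebraMap S₀ Sh)] [Hensel.IsHenselization S₀ Sh]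
  [CommRing L] [IsLocalRing L] [Algebra L Sh] [IsLocalHom (algebraMap L Sh)]

/-- See the module docstring. -/
theorem isHenselization_of_epi
    (ρ : R₀ →+* S₀) [IsLocalHom ρ] (j : S₀ →+* L) (k : Rh →+* L)
    (hj : (algebraMap L Sh).comp j = algebraMap S₀ Sh)
    (hjk : j.comp ρ = k.comp (algebraMap R₀ Rh))
    (hepi : ∀ (T : Type u) [CommRing T] (u v : L →+* T),
      u.comp j = v.comp j → u.comp k = v.comp k → u = v) :
    Hensel.IsHenselization L Sh := by
  have hjloc : IsLocalHom j := by
    refine ⟨fun x hx => ?_⟩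
    have h1 : IsUnit (algebraMap L Sh (j x)) := hx.map _
    have h2 : algebraMap L Sh (j x) = algebraMap S₀ Sh x :=
      congrArg (fun φ : S₀ →+* Sh => φ x) hj
    rw [h2] at h1
    exact isUnit_of_map_unit (algebraMap S₀ Sh) x h1
  refine ⟨Hensel.IsHenselization.henselian (R := S₀), ?_⟩
  intro T _ _ f hf
  have hfj : IsLocalHom (f.comp j) := RingHom.isLocalHom_comp f j
  obtain ⟨g, hg, hguniq⟩ :=
    Hensel.IsHenselization.universal (R := S₀) (S := Sh) T (f.comp j) hfj
  refine ⟨g, ?_, ?_⟩
  · apply hepi T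
    · rw [RingHom.comp_assoc, hj, hg]
    · -- two maps `Rh → T` agreeing on `R₀`
      have hloc : IsLocalHom ((f.comp j).comp ρ) := RingHom.isLocalHom_comp (f.comp j) ρ
      obtain ⟨g₀, -, hg₀⟩ :=
        Hensel.IsHenselization.universal (R := R₀) (S := Rh) T ((f.comp j).comp ρ) hloc
      have e1 : ((g.comp (algebraMap L Sh)).comp k).comp (algebraMap R₀ Rh)
          = (f.comp j).comp ρ := by
        have e0 : (g.comp (algebraMap L Sh)).comp j = f.comp j := by
          rw [RingHom.comp_assoc, hj, hg]
        rw [RingHom.comp_assoc, ← hjk, ← RingHom.comp_assoc, e0]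
      have e2 : (f.comp k).comp (algebraMap R₀ Rh) = (f.comp j).comp ρ := by
        rw [RingHom.comp_assoc, ← hjk, RingHom.comp_assoc]
      rw [hg₀ _ e1, hg₀ _ e2]
  · intro g' hg'
    apply hguniq
    rw [← hj, ← RingHom.comp_assoc, hg']

end Epi

end Groth.Agent.Lib.HenselizationEpi61
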