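import Groth.Agent.Lib.HenselizationFlat
import Mathlib.RingTheory.Flat.Stability
import Mathlib.RingTheory.TensorProduct.Maps

/-!
# Flatness of maps out of the henselization (helper22)

If `φ : R → T` is a flat local homomorphism to a henselian local ring, then the induced map
`Hzn R → T` is flat (hence faithfully flat).

* `flat_of_generators_locally_killed`: general criterion (`T` is a localization of `B ⊗[A] T`).
* `flat_of_directed_system_source`: flatness over a directed colimit of rings.
* `flat_lift`, `flat_liftHzn`.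
-/

namespace Groth.Agent.Lib.HenselizationLiftFlat

open Polynomial IsLocalRing TensorProduct Groth.Agent.Lib.HenselStep
  Groth.Agent.Lib.HenselizationConstr Groth.Agent.Lib.HenselizationFlat

universe u

section General

variable {A B T : Type*} [CommRing A] [CommRing B] [CommRing T]
  [Algebra A B] [Algebra A T] [Algebra B T] [IsScalarTower A B T]

variable (A B T) in
/-- The multiplication map `B ⊗[A] T → T`. -/
noncomputable def eps : B ⊗[A] T →ₐ[A] T :=
  Algebra.TensorProduct.productMap (IsScalarTower.toAlgHom A B T) (AlgHom.id A T)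

@[simp]
theorem eps_tmul (b : B) (t : T) : eps A B T (b ⊗ₜ t) = algebraMap B T b * t := rfl

/-- The ideal of `B ⊗[A] T` generated by the `x ⊗ 1 - 1 ⊗ x` for `x` in a generating set of `B`
contains all `z - 1 ⊗ ε z`. -/
theorem sub_mem_span (G : Set B) (hG : Algebra.adjoin A G = ⊤) (z : B ⊗[A] T) :
    z - (1 : B) ⊗ₜ[A] (eps A B T z) ∈
      Ideal.span ((fun x : B => x ⊗ₜ[A] (1 : T) - (1 : B) ⊗ₜ[A] algebraMap B T x) '' G) := by
  set K := Ideal.span ((fun x : B => x ⊗ₜ[A] (1 : T) - (1 : B) ⊗ₜ[A] algebraMap B T x) '' G)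
    with hK
  have hB : ∀ b : B, b ⊗ₜ[A] (1 : T) - (1 : B) ⊗ₜ[A] algebraMap B T b ∈ K := by
    intro b
    have hb : b ∈ Algebra.adjoin A G := hG ▸ Algebra.mem_top
    induction hb using Algebra.adjoin_induction with
    | mem x hx => exact Ideal.subset_span ⟨x, hx, rfl⟩
    | algebraMap a =>
      have : algebraMap A B a ⊗ₜ[A] (1 : T) - (1 : B) ⊗ₜ[A] algebraMap B T (algebraMap A B a) = 0 := by
        rw [← IsScalarTower.algebraMap_apply A B T, Algebra.algebraMap_eq_smul_one,
          Algebra.algebraMap_eq_smul_one, TensorProduct.smul_tmul, sub_self]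
      rw [this]
      exact K.zero_mem
    | add x y _ _ hx hy =>
      have : (x + y) ⊗ₜ[A] (1 : T) - (1 : B) ⊗ₜ[A] algebraMap B T (x + y) =
          (x ⊗ₜ[A] (1 : T) - (1 : B) ⊗ₜ[A] algebraMap B T x) +
          (y ⊗ₜ[A] (1 : T) - (1 : B) ⊗ₜ[A] algebraMap B T y) := by
        rw [map_add, TensorProduct.add_tmul, TensorProduct.tmul_add]
        ring
      rw [this]
      exact K.add_mem hx hy
    | mul x y _ _ hx hy =>
      have : (x * y) ⊗ₜ[A] (1 : T) - (1 : B) ⊗ₜ[A] algebraMap B T (x * y) =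
          (x ⊗ₜ[A] (1 : T)) * (y ⊗ₜ[A] (1 : T) - (1 : B) ⊗ₜ[A] algebraMap B T y) +
          (x ⊗ₜ[A] (1 : T) - (1 : B) ⊗ₜ[A] algebraMap B T x) *
            ((1 : B) ⊗ₜ[A] algebraMap B T y) := by
        rw [map_mul, mul_sub, sub_mul]
        simp only [Algebra.TensorProduct.tmul_mul_tmul, mul_one, one_mul]
        ring
      rw [this]
      exact K.add_mem (K.mul_mem_left _ hy) (K.mul_mem_right _ hx)
  induction z using TensorProduct.induction_on with
  | zero => simp
  | tmul b t =>
    have : b ⊗ₜ[A] t - (1 : B) ⊗ₜ[A] (eps A B T (b ⊗ₜ[A] t)) =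
        (b ⊗ₜ[A] (1 : T) - (1 : B) ⊗ₜ[A] algebraMap B T b) * ((1 : B) ⊗ₜ[A] t) := by
      rw [eps_tmul, sub_mul]
      simp only [Algebra.TensorProduct.tmul_mul_tmul, mul_one, one_mul]
    rw [this]
    exact K.mul_mem_right _ (hB b)
  | add x y hx hy =>
    have : x + y - (1 : B) ⊗ₜ[A] (eps A B T (x + y)) =
        (x - (1 : B) ⊗ₜ[A] (eps A B T x)) + (y - (1 : B) ⊗ₜ[A] (eps A B T y)) := by
      rw [map_add, TensorProduct.tmul_add]
      ring
    rw [this]
    exact K.add_mem hx hy

/-- Flatness criterion: `A → T` flat, `B` an `A`-algebra mapping to `T`, generated by a set `G` such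
that each `x ⊗ 1 - 1 ⊗ x` (`x ∈ G`) is killed by an element of `B ⊗[A] T` mapping to a unit of
`T`. Then `T` is a localization of `B ⊗[A] T`, hence flat over `B`. -/
theorem flat_of_generators_locally_killed [Module.Flat A T] (G : Set B)
    (hG : Algebra.adjoin A G = ⊤)
    (h : ∀ x ∈ G, ∃ c : B ⊗[A] T, IsUnit (eps A B T c) ∧
      c * (x ⊗ₜ[A] (1 : T) - (1 : B) ⊗ₜ[A] algebraMap B T x) = 0) :
    Module.Flat B T := by
  let C := B ⊗[A] T
  let ε : C →+* T := (eps A B T).toRingHom
  let M : Submonoid C := (IsUnit.submonoid T).comap ε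
  let _ : Algebra C T := ε.toAlgebra
  have htower : IsScalarTower B C T := by
    refine IsScalarTower.of_algebraMap_eq fun b => ?_
    show algebraMap B T b = eps A B T (b ⊗ₜ[A] (1 : T))
    rw [eps_tmul, mul_one]
  set K := Ideal.span ((fun x : B => x ⊗ₜ[A] (1 : T) - (1 : B) ⊗ₜ[A] algebraMap B T x) '' G)
    with hK
  have hkill : ∀ z ∈ K, ∃ c ∈ M, c * z = 0 := by
    intro z hz
    induction hz using Submodule.span_induction with
    | mem z hz =>
      obtain ⟨x, hx, rfl⟩ := hz
      obtain ⟨c, hc, hc0⟩ := h x hx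
      exact ⟨c, hc, hc0⟩
    | zero => exact ⟨1, M.one_mem, by simp⟩
    | add x y _ _ hx hy =>
      obtain ⟨c, hc, hc0⟩ := hx
      obtain ⟨d, hd, hd0⟩ := hy
      refine ⟨c * d, M.mul_mem hc hd, ?_⟩
      rw [mul_add, mul_right_comm, hc0, zero_mul, mul_assoc, hd0, mul_zero, add_zero]
    | smul a x _ hx =>
      obtain ⟨c, hc, hc0⟩ := hx
      refine ⟨c, hc, ?_⟩
      rw [smul_eq_mul, mul_left_comm, hc0, mul_zero]
  have hloc : IsLocalization M T := by
    rw [isLocalization_iff]
    refine ⟨fun y => y.2, fun t => ⟨((1 : B) ⊗ₜ[A] t, 1), ?_⟩, fun {x y} hxy => ?_⟩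
    · show t * ε 1 = ε ((1 : B) ⊗ₜ[A] t)
      rw [map_one, mul_one]
      show t = eps A B T ((1 : B) ⊗ₜ[A] t)
      rw [eps_tmul, map_one, one_mul]
    · have hxy' : eps A B T (x - y) = 0 := by
        rw [map_sub, sub_eq_zero]
        exact hxy
      have hmem : x - y ∈ K := by
        have := sub_mem_span (A := A) (T := T) G hG (x - y)
        rwa [hxy', TensorProduct.tmul_zero, sub_zero] at this
      obtain ⟨c, hc, hc0⟩ := hkill _ hmem
      refine ⟨⟨c, hc⟩, ?_⟩
      show c * x = c * y
      rw [← sub_eq_zero, ← mul_sub, hc0]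
  have h1 : Module.Flat C T := IsLocalization.flat T M
  have h2 : Module.Flat B C := inferInstance
  exact Module.Flat.trans B C T

end General

/-- Flatness over a directed colimit of rings: if `T` is flat over every `Sj j` (compatibly), it is
flat over `S = colim Sj`. -/
theorem flat_of_directed_system_source {ι : Type*} [Preorder ι] [IsDirectedOrder ι] [Nonempty ι]
    {S T : Type*} [CommRing S] [CommRing T] (g : S →+* T)
    (Sj : ι → Type*) [∀ j, CommRing (Sj j)]
    (ψ : ∀ j, Sj j →+* S) (hflat : ∀ j, (g.comp (ψ j)).Flat)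
    (μ : ∀ i j : ι, i ≤ j → Sj i →+* Sj j)
    (hμ : ∀ (i j : ι) (h : i ≤ j), (ψ j).comp (μ i j h) = ψ i)
    (hS : ∀ s : S, ∃ j x, ψ j x = s) :
    g.Flat := by
  classical
  let := g.toAlgebra
  show Module.Flat S T
  refine Module.Flat.of_forall_isTrivialRelation ?_
  intro l f x h
  choose jf f0 hf0 using fun i => hS (f i)
  obtain ⟨j, hj⟩ := Finset.exists_le (Finset.univ.image jf)
  have af : ∀ i, jf i ≤ j := fun i => hj _ (Finset.mem_image_of_mem _ (Finset.mem_univ i))
  let f1 : Fin l → Sj j := fun i => μ (jf i) j (af i) (f0 i)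
  have hf1 : ∀ i, ψ j (f1 i) = f i := fun i => by
    rw [← hf0 i]; exact RingHom.congr_fun (hμ (jf i) j (af i)) (f0 i)
  let := (g.comp (ψ j)).toAlgebra
  have hfl : Module.Flat (Sj j) T := hflat j
  have hrel : ∑ i, f1 i • x i = 0 := by
    rw [← h]
    refine Finset.sum_congr rfl (fun i _ => ?_)
    rw [Algebra.smul_def, Algebra.smul_def, ← hf1 i]
    rfl
  obtain ⟨n, a', y', hxa, hfa⟩ := Module.Flat.isTrivialRelation_of_sum_smul_eq_zero hrel
  refine ⟨n, fun i m => ψ j (a' i m), y', fun i => ?_, fun m => ?_⟩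
  · rw [hxa i]
    refine Finset.sum_congr rfl (fun m _ => ?_)
    rw [Algebra.smul_def, Algebra.smul_def]
    rfl
  · rw [← map_zero (ψ j), ← hfa m, map_sum]
    refine Finset.sum_congr rfl (fun i _ => ?_)
    rw [map_mul, hf1]


section Step

variable {A : Type u} [CommRing A] [IsLocalRing A]

theorem aeval_mk_X (p : HData A) :
    Polynomial.aeval (Ideal.Quotient.mk (relIdeal A) (MvPolynomial.X p)) p.poly = 0 := by
  have h1 : Polynomial.aeval (MvPolynomial.X p : MvPolynomial (HData A) A) p.poly ∈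
      relIdeal A := Ideal.subset_span ⟨p, rfl⟩
  have h2 := Ideal.Quotient.eq_zero_iff_mem.mpr h1
  have h3 : Polynomial.aeval (Ideal.Quotient.mk (relIdeal A) (MvPolynomial.X p)) p.poly =
      Ideal.Quotient.mk (relIdeal A)
        (Polynomial.aeval (MvPolynomial.X p : MvPolynomial (HData A) A) p.poly) :=
    (Polynomial.aeval_algHom_apply (Ideal.Quotient.mkₐ A (relIdeal A)) _ _)
  rw [h3, h2]

theorem adjoin_range_mk_X :
    Algebra.adjoin A (Set.range fun p : HData A =>
      Ideal.Quotient.mk (relIdeal A) (MvPolynomial.X p)) = ⊤ := by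
  have h1 := MvPolynomial.adjoin_range_X (R := A) (σ := HData A)
  have h2 := congrArg (Subalgebra.map (Ideal.Quotient.mkₐ A (relIdeal A))) h1
  rw [AlgHom.map_adjoin, Algebra.map_top, ← Set.range_comp,
    (AlgHom.range_eq_top _).mpr (Ideal.Quotient.mkₐ_surjective A _)] at h2
  exact h2

variable {T : Type*} [CommRing T] [HenselianLocalRing T] (φ : A →+* T) [IsLocalHom φ]

theorem flat_liftPre (hφ : φ.Flat) : (liftPre φ).Flat := by
  let : Algebra A T := φ.toAlgebra
  let : Algebra (StepPre A) T := (liftPre φ).toAlgebra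
  have : IsScalarTower A (StepPre A) T :=
    IsScalarTower.of_algebraMap_eq fun a => (liftPre_algebraMap φ a).symm
  have : Module.Flat A T := hφ
  show Module.Flat (StepPre A) T
  refine flat_of_generators_locally_killed (A := A)
    (Set.range fun p : HData A => Ideal.Quotient.mk (relIdeal A) (MvPolynomial.X p))
    adjoin_range_mk_X ?_
  rintro _ ⟨p, rfl⟩
  set x : StepPre A := Ideal.Quotient.mk (relIdeal A) (MvPolynomial.X p) with hx
  set r : T := rootIn φ p with hr
  have hxr : algebraMap (StepPre A) T x = r := liftPre_mk_X φ p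
  set F : T[X] := p.poly.map φ with hF
  have hroot : F.IsRoot r := rootIn_isRoot φ p
  set H : T[X] := F /ₘ (Polynomial.X - Polynomial.C r) with hH
  have hFH : (Polynomial.X - Polynomial.C r) * H = F :=
    Polynomial.mul_divByMonic_eq_iff_isRoot.mpr hroot
  let ιT : T →+* StepPre A ⊗[A] T :=
    (Algebra.TensorProduct.includeRight : T →ₐ[A] StepPre A ⊗[A] T).toRingHom
  let ιB : StepPre A →+* StepPre A ⊗[A] T :=
    (Algebra.TensorProduct.includeLeft : StepPre A →ₐ[A] StepPre A ⊗[A] T).toRingHom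
  have hι : ιT.comp φ = ιB.comp (algebraMap A (StepPre A)) := by
    ext a
    show (1 : StepPre A) ⊗ₜ[A] (algebraMap A T a) = (algebraMap A (StepPre A) a) ⊗ₜ[A] (1 : T)
    rw [Algebra.algebraMap_eq_smul_one, Algebra.algebraMap_eq_smul_one, TensorProduct.smul_tmul]
  refine ⟨H.eval₂ ιT (x ⊗ₜ[A] (1 : T)), ?_, ?_⟩
  · have h1 : eps A (StepPre A) T (H.eval₂ ιT (x ⊗ₜ[A] (1 : T))) = H.eval r := by
      have h2 := Polynomial.hom_eval₂ H ιT (eps A (StepPre A) T).toRingHom (x ⊗ₜ[A] (1 : T))
      have h3 : (eps A (StepPre A) T).toRingHom.comp ιT = RingHom.id T := by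
        ext t
        show eps A (StepPre A) T ((1 : StepPre A) ⊗ₜ[A] t) = t
        rw [eps_tmul, map_one, one_mul]
      have h4 : (eps A (StepPre A) T).toRingHom (x ⊗ₜ[A] (1 : T)) = r := by
        show eps A (StepPre A) T (x ⊗ₜ[A] (1 : T)) = r
        rw [eps_tmul, mul_one, hxr]
      rw [h3, h4, Polynomial.eval₂_id] at h2
      exact h2
    rw [h1]
    have h5 : F.derivative.eval r = H.eval r := by
      rw [← hFH, Polynomial.derivative_mul]
      simp
    rw [← h5]
    exact isUnit_derivative_rootIn φ p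
  · have h1 : (x ⊗ₜ[A] (1 : T) - (1 : StepPre A) ⊗ₜ[A] algebraMap (StepPre A) T x) =
        (Polynomial.X - Polynomial.C r).eval₂ ιT (x ⊗ₜ[A] (1 : T)) := by
      rw [hxr]
      have h0 := Polynomial.eval₂_sub (p := (Polynomial.X : T[X])) (q := Polynomial.C r) ιT
        (x := x ⊗ₜ[A] (1 : T))
      rw [Polynomial.eval₂_X, Polynomial.eval₂_C] at h0
      exact h0.symm
    rw [h1, mul_comm, ← Polynomial.eval₂_mul, hFH, hF, Polynomial.eval₂_map, hι]
    have h2 : x ⊗ₜ[A] (1 : T) = ιB x := rfl
    rw [h2, ← Polynomial.hom_eval₂, ← Polynomial.aeval_def, aeval_mk_X, map_zero]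

theorem flat_lift (hφ : φ.Flat) : (lift φ).Flat := by
  have h := flat_liftPre φ hφ
  let : Algebra (StepPre A) T := (liftPre φ).toAlgebra
  let : Algebra (Step A) T := (lift φ).toAlgebra
  have : IsScalarTower (StepPre A) (Step A) T :=
    IsScalarTower.of_algebraMap_eq fun a => (lift_algebraMapPre φ a).symm
  have h' : Module.Flat (StepPre A) T := h
  show Module.Flat (Step A) T
  exact (Module.flat_iff_of_isLocalization (Step A) (stepPrime A).primeCompl T).mpr h'

end Step

section Tower

variable {R : Type u} [CommRing R] [IsLocalRing R]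
variable {T : Type*} [CommRing T] [HenselianLocalRing T] (f : R →+* T) [hf : IsLocalHom f]

theorem flat_stageMap (hfl : f.Flat) (n : ℕ) : ((stageMap f n).1).Flat := by
  induction n with
  | zero => exact hfl
  | succ n ih =>
    exact @flat_lift (G R n) _ _ T _ _ (stageMap f n).1 (stageMap f n).2 ih

theorem flat_liftHzn (hfl : f.Flat) : (liftHzn f).Flat := by
  refine flat_of_directed_system_source (ι := ℕ) (liftHzn f) (G R) (fun n => ofStage R n)
    (fun n => ?_) (fun i j h => trans R i j h) (fun i j h => ofStage_comp_trans R i j h)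
    (fun s => exists_ofStage R s)
  have : (liftHzn f).comp (ofStage R n) = (stageMap f n).1 :=
    RingHom.ext fun x => liftHzn_ofStage f n x
  rw [this]
  exact flat_stageMap f hfl n

instance isLocalHom_liftHzn : IsLocalHom (liftHzn f) := by
  refine ⟨fun z hz => ?_⟩
  obtain ⟨n, x, rfl⟩ := exists_ofStage R z
  rw [liftHzn_ofStage] at hz
  have := (stageMap f n).2
  exact (isUnit_of_map_unit (stageMap f n).1 x hz).map _

end Tower

end Groth.Agent.Lib.HenselizationLiftFlat
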