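import Groth.Agent.Lib.LocalEtaleNbhd
import Groth.Agent.Lib.FpModelLocalization61
import Groth.Agent.Lib.WeaklyEtaleFlat61
import Groth.Agent.Lib.EssEtaleLift
import Groth.Agent.Lib.HenselizationUP
import Groth.Agent.Lib.HenselizationFlat
import Mathlib.RingTheory.LocalRing.ResidueField.Ideal

/-!
# The henselization of `R_p` as a colimit of étale `R`-algebras (helper61)

Pieces for S9470: residue field criteria, existence and uniqueness of maps from étale neighbourhoods
`(S, q)` of `p` with trivial residue field extension to a henselization `Rh` of `R_p`, every element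
of `Rh` comes from such a neighbourhood, and kernel elements die in a principal localization.
-/

set_option autoImplicit false
universe u

namespace Groth.Agent.Lib.HenselizationNbhd61

open IsLocalRing

section Residue

variable {R S : Type*} [CommRing R] [CommRing S] [Algebra R S] (p : Ideal R) [p.IsPrime]
  (q : Ideal S) [q.IsPrime] (hq : p = q.comap (algebraMap R S))

include hq in
theorem residueField_map_surjective_of_forall
    (h : ∀ s : S, ∃ a b : R, b ∉ p ∧ s * algebraMap R S b - algebraMap R S a ∈ q) :
    Function.Surjective (Ideal.ResidueField.map p q (algebraMap R S) hq) := by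
  intro k
  let F := (Ideal.ResidueField.map p q (algebraMap R S) hq).fieldRange
  have hR : ∀ r : R, algebraMap S q.ResidueField (algebraMap R S r) ∈ F := fun r =>
    ⟨algebraMap R p.ResidueField r, Ideal.ResidueField.map_algebraMap p q _ hq r⟩
  have hS : ∀ s : S, algebraMap S q.ResidueField s ∈ F := by
    intro s
    obtain ⟨a, b, hb, hab⟩ := h s
    have h0 : algebraMap S q.ResidueField (s * algebraMap R S b - algebraMap R S a) = 0 :=
      Ideal.algebraMap_residueField_eq_zero.mpr hab
    rw [map_sub, map_mul, sub_eq_zero] at h0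
    have hbne : algebraMap S q.ResidueField (algebraMap R S b) ≠ 0 := by
      rw [Ne, Ideal.algebraMap_residueField_eq_zero]
      intro hmem
      apply hb
      rw [hq]
      exact hmem
    have h1 : algebraMap S q.ResidueField s =
        algebraMap S q.ResidueField (algebraMap R S a) /
          algebraMap S q.ResidueField (algebraMap R S b) := by
      rw [eq_div_iff hbne, h0]
    rw [h1]
    exact F.div_mem (hR a) (hR b)
  obtain ⟨x, y, -, rfl⟩ := IsFractionRing.div_surjective (S ⧸ q) k
  obtain ⟨s, rfl⟩ := Ideal.Quotient.mk_surjective x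
  obtain ⟨t, rfl⟩ := Ideal.Quotient.mk_surjective y
  exact RingHom.mem_fieldRange.mp (F.div_mem (hS s) (hS t))

include hq in
theorem forall_of_residueField_map_surjective
    (h : Function.Surjective (Ideal.ResidueField.map p q (algebraMap R S) hq)) (s : S) :
    ∃ a b : R, b ∉ p ∧ s * algebraMap R S b - algebraMap R S a ∈ q := by
  obtain ⟨y, hy⟩ := h (algebraMap S q.ResidueField s)
  obtain ⟨z, rfl⟩ := residue_surjective y
  obtain ⟨⟨a, b⟩, hz⟩ := IsLocalization.surj p.primeCompl z
  refine ⟨a, b, b.2, ?_⟩
  rw [← Ideal.algebraMap_residueField_eq_zero, map_sub, map_mul, sub_eq_zero, ← hy,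
    ← Ideal.ResidueField.map_algebraMap p q _ hq, ← Ideal.ResidueField.map_algebraMap p q _ hq,
    ← map_mul]
  congr 1
  have hr : ∀ r : R, algebraMap R p.ResidueField r =
      residue (Localization.AtPrime p) (algebraMap R (Localization.AtPrime p) r) := fun r => rfl
  rw [hr, hr, ← map_mul]
  exact congrArg _ hz

end Residue

section Main

variable {R : Type u} [CommRing R] (p : Ideal R) [p.IsPrime] (Rh : Type u) [CommRing Rh]
  [IsLocalRing Rh] [Algebra (Localization.AtPrime p) Rh]
  [IsLocalHom (algebraMap (Localization.AtPrime p) Rh)]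
  [Hensel.IsHenselization (Localization.AtPrime p) Rh] [Algebra R Rh]
  [IsScalarTower R (Localization.AtPrime p) Rh]

omit [Hensel.IsHenselization (Localization.AtPrime p) Rh] in
theorem comap_algebraMap_maximalIdeal : (maximalIdeal Rh).comap (algebraMap R Rh) = p := by
  rw [IsScalarTower.algebraMap_eq R (Localization.AtPrime p) Rh, ← Ideal.comap_comap,
    IsLocalRing.maximalIdeal_comap]
  exact IsLocalization.AtPrime.under_maximalIdeal _ p

variable {S : Type u} [CommRing S] [Algebra R S] (θ : S →ₐ[R] Rh)

omit [Hensel.IsHenselization (Localization.AtPrime p) Rh] in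
theorem comap_comap_eq :
    p = ((maximalIdeal Rh).comap θ.toRingHom).comap (algebraMap R S) := by
  rw [Ideal.comap_comap, AlgHom.toRingHom_eq_coe, AlgHom.comp_algebraMap]
  exact (comap_algebraMap_maximalIdeal p Rh).symm

theorem exists_sub_mem_comap (s : S) :
    ∃ a b : R, b ∉ p ∧
      s * algebraMap R S b - algebraMap R S a ∈ (maximalIdeal Rh).comap θ.toRingHom := by
  obtain ⟨y, hy⟩ := (Groth.Agent.Lib.HenselizationUP.residueFieldMap_bijective
    (Localization.AtPrime p) Rh).2 (residue Rh (θ s))
  obtain ⟨z, rfl⟩ := residue_surjective y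
  rw [ResidueField.map_residue] at hy
  have hmem : θ s - algebraMap (Localization.AtPrime p) Rh z ∈ maximalIdeal Rh := by
    rw [← Ideal.Quotient.eq]
    exact hy.symm
  obtain ⟨⟨a, b⟩, hz⟩ := IsLocalization.surj p.primeCompl z
  refine ⟨a, b, b.2, ?_⟩
  rw [Ideal.mem_comap]
  have h1 : θ.toRingHom (s * algebraMap R S b - algebraMap R S a) =
      (θ s - algebraMap (Localization.AtPrime p) Rh z) * algebraMap R Rh b := by
    simp only [AlgHom.toRingHom_eq_coe, RingHom.coe_coe, map_sub, map_mul, AlgHom.commutes]
    rw [sub_mul, IsScalarTower.algebraMap_apply R (Localization.AtPrime p) Rh b, ← map_mul, hz,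
      IsScalarTower.algebraMap_apply R (Localization.AtPrime p) Rh a]
  rw [h1]
  exact Ideal.mul_mem_right _ _ hmem

theorem residueField_map_bijective :
    Function.Bijective (Ideal.ResidueField.map p ((maximalIdeal Rh).comap θ.toRingHom)
      (algebraMap R S) (comap_comap_eq p Rh θ)) :=
  ⟨RingHom.injective _, residueField_map_surjective_of_forall p _ _
    (exists_sub_mem_comap p Rh θ)⟩

section PartA

variable (S) [Algebra.Etale R S] (q : Ideal S) [q.IsPrime] (hq : p = q.comap (algebraMap R S))
  (hbij : Function.Bijective (Ideal.ResidueField.map p q (algebraMap R S) hq))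

omit [Hensel.IsHenselization (Localization.AtPrime p) Rh] in
theorem residue_algebraMap_eq_zero_iff (r : R) :
    residue Rh (algebraMap R Rh r) = 0 ↔ r ∈ p := by
  rw [residue_eq_zero_iff, ← Ideal.mem_comap, comap_algebraMap_maximalIdeal p Rh]

include hbij in
theorem exists_algHom : ∃ f : S →ₐ[R] Rh, (maximalIdeal Rh).comap f.toRingHom = q := by
  haveI : HenselianLocalRing Rh :=
    Hensel.IsHenselization.henselian (R := Localization.AtPrime p) (S := Rh)
  let ρ : p.ResidueField →+* ResidueField Rh :=
    Ideal.ResidueField.lift p ((residue Rh).comp (algebraMap R Rh))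
      (fun r hr => by
        rw [RingHom.mem_ker, RingHom.comp_apply]
        exact (residue_algebraMap_eq_zero_iff p Rh r).mpr hr)
      (fun r hr => by
        rw [Submonoid.mem_comap]
        show IsUnit ((residue Rh) (algebraMap R Rh r))
        rw [isUnit_iff_ne_zero, Ne, residue_algebraMap_eq_zero_iff p Rh r]
        exact hr)
  let e : p.ResidueField ≃+* q.ResidueField := RingEquiv.ofBijective _ hbij
  let χ : S →ₐ[R] ResidueField Rh :=
    { toRingHom := ρ.comp ((e.symm : q.ResidueField →+* p.ResidueField).comp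
        (algebraMap S q.ResidueField))
      commutes' := fun r => by
        show ρ (e.symm (algebraMap S q.ResidueField (algebraMap R S r))) = _
        have h1 : algebraMap S q.ResidueField (algebraMap R S r) =
            e (algebraMap R p.ResidueField r) :=
          (Ideal.ResidueField.map_algebraMap p q _ hq r).symm
        rw [h1, RingEquiv.symm_apply_apply]
        exact Ideal.ResidueField.lift_algebraMap p _ _ _ r }
  have hχ0 : ∀ x, χ x = 0 ↔ x ∈ q := by
    intro x
    show ρ (e.symm (algebraMap S q.ResidueField x)) = 0 ↔ _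
    rw [map_eq_zero, map_eq_zero, Ideal.algebraMap_residueField_eq_zero]
  obtain ⟨σ, hσ⟩ := Groth.Agent.Lib.EssEtaleLift.exists_algHom_lift q χ
    (fun x hx => (hχ0 x).mp hx)
  refine ⟨σ, ?_⟩
  ext x
  rw [Ideal.mem_comap, ← hχ0 x, ← hσ x, residue_eq_zero_iff]
  rfl

include hbij in
omit [Hensel.IsHenselization (Localization.AtPrime p) Rh] in
theorem algHom_unique (f₁ f₂ : S →ₐ[R] Rh)
    (h₁ : (maximalIdeal Rh).comap f₁.toRingHom = q)
    (h₂ : (maximalIdeal Rh).comap f₂.toRingHom = q) : f₁ = f₂ := by
  apply Groth.Agent.Lib.EssEtale.algHom_ext_of_residue_eq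
  intro x
  obtain ⟨a, b, hb, hab⟩ := forall_of_residueField_map_surjective p q hq hbij.2 x
  have hβ : residue Rh (algebraMap R Rh b) ≠ 0 := by
    rw [Ne, residue_algebraMap_eq_zero_iff p Rh b]
    exact hb
  have key : ∀ f : S →ₐ[R] Rh, (maximalIdeal Rh).comap f.toRingHom = q →
      residue Rh (f x) * residue Rh (algebraMap R Rh b) = residue Rh (algebraMap R Rh a) := by
    intro f hf
    have hmem : x * algebraMap R S b - algebraMap R S a ∈
        (maximalIdeal Rh).comap f.toRingHom := by
      rw [hf]; exact hab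
    rw [Ideal.mem_comap, ← residue_eq_zero_iff] at hmem
    simp only [AlgHom.toRingHom_eq_coe, RingHom.coe_coe, map_sub, map_mul, AlgHom.commutes]
      at hmem
    exact sub_eq_zero.mp hmem
  exact mul_right_cancel₀ hβ ((key f₁ h₁).trans (key f₂ h₂).symm)

end PartA

section PartC

variable (S) [Algebra.Etale R S]

include p in
/-- A kernel element of a map from an étale `R`-algebra to the henselization is killed by an
element which becomes a unit. -/
theorem exists_kill (f : S →ₐ[R] Rh) (s : S) (hs : f s = 0) :
    ∃ t : S, t ∉ (maximalIdeal Rh).comap f.toRingHom ∧ t * s = 0 := by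
  haveI : Module.FaithfullyFlat (Localization.AtPrime p) Rh :=
    Groth.Agent.Lib.HenselizationFlat.faithfullyFlat_of_isHenselization _ Rh
  haveI : Module.Flat R Rh := Module.Flat.trans R (Localization.AtPrime p) Rh
  letI : Algebra S Rh := f.toRingHom.toAlgebra
  haveI : IsScalarTower R S Rh := IsScalarTower.of_algebraMap_eq fun r => (f.commutes r).symm
  haveI : Module.Flat S Rh := Groth.Agent.Lib.WeaklyEtaleFlat61.flat_of_weaklyEtale R S Rh
  have hrel : ∑ i : Fin 1, (fun _ : Fin 1 => s) i • (fun _ : Fin 1 => (1 : Rh)) i = 0 := by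
    simp only [Finset.univ_unique, Finset.sum_singleton]
    show f s * 1 = 0
    rw [hs, zero_mul]
  obtain ⟨k, a, y, h1, h2⟩ := Module.Flat.isTrivialRelation_of_sum_smul_eq_zero
    (R := S) (M := Rh) (f := fun _ : Fin 1 => s) (x := fun _ : Fin 1 => (1 : Rh)) hrel
  have h1' : (1 : Rh) = ∑ j, a 0 j • y j := h1 0
  have hex : ∃ j, a 0 j • y j ∉ maximalIdeal Rh := by
    by_contra hcon
    push Not at hcon
    have : (1 : Rh) ∈ maximalIdeal Rh := by
      rw [h1']
      exact Ideal.sum_mem _ fun j _ => hcon j
    exact (Ideal.ne_top_iff_one _).mp (Ideal.IsPrime.ne_top inferInstance) this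
  obtain ⟨j, hj⟩ := hex
  refine ⟨a 0 j, fun hmem => hj ?_, ?_⟩
  · show f (a 0 j) * y j ∈ _
    exact Ideal.mul_mem_right _ _ hmem
  · have := h2 j
    simp only [Finset.univ_unique, Finset.sum_singleton] at this
    rw [mul_comm]
    exact this

theorem exists_nbhd_kill (f : S →ₐ[R] Rh) (s : S) (hs : f s = 0) :
    ∃ (S' : Type u) (_ : CommRing S') (_ : Algebra R S') (_ : Algebra.Etale R S')
      (q' : Ideal S') (_ : q'.IsPrime) (hq' : p = q'.comap (algebraMap R S')),
      Function.Bijective (Ideal.ResidueField.map p q' (algebraMap R S') hq') ∧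
        ∃ φ : S →ₐ[R] S', q'.comap φ.toRingHom = (maximalIdeal Rh).comap f.toRingHom ∧
          φ s = 0 := by
  obtain ⟨t, ht, hts⟩ := exists_kill p Rh S f s hs
  have htu : IsUnit (f t) := by
    by_contra hcon
    exact ht hcon
  let θ' : Localization.Away t →ₐ[R] Rh :=
    IsLocalization.liftAlgHom (M := Submonoid.powers t) (f := f) (fun y => by
      obtain ⟨n, hn⟩ := y.2
      rw [← hn, map_pow]
      exact htu.pow n)
  have hθ' : ∀ x : S, θ' (algebraMap S (Localization.Away t) x) = f x := fun x =>
    IsLocalization.lift_eq _ x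
  haveI : Algebra.Etale S (Localization.Away t) := Algebra.Etale.of_isLocalizationAway t
  haveI : Algebra.Etale R (Localization.Away t) := Algebra.Etale.comp R S _
  refine ⟨Localization.Away t, inferInstance, inferInstance, inferInstance,
    (maximalIdeal Rh).comap θ'.toRingHom, inferInstance, comap_comap_eq p Rh θ',
    residueField_map_bijective p Rh θ', IsScalarTower.toAlgHom R S (Localization.Away t), ?_, ?_⟩
  · ext x
    simp only [Ideal.mem_comap]
    show θ' (algebraMap S (Localization.Away t) x) ∈ _ ↔ _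
    rw [hθ']
    rfl
  · show algebraMap S (Localization.Away t) s = 0
    have hu : IsUnit (algebraMap S (Localization.Away t) t) :=
      IsLocalization.map_units _ (⟨t, Submonoid.mem_powers t⟩ : Submonoid.powers t)
    have h0 : algebraMap S (Localization.Away t) t * algebraMap S (Localization.Away t) s = 0 := by
      rw [← map_mul, hts, map_zero]
    exact hu.mul_right_eq_zero.mp h0

end PartC

section PartB

include p in
/-- Every element of the henselization of `R_p` comes from an étale `R`-algebra. -/
theorem exists_nbhd_of_mem (x : Rh) :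
    ∃ (S : Type u) (_ : CommRing S) (_ : Algebra R S) (_ : Algebra.Etale R S)
      (θ : S →ₐ[R] Rh) (s : S), θ s = x := by
  obtain ⟨C, iC1, iC2, hCet, -, φ, c, hc⟩ :=
    Groth.Agent.Lib.LocalEtaleNbhd.exists_etale_of_mem (Localization.AtPrime p) Rh x
  letI : Algebra R C :=
    ((algebraMap (Localization.AtPrime p) C).comp (algebraMap R (Localization.AtPrime p))).toAlgebra
  haveI : IsScalarTower R (Localization.AtPrime p) C := IsScalarTower.of_algebraMap_eq fun _ => rfl
  let φR : C →ₐ[R] Rh := φ.restrictScalars R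
  let 𝔮 : Ideal C := (maximalIdeal Rh).comap φ.toRingHom
  haveI h𝔮 : 𝔮.IsPrime := Ideal.comap_isPrime _ _
  haveI : Algebra.FinitePresentation (Localization.AtPrime p) C := hCet.finitePresentation
  obtain ⟨C₀, iC₀1, iC₀2, hfp, ψ, hloc⟩ :=
    Groth.Agent.Lib.FpModelLocalization61.exists_fp_model p.primeCompl (Localization.AtPrime p) C
  have hfe : Algebra.FormallyEtale R (Localization.AtPrime 𝔮) := by
    haveI : Algebra.FormallyEtale R (Localization.AtPrime p) :=
      Algebra.FormallyEtale.of_isLocalization p.primeCompl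
    haveI : Algebra.FormallyEtale (Localization.AtPrime p) C := hCet.formallyEtale
    haveI : Algebra.FormallyEtale R C := Algebra.FormallyEtale.comp R (Localization.AtPrime p) C
    haveI : Algebra.FormallyEtale C (Localization.AtPrime 𝔮) :=
      Algebra.FormallyEtale.of_isLocalization 𝔮.primeCompl
    exact Algebra.FormallyEtale.comp R C (Localization.AtPrime 𝔮)
  haveI hE₀ : Algebra.IsEtaleAt R (𝔮.comap ψ.toRingHom) :=
    Groth.Agent.Lib.FpModelLocalization61.isEtaleAt_comap_of_isLocalization ψ _ hloc 𝔮 hfe
  -- write `c` as a fraction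
  obtain ⟨c₀, g, hg, hcg⟩ : ∃ (c₀ g : C₀), IsUnit (ψ g) ∧ c * ψ g = ψ c₀ := by
    letI : Algebra C₀ C := ψ.toRingHom.toAlgebra
    haveI : IsLocalization (Algebra.algebraMapSubmonoid C₀ p.primeCompl) C := hloc
    obtain ⟨⟨c₀, m⟩, hcm⟩ := IsLocalization.surj (Algebra.algebraMapSubmonoid C₀ p.primeCompl) c
    exact ⟨c₀, m, IsLocalization.map_units C m, hcm⟩
  have hg𝔮 : g ∉ 𝔮.comap ψ.toRingHom := fun hmem =>
    (Ideal.IsPrime.ne_top h𝔮) (Ideal.eq_top_of_isUnit_mem _ hmem hg)
  obtain ⟨f, hf, hgf, hEt⟩ :=
    Groth.Agent.Lib.FpModelLocalization61.exists_etale_away (R := R) C₀ (𝔮.comap ψ.toRingHom) g hg𝔮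
  let θ₀ : C₀ →ₐ[R] Rh := φR.comp ψ
  have hθ₀ : ∀ z, θ₀ z = φ (ψ z) := fun _ => rfl
  have hfu : IsUnit (θ₀ f) := by
    by_contra hcon
    exact hf hcon
  let θ : Localization.Away f →ₐ[R] Rh :=
    IsLocalization.liftAlgHom (M := Submonoid.powers f) (f := θ₀) (fun y => by
      obtain ⟨n, hn⟩ := y.2
      rw [← hn, map_pow]
      exact hfu.pow n)
  have hθ : ∀ z : C₀, θ (algebraMap C₀ (Localization.Away f) z) = θ₀ z := fun z =>
    IsLocalization.lift_eq _ z
  have hfS : IsUnit (algebraMap C₀ (Localization.Away f) f) :=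
    IsLocalization.map_units _ (⟨f, Submonoid.mem_powers f⟩ : Submonoid.powers f)
  have hgS : IsUnit (algebraMap C₀ (Localization.Away f) g) := by
    obtain ⟨d, rfl⟩ := hgf
    rw [map_mul] at hfS
    exact isUnit_of_mul_isUnit_left hfS
  obtain ⟨u, hu⟩ := hgS
  refine ⟨Localization.Away f, inferInstance, inferInstance, hEt, θ,
    algebraMap C₀ (Localization.Away f) c₀ * ↑u⁻¹, ?_⟩
  have h1 : θ (↑u⁻¹ : Localization.Away f) * θ₀ g = 1 := by
    rw [← hθ g, ← hu, ← map_mul, Units.inv_mul, map_one]
  rw [map_mul, hθ, hθ₀, ← hcg, map_mul, ← hθ₀ g, hc, mul_assoc, mul_comm (θ₀ g), h1, mul_one]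

end PartB

end Main

end Groth.Agent.Lib.HenselizationNbhd61
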