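import Groth.Agent.Lib.HenselIndQFLocalization61

/-!
# `Sh` as strict henselization of `(Rh ⊗[R] S)_Q` for a local homomorphism `R → S` (helper61)

Variant of `Lib/HenselizationTensorPrime61` / `Lib/HenselIndQFLocalization61` where `R → S` is
already a local homomorphism of local rings and `Rh`, `Sh` are strict henselizations of `R`, `S`.
-/

set_option autoImplicit false
universe u

namespace Groth.Agent.Lib.HenselizationTensorLocal61

open IsLocalRing TensorProduct Groth.Agent.Lib.HenselizationTensorPrime61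

variable (R : Type u) [CommRing R] [IsLocalRing R] (S : Type u) [CommRing S] [IsLocalRing S]
    [Algebra R S] [IsLocalHom (algebraMap R S)]
    (Rh : Type u) [CommRing Rh] [IsLocalRing Rh] [Algebra R Rh] [IsLocalHom (algebraMap R Rh)]
    [Hensel.IsStrictHenselization R Rh]
    (Sh : Type u) [CommRing Sh] [IsLocalRing Sh] [Algebra S Sh] [IsLocalHom (algebraMap S Sh)]
    [Hensel.IsStrictHenselization S Sh]
    [Algebra R Sh] [IsScalarTower R S Sh] [Algebra Rh Sh] [IsScalarTower R Rh Sh]

/-- `Sh` is a strict henselization of `(Rh ⊗[R] S)_Q` (via `Phi`). -/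
theorem isStrictHenselization_Phi_local :
    @Hensel.IsStrictHenselization (Localization.AtPrime (Q R S Rh Sh)) Sh _ _ _ _
      (Phi R S Rh Sh).toAlgebra (isLocalHom_Phi R S Rh Sh) := by
  let _ : Algebra (Localization.AtPrime (Q R S Rh Sh)) Sh := (Phi R S Rh Sh).toAlgebra
  have hPhi : IsLocalHom (algebraMap (Localization.AtPrime (Q R S Rh Sh)) Sh) :=
    isLocalHom_Phi R S Rh Sh
  have halg : ∀ x, algebraMap (Localization.AtPrime (Q R S Rh Sh)) Sh x = Phi R S Rh Sh x :=
    fun _ => rfl
  let j : S →+* Localization.AtPrime (Q R S Rh Sh) :=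
    (algebraMap (Rh ⊗[R] S) (Localization.AtPrime (Q R S Rh Sh))).comp
      (Algebra.TensorProduct.includeRight (R := R) (A := Rh) (B := S)).toRingHom
  let k : Rh →+* Localization.AtPrime (Q R S Rh Sh) :=
    (algebraMap (Rh ⊗[R] S) (Localization.AtPrime (Q R S Rh Sh))).comp
      (Algebra.TensorProduct.includeLeft (R := R) (S := R) (A := Rh) (B := S)).toRingHom
  have hjs : ∀ s : S, j s
      = algebraMap (Rh ⊗[R] S) (Localization.AtPrime (Q R S Rh Sh)) ((1 : Rh) ⊗ₜ[R] s) :=
    fun s => rfl
  have hkx : ∀ x : Rh, k x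
      = algebraMap (Rh ⊗[R] S) (Localization.AtPrime (Q R S Rh Sh)) (x ⊗ₜ[R] (1 : S)) :=
    fun x => rfl
  have hj : (algebraMap (Localization.AtPrime (Q R S Rh Sh)) Sh).comp j = algebraMap S Sh := by
    ext s
    simp only [RingHom.coe_comp, Function.comp_apply]
    rw [hjs, halg, Phi_algebraMap, phi_tmul, map_one, one_mul]
  have hjk : j.comp (algebraMap R S) = k.comp (algebraMap R Rh) := by
    ext r
    simp only [RingHom.coe_comp, Function.comp_apply]
    rw [hjs, hkx, Algebra.algebraMap_eq_smul_one (A := S), Algebra.algebraMap_eq_smul_one (A := Rh),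
      TensorProduct.smul_tmul]
  have hepi : ∀ (T : Type u) [CommRing T] (u v : Localization.AtPrime (Q R S Rh Sh) →+* T),
      u.comp j = v.comp j → u.comp k = v.comp k → u = v := by
    intro T _ u v huv1 huv2
    refine IsLocalization.ringHom_ext (Q R S Rh Sh).primeCompl ?_
    refine RingHom.ext fun d => ?_
    simp only [RingHom.coe_comp, Function.comp_apply]
    induction d using TensorProduct.induction_on with
    | zero => simp
    | tmul x s =>
      have e : (x ⊗ₜ[R] s : Rh ⊗[R] S) = (x ⊗ₜ[R] (1 : S)) * ((1 : Rh) ⊗ₜ[R] s) := by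
        rw [Algebra.TensorProduct.tmul_mul_tmul, one_mul, mul_one]
      rw [e, map_mul, map_mul, map_mul, ← hkx, ← hjs]
      have e1 : u (k x) = v (k x) := congrArg (fun φ : Rh →+* T => φ x) huv2
      have e2 : u (j s) = v (j s) := congrArg (fun φ : S →+* T => φ s) huv1
      rw [e1, e2]
    | add x y hx hy => rw [map_add, map_add, map_add, hx, hy]
  exact Groth.Agent.Lib.StrictHenselizationEpi61.isStrictHenselization_of_epi
    R Rh S Sh (Localization.AtPrime (Q R S Rh Sh)) (algebraMap R S) j k hj hjk hepi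

variable [IsLocalHom (algebraMap Rh Sh)]

/-- If `(Rh ⊗[R] S)_Q` is integral over `Rh`, then `Phi` is bijective and `Sh` is integral over
`Rh`. -/
theorem isIntegral_of_isIntegral_localization_local
    (hintL : Algebra.IsIntegral Rh (Localization.AtPrime (Q R S Rh Sh))) :
    Function.Bijective (Phi R S Rh Sh) ∧ Algebra.IsIntegral Rh Sh := by
  let _ : Algebra (Localization.AtPrime (Q R S Rh Sh)) Sh := (Phi R S Rh Sh).toAlgebra
  have hPhi : IsLocalHom (algebraMap (Localization.AtPrime (Q R S Rh Sh)) Sh) :=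
    isLocalHom_Phi R S Rh Sh
  have hH : Hensel.IsStrictHenselization (Localization.AtPrime (Q R S Rh Sh)) Sh :=
    isStrictHenselization_Phi_local R S Rh Sh
  have hRh : HenselianLocalRing Rh := Hensel.IsStrictHenselization.henselian (R := R)
  have hHL : HenselianLocalRing (Localization.AtPrime (Q R S Rh Sh)) :=
    Groth.Agent.Lib.HenselIntegralLocal.henselianLocalRing_of_isIntegral Rh
      (Localization.AtPrime (Q R S Rh Sh))
  have hklocal : IsLocalHom (algebraMap Rh (Localization.AtPrime (Q R S Rh Sh))) := by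
    refine ⟨fun x hx => ?_⟩
    have h1 : IsUnit (Phi R S Rh Sh (algebraMap Rh (Localization.AtPrime (Q R S Rh Sh)) x)) :=
      hx.map _
    rw [Phi_algebraMap_left] at h1
    exact isUnit_of_map_unit (algebraMap Rh Sh) x h1
  have hsc : IsSepClosed (ResidueField Rh) :=
    (Hensel.IsStrictHenselization.isSepClosure (R := R) (S := Rh)).sep_closed
  have hint' : Algebra.IsIntegral (ResidueField Rh)
      (ResidueField (Localization.AtPrime (Q R S Rh Sh))) :=
    Groth.Agent.Lib.TensorPurelyInsepHensel61.isIntegral_residueField Rh _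
  have halg : Algebra.IsAlgebraic (ResidueField Rh)
      (ResidueField (Localization.AtPrime (Q R S Rh Sh))) := Algebra.IsIntegral.isAlgebraic
  have hsc' : IsSepClosed (ResidueField (Localization.AtPrime (Q R S Rh Sh))) :=
    Algebra.IsAlgebraic.isSepClosed (F := ResidueField Rh)
  have hself : Hensel.IsStrictHenselization (Localization.AtPrime (Q R S Rh Sh))
      (Localization.AtPrime (Q R S Rh Sh)) :=
    Groth.Agent.Lib.HenselQFLocalization61.isStrictHenselization_self _
  obtain ⟨e⟩ := Groth.Agent.Lib.StrictHenselizationEpi61.exists_algEquiv_of_isStrictHenselization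
    (Localization.AtPrime (Q R S Rh Sh)) (Localization.AtPrime (Q R S Rh Sh)) Sh
  have he : ∀ x, e x = Phi R S Rh Sh x := fun x => e.commutes x
  have hbij : Function.Bijective (Phi R S Rh Sh) := by
    have : (Phi R S Rh Sh : Localization.AtPrime (Q R S Rh Sh) → Sh) = e := by
      funext x; exact (he x).symm
    rw [this]
    exact e.bijective
  refine ⟨hbij, ⟨fun y => ?_⟩⟩
  obtain ⟨x, rfl⟩ := hbij.2 y
  let PhiAlg : Localization.AtPrime (Q R S Rh Sh) →ₐ[Rh] Sh :=
    { Phi R S Rh Sh with commutes' := Phi_algebraMap_left R S Rh Sh }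
  exact (Algebra.IsIntegral.isIntegral x).map PhiAlg

/-- If `S` is a directed union of finite type quasi-finite `R`-subalgebras then `Phi` is bijective
and `Sh` is integral over `Rh`. -/
theorem isIntegral_of_indQuasiFinite_strict_local
    (hS : ∀ s : Finset S, ∃ S₀ : Subalgebra R S, (↑s : Set S) ⊆ ↑S₀ ∧
      Algebra.FiniteType R ↥S₀ ∧ Algebra.QuasiFinite R ↥S₀) :
    Function.Bijective (Phi R S Rh Sh) ∧ Algebra.IsIntegral Rh Sh := by
  have hRh : HenselianLocalRing Rh := Hensel.IsStrictHenselization.henselian (R := R)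
  have hlies : (Q R S Rh Sh).LiesOver (maximalIdeal Rh) := Q_liesOver R S Rh Sh
  refine isIntegral_of_isIntegral_localization_local R S Rh Sh ?_
  refine Groth.Agent.Lib.HenselIndQFLocalization61.isIntegral_localization_atPrime_of_forall_exists
    Rh (Rh ⊗[R] S) (Q R S Rh Sh) ?_
  intro d s
  obtain ⟨t, ht⟩ :=
    Groth.Agent.Lib.HenselIndQFLocalization61.exists_finset_range_baseChange R Rh S d s
  obtain ⟨S₀, hS₀, hft, hqf⟩ := hS t
  exact ⟨Rh ⊗[R] S₀, inferInstance, inferInstance, inferInstance, inferInstance,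
    Algebra.TensorProduct.map (AlgHom.id Rh Rh) S₀.val, ht S₀ hS₀⟩

end Groth.Agent.Lib.HenselizationTensorLocal61
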