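import Mathlib
import Groth.Agent.Lib.AzInvSplitS16
import Groth.Agent.Lib.RInvHerm

/-!
# Spreading out hermitian congruences from `B_p` to `B_b` (helper16)

* `P lam h h' C` : the forms `h`, `h'` become congruent over `C ⊗[B] A`; `P.map` (functoriality in
  the `B`-algebra `C`).
* `exists_common_den`, `exists_common_eq` : finite families in a localized module.
* `P.exists_away` : if `P` holds over a localisation `S⁻¹C` it holds over some `C_t`, `t ∈ S`
  (via `IsLocalizedModule.rTensor`).
* `SqRing s = D[X_k]/(X_k² - s_k)`, `sqMap` (functoriality), `isLocalization_sqRing`.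
* `exists_units_lift` : finitely many units of `B_p` come from units of some `B_b`.
* `spread`, `main` : statement S17364.
-/

set_option autoImplicit false
set_option linter.style.haveILetI false
set_option linter.unusedSectionVars false
set_option linter.unusedSimpArgs false
set_option linter.unusedVariables false

namespace Groth.Agent.Lib.HermSpread16
open Matrix Groth.Agent.Lib.RInvHerm Groth.Agent.Lib.ShDescent16
open scoped TensorProduct

section P
universe u v w
variable {B : Type u} {A : Type v} [CommRing B] [CommRing A] [Algebra B A]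
  (lam : A ≃ₐ[B] A) {n : ℕ} (h h' : Matrix (Fin n) (Fin n) A)

/-- the hermitian forms `h`, `h'` become congruent over `C ⊗ A` -/
def P (C : Type w) [CommRing C] [Algebra B C] : Prop :=
  ∃ v : Matrix (Fin n) (Fin n) (C ⊗[B] A), IsUnit v ∧
    (v.map (Algebra.TensorProduct.congr (AlgEquiv.refl : C ≃ₐ[C] C) lam)).transpose *
        h.map (Algebra.TensorProduct.includeRight : A →ₐ[B] C ⊗[B] A) * v =
      h'.map (Algebra.TensorProduct.includeRight : A →ₐ[B] C ⊗[B] A)

theorem lamT_map {C : Type*} {C' : Type*} [CommRing C] [Algebra B C] [CommRing C'] [Algebra B C']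
    (φ : C →ₐ[B] C') (z : C ⊗[B] A) :
    lamT C' lam (Algebra.TensorProduct.map φ (AlgHom.id B A) z) =
      Algebra.TensorProduct.map φ (AlgHom.id B A) (lamT C lam z) := by
  induction z using TensorProduct.induction_on with
  | zero => simp
  | add x y hx hy => simp only [map_add, hx, hy]
  | tmul t r => simp

variable {lam h h'} in
theorem P.map {C : Type*} {C' : Type*} [CommRing C] [Algebra B C] [CommRing C'] [Algebra B C']
    (φ : C →ₐ[B] C') (hP : P lam h h' C) : P lam h h' C' := by
  obtain ⟨v, hv, hv'⟩ := hP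
  let Φ : C ⊗[B] A →ₐ[B] C' ⊗[B] A := Algebra.TensorProduct.map φ (AlgHom.id B A)
  refine ⟨v.map Φ, hv.map (RingHom.mapMatrix (Φ : C ⊗[B] A →+* C' ⊗[B] A)), ?_⟩
  have e1 : ((v.map Φ).map (Algebra.TensorProduct.congr (AlgEquiv.refl : C' ≃ₐ[C'] C') lam)).transpose
      = ((v.map (Algebra.TensorProduct.congr (AlgEquiv.refl : C ≃ₐ[C] C) lam)).transpose).map Φ := by
    ext i j
    simp only [Matrix.transpose_apply, Matrix.map_apply]
    exact lamT_map lam φ (v j i)
  have e2 : ∀ g : Matrix (Fin n) (Fin n) A,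
      g.map (Algebra.TensorProduct.includeRight : A →ₐ[B] C' ⊗[B] A) =
      (g.map (Algebra.TensorProduct.includeRight : A →ₐ[B] C ⊗[B] A)).map Φ := by
    intro g
    ext i j
    simp [Φ]
  rw [e1, e2 h, e2 h', ← hv', Matrix.map_mul, Matrix.map_mul]

end P
end Groth.Agent.Lib.HermSpread16

namespace Groth.Agent.Lib.HermSpread16
open Matrix Groth.Agent.Lib.RInvHerm Groth.Agent.Lib.ShDescent16
open scoped TensorProduct

section fam
variable {R : Type*} [CommRing R] (S : Submonoid R) {M M' : Type*} [AddCommGroup M] [Module R M]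
  [AddCommGroup M'] [Module R M'] (f : M →ₗ[R] M') [IsLocalizedModule S f]

theorem exists_common_den {ι : Type*} [Fintype ι] [DecidableEq ι] (y : ι → M') :
    ∃ (t : S) (x : ι → M), ∀ i, f (x i) = t • y i := by
  choose x hx using fun i => IsLocalizedModule.surj S f (y i)
  refine ⟨∏ j, (x j).2, fun i => (∏ j ∈ Finset.univ.erase i, ((x j).2 : R)) • (x i).1,
    fun i => ?_⟩
  have hxi := hx i
  rw [Submonoid.smul_def] at hxi
  rw [map_smul, ← hxi, ← mul_smul, Submonoid.smul_def, Submonoid.coe_finsetProd,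
    Finset.prod_erase_mul _ _ (Finset.mem_univ i)]

theorem exists_common_eq {ι : Type*} [Fintype ι] [DecidableEq ι] (x x' : ι → M)
    (hxx : ∀ i, f (x i) = f (x' i)) : ∃ t : S, ∀ i, t • x i = t • x' i := by
  choose t ht using fun i => IsLocalizedModule.exists_of_eq (S := S) (f := f) (hxx i)
  refine ⟨∏ j, t j, fun i => ?_⟩
  rw [← Finset.prod_erase_mul _ _ (Finset.mem_univ i), mul_smul, mul_smul, ht i]

end fam

section fin
variable {K K₂ : Type*} [CommRing K] [CommRing K₂] (χ : K →+* K₂) (lamK : K ≃+* K)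
  (lamK₂ : K₂ ≃+* K₂) (hχ : ∀ z, lamK₂ (χ z) = χ (lamK z)) {n : ℕ}

include hχ in
theorem finish (τ e : K) (hτ : lamK τ = τ) (hτu : IsUnit (χ τ)) (heu : IsUnit (χ e))
    (V W H H' : Matrix (Fin n) (Fin n) K)
    (h1 : e • (V * W) = (e * τ ^ 2) • (1 : Matrix (Fin n) (Fin n) K))
    (h2 : e • (W * V) = (e * τ ^ 2) • (1 : Matrix (Fin n) (Fin n) K))
    (h3 : e • ((V.map lamK).transpose * H * V) = (e * τ ^ 2) • H') :
    ∃ v : Matrix (Fin n) (Fin n) K₂, IsUnit v ∧
      (v.map lamK₂).transpose * H.map χ * v = H'.map χ := by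
  obtain ⟨τu, hτu'⟩ := hτu
  obtain ⟨eu, heu'⟩ := heu
  set τi : K₂ := ↑τu⁻¹ with hτi
  have hτ1 : χ τ * τi = 1 := by rw [← hτu', hτi, Units.mul_inv]
  have hτifix : lamK₂ τi = τi := by
    have hfix : lamK₂ (χ τ) = χ τ := by rw [hχ, hτ]
    have h1' : lamK₂ τi * χ τ = 1 := by
      have := congrArg lamK₂ hτ1
      rw [map_mul, hfix, map_one] at this
      rw [mul_comm]; exact this
    calc lamK₂ τi = lamK₂ τi * (χ τ * τi) := by rw [hτ1, mul_one]
      _ = (lamK₂ τi * χ τ) * τi := by ring
      _ = τi := by rw [h1', one_mul]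
  have cancel : ∀ X Y : Matrix (Fin n) (Fin n) K,
      e • X = (e * τ ^ 2) • Y → X.map χ = (χ τ) ^ 2 • Y.map χ := by
    intro X Y hXY
    have := congrArg (fun Z : Matrix (Fin n) (Fin n) K => Z.map χ) hXY
    ext i j
    have hij := congrFun (congrFun this i) j
    simp only [Matrix.map_apply, Matrix.smul_apply, smul_eq_mul, map_mul, map_pow] at hij ⊢
    have : (↑eu⁻¹ : K₂) * (χ e * χ (X i j)) = ↑eu⁻¹ * (χ e * χ τ ^ 2 * χ (Y i j)) := by rw [hij]
    rw [← mul_assoc, ← heu', Units.inv_mul, one_mul] at this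
    rw [this]
    rw [← mul_assoc, ← mul_assoc, Units.inv_mul, one_mul]
  have c1 := cancel _ _ h1
  have c2 := cancel _ _ h2
  have c3 := cancel _ _ h3
  rw [Matrix.map_mul] at c1 c2
  have hone : (1 : Matrix (Fin n) (Fin n) K).map χ = 1 := by
    ext i j
    by_cases hij : i = j
    · subst hij; simp
    · simp [Matrix.one_apply_ne hij]
  rw [hone] at c1 c2
  refine ⟨τi • V.map χ, ?_, ?_⟩
  · refine IsUnit.of_mul_eq_one (τi • W.map χ) ?_
    rw [Matrix.smul_mul, Matrix.mul_smul, c1, smul_smul, smul_smul]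
    have : τi * τi * χ τ ^ 2 = (χ τ * τi) ^ 2 := by ring
    rw [this, hτ1, one_pow, one_smul]
  · have e1 : ((τi • V.map χ).map lamK₂).transpose = τi • ((V.map lamK).transpose).map χ := by
      ext i j
      simp only [Matrix.transpose_apply, Matrix.map_apply, Matrix.smul_apply, smul_eq_mul, map_mul,
        hτifix, hχ]
    rw [e1, Matrix.smul_mul, Matrix.smul_mul, Matrix.mul_smul, smul_smul]
    rw [Matrix.map_mul, Matrix.map_mul] at c3
    rw [c3, smul_smul]
    have : τi * τi * χ τ ^ 2 = (χ τ * τi) ^ 2 := by ring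
    rw [this, hτ1, one_pow, one_smul]

end fin
end Groth.Agent.Lib.HermSpread16

namespace Groth.Agent.Lib.HermSpread16
open Matrix Groth.Agent.Lib.RInvHerm Groth.Agent.Lib.ShDescent16
open scoped TensorProduct

section away
universe u v w w'
variable {B : Type u} {A : Type v} [CommRing B] [CommRing A] [Algebra B A]
  {lam : A ≃ₐ[B] A} {n : ℕ} {h h' : Matrix (Fin n) (Fin n) A}

theorem includeRight_map {C : Type*} {C' : Type*} [CommRing C] [Algebra B C] [CommRing C']
    [Algebra B C'] (φ : C →ₐ[B] C') (g : Matrix (Fin n) (Fin n) A) :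
    (g.map (Algebra.TensorProduct.includeRight : A →ₐ[B] C ⊗[B] A)).map
        (Algebra.TensorProduct.map φ (AlgHom.id B A)) =
      g.map (Algebra.TensorProduct.includeRight : A →ₐ[B] C' ⊗[B] A) := by
  ext i j
  simp

/-- **Spreading out along a localization**: if the forms become congruent over a localization
`C' = S⁻¹C`, they already do over `C_t` for some `t ∈ S`. -/
theorem P.exists_away {C : Type w} [CommRing C] [Algebra B C] (S : Submonoid C)
    {C' : Type w'} [CommRing C'] [Algebra C C'] [Algebra B C'] [IsScalarTower B C C']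
    [IsLocalization S C'] (hP : P lam h h' C') :
    ∃ t ∈ S, P lam h h' (Localization.Away t) := by
  obtain ⟨v, ⟨u, rfl⟩, hv'⟩ := hP
  set w : Matrix (Fin n) (Fin n) (C' ⊗[B] A) := ↑u⁻¹ with hw
  have hvw : (↑u : Matrix (Fin n) (Fin n) (C' ⊗[B] A)) * w = 1 := by rw [hw, Units.mul_inv]
  have hwv : w * (↑u : Matrix (Fin n) (Fin n) (C' ⊗[B] A)) = 1 := by rw [hw, Units.inv_mul]
  set v : Matrix (Fin n) (Fin n) (C' ⊗[B] A) := ↑u with hv
  -- the localisation map on `C ⊗ A`
  let g : C ⊗[B] A →ₗ[C] C' ⊗[B] A :=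
    TensorProduct.AlgebraTensorModule.rTensor B A (Algebra.linearMap C C')
  haveI : IsLocalizedModule S g := inferInstance
  let ψ : C ⊗[B] A →ₐ[B] C' ⊗[B] A :=
    Algebra.TensorProduct.map (IsScalarTower.toAlgHom B C C') (AlgHom.id B A)
  have hgψ : ∀ z, g z = ψ z := by
    intro z
    induction z using TensorProduct.induction_on with
    | zero => simp
    | add x y hx hy => simp only [map_add, hx, hy]
    | tmul c a => simp [g, ψ]
  have hsmul : ∀ (t : S) (z : C' ⊗[B] A), t • z = ψ ((t : C) ⊗ₜ[B] (1 : A)) * z := by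
    intro t z
    rw [Submonoid.smul_def]
    induction z using TensorProduct.induction_on with
    | zero => simp
    | add x y hx hy => rw [smul_add, hx, hy, mul_add]
    | tmul c a =>
      simp only [ψ, Algebra.TensorProduct.map_tmul, IsScalarTower.coe_toAlgHom', map_one,
        Algebra.TensorProduct.tmul_mul_tmul, one_mul, TensorProduct.smul_tmul', AlgHom.coe_id, id_eq]
      rw [Algebra.smul_def]
  have hsmul' : ∀ (t : S) (z : C ⊗[B] A), t • z = ((t : C) ⊗ₜ[B] (1 : A)) * z := by
    intro t z
    rw [Submonoid.smul_def]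
    induction z using TensorProduct.induction_on with
    | zero => simp
    | add x y hx hy => rw [smul_add, hx, hy, mul_add]
    | tmul c a =>
      simp only [Algebra.TensorProduct.tmul_mul_tmul, one_mul, TensorProduct.smul_tmul', smul_eq_mul]
  -- common denominators for `v`, `w`
  obtain ⟨t₁, x, hx⟩ := exists_common_den S g
    (Sum.elim (fun ij : Fin n × Fin n => v ij.1 ij.2) (fun ij : Fin n × Fin n => w ij.1 ij.2))
  set V : Matrix (Fin n) (Fin n) (C ⊗[B] A) := Matrix.of fun i j => x (Sum.inl (i, j)) with hV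
  set W : Matrix (Fin n) (Fin n) (C ⊗[B] A) := Matrix.of fun i j => x (Sum.inr (i, j)) with hW
  set τ : C ⊗[B] A := (t₁ : C) ⊗ₜ[B] (1 : A) with hτ
  have hVv : V.map ψ = ψ τ • v := by
    ext i j
    have := hx (Sum.inl (i, j))
    rw [hgψ, hsmul] at this
    simpa [hV] using this
  have hWw : W.map ψ = ψ τ • w := by
    ext i j
    have := hx (Sum.inr (i, j))
    rw [hgψ, hsmul] at this
    simpa [hW] using this
  have hone : ∀ (D : Type w) (D' : Type w') [CommRing D] [CommRing D'] (θ : D →+* D'),
      (1 : Matrix (Fin n) (Fin n) D).map θ = 1 := by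
    intro D D' _ _ θ
    ext i j
    by_cases hij : i = j
    · subst hij; simp
    · simp [Matrix.one_apply_ne hij]
  have hlamτ : lamT C lam τ = τ := by rw [hτ, lamT_tmul, map_one]
  have hlamψτ : lamT C' lam (ψ τ) = ψ τ := by
    rw [lamT_map lam (IsScalarTower.toAlgHom B C C') τ, hlamτ]
  set H : Matrix (Fin n) (Fin n) (C ⊗[B] A) :=
    h.map (Algebra.TensorProduct.includeRight : A →ₐ[B] C ⊗[B] A) with hH
  set H' : Matrix (Fin n) (Fin n) (C ⊗[B] A) :=
    h'.map (Algebra.TensorProduct.includeRight : A →ₐ[B] C ⊗[B] A) with hH'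
  have E1 : (V * W).map ψ = ((τ ^ 2) • (1 : Matrix (Fin n) (Fin n) (C ⊗[B] A))).map ψ := by
    rw [Matrix.map_mul, hVv, hWw, Matrix.smul_mul, Matrix.mul_smul, hvw, smul_smul]
    ext i j
    by_cases hij : i = j
    · subst hij; simp [pow_two]
    · simp [Matrix.one_apply_ne hij]
  have E2 : (W * V).map ψ = ((τ ^ 2) • (1 : Matrix (Fin n) (Fin n) (C ⊗[B] A))).map ψ := by
    rw [Matrix.map_mul, hVv, hWw, Matrix.smul_mul, Matrix.mul_smul, hwv, smul_smul]
    ext i j
    by_cases hij : i = j
    · subst hij; simp [pow_two]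
    · simp [Matrix.one_apply_ne hij]
  have E3 : ((V.map (lamT C lam)).transpose * H * V).map ψ = ((τ ^ 2) • H').map ψ := by
    rw [Matrix.map_mul, Matrix.map_mul]
    have e1 : ((V.map (lamT C lam)).transpose).map ψ =
        ψ τ • (v.map (lamT C' lam)).transpose := by
      ext i j
      simp only [Matrix.transpose_apply, Matrix.map_apply, Matrix.smul_apply, smul_eq_mul]
      rw [← lamT_map lam (IsScalarTower.toAlgHom B C C')]
      have := congrFun (congrFun hVv j) i
      simp only [Matrix.map_apply, Matrix.smul_apply, smul_eq_mul] at this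
      change lamT C' lam (ψ (V j i)) = _
      rw [this, map_mul, hlamψτ]
    rw [e1, hVv, hH, includeRight_map, Matrix.smul_mul, Matrix.smul_mul, Matrix.mul_smul, smul_smul,
      hv']
    ext i j
    have : ψ ((1 : C) ⊗ₜ[B] h' i j) = (1 : C') ⊗ₜ[B] h' i j := by simp [ψ]
    simp [hH', pow_two, this]
  -- clear denominators in the three equations
  obtain ⟨e, he⟩ := exists_common_eq S g
    (fun kij : Fin 3 × Fin n × Fin n =>
      (![V * W, W * V, (V.map (lamT C lam)).transpose * H * V] kij.1) kij.2.1 kij.2.2)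
    (fun kij : Fin 3 × Fin n × Fin n =>
      (![(τ ^ 2) • (1 : Matrix (Fin n) (Fin n) (C ⊗[B] A)), (τ ^ 2) • 1, (τ ^ 2) • H'] kij.1)
        kij.2.1 kij.2.2)
    (by
      rintro ⟨k, i, j⟩
      rw [hgψ, hgψ]
      fin_cases k
      · exact congrFun (congrFun E1 i) j
      · exact congrFun (congrFun E2 i) j
      · exact congrFun (congrFun E3 i) j)
  set ε : C ⊗[B] A := (e : C) ⊗ₜ[B] (1 : A) with hε
  have F1 : ε • (V * W) = (ε * τ ^ 2) • (1 : Matrix (Fin n) (Fin n) (C ⊗[B] A)) := by
    ext i j
    have := he (0, i, j)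
    rw [hsmul', hsmul'] at this
    simpa [mul_assoc] using this
  have F2 : ε • (W * V) = (ε * τ ^ 2) • (1 : Matrix (Fin n) (Fin n) (C ⊗[B] A)) := by
    ext i j
    have := he (1, i, j)
    rw [hsmul', hsmul'] at this
    simpa [mul_assoc] using this
  have F3 : ε • ((V.map (lamT C lam)).transpose * H * V) = (ε * τ ^ 2) • H' := by
    ext i j
    have := he (2, i, j)
    rw [hsmul', hsmul'] at this
    simpa [mul_assoc] using this
  -- pass to `C_t`
  refine ⟨(t₁ : C) * (e : C), S.mul_mem t₁.2 e.2, ?_⟩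
  set t : C := (t₁ : C) * (e : C) with ht
  let χ : C ⊗[B] A →ₐ[B] Localization.Away t ⊗[B] A :=
    Algebra.TensorProduct.map (IsScalarTower.toAlgHom B C (Localization.Away t)) (AlgHom.id B A)
  have htu : IsUnit (algebraMap C (Localization.Away t) t) := IsLocalization.Away.algebraMap_isUnit t
  have ht₁u : IsUnit (algebraMap C (Localization.Away t) t₁) := by
    rw [ht, map_mul] at htu
    exact isUnit_of_mul_isUnit_left htu
  have heu : IsUnit (algebraMap C (Localization.Away t) e) := by
    rw [ht, map_mul] at htu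
    exact isUnit_of_mul_isUnit_right htu
  have hχτ : IsUnit (χ τ) := by
    have : χ τ = (Algebra.TensorProduct.includeLeft : Localization.Away t →ₐ[B] _)
        (algebraMap C (Localization.Away t) t₁) := by
      simp [χ, hτ]
    rw [this]
    exact ht₁u.map _
  have hχε : IsUnit (χ ε) := by
    have : χ ε = (Algebra.TensorProduct.includeLeft : Localization.Away t →ₐ[B] _)
        (algebraMap C (Localization.Away t) e) := by
      simp [χ, hε]
    rw [this]
    exact heu.map _
  obtain ⟨v₂, hv₂, hv₂'⟩ := finish (χ : C ⊗[B] A →+* Localization.Away t ⊗[B] A)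
    (lamT C lam).toRingEquiv (lamT (Localization.Away t) lam).toRingEquiv
    (fun z => lamT_map lam (IsScalarTower.toAlgHom B C (Localization.Away t)) z)
    τ ε hlamτ hχτ hχε V W H H' F1 F2 F3
  refine ⟨v₂, hv₂, ?_⟩
  have e1 := includeRight_map (IsScalarTower.toAlgHom B C (Localization.Away t)) h
  have e2 := includeRight_map (IsScalarTower.toAlgHom B C (Localization.Away t)) h'
  rw [← e1, ← e2]
  exact hv₂'

end away
end Groth.Agent.Lib.HermSpread16

namespace Groth.Agent.Lib.HermSpread16
open scoped TensorProduct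

section sq
variable {D : Type*} [CommRing D] {l : ℕ}

/-- the ideal `(X_k² - s_k)` -/
noncomputable abbrev sqIdeal (s : Fin l → D) : Ideal (MvPolynomial (Fin l) D) :=
  Ideal.span (Set.range fun k : Fin l => MvPolynomial.X k ^ 2 - MvPolynomial.C (s k))

/-- `D[X_1, …, X_l]/(X_k² - s_k)` -/
abbrev SqRing (s : Fin l → D) : Type _ := MvPolynomial (Fin l) D ⧸ sqIdeal s

variable {D' : Type*} [CommRing D']

theorem sqIdeal_le_comap (g : D →+* D') (s : Fin l → D) (s' : Fin l → D')
    (hs : ∀ k, g (s k) = s' k) :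
    sqIdeal s ≤ (sqIdeal s').comap (MvPolynomial.map g) := by
  rw [sqIdeal, Ideal.span_le]
  rintro _ ⟨k, rfl⟩
  change MvPolynomial.map g _ ∈ sqIdeal s'
  rw [map_sub, map_pow, MvPolynomial.map_X, MvPolynomial.map_C, hs]
  exact Ideal.subset_span ⟨k, rfl⟩

theorem sqIdeal_le_map (g : D →+* D') (s : Fin l → D) (s' : Fin l → D')
    (hs : ∀ k, g (s k) = s' k) :
    sqIdeal s' ≤ (sqIdeal s).map (MvPolynomial.map g) := by
  rw [sqIdeal, Ideal.span_le]
  rintro _ ⟨k, rfl⟩
  have : MvPolynomial.map g (MvPolynomial.X k ^ 2 - MvPolynomial.C (s k)) =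
      MvPolynomial.X k ^ 2 - MvPolynomial.C (s' k) := by
    rw [map_sub, map_pow, MvPolynomial.map_X, MvPolynomial.map_C, hs]
  change MvPolynomial.X k ^ 2 - MvPolynomial.C (s' k) ∈ _
  rw [← this]
  exact Ideal.mem_map_of_mem _ (Ideal.subset_span ⟨k, rfl⟩)

section alg
variable {B : Type*} [CommRing B] [Algebra B D] [Algebra B D']

/-- functoriality of `SqRing` -/
noncomputable def sqMap (g : D →ₐ[B] D') (s : Fin l → D) (s' : Fin l → D')
    (hs : ∀ k, g (s k) = s' k) : SqRing s →ₐ[B] SqRing s' :=
  Ideal.quotientMapₐ (sqIdeal s') (MvPolynomial.mapAlgHom g)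
    (sqIdeal_le_comap (g : D →+* D') s s' hs)

theorem sqMap_mk (g : D →ₐ[B] D') (s : Fin l → D) (s' : Fin l → D')
    (hs : ∀ k, g (s k) = s' k) (x : MvPolynomial (Fin l) D) :
    sqMap g s s' hs (Ideal.Quotient.mk _ x) = Ideal.Quotient.mk _ (MvPolynomial.map (g : D →+* D') x) :=
  rfl

end alg

section loc
attribute [local instance] MvPolynomial.algebraMvPolynomial

variable [Algebra D D'] (N : Submonoid D) [IsLocalization N D']

/-- `SqRing` commutes with localisation of the coefficient ring -/
theorem isLocalization_sqRing (s : Fin l → D) (s' : Fin l → D')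
    (hs : ∀ k, algebraMap D D' (s k) = s' k) :
    letI : Algebra (SqRing s) (SqRing s') :=
      (sqMap (Algebra.ofId D D') s s' hs : SqRing s →+* SqRing s').toAlgebra
    IsLocalization (N.map (algebraMap D (SqRing s))) (SqRing s') := by
  letI : Algebra (SqRing s) (SqRing s') :=
    (sqMap (Algebra.ofId D D') s s' hs : SqRing s →+* SqRing s').toAlgebra
  have key := IsLocalization.of_surjective (M := N.map (MvPolynomial.C (σ := Fin l)))
    (S := MvPolynomial (Fin l) D') (R' := SqRing s) (S' := SqRing s')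
    (Ideal.Quotient.mk (sqIdeal s)) Ideal.Quotient.mk_surjective
    (Ideal.Quotient.mk (sqIdeal s')) Ideal.Quotient.mk_surjective
    (by
      ext x
      · rfl
      · rfl)
    (by
      rw [Ideal.mk_ker, Ideal.mk_ker]
      exact sqIdeal_le_map (algebraMap D D') s s' hs)
  have hN : N.map (algebraMap D (SqRing s)) =
      (N.map (MvPolynomial.C (σ := Fin l))).map (Ideal.Quotient.mk (sqIdeal s)) := by
    ext x
    simp only [Submonoid.mem_map]
    constructor
    · rintro ⟨d, hd, rfl⟩; exact ⟨MvPolynomial.C d, ⟨d, hd, rfl⟩, rfl⟩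
    · rintro ⟨_, ⟨d, hd, rfl⟩, rfl⟩; exact ⟨d, hd, rfl⟩
  rw [hN]
  exact key

end loc
end sq
end Groth.Agent.Lib.HermSpread16

namespace Groth.Agent.Lib.HermSpread16
open scoped TensorProduct

section units
universe u
variable {B : Type u} [CommRing B] (p : Ideal B) [p.IsPrime]

theorem exists_num_den (s : (Localization.AtPrime p)ˣ) :
    ∃ a d : B, a ∉ p ∧ d ∉ p ∧
      (s : Localization.AtPrime p) * algebraMap B _ d = algebraMap B _ a := by
  obtain ⟨a, d, hs⟩ := IsLocalization.exists_mk'_eq p.primeCompl (s : Localization.AtPrime p)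
  refine ⟨a, d, ?_, d.2, ?_⟩
  · have hu : IsUnit (IsLocalization.mk' (Localization.AtPrime p) a d) := hs ▸ s.isUnit
    rw [IsLocalization.AtPrime.isUnit_mk'_iff (Localization.AtPrime p) p] at hu
    exact hu
  · rw [← hs]
    exact IsLocalization.mk'_spec _ _ _

/-- units of `B_p` come from units of some `B_b` -/
theorem exists_units_lift {l : ℕ} (s : Fin l → (Localization.AtPrime p)ˣ) :
    ∃ b₀ : B, b₀ ∉ p ∧ ∀ (D : Type u) [CommRing D] [Algebra B D] [IsLocalization.Away b₀ D]
      (g : D →ₐ[B] Localization.AtPrime p),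
      ∃ σ : Fin l → Dˣ, ∀ k, g (σ k) = s k := by
  choose a d ha hd had using fun k => exists_num_den p (s k)
  refine ⟨∏ k, a k * d k, ?_, ?_⟩
  · intro hmem
    rw [Ideal.IsPrime.prod_mem_iff] at hmem
    obtain ⟨k, -, hk⟩ := hmem
    rcases Ideal.IsPrime.mem_or_mem inferInstance hk with h | h
    · exact ha k h
    · exact hd k h
  · intro D _ _ _ g
    have hu : ∀ k, IsUnit (algebraMap B D (a k * d k)) := by
      intro k
      have := IsLocalization.Away.algebraMap_isUnit (S := D) (∏ k, a k * d k)
      rw [← Finset.mul_prod_erase _ _ (Finset.mem_univ k), map_mul] at this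
      exact isUnit_of_mul_isUnit_left this
    have hua : ∀ k, IsUnit (algebraMap B D (a k)) := fun k => by
      have := hu k; rw [map_mul] at this; exact isUnit_of_mul_isUnit_left this
    have hud : ∀ k, IsUnit (algebraMap B D (d k)) := fun k => by
      have := hu k; rw [map_mul] at this; exact isUnit_of_mul_isUnit_right this
    refine ⟨fun k => (hua k).unit * (hud k).unit⁻¹, fun k => ?_⟩
    have hdu : IsUnit (algebraMap B (Localization.AtPrime p) (d k)) :=
      IsLocalization.map_units _ (⟨d k, hd k⟩ : p.primeCompl)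
    have e1 : g ((↑((hua k).unit * (hud k).unit⁻¹) : D)) * algebraMap B _ (d k) =
        algebraMap B _ (a k) := by
      rw [← g.commutes (d k), ← map_mul, Units.val_mul, mul_assoc]
      rw [show (↑((hud k).unit⁻¹) : D) * algebraMap B D (d k) = 1 from
        (hud k).val_inv_mul]
      rw [mul_one, IsUnit.unit_spec, g.commutes]
    exact hdu.mul_right_cancel (e1.trans (had k).symm)

end units
end Groth.Agent.Lib.HermSpread16

namespace Groth.Agent.Lib.HermSpread16
open scoped TensorProduct

section spread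
universe u v
variable {B : Type u} {A : Type v} [CommRing B] [CommRing A] [Algebra B A]
  {lam : A ≃ₐ[B] A} {n : ℕ} {h h' : Matrix (Fin n) (Fin n) A}

set_option maxHeartbeats 800000 in
theorem spread (p : Ideal B) [p.IsPrime] (l : ℕ) (sp : Fin l → Localization.AtPrime p)
    (hspu : ∀ k, IsUnit (sp k)) (r : ℕ)
    (f : Fin r → SqRing sp)
    (hf : Ideal.span (Set.range f) = ⊤)
    (hP : ∀ i, P lam h h' (Localization.Away (f i))) :
    ∃ b : B, b ∉ p ∧ ∃ (σ : Fin l → (Localization.Away b)ˣ)
      (f' : Fin r → SqRing (fun k => (σ k : Localization.Away b))),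
      Ideal.span (Set.range f') = ⊤ ∧
      ∀ (i : Fin r) (C : Type u) [CommRing C] [Algebra B C]
        [Algebra (SqRing (fun k => (σ k : Localization.Away b))) C]
        [IsScalarTower B (SqRing (fun k => (σ k : Localization.Away b))) C]
        [IsLocalization.Away (f' i) C], P lam h h' C := by
  obtain ⟨b₀, hb₀, hσ⟩ := exists_units_lift p (fun k => (hspu k).unit)
  have hle : Submonoid.powers b₀ ≤ p.primeCompl := by
    rw [Submonoid.powers_le]; exact hb₀
  letI algD : Algebra (Localization.Away b₀) (Localization.AtPrime p) :=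
    IsLocalization.localizationAlgebraOfSubmonoidLe (Localization.Away b₀) (Localization.AtPrime p)
      (Submonoid.powers b₀) p.primeCompl hle
  haveI towD : IsScalarTower B (Localization.Away b₀) (Localization.AtPrime p) :=
    IsLocalization.localization_isScalarTower_of_submonoid_le (Localization.Away b₀)
      (Localization.AtPrime p) (Submonoid.powers b₀) p.primeCompl hle
  haveI locD : IsLocalization (p.primeCompl.map (algebraMap B (Localization.Away b₀)))
      (Localization.AtPrime p) :=
    IsLocalization.isLocalization_of_submonoid_le (Localization.Away b₀) (Localization.AtPrime p)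
      (Submonoid.powers b₀) p.primeCompl hle
  obtain ⟨s₀, hs₀u, hs⟩ : ∃ s₀ : Fin l → Localization.Away b₀, (∀ k, IsUnit (s₀ k)) ∧
      ∀ k, algebraMap (Localization.Away b₀) (Localization.AtPrime p) (s₀ k) = sp k := by
    obtain ⟨σ₀, hσ₀⟩ := hσ (Localization.Away b₀)
      (IsScalarTower.toAlgHom B (Localization.Away b₀) (Localization.AtPrime p))
    exact ⟨fun k => (σ₀ k : Localization.Away b₀), fun k => (σ₀ k).isUnit, hσ₀⟩
  -- the rings `R₀ → R_p`
  letI algR : Algebra (SqRing s₀) (SqRing sp) :=
    (sqMap (Algebra.ofId (Localization.Away b₀) (Localization.AtPrime p)) s₀ sp hs :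
      SqRing s₀ →+* SqRing sp).toAlgebra
  obtain ⟨N, hN⟩ : ∃ N : Submonoid (Localization.Away b₀),
      N = p.primeCompl.map (algebraMap B (Localization.Away b₀)) := ⟨_, rfl⟩
  haveI locD' : IsLocalization N (Localization.AtPrime p) := hN ▸ locD
  haveI locR : IsLocalization (N.map (algebraMap (Localization.Away b₀) (SqRing s₀))) (SqRing sp) :=
    isLocalization_sqRing N s₀ sp hs
  obtain ⟨N', hN'⟩ : ∃ N' : Submonoid (SqRing s₀),
      N' = N.map (algebraMap (Localization.Away b₀) (SqRing s₀)) := ⟨_, rfl⟩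
  haveI locR' : IsLocalization N' (SqRing sp) := hN' ▸ locR
  haveI towR : IsScalarTower B (SqRing s₀) (SqRing sp) :=
    IsScalarTower.of_algebraMap_eq (R := B) (S := SqRing s₀) (A := SqRing sp) (fun x => by
      change Ideal.Quotient.mk _ (MvPolynomial.C (algebraMap B (Localization.AtPrime p) x)) =
        Ideal.Quotient.mk _ (MvPolynomial.map
          (algebraMap (Localization.Away b₀) (Localization.AtPrime p))
          (MvPolynomial.C (algebraMap B (Localization.Away b₀) x)))
      rw [MvPolynomial.map_C]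
      congr 2
      exact IsScalarTower.algebraMap_apply B (Localization.Away b₀) (Localization.AtPrime p) x)
  -- spreading out over each `D(f i)`
  have step : ∀ i, ∃ t : SqRing s₀, (∃ (k : ℕ) (z : N'), algebraMap (SqRing s₀) (SqRing sp) t =
      f i ^ k * algebraMap (SqRing s₀) (SqRing sp) z) ∧ P lam h h' (Localization.Away t) := by
    intro i
    haveI tow1 : IsScalarTower (SqRing s₀) (SqRing sp) (Localization.Away (f i)) := inferInstance
    haveI tow2 : IsScalarTower B (SqRing s₀) (Localization.Away (f i)) :=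
      IsScalarTower.of_algebraMap_eq (R := B) (S := SqRing s₀) (A := Localization.Away (f i))
        (fun x => by
        rw [IsScalarTower.algebraMap_apply B (SqRing sp) (Localization.Away (f i)),
          IsScalarTower.algebraMap_apply B (SqRing s₀) (SqRing sp),
          ← IsScalarTower.algebraMap_apply (SqRing s₀) (SqRing sp) (Localization.Away (f i))])
    haveI locC : IsLocalization
        (IsLocalization.localizationLocalizationSubmodule N' (Submonoid.powers (f i)))
        (Localization.Away (f i)) :=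
      IsLocalization.localization_localization_isLocalization N' (Submonoid.powers (f i))
        (Localization.Away (f i))
    obtain ⟨t, ht, hPt⟩ := (hP i).exists_away
      (IsLocalization.localizationLocalizationSubmodule N' (Submonoid.powers (f i)))
    refine ⟨t, ?_, hPt⟩
    rw [IsLocalization.mem_localizationLocalizationSubmodule] at ht
    obtain ⟨⟨_, k, rfl⟩, z, hz⟩ := ht
    exact ⟨k, z, hz⟩
  choose t ht hPt using step
  -- the `t i` generate the unit ideal after localisation
  have hspan : (Ideal.span (Set.range t)).map (algebraMap (SqRing s₀) (SqRing sp)) = ⊤ := by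
    choose k z hkz using ht
    have hmem : ∀ i, f i ^ k i ∈
        (Ideal.span (Set.range t)).map (algebraMap (SqRing s₀) (SqRing sp)) := by
      intro i
      have hzu : IsUnit (algebraMap (SqRing s₀) (SqRing sp) (z i)) :=
        IsLocalization.map_units _ (z i)
      have h1 : algebraMap (SqRing s₀) (SqRing sp) (t i) ∈
          (Ideal.span (Set.range t)).map (algebraMap (SqRing s₀) (SqRing sp)) :=
        Ideal.mem_map_of_mem _ (Ideal.subset_span ⟨i, rfl⟩)
      rw [hkz i] at h1
      obtain ⟨zu, hzu'⟩ := hzu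
      have : f i ^ k i = (f i ^ k i * algebraMap (SqRing s₀) (SqRing sp) (z i)) * ↑zu⁻¹ := by
        rw [mul_assoc, ← hzu', Units.mul_inv, mul_one]
      rw [this]
      exact Ideal.mul_mem_right _ _ h1
    have htop := Ideal.span_range_pow_eq_top (Set.range f) hf (fun x => k x.2.choose)
    rw [eq_top_iff, ← htop, Ideal.span_le]
    rintro _ ⟨x, rfl⟩
    have := hmem x.2.choose
    rw [x.2.choose_spec] at this
    exact this
  obtain ⟨c, hcN, hcI⟩ : ∃ c : SqRing s₀, c ∈ N' ∧ c ∈ Ideal.span (Set.range t) := by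
    have h1 : (1 : SqRing sp) ∈
        (Ideal.span (Set.range t)).map (algebraMap (SqRing s₀) (SqRing sp)) := by
      rw [hspan]; trivial
    rw [IsLocalization.mem_map_algebraMap_iff N'] at h1
    obtain ⟨⟨x, m⟩, hxm⟩ := h1
    rw [one_mul] at hxm
    obtain ⟨c, hc⟩ := IsLocalization.exists_of_eq (M := N') hxm
    exact ⟨c * m, N'.mul_mem c.2 m.2, by rw [hc]; exact Ideal.mul_mem_left _ _ x.2⟩
  obtain ⟨m₀, hm₀, rfl⟩ : ∃ m₀ : B, m₀ ∉ p ∧ algebraMap B (SqRing s₀) m₀ = c := by
    rw [hN', hN] at hcN
    obtain ⟨_, ⟨m₀, hm₀, rfl⟩, rfl⟩ := hcN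
    exact ⟨m₀, hm₀, IsScalarTower.algebraMap_apply B (Localization.Away b₀) (SqRing s₀) m₀⟩
  -- the final stage `b = b₀ m₀`
  have hb : b₀ * m₀ ∉ p := fun hmem =>
    (Ideal.IsPrime.mem_or_mem inferInstance hmem).elim hb₀ hm₀
  let g₁ : Localization.Away b₀ →ₐ[B] Localization.Away (b₀ * m₀) :=
    { IsLocalization.Away.awayToAwayRight (S := Localization.Away b₀)
        (P := Localization.Away (b₀ * m₀)) b₀ m₀ with
      commutes' := IsLocalization.Away.awayToAwayRight_eq (S := Localization.Away b₀)
        (P := Localization.Away (b₀ * m₀)) b₀ m₀ }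
  let σ : Fin l → (Localization.Away (b₀ * m₀))ˣ := fun k => ((hs₀u k).map g₁).unit
  let φ : SqRing s₀ →ₐ[B] SqRing (fun k => (σ k : Localization.Away (b₀ * m₀))) :=
    sqMap g₁ s₀ (fun k => (σ k : Localization.Away (b₀ * m₀)))
      (fun k => (IsUnit.unit_spec _).symm)
  refine ⟨b₀ * m₀, hb, σ, fun i => φ (t i), ?_, ?_⟩
  · have hmem : algebraMap B (SqRing (fun k => (σ k : Localization.Away (b₀ * m₀)))) m₀ ∈
        Ideal.span (Set.range fun i => φ (t i)) := by
      have h1 : φ (algebraMap B (SqRing s₀) m₀) ∈ (Ideal.span (Set.range t)).map φ :=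
        Ideal.mem_map_of_mem _ hcI
      rw [φ.commutes, Ideal.map_span] at h1
      refine Ideal.span_mono ?_ h1
      rintro _ ⟨_, ⟨i, rfl⟩, rfl⟩
      exact ⟨i, rfl⟩
    refine Ideal.eq_top_of_isUnit_mem _ hmem ?_
    have hu : IsUnit (algebraMap B (Localization.Away (b₀ * m₀)) m₀) := by
      have := IsLocalization.Away.algebraMap_isUnit (S := Localization.Away (b₀ * m₀)) (b₀ * m₀)
      rw [map_mul] at this
      exact isUnit_of_mul_isUnit_right this
    rw [IsScalarTower.algebraMap_apply B (Localization.Away (b₀ * m₀))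
      (SqRing (fun k => (σ k : Localization.Away (b₀ * m₀)))) m₀]
    exact hu.map _
  · intro i C _ _ _ _ _
    have hunit : IsUnit (((algebraMap (SqRing (fun k => (σ k : Localization.Away (b₀ * m₀)))) C).comp
        (φ : SqRing s₀ →+* SqRing (fun k => (σ k : Localization.Away (b₀ * m₀))))) (t i)) :=
      IsLocalization.Away.algebraMap_isUnit (φ (t i))
    let θ : Localization.Away (t i) →ₐ[B] C :=
      { IsLocalization.Away.lift (t i) hunit with
        commutes' := fun x => by
          change IsLocalization.Away.lift (t i) hunit (algebraMap B (Localization.Away (t i)) x) = _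
          rw [IsScalarTower.algebraMap_apply B (SqRing s₀) (Localization.Away (t i)),
            IsLocalization.Away.lift_eq, RingHom.comp_apply]
          change algebraMap _ C (φ (algebraMap B (SqRing s₀) x)) = _
          rw [φ.commutes, ← IsScalarTower.algebraMap_apply] }
    exact (hPt i).map θ

end spread
end Groth.Agent.Lib.HermSpread16

namespace Groth.Agent.Lib.HermSpread16
open scoped TensorProduct

section main
universe u v

theorem main (B : Type u) (A : Type v) [CommRing B] [CommRing A]
    [Algebra B A] (lam : A ≃ₐ[B] A)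
    (n : ℕ) (h h' : Matrix (Fin n) (Fin n) A)
    (p : Ideal B) [p.IsPrime]
    (hdata : (∃ (l : ℕ) (s : Fin l → (Localization.AtPrime p)ˣ) (r : ℕ) (f : Fin r → (MvPolynomial (Fin l) (Localization.AtPrime p) ⧸ Ideal.span (Set.range fun k : Fin l => MvPolynomial.X k ^ 2 - MvPolynomial.C (s k : Localization.AtPrime p)))),
        Ideal.span (Set.range f) = ⊤ ∧
        ∀ (i : Fin r) (C : Type u) [CommRing C] [Algebra B C]
          [Algebra (MvPolynomial (Fin l) (Localization.AtPrime p) ⧸ Ideal.span (Set.range fun k : Fin l => MvPolynomial.X k ^ 2 - MvPolynomial.C (s k : Localization.AtPrime p))) C]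
          [IsScalarTower B (MvPolynomial (Fin l) (Localization.AtPrime p) ⧸ Ideal.span (Set.range fun k : Fin l => MvPolynomial.X k ^ 2 - MvPolynomial.C (s k : Localization.AtPrime p))) C]
          [IsLocalization.Away (f i) C],
          ∃ v : Matrix (Fin n) (Fin n) (C ⊗[B] A), IsUnit v ∧
            (v.map (Algebra.TensorProduct.congr (AlgEquiv.refl : C ≃ₐ[C] C) lam)).transpose * h.map (Algebra.TensorProduct.includeRight : A →ₐ[B] C ⊗[B] A) * v = h'.map (Algebra.TensorProduct.includeRight : A →ₐ[B] C ⊗[B] A))) :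
    ∃ b : B, b ∉ p ∧
      (∃ (l : ℕ) (s : Fin l → (Localization.Away b)ˣ) (r : ℕ) (f : Fin r → (MvPolynomial (Fin l) (Localization.Away b) ⧸ Ideal.span (Set.range fun k : Fin l => MvPolynomial.X k ^ 2 - MvPolynomial.C (s k : Localization.Away b)))),
        Ideal.span (Set.range f) = ⊤ ∧
        ∀ (i : Fin r) (C : Type u) [CommRing C] [Algebra B C]
          [Algebra (MvPolynomial (Fin l) (Localization.Away b) ⧸ Ideal.span (Set.range fun k : Fin l => MvPolynomial.X k ^ 2 - MvPolynomial.C (s k : Localization.Away b))) C]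
          [IsScalarTower B (MvPolynomial (Fin l) (Localization.Away b) ⧸ Ideal.span (Set.range fun k : Fin l => MvPolynomial.X k ^ 2 - MvPolynomial.C (s k : Localization.Away b))) C]
          [IsLocalization.Away (f i) C],
          ∃ v : Matrix (Fin n) (Fin n) (C ⊗[B] A), IsUnit v ∧
            (v.map (Algebra.TensorProduct.congr (AlgEquiv.refl : C ≃ₐ[C] C) lam)).transpose * h.map (Algebra.TensorProduct.includeRight : A →ₐ[B] C ⊗[B] A) * v = h'.map (Algebra.TensorProduct.includeRight : A →ₐ[B] C ⊗[B] A)) := by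
  obtain ⟨l, s, r, f, hf, hv⟩ := hdata
  obtain ⟨b, hb, σ, f', hf', hC⟩ := spread (lam := lam) (h := h) (h' := h') p l
    (fun k => (s k : Localization.AtPrime p)) (fun k => (s k).isUnit) r f hf
    (fun i => hv i (Localization.Away (f i)))
  exact ⟨b, hb, l, σ, r, f', hf', fun i C _ _ _ _ _ => hC i C⟩

end main
end Groth.Agent.Lib.HermSpread16

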