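/-
`HilbD27` (helper27): `HilbD.pull` API — `pull_eq_comap`, `pull_comp`, `pull_id`, `isPullback_XTmap`,
`isFinLocFreeOfDeg_pull` (pull preserves `Hilb^d`), `comap_fst_eq_iff`, and
`isSeparated_of_isUniversal` (the Hilbert scheme of points is separated; closed condition `Z₁ = Z₂`
from `ClosedCond27l`).
-/
import Mathlib
import Groth.Prelude.Def_HilbD
import Groth.Agent.Lib.ClosedCond27l

set_option autoImplicit false
universe u
open CategoryTheory CategoryTheory.Limits AlgebraicGeometry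

namespace Groth.Agent.Lib.HilbD27

variable {X S : Scheme.{u}} (f : X ⟶ S)

@[reassoc]
theorem XTmap_fst {T T' : Over S} (g : T' ⟶ T) :
    PicF.XTmap f g ≫ pullback.fst f T.hom = pullback.fst f T'.hom := by
  rw [PicF.XTmap, pullback.lift_fst, Category.comp_id]

@[reassoc]
theorem XTmap_snd {T T' : Over S} (g : T' ⟶ T) :
    PicF.XTmap f g ≫ pullback.snd f T.hom = pullback.snd f T'.hom ≫ g.left := by
  rw [PicF.XTmap, pullback.lift_snd]

theorem XTmap_comp {T T' T'' : Over S} (g' : T'' ⟶ T') (g : T' ⟶ T) :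
    PicF.XTmap f (g' ≫ g) = PicF.XTmap f g' ≫ PicF.XTmap f g := by
  apply pullback.hom_ext
  · rw [Category.assoc, XTmap_fst, XTmap_fst, XTmap_fst]
  · rw [Category.assoc, XTmap_snd, XTmap_snd, XTmap_snd_assoc, Over.comp_left]

theorem XTmap_id (T : Over S) : PicF.XTmap f (𝟙 T) = 𝟙 _ := by
  apply pullback.hom_ext
  · rw [XTmap_fst, Category.id_comp]
  · rw [XTmap_snd, Category.id_comp, Over.id_left, Category.comp_id]

theorem isPullback_XTmap {T T' : Over S} (g : T' ⟶ T) :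
    IsPullback (PicF.XTmap f g) (pullback.snd f T'.hom) (pullback.snd f T.hom) g.left := by
  refine IsPullback.of_right (h₁₂ := pullback.fst f T.hom) (h₂₂ := T.hom) (v₁₃ := f) ?_
    (XTmap_snd f g) (IsPullback.of_hasPullback f T.hom)
  rw [XTmap_fst, Over.w g]
  exact IsPullback.of_hasPullback f T'.hom

theorem pull_eq_comap {T T' : Over S} (g : T' ⟶ T) (I : (PicF.XT f T).IdealSheafData) :
    HilbD.pull f g I = I.comap (PicF.XTmap f g) := by
  unfold HilbD.pull Scheme.IdealSheafData.comap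
  rw [← pullbackSymmetry_hom_comp_fst, Scheme.Hom.ker_comp_of_isIso]

theorem pull_comp {T T' T'' : Over S} (g' : T'' ⟶ T') (g : T' ⟶ T)
    (I : (PicF.XT f T).IdealSheafData) :
    HilbD.pull f (g' ≫ g) I = HilbD.pull f g' (HilbD.pull f g I) := by
  rw [pull_eq_comap, pull_eq_comap, pull_eq_comap, XTmap_comp,
    Scheme.IdealSheafData.comap_comp]

theorem pull_id (T : Over S) (I : (PicF.XT f T).IdealSheafData) :
    HilbD.pull f (𝟙 T) I = I := by
  rw [pull_eq_comap, XTmap_id, Scheme.IdealSheafData.comap_id]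

theorem isFinLocFreeOfDeg_of_isPullback {d : ℕ} {P A B C : Scheme.{u}} (fst : P ⟶ A) (snd : P ⟶ B)
    (q : A ⟶ C) (g : B ⟶ C) (h : IsPullback fst snd q g) (hq : Mor2.IsFinLocFreeOfDeg d q) :
    Mor2.IsFinLocFreeOfDeg d snd := by
  obtain ⟨⟨h1, h2, h3⟩, h4⟩ := hq
  refine ⟨⟨?_, ?_, ?_⟩, fun y => ?_⟩
  · exact MorphismProperty.of_isPullback (P := @IsFinite) h h1
  · exact MorphismProperty.of_isPullback (P := @Flat) h h2
  · exact MorphismProperty.of_isPullback (P := @LocallyOfFinitePresentation) h h3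
  · rw [Scheme.Hom.finrank_of_isPullback fst snd q g h y, h4]

theorem isFinLocFreeOfDeg_iso_comp {d : ℕ} {A A' B : Scheme.{u}} (e : A' ⟶ A) [IsIso e] (q : A ⟶ B)
    (hq : Mor2.IsFinLocFreeOfDeg d q) : Mor2.IsFinLocFreeOfDeg d (e ≫ q) := by
  obtain ⟨⟨h1, h2, h3⟩, h4⟩ := hq
  refine ⟨⟨inferInstance, inferInstance, inferInstance⟩, fun y => ?_⟩
  rw [Scheme.Hom.finrank_comp_left_of_isIso, h4]

theorem isFinLocFreeOfDeg_pull {d : ℕ} {T T' : Over S} (g : T' ⟶ T)
    (I : (PicF.XT f T).IdealSheafData)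
    (hI : Mor2.IsFinLocFreeOfDeg d (I.subschemeι ≫ PicF.XTproj f T)) :
    Mor2.IsFinLocFreeOfDeg d ((HilbD.pull f g I).subschemeι ≫ PicF.XTproj f T') := by
  rw [pull_eq_comap]
  have hpb := (IsPullback.of_hasPullback (PicF.XTmap f g) I.subschemeι).flip.paste_vert
    (isPullback_XTmap f g)
  have h1 := isFinLocFreeOfDeg_of_isPullback _ _ _ _ hpb hI
  have h2 := isFinLocFreeOfDeg_iso_comp (I.comapIso (PicF.XTmap f g)).hom _ h1
  rwa [← Category.assoc, Scheme.IdealSheafData.comapIso_hom_fst] at h2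

theorem comap_fst_eq_iff (B : Over S) (I₁ I₂ : (PicF.XT f B).IdealSheafData) {T'' : Scheme.{u}}
    (t : T'' ⟶ B.left) :
    I₁.comap (pullback.fst (pullback.snd f B.hom) t) =
        I₂.comap (pullback.fst (pullback.snd f B.hom) t) ↔
      HilbD.pull f (Over.homMk t rfl : Over.mk (t ≫ B.hom) ⟶ B) I₁ =
        HilbD.pull f (Over.homMk t rfl : Over.mk (t ≫ B.hom) ⟶ B) I₂ := by
  have hε : (pullbackLeftPullbackSndIso f B.hom t).inv ≫ pullback.fst (pullback.snd f B.hom) t =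
      PicF.XTmap f (Over.homMk t rfl : Over.mk (t ≫ B.hom) ⟶ B) := by
    apply pullback.hom_ext
    · rw [Category.assoc, pullbackLeftPullbackSndIso_inv_fst, XTmap_fst]
      rfl
    · rw [Category.assoc, pullbackLeftPullbackSndIso_inv_fst_snd, XTmap_snd]
      rfl
  have key : ∀ J : (PicF.XT f B).IdealSheafData,
      (J.comap (pullback.fst (pullback.snd f B.hom) t)).comap
        (pullbackLeftPullbackSndIso f B.hom t).inv =
      HilbD.pull f (Over.homMk t rfl : Over.mk (t ≫ B.hom) ⟶ B) J := fun J => by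
    rw [← Scheme.IdealSheafData.comap_comp, hε, pull_eq_comap]
  constructor
  · intro h
    rw [← key, ← key, h]
  · intro h
    rw [← key, ← key] at h
    have := congrArg (fun K => K.comap (pullbackLeftPullbackSndIso f B.hom t).hom) h
    simpa only [← Scheme.IdealSheafData.comap_comp, Iso.hom_inv_id_assoc] using this

/-- the Hilbert scheme of points is separated over the base. -/
theorem isSeparated_of_isUniversal (d : ℕ) (H : Over S) (Z : HilbD.Obj f d H)
    (hZ : HilbD.IsUniversal f d H Z) : IsSeparated H.hom := by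
  let B : Over S := Over.mk (pullback.fst H.hom H.hom ≫ H.hom)
  let g₁ : B ⟶ H := Over.homMk (pullback.fst H.hom H.hom) rfl
  let g₂ : B ⟶ H := Over.homMk (pullback.snd H.hom H.hom) pullback.condition.symm
  have hI₁ := isFinLocFreeOfDeg_pull f g₁ Z.1 Z.2
  have hI₂ := isFinLocFreeOfDeg_pull f g₂ Z.1 Z.2
  obtain ⟨⟨a1, a2, a3⟩, -⟩ := hI₁
  obtain ⟨⟨b1, b2, b3⟩, -⟩ := hI₂
  obtain ⟨𝓩, h𝓩⟩ := Groth.Agent.Lib.ClosedCond27.exists_idealSheaf_comap_eq
    (pullback.snd f B.hom) (HilbD.pull f g₁ Z.1) (HilbD.pull f g₂ Z.1)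
  -- (a) the diagonal factors through `V(𝓩)`
  have hΔ : 𝓩 ≤ (pullback.diagonal H.hom).ker := by
    rw [h𝓩, comap_fst_eq_iff, ← pull_comp, ← pull_comp]
    congr 1
    ext
    simp [g₁, g₂]
  -- (b) `V(𝓩)` equalizes the two projections
  have hE : 𝓩.subschemeι ≫ pullback.fst H.hom H.hom = 𝓩.subschemeι ≫ pullback.snd H.hom H.hom := by
    have h0 : 𝓩 ≤ 𝓩.subschemeι.ker := by rw [Scheme.IdealSheafData.ker_subschemeι]
    rw [h𝓩, comap_fst_eq_iff, ← pull_comp, ← pull_comp] at h0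
    have hobj := isFinLocFreeOfDeg_pull f
      ((Over.homMk 𝓩.subschemeι rfl : Over.mk (𝓩.subschemeι ≫ B.hom) ⟶ B) ≫ g₁) Z.1 Z.2
    obtain ⟨g, -, huniq⟩ := hZ _ ⟨_, hobj⟩
    have e1 := huniq ((Over.homMk 𝓩.subschemeι rfl : Over.mk (𝓩.subschemeι ≫ B.hom) ⟶ B) ≫ g₁) rfl
    have e2 := huniq ((Over.homMk 𝓩.subschemeι rfl : Over.mk (𝓩.subschemeι ≫ B.hom) ⟶ B) ≫ g₂)
      h0.symm
    have := congrArg (fun k => k.left) (e1.trans e2.symm)
    simpa [g₁, g₂] using this
  -- (c)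
  have hΔ' : (𝓩.subschemeι).ker ≤ (pullback.diagonal H.hom).ker := by
    rw [Scheme.IdealSheafData.ker_subschemeι]; exact hΔ
  have ha : IsClosedImmersion.lift 𝓩.subschemeι (pullback.diagonal H.hom) hΔ' ≫ 𝓩.subschemeι =
      pullback.diagonal H.hom := IsClosedImmersion.lift_fac _ _ _
  have hb : (𝓩.subschemeι ≫ pullback.fst H.hom H.hom) ≫ pullback.diagonal H.hom =
      𝓩.subschemeι := by
    apply pullback.hom_ext
    · rw [Category.assoc, pullback.diagonal_fst, Category.comp_id]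
    · rw [Category.assoc, pullback.diagonal_snd, Category.comp_id, hE]
  have hab : IsClosedImmersion.lift 𝓩.subschemeι (pullback.diagonal H.hom) hΔ' ≫
      (𝓩.subschemeι ≫ pullback.fst H.hom H.hom) = 𝟙 _ := by
    rw [reassoc_of% ha, pullback.diagonal_fst]
  have hba : (𝓩.subschemeι ≫ pullback.fst H.hom H.hom) ≫
      IsClosedImmersion.lift 𝓩.subschemeι (pullback.diagonal H.hom) hΔ' = 𝟙 _ := by
    rw [← cancel_mono 𝓩.subschemeι, Category.assoc, ha, hb, Category.id_comp]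
  have hiso : IsIso (IsClosedImmersion.lift 𝓩.subschemeι (pullback.diagonal H.hom) hΔ') :=
    ⟨_, hab, hba⟩
  constructor
  rw [← ha]
  infer_instance

end Groth.Agent.Lib.HilbD27
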