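/-
`HilbD27b` (helper27): `HilbD.push` API for a closed immersion `i : X ⟶ Y` over `S` — `iT` (base change
`X_T ⟶ Y_T`), `pull_push`, `push_injective`, `isFinLocFreeOfDeg_push`, `push_comap_iT`,
`comap_fst_le_iff`, `pull_ker_iT`, and `exists_universal_sub`: `Hilb^d_{X/S}` is represented by a closed
subscheme of `Hilb^d_{Y/S}`.
-/
import Mathlib
import Groth.Prelude.Def_HilbD
import Groth.Agent.Lib.HilbD27

set_option autoImplicit false
universe u
open CategoryTheory CategoryTheory.Limits AlgebraicGeometry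

namespace Groth.Agent.Lib.HilbD27

variable {X Y S : Scheme.{u}} (i : X ⟶ Y) (g : Y ⟶ S)

/-- the base change `X_T ⟶ Y_T` of `i`. -/
noncomputable abbrev iT (T : Over S) : PicF.XT (i ≫ g) T ⟶ PicF.XT g T :=
  pullback.map (i ≫ g) T.hom g T.hom i (𝟙 _) (𝟙 S) (Category.comp_id _) (by simp)

theorem push_def (T : Over S) (I : (PicF.XT (i ≫ g) T).IdealSheafData) :
    HilbD.push i g T I = (I.subschemeι ≫ iT i g T).ker := rfl

@[reassoc]
theorem iT_fst (T : Over S) : iT i g T ≫ pullback.fst g T.hom = pullback.fst (i ≫ g) T.hom ≫ i := by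
  rw [pullback.lift_fst]

@[reassoc]
theorem iT_snd (T : Over S) : iT i g T ≫ pullback.snd g T.hom = pullback.snd (i ≫ g) T.hom := by
  rw [pullback.lift_snd, Category.comp_id]

theorem isPullback_iT (T : Over S) :
    IsPullback (iT i g T) (pullback.fst (i ≫ g) T.hom) (pullback.fst g T.hom) i := by
  refine IsPullback.of_right (h₁₂ := pullback.snd g T.hom) (h₂₂ := g) (v₁₃ := T.hom) ?_
    (iT_fst i g T) (IsPullback.of_hasPullback g T.hom).flip
  rw [iT_snd]
  exact (IsPullback.of_hasPullback (i ≫ g) T.hom).flip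

instance [IsClosedImmersion i] (T : Over S) : IsClosedImmersion (iT i g T) :=
  MorphismProperty.of_isPullback (P := @IsClosedImmersion) (isPullback_iT i g T).flip inferInstance

@[reassoc]
theorem XTmap_iT {T T' : Over S} (t : T' ⟶ T) :
    PicF.XTmap (i ≫ g) t ≫ iT i g T = iT i g T' ≫ PicF.XTmap g t := by
  apply pullback.hom_ext
  · rw [Category.assoc, Category.assoc, iT_fst, XTmap_fst, XTmap_fst_assoc, iT_fst]
  · rw [Category.assoc, Category.assoc, iT_snd, XTmap_snd, XTmap_snd, iT_snd_assoc]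

theorem isPullback_XTmap_iT {T T' : Over S} (t : T' ⟶ T) :
    IsPullback (PicF.XTmap (i ≫ g) t) (iT i g T') (iT i g T) (PicF.XTmap g t) := by
  refine IsPullback.of_right (h₁₂ := pullback.fst (i ≫ g) T.hom) (h₂₂ := pullback.fst g T.hom)
    (v₁₃ := i) ?_ (XTmap_iT i g t) (isPullback_iT i g T).flip
  rw [XTmap_fst, XTmap_fst]
  exact (isPullback_iT i g T').flip

/-- base change of the kernel of a closed immersion. -/
theorem ker_comap_of_isPullback {P V W W' : Scheme.{u}} (c : V ⟶ W) [IsClosedImmersion c]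
    (m : W' ⟶ W) (a : P ⟶ V) (b : P ⟶ W') (sq : IsPullback a b c m) :
    c.ker.comap m = b.ker := by
  have sq' : IsPullback (a ≫ c.toImage) b c.ker.subschemeι m := by
    refine IsPullback.of_iso sq (Iso.refl _) (asIso c.toImage) (Iso.refl _) (Iso.refl _)
      ?_ ?_ ?_ ?_
    · simp
    · simp
    · simp
    · simp
  unfold Scheme.IdealSheafData.comap
  rw [← sq'.flip.isoPullback_hom_fst, Scheme.Hom.ker_comp_of_isIso]

variable [IsClosedImmersion i]

/-- `push` commutes with `pull`. -/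
theorem pull_push {T T' : Over S} (t : T' ⟶ T) (I : (PicF.XT (i ≫ g) T).IdealSheafData) :
    HilbD.pull g t (HilbD.push i g T I) = HilbD.push i g T' (HilbD.pull (i ≫ g) t I) := by
  rw [pull_eq_comap, pull_eq_comap, push_def, push_def]
  have top : IsPullback ((I.comapIso (PicF.XTmap (i ≫ g) t)).hom ≫
      pullback.snd (PicF.XTmap (i ≫ g) t) I.subschemeι)
      (I.comap (PicF.XTmap (i ≫ g) t)).subschemeι I.subschemeι (PicF.XTmap (i ≫ g) t) := by
    have h0 := (IsPullback.of_hasPullback (PicF.XTmap (i ≫ g) t) I.subschemeι).flip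
    refine IsPullback.of_iso h0 (I.comapIso (PicF.XTmap (i ≫ g) t)).symm (Iso.refl _) (Iso.refl _)
      (Iso.refl _) ?_ ?_ ?_ ?_
    · simp only [Iso.symm_hom, Iso.refl_hom, Category.comp_id, Iso.inv_hom_id_assoc]
    · simp only [Iso.symm_hom, Iso.refl_hom, Category.comp_id,
        Scheme.IdealSheafData.comapIso_inv_subschemeι]
    · simp only [Iso.refl_hom, Category.comp_id, Category.id_comp]
    · simp only [Iso.refl_hom, Category.comp_id, Category.id_comp]
  exact ker_comap_of_isPullback _ _ _ _ (top.paste_vert (isPullback_XTmap_iT i g t))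

/-- `push` is injective. -/
theorem push_injective (T : Over S) : Function.Injective (HilbD.push i g T) := by
  have key : ∀ I I' : (PicF.XT (i ≫ g) T).IdealSheafData,
      (I.subschemeι ≫ iT i g T).ker = (I'.subschemeι ≫ iT i g T).ker → I' ≤ I := by
    intro I I' h
    have hc : IsClosedImmersion.lift (I'.subschemeι ≫ iT i g T) (I.subschemeι ≫ iT i g T)
        (le_of_eq h.symm) ≫ I'.subschemeι ≫ iT i g T = I.subschemeι ≫ iT i g T :=
      IsClosedImmersion.lift_fac _ _ _
    have hc' : IsClosedImmersion.lift (I'.subschemeι ≫ iT i g T) (I.subschemeι ≫ iT i g T)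
        (le_of_eq h.symm) ≫ I'.subschemeι = I.subschemeι := by
      rw [← cancel_mono (iT i g T), Category.assoc]; exact hc
    calc I' = I'.subschemeι.ker := (Scheme.IdealSheafData.ker_subschemeι _).symm
      _ ≤ (IsClosedImmersion.lift (I'.subschemeι ≫ iT i g T) (I.subschemeι ≫ iT i g T)
            (le_of_eq h.symm) ≫ I'.subschemeι).ker := Scheme.Hom.le_ker_comp _ _
      _ = I.subschemeι.ker := by rw [hc']
      _ = I := Scheme.IdealSheafData.ker_subschemeι _
  intro I₁ I₂ h
  exact le_antisymm (key I₂ I₁ h.symm) (key I₁ I₂ h)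

omit [IsClosedImmersion i] in
theorem ker_iT_le_push (T : Over S) (I : (PicF.XT (i ≫ g) T).IdealSheafData) :
    (iT i g T).ker ≤ HilbD.push i g T I :=
  Scheme.Hom.le_ker_comp _ _

omit [IsClosedImmersion i] in
theorem isFinLocFreeOfDeg_ker_subschemeι {d : ℕ} {V W B : Scheme.{u}} (c : V ⟶ W)
    [IsClosedImmersion c] (q : W ⟶ B) (h : Mor2.IsFinLocFreeOfDeg d (c ≫ q)) :
    Mor2.IsFinLocFreeOfDeg d (c.ker.subschemeι ≫ q) := by
  have h1 : c.ker.subschemeι ≫ q = inv c.toImage ≫ c ≫ q := by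
    rw [IsIso.eq_inv_comp, ← Category.assoc]
    congr 1
    exact c.toImage_imageι
  rw [h1]
  exact isFinLocFreeOfDeg_iso_comp _ _ h

/-- `push` preserves `Hilb^d`. -/
theorem isFinLocFreeOfDeg_push {d : ℕ} (T : Over S) (I : (PicF.XT (i ≫ g) T).IdealSheafData)
    (hI : Mor2.IsFinLocFreeOfDeg d (I.subschemeι ≫ PicF.XTproj (i ≫ g) T)) :
    Mor2.IsFinLocFreeOfDeg d ((HilbD.push i g T I).subschemeι ≫ PicF.XTproj g T) := by
  rw [push_def]
  apply isFinLocFreeOfDeg_ker_subschemeι
  rw [Category.assoc]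
  have : iT i g T ≫ PicF.XTproj g T = PicF.XTproj (i ≫ g) T := iT_snd i g T
  rw [this]
  exact hI

omit [IsClosedImmersion i] in
/-- for a closed immersion `c` and `c.ker ≤ J`, `V(J.comap c) ≅ V(J)` compatibly. -/
theorem exists_iso_comap_of_ker_le {V W : Scheme.{u}} (c : V ⟶ W) [IsClosedImmersion c]
    (J : W.IdealSheafData) (h : c.ker ≤ J) :
    ∃ e : (J.comap c).subscheme ≅ J.subscheme,
      (J.comap c).subschemeι ≫ c = e.hom ≫ J.subschemeι := by
  have hJ : c.ker ≤ J.subschemeι.ker := by rwa [Scheme.IdealSheafData.ker_subschemeι]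
  obtain ⟨ℓ, hfac⟩ : ∃ ℓ, ℓ ≫ c = J.subschemeι := ⟨_, IsClosedImmersion.lift_fac _ _ hJ⟩
  have hiso : IsIso (pullback.snd c J.subschemeι) := by
    rw [← hfac]; infer_instance
  refine ⟨J.comapIso c ≪≫ asIso (pullback.snd c J.subschemeι), ?_⟩
  rw [Iso.trans_hom, asIso_hom, Category.assoc, ← pullback.condition,
    Scheme.IdealSheafData.comapIso_hom_fst_assoc]

omit [IsClosedImmersion i] in
theorem map_comap_of_ker_le {V W : Scheme.{u}} (c : V ⟶ W) [IsClosedImmersion c]
    (J : W.IdealSheafData) (h : c.ker ≤ J) : (J.comap c).map c = J := by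
  obtain ⟨e, he⟩ := exists_iso_comap_of_ker_le c J h
  rw [Scheme.IdealSheafData.map, he, Scheme.Hom.ker_comp_of_isIso,
    Scheme.IdealSheafData.ker_subschemeι]

theorem push_comap_iT (T : Over S) (J : (PicF.XT g T).IdealSheafData)
    (hle : (iT i g T).ker ≤ J) : HilbD.push i g T (J.comap (iT i g T)) = J :=
  map_comap_of_ker_le (iT i g T) J hle

theorem isFinLocFreeOfDeg_comap_iT {d : ℕ} (T : Over S) (J : (PicF.XT g T).IdealSheafData)
    (hle : (iT i g T).ker ≤ J) (hJ : Mor2.IsFinLocFreeOfDeg d (J.subschemeι ≫ PicF.XTproj g T)) :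
    Mor2.IsFinLocFreeOfDeg d ((J.comap (iT i g T)).subschemeι ≫ PicF.XTproj (i ≫ g) T) := by
  obtain ⟨e, he⟩ := exists_iso_comap_of_ker_le (iT i g T) J hle
  have h1 : (J.comap (iT i g T)).subschemeι ≫ PicF.XTproj (i ≫ g) T =
      e.hom ≫ J.subschemeι ≫ PicF.XTproj g T := by
    rw [← reassoc_of% he]
    congr 1
    exact (iT_snd i g T).symm
  rw [h1]
  exact isFinLocFreeOfDeg_iso_comp _ _ hJ

omit [IsClosedImmersion i] in
/-- general form of `comap_fst_eq_iff` (inequalities, arbitrary `τ : T ⟶ B`). -/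
theorem comap_fst_le_iff {B T : Over S} (τ : T ⟶ B) (I₁ I₂ : (PicF.XT g B).IdealSheafData) :
    I₁.comap (pullback.fst (pullback.snd g B.hom) τ.left) ≤
        I₂.comap (pullback.fst (pullback.snd g B.hom) τ.left) ↔
      HilbD.pull g τ I₁ ≤ HilbD.pull g τ I₂ := by
  have key : ∀ J : (PicF.XT g B).IdealSheafData,
      (J.comap (pullback.fst (pullback.snd g B.hom) τ.left)).comap
        (isPullback_XTmap g τ).isoPullback.hom = HilbD.pull g τ J := fun J => by
    rw [← Scheme.IdealSheafData.comap_comp, IsPullback.isoPullback_hom_fst, pull_eq_comap]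
  constructor
  · intro h
    rw [← key, ← key]
    exact Scheme.IdealSheafData.comap_mono _ h
  · intro h
    rw [← key, ← key] at h
    have := Scheme.IdealSheafData.comap_mono (isPullback_XTmap g τ).isoPullback.inv h
    simpa only [← Scheme.IdealSheafData.comap_comp, Iso.inv_hom_id_assoc] using this

theorem pull_ker_iT {T T' : Over S} (t : T' ⟶ T) :
    HilbD.pull g t (iT i g T).ker = (iT i g T').ker := by
  rw [pull_eq_comap]
  exact ker_comap_of_isPullback _ _ _ _ (isPullback_XTmap_iT i g t)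

/-- The Hilbert functor of a closed subscheme is represented by a closed subscheme of the Hilbert
scheme. -/
theorem exists_universal_sub (d : ℕ) (H : Over S) (Z : HilbD.Obj g d H)
    (hZ : HilbD.IsUniversal g d H Z) :
    ∃ (H' : Over S) (ι' : H' ⟶ H) (Z' : HilbD.Obj (i ≫ g) d H'),
      IsClosedImmersion ι'.left ∧ HilbD.IsUniversal (i ≫ g) d H' Z' ∧
      HilbD.pull g ι' Z.1 = HilbD.push i g H' Z'.1 := by
  obtain ⟨⟨a1, a2, a3⟩, -⟩ := Z.2
  obtain ⟨𝓩, h𝓩⟩ := Groth.Agent.Lib.ClosedCond27.exists_idealSheaf_comap_le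
    (pullback.snd g H.hom) (iT i g H).ker Z.1
  have key : ∀ (T : Over S) (τ : T ⟶ H),
      𝓩 ≤ τ.left.ker ↔ (iT i g T).ker ≤ HilbD.pull g τ Z.1 := fun T τ => by
    rw [h𝓩, comap_fst_le_iff, pull_ker_iT]
  let H' : Over S := Over.mk (𝓩.subschemeι ≫ H.hom)
  let ι' : H' ⟶ H := Over.homMk 𝓩.subschemeι rfl
  have hmono : Mono ι' := by
    have : Mono ((Over.forget S).map ι') := by
      change Mono 𝓩.subschemeι
      infer_instance
    exact (Over.forget S).mono_of_mono_map this
  have hle : (iT i g H').ker ≤ HilbD.pull g ι' Z.1 := by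
    rw [← key]
    change 𝓩 ≤ 𝓩.subschemeι.ker
    rw [Scheme.IdealSheafData.ker_subschemeι]
  let Z' : HilbD.Obj (i ≫ g) d H' := ⟨(HilbD.pull g ι' Z.1).comap (iT i g H'),
    isFinLocFreeOfDeg_comap_iT i g H' _ hle (isFinLocFreeOfDeg_pull g ι' Z.1 Z.2)⟩
  have hpush : HilbD.pull g ι' Z.1 = HilbD.push i g H' Z'.1 := (push_comap_iT i g H' _ hle).symm
  refine ⟨H', ι', Z', ?_, ?_, hpush⟩
  · change IsClosedImmersion 𝓩.subschemeι
    infer_instance
  · intro T W
    obtain ⟨τ, hτ, huniq⟩ := hZ T ⟨HilbD.push i g T W.1, isFinLocFreeOfDeg_push i g T W.1 W.2⟩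
    have hτ' : HilbD.pull g τ Z.1 = HilbD.push i g T W.1 := hτ
    have h1 : 𝓩 ≤ τ.left.ker := by
      rw [key, hτ']
      exact ker_iT_le_push i g T W.1
    have h1' : 𝓩.subschemeι.ker ≤ τ.left.ker := by
      rwa [Scheme.IdealSheafData.ker_subschemeι]
    have hfac : IsClosedImmersion.lift 𝓩.subschemeι τ.left h1' ≫ 𝓩.subschemeι = τ.left :=
      IsClosedImmersion.lift_fac _ _ _
    let t' : T ⟶ H' := Over.homMk (IsClosedImmersion.lift 𝓩.subschemeι τ.left h1') (by
      change _ ≫ 𝓩.subschemeι ≫ H.hom = _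
      rw [reassoc_of% hfac, Over.w τ])
    have ht' : t' ≫ ι' = τ := by
      ext
      exact hfac
    refine ⟨t', ?_, ?_⟩
    · apply push_injective i g T
      rw [← pull_push, ← hpush, ← pull_comp, ht', hτ']
    · intro t2 ht2
      have ht3 : HilbD.pull (i ≫ g) t2 Z'.1 = W.1 := ht2
      rw [← cancel_mono ι', ht']
      apply huniq
      change HilbD.pull g (t2 ≫ ι') Z.1 = HilbD.push i g T W.1
      rw [pull_comp, hpush, pull_push, ht3]

end Groth.Agent.Lib.HilbD27
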