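import Mathlib
import Groth.Agent.Lib.HilbSerre99
import Groth.Agent.Lib.HilbDiff99
import Groth.Agent.Lib.H78PlanePoints

/-!
# The Hilbert polynomial of `k[X₁..X_d]/I`, `I ≠ 0`, has degree `< d - 1` (helper99)
-/

set_option autoImplicit false
universe u

namespace Groth.Agent.Lib.HilbDeg99

open Polynomial Finset Filter

section evpoly

/-- `0 ≤ P(n) ≤ Q(n)` for `n ≫ 0` implies `deg P ≤ deg Q` (copied from helper25's `Lib/EvPoly`). -/
theorem natDegree_le_of_eventually_le (P Q : ℚ[X])
    (h0 : ∀ᶠ n : ℕ in atTop, 0 ≤ P.eval (n : ℚ))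
    (h : ∀ᶠ n : ℕ in atTop, P.eval (n : ℚ) ≤ Q.eval (n : ℚ)) : P.natDegree ≤ Q.natDegree := by
  by_contra hlt
  push Not at hlt
  have hPpos : 0 < P.natDegree := by omega
  have hPdeg : 0 < P.degree := natDegree_pos_iff_degree_pos.mp hPpos
  have hnat : Tendsto (fun n : ℕ => (n : ℚ)) atTop atTop := tendsto_natCast_atTop_atTop
  rcases lt_trichotomy P.leadingCoeff 0 with hneg | hzero | hpos
  · have := (P.tendsto_atBot_of_leadingCoeff_nonpos hPdeg hneg.le).comp hnat
    have h1 := (this.eventually (eventually_lt_atBot 0)).and h0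
    obtain ⟨n, hn1, hn2⟩ := h1.exists
    exact absurd hn2 (not_le.mpr hn1)
  · rw [leadingCoeff_eq_zero] at hzero
    rw [hzero] at hPpos
    simp at hPpos
  · have hdlt : Q.degree < P.degree := degree_lt_degree hlt
    have hD : (P - Q).degree = P.degree := degree_sub_eq_left_of_degree_lt hdlt
    have hlc : (P - Q).leadingCoeff = P.leadingCoeff := leadingCoeff_sub_of_degree_lt hdlt
    have := ((P - Q).tendsto_atTop_of_leadingCoeff_nonneg (hD ▸ hPdeg) (hlc ▸ hpos.le)).comp hnat
    have h1 := (this.eventually (eventually_gt_atTop 0)).and h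
    obtain ⟨n, hn1, hn2⟩ := h1.exists
    simp only [Function.comp, eval_sub] at hn1
    linarith

end evpoly

section bp

/-- the polynomial `C(X + r, r)` -/
noncomputable def bp (r : ℕ) : ℚ[X] :=
  C ((r.factorial : ℚ)⁻¹) * (ascPochhammer ℚ r).comp (X + 1)

lemma eval_bp (r n : ℕ) : (bp r).eval (n : ℚ) = ((n + r).choose r : ℚ) := by
  have hne : (r.factorial : ℚ) ≠ 0 := by exact_mod_cast Nat.factorial_ne_zero r
  unfold bp
  rw [eval_mul, eval_C, eval_comp, eval_add, eval_X, eval_one]
  have h1 : ((n : ℚ) + 1) = ((n + 1 : ℕ) : ℚ) := by push_cast; ring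
  rw [h1, ← ascPochhammer_eval_cast, ascPochhammer_nat_eq_ascFactorial,
    Nat.ascFactorial_eq_factorial_mul_choose]
  push_cast
  field_simp

lemma natDegree_bp_le (r : ℕ) : (bp r).natDegree ≤ r := by
  unfold bp
  refine (natDegree_C_mul_le _ _).trans ?_
  refine natDegree_comp_le.trans ?_
  rw [ascPochhammer_natDegree]
  have : (X + 1 : ℚ[X]).natDegree ≤ 1 := by
    have := natDegree_X_add_C (1 : ℚ)
    rw [map_one] at this
    rw [this]
  calc r * (X + 1 : ℚ[X]).natDegree ≤ r * 1 := Nat.mul_le_mul_left r this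
    _ = r := Nat.mul_one r

/-- `bp r - bp r (X - e)` has degree `≤ r - 1` -/
lemma natDegree_bp_sub_le (r e : ℕ) (he : 0 < e) :
    ((bp r) - (bp r).comp (X - C (e : ℚ))).natDegree ≤ r - 1 := by
  by_cases h : 1 ≤ (bp r).natDegree
  · obtain ⟨h1, -⟩ := Groth.Agent.Lib.HilbDiff99.natDegree_sub_comp (bp r) e he h
    have := natDegree_bp_le r
    omega
  · have h0 : (bp r).natDegree = 0 := by omega
    rw [natDegree_eq_zero] at h0
    obtain ⟨c, hc⟩ := h0
    rw [← hc, C_comp, sub_self, natDegree_zero]
    exact Nat.zero_le _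

end bp

section quot

open MvPolynomial Groth.Agent.Lib.HilbSerre99

attribute [local instance] MvPolynomial.gradedAlgebra

variable {k : Type u} [Field k] {d : ℕ}

/-- a homogeneous ideal is the sup of its graded pieces -/
lemma le_iSup_inf (J : Ideal (MvPolynomial (Fin d) k))
    (hJ : J.IsHomogeneous (homogeneousSubmodule (Fin d) k)) :
    J.restrictScalars k ≤ ⨆ l, J.restrictScalars k ⊓ homogeneousSubmodule (Fin d) k l := by
  intro a ha
  classical
  rw [← DirectSum.sum_support_decompose (homogeneousSubmodule (Fin d) k) a]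
  refine Submodule.sum_mem _ fun i _ => ?_
  exact (le_iSup (fun l => J.restrictScalars k ⊓ homogeneousSubmodule (Fin d) k l) i)
    ⟨hJ i ha, SetLike.coe_mem _⟩

/-- rank–nullity for the graded pieces of the quotient -/
lemma finrank_map_mkQ (J : Ideal (MvPolynomial (Fin d) k)) (n : ℕ) :
    Module.finrank k ((homogeneousSubmodule (Fin d) k n).map
        ((Submodule.mkQ J).restrictScalars k)) +
      Module.finrank k ↥(J.restrictScalars k ⊓ homogeneousSubmodule (Fin d) k n) =
    Module.finrank k (homogeneousSubmodule (Fin d) k n) := by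
  have : FiniteDimensional k (homogeneousSubmodule (Fin d) k n) :=
    Groth.Agent.Lib.HilbDiff99.finite_homog n
  set π : MvPolynomial (Fin d) k →ₗ[k] (MvPolynomial (Fin d) k ⧸ J) :=
    (Submodule.mkQ J).restrictScalars k with hπ
  have h1 := LinearMap.finrank_range_add_finrank_ker
    (π.domRestrict (homogeneousSubmodule (Fin d) k n))
  rw [LinearMap.range_domRestrict, LinearMap.ker_domRestrict] at h1
  have hker : LinearMap.ker π = J.restrictScalars k := by
    rw [hπ, LinearMap.ker_restrictScalars, Submodule.ker_mkQ]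
  have h2 : (LinearMap.ker π).comap (homogeneousSubmodule (Fin d) k n).subtype =
      (J.restrictScalars k ⊓ homogeneousSubmodule (Fin d) k n).comap
        (homogeneousSubmodule (Fin d) k n).subtype := by
    rw [hker, Submodule.comap_inf, Submodule.comap_subtype_self, inf_top_eq]
  rw [h2, (Submodule.comapSubtypeEquivOfLe (inf_le_right :
    J.restrictScalars k ⊓ homogeneousSubmodule (Fin d) k n ≤ _)).finrank_eq] at h1
  exact h1

theorem hilb_quot (J : Ideal (MvPolynomial (Fin d) k))
    (hJ : J.IsHomogeneous (homogeneousSubmodule (Fin d) k)) :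
    ∃ c : ℕ → ℤ, ∃ N : ℕ, ∀ n, N ≤ n →
      ((Module.finrank k (homogeneousSubmodule (Fin d) k n) : ℤ) -
        Module.finrank k ↥(J.restrictScalars k ⊓ homogeneousSubmodule (Fin d) k n)) =
      ∑ i ∈ Finset.range d, c i * ((n + i).choose i : ℤ) := by
  classical
  set π : MvPolynomial (Fin d) k →ₗ[k] (MvPolynomial (Fin d) k ⧸ J) :=
    (Submodule.mkQ J).restrictScalars k with hπ
  have hint := DirectSum.Decomposition.isInternal (homogeneousSubmodule (Fin d) k)
  have hker : LinearMap.ker π = ⨆ l, J.restrictScalars k ⊓ homogeneousSubmodule (Fin d) k l := by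
    apply le_antisymm
    · rw [hπ, LinearMap.ker_restrictScalars, Submodule.ker_mkQ]
      exact le_iSup_inf J hJ
    · rw [hπ, LinearMap.ker_restrictScalars, Submodule.ker_mkQ]
      exact iSup_le fun l => inf_le_left
  have hind := indep_map_of_ker_eq (homogeneousSubmodule (Fin d) k) hint.submodule_iSupIndep
    (fun l => J.restrictScalars k ⊓ homogeneousSubmodule (Fin d) k l) (fun l => inf_le_right)
    π hker
  have hsup : ⨆ i, (homogeneousSubmodule (Fin d) k i).map π = ⊤ := by
    rw [← Submodule.map_iSup, hint.submodule_iSup_eq_top, Submodule.map_top,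
      LinearMap.range_eq_top]
    exact Submodule.mkQ_surjective J
  obtain ⟨hfin, c, N, hc⟩ := claim (A₀ := k) d le_rfl (MvPolynomial (Fin d) k ⧸ J)
    (fun i => (homogeneousSubmodule (Fin d) k i).map π)
    (fun j i m hm => by
      obtain ⟨s, hs, rfl⟩ := hm
      refine ⟨X j * s, ?_, rfl⟩
      have h1 : (X j * s).IsHomogeneous (1 + i) := (isHomogeneous_X k j).mul hs
      rw [Nat.add_comm] at h1
      exact h1)
    hind hsup (fun j hj => absurd j.2 (by omega))
  refine ⟨c, N, fun n hn => ?_⟩
  have h1 := hc n hn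
  have hfd : FiniteDimensional k ((homogeneousSubmodule (Fin d) k n).map π) := by
    have : FiniteDimensional k (homogeneousSubmodule (Fin d) k n) :=
      Groth.Agent.Lib.HilbDiff99.finite_homog n
    infer_instance
  beta_reduce at h1
  rw [Module.length_eq_finrank, ENat.toNat_natCast] at h1
  rw [← h1]
  have h2 := finrank_map_mkQ J n
  rw [← h2]
  push_cast
  ring

end quot

section final

attribute [local instance] MvPolynomial.gradedAlgebra

variable {k : Type u} [Field k]

lemma finrank_homog_eq (d n : ℕ) (hd : 0 < d) :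
    Module.finrank k (MvPolynomial.homogeneousSubmodule (Fin d) k n) = (n + (d - 1)).choose (d - 1) := by
  classical
  rw [Groth.Agent.Lib.H78PlanePoints.finrank_homogeneousSubmodule k (Fin d) n, Fintype.card_fin]
  have : d + n - 1 = n + (d - 1) := by omega
  rw [this, Nat.choose_symm_add]

theorem hilb_deg (d : ℕ) (hd : 0 < d)
    (I : HomogeneousIdeal (MvPolynomial.homogeneousSubmodule (Fin d) k)) (hI : I ≠ ⊥) :
    ∃ P : Polynomial ℚ, P.degree < ((d - 1 : ℕ) : WithBot ℕ) ∧ ∃ N : ℕ, ∀ n : ℕ, N ≤ n →
      ((Module.finrank k ↥(MvPolynomial.homogeneousSubmodule (Fin d) k n) : ℚ) -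
        (Module.finrank k ↥(I.toIdeal.restrictScalars k ⊓
          MvPolynomial.homogeneousSubmodule (Fin d) k n) : ℚ)) = P.eval (n : ℚ) := by
  classical
  set J := I.toIdeal with hJdef
  have hJ : J.IsHomogeneous (MvPolynomial.homogeneousSubmodule (Fin d) k) := I.isHomogeneous
  -- a nonzero homogeneous element of positive degree in `J`
  have hJne : J ≠ ⊥ := by
    intro h
    apply hI
    apply HomogeneousIdeal.toIdeal_injective
    rw [← hJdef, h]
    rfl
  obtain ⟨a, haJ, ha0⟩ := Submodule.exists_mem_ne_zero_of_ne_bot hJne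
  obtain ⟨i, hi⟩ : ∃ i, (DirectSum.decompose (MvPolynomial.homogeneousSubmodule (Fin d) k) a i :
      MvPolynomial (Fin d) k) ≠ 0 := by
    by_contra hcon
    push Not at hcon
    apply ha0
    rw [← DirectSum.sum_support_decompose (MvPolynomial.homogeneousSubmodule (Fin d) k) a]
    exact Finset.sum_eq_zero fun i _ => hcon i
  set ai : MvPolynomial (Fin d) k :=
    (DirectSum.decompose (MvPolynomial.homogeneousSubmodule (Fin d) k) a i : MvPolynomial (Fin d) k) with hai
  have haiJ : ai ∈ J := hJ i haJ
  have haih : ai.IsHomogeneous i :=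
    (DirectSum.decompose (MvPolynomial.homogeneousSubmodule (Fin d) k) a i).2
  set f : MvPolynomial (Fin d) k := MvPolynomial.X ⟨0, hd⟩ * ai with hf
  set e := 1 + i with he
  have hfJ : f ∈ J := J.mul_mem_left _ haiJ
  have hfh : f.IsHomogeneous e := (MvPolynomial.isHomogeneous_X k _).mul haih
  have hf0 : f ≠ 0 := mul_ne_zero (MvPolynomial.X_ne_zero _) hi
  -- the bound
  have hbound : ∀ n, e ≤ n → Module.finrank k (MvPolynomial.homogeneousSubmodule (Fin d) k (n - e)) ≤
      Module.finrank k ↥(J.restrictScalars k ⊓ MvPolynomial.homogeneousSubmodule (Fin d) k n) := by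
    intro n hn
    let μ : MvPolynomial (Fin d) k →ₗ[k] MvPolynomial (Fin d) k := LinearMap.mulLeft k f
    have hμ : Function.Injective μ := mul_right_injective₀ hf0
    have hle : (MvPolynomial.homogeneousSubmodule (Fin d) k (n - e)).map μ ≤
        J.restrictScalars k ⊓ MvPolynomial.homogeneousSubmodule (Fin d) k n := by
      rintro _ ⟨b, hb, rfl⟩
      refine ⟨J.mul_mem_right b hfJ, ?_⟩
      have h1 : (f * b).IsHomogeneous (e + (n - e)) := hfh.mul hb
      rw [Nat.add_sub_cancel' hn] at h1
      exact h1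
    have : FiniteDimensional k (MvPolynomial.homogeneousSubmodule (Fin d) k n) :=
      Groth.Agent.Lib.HilbDiff99.finite_homog n
    have : FiniteDimensional k ↥(J.restrictScalars k ⊓ MvPolynomial.homogeneousSubmodule (Fin d) k n) :=
      Submodule.finiteDimensional_of_le inf_le_right
    rw [(Submodule.equivMapOfInjective μ hμ (MvPolynomial.homogeneousSubmodule (Fin d) k (n - e))).finrank_eq]
    exact Submodule.finrank_mono hle
  obtain ⟨c, N, hc⟩ := hilb_quot J hJ
  set r := d - 1 with hr
  let P : ℚ[X] := ∑ j ∈ Finset.range d, C (c j : ℚ) * bp j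
  have hPeval : ∀ n, N ≤ n → P.eval (n : ℚ) =
      (Module.finrank k ↥(MvPolynomial.homogeneousSubmodule (Fin d) k n) : ℚ) -
        (Module.finrank k ↥(J.restrictScalars k ⊓ MvPolynomial.homogeneousSubmodule (Fin d) k n) : ℚ) := by
    intro n hn
    have h1 := hc n hn
    have h2 : ((Module.finrank k ↥(MvPolynomial.homogeneousSubmodule (Fin d) k n) : ℚ) -
        (Module.finrank k ↥(J.restrictScalars k ⊓ MvPolynomial.homogeneousSubmodule (Fin d) k n) : ℚ)) =
        ((∑ j ∈ Finset.range d, c j * ((n + j).choose j : ℤ) : ℤ) : ℚ) := by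
      rw [← h1]
      push_cast
      ring
    rw [h2]
    show (∑ j ∈ Finset.range d, C (c j : ℚ) * bp j).eval (n : ℚ) = _
    rw [eval_finsetSum]
    push_cast
    apply Finset.sum_congr rfl
    intro j _
    rw [eval_mul, eval_C, eval_bp]
  let Q : ℚ[X] := bp r - (bp r).comp (X - C (e : ℚ))
  have hQeval : ∀ n, e ≤ n → Q.eval (n : ℚ) =
      (Module.finrank k ↥(MvPolynomial.homogeneousSubmodule (Fin d) k n) : ℚ) -
        (Module.finrank k ↥(MvPolynomial.homogeneousSubmodule (Fin d) k (n - e)) : ℚ) := by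
    intro n hn
    show (bp r - (bp r).comp (X - C (e : ℚ))).eval (n : ℚ) = _
    rw [eval_sub, eval_comp, eval_sub, eval_X, eval_C]
    have e1 : ((n : ℚ) - (e : ℚ)) = ((n - e : ℕ) : ℚ) := by rw [Nat.cast_sub hn]
    rw [e1, eval_bp, eval_bp, finrank_homog_eq d n hd, finrank_homog_eq d (n - e) hd]
  have hP0 : ∀ n, N ≤ n → 0 ≤ P.eval (n : ℚ) := by
    intro n hn
    rw [hPeval n hn, sub_nonneg]
    have : FiniteDimensional k (MvPolynomial.homogeneousSubmodule (Fin d) k n) :=
      Groth.Agent.Lib.HilbDiff99.finite_homog n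
    exact_mod_cast Submodule.finrank_mono (inf_le_right :
      J.restrictScalars k ⊓ MvPolynomial.homogeneousSubmodule (Fin d) k n ≤ _)
  have hPQ : ∀ n, max N e ≤ n → P.eval (n : ℚ) ≤ Q.eval (n : ℚ) := by
    intro n hn
    rw [hPeval n (by omega), hQeval n (by omega)]
    have := hbound n (by omega)
    have h' : (Module.finrank k (MvPolynomial.homogeneousSubmodule (Fin d) k (n - e)) : ℚ) ≤
        Module.finrank k ↥(J.restrictScalars k ⊓ MvPolynomial.homogeneousSubmodule (Fin d) k n) := by
      exact_mod_cast this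
    linarith
  have hQdeg : Q.natDegree ≤ r - 1 := natDegree_bp_sub_le r e (by omega)
  refine ⟨P, ?_, N, fun n hn => (hPeval n hn).symm⟩
  by_cases hd1 : d = 1
  · -- `P = 0`
    have hr0 : r = 0 := by omega
    have hQ0 : Q = 0 := by
      have h1 : (bp r).natDegree = 0 := by
        have := natDegree_bp_le r
        omega
      rw [natDegree_eq_zero] at h1
      obtain ⟨c0, hc0⟩ := h1
      show bp r - (bp r).comp (X - C (e : ℚ)) = 0
      rw [← hc0, C_comp, sub_self]
    have hPz : P = 0 := by
      apply Polynomial.eq_of_infinite_eval_eq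
      apply Set.infinite_of_injective_forall_mem (f := fun j : ℕ => ((j + max N e : ℕ) : ℚ))
      · intro a b hab
        have hab' : ((a + max N e : ℕ) : ℚ) = ((b + max N e : ℕ) : ℚ) := hab
        have : (a + max N e : ℕ) = b + max N e := by exact_mod_cast hab'
        omega
      · intro j
        have h1 := hPQ (j + max N e) (by omega)
        have h2 := hP0 (j + max N e) (by omega)
        rw [hQ0, eval_zero] at h1
        show P.eval _ = (0 : ℚ[X]).eval _
        rw [eval_zero]
        exact le_antisymm h1 h2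
    rw [hPz, degree_zero]
    exact WithBot.bot_lt_coe _
  · have hle : P.natDegree ≤ Q.natDegree := by
      apply natDegree_le_of_eventually_le
      · exact Filter.eventually_atTop.mpr ⟨N, hP0⟩
      · exact Filter.eventually_atTop.mpr ⟨max N e, hPQ⟩
    have h3 : P.natDegree < d - 1 := by omega
    exact lt_of_le_of_lt degree_le_natDegree (by exact_mod_cast h3)

end final

end Groth.Agent.Lib.HilbDeg99
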