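/-
helper7: Lib/HilbFilt7 — graded associated primes and Hilbert-function additivity for homogeneous
ideals of `k[X_0..X_n]` (`CohB1.polyGrading`): `isHomogeneous_colon`, `exists_colon_prime` (homogeneous
`x ∉ I` with `(I : x)` prime), `hf J m` (ℤ-valued Hilbert function), `finrank_sup_span'`/`hf_step`
(`hf I m = hf (I : f) (m - d) + hf (I + (f)) m`), `hf_mono`, `hf_nonneg`, `hf_top`.
-/
import Mathlib
import Groth.Agent.Lib.HilbDim7b
import Groth.Agent.S12212

set_option autoImplicit false
set_option linter.unusedSectionVars false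
set_option linter.style.haveILetI false

universe u

namespace Groth.Agent.Lib.HilbFilt7

open MvPolynomial

section Colon

variable {k : Type u} [Field k] {n : ℕ}

/-- the colon ideal `(I : x)` of a homogeneous ideal by a homogeneous element is homogeneous -/
theorem isHomogeneous_colon {I : Ideal (MvPolynomial (Fin (n + 1)) k)}
    (hI : I.IsHomogeneous (CohB1.polyGrading n k)) {x : MvPolynomial (Fin (n + 1)) k} {a : ℕ}
    (hx : x.IsHomogeneous a) :
    (I.colon {x}).IsHomogeneous (CohB1.polyGrading n k) := by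
  intro i r hr
  rw [Submodule.mem_colon_singleton] at hr ⊢
  have h1 := hI (i + a) hr
  rw [smul_eq_mul, DirectSum.coe_decompose_mul_add_of_right_mem (CohB1.polyGrading n k)
    (show x ∈ CohB1.polyGrading n k a from hx)] at h1
  exact h1

theorem le_colon (I : Ideal (MvPolynomial (Fin (n + 1)) k)) (x : MvPolynomial (Fin (n + 1)) k) :
    I ≤ I.colon {x} := by
  intro r hr
  rw [Submodule.mem_colon_singleton]
  exact I.mul_mem_right x hr

/-- graded associated prime: for a proper homogeneous ideal `I` there is a homogeneous `x ∉ I` with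
`(I : x)` prime. -/
theorem exists_colon_prime {I : Ideal (MvPolynomial (Fin (n + 1)) k)}
    (hI : I.IsHomogeneous (CohB1.polyGrading n k)) (hne : I ≠ ⊤) :
    ∃ (a : ℕ) (x : MvPolynomial (Fin (n + 1)) k), x.IsHomogeneous a ∧ x ∉ I ∧
      (I.colon {x}).IsPrime := by
  classical
  let Fam : Set (Ideal (MvPolynomial (Fin (n + 1)) k)) :=
    {J | ∃ (a : ℕ) (x : MvPolynomial (Fin (n + 1)) k), x.IsHomogeneous a ∧ x ∉ I ∧
      J = I.colon {x}}
  have hne' : Fam.Nonempty := by
    refine ⟨I.colon {1}, 0, 1, isHomogeneous_one _ _, ?_, rfl⟩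
    rwa [← Ideal.eq_top_iff_one]
  obtain ⟨J, ⟨a, x, hx, hxI, rfl⟩, hmax⟩ := set_has_maximal_iff_noetherian.mpr
    (inferInstance : IsNoetherian (MvPolynomial (Fin (n + 1)) k) (MvPolynomial (Fin (n + 1)) k)) Fam hne'
  refine ⟨a, x, hx, hxI, ?_⟩
  apply (isHomogeneous_colon hI hx).isPrime_of_homogeneous_mem_or_mem
  · intro h
    apply hxI
    have : (1 : MvPolynomial (Fin (n + 1)) k) ∈ I.colon {x} := by rw [h]; trivial
    rw [Submodule.mem_colon_singleton, one_smul] at this
    exact this
  · rintro b c ⟨i, hb⟩ ⟨j, hc⟩ hbc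
    by_contra hcon
    push Not at hcon
    obtain ⟨hb', hc'⟩ := hcon
    rw [Submodule.mem_colon_singleton, smul_eq_mul] at hb' hc' hbc
    -- `(I : b x) ⊇ (I : x)` and is in the family
    have hmem : I.colon {b * x} ∈ Fam :=
      ⟨i + a, b * x, IsHomogeneous.mul hb hx, hb', rfl⟩
    have hle : I.colon {x} ≤ I.colon {b * x} := by
      intro r hr
      rw [Submodule.mem_colon_singleton, smul_eq_mul] at hr ⊢
      have : r * (b * x) = b * (r * x) := by ring
      rw [this]
      exact I.mul_mem_left b hr
    have heq : I.colon {x} = I.colon {b * x} := by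
      by_contra hne2
      exact hmax _ hmem (lt_of_le_of_ne hle hne2)
    have hcmem : c ∈ I.colon {b * x} := by
      rw [Submodule.mem_colon_singleton, smul_eq_mul]
      have : c * (b * x) = b * c * x := by ring
      rw [this]
      exact hbc
    rw [← heq, Submodule.mem_colon_singleton, smul_eq_mul] at hcmem
    exact hc' hcmem

end Colon

section HF

variable {k : Type u} [Field k] {n : ℕ}

/-- the Hilbert function of `S/J` (integer valued) -/
noncomputable def hf (J : Ideal (MvPolynomial (Fin (n + 1)) k)) (m : ℕ) : ℤ :=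
  (Module.finrank k ↥(CohB1.polyGrading n k m) : ℤ) -
    Module.finrank k ↥(Submodule.restrictScalars k J ⊓ CohB1.polyGrading n k m)

theorem finite_piece (m : ℕ) : FiniteDimensional k ↥(CohB1.polyGrading n k m) :=
  Module.Finite.iff_fg.mpr (homogeneousSubmodule_fg (Fin (n + 1)) k m)

theorem hf_top (m : ℕ) : hf (⊤ : Ideal (MvPolynomial (Fin (n + 1)) k)) m = 0 := by
  unfold hf
  rw [Submodule.restrictScalars_top, top_inf_eq, sub_self]

theorem hf_nonneg (J : Ideal (MvPolynomial (Fin (n + 1)) k)) (m : ℕ) : 0 ≤ hf J m := by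
  unfold hf
  haveI := finite_piece (k := k) (n := n) m
  have := Submodule.finrank_mono (inf_le_right :
    Submodule.restrictScalars k J ⊓ CohB1.polyGrading n k m ≤ CohB1.polyGrading n k m)
  omega

/-- `dim (I + (f))_m + dim (I : f)_{m-d} = dim I_m + dim R_{m-d}` for `f ∉ I` homogeneous of degree
`d ≤ m` (generalizes helper99's `HilbDiff99.finrank_sup_span` from prime `I`). -/
theorem finrank_sup_span' (I : Ideal (MvPolynomial (Fin (n + 1)) k))
    (hIh : I.IsHomogeneous (CohB1.polyGrading n k))
    (f : MvPolynomial (Fin (n + 1)) k) (d : ℕ) (hf' : f.IsHomogeneous d) (hfI : f ∉ I) (m : ℕ)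
    (hm : d ≤ m) :
    Module.finrank k ↥(Submodule.restrictScalars k (I ⊔ Ideal.span {f}) ⊓
        CohB1.polyGrading n k m) +
      Module.finrank k ↥(Submodule.restrictScalars k (I.colon {f}) ⊓
        CohB1.polyGrading n k (m - d)) =
    Module.finrank k ↥(Submodule.restrictScalars k I ⊓ CohB1.polyGrading n k m) +
      Module.finrank k ↥(CohB1.polyGrading n k (m - d)) := by
  classical
  have hf0 : f ≠ 0 := fun h => hfI (h ▸ I.zero_mem)
  let μ : MvPolynomial (Fin (n + 1)) k →ₗ[k] MvPolynomial (Fin (n + 1)) k := LinearMap.mulLeft k f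
  have hμ : Function.Injective μ := mul_right_injective₀ hf0
  have hμmem : ∀ b ∈ CohB1.polyGrading n k (m - d), μ b ∈ CohB1.polyGrading n k m := by
    intro b hb
    have h1 : (f * b).IsHomogeneous (d + (m - d)) := hf'.mul hb
    rw [Nat.add_sub_cancel' hm] at h1
    exact h1
  set A := Submodule.restrictScalars k I ⊓ CohB1.polyGrading n k m with hA
  set B := (CohB1.polyGrading n k (m - d)).map μ with hB
  have claim1 : A ⊔ B = Submodule.restrictScalars k (I ⊔ Ideal.span {f}) ⊓
      CohB1.polyGrading n k m := by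
    apply le_antisymm
    · apply sup_le
      · exact inf_le_inf (fun y hy => Ideal.mem_sup_left hy) le_rfl
      · rintro _ ⟨b, hb, rfl⟩
        refine ⟨?_, hμmem b hb⟩
        exact Ideal.mem_sup_right (Ideal.mul_mem_right b _ (Ideal.mem_span_singleton_self f))
    · rintro y ⟨hy1, hy2⟩
      obtain ⟨a, ha, c, hc, rfl⟩ := Submodule.mem_sup.mp hy1
      obtain ⟨b, rfl⟩ := Ideal.mem_span_singleton'.mp hc
      have e1 : a + b * f =
          (DirectSum.decompose (CohB1.polyGrading n k) a m : MvPolynomial (Fin (n + 1)) k) +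
            f * (DirectSum.decompose (CohB1.polyGrading n k) b (m - d) :
              MvPolynomial (Fin (n + 1)) k) := by
        conv_lhs => rw [← DirectSum.decompose_of_mem_same (CohB1.polyGrading n k) hy2]
        rw [DirectSum.decompose_add, DirectSum.add_apply, Submodule.coe_add, mul_comm b f,
          DirectSum.coe_decompose_mul_of_left_mem_of_le (CohB1.polyGrading n k)
            (show f ∈ CohB1.polyGrading n k d from hf') hm]
      rw [e1]
      refine Submodule.add_mem_sup ⟨hIh m ha, SetLike.coe_mem _⟩ ?_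
      exact ⟨_, SetLike.coe_mem _, rfl⟩
  have claim2 : A ⊓ B =
      (Submodule.restrictScalars k (I.colon {f}) ⊓ CohB1.polyGrading n k (m - d)).map μ := by
    apply le_antisymm
    · rintro y ⟨⟨hy1, -⟩, ⟨b, hb, rfl⟩⟩
      have h1 : f * b ∈ I := hy1
      refine ⟨b, ⟨?_, hb⟩, rfl⟩
      show b ∈ I.colon {f}
      rw [Submodule.mem_colon_singleton, smul_eq_mul, mul_comm]
      exact h1
    · rintro _ ⟨b, ⟨hb1, hb2⟩, rfl⟩
      have hb1' : b ∈ I.colon {f} := hb1
      rw [Submodule.mem_colon_singleton, smul_eq_mul, mul_comm] at hb1'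
      exact ⟨⟨hb1', hμmem b hb2⟩, ⟨b, hb2, rfl⟩⟩
  have : FiniteDimensional k (CohB1.polyGrading n k m) := finite_piece m
  have : FiniteDimensional k (CohB1.polyGrading n k (m - d)) := finite_piece (m - d)
  have hAfin : FiniteDimensional k A := Submodule.finiteDimensional_of_le inf_le_right
  have eB := Submodule.equivMapOfInjective μ hμ (CohB1.polyGrading n k (m - d))
  have hBfin : FiniteDimensional k B := LinearEquiv.finiteDimensional eB
  have key := Submodule.finrank_sup_add_finrank_inf_eq A B
  rw [claim1, claim2] at key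
  have e2 := Submodule.equivMapOfInjective μ hμ
    (Submodule.restrictScalars k (I.colon {f}) ⊓ CohB1.polyGrading n k (m - d))
  rw [← e2.finrank_eq] at key
  rw [key, hB, ← eB.finrank_eq]

theorem hf_step (I : Ideal (MvPolynomial (Fin (n + 1)) k))
    (hIh : I.IsHomogeneous (CohB1.polyGrading n k))
    (f : MvPolynomial (Fin (n + 1)) k) (d : ℕ) (hf' : f.IsHomogeneous d) (hfI : f ∉ I) (m : ℕ)
    (hm : d ≤ m) :
    hf I m = hf (I.colon {f}) (m - d) + hf (I ⊔ Ideal.span {f}) m := by
  have := finrank_sup_span' I hIh f d hf' hfI m hm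
  unfold hf
  omega

theorem hf_mono {I J : Ideal (MvPolynomial (Fin (n + 1)) k)} (h : I ≤ J) (m : ℕ) :
    hf J m ≤ hf I m := by
  unfold hf
  haveI := finite_piece (k := k) (n := n) m
  haveI : FiniteDimensional k ↥(Submodule.restrictScalars k J ⊓ CohB1.polyGrading n k m) :=
    Submodule.finiteDimensional_of_le inf_le_right
  have := Submodule.finrank_mono (inf_le_inf_right (CohB1.polyGrading n k m)
    (show Submodule.restrictScalars k I ≤ Submodule.restrictScalars k J from h))
  omega

end HF

end Groth.Agent.Lib.HilbFilt7
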