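/-
helper7: Lib/HilbFilt7b — graded prime filtrations of `S/I` (`S = k[X_0..X_n]`, `I` homogeneous):
`IsFilt`, `exists_filt`, `exists_filt_fin` (primes `q j ⊇ I`, shifts `a j` with
`hf I m = ∑ j, hf (q j) (m - a j)` and `ll I p = ∑ j, ll (q j) p` for every prime `p`),
local lengths `ll J p` (`ll_step`, `ll_self`, `ll_eq_zero_of_not_le`, `ll_top`), and Hilbert polynomials
`IsHP J Q` (`IsHP.unique`, `exists_isHP`, `IsHP.dim` [degree = dim - 1], `IsHP.natDegree_le`,
`IsHP.coeff_eq_zero_of_lt`, `dim_mono`, `poly_eq_of_eventually`).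
Uses helper2's S12212 (`length_loc_add`, `isSimple_loc_quot`, `dim_succ_le`).
-/
import Mathlib
import Groth.Agent.Lib.HilbFilt7

set_option autoImplicit false
set_option linter.unusedSectionVars false
set_option linter.style.haveILetI false

universe u

namespace Groth.Agent.Lib.HilbFilt7

open MvPolynomial

section Filt

variable {k : Type u} [Field k] {n : ℕ}

/-- local length of `S/J` at the prime `p` -/
noncomputable def ll (J : Ideal (MvPolynomial (Fin (n + 1)) k))
    (p : PrimeSpectrum (MvPolynomial (Fin (n + 1)) k)) : ℕ∞ :=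
  Module.length (Localization.AtPrime p.asIdeal)
    (LocalizedModule p.asIdeal.primeCompl (MvPolynomial (Fin (n + 1)) k ⧸ J))

/-- graded prime filtration data for `S/I` -/
def IsFilt (I : Ideal (MvPolynomial (Fin (n + 1)) k))
    (L : List (Ideal (MvPolynomial (Fin (n + 1)) k) × ℕ)) : Prop :=
  (∀ e ∈ L, e.1.IsPrime ∧ e.1.IsHomogeneous (CohB1.polyGrading n k) ∧ I ≤ e.1) ∧
  (∀ m : ℕ, (∀ e ∈ L, e.2 ≤ m) → hf I m = (L.map fun e => hf e.1 (m - e.2)).sum) ∧
  (∀ p : PrimeSpectrum (MvPolynomial (Fin (n + 1)) k),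
    ll I p = (L.map fun e => ll e.1 p).sum)

theorem ll_top (p : PrimeSpectrum (MvPolynomial (Fin (n + 1)) k)) :
    ll (⊤ : Ideal (MvPolynomial (Fin (n + 1)) k)) p = 0 := by
  unfold ll
  haveI : Subsingleton (MvPolynomial (Fin (n + 1)) k ⧸ (⊤ : Ideal (MvPolynomial (Fin (n + 1)) k))) :=
    Ideal.Quotient.subsingleton_iff.mpr rfl
  exact Module.length_eq_zero

/-- the exact sequence `0 → S/(I : x) → S/I → S/(I + (x)) → 0` localized -/
theorem ll_step (I : Ideal (MvPolynomial (Fin (n + 1)) k)) (x : MvPolynomial (Fin (n + 1)) k)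
    (p : PrimeSpectrum (MvPolynomial (Fin (n + 1)) k)) :
    ll I p = ll (I.colon {x}) p + ll (I ⊔ Ideal.span {x}) p := by
  set q := I.colon {x} with hq
  set I' := I ⊔ Ideal.span {x} with hI'
  have hle : I ≤ I' := le_sup_left
  let f : (MvPolynomial (Fin (n + 1)) k ⧸ q) →ₗ[MvPolynomial (Fin (n + 1)) k]
      (MvPolynomial (Fin (n + 1)) k ⧸ I) :=
    Submodule.liftQ q ((Submodule.mkQ I).comp
      (LinearMap.toSpanSingleton (MvPolynomial (Fin (n + 1)) k) (MvPolynomial (Fin (n + 1)) k) x))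
      (by
        intro r hr
        rw [hq, Submodule.mem_colon_singleton] at hr
        rw [LinearMap.mem_ker, LinearMap.comp_apply, LinearMap.toSpanSingleton_apply,
          Submodule.mkQ_apply, Submodule.Quotient.mk_eq_zero]
        exact hr)
  let g : (MvPolynomial (Fin (n + 1)) k ⧸ I) →ₗ[MvPolynomial (Fin (n + 1)) k]
      (MvPolynomial (Fin (n + 1)) k ⧸ I') := Submodule.factor hle
  have hfmk : ∀ r : MvPolynomial (Fin (n + 1)) k,
      f (Submodule.Quotient.mk r) = Submodule.Quotient.mk (r • x) := fun r => rfl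
  have hgmk : ∀ r : MvPolynomial (Fin (n + 1)) k,
      g (Submodule.Quotient.mk r) = Submodule.Quotient.mk r := fun r => Submodule.factor_mk hle r
  have hf_inj : Function.Injective f := by
    rw [← LinearMap.ker_eq_bot, eq_bot_iff]
    intro y hy
    obtain ⟨r, rfl⟩ := Submodule.Quotient.mk_surjective _ y
    rw [LinearMap.mem_ker, hfmk, Submodule.Quotient.mk_eq_zero] at hy
    rw [Submodule.mem_bot, Submodule.Quotient.mk_eq_zero, hq, Submodule.mem_colon_singleton]
    exact hy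
  have hg_surj : Function.Surjective g := Submodule.factor_surjective hle
  have hex : Function.Exact f g := by
    intro y
    obtain ⟨r, rfl⟩ := Submodule.Quotient.mk_surjective _ y
    rw [hgmk, Submodule.Quotient.mk_eq_zero]
    constructor
    · intro hr
      obtain ⟨a, ha, c, hc, rfl⟩ := Submodule.mem_sup.mp hr
      obtain ⟨b, rfl⟩ := Ideal.mem_span_singleton'.mp hc
      refine ⟨Submodule.Quotient.mk b, ?_⟩
      rw [hfmk, Submodule.Quotient.eq]
      have : b • x - (a + b * x) = -a := by rw [smul_eq_mul]; ring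
      rw [this]
      exact I.neg_mem ha
    · rintro ⟨z, hz⟩
      obtain ⟨b, rfl⟩ := Submodule.Quotient.mk_surjective _ z
      rw [hfmk, Submodule.Quotient.eq] at hz
      have h1 : b • x ∈ I' :=
        Ideal.mem_sup_right (Ideal.mul_mem_left _ b (Ideal.mem_span_singleton_self x))
      have h2 : r = b • x - (b • x - r) := by ring
      rw [h2]
      exact I'.sub_mem h1 (hle hz)
  exact Groth.Agent.S12212.length_loc_add f g hf_inj hg_surj hex p

theorem exists_filt : ∀ I : Ideal (MvPolynomial (Fin (n + 1)) k),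
    I.IsHomogeneous (CohB1.polyGrading n k) → ∃ L, IsFilt I L := by
  intro I
  induction I using WellFoundedGT.induction with
  | ind I ih =>
    intro hIh
    by_cases hI : I = ⊤
    · subst hI
      refine ⟨[], ?_, ?_, ?_⟩
      · intro e he
        simp at he
      · intro m _
        simp [hf_top]
      · intro p
        simp [ll_top]
    · obtain ⟨a, x, hx, hxI, hprime⟩ := exists_colon_prime hIh hI
      have hlt : I < I ⊔ Ideal.span {x} := by
        refine lt_of_le_of_ne le_sup_left fun h => hxI ?_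
        rw [h]
        exact Ideal.mem_sup_right (Ideal.mem_span_singleton_self x)
      have hI'h : (I ⊔ Ideal.span {x}).IsHomogeneous (CohB1.polyGrading n k) := by
        refine hIh.sup (Ideal.homogeneous_span _ _ ?_)
        intro y hy
        rw [Set.mem_singleton_iff] at hy
        rw [hy]
        exact ⟨a, hx⟩
      obtain ⟨L', hL1, hL2, hL3⟩ := ih _ hlt hI'h
      refine ⟨(I.colon {x}, a) :: L', ?_, ?_, ?_⟩
      · intro e he
        rcases List.mem_cons.mp he with rfl | he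
        · exact ⟨hprime, isHomogeneous_colon hIh hx, le_colon I x⟩
        · obtain ⟨h1, h2, h3⟩ := hL1 e he
          exact ⟨h1, h2, le_trans le_sup_left h3⟩
      · intro m hm
        have ha : a ≤ m := hm (I.colon {x}, a) List.mem_cons_self
        rw [List.map_cons, List.sum_cons, hf_step I hIh x a hx hxI m ha,
          hL2 m (fun e he => hm e (List.mem_cons_of_mem _ he))]
      · intro p
        rw [List.map_cons, List.sum_cons, ll_step I x p, hL3 p]

theorem exists_filt_fin (I : Ideal (MvPolynomial (Fin (n + 1)) k))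
    (hIh : I.IsHomogeneous (CohB1.polyGrading n k)) :
    ∃ (s : ℕ) (q : Fin s → Ideal (MvPolynomial (Fin (n + 1)) k)) (a : Fin s → ℕ),
      (∀ j, (q j).IsPrime ∧ (q j).IsHomogeneous (CohB1.polyGrading n k) ∧ I ≤ q j) ∧
      (∀ m : ℕ, (∀ j, a j ≤ m) → hf I m = ∑ j, hf (q j) (m - a j)) ∧
      (∀ p : PrimeSpectrum (MvPolynomial (Fin (n + 1)) k), ll I p = ∑ j, ll (q j) p) := by
  obtain ⟨L, h1, h2, h3⟩ := exists_filt I hIh
  refine ⟨L.length, fun j => (L[j.1]).1, fun j => (L[j.1]).2, ?_, ?_, ?_⟩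
  · intro j
    exact h1 _ (List.getElem_mem j.2)
  · intro m hm
    rw [h2 m ?_]
    · exact (Fin.sum_univ_fun_getElem L (fun e => hf e.1 (m - e.2))).symm
    · intro e he
      obtain ⟨j, hj, rfl⟩ := List.getElem_of_mem he
      exact hm ⟨j, hj⟩
  · intro p
    rw [h3 p]
    exact (Fin.sum_univ_fun_getElem L (fun e => ll e.1 p)).symm

/-- local length of `S/q` at `q` is one -/
theorem ll_self (q : PrimeSpectrum (MvPolynomial (Fin (n + 1)) k)) : ll q.asIdeal q = 1 := by
  unfold ll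
  haveI := Groth.Agent.S12212.isSimple_loc_quot q
  exact Module.length_eq_one _ _

/-- local length of `S/q` at `p` is zero if `q ⊄ p` -/
theorem ll_eq_zero_of_not_le (q : Ideal (MvPolynomial (Fin (n + 1)) k))
    (p : PrimeSpectrum (MvPolynomial (Fin (n + 1)) k)) (h : ¬ q ≤ p.asIdeal) : ll q p = 0 := by
  unfold ll
  obtain ⟨s, hsq, hsp⟩ := Set.not_subset.mp h
  haveI : Subsingleton (LocalizedModule p.asIdeal.primeCompl (MvPolynomial (Fin (n + 1)) k ⧸ q)) := by
    rw [LocalizedModule.subsingleton_iff]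
    intro y
    refine ⟨s, hsp, ?_⟩
    obtain ⟨r, rfl⟩ := Ideal.Quotient.mk_surjective y
    have : s • (Ideal.Quotient.mk q) r = Ideal.Quotient.mk q (s * r) := rfl
    rw [this, Ideal.Quotient.eq_zero_iff_mem]
    exact q.mul_mem_right r hsq
  exact Module.length_eq_zero

end Filt

section HPoly

open Polynomial

variable {k : Type u} [Field k] {n : ℕ}

/-- two rational polynomials that agree at all large naturals are equal -/
theorem poly_eq_of_eventually {P Q : ℚ[X]} (N : ℕ)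
    (h : ∀ m : ℕ, N ≤ m → P.eval (m : ℚ) = Q.eval (m : ℚ)) : P = Q := by
  apply Polynomial.eq_of_infinite_eval_eq
  apply Set.infinite_of_injective_forall_mem (f := fun i : ℕ => ((i + N : ℕ) : ℚ))
  · intro a b hab
    have : ((a + N : ℕ) : ℚ) = ((b + N : ℕ) : ℚ) := hab
    have h2 : a + N = b + N := by exact_mod_cast this
    omega
  · intro i
    exact h (i + N) (by omega)

/-- `Q` is a Hilbert polynomial of `S/J` -/
def IsHP (J : Ideal (MvPolynomial (Fin (n + 1)) k)) (Q : ℚ[X]) : Prop :=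
  ∃ m₀ : ℕ, ∀ m : ℕ, m₀ ≤ m → Q.eval (m : ℚ) = (hf J m : ℚ)

theorem isHP_iff (J : Ideal (MvPolynomial (Fin (n + 1)) k)) (Q : ℚ[X]) :
    IsHP J Q ↔ ∃ m₀ : ℕ, ∀ m : ℕ, m₀ ≤ m → Q.eval (m : ℚ) =
      (Module.finrank k ↥(CohB1.polyGrading n k m) : ℚ) -
        Module.finrank k ↥(Submodule.restrictScalars k J ⊓ CohB1.polyGrading n k m) := by
  unfold IsHP hf
  constructor
  · rintro ⟨m₀, h⟩
    refine ⟨m₀, fun m hm => ?_⟩
    rw [h m hm]
    push_cast
    rfl
  · rintro ⟨m₀, h⟩
    refine ⟨m₀, fun m hm => ?_⟩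
    rw [h m hm]
    push_cast
    rfl

theorem IsHP.unique {J : Ideal (MvPolynomial (Fin (n + 1)) k)} {Q Q' : ℚ[X]}
    (h1 : IsHP J Q) (h2 : IsHP J Q') : Q = Q' := by
  obtain ⟨m₁, h1⟩ := h1
  obtain ⟨m₂, h2⟩ := h2
  apply poly_eq_of_eventually (max m₁ m₂)
  intro m hm
  rw [h1 m (le_trans (le_max_left _ _) hm), h2 m (le_trans (le_max_right _ _) hm)]

theorem isHP_top : IsHP (⊤ : Ideal (MvPolynomial (Fin (n + 1)) k)) 0 :=
  ⟨0, fun m _ => by rw [hf_top, Polynomial.eval_zero]; simp⟩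

theorem exists_isHP (J : Ideal (MvPolynomial (Fin (n + 1)) k))
    (hJ : J.IsHomogeneous (CohB1.polyGrading n k)) : ∃ Q, IsHP J Q := by
  by_cases hne : J = ⊤
  · subst hne
    exact ⟨0, isHP_top⟩
  · obtain ⟨d, Q, -, -, -, h⟩ := Groth.Agent.Lib.HilbDim7.hilbPoly_quotient J hJ hne
    exact ⟨Q, (isHP_iff J Q).mpr h⟩

theorem IsHP.dim {J : Ideal (MvPolynomial (Fin (n + 1)) k)} {Q : ℚ[X]} (h : IsHP J Q)
    (hJ : J.IsHomogeneous (CohB1.polyGrading n k)) (hne : J ≠ ⊤) :
    ∃ d : ℕ, ringKrullDim (MvPolynomial (Fin (n + 1)) k ⧸ J) = d ∧ (d = 0 → Q = 0) ∧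
      (1 ≤ d → Q.natDegree + 1 = d) := by
  obtain ⟨d, Q', hd, h0, h1, h'⟩ := Groth.Agent.Lib.HilbDim7.hilbPoly_quotient J hJ hne
  have : Q = Q' := h.unique ((isHP_iff J Q').mpr h')
  subst this
  exact ⟨d, hd, h0, h1⟩

theorem dim_mono {I J : Ideal (MvPolynomial (Fin (n + 1)) k)} (h : I ≤ J) :
    ringKrullDim (MvPolynomial (Fin (n + 1)) k ⧸ J) ≤ ringKrullDim (MvPolynomial (Fin (n + 1)) k ⧸ I) :=
  ringKrullDim_le_of_surjective (Ideal.Quotient.factor h) (Ideal.Quotient.factor_surjective h)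

theorem IsHP.natDegree_le {I J : Ideal (MvPolynomial (Fin (n + 1)) k)} {P Q : ℚ[X]}
    (hP : IsHP I P) (hQ : IsHP J Q)
    (hI : I.IsHomogeneous (CohB1.polyGrading n k)) (hJ : J.IsHomogeneous (CohB1.polyGrading n k))
    (hJne : J ≠ ⊤) (h : I ≤ J) : Q.natDegree ≤ P.natDegree := by
  have hIne : I ≠ ⊤ := fun h' => hJne (top_le_iff.mp (h' ▸ h))
  obtain ⟨dI, hdI, hI0, hI1⟩ := hP.dim hI hIne
  obtain ⟨dJ, hdJ, hJ0, hJ1⟩ := hQ.dim hJ hJne
  have hle : dJ ≤ dI := by
    have := dim_mono h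
    rw [hdI, hdJ] at this
    exact_mod_cast this
  rcases Nat.eq_zero_or_pos dJ with h0 | h0
  · rw [hJ0 h0]
    simp
  · have := hJ1 h0
    have := hI1 (le_trans h0 hle)
    omega

/-- the top coefficient of `P` vanishes on the Hilbert polynomial of a prime strictly containing a
prime containing `I` -/
theorem IsHP.coeff_eq_zero_of_lt {I q' q : Ideal (MvPolynomial (Fin (n + 1)) k)} {P Q : ℚ[X]}
    (hP : IsHP I P) (hQ : IsHP q Q)
    (hI : I.IsHomogeneous (CohB1.polyGrading n k)) (hq : q.IsHomogeneous (CohB1.polyGrading n k))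
    [hq'p : q'.IsPrime] [hqp : q.IsPrime] (hIq' : I ≤ q') (hlt : q' < q) :
    Q.coeff P.natDegree = 0 := by
  have hqne : q ≠ ⊤ := hqp.ne_top
  have hIne : I ≠ ⊤ := fun h' => hq'p.ne_top (top_le_iff.mp (h' ▸ hIq'))
  obtain ⟨dI, hdI, hI0, hI1⟩ := hP.dim hI hIne
  obtain ⟨dq, hdq, hq0, hq1⟩ := hQ.dim hq hqne
  have h1 := Groth.Agent.S12212.dim_succ_le q' q hlt
  have h2 := dim_mono hIq'
  have h3 : ((dq + 1 : ℕ) : WithBot ℕ∞) ≤ (dI : WithBot ℕ∞) := by
    rw [hdq] at h1
    rw [hdI] at h2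
    push_cast
    exact le_trans h1 h2
  have h4 : dq + 1 ≤ dI := by exact_mod_cast h3
  rcases Nat.eq_zero_or_pos dq with h0 | h0
  · rw [hq0 h0, Polynomial.coeff_zero]
  · apply coeff_eq_zero_of_natDegree_lt
    have := hq1 h0
    have := hI1 (by omega)
    omega

end HPoly

end Groth.Agent.Lib.HilbFilt7
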