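import Mathlib
import Groth.Prelude.Def_W4c1hilbpnTgt

/-!
# Graded pieces of `T(I) = Hom(I, S/I)` for monomial ideals and bounded components
(`Groth.Agent.Lib.HilbPn38`, helper38)

For a monomial ideal `I` of finite colength in `k[x_σ]` (`2 ≤ #σ`), the graded piece `tPiece I α` is
identified with the functions on the finite connected components of `region I α`
(`finrank_tPiece_eq_nBddComp`).
-/

set_option autoImplicit false
set_option linter.unusedSectionVars false
open MvPolynomial

namespace Groth.Agent.Lib.HilbPn38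

open W4c1hilbpn

variable {σ : Type*} [Fintype σ] [DecidableEq σ] {k : Type*} [Field k]

local notation "S" => MvPolynomial σ k

/-- the monomial `x^β` -/
noncomputable abbrev mono (β : σ →₀ ℕ) : MvPolynomial σ k := monomial β (1 : k)

/-- the natural vector of an integer vector (negative entries truncated) -/
noncomputable def natv (γ : σ → ℤ) : σ →₀ ℕ :=
  Finsupp.equivFunOnFinite.symm fun i => (γ i).toNat

@[simp] theorem natv_apply (γ : σ → ℤ) (i : σ) : natv γ i = (γ i).toNat := rfl

/-- `β + α` as an integer vector -/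
def addv (β : σ →₀ ℕ) (α : σ → ℤ) : σ → ℤ := fun i => (β i : ℤ) + α i

@[simp] theorem addv_apply (β : σ →₀ ℕ) (α : σ → ℤ) (i : σ) : addv β α i = (β i : ℤ) + α i := rfl

theorem natv_addv (β : σ →₀ ℕ) (α : σ → ℤ) : natv (addv β α) = shift β α := rfl

theorem natv_cast (β : σ →₀ ℕ) : natv (fun i => (β i : ℤ)) = β := by
  ext i; simp

section coeffFunctional

variable (I : Ideal (MvPolynomial σ k))

theorem coeff_eq_zero_of_mem (hI : IsMonomial I) {γ : σ →₀ ℕ} (hγ : γ ∉ exps I)
    {p : MvPolynomial σ k} (hp : p ∈ I) : coeff γ p = 0 := by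
  by_contra h
  exact hγ (hI p hp γ (mem_support_iff.2 h))

theorem le_ker_lcoeff (hI : IsMonomial I) {γ : σ →₀ ℕ} (hγ : γ ∉ exps I) :
    I.restrictScalars k ≤ LinearMap.ker (lcoeff k γ) := by
  intro p hp
  rw [LinearMap.mem_ker]
  exact coeff_eq_zero_of_mem I hI hγ hp

open Classical in
/-- the coefficient functional at `γ` on `S/I` (zero if `x^γ ∈ I`) -/
noncomputable def evQ (hI : IsMonomial I) (γ : σ →₀ ℕ) : (MvPolynomial σ k ⧸ I) →ₗ[k] k :=
  if hγ : γ ∉ exps I then
    (Submodule.liftQ (I.restrictScalars k) (lcoeff k γ) (le_ker_lcoeff I hI hγ)) ∘ₗ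
      (Submodule.Quotient.restrictScalarsEquiv k I).symm.toLinearMap
  else 0

theorem evQ_mk (hI : IsMonomial I) {γ : σ →₀ ℕ} (hγ : γ ∉ exps I) (p : MvPolynomial σ k) :
    evQ I hI γ (Ideal.Quotient.mk I p) = coeff γ p := by
  unfold evQ
  rw [dif_pos hγ]
  change (Submodule.liftQ (I.restrictScalars k) (lcoeff k γ) (le_ker_lcoeff I hI hγ))
    ((Submodule.Quotient.restrictScalarsEquiv k I).symm (Submodule.Quotient.mk p)) = _
  rw [Submodule.Quotient.restrictScalarsEquiv_symm_mk, Submodule.liftQ_apply]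
  rfl

theorem evQ_mono_self (hI : IsMonomial I) {γ : σ →₀ ℕ} (hγ : γ ∉ exps I) :
    evQ I hI γ (Ideal.Quotient.mk I (mono γ)) = 1 := by
  rw [evQ_mk I hI hγ, coeff_monomial, if_pos rfl]

theorem mk_mono_eq_zero {γ : σ →₀ ℕ} (hγ : γ ∈ exps I) :
    Ideal.Quotient.mk I (mono γ) = 0 :=
  Ideal.Quotient.eq_zero_iff_mem.2 hγ

end coeffFunctional


section finiteness

/-- Monomials outside a monomial ideal of finite colength: any injective family of them is finite
(same argument as in `Groth.Agent.S13441`). -/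
theorem finite_of_not_mem_exps (I : Ideal (MvPolynomial σ k))
    (hI : IsMonomial I) [Module.Finite k (MvPolynomial σ k ⧸ I)] {ι : Type*} (β : ι → (σ →₀ ℕ))
    (hβ : Function.Injective β) (hout : ∀ c, β c ∉ exps I) : Finite ι := by
  classical
  have hli : LinearIndependent k
      (fun c : ι => Ideal.Quotient.mk I (monomial (β c) (1 : k))) := by
    rw [linearIndependent_iff']
    intro s g hg c hc
    by_contra hne
    have hmem : (∑ c ∈ s, monomial (β c) (g c)) ∈ I := by
      rw [← Ideal.Quotient.eq_zero_iff_mem, map_sum, ← hg]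
      apply Finset.sum_congr rfl
      intro c' _
      change Ideal.Quotient.mkₐ k I _ = g c' • Ideal.Quotient.mkₐ k I _
      rw [← map_smul, smul_monomial, smul_eq_mul, mul_one]
    have hcoeff : coeff (β c) (∑ c ∈ s, monomial (β c) (g c)) = g c := by
      rw [coeff_sum, Finset.sum_eq_single c]
      · rw [coeff_monomial, if_pos rfl]
      · intro c' _ hc'
        rw [coeff_monomial, if_neg (fun h => hc' (hβ h))]
      · intro h; exact absurd hc h
    have hsupp : β c ∈ (∑ c ∈ s, monomial (β c) (g c)).support := by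
      rw [mem_support_iff, hcoeff]
      exact hne
    exact hout c (hI _ hmem _ hsupp)
  exact hli.finite_of_isNoetherian

end finiteness

section values

variable (I : Ideal (MvPolynomial σ k))

/-- all entries nonnegative -/
def nn (γ : σ → ℤ) : Prop := ∀ i, 0 ≤ γ i

theorem natv_injOn_nn {γ γ' : σ → ℤ} (h : nn γ) (h' : nn γ') (e : natv γ = natv γ') : γ = γ' := by
  funext i
  have := DFunLike.congr_fun e i
  rw [natv_apply, natv_apply] at this
  have h1 := h i
  have h2 := h' i
  omega

/-- the exponent `γ - α` (truncated) -/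
noncomputable def bOf (α γ : σ → ℤ) : σ →₀ ℕ := natv fun i => γ i - α i

theorem bOf_addv (α : σ → ℤ) (β : σ →₀ ℕ) : bOf α (addv β α) = β := by
  ext i
  simp [bOf]

open Classical in
/-- value of `φ` on the monomial `x^β` (`0` if `x^β ∉ I`), as a `k`-linear map in `φ` -/
noncomputable def valL (β : σ →₀ ℕ) : Tgt I →ₗ[k] (MvPolynomial σ k ⧸ I) :=
  if h : mono β ∈ I then
    { toFun := fun φ => φ ⟨mono β, h⟩
      map_add' := fun _ _ => rfl
      map_smul' := fun _ _ => rfl }
  else 0

theorem valL_apply {β : σ →₀ ℕ} (h : mono β ∈ I) (φ : Tgt I) :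
    valL I β φ = φ ⟨mono β, h⟩ := by
  unfold valL
  rw [dif_pos h]
  rfl

/-- the coefficient of `φ` at the lattice point `γ` -/
noncomputable def cfL (hI : IsMonomial I) (α γ : σ → ℤ) : Tgt I →ₗ[k] k :=
  evQ I hI (natv γ) ∘ₗ valL I (bOf α γ)

theorem cfL_addv (hI : IsMonomial I) (α : σ → ℤ) {β : σ →₀ ℕ} (h : mono β ∈ I) (φ : Tgt I) :
    cfL I hI α (addv β α) φ = evQ I hI (shift β α) (φ ⟨mono β, h⟩) := by
  unfold cfL
  rw [LinearMap.comp_apply, bOf_addv, valL_apply I h, natv_addv]

theorem tPiece_neg {α : σ → ℤ} {φ : Tgt I} (hφ : φ ∈ tPiece I α) {β : σ →₀ ℕ} (h : mono β ∈ I)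
    (hneg : ¬ nn (addv β α)) : φ ⟨mono β, h⟩ = 0 := by
  apply (hφ β h).2
  unfold nn at hneg
  push Not at hneg
  exact hneg

theorem tPiece_nn (hI : IsMonomial I) {α : σ → ℤ} {φ : Tgt I} (hφ : φ ∈ tPiece I α) {β : σ →₀ ℕ}
    (h : mono β ∈ I) (hnn : nn (addv β α)) :
    φ ⟨mono β, h⟩ = cfL I hI α (addv β α) φ • Ideal.Quotient.mk I (mono (shift β α)) := by
  obtain ⟨c, hc⟩ := Submodule.mem_span_singleton.1 ((hφ β h).1 hnn)
  rw [cfL_addv I hI α h, ← hc, map_smul]
  by_cases hs : shift β α ∈ exps I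
  · rw [mk_mono_eq_zero I hs, smul_zero, smul_zero]
  · rw [evQ_mono_self I hI hs, smul_eq_mul, mul_one]

end values


section step

variable (I : Ideal (MvPolynomial σ k))

theorem mono_add_single (β : σ →₀ ℕ) (i : σ) :
    (mono (β + Finsupp.single i 1) : MvPolynomial σ k) = X i * mono β := by
  unfold mono
  rw [X, monomial_mul, add_comm, one_mul]

theorem exps_add_single {β : σ →₀ ℕ} (h : β ∈ exps I) (i : σ) :
    β + Finsupp.single i 1 ∈ exps I := by
  change mono (β + Finsupp.single i 1) ∈ I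
  rw [mono_add_single]
  exact I.mul_mem_left _ h

theorem map_mono_add_single (φ : Tgt I) {β : σ →₀ ℕ} (h : mono β ∈ I) (i : σ)
    (h' : mono (β + Finsupp.single i 1) ∈ I) :
    φ ⟨mono (β + Finsupp.single i 1), h'⟩ = (X i : MvPolynomial σ k) • φ ⟨mono β, h⟩ := by
  rw [← map_smul]
  congr 1
  apply Subtype.ext
  change _ = X i * mono β
  exact mono_add_single β i

theorem addv_add_single (β : σ →₀ ℕ) (i : σ) (α : σ → ℤ) :
    addv (β + Finsupp.single i 1) α = addv β α + Pi.single i 1 := by
  funext j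
  by_cases hj : j = i
  · subst hj
    simp [addv]
    ring
  · simp [addv, hj]

theorem natv_add_single {γ : σ → ℤ} (hnn : nn γ) (i : σ) :
    natv (γ + Pi.single i 1) = natv γ + Finsupp.single i 1 := by
  ext j
  have := hnn j
  by_cases hj : j = i
  · subst hj
    simp
    omega
  · simp [hj]

theorem nn_add_single {γ : σ → ℤ} (hnn : nn γ) (i : σ) : nn (γ + Pi.single i 1) := by
  intro j
  have := hnn j
  by_cases hj : j = i
  · subst hj
    simp
    omega
  · simpa [Pi.single_apply, hj] using this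

theorem X_smul_mk_mono (γ : σ →₀ ℕ) (i : σ) :
    (X i : MvPolynomial σ k) • Ideal.Quotient.mk I (mono γ) =
      Ideal.Quotient.mk I (mono (γ + Finsupp.single i 1)) := by
  rw [mono_add_single, map_mul]
  rfl

variable (hI : IsMonomial I) {α : σ → ℤ}

theorem cfL_step_nn {φ : Tgt I} (hφ : φ ∈ tPiece I α) {β : σ →₀ ℕ} (h : β ∈ exps I) (i : σ)
    (hnn : nn (addv β α)) (hout : natv (addv β α + Pi.single i 1) ∉ exps I) :
    cfL I hI α (addv β α + Pi.single i 1) φ = cfL I hI α (addv β α) φ := by
  have h' : β + Finsupp.single i 1 ∈ exps I := exps_add_single I h i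
  have hnn' : nn (addv (β + Finsupp.single i 1) α) := by
    rw [addv_add_single]; exact nn_add_single hnn i
  have e1 := tPiece_nn I hI hφ h hnn
  have e2 := tPiece_nn I hI hφ h' hnn'
  have e3 := map_mono_add_single I φ h i h'
  rw [e1, e2, smul_comm, ← natv_addv, ← natv_addv, X_smul_mk_mono, addv_add_single,
    natv_add_single hnn] at e3
  have e4 := congrArg (evQ I hI (natv (addv β α) + Finsupp.single i 1)) e3
  rw [← natv_add_single hnn] at e4
  rw [map_smul, map_smul, evQ_mono_self I hI hout, smul_eq_mul, mul_one, smul_eq_mul, mul_one] at e4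
  exact e4

theorem cfL_step_neg {φ : Tgt I} (hφ : φ ∈ tPiece I α) {β : σ →₀ ℕ} (h : β ∈ exps I) (i : σ)
    (hneg : ¬ nn (addv β α)) (hnn' : nn (addv β α + Pi.single i 1))
    (hout : natv (addv β α + Pi.single i 1) ∉ exps I) :
    cfL I hI α (addv β α + Pi.single i 1) φ = 0 := by
  have h' : β + Finsupp.single i 1 ∈ exps I := exps_add_single I h i
  rw [← addv_add_single] at hnn' hout ⊢
  have e1 := tPiece_neg I hφ h hneg
  have e2 := tPiece_nn I hI hφ h' hnn'
  have e3 := map_mono_add_single I φ h i h'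
  rw [e1, e2, smul_zero, ← natv_addv] at e3
  have e4 := congrArg (evQ I hI (natv (addv (β + Finsupp.single i 1) α))) e3
  rw [map_smul, evQ_mono_self I hI hout, smul_eq_mul, mul_one, map_zero] at e4
  exact e4

open Classical in
/-- the coefficient at `γ`, set to `0` at lattice points with a negative entry -/
noncomputable def dcfL (α γ : σ → ℤ) : Tgt I →ₗ[k] k :=
  if nn γ then cfL I hI α γ else 0

theorem dcfL_of_nn {γ : σ → ℤ} (h : nn γ) : dcfL I hI α γ = cfL I hI α γ := if_pos h

theorem dcfL_of_not_nn {γ : σ → ℤ} (h : ¬ nn γ) : dcfL I hI α γ = 0 := if_neg h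

theorem region_iff (γ : σ → ℤ) :
    γ ∈ region I α ↔ (∃ β ∈ exps I, γ = addv β α) ∧ ¬ (nn γ ∧ natv γ ∈ exps I) := Iff.rfl

theorem dcfL_step {φ : Tgt I} (hφ : φ ∈ tPiece I α) {γ : σ → ℤ} (i : σ) (hγ : γ ∈ region I α)
    (hγ' : γ + Pi.single i 1 ∈ region I α) :
    dcfL I hI α (γ + Pi.single i 1) φ = dcfL I hI α γ φ := by
  obtain ⟨⟨β, hβ, rfl⟩, -⟩ := hγ
  change addv β α + Pi.single i 1 ∈ region I α at hγ'
  change dcfL I hI α (addv β α + Pi.single i 1) φ = dcfL I hI α (addv β α) φ
  have hγ2 := ((region_iff I _).1 hγ').2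
  by_cases hnn : nn (addv β α)
  · have hnn' := nn_add_single hnn i
    rw [dcfL_of_nn I hI hnn, dcfL_of_nn I hI hnn']
    exact cfL_step_nn I hI hφ hβ i hnn (fun hc => hγ2 ⟨hnn', hc⟩)
  · rw [dcfL_of_not_nn I hI hnn]
    by_cases hnn' : nn (addv β α + Pi.single i 1)
    · rw [dcfL_of_nn I hI hnn']
      exact cfL_step_neg I hI hφ hβ i hnn hnn' (fun hc => hγ2 ⟨hnn', hc⟩)
    · rw [dcfL_of_not_nn I hI hnn']

end step


section graph

theorem exists_single_of_sum_abs (d : σ → ℤ) (h : ∑ i, |d i| = 1) :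
    ∃ i, d = Pi.single i 1 ∨ d = Pi.single i (-1) := by
  have hne : ∃ i, d i ≠ 0 := by
    by_contra hc
    push Not at hc
    simp [hc] at h
  obtain ⟨i, hi⟩ := hne
  have h1 : |d i| + ∑ j ∈ Finset.univ.erase i, |d j| = 1 := by
    rw [Finset.add_sum_erase Finset.univ (fun j => |d j|) (Finset.mem_univ i)]; exact h
  have h2 : 1 ≤ |d i| := Int.one_le_abs hi
  have h3 : 0 ≤ ∑ j ∈ Finset.univ.erase i, |d j| := Finset.sum_nonneg (fun j _ => abs_nonneg _)
  have h4 : ∑ j ∈ Finset.univ.erase i, |d j| = 0 := by omega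
  have h5 : |d i| = 1 := by omega
  have h6 : ∀ j, j ≠ i → d j = 0 := by
    intro j hj
    have := (Finset.sum_eq_zero_iff_of_nonneg (fun j _ => abs_nonneg (d j))).1 h4 j
      (Finset.mem_erase.2 ⟨hj, Finset.mem_univ j⟩)
    exact abs_eq_zero.1 this
  refine ⟨i, ?_⟩
  rcases (abs_eq (by norm_num : (0 : ℤ) ≤ 1)).1 h5 with h7 | h7
  · left
    funext j
    by_cases hj : j = i
    · subst hj; simp [h7]
    · simp [hj, h6 j hj]
  · right
    funext j
    by_cases hj : j = i
    · subst hj; simp [h7]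
    · simp [hj, h6 j hj]

theorem sum_abs_single (i : σ) (c : ℤ) : ∑ j, |(Pi.single i c : σ → ℤ) j| = |c| := by
  rw [Finset.sum_eq_single i]
  · simp
  · intro j _ hj
    simp [hj]
  · intro h
    exact absurd (Finset.mem_univ i) h

theorem stepGraph_adj_iff (a b : σ → ℤ) :
    (stepGraph σ).Adj a b ↔ ∃ i, b = a + Pi.single i 1 ∨ a = b + Pi.single i 1 := by
  unfold stepGraph
  rw [SimpleGraph.fromRel_adj]
  constructor
  · rintro ⟨-, h | h⟩
    · obtain ⟨i, hi | hi⟩ := exists_single_of_sum_abs (fun i => a i - b i) h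
      · refine ⟨i, Or.inr ?_⟩
        funext j
        have := congrFun hi j
        simp only [Pi.add_apply]
        omega
      · refine ⟨i, Or.inl ?_⟩
        funext j
        have := congrFun hi j
        have h2 : (Pi.single i (-1) : σ → ℤ) j = - (Pi.single i 1 : σ → ℤ) j := by
          by_cases hj : j = i
          · subst hj; simp
          · simp [hj]
        simp only [Pi.add_apply]
        omega
    · obtain ⟨i, hi | hi⟩ := exists_single_of_sum_abs (fun i => b i - a i) h
      · refine ⟨i, Or.inl ?_⟩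
        funext j
        have := congrFun hi j
        simp only [Pi.add_apply]
        omega
      · refine ⟨i, Or.inr ?_⟩
        funext j
        have := congrFun hi j
        have h2 : (Pi.single i (-1) : σ → ℤ) j = - (Pi.single i 1 : σ → ℤ) j := by
          by_cases hj : j = i
          · subst hj; simp
          · simp [hj]
        simp only [Pi.add_apply]
        omega
  · rintro ⟨i, h | h⟩
    · refine ⟨?_, Or.inr ?_⟩
      · intro e
        have := congrFun h i
        rw [← e] at this
        simp at this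
      · have : (fun j => |b j - a j|) = fun j => |(Pi.single i 1 : σ → ℤ) j| := by
          funext j
          rw [h]
          simp
        rw [this, sum_abs_single]
        rfl
    · refine ⟨?_, Or.inl ?_⟩
      · intro e
        have := congrFun h i
        rw [← e] at this
        simp at this
      · have : (fun j => |a j - b j|) = fun j => |(Pi.single i 1 : σ → ℤ) j| := by
          funext j
          rw [h]
          simp
        rw [this, sum_abs_single]
        rfl

theorem reachable_const {V : Type*} {G : SimpleGraph V} {X : Type*} (f : V → X)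
    (h : ∀ u v, G.Adj u v → f u = f v) {u v : V} (hr : G.Reachable u v) : f u = f v := by
  obtain ⟨p⟩ := hr
  induction p with
  | nil => rfl
  | cons hadj _ ih => exact (h _ _ hadj).trans ih

variable (I : Ideal (MvPolynomial σ k)) (α : σ → ℤ)

/-- the unit-step graph induced on the region -/
abbrev RG : SimpleGraph ↥(region I α) := (stepGraph σ).induce (region I α)

theorem RG_adj_iff (u v : ↥(region I α)) :
    (RG I α).Adj u v ↔ ∃ i, v.1 = u.1 + Pi.single i 1 ∨ u.1 = v.1 + Pi.single i 1 := by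
  rw [← stepGraph_adj_iff]
  exact SimpleGraph.comap_adj

variable {I α}

theorem dcfL_adj (hI : IsMonomial I) {φ : Tgt I} (hφ : φ ∈ tPiece I α) {u v : ↥(region I α)}
    (h : (RG I α).Adj u v) : dcfL I hI α u.1 φ = dcfL I hI α v.1 φ := by
  obtain ⟨i, h | h⟩ := (RG_adj_iff I α u v).1 h
  · rw [h]
    exact (dcfL_step I hI hφ i u.2 (h ▸ v.2)).symm
  · rw [h]
    exact dcfL_step I hI hφ i v.2 (h ▸ u.2)

theorem dcfL_reachable (hI : IsMonomial I) {φ : Tgt I} (hφ : φ ∈ tPiece I α) {u v : ↥(region I α)}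
    (h : (RG I α).Reachable u v) : dcfL I hI α u.1 φ = dcfL I hI α v.1 φ :=
  reachable_const (fun w : ↥(region I α) => dcfL I hI α w.1 φ) (fun _ _ hadj => dcfL_adj hI hφ hadj) h

end graph


section components

variable {I : Ideal (MvPolynomial σ k)} {α : σ → ℤ}

theorem finite_nn_region (hI : IsMonomial I) [Module.Finite k (MvPolynomial σ k ⧸ I)] :
    Finite {v : ↥(region I α) // nn v.1} := by
  refine finite_of_not_mem_exps I hI (fun v : {v : ↥(region I α) // nn v.1} => natv v.1.1) ?_ ?_
  · intro v w e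
    exact Subtype.ext (Subtype.ext (natv_injOn_nn v.2 w.2 e))
  · intro v hc
    exact ((region_iff I _).1 v.1.2).2 ⟨v.2, hc⟩

theorem supp_finite_of_nn (hI : IsMonomial I) [Module.Finite k (MvPolynomial σ k ⧸ I)]
    (C : (RG I α).ConnectedComponent) (h : ∀ v ∈ C.supp, nn v.1) : C.supp.Finite := by
  have hfin := finite_nn_region (I := I) (α := α) hI
  have h2 : {v : ↥(region I α) | nn v.1}.Finite := Set.finite_coe_iff.1 hfin
  exact h2.subset h

theorem region_add_single_neg {γ : σ → ℤ} (hγ : γ ∈ region I α) {i j : σ} (hij : i ≠ j)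
    (hj : γ j < 0) : γ + Pi.single i 1 ∈ region I α ∧ (γ + Pi.single i 1 : σ → ℤ) j = γ j := by
  obtain ⟨⟨β, hβ, rfl⟩, -⟩ := hγ
  have e : (addv β α + Pi.single i 1 : σ → ℤ) j = addv β α j := by
    simp [hij]
  refine ⟨(region_iff I _).2 ⟨⟨β + Finsupp.single i 1, exps_add_single I hβ i,
    (addv_add_single β i α).symm⟩, fun hc => ?_⟩, e⟩
  have h3 : 0 ≤ (addv β α + Pi.single i 1 : σ → ℤ) j := hc.1 j
  rw [e] at h3
  change addv β α j < 0 at hj
  omega

theorem nn_of_supp_finite (hσ : 2 ≤ Fintype.card σ) (C : (RG I α).ConnectedComponent)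
    (hC : C.supp.Finite) {v : ↥(region I α)} (hv : v ∈ C.supp) : nn v.1 := by
  by_contra hneg
  unfold nn at hneg
  push Not at hneg
  obtain ⟨j, hj⟩ := hneg
  obtain ⟨i, hij⟩ := Fintype.exists_ne_of_one_lt_card (by omega : 1 < Fintype.card σ) j
  have key : ∀ t : ℕ, ∃ w : ↥(region I α), w.1 = v.1 + Pi.single i (t : ℤ) ∧
      (RG I α).Reachable v w := by
    intro t
    induction t with
    | zero => exact ⟨v, by simp, SimpleGraph.Reachable.refl _⟩
    | succ t ih =>
      obtain ⟨w, hw, hr⟩ := ih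
      have hwj : w.1 j < 0 := by
        rw [hw]
        simpa [Pi.single_apply, hij] using hj
      obtain ⟨h1, -⟩ := region_add_single_neg w.2 hij hwj
      refine ⟨⟨w.1 + Pi.single i 1, h1⟩, ?_, hr.trans (SimpleGraph.Adj.reachable ?_)⟩
      · change w.1 + Pi.single i 1 = _
        rw [hw, add_assoc, ← Pi.single_add]
        push_cast
        rfl
      · rw [RG_adj_iff]
        exact ⟨i, Or.inl rfl⟩
  choose w hw hr using key
  refine Set.infinite_of_injective_forall_mem (f := w) ?_ ?_ hC
  · intro t t' e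
    have := congrFun ((hw t).symm.trans ((congrArg Subtype.val e).trans (hw t'))) i
    simpa using this
  · intro t
    rw [SimpleGraph.ConnectedComponent.mem_supp_iff] at hv ⊢
    rw [← hv]
    exact SimpleGraph.ConnectedComponent.eq.2 (hr t).symm

end components


section theta

variable {I : Ideal (MvPolynomial σ k)} {α : σ → ℤ}

/-- an element of `I` is the sum of its monomials, all of which lie in `I` -/
theorem eq_zero_of_mono (hI : IsMonomial I) (φ : Tgt I)
    (h : ∀ (β : σ →₀ ℕ) (hβ : mono β ∈ I), φ ⟨mono β, hβ⟩ = 0) : φ = 0 := by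
  apply LinearMap.ext
  rintro ⟨p, hp⟩
  have e : (⟨p, hp⟩ : ↥I) = ∑ β ∈ p.support.attach,
      coeff β.1 p • (⟨mono β.1, hI p hp β.1 β.2⟩ : ↥I) := by
    apply Subtype.ext
    rw [Submodule.coe_sum]
    simp only [Submodule.coe_smul_of_tower]
    rw [Finset.sum_attach p.support (fun β => coeff β p • (mono β : MvPolynomial σ k))]
    conv_lhs => rw [← support_sum_monomial_coeff p]
    apply Finset.sum_congr rfl
    intro β _
    rw [smul_monomial, smul_eq_mul, mul_one]
  rw [e, map_sum, LinearMap.zero_apply]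
  apply Finset.sum_eq_zero
  intro β _
  have h2 : φ (coeff β.1 p • (⟨mono β.1, hI p hp β.1 β.2⟩ : ↥I)) =
      coeff β.1 p • φ ⟨mono β.1, hI p hp β.1 β.2⟩ := by
    rw [← algebraMap_smul (MvPolynomial σ k) (coeff β.1 p), map_smul, algebraMap_smul]
  rw [h2, h _ _, smul_zero]

theorem eq_zero_of_dcfL (hI : IsMonomial I) {φ : Tgt I} (hφ : φ ∈ tPiece I α)
    (h : ∀ v : ↥(region I α), dcfL I hI α v.1 φ = 0) : φ = 0 := by
  apply eq_zero_of_mono hI
  intro β hβ
  by_cases hnn : nn (addv β α)
  · rw [tPiece_nn I hI hφ hβ hnn]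
    by_cases hs : shift β α ∈ exps I
    · rw [mk_mono_eq_zero I hs, smul_zero]
    · have hreg : addv β α ∈ region I α :=
        (region_iff I _).2 ⟨⟨β, hβ, rfl⟩, fun hc => hs hc.2⟩
      have := h ⟨addv β α, hreg⟩
      rw [dcfL_of_nn I hI hnn] at this
      rw [this, zero_smul]
  · exact tPiece_neg I hφ hβ hnn

variable (I α)

/-- the finite connected components of the region -/
abbrev FC : Type _ := {c : (RG I α).ConnectedComponent // c.supp.Finite}

variable {I α}

/-- a representative of a component -/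
noncomputable def rep (C : (RG I α).ConnectedComponent) : ↥(region I α) := Quot.out C

theorem mk_rep (C : (RG I α).ConnectedComponent) : (RG I α).connectedComponentMk (rep C) = C :=
  Quot.out_eq C

theorem rep_mem_supp (C : (RG I α).ConnectedComponent) : rep C ∈ C.supp :=
  (SimpleGraph.ConnectedComponent.mem_supp_iff _ _).2 (mk_rep C)

/-- the comparison map: a tangent vector of degree `α` gives a function on the finite components -/
noncomputable def Theta (hI : IsMonomial I) : ↥(tPiece I α) →ₗ[k] (FC I α → k) where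
  toFun φ C := dcfL I hI α (rep C.1).1 φ.1
  map_add' φ ψ := by
    funext C
    simp
  map_smul' c φ := by
    funext C
    simp

theorem Theta_apply (hI : IsMonomial I) (φ : ↥(tPiece I α)) (C : FC I α) :
    Theta hI φ C = dcfL I hI α (rep C.1).1 φ.1 := rfl

theorem Theta_injective (hI : IsMonomial I) [Module.Finite k (MvPolynomial σ k ⧸ I)] :
    Function.Injective (Theta (I := I) (α := α) hI) := by
  rw [injective_iff_map_eq_zero]
  intro φ h0
  apply Subtype.ext
  change φ.1 = 0
  apply eq_zero_of_dcfL hI φ.2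
  intro v
  by_cases hfin : ((RG I α).connectedComponentMk v).supp.Finite
  · have h1 := congrFun h0 ⟨_, hfin⟩
    rw [Theta_apply, Pi.zero_apply] at h1
    rw [← h1]
    apply dcfL_reachable hI φ.2
    exact SimpleGraph.ConnectedComponent.eq.1 (mk_rep _).symm
  · have h1 : ¬ ∀ w ∈ ((RG I α).connectedComponentMk v).supp, nn w.1 :=
      fun hc => hfin (supp_finite_of_nn hI _ hc)
    push Not at h1
    obtain ⟨w, hw, hwn⟩ := h1
    rw [SimpleGraph.ConnectedComponent.mem_supp_iff] at hw
    rw [dcfL_reachable hI φ.2 (SimpleGraph.ConnectedComponent.eq.1 hw.symm),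
      dcfL_of_not_nn I hI hwn, LinearMap.zero_apply]

end theta


section surj

variable {I : Ideal (MvPolynomial σ k)} {α : σ → ℤ}

open Classical in
/-- a function on finite components, extended by zero to all components -/
noncomputable def Acomp (a : FC I α → k) (C : (RG I α).ConnectedComponent) : k :=
  if hf : C.supp.Finite then a ⟨C, hf⟩ else 0

open Classical in
/-- a function on finite components, as a function on the lattice -/
noncomputable def Aof (a : FC I α → k) (γ : σ → ℤ) : k :=
  if h : γ ∈ region I α then Acomp a ((RG I α).connectedComponentMk ⟨γ, h⟩) else 0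

theorem Aof_eq (a : FC I α → k) {γ : σ → ℤ} (h : γ ∈ region I α) :
    Aof a γ = Acomp a ((RG I α).connectedComponentMk ⟨γ, h⟩) := dif_pos h

theorem Aof_step (a : FC I α → k) {γ : σ → ℤ} (i : σ) (h : γ ∈ region I α)
    (h' : γ + Pi.single i 1 ∈ region I α) : Aof a (γ + Pi.single i 1) = Aof a γ := by
  rw [Aof_eq a h, Aof_eq a h']
  congr 1
  apply SimpleGraph.ConnectedComponent.eq.2
  apply SimpleGraph.Adj.reachable
  rw [RG_adj_iff]
  exact ⟨i, Or.inr rfl⟩

theorem Aof_of_not_nn (hσ : 2 ≤ Fintype.card σ) (a : FC I α → k) {γ : σ → ℤ}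
    (h : γ ∈ region I α) (hn : ¬ nn γ) : Aof a γ = 0 := by
  rw [Aof_eq a h]
  unfold Acomp
  rw [dif_neg]
  intro hf
  exact hn (nn_of_supp_finite hσ _ hf (v := ⟨γ, h⟩)
    ((SimpleGraph.ConnectedComponent.mem_supp_iff _ _).2 rfl))

open Classical in
/-- the value on `x^β` of the tangent vector attached to `a` -/
noncomputable def gOf (a : FC I α → k) (β : σ →₀ ℕ) : MvPolynomial σ k ⧸ I :=
  if β ∈ exps I ∧ nn (addv β α) then
    Aof a (addv β α) • Ideal.Quotient.mk I (mono (shift β α)) else 0

/-- the `k`-linear extension of `gOf` -/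
noncomputable def LOf (a : FC I α → k) : MvPolynomial σ k →ₗ[k] (MvPolynomial σ k ⧸ I) :=
  (basisMonomials σ k).constr k (gOf a)

theorem LOf_mono (a : FC I α → k) (β : σ →₀ ℕ) : LOf a (mono β) = gOf a β := by
  unfold LOf
  have : (mono β : MvPolynomial σ k) = basisMonomials σ k β := by rw [coe_basisMonomials]
  rw [this, Module.Basis.constr_basis]

theorem gOf_step (hσ : 2 ≤ Fintype.card σ) (a : FC I α → k) {β : σ →₀ ℕ} (hβ : β ∈ exps I)
    (i : σ) : gOf a (β + Finsupp.single i 1) = (X i : MvPolynomial σ k) • gOf a β := by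
  have hβ' := exps_add_single I hβ i
  unfold gOf
  by_cases hnn : nn (addv β α)
  · have hnn' : nn (addv (β + Finsupp.single i 1) α) := by
      rw [addv_add_single]; exact nn_add_single hnn i
    rw [if_pos (And.intro hβ hnn), if_pos (And.intro hβ' hnn'), smul_comm, ← natv_addv,
      ← natv_addv, X_smul_mk_mono,
      addv_add_single, natv_add_single hnn]
    by_cases hs : natv (addv β α) + Finsupp.single i 1 ∈ exps I
    · rw [mk_mono_eq_zero I hs, smul_zero, smul_zero]
    · congr 1
      have hs0 : natv (addv β α) ∉ exps I := fun hc => hs (exps_add_single I hc i)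
      have hr : addv β α ∈ region I α := (region_iff I _).2 ⟨⟨β, hβ, rfl⟩, fun hc => hs0 hc.2⟩
      have hr' : addv β α + Pi.single i 1 ∈ region I α :=
        (region_iff I _).2 ⟨⟨β + Finsupp.single i 1, hβ', (addv_add_single β i α).symm⟩,
          fun hc => hs (by rw [← natv_add_single hnn]; exact hc.2)⟩
      exact Aof_step a i hr hr'
  · rw [if_neg (fun hc : β ∈ exps I ∧ nn (addv β α) => hnn hc.2), smul_zero]
    by_cases hnn' : nn (addv (β + Finsupp.single i 1) α)
    · rw [if_pos (And.intro hβ' hnn')]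
      by_cases hs : shift (β + Finsupp.single i 1) α ∈ exps I
      · rw [mk_mono_eq_zero I hs, smul_zero]
      · have hr : addv β α ∈ region I α :=
          (region_iff I _).2 ⟨⟨β, hβ, rfl⟩, fun hc => hnn hc.1⟩
        have hr' : addv β α + Pi.single i 1 ∈ region I α := by
          rw [← addv_add_single]
          exact (region_iff I _).2 ⟨⟨_, hβ', rfl⟩, fun hc => hs hc.2⟩
        rw [addv_add_single, Aof_step a i hr hr', Aof_of_not_nn hσ a hr hnn, zero_smul]
    · rw [if_neg (fun hc : β + Finsupp.single i 1 ∈ exps I ∧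
        nn (addv (β + Finsupp.single i 1) α) => hnn' hc.2)]

theorem LOf_mul_mono (hσ : 2 ≤ Fintype.card σ) (a : FC I α → k) (p : MvPolynomial σ k) :
    ∀ β ∈ exps I, LOf a (p * mono β) = p • LOf a (mono β) := by
  induction p using MvPolynomial.induction_on with
  | C c =>
    intro β hβ
    rw [← algebraMap_eq, ← Algebra.smul_def, map_smul, algebraMap_smul]
  | add p q hp hq =>
    intro β hβ
    rw [add_mul, map_add, hp β hβ, hq β hβ, add_smul]
  | mul_X p i hp =>
    intro β hβ
    rw [mul_assoc, ← mono_add_single, hp _ (exps_add_single I hβ i), LOf_mono,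
      gOf_step hσ a hβ i, ← LOf_mono, mul_smul]

theorem LOf_mul (hI : IsMonomial I) (hσ : 2 ≤ Fintype.card σ) (a : FC I α → k)
    (p : MvPolynomial σ k) {q : MvPolynomial σ k} (hq : q ∈ I) :
    LOf a (p * q) = p • LOf a q := by
  have key : ∀ (s : Finset (σ →₀ ℕ)) (c : (σ →₀ ℕ) → k), (∀ β ∈ s, β ∈ exps I) →
      LOf a (p * ∑ β ∈ s, monomial β (c β)) = p • LOf a (∑ β ∈ s, monomial β (c β)) := by
    intro s c hs
    rw [Finset.mul_sum, map_sum, map_sum, Finset.smul_sum]
    apply Finset.sum_congr rfl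
    intro β hβ
    have e : monomial β (c β) = c β • (mono β : MvPolynomial σ k) := by
      rw [smul_monomial, smul_eq_mul, mul_one]
    rw [e, mul_smul_comm, map_smul, map_smul, LOf_mul_mono hσ a p β (hs β hβ), smul_comm]
  have := key q.support (fun β => coeff β q) (fun β hβ => hI q hq β hβ)
  rwa [support_sum_monomial_coeff] at this

/-- the tangent vector attached to a function on the finite components -/
noncomputable def phiOf (hI : IsMonomial I) (hσ : 2 ≤ Fintype.card σ) (a : FC I α → k) : Tgt I where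
  toFun q := LOf a q.1
  map_add' q q' := by
    change LOf a (q.1 + q'.1) = _
    rw [map_add]
  map_smul' p q := by
    change LOf a (p * q.1) = p • LOf a q.1
    exact LOf_mul hI hσ a p q.2

theorem phiOf_mono (hI : IsMonomial I) (hσ : 2 ≤ Fintype.card σ) (a : FC I α → k) {β : σ →₀ ℕ}
    (h : mono β ∈ I) : phiOf hI hσ a ⟨mono β, h⟩ = gOf a β := LOf_mono a β

theorem phiOf_mem (hI : IsMonomial I) (hσ : 2 ≤ Fintype.card σ) (a : FC I α → k) :
    phiOf hI hσ a ∈ tPiece I α := by
  intro β hβ
  rw [phiOf_mono]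
  constructor
  · intro h
    unfold gOf
    rw [if_pos ⟨hβ, h⟩]
    exact Submodule.smul_mem _ _ (Submodule.subset_span rfl)
  · intro h
    unfold gOf
    rw [if_neg]
    rintro ⟨-, hc⟩
    obtain ⟨i, hi⟩ := h
    have := hc i
    change 0 ≤ (β i : ℤ) + α i at this
    omega

theorem Theta_phiOf (hI : IsMonomial I) (hσ : 2 ≤ Fintype.card σ) (a : FC I α → k) :
    Theta hI ⟨phiOf hI hσ a, phiOf_mem hI hσ a⟩ = a := by
  funext C
  rw [Theta_apply]
  have hv := rep_mem_supp C.1
  have hmk := mk_rep C.1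
  have hnn := nn_of_supp_finite hσ C.1 C.2 hv
  generalize rep C.1 = v at hv hmk hnn
  obtain ⟨γ, hγ⟩ := v
  obtain ⟨⟨β, hβ, rfl⟩, hout⟩ := (region_iff I _).1 hγ
  change nn (addv β α) at hnn
  change dcfL I hI α (addv β α) (phiOf hI hσ a) = a C
  have hs : shift β α ∉ exps I := fun hc => hout ⟨hnn, hc⟩
  rw [dcfL_of_nn I hI hnn, cfL_addv I hI α hβ, phiOf_mono]
  unfold gOf
  rw [if_pos ⟨hβ, hnn⟩, map_smul, evQ_mono_self I hI hs, smul_eq_mul, mul_one, Aof_eq a hγ]
  change Acomp a ((RG I α).connectedComponentMk ⟨_, hγ⟩) = a C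
  rw [hmk]
  unfold Acomp
  rw [dif_pos C.2]

theorem finite_FC (hI : IsMonomial I) [Module.Finite k (MvPolynomial σ k ⧸ I)]
    (hσ : 2 ≤ Fintype.card σ) : Finite (FC I α) := by
  have hfin := finite_nn_region (I := I) (α := α) hI
  refine Finite.of_injective (fun C : FC I α =>
    (⟨rep C.1, nn_of_supp_finite hσ C.1 C.2 (rep_mem_supp C.1)⟩ : {v : ↥(region I α) // nn v.1}))
    ?_
  intro C C' e
  apply Subtype.ext
  have e' : rep C.1 = rep C'.1 := congrArg Subtype.val e
  rw [← mk_rep C.1, ← mk_rep C'.1, e']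

/-- the graded piece of `T(I)` of degree `α` has dimension the number of bounded components of
the region `(Ĩ + α) ∖ Ĩ` -/
theorem finrank_tPiece_eq_nBddComp (hI : IsMonomial I) [Module.Finite k (MvPolynomial σ k ⧸ I)]
    (hσ : 2 ≤ Fintype.card σ) (α : σ → ℤ) :
    Module.finrank k ↥(tPiece I α) = nBddComp I α := by
  have hbij : Function.Bijective (Theta (I := I) (α := α) hI) :=
    ⟨Theta_injective hI, fun a => ⟨⟨phiOf hI hσ a, phiOf_mem hI hσ a⟩, Theta_phiOf hI hσ a⟩⟩
  have e := LinearEquiv.ofBijective (Theta (I := I) (α := α) hI) hbij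
  have hfinFC : Finite (FC I α) := finite_FC hI hσ
  have hft : Fintype (FC I α) := Fintype.ofFinite _
  rw [e.finrank_eq, Module.finrank_fintype_fun_eq_card]
  unfold nBddComp
  rw [Nat.card_eq_fintype_card]

end surj

end Groth.Agent.Lib.HilbPn38
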