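import Mathlib
import Groth.Agent.Lib.HilbPn38

/-!
# Counting bounded components (`Groth.Agent.Lib.HilbPn38b`, helper38)

Tools on top of `Lib/HilbPn38`: criteria for `nBddComp = 0`, the count when all nonnegative
vertices of the region are isolated, and the case of powers of the irrelevant ideal.
-/

set_option autoImplicit false
set_option linter.unusedSectionVars false
open MvPolynomial

namespace Groth.Agent.Lib.HilbPn38b

open W4c1hilbpn Groth.Agent.Lib.HilbPn38

variable {σ : Type*} [Fintype σ] [DecidableEq σ] {k : Type*} [Field k]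

section general

variable {I : Ideal (MvPolynomial σ k)} {α : σ → ℤ}

/-- no component all of whose vertices are nonnegative: no bounded component -/
theorem isEmpty_FC (hσ : 2 ≤ Fintype.card σ)
    (h : ∀ C : (RG I α).ConnectedComponent, ¬ ∀ v ∈ C.supp, nn v.1) : IsEmpty (FC I α) :=
  ⟨fun C => h C.1 (fun _ hv => nn_of_supp_finite hσ C.1 C.2 hv)⟩

theorem nBddComp_eq_zero (hσ : 2 ≤ Fintype.card σ)
    (h : ∀ C : (RG I α).ConnectedComponent, ¬ ∀ v ∈ C.supp, nn v.1) : nBddComp I α = 0 := by
  have := isEmpty_FC hσ h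
  unfold nBddComp
  exact Nat.card_of_isEmpty

/-- every nonnegative vertex reaches a vertex with a negative entry: no bounded component -/
theorem not_all_nn_of_reach
    (h : ∀ v : ↥(region I α), nn v.1 → ∃ w : ↥(region I α), (RG I α).Reachable v w ∧ ¬ nn w.1)
    (C : (RG I α).ConnectedComponent) : ¬ ∀ v ∈ C.supp, nn v.1 := by
  intro hC
  have hv := rep_mem_supp C
  obtain ⟨w, hr, hw⟩ := h (rep C) (hC _ hv)
  apply hw
  apply hC
  rw [SimpleGraph.ConnectedComponent.mem_supp_iff] at hv ⊢
  rw [← hv]
  exact SimpleGraph.ConnectedComponent.eq.2 hr.symm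

theorem tPiece_eq_bot_of_isEmpty (hI : IsMonomial I) [Module.Finite k (MvPolynomial σ k ⧸ I)]
    (hE : IsEmpty (FC I α)) : tPiece I α = ⊥ := by
  rw [eq_bot_iff]
  intro φ hφ
  have h1 : Theta (I := I) (α := α) hI ⟨φ, hφ⟩ = Theta (I := I) (α := α) hI 0 := by
    funext C
    exact (hE.false C).elim
  have h2 := Theta_injective (I := I) (α := α) hI h1
  exact congrArg Subtype.val h2

theorem supp_eq_singleton_of_isolated {v : ↥(region I α)}
    (h : ∀ w : ↥(region I α), ¬ (RG I α).Adj v w) :
    ((RG I α).connectedComponentMk v).supp = {v} := by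
  ext w
  rw [SimpleGraph.ConnectedComponent.mem_supp_iff, Set.mem_singleton_iff]
  constructor
  · intro hw
    have hr : (RG I α).Reachable v w := (SimpleGraph.ConnectedComponent.eq.1 hw).symm
    obtain ⟨p⟩ := hr
    cases p with
    | nil => rfl
    | cons hadj _ => exact (h _ hadj).elim
  · intro hw
    rw [hw]

/-- if all nonnegative vertices of the region are isolated, the bounded components are exactly the
nonnegative vertices -/
theorem nBddComp_eq_card_of_isolated (hσ : 2 ≤ Fintype.card σ)
    (h : ∀ v : ↥(region I α), nn v.1 → ∀ w : ↥(region I α), ¬ (RG I α).Adj v w) :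
    nBddComp I α = Nat.card {v : ↥(region I α) // nn v.1} := by
  unfold nBddComp
  refine Nat.card_congr
    { toFun := fun C => ⟨rep C.1, nn_of_supp_finite hσ C.1 C.2 (rep_mem_supp C.1)⟩
      invFun := fun v => ⟨(RG I α).connectedComponentMk v.1, by
        rw [supp_eq_singleton_of_isolated (h v.1 v.2)]
        exact Set.finite_singleton _⟩
      left_inv := fun C => Subtype.ext (mk_rep C.1)
      right_inv := fun v => by
        apply Subtype.ext
        have h1 := rep_mem_supp ((RG I α).connectedComponentMk v.1)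
        rw [supp_eq_singleton_of_isolated (h v.1 v.2)] at h1
        exact h1 }

end general


section mr

variable (σ k)

/-- powers of the irrelevant ideal -/
noncomputable abbrev mr (r : ℕ) : Ideal (MvPolynomial σ k) :=
  (Ideal.span (Set.range (X : σ → MvPolynomial σ k))) ^ r

variable {σ k}

theorem mem_exps_mr (r : ℕ) (β : σ →₀ ℕ) : β ∈ exps (mr σ k r) ↔ r ≤ β.degree :=
  monomial_mem_pow_idealOfVars_iff r β one_ne_zero

theorem isMonomial_mr (r : ℕ) : IsMonomial (mr σ k r) := by
  intro p hp β hβ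
  rw [mem_pow_idealOfVars_iff] at hp
  exact (mem_exps_mr r β).2 (hp β hβ)

theorem exists_restrict_sub_mem (r : ℕ) (p : MvPolynomial σ k) :
    ∃ q ∈ restrictTotalDegree σ k r, p - q ∈ mr σ k r := by
  induction p using MvPolynomial.induction_on' with
  | monomial a c =>
    by_cases h : a.degree < r
    · refine ⟨monomial a c, ?_, by simp⟩
      rw [mem_restrictTotalDegree]
      refine (totalDegree_monomial_le a c).trans ?_
      exact h.le
    · refine ⟨0, Submodule.zero_mem _, ?_⟩
      rw [sub_zero]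
      push Not at h
      rw [mem_pow_idealOfVars_iff]
      intro x hx
      have := support_monomial_subset hx
      rw [Finset.mem_singleton] at this
      rw [this]
      exact h
  | add p q hp hq =>
    obtain ⟨p', hp', hp2⟩ := hp
    obtain ⟨q', hq', hq2⟩ := hq
    refine ⟨p' + q', Submodule.add_mem _ hp' hq', ?_⟩
    have : p + q - (p' + q') = (p - p') + (q - q') := by ring
    rw [this]
    exact Ideal.add_mem _ hp2 hq2

instance finite_quot_mr (r : ℕ) : Module.Finite k (MvPolynomial σ k ⧸ mr σ k r) := by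
  let f : ↥(restrictTotalDegree σ k r) →ₗ[k] (MvPolynomial σ k ⧸ mr σ k r) :=
    ((mr σ k r).mkQ.restrictScalars k) ∘ₗ (restrictTotalDegree σ k r).subtype
  refine Module.Finite.of_surjective f ?_
  intro x
  obtain ⟨p, rfl⟩ := Submodule.mkQ_surjective _ x
  obtain ⟨q, hq, hpq⟩ := exists_restrict_sub_mem r p
  refine ⟨⟨q, hq⟩, ?_⟩
  change (mr σ k r).mkQ q = (mr σ k r).mkQ p
  rw [eq_comm, Submodule.mkQ_apply, Submodule.mkQ_apply, Submodule.Quotient.eq]
  exact hpq

/-- sum of the entries -/
def sz (γ : σ → ℤ) : ℤ := ∑ i, γ i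

theorem degree_natv {γ : σ → ℤ} (h : nn γ) : ((natv γ).degree : ℤ) = sz γ := by
  rw [Finsupp.degree_eq_sum]
  push_cast
  unfold sz
  apply Finset.sum_congr rfl
  intro i _
  rw [natv_apply]
  exact Int.toNat_of_nonneg (h i)

theorem sz_addv (β : σ →₀ ℕ) (α : σ → ℤ) : sz (addv β α) = (β.degree : ℤ) + sz α := by
  unfold sz
  rw [Finsupp.degree_eq_sum]
  push_cast
  rw [← Finset.sum_add_distrib]
  rfl

theorem sz_add_single (γ : σ → ℤ) (i : σ) (c : ℤ) : sz (γ + Pi.single i c) = sz γ + c := by
  unfold sz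
  simp only [Pi.add_apply]
  rw [Finset.sum_add_distrib, Finset.sum_pi_single']
  simp

theorem mem_region_mr (r : ℕ) (α γ : σ → ℤ) :
    γ ∈ region (mr σ k r) α ↔
      (∀ i, α i ≤ γ i) ∧ (r : ℤ) + sz α ≤ sz γ ∧ ¬ (nn γ ∧ (r : ℤ) ≤ sz γ) := by
  rw [region_iff]
  have h1 : (∃ β ∈ exps (mr σ k r), γ = addv β α) ↔ (∀ i, α i ≤ γ i) ∧ (r : ℤ) + sz α ≤ sz γ := by
    constructor
    · rintro ⟨β, hβ, rfl⟩
      rw [mem_exps_mr] at hβ
      refine ⟨fun i => ?_, ?_⟩
      · simp only [addv_apply]
        omega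
      · rw [sz_addv]
        have : (r : ℤ) ≤ (β.degree : ℤ) := by exact_mod_cast hβ
        omega
    · rintro ⟨h1, h2⟩
      have e : addv (bOf α γ) α = γ := by
        funext i
        have := h1 i
        simp only [addv_apply, bOf, natv_apply]
        omega
      refine ⟨bOf α γ, ?_, e.symm⟩
      rw [mem_exps_mr]
      have h3 := sz_addv (bOf α γ) α
      rw [e] at h3
      have : (r : ℤ) ≤ ((bOf α γ).degree : ℤ) := by omega
      exact_mod_cast this
  have h2 : (nn γ ∧ natv γ ∈ exps (mr σ k r)) ↔ (nn γ ∧ (r : ℤ) ≤ sz γ) := by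
    constructor
    · rintro ⟨hn, h⟩
      rw [mem_exps_mr] at h
      refine ⟨hn, ?_⟩
      rw [← degree_natv hn]
      exact_mod_cast h
    · rintro ⟨hn, h⟩
      refine ⟨hn, ?_⟩
      rw [mem_exps_mr]
      rw [← degree_natv hn] at h
      exact_mod_cast h
  rw [h1, h2, and_assoc]

end mr


section mrCases

variable {r : ℕ} {α : σ → ℤ}

/-- `Σ α ≥ 0`: the region has no nonnegative vertex -/
theorem not_nn_of_sz_nonneg (h : 0 ≤ sz α) (v : ↥(region (mr σ k r) α)) : ¬ nn v.1 := by
  intro hn
  obtain ⟨-, h2, h3⟩ := (mem_region_mr r α v.1).1 v.2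
  apply h3
  refine ⟨hn, ?_⟩
  omega

theorem nBddComp_mr_of_sz_nonneg (hσ : 2 ≤ Fintype.card σ) (h : 0 ≤ sz α) :
    nBddComp (mr σ k r) α = 0 :=
  nBddComp_eq_zero hσ
    (not_all_nn_of_reach (fun v hv => absurd hv (not_nn_of_sz_nonneg h v)))

theorem nn_sub_single {γ : σ → ℤ} (hn : nn γ) (j : σ) (hj : 1 ≤ γ j) :
    nn (γ + Pi.single j (-1)) := by
  intro i
  have := hn i
  by_cases hi : i = j
  · subst hi
    simp
    omega
  · simpa [hi] using this

/-- `Σ α ≤ -2`: every nonnegative vertex is connected to a vertex with a negative entry -/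
theorem reach_of_sz_le (hσ : 2 ≤ Fintype.card σ) (h : sz α ≤ -2) (v : ↥(region (mr σ k r) α))
    (hv : nn v.1) : ∃ w : ↥(region (mr σ k r) α),
      (RG (mr σ k r) α).Reachable v w ∧ ¬ nn w.1 := by
  have hj : ∃ j, α j < 0 := by
    by_contra hc
    push Not at hc
    have : 0 ≤ sz α := Finset.sum_nonneg (fun i _ => hc i)
    omega
  obtain ⟨j, hj⟩ := hj
  obtain ⟨i, hij⟩ := Fintype.exists_ne_of_one_lt_card (by omega : 1 < Fintype.card σ) j
  -- going down in direction `j` from a vertex which is not on the bottom layer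
  have down : ∀ u : ↥(region (mr σ k r) α), nn u.1 → (r : ℤ) + sz α + 1 ≤ sz u.1 →
      ∃ u' : ↥(region (mr σ k r) α), (RG (mr σ k r) α).Adj u u' ∧
        u'.1 = u.1 + Pi.single j (-1) := by
    intro u hu hsz
    obtain ⟨h1, h2, h3⟩ := (mem_region_mr r α u.1).1 u.2
    have hlt : sz u.1 < r := by
      by_contra hc
      push Not at hc
      exact h3 ⟨hu, hc⟩
    have hmem : u.1 + Pi.single j (-1) ∈ region (mr σ k r) α := by
      rw [mem_region_mr]
      refine ⟨fun i' => ?_, ?_, ?_⟩
      · by_cases hi : i' = j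
        · subst hi
          have := hu i'
          simp
          omega
        · simpa [hi] using h1 i'
      · rw [sz_add_single]
        omega
      · rintro ⟨-, hc⟩
        rw [sz_add_single] at hc
        omega
    refine ⟨⟨_, hmem⟩, ?_, rfl⟩
    rw [RG_adj_iff]
    refine ⟨j, Or.inr ?_⟩
    change u.1 = u.1 + Pi.single j (-1) + Pi.single j 1
    rw [add_assoc, ← Pi.single_add]
    simp
  -- going up in direction `i` from the bottom layer
  have up : ∀ u : ↥(region (mr σ k r) α), nn u.1 → sz u.1 ≤ (r : ℤ) + sz α →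
      ∃ u' : ↥(region (mr σ k r) α), (RG (mr σ k r) α).Adj u u' ∧
        u'.1 = u.1 + Pi.single i 1 := by
    intro u hu hsz
    obtain ⟨h1, h2, h3⟩ := (mem_region_mr r α u.1).1 u.2
    have hmem : u.1 + Pi.single i 1 ∈ region (mr σ k r) α := by
      rw [mem_region_mr]
      refine ⟨fun i' => ?_, ?_, ?_⟩
      · by_cases hi : i' = i
        · subst hi
          have := h1 i'
          simp
          omega
        · simpa [hi] using h1 i'
      · rw [sz_add_single]
        omega
      · rintro ⟨-, hc⟩
        rw [sz_add_single] at hc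
        omega
    refine ⟨⟨_, hmem⟩, ?_, rfl⟩
    rw [RG_adj_iff]
    exact ⟨i, Or.inl rfl⟩
  -- induction on the `j`-th coordinate
  have key : ∀ m : ℕ, ∀ u : ↥(region (mr σ k r) α), nn u.1 → (u.1 j).toNat = m →
      (r : ℤ) + sz α + 1 ≤ sz u.1 →
      ∃ w : ↥(region (mr σ k r) α), (RG (mr σ k r) α).Reachable u w ∧ ¬ nn w.1 := by
    intro m
    induction m with
    | zero =>
      intro u hu hm hsz
      obtain ⟨u', hadj, hu'⟩ := down u hu hsz
      refine ⟨u', hadj.reachable, fun hc => ?_⟩
      have h1 := hc j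
      have h2 := hu j
      rw [hu'] at h1
      simp at h1
      omega
    | succ m ih =>
      intro u hu hm hsz
      obtain ⟨u', hadj, hu'⟩ := down u hu hsz
      have hu'n : nn u'.1 := by
        rw [hu']
        apply nn_sub_single hu
        omega
      have hu'j : (u'.1 j).toNat = m := by
        rw [hu']
        simp
        omega
      have hu'sz : sz u'.1 = sz u.1 - 1 := by
        rw [hu', sz_add_single]
        ring
      by_cases hcase : (r : ℤ) + sz α + 1 ≤ sz u'.1
      · obtain ⟨w, hr, hw⟩ := ih u' hu'n hu'j hcase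
        exact ⟨w, hadj.reachable.trans hr, hw⟩
      · obtain ⟨u'', hadj2, hu''⟩ := up u' hu'n (by omega)
        have hu''n : nn u''.1 := by
          rw [hu'']
          exact nn_add_single hu'n i
        have hu''j : (u''.1 j).toNat = m := by
          rw [hu'']
          simp [Ne.symm hij]
          exact hu'j
        have hu''sz : (r : ℤ) + sz α + 1 ≤ sz u''.1 := by
          rw [hu'', sz_add_single]
          obtain ⟨-, h2, -⟩ := (mem_region_mr r α u'.1).1 u'.2
          omega
        obtain ⟨w, hr, hw⟩ := ih u'' hu''n hu''j hu''sz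
        exact ⟨w, hadj.reachable.trans (hadj2.reachable.trans hr), hw⟩
  by_cases hcase : (r : ℤ) + sz α + 1 ≤ sz v.1
  · exact key _ v hv rfl hcase
  · obtain ⟨v', hadj, hv'⟩ := up v hv (by omega)
    have hv'n : nn v'.1 := by
      rw [hv']
      exact nn_add_single hv i
    have hv'sz : (r : ℤ) + sz α + 1 ≤ sz v'.1 := by
      rw [hv', sz_add_single]
      obtain ⟨-, h2, -⟩ := (mem_region_mr r α v.1).1 v.2
      omega
    obtain ⟨w, hr, hw⟩ := key _ v' hv'n rfl hv'sz
    exact ⟨w, hadj.reachable.trans hr, hw⟩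

theorem nBddComp_mr_of_sz_le (hσ : 2 ≤ Fintype.card σ) (h : sz α ≤ -2) :
    nBddComp (mr σ k r) α = 0 :=
  nBddComp_eq_zero hσ (not_all_nn_of_reach (reach_of_sz_le hσ h))

/-- `Σ α = -1`: the nonnegative vertices are isolated -/
theorem isolated_of_sz_eq (h : sz α = -1) (v : ↥(region (mr σ k r) α)) (hv : nn v.1)
    (w : ↥(region (mr σ k r) α)) : ¬ (RG (mr σ k r) α).Adj v w := by
  intro hadj
  obtain ⟨h1, h2, h3⟩ := (mem_region_mr r α v.1).1 v.2
  obtain ⟨g1, g2, g3⟩ := (mem_region_mr r α w.1).1 w.2
  have hlt : sz v.1 < r := by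
    by_contra hc
    push Not at hc
    exact h3 ⟨hv, hc⟩
  obtain ⟨i, hi | hi⟩ := (RG_adj_iff _ _ v w).1 hadj
  · apply g3
    rw [hi, sz_add_single]
    exact ⟨nn_add_single hv i, by omega⟩
  · rw [hi, sz_add_single] at hlt h2
    omega

theorem nBddComp_mr_of_sz_eq (hσ : 2 ≤ Fintype.card σ) (h : sz α = -1) :
    nBddComp (mr σ k r) α = Nat.card {v : ↥(region (mr σ k r) α) // nn v.1} :=
  nBddComp_eq_card_of_isolated hσ (isolated_of_sz_eq h)

end mrCases


section count

variable {r : ℕ} {α : σ → ℤ}

theorem sum_max (α : σ → ℤ) :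
    ∑ i, max (α i) 0 = sz α + ((∑ i, (-α i).toNat : ℕ) : ℤ) := by
  unfold sz
  push_cast
  rw [← Finset.sum_add_distrib]
  apply Finset.sum_congr rfl
  intro i _
  omega

theorem sz_eq_of_nn_region (h : sz α = -1) (v : ↥(region (mr σ k r) α)) (hv : nn v.1) :
    sz v.1 = (r : ℤ) - 1 := by
  obtain ⟨h1, h2, h3⟩ := (mem_region_mr r α v.1).1 v.2
  have hlt : sz v.1 < r := by
    by_contra hc
    push Not at hc
    exact h3 ⟨hv, hc⟩
  omega

theorem card_nn_region_mr (h : sz α = -1) :
    Nat.card {v : ↥(region (mr σ k r) α) // nn v.1} =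
      if (∑ i, (-α i).toNat) ≤ r then
        (Fintype.card σ + (r - ∑ i, (-α i).toNat) - 1).choose (r - ∑ i, (-α i).toNat) else 0 := by
  have hmax := sum_max α
  rw [h] at hmax
  split_ifs with hw
  · have hcard := Finset.card_finsuppAntidiag_nat_eq_choose (s := (Finset.univ : Finset σ))
      (r - ∑ i, (-α i).toNat)
    rw [Finset.card_univ] at hcard
    rw [← hcard, ← Nat.card_eq_finsetCard]
    refine Nat.card_congr
      { toFun := fun v => ⟨natv (fun i => v.1.1 i - max (α i) 0), ?_⟩
        invFun := fun δ => ⟨⟨fun i => (δ.1 i : ℤ) + max (α i) 0, ?_⟩, ?_⟩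
        left_inv := ?_
        right_inv := ?_ }
    · rw [Finset.mem_finsuppAntidiag]
      refine ⟨?_, Finset.subset_univ _⟩
      have hsz := sz_eq_of_nn_region h v.1 v.2
      obtain ⟨h1, -, -⟩ := (mem_region_mr r α v.1.1).1 v.1.2
      have hcast : ((∑ i, natv (fun i => v.1.1 i - max (α i) 0) i : ℕ) : ℤ) =
          sz v.1.1 - ∑ i, max (α i) 0 := by
        push_cast
        unfold sz
        rw [← Finset.sum_sub_distrib]
        apply Finset.sum_congr rfl
        intro i _
        have := h1 i
        have := v.2 i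
        rw [natv_apply]
        omega
      have : ((∑ i, natv (fun i => v.1.1 i - max (α i) 0) i : ℕ) : ℤ) =
          ((r - ∑ i, (-α i).toNat : ℕ) : ℤ) := by
        rw [hcast, hsz, hmax]
        push_cast [hw]
        ring
      exact_mod_cast this
    · have hδ := (Finset.mem_finsuppAntidiag.1 δ.2).1
      rw [mem_region_mr]
      have hsz : sz (fun i => (δ.1 i : ℤ) + max (α i) 0) = (r : ℤ) - 1 := by
        unfold sz
        rw [Finset.sum_add_distrib, hmax]
        have : (∑ i, (δ.1 i : ℤ)) = ((r - ∑ i, (-α i).toNat : ℕ) : ℤ) := by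
          exact_mod_cast hδ
        rw [this]
        push_cast [hw]
        ring
      refine ⟨fun i => ?_, ?_, ?_⟩
      · show α i ≤ (δ.1 i : ℤ) + max (α i) 0
        omega
      · rw [hsz, h]
        omega
      · rintro ⟨-, hc⟩
        rw [hsz] at hc
        omega
    · intro i
      show 0 ≤ (δ.1 i : ℤ) + max (α i) 0
      omega
    · intro v
      apply Subtype.ext
      apply Subtype.ext
      funext i
      obtain ⟨h1, -, -⟩ := (mem_region_mr r α v.1.1).1 v.1.2
      have := h1 i
      have := v.2 i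
      simp only [natv_apply]
      omega
    · intro δ
      apply Subtype.ext
      ext i
      simp only [natv_apply]
      omega
  · have : IsEmpty {v : ↥(region (mr σ k r) α) // nn v.1} := by
      refine ⟨fun v => ?_⟩
      have hsz := sz_eq_of_nn_region h v.1 v.2
      obtain ⟨h1, -, -⟩ := (mem_region_mr r α v.1.1).1 v.1.2
      have hge : ∑ i, max (α i) 0 ≤ sz v.1.1 := by
        unfold sz
        apply Finset.sum_le_sum
        intro i _
        have := h1 i
        have := v.2 i
        omega
      rw [hmax, hsz] at hge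
      push_cast at hge
      push Not at hw
      have : (r : ℤ) < ((∑ i, (-α i).toNat : ℕ) : ℤ) := by exact_mod_cast hw
      push_cast at this
      omega
    exact Nat.card_of_isEmpty

end count

end Groth.Agent.Lib.HilbPn38b
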