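import Mathlib
import Groth.Agent.Lib.HilbPn38b

/-!
# Vanishing of pieces of constant sign and the graded decomposition of `T(I)`
(`Groth.Agent.Lib.HilbPn38c`, helper38)
-/

set_option autoImplicit false
set_option linter.unusedSectionVars false
open MvPolynomial

namespace Groth.Agent.Lib.HilbPn38c

open W4c1hilbpn Groth.Agent.Lib.HilbPn38 Groth.Agent.Lib.HilbPn38b

variable {σ : Type*} [Fintype σ] [DecidableEq σ] {k : Type*} [Field k]

section upclosed

variable (I : Ideal (MvPolynomial σ k))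

theorem exps_add {β : σ →₀ ℕ} (h : β ∈ exps I) (δ : σ →₀ ℕ) : β + δ ∈ exps I := by
  change mono (β + δ) ∈ I
  have : (mono (β + δ) : MvPolynomial σ k) = mono δ * mono β := by
    unfold mono
    rw [monomial_mul, add_comm, one_mul]
  rw [this]
  exact I.mul_mem_left _ h

theorem exps_of_le {β β' : σ →₀ ℕ} (h : β ∈ exps I) (hle : β ≤ β') : β' ∈ exps I := by
  have := exps_add I h (β' - β)
  rwa [add_tsub_cancel_of_le hle] at this

end upclosed

section constantSign

variable {I : Ideal (MvPolynomial σ k)} {α : σ → ℤ}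

theorem not_mem_region_of_nonneg (hα : ∀ i, 0 ≤ α i) (γ : σ → ℤ) : γ ∉ region I α := by
  rintro ⟨⟨β, hβ, rfl⟩, hout⟩
  apply hout
  change nn (addv β α) ∧ natv (addv β α) ∈ exps I
  refine ⟨fun i => ?_, ?_⟩
  · have := hα i
    simp only [addv_apply]
    omega
  · have : natv (addv β α) = β + natv α := by
      ext i
      have := hα i
      simp only [natv_apply, addv_apply, Finsupp.add_apply]
      omega
    rw [this]
    exact exps_add I hβ _

theorem tPiece_eq_bot_of_nonneg (hI : IsMonomial I) [Module.Finite k (MvPolynomial σ k ⧸ I)]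
    (hα : ∀ i, 0 ≤ α i) : tPiece I α = ⊥ :=
  tPiece_eq_bot_of_isEmpty hI
    ⟨fun C => not_mem_region_of_nonneg hα (rep C.1).1 (rep C.1).2⟩

theorem mem_supp_of_adj {C : (RG I α).ConnectedComponent} {v w : ↥(region I α)}
    (hv : v ∈ C.supp) (h : (RG I α).Adj v w) : w ∈ C.supp := by
  rw [SimpleGraph.ConnectedComponent.mem_supp_iff] at hv ⊢
  rw [← hv]
  exact SimpleGraph.ConnectedComponent.eq.2 h.reachable.symm

theorem not_all_nn_of_neg (hσ : 2 ≤ Fintype.card σ) (hI : IsMonomial I)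
    [Module.Finite k (MvPolynomial σ k ⧸ I)] (hα : ∀ i, α i < 0)
    (C : (RG I α).ConnectedComponent) : ¬ ∀ v ∈ C.supp, nn v.1 := by
  intro hC
  have hfin := supp_finite_of_nn hI C hC
  have hne : Nonempty σ := by
    rw [← Fintype.card_pos_iff]
    omega
  obtain ⟨j⟩ := hne
  obtain ⟨i, hij⟩ := Fintype.exists_ne_of_one_lt_card (by omega : 1 < Fintype.card σ) j
  obtain ⟨v, hv, hmin⟩ := Set.exists_min_image C.supp
    (fun v : ↥(region I α) => toLex (v.1 j, - v.1 i)) hfin ⟨rep C, rep_mem_supp C⟩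
  have hvn := hC v hv
  obtain ⟨⟨β, hβ, hγ⟩, hout⟩ := (region_iff I _).1 v.2
  -- Step 1: one step in direction `i` leaves the region
  have h1 : natv v.1 + Finsupp.single i 1 ∈ exps I := by
    by_contra hc
    have hmem : v.1 + Pi.single i 1 ∈ region I α :=
      (region_iff I _).2 ⟨⟨β + Finsupp.single i 1, exps_add_single I hβ i, by
        rw [addv_add_single, ← hγ]⟩, fun h => hc (by rw [← natv_add_single hvn]; exact h.2)⟩
    have hadj : (RG I α).Adj v ⟨_, hmem⟩ := (RG_adj_iff I α _ _).2 ⟨i, Or.inl rfl⟩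
    have h2 := hmin _ (mem_supp_of_adj hv hadj)
    rw [Prod.Lex.toLex_le_toLex] at h2
    simp only [Pi.add_apply, Pi.single_eq_same, Pi.single_eq_of_ne (Ne.symm hij)] at h2
    omega
  -- Step 2: one step down in direction `j` stays in the region
  have hmem : v.1 + Pi.single j (-1) ∈ region I α := by
    refine (region_iff I _).2 ⟨⟨bOf α (v.1 + Pi.single j (-1)), ?_, ?_⟩, ?_⟩
    · apply exps_of_le I h1
      intro l
      have h3 := hvn l
      have h4 := hα l
      simp only [Finsupp.add_apply, natv_apply, bOf, Pi.add_apply]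
      by_cases hl : l = j
      · subst hl
        rw [Finsupp.single_eq_of_ne hij.symm, Pi.single_eq_same]
        omega
      · rw [Pi.single_eq_of_ne hl]
        by_cases hl2 : l = i
        · subst hl2
          rw [Finsupp.single_eq_same]
          omega
        · rw [Finsupp.single_eq_of_ne hl2]
          omega
    · funext l
      have h3 := hvn l
      have h4 := hα l
      simp only [addv_apply, bOf, natv_apply, Pi.add_apply]
      by_cases hl : l = j
      · subst hl
        rw [Pi.single_eq_same]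
        omega
      · rw [Pi.single_eq_of_ne hl]
        omega
    · rintro ⟨hn, hc⟩
      apply hout
      refine ⟨hvn, ?_⟩
      have h5 := natv_add_single hn j
      rw [add_assoc, ← Pi.single_add] at h5
      have h6 : v.1 + Pi.single j ((-1 : ℤ) + 1) = v.1 := by simp
      rw [h6] at h5
      rw [h5]
      exact exps_add_single I hc j
  have hadj : (RG I α).Adj v ⟨_, hmem⟩ := by
    rw [RG_adj_iff]
    refine ⟨j, Or.inr ?_⟩
    change v.1 = v.1 + Pi.single j (-1) + Pi.single j 1
    rw [add_assoc, ← Pi.single_add]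
    simp
  have h2 := hmin _ (mem_supp_of_adj hv hadj)
  rw [Prod.Lex.toLex_le_toLex] at h2
  simp only [Pi.add_apply, Pi.single_eq_same, Pi.single_eq_of_ne hij] at h2
  omega

theorem tPiece_eq_bot_of_neg (hσ : 2 ≤ Fintype.card σ) (hI : IsMonomial I)
    [Module.Finite k (MvPolynomial σ k ⧸ I)] (hα : ∀ i, α i < 0) : tPiece I α = ⊥ :=
  tPiece_eq_bot_of_isEmpty hI (isEmpty_FC hσ (not_all_nn_of_neg hσ hI hα))

end constantSign


section generalStep

variable (I : Ideal (MvPolynomial σ k)) (hI : IsMonomial I) {α : σ → ℤ}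

theorem evQ_of_mem {γ : σ →₀ ℕ} (h : γ ∈ exps I) : evQ I hI γ = 0 := by
  unfold evQ
  rw [dif_neg (not_not.2 h)]

theorem X_smul_mk (i : σ) (p : MvPolynomial σ k) :
    (X i : MvPolynomial σ k) • Ideal.Quotient.mk I p = Ideal.Quotient.mk I (X i * p) := by
  rw [map_mul]
  rfl

theorem evQ_X_smul {γ0 : σ →₀ ℕ} (i : σ) (hout : γ0 + Finsupp.single i 1 ∉ exps I)
    (m : MvPolynomial σ k ⧸ I) :
    evQ I hI (γ0 + Finsupp.single i 1) ((X i : MvPolynomial σ k) • m) = evQ I hI γ0 m := by
  have hout0 : γ0 ∉ exps I := fun h => hout (exps_add_single I h i)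
  obtain ⟨p, rfl⟩ := Ideal.Quotient.mk_surjective m
  rw [X_smul_mk, evQ_mk I hI hout, evQ_mk I hI hout0, add_comm, coeff_X_mul]

theorem evQ_X_smul_zero {γ0 : σ →₀ ℕ} (i : σ) (hi : γ0 i = 0) (m : MvPolynomial σ k ⧸ I) :
    evQ I hI γ0 ((X i : MvPolynomial σ k) • m) = 0 := by
  by_cases hout : γ0 ∈ exps I
  · rw [evQ_of_mem I hI hout, LinearMap.zero_apply]
  · obtain ⟨p, rfl⟩ := Ideal.Quotient.mk_surjective m
    rw [X_smul_mk, evQ_mk I hI hout, coeff_X_mul', if_neg]
    simp [hi]

theorem cfL_step_nn' (φ : Tgt I) {β : σ →₀ ℕ} (h : β ∈ exps I) (i : σ)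
    (hnn : nn (addv β α)) (hout : natv (addv β α + Pi.single i 1) ∉ exps I) :
    cfL I hI α (addv β α + Pi.single i 1) φ = cfL I hI α (addv β α) φ := by
  have h' : β + Finsupp.single i 1 ∈ exps I := exps_add_single I h i
  rw [natv_add_single hnn] at hout
  rw [← addv_add_single, cfL_addv I hI α h', cfL_addv I hI α h, map_mono_add_single I φ h i h',
    ← natv_addv, ← natv_addv, addv_add_single, natv_add_single hnn]
  exact evQ_X_smul I hI i hout _

theorem cfL_step_neg' (φ : Tgt I) {β : σ →₀ ℕ} (h : β ∈ exps I) (i : σ)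
    (hneg : ¬ nn (addv β α)) (hnn' : nn (addv β α + Pi.single i 1)) :
    cfL I hI α (addv β α + Pi.single i 1) φ = 0 := by
  have h' : β + Finsupp.single i 1 ∈ exps I := exps_add_single I h i
  rw [← addv_add_single, cfL_addv I hI α h', map_mono_add_single I φ h i h']
  apply evQ_X_smul_zero
  unfold nn at hneg
  push Not at hneg
  obtain ⟨l, hl⟩ := hneg
  have hli : l = i := by
    by_contra hc
    have := hnn' l
    simp only [Pi.add_apply, Pi.single_eq_of_ne hc] at this
    omega
  subst hli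
  have := hnn' l
  simp only [Pi.add_apply, Pi.single_eq_same] at this
  rw [← natv_addv, natv_apply, addv_add_single]
  simp only [Pi.add_apply, Pi.single_eq_same]
  omega

theorem dcfL_step' (φ : Tgt I) {γ : σ → ℤ} (i : σ) (hγ : γ ∈ region I α)
    (hγ' : γ + Pi.single i 1 ∈ region I α) :
    dcfL I hI α (γ + Pi.single i 1) φ = dcfL I hI α γ φ := by
  obtain ⟨⟨β, hβ, rfl⟩, -⟩ := hγ
  change addv β α + Pi.single i 1 ∈ region I α at hγ'
  change dcfL I hI α (addv β α + Pi.single i 1) φ = dcfL I hI α (addv β α) φ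
  have hγ2 := ((region_iff I _).1 hγ').2
  by_cases hnn : nn (addv β α)
  · have hnn' := nn_add_single hnn i
    rw [dcfL_of_nn I hI hnn, dcfL_of_nn I hI hnn']
    exact cfL_step_nn' I hI φ hβ i hnn (fun hc => hγ2 ⟨hnn', hc⟩)
  · rw [dcfL_of_not_nn I hI hnn]
    by_cases hnn' : nn (addv β α + Pi.single i 1)
    · rw [dcfL_of_nn I hI hnn']
      exact cfL_step_neg' I hI φ hβ i hnn hnn'
    · rw [dcfL_of_not_nn I hI hnn']

variable {I}

theorem dcfL_adj' (φ : Tgt I) {u v : ↥(region I α)}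
    (h : (RG I α).Adj u v) : dcfL I hI α u.1 φ = dcfL I hI α v.1 φ := by
  obtain ⟨i, h | h⟩ := (RG_adj_iff I α u v).1 h
  · rw [h]
    exact (dcfL_step' I hI φ i u.2 (h ▸ v.2)).symm
  · rw [h]
    exact dcfL_step' I hI φ i v.2 (h ▸ u.2)

theorem dcfL_reachable' (φ : Tgt I) {u v : ↥(region I α)}
    (h : (RG I α).Reachable u v) : dcfL I hI α u.1 φ = dcfL I hI α v.1 φ :=
  reachable_const (fun w : ↥(region I α) => dcfL I hI α w.1 φ)
    (fun _ _ hadj => dcfL_adj' hI φ hadj) h

end generalStep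


section components

variable {I : Ideal (MvPolynomial σ k)} (hI : IsMonomial I) (hσ : 2 ≤ Fintype.card σ)

/-- the homogeneous component of degree `α` of a tangent vector -/
noncomputable def compOf (α : σ → ℤ) (φ : Tgt I) : Tgt I :=
  phiOf hI hσ (fun C : FC I α => dcfL I hI α (rep C.1).1 φ)

theorem compOf_mem (α : σ → ℤ) (φ : Tgt I) : compOf hI hσ α φ ∈ tPiece I α :=
  phiOf_mem hI hσ _

theorem Aof_compOf [Module.Finite k (MvPolynomial σ k ⧸ I)] (α : σ → ℤ) (φ : Tgt I)
    {γ : σ → ℤ} (hγ : γ ∈ region I α) :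
    Aof (fun C : FC I α => dcfL I hI α (rep C.1).1 φ) γ = dcfL I hI α γ φ := by
  rw [Aof_eq _ hγ]
  unfold Acomp
  by_cases hfin : ((RG I α).connectedComponentMk ⟨γ, hγ⟩).supp.Finite
  · rw [dif_pos hfin]
    exact dcfL_reachable' hI φ (u := rep ((RG I α).connectedComponentMk ⟨γ, hγ⟩)) (v := ⟨γ, hγ⟩)
      (SimpleGraph.ConnectedComponent.eq.1 (mk_rep _))
  · rw [dif_neg hfin]
    have h1 : ¬ ∀ w ∈ ((RG I α).connectedComponentMk ⟨γ, hγ⟩).supp, nn w.1 :=
      fun hc => hfin (supp_finite_of_nn hI _ hc)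
    push Not at h1
    obtain ⟨w, hw, hwn⟩ := h1
    rw [SimpleGraph.ConnectedComponent.mem_supp_iff] at hw
    have := dcfL_reachable' hI φ (u := ⟨γ, hγ⟩) (v := w)
      (SimpleGraph.ConnectedComponent.eq.1 hw.symm)
    change dcfL I hI α γ φ = _ at this
    rw [this, dcfL_of_not_nn I hI hwn, LinearMap.zero_apply]

open Classical in
theorem compOf_mono [Module.Finite k (MvPolynomial σ k ⧸ I)] (α : σ → ℤ) (φ : Tgt I)
    {β : σ →₀ ℕ} (h : mono β ∈ I) :
    compOf hI hσ α φ ⟨mono β, h⟩ =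
      if nn (addv β α) then
        evQ I hI (shift β α) (φ ⟨mono β, h⟩) • Ideal.Quotient.mk I (mono (shift β α)) else 0 := by
  unfold compOf
  rw [phiOf_mono]
  unfold gOf
  by_cases hnn : nn (addv β α)
  · rw [if_pos (show β ∈ exps I ∧ nn (addv β α) from ⟨h, hnn⟩), if_pos hnn]
    by_cases hs : shift β α ∈ exps I
    · rw [mk_mono_eq_zero I hs, smul_zero, smul_zero]
    · have hreg : addv β α ∈ region I α :=
        (region_iff I _).2 ⟨⟨β, h, rfl⟩, fun hc => hs hc.2⟩
      rw [Aof_compOf hI α φ hreg, dcfL_of_nn I hI hnn, cfL_addv I hI α h]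
  · rw [if_neg (fun hc : β ∈ exps I ∧ nn (addv β α) => hnn hc.2), if_neg hnn]

end components

section expansion

variable {I : Ideal (MvPolynomial σ k)} (hI : IsMonomial I) [Module.Finite k (MvPolynomial σ k ⧸ I)]

include hI in
theorem finite_compl_exps : {γ : σ →₀ ℕ | γ ∉ exps I}.Finite := by
  have := finite_of_not_mem_exps I hI (fun γ : {γ : σ →₀ ℕ // γ ∉ exps I} => γ.1)
    Subtype.val_injective (fun γ => γ.2)
  exact Set.finite_coe_iff.1 this

/-- the finite set of exponents of the monomials outside `I` -/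
noncomputable def outF : Finset (σ →₀ ℕ) := (finite_compl_exps hI).toFinset

theorem mem_outF {γ : σ →₀ ℕ} : γ ∈ outF hI ↔ γ ∉ exps I := by
  unfold outF
  rw [Set.Finite.mem_toFinset]
  rfl

theorem mk_smul (c : k) (p : MvPolynomial σ k) :
    Ideal.Quotient.mk I (c • p) = c • Ideal.Quotient.mk I p := rfl

/-- expansion of an element of `S/I` in the monomial basis -/
theorem expand (m : MvPolynomial σ k ⧸ I) :
    m = ∑ γ ∈ outF hI, evQ I hI γ m • Ideal.Quotient.mk I (mono γ) := by
  obtain ⟨p, rfl⟩ := Ideal.Quotient.mk_surjective m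
  have h1 : Ideal.Quotient.mk I p =
      ∑ γ ∈ p.support, coeff γ p • Ideal.Quotient.mk I (mono γ) := by
    conv_lhs => rw [← support_sum_monomial_coeff p]
    rw [map_sum]
    apply Finset.sum_congr rfl
    intro γ _
    rw [← mk_smul, smul_monomial, smul_eq_mul, mul_one]
  have h2 : ∑ γ ∈ p.support, coeff γ p • Ideal.Quotient.mk I (mono γ) =
      ∑ γ ∈ p.support ∪ outF hI, coeff γ p • Ideal.Quotient.mk I (mono γ) := by
    apply Finset.sum_subset Finset.subset_union_left
    intro γ _ hγ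
    rw [notMem_support_iff.1 hγ, zero_smul]
  have h3 : ∑ γ ∈ outF hI, evQ I hI γ (Ideal.Quotient.mk I p) •
      Ideal.Quotient.mk I (mono γ) =
      ∑ γ ∈ p.support ∪ outF hI, coeff γ p • Ideal.Quotient.mk I (mono γ) := by
    rw [← Finset.sum_subset (Finset.subset_union_right (s₁ := p.support) (s₂ := outF hI))]
    · apply Finset.sum_congr rfl
      intro γ hγ
      rw [evQ_mk I hI ((mem_outF hI).1 hγ)]
    · intro γ _ hγ
      rw [mem_outF, not_not] at hγ
      rw [mk_mono_eq_zero I hγ, smul_zero]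
  exact h1.trans (h2.trans h3.symm)

end expansion


section decomposition

variable {I : Ideal (MvPolynomial σ k)} (hI : IsMonomial I) (hσ : 2 ≤ Fintype.card σ)

include hI in
/-- value of a tangent vector on an element of `I` via its monomials -/
theorem map_eq_sum (φ : Tgt I) {p : MvPolynomial σ k} (hp : p ∈ I) :
    φ ⟨p, hp⟩ = ∑ β ∈ p.support.attach, coeff β.1 p • φ ⟨mono β.1, hI p hp β.1 β.2⟩ := by
  have e : (⟨p, hp⟩ : ↥I) = ∑ β ∈ p.support.attach,
      coeff β.1 p • (⟨mono β.1, hI p hp β.1 β.2⟩ : ↥I) := by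
    apply Subtype.ext
    rw [Submodule.coe_sum]
    simp only [Submodule.coe_smul_of_tower]
    rw [Finset.sum_attach p.support (fun β => coeff β p • (mono β : MvPolynomial σ k))]
    conv_lhs => rw [← support_sum_monomial_coeff p]
    apply Finset.sum_congr rfl
    intro β _
    rw [smul_monomial, smul_eq_mul, mul_one]
  conv_lhs => rw [e]
  rw [map_sum]
  apply Finset.sum_congr rfl
  intro β _
  rw [← algebraMap_smul (MvPolynomial σ k) (coeff β.1 p), map_smul, algebraMap_smul]

include hI in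
/-- a tangent vector vanishing on the monomials of a finite generating family vanishes -/
theorem eq_zero_of_gens (T : Finset (MvPolynomial σ k))
    (hT : Ideal.span (T : Set (MvPolynomial σ k)) = I) (ψ : Tgt I)
    (h : ∀ p ∈ T, ∀ β ∈ p.support, ∀ hβ : mono β ∈ I, ψ ⟨mono β, hβ⟩ = 0) : ψ = 0 := by
  have hker : ∀ p ∈ T, ∀ hp : p ∈ I, ψ ⟨p, hp⟩ = 0 := by
    intro p hpT hp
    rw [map_eq_sum hI ψ hp]
    apply Finset.sum_eq_zero
    intro β _
    rw [h p hpT β.1 β.2, smul_zero]
  have hle : Ideal.span (T : Set (MvPolynomial σ k)) ≤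
      Submodule.map I.subtype (LinearMap.ker ψ) := by
    apply Ideal.span_le.2
    intro p hp
    have hpI : p ∈ I := by
      rw [← hT]
      exact Ideal.subset_span hp
    exact ⟨⟨p, hpI⟩, LinearMap.mem_ker.2 (hker p hp hpI), rfl⟩
  apply LinearMap.ext
  intro x
  have hx : x.1 ∈ Ideal.span (T : Set (MvPolynomial σ k)) := by
    rw [hT]
    exact x.2
  obtain ⟨y, hy, hyx⟩ := hle hx
  have : y = x := Subtype.ext hyx
  rw [← this]
  exact LinearMap.mem_ker.1 hy

theorem exists_decomposition [Module.Finite k (MvPolynomial σ k ⧸ I)] (φ : Tgt I) :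
    ∃ A : Finset (σ → ℤ), φ = ∑ α ∈ A, compOf hI hσ α φ := by
  classical
  obtain ⟨T, hT⟩ := (isNoetherianRing_iff_ideal_fg (MvPolynomial σ k)).1 inferInstance I
  let B : Finset (σ →₀ ℕ) := T.biUnion (fun p => p.support)
  let ι : (σ →₀ ℕ) → (σ →₀ ℕ) → (σ → ℤ) := fun β γ i => (γ i : ℤ) - (β i : ℤ)
  let A : Finset (σ → ℤ) := ((outF hI) ×ˢ B).image (fun x => ι x.2 x.1)
  refine ⟨A, ?_⟩
  have key : φ - ∑ α ∈ A, compOf hI hσ α φ = 0 := by
    apply eq_zero_of_gens hI T hT
    intro p hp β hβ hβI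
    rw [LinearMap.sub_apply, LinearMap.sum_apply, sub_eq_zero]
    have hβB : β ∈ B := Finset.mem_biUnion.2 ⟨p, hp, hβ⟩
    simp_rw [compOf_mono hI hσ _ φ hβI]
    generalize φ ⟨mono β, hβI⟩ = m
    have hι : ∀ γ : σ →₀ ℕ, addv β (ι β γ) = fun i => (γ i : ℤ) := by
      intro γ
      funext i
      simp only [addv_apply, ι]
      ring
    have hinj : Set.InjOn (ι β) (outF hI : Set (σ →₀ ℕ)) := by
      intro γ _ γ' _ e
      ext i
      have := congrFun e i
      simp only [ι] at this
      omega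
    conv_lhs => rw [expand hI m]
    let t : (σ → ℤ) → (MvPolynomial σ k ⧸ I) := fun α => if nn (addv β α) then
      evQ I hI (shift β α) m • Ideal.Quotient.mk I (mono (shift β α)) else 0
    change ∑ γ ∈ outF hI, evQ I hI γ m • Ideal.Quotient.mk I (mono γ) = ∑ α ∈ A, t α
    have h1 : ∑ γ ∈ outF hI, evQ I hI γ m • Ideal.Quotient.mk I (mono γ) =
        ∑ γ ∈ outF hI, t (ι β γ) := by
      apply Finset.sum_congr rfl
      intro γ _
      have hnn : nn (addv β (ι β γ)) := by
        rw [hι]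
        intro i
        positivity
      simp only [t]
      rw [if_pos hnn, ← natv_addv, hι, natv_cast]
    rw [h1]
    refine (Finset.sum_image (f := t) hinj).symm.trans ?_
    apply Finset.sum_subset
    · intro α hα
      obtain ⟨γ, hγ, rfl⟩ := Finset.mem_image.1 hα
      exact Finset.mem_image.2 ⟨(γ, β), Finset.mem_product.2 ⟨hγ, hβB⟩, rfl⟩
    · intro α _ hα
      simp only [t]
      by_cases hnn : nn (addv β α)
      · rw [if_pos hnn]
        by_cases hs : shift β α ∈ exps I
        · rw [mk_mono_eq_zero I hs, smul_zero]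
        · exfalso
          apply hα
          refine Finset.mem_image.2 ⟨shift β α, (mem_outF hI).2 hs, ?_⟩
          funext i
          have := hnn i
          simp only [ι, ← natv_addv, natv_apply, addv_apply] at this ⊢
          omega
      · rw [if_neg hnn]
  exact sub_eq_zero.1 key

include hI hσ in
theorem iSup_sigPiece_eq_top [Module.Finite k (MvPolynomial σ k ⧸ I)] :
    (⨆ N : {N : Set σ // N.Nonempty ∧ N ≠ Set.univ}, sigPiece I N.1) = ⊤ := by
  rw [eq_top_iff]
  intro φ _
  obtain ⟨A, hA⟩ := exists_decomposition hI hσ φ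
  rw [hA]
  apply Submodule.sum_mem
  intro α _
  have hmem := compOf_mem hI hσ α φ
  by_cases h1 : ∀ i, 0 ≤ α i
  · rw [tPiece_eq_bot_of_nonneg hI h1] at hmem
    rw [(Submodule.mem_bot k).1 hmem]
    exact Submodule.zero_mem _
  by_cases h2 : ∀ i, α i < 0
  · rw [tPiece_eq_bot_of_neg hσ hI h2] at hmem
    rw [(Submodule.mem_bot k).1 hmem]
    exact Submodule.zero_mem _
  push Not at h1 h2
  have hN : ({i | α i < 0} : Set σ).Nonempty ∧ ({i | α i < 0} : Set σ) ≠ Set.univ := by
    refine ⟨h1, fun hc => ?_⟩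
    obtain ⟨i, hi⟩ := h2
    have : i ∈ ({i | α i < 0} : Set σ) := hc ▸ Set.mem_univ i
    exact absurd this (not_lt.2 hi)
  have hle1 : tPiece I α ≤ sigPiece I {i | α i < 0} :=
    le_iSup (fun a : {a : σ → ℤ // ∀ i, a i < 0 ↔ i ∈ ({i | α i < 0} : Set σ)} => tPiece I a.1)
      ⟨α, fun i => Iff.rfl⟩
  have hle2 : sigPiece I {i | α i < 0} ≤
      ⨆ N : {N : Set σ // N.Nonempty ∧ N ≠ Set.univ}, sigPiece I N.1 :=
    le_iSup (fun N : {N : Set σ // N.Nonempty ∧ N ≠ Set.univ} => sigPiece I N.1) ⟨_, hN⟩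
  exact hle2 (hle1 hmem)

end decomposition

end Groth.Agent.Lib.HilbPn38c
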