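import Groth.Prelude.Def_StabCat
import Mathlib.Analysis.Polynomial.Basic
import Mathlib.Algebra.Polynomial.Taylor
import Mathlib.Topology.Algebra.Order.Archimedean
import Mathlib.Topology.Instances.Rat

/-!
# Polynomial lemmas for the positivity of the leading coefficient of Hilbert polynomials (helper48)

Pure Mathlib.  `StabCat.PolyLE P Q` means `P(m) ≤ Q(m)` for all large natural numbers `m`.

* `coeff_nonneg_of_polyLE_zero` : `deg R ≤ e`, `R(m) ≥ 0` eventually ⇒ `R.coeff e ≥ 0`.
* `coeff_zero_pos_of_polyLT_zero` : `deg R ≤ 0`, `R(m) > 0` eventually ⇒ `R.coeff 0 > 0`.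
* `coeff_shift` : `deg Q ≤ e` ⇒ `(Q(X + c)).coeff e = Q.coeff e`; `natDegree_shift_le`.
* `coeff_shift_sub` : `deg P ≤ j + 1` ⇒ `(P(X + c) - P).coeff j = c * (j + 1) * P.coeff (j + 1)`.
* `pos_step` : the induction step for positivity.
-/

set_option autoImplicit false
open Polynomial Filter

namespace Groth.Agent.Lib.PosPoly48

/-- the shift `P(X + c)` -/
noncomputable def shift (P : ℚ[X]) (c : ℚ) : ℚ[X] := P.comp (X + C c)

theorem eval_shift (P : ℚ[X]) (c x : ℚ) : (shift P c).eval x = P.eval (x + c) := by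
  unfold shift
  rw [eval_comp, eval_add, eval_X, eval_C]

theorem shift_eq_taylor (P : ℚ[X]) (c : ℚ) : shift P c = taylor c P := by
  unfold shift
  rw [taylor_apply]

theorem natDegree_shift (P : ℚ[X]) (c : ℚ) : (shift P c).natDegree = P.natDegree := by
  rw [shift_eq_taylor, natDegree_taylor]

theorem coeff_shift {Q : ℚ[X]} {e : ℕ} (hdeg : Q.natDegree ≤ e) (c : ℚ) :
    (shift Q c).coeff e = Q.coeff e := by
  rcases lt_or_eq_of_le hdeg with hlt | heq
  · rw [coeff_eq_zero_of_natDegree_lt hlt,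
      coeff_eq_zero_of_natDegree_lt (by rw [natDegree_shift]; exact hlt)]
  · subst heq
    have h1 : (shift Q c).coeff (shift Q c).natDegree = Q.coeff Q.natDegree := by
      change (shift Q c).leadingCoeff = Q.leadingCoeff
      rw [shift_eq_taylor, leadingCoeff_taylor]
    rwa [natDegree_shift] at h1

theorem shift_add (P Q : ℚ[X]) (c : ℚ) : shift (P + Q) c = shift P c + shift Q c := by
  unfold shift; rw [add_comp]

theorem shift_sub (P Q : ℚ[X]) (c : ℚ) : shift (P - Q) c = shift P c - shift Q c := by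
  unfold shift; rw [sub_comp]

/-- `(P(X + c) - P).coeff j = c (j + 1) a_{j+1}` when `deg P ≤ j + 1`. -/
theorem coeff_shift_sub {P : ℚ[X]} {j : ℕ} (hdeg : P.natDegree ≤ j + 1) (c : ℚ) :
    (shift P c - P).coeff j = c * ((j : ℚ) + 1) * P.coeff (j + 1) := by
  rw [coeff_sub, shift_eq_taylor, taylor_coeff]
  have hd : (hasseDeriv j P).natDegree < 2 := by
    have := natDegree_hasseDeriv_le P j
    omega
  rw [eval_eq_sum_range' hd, Finset.sum_range_succ, Finset.sum_range_one, hasseDeriv_coeff,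
    hasseDeriv_coeff]
  simp only [zero_add, pow_zero, mul_one, pow_one, Nat.choose_self, Nat.cast_one, one_mul]
  rw [add_comm 1 j, Nat.choose_succ_self_right]
  push_cast
  ring

/-- `R(m) ≥ 0` for large `m` and `deg R ≤ e` force `R.coeff e ≥ 0`. -/
theorem coeff_nonneg_of_polyLE_zero {R : ℚ[X]} {e : ℕ} (hdeg : R.natDegree ≤ e)
    (h : StabCat.PolyLE 0 R) : 0 ≤ R.coeff e := by
  by_contra hneg
  rw [not_le] at hneg
  have hne : R.natDegree = e := by
    rcases lt_or_eq_of_le hdeg with hlt | heq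
    · rw [coeff_eq_zero_of_natDegree_lt hlt] at hneg
      exact absurd hneg (lt_irrefl _)
    · exact heq
  have hlead : R.leadingCoeff < 0 := by
    unfold leadingCoeff; rw [hne]; exact hneg
  obtain ⟨N, hN⟩ := h
  rcases Nat.eq_zero_or_pos e with he | he
  · -- constant polynomial
    have hR : R = C (R.coeff 0) := eq_C_of_natDegree_le_zero (by omega)
    have h1 := hN N le_rfl
    rw [eval_zero, hR, eval_C] at h1
    subst he
    exact absurd h1 (not_le.mpr hneg)
  · have hpos : 0 < R.degree := by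
      rw [← natDegree_pos_iff_degree_pos, hne]; exact he
    have ht := R.tendsto_atBot_of_leadingCoeff_nonpos hpos hlead.le
    have ht' : Tendsto (fun m : ℕ => R.eval (m : ℚ)) atTop atBot :=
      ht.comp tendsto_natCast_atTop_atTop
    have hev := ht'.eventually (eventually_lt_atBot (0 : ℚ))
    obtain ⟨M, hM⟩ := hev.exists_forall_of_atTop
    have h1 := hN (max N M) (le_max_left _ _)
    have h2 := hM (max N M) (le_max_right _ _)
    rw [eval_zero] at h1
    exact absurd h1 (not_le.mpr h2)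

/-- `R(m) > 0` for large `m` and `deg R ≤ 0` force `R.coeff 0 > 0`. -/
theorem coeff_zero_pos_of_polyLT_zero {R : ℚ[X]} (hdeg : R.natDegree ≤ 0)
    (h : StabCat.PolyLT 0 R) : 0 < R.coeff 0 := by
  obtain ⟨N, hN⟩ := h
  have hR : R = C (R.coeff 0) := eq_C_of_natDegree_le_zero hdeg
  have h1 := hN N le_rfl
  rw [eval_zero, hR, eval_C] at h1
  exact h1

/-- **Induction step for positivity.**  If `deg P_Z ≤ d + 1`, `deg P_W ≤ d`, `P_W.coeff d > 0` and
`P_W(m + n) ≤ P_Z(m + n) - P_Z(m)` for large `m`, then `P_Z.coeff (d + 1) > 0`. -/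
theorem pos_step {PZ PW : ℚ[X]} {d : ℕ} (n : ℕ) (hZ : PZ.natDegree ≤ d + 1) (hW : PW.natDegree ≤ d)
    (hpos : 0 < PW.coeff d)
    (hle : StabCat.PolyLE (shift PW n) (shift PZ n - PZ)) : 0 < PZ.coeff (d + 1) := by
  -- `R := (P_Z(X+n) - P_Z) - P_W(X+n)` has degree `≤ d` and is eventually `≥ 0`
  have hRdeg : (shift PZ n - PZ - shift PW n).natDegree ≤ d := by
    rw [natDegree_le_iff_coeff_eq_zero]
    intro N hN
    rw [coeff_sub, coeff_sub]
    have h1 : (shift PW (n : ℚ)).coeff N = 0 :=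
      coeff_eq_zero_of_natDegree_lt (by rw [natDegree_shift]; omega)
    rcases Nat.lt_or_ge (d + 1) N with h2 | h2
    · rw [h1, coeff_eq_zero_of_natDegree_lt (by rw [natDegree_shift]; omega),
        coeff_eq_zero_of_natDegree_lt (by omega)]
      ring
    · have hN' : N = d + 1 := by omega
      subst hN'
      rw [h1, coeff_shift hZ]
      ring
  have hR0 : StabCat.PolyLE 0 (shift PZ n - PZ - shift PW n) := by
    obtain ⟨N, hN⟩ := hle
    refine ⟨N, fun m hm => ?_⟩
    have := hN m hm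
    rw [eval_zero, eval_sub]
    linarith
  have h3 := coeff_nonneg_of_polyLE_zero hRdeg hR0
  rw [coeff_sub, coeff_shift_sub hZ, coeff_shift hW] at h3
  have h4 : 0 < (n : ℚ) * ((d : ℚ) + 1) * PZ.coeff (d + 1) := by linarith
  have h5 : 0 ≤ (n : ℚ) * ((d : ℚ) + 1) := by positivity
  by_contra hcon
  rw [not_lt] at hcon
  have : (n : ℚ) * ((d : ℚ) + 1) * PZ.coeff (d + 1) ≤ 0 :=
    mul_nonpos_of_nonneg_of_nonpos h5 hcon
  exact absurd h4 (not_lt.mpr this)

end Groth.Agent.Lib.PosPoly48
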