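import Groth.Agent.Lib.HilbPoly48c
import Groth.Agent.Lib.PosPoly48
import Groth.Agent.Lib.DimChain48
import Groth.Agent.Lib.H90DevHub2
import Groth.Agent.Lib.H90DevTwo
import Groth.Agent.Lib.ModStalkLin

/-!
# Positivity of the leading coefficient of Hilbert polynomials, part a (helper48): sheaf-level lemmas

* `isHilbPoly_twist` : `P_{E(n)}(X) = P_E(X + n)`.
* `polyLE_of_mono H` : a coherent submodule has an eventually smaller Hilbert polynomial (`L` ample).
* `support_subset_union` : `Supp B ⊆ Supp A ∪ Supp (B/A)`.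
* `coeff_nonneg H` : `dim Supp E ≤ d` ⇒ `P_E.coeff d ≥ 0`.
-/

set_option autoImplicit false
set_option linter.style.haveILetI false
universe u
open CategoryTheory CategoryTheory.Limits AlgebraicGeometry Polynomial

namespace Groth.Agent.Lib.HilbPoly48

open Groth.Agent.Lib Groth.Agent.Lib.PosPoly48

section General

variable (k : Type u) [Field k] (X : Scheme.{u}) [X.Over (Spec (CommRingCat.of k))]

variable {k X} in
/-- The Hilbert polynomial of a twist. -/
theorem isHilbPoly_twist {L E : X.Modules} {P : ℚ[X]} (hP : ShStab.IsHilbPoly k X L E P) (n : ℕ) :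
    ShStab.IsHilbPoly k X L (ShStab.twist X L E n) (shift P n) := fun m => by
  have h1 : Curv2.euler k X (ShStab.twist X L (ShStab.twist X L E n) m) =
      Curv2.euler k X (ShStab.twist X L E (m + n)) := by
    unfold ShStab.twist
    rw [← chiC_cls, ← chiC_cls, IsoCls13.cls_tensorMod, IsoCls13.cls_tensorMod,
      IsoCls13.cls_tensorMod, IsoCls13.cls_tensorPow, IsoCls13.cls_tensorPow,
      IsoCls13.cls_tensorPow, mul_assoc, ← pow_add, add_comm]
  rw [h1, hP (m + n), eval_shift]
  push_cast
  rfl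

/-- `Supp B ⊆ Supp A ∪ Supp (B/A)`. -/
theorem support_subset_union {A B : X.Modules} (f : A ⟶ B) [Mono f] :
    CohB1.support B ⊆ CohB1.support A ∪ CohB1.support (cokernel f) := by
  intro x hx
  by_contra hcon
  rw [Set.mem_union, not_or] at hcon
  obtain ⟨hA, hC⟩ := hcon
  rw [H90DevHub2.notMem_support_iff] at hA hC
  rw [H90DevHub2.mem_support_iff] at hx
  have hS := ModStalkLin.stalkLin_exact (H90DevTwo.shortExact_cokernel f) x
  obtain ⟨a, b, hab⟩ := hx
  apply hab
  have key : ∀ w : ↑(B.presheaf.stalk x), w = 0 := by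
    intro w
    obtain ⟨v, rfl⟩ := (hS.2.1 w).mp (Subsingleton.elim _ _)
    rw [Subsingleton.elim v 0, map_zero]
  rw [key a, key b]

end General

section Proper

variable (H : ProperFinHyp.Hyp.{u})
variable (k : Type u) [Field k] (X : Scheme.{u}) [X.Over (Spec (CommRingCat.of k))]
  [IsProper (X ↘ Spec (CommRingCat.of k))]

include H in
/-- A coherent submodule has an eventually smaller Hilbert polynomial. -/
theorem polyLE_of_mono {L : X.Modules} (hL : CohB1.IsAmple L) {A B : X.Modules} (f : A ⟶ B) [Mono f]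
    (hA : Coh.IsCoh A) (hB : Coh.IsCoh B) {PA PB : ℚ[X]} (hPA : ShStab.IsHilbPoly k X L A PA)
    (hPB : ShStab.IsHilbPoly k X L B PB) : StabCat.PolyLE PA PB := by
  haveI : A.IsQuasicoherent := hA.1
  have hC : Coh.IsCoh (cokernel f) := H90OXModExact.isCoh_cokernel f hB
  have hPC := isHilbPoly_sub_left H k X hL.1 _ (H90DevTwo.shortExact_cokernel f) hA hB hC hPA hPB
  obtain ⟨N, hN⟩ := polyLE_zero k X hL hC hPC
  refine ⟨N, fun m hm => ?_⟩
  have := hN m hm
  rw [eval_zero, eval_sub] at this
  linarith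

include H in
/-- `dim Supp E ≤ d` ⇒ `P_E.coeff d ≥ 0`. -/
theorem coeff_nonneg {L : X.Modules} (hL : CohB1.IsAmple L) {E : X.Modules} (hE : Coh.IsCoh E)
    (d : ℕ) (hd : topologicalKrullDim (CohB1.support E) ≤ (d : WithBot ℕ∞)) {P : ℚ[X]}
    (hP : ShStab.IsHilbPoly k X L E P) : 0 ≤ P.coeff d :=
  coeff_nonneg_of_polyLE_zero (natDegree_le_of_isHilbPoly k X H hL.1 hE d hd hP)
    (polyLE_zero k X hL hE hP)

end Proper

end Groth.Agent.Lib.HilbPoly48
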