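import Groth.Agent.Lib.HilbPos48a
import Groth.Agent.Lib.H90SnapGeom
import Groth.Agent.Lib.H90UnitKer
import Groth.Agent.Lib.ProjFormulaInv
import Groth.Agent.Lib.ModPullback
import Groth.Agent.Lib.StructureModule

/-!
# Positivity of the leading coefficient of Hilbert polynomials, part b (helper48): the geometric core

`X` a Noetherian scheme, `Zc` an irreducible closed subset, `hub Zc = i_* O_Z` (reduced structure).

* `exists_factor_hub` : every `O_X ⟶ hub Zc ⊗ T` (`T` invertible) factors through a fixed epimorphism `O_X ⟶ hub Zc`.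
* `mono_of_ne_zero_hub` : a nonzero morphism `hub Zc ⟶ hub Zc ⊗ T` is a monomorphism (`Z` is integral).
* `exists_mono_hub_twist` : for `L` ample and a closed `Wc ⊊ Zc` there are a short exact sequence
  `0 → J → hub Zc → R → 0` of coherent modules with `Supp R = Wc` and a monomorphism `hub Zc ⟶ J ⊗ L^n`.
-/

set_option autoImplicit false
set_option linter.style.haveILetI false
universe u
open CategoryTheory CategoryTheory.Limits AlgebraicGeometry TopologicalSpace

namespace Groth.Agent.Lib.HilbPoly48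

open Groth.Agent.Lib Groth.Agent.Lib.H90DevCanon Groth.Agent.Lib.H90DevHub Groth.Agent.Lib.H90DevHub2
  Groth.Agent.Lib.H90DevAtom

variable {X : Scheme.{u}}

instance isQuasicoherent_hub (Zc : Closeds X) : (hub Zc).IsQuasicoherent := (isCoh_hub Zc).1

/-- Every morphism `O_X ⟶ i_* O_Z ⊗ T` factors through a fixed epimorphism `O_X ⟶ i_* O_Z`. -/
theorem exists_factor_hub (Zc : Closeds X) {T : X.Modules} (hT : PicF.IsInvertible T) :
    ∃ η' : Coh.structureModule X ⟶ hub Zc, Epi η' ∧
      ∀ t₁ : Coh.structureModule X ⟶ CohB1.tensorMod (hub Zc) T,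
        ∃ φ₁ : hub Zc ⟶ CohB1.tensorMod (hub Zc) T, η' ≫ φ₁ = t₁ := by
  let i := iZ Zc
  let adj := Scheme.Modules.pullbackPushforwardAdjunction i
  let e₀ := (ModPullback.pullbackUnitIso i).symm
  haveI : (Coh.structureModule X).IsQuasicoherent := StructureModule.isQuasicoherent_structureModule X
  haveI : Epi (adj.unit.app (Coh.structureModule X)) := H90UnitKer.epi_unit i (Coh.structureModule X)
  let η' : Coh.structureModule X ⟶ hub Zc :=
    adj.unit.app (Coh.structureModule X) ≫ (Scheme.Modules.pushforward i).map e₀.hom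
  refine ⟨η', epi_comp _ _, fun t₁ => ?_⟩
  let e := ProjFormulaInv.projIso i (Coh.structureModule (ZZ Zc)) T hT
  let t₀ := t₁ ≫ e.hom
  let tb := (adj.homEquiv _ _).symm t₀
  refine ⟨(Scheme.Modules.pushforward i).map (e₀.inv ≫ tb) ≫ e.inv, ?_⟩
  have h1 : adj.unit.app (Coh.structureModule X) ≫ (Scheme.Modules.pushforward i).map tb = t₀ := by
    exact (Adjunction.homEquiv_unit adj _ _ tb).symm.trans (Equiv.apply_symm_apply _ _)
  change (adj.unit.app (Coh.structureModule X) ≫ (Scheme.Modules.pushforward i).map e₀.hom) ≫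
    (Scheme.Modules.pushforward i).map (e₀.inv ≫ tb) ≫ e.inv = t₁
  rw [Category.assoc, ← Category.assoc ((Scheme.Modules.pushforward i).map e₀.hom),
    ← Functor.map_comp, Iso.hom_inv_id_assoc, ← Category.assoc, h1]
  change (t₁ ≫ e.hom) ≫ e.inv = t₁
  rw [Category.assoc, Iso.hom_inv_id, Category.comp_id]

variable [AlgebraicGeometry.IsNoetherian X]

/-- A nonzero morphism `i_* O_Z ⟶ i_* O_Z ⊗ T` (`Z` integral, `T` invertible) is a monomorphism. -/
theorem mono_of_ne_zero_hub (Zc : Closeds X) (hirr : IsIrreducible (Zc : Set X)) {T : X.Modules}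
    (hT : PicF.IsInvertible T) (φ : hub Zc ⟶ CohB1.tensorMod (hub Zc) T) (hφ : φ ≠ 0) : Mono φ := by
  obtain ⟨ξ, hξ⟩ := QuasiSober.sober hirr Zc.isClosed
  have hTc : Coh.IsCoh T := H90Invertible.isCoh_of_isInvertible hT
  have hhT : Coh.IsCoh (CohB1.tensorMod (hub Zc) T) := CohFinAmple.isCoh_tensorMod (isCoh_hub Zc) hTc
  haveI : (CohB1.tensorMod (hub Zc) T).IsQuasicoherent := hhT.1
  haveI : (kernel φ).IsQuasicoherent := H90OXModExact.isQuasicoherent_kernel φ
  apply Preadditive.mono_of_isZero_kernel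
  by_contra hK
  -- the coimage `A` of `φ` vanishes at the generic point
  have hA0 : ξ ∉ CohB1.support (cokernel (kernel.ι φ)) :=
    notMem_support_cokernel_hub hirr hξ (kernel.ι φ) hK
  have hAc : Coh.IsCoh (cokernel (kernel.ι φ)) := H90OXModExact.isCoh_cokernel _ (isCoh_hub Zc)
  let ψ : cokernel (kernel.ι φ) ⟶ CohB1.tensorMod (hub Zc) T := Abelian.factorThruCoimage φ
  haveI : Mono ψ := inferInstanceAs (Mono (Abelian.factorThruCoimage φ))
  have hfac : cokernel.π (kernel.ι φ) ≫ ψ = φ := Abelian.coimage.fac φ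
  have hAne : ¬ IsZero (cokernel (kernel.ι φ)) := by
    intro hz
    apply hφ
    rw [← hfac, hz.eq_of_tgt (cokernel.π (kernel.ι φ)) 0, zero_comp]
  -- twist back by the inverse of `T`
  obtain ⟨T', hT', ⟨e⟩⟩ := H78Dual.exists_tensor_inverse hT
  have hT'c : Coh.IsCoh T' := H90Invertible.isCoh_of_isInvertible hT'
  have e' : CohB1.tensorMod T' T ≅ Coh.structureModule X := e
  have e'' : CohB1.tensorMod T T' ≅ Coh.structureModule X := OXModTensor.braiding _ _ ≪≫ e
  haveI := TwistEquiv.isEquivalence_tensorRightFunctor e'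
  let F := TwistEquiv.tensorRightFunctor (X := X) T'
  let back : CohB1.tensorMod (CohB1.tensorMod (hub Zc) T) T' ≅ hub Zc :=
    OXModTensor.associator _ _ _ ≪≫ OXModTensor.tensorModIso (Iso.refl _) e'' ≪≫
      OXModTensor.rightUnitor _
  let p : CohB1.tensorMod (cokernel (kernel.ι φ)) T' ⟶ hub Zc := F.map ψ ≫ back.hom
  have hm : Mono (F.map ψ) :=
    (TwistEquiv.shortExact_map_tensorRight e' (H90DevTwo.shortExact_cokernel ψ)).mono_f
  haveI : Mono p := @mono_comp _ _ _ _ _ (F.map ψ) hm back.hom inferInstance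
  have hne' : ¬ IsZero (CohB1.tensorMod (cokernel (kernel.ι φ)) T') := fun hz =>
    hAne (IsZero.of_full_of_faithful_of_isZero F _ hz)
  haveI := nontrivial_stalk_of_mono_hub hirr hξ p hne'
  have hmem : ξ ∈ CohB1.support (CohB1.tensorMod (cokernel (kernel.ι φ)) T') :=
    (mem_support_iff _ ξ).mpr inferInstance
  haveI : (cokernel (kernel.ι φ)).IsQuasicoherent := hAc.1
  haveI : (cokernel (kernel.ι φ)).IsFiniteType := hAc.2
  haveI : T'.IsQuasicoherent := hT'c.1
  haveI : T'.IsFiniteType := hT'c.2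
  rw [SupportTensor.support_tensorMod] at hmem
  exact hA0 hmem.1

/-- The support of `i_* O_Z` is `Z`. -/
theorem support_hub (Zc : Closeds X) (hirr : IsIrreducible (Zc : Set X)) :
    CohB1.support (hub Zc) = (Zc : Set X) := by
  obtain ⟨ξ, hξ⟩ := QuasiSober.sober hirr Zc.isClosed
  refine Set.Subset.antisymm (support_hub_subset Zc) ?_
  have hne : ¬ IsZero (hub Zc) := by
    intro hz
    haveI := isSimpleModule_hub hirr hξ
    haveI := subsingleton_stalk_of_isZero hz ξ
    exact (IsSimpleModule.nontrivial (X.presheaf.stalk ξ) ↑((hub Zc).presheaf.stalk ξ)).exists_pair_ne.elim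
      fun a ⟨b, hab⟩ => hab (Subsingleton.elim _ _)
  haveI := nontrivial_stalk_of_mono_hub hirr hξ (𝟙 (hub Zc)) hne
  have hmem : ξ ∈ CohB1.support (hub Zc) := (mem_support_iff _ ξ).mpr inferInstance
  have hcl : IsClosed (CohB1.support (hub Zc)) := ModStalk.isClosed_support_of_isFT _ (isCoh_hub Zc).2
  have h2 : closure {ξ} = (Zc : Set X) := hξ
  rw [← h2]
  exact closure_minimal (Set.singleton_subset_iff.mpr hmem) hcl

/-- **Geometric core of positivity.**  For `L` ample, `Zc` irreducible closed and `Wc ⊊ Zc` closed there are a short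
exact sequence `0 → J → i_* O_Z → R → 0` of coherent modules with `Supp R = Wc` and a monomorphism
`i_* O_Z ⟶ J ⊗ L^n`. -/
theorem exists_mono_hub_twist {L : X.Modules} (hL : CohB1.IsAmple L) (Zc Wc : Closeds X)
    (hirr : IsIrreducible (Zc : Set X)) (hWZ : (Wc : Set X) ⊆ (Zc : Set X))
    (hne : (Wc : Set X) ≠ (Zc : Set X)) :
    ∃ (S : ShortComplex X.Modules) (n : ℕ) (φ : hub Zc ⟶ ShStab.twist X L S.X₁ n),
      S.ShortExact ∧ S.X₂ = hub Zc ∧ Coh.IsCoh S.X₁ ∧ Coh.IsCoh S.X₃ ∧
        CohB1.support S.X₃ = (Wc : Set X) ∧ Mono φ := by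
  obtain ⟨ξ, hξ⟩ := QuasiSober.sober hirr Zc.isClosed
  haveI : IsLocallyNoetherian X := inferInstance
  haveI : CompactSpace X := inferInstance
  let i := iZ Wc
  let adj := Scheme.Modules.pullbackPushforwardAdjunction i
  let R : X.Modules := (Scheme.Modules.pushforward i).obj ((Scheme.Modules.pullback i).obj (hub Zc))
  let η : hub Zc ⟶ R := adj.unit.app (hub Zc)
  haveI : Epi η := H90UnitKer.epi_unit i (hub Zc)
  haveI : R.IsQuasicoherent := H90ClosedUnit.isQuasicoherent_pushPull i (hub Zc)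
  have hR : Coh.IsCoh R := H90OXModExact.isCoh_of_epi η (isCoh_hub Zc) inferInstance
  haveI : (kernel η).IsQuasicoherent := H90OXModExact.isQuasicoherent_kernel η
  have hJ : Coh.IsCoh (kernel η) := H90DevFilt.isCoh_of_mono (kernel.ι η) (isCoh_hub Zc)
  let S : ShortComplex X.Modules := ShortComplex.mk (kernel.ι η) η (kernel.condition η)
  have hS : S.ShortExact :=
    { exact := ShortComplex.exact_kernel η
      mono_f := inferInstanceAs (Mono (kernel.ι η))
      epi_g := inferInstanceAs (Epi η) }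
  -- the support of `R`
  have hsuppR : CohB1.support R = (Wc : Set X) := by
    refine Set.Subset.antisymm ?_ ?_
    · rw [← range_iZ Wc]
      exact H90DevTwo2.support_push_subset i _
    · intro x hx
      exact H90UnitKer.mem_support_pushPull (isCoh_hub Zc) Wc hx
        ((support_hub Zc hirr).symm ▸ hWZ hx)
  -- `J ≠ 0`
  have hξW : ξ ∉ (Wc : Set X) := by
    intro h
    apply hne
    refine Set.Subset.antisymm hWZ ?_
    have h2 : closure {ξ} = (Zc : Set X) := hξ
    rw [← h2]
    exact closure_minimal (Set.singleton_subset_iff.mpr h) Wc.isClosed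
  have hJne : ¬ IsZero (kernel η) := by
    intro hz
    haveI : Mono η := Preadditive.mono_of_isZero_kernel η hz
    have h1 := support_subset_of_mono η
    rw [support_hub Zc hirr, hsuppR] at h1
    have h2 : closure {ξ} = (Zc : Set X) := hξ
    exact hξW (h1 (h2 ▸ subset_closure rfl))
  -- a nonzero section of a twist of `J`
  obtain ⟨n, hn⟩ := H78GlobGen2.isGloballyGenerated_twist hL (kernel η) hJ
  obtain ⟨ι, p, hp⟩ := hn n le_rfl
  have hJn : ¬ IsZero (ShStab.twist X L (kernel η) n) := not_isZero_twist hL.1 hJne n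
  obtain ⟨j, hj⟩ : ∃ j : ι, SheafOfModules.ιFree (R := X.ringCatSheaf) j ≫ p ≠ 0 := by
    by_contra hcon
    push Not at hcon
    apply hJn
    have h0 : p = 0 := by
      refine Cofan.IsColimit.hom_ext (SheafOfModules.isColimitFreeCofan (R := X.ringCatSheaf) ι) _ _
        fun j => ?_
      exact (hcon j).trans comp_zero.symm
    exact @IsZero.of_epi_eq_zero _ _ _ _ _ p hp h0
  let t : Coh.structureModule X ⟶ ShStab.twist X L (kernel η) n :=
    SheafOfModules.ιFree (R := X.ringCatSheaf) j ≫ p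
  -- twisting is exact
  have hT : PicF.IsInvertible (CohB1.tensorPow L n) := H78TensorGen.isInvertible_tensorPow hL.1 n
  obtain ⟨T', _, ⟨e⟩⟩ := H78Dual.exists_tensor_inverse hT
  have e' : CohB1.tensorMod (CohB1.tensorPow L n) T' ≅ Coh.structureModule X :=
    OXModTensor.braiding _ _ ≪≫ e
  let F := TwistEquiv.tensorRightFunctor (X := X) (CohB1.tensorPow L n)
  have hS' : (S.map F).ShortExact := TwistEquiv.shortExact_map_tensorRight e' hS
  haveI : Mono (S.map F).f := hS'.mono_f
  -- factor through the hub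
  obtain ⟨η', hη', hfac⟩ := exists_factor_hub Zc hT
  haveI := hη'
  let t₁ : Coh.structureModule X ⟶ CohB1.tensorMod (hub Zc) (CohB1.tensorPow L n) := t ≫ (S.map F).f
  have ht₁ : t₁ ≠ 0 := by
    intro h0
    apply hj
    have : t ≫ (S.map F).f = 0 ≫ (S.map F).f := by rw [zero_comp]; exact h0
    exact (cancel_mono (S.map F).f).mp this
  obtain ⟨φ₁, hφ₁⟩ := hfac t₁
  have hφ₁ne : φ₁ ≠ 0 := by
    rintro rfl
    exact ht₁ (hφ₁.symm.trans comp_zero)
  have hm₁ : Mono φ₁ := mono_of_ne_zero_hub Zc hirr hT φ₁ hφ₁ne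
  have hφ₁g : φ₁ ≫ (S.map F).g = 0 := by
    rw [← cancel_epi η', ← Category.assoc, hφ₁, comp_zero]
    change (t ≫ (S.map F).f) ≫ (S.map F).g = 0
    exact (Category.assoc _ _ _).trans
      ((congrArg (fun z => t ≫ z) (S.map F).zero).trans comp_zero)
  let φ : hub Zc ⟶ ShStab.twist X L (kernel η) n := hS'.exact.lift φ₁ hφ₁g
  have hφ : φ ≫ (S.map F).f = φ₁ := hS'.exact.lift_f φ₁ hφ₁g
  haveI : Mono (φ ≫ (S.map F).f) := by rw [hφ]; exact hm₁
  exact ⟨S, n, φ, hS, rfl, hJ, hR, hsuppR, mono_of_mono φ (S.map F).f⟩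

end Groth.Agent.Lib.HilbPoly48
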