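import Mathlib
import Groth.Agent.Lib.HilbSerre99
import Groth.Agent.Lib.KZeroSub

/-!
# Hilbert–Serre in `K'₀(A)`: `[M_n]` is a numerical polynomial (helper99)
-/

set_option autoImplicit false
universe u

namespace Groth.Agent.Lib.HilbSerreK99

open Finset Groth.Agent.Lib.HilbSerre99

section numpoly

variable {G : Type*} [AddCommGroup G]

/-- evaluation of a numerical polynomial with coefficients `a` in the basis `C(n,i)` -/
noncomputable def ev (a : ℕ →₀ G) (n : ℕ) : G := a.sum fun i c => ((n.choose i : ℕ) : ℤ) • c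

/-- shifted evaluation `∑ C(n, i+1) a_i` -/
noncomputable def ev1 (a : ℕ →₀ G) (n : ℕ) : G := a.sum fun i c => ((n.choose (i + 1) : ℕ) : ℤ) • c

lemma ev_add (a b : ℕ →₀ G) (n : ℕ) : ev (a + b) n = ev a n + ev b n := by
  unfold ev
  exact Finsupp.sum_add_index' (fun i => smul_zero _) (fun i c₁ c₂ => smul_add _ _ _)

lemma ev_sub (a b : ℕ →₀ G) (n : ℕ) : ev (a - b) n = ev a n - ev b n := by
  unfold ev
  exact Finsupp.sum_sub_index (fun i c₁ c₂ => smul_sub _ _ _)

lemma ev_single (c : G) (n : ℕ) : ev (Finsupp.single 0 c) n = c := by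
  unfold ev
  rw [Finsupp.sum_single_index (h := fun i c => ((n.choose i : ℕ) : ℤ) • c) (smul_zero _)]
  simp

lemma ev_mapDomain_succ (a : ℕ →₀ G) (n : ℕ) : ev (a.mapDomain Nat.succ) n = ev1 a n := by
  unfold ev ev1
  exact Finsupp.sum_mapDomain_index (fun i => smul_zero _) (fun i c₁ c₂ => smul_add _ _ _)

lemma ev1_succ_sub (a : ℕ →₀ G) (n : ℕ) : ev1 a (n + 1) - ev1 a n = ev a n := by
  unfold ev ev1
  rw [← Finsupp.sum_sub]
  apply Finsupp.sum_congr
  intro i _
  rw [← sub_smul, Nat.choose_succ_succ]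
  congr 1
  push_cast
  ring

lemma ev1_succ (a : ℕ →₀ G) (n : ℕ) : ev1 a (n + 1) = ev a n + ev1 a n := by
  rw [← ev1_succ_sub a n]; abel

/-- `h` is eventually a numerical polynomial with coefficients in `G`. -/
def IsNumPoly (h : ℕ → G) : Prop := ∃ (a : ℕ →₀ G) (N : ℕ), ∀ n, N ≤ n → h n = ev a n

lemma isNumPoly_of_eventually_zero {h : ℕ → G} (N : ℕ) (hN : ∀ n, N ≤ n → h n = 0) :
    IsNumPoly h := ⟨0, N, fun n hn => by rw [hN n hn]; simp [ev]⟩

lemma IsNumPoly.step {f g h : ℕ → G} (hf : IsNumPoly f) (hg : IsNumPoly g)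
    (hh : ∀ i, h (i + 1) + g i = h i + f (i + 1)) : IsNumPoly h := by
  obtain ⟨a, Na, ha⟩ := hf
  obtain ⟨b, Nb, hb⟩ := hg
  set N := max Na Nb with hNdef
  -- antiderivative
  let H : ℕ → G := fun n => ev1 a (n + 1) - ev1 b n
  have hH : ∀ n, N ≤ n → h (n + 1) - h n = H (n + 1) - H n := by
    intro n hn
    have h1 : h (n + 1) - h n = f (n + 1) - g n := by
      have := hh n
      rw [sub_eq_sub_iff_add_eq_add]
      rw [this]; abel
    rw [h1, ha (n + 1) (by omega), hb n (by omega)]
    show _ = (ev1 a (n + 1 + 1) - ev1 b (n + 1)) - (ev1 a (n + 1) - ev1 b n)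
    rw [← ev1_succ_sub a (n + 1), ← ev1_succ_sub b n]
    abel
  have hconst : ∀ n, N ≤ n → h n - H n = h N - H N := by
    intro n hn
    induction n, hn using Nat.le_induction with
    | base => rfl
    | succ n hn ih =>
      have := hH n hn
      have e : h (n + 1) - H (n + 1) = (h (n + 1) - h n) - (H (n + 1) - H n) + (h n - H n) := by
        abel
      rw [e, this, ih]; abel
  refine ⟨Finsupp.single 0 (h N - H N) + (a + a.mapDomain Nat.succ - b.mapDomain Nat.succ), N,
    fun n hn => ?_⟩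
  rw [ev_add, ev_sub, ev_add, ev_single, ev_mapDomain_succ, ev_mapDomain_succ, ← ev1_succ,
    ← hconst n hn]
  show h n = h n - (ev1 a (n + 1) - ev1 b n) + (ev1 a (n + 1) - ev1 b n)
  abel

lemma IsNumPoly.exists_fin {h : ℕ → G} (hh : IsNumPoly h) :
    ∃ (r : ℕ) (a : Fin r → G) (N : ℕ), ∀ n : ℕ, N ≤ n →
      h n = ∑ i : Fin r, ((n.choose (i : ℕ) : ℕ) : ℤ) • a i := by
  obtain ⟨a, N, ha⟩ := hh
  refine ⟨a.support.sup id + 1, fun i => a i, N, fun n hn => ?_⟩
  rw [ha n hn, Fin.sum_univ_eq_sum_range (fun i => ((n.choose i : ℕ) : ℤ) • a i)]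
  unfold ev
  rw [Finsupp.sum]
  apply Finset.sum_subset
  · intro i hi
    rw [Finset.mem_range]
    have := Finset.le_sup (f := id) hi
    simp only [id] at this
    omega
  · intro i _ hi
    rw [Finsupp.notMem_support_iff.mp hi, smul_zero]

end numpoly

section cls

open CategoryTheory Groth.Agent.Lib.KZeroSub

variable (A : Type u) [CommRing A]

/-- The property of being a finite module. -/
abbrev Pfin : ObjectProperty (ModuleCat.{u} A) := fun M : ModuleCat.{u} A => Module.Finite A M

/-- The class of a module in `K'₀(A)`. -/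
noncomputable abbrev cls (M : Type u) [AddCommGroup M] [Module A M] : KZero.K0sub (Pfin A) :=
  KZero.clSub (Pfin A) (ModuleCat.of A M)

variable {A}

theorem cls_exact {M N L : Type u} [AddCommGroup M] [Module A M] [AddCommGroup N] [Module A N]
    [AddCommGroup L] [Module A L] [Module.Finite A M] [Module.Finite A N] [Module.Finite A L]
    (f : M →ₗ[A] N) (g : N →ₗ[A] L) (hinj : Function.Injective f)
    (hsurj : Function.Surjective g) (hex : Function.Exact f g) : cls A N = cls A M + cls A L := by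
  let S : ShortComplex (ModuleCat.{u} A) :=
    ShortComplex.mk (ModuleCat.ofHom f) (ModuleCat.ofHom g) (by
      ext x
      exact hex.apply_apply_eq_zero x)
  have hS : S.ShortExact := ModuleCat.shortComplex_shortExact S hex hinj hsurj
  exact clSub_shortExact (Pfin A) S hS (inferInstanceAs (Module.Finite A M))
    (inferInstanceAs (Module.Finite A N)) (inferInstanceAs (Module.Finite A L))

theorem cls_subsingleton (M : Type u) [AddCommGroup M] [Module A M] [Subsingleton M] :
    cls A M = 0 := by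
  have h := cls_exact (A := A) (0 : M →ₗ[A] M) (0 : M →ₗ[A] M)
    (fun x y _ => Subsingleton.elim _ _) (fun x => ⟨0, Subsingleton.elim _ _⟩)
    (fun x => ⟨fun _ => ⟨0, Subsingleton.elim _ _⟩, fun _ => Subsingleton.elim _ _⟩)
  have h3 : cls A M = cls A M + cls A M - cls A M := by abel
  rw [← h] at h3
  rw [h3, sub_self]

theorem cls_equiv {M N : Type u} [AddCommGroup M] [Module A M] [AddCommGroup N] [Module A N]
    [Module.Finite A M] [Module.Finite A N] (e : M ≃ₗ[A] N) : cls A M = cls A N := by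
  have h := cls_exact (A := A) e.toLinearMap (0 : N →ₗ[A] PUnit.{u + 1})
    e.injective (fun x => ⟨0, Subsingleton.elim _ _⟩)
    (fun x => ⟨fun _ => ⟨e.symm x, by simp⟩, fun _ => Subsingleton.elim _ _⟩)
  rw [h, cls_subsingleton PUnit.{u + 1}, add_zero]

end cls

section kercoker

variable {R : Type*} [CommRing R] {M : Type*} [AddCommGroup M] [Module R M]
  (ℳ : ℕ → Submodule R M) (hind : iSupIndep ℳ) (hsup : ⨆ i, ℳ i = ⊤) (x : M →ₗ[R] M)
  (hx : ∀ i m, m ∈ ℳ i → x m ∈ ℳ (i + 1))

section ker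

variable {K : Type*} [AddCommGroup K] [Module R K] (ι : K →ₗ[R] M) (hι : Function.Injective ι)
  (hιr : LinearMap.range ι = LinearMap.ker x)

include hι hιr in
lemma exists_exact_ker (i : ℕ) :
    ∃ (g : ((ℳ i).comap ι) →ₗ[R] (ℳ i))
      (f : (ℳ i) →ₗ[R] LinearMap.range (x.domRestrict (ℳ i))),
      Function.Injective g ∧ Function.Surjective f ∧ Function.Exact g f := by
  let f := x.domRestrict (ℳ i)
  let g : ((ℳ i).comap ι) →ₗ[R] (ℳ i) :=
    (ι.domRestrict ((ℳ i).comap ι)).codRestrict (ℳ i) (fun k => k.2)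
  refine ⟨g, f.rangeRestrict, ?_, LinearMap.surjective_rangeRestrict f, ?_⟩
  · intro a b hab
    have : ι a.1 = ι b.1 := congrArg Subtype.val hab
    exact Subtype.ext (hι this)
  · intro y
    constructor
    · intro hy
      have hy' : x y.1 = 0 := congrArg Subtype.val hy
      have : y.1 ∈ LinearMap.range ι := by rw [hιr]; exact hy'
      obtain ⟨k, hk⟩ := this
      exact ⟨⟨k, by show ι k ∈ ℳ i; rw [hk]; exact y.2⟩, Subtype.ext hk⟩
    · rintro ⟨k, rfl⟩
      apply Subtype.ext
      show x (ι k.1) = 0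
      have : ι k.1 ∈ LinearMap.ker x := by rw [← hιr]; exact ⟨_, rfl⟩
      exact this

end ker

section coker

variable {C : Type*} [AddCommGroup C] [Module R C] (π : M →ₗ[R] C)
  (hπk : LinearMap.ker π = LinearMap.range x)

include hind hsup hx hπk in
lemma exists_exact_coker (i : ℕ) :
    ∃ (g₁ : LinearMap.range (x.domRestrict (ℳ i)) →ₗ[R] ℳ (i + 1))
      (g₂ : ℳ (i + 1) →ₗ[R] (ℳ (i + 1)).map π),
      Function.Injective g₁ ∧ Function.Surjective g₂ ∧ Function.Exact g₁ g₂ := by
  have hle : LinearMap.range (x.domRestrict (ℳ i)) ≤ ℳ (i + 1) := by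
    rintro _ ⟨m, rfl⟩
    exact hx i m.1 m.2
  let g₁ := Submodule.inclusion hle
  let g₂ : ℳ (i + 1) →ₗ[R] (ℳ (i + 1)).map π :=
    (π.domRestrict (ℳ (i + 1))).codRestrict _ (fun m => Submodule.mem_map_of_mem m.2)
  refine ⟨g₁, g₂, Submodule.inclusion_injective hle, ?_, ?_⟩
  · rintro ⟨c, m, hm, rfl⟩
    exact ⟨⟨m, hm⟩, rfl⟩
  · intro y
    constructor
    · intro hy
      have hy' : π y.1 = 0 := congrArg Subtype.val hy
      have h1 : y.1 ∈ ℳ (i + 1) ⊓ LinearMap.range x := ⟨y.2, by rw [← hπk]; exact hy'⟩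
      have h2 := inf_range_le ℳ hind hsup x hx (i + 1) h1
      obtain ⟨m, hm, hmy⟩ := h2
      exact ⟨⟨y.1, ⟨⟨m, hm⟩, hmy⟩⟩, Subtype.ext rfl⟩
    · rintro ⟨⟨_, ⟨m, rfl⟩⟩, rfl⟩
      apply Subtype.ext
      show π (x m.1) = 0
      have : x m.1 ∈ LinearMap.ker π := by rw [hπk]; exact ⟨_, rfl⟩
      exact this

include hind hsup hx hπk in
lemma exists_equiv_zero : Nonempty (ℳ 0 ≃ₗ[R] (ℳ 0).map π) := by
  let g₂ : ℳ 0 →ₗ[R] (ℳ 0).map π :=
    (π.domRestrict (ℳ 0)).codRestrict _ (fun m => Submodule.mem_map_of_mem m.2)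
  have hinj : Function.Injective g₂ := by
    rw [← LinearMap.ker_eq_bot, LinearMap.ker_eq_bot']
    intro y hy
    have hy' : π y.1 = 0 := congrArg Subtype.val hy
    have h1 : y.1 ∈ ℳ 0 ⊓ LinearMap.range x := ⟨y.2, by rw [← hπk]; exact hy'⟩
    have h2 := inf_range_le ℳ hind hsup x hx 0 h1
    have h3 : y.1 = 0 := (Submodule.mem_bot R).mp h2
    exact Subtype.ext h3
  have hsurj : Function.Surjective g₂ := by
    rintro ⟨c, m, hm, rfl⟩
    exact ⟨⟨m, hm⟩, rfl⟩
  exact ⟨LinearEquiv.ofBijective g₂ ⟨hinj, hsurj⟩⟩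

end coker

end kercoker

section main

variable {A S : Type u} [CommRing A] [CommRing S] [Algebra A S] [IsNoetherianRing S]

/-- if every element of `S` acts on `M` like an element of `A`, then `M` is Noetherian over `A` -/
lemma isNoetherian_of_act (M : Type u) [AddCommGroup M] [Module A M] [Module S M]
    [IsScalarTower A S M] [Module.Finite S M]
    (hact : ∀ (s : S) (m : M), ∃ a : A, s • m = a • m) : IsNoetherian A M := by
  have : IsNoetherian S M := isNoetherian_of_isNoetherianRing_of_finite S M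
  constructor
  intro N
  let N' : Submodule S M :=
    { carrier := N
      add_mem' := N.add_mem
      zero_mem' := N.zero_mem
      smul_mem' := fun s m hm => by
        obtain ⟨a, ha⟩ := hact s m
        rw [ha]
        exact N.smul_mem a hm }
  obtain ⟨G, hG⟩ := (IsNoetherian.noetherian N' : N'.FG)
  refine ⟨G, ?_⟩
  apply le_antisymm
  · rw [Submodule.span_le]
    intro g hg
    have : g ∈ N' := by rw [← hG]; exact Submodule.subset_span hg
    exact this
  · intro m hm
    have hm' : m ∈ Submodule.span S (G : Set M) := by rw [hG]; exact hm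
    clear hm
    induction hm' using Submodule.span_induction with
    | mem y hy => exact Submodule.subset_span hy
    | zero => exact Submodule.zero_mem _
    | add y z _ _ hy hz => exact Submodule.add_mem _ hy hz
    | smul s y _ hy =>
      obtain ⟨a, ha⟩ := hact s y
      rw [ha]
      exact Submodule.smul_mem _ _ hy

omit [IsNoetherianRing S] in
lemma baseK (M : Type u) [AddCommGroup M] [Module A M] [IsNoetherian A M]
    (ℳ : ℕ → Submodule A M) (hind : iSupIndep ℳ) (hsup : ⨆ i, ℳ i = ⊤) :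
    IsNumPoly (fun i => cls A (ℳ i)) := by
  have hfg : (⊤ : Submodule A M).FG := Module.Finite.fg_top
  rw [Submodule.fg_iff_compact] at hfg
  obtain ⟨s, hs⟩ := CompleteLattice.IsCompactElement.exists_finset_of_le_iSup
    (Submodule A M) hfg ℳ (by rw [hsup])
  refine isNumPoly_of_eventually_zero (s.sup id + 1) fun i hi => ?_
  have hi' : i ∉ s := fun h => by
    have := Finset.le_sup (f := id) h
    simp only [id] at this
    omega
  have hbot : ℳ i = ⊥ := by
    rw [eq_bot_iff]
    intro m hm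
    have h1 : m ∈ ⨆ j ∈ s, ℳ j := hs trivial
    have h2 : (⨆ j ∈ s, ℳ j) ≤ ⨆ (j : ℕ) (_ : j ≠ i), ℳ j := by
      apply iSup₂_mono'
      intro j hj
      exact ⟨j, fun h => hi' (h ▸ hj), le_rfl⟩
    exact (Submodule.mem_bot A).mpr (Submodule.disjoint_def.mp (hind i) m hm (h2 h1))
  have : Subsingleton (ℳ i) := by rw [hbot]; infer_instance
  exact cls_subsingleton _

variable {d : ℕ} (x : Fin d → S)

theorem claimK
    (hdec : ∀ s : S, ∃ a : A, s - algebraMap A S a ∈ Ideal.span (Set.range x))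
    (e : ℕ) (he : e ≤ d) :
    ∀ (M : Type u) [AddCommGroup M] [Module A M] [Module S M] [IsScalarTower A S M]
      [Module.Finite S M] (ℳ : ℕ → Submodule A M),
      (∀ (j : Fin d) (i : ℕ) (m : M), m ∈ ℳ i → x j • m ∈ ℳ (i + 1)) →
      iSupIndep ℳ → (⨆ i, ℳ i = ⊤) →
      (∀ j : Fin d, e ≤ j.val → ∀ m : M, x j • m = 0) →
      (∀ i, IsNoetherian A (ℳ i)) ∧ IsNumPoly (fun i => cls A (ℳ i)) := by
  induction e with
  | zero =>
    intro M _ _ _ _ _ ℳ hX hind hsup h0
    have hkill : ∀ s ∈ Ideal.span (Set.range x), ∀ m : M, s • m = 0 := by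
      intro s hs m
      induction hs using Submodule.span_induction with
      | mem y hy =>
        obtain ⟨j, rfl⟩ := hy
        exact h0 j (Nat.zero_le _) m
      | zero => exact zero_smul _ _
      | add y z _ _ hy hz => rw [add_smul, hy, hz, add_zero]
      | smul r y _ hy => rw [smul_eq_mul, mul_smul, hy, smul_zero]
    have hact : ∀ (s : S) (m : M), ∃ a : A, s • m = a • m := by
      intro s m
      obtain ⟨a, ha⟩ := hdec s
      refine ⟨a, ?_⟩
      have h1 := hkill _ ha m
      rw [sub_smul, algebraMap_smul, sub_eq_zero] at h1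
      exact h1
    have : IsNoetherian A M := isNoetherian_of_act M hact
    exact ⟨fun i => inferInstance, baseK M ℳ hind hsup⟩
  | succ e ih =>
    intro M _ _ _ _ _ ℳ hX hind hsup h0
    have he' : e < d := he
    specialize ih (by omega)
    let j₀ : Fin d := ⟨e, he'⟩
    let xS : M →ₗ[S] M := LinearMap.lsmul S M (x j₀)
    let xA : M →ₗ[A] M := xS.restrictScalars A
    have hx : ∀ i m, m ∈ ℳ i → xA m ∈ ℳ (i + 1) := fun i m hm => hX j₀ i m hm
    have : IsNoetherian S M := isNoetherian_of_isNoetherianRing_of_finite S M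
    -- the kernel
    let K : Submodule S M := LinearMap.ker xS
    let ι : K →ₗ[A] M := K.subtype.restrictScalars A
    have hι : Function.Injective ι := Subtype.val_injective
    have hιr : LinearMap.range ι = LinearMap.ker xA := by
      ext m
      constructor
      · rintro ⟨k, rfl⟩
        exact k.2
      · intro hm
        exact ⟨⟨m, hm⟩, rfl⟩
    obtain ⟨hKn, hKp⟩ := ih K (fun i => (ℳ i).comap ι)
      (fun j i k hk => hX j i k.1 hk) (ker_indep ℳ hind ι hι)
      (ker_iSup ℳ hind hsup xA hx ι hι hιr)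
      (fun j hj k => by
        apply Subtype.ext
        show x j • k.1 = 0
        rcases Nat.eq_or_lt_of_le hj with h | h
        · have : j = j₀ := Fin.ext h.symm
          rw [this]
          exact k.2
        · exact h0 j h k.1)
    -- the cokernel
    let P : Submodule S M := LinearMap.range xS
    let π : M →ₗ[A] (M ⧸ P) := P.mkQ.restrictScalars A
    have hπ : Function.Surjective π := Submodule.mkQ_surjective P
    have hπk : LinearMap.ker π = LinearMap.range xA := by
      ext m
      constructor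
      · intro hm
        have : m ∈ P := (Submodule.Quotient.mk_eq_zero P).mp hm
        obtain ⟨n, hn⟩ := this
        exact ⟨n, hn⟩
      · rintro ⟨n, rfl⟩
        exact (Submodule.Quotient.mk_eq_zero P).mpr ⟨n, rfl⟩
    obtain ⟨hCn, hCp⟩ := ih (M ⧸ P) (fun i => (ℳ i).map π)
      (fun j i c hc => by
        obtain ⟨m, hm, rfl⟩ := hc
        exact ⟨x j • m, hX j i m hm, rfl⟩)
      (coker_indep ℳ hind hsup xA hx π hπk)
      (coker_iSup ℳ hsup π hπ)
      (fun j hj c => by
        obtain ⟨m, rfl⟩ := Submodule.Quotient.mk_surjective P c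
        rw [← Submodule.Quotient.mk_smul]
        rcases Nat.eq_or_lt_of_le hj with h | h
        · have : j = j₀ := Fin.ext h.symm
          rw [this]
          exact (Submodule.Quotient.mk_eq_zero P).mpr ⟨m, rfl⟩
        · rw [h0 j h m]
          rfl)
    -- Noetherianity of the pieces
    have hMn : ∀ i, IsNoetherian A (ℳ i) := by
      intro i
      induction i with
      | zero =>
        obtain ⟨e0⟩ := exists_equiv_zero ℳ hind hsup xA hx π hπk
        have := hCn 0
        exact isNoetherian_of_linearEquiv e0.symm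
      | succ i ih2 =>
        obtain ⟨g, f, -, hf, -⟩ := exists_exact_ker ℳ xA ι hι hιr i
        have hQ : IsNoetherian A (LinearMap.range (xA.domRestrict (ℳ i))) :=
          isNoetherian_of_surjective f (LinearMap.range_eq_top.mpr hf)
        obtain ⟨g₁, g₂, -, -, hex⟩ := exists_exact_coker ℳ hind hsup xA hx π hπk i
        have := hCn (i + 1)
        exact isNoetherian_of_range_eq_ker g₁ g₂ (LinearMap.exact_iff.mp hex).symm
    refine ⟨hMn, ?_⟩
    refine IsNumPoly.step hCp hKp fun i => ?_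
    obtain ⟨g, f, hg, hf, hgf⟩ := exists_exact_ker ℳ xA ι hι hιr i
    obtain ⟨g₁, g₂, hg₁, hg₂, hex⟩ := exists_exact_coker ℳ hind hsup xA hx π hπk i
    have := hMn i
    have := hMn (i + 1)
    have := hKn i
    have := hCn (i + 1)
    have hQ : IsNoetherian A (LinearMap.range (xA.domRestrict (ℳ i))) :=
      isNoetherian_of_surjective f (LinearMap.range_eq_top.mpr hf)
    have e1 := cls_exact g f hg hf hgf
    have e2 := cls_exact g₁ g₂ hg₁ hg₂ hex
    show cls A (ℳ (i + 1)) + cls A ((ℳ i).comap ι) = cls A (ℳ i) + cls A ((ℳ (i + 1)).map π)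
    rw [e1, e2]
    abel

end main

section final

theorem numPoly_K0 {A S : Type u} [CommRing A] [CommRing S] [Algebra A S] [IsNoetherianRing S]
    (𝒜 : ℕ → Submodule A S) [GradedAlgebra 𝒜]
    (h0 : ∀ s ∈ 𝒜 0, s ∈ Set.range (algebraMap A S))
    (h1 : (HomogeneousIdeal.irrelevant 𝒜).toIdeal = Ideal.span (𝒜 1 : Set S))
    (M : Type u) [AddCommGroup M] [Module A M] [Module S M] [IsScalarTower A S M]
    [Module.Finite S M] (ℳ : ℕ → Submodule A M) [DirectSum.Decomposition ℳ]
    [SetLike.GradedSMul 𝒜 ℳ] :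
    ∃ (r : ℕ) (a : Fin r → KZero.K0sub (fun X : ModuleCat.{u} A => Module.Finite A X)) (N : ℕ),
      ∀ n : ℕ, N ≤ n →
      KZero.clSub (fun X : ModuleCat.{u} A => Module.Finite A X) (ModuleCat.of A ↥(ℳ n)) =
        ∑ i : Fin r, ((n.choose (i : ℕ) : ℕ) : ℤ) • a i := by
  have hfg : ((HomogeneousIdeal.irrelevant 𝒜).toIdeal).FG := IsNoetherian.noetherian _
  rw [h1] at hfg
  obtain ⟨s', hs'sub, hs'span⟩ := (Submodule.fg_span_iff_fg_span_finset_subset _).mp hfg
  let x : Fin s'.card → S := fun j => (s'.equivFin.symm j).1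
  have hxmem : ∀ j, x j ∈ 𝒜 1 := fun j => hs'sub (s'.equivFin.symm j).2
  have hrange : Set.range x = (s' : Set S) := by
    ext y
    constructor
    · rintro ⟨j, rfl⟩
      exact (s'.equivFin.symm j).2
    · intro hy
      exact ⟨s'.equivFin ⟨y, hy⟩, by simp [x]⟩
  have hdec : ∀ s : S, ∃ a : A, s - algebraMap A S a ∈ Ideal.span (Set.range x) := by
    intro s
    have hs0 : (DirectSum.decompose 𝒜 s 0 : S) ∈ 𝒜 0 := (DirectSum.decompose 𝒜 s 0).2
    obtain ⟨a, ha⟩ := h0 _ hs0
    refine ⟨a, ?_⟩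
    rw [hrange]
    have : Ideal.span (s' : Set S) = (HomogeneousIdeal.irrelevant 𝒜).toIdeal := by
      rw [h1]
      exact hs'span.symm
    rw [this, ha]
    show s - (DirectSum.decompose 𝒜 s 0 : S) ∈ HomogeneousIdeal.irrelevant 𝒜
    rw [HomogeneousIdeal.mem_irrelevant_iff, map_sub, GradedRing.proj_apply,
      GradedRing.proj_apply, DirectSum.decompose_of_mem_same 𝒜 hs0, sub_self]
  have hint := DirectSum.Decomposition.isInternal ℳ
  have hX : ∀ (j : Fin s'.card) (i : ℕ) (m : M), m ∈ ℳ i → x j • m ∈ ℳ (i + 1) := by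
    intro j i m hm
    have h2 := SetLike.GradedSMul.smul_mem (hxmem j) hm
    rw [vadd_eq_add, Nat.add_comm] at h2
    exact h2
  obtain ⟨-, hp⟩ := claimK x hdec s'.card le_rfl M ℳ hX hint.submodule_iSupIndep
    hint.submodule_iSup_eq_top (fun j hj => absurd j.2 (by omega))
  exact hp.exists_fin

end final

end Groth.Agent.Lib.HilbSerreK99
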