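import Mathlib

/-!
# Index computations for quotients by images of submodules (helper50)

For an injective linear map `T : W →ₗ[k] V` over a field and a submodule `N ≤ W` we relate the
quotients `W ⧸ N`, `V ⧸ range T` and `V ⧸ N.map T`:
`finrank (V ⧸ N.map T) = finrank (V ⧸ range T) + finrank (W ⧸ N)`, with the corresponding
finiteness statements.
-/

namespace Groth.Agent.Lib.QuotIndex50

open Module

variable {k : Type*} [Field k] {W V : Type*} [AddCommGroup W] [Module k W]
  [AddCommGroup V] [Module k V]

/-- the map `W ⧸ N → V ⧸ T(N)` induced by `T`. -/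
noncomputable def quotMapInj (T : W →ₗ[k] V) (N : Submodule k W) : (W ⧸ N) →ₗ[k] (V ⧸ N.map T) :=
  N.mapQ (N.map T) T (Submodule.le_comap_map T N)

/-- the projection `V ⧸ T(N) → V ⧸ range T`. -/
noncomputable def quotProj (T : W →ₗ[k] V) (N : Submodule k W) :
    (V ⧸ N.map T) →ₗ[k] (V ⧸ LinearMap.range T) :=
  (N.map T).mapQ (LinearMap.range T) LinearMap.id (by
    rintro _ ⟨n, -, rfl⟩
    exact ⟨n, rfl⟩)

lemma quotMapInj_injective (T : W →ₗ[k] V) (hT : Function.Injective T) (N : Submodule k W) :
    Function.Injective (quotMapInj T N) := by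
  rw [injective_iff_map_eq_zero]
  intro x hx
  induction x using Submodule.Quotient.induction_on with
  | H w =>
    simp only [quotMapInj, Submodule.mapQ_apply] at hx
    rw [Submodule.Quotient.mk_eq_zero] at hx ⊢
    obtain ⟨n, hn, hnw⟩ := hx
    rwa [← hT hnw]

lemma quotProj_surjective (T : W →ₗ[k] V) (N : Submodule k W) :
    Function.Surjective (quotProj T N) := by
  intro x
  induction x using Submodule.Quotient.induction_on with
  | H v => exact ⟨Submodule.Quotient.mk v, by simp [quotProj]⟩

lemma ker_quotProj (T : W →ₗ[k] V) (N : Submodule k W) :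
    LinearMap.ker (quotProj T N) = LinearMap.range (quotMapInj T N) := by
  ext x
  induction x using Submodule.Quotient.induction_on with
  | H v =>
    simp only [LinearMap.mem_ker, quotProj, Submodule.mapQ_apply, LinearMap.id_coe, id_eq,
      Submodule.Quotient.mk_eq_zero, LinearMap.mem_range]
    constructor
    · rintro ⟨w, rfl⟩
      exact ⟨Submodule.Quotient.mk w, by simp [quotMapInj]⟩
    · rintro ⟨y, hy⟩
      induction y using Submodule.Quotient.induction_on with
      | H w =>
        simp only [quotMapInj, Submodule.mapQ_apply] at hy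
        rw [Submodule.Quotient.eq] at hy
        obtain ⟨n, -, hn⟩ := hy
        refine ⟨w - n, ?_⟩
        rw [map_sub, hn]; abel

/-- finiteness of `V ⧸ T(N)` from finiteness of `V ⧸ range T` and `W ⧸ N`. -/
lemma finite_quot_map (T : W →ₗ[k] V) (N : Submodule k W)
    [Module.Finite k (V ⧸ LinearMap.range T)] [Module.Finite k (W ⧸ N)] :
    Module.Finite k (V ⧸ N.map T) := by
  have : Module.Finite k (LinearMap.ker (quotProj T N)) := by
    rw [ker_quotProj]
    exact Module.Finite.range _
  have : Module.Finite k ((V ⧸ N.map T) ⧸ LinearMap.ker (quotProj T N)) :=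
    Module.Finite.equiv
      ((quotProj T N).quotKerEquivOfSurjective (quotProj_surjective T N)).symm
  exact Module.Finite.of_submodule_quotient (LinearMap.ker (quotProj T N))

lemma finite_quot_range (T : W →ₗ[k] V) (N : Submodule k W)
    [Module.Finite k (V ⧸ N.map T)] : Module.Finite k (V ⧸ LinearMap.range T) :=
  Module.Finite.of_surjective (quotProj T N) (quotProj_surjective T N)

lemma finite_quot_of_finite_quot_map (T : W →ₗ[k] V) (hT : Function.Injective T)
    (N : Submodule k W) [Module.Finite k (V ⧸ N.map T)] : Module.Finite k (W ⧸ N) :=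
  Module.Finite.of_injective (quotMapInj T N) (quotMapInj_injective T hT N)

/-- the index formula. -/
lemma finrank_quot_map (T : W →ₗ[k] V) (hT : Function.Injective T) (N : Submodule k W)
    [Module.Finite k (V ⧸ N.map T)] :
    finrank k (V ⧸ N.map T) = finrank k (V ⧸ LinearMap.range T) + finrank k (W ⧸ N) := by
  have h := LinearMap.finrank_range_add_finrank_ker (quotProj T N)
  rw [LinearMap.range_eq_top.2 (quotProj_surjective T N), finrank_top, ker_quotProj,
    LinearMap.finrank_range_of_inj (quotMapInj_injective T hT N)] at h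
  exact h.symm

end Groth.Agent.Lib.QuotIndex50

namespace Groth.Agent.Lib.QuotIndex50

open Module

variable {k : Type*} [Field k] {V : Type*} [AddCommGroup V] [Module k V]

/-- the projection `V ⧸ A → V ⧸ B` for `A ≤ B`. -/
noncomputable def quotLE {A B : Submodule k V} (h : A ≤ B) : (V ⧸ A) →ₗ[k] (V ⧸ B) :=
  A.mapQ B LinearMap.id h

lemma quotLE_surjective {A B : Submodule k V} (h : A ≤ B) : Function.Surjective (quotLE h) := by
  intro x
  induction x using Submodule.Quotient.induction_on with
  | H v => exact ⟨Submodule.Quotient.mk v, by simp [quotLE]⟩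

lemma finite_quot_of_le {A B : Submodule k V} (h : A ≤ B) [Module.Finite k (V ⧸ A)] :
    Module.Finite k (V ⧸ B) :=
  Module.Finite.of_surjective (quotLE h) (quotLE_surjective h)

lemma finrank_quot_le_of_le {A B : Submodule k V} (h : A ≤ B) [Module.Finite k (V ⧸ A)] :
    finrank k (V ⧸ B) ≤ finrank k (V ⧸ A) := by
  have h1 := LinearMap.finrank_range_add_finrank_ker (quotLE h)
  rw [LinearMap.range_eq_top.2 (quotLE_surjective h), finrank_top] at h1
  omega

lemma eq_of_le_of_finrank_quot_eq {A B : Submodule k V} (h : A ≤ B) [Module.Finite k (V ⧸ A)]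
    (he : finrank k (V ⧸ B) = finrank k (V ⧸ A)) : A = B := by
  have h1 := LinearMap.finrank_range_add_finrank_ker (quotLE h)
  rw [LinearMap.range_eq_top.2 (quotLE_surjective h), finrank_top] at h1
  have h2 : finrank k (LinearMap.ker (quotLE h)) = 0 := by omega
  rw [Submodule.finrank_eq_zero] at h2
  refine le_antisymm h ?_
  intro b hb
  have : (Submodule.Quotient.mk b : V ⧸ A) ∈ LinearMap.ker (quotLE h) := by
    simp [quotLE, hb]
  rw [h2, Submodule.mem_bot, Submodule.Quotient.mk_eq_zero] at this
  exact this

end Groth.Agent.Lib.QuotIndex50
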