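import Mathlib
import Groth.Agent.Lib.QuotIndex50

/-!
# Ideals of a subalgebra of `∏ k⟦X⟧` viewed as `k`-submodules of the product (helper50)
-/

namespace Groth.Agent.Lib.HilbZetaImg50

open Module PowerSeries Groth.Agent.Lib.QuotIndex50

universe u
variable {k : Type u} [Field k] {s : ℕ}

/-- image in the product of an ideal of `R`, as a `k`-submodule. -/
noncomputable def img (R : Subalgebra k (Fin s → PowerSeries k)) (I : Ideal ↥R) :
    Submodule k (Fin s → PowerSeries k) :=
  (I.restrictScalars k).map R.val.toLinearMap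

lemma mem_img {R : Subalgebra k (Fin s → PowerSeries k)} {I : Ideal ↥R}
    {p : Fin s → PowerSeries k} :
    p ∈ img R I ↔ ∃ r ∈ I, (r : Fin s → PowerSeries k) = p := by
  simp [img]

lemma coe_img (R : Subalgebra k (Fin s → PowerSeries k)) (I : Ideal ↥R) :
    (img R I : Set (Fin s → PowerSeries k)) = Subtype.val '' (I : Set ↥R) := by
  ext p
  simp [mem_img]

lemma range_val (R : Subalgebra k (Fin s → PowerSeries k)) :
    LinearMap.range R.val.toLinearMap = Subalgebra.toSubmodule R := by
  ext p
  simp

lemma finite_quot_ideal_iff (R : Subalgebra k (Fin s → PowerSeries k)) (I : Ideal ↥R) :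
    Module.Finite k (↥R ⧸ I.restrictScalars k) ↔ Module.Finite k (↥R ⧸ I) :=
  Module.Finite.equiv_iff (Submodule.Quotient.restrictScalarsEquiv k I)

lemma finrank_quot_ideal (R : Subalgebra k (Fin s → PowerSeries k)) (I : Ideal ↥R) :
    finrank k (↥R ⧸ I.restrictScalars k) = finrank k (↥R ⧸ I) :=
  (Submodule.Quotient.restrictScalarsEquiv k I).finrank_eq

/-- `P ⧸ I'` is finite when `P ⧸ R` and `R ⧸ I` are. -/
lemma finite_quot_img (R : Subalgebra k (Fin s → PowerSeries k))
    (hfin : Module.Finite k ((Fin s → PowerSeries k) ⧸ Subalgebra.toSubmodule R))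
    (I : Ideal ↥R) (hI : Module.Finite k (↥R ⧸ I)) :
    Module.Finite k ((Fin s → PowerSeries k) ⧸ img R I) := by
  have h1 : Module.Finite k ((Fin s → PowerSeries k) ⧸ LinearMap.range R.val.toLinearMap) := by
    rw [range_val]; exact hfin
  have h2 : Module.Finite k (↥R ⧸ I.restrictScalars k) := (finite_quot_ideal_iff R I).2 hI
  exact finite_quot_map R.val.toLinearMap (I.restrictScalars k)

/-- `R ⧸ I` is finite when `P ⧸ I'` is. -/
lemma finite_quot_of_img (R : Subalgebra k (Fin s → PowerSeries k))
    (I : Ideal ↥R) (hI : Module.Finite k ((Fin s → PowerSeries k) ⧸ img R I)) :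
    Module.Finite k (↥R ⧸ I) := by
  rw [← finite_quot_ideal_iff]
  have hI' : Module.Finite k ((Fin s → PowerSeries k) ⧸
      (I.restrictScalars k).map R.val.toLinearMap) := hI
  exact finite_quot_of_finite_quot_map R.val.toLinearMap Subtype.val_injective
    (I.restrictScalars k)

/-- `dim P/I' = dim P/R + dim R/I`. -/
lemma finrank_quot_img (R : Subalgebra k (Fin s → PowerSeries k))
    (I : Ideal ↥R) (hI : Module.Finite k ((Fin s → PowerSeries k) ⧸ img R I)) :
    finrank k ((Fin s → PowerSeries k) ⧸ img R I) =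
      finrank k ((Fin s → PowerSeries k) ⧸ Subalgebra.toSubmodule R) + finrank k (↥R ⧸ I) := by
  have hI' : Module.Finite k ((Fin s → PowerSeries k) ⧸
      (I.restrictScalars k).map R.val.toLinearMap) := hI
  have h := finrank_quot_map R.val.toLinearMap Subtype.val_injective (I.restrictScalars k)
  rw [range_val, finrank_quot_ideal] at h
  exact h

end Groth.Agent.Lib.HilbZetaImg50
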