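import Groth.Statements.S19275

set_option autoImplicit false

namespace Groth.Agent.Lib.HochBC70
open TensorProduct

universe u v w

variable (K : Type u) [Field K] (A : Type v) [CommRing A] [Bialgebra K A]
  (V : Type v) [AddCommGroup V] [Module K V]
  (R : Type w) [CommRing R] [Algebra K R]

/-- the comparison isomorphisms `R ⊗ C^n(A,V) ≃ C^n(R ⊗ A, R ⊗ V)` -/
noncomputable def psi : ∀ n : ℕ,
    R ⊗[K] (Hoch.cochain K A V n) ≃ₗ[R] (Hoch.cochain R (R ⊗[K] A) (R ⊗[K] V) n)
  | 0 => LinearEquiv.refl R _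
  | n + 1 => (AlgebraTensorModule.distribBaseChange K R (Hoch.cochain K A V n) A) ≪≫ₗ
      TensorProduct.congr (psi n) (LinearEquiv.refl R (R ⊗[K] A))

theorem psi_zero (x : R ⊗[K] V) : psi K A V R 0 x = x := rfl

theorem psi_succ_tmul (n : ℕ) (r : R) (c : Hoch.cochain K A V n) (a : A) :
    psi K A V R (n + 1) (r ⊗ₜ[K] (c ⊗ₜ[K] a)) =
      (psi K A V R n (r ⊗ₜ[K] c)) ⊗ₜ[R] ((1 : R) ⊗ₜ[K] a) := rfl

theorem eq_psi
    (φ : ∀ n : ℕ, R ⊗[K] (Hoch.cochain K A V n) →ₗ[R] (Hoch.cochain R (R ⊗[K] A) (R ⊗[K] V) n))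
    (hφ0 : ∀ x : R ⊗[K] V, φ 0 x = x)
    (hφs : ∀ (n : ℕ) (r : R) (c : Hoch.cochain K A V n) (a : A),
      φ (n + 1) (r ⊗ₜ[K] (c ⊗ₜ[K] a)) = (φ n (r ⊗ₜ[K] c)) ⊗ₜ[R] ((1 : R) ⊗ₜ[K] a)) :
    ∀ n, φ n = (psi K A V R n).toLinearMap := by
  intro n
  induction n with
  | zero => ext x; exact hφ0 _
  | succ n ih =>
    refine LinearMap.ext fun z => ?_
    induction z using TensorProduct.induction_on with
    | zero => simp
    | add x y hx hy => rw [map_add, map_add, hx, hy]
    | tmul r x =>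
      induction x using TensorProduct.induction_on with
      | zero => simp
      | tmul c a =>
        rw [hφs, ih]
        rfl
      | add x y hx hy =>
        rw [tmul_add, map_add, map_add, hx, hy]

end Groth.Agent.Lib.HochBC70

namespace Groth.Agent.Lib.HochBC70
open TensorProduct

universe u v w

section general
variable (k : Type u) [CommRing k] (A : Type v) [Ring A] [Bialgebra k A]
  (V : Type v) [AddCommGroup V] [Module k V] [HopfRep.Comod k A V]

theorem d_succ_int (n : ℕ) :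
    Hoch.d k A V (n + 1) = (Hoch.d k A V n).rTensor A +
      ((-1 : ℤ) ^ (n + 1)) • Hoch.tail k A (Hoch.cochain k A V n) := by
  rw [Hoch.d_succ]
  congr 1
  rw [← Int.cast_smul_eq_zsmul k]
  simp

theorem d_succ_int_apply (n : ℕ) (x : (Hoch.cochain k A V n) ⊗[k] A) :
    Hoch.d k A V (n + 1) x = (Hoch.d k A V n).rTensor A x +
      ((-1 : ℤ) ^ (n + 1)) • Hoch.tail k A (Hoch.cochain k A V n) x := by
  rw [Hoch.d_succ, LinearMap.add_apply, LinearMap.smul_apply]
  congr 1
  rw [← Int.cast_smul_eq_zsmul k]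
  simp

end general

variable (K : Type u) [Field K] (A : Type v) [CommRing A] [Bialgebra K A]
  (R : Type w) [CommRing R] [Algebra K R]

/-- `a₁ ⊗ a₂ ↦ (1 ⊗ a₁) ⊗ (1 ⊗ a₂)` -/
noncomputable def TT : A ⊗[K] A →ₗ[K] (R ⊗[K] A) ⊗[R] (R ⊗[K] A) :=
  ((AlgebraTensorModule.tensorTensorTensorComm K R K R R R A A).toLinearMap.restrictScalars K) ∘ₗ
    (TensorProduct.mk K (R ⊗[R] R) (A ⊗[K] A) ((1 : R) ⊗ₜ[R] (1 : R)))

theorem TT_tmul (a₁ a₂ : A) :
    TT K A R (a₁ ⊗ₜ a₂) = ((1 : R) ⊗ₜ[K] a₁) ⊗ₜ[R] ((1 : R) ⊗ₜ[K] a₂) := rfl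

theorem comul_one_tmul (a : A) :
    Coalgebra.comul (R := R) (A := R ⊗[K] A) ((1 : R) ⊗ₜ[K] a) =
      TT K A R (Coalgebra.comul (R := K) a) := rfl

theorem redComul_one_tmul (a : A) :
    Hoch.redComul R (R ⊗[K] A) ((1 : R) ⊗ₜ[K] a) = TT K A R (Hoch.redComul K A a) := by
  rw [Hoch.redComul_apply, Hoch.redComul_apply, map_sub, map_sub, comul_one_tmul, TT_tmul, TT_tmul,
    Algebra.TensorProduct.one_def]

end Groth.Agent.Lib.HochBC70

namespace Groth.Agent.Lib.HochBC70
open TensorProduct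

universe u v w

variable (K : Type u) [Field K] (A : Type v) [CommRing A] [Bialgebra K A]
  (V : Type v) [AddCommGroup V] [Module K V]
  (R : Type w) [CommRing R] [Algebra K R]

theorem psi_assoc_symm (n : ℕ) (r : R) (c : Hoch.cochain K A V n) (t : A ⊗[K] A) :
    psi K A V R (n + 1 + 1) (r ⊗ₜ[K] ((TensorProduct.assoc K (Hoch.cochain K A V n) A A).symm (c ⊗ₜ t))) =
      (TensorProduct.assoc R (Hoch.cochain R (R ⊗[K] A) (R ⊗[K] V) n) (R ⊗[K] A) (R ⊗[K] A)).symm
        ((psi K A V R n (r ⊗ₜ[K] c)) ⊗ₜ[R] TT K A R t) := by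
  induction t using TensorProduct.induction_on with
  | zero => simp
  | tmul a₁ a₂ => rfl
  | add x y hx hy =>
    rw [tmul_add, map_add, tmul_add, map_add, hx, hy, map_add, tmul_add, map_add]

theorem psi_tail (n : ℕ) (r : R) (c : Hoch.cochain K A V n) (a : A) :
    psi K A V R (n + 1 + 1) (r ⊗ₜ[K] (Hoch.tail K A (Hoch.cochain K A V n) (c ⊗ₜ a))) =
      Hoch.tail R (R ⊗[K] A) (Hoch.cochain R (R ⊗[K] A) (R ⊗[K] V) n)
        ((psi K A V R n (r ⊗ₜ[K] c)) ⊗ₜ[R] ((1 : R) ⊗ₜ[K] a)) := by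
  have h1 : Hoch.tail K A (Hoch.cochain K A V n) (c ⊗ₜ a) =
      (TensorProduct.assoc K (Hoch.cochain K A V n) A A).symm (c ⊗ₜ Hoch.redComul K A a) := rfl
  have h2 : Hoch.tail R (R ⊗[K] A) (Hoch.cochain R (R ⊗[K] A) (R ⊗[K] V) n)
        ((psi K A V R n (r ⊗ₜ[K] c)) ⊗ₜ[R] ((1 : R) ⊗ₜ[K] a)) =
      (TensorProduct.assoc R (Hoch.cochain R (R ⊗[K] A) (R ⊗[K] V) n) (R ⊗[K] A) (R ⊗[K] A)).symm
        ((psi K A V R n (r ⊗ₜ[K] c)) ⊗ₜ[R] Hoch.redComul R (R ⊗[K] A) ((1 : R) ⊗ₜ[K] a)) := rfl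
  rw [h1, h2, psi_assoc_symm, redComul_one_tmul]

end Groth.Agent.Lib.HochBC70

namespace Groth.Agent.Lib.HochBC70
open TensorProduct

universe u v w

variable (K : Type u) [Field K] (A : Type v) [CommRing A] [Bialgebra K A]
  (V : Type v) [AddCommGroup V] [Module K V]
  (R : Type w) [CommRing R] [Algebra K R]

theorem psi_one_eq (r : R) (t : V ⊗[K] A) :
    psi K A V R 1 (r ⊗ₜ[K] t) =
      AlgebraTensorModule.tensorTensorTensorComm K R K R R R V A (((1 : R) ⊗ₜ[R] r) ⊗ₜ[K] t) := by
  induction t using TensorProduct.induction_on with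
  | zero => simp
  | tmul v a =>
    change ((r ⊗ₜ[K] v) ⊗ₜ[R] ((1 : R) ⊗ₜ[K] a) : (R ⊗[K] V) ⊗[R] (R ⊗[K] A)) =
      ((1 : R) ⊗ₜ[K] v) ⊗ₜ[R] (r ⊗ₜ[K] a)
    have h1 : (r ⊗ₜ[K] v : R ⊗[K] V) = r • ((1 : R) ⊗ₜ[K] v) := by
      rw [smul_tmul', smul_eq_mul, mul_one]
    have h2 : (r ⊗ₜ[K] a : R ⊗[K] A) = r • ((1 : R) ⊗ₜ[K] a) := by
      rw [smul_tmul', smul_eq_mul, mul_one]
    rw [h1, h2, smul_tmul]
  | add x y hx hy =>
    rw [tmul_add, map_add, tmul_add, map_add, hx, hy]

variable [HopfRep.Comod K A V]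

theorem psi_d :
    letI := CoactBr.Comod.baseChange K R A V
    ∀ (n : ℕ) (x : R ⊗[K] (Hoch.cochain K A V n)),
      psi K A V R (n + 1) ((Hoch.d K A V n).baseChange R x) =
        Hoch.d R (R ⊗[K] A) (R ⊗[K] V) n (psi K A V R n x) := by
  letI := CoactBr.Comod.baseChange K R A V
  intro n
  induction n with
  | zero =>
    intro x
    induction x using TensorProduct.induction_on with
    | zero => simp
    | add x y hx hy => rw [map_add, map_add, hx, hy, map_add, map_add]
    | tmul r v =>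
      rw [LinearMap.baseChange_tmul, Hoch.d_zero_apply, psi_zero, Hoch.d_zero_apply, tmul_sub,
        map_sub, psi_one_eq]
      rfl
  | succ n ih =>
    intro x
    induction x using TensorProduct.induction_on with
    | zero => simp
    | add x y hx hy => rw [map_add, map_add, hx, hy, map_add, map_add]
    | tmul r y =>
      induction y using TensorProduct.induction_on with
      | zero => simp
      | add x y hx hy => rw [tmul_add, map_add, map_add, hx, hy, map_add, map_add]
      | tmul c a =>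
        rw [LinearMap.baseChange_tmul, d_succ_int_apply, psi_succ_tmul, d_succ_int_apply]
        simp only [LinearMap.rTensor_tmul]
        have hz : ∀ (z : ℤ) (y : (Hoch.cochain K A V (n + 1)) ⊗[K] A),
            r ⊗ₜ[K] (z • y) = z • (r ⊗ₜ[K] y) := fun z y =>
          map_zsmul (TensorProduct.mk K R _ r) z y
        rw [tmul_add, map_add, hz, map_zsmul, psi_tail, psi_succ_tmul]
        have := ih (r ⊗ₜ[K] c)
        rw [LinearMap.baseChange_tmul] at this
        rw [this]

end Groth.Agent.Lib.HochBC70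

namespace Groth.Agent.Lib.HochBC70
open TensorProduct

universe u v₁ v₂ w w₁ w₂

section flatsubquot

variable {K : Type u} [CommRing K] {R : Type w} [CommRing R] [Algebra K R] [Module.Flat K R]
  {M : Type v₁} {N : Type v₂} [AddCommGroup M] [AddCommGroup N] [Module K M] [Module K N]
  {M' : Type w₁} {N' : Type w₂} [AddCommGroup M'] [AddCommGroup N'] [Module R M'] [Module R N']

theorem baseChange_apply_eq_lTensor {P Q : Type*} [AddCommGroup P] [AddCommGroup Q] [Module K P]
    [Module K Q] (f : P →ₗ[K] Q) (x : R ⊗[K] P) : f.baseChange R x = f.lTensor R x := rfl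

theorem baseChange_injective_of_flat {P Q : Type*} [AddCommGroup P] [AddCommGroup Q] [Module K P]
    [Module K Q] (f : P →ₗ[K] Q) (hf : Function.Injective f) :
    Function.Injective (f.baseChange R) :=
  Module.Flat.lTensor_preserves_injective_linearMap (M := R) f hf

theorem baseChange_exact_of_flat {P Q S : Type*} [AddCommGroup P] [AddCommGroup Q] [AddCommGroup S]
    [Module K P] [Module K Q] [Module K S] (f : P →ₗ[K] Q) (g : Q →ₗ[K] S)
    (h : Function.Exact f g) : Function.Exact (f.baseChange R) (g.baseChange R) :=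
  Module.Flat.lTensor_exact R h

theorem baseChange_exact_of_surjective {P Q S : Type*} [AddCommGroup P] [AddCommGroup Q]
    [AddCommGroup S]
    [Module K P] [Module K Q] [Module K S] (f : P →ₗ[K] Q) (g : Q →ₗ[K] S)
    (h : Function.Exact f g) (hg : Function.Surjective g) :
    Function.Exact (f.baseChange R) (g.baseChange R) :=
  lTensor_exact R h hg

theorem baseChange_surjective {P Q : Type*} [AddCommGroup P] [AddCommGroup Q] [Module K P]
    [Module K Q] (f : P →ₗ[K] Q) (hf : Function.Surjective f) :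
    Function.Surjective (f.baseChange R) :=
  LinearMap.lTensor_surjective R hf

theorem exists_subquot_equiv (f : M →ₗ[K] N) (B : Submodule K M)
    (f' : M' →ₗ[R] N') (B' : Submodule R M')
    (ψM : R ⊗[K] M ≃ₗ[R] M') (ψN : R ⊗[K] N ≃ₗ[R] N')
    (hf : ∀ x, ψN (f.baseChange R x) = f' (ψM x))
    (hB : B' = Submodule.map ψM.toLinearMap (LinearMap.range (B.subtype.baseChange R))) :
    ∃ e : R ⊗[K] (LinearMap.ker f ⧸ B.comap (LinearMap.ker f).subtype) ≃ₗ[R]
        (LinearMap.ker f' ⧸ B'.comap (LinearMap.ker f').subtype),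
      ∀ (r : R) (z : LinearMap.ker f) (hz : ψM (r ⊗ₜ[K] (z : M)) ∈ LinearMap.ker f'),
        e (r ⊗ₜ[K] Submodule.Quotient.mk z) = Submodule.Quotient.mk ⟨ψM (r ⊗ₜ[K] (z : M)), hz⟩ := by
  set Z := LinearMap.ker f with hZ
  set Z' := LinearMap.ker f' with hZ'
  let q : Z →ₗ[K] (Z ⧸ B.comap Z.subtype) := (B.comap Z.subtype).mkQ
  let q' : Z' →ₗ[R] (Z' ⧸ B'.comap Z'.subtype) := (B'.comap Z'.subtype).mkQ
  let ι : R ⊗[K] Z →ₗ[R] R ⊗[K] M := Z.subtype.baseChange R
  have hι : Function.Injective ι := baseChange_injective_of_flat _ Z.injective_subtype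
  have hfι : ∀ y, f.baseChange R (ι y) = 0 := by
    intro y
    have h0 : f ∘ₗ Z.subtype = 0 := by
      ext z; exact z.2
    change (f.baseChange R ∘ₗ Z.subtype.baseChange R) y = 0
    rw [← LinearMap.baseChange_comp, h0, LinearMap.baseChange_zero, LinearMap.zero_apply]
  have hex1 : Function.Exact ι (f.baseChange R) :=
    baseChange_exact_of_flat _ _ (LinearMap.exact_subtype_ker_map f)
  -- the comparison map on cycles
  let g : R ⊗[K] Z →ₗ[R] Z' := LinearMap.codRestrict Z' (ψM.toLinearMap ∘ₗ ι) (fun y => by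
    change f' (ψM (ι y)) = 0
    rw [← hf, hfι, map_zero])
  have hg_apply : ∀ y, ((g y : Z') : M') = ψM (ι y) := fun y => rfl
  have hg_surj : Function.Surjective g := by
    intro z'
    have h1 : f.baseChange R (ψM.symm z') = 0 := by
      apply ψN.injective
      rw [hf, LinearEquiv.apply_symm_apply, map_zero]
      exact z'.2
    obtain ⟨y, hy⟩ := (hex1 _).1 h1
    refine ⟨y, Subtype.ext ?_⟩
    rw [hg_apply, hy, LinearEquiv.apply_symm_apply]
  let G : R ⊗[K] Z →ₗ[R] (Z' ⧸ B'.comap Z'.subtype) := q' ∘ₗ g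
  have hG_surj : Function.Surjective G :=
    (Submodule.mkQ_surjective _).comp hg_surj
  have hq_surj : Function.Surjective (q.baseChange R) :=
    baseChange_surjective _ (Submodule.mkQ_surjective _)
  -- the kernels agree
  let h : Z →ₗ[K] M ⧸ B := B.mkQ ∘ₗ Z.subtype
  let j : (Z ⧸ B.comap Z.subtype) →ₗ[K] M ⧸ B := Submodule.liftQ _ h (by
    intro z hz
    rw [LinearMap.mem_ker]
    exact (Submodule.Quotient.mk_eq_zero B).2 hz)
  have hj : Function.Injective j := by
    rw [← LinearMap.ker_eq_bot, Submodule.ker_liftQ]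
    have : LinearMap.ker h = B.comap Z.subtype := by
      ext z
      rw [LinearMap.mem_ker]
      exact Submodule.Quotient.mk_eq_zero B
    rw [this, Submodule.mkQ_map_self]
  have hjq : j ∘ₗ q = h := Submodule.liftQ_mkQ _ _ _
  have hker : LinearMap.ker (q.baseChange R) = LinearMap.ker G := by
    ext y
    rw [LinearMap.mem_ker, LinearMap.mem_ker]
    have e1 : q.baseChange R y = 0 ↔ h.baseChange R y = 0 := by
      rw [← hjq, LinearMap.baseChange_comp, LinearMap.comp_apply]
      constructor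
      · intro h0; rw [h0, map_zero]
      · intro h0
        exact (baseChange_injective_of_flat (R := R) j hj) (by rw [h0, map_zero])
    have e2 : h.baseChange R y = 0 ↔ ι y ∈ LinearMap.range (B.subtype.baseChange R) := by
      have hex2 : Function.Exact (B.subtype.baseChange R) (B.mkQ.baseChange R) :=
        baseChange_exact_of_surjective _ _ (LinearMap.exact_subtype_mkQ B)
          (Submodule.mkQ_surjective B)
      have : h.baseChange R y = B.mkQ.baseChange R (ι y) := by
        change (B.mkQ ∘ₗ Z.subtype).baseChange R y = _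
        rw [LinearMap.baseChange_comp]; rfl
      rw [this]
      exact hex2 _
    have e3 : G y = 0 ↔ ι y ∈ LinearMap.range (B.subtype.baseChange R) := by
      change Submodule.Quotient.mk (g y) = 0 ↔ _
      rw [Submodule.Quotient.mk_eq_zero, Submodule.mem_comap, Submodule.subtype_apply, hg_apply,
        hB]
      constructor
      · rintro ⟨x, hx, hxy⟩
        have : x = ι y := ψM.injective hxy
        rwa [← this]
      · intro hy
        exact ⟨ι y, hy, rfl⟩
    rw [e1, e2, e3]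
  let e : R ⊗[K] (Z ⧸ B.comap Z.subtype) ≃ₗ[R] (Z' ⧸ B'.comap Z'.subtype) :=
    ((q.baseChange R).quotKerEquivOfSurjective hq_surj).symm ≪≫ₗ
      Submodule.quotEquivOfEq _ _ hker ≪≫ₗ G.quotKerEquivOfSurjective hG_surj
  have he : ∀ y, e (q.baseChange R y) = G y := by
    intro y
    change G.quotKerEquivOfSurjective hG_surj (Submodule.quotEquivOfEq _ _ hker
      (((q.baseChange R).quotKerEquivOfSurjective hq_surj).symm (q.baseChange R y))) = G y
    rw [LinearMap.quotKerEquivOfSurjective_symm_apply, Submodule.quotEquivOfEq_mk,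
      LinearMap.quotKerEquivOfSurjective_apply_mk]
  refine ⟨e, fun r z hz => ?_⟩
  have : (r ⊗ₜ[K] (Submodule.Quotient.mk z : Z ⧸ B.comap Z.subtype)) =
      q.baseChange R (r ⊗ₜ[K] z) := rfl
  rw [this, he]
  rfl

end flatsubquot

end Groth.Agent.Lib.HochBC70

namespace Groth.Agent.Lib.HochBC70
open TensorProduct

universe u v w

variable (K : Type u) [Field K] (A : Type v) [CommRing A] [Bialgebra K A]
  (V : Type v) [AddCommGroup V] [Module K V] [HopfRep.Comod K A V]
  (R : Type w) [CommRing R] [Algebra K R]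

theorem coboundaries_eq :
    letI := CoactBr.Comod.baseChange K R A V
    ∀ n : ℕ, Hoch.coboundaries R (R ⊗[K] A) (R ⊗[K] V) n =
      Submodule.map (psi K A V R n).toLinearMap
        (LinearMap.range ((Hoch.coboundaries K A V n).subtype.baseChange R)) := by
  let _ := CoactBr.Comod.baseChange K R A V
  intro n
  cases n with
  | zero =>
    have h0 : (Hoch.coboundaries K A V 0).subtype = 0 := by
      ext x
      have : (x : Hoch.cochain K A V 0) ∈ (⊥ : Submodule K (Hoch.cochain K A V 0)) := x.2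
      exact (Submodule.mem_bot K).1 this
    rw [h0, LinearMap.baseChange_zero, LinearMap.range_zero, Submodule.map_bot]
    rfl
  | succ n =>
    change LinearMap.range (Hoch.d R (R ⊗[K] A) (R ⊗[K] V) n) =
      Submodule.map (psi K A V R (n + 1)).toLinearMap
        (LinearMap.range ((LinearMap.range (Hoch.d K A V n)).subtype.baseChange R))
    have h1 : LinearMap.range ((LinearMap.range (Hoch.d K A V n)).subtype.baseChange R) =
        LinearMap.range ((Hoch.d K A V n).baseChange R) := by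
      have hc : Hoch.d K A V n =
          (LinearMap.range (Hoch.d K A V n)).subtype ∘ₗ (Hoch.d K A V n).rangeRestrict := rfl
      conv_rhs => rw [hc, LinearMap.baseChange_comp]
      rw [LinearMap.range_comp_of_range_eq_top]
      rw [LinearMap.range_eq_top]
      exact baseChange_surjective _ (LinearMap.surjective_rangeRestrict _)
    rw [h1, ← LinearMap.range_comp]
    have h2 : (psi K A V R (n + 1)).toLinearMap ∘ₗ (Hoch.d K A V n).baseChange R =
        Hoch.d R (R ⊗[K] A) (R ⊗[K] V) n ∘ₗ (psi K A V R n).toLinearMap :=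
      LinearMap.ext fun x => psi_d K A V R n x
    rw [h2, LinearMap.range_comp_of_range_eq_top]
    rw [LinearMap.range_eq_top]
    exact (psi K A V R n).surjective

theorem exists_H_equiv :
    letI := CoactBr.Comod.baseChange K R A V
    ∀ n : ℕ, ∃ e : R ⊗[K] Hoch.H K A V n ≃ₗ[R] Hoch.H R (R ⊗[K] A) (R ⊗[K] V) n,
        ∀ (r : R) (z : Hoch.cocycles K A V n)
          (hz : (psi K A V R n) (r ⊗ₜ[K] (z : Hoch.cochain K A V n)) ∈
            Hoch.cocycles R (R ⊗[K] A) (R ⊗[K] V) n),
          e (r ⊗ₜ[K] Hoch.H.mk K A V n z) = Hoch.H.mk R (R ⊗[K] A) (R ⊗[K] V) n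
            ⟨(psi K A V R n) (r ⊗ₜ[K] (z : Hoch.cochain K A V n)), hz⟩ := by
  let _ := CoactBr.Comod.baseChange K R A V
  intro n
  exact exists_subquot_equiv (Hoch.d K A V n) (Hoch.coboundaries K A V n)
    (Hoch.d R (R ⊗[K] A) (R ⊗[K] V) n) (Hoch.coboundaries R (R ⊗[K] A) (R ⊗[K] V) n)
    (psi K A V R n) (psi K A V R (n + 1)) (psi_d K A V R n) (coboundaries_eq K A V R n)

end Groth.Agent.Lib.HochBC70
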