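import Groth.Prelude.Def_DerLim
import Mathlib.CategoryTheory.Triangulated.Pretriangulated
import Mathlib.CategoryTheory.Limits.Shapes.Products

/-!
# Homotopy colimit of a subsequence (helper21)

* `exists_iso_of_retract` : if `u = r ≫ v ≫ a + (𝟙 - r ≫ a)` with `a ≫ r = 𝟙`, then any cone of `u`
  is isomorphic to any cone of `v`, compatibly with `r`.
-/

set_option autoImplicit false
set_option backward.isDefEq.respectTransparency false
universe v u

open CategoryTheory CategoryTheory.Limits CategoryTheory.Pretriangulated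

namespace Groth.Agent.Lib.HocolimSubseq

section Retract

variable {D : Type u} [Category.{v} D] [Preadditive D] [HasZeroObject D] [HasShift D ℤ]
  [∀ n : ℤ, (shiftFunctor D n).Additive] [Pretriangulated D]

/-- If `X'` is a retract of `X` (`a ≫ r = 𝟙`) and `u = v ⊕ 𝟙` in the sense that
`u = r ≫ v ≫ a + (𝟙 - r ≫ a)`, then the cones of `u` and `v` are isomorphic, compatibly with `r`. -/
theorem exists_iso_of_retract {X X' L' M : D} (v : X' ⟶ X') (σ' : X' ⟶ L')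
    (c' : L' ⟶ X'⟦(1 : ℤ)⟧) (hT' : Triangle.mk v σ' c' ∈ distTriang D)
    (a : X' ⟶ X) (r : X ⟶ X') (har : a ≫ r = 𝟙 X')
    (u : X ⟶ X) (hu : u = r ≫ v ≫ a + (𝟙 X - r ≫ a))
    (β' : X ⟶ M) (γ : M ⟶ X⟦(1 : ℤ)⟧) (hTu : Triangle.mk u β' γ ∈ distTriang D) :
    ∃ e : M ≅ L', β' ≫ e.hom = r ≫ σ' := by
  have h1 : v ≫ a = a ≫ u := by
    rw [hu, Preadditive.comp_add, Preadditive.comp_sub, Category.comp_id, reassoc_of% har,
      reassoc_of% har]
    abel
  have h2 : u ≫ r = r ≫ v := by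
    rw [hu, Preadditive.add_comp, Preadditive.sub_comp, Category.id_comp, Category.assoc,
      Category.assoc, Category.assoc, har, Category.comp_id, Category.comp_id]
    abel
  obtain ⟨ρ₀, hρ₁, hρ₂⟩ : ∃ ρ₀ : M ⟶ L', β' ≫ ρ₀ = r ≫ σ' ∧ γ ≫ r⟦(1 : ℤ)⟧' = ρ₀ ≫ c' :=
    complete_distinguished_triangle_morphism _ _ hTu hT' r r h2
  obtain ⟨α, hα₁, hα₂⟩ : ∃ α : L' ⟶ M, σ' ≫ α = a ≫ β' ∧ c' ≫ a⟦(1 : ℤ)⟧' = α ≫ γ :=
    complete_distinguished_triangle_morphism _ _ hT' hTu a a h1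
  -- `α ≫ ρ₀` is an isomorphism
  have hiso : IsIso (α ≫ ρ₀) := by
    let φ : Triangle.mk v σ' c' ⟶ Triangle.mk v σ' c' :=
      { hom₁ := 𝟙 _
        hom₂ := 𝟙 _
        hom₃ := α ≫ ρ₀
        comm₁ := by simp
        comm₂ := by
          change σ' ≫ α ≫ ρ₀ = 𝟙 _ ≫ σ'
          rw [Category.id_comp, reassoc_of% hα₁, hρ₁, reassoc_of% har]
        comm₃ := by
          change c' ≫ (𝟙 X')⟦(1 : ℤ)⟧' = (α ≫ ρ₀) ≫ c'
          rw [CategoryTheory.Functor.map_id, Category.comp_id, Category.assoc, ← hρ₂,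
            ← reassoc_of% hα₂, ← Functor.map_comp, har, CategoryTheory.Functor.map_id,
            Category.comp_id] }
    exact isIso₃_of_isIso₁₂ φ hT' hT' (by dsimp [φ]; infer_instance) (by dsimp [φ]; infer_instance)
  -- `ρ₀` is a monomorphism
  have hmono : Mono ρ₀ := by
    apply Preadditive.mono_of_cancel_zero
    intro Z z hz
    have key : ∀ g : Z ⟶ X⟦(1 : ℤ)⟧, g ≫ r⟦(1 : ℤ)⟧' = 0 → g ≫ u⟦(1 : ℤ)⟧' = 0 → g = 0 := by
      intro g e1 e2
      have hu' : u⟦(1 : ℤ)⟧' = r⟦(1 : ℤ)⟧' ≫ (v ≫ a)⟦(1 : ℤ)⟧' +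
          (𝟙 _ - r⟦(1 : ℤ)⟧' ≫ a⟦(1 : ℤ)⟧') := by
        rw [hu, Functor.map_add, Functor.map_sub, CategoryTheory.Functor.map_id, Functor.map_comp,
          Functor.map_comp, Functor.map_comp]
      rw [hu', Preadditive.comp_add, Preadditive.comp_sub, Category.comp_id, ← Category.assoc,
        ← Category.assoc, e1, zero_comp, zero_comp, zero_add, sub_zero] at e2
      exact e2
    have hg : z ≫ γ = 0 := by
      apply key
      · rw [Category.assoc, hρ₂, reassoc_of% hz, zero_comp]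
      · have : γ ≫ u⟦(1 : ℤ)⟧' = 0 := comp_distTriang_mor_zero₃₁ _ hTu
        rw [Category.assoc, this, comp_zero]
    obtain ⟨w, hw⟩ : ∃ w : Z ⟶ X, z = w ≫ β' := Triangle.coyoneda_exact₃ _ hTu z hg
    have hwr : (w ≫ r) ≫ σ' = 0 := by
      rw [Category.assoc, ← hρ₁, ← reassoc_of% hw, hz]
    obtain ⟨y, hy⟩ : ∃ y : Z ⟶ X', w ≫ r = y ≫ v := Triangle.coyoneda_exact₂ _ hT' (w ≫ r) hwr
    have hx : (y ≫ a + w - w ≫ r ≫ a) ≫ u = w := by
      have hxr : (y ≫ a + w - w ≫ r ≫ a) ≫ r = y := by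
        rw [Preadditive.sub_comp, Preadditive.add_comp, Category.assoc, Category.assoc,
          Category.assoc, har, Category.comp_id, Category.comp_id]
        abel
      rw [hu, Preadditive.comp_add, Preadditive.comp_sub, Category.comp_id, reassoc_of% hxr,
        reassoc_of% hxr, ← reassoc_of% hy]
      abel
    have h0 : u ≫ β' = 0 := comp_distTriang_mor_zero₁₂ _ hTu
    rw [hw, ← hx, Category.assoc, h0, comp_zero]
  have hsplit : IsSplitEpi ρ₀ :=
    ⟨⟨{ section_ := inv (α ≫ ρ₀) ≫ α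
        id := by rw [Category.assoc, IsIso.inv_hom_id] }⟩⟩
  have : IsIso ρ₀ := isIso_of_mono_of_isSplitEpi ρ₀
  exact ⟨asIso ρ₀, hρ₁⟩

end Retract

section Index

variable (n : ℕ → ℕ) (hn : StrictMono n)

include hn in
lemma exists_ge (m : ℕ) : ∃ i, m ≤ n i := ⟨m, hn.le_apply⟩

/-- The index of the first member of the subsequence which is `≥ m`. -/
def q (m : ℕ) : ℕ := Nat.find (exists_ge n hn m)

lemma q_spec (m : ℕ) : m ≤ n (q n hn m) := Nat.find_spec (exists_ge n hn m)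

variable {n} in
lemma q_le {m i : ℕ} (h : m ≤ n i) : q n hn m ≤ i := Nat.find_min' _ h

lemma q_apply (i : ℕ) : q n hn (n i) = i :=
  le_antisymm (q_le hn (le_refl _)) (hn.le_iff_le.1 (q_spec n hn (n i)))

lemma q_succ_apply (i : ℕ) : q n hn (n i + 1) = i + 1 :=
  le_antisymm (q_le hn (Nat.succ_le_of_lt (hn (Nat.lt_succ_self i))))
    (Nat.succ_le_of_lt (hn.lt_iff_lt.1 (Nat.lt_of_succ_le (q_spec n hn (n i + 1)))))

variable {n} in
lemma q_succ_of_ne {m : ℕ} (h : n (q n hn m) ≠ m) : q n hn (m + 1) = q n hn m :=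
  le_antisymm (q_le hn (Nat.succ_le_of_lt (lt_of_le_of_ne (q_spec n hn m) h.symm)))
    (q_le hn ((Nat.le_succ m).trans (q_spec n hn (m + 1))))

end Index

section Maps

variable {D : Type u} [Category.{v} D] [Preadditive D]
  (F : ℕ ⥤ D) (n : ℕ → ℕ) (hn : StrictMono n)

/-- Transition maps of the system. -/
abbrev t {m j : ℕ} (h : m ≤ j) : F.obj m ⟶ F.obj j := F.map (homOfLE h)

omit [Preadditive D] in
lemma t_comp {m j k : ℕ} (h : m ≤ j) (h' : j ≤ k) : t F h ≫ t F h' = t F (h.trans h') := by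
  rw [t, t, ← F.map_comp]
  rfl

omit [Preadditive D] in
lemma t_refl (m : ℕ) : t F (le_refl m) = 𝟙 _ := by
  rw [t]
  exact F.map_id _

variable [HasCoproduct (fun m : ℕ => F.obj m)] [HasCoproduct (fun i : ℕ => F.obj (n i))]

/-- Inclusion into the big coproduct. -/
noncomputable abbrev ιX (m : ℕ) : F.obj m ⟶ ∐ (fun m : ℕ => F.obj m) :=
  Sigma.ι (fun m : ℕ => F.obj m) m

/-- Inclusion into the coproduct of the subsequence. -/
noncomputable abbrev ιX' (i : ℕ) : F.obj (n i) ⟶ ∐ (fun i : ℕ => F.obj (n i)) :=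
  Sigma.ι (fun i : ℕ => F.obj (n i)) i

omit [Preadditive D] [HasCoproduct (fun i : ℕ => F.obj (n i))] in
lemma t_ι_congr {m j j' : ℕ} (h : j = j') (hle : m ≤ j) :
    t F hle ≫ ιX F j = t F (h ▸ hle) ≫ ιX F j' := by
  subst h
  rfl

omit [Preadditive D] [HasCoproduct (fun m : ℕ => F.obj m)] in
lemma t_ι'_congr {m i i' : ℕ} (h : i = i') (hle : m ≤ n i) :
    t F hle ≫ ιX' F n i = t F (h ▸ hle) ≫ ιX' F n i' := by
  subst h
  rfl

/-- The inclusion of the coproduct of the subsequence. -/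
noncomputable def a : (∐ (fun i : ℕ => F.obj (n i))) ⟶ ∐ (fun m : ℕ => F.obj m) :=
  Sigma.desc (fun i => ιX F (n i))

/-- The retraction onto the coproduct of the subsequence. -/
noncomputable def r : (∐ (fun m : ℕ => F.obj m)) ⟶ ∐ (fun i : ℕ => F.obj (n i)) :=
  Sigma.desc (fun m => if n (q n hn m) = m then t F (q_spec n hn m) ≫ ιX' F n (q n hn m) else 0)

omit [Preadditive D] in
@[reassoc (attr := simp)]
lemma ι_a (i : ℕ) : ιX' F n i ≫ a F n = ιX F (n i) := Sigma.ι_desc _ _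

@[reassoc]
lemma ι_r_apply (i : ℕ) : ιX F (n i) ≫ r F n hn = ιX' F n i := by
  rw [r, Sigma.ι_desc, if_pos (congrArg n (q_apply n hn i)),
    t_ι'_congr F n (q_apply n hn i), t_refl, Category.id_comp]

@[reassoc]
lemma ι_r_of_ne {m : ℕ} (h : n (q n hn m) ≠ m) : ιX F m ≫ r F n hn = 0 := by
  rw [r, Sigma.ι_desc, if_neg h]

@[reassoc (attr := simp)]
lemma a_r : a F n ≫ r F n hn = 𝟙 _ := by
  apply Sigma.hom_ext
  intro i
  rw [ι_a_assoc, ι_r_apply, Category.comp_id]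

/-- The shift map of the full system. -/
noncomputable abbrev s : (∐ (fun m : ℕ => F.obj m)) ⟶ ∐ (fun m : ℕ => F.obj m) :=
  DerLim.shiftMap (fun m : ℕ => F.obj m) (fun m : ℕ => F.map (homOfLE (Nat.le_succ m)))

/-- The shift map of the subsequence. -/
noncomputable abbrev s' : (∐ (fun i : ℕ => F.obj (n i))) ⟶ ∐ (fun i : ℕ => F.obj (n i)) :=
  DerLim.shiftMap (fun i : ℕ => F.obj (n i))
    (fun i : ℕ => F.map (homOfLE (hn.monotone (Nat.le_succ i))))

omit [Preadditive D] [HasCoproduct (fun i : ℕ => F.obj (n i))] in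
@[reassoc]
lemma ι_s (m : ℕ) : ιX F m ≫ s F = t F (Nat.le_succ m) ≫ ιX F (m + 1) := by
  rw [s, DerLim.shiftMap, Sigma.ι_desc]

omit [Preadditive D] [HasCoproduct (fun m : ℕ => F.obj m)] in
@[reassoc]
lemma ι_s' (i : ℕ) :
    ιX' F n i ≫ s' F n hn = t F (hn.monotone (Nat.le_succ i)) ≫ ιX' F n (i + 1) := by
  rw [s', DerLim.shiftMap, Sigma.ι_desc]

/-- The nilpotent map sending a summand outside the subsequence to the next member of the
subsequence. -/
noncomputable def B : (∐ (fun m : ℕ => F.obj m)) ⟶ ∐ (fun m : ℕ => F.obj m) :=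
  Sigma.desc (fun m => if n (q n hn m) = m then 0 else t F (q_spec n hn m) ≫ ιX F (n (q n hn m)))

omit [HasCoproduct (fun i : ℕ => F.obj (n i))] in
@[reassoc]
lemma ι_B_apply (i : ℕ) : ιX F (n i) ≫ B F n hn = 0 := by
  rw [B, Sigma.ι_desc, if_pos (congrArg n (q_apply n hn i))]

omit [HasCoproduct (fun i : ℕ => F.obj (n i))] in
@[reassoc]
lemma ι_B_of_ne {m : ℕ} (h : n (q n hn m) ≠ m) :
    ιX F m ≫ B F n hn = t F (q_spec n hn m) ≫ ιX F (n (q n hn m)) := by
  rw [B, Sigma.ι_desc, if_neg h]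

omit [HasCoproduct (fun i : ℕ => F.obj (n i))] in
@[reassoc (attr := simp)]
lemma B_B : B F n hn ≫ B F n hn = 0 := by
  apply Sigma.hom_ext
  intro m
  by_cases h : n (q n hn m) = m
  · rw [← h, ι_B_apply_assoc, zero_comp, comp_zero]
  · rw [ι_B_of_ne_assoc F n hn h, ι_B_apply, comp_zero, comp_zero]

/-- The unipotent automorphism `𝟙 - B`. -/
noncomputable def βIso : (∐ (fun m : ℕ => F.obj m)) ≅ ∐ (fun m : ℕ => F.obj m) where
  hom := 𝟙 _ - B F n hn
  inv := 𝟙 _ + B F n hn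
  hom_inv_id := by
    rw [Preadditive.sub_comp, Preadditive.comp_add, Preadditive.comp_add, Category.id_comp,
      Category.comp_id, Category.id_comp, B_B]
    abel
  inv_hom_id := by
    rw [Preadditive.add_comp, Preadditive.comp_sub, Preadditive.comp_sub, Category.id_comp,
      Category.comp_id, Category.id_comp, B_B]
    abel

omit [HasCoproduct (fun i : ℕ => F.obj (n i))] in
@[reassoc]
lemma ι_β_apply (i : ℕ) : ιX F (n i) ≫ (βIso F n hn).hom = ιX F (n i) := by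
  rw [βIso, Preadditive.comp_sub, Category.comp_id, ι_B_apply, sub_zero]

/-- The map `𝟙 - r ≫ s' ≫ a`, i.e. `(𝟙 - s') ⊕ 𝟙`. -/
noncomputable def uMap : (∐ (fun m : ℕ => F.obj m)) ⟶ ∐ (fun m : ℕ => F.obj m) :=
  𝟙 _ - r F n hn ≫ s' F n hn ≫ a F n

lemma uMap_eq : uMap F n hn =
    r F n hn ≫ (𝟙 _ - s' F n hn) ≫ a F n + (𝟙 _ - r F n hn ≫ a F n) := by
  rw [uMap, Preadditive.sub_comp, Preadditive.comp_sub, Category.id_comp]
  abel

/-- The "jump to the next member of the subsequence" map. -/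
noncomputable def s'' : (∐ (fun m : ℕ => F.obj m)) ⟶ ∐ (fun m : ℕ => F.obj m) :=
  Sigma.desc (fun m => t F ((Nat.le_succ m).trans (q_spec n hn (m + 1))) ≫
    ιX F (n (q n hn (m + 1))))

omit [Preadditive D] [HasCoproduct (fun i : ℕ => F.obj (n i))] in
@[reassoc]
lemma ι_s'' (m : ℕ) : ιX F m ≫ s'' F n hn =
    t F ((Nat.le_succ m).trans (q_spec n hn (m + 1))) ≫ ιX F (n (q n hn (m + 1))) := by
  rw [s'', Sigma.ι_desc]

lemma uMap_β : uMap F n hn ≫ (βIso F n hn).hom = 𝟙 _ - s'' F n hn := by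
  apply Sigma.hom_ext
  intro m
  rw [Preadditive.comp_sub, Category.comp_id, ι_s'']
  by_cases h : n (q n hn m) = m
  · have h1 : ιX F m ≫ uMap F n hn = ιX F m - t F ((Nat.le_succ m).trans (q_spec n hn (m + 1))) ≫
        ιX F (n (q n hn (m + 1))) := by
      obtain ⟨i, rfl⟩ : ∃ i, m = n i := ⟨_, h.symm⟩
      rw [uMap, Preadditive.comp_sub, Category.comp_id, ι_r_apply_assoc, ι_s'_assoc, ι_a,
        t_ι_congr F (congrArg n (q_succ_apply n hn i))]
    obtain ⟨i, rfl⟩ : ∃ i, m = n i := ⟨_, h.symm⟩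
    rw [reassoc_of% h1, Preadditive.sub_comp, ι_β_apply, Category.assoc, ι_β_apply]
  · have h1 : ιX F m ≫ uMap F n hn = ιX F m := by
      rw [uMap, Preadditive.comp_sub, Category.comp_id, ι_r_of_ne_assoc F n hn h, zero_comp,
        sub_zero]
    rw [reassoc_of% h1, βIso, Preadditive.comp_sub, Category.comp_id, ι_B_of_ne F n hn h,
      t_ι_congr F (congrArg n (q_succ_of_ne hn h))]

/-- The unipotent map `𝟙 - s°`, where `s°` is the shift map with the transition maps into members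
of the subsequence replaced by zero. -/
noncomputable def ρ : (∐ (fun m : ℕ => F.obj m)) ⟶ ∐ (fun m : ℕ => F.obj m) :=
  Sigma.desc (fun m => if n (q n hn (m + 1)) = m + 1 then ιX F m
    else ιX F m - t F (Nat.le_succ m) ≫ ιX F (m + 1))

omit [HasCoproduct (fun i : ℕ => F.obj (n i))] in
@[reassoc]
lemma ι_ρ_of_eq {m : ℕ} (h : n (q n hn (m + 1)) = m + 1) : ιX F m ≫ ρ F n hn = ιX F m := by
  rw [ρ, Sigma.ι_desc, if_pos h]

omit [HasCoproduct (fun i : ℕ => F.obj (n i))] in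
@[reassoc]
lemma ι_ρ_of_ne {m : ℕ} (h : n (q n hn (m + 1)) ≠ m + 1) :
    ιX F m ≫ ρ F n hn = ιX F m - t F (Nat.le_succ m) ≫ ιX F (m + 1) := by
  rw [ρ, Sigma.ι_desc, if_neg h]

omit [HasCoproduct (fun i : ℕ => F.obj (n i))] in
lemma ρ_comp : ρ F n hn ≫ (𝟙 _ - s'' F n hn) = 𝟙 _ - s F := by
  apply Sigma.hom_ext
  intro m
  by_cases h : n (q n hn (m + 1)) = m + 1
  · rw [ι_ρ_of_eq_assoc F n hn h, Preadditive.comp_sub, Preadditive.comp_sub, Category.comp_id,
      ι_s'', ι_s, t_ι_congr F h]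
  · rw [ι_ρ_of_ne_assoc F n hn h, Preadditive.comp_sub, Preadditive.comp_sub, Category.comp_id,
      Preadditive.sub_comp, Category.comp_id, Category.assoc, ι_s'', ι_s'',
      ι_s, ← Category.assoc (t F (Nat.le_succ m)), t_comp,
      t_ι_congr F (congrArg n (q_succ_of_ne hn h))]
    abel

/-- Partial sums `ι_m + f_m ι_{m+1} + ⋯ + f_{m+d-1} ⋯ f_m ι_{m+d}`. -/
noncomputable def Φ : ℕ → ∀ m : ℕ, F.obj m ⟶ ∐ (fun m : ℕ => F.obj m)
  | 0, m => ιX F m
  | d + 1, m => ιX F m + t F (Nat.le_succ m) ≫ Φ d (m + 1)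

omit [HasCoproduct (fun i : ℕ => F.obj (n i))] in
lemma Φ_ρ (d : ℕ) : ∀ m : ℕ, n (q n hn (m + 1)) - (m + 1) = d → Φ F d m ≫ ρ F n hn = ιX F m := by
  induction d with
  | zero =>
    intro m hm
    have h : n (q n hn (m + 1)) = m + 1 :=
      le_antisymm (Nat.sub_eq_zero_iff_le.1 hm) (q_spec n hn (m + 1))
    rw [Φ, ι_ρ_of_eq F n hn h]
  | succ d ih =>
    intro m hm
    have h : n (q n hn (m + 1)) ≠ m + 1 := by
      intro h
      rw [h] at hm
      simp at hm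
    have hq := q_succ_of_ne hn h
    have hm' : n (q n hn (m + 1 + 1)) - (m + 1 + 1) = d := by
      rw [hq]
      omega
    rw [Φ, Preadditive.add_comp, Category.assoc, ih (m + 1) hm', ι_ρ_of_ne F n hn h]
    abel

/-- The inverse of `ρ`. -/
noncomputable def ψ : (∐ (fun m : ℕ => F.obj m)) ⟶ ∐ (fun m : ℕ => F.obj m) :=
  Sigma.desc (fun m => Φ F (n (q n hn (m + 1)) - (m + 1)) m)

omit [HasCoproduct (fun i : ℕ => F.obj (n i))] in
@[reassoc]
lemma ι_ψ (m : ℕ) : ιX F m ≫ ψ F n hn = Φ F (n (q n hn (m + 1)) - (m + 1)) m := by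
  rw [ψ, Sigma.ι_desc]

/-- `ψ` as an isomorphism. -/
noncomputable def ψIso : (∐ (fun m : ℕ => F.obj m)) ≅ ∐ (fun m : ℕ => F.obj m) where
  hom := ψ F n hn
  inv := ρ F n hn
  hom_inv_id := by
    apply Sigma.hom_ext
    intro m
    rw [ι_ψ_assoc, Φ_ρ F n hn _ m rfl, Category.comp_id]
  inv_hom_id := by
    apply Sigma.hom_ext
    intro m
    rw [Category.comp_id]
    by_cases h : n (q n hn (m + 1)) = m + 1
    · rw [ι_ρ_of_eq_assoc F n hn h, ι_ψ]
      have : n (q n hn (m + 1)) - (m + 1) = 0 := by rw [h]; simp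
      rw [this, Φ]
    · rw [ι_ρ_of_ne_assoc F n hn h, Preadditive.sub_comp, Category.assoc, ι_ψ, ι_ψ]
      have hq := q_succ_of_ne hn h
      have hlt : m + 1 < n (q n hn (m + 1)) := lt_of_le_of_ne (q_spec n hn (m + 1)) (Ne.symm h)
      have : n (q n hn (m + 1)) - (m + 1) = (n (q n hn (m + 1 + 1)) - (m + 1 + 1)) + 1 := by
        rw [hq]
        omega
      rw [this, Φ]
      abel

omit [HasCoproduct (fun i : ℕ => F.obj (n i))] in
lemma ψ_comp : (ψIso F n hn).hom ≫ (𝟙 _ - s F) = 𝟙 _ - s'' F n hn := by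
  rw [← ρ_comp F n hn, ← Category.assoc]
  change ((ψIso F n hn).hom ≫ (ψIso F n hn).inv) ≫ _ = _
  rw [Iso.hom_inv_id, Category.id_comp]

lemma key : uMap F n hn ≫ (βIso F n hn).hom = (ψIso F n hn).hom ≫ (𝟙 _ - s F) := by
  rw [uMap_β, ψ_comp]

end Maps

section Main

variable {D : Type u} [Category.{v} D] [Preadditive D] [HasZeroObject D] [HasShift D ℤ]
  [∀ n : ℤ, (shiftFunctor D n).Additive] [Pretriangulated D]

/-- A homotopy colimit of a subsequence is isomorphic to a homotopy colimit of the sequence,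
compatibly with the structure maps. -/
theorem exists_iso_of_isHocolim (F : ℕ ⥤ D) (n : ℕ → ℕ) (hn : StrictMono n)
    [HasCoproduct (fun m : ℕ => F.obj m)] [HasCoproduct (fun i : ℕ => F.obj (n i))]
    (L : D) (ι : ∀ m : ℕ, F.obj m ⟶ L)
    (hL : DerLim.IsHocolim (fun m : ℕ => F.obj m)
      (fun m : ℕ => F.map (homOfLE (Nat.le_succ m))) L ι)
    (L' : D) (ι' : ∀ i : ℕ, F.obj (n i) ⟶ L')
    (hL' : DerLim.IsHocolim (fun i : ℕ => F.obj (n i))
      (fun i : ℕ => F.map (homOfLE (hn.monotone (Nat.le_succ i)))) L' ι') :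
    ∃ e : L' ≅ L, ∀ i : ℕ, ι' i ≫ e.hom = ι (n i) := by
  obtain ⟨c, hc⟩ := hL
  obtain ⟨c', hc'⟩ := hL'
  -- the triangle on `uMap` with vertex `L`
  have hTu : Triangle.mk (uMap F n hn) ((βIso F n hn).hom ≫ Sigma.desc ι)
      (c ≫ ((ψIso F n hn).inv)⟦(1 : ℤ)⟧') ∈ distTriang D := by
    refine isomorphic_distinguished _ hc _ ?_
    refine Triangle.isoMk _ _ (ψIso F n hn) (βIso F n hn) (Iso.refl _) ?_ ?_ ?_
    · exact key F n hn
    · change ((βIso F n hn).hom ≫ Sigma.desc ι) ≫ 𝟙 _ = (βIso F n hn).hom ≫ Sigma.desc ι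
      rw [Category.comp_id]
    · change (c ≫ ((ψIso F n hn).inv)⟦(1 : ℤ)⟧') ≫ ((ψIso F n hn).hom)⟦(1 : ℤ)⟧' = 𝟙 _ ≫ c
      rw [Category.assoc, ← Functor.map_comp, Iso.inv_hom_id, CategoryTheory.Functor.map_id,
        Category.comp_id, Category.id_comp]
  obtain ⟨e, he⟩ := exists_iso_of_retract _ _ _ hc' (a F n) (r F n hn) (a_r F n hn)
    (uMap F n hn) (uMap_eq F n hn) _ _ hTu
  refine ⟨e.symm, fun i => ?_⟩
  have h1 : ι (n i) ≫ e.hom = ι' i := by
    have h2 : ιX F (n i) ≫ ((βIso F n hn).hom ≫ Sigma.desc ι) ≫ e.hom =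
        ιX F (n i) ≫ r F n hn ≫ Sigma.desc ι' := by rw [he]
    rw [Category.assoc, ι_β_apply_assoc, Sigma.ι_desc_assoc, ι_r_apply_assoc, Sigma.ι_desc] at h2
    exact h2
  rw [Iso.symm_hom, ← h1, Category.assoc, Iso.hom_inv_id, Category.comp_id]

end Main

end Groth.Agent.Lib.HocolimSubseq
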