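import Mathlib

/-!
# Supports of two-variable integer power series with non-negative coefficients,
and the Hodge generating series of complete intersections (Deligne, SGA 7 XI)
-/

namespace Groth.Agent.Lib.HodgeCI38

open MvPowerSeries Finset
open scoped Pointwise

/-- Two-variable integer power series. -/
abbrev PS := MvPowerSeries (Fin 2) ℤ

/-- The exponent vector `(u, v)`. -/
noncomputable def e (u v : ℕ) : Fin 2 →₀ ℕ := Finsupp.single 0 u + Finsupp.single 1 v

@[simp] lemma e_apply_zero (u v : ℕ) : e u v 0 = u := by simp [e]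

@[simp] lemma e_apply_one (u v : ℕ) : e u v 1 = v := by simp [e]

lemma e_eta (m : Fin 2 →₀ ℕ) : e (m 0) (m 1) = m := by
  ext i
  fin_cases i <;> simp [e]

lemma e_add (u v u' v' : ℕ) : e u v + e u' v' = e (u + u') (v + v') := by
  ext i
  fin_cases i <;> simp [e]

lemma e_inj {u v u' v' : ℕ} : e u v = e u' v' ↔ u = u' ∧ v = v' := by
  constructor
  · intro h
    have h0 := DFunLike.congr_fun h 0
    have h1 := DFunLike.congr_fun h 1
    simp only [e_apply_zero, e_apply_one] at h0 h1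
    exact ⟨h0, h1⟩
  · rintro ⟨rfl, rfl⟩
    rfl

lemma e_zero : e 0 0 = 0 := by simp [e]

/-- All coefficients are non-negative. -/
def Nonneg (f : PS) : Prop := ∀ m, 0 ≤ coeff m f

/-- The support, as a subset of `ℕ × ℕ`. -/
def S (f : PS) : Set (ℕ × ℕ) := {p | coeff (e p.1 p.2) f ≠ 0}

lemma mem_S {f : PS} {p : ℕ × ℕ} : p ∈ S f ↔ coeff (e p.1 p.2) f ≠ 0 := Iff.rfl

lemma Nonneg.add {f g : PS} (hf : Nonneg f) (hg : Nonneg g) : Nonneg (f + g) := fun m => by
  rw [map_add]
  exact add_nonneg (hf m) (hg m)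

lemma Nonneg.mul {f g : PS} (hf : Nonneg f) (hg : Nonneg g) : Nonneg (f * g) := fun m => by
  rw [coeff_mul]
  exact Finset.sum_nonneg (fun x _ => mul_nonneg (hf _) (hg _))

lemma nonneg_zero : Nonneg 0 := fun m => by simp

lemma nonneg_one : Nonneg 1 := fun m => by
  rw [coeff_one]
  split_ifs <;> simp

lemma nonneg_sum {ι : Type*} (s : Finset ι) (f : ι → PS) (hf : ∀ i ∈ s, Nonneg (f i)) :
    Nonneg (∑ i ∈ s, f i) := fun m => by
  rw [map_sum]
  exact Finset.sum_nonneg (fun i hi => hf i hi m)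

lemma nonneg_prod {ι : Type*} [DecidableEq ι] (s : Finset ι) (f : ι → PS)
    (hf : ∀ i ∈ s, Nonneg (f i)) : Nonneg (∏ i ∈ s, f i) := by
  induction s using Finset.induction_on with
  | empty => simpa using nonneg_one
  | insert i s hi ih =>
    rw [Finset.prod_insert hi]
    exact (hf i (Finset.mem_insert_self _ _)).mul
      (ih (fun j hj => hf j (Finset.mem_insert_of_mem hj)))

lemma Nonneg.pow {f : PS} (hf : Nonneg f) (n : ℕ) : Nonneg (f ^ n) := by
  induction n with
  | zero => simpa using nonneg_one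
  | succ n ih =>
    rw [pow_succ]
    exact ih.mul hf

lemma S_add {f g : PS} (hf : Nonneg f) (hg : Nonneg g) : S (f + g) = S f ∪ S g := by
  ext p
  simp only [mem_S, Set.mem_union, map_add]
  rw [Ne, add_eq_zero_iff_of_nonneg (hf _) (hg _)]
  tauto

lemma mem_S_sum {ι : Type*} (s : Finset ι) (f : ι → PS) (hf : ∀ i ∈ s, Nonneg (f i))
    (p : ℕ × ℕ) : p ∈ S (∑ i ∈ s, f i) ↔ ∃ i ∈ s, p ∈ S (f i) := by
  simp only [mem_S, map_sum]
  rw [Ne, Finset.sum_eq_zero_iff_of_nonneg (fun i hi => hf i hi _)]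
  push Not
  rfl

lemma S_mul {f g : PS} (hf : Nonneg f) (hg : Nonneg g) : S (f * g) = S f + S g := by
  ext ⟨u, v⟩
  rw [mem_S, coeff_mul, Ne,
    Finset.sum_eq_zero_iff_of_nonneg (fun x _ => mul_nonneg (hf _) (hg _)), Set.mem_add]
  push Not
  constructor
  · rintro ⟨x, hx, hne⟩
    rw [Finset.HasAntidiagonal.mem_antidiagonal] at hx
    refine ⟨(x.1 0, x.1 1), ?_, (x.2 0, x.2 1), ?_, ?_⟩
    · rw [mem_S, e_eta]
      exact left_ne_zero_of_mul hne
    · rw [mem_S, e_eta]
      exact right_ne_zero_of_mul hne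
    · have h0 := DFunLike.congr_fun hx 0
      have h1 := DFunLike.congr_fun hx 1
      simp only [Finsupp.add_apply, e_apply_zero, e_apply_one] at h0 h1
      exact Prod.ext h0 h1
  · rintro ⟨⟨u₁, v₁⟩, h1, ⟨u₂, v₂⟩, h2, hsum⟩
    refine ⟨(e u₁ v₁, e u₂ v₂), ?_, mul_ne_zero h1 h2⟩
    rw [Finset.HasAntidiagonal.mem_antidiagonal, e_add]
    have := Prod.ext_iff.mp hsum
    simp only [Prod.mk_add_mk] at this
    rw [this.1, this.2]

lemma S_one : S (1 : PS) = 0 := by
  ext ⟨u, v⟩
  rw [mem_S, coeff_one, Set.mem_zero]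
  simp only [ne_eq, ite_eq_right_iff, one_ne_zero, imp_false, not_not]
  rw [← e_zero, e_inj]
  exact Prod.mk_eq_zero.symm

lemma S_zero : S (0 : PS) = ∅ := by
  ext p
  simp [mem_S]

lemma S_prod {ι : Type*} [DecidableEq ι] (s : Finset ι) (f : ι → PS)
    (hf : ∀ i ∈ s, Nonneg (f i)) : S (∏ i ∈ s, f i) = ∑ i ∈ s, S (f i) := by
  induction s using Finset.induction_on with
  | empty => simpa using S_one
  | insert i s hi ih =>
    rw [Finset.prod_insert hi, Finset.sum_insert hi,
      S_mul (hf i (Finset.mem_insert_self _ _))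
        (nonneg_prod s f (fun j hj => hf j (Finset.mem_insert_of_mem hj))),
      ih (fun j hj => hf j (Finset.mem_insert_of_mem hj))]

/-- The box `{(a, b) | a ≤ k, b ≤ k}`. -/
def Box (k : ℕ) : Set (ℕ × ℕ) := {p | p.1 ≤ k ∧ p.2 ≤ k}

lemma monomial_nonneg {m : Fin 2 →₀ ℕ} {c : ℤ} (hc : 0 ≤ c) : Nonneg (monomial m c) := fun n => by
  rw [coeff_monomial]
  split_ifs
  · exact hc
  · exact le_rfl

lemma S_monomial {u v : ℕ} {c : ℤ} (hc : c ≠ 0) : S (monomial (e u v) c) = {(u, v)} := by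
  ext ⟨u', v'⟩
  rw [mem_S, coeff_monomial, Set.mem_singleton_iff]
  simp only [ne_eq, ite_eq_right_iff, Classical.not_imp]
  rw [e_inj]
  constructor
  · rintro ⟨⟨rfl, rfl⟩, -⟩
    rfl
  · intro h
    have := Prod.ext_iff.mp h
    exact ⟨⟨this.1, this.2⟩, hc⟩

lemma natCast_mul_X_pow (n u v : ℕ) :
    (n : PS) * X 0 ^ u * X 1 ^ v = monomial (e u v) (n : ℤ) := by
  have h1 : (n : PS) = monomial (0 : Fin 2 →₀ ℕ) (n : ℤ) := by
    rw [monomial_zero_eq_C_apply, map_natCast]
  rw [h1, X_pow_eq, X_pow_eq, monomial_mul_monomial, monomial_mul_monomial]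
  simp [e]

/-! ### The series `P_b` and `N_b` -/

/-- `∑_{u, v ≥ 1, u + v ≤ b} C(b, u+v) y^u z^v`. -/
noncomputable def Pser (b : ℕ) : PS :=
  ∑ u ∈ Finset.range (b + 1), ∑ v ∈ Finset.range (b + 1),
    if 1 ≤ u ∧ 1 ≤ v ∧ u + v ≤ b then (b.choose (u + v) : PS) * X 0 ^ u * X 1 ^ v else 0

/-- `∑_{u + v + 1 ≤ b - 1} C(b - 1, u+v+1) y^u z^v`. -/
noncomputable def Nser (b : ℕ) : PS :=
  ∑ u ∈ Finset.range b, ∑ v ∈ Finset.range b,
    if u + v + 1 ≤ b - 1 then ((b - 1).choose (u + v + 1) : PS) * X 0 ^ u * X 1 ^ v else 0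

lemma term_nonneg (c : Prop) [Decidable c] (n u v : ℕ) :
    Nonneg (if c then (n : PS) * X 0 ^ u * X 1 ^ v else 0) := by
  split_ifs
  · rw [natCast_mul_X_pow]
    exact monomial_nonneg (Int.natCast_nonneg n)
  · exact nonneg_zero

lemma mem_S_term (c : Prop) [Decidable c] (n u v : ℕ) (hn : c → n ≠ 0) (p : ℕ × ℕ) :
    p ∈ S (if c then (n : PS) * X 0 ^ u * X 1 ^ v else 0) ↔ c ∧ p = (u, v) := by
  split_ifs with hc
  · rw [natCast_mul_X_pow, S_monomial (Int.natCast_ne_zero.mpr (hn hc)), Set.mem_singleton_iff]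
    exact ⟨fun h => ⟨hc, h⟩, fun h => h.2⟩
  · rw [S_zero]
    simp [hc]

lemma nonneg_Pser (b : ℕ) : Nonneg (Pser b) :=
  nonneg_sum _ _ (fun _ _ => nonneg_sum _ _ (fun _ _ => term_nonneg _ _ _ _))

lemma nonneg_Nser (b : ℕ) : Nonneg (Nser b) :=
  nonneg_sum _ _ (fun _ _ => nonneg_sum _ _ (fun _ _ => term_nonneg _ _ _ _))

lemma mem_S_Pser (b : ℕ) (p : ℕ × ℕ) :
    p ∈ S (Pser b) ↔ 1 ≤ p.1 ∧ 1 ≤ p.2 ∧ p.1 + p.2 ≤ b := by
  unfold Pser
  rw [mem_S_sum _ _ (fun _ _ => nonneg_sum _ _ (fun _ _ => term_nonneg _ _ _ _))]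
  constructor
  · rintro ⟨u, -, hu⟩
    rw [mem_S_sum _ _ (fun _ _ => term_nonneg _ _ _ _)] at hu
    obtain ⟨v, -, hv⟩ := hu
    rw [mem_S_term _ _ _ _ (fun h => (Nat.choose_pos h.2.2).ne')] at hv
    obtain ⟨hc, rfl⟩ := hv
    exact hc
  · intro hc
    refine ⟨p.1, Finset.mem_range.mpr (by omega), ?_⟩
    rw [mem_S_sum _ _ (fun _ _ => term_nonneg _ _ _ _)]
    refine ⟨p.2, Finset.mem_range.mpr (by omega), ?_⟩
    rw [mem_S_term _ _ _ _ (fun h => (Nat.choose_pos h.2.2).ne')]
    exact ⟨hc, rfl⟩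

lemma mem_S_Nser (b : ℕ) (p : ℕ × ℕ) : p ∈ S (Nser b) ↔ p.1 + p.2 + 2 ≤ b := by
  unfold Nser
  rw [mem_S_sum _ _ (fun _ _ => nonneg_sum _ _ (fun _ _ => term_nonneg _ _ _ _))]
  constructor
  · rintro ⟨u, -, hu⟩
    rw [mem_S_sum _ _ (fun _ _ => term_nonneg _ _ _ _)] at hu
    obtain ⟨v, -, hv⟩ := hu
    rw [mem_S_term _ _ _ _ (fun h => (Nat.choose_pos h).ne')] at hv
    obtain ⟨hc, rfl⟩ := hv
    simp only
    omega
  · intro hc
    refine ⟨p.1, Finset.mem_range.mpr (by omega), ?_⟩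
    rw [mem_S_sum _ _ (fun _ _ => term_nonneg _ _ _ _)]
    refine ⟨p.2, Finset.mem_range.mpr (by omega), ?_⟩
    rw [mem_S_term _ _ _ _ (fun h => (Nat.choose_pos h).ne')]
    exact ⟨by omega, rfl⟩

/-! ### The support of the hypersurface series -/

/-- The support of the hypersurface series of degree `a`. -/
def T (a : ℕ) : Set (ℕ × ℕ) :=
  {p | p.1 + p.2 + 2 ≤ (p.1 + 1) * a ∧ p.1 + p.2 + 2 ≤ (p.2 + 1) * a}

lemma mem_T {a : ℕ} {p : ℕ × ℕ} :
    p ∈ T a ↔ p.1 + p.2 + 2 ≤ (p.1 + 1) * a ∧ p.1 + p.2 + 2 ≤ (p.2 + 1) * a := Iff.rfl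

lemma T_rec (a u v : ℕ) :
    (u, v) ∈ T a ↔ u + v + 2 ≤ a ∨ ∃ u₁ v₁ u₂ v₂ : ℕ, 1 ≤ u₁ ∧ 1 ≤ v₁ ∧ u₁ + v₁ ≤ a ∧
      (u₂, v₂) ∈ T a ∧ u₁ + u₂ = u ∧ v₁ + v₂ = v := by
  constructor
  · intro h
    rw [mem_T] at h
    simp only at h
    obtain ⟨h1, h2⟩ := h
    rcases Nat.eq_zero_or_pos u with hu | hu
    · left
      subst hu
      omega
    rcases Nat.eq_zero_or_pos v with hv | hv
    · left
      subst hv
      omega
    right
    have ha : 2 ≤ a := by
      by_contra hcon
      have : a ≤ 1 := by omega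
      have h3 : (u + 1) * a ≤ (u + 1) * 1 := Nat.mul_le_mul_left _ this
      have h4 : (v + 1) * a ≤ (v + 1) * 1 := Nat.mul_le_mul_left _ this
      omega
    obtain ⟨a', rfl⟩ : ∃ a', a = a' + 2 := ⟨a - 2, by omega⟩
    obtain ⟨u', rfl⟩ : ∃ u', u = u' + 1 := ⟨u - 1, by omega⟩
    obtain ⟨v', rfl⟩ : ∃ v', v = v' + 1 := ⟨v - 1, by omega⟩
    rcases le_total u' v' with huv | huv
    · obtain ⟨w, rfl⟩ : ∃ w, v' = u' + w := ⟨v' - u', by omega⟩
      rcases le_total a' w with haw | haw
      · obtain ⟨w', rfl⟩ : ∃ w', w = a' + w' := ⟨w - a', by omega⟩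
        refine ⟨1, 1 + a', u', u' + w', le_rfl, by omega, by omega, ?_, by omega, by omega⟩
        rw [mem_T]
        simp only
        constructor <;> nlinarith
      · refine ⟨1, 1 + w, u', u', le_rfl, by omega, by omega, ?_, by omega, by omega⟩
        rw [mem_T]
        simp only
        constructor <;> nlinarith
    · obtain ⟨w, rfl⟩ : ∃ w, u' = v' + w := ⟨u' - v', by omega⟩
      rcases le_total a' w with haw | haw
      · obtain ⟨w', rfl⟩ : ∃ w', w = a' + w' := ⟨w - a', by omega⟩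
        refine ⟨1 + a', 1, v' + w', v', by omega, le_rfl, by omega, ?_, by omega, by omega⟩
        rw [mem_T]
        simp only
        constructor <;> nlinarith
      · refine ⟨1 + w, 1, v', v', by omega, le_rfl, by omega, ?_, by omega, by omega⟩
        rw [mem_T]
        simp only
        constructor <;> nlinarith
  · rintro (h | ⟨u₁, v₁, u₂, v₂, hu₁, hv₁, hle, hT, rfl, rfl⟩)
    · rw [mem_T]
      simp only
      constructor <;> nlinarith
    · rw [mem_T] at hT ⊢
      simp only at hT ⊢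
      obtain ⟨h1, h2⟩ := hT
      constructor <;> nlinarith

/-- If `(1 - P_a) H = N_a` then `H` has non-negative coefficients and support `T a`. -/
theorem hypersurface_series (a : ℕ) (H : PS) (hH : (1 - Pser a) * H = Nser a) :
    Nonneg H ∧ S H = T a := by
  have hrec : H = Nser a + Pser a * H := by
    rw [← hH]
    ring
  have key : ∀ n u v : ℕ, u + v = n →
      0 ≤ coeff (e u v) H ∧ (coeff (e u v) H ≠ 0 ↔ (u, v) ∈ T a) := by
    intro n
    induction n using Nat.strong_induction_on with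
    | _ n ih =>
    intro u v huv
    have hterm : ∀ x ∈ Finset.HasAntidiagonal.antidiagonal (e u v), 0 ≤ coeff x.1 (Pser a) * coeff x.2 H := by
      intro x hx
      rw [Finset.HasAntidiagonal.mem_antidiagonal] at hx
      by_cases h0 : coeff x.1 (Pser a) = 0
      · rw [h0, zero_mul]
      · have hP : (x.1 0, x.1 1) ∈ S (Pser a) := by
          rw [mem_S, e_eta]
          exact h0
        rw [mem_S_Pser] at hP
        have h0' := DFunLike.congr_fun hx 0
        have h1' := DFunLike.congr_fun hx 1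
        simp only [Finsupp.add_apply, e_apply_zero, e_apply_one] at h0' h1'
        have := (ih (x.2 0 + x.2 1) (by simp only at hP; omega) (x.2 0) (x.2 1) rfl).1
        rw [e_eta] at this
        exact mul_nonneg (nonneg_Pser a _) this
    have hcoeff : coeff (e u v) H = coeff (e u v) (Nser a) +
        ∑ x ∈ Finset.HasAntidiagonal.antidiagonal (e u v), coeff x.1 (Pser a) * coeff x.2 H := by
      conv_lhs => rw [hrec]
      rw [map_add, coeff_mul]
    refine ⟨?_, ?_⟩
    · rw [hcoeff]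
      exact add_nonneg (nonneg_Nser a _) (Finset.sum_nonneg hterm)
    · rw [hcoeff, Ne, add_eq_zero_iff_of_nonneg (nonneg_Nser a _) (Finset.sum_nonneg hterm),
        Finset.sum_eq_zero_iff_of_nonneg hterm, T_rec]
      push Not
      constructor
      · intro h
        by_cases hN : coeff (e u v) (Nser a) = 0
        · right
          obtain ⟨x, hx, hne⟩ := h hN
          rw [Finset.HasAntidiagonal.mem_antidiagonal] at hx
          have hP : (x.1 0, x.1 1) ∈ S (Pser a) := by
            rw [mem_S, e_eta]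
            exact left_ne_zero_of_mul hne
          rw [mem_S_Pser] at hP
          simp only at hP
          have h0' := DFunLike.congr_fun hx 0
          have h1' := DFunLike.congr_fun hx 1
          simp only [Finsupp.add_apply, e_apply_zero, e_apply_one] at h0' h1'
          have h2 := (ih (x.2 0 + x.2 1) (by omega) (x.2 0) (x.2 1) rfl).2
          rw [e_eta] at h2
          exact ⟨x.1 0, x.1 1, x.2 0, x.2 1, hP.1, hP.2.1, hP.2.2,
            h2.mp (right_ne_zero_of_mul hne), h0', h1'⟩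
        · left
          have : (u, v) ∈ S (Nser a) := hN
          rw [mem_S_Nser] at this
          exact this
      · rintro (h | ⟨u₁, v₁, u₂, v₂, hu₁, hv₁, hle, hT, rfl, rfl⟩)
        · intro hN
          exfalso
          have : (u, v) ∈ S (Nser a) := by
            rw [mem_S_Nser]
            exact h
          exact this hN
        · intro _
          refine ⟨(e u₁ v₁, e u₂ v₂), ?_, ?_⟩
          · rw [Finset.HasAntidiagonal.mem_antidiagonal, e_add]
          · apply mul_ne_zero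
            · have : (u₁, v₁) ∈ S (Pser a) := by
                rw [mem_S_Pser]
                exact ⟨hu₁, hv₁, hle⟩
              exact this
            · exact (ih (u₂ + v₂) (by omega) u₂ v₂ rfl).2.mpr hT
  refine ⟨fun m => ?_, ?_⟩
  · have := (key _ (m 0) (m 1) rfl).1
    rwa [e_eta] at this
  · ext ⟨u, v⟩
    exact (key _ u v rfl).2

/-! ### The box factor `((1+y)(1+z))^k` -/

lemma X0_eq : (X 0 : PS) = monomial (e 1 0) 1 := by
  rw [X_def]
  congr 1
  simp [e]

lemma X1_eq : (X 1 : PS) = monomial (e 0 1) 1 := by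
  rw [X_def]
  congr 1
  simp [e]

lemma nonneg_base : Nonneg ((1 + X 0) * (1 + X 1) : PS) := by
  apply Nonneg.mul
  · rw [X0_eq]
    exact nonneg_one.add (monomial_nonneg zero_le_one)
  · rw [X1_eq]
    exact nonneg_one.add (monomial_nonneg zero_le_one)

lemma S_base : S ((1 + X 0) * (1 + X 1) : PS) = Box 1 := by
  have h0 : Nonneg (X 0 : PS) := by
    rw [X0_eq]
    exact monomial_nonneg zero_le_one
  have h1 : Nonneg (X 1 : PS) := by
    rw [X1_eq]
    exact monomial_nonneg zero_le_one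
  rw [S_mul (nonneg_one.add h0) (nonneg_one.add h1), S_add nonneg_one h0, S_add nonneg_one h1,
    S_one, X0_eq, X1_eq, S_monomial one_ne_zero, S_monomial one_ne_zero]
  ext ⟨u, v⟩
  rw [Set.mem_add]
  constructor
  · rintro ⟨x, hx, y, hy, hxy⟩
    simp only [Set.mem_union, Set.mem_zero, Set.mem_singleton_iff] at hx hy
    rcases hx with rfl | rfl <;> rcases hy with rfl | rfl
    all_goals
      have := Prod.ext_iff.mp hxy
      simp at this
      obtain ⟨rfl, rfl⟩ := this
      simp [Box]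
  · rintro ⟨hu, hv⟩
    simp only at hu hv
    refine ⟨(u, 0), ?_, (0, v), ?_, by simp⟩
    · interval_cases u
      · left
        rfl
      · right
        rfl
    · interval_cases v
      · left
        rfl
      · right
        rfl

lemma Box_zero : Box 0 = 0 := by
  ext ⟨u, v⟩
  simp [Box, Prod.ext_iff]

lemma Box_add_one (k : ℕ) : Box k + Box 1 = Box (k + 1) := by
  ext ⟨u, v⟩
  rw [Set.mem_add]
  constructor
  · rintro ⟨⟨u₁, v₁⟩, ⟨h1, h2⟩, ⟨u₂, v₂⟩, ⟨h3, h4⟩, hxy⟩
    have := Prod.ext_iff.mp hxy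
    simp only [Prod.mk_add_mk] at this h1 h2 h3 h4
    constructor
    · simp only
      omega
    · simp only
      omega
  · rintro ⟨hu, hv⟩
    simp only at hu hv
    refine ⟨(min u k, min v k), ⟨min_le_right _ _, min_le_right _ _⟩,
      (u - min u k, v - min v k), ⟨?_, ?_⟩, ?_⟩
    · simp only
      omega
    · simp only
      omega
    · simp only [Prod.mk_add_mk]
      congr 1 <;> omega

lemma S_base_pow (k : ℕ) : S (((1 + X 0) * (1 + X 1) : PS) ^ k) = Box k := by
  induction k with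
  | zero => rw [pow_zero, S_one, Box_zero]
  | succ k ih => rw [pow_succ, S_mul (nonneg_base.pow k) nonneg_base, ih, S_base, Box_add_one]

/-! ### The arithmetic of the support of `H` -/

lemma exists_le_sum_eq {ι : Type*} [DecidableEq ι] (s : Finset ι) (c : ι → ℕ) :
    ∀ t : ℕ, t ≤ ∑ i ∈ s, c i → ∃ x : ι → ℕ, (∀ i, x i ≤ c i) ∧ ∑ i ∈ s, x i = t := by
  induction s using Finset.induction_on with
  | empty =>
    intro t ht
    refine ⟨fun _ => 0, fun _ => Nat.zero_le _, ?_⟩
    simp only [Finset.sum_empty] at ht ⊢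
    omega
  | insert i s hi ih =>
    intro t ht
    rw [Finset.sum_insert hi] at ht
    obtain ⟨x, hx1, hx2⟩ := ih (t - min t (c i)) (by omega)
    refine ⟨Function.update x i (min t (c i)), ?_, ?_⟩
    · intro j
      by_cases hj : j = i
      · subst hj
        rw [Function.update_self]
        exact min_le_right _ _
      · rw [Function.update_of_ne hj]
        exact hx1 j
    · rw [Finset.sum_insert hi, Function.update_self,
        Finset.sum_congr rfl (fun j hj =>
          Function.update_of_ne (ne_of_mem_of_not_mem hj hi) _ _), hx2]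
      omega

theorem arith_main (d : ℕ) (a : Fin d → ℕ) (ha : ∀ i, 1 ≤ a i) (p q : ℕ) (hpq : p ≤ q) :
    (∃ P : Finset (Fin d), P.Nonempty ∧ (p, q) ∈ Box (P.card - 1) + ∑ i ∈ P, T (a i)) ↔
      p + q + d < p * Finset.univ.sup a + ∑ i, a i := by
  set A := Finset.univ.sup a with hA
  have haA : ∀ i, a i ≤ A := fun i => Finset.le_sup (Finset.mem_univ i)
  constructor
  · rintro ⟨P, hP, ⟨e', f'⟩, ⟨he, hf⟩, w, hw, hsum⟩
    rw [Set.mem_finsetSum] at hw
    obtain ⟨g, hg, rfl⟩ := hw
    simp only at he hf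
    have hsum' := Prod.ext_iff.mp hsum
    simp only [Prod.fst_add, Prod.snd_add, Prod.fst_sum, Prod.snd_sum] at hsum'
    obtain ⟨hp, hq⟩ := hsum'
    have hc : 1 ≤ P.card := Finset.card_pos.mpr hP
    have hA1 : 1 ≤ A := by
      obtain ⟨i, _⟩ := hP
      exact (ha i).trans (haA i)
    have h1 : ∀ i ∈ P, (g i).1 + (g i).2 + 2 ≤ (g i).1 * A + a i := by
      intro i hi
      have h2 := (mem_T.mp (hg hi)).1
      have h3 : (g i).1 * a i ≤ (g i).1 * A := Nat.mul_le_mul_left _ (haA i)
      have h4 : ((g i).1 + 1) * a i = (g i).1 * a i + a i := by ring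
      omega
    have h2 : ∑ i ∈ P, (g i).1 + ∑ i ∈ P, (g i).2 + 2 * P.card ≤
        (∑ i ∈ P, (g i).1) * A + ∑ i ∈ P, a i := by
      have := Finset.sum_le_sum h1
      rw [Finset.sum_add_distrib, Finset.sum_add_distrib, Finset.sum_add_distrib,
        Finset.sum_const, smul_eq_mul, ← Finset.sum_mul] at this
      omega
    generalize ∑ i ∈ P, (g i).1 = U at hp h2
    generalize ∑ i ∈ P, (g i).2 = W at hq h2
    have h3 : (Pᶜ).card ≤ ∑ i ∈ Pᶜ, a i := by
      have := Finset.card_nsmul_le_sum Pᶜ a 1 (fun i _ => ha i)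
      simpa using this
    have h4 : ∑ i ∈ P, a i + ∑ i ∈ Pᶜ, a i = ∑ i, a i := Finset.sum_add_sum_compl P a
    have h5 : P.card + (Pᶜ).card = d := by
      rw [Finset.card_add_card_compl, Fintype.card_fin]
    have h6 : p * A = U * A + e' * A := by
      rw [← hp]
      ring
    have h7 : e' ≤ e' * A := Nat.le_mul_of_pos_right e' hA1
    omega
  · intro hlt
    classical
    set P₀ := Finset.univ.filter (fun i => 2 ≤ a i) with hP₀
    set k := P₀.card with hk
    have hcompl : ∑ i ∈ P₀ᶜ, a i = (P₀ᶜ).card := by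
      rw [Finset.card_eq_sum_ones]
      apply Finset.sum_congr rfl
      intro i hi
      rw [Finset.mem_compl, hP₀, Finset.mem_filter] at hi
      have := ha i
      have h2 : ¬ 2 ≤ a i := fun h => hi ⟨Finset.mem_univ _, h⟩
      omega
    have h4 : ∑ i ∈ P₀, a i + ∑ i ∈ P₀ᶜ, a i = ∑ i, a i := Finset.sum_add_sum_compl P₀ a
    have h5 : P₀.card + (P₀ᶜ).card = d := by
      rw [Finset.card_add_card_compl, Fintype.card_fin]
    have hlt' : p + q + k < p * A + ∑ i ∈ P₀, a i := by omega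
    have hne : P₀.Nonempty := by
      by_contra hemp
      rw [Finset.not_nonempty_iff_eq_empty] at hemp
      have hA1 : A ≤ 1 := by
        apply Finset.sup_le
        intro i _
        by_contra hcon
        have : i ∈ P₀ := by
          rw [hP₀, Finset.mem_filter]
          exact ⟨Finset.mem_univ _, by omega⟩
        rw [hemp] at this
        simp at this
      have h6 : p * A ≤ p * 1 := Nat.mul_le_mul_left _ hA1
      rw [hk, hemp] at hlt'
      simp at hlt'
      omega
    obtain ⟨j, hj⟩ := hne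
    have hunivne : (Finset.univ : Finset (Fin d)).Nonempty := ⟨j, Finset.mem_univ _⟩
    obtain ⟨i₀, -, hi₀⟩ := Finset.exists_mem_eq_sup Finset.univ hunivne a
    rw [← hA] at hi₀
    have hA2 : 2 ≤ A := by
      have := (Finset.mem_filter.mp hj).2
      exact this.trans (haA j)
    have hi₀P : i₀ ∈ P₀ := by
      rw [hP₀, Finset.mem_filter]
      exact ⟨Finset.mem_univ _, by omega⟩
    have hk1 : 1 ≤ k := Finset.card_pos.mpr ⟨j, hj⟩
    -- capacities
    set cap : Fin d → ℕ := fun i => (a i - 2) + (if i = i₀ then p * (A - 2) else 0) with hcap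
    have hsumcap : ∑ i ∈ P₀, cap i = ∑ i ∈ P₀, (a i - 2) + p * (A - 2) := by
      simp only [hcap]
      rw [Finset.sum_add_distrib, Finset.sum_ite_eq' P₀ i₀, if_pos hi₀P]
    have hsum2 : ∑ i ∈ P₀, (a i - 2) + 2 * k = ∑ i ∈ P₀, a i := by
      have : ∑ i ∈ P₀, a i = ∑ i ∈ P₀, ((a i - 2) + 2) := by
        apply Finset.sum_congr rfl
        intro i hi
        have := (Finset.mem_filter.mp hi).2
        omega
      rw [this, Finset.sum_add_distrib, Finset.sum_const, smul_eq_mul]
      omega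
    have hpA : p * A = p * (A - 2) + 2 * p := by
      obtain ⟨A', hA'⟩ : ∃ A', A = A' + 2 := ⟨A - 2, by omega⟩
      rw [hA']
      simp only [Nat.add_sub_cancel]
      ring
    set f' := min (q - p) (k - 1) with hf'
    have hcapt : q - p - f' ≤ ∑ i ∈ P₀, cap i := by
      rw [hsumcap]
      omega
    obtain ⟨x, hx1, hx2⟩ := exists_le_sum_eq P₀ cap _ hcapt
    refine ⟨P₀, ⟨j, hj⟩, ?_⟩
    rw [Set.mem_add]
    refine ⟨(0, f'), ⟨Nat.zero_le _, min_le_right _ _⟩,
      ∑ i ∈ P₀, ((if i = i₀ then p else 0), (if i = i₀ then p else 0) + x i), ?_, ?_⟩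
    · rw [Set.mem_finsetSum]
      refine ⟨fun i => ((if i = i₀ then p else 0), (if i = i₀ then p else 0) + x i), ?_, rfl⟩
      intro i hi
      rw [mem_T]
      have hai := (Finset.mem_filter.mp hi).2
      have hxi := hx1 i
      by_cases hii : i = i₀
      · subst hii
        simp only [hcap, ↓reduceIte] at hxi ⊢
        rw [← hi₀]
        have e1 : (p + 1) * A = p * (A - 2) + 2 * p + A := by
          rw [← hpA]
          ring
        have e2 : (p + x i + 1) * A = (p + 1) * A + x i * A := by ring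
        have e3 : x i * 2 ≤ x i * A := Nat.mul_le_mul_left _ hA2
        constructor <;> omega
      · simp only [if_neg hii, hcap, add_zero, zero_add] at hxi ⊢
        have e3 : (x i + 1) * 2 ≤ (x i + 1) * a i := Nat.mul_le_mul_left _ hai
        constructor <;> omega
    · apply Prod.ext
      · simp only [Prod.fst_add, Prod.fst_sum, zero_add]
        rw [Finset.sum_ite_eq' P₀ i₀, if_pos hi₀P]
      · simp only [Prod.snd_add, Prod.snd_sum]
        rw [Finset.sum_add_distrib, Finset.sum_ite_eq' P₀ i₀, if_pos hi₀P, hx2]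
        omega

/-- The generating series `H` attached to hypersurface series `Hs i`. -/
noncomputable def Hser (d : ℕ) (Hs : Fin d → PS) : PS :=
  ∑ P ∈ (Finset.univ : Finset (Fin d)).powerset with P.Nonempty,
    ((1 + X 0) * (1 + X 1)) ^ (P.card - 1) * ∏ i ∈ P, Hs i

/-- Deligne's criterion for the non-vanishing of the primitive Hodge numbers of complete
intersections, read off the generating series. -/
theorem coeff_Hser_ne_zero_iff (d : ℕ) (a : Fin d → ℕ) (ha : ∀ i, 1 ≤ a i) (Hs : Fin d → PS)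
    (hH : ∀ i, (1 - Pser (a i)) * Hs i = Nser (a i)) (p q : ℕ) (hpq : p ≤ q) :
    coeff (Finsupp.single 0 p + Finsupp.single 1 q) (Hser d Hs) ≠ 0 ↔
      p + q + d < p * Finset.univ.sup a + ∑ i, a i := by
  have hnn : ∀ i, Nonneg (Hs i) := fun i => (hypersurface_series (a i) (Hs i) (hH i)).1
  have hS : ∀ i, S (Hs i) = T (a i) := fun i => (hypersurface_series (a i) (Hs i) (hH i)).2
  have hterm : ∀ P : Finset (Fin d),
      Nonneg (((1 + X 0) * (1 + X 1) : PS) ^ (P.card - 1) * ∏ i ∈ P, Hs i) := fun P =>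
    (nonneg_base.pow _).mul (nonneg_prod P Hs (fun i _ => hnn i))
  rw [← arith_main d a ha p q hpq]
  change (p, q) ∈ S (Hser d Hs) ↔ _
  unfold Hser
  rw [mem_S_sum _ _ (fun P _ => hterm P)]
  constructor
  · rintro ⟨P, hP, hmem⟩
    rw [Finset.mem_filter] at hP
    refine ⟨P, hP.2, ?_⟩
    rw [S_mul (nonneg_base.pow _) (nonneg_prod P Hs (fun i _ => hnn i)), S_base_pow,
      S_prod P Hs (fun i _ => hnn i)] at hmem
    simpa only [hS] using hmem
  · rintro ⟨P, hP, hmem⟩
    refine ⟨P, Finset.mem_filter.mpr ⟨Finset.mem_powerset.mpr (Finset.subset_univ _), hP⟩, ?_⟩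
    rw [S_mul (nonneg_base.pow _) (nonneg_prod P Hs (fun i _ => hnn i)), S_base_pow,
      S_prod P Hs (fun i _ => hnn i)]
    simpa only [hS] using hmem

end Groth.Agent.Lib.HodgeCI38
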