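/-
Artin–Rees type statements for `Hom(M, N)` between finite modules over a Noetherian ring:
approximation of maps `M → N / I ^ n N` by honest maps, and maps with values in `I ^ n N`.
Author: helper89
-/
import Mathlib.RingTheory.Filtration
import Mathlib.RingTheory.Noetherian.Basic
import Mathlib.RingTheory.Finiteness.Cardinality
import Mathlib.Algebra.Module.Projective

set_option autoImplicit false

namespace Groth.Agent.Lib.HomArtinRees

section Aux

variable {R : Type*} [CommRing R] (J : Ideal R)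

theorem map_mem_smul_top {A B : Type*} [AddCommGroup A] [Module R A] [AddCommGroup B] [Module R B]
    (φ : A →ₗ[R] B) {x : A} (hx : x ∈ (J • ⊤ : Submodule R A)) :
    φ x ∈ (J • ⊤ : Submodule R B) := by
  have h : Submodule.map φ (J • ⊤) ≤ (J • ⊤ : Submodule R B) := by
    rw [Submodule.map_smul'']
    exact Submodule.smul_mono le_rfl le_top
  exact h ⟨x, hx, rfl⟩

/-- A linear map out of a finite free module all of whose values lie in `J N` lies in
`J Hom(F, N)`. -/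
theorem mem_smul_top_of_forall_apply_mem {a : ℕ} {N : Type*} [AddCommGroup N] [Module R N]
    (φ : (Fin a → R) →ₗ[R] N) (hφ : ∀ g, φ g ∈ (J • ⊤ : Submodule R N)) :
    φ ∈ (J • ⊤ : Submodule R ((Fin a → R) →ₗ[R] N)) := by
  classical
  have h1 : φ = ∑ j, (LinearMap.smulRightₗ (LinearMap.proj j : (Fin a → R) →ₗ[R] R))
      (φ (Pi.single j 1)) := by
    refine LinearMap.pi_ext fun i x => ?_
    rw [LinearMap.sum_apply]
    simp only [LinearMap.smulRightₗ_apply, LinearMap.smulRight_apply, LinearMap.proj_apply]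
    rw [Finset.sum_eq_single i]
    · rw [Pi.single_eq_same, ← map_smul]
      congr 1
      ext k
      simp [Pi.single_apply]
    · intro j _ hji
      rw [Pi.single_eq_of_ne hji, zero_smul]
    · intro hi
      exact absurd (Finset.mem_univ i) hi
  rw [h1]
  exact Submodule.sum_mem _ fun j _ => map_mem_smul_top J _ (hφ _)

theorem apply_mem_smul_top {F N : Type*} [AddCommGroup F] [Module R F] [AddCommGroup N]
    [Module R N] {δ : F →ₗ[R] N} (hδ : δ ∈ (J • ⊤ : Submodule R (F →ₗ[R] N))) (y : F) :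
    δ y ∈ (J • ⊤ : Submodule R N) :=
  map_mem_smul_top J (LinearMap.applyₗ y) hδ

end Aux

section Main

variable {A : Type*} [CommRing A] [IsNoetherianRing A] (I : Ideal A)
  (M N : Type*) [AddCommGroup M] [Module A M] [Module.Finite A M]
  [AddCommGroup N] [Module A N] [Module.Finite A N]

/-- **Approximation**: there is `c` such that for `n ≥ c` every map `ψ : M → N / I ^ n N` is
congruent modulo `I ^ (n - c)` to an honest map `φ : M → N`. -/
theorem exists_approx : ∃ c : ℕ, ∀ n, c ≤ n →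
    ∀ ψ : M →ₗ[A] N ⧸ (I ^ n • ⊤ : Submodule A N), ∃ φ : M →ₗ[A] N,
      ∀ x z, (Submodule.Quotient.mk z : N ⧸ (I ^ n • ⊤ : Submodule A N)) = ψ x →
        φ x - z ∈ (I ^ (n - c) • ⊤ : Submodule A N) := by
  classical
  obtain ⟨b, π, hπ⟩ := Module.Finite.exists_fin' A M
  have hKfin : Module.Finite A (LinearMap.ker π) := inferInstance
  obtain ⟨a, κ₀, hκ₀⟩ := Module.Finite.exists_fin' A (LinearMap.ker π)
  let κ : (Fin a → A) →ₗ[A] (Fin b → A) := (LinearMap.ker π).subtype ∘ₗ κ₀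
  have hκ : ∀ y, π y = 0 → ∃ g, κ g = y := by
    intro y hy
    obtain ⟨g, hg⟩ := hκ₀ ⟨y, hy⟩
    exact ⟨g, by simp [κ, hg]⟩
  have hπκ : ∀ g, π (κ g) = 0 := fun g => (κ₀ g).2
  let T : ((Fin b → A) →ₗ[A] N) →ₗ[A] ((Fin a → A) →ₗ[A] N) := LinearMap.lcomp A N κ
  obtain ⟨c, hc⟩ := Ideal.exists_pow_inf_eq_pow_smul I (LinearMap.range T)
  refine ⟨c, fun n hcn ψ => ?_⟩
  obtain ⟨χ, hχ⟩ := Module.projective_lifting_property
    (Submodule.mkQ (I ^ n • ⊤ : Submodule A N)) (ψ ∘ₗ π) (Submodule.mkQ_surjective _)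
  have hχ' : ∀ y, (Submodule.Quotient.mk (χ y) : N ⧸ (I ^ n • ⊤ : Submodule A N)) =
      ψ (π y) := fun y => LinearMap.congr_fun hχ y
  have hTχ : T χ ∈ (I ^ n • ⊤ : Submodule A ((Fin a → A) →ₗ[A] N)) := by
    refine mem_smul_top_of_forall_apply_mem _ _ fun g => ?_
    rw [LinearMap.lcomp_apply, ← Submodule.Quotient.mk_eq_zero, hχ', hπκ, map_zero]
  have h1 : T χ ∈ I ^ n • ⊤ ⊓ LinearMap.range T := ⟨hTχ, ⟨χ, rfl⟩⟩
  rw [hc n hcn] at h1
  have h2 : I ^ (n - c) • (I ^ c • ⊤ ⊓ LinearMap.range T) ≤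
      Submodule.map T (I ^ (n - c) • ⊤) := by
    rw [Submodule.map_smul'', Submodule.map_top]
    exact Submodule.smul_mono le_rfl inf_le_right
  obtain ⟨δ, hδ, hTδ⟩ := h2 h1
  have hker : LinearMap.ker π ≤ LinearMap.ker (χ - δ) := by
    intro y hy
    obtain ⟨g, rfl⟩ := hκ y hy
    have := LinearMap.congr_fun hTδ g
    rw [LinearMap.lcomp_apply, LinearMap.lcomp_apply] at this
    rw [LinearMap.mem_ker, LinearMap.sub_apply, this, sub_self]
  let φ : M →ₗ[A] N := (Submodule.liftQ (LinearMap.ker π) (χ - δ) hker) ∘ₗ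
    (LinearMap.quotKerEquivOfSurjective π hπ).symm.toLinearMap
  have hφ : ∀ y, φ (π y) = χ y - δ y := by
    intro y
    have : (LinearMap.quotKerEquivOfSurjective π hπ).symm (π y) =
        Submodule.Quotient.mk y := by
      rw [LinearEquiv.symm_apply_eq]
      rfl
    simp only [φ, LinearMap.comp_apply, LinearEquiv.coe_coe, this, Submodule.liftQ_apply,
      LinearMap.sub_apply]
  refine ⟨φ, fun x z hz => ?_⟩
  obtain ⟨y, rfl⟩ := hπ x
  rw [hφ]
  have e1 : χ y - z ∈ (I ^ n • ⊤ : Submodule A N) := by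
    rw [← Submodule.Quotient.mk_eq_zero, Submodule.Quotient.mk_sub, hχ', hz, sub_self]
  have e2 : δ y ∈ (I ^ (n - c) • ⊤ : Submodule A N) := apply_mem_smul_top _ hδ y
  have le1 : (I ^ n • ⊤ : Submodule A N) ≤ I ^ (n - c) • ⊤ :=
    Submodule.smul_mono_left (Ideal.pow_le_pow_right (Nat.sub_le n c))
  have : χ y - δ y - z = (χ y - z) - δ y := by abel
  rw [this]
  exact sub_mem (le1 e1) e2

/-- **Artin–Rees for `Hom`**: there is `c` such that for `n ≥ c` every map `M → N` with values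
in `I ^ n N` lies in `I ^ (n - c) Hom(M, N)`. -/
theorem exists_mem_pow_smul_top : ∃ c : ℕ, ∀ n, c ≤ n →
    ∀ φ : M →ₗ[A] N, (∀ x, φ x ∈ (I ^ n • ⊤ : Submodule A N)) →
      φ ∈ (I ^ (n - c) • ⊤ : Submodule A (M →ₗ[A] N)) := by
  classical
  obtain ⟨b, π, hπ⟩ := Module.Finite.exists_fin' A M
  let Λ : (M →ₗ[A] N) →ₗ[A] ((Fin b → A) →ₗ[A] N) := LinearMap.lcomp A N π
  have hΛ : Function.Injective Λ := by
    intro φ φ' h
    ext x
    obtain ⟨y, rfl⟩ := hπ x
    exact LinearMap.congr_fun h y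
  obtain ⟨c, hc⟩ := Ideal.exists_pow_inf_eq_pow_smul I (LinearMap.range Λ)
  refine ⟨c, fun n hcn φ hφ => ?_⟩
  have h0 : Λ φ ∈ (I ^ n • ⊤ : Submodule A ((Fin b → A) →ₗ[A] N)) :=
    mem_smul_top_of_forall_apply_mem _ _ fun g => hφ (π g)
  have h1 : Λ φ ∈ I ^ n • ⊤ ⊓ LinearMap.range Λ := ⟨h0, ⟨φ, rfl⟩⟩
  rw [hc n hcn] at h1
  have h2 : I ^ (n - c) • (I ^ c • ⊤ ⊓ LinearMap.range Λ) ≤
      Submodule.map Λ (I ^ (n - c) • ⊤) := by
    rw [Submodule.map_smul'', Submodule.map_top]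
    exact Submodule.smul_mono le_rfl inf_le_right
  obtain ⟨φ', hφ', hΛφ'⟩ := h2 h1
  rwa [← hΛ hΛφ']

end Main

end Groth.Agent.Lib.HomArtinRees
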