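/-
Lovász-type Hom-counting cancellation for finite modules (helper70).

Main result: `nonempty_linearEquiv_of_pi`: for a ring `R`, finite (as sets) `R`-modules `M`, `N`
and a nonempty finite index type `ι`, an `R`-linear isomorphism `(ι → M) ≃ₗ[R] (ι → N)` yields
`Nonempty (M ≃ₗ[R] N)` (cancellation of powers; a Krull–Schmidt substitute for finite modules).
Proof: `|Hom(X/Y, M)|` determines `|{f : X → M | ker f = Z}|` by induction on the lattice of
submodules of a finite module `X`.
-/
import Mathlib

set_option autoImplicit false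

namespace Groth.Agent.Lib.HomCount

variable {R : Type*} [Ring R]

section Count

variable {X : Type*} [AddCommGroup X] [Module R X]

instance finite_linearMap {M : Type*} [AddCommGroup M] [Module R M] [Finite X] [Finite M] :
    Finite (X →ₗ[R] M) :=
  Finite.of_injective (fun f : X →ₗ[R] M => (f : X → M)) DFunLike.coe_injective

/-- the number of linear maps `X → M` killing `Y` -/
noncomputable def hc (M : Type*) [AddCommGroup M] [Module R M] (Y : Submodule R X) : ℕ :=
  Nat.card {f : X →ₗ[R] M // Y ≤ LinearMap.ker f}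

/-- the number of linear maps `X → M` with kernel exactly `Z` -/
noncomputable def ec (M : Type*) [AddCommGroup M] [Module R M] (Z : Submodule R X) : ℕ :=
  Nat.card {f : X →ₗ[R] M // LinearMap.ker f = Z}

variable [Finite X]

instance : Finite (Submodule R X) :=
  Finite.of_injective (fun S : Submodule R X => (S : Set X)) SetLike.coe_injective

theorem hc_eq_sum (M : Type*) [AddCommGroup M] [Module R M] [Finite M] (Y : Submodule R X) :
    letI := Fintype.ofFinite {Z : Submodule R X // Y ≤ Z}
    hc M Y = ∑ Z : {Z : Submodule R X // Y ≤ Z}, ec M Z.1 := by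
  letI := Fintype.ofFinite {Z : Submodule R X // Y ≤ Z}
  unfold hc ec
  rw [← Nat.card_sigma]
  refine Nat.card_congr
    { toFun := fun f => ⟨⟨LinearMap.ker f.1, f.2⟩, ⟨f.1, rfl⟩⟩
      invFun := fun s => ⟨s.2.1, by rw [s.2.2]; exact s.1.2⟩
      left_inv := fun f => rfl
      right_inv := ?_ }
  rintro ⟨⟨Z, hZ⟩, ⟨f, hf⟩⟩
  change LinearMap.ker f = Z at hf
  subst hf
  rfl

theorem ec_eq_of_hc_eq (M N : Type*) [AddCommGroup M] [Module R M] [Finite M]
    [AddCommGroup N] [Module R N] [Finite N]
    (h : ∀ Y : Submodule R X, hc M Y = hc N Y) (Z : Submodule R X) :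
    ec M Z = ec N Z := by
  induction Z using WellFoundedGT.induction with
  | ind Z ih =>
    classical
    letI := Fintype.ofFinite {Z' : Submodule R X // Z ≤ Z'}
    have h1 := hc_eq_sum M Z
    have h2 := hc_eq_sum N Z
    have hmem : (⟨Z, le_rfl⟩ : {Z' : Submodule R X // Z ≤ Z'}) ∈ Finset.univ := Finset.mem_univ _
    have e1 := Finset.add_sum_erase Finset.univ
      (fun Z' : {Z' : Submodule R X // Z ≤ Z'} => ec M Z'.1) hmem
    have e2 := Finset.add_sum_erase Finset.univ
      (fun Z' : {Z' : Submodule R X // Z ≤ Z'} => ec N Z'.1) hmem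
    have e3 : ∑ x ∈ Finset.univ.erase (⟨Z, le_rfl⟩ : {Z' : Submodule R X // Z ≤ Z'}), ec M x.1
        = ∑ x ∈ Finset.univ.erase (⟨Z, le_rfl⟩ : {Z' : Submodule R X // Z ≤ Z'}), ec N x.1 := by
      refine Finset.sum_congr rfl fun x hx => ?_
      have hne : x ≠ ⟨Z, le_rfl⟩ := (Finset.mem_erase.mp hx).1
      refine ih x.1 (lt_of_le_of_ne x.2 fun hh => hne (Subtype.ext hh.symm))
    have := h Z
    simp only at e1 e2
    omega

end Count

section Pow

variable {X : Type*} [AddCommGroup X] [Module R X]
variable {M : Type*} [AddCommGroup M] [Module R M]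
variable {N : Type*} [AddCommGroup N] [Module R N]
variable {ι : Type*}

/-- linear maps into a power killing `Y` = tuples of linear maps killing `Y` -/
noncomputable def piEquiv (Y : Submodule R X) :
    {f : X →ₗ[R] (ι → M) // Y ≤ LinearMap.ker f} ≃ (ι → {f : X →ₗ[R] M // Y ≤ LinearMap.ker f}) where
  toFun f := fun i => ⟨(LinearMap.proj i).comp f.1, fun x hx => by
    have := f.2 hx
    simp only [LinearMap.mem_ker] at this ⊢
    simp [this]⟩
  invFun g := ⟨LinearMap.pi fun i => (g i).1, fun x hx => by
    simp only [LinearMap.mem_ker]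
    funext i
    have := (g i).2 hx
    simpa using this⟩
  left_inv f := by
    apply Subtype.ext
    ext x i
    simp
  right_inv g := by
    funext i
    apply Subtype.ext
    ext x
    simp

/-- composing with a linear equivalence does not change the kernel -/
noncomputable def congrEquiv (e : M ≃ₗ[R] N) (Y : Submodule R X) :
    {f : X →ₗ[R] M // Y ≤ LinearMap.ker f} ≃ {f : X →ₗ[R] N // Y ≤ LinearMap.ker f} where
  toFun f := ⟨e.toLinearMap.comp f.1, fun x hx => by
    have := f.2 hx
    simp only [LinearMap.mem_ker] at this ⊢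
    simp [this]⟩
  invFun f := ⟨e.symm.toLinearMap.comp f.1, fun x hx => by
    have := f.2 hx
    simp only [LinearMap.mem_ker] at this ⊢
    simp [this]⟩
  left_inv f := by
    apply Subtype.ext
    ext x
    simp
  right_inv f := by
    apply Subtype.ext
    ext x
    simp

theorem hc_eq_of_pi [Finite X] [Finite M] [Finite N] [Finite ι] [Nonempty ι]
    (e : (ι → M) ≃ₗ[R] (ι → N)) (Y : Submodule R X) : hc M Y = hc N Y := by
  have h1 : Nat.card {f : X →ₗ[R] (ι → M) // Y ≤ LinearMap.ker f} = hc M Y ^ Nat.card ι := by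
    rw [Nat.card_congr (piEquiv Y), Nat.card_fun]; rfl
  have h2 : Nat.card {f : X →ₗ[R] (ι → N) // Y ≤ LinearMap.ker f} = hc N Y ^ Nat.card ι := by
    rw [Nat.card_congr (piEquiv Y), Nat.card_fun]; rfl
  have h3 := Nat.card_congr (congrEquiv (X := X) e Y)
  rw [h1, h2] at h3
  exact Nat.pow_left_injective (Nat.card_pos (α := ι)).ne' h3

end Pow

section Main

variable {M : Type*} [AddCommGroup M] [Module R M] [Finite M]
variable {N : Type*} [AddCommGroup N] [Module R N] [Finite N]
variable {ι : Type*} [Finite ι] [Nonempty ι]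

theorem exists_injective_of_pi (e : (ι → M) ≃ₗ[R] (ι → N)) :
    ∃ f : M →ₗ[R] N, Function.Injective f := by
  have h := ec_eq_of_hc_eq (X := M) M N (fun Y => hc_eq_of_pi e Y) ⊥
  have hpos : 0 < ec (X := M) M (⊥ : Submodule R M) := by
    unfold ec
    haveI : Nonempty {f : M →ₗ[R] M // LinearMap.ker f = ⊥} := ⟨⟨LinearMap.id, LinearMap.ker_id⟩⟩
    exact Nat.card_pos
  rw [h] at hpos
  unfold ec at hpos
  obtain ⟨⟨f, hf⟩⟩ := (Nat.card_pos_iff.mp hpos).1
  exact ⟨f, LinearMap.ker_eq_bot.mp hf⟩

/-- **Cancellation of powers for finite modules.** -/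
theorem nonempty_linearEquiv_of_pi (e : (ι → M) ≃ₗ[R] (ι → N)) : Nonempty (M ≃ₗ[R] N) := by
  obtain ⟨f, hf⟩ := exists_injective_of_pi e
  obtain ⟨g, hg⟩ := exists_injective_of_pi e.symm
  have h1 : Nat.card M ≤ Nat.card N := Nat.card_le_card_of_injective f hf
  have h2 : Nat.card N ≤ Nat.card M := Nat.card_le_card_of_injective g hg
  exact ⟨LinearEquiv.ofBijective f (hf.bijective_of_nat_card_le h2)⟩

end Main

end Groth.Agent.Lib.HomCount
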