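import Groth.Agent.Lib.HomCxStep25

/-!
# Derived completeness of `Q(Hom•(X, J))` (helper25)

* `mem_coboundaries_of_acyclic`: cocycles `Z → J` with `Z` acyclic and `J` K-injective are
  coboundaries.
* `mem_coboundaries_homCx`: if `Z ⊗ X` is acyclic and `J` is K-injective, every cocycle of
  `Hom•(Z, Hom•(X, J))` is a coboundary.
* `subsingleton_hom_of_coboundaries`.
* `DC_homCx`: `Q(Hom•(X, J))` is derived `f`-complete when `X` is K-flat and `A_f[0] ⊗ X` is acyclic.
-/

set_option autoImplicit false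
universe u

open CategoryTheory Category Limits CochainComplex HomComplex Pretriangulated

attribute [local instance] HasDerivedCategory.standard

namespace Groth.Agent.Lib.HomTensor25

open Groth.Agent.Lib.TKfMod Groth.Agent.Lib.TKfCompl

variable {A : Type u} [CommRing A]

lemma mem_coboundaries_of_acyclic (Z J : DRing.Cx A) [J.IsKInjective] (hZ : Z.Acyclic) (n : ℤ)
    (z : Cocycle Z J n) : z ∈ coboundaries Z J n := by
  rw [← CohomologyClass.toHom_mk_eq_zero_iff]
  apply IsKInjective.rightOrthogonal (J⟦n⟧)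
  rw [HomotopyCategory.quotient_obj_mem_subcategoryAcyclic_iff_acyclic]
  exact hZ

lemma mem_coboundaries_homCx (Z X J : DRing.Cx A) [J.IsKInjective] (h : (T Z X).Acyclic) (n : ℤ)
    (z : Cocycle Z (DRing.homCx X J) n) : z ∈ coboundaries Z (DRing.homCx X J) n := by
  have hz : δ n (n + 1) (Φ (z : Cochain Z (DRing.homCx X J) n)) = 0 := by
    rw [← Φ_δ n (n + 1) rfl, Cocycle.δ_eq_zero]
    exact (equiv (K := Z) (L := X) (M := J) (n + 1)).map_zero
  have h1 := mem_coboundaries_of_acyclic (T Z X) J h n (Cocycle.mk _ (n + 1) rfl hz)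
  rw [mem_coboundaries_iff _ (n - 1) (by omega)] at h1 ⊢
  obtain ⟨w, hw⟩ := h1
  refine ⟨Ψ w, ?_⟩
  rw [← Ψ_δ (n - 1) n (by omega), hw]
  exact Ψ_Φ _

lemma subsingleton_hom_of_coboundaries (S Y : DRing.Cx A) [Y.IsKInjective] (n : ℤ)
    (h : ∀ z : Cocycle S Y n, z ∈ coboundaries S Y n) :
    Subsingleton (DerivedCategory.Q.obj S ⟶ (DerivedCategory.Q.obj Y)⟦n⟧) := by
  let q := HomotopyCategory.quotient (ModuleCat.{u} A) (ComplexShape.up ℤ)
  let i := DerivedCategory.quotientCompQhIso (ModuleCat.{u} A)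
  suffices H : ∀ g : DerivedCategory.Q.obj S ⟶ (DerivedCategory.Q.obj Y)⟦n⟧, g = 0 from
    ⟨fun a b => by rw [H a, H b]⟩
  intro g
  let g' : DerivedCategory.Qh.obj (q.obj S) ⟶ DerivedCategory.Qh.obj (q.obj (Y⟦n⟧)) :=
    i.hom.app S ≫ g ≫ (DerivedCategory.Q.commShiftIso n).inv.app Y ≫ i.inv.app (Y⟦n⟧)
  obtain ⟨k, hk⟩ := (CochainComplex.IsKInjective.Qh_map_bijective (q.obj S) (Y⟦n⟧)).2 g'
  obtain ⟨c, rfl⟩ := (CohomologyClass.toHom_bijective S Y n).2 k
  obtain ⟨z, rfl⟩ := c.mk_surjective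
  have hz : CohomologyClass.toHom (CohomologyClass.mk z) = 0 := by
    rw [CohomologyClass.toHom_mk_eq_zero_iff]
    exact h z
  rw [hz, Functor.map_zero] at hk
  have hg' : g' = 0 := hk.symm
  have : g = i.inv.app S ≫ g' ≫ i.hom.app (Y⟦n⟧) ≫ (DerivedCategory.Q.commShiftIso n).hom.app Y := by
    simp [g']
  rw [this, hg']
  simp

/-- **Derived completeness of `Hom•(X, J)`**: if `X` is K-flat, `J` is K-injective and
`A_f[0] ⊗ X` is acyclic, then `Q(Hom•(X, J))` is derived complete with respect to `f`. -/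
theorem DC_homCx (f : A) (X J : DRing.Cx A) [J.IsKInjective]
    (hX : Groth.Agent.Lib.KFlat35.IsKFlat X)
    (hac : (T (sg (ModuleCat.of A (Localization.Away f))) X).Acyclic) :
    DC f (DerivedCategory.Q.obj (DRing.homCx X J)) := by
  intro n
  haveI : (DRing.homCx X J).IsKInjective := isKInjective_homCx X J hX
  exact subsingleton_hom_of_coboundaries (sg (ModuleCat.of A (Localization.Away f)))
    (DRing.homCx X J) n (fun z => mem_coboundaries_homCx _ X J hac n z)

end Groth.Agent.Lib.HomTensor25
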