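import Groth.Agent.Lib.RHomModel25
import Groth.Agent.Lib.DTenValues35
import Groth.Agent.Lib.DTenBase35
import Groth.Prelude.Def_DTen3

/-!
# A concrete model of the internal hom of `D(A)` (helper25)

For complexes `P`, `J` with `J` K-injective, `RHom(QP, QJ) ≅ Q(Hom•(P, J))`, naturally in `P`.
-/

set_option autoImplicit false
set_option linter.unusedSectionVars false
set_option linter.style.haveILetI false
universe u

open CategoryTheory Category Limits MonoidalCategory CochainComplex HomComplex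

attribute [local instance] HasDerivedCategory.standard

namespace Groth.Agent.Lib.RHomModel25

open Groth.Agent.Lib.HomTensor25 DerivedCategory DTen

variable {A : Type u} [CommRing A]

section QMaps

variable {X Y : DRing.Cx A}

lemma exists_Q_map_eq_of_kinj [Y.IsKInjective] (ψ : Q.obj X ⟶ Q.obj Y) :
    ∃ φ : X ⟶ Y, Q.map φ = ψ := by
  let q := HomotopyCategory.quotient (ModuleCat.{u} A) (ComplexShape.up ℤ)
  let i := DerivedCategory.quotientCompQhIso (ModuleCat.{u} A)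
  obtain ⟨g, hg⟩ := (CochainComplex.IsKInjective.Qh_map_bijective (q.obj X) Y).2
    (i.hom.app X ≫ ψ ≫ i.inv.app Y)
  obtain ⟨φ, rfl⟩ := q.map_surjective g
  refine ⟨φ, ?_⟩
  have hnat := i.hom.naturality φ
  have h1 : Q.map φ = i.inv.app X ≫ Qh.map (q.map φ) ≫ i.hom.app Y := by
    rw [← Iso.app_inv, ← Iso.app_hom, Iso.eq_inv_comp]
    exact hnat.symm
  rw [h1, hg]
  simp

lemma exists_Q_map_eq_of_kproj [X.IsKProjective] (ψ : Q.obj X ⟶ Q.obj Y) :
    ∃ φ : X ⟶ Y, Q.map φ = ψ := by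
  let q := HomotopyCategory.quotient (ModuleCat.{u} A) (ComplexShape.up ℤ)
  let i := DerivedCategory.quotientCompQhIso (ModuleCat.{u} A)
  obtain ⟨g, hg⟩ := (CochainComplex.IsKProjective.Qh_map_bijective X (q.obj Y)).2
    (i.hom.app X ≫ ψ ≫ i.inv.app Y)
  obtain ⟨φ, rfl⟩ := q.map_surjective g
  refine ⟨φ, ?_⟩
  have hnat := i.hom.naturality φ
  have h1 : Q.map φ = i.inv.app X ≫ Qh.map (q.map φ) ≫ i.hom.app Y := by
    rw [← Iso.app_inv, ← Iso.app_hom, Iso.eq_inv_comp]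
    exact hnat.symm
  rw [h1, hg]
  simp

lemma Qh_map_eq_of_Q_map_eq {φ φ' : X ⟶ Y} (h : Q.map φ = Q.map φ') :
    Qh.map ((HomotopyCategory.quotient (ModuleCat.{u} A) (ComplexShape.up ℤ)).map φ) =
      Qh.map ((HomotopyCategory.quotient (ModuleCat.{u} A) (ComplexShape.up ℤ)).map φ') := by
  let i := DerivedCategory.quotientCompQhIso (ModuleCat.{u} A)
  have h1 : ∀ ξ : X ⟶ Y, Qh.map ((HomotopyCategory.quotient (ModuleCat.{u} A)
      (ComplexShape.up ℤ)).map ξ) = i.hom.app X ≫ Q.map ξ ≫ i.inv.app Y := by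
    intro ξ
    have hnat := i.hom.naturality ξ
    rw [← Iso.app_inv, ← Iso.app_hom, ← Category.assoc, Iso.eq_comp_inv]
    exact hnat
  rw [h1, h1, h]

lemma nonempty_homotopy_of_kinj [Y.IsKInjective] {φ φ' : X ⟶ Y} (h : Q.map φ = Q.map φ') :
    Nonempty (Homotopy φ φ') := by
  have := (CochainComplex.IsKInjective.Qh_map_bijective
    ((HomotopyCategory.quotient (ModuleCat.{u} A) (ComplexShape.up ℤ)).obj X) Y).1
    (Qh_map_eq_of_Q_map_eq h)
  exact ⟨HomotopyCategory.homotopyOfEq _ _ this⟩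

lemma nonempty_homotopy_of_kproj [X.IsKProjective] {φ φ' : X ⟶ Y} (h : Q.map φ = Q.map φ') :
    Nonempty (Homotopy φ φ') := by
  have := (CochainComplex.IsKProjective.Qh_map_bijective X
    ((HomotopyCategory.quotient (ModuleCat.{u} A) (ComplexShape.up ℤ)).obj Y)).1
    (Qh_map_eq_of_Q_map_eq h)
  exact ⟨HomotopyCategory.homotopyOfEq _ _ this⟩

end QMaps

variable [HasLTen A] [HasRHom A]

/-- the derived evaluation `Q Hom•(P, J) ⊗^L QP ⟶ QJ` -/
noncomputable def evD (P J : DRing.Cx A) :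
    (LTen₂ A).obj (Q.obj (DRing.homCx P J), Q.obj P) ⟶ Q.obj J :=
  (ε A).app (DRing.homCx P J, P) ≫ Q.map (evc P J)

/-- the comparison map `Q Hom•(P, J) ⟶ RHom(QP, QJ)` -/
noncomputable def rho (P J : DRing.Cx A) :
    Q.obj (DRing.homCx P J) ⟶ (RHomR A (Q.obj P)).obj (Q.obj J) :=
  rhomHomEquiv _ _ _ (evD P J)

lemma rho_fac (P J : DRing.Cx A) :
    (LTen₂ A).map (Prod.mkHom (rho P J) (𝟙 (Q.obj P))) ≫ ev (Q.obj P) (Q.obj J) = evD P J :=
  ((rhomAdj A (Q.obj P)).homEquiv _ _).left_inv (evD P J)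

lemma ε_nat_right {X X' : DRing.Cx A} (γ : X ⟶ X') (P : DRing.Cx A) :
    (LTen₂ A).map (Prod.mkHom (Q.map γ) (𝟙 (Q.obj P))) ≫ (ε A).app (X', P) =
      (ε A).app (X, P) ≫ Q.map (γ ▷ P) := by
  have e2 := (ε A).naturality (Prod.mkHom γ (𝟙 P) : ((X, P) : DRing.Cx A × DRing.Cx A) ⟶ (X', P))
  have e3 : (tensorT A).map (Prod.mkHom γ (𝟙 P) : ((X, P) : DRing.Cx A × DRing.Cx A) ⟶ (X', P)) =
      γ ▷ P := by simp
  dsimp only [Functor.comp_map] at e2
  rw [e3] at e2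
  refine Eq.trans ?_ e2
  congr 2
  refine Prod.ext rfl ?_
  change 𝟙 (Q.obj P) = Q.map (𝟙 P)
  rw [CategoryTheory.Functor.map_id]

lemma ε_nat_left (X : DRing.Cx A) {P P' : DRing.Cx A} (φ : P' ⟶ P) :
    (LTen₂ A).map (Prod.mkHom (𝟙 (Q.obj X)) (Q.map φ)) ≫ (ε A).app (X, P) =
      (ε A).app (X, P') ≫ Q.map (X ◁ φ) := by
  have e2 := (ε A).naturality (Prod.mkHom (𝟙 X) φ : ((X, P') : DRing.Cx A × DRing.Cx A) ⟶ (X, P))
  have e3 : (tensorT A).map (Prod.mkHom (𝟙 X) φ : ((X, P') : DRing.Cx A × DRing.Cx A) ⟶ (X, P)) =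
      X ◁ φ := by simp
  dsimp only [Functor.comp_map] at e2
  rw [e3] at e2
  refine Eq.trans ?_ e2
  congr 2
  refine Prod.ext ?_ rfl
  change 𝟙 (Q.obj X) = Q.map (𝟙 X)
  rw [CategoryTheory.Functor.map_id]

lemma tensorRightD_map' (L : Dual.D A) {X Y : Dual.D A}
    (f : X ⟶ Y) : (tensorRightD A L).map f = (LTen₂ A).map (Prod.mkHom f (𝟙 L)) := rfl

lemma mk_comp_mk {X X' X'' Y Y' Y'' : Dual.D A} (f : X ⟶ X') (f' : X' ⟶ X'') (g : Y ⟶ Y')
    (g' : Y' ⟶ Y'') :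
    (LTen₂ A).map (Prod.mkHom f g) ≫ (LTen₂ A).map (Prod.mkHom f' g') =
      (LTen₂ A).map (Prod.mkHom (f ≫ f') (g ≫ g')) := by
  rw [← Functor.map_comp]
  rfl

/-- naturality of `rho` in `P` -/
lemma rho_naturality {P P' : DRing.Cx A} (φ : P' ⟶ P) (J : DRing.Cx A) :
    rho P J ≫ RHomMap (Q.map φ) (Q.obj J) = Q.map (homCxPre φ J) ≫ rho P' J := by
  apply ((rhomAdj A (Q.obj P')).homEquiv _ _).symm.injective
  rw [Adjunction.homEquiv_counit, Adjunction.homEquiv_counit, tensorRightD_map',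
    tensorRightD_map']
  have hL : (LTen₂ A).map (Prod.mkHom (rho P J ≫ RHomMap (Q.map φ) (Q.obj J)) (𝟙 (Q.obj P'))) ≫
      ev (Q.obj P') (Q.obj J) =
      (LTen₂ A).map (Prod.mkHom (𝟙 _) (Q.map φ)) ≫ evD P J := by
    have h1 : (LTen₂ A).map (Prod.mkHom (rho P J ≫ RHomMap (Q.map φ) (Q.obj J)) (𝟙 (Q.obj P'))) =
        (LTen₂ A).map (Prod.mkHom (rho P J) (𝟙 (Q.obj P'))) ≫
          (LTen₂ A).map (Prod.mkHom (RHomMap (Q.map φ) (Q.obj J)) (𝟙 (Q.obj P'))) := by
      rw [mk_comp_mk, Category.comp_id]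
    rw [h1, Category.assoc, RHom_map_ev, ← Category.assoc, mk_comp_mk, Category.comp_id,
      Category.id_comp, ← rho_fac, ← Category.assoc, mk_comp_mk, Category.comp_id, Category.id_comp]
  have hR : (LTen₂ A).map (Prod.mkHom (Q.map (homCxPre φ J) ≫ rho P' J) (𝟙 (Q.obj P'))) ≫
      ev (Q.obj P') (Q.obj J) =
      (LTen₂ A).map (Prod.mkHom (Q.map (homCxPre φ J)) (𝟙 (Q.obj P'))) ≫ evD P' J := by
    rw [← rho_fac, ← Category.assoc, mk_comp_mk, Category.comp_id]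
  refine hL.trans (Eq.trans ?_ hR.symm)
  dsimp only [evD]
  rw [← Category.assoc, ε_nat_left, ← Category.assoc, ε_nat_right, Category.assoc, Category.assoc,
    ← Functor.map_comp, ← Functor.map_comp]
  congr 2
  exact evc_dinat φ J

/-- the map `Hom(N, Q Hom•(P, J)) → Hom(N ⊗^L QP, QJ)` induced by `evD` -/
noncomputable def testMap (P J : DRing.Cx A) (N : Dual.D A)
    (g : N ⟶ Q.obj (DRing.homCx P J)) : (LTen₂ A).obj (N, Q.obj P) ⟶ Q.obj J :=
  (LTen₂ A).map (Prod.mkHom g (𝟙 (Q.obj P))) ≫ evD P J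

lemma testMap_Q (P J X : DRing.Cx A) (γ : X ⟶ DRing.homCx P J) :
    testMap P J (Q.obj X) (Q.map γ) = (ε A).app (X, P) ≫ Q.map (uncurry γ) := by
  dsimp only [testMap, evD]
  rw [← Category.assoc, ε_nat_right, Category.assoc, ← Functor.map_comp, uncurry_eq]

lemma bijective_testMap_Q (P J X : DRing.Cx A) [J.IsKInjective] [X.IsKProjective]
    (hX : Groth.Agent.Lib.KFlat35.IsKFlat X) :
    Function.Bijective (testMap P J (Q.obj X)) := by
  haveI := Groth.Agent.Lib.DTenValues35.isIso_ε_left X P hX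
  constructor
  · intro g g' h
    obtain ⟨γ, rfl⟩ := exists_Q_map_eq_of_kproj g
    obtain ⟨γ', rfl⟩ := exists_Q_map_eq_of_kproj g'
    rw [testMap_Q, testMap_Q, cancel_epi] at h
    obtain ⟨ho⟩ := nonempty_homotopy_of_kinj h
    have ho' := curryHomotopy ho
    rw [curry_uncurry, curry_uncurry] at ho'
    exact DerivedCategory.Q_map_eq_of_homotopy _ ho'
  · intro t
    obtain ⟨θ, hθ⟩ := exists_Q_map_eq_of_kinj (X := T X P) (Y := J) (inv ((ε A).app (X, P)) ≫ t)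
    refine ⟨Q.map (curry θ), ?_⟩
    rw [testMap_Q, uncurry_curry, hθ, IsIso.hom_inv_id_assoc]

lemma bijective_testMap (P J : DRing.Cx A) [J.IsKInjective] (N : Dual.D A) :
    Function.Bijective (testMap P J N) := by
  obtain ⟨X, hX, hXf, ⟨e⟩⟩ := Groth.Agent.Lib.DTenBase35.exists_good' N
  haveI := hX
  have key : testMap P J N = (fun t => (LTen₂ A).map (Prod.mkHom e.inv (𝟙 (Q.obj P))) ≫ t) ∘
      testMap P J (Q.obj X) ∘ (fun g => e.hom ≫ g) := by
    funext g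
    dsimp only [testMap, Function.comp]
    rw [← Category.assoc, mk_comp_mk, Iso.inv_hom_id_assoc, Category.comp_id]
  rw [key]
  refine Function.Bijective.comp ?_ (Function.Bijective.comp (bijective_testMap_Q P J X hXf) ?_)
  · haveI : IsIso ((LTen₂ A).map (Prod.mkHom e.inv (𝟙 (Q.obj P)))) := by
      haveI : IsIso (Prod.mkHom e.inv (𝟙 (Q.obj P)) :
          ((N, Q.obj P) : Dual.D A × Dual.D A) ⟶ (Q.obj X, Q.obj P)) := by
        rw [isIso_prod_iff]
        exact ⟨inferInstanceAs (IsIso e.inv), inferInstanceAs (IsIso (𝟙 _))⟩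
      infer_instance
    exact ⟨fun a b h => (cancel_epi _).1 h, fun b => ⟨inv ((LTen₂ A).map
      (Prod.mkHom e.inv (𝟙 (Q.obj P)))) ≫ b, by simp⟩⟩
  · exact ⟨fun a b h => (cancel_epi _).1 h, fun b => ⟨e.inv ≫ b, by simp⟩⟩

/-- **Concrete model of the internal hom**: `Q Hom•(P, J) ≅ RHom(QP, QJ)` for `J` K-injective. -/
theorem isIso_rho (P J : DRing.Cx A) [J.IsKInjective] : IsIso (rho P J) := by
  rw [isIso_iff_yoneda_map_bijective]
  intro N
  have key : (fun g : N ⟶ _ => g ≫ rho P J) =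
      (fun t => (rhomAdj A (Q.obj P)).homEquiv N _ t) ∘ testMap P J N := by
    funext g
    change g ≫ rho P J = (rhomAdj A (Q.obj P)).homEquiv N _
      ((LTen₂ A).map (Prod.mkHom g (𝟙 (Q.obj P))) ≫ evD P J)
    rw [← tensorRightD_map', Adjunction.homEquiv_naturality_left]
    rfl
  rw [key]
  exact ((rhomAdj A (Q.obj P)).homEquiv N _).bijective.comp (bijective_testMap P J N)

/-- the isomorphism `Q Hom•(P, J) ≅ RHom(QP, QJ)` -/
noncomputable def rhoIso (P J : DRing.Cx A) [J.IsKInjective] :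
    Q.obj (DRing.homCx P J) ≅ (RHomR A (Q.obj P)).obj (Q.obj J) :=
  haveI := isIso_rho P J
  asIso (rho P J)

end Groth.Agent.Lib.RHomModel25
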