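import Groth.Agent.Lib.HomCxSESop25
import Groth.Agent.Lib.HomSingle25
import Groth.Agent.Lib.RHomModelD25
import Groth.Agent.Lib.MixBase35
import Groth.Agent.Lib.DThick
import Groth.Agent.Lib.SemiFreeKProj35
import Mathlib.Algebra.Homology.HomotopyCategory.DegreewiseSplit

/-!
# `Hom•(P, K)` is K-flat for `P` perfect K-projective and `K` K-flat (helper25)
-/

set_option autoImplicit false
set_option linter.unusedSectionVars false
set_option linter.style.haveILetI false
universe u

open CategoryTheory Category Limits CochainComplex HomComplex Pretriangulated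

attribute [local instance] HasDerivedCategory.standard

namespace Groth.Agent.Lib.HomTensor25

open Groth.Agent.Lib.KFlat35 Groth.Agent.Lib.RHomModel25 DerivedCategory

variable {A : Type u} [CommRing A]

section Homotopy

variable {E E' : DRing.Cx A}

/-- left composition with a cochain as a linear map -/
noncomputable def compLin {m : ℤ} (h : Cochain E' E m) (K : DRing.Cx A) (n n' : ℤ)
    (hn : m + n = n') : Cochain E K n →ₗ[A] Cochain E' K n' where
  toFun z := h.comp z hn
  map_add' z z' := by simp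
  map_smul' a z := by simp

/-- the homotopy cochain on `Hom•` induced by a cochain `h` of degree `-1` -/
noncomputable def homCxPreHtpyCochain (h : Cochain E' E (-1)) (K : DRing.Cx A) :
    Cochain (DRing.homCx E K) (DRing.homCx E' K) (-1) :=
  Cochain.mk (fun p q hpq =>
    ModuleCat.ofHom (p.negOnePow • compLin h K p q (by omega)))

lemma homCxPreHtpyCochain_v_apply (h : Cochain E' E (-1)) (K : DRing.Cx A) (p q : ℤ)
    (hpq : p + (-1) = q) (z : Cochain E K p) :
    ((homCxPreHtpyCochain h K).v p q hpq).hom z = p.negOnePow • h.comp z (by omega) := rfl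

/-- `Hom•(-, K)` sends homotopic maps to homotopic maps. -/
noncomputable def homCxPreHomotopy {φ ψ : E' ⟶ E} (H : Homotopy φ ψ) (K : DRing.Cx A) :
    Homotopy (homCxPre φ K) (homCxPre ψ K) := by
  obtain ⟨h, hh⟩ := Cochain.equivHomotopy φ ψ H
  refine (Cochain.equivHomotopy _ _).symm ⟨homCxPreHtpyCochain h K, ?_⟩
  apply Cochain.ext
  intro p q hpq
  obtain rfl : p = q := by omega
  apply ModuleCat.hom_ext
  apply LinearMap.ext
  intro z
  rw [Cochain.add_v, δ_v (-1) 0 (by omega) _ p p (by omega) (p - 1) (p + 1) (by omega) (by omega)]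
  change (Cochain.ofHom φ).comp (z : Cochain E K p) (zero_add p) =
    (δ (p - 1) p (p.negOnePow • h.comp (z : Cochain E K p) (by omega)) +
      (Int.negOnePow 0) • ((p + 1).negOnePow • h.comp (δ p (p + 1) (z : Cochain E K p)) (by omega))) +
      (Cochain.ofHom ψ).comp (z : Cochain E K p) (zero_add p)
  rw [hh, Cochain.add_comp, δ_units_smul,
    δ_comp h (z : Cochain E K p) (show -1 + p = p - 1 by omega) 0 (p + 1) p (by omega)
      (by omega) (by omega)]
  simp only [Int.negOnePow_zero, one_smul, smul_add, smul_smul, Int.negOnePow_succ, Units.neg_smul]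
  rw [← Int.negOnePow_add]
  have : (p + p).negOnePow = 1 := by
    rw [Int.negOnePow_add]; exact Int.units_mul_self _
  rw [this, one_smul]
  abel

end Homotopy

section Retract

variable {E E' : DRing.Cx A}

/-- K-flatness of `Hom•(-, K)` passes to retracts in `D(A)` between K-projective complexes. -/
lemma isKFlat_homCx_of_retract [E.IsKProjective] [E'.IsKProjective] (K : DRing.Cx A)
    (i : Q.obj E ⟶ Q.obj E') (r : Q.obj E' ⟶ Q.obj E) (hir : i ≫ r = 𝟙 _)
    (h : IsKFlat (DRing.homCx E' K)) : IsKFlat (DRing.homCx E K) := by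
  obtain ⟨ι, hι⟩ := exists_Q_map_eq_of_kproj i
  obtain ⟨ρ, hρ⟩ := exists_Q_map_eq_of_kproj r
  obtain ⟨H⟩ := nonempty_homotopy_of_kproj (φ := ι ≫ ρ) (φ' := 𝟙 E) (by
    rw [Functor.map_comp, hι, hρ, hir, CategoryTheory.Functor.map_id])
  have H' := homCxPreHomotopy H K
  rw [homCxPre_comp, homCxPre_id] at H'
  exact IsKFlat.of_retract _ _ H' h

lemma isKFlat_homCx_of_iso [E.IsKProjective] [E'.IsKProjective] (K : DRing.Cx A)
    (e : Q.obj E ≅ Q.obj E') (h : IsKFlat (DRing.homCx E' K)) : IsKFlat (DRing.homCx E K) :=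
  isKFlat_homCx_of_retract K e.hom e.inv e.hom_inv_id h

end Retract

section Split

/-- 2-of-3 for K-flatness along a degreewise split short exact sequence: the middle term. -/
lemma isKFlat_X₂_of_degreewiseSplit (S : ShortComplex (DRing.Cx A))
    (σ : ∀ n, (S.map (HomologicalComplex.eval _ _ n)).Splitting)
    (h1 : IsKFlat S.X₁) (h3 : IsKFlat S.X₃) : IsKFlat S.X₂ := by
  have hc : IsKFlat (mappingCone (homOfDegreewiseSplit S σ)) :=
    isKFlat_mappingCone _ h3 (Groth.Agent.Lib.MixBase35.isKFlat_shift h1 1)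
  have h2 : IsKFlat (S.X₂⟦(1 : ℤ)⟧) :=
    (isKFlat_iff_of_homotopyEquiv
      (HomotopyEquiv.ofIso (mappingConeHomOfDegreewiseSplitIso S σ))).1 hc
  have h2' := Groth.Agent.Lib.MixBase35.isKFlat_shift h2 (-1)
  exact (isKFlat_iff_of_homotopyEquiv (HomotopyEquiv.ofIso
    ((shiftFunctorCompIsoId (DRing.Cx A) (1 : ℤ) (-1) (by omega)).app S.X₂))).1 h2'

/-- the degreewise splitting of `Hom•(S, J)` induced by a cochain splitting of `S` -/
noncomputable def homCxPreSplitting (S : ShortComplex (DRing.Cx A)) (J : DRing.Cx A)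
    (r : Cochain S.X₂ S.X₁ 0) (s : Cochain S.X₃ S.X₂ 0)
    (hr : (Cochain.ofHom S.f).comp r (add_zero 0) = Cochain.ofHom (𝟙 _))
    (hs : s.comp (Cochain.ofHom S.g) (add_zero 0) = Cochain.ofHom (𝟙 _))
    (hrs : r.comp (Cochain.ofHom S.f) (add_zero 0) + (Cochain.ofHom S.g).comp s (add_zero 0) =
      Cochain.ofHom (𝟙 _)) (n : ℤ) :
    ((homCxPreSC S J).map (HomologicalComplex.eval _ _ n)).Splitting where
  r := ModuleCat.ofHom (compLin s J n n (zero_add n))
  s := ModuleCat.ofHom (compLin r J n n (zero_add n))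
  f_r := by
    apply ModuleCat.hom_ext
    apply LinearMap.ext
    intro z
    change s.comp ((Cochain.ofHom S.g).comp (z : Cochain S.X₃ J n) (zero_add n)) (zero_add n) = z
    rw [← Cochain.comp_assoc_of_first_is_zero_cochain, hs, Cochain.id_comp]
  s_g := by
    apply ModuleCat.hom_ext
    apply LinearMap.ext
    intro w
    change (Cochain.ofHom S.f).comp (r.comp (w : Cochain S.X₁ J n) (zero_add n)) (zero_add n) = w
    rw [← Cochain.comp_assoc_of_first_is_zero_cochain, hr, Cochain.id_comp]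
  id := by
    apply ModuleCat.hom_ext
    apply LinearMap.ext
    intro z
    change (Cochain.ofHom S.g).comp (s.comp (z : Cochain S.X₂ J n) (zero_add n)) (zero_add n) +
      r.comp ((Cochain.ofHom S.f).comp (z : Cochain S.X₂ J n) (zero_add n)) (zero_add n) = z
    have h1 : (Cochain.ofHom (𝟙 S.X₂)).comp (z : Cochain S.X₂ J n) (zero_add n) = z :=
      Cochain.id_comp _
    rw [← hrs, Cochain.add_comp, Cochain.comp_assoc_of_first_is_zero_cochain,
      Cochain.comp_assoc_of_first_is_zero_cochain] at h1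
    rw [add_comm]
    exact h1

end Split

section Cone

variable {X Y : DRing.Cx A} (φ : X ⟶ Y)

lemma isKFlat_homCx_cone (J : DRing.Cx A) (h1 : IsKFlat (DRing.homCx (X⟦(1 : ℤ)⟧) J))
    (h3 : IsKFlat (DRing.homCx Y J)) : IsKFlat (DRing.homCx (mappingCone φ) J) :=
  isKFlat_X₂_of_degreewiseSplit (homCxPreSC (coneSC φ) J)
    (fun n => homCxPreSplitting (coneSC φ) J (mappingCone.snd φ) (coneSec φ)
      (mappingCone.inr_snd φ) (coneSec_comp φ) (cone_id' φ) n) h1 h3

/-- the mapping cone of a map between K-projective complexes is K-projective -/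
lemma isKProjective_mappingCone [X.IsKProjective] [Y.IsKProjective] :
    (mappingCone φ).IsKProjective := by
  rw [isKProjective_iff_leftOrthogonal]
  have hX := IsKProjective.leftOrthogonal X
  have hY := IsKProjective.leftOrthogonal Y
  exact ObjectProperty.ext_of_isTriangulatedClosed₃ _ _
    (HomotopyCategory.mappingCone_triangleh_distinguished φ) hX hY

end Cone

section Shift

/-- `Hom•(E⟦a⟧, K) ≅ Hom•(E, K)⟦-a⟧` -/
noncomputable def homCxShiftIso (E K : DRing.Cx A) (a : ℤ) :
    DRing.homCx (E⟦a⟧) K ≅ (DRing.homCx E K)⟦-a⟧ :=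
  HomologicalComplex.Hom.isoOfComponents
    (fun n => (Cochain.leftShiftLinearEquiv A E K (n + -a) a n (by omega)).symm.toModuleIso)
    (by
      intro i j hij
      obtain rfl : i + 1 = j := hij
      apply ModuleCat.hom_ext
      apply LinearMap.ext
      intro z
      change (-a).negOnePow • δ (i + -a) (i + 1 + -a)
          ((Cochain.leftShiftLinearEquiv A E K (i + -a) a i (by omega)).symm z) =
        (Cochain.leftShiftLinearEquiv A E K (i + 1 + -a) a (i + 1) (by omega)).symm
          (δ i (i + 1) (z : Cochain (E⟦a⟧) K i))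
      symm
      apply (Cochain.leftShiftLinearEquiv A E K (i + 1 + -a) a (i + 1) (by omega)).injective
      rw [LinearEquiv.apply_symm_apply]
      obtain ⟨w, rfl⟩ := (Cochain.leftShiftLinearEquiv A E K (i + -a) a i (by omega)).surjective z
      rw [LinearEquiv.symm_apply_apply]
      change δ i (i + 1) (w.leftShift a i (by omega)) =
        ((-a).negOnePow • δ (i + -a) (i + 1 + -a) w).leftShift a (i + 1) (by omega)
      rw [Cochain.leftShift_units_smul,
        Cochain.δ_leftShift w a i (i + 1) (by omega) (i + 1 + -a) (by omega),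
        Int.negOnePow_neg])

lemma isKFlat_homCx_shift (E K : DRing.Cx A) (a : ℤ) (h : IsKFlat (DRing.homCx E K)) :
    IsKFlat (DRing.homCx (E⟦a⟧) K) :=
  (isKFlat_iff_of_homotopyEquiv (HomotopyEquiv.ofIso (homCxShiftIso E K a))).2
    (Groth.Agent.Lib.MixBase35.isKFlat_shift h (-a))

end Shift

section Main

variable (K : DRing.Cx A)

instance isKProjective_S0 : (S0 A).IsKProjective := by
  haveI : ∀ n : ℤ, Projective ((S0 A).X n) := by
    intro n
    by_cases hn : n = 0
    · subst hn
      haveI : Projective (RA A) :=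
        ModuleCat.projective_of_free (M := ModuleCat.of A A) (Module.Basis.singleton Unit A)
      exact Projective.of_iso (e0' A).symm inferInstance
    · exact (HomologicalComplex.isZero_single_obj_X (ComplexShape.up ℤ) 0 (RA A) n hn).projective
  exact CochainComplex.isKProjective_of_projective _ 0

/-- the dévissage property: `Hom•(E, K)` is K-flat for every K-projective representative `E` -/
def PK : ObjectProperty (Dual.D A) := fun X =>
  ∀ (E : DRing.Cx A) [E.IsKProjective], Nonempty (Q.obj E ≅ X) → IsKFlat (DRing.homCx E K)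

instance : (PK K).IsClosedUnderIsomorphisms where
  of_iso e h := fun E _ ⟨i⟩ => h E ⟨i ≪≫ e.symm⟩

lemma exists_kproj_rep (X : Dual.D A) :
    ∃ (E : DRing.Cx A) (_ : E.IsKProjective), Nonempty (Q.obj E ≅ X) := by
  obtain ⟨R, r, hR, -, -, hr, -⟩ :=
    Groth.Agent.Lib.SemiFreeKProj35.exists_kprojective_resolution (Q.objPreimage X)
  haveI := hr
  exact ⟨R, hR, ⟨asIso (Q.map r) ≪≫ Q.objObjPreimageIso X⟩⟩

theorem PK_of_isPerfect (hK : IsKFlat K) (X : Dual.D A) (hX : DRing.IsPerfect A X) : PK K X := by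
  obtain ⟨E, a, b, hE, hfp, ⟨e⟩⟩ := hX
  refine (PK K).prop_of_iso e ?_
  refine Groth.Agent.Lib.DThick.prop_of_bounded_finite_projective (PK K) ?_ ?_ ?_ ?_ E a b hE hfp
  · -- the unit
    intro E' _ ⟨i⟩
    refine isKFlat_homCx_of_iso (E' := S0 A) K i ?_
    exact (isKFlat_iff_of_homotopyEquiv (HomotopyEquiv.ofIso (homSingleIso' K))).2 hK
  · -- shifts
    intro X n h E' _ ⟨i⟩
    have h1 : IsKFlat (DRing.homCx (E'⟦-n⟧) K) := h _
      ⟨(Q.commShiftIso (-n)).app E' ≪≫ (CategoryTheory.shiftFunctor (Dual.D A) (-n)).mapIso i ≪≫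
        (shiftFunctorCompIsoId (Dual.D A) n (-n) (by omega)).app X⟩
    have h2 := isKFlat_homCx_shift (E'⟦-n⟧) K n h1
    exact (isKFlat_iff_of_homotopyEquiv (HomotopyEquiv.ofIso (homCxPreIso
      ((shiftFunctorCompIsoId (DRing.Cx A) (-n) n (by omega)).app E') K))).1 h2
  · -- extensions
    intro T hT h1 h3 E₂ _ ⟨i₂⟩
    obtain ⟨E₃, hE₃, ⟨i₃⟩⟩ := exists_kproj_rep (T.invRotate.obj₁)
    obtain ⟨E₁, hE₁, ⟨i₁⟩⟩ := exists_kproj_rep T.invRotate.obj₂
    haveI := hE₃
    haveI := hE₁
    obtain ⟨φ, hφ⟩ := exists_Q_map_eq_of_kproj (i₃.hom ≫ T.invRotate.mor₁ ≫ i₁.inv)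
    haveI := isKProjective_mappingCone φ
    have hd : Q.mapTriangle.obj (mappingCone.triangle φ) ∈ distTriang (Dual.D A) := by
      rw [DerivedCategory.mem_distTriang_iff]
      exact ⟨_, _, φ, ⟨Iso.refl _⟩⟩
    let iso := isoTriangleOfIso₁₂ _ _ hd (inv_rot_of_distTriang _ hT) i₃ i₁ (by
      change Q.map φ ≫ i₁.hom = i₃.hom ≫ T.invRotate.mor₁
      rw [hφ, Category.assoc, Category.assoc, Iso.inv_hom_id, Category.comp_id])
    have e₂ : Q.obj (mappingCone φ) ≅ T.obj₂ := Triangle.π₃.mapIso iso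
    refine isKFlat_homCx_of_iso (E' := mappingCone φ) K (i₂ ≪≫ e₂.symm) ?_
    refine isKFlat_homCx_cone φ K ?_ ?_
    · refine h3 (E₃⟦(1 : ℤ)⟧) ⟨(Q.commShiftIso (1 : ℤ)).app E₃ ≪≫
        (CategoryTheory.shiftFunctor (Dual.D A) (1 : ℤ)).mapIso i₃ ≪≫
        (shiftFunctorCompIsoId (Dual.D A) (-1 : ℤ) 1 (by omega)).app T.obj₃⟩
    · exact h1 E₁ ⟨i₁⟩
  · -- summands
    intro X Y _ h E' _ ⟨i⟩
    obtain ⟨E'', hE'', ⟨j⟩⟩ := exists_kproj_rep (X ⊞ Y)
    haveI := hE''
    refine isKFlat_homCx_of_retract (E' := E'') K (i.hom ≫ biprod.inl ≫ j.inv)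
      (j.hom ≫ biprod.fst ≫ i.inv) ?_ (h E'' ⟨j⟩)
    simp

/-- `Hom•(P, K)` is K-flat for `P` K-projective with perfect image in `D(A)` and `K` K-flat. -/
theorem isKFlat_homCx_of_isPerfect (P : DRing.Cx A) [P.IsKProjective]
    (hperf : DRing.IsPerfect A (Q.obj P)) (hK : IsKFlat K) : IsKFlat (DRing.homCx P K) :=
  PK_of_isPerfect K hK _ hperf P ⟨Iso.refl _⟩

end Main

end Groth.Agent.Lib.HomTensor25
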