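import Groth.Agent.Lib.HomCxPre25
import Mathlib.Algebra.Homology.HomotopyCategory.MappingCocone
import Mathlib.Algebra.Homology.DerivedCategory.ShortExact

/-!
# `Hom•(-, J)` applied to a mapping cocone (helper25)

For `φ : K ⟶ L` and `X = mappingCocone φ`, the sequence
`0 ⟶ Hom•(K, J) ⟶ Hom•(X, J) ⟶ W ⟶ 0` with `Wⁿ = Hom^{n+1}(L, J)` is short exact.
-/

set_option autoImplicit false
universe u

open CategoryTheory Category Limits CochainComplex HomComplex

namespace Groth.Agent.Lib.HomTensor25

variable {A : Type u} [CommRing A] {K L : DRing.Cx A} (φ : K ⟶ L) (J : DRing.Cx A)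

section relations

open mappingCocone

lemma cc_inl_fst :
    (inl φ).comp (Cochain.ofHom (fst φ)) (add_zero 0) = Cochain.ofHom (𝟙 K) := by
  ext p
  simp

lemma cc_inr_fst :
    (inr φ).1.comp (Cochain.ofHom (fst φ)) (add_zero 1) = 0 := by
  ext p q hpq
  simp

lemma cc_inr_snd :
    (inr φ).1.comp (snd φ) (add_neg_cancel 1) = Cochain.ofHom (𝟙 L) := by
  ext p
  rw [Cochain.comp_v _ _ (add_neg_cancel 1) p (p + 1) p rfl (by omega)]
  simp

lemma cc_id :
    (Cochain.ofHom (fst φ)).comp (inl φ) (add_zero 0) +
      (snd φ).comp (inr φ).1 (neg_add_cancel 1) = Cochain.ofHom (𝟙 (mappingCocone φ)) := by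
  apply Cochain.ext₀
  intro p
  rw [Cochain.add_v, Cochain.comp_v _ _ (neg_add_cancel 1) p (p + -1) p rfl (by omega)]
  simp only [Cochain.zero_cochain_comp_v, Cochain.ofHom_v, HomologicalComplex.id_f]
  exact id_X φ p (p + -1) rfl

end relations

/-- the shifted Hom complex `Wⁿ = Hom^{n+1}(L, J)` with differential `δ` (no sign) -/
noncomputable def homCxS (L J : DRing.Cx A) : DRing.Cx A where
  X i := ModuleCat.of A (Cochain L J (i + 1))
  d i j := ModuleCat.ofHom (δ_hom A L J (i + 1) (j + 1))
  shape i j hij := by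
    apply ModuleCat.hom_ext
    apply LinearMap.ext
    intro z
    exact δ_shape (F := L) (G := J) _ _ (fun h => hij (by simpa using h)) (z : Cochain L J _)
  d_comp_d' _ _ _ _ _ := by
    apply ModuleCat.hom_ext
    apply LinearMap.ext
    intro z
    exact δ_δ (F := L) (G := J) _ _ _ (z : Cochain L J _)

/-- precomposition with a fixed cochain on the left, as a linear map -/
noncomputable def compLeftLin {X Y : DRing.Cx A} {m : ℤ} (c : Cochain X Y m) (J : DRing.Cx A)
    (n q : ℤ) (h : m + n = q) : Cochain Y J n →ₗ[A] Cochain X J q where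
  toFun z := c.comp z h
  map_add' z z' := by simp
  map_smul' a z := by simp

open mappingCocone in
/-- the map `Hom•(X, J) ⟶ W` induced by `inr` -/
noncomputable def homCxInr : DRing.homCx (mappingCocone φ) J ⟶ homCxS L J where
  f n := ModuleCat.ofHom (compLeftLin (inr φ).1 J n (n + 1) (add_comm 1 n))
  comm' i j hij := by
    apply ModuleCat.hom_ext
    apply LinearMap.ext
    intro z
    change δ (i + 1) (j + 1) ((inr φ).1.comp (z : Cochain (mappingCocone φ) J i) (add_comm 1 i)) =
      (inr φ).1.comp (δ i j (z : Cochain (mappingCocone φ) J i)) (add_comm 1 j)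
    obtain rfl : i + 1 = j := hij
    rw [δ_comp (inr φ).1 (z : Cochain (mappingCocone φ) J i) (add_comm 1 i) 2 (i + 1)
      (i + 1 + 1) rfl rfl rfl, Cocycle.δ_eq_zero, Cochain.zero_comp, smul_zero, add_zero]

/-- the short complex `Hom•(K, J) ⟶ Hom•(X, J) ⟶ W` -/
noncomputable def homCxSC : ShortComplex (DRing.Cx A) where
  X₁ := DRing.homCx K J
  X₂ := DRing.homCx (mappingCocone φ) J
  X₃ := homCxS L J
  f := homCxPre (mappingCocone.fst φ) J
  g := homCxInr φ J
  zero := by
    apply HomologicalComplex.hom_ext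
    intro n
    apply ModuleCat.hom_ext
    apply LinearMap.ext
    intro z
    change (mappingCocone.inr φ).1.comp ((Cochain.ofHom (mappingCocone.fst φ)).comp
      (z : Cochain K J n) (zero_add n)) (add_comm 1 n) = 0
    rw [← Cochain.comp_assoc _ _ _ (add_zero 1) (zero_add n) (by omega), cc_inr_fst,
      Cochain.zero_comp]

open mappingCocone in
lemma homCxSC_shortExact : (homCxSC φ J).ShortExact := by
  apply HomologicalComplex.shortExact_of_degreewise_shortExact
  intro n
  have hmono : Mono ((homCxSC φ J).map (HomologicalComplex.eval _ _ n)).f := by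
    rw [ModuleCat.mono_iff_injective]
    intro z z' h
    replace h : (Cochain.ofHom (fst φ)).comp (z : Cochain K J n) (zero_add n) =
      (Cochain.ofHom (fst φ)).comp (z' : Cochain K J n) (zero_add n) := h
    have h2 := congrArg (fun w => (inl φ).comp w (zero_add n)) h
    simp only [← Cochain.comp_assoc_of_first_is_zero_cochain, cc_inl_fst, Cochain.id_comp] at h2
    exact h2
  have hepi : Epi ((homCxSC φ J).map (HomologicalComplex.eval _ _ n)).g := by
    rw [ModuleCat.epi_iff_surjective]
    intro w
    refine ⟨(snd φ).comp (w : Cochain L J (n + 1)) (by omega), ?_⟩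
    change (inr φ).1.comp ((snd φ).comp (w : Cochain L J (n + 1)) (by omega)) (add_comm 1 n) = w
    rw [← Cochain.comp_assoc _ _ _ (add_neg_cancel 1) (by omega) (by omega), cc_inr_snd,
      Cochain.id_comp]
  refine ⟨?_⟩
  rw [ShortComplex.moduleCat_exact_iff]
  intro z hz
  replace hz : (inr φ).1.comp (z : Cochain (mappingCocone φ) J n) (add_comm 1 n) = 0 := hz
  refine ⟨(inl φ).comp (z : Cochain (mappingCocone φ) J n) (zero_add n), ?_⟩
  change (Cochain.ofHom (fst φ)).comp ((inl φ).comp (z : Cochain (mappingCocone φ) J n)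
    (zero_add n)) (zero_add n) = z
  have h1 : (z : Cochain (mappingCocone φ) J n) =
      (Cochain.ofHom (𝟙 (mappingCocone φ))).comp (z : Cochain (mappingCocone φ) J n)
        (zero_add n) := (Cochain.id_comp _).symm
  conv_rhs => rw [h1, ← cc_id, Cochain.add_comp,
    Cochain.comp_assoc _ _ _ (neg_add_cancel 1) (add_comm 1 n) (by omega), hz, Cochain.comp_zero,
    add_zero, Cochain.comp_assoc_of_first_is_zero_cochain]

end Groth.Agent.Lib.HomTensor25
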