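import Mathlib.RingTheory.Localization.Away.Basic
import Mathlib.RingTheory.Ideal.Basic
import Mathlib.RingTheory.Ideal.Operations
import Mathlib.Algebra.Exact.Basic
import Mathlib.Tactic.LinearCombination
import Mathlib.Tactic.Ring

/-!
# The Mayer–Vietoris sequence `0 → R → R_a × R_b → R_{ab} → 0` (helper25)

For `a b : R` generating the unit ideal, the sequence of `R`-modules
`0 → R → R_a × R_b → R_{ab} → 0`, `r ↦ (r, r)`, `(x, y) ↦ x - y`, is exact.
-/

set_option autoImplicit false

namespace Groth.Agent.Lib.MVAway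

variable {R : Type*} [CommRing R] (a b : R)
  (Ra Rb Rab : Type*) [CommRing Ra] [CommRing Rb] [CommRing Rab]
  [Algebra R Ra] [Algebra R Rb] [Algebra R Rab]
  (φa : Ra →ₐ[R] Rab) (φb : Rb →ₐ[R] Rab)

/-- `r ↦ (r, r)` -/
def ι : R →ₗ[R] Ra × Rb := (Algebra.linearMap R Ra).prod (Algebra.linearMap R Rb)

/-- `(x, y) ↦ x - y` -/
def δ : Ra × Rb →ₗ[R] Rab := φa.toLinearMap.coprod (-φb.toLinearMap)

@[simp] lemma ι_apply (r : R) : ι Ra Rb r = (algebraMap R Ra r, algebraMap R Rb r) := rfl

@[simp] lemma δ_apply (x : Ra × Rb) : δ Ra Rb Rab φa φb x = φa x.1 - φb x.2 := by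
  simp [δ, sub_eq_add_neg]

variable {a b}

lemma exists_pow_combo (hab : Ideal.span {a, b} = ⊤) (n : ℕ) :
    ∃ α β : R, α * a ^ n + β * b ^ n = 1 := by
  have h := Ideal.span_pow_eq_top {a, b} hab n
  rw [Set.image_pair] at h
  have h1 : (1 : R) ∈ Ideal.span {a ^ n, b ^ n} := by rw [h]; trivial
  exact Ideal.mem_span_pair.mp h1

variable [IsLocalization.Away a Ra] [IsLocalization.Away b Rb]

include a b in
theorem ι_injective (hab : Ideal.span {a, b} = ⊤) : Function.Injective (ι (R := R) Ra Rb) := by
  rw [injective_iff_map_eq_zero]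
  intro r hr
  have h1 : algebraMap R Ra r = algebraMap R Ra 0 := by
    rw [map_zero]; exact congrArg Prod.fst hr
  have h2 : algebraMap R Rb r = algebraMap R Rb 0 := by
    rw [map_zero]; exact congrArg Prod.snd hr
  obtain ⟨n, hn⟩ := IsLocalization.Away.exists_of_eq a h1
  obtain ⟨m, hm⟩ := IsLocalization.Away.exists_of_eq b h2
  rw [mul_zero] at hn hm
  obtain ⟨α, β, hαβ⟩ := exists_pow_combo hab (n + m)
  calc r = (α * a ^ (n + m) + β * b ^ (n + m)) * r := by rw [hαβ, one_mul]
    _ = α * a ^ m * (a ^ n * r) + β * b ^ n * (b ^ m * r) := by ring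
    _ = 0 := by rw [hn, hm]; ring

variable [IsLocalization.Away (a * b) Rab]

theorem δ_surjective (hab : Ideal.span {a, b} = ⊤) :
    Function.Surjective (δ Ra Rb Rab φa φb) := by
  intro z
  obtain ⟨n, c, hc⟩ := IsLocalization.Away.surj (a * b) z
  obtain ⟨α, β, hαβ⟩ := exists_pow_combo hab n
  have hua : IsUnit (algebraMap R Ra a ^ n) := (IsLocalization.Away.algebraMap_isUnit a).pow n
  have hub : IsUnit (algebraMap R Rb b ^ n) := (IsLocalization.Away.algebraMap_isUnit b).pow n
  obtain ⟨va, hva⟩ := hua.exists_left_inv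
  obtain ⟨vb, hvb⟩ := hub.exists_left_inv
  have hx : (algebraMap R Ra (β * c) * va) * algebraMap R Ra a ^ n = algebraMap R Ra (β * c) := by
    rw [mul_assoc, hva, mul_one]
  have hy : (algebraMap R Rb (α * c) * vb) * algebraMap R Rb b ^ n = algebraMap R Rb (α * c) := by
    rw [mul_assoc, hvb, mul_one]
  obtain ⟨x, hx⟩ : ∃ x : Ra, x * algebraMap R Ra a ^ n = algebraMap R Ra (β * c) := ⟨_, hx⟩
  obtain ⟨y, hy⟩ : ∃ y : Rb, y * algebraMap R Rb b ^ n = algebraMap R Rb (α * c) := ⟨_, hy⟩
  have hx' : φa x * algebraMap R Rab a ^ n = algebraMap R Rab β * algebraMap R Rab c := by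
    have := congrArg φa hx
    simpa only [map_mul, map_pow, AlgHom.commutes] using this
  have hy' : φb y * algebraMap R Rab b ^ n = algebraMap R Rab α * algebraMap R Rab c := by
    have := congrArg φb hy
    simpa only [map_mul, map_pow, AlgHom.commutes] using this
  have key : (φa x + φb y) * algebraMap R Rab (a * b) ^ n = algebraMap R Rab c := by
    rw [map_mul (algebraMap R Rab) a b, mul_pow]
    have := congrArg (algebraMap R Rab) hαβ
    simp only [map_add, map_mul, map_pow, map_one] at this
    linear_combination (algebraMap R Rab b ^ n) * hx' + (algebraMap R Rab a ^ n) * hy' +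
      (algebraMap R Rab c) * this
  refine ⟨(x, - y), ?_⟩
  have hu : IsUnit (algebraMap R Rab (a * b) ^ n) :=
    (IsLocalization.Away.algebraMap_isUnit (a * b)).pow n
  apply hu.mul_left_injective
  change δ Ra Rb Rab φa φb _ * _ = z * _
  rw [hc, δ_apply, map_neg, sub_neg_eq_add]
  exact key

theorem exact (hab : Ideal.span {a, b} = ⊤) :
    Function.Exact (ι (R := R) Ra Rb) (δ Ra Rb Rab φa φb) := by
  rintro ⟨x, y⟩
  constructor
  · intro h
    rw [δ_apply, sub_eq_zero] at h
    change φa x = φb y at h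
    obtain ⟨n, p, hp⟩ := IsLocalization.Away.surj a x
    obtain ⟨m, q, hq⟩ := IsLocalization.Away.surj b y
    have hp' : φb y * algebraMap R Rab a ^ n = algebraMap R Rab p := by
      have := congrArg φa hp
      simpa only [map_mul, map_pow, AlgHom.commutes, h] using this
    have hq' : φb y * algebraMap R Rab b ^ m = algebraMap R Rab q := by
      have := congrArg φb hq
      simpa only [map_mul, map_pow, AlgHom.commutes] using this
    have h1 : algebraMap R Rab (p * b ^ m) = algebraMap R Rab (q * a ^ n) := by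
      simp only [map_mul, map_pow]
      rw [← hp', ← hq']
      ring
    obtain ⟨k, hk⟩ := IsLocalization.Away.exists_of_eq (a * b) h1
    -- common exponent
    set M := n + m + k with hM
    set p'' := p * a ^ (m + k) with hp''
    set q'' := q * b ^ (n + k) with hq''
    have hxM : x * algebraMap R Ra a ^ M = algebraMap R Ra p'' := by
      rw [hp'', map_mul, map_pow, ← hp, hM]
      ring
    have hyM : y * algebraMap R Rb b ^ M = algebraMap R Rb q'' := by
      rw [hq'', map_mul, map_pow, ← hq, hM]
      ring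
    have hpq : p'' * b ^ M = q'' * a ^ M := by
      rw [hp'', hq'', hM]
      calc p * a ^ (m + k) * b ^ (n + m + k)
          = a ^ m * b ^ n * ((a * b) ^ k * (p * b ^ m)) := by ring
        _ = a ^ m * b ^ n * ((a * b) ^ k * (q * a ^ n)) := by rw [hk]
        _ = q * b ^ (n + k) * a ^ (n + m + k) := by ring
    obtain ⟨α, β, hαβ⟩ := exists_pow_combo hab M
    refine ⟨α * p'' + β * q'', ?_⟩
    have hua : IsUnit (algebraMap R Ra a ^ M) := (IsLocalization.Away.algebraMap_isUnit a).pow M
    have hub : IsUnit (algebraMap R Rb b ^ M) := (IsLocalization.Away.algebraMap_isUnit b).pow M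
    rw [ι_apply]
    refine Prod.ext ?_ ?_
    · apply hua.mul_left_injective
      change algebraMap R Ra (α * p'' + β * q'') * _ = x * _
      rw [hxM, ← map_pow, ← map_mul]
      congr 1
      calc (α * p'' + β * q'') * a ^ M = α * a ^ M * p'' + β * (q'' * a ^ M) := by ring
        _ = α * a ^ M * p'' + β * (p'' * b ^ M) := by rw [hpq]
        _ = (α * a ^ M + β * b ^ M) * p'' := by ring
        _ = p'' := by rw [hαβ, one_mul]
    · apply hub.mul_left_injective
      change algebraMap R Rb (α * p'' + β * q'') * _ = y * _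
      rw [hyM, ← map_pow, ← map_mul]
      congr 1
      calc (α * p'' + β * q'') * b ^ M = α * (p'' * b ^ M) + β * b ^ M * q'' := by ring
        _ = α * (q'' * a ^ M) + β * b ^ M * q'' := by rw [hpq]
        _ = (α * a ^ M + β * b ^ M) * q'' := by ring
        _ = q'' := by rw [hαβ, one_mul]
  · rintro ⟨r, hr⟩
    rw [← hr, ι_apply, δ_apply]
    simp only [AlgHom.commutes, sub_self]

end Groth.Agent.Lib.MVAway
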