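import Groth.Agent.Lib.TKfMod
import Groth.Agent.Lib.MVAway
import Mathlib.Algebra.Homology.ShortComplex.ModuleCat

/-!
# The elements with respect to which `K ∈ D(A)` is derived complete form a radical ideal (helper25)

* `DC_add` (Mayer–Vietoris for `A_{f+g}`), `DC_zero`, `DC_mul`, `DC_of_pow`;
* `dcIdeal K : Ideal A`, `dcIdeal_isRadical`, `isDerivedComplete_iff_le`.
-/

set_option autoImplicit false
universe u

open CategoryTheory Limits Pretriangulated

attribute [local instance] HasDerivedCategory.standard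

namespace Groth.Agent.Lib.TKfIdeal

open Groth.Agent.Lib.TKf Groth.Agent.Lib.TKfMod Groth.Agent.Lib.MVAway

variable {A : Type u} [CommRing A]

lemma hom_eq_zero_of_prod {R : Type u} [CommRing R] {D : Type*} [Category D] [Preadditive D]
    (G : ModuleCat.{u} R ⥤ D) [G.Additive] (X Y : Type u) [AddCommGroup X] [Module R X]
    [AddCommGroup Y] [Module R Y] (K : D)
    (hX : ∀ g : G.obj (ModuleCat.of R X) ⟶ K, g = 0)
    (hY : ∀ g : G.obj (ModuleCat.of R Y) ⟶ K, g = 0)
    (g : G.obj (ModuleCat.of R (X × Y)) ⟶ K) : g = 0 := by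
  have hid : 𝟙 (ModuleCat.of R (X × Y)) =
      ModuleCat.ofHom (LinearMap.fst R X Y) ≫ ModuleCat.ofHom (LinearMap.inl R X Y) +
        ModuleCat.ofHom (LinearMap.snd R X Y) ≫ ModuleCat.ofHom (LinearMap.inr R X Y) := by
    ext <;> simp
  have := congrArg (fun m => G.map m ≫ g) hid
  simp only [G.map_id, Category.id_comp, G.map_add, G.map_comp, Preadditive.add_comp,
    Category.assoc] at this
  rw [this, hX (G.map (ModuleCat.ofHom (LinearMap.inl R X Y)) ≫ g),
    hY (G.map (ModuleCat.ofHom (LinearMap.inr R X Y)) ≫ g), comp_zero, comp_zero, add_zero]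

lemma isIso_smul_restrictScalars_obj {R : Type u} [CommRing R] (φ : A →+* R) (f : A)
    (M : ModuleCat.{u} R) (hM : Function.Bijective (fun x : M => φ f • x)) :
    IsIso (f • 𝟙 ((ModuleCat.restrictScalars.{u} φ).obj M)) := by
  apply isIso_smul_of_bijective
  exact hM

section MV

variable {R : Type u} [CommRing R] (φ : A →+* R) (a b : R)

/-- the canonical map `R_a → R_{ab}` -/
noncomputable def φl : Localization.Away a →ₐ[R] Localization.Away (a * b) :=
  IsLocalization.Away.liftAlgHom (A := R) (f := Algebra.ofId R (Localization.Away (a * b))) a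
    (isUnit_of_dvd_unit (map_dvd _ (dvd_mul_right a b))
      (IsLocalization.Away.algebraMap_isUnit (a * b)))

/-- the canonical map `R_b → R_{ab}` -/
noncomputable def φr : Localization.Away b →ₐ[R] Localization.Away (a * b) :=
  IsLocalization.Away.liftAlgHom (A := R) (f := Algebra.ofId R (Localization.Away (a * b))) b
    (isUnit_of_dvd_unit (map_dvd _ (dvd_mul_left b a))
      (IsLocalization.Away.algebraMap_isUnit (a * b)))

/-- the Mayer–Vietoris short complex `R → R_a × R_b → R_{ab}` -/
noncomputable def mvSC : ShortComplex (ModuleCat.{u} R) :=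
  ModuleCat.shortComplexOfCompEqZero
    (ι (R := R) (Localization.Away a) (Localization.Away b))
    (δ (Localization.Away a) (Localization.Away b) (Localization.Away (a * b)) (φl a b) (φr a b))
    (by
      ext
      simp [δ_apply, ι_apply])

variable {a b}

lemma mvSC_shortExact (hab : Ideal.span {a, b} = ⊤) : (mvSC a b).ShortExact :=
  ModuleCat.shortComplex_shortExact _
    (MVAway.exact (R := R) (Localization.Away a) (Localization.Away b) (Localization.Away (a * b))
      (φl a b) (φr a b) hab)
    (MVAway.ι_injective (R := R) (Localization.Away a) (Localization.Away b) hab)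
    (MVAway.δ_surjective (R := R) (Localization.Away a) (Localization.Away b)
      (Localization.Away (a * b)) (φl a b) (φr a b) hab)

end MV

lemma bijective_smul_of_isUnit {R S : Type*} [CommRing R] [CommRing S] [Algebra R S] (r : R)
    (hu : IsUnit (algebraMap R S r)) : Function.Bijective (fun x : S => r • x) := by
  have : (fun x : S => r • x) = fun x => algebraMap R S r * x := by
    funext x
    exact Algebra.smul_def r x
  rw [this]
  exact ⟨fun x y h => hu.mul_left_cancel h, fun y => ⟨hu.unit⁻¹ * y, by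
    change algebraMap R S r * (↑hu.unit⁻¹ * y) = y
    rw [← mul_assoc, IsUnit.mul_val_inv, one_mul]⟩⟩

/-- derived completeness with respect to `f` and `g` implies derived completeness with respect
to `f + g` (Mayer–Vietoris for `A_{f+g}`). -/
theorem DC_add (f g : A) (K : Dual.D A) (hf : DC f K) (hg : DC g K) : DC (f + g) K := by
  apply DC_of_hom_eq_zero
  intro n g0
  let R := Localization.Away (f + g)
  let φ : A →+* R := algebraMap A R
  let a : R := φ f
  let b : R := φ g
  have hab : Ideal.span {a, b} = ⊤ := by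
    apply Ideal.eq_top_of_isUnit_mem _ (x := a + b)
    · exact Ideal.add_mem _ (Ideal.subset_span (by simp)) (Ideal.subset_span (by simp))
    · rw [← map_add]; exact IsLocalization.Away.algebraMap_isUnit (f + g)
  have hS := mvSC_shortExact (a := a) (b := b) hab
  let F := ModuleCat.restrictScalars.{u} φ
  have hS' : ((mvSC a b).map F).ShortExact := hS.map_of_exact F
  have hT := hS'.singleTriangle_distinguished
  have hTn := Triangle.shift_distinguished _ hT n
  have hT' := inv_rot_of_distTriang _ hTn
  let sg := DerivedCategory.singleFunctor (ModuleCat.{u} A) 0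
  let e : sg.obj (F.obj (ModuleCat.of R R)) ≅ Dual.inD A R :=
    sg.mapIso (Groth.Agent.Lib.FlatBaseChangeD.restrictEquiv (A := A) (B := R)).toModuleIso
  let g1 : (sg.obj (F.obj (ModuleCat.of R R)))⟦n⟧ ⟶ K := (shiftFunctor _ n).map e.hom ≫ g0
  suffices h1 : g1 = 0 by
    rw [← cancel_epi ((shiftFunctor _ n).map e.hom)]
    rw [Limits.comp_zero]
    exact h1
  -- `f`, resp. `g`, acts invertibly on modules on which `a`, resp. `b`, does
  have hfM : ∀ (M : ModuleCat.{u} R), Function.Bijective (fun x : M => a • x) →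
      IsIso (f • 𝟙 (sg.obj (F.obj M))) := fun M hM =>
    isIso_smul_map sg f (isIso_smul_restrictScalars_obj φ f M hM)
  have hgM : ∀ (M : ModuleCat.{u} R), Function.Bijective (fun x : M => b • x) →
      IsIso (g • 𝟙 (sg.obj (F.obj M))) := fun M hM =>
    isIso_smul_map sg g (isIso_smul_restrictScalars_obj φ g M hM)
  have hzero : (Triangle.invRotate ((Triangle.shiftFunctor (Dual.D A) n).obj
      hS'.singleTriangle)).mor₁ ≫ g1 = 0 := by
    refine hom_eq_zero_of_DC f K hf _ ?_ _
    refine isIso_smul_map (shiftFunctor (Dual.D A) (-1 : ℤ)) f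
      (isIso_smul_map (shiftFunctor (Dual.D A) n) f
        (hfM (ModuleCat.of R (Localization.Away (a * b))) ?_))
    exact bijective_smul_of_isUnit (S := Localization.Away (a * b)) a
      (isUnit_of_dvd_unit (map_dvd (algebraMap R (Localization.Away (a * b))) (dvd_mul_right a b))
        (IsLocalization.Away.algebraMap_isUnit (a * b)))
  obtain ⟨g2, hg2⟩ := Triangle.yoneda_exact₂ _ hT' g1 hzero
  have hg2z : g2 = 0 := by
    refine hom_eq_zero_of_prod (F ⋙ sg ⋙ shiftFunctor (Dual.D A) n) (Localization.Away a)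
      (Localization.Away b) K ?_ ?_ g2
    · intro g3
      refine hom_eq_zero_of_DC f K hf _ ?_ g3
      exact isIso_smul_map (shiftFunctor (Dual.D A) n) f
        (hfM (ModuleCat.of R (Localization.Away a))
          (bijective_smul_of_isUnit (S := Localization.Away a) a
            (IsLocalization.Away.algebraMap_isUnit a)))
    · intro g3
      refine hom_eq_zero_of_DC g K hg _ ?_ g3
      exact isIso_smul_map (shiftFunctor (Dual.D A) n) g
        (hgM (ModuleCat.of R (Localization.Away b))
          (bijective_smul_of_isUnit (S := Localization.Away b) b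
            (IsLocalization.Away.algebraMap_isUnit b)))
  rw [hg2, hg2z]
  exact Limits.comp_zero

theorem DC_zero (K : Dual.D A) : DC (0 : A) K := by
  rw [DC_iff]
  intro Y hY g
  have hz : IsZero Y := by
    rw [IsZero.iff_id_eq_zero]
    have h0 : (0 : A) • 𝟙 Y = 0 := zero_smul _ _
    rw [h0] at hY
    calc 𝟙 Y = (0 : Y ⟶ Y) ≫ inv 0 := (IsIso.hom_inv_id _).symm
      _ = 0 := zero_comp
  exact hz.eq_of_src _ _

theorem DC_mul (a f : A) (K : Dual.D A) (hf : DC f K) : DC (a * f) K := by
  rw [DC_iff]
  intro Y hY g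
  refine hom_eq_zero_of_DC f K hf Y ?_ g
  have h1 : (f • 𝟙 Y) ≫ (a • 𝟙 Y) = (a * f) • 𝟙 Y := by
    rw [Linear.smul_comp, Linear.comp_smul, Category.id_comp, smul_smul, mul_comm]
  have hc : ∀ x : Y ⟶ Y, x ≫ (f • 𝟙 Y) = (f • 𝟙 Y) ≫ x := fun x => by
    rw [Linear.smul_comp, Linear.comp_smul, Category.id_comp, Category.comp_id]
  refine ⟨⟨(a • 𝟙 Y) ≫ inv ((a * f) • 𝟙 Y), ?_, ?_⟩⟩
  · rw [← Category.assoc, h1, IsIso.hom_inv_id]
  · rw [hc, ← Category.assoc, h1, IsIso.hom_inv_id]

lemma isIso_pow_smul (f : A) {D : Type*} [Category D] [Preadditive D] [Linear A D] (Y : D)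
    (hY : IsIso (f • 𝟙 Y)) (n : ℕ) : IsIso ((f ^ n) • 𝟙 Y) := by
  induction n with
  | zero => rw [pow_zero, one_smul]; infer_instance
  | succ n ih =>
    have : (f ^ (n + 1)) • 𝟙 Y = ((f ^ n) • 𝟙 Y) ≫ (f • 𝟙 Y) := by
      rw [Linear.smul_comp, Linear.comp_smul, Category.id_comp, smul_smul, pow_succ]
    rw [this]
    infer_instance

theorem DC_of_pow (f : A) (n : ℕ) (K : Dual.D A) (h : DC (f ^ n) K) : DC f K := by
  rw [DC_iff]
  intro Y hY g
  exact hom_eq_zero_of_DC (f ^ n) K h Y (isIso_pow_smul f Y hY n) g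

/-- the ideal of elements with respect to which `K` is derived complete. -/
def dcIdeal (K : Dual.D A) : Ideal A where
  carrier := {f | DC f K}
  add_mem' := fun {f g} hf hg => DC_add f g K hf hg
  zero_mem' := DC_zero K
  smul_mem' := fun a f hf => DC_mul a f K hf

lemma mem_dcIdeal (K : Dual.D A) (f : A) : f ∈ dcIdeal K ↔ DC f K := Iff.rfl

theorem dcIdeal_isRadical (K : Dual.D A) : (dcIdeal K).IsRadical := by
  rintro f ⟨n, hn⟩
  exact DC_of_pow f n K hn

/-- `K` is derived complete with respect to `I` iff `I ≤ dcIdeal K`. -/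
lemma isDerivedComplete_iff_le (I : Ideal A) (K : Dual.D A) :
    DRing.IsDerivedComplete I K ↔ I ≤ dcIdeal K := Iff.rfl

end Groth.Agent.Lib.TKfIdeal
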