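import Groth.Agent.Lib.TKfCompl
import Groth.Agent.Lib.TKfIdeal
import Mathlib.Algebra.Homology.DerivedCategory.Linear

/-!
# Existence of derived completion for finitely generated ideals (helper25)

`hasDerivedCompletion_of_fg`: for a finitely generated ideal `I` of `A`, the inclusion of the
`I`-derived complete objects of `D(A)` has a left adjoint.
-/

set_option autoImplicit false
universe u

open CategoryTheory Limits Pretriangulated

attribute [local instance] HasDerivedCategory.standard

namespace Groth.Agent.Lib.TKfAdj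

open Groth.Agent.Lib.TKfMod Groth.Agent.Lib.TKfIdeal Groth.Agent.Lib.TKfCompl

variable {A : Type u} [CommRing A]

lemma DC_iff_Cpl (f : A) (K : Dual.D A) : DC f K ↔ Cpl f K := DC_iff f K

lemma isDerivedComplete_iff_forall_Cpl (s : Finset A) (L : Dual.D A) :
    DRing.IsDerivedComplete (Ideal.span (s : Set A)) L ↔ ∀ f ∈ s.toList, Cpl f L := by
  rw [isDerivedComplete_iff_le, Ideal.span_le]
  constructor
  · intro h f hf
    exact (DC_iff_Cpl f L).mp (h (Finset.mem_toList.mp hf))
  · intro h f hf
    exact (DC_iff_Cpl f L).mpr (h f (Finset.mem_toList.mpr hf))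

theorem hasDerivedCompletion_of_fg (I : Ideal A) (hI : I.FG) : DRing.HasDerivedCompletion I := by
  obtain ⟨s, rfl⟩ := hI
  choose Khat η h1 h2 using
    (fun K : Dual.D A => exists_completion_list (A := A) s.toList K)
  let P := DRing.IsDerivedComplete (Ideal.span (s : Set A))
  let F_obj : Dual.D A → P.FullSubcategory := fun K =>
    ⟨Khat K, (isDerivedComplete_iff_forall_Cpl s _).mpr (h1 K)⟩
  let e : ∀ (K : Dual.D A) (L : P.FullSubcategory), (F_obj K ⟶ L) ≃ (K ⟶ P.ι.obj L) :=
    fun K L => (P.fullyFaithfulι.homEquiv (X := F_obj K) (Y := L)).trans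
      (Equiv.ofBijective (fun h : Khat K ⟶ L.obj => η K ≫ h)
        (h2 K L.obj ((isDerivedComplete_iff_forall_Cpl s _).mp L.property)))
  have he : ∀ X Y Y' (g : Y ⟶ Y') (h : F_obj X ⟶ Y), e X Y' (h ≫ g) = e X Y h ≫ P.ι.map g := by
    intro X Y Y' g h
    change η X ≫ (h ≫ g).hom = (η X ≫ h.hom) ≫ g.hom
    rw [ObjectProperty.FullSubcategory.comp_hom, Category.assoc]
  exact (Adjunction.adjunctionOfEquivLeft e he).isRightAdjoint

end Groth.Agent.Lib.TKfAdj
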