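import Groth.Agent.Lib.HomCxSES25
import Groth.Agent.Lib.TKfAdj

/-!
# One step of the Čech construction under `Hom•(-, J)` (helper25)

For `φ : K ⟶ L` with `f` acting bijectively on the terms of `L`, the map
`Q(Hom•(K, J)) ⟶ Q(Hom•(mappingCocone φ, J))` induces bijections on morphisms to `f`-complete
objects (`bijective_comp_homCxPre_fst`).
-/

set_option autoImplicit false
universe u

open CategoryTheory Category Limits CochainComplex HomComplex Pretriangulated

attribute [local instance] HasDerivedCategory.standard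

namespace Groth.Agent.Lib.HomTensor25

open Groth.Agent.Lib.TKfMod Groth.Agent.Lib.TKfCompl

variable {A : Type u} [CommRing A]

/-- if `f` acts bijectively on the terms of `L`, it acts bijectively on cochains out of `L` -/
lemma bijective_smul_cochain (f : A) (L J : DRing.Cx A)
    (hL : ∀ p : ℤ, Function.Bijective (fun x : L.X p => f • x)) (m : ℤ) :
    Function.Bijective (fun z : Cochain L J m => f • z) := by
  have hiso : ∀ p, IsIso (f • 𝟙 (L.X p)) := fun p => isIso_smul_of_bijective f (L.X p) (hL p)
  constructor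
  · intro z z' h
    apply Cochain.ext
    intro p q hpq
    have h1 := congrArg (fun w : Cochain L J m => w.v p q hpq) h
    simp only [Cochain.smul_v] at h1
    have h2 : (f • 𝟙 (L.X p)) ≫ z.v p q hpq = (f • 𝟙 (L.X p)) ≫ z'.v p q hpq := by
      rw [Linear.smul_comp, Linear.smul_comp, Category.id_comp, Category.id_comp]
      exact h1
    have := hiso p
    exact (cancel_epi _).mp h2
  · intro z
    refine ⟨Cochain.mk (fun p q hpq => (haveI := hiso p; inv (f • 𝟙 (L.X p))) ≫ z.v p q hpq), ?_⟩
    apply Cochain.ext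
    intro p q hpq
    have := hiso p
    simp only [Cochain.smul_v, Cochain.mk_v]
    have e : f • (inv (f • 𝟙 (L.X p)) ≫ z.v p q hpq) =
        ((f • 𝟙 (L.X p)) ≫ inv (f • 𝟙 (L.X p))) ≫ z.v p q hpq := by
      rw [Category.assoc, Linear.smul_comp, Category.id_comp]
    rw [e, IsIso.hom_inv_id, Category.id_comp]

/-- a distinguished triangle whose third vertex is `f`-invertible induces bijections on morphisms
to `f`-complete objects -/
lemma bijective_comp_of_cpl {D : Type*} [Category D] [Preadditive D] [Linear A D]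
    [HasZeroObject D] [HasShift D ℤ] [∀ n : ℤ, (CategoryTheory.shiftFunctor D n).Additive]
    [Pretriangulated D] [∀ n : ℤ, (CategoryTheory.shiftFunctor D n).Linear A]
    (T : Triangle D) (hT : T ∈ distTriang D) (f : A) (h3 : IsIso (f • 𝟙 T.obj₃)) (E : D)
    (hE : Cpl f E) : Function.Bijective (fun g : T.obj₂ ⟶ E => T.mor₁ ≫ g) := by
  constructor
  · intro g g' h
    have h0 : T.mor₁ ≫ (g - g') = 0 := by
      rw [Preadditive.comp_sub]
      exact sub_eq_zero.mpr h
    obtain ⟨b, hb⟩ := Triangle.yoneda_exact₂ T hT (g - g') h0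
    rw [hE _ h3 b, comp_zero] at hb
    exact sub_eq_zero.mp hb
  · intro a
    have hinv := inv_rot_of_distTriang _ hT
    have h3' : IsIso (f • 𝟙 (T.obj₃⟦(-1 : ℤ)⟧)) := isIso_smul_map (CategoryTheory.shiftFunctor D (-1 : ℤ)) f h3
    have h0 : T.invRotate.mor₁ ≫ a = 0 := hE _ h3' _
    obtain ⟨b, hb⟩ := Triangle.yoneda_exact₂ _ hinv a h0
    exact ⟨b, hb.symm⟩

variable {K L : DRing.Cx A} (φ : K ⟶ L) (J : DRing.Cx A)

/-- `f` acts invertibly on `Q W` -/
lemma isIso_smul_Q_homCxS (f : A) (hL : ∀ p : ℤ, Function.Bijective (fun x : L.X p => f • x)) :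
    IsIso (f • 𝟙 (DerivedCategory.Q.obj (homCxS L J))) :=
  isIso_smul_Q_of_bijective f _ (fun i => bijective_smul_cochain f L J hL (i + 1))

/-- **One Čech step**: morphisms to `f`-complete objects do not see the difference between
`Hom•(K, J)` and `Hom•(mappingCocone φ, J)` when `f` is invertible on `L`. -/
theorem bijective_comp_homCxPre_fst (f : A)
    (hL : ∀ p : ℤ, Function.Bijective (fun x : L.X p => f • x)) (E : Dual.D A) (hE : Cpl f E) :
    Function.Bijective (fun g : DerivedCategory.Q.obj (DRing.homCx (mappingCocone φ) J) ⟶ E =>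
      DerivedCategory.Q.map (homCxPre (mappingCocone.fst φ) J) ≫ g) :=
  bijective_comp_of_cpl _ (DerivedCategory.triangleOfSES_distinguished (homCxSC_shortExact φ J)) f
    (isIso_smul_Q_homCxS J f hL) E hE

end Groth.Agent.Lib.HomTensor25
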