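import Groth.Agent.Lib.LocFreeBasis48

/-!
# Pullback of a local basis is a local basis (helper48)

* `isIso_desc_of_isBasis`: a global basis gives an isomorphism `O^n ≅ M`.
* `isBasis_pb`: `IsBasis M V e → IsBasis (f^* M) (f⁻¹ V) (pb f M ∘ e)`.
-/

set_option autoImplicit false
universe u

open CategoryTheory CategoryTheory.Limits AlgebraicGeometry TopologicalSpace Opposite
open AlgebraicGeometry.Scheme AlgebraicGeometry.Scheme.Modules
open Groth.Agent.Lib.StructureModule Groth.Agent.Lib.H90Invertible Groth.Agent.Lib.H78TensorGen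
open Groth.Agent.Lib.CurveDeg48 Groth.Agent.Lib.H78SecCoord Groth.Agent.Lib.H78PullSec

namespace Groth.Agent.Lib.LocFreeBasis48

variable {X Y : Scheme.{u}} {n : ℕ}

/-- the morphism `O^n ⟶ M` given by `n` global sections -/
noncomputable def descSec {M : Y.Modules} (e : Fin n → Γ(M, ⊤)) : FlatMod.freeMod Y n ⟶ M :=
  Sigma.desc (fun i => ofSection (e i))

lemma ι_descSec {M : Y.Modules} (e : Fin n → Γ(M, ⊤)) (i : Fin n) :
    Sigma.ι (fun _ : Fin n => Coh.structureModule Y) i ≫ descSec e = ofSection (e i) := by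
  simp [descSec]

lemma isIso_descSec_of_isBasis {M : Y.Modules} {e : Fin n → Γ(M, ⊤)} (he : IsBasis M ⊤ e) :
    IsIso (descSec e) := by
  rw [Hom.isIso_iff_isIso_app]
  intro W
  rw [ConcreteCategory.isIso_iff_bijective]
  have h1 := pw_sections_bijective (Coh.structureModule Y) n W
  have h2 := he W le_top
  have h3 : (fun a : Fin n → Γ(Y, W) => ∑ i, a i • rs M le_top (e i)) =
      (fun z => (descSec e).app W z) ∘
      (fun x : Fin n → Γ(Coh.structureModule Y, W) =>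
        ∑ i, (Sigma.ι (fun _ : Fin n => Coh.structureModule Y) i).app W (x i)) ∘
      (fun (a : Fin n → Γ(Y, W)) (i : Fin n) => toSec W (a i)) := by
    funext a
    simp only [Function.comp_apply]
    rw [map_sum]
    refine Finset.sum_congr rfl (fun i _ => ?_)
    change _ = ((Sigma.ι (fun _ : Fin n => Coh.structureModule Y) i) ≫ descSec e).app W (toSec W (a i))
    rw [ι_descSec, ofSection_app]
  rw [h3] at h2
  have h4 : Function.Bijective ((fun x : Fin n → Γ(Coh.structureModule Y, W) =>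
        ∑ i, (Sigma.ι (fun _ : Fin n => Coh.structureModule Y) i).app W (x i)) ∘
      (fun (a : Fin n → Γ(Y, W)) (i : Fin n) => toSec W (a i))) :=
    h1.comp Function.bijective_id
  exact (Function.Bijective.of_comp_iff _ h4).mp h2

variable (f : X ⟶ Y)

/-- the iso `O_X^n ≅ f^* M` induced by a global basis of `M` -/
noncomputable def pullBasisIso {M : Y.Modules} {e : Fin n → Γ(M, ⊤)} (he : IsBasis M ⊤ e) :
    FlatMod.freeMod X n ≅ (Scheme.Modules.pullback f).obj M :=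
  haveI := isIso_descSec_of_isBasis he
  Sigma.mapIso (fun _ : Fin n => (unitIso f).symm) ≪≫
    (PreservesCoproduct.iso (Scheme.Modules.pullback f) (fun _ : Fin n => Coh.structureModule Y)).symm ≪≫
    (Scheme.Modules.pullback f).mapIso (asIso (descSec e))

lemma ι_pullBasisIso_hom {M : Y.Modules} {e : Fin n → Γ(M, ⊤)} (he : IsBasis M ⊤ e) (i : Fin n) :
    Sigma.ι (fun _ : Fin n => Coh.structureModule X) i ≫ (pullBasisIso f he).hom =
      (unitIso f).inv ≫ (Scheme.Modules.pullback f).map (ofSection (e i)) := by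
  have h1 : Sigma.ι (fun _ : Fin n => (Scheme.Modules.pullback f).obj (Coh.structureModule Y)) i ≫
      (PreservesCoproduct.iso (Scheme.Modules.pullback f) (fun _ : Fin n => Coh.structureModule Y)).inv =
      (Scheme.Modules.pullback f).map (Sigma.ι (fun _ : Fin n => Coh.structureModule Y) i) := by
    exact ι_comp_sigmaComparison (Scheme.Modules.pullback f) (fun _ : Fin n => Coh.structureModule Y) i
  unfold pullBasisIso
  simp only [Iso.trans_hom, Iso.symm_hom, Functor.mapIso_hom, asIso_hom]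
  rw [← Category.assoc, Sigma.ι_mapIso_hom, Category.assoc, ← Category.assoc
    (Sigma.ι (fun _ : Fin n => (Scheme.Modules.pullback f).obj (Coh.structureModule Y)) i), h1,
    ← Functor.map_comp, ι_descSec]
  rfl

lemma isBasis_pb_of_eq_top (M : Y.Modules) (T : Y.Opens) (hT : T = ⊤) (e : Fin n → Γ(M, T))
    (he : IsBasis M T e) :
    IsBasis ((Scheme.Modules.pullback f).obj M) (f ⁻¹ᵁ T) (fun i => pb f M (e i)) := by
  subst hT
  have h1 := (isBasis_freeMod (X := X) n (f ⁻¹ᵁ (⊤ : Y.Opens))).of_iso (pullBasisIso f he)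
  have h2 : (fun i => (pullBasisIso f he).hom.app (f ⁻¹ᵁ (⊤ : Y.Opens))
      ((Sigma.ι (fun _ : Fin n => Coh.structureModule X) i).app (f ⁻¹ᵁ (⊤ : Y.Opens))
        (toSec (f ⁻¹ᵁ (⊤ : Y.Opens)) 1))) = fun i => pb f M (e i) := by
    funext i
    change ((Sigma.ι (fun _ : Fin n => Coh.structureModule X) i) ≫ (pullBasisIso f he).hom).app
      (f ⁻¹ᵁ (⊤ : Y.Opens)) (toSec (f ⁻¹ᵁ (⊤ : Y.Opens)) 1) = _
    rw [ι_pullBasisIso_hom]
    change ((Scheme.Modules.pullback f).map (ofSection (e i))).app _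
      ((unitIso f).inv.app (f ⁻¹ᵁ ⊤) (toSec (f ⁻¹ᵁ ⊤) 1)) = _
    have h3 := unitIso_inv_toSec f ⊤ 1
    rw [map_one] at h3
    rw [h3, pb_map, ofSection_app, one_smul]
    exact congrArg (pb f M) (rs_self M (e i))
  rwa [h2] at h1

section ResPull

open Groth.Agent.Lib.H78Restrict Groth.Agent.Lib.ModPullback

/-- the pullback of a free basis is a free basis -/
theorem isBasis_pb {V : Y.Opens} {M : Y.Modules} {e : Fin n → Γ(M, V)} (he : IsBasis M V e) :
    IsBasis ((Scheme.Modules.pullback f).obj M) (f ⁻¹ᵁ V) (fun i => pb f M (e i)) := by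
  have h0 : IsBasis (M.restrict V.ι) (V.ι ⁻¹ᵁ V)
      (fun i => toR V.ι M (V.ι ⁻¹ᵁ V) (rs M (V.ι.image_preimage_le V) (e i))) :=
    (isBasis_restrict_iff V.ι M _ _).2 (he.mono _)
  have h1 := isBasis_pb_of_eq_top (f ∣_ V) (M.restrict V.ι) _ V.ι_preimage_self _ h0
  have h2 := h1.mono (le_of_eq (preimage_eq f V V))
  have h3 := h2.of_iso (restrictPullbackIso f V M).symm
  have h3' : IsBasis (((Scheme.Modules.pullback f).obj M).restrict (f ⁻¹ᵁ V).ι)
      ((f ⁻¹ᵁ V).ι ⁻¹ᵁ (f ⁻¹ᵁ V)) (fun i => toR (f ⁻¹ᵁ V).ι _ _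
        (rs _ ((f ⁻¹ᵁ V).ι.image_preimage_le (f ⁻¹ᵁ V)) (pb f M (e i)))) := by
    have hfun : (fun i => toR (f ⁻¹ᵁ V).ι ((Scheme.Modules.pullback f).obj M) _
        (rs _ ((f ⁻¹ᵁ V).ι.image_preimage_le (f ⁻¹ᵁ V)) (pb f M (e i)))) =
        (fun i => (restrictPullbackIso f V M).symm.hom.app ((f ⁻¹ᵁ V).ι ⁻¹ᵁ (f ⁻¹ᵁ V))
          (rs _ (le_of_eq (preimage_eq f V V))
            (pb (f ∣_ V) (M.restrict V.ι)
              (toR V.ι M (V.ι ⁻¹ᵁ V) (rs M (V.ι.image_preimage_le V) (e i)))))) := by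
      funext i
      have h4 := restrictPullbackIso_pb f V M (e i)
      have h5 := iso_inv_hom_app (restrictPullbackIso f V M) ((f ⁻¹ᵁ V).ι ⁻¹ᵁ (f ⁻¹ᵁ V))
        (toR (f ⁻¹ᵁ V).ι _ _ (rs _ ((f ⁻¹ᵁ V).ι.image_preimage_le (f ⁻¹ᵁ V)) (pb f M (e i))))
      rw [h4] at h5
      exact h5.symm
    rw [hfun]
    exact h3
  have h6 := (isBasis_restrict_iff (f ⁻¹ᵁ V).ι _ _ _).1 h3'
  have hE : f ⁻¹ᵁ V = (f ⁻¹ᵁ V).ι ''ᵁ ((f ⁻¹ᵁ V).ι ⁻¹ᵁ (f ⁻¹ᵁ V)) := by
    rw [Scheme.Hom.image_preimage_eq_opensRange_inf, Scheme.Opens.opensRange_ι, inf_idem]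
  have h7 := h6.mono (le_of_eq hE)
  have h8 : (fun i => rs ((Scheme.Modules.pullback f).obj M) (le_of_eq hE)
      (rs _ ((f ⁻¹ᵁ V).ι.image_preimage_le (f ⁻¹ᵁ V)) (pb f M (e i)))) = fun i => pb f M (e i) := by
    funext i
    rw [rs_rs]
    exact rs_self _ _
  rw [← h8]
  exact h7

end ResPull

end Groth.Agent.Lib.LocFreeBasis48
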