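import Groth.Agent.Lib.SheafHomDual23
import Groth.Agent.Lib.FreeModSch
import Groth.Agent.Lib.LocFreeBasis48b
import Groth.Agent.Lib.CohFinAmple
import Groth.Agent.Lib.H90InvertibleFP
import Groth.Agent.Lib.TwistFlatH44
import Groth.Agent.Lib.FlatOverSections

/-!
# `Hom(E, H) = Γ(X, H ⊗ E^∨)` for `E` finite locally free (helper44)

* `homSec hE H : (E ⟶ H) ≃+ Γ(H ⊗ E^∨, ⊤)`, natural in `H` (`homSec_comp`);
* `secAssoc` : `Γ((N ⊗ F) ⊗ D) ≃+ Γ(N ⊗ (F ⊗ D))`, natural in `N`.
-/

set_option autoImplicit false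
universe u
open CategoryTheory CategoryTheory.Limits AlgebraicGeometry TopologicalSpace Opposite
open Groth.Agent.Lib.OXModTensor Groth.Agent.Lib.TwistEquiv
open Groth.Agent.Lib.SheafHom23 Groth.Agent.Lib.DualPair23 Groth.Agent.Lib.DualFLF23
open Groth.Agent.Lib.FreeModSch Groth.Agent.Lib.SheafHomDual23

namespace Groth.Agent.Lib.HomDualH44

variable {X : Scheme.{u}}

section Unit

theorem toSection_eq {M : X.Modules} (f : Coh.structureModule X ⟶ M) :
    toSection f = f.app ⊤ (toSection (𝟙 (Coh.structureModule X))) := by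
  have h := toSection_comp (𝟙 (Coh.structureModule X)) f
  rwa [Category.id_comp] at h

theorem toSection_add {M : X.Modules} (f g : Coh.structureModule X ⟶ M) :
    toSection (f + g) = toSection f + toSection g := by
  rw [toSection_eq (f + g), toSection_eq f, toSection_eq g]
  rfl

theorem ofSection_toSection {M : X.Modules} (f : Coh.structureModule X ⟶ M) :
    ofSection M (toSection f) = f :=
  unit_hom_ext _ _ (toSection_ofSection M _)

/-- `Hom(O_X, M) ≃+ Γ(M, ⊤)` -/
noncomputable def unitSec (M : X.Modules) : (Coh.structureModule X ⟶ M) ≃+ Γ(M, ⊤) where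
  toFun := toSection
  invFun := ofSection M
  left_inv := ofSection_toSection
  right_inv := toSection_ofSection M
  map_add' := toSection_add

theorem unitSec_comp {M N : X.Modules} (f : Coh.structureModule X ⟶ M) (p : M ⟶ N) :
    unitSec N (f ≫ p) = p.app ⊤ (unitSec M f) := rfl

end Unit

section HomSec

variable {E : X.Modules} (hE : FlatMod.IsFinLocFree E)

/-- the underlying bijection of `homSec` -/
noncomputable def homSecEquiv (H : X.Modules) :
    (E ⟶ H) ≃ Γ(CohB1.tensorMod H (dual E), ⊤) :=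
  ((leftUnitor E).symm.homFromEquiv).trans
    (((adjDual hE).homEquiv (Coh.structureModule X) H).trans (unitSec _).toEquiv)

theorem homSecEquiv_apply (H : X.Modules) (φ : E ⟶ H) :
    homSecEquiv hE H φ =
      toSection ((adjDual hE).homEquiv (Coh.structureModule X) H ((leftUnitor E).hom ≫ φ)) := rfl

theorem homSecEquiv_comp {H H' : X.Modules} (φ : E ⟶ H) (h : H ⟶ H') :
    homSecEquiv hE H' (φ ≫ h) = (tensorModMap h (𝟙 (dual E))).app ⊤ (homSecEquiv hE H φ) := by
  rw [homSecEquiv_apply, homSecEquiv_apply, ← Category.assoc,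
    Adjunction.homEquiv_naturality_right, toSection_comp, tensorRightFunctor_map]
  rfl

theorem homSecEquiv_add (H : X.Modules) (φ ψ : E ⟶ H) :
    homSecEquiv hE H (φ + ψ) = homSecEquiv hE H φ + homSecEquiv hE H ψ := by
  rw [homSecEquiv_apply, homSecEquiv_apply, homSecEquiv_apply, Preadditive.comp_add,
    Adjunction.homEquiv_unit, Adjunction.homEquiv_unit, Adjunction.homEquiv_unit]
  rw [Functor.map_add, Preadditive.comp_add, toSection_add]
  rfl

/-- **`Hom(E, H) ≃+ Γ(X, H ⊗ E^∨)`** for `E` finite locally free -/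
noncomputable def homSec (H : X.Modules) : (E ⟶ H) ≃+ Γ(CohB1.tensorMod H (dual E), ⊤) :=
  { homSecEquiv hE H with map_add' := homSecEquiv_add hE H }

theorem homSec_comp {H H' : X.Modules} (φ : E ⟶ H) (h : H ⟶ H') :
    homSec hE H' (φ ≫ h) = (tensorModMap h (𝟙 (dual E))).app ⊤ (homSec hE H φ) :=
  homSecEquiv_comp hE φ h

end HomSec

section Assoc

/-- an isomorphism of modules induces an additive equivalence on global sections -/
noncomputable def secIso {M N : X.Modules} (e : M ≅ N) : Γ(M, ⊤) ≃+ Γ(N, ⊤) where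
  toFun := fun x => e.hom.app ⊤ x
  invFun := fun x => e.inv.app ⊤ x
  left_inv := fun x => congrArg (fun ψ : M ⟶ M => ψ.app ⊤ x) e.hom_inv_id
  right_inv := fun x => congrArg (fun ψ : N ⟶ N => ψ.app ⊤ x) e.inv_hom_id
  map_add' := fun x y => map_add (e.hom.app ⊤).hom x y

theorem associator_hom_natural_left (F D : X.Modules) {N N' : X.Modules} (g : N ⟶ N') :
    tensorModMap (tensorModMap g (𝟙 F)) (𝟙 D) ≫ (associator N' F D).hom =
      (associator N F D).hom ≫ tensorModMap g (𝟙 (CohB1.tensorMod F D)) := by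
  have h : tensorModMap (tensorModMap g (𝟙 F)) (𝟙 D) ≫ (associator N' F D).hom =
      (associator N F D).hom ≫ tensorModMap g (tensorModMap (𝟙 F) (𝟙 D)) :=
    (locData X).associator_hom_naturality g (𝟙 F) (𝟙 D)
  rwa [tensorModMap_id] at h

/-- `Γ((N ⊗ F) ⊗ D) ≃+ Γ(N ⊗ (F ⊗ D))` -/
noncomputable def secAssoc (N F D : X.Modules) :
    Γ(CohB1.tensorMod (CohB1.tensorMod N F) D, ⊤) ≃+ Γ(CohB1.tensorMod N (CohB1.tensorMod F D), ⊤) :=
  secIso (associator N F D)

theorem secAssoc_natural (F D : X.Modules) {N N' : X.Modules} (g : N ⟶ N')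
    (x : Γ(CohB1.tensorMod (CohB1.tensorMod N F) D, ⊤)) :
    secAssoc N' F D ((tensorModMap (tensorModMap g (𝟙 F)) (𝟙 D)).app ⊤ x) =
      (tensorModMap g (𝟙 (CohB1.tensorMod F D))).app ⊤ (secAssoc N F D x) :=
  congrArg (fun ψ : CohB1.tensorMod (CohB1.tensorMod N F) D ⟶
    CohB1.tensorMod N' (CohB1.tensorMod F D) => ψ.app ⊤ x) (associator_hom_natural_left F D g)

end Assoc

section Props

open Groth.Agent.Lib.TensorBasis23 Groth.Agent.Lib.H78TensorGen

/-- the dual of a finite locally free module is finite locally free -/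
theorem isFinLocFree_dual {E : X.Modules} (hE : FlatMod.IsFinLocFree E) :
    FlatMod.IsFinLocFree (dual E) := by
  intro x
  obtain ⟨V, n, hxV, ⟨D⟩⟩ := isPerfect_evPairing hE x
  refine ⟨V, n, hxV, ?_⟩
  have e' : V.ι ''ᵁ ⊤ = V := by
    rw [V.ι.image_top_eq_opensRange, V.opensRange_ι]
  have h1 : IsBasis (dual E) (V.ι ''ᵁ ⊤) (fun i => rs (dual E) e'.le (D.b i)) := D.hb.of_eq e'
  have h2 := isBasis_restrict_of_isBasis V.ι (dual E) ⊤ _ h1
  let s : Fin n → Γ((dual E).restrict V.ι, ⊤) := fun i => rs (dual E) e'.le (D.b i)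
  have h3 : Groth.Agent.Lib.LocFreeBasis48.IsBasis ((dual E).restrict V.ι) ⊤ s := fun W h => h2 W h
  have := Groth.Agent.Lib.LocFreeBasis48.isIso_descSec_of_isBasis h3
  exact ⟨(asIso (Groth.Agent.Lib.LocFreeBasis48.descSec s)).symm⟩

theorem isCoh_tensorMod_dual {F E : X.Modules} (hF : Coh.IsCoh F) (hE : FlatMod.IsFinLocFree E) :
    Coh.IsCoh (CohB1.tensorMod F (dual E)) :=
  Groth.Agent.Lib.CohFinAmple.isCoh_tensorMod hF
    (Groth.Agent.Lib.H90Invertible.isCoh_of_isFinLocFree (isFinLocFree_dual hE))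

theorem flat_pi (R M : Type*) [CommRing R] [AddCommGroup M] [Module R M] [Module.Flat R M] (n : ℕ) :
    Module.Flat R (Fin n → M) := by
  classical
  exact Module.Flat.of_linearEquiv
    (DFinsupp.linearEquivFunOnFintype (R := R) (M := fun _ : Fin n => M)).symm

open Groth.Agent.Lib.TwistFlatH44 in
/-- tensoring with a finite locally free module preserves flatness over the base -/
theorem isFlatOver_tensorMod_of_isFinLocFree {Y : Scheme.{u}} (f : X ⟶ Y) (F : X.Modules)
    [F.IsQuasicoherent] (N : X.Modules) [(CohB1.tensorMod F N).IsQuasicoherent]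
    (hN : FlatMod.IsFinLocFree N) (hfl : FlatMod.IsFlatOver f F) :
    FlatMod.IsFlatOver f (CohB1.tensorMod F N) := by
  intro x
  obtain ⟨V₀, n, e₀, hxV₀, he₀⟩ := exists_isBasis_of_isFinLocFree hN x
  obtain ⟨_, ⟨V, hV, rfl⟩, hxV, -⟩ :=
    Y.isBasis_affineOpens.exists_subset_of_mem_open (Set.mem_univ (f x)) isOpen_univ
  obtain ⟨_, ⟨U, hU, rfl⟩, hxU, hUle⟩ :=
    X.isBasis_affineOpens.exists_subset_of_mem_open
      (show x ∈ ((f ⁻¹ᵁ V ⊓ V₀ : X.Opens) : Set X) from ⟨hxV, hxV₀⟩) (f ⁻¹ᵁ V ⊓ V₀).isOpen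
  have hUV : U ≤ f ⁻¹ᵁ V := fun y hy => (hUle hy).1
  have hUV₀ : U ≤ V₀ := fun y hy => (hUle hy).2
  have he : IsBasis N U (fun i => rs N hUV₀ (e₀ i)) := he₀.mono hUV₀
  have h1 := (Groth.Agent.Lib.FlatOverSections.forall_isFlatOverAt_iff_flat_sections f F hU hV hUV).mp
    (fun y _ => hfl y)
  refine (Groth.Agent.Lib.FlatOverSections.forall_isFlatOverAt_iff_flat_sections f
    (CohB1.tensorMod F N) hU hV hUV).mpr ?_ x hxU
  let Φ : (Fin n → SA (f.appLE V U hUV).hom F U le_rfl) →ₗ[Γ(Y, V)]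
      SA (f.appLE V U hUV).hom (CohB1.tensorMod F N) U le_rfl :=
    ∑ i, (tmulA (f.appLE V U hUV).hom F N (le_refl U) (rs N hUV₀ (e₀ i))).comp (LinearMap.proj i)
  have hbij : Function.Bijective Φ := by
    have h := tmul_basis_bijective F he (le_refl U)
    have e : (fun y : Fin n → Γ(F, U) => ∑ i, tmul (y i) (rs N (le_refl U) (rs N hUV₀ (e₀ i)))) =
        fun y : Fin n → SA (f.appLE V U hUV).hom F U le_rfl => Φ y := by
      funext y
      rw [LinearMap.sum_apply]
      refine Finset.sum_congr rfl (fun i _ => ?_)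
      exact congrArg (fun e => tmul (y i) e) (rs_self N (rs N hUV₀ (e₀ i)))
    rw [e] at h
    exact h
  have : Module.Flat Γ(Y, V) (SA (f.appLE V U hUV).hom F U le_rfl) := (flat_SA_iff _ _).2 h1
  have := flat_pi Γ(Y, V) (SA (f.appLE V U hUV).hom F U le_rfl) n
  exact (flat_SA_iff _ _).1 (Module.Flat.of_linearEquiv (LinearEquiv.ofBijective Φ hbij).symm)

end Props

end Groth.Agent.Lib.HomDualH44
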