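import Groth.Agent.Lib.SchDomProd45
import Groth.Agent.Lib.GrpHomAction45
import Groth.Agent.Lib.ActStable18
import Groth.Agent.Lib.FlatDescend45
import Groth.Agent.Lib.GrpTopPts45

/-!
# Flatness of a homomorphism of group schemes over a field from flatness over one flat point
(helper45)

`f : G ⟶ H` a surjective quasi-compact homomorphism of group schemes over a field, `j : Z ⟶ H`
flat with `Z` quasi-compact nonempty, and the base change of `f` along `j` flat. Then `f` is flat
(fpqc descent along `G × Z ⟶ H`, `(g, z) ↦ f(g) j(z)`).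
-/

set_option autoImplicit false
set_option linter.unusedSectionVars false
universe u
open CategoryTheory CategoryTheory.Limits MonoidalCategory CartesianMonoidalCategory MonObj GrpObj
  AlgebraicGeometry
open Groth.Agent.Lib.GrpTopPts45 Groth.Agent.Lib.GrpHomAction45 Groth.Agent.Lib.GrpAction

namespace Groth.Agent.Lib.HomFlat45

variable {k : Type u} [Field k] {G H Z : Over (Spec (CommRingCat.of k))} [GrpObj G] [GrpObj H]
  (f : G ⟶ H) [IsMonHom f] (jZ : Z ⟶ H)

/-- `(g, z) ↦ f(g) j(z)`. -/
noncomputable def cov : G ⊗ Z ⟶ H := (G ◁ jZ) ≫ (viaHom f).act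

lemma cov_eq : cov f jZ = (fst G Z ≫ f) * (snd G Z ≫ jZ) := by
  rw [cov, viaHom_act, MonObj.comp_mul, whiskerLeft_fst_assoc, whiskerLeft_snd]

lemma cov_eq' : cov f jZ =
    ((β_ G Z).hom ≫ (Z ◁ (ι[G] ≫ f)) ≫ (Groth.Agent.S0352.transl (jZ ≫ ι[H])).hom ≫ snd Z H) ≫
      ι[H] := by
  rw [Groth.Agent.S0352.whiskerLeft_transl_snd, MonObj.comp_mul, ← Hom.inv_def, cov_eq]
  have h1 : (β_ G Z).hom ≫ fst Z G ≫ jZ ≫ ι[H] = (snd G Z ≫ jZ)⁻¹ := by
    rw [Hom.inv_def, Category.assoc]
    simp
  have h2 : (β_ G Z).hom ≫ snd Z G ≫ ι[G] ≫ f = (fst G Z ≫ f)⁻¹ := by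
    rw [← GrpObj.inv_comp, Hom.inv_def]
    simp
  rw [h1, h2, ← _root_.mul_inv_rev, _root_.inv_inv]

set_option backward.isDefEq.respectTransparency false in
lemma flat_cov [Flat jZ.left] : Flat (cov f jZ).left := by
  rw [cov, Over.comp_left]
  have h1 : Flat (G ◁ jZ).left :=
    MorphismProperty.of_isPullback (P := @Flat)
      (Groth.Agent.Lib.ActOpen18.isPullback_whiskerLeft_snd G jZ).flip inferInstance
  have h2 : Flat (viaHom f).act.left := by
    rw [act_left_eq]
    have := Groth.Agent.Lib.SchDomProd45.flat_snd G H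
    have h3 : Flat (pullback.snd G.hom H.hom) := this
    infer_instance
  infer_instance

lemma quasiCompact_cov [QuasiCompact f.left] [QuasiCompact Z.hom] :
    QuasiCompact (cov f jZ).left := by
  rw [cov_eq']
  simp only [Over.comp_left]
  have h0 : IsIso (ι[G]).left := inferInstanceAs (IsIso ((Over.forget _).map ι[G]))
  have h0' : IsIso (ι[H]).left := inferInstanceAs (IsIso ((Over.forget _).map ι[H]))
  have h1 : IsIso (β_ G Z).hom.left := inferInstanceAs (IsIso ((Over.forget _).map (β_ G Z).hom))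
  have h2 : QuasiCompact (ι[G] ≫ f).left := by
    rw [Over.comp_left]; infer_instance
  have h3 : QuasiCompact (Z ◁ (ι[G] ≫ f)).left :=
    Groth.Agent.Lib.SchDomProd45.quasiCompact_whiskerLeft Z (ι[G] ≫ f)
  have h4 : IsIso (Groth.Agent.S0352.transl (jZ ≫ ι[H])).hom.left :=
    inferInstanceAs (IsIso ((Over.forget _).map (Groth.Agent.S0352.transl (jZ ≫ ι[H])).hom))
  have h5 : QuasiCompact (snd Z H).left :=
    inferInstanceAs (QuasiCompact (pullback.snd Z.hom H.hom))
  infer_instance

lemma surjective_cov (hf : Function.Surjective f.left) [Nonempty Z.left] :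
    Function.Surjective (cov f jZ).left := by
  intro x
  obtain ⟨z₀⟩ := ‹Nonempty Z.left›
  obtain ⟨w₀, hw1, hw2⟩ := Scheme.Pullback.exists_preimage_pullback (f := H.hom) (g := H.hom) x
    (jZ.left z₀) (Subsingleton.elim (α := PrimeSpectrum k) _ _)
  have hw1' : (fst H H).left w₀ = x := hw1
  have hw2' : (snd H H).left w₀ = jZ.left z₀ := hw2
  obtain ⟨g₀, hg₀⟩ := hf ((fst H H * (snd H H)⁻¹).left w₀)
  obtain ⟨Q₁, q₁, q₁', z₁, hz₁, -, e₁⟩ :=
    exists_common (fst H H * (snd H H)⁻¹) f w₀ g₀ hg₀.symm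
  have hb : (q₁ ≫ snd H H).left z₁ = jZ.left z₀ := by
    rw [comp_left_apply, hz₁, hw2']
  obtain ⟨Q₂, q₂, q₂', z₂, hz₂, -, e₂⟩ := exists_common (q₁ ≫ snd H H) jZ z₁ z₀ hb
  refine ⟨(lift (q₂ ≫ q₁') q₂').left z₂, ?_⟩
  rw [← Scheme.Hom.comp_apply, ← Over.comp_left, cov_eq, MonObj.comp_mul, lift_fst_assoc,
    lift_snd_assoc, Category.assoc, ← e₁, ← e₂, ← Category.assoc, ← Category.assoc,
    ← MonObj.comp_mul, inv_mul_cancel_right, comp_left_apply, comp_left_apply, hz₂, hz₁, hw1']

set_option backward.isDefEq.respectTransparency false in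
/-- Flatness of a homomorphism from flatness of its base change along one flat "point". -/
theorem flat_of_flat_pullback [QuasiCompact f.left] (hf : Function.Surjective f.left)
    [Flat jZ.left] [QuasiCompact Z.hom] [Nonempty Z.left]
    (hp : Flat (pullback.fst jZ.left f.left)) : Flat f.left := by
  -- the pullback of `f` along `jZ`, as objects over `k`
  let P : Over (Spec (CommRingCat.of k)) := Over.mk (pullback.snd jZ.left f.left ≫ G.hom)
  let q : P ⟶ G := Over.homMk (pullback.snd jZ.left f.left) rfl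
  let p : P ⟶ Z := Over.homMk (pullback.fst jZ.left f.left) (by
    change pullback.fst jZ.left f.left ≫ Z.hom = pullback.snd jZ.left f.left ≫ G.hom
    rw [← Over.w jZ, ← Category.assoc, pullback.condition, Category.assoc, Over.w f])
  have hpq : p ≫ jZ = q ≫ f := by
    ext1
    exact pullback.condition
  have S2 : IsPullback p.left q.left jZ.left f.left := IsPullback.of_hasPullback jZ.left f.left
  have S1 := Groth.Agent.Lib.ActOpen18.isPullback_whiskerLeft_snd G p
  have S3 := Groth.Agent.Lib.ActOpen18.isPullback_whiskerLeft_snd G f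
  have outer := S1.paste_vert S2
  have e1 : (snd G P).left ≫ q.left = (G ◁ q).left ≫ (snd G G).left := by
    rw [← Over.comp_left, ← Over.comp_left, whiskerLeft_snd]
  have e2 : (snd G Z).left ≫ jZ.left = (G ◁ jZ).left ≫ (snd G H).left := by
    rw [← Over.comp_left, ← Over.comp_left, whiskerLeft_snd]
  rw [e1, e2] at outer
  have L : IsPullback (G ◁ p).left (G ◁ q).left (G ◁ jZ).left (G ◁ f).left :=
    IsPullback.of_bot outer (by
      rw [← Over.comp_left, ← Over.comp_left, ← MonoidalCategory.whiskerLeft_comp,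
        ← MonoidalCategory.whiskerLeft_comp, hpq]) S3
  have S4 := Groth.Agent.Lib.ActStable18.isPullback_whiskerLeft_act (leftMul G) (viaHom f) f
    (whiskerLeft_viaHom_act f)
  have total := L.paste_vert S4
  have hflatp : Flat (G ◁ p).left :=
    MorphismProperty.of_isPullback (P := @Flat) S1.flip hp
  have hcov : (G ◁ jZ).left ≫ (viaHom f).act.left = (cov f jZ).left := by
    rw [cov, Over.comp_left]
  rw [hcov] at total
  have hQ : (@Surjective ⊓ @Flat ⊓ @QuasiCompact : MorphismProperty Scheme.{u})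
      (cov f jZ).left :=
    ⟨⟨⟨surjective_cov f jZ hf⟩, flat_cov f jZ⟩, quasiCompact_cov f jZ⟩
  exact MorphismProperty.of_isPullback_of_descendsAlong (P := @Flat)
    (Q := @Surjective ⊓ @Flat ⊓ @QuasiCompact) total hQ hflatp

end Groth.Agent.Lib.HomFlat45
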