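import Groth.Agent.Lib.TensorBraid25
import Groth.Agent.Lib.KFlat35

/-!
# `Hom•(X, J)` is K-injective for `X` K-flat and `J` K-injective (helper25)

* `isKFlat_of_flat`: a bounded above complex of flat modules is K-flat (on the right).
* `Ψ_δ`: currying commutes with the differentials.
* `isKInjective_homCx`: `Hom•(X, J)` is K-injective when `- ⊗ X` preserves acyclicity and `J` is
  K-injective.
* `acyclic_homCx`: `Hom•(Z, J)` is acyclic for `Z` acyclic and `J` K-injective.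
-/

set_option autoImplicit false
universe u

open CategoryTheory Category Limits MonoidalCategory CochainComplex HomComplex

namespace Groth.Agent.Lib.HomTensor25

variable {A : Type u} [CommRing A]

/-- a bounded above complex of flat modules is K-flat -/
theorem isKFlat_of_flat (X : DRing.Cx A) (hflat : ∀ i : ℤ, Module.Flat A (X.X i)) (b : ℤ)
    (hb : ∀ i : ℤ, b < i → IsZero (X.X i)) : Groth.Agent.Lib.KFlat35.IsKFlat X := fun Z hZ =>
  Groth.Agent.Lib.KFlat35.acyclic_of_iso (tensorBraid X Z)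
    (Groth.Agent.Lib.TensorCxZ35.acyclic_tensorObj_of_flat X Z hflat b hb hZ)

variable {K L M : DRing.Cx A}

lemma Ψ_δ (m m' : ℤ) (hm : m + 1 = m') (Θ : Cochain (T K L) M m) :
    Ψ (δ m m' Θ) = δ m m' (Ψ Θ) := by
  have h := Φ_δ m m' hm (Ψ Θ)
  rw [Φ_Ψ] at h
  rw [← h, Ψ_Φ]

/-- `Hom•(X, J)` is K-injective when `J` is K-injective and `- ⊗ X` preserves acyclic complexes. -/
theorem isKInjective_homCx (X J : DRing.Cx A) (hX : Groth.Agent.Lib.KFlat35.IsKFlat X)
    [J.IsKInjective] : (DRing.homCx X J).IsKInjective := by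
  refine ⟨fun {Z} g hZ => ?_⟩
  -- the adjoint chain map
  let c : Cochain Z (DRing.homCx X J) 0 := Cochain.ofHom g
  have hc : δ 0 1 c = 0 := δ_ofHom g
  have hΦ : δ 0 1 (Φ c) = 0 := by rw [← Φ_δ 0 1 (zero_add 1), hc]; exact (equiv (K := Z) (L := X) (M := J) 1).map_zero
  let g' : T Z X ⟶ J := Cocycle.homOf (Cocycle.mk (Φ c) 1 (zero_add 1) hΦ)
  have hg' : Cochain.ofHom g' = Φ c := Cocycle.cochain_ofHom_homOf_eq_coe _
  obtain ⟨ho⟩ := IsKInjective.nonempty_homotopy_zero g' (hX Z hZ)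
  obtain ⟨w, hw⟩ := Cochain.equivHomotopy _ _ ho
  rw [Cochain.ofHom_zero, add_zero, hg'] at hw
  refine ⟨(Cochain.equivHomotopy _ _).symm ⟨Ψ w, ?_⟩⟩
  rw [Cochain.ofHom_zero, add_zero, ← Ψ_δ (-1) 0 (neg_add_cancel 1), ← hw, Ψ_Φ]

end Groth.Agent.Lib.HomTensor25
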