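import Groth.Agent.Lib.LiftAlg21
import Groth.Agent.Lib.BaseChangeSheafSqH44
import Groth.Agent.Lib.H78PullSec
import Groth.Agent.Lib.H4H0Nat
import Groth.Agent.Lib.TensorAModel2H44
import Groth.Agent.Lib.TensorALinH44

/-!
# Lifting sections from a fibre (helper21)

`X` over `Spec A` (`A` Noetherian), `F` quasi-coherent with a model `L` (`EndEquiv` in degree `0`), `x` a prime of `A`
with `T^1_L(κ(x)) = 0`, `K ≃ κ(x)` an `A`-algebra and `g' : X' ⟶ X` the base change to `K`.  Then every global section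
of `g'^* F` is, up to a scalar `a ∉ x`, the pullback of a global section of `F` (`exists_pb_eq_smulMod`).
-/

set_option autoImplicit false
set_option linter.style.haveILetI false
universe u

open CategoryTheory CategoryTheory.Limits AlgebraicGeometry Opposite CohIII

namespace Groth.Agent.Lib.LiftSection21

open Groth.Agent.Lib.FibreAlg21 Groth.Agent.Lib.EndEquivH44 Groth.Agent.Lib.EWH44
  Groth.Agent.Lib.BaseChangeSheafSqH44 Groth.Agent.Lib.H78PullSec Groth.Agent.Lib.H4Twist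
  Groth.Agent.Lib.LiftAlg21

variable (A : Type u) [CommRing A] [IsNoetherianRing A] (K : Type u) [CommRing K] [Algebra A K]
  {X X' : Scheme.{u}} [X.Over (Spec (CommRingCat.of A))] [X'.Over (Spec (CommRingCat.of K))]
  (g' : X' ⟶ X) (F : X.Modules)
  (L : CochainComplex (ModuleCat.{u} A) ℤ)

/-- the abstract lifting property of the model `L` at the prime `x` (with `K ≃ κ(x)`): `T^0_L(A)_x → T^0_L(K)` is onto -/
def LiftProp (x : PrimeSpectrum A) : Prop :=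
  ∀ t : (TFun L ((0 : ℕ) : ℤ)).obj (ModuleCat.of A K), ∃ a : A, a ∉ x.asIdeal ∧ ∃ s : NN L ((0 : ℕ) : ℤ),
    ((TFun L ((0 : ℕ) : ℤ)).map (pt (ModuleCat.of A K) 1)).hom s = a • t

/-- the lifting property holds if `T^1_L(κ(x)) = 0` -/
theorem liftProp_of_isZero (hP : ∀ i, Module.Flat A (L.X i)) (hfin : ∀ i, Module.Finite A (L.X i))
    (x : PrimeSpectrum A) (θ : K ≃+* x.asIdeal.ResidueField)
    (hθ : ∀ a : A, θ (algebraMap A K a) = algebraMap A x.asIdeal.ResidueField a)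
    (h : IsZero ((TFun L 1).obj (ModuleCat.of A x.asIdeal.ResidueField))) : LiftProp A K L x :=
  fun t => exists_smul_eq_map_of_equiv L hP hfin x ((0 : ℕ) : ℤ) K θ hθ (by simpa using h) t

omit [IsNoetherianRing A] in
/-- the lifting property holds if `T^0_L` is right exact and `A → K` is a localization of a quotient
(every element of `K` is a fraction `algebraMap b / algebraMap c` with `c ∉ x`) -/
theorem liftProp_of_preservesEpi (hP : ∀ i, Module.Flat A (L.X i))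
    (he : (TFun L ((0 : ℕ) : ℤ)).PreservesEpimorphisms) (x : PrimeSpectrum A)
    (hK : ∀ k : K, ∃ b c : A, c ∉ x.asIdeal ∧ algebraMap A K c * k = algebraMap A K b) :
    LiftProp A K L x := by
  intro t
  obtain ⟨w, hw⟩ := (Groth.Agent.Lib.TFun.tM_bijective_of_preservesEpi L ((0 : ℕ) : ℤ) hP he
    (ModuleCat.of A K)).2 t
  -- every element of `T^0(A) ⊗ K` becomes `n ⊗ 1` after multiplication by some `c ∉ x`
  have key : ∀ w : TensorProduct A (NN L ((0 : ℕ) : ℤ)) K, ∃ c : A, c ∉ x.asIdeal ∧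
      ∃ n : NN L ((0 : ℕ) : ℤ), c • w = n ⊗ₜ[A] (1 : K) := by
    intro w
    induction w using TensorProduct.induction_on with
    | zero => exact ⟨1, fun h1 => x.2.ne_top ((Ideal.eq_top_iff_one _).mpr h1), 0, by simp⟩
    | tmul n k =>
      obtain ⟨b, c, hc, hbc⟩ := hK k
      refine ⟨c, hc, b • n, ?_⟩
      rw [TensorProduct.smul_tmul', TensorProduct.smul_tmul, TensorProduct.smul_tmul]
      congr 1
      rw [Algebra.smul_def, Algebra.smul_def, mul_one, hbc]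
    | add w₁ w₂ h₁ h₂ =>
      obtain ⟨c₁, hc₁, n₁, e₁⟩ := h₁
      obtain ⟨c₂, hc₂, n₂, e₂⟩ := h₂
      refine ⟨c₁ * c₂, fun hmem => (x.2.mem_or_mem hmem).elim hc₁ hc₂, c₂ • n₁ + c₁ • n₂, ?_⟩
      rw [smul_add, mul_comm c₁ c₂, mul_smul, e₁, mul_comm c₂ c₁, mul_smul, e₂, TensorProduct.add_tmul,
        TensorProduct.smul_tmul', TensorProduct.smul_tmul']
  obtain ⟨c, hc, n, hcn⟩ := key w
  refine ⟨c, hc, n, ?_⟩
  rw [← hw, ← map_smul, hcn, Groth.Agent.Lib.EW.tM_tmul]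
  rfl

omit [IsNoetherianRing A] in
/-- sections form of the lifting statement for `F ⊗_A -` -/
theorem exists_map_eq_smul'
    (hE : EndEquiv (tensorAFunctor A F ⋙ HAb X 0)
      (TFun L ((0 : ℕ) : ℤ) ⋙ forget₂ (ModuleCat.{u} A) AddCommGrpCat.{u}))
    (x : PrimeSpectrum A) (hl : LiftProp A K L x)
    (t : Γ((tensorAFunctor A F).obj (ModuleCat.of A K), ⊤)) :
    ∃ a : A, a ∉ x.asIdeal ∧ ∃ s : Γ((tensorAFunctor A F).obj (ModuleCat.of A A), ⊤),
      ((tensorAFunctor A F).map (pt (ModuleCat.of A K) 1)).app ⊤ s =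
        ((tensorAFunctor A F).map (a • 𝟙 (ModuleCat.of A K))).app ⊤ t := by
  let Φ : Set (ModuleCat.of A K ⟶ ModuleCat.of A K) :=
    {α | ∃ a : A, a ∉ x.asIdeal ∧ α = a • 𝟙 (ModuleCat.of A K)}
  have hT : ∀ t₂ : (TFun L ((0 : ℕ) : ℤ) ⋙ forget₂ (ModuleCat.{u} A) AddCommGrpCat.{u}).obj
      (ModuleCat.of A K), ∃ α ∈ Φ, ∃ s₂ : (TFun L ((0 : ℕ) : ℤ) ⋙
        forget₂ (ModuleCat.{u} A) AddCommGrpCat.{u}).obj (ModuleCat.of A A),
      ((TFun L ((0 : ℕ) : ℤ) ⋙ forget₂ (ModuleCat.{u} A) AddCommGrpCat.{u}).map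
        (pt (ModuleCat.of A K) 1)).hom s₂ =
      ((TFun L ((0 : ℕ) : ℤ) ⋙ forget₂ (ModuleCat.{u} A) AddCommGrpCat.{u}).map α).hom t₂ := by
    intro t₂
    obtain ⟨a, ha, s, hs⟩ := hl t₂
    refine ⟨a • 𝟙 _, ⟨a, ha, rfl⟩, s, ?_⟩
    change ((TFun L ((0 : ℕ) : ℤ)).map (pt (ModuleCat.of A K) 1)).hom s =
      ((TFun L ((0 : ℕ) : ℤ)).map (a • 𝟙 (ModuleCat.of A K))).hom t₂
    rw [hs, Functor.map_smul, CategoryTheory.Functor.map_id]
    rfl
  obtain ⟨α, ⟨a, ha, rfl⟩, s, hs⟩ := EndEquiv.exists_map_eq_of hE (pt (ModuleCat.of A K) 1) Φ hT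
    ((h0Equiv ((tensorAFunctor A F).obj (ModuleCat.of A K))).symm t)
  refine ⟨a, ha, h0Equiv _ s, ?_⟩
  have h1 := congrArg (h0Equiv ((tensorAFunctor A F).obj (ModuleCat.of A K))) hs
  have h2 : h0Equiv ((tensorAFunctor A F).obj (ModuleCat.of A K))
      (((tensorAFunctor A F ⋙ HAb X 0).map (pt (ModuleCat.of A K) 1)).hom s) =
      ((tensorAFunctor A F).map (pt (ModuleCat.of A K) 1)).app ⊤ (h0Equiv _ s) :=
    h0Equiv_map ((tensorAFunctor A F).map (pt (ModuleCat.of A K) 1)) s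
  have h3 : h0Equiv ((tensorAFunctor A F).obj (ModuleCat.of A K))
      (((tensorAFunctor A F ⋙ HAb X 0).map (a • 𝟙 (ModuleCat.of A K))).hom
        ((h0Equiv ((tensorAFunctor A F).obj (ModuleCat.of A K))).symm t)) =
      ((tensorAFunctor A F).map (a • 𝟙 (ModuleCat.of A K))).app ⊤
        (h0Equiv _ ((h0Equiv ((tensorAFunctor A F).obj (ModuleCat.of A K))).symm t)) :=
    h0Equiv_map ((tensorAFunctor A F).map (a • 𝟙 (ModuleCat.of A K))) _
  rw [h2, h3, AddEquiv.apply_symm_apply] at h1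
  exact h1

variable [F.IsQuasicoherent]

omit [IsNoetherianRing A] in
/-- **Lifting sections from the fibre** (abstract lifting hypothesis). -/
theorem exists_pb_eq_smulMod'
    (hE : EndEquiv (tensorAFunctor A F ⋙ HAb X 0)
      (TFun L ((0 : ℕ) : ℤ) ⋙ forget₂ (ModuleCat.{u} A) AddCommGrpCat.{u}))
    (x : PrimeSpectrum A) (hl : LiftProp A K L x)
    (hsq : IsPullback g' (X' ↘ Spec (CommRingCat.of K)) (X ↘ Spec (CommRingCat.of A))
      (Spec.map (CommRingCat.ofHom (algebraMap A K))))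
    (t' : Γ((Scheme.Modules.pullback g').obj F, g' ⁻¹ᵁ ⊤)) :
    ∃ a : A, a ∉ x.asIdeal ∧ ∃ s : Γ(F, ⊤),
      pb g' F s = (Formal.smulMod K ((Scheme.Modules.pullback g').obj F)
        (algebraMap A K a)).app (g' ⁻¹ᵁ ⊤) t' := by
  obtain ⟨κ, hκ1, hκ2⟩ := exists_iso_push_pull A K g' F hsq
  let ψ := Groth.Agent.Lib.TensorAModel2H44.tensorASelfIso A F
  let t₁ : Γ(E₁ A g' F, g' ⁻¹ᵁ ⊤) := ((Scheme.Modules.pullback g').map ψ.inv).app (g' ⁻¹ᵁ ⊤) t'
  let t₂ : Γ(G₀ A g' F, ⊤) := toPush g' _ ⊤ t₁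
  obtain ⟨a, ha, s, hs⟩ := exists_map_eq_smul' A K F L hE x hl (κ.inv.app ⊤ t₂)
  refine ⟨a, ha, ψ.hom.app ⊤ s, ?_⟩
  -- apply `κ`
  have h1 : κ.hom.app ⊤ (((tensorAFunctor A F).map (pt (ModuleCat.of A K) 1)).app ⊤ s) =
      (gfam A K g' F 1).app ⊤ s := by
    rw [← hκ1 1]
    rfl
  have h2 : κ.hom.app ⊤ (((tensorAFunctor A F).map (a • 𝟙 (ModuleCat.of A K))).app ⊤
      (κ.inv.app ⊤ t₂)) = (ρ₀ A K g' F (algebraMap A K a)).app ⊤ t₂ := by
    have e1 := hκ2 (algebraMap A K a)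
    have e0 : mulR A K (algebraMap A K a) = a • 𝟙 (ModuleCat.of A K) := by
      ext k
      change algebraMap A K a * k = a • k
      rw [Algebra.smul_def]
    rw [e0] at e1
    have e2 := congrArg (fun φ => Scheme.Modules.Hom.app φ ⊤ (κ.inv.app ⊤ t₂)) e1
    simp only [Scheme.Modules.Hom.comp_app] at e2
    refine e2.trans ?_
    change (ρ₀ A K g' F (algebraMap A K a)).app ⊤ (κ.hom.app ⊤ (κ.inv.app ⊤ t₂)) = _
    rw [Groth.Agent.Lib.H78PullSec.iso_hom_inv_app]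
  have h3 : (gfam A K g' F 1).app ⊤ s = toPush g' _ ⊤ (pb g' (E₀ A F) s) := by
    unfold gfam
    rw [Scheme.Modules.Hom.comp_app]
    have : ρ₀ A K g' F 1 = 𝟙 _ := by
      unfold ρ₀ Formal.smulMod
      rw [map_one, KLin.smulModΓ_one, CategoryTheory.Functor.map_id]
    rw [this]
    rfl
  have h4 : pb g' (E₀ A F) s =
      (Formal.smulMod K (E₁ A g' F) (algebraMap A K a)).app (g' ⁻¹ᵁ ⊤) t₁ := by
    have := (congrArg (κ.hom.app ⊤) hs)
    rw [h1, h2, h3] at this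
    exact this
  rw [← pb_map, h4]
  have h5 := Formal.smulMod_naturality ((Scheme.Modules.pullback g').map ψ.hom) (algebraMap A K a)
  have h6 : ((Scheme.Modules.pullback g').map ψ.hom).app (g' ⁻¹ᵁ ⊤)
      ((Formal.smulMod K (E₁ A g' F) (algebraMap A K a)).app (g' ⁻¹ᵁ ⊤) t₁) =
      (Formal.smulMod K ((Scheme.Modules.pullback g').obj F) (algebraMap A K a)).app (g' ⁻¹ᵁ ⊤)
        (((Scheme.Modules.pullback g').map ψ.hom).app (g' ⁻¹ᵁ ⊤) t₁) :=
    congrArg (fun φ => Scheme.Modules.Hom.app φ (g' ⁻¹ᵁ ⊤) t₁) h5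
  have hh : ((Scheme.Modules.pullback g').map ψ.hom).app (g' ⁻¹ᵁ ⊤) t₁ = t' := by
    change ((Scheme.Modules.pullback g').map ψ.hom).app (g' ⁻¹ᵁ ⊤)
      (((Scheme.Modules.pullback g').map ψ.inv).app (g' ⁻¹ᵁ ⊤) t') = t'
    rw [← ConcreteCategory.comp_apply, ← Scheme.Modules.Hom.comp_app, ← Functor.map_comp, ψ.inv_hom_id,
      CategoryTheory.Functor.map_id]
    rfl
  rw [hh] at h6
  exact h6

/-- **Lifting sections from the fibre** when `T^1_L(κ(x)) = 0`. -/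
theorem exists_pb_eq_smulMod (hP : ∀ i, Module.Flat A (L.X i)) (hfin : ∀ i, Module.Finite A (L.X i))
    (hE : EndEquiv (tensorAFunctor A F ⋙ HAb X 0)
      (TFun L ((0 : ℕ) : ℤ) ⋙ forget₂ (ModuleCat.{u} A) AddCommGrpCat.{u}))
    (x : PrimeSpectrum A) (θ : K ≃+* x.asIdeal.ResidueField)
    (hθ : ∀ a : A, θ (algebraMap A K a) = algebraMap A x.asIdeal.ResidueField a)
    (h : IsZero ((TFun L 1).obj (ModuleCat.of A x.asIdeal.ResidueField)))
    (hsq : IsPullback g' (X' ↘ Spec (CommRingCat.of K)) (X ↘ Spec (CommRingCat.of A))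
      (Spec.map (CommRingCat.ofHom (algebraMap A K))))
    (t' : Γ((Scheme.Modules.pullback g').obj F, g' ⁻¹ᵁ ⊤)) :
    ∃ a : A, a ∉ x.asIdeal ∧ ∃ s : Γ(F, ⊤),
      pb g' F s = (Formal.smulMod K ((Scheme.Modules.pullback g').obj F)
        (algebraMap A K a)).app (g' ⁻¹ᵁ ⊤) t' :=
  exists_pb_eq_smulMod' A K g' F L hE x (liftProp_of_isZero A K L hP hfin x θ hθ h) hsq t'

end Groth.Agent.Lib.LiftSection21
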