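import Groth.Agent.Lib.PullDualH44
import Groth.Agent.Lib.LiftSection21
import Groth.Agent.Lib.FibreModelH44
import Groth.Agent.Lib.FibreRank21
import Groth.Agent.Lib.ReesCohA

/-!
# Lifting homomorphisms of finite locally free modules from a fibre (helper44; EGA III 7.8-type)

`X` proper over a Noetherian ring `A`, `F`, `G` finite locally free on `X`, `G` flat over `A`; `g' : X' ⟶ X` the base
change to `K ≃ κ(x)` for a prime `x` of `A`.  If `H^1(X', g'^*(G ⊗ F^∨)) = 0` then every `u₀ : g'^*F ⟶ g'^*G` is, up to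
a scalar `a ∉ x`, the pullback of a morphism `u : F ⟶ G` (`exists_lift_hom`).
-/

set_option autoImplicit false
universe u
open CategoryTheory CategoryTheory.Limits AlgebraicGeometry TopologicalSpace Opposite
open Groth.Agent.Lib.OXModTensor Groth.Agent.Lib.TwistEquiv Groth.Agent.Lib.H78SecCoord
open Groth.Agent.Lib.SheafHom23 Groth.Agent.Lib.DualPair23 Groth.Agent.Lib.DualFLF23
open Groth.Agent.Lib.H4TensorPair Groth.Agent.Lib.H78TensorGen Groth.Agent.Lib.H78PullSec
open Groth.Agent.Lib.PullTensor81 Groth.Agent.Lib.HomDualH44 Groth.Agent.Lib.PullDualH44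
open Groth.Agent.Lib.ProjFormulaFLF23 Groth.Agent.Lib.ProjFormulaInv

namespace Groth.Agent.Lib.HomLiftH44

section Kappa

variable {X' X : Scheme.{u}} (g : X' ⟶ X) (G D : X.Modules)

/-- the comparison `g_* g^* G ⊗ D ⟶ g_* g^* (G ⊗ D)` (projection formula, then `g^*` is monoidal) -/
noncomputable def kappaHom :
    CohB1.tensorMod ((Scheme.Modules.pushforward g).obj ((Scheme.Modules.pullback g).obj G)) D ⟶
      (Scheme.Modules.pushforward g).obj ((Scheme.Modules.pullback g).obj (CohB1.tensorMod G D)) :=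
  projHom g ((Scheme.Modules.pullback g).obj G) D ≫
    (Scheme.Modules.pushforward g).map (pullbackTensorIso g G D).inv

/-- `κ` is compatible with the units -/
theorem unit_kappaHom :
    tensorModMap ((Scheme.Modules.pullbackPushforwardAdjunction g).unit.app G) (𝟙 D) ≫ kappaHom g G D =
      (Scheme.Modules.pullbackPushforwardAdjunction g).unit.app (CohB1.tensorMod G D) := by
  refine hom_ext_tmul _ _ (fun V a b => ?_)
  change ((Scheme.Modules.pushforward g).map (pullbackTensorIso g G D).inv).app V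
    ((projHom g ((Scheme.Modules.pullback g).obj G) D).app V
      ((tensorModMap ((Scheme.Modules.pullbackPushforwardAdjunction g).unit.app G) (𝟙 D)).app V
        (tmul a b))) = _
  rw [Groth.Agent.Lib.H4KoszulPn.tensorModMap_tmul]
  change ((Scheme.Modules.pushforward g).map (pullbackTensorIso g G D).inv).app V
    ((pairing g ((Scheme.Modules.pullback g).obj G) D).hom.app V _) = _
  rw [Groth.Agent.Lib.ProjFormulaFLF23.hom_app_tmul]
  change (pullbackTensorIso g G D).inv.app (g ⁻¹ᵁ V) (tmul (pb g G a) (pb g D b)) = pb g _ (tmul a b)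
  rw [← theta_pb_tmul]
  exact iso_inv_hom_app (pullbackTensorIso g G D) _ _

variable {D}

theorem isIso_kappaHom (hD : FlatMod.IsFinLocFree D) : IsIso (kappaHom g G D) := by
  haveI := isIso_projHom_of_isFinLocFree g ((Scheme.Modules.pullback g).obj G) D hD
  unfold kappaHom
  infer_instance

end Kappa

section Lift

open Groth.Agent.Lib.FibreAlg21 Groth.Agent.Lib.EndEquivH44 Groth.Agent.Lib.TFunCompare CohIII

variable (A : Type u) [CommRing A] [IsNoetherianRing A] (K : Type u) [CommRing K] [Algebra A K]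
  {X X' : Scheme.{u}} [X.Over (Spec (CommRingCat.of A))] [X'.Over (Spec (CommRingCat.of K))]
  (g' : X' ⟶ X)

/-- **Lifting homomorphisms from the fibre**, up to a scalar which is a unit at `x`. -/
theorem exists_lift_hom [IsProper (X ↘ Spec (CommRingCat.of A))]
    (hsq : IsPullback g' (X' ↘ Spec (CommRingCat.of K)) (X ↘ Spec (CommRingCat.of A))
      (Spec.map (CommRingCat.ofHom (algebraMap A K))))
    (x : PrimeSpectrum A) (θ : K ≃+* x.asIdeal.ResidueField)
    (hθ : ∀ a : A, θ (algebraMap A K a) = algebraMap A x.asIdeal.ResidueField a)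
    (F G : X.Modules) (hF : FlatMod.IsFinLocFree F) (hG : FlatMod.IsFinLocFree G)
    (hflG : FlatMod.IsFlatOver (X ↘ Spec (CommRingCat.of A)) G)
    (h1 : Subsingleton (Coh.HH X' ((Scheme.Modules.pullback g').obj (CohB1.tensorMod G (dual F))) 1))
    (u₀ : (Scheme.Modules.pullback g').obj F ⟶ (Scheme.Modules.pullback g').obj G) :
    ∃ a : A, a ∉ x.asIdeal ∧ ∃ u : F ⟶ G,
      (Scheme.Modules.pullback g').map u =
        u₀ ≫ Formal.smulMod K ((Scheme.Modules.pullback g').obj G) (algebraMap A K a) := by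
  classical
  set N := CohB1.tensorMod G (dual F) with hNdef
  have hGc : Coh.IsCoh G := Groth.Agent.Lib.H90Invertible.isCoh_of_isFinLocFree hG
  have hN : Coh.IsCoh N := isCoh_tensorMod_dual hGc hF
  haveI : G.IsQuasicoherent := hGc.1
  haveI : N.IsQuasicoherent := hN.1
  have hflN : FlatMod.IsFlatOver (X ↘ Spec (CommRingCat.of A)) N :=
    isFlatOver_tensorMod_of_isFinLocFree _ G (dual F) (isFinLocFree_dual hF) hflG
  obtain ⟨L, h1L, -, h3L, -, h5L⟩ := Groth.Agent.Lib.FibreModelH44.exists_model_bc A X N hN hflN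
  have hP : ∀ i, Module.Flat A (L.X i) := fun i => by
    haveI := (h1L i).2
    infer_instance
  -- vanishing of `T^1` at `x`
  obtain ⟨E⟩ := h5L K X' g' hsq 1
  have hvan : IsZero ((TFun L 1).obj (ModuleCat.of A x.asIdeal.ResidueField)) := by
    have := (Groth.Agent.Lib.FibreRank21.subsingleton_iff L ((1 : ℕ) : ℤ) K x θ hθ
      (E.toAddEquiv.trans (homologyCompare K L ((1 : ℕ) : ℤ)).toLinearEquiv.toAddEquiv)).mp h1
    simpa using this
  -- the adjoint of `u₀`
  let adj := Scheme.Modules.pullbackPushforwardAdjunction g'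
  let t : F ⟶ (Scheme.Modules.pushforward g').obj ((Scheme.Modules.pullback g').obj G) :=
    adj.homEquiv F ((Scheme.Modules.pullback g').obj G) u₀
  haveI := isIso_kappaHom g' G (isFinLocFree_dual hF)
  let t' : Γ((Scheme.Modules.pullback g').obj N, g' ⁻¹ᵁ ⊤) :=
    ofPush g' _ ⊤ ((kappaHom g' G (dual F)).app ⊤ (homSec hF _ t))
  obtain ⟨a, ha, s, hs⟩ := Groth.Agent.Lib.LiftSection21.exists_pb_eq_smulMod A K g' N L hP
    (fun i => (h1L i).1) (h3L 0) x θ hθ hvan hsq t'
  refine ⟨a, ha, (homSec hF G).symm s, ?_⟩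
  -- compare through the adjunction
  apply (adj.homEquiv F ((Scheme.Modules.pullback g').obj G)).injective
  rw [Adjunction.homEquiv_naturality_right]
  have hunit : adj.homEquiv F ((Scheme.Modules.pullback g').obj G)
      ((Scheme.Modules.pullback g').map ((homSec hF G).symm s)) =
      (homSec hF G).symm s ≫ adj.unit.app G := by
    rw [Adjunction.homEquiv_unit]
    exact (adj.unit.naturality ((homSec hF G).symm s)).symm
  rw [hunit, Groth.Agent.Lib.ReesCoh.push_smulMod hsq.w]
  -- compare through `homSec`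
  apply (homSec hF _).injective
  rw [homSec_comp, homSec_comp, AddEquiv.apply_symm_apply]
  -- compare through `κ`
  have hκinj : Function.Injective ((kappaHom g' G (dual F)).app ⊤) := by
    intro p q hpq
    have h := congrArg ((asIso (kappaHom g' G (dual F))).inv.app ⊤) hpq
    have hp := iso_inv_hom_app (asIso (kappaHom g' G (dual F))) ⊤ p
    have hq := iso_inv_hom_app (asIso (kappaHom g' G (dual F))) ⊤ q
    exact hp.symm.trans (h.trans hq)
  apply hκinj
  have e1 : (kappaHom g' G (dual F)).app ⊤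
      ((tensorModMap (adj.unit.app G) (𝟙 (dual F))).app ⊤ s) = toPush g' _ ⊤ (pb g' N s) :=
    congrArg (fun φ => Scheme.Modules.Hom.app φ ⊤ s) (unit_kappaHom g' G (dual F))
  rw [e1, hs]
  -- the scalar commutes with everything
  have e2 : tensorModMap (Formal.smulMod A
      ((Scheme.Modules.pushforward g').obj ((Scheme.Modules.pullback g').obj G)) a) (𝟙 (dual F)) =
      Formal.smulMod A (CohB1.tensorMod
        ((Scheme.Modules.pushforward g').obj ((Scheme.Modules.pullback g').obj G)) (dual F)) a := by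
    rw [← tensorMap_eq, ← KoszTw.tensorRightMod_map]
    exact Groth.Agent.Lib.TensorALinH44.tensorRightMod_map_mulHom (dual F) _ _
  rw [e2]
  have e3 := Formal.smulMod_naturality (A := A) (kappaHom g' G (dual F)) a
  have e4 := congrArg (fun φ => Scheme.Modules.Hom.app φ ⊤ (homSec hF _ t)) e3
  refine Eq.trans ?_ e4.symm
  change _ = (Formal.smulMod A ((Scheme.Modules.pushforward g').obj
    ((Scheme.Modules.pullback g').obj N)) a).app ⊤ (toPush g' _ ⊤ t')
  rw [← Groth.Agent.Lib.ReesCoh.push_smulMod hsq.w]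
  rfl

/-- cohomology is invariant under isomorphisms (subsingleton form) -/
theorem subsingleton_HH_of_iso {Z : Scheme.{u}} {P Q : Z.Modules} (e : P ≅ Q) (n : ℕ)
    [Subsingleton (Coh.HH Z Q n)] : Subsingleton (Coh.HH Z P n) := by
  have hinj : Function.Injective (Groth.Agent.Lib.CohLES.map e.hom n) := by
    intro a b hab
    have := congrArg (Groth.Agent.Lib.CohLES.map e.inv n) hab
    rwa [← Groth.Agent.Lib.CohLES.map_comp, ← Groth.Agent.Lib.CohLES.map_comp, e.hom_inv_id,
      Groth.Agent.Lib.CohLES.map_id, Groth.Agent.Lib.CohLES.map_id] at this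
  exact hinj.subsingleton

/-- **Lifting homomorphisms from the fibre**, with the hypothesis on the abstract sheaf Hom of the fibre. -/
theorem exists_lift_hom' [IsProper (X ↘ Spec (CommRingCat.of A))]
    (hsq : IsPullback g' (X' ↘ Spec (CommRingCat.of K)) (X ↘ Spec (CommRingCat.of A))
      (Spec.map (CommRingCat.ofHom (algebraMap A K))))
    (x : PrimeSpectrum A) (θ : K ≃+* x.asIdeal.ResidueField)
    (hθ : ∀ a : A, θ (algebraMap A K a) = algebraMap A x.asIdeal.ResidueField a)
    (F G : X.Modules) (hF : FlatMod.IsFinLocFree F) (hG : FlatMod.IsFinLocFree G)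
    (hflG : FlatMod.IsFlatOver (X ↘ Spec (CommRingCat.of A)) G)
    [DCoh.HasSheafHom ((Scheme.Modules.pullback g').obj F)]
    (h1 : Subsingleton (Coh.HH X' ((DCoh.sheafHom ((Scheme.Modules.pullback g').obj F)).obj
      ((Scheme.Modules.pullback g').obj G)) 1))
    (u₀ : (Scheme.Modules.pullback g').obj F ⟶ (Scheme.Modules.pullback g').obj G) :
    ∃ a : A, a ∉ x.asIdeal ∧ ∃ u : F ⟶ G,
      (Scheme.Modules.pullback g').map u =
        u₀ ≫ Formal.smulMod K ((Scheme.Modules.pullback g').obj G) (algebraMap A K a) := by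
  obtain ⟨e⟩ := nonempty_sheafHom_iso g' hF G
  haveI := h1
  have h1' : Subsingleton (Coh.HH X'
      ((Scheme.Modules.pullback g').obj (CohB1.tensorMod G (dual F))) 1) :=
    subsingleton_HH_of_iso e.symm 1
  exact exists_lift_hom A K g' hsq x θ hθ F G hF hG hflG h1' u₀

end Lift

section Transport

variable {Z : Scheme.{u}}

/-- existence of the sheaf Hom is invariant under isomorphism -/
theorem hasSheafHom_of_iso {M M' : Z.Modules} (e : M ≅ M') [DCoh.HasSheafHom M] :
    DCoh.HasSheafHom M' :=
  Functor.isLeftAdjoint_of_iso ((DCoh.tensorBi (X := Z)).mapIso e)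

/-- the sheaf Hom is invariant under isomorphisms in both variables -/
theorem nonempty_sheafHom_congr {M M' N N' : Z.Modules} (e : M ≅ M') (e' : N ≅ N')
    [DCoh.HasSheafHom M] [DCoh.HasSheafHom M'] :
    Nonempty ((DCoh.sheafHom M).obj N ≅ (DCoh.sheafHom M').obj N') :=
  ⟨(((DCoh.sheafHomAdj M).ofNatIsoLeft ((DCoh.tensorBi (X := Z)).mapIso e)).rightAdjointUniq
    (DCoh.sheafHomAdj M')).app N ≪≫ (DCoh.sheafHom M').mapIso e'⟩

/-- a finite locally free module on `X` is flat over `Y` if `X` is -/
theorem isFlatOver_of_isFinLocFree {X Y : Scheme.{u}} (f : X ⟶ Y) [Flat f] {N : X.Modules}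
    (hN : FlatMod.IsFinLocFree N) : FlatMod.IsFlatOver f N := by
  intro x
  haveI := Groth.Agent.Lib.LocFreeFP.free_stalk_of_isFinLocFree hN x
  letI alg : Algebra (Y.presheaf.stalk (f x)) (X.presheaf.stalk x) := (f.stalkMap x).hom.toAlgebra
  letI m2 : Module (Y.presheaf.stalk (f x)) (N.presheaf.stalk x) := FlatMod.moduleStalkOver f N x
  haveI : IsScalarTower (Y.presheaf.stalk (f x)) (X.presheaf.stalk x) (N.presheaf.stalk x) :=
    .of_algebraMap_smul (fun r m => rfl)
  haveI hfl : Module.Flat (Y.presheaf.stalk (f x)) (X.presheaf.stalk x) := Flat.stalkMap f x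
  exact Module.Flat.trans (Y.presheaf.stalk (f x)) (X.presheaf.stalk x) (N.presheaf.stalk x)

end Transport

end Groth.Agent.Lib.HomLiftH44
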