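import Groth.Agent.Lib.FibreNakH44
import Groth.Agent.Lib.RestrictStalk
import Groth.Agent.Lib.CohFinite
import Mathlib.RingTheory.FiniteType

/-!
# Isomorphisms near a fibre (helper44)

* `bijective_of_surjective_comp`: `a : M → N`, `b : N → M` between finite modules with `b ∘ a` and `a ∘ b` surjective;
  then `a` is bijective.
* `nonempty_restrict_iso_of_stalk_bijective`: a morphism `F|_{T'} ⟶ G|_{T'}` which is bijective on the stalks at the points
  of `T ≤ T'` gives `F|_T ≅ G|_T`.
* `exists_nhd_preimage_le`: for a closed map `f`, an open set containing the fibre over `y` contains the inverse image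
  of a neighbourhood of `y`.
-/

set_option autoImplicit false
universe u

open CategoryTheory CategoryTheory.Limits AlgebraicGeometry Opposite

namespace Groth.Agent.Lib.IsoNearH44

open Groth.Agent.Lib.ModStalkLin Groth.Agent.Lib.ModStalk Groth.Agent.Lib.RestrictStalk

theorem bijective_of_surjective_comp {R M N : Type*} [CommRing R] [AddCommGroup M] [Module R M]
    [Module.Finite R M] [AddCommGroup N] [Module R N] [Module.Finite R N] (a : M →ₗ[R] N)
    (b : N →ₗ[R] M) (h1 : Function.Surjective (b ∘ₗ a)) (h2 : Function.Surjective (a ∘ₗ b)) :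
    Function.Bijective a := by
  have h1' := OrzechProperty.injective_of_surjective_endomorphism (b ∘ₗ a) h1
  refine ⟨?_, ?_⟩
  · intro p q hpq
    apply h1'
    rw [LinearMap.comp_apply, LinearMap.comp_apply, hpq]
  · intro n
    obtain ⟨n', hn'⟩ := h2 n
    exact ⟨b n', hn'⟩

variable {X : Scheme.{u}}

/-- a morphism over `T'` which is stalkwise bijective along `T ≤ T'` induces an isomorphism over `T` -/
theorem nonempty_restrict_iso_of_stalk_bijective {T T' : X.Opens} (hle : T ≤ T') {F G : X.Modules}
    (u : F.restrict T'.ι ⟶ G.restrict T'.ι)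
    (hu : ∀ t : T'.toScheme, T'.ι t ∈ T → Function.Bijective (stalkLin u t)) :
    Nonempty (F.restrict T.ι ≅ G.restrict T.ι) := by
  set i := X.homOfLE hle with hi
  have hiι : i ≫ T'.ι = T.ι := X.homOfLE_ι hle
  have e : ∀ N : X.Modules, N.restrict T.ι ≅ (N.restrict T'.ι).restrict i := fun N =>
    (Scheme.Modules.restrictFunctorCongr hiι.symm).app N ≪≫
      (Scheme.Modules.restrictFunctorComp i T'.ι).app N
  haveI : IsIso ((Scheme.Modules.restrictFunctor i).map u) := by
    apply Groth.Agent.Lib.ModStalkIso.isIso_of_stalk_bijective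
    intro t
    change Function.Bijective (stalkLin ((Scheme.Modules.restrictFunctor i).map u) t)
    rw [stalkLin_restrict_bijective_iff]
    apply hu
    have : T'.ι (i t) = T.ι t := by
      rw [← Scheme.Hom.comp_apply, hiι]
    rw [this]
    exact t.2
  exact ⟨e F ≪≫ asIso ((Scheme.Modules.restrictFunctor i).map u) ≪≫ (e G).symm⟩

/-- for a closed map, an open set containing a fibre contains the preimage of a neighbourhood -/
theorem exists_nhd_preimage_le {Y : Scheme.{u}} (f : X ⟶ Y) (hf : IsClosedMap f) (y : Y)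
    (W : X.Opens) (hW : ∀ x : X, f x = y → x ∈ W) :
    ∃ U : Y.Opens, y ∈ U ∧ f ⁻¹ᵁ U ≤ W := by
  have hcl : IsClosed (f '' ((W : Set X)ᶜ)) := hf _ W.isOpen.isClosed_compl
  refine ⟨⟨(f '' ((W : Set X)ᶜ))ᶜ, hcl.isOpen_compl⟩, ?_, ?_⟩
  · rintro ⟨x, hx, hxy⟩
    exact hx (hW x hxy)
  · intro x hx
    by_contra hxW
    exact hx ⟨x, hxW, rfl⟩

end Groth.Agent.Lib.IsoNearH44
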