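import Groth.Agent.Lib.HomLiftH44
import Groth.Agent.Lib.IsoNearH44

/-!
# Lifting homomorphisms from the closed fibre over a local base (helper44)

`A` a Noetherian local ring, `X` proper and flat over `Spec A`, `F`, `G` finite locally free with
`H^1(X_y, Hom(F_y, G_y)) = 0` on the closed fibre.  Then every `u₀ : F_y ⟶ G_y` is the restriction of some
`u : F ⟶ G` (`exists_lift_closedFibre`).  Also: an open subset of `X` containing the closed fibre is everything
(`eq_top_of_closedFibre_le`).
-/

set_option autoImplicit false
set_option linter.style.haveILetI false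
universe u

open CategoryTheory CategoryTheory.Limits AlgebraicGeometry Opposite CohIII

namespace Groth.Agent.Lib.HomLiftLocalH44

noncomputable section

open Groth.Agent.Lib.ReesCoh Groth.Agent.Lib.HomLiftH44

section Residue

variable (A : Type u) [CommRing A] (y : Spec (CommRingCat.of A))

/-- the residue field of a point of `Spec A` as an `A`-algebra -/
@[reducible] noncomputable def algResidue :
    Algebra A ((Spec (CommRingCat.of A)).residueField y) :=
  (StructureSheaf.toStalk A y ≫ (Spec (CommRingCat.of A)).residue y).hom.toAlgebra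

theorem specAlg_residue :
    letI := algResidue A y
    specAlg A ((Spec (CommRingCat.of A)).residueField y) =
      (Spec (CommRingCat.of A)).fromSpecResidueField y := by
  letI := algResidue A y
  change Spec.map (StructureSheaf.toStalk A y ≫ (Spec (CommRingCat.of A)).residue y) = _
  rw [Spec.map_comp, Scheme.fromSpecResidueField, Spec.fromSpecStalk_eq']
  rfl

set_option backward.isDefEq.respectTransparency.types false in
/-- the residue field of `Spec A` at `y` is the residue field of the prime `y` -/
noncomputable def thetaSpec :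
    (Spec (CommRingCat.of A)).residueField y ≃+* y.asIdeal.ResidueField :=
  letI : Algebra A ((Spec (CommRingCat.of A)).presheaf.stalk y) :=
    inferInstanceAs (Algebra A ((Spec.structureSheaf A).presheaf.stalk y))
  haveI : IsLocalization.AtPrime ((Spec (CommRingCat.of A)).presheaf.stalk y) y.asIdeal :=
    inferInstanceAs (IsLocalization.AtPrime ((Spec.structureSheaf A).presheaf.stalk y) y.asIdeal)
  IsLocalRing.ResidueField.mapEquiv
    (IsLocalization.algEquiv y.asIdeal.primeCompl ((Spec (CommRingCat.of A)).presheaf.stalk y)
      (Localization.AtPrime y.asIdeal)).toRingEquiv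

set_option backward.isDefEq.respectTransparency.types false in
theorem thetaSpec_algebraMap (a : A) :
    letI := algResidue A y
    thetaSpec A y (algebraMap A ((Spec (CommRingCat.of A)).residueField y) a) =
      algebraMap A y.asIdeal.ResidueField a := by
  letI : Algebra A ((Spec (CommRingCat.of A)).presheaf.stalk y) :=
    inferInstanceAs (Algebra A ((Spec.structureSheaf A).presheaf.stalk y))
  haveI : IsLocalization.AtPrime ((Spec (CommRingCat.of A)).presheaf.stalk y) y.asIdeal :=
    inferInstanceAs (IsLocalization.AtPrime ((Spec.structureSheaf A).presheaf.stalk y) y.asIdeal)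
  have e1 : (IsLocalization.algEquiv y.asIdeal.primeCompl
      ((Spec (CommRingCat.of A)).presheaf.stalk y) (Localization.AtPrime y.asIdeal))
        (algebraMap A ((Spec (CommRingCat.of A)).presheaf.stalk y) a) =
      algebraMap A (Localization.AtPrime y.asIdeal) a := AlgEquiv.commutes _ a
  exact congrArg (IsLocalRing.residue _) e1

end Residue

section Local

variable (A : Type u) [CommRing A] [IsLocalRing A]

/-- over a local base, an open set containing the closed fibre of a closed map is everything -/
theorem eq_top_of_closedFibre_le {X : Scheme.{u}} (f : X ⟶ Spec (CommRingCat.of A))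
    (hf : IsClosedMap f) (W : X.Opens)
    (hW : ∀ x : X, f x = IsLocalRing.closedPoint A → x ∈ W) : W = ⊤ := by
  obtain ⟨U, hyU, hU⟩ := Groth.Agent.Lib.IsoNearH44.exists_nhd_preimage_le f hf
    (IsLocalRing.closedPoint A) W hW
  have hUtop : U = ⊤ := (IsLocalRing.closedPoint_mem_iff (R := A) (U := U)).mp hyU
  rw [eq_top_iff]
  intro x _
  apply hU
  rw [hUtop]
  trivial

variable [IsNoetherianRing A] (X : Scheme.{u}) [X.Over (Spec (CommRingCat.of A))]
  [IsProper (X ↘ Spec (CommRingCat.of A))] [Flat (X ↘ Spec (CommRingCat.of A))]

/-- **Lifting homomorphisms from the closed fibre over a Noetherian local base.** -/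
theorem exists_lift_closedFibre (F G : X.Modules) (hF : FlatMod.IsFinLocFree F)
    (hG : FlatMod.IsFinLocFree G)
    [DCoh.HasSheafHom (CohIII.fiberMod (X ↘ Spec (CommRingCat.of A)) F (IsLocalRing.closedPoint A))]
    (h1 : Subsingleton (Coh.HH ((X ↘ Spec (CommRingCat.of A)).fiber (IsLocalRing.closedPoint A))
      ((DCoh.sheafHom (CohIII.fiberMod (X ↘ Spec (CommRingCat.of A)) F
        (IsLocalRing.closedPoint A))).obj
        (CohIII.fiberMod (X ↘ Spec (CommRingCat.of A)) G (IsLocalRing.closedPoint A))) 1))
    (u₀ : CohIII.fiberMod (X ↘ Spec (CommRingCat.of A)) F (IsLocalRing.closedPoint A) ⟶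
      CohIII.fiberMod (X ↘ Spec (CommRingCat.of A)) G (IsLocalRing.closedPoint A)) :
    ∃ u : F ⟶ G, (Scheme.Modules.pullback
      ((X ↘ Spec (CommRingCat.of A)).fiberι (IsLocalRing.closedPoint A))).map u = u₀ := by
  classical
  letI := algResidue A (IsLocalRing.closedPoint A)
  letI ovK : ((X ↘ Spec (CommRingCat.of A)).fiber (IsLocalRing.closedPoint A)).Over
      (Spec (CommRingCat.of ↑((Spec (CommRingCat.of A)).residueField
        (IsLocalRing.closedPoint A)))) :=
    CohIII.fiberOver (X ↘ Spec (CommRingCat.of A)) (IsLocalRing.closedPoint A)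
  have hsq : IsPullback ((X ↘ Spec (CommRingCat.of A)).fiberι (IsLocalRing.closedPoint A))
      ((X ↘ Spec (CommRingCat.of A)).fiber (IsLocalRing.closedPoint A) ↘
        Spec (CommRingCat.of ↑((Spec (CommRingCat.of A)).residueField
          (IsLocalRing.closedPoint A))))
      (X ↘ Spec (CommRingCat.of A))
      (Spec.map (CommRingCat.ofHom
        (algebraMap A ((Spec (CommRingCat.of A)).residueField (IsLocalRing.closedPoint A))))) := by
    have h0 := IsPullback.of_hasPullback (X ↘ Spec (CommRingCat.of A))
      ((Spec (CommRingCat.of A)).fromSpecResidueField (IsLocalRing.closedPoint A))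
    rw [show Spec.map (CommRingCat.ofHom
        (algebraMap A ((Spec (CommRingCat.of A)).residueField (IsLocalRing.closedPoint A)))) =
      (Spec (CommRingCat.of A)).fromSpecResidueField (IsLocalRing.closedPoint A) from
        specAlg_residue A (IsLocalRing.closedPoint A)]
    exact h0
  have hflG : FlatMod.IsFlatOver (X ↘ Spec (CommRingCat.of A)) G :=
    isFlatOver_of_isFinLocFree _ hG
  obtain ⟨a, ha, u, hu⟩ := exists_lift_hom' A
    ((Spec (CommRingCat.of A)).residueField (IsLocalRing.closedPoint A))
    ((X ↘ Spec (CommRingCat.of A)).fiberι (IsLocalRing.closedPoint A)) hsq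
    (IsLocalRing.closedPoint A) (thetaSpec A (IsLocalRing.closedPoint A))
    (thetaSpec_algebraMap A (IsLocalRing.closedPoint A)) F G hF hG hflG h1 u₀
  -- the scalar is a unit of `A`
  have haU : IsUnit a := by
    by_contra hna
    exact ha ((IsLocalRing.mem_maximalIdeal a).mpr hna)
  obtain ⟨a', haa'⟩ := haU.exists_right_inv
  refine ⟨u ≫ Formal.smulMod A G a', ?_⟩
  rw [Functor.map_comp, hu, pull_smulMod hsq.w, Category.assoc]
  have h2 : Formal.smulMod ((Spec (CommRingCat.of A)).residueField (IsLocalRing.closedPoint A))
      ((Scheme.Modules.pullback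
        ((X ↘ Spec (CommRingCat.of A)).fiberι (IsLocalRing.closedPoint A))).obj G)
      (algebraMap A ((Spec (CommRingCat.of A)).residueField (IsLocalRing.closedPoint A)) a) ≫
      Formal.smulMod ((Spec (CommRingCat.of A)).residueField (IsLocalRing.closedPoint A))
        ((Scheme.Modules.pullback
          ((X ↘ Spec (CommRingCat.of A)).fiberι (IsLocalRing.closedPoint A))).obj G)
        (algebraMap A ((Spec (CommRingCat.of A)).residueField (IsLocalRing.closedPoint A)) a') =
      𝟙 _ := by
    change Formal.smulModΓ _ _ ≫ Formal.smulModΓ _ _ = _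
    rw [← KLin.smulModΓ_mul, ← map_mul, ← map_mul, haa', map_one, map_one, KLin.smulModΓ_one]
  rw [h2, Category.comp_id]

end Local

end

end Groth.Agent.Lib.HomLiftLocalH44
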