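import Groth.Agent.Lib.HomLiftH44
import Groth.Agent.Lib.FibreOpen21
import Groth.Agent.Lib.FibreIso21
import Groth.Agent.Lib.FinLocFree

/-!
# Lifting homomorphisms of finite locally free modules from a fibre to a neighbourhood (helper44)

`f : X ⟶ Y` proper and flat, `Y` locally Noetherian, `y : Y`, `V ∋ y` an affine open of `Y`; `F`, `G` finite locally
free on `X` with `H^1(X_y, Hom(F_y, G_y)) = 0`.  Every `u₀ : F_y ⟶ G_y` is, up to an automorphism (a unit scalar) of
`G_y`, the restriction of a morphism `F|_{f⁻¹V} ⟶ G|_{f⁻¹V}` (`exists_lift_nhd`).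
-/

set_option autoImplicit false
set_option linter.style.haveILetI false
universe u

open CategoryTheory CategoryTheory.Limits AlgebraicGeometry Opposite CohIII

namespace Groth.Agent.Lib.HomLiftNhdH44

open Groth.Agent.Lib.FibreOpen21 Groth.Agent.Lib.FibreIso21 Groth.Agent.Lib.ReesCoh
  Groth.Agent.Lib.HomLiftH44

/-- multiplication by a unit is an isomorphism -/
theorem isIso_smulMod (K : Type u) [CommRing K] {Z : Scheme.{u}} [Z.Over (Spec (CommRingCat.of K))]
    (M : Z.Modules) {k : K} (hk : IsUnit k) : IsIso (Formal.smulMod K M k) := by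
  obtain ⟨k', hk'⟩ := hk.exists_right_inv
  refine ⟨⟨Formal.smulMod K M k', ?_, ?_⟩⟩
  · change Formal.smulModΓ M _ ≫ Formal.smulModΓ M _ = _
    rw [← KLin.smulModΓ_mul, ← map_mul, hk', map_one, KLin.smulModΓ_one]
  · change Formal.smulModΓ M _ ≫ Formal.smulModΓ M _ = _
    rw [← KLin.smulModΓ_mul, ← map_mul, mul_comm, hk', map_one, KLin.smulModΓ_one]

variable {X Y : Scheme.{u}} (f : X ⟶ Y) (y : Y) {V : Y.Opens} (hV : IsAffineOpen V)
  (hz : y ∈ V.ι ''ᵁ ⊤)

/-- the fibre maps to `f⁻¹V` -/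
noncomputable def gV : f.fiber y ⟶ (f ⁻¹ᵁ V).toScheme :=
  letI := overV f hV
  letI := algV y hz
  fiberLift f y (AV V) (f ⁻¹ᵁ V).ι (iV hV) (isPullback_V f hV) (specAlg_iV hV y hz)

theorem gV_ι : gV f y hV hz ≫ (f ⁻¹ᵁ V).ι = f.fiberι y :=
  letI := overV f hV
  letI := algV y hz
  fiberLift_j f y (AV V) (f ⁻¹ᵁ V).ι (iV hV) (isPullback_V f hV) (specAlg_iV hV y hz)

/-- restriction to `f⁻¹V` followed by pullback to the fibre is the fibre module -/
noncomputable def isoR (N : X.Modules) :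
    (Scheme.Modules.pullback (gV f y hV hz)).obj (N.restrict (f ⁻¹ᵁ V).ι) ≅
      CohIII.fiberMod f N y :=
  (Scheme.Modules.pullback (gV f y hV hz)).mapIso (alphaV f N) ≪≫
    (Scheme.Modules.pullbackComp (gV f y hV hz) (f ⁻¹ᵁ V).ι).app N ≪≫
    (Scheme.Modules.pullbackCongr (gV_ι f y hV hz)).app N

/-- **Lifting homomorphisms from the fibre to `f⁻¹V`**, up to an automorphism of the target. -/
theorem exists_lift_nhd [IsProper f] [Flat f] [IsLocallyNoetherian Y] (F G : X.Modules)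
    (hF : FlatMod.IsFinLocFree F) (hG : FlatMod.IsFinLocFree G)
    [DCoh.HasSheafHom (CohIII.fiberMod f F y)]
    (h1 : Subsingleton (Coh.HH (f.fiber y)
      ((DCoh.sheafHom (CohIII.fiberMod f F y)).obj (CohIII.fiberMod f G y)) 1))
    (u₀ : CohIII.fiberMod f F y ⟶ CohIII.fiberMod f G y) :
    ∃ (u : F.restrict (f ⁻¹ᵁ V).ι ⟶ G.restrict (f ⁻¹ᵁ V).ι)
      (c : (Scheme.Modules.pullback (gV f y hV hz)).obj (G.restrict (f ⁻¹ᵁ V).ι) ⟶
        (Scheme.Modules.pullback (gV f y hV hz)).obj (G.restrict (f ⁻¹ᵁ V).ι)),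
      IsIso c ∧ (Scheme.Modules.pullback (gV f y hV hz)).map u =
        (isoR f y hV hz F).hom ≫ u₀ ≫ (isoR f y hV hz G).inv ≫ c := by
  classical
  letI := overV f hV
  haveI := isNoetherianRing_AV (Y := Y) hV
  haveI := isProper_V f hV
  letI := algV y hz
  letI ovK : (f.fiber y).Over (Spec (CommRingCat.of ↑(Y.residueField y))) := CohIII.fiberOver f y
  have hGc : Coh.IsCoh G := Groth.Agent.Lib.H90Invertible.isCoh_of_isFinLocFree hG
  have hflG : FlatMod.IsFlatOver f G := isFlatOver_of_isFinLocFree f hG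
  set j := (f ⁻¹ᵁ V).ι with hj
  have hF' : FlatMod.IsFinLocFree (F.restrict j) :=
    Groth.Agent.Lib.FinLocFree.isFinLocFree_restrict j hF
  have hG' : FlatMod.IsFinLocFree (G.restrict j) :=
    Groth.Agent.Lib.FinLocFree.isFinLocFree_restrict j hG
  have hflG' : FlatMod.IsFlatOver ((f ⁻¹ᵁ V).toScheme ↘ Spec (CommRingCat.of (AV V)))
      (G.restrict j) := isFlatOver_V f G hGc hflG hV
  have hsq : IsPullback (gV f y hV hz) (f.fiber y ↘ Spec (CommRingCat.of ↑(Y.residueField y)))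
      (↑(f ⁻¹ᵁ V) ↘ Spec (CommRingCat.of (AV V)))
      (Spec.map (CommRingCat.ofHom (algebraMap (AV V) ↑(Y.residueField y)))) :=
    isPullback_fiberLift f y (AV V) j (iV hV) (isPullback_V f hV) (specAlg_iV hV y hz)
  -- transport the hypotheses
  haveI : DCoh.HasSheafHom ((Scheme.Modules.pullback (gV f y hV hz)).obj (F.restrict j)) :=
    hasSheafHom_of_iso (isoR f y hV hz F).symm
  obtain ⟨e⟩ := nonempty_sheafHom_congr (isoR f y hV hz F) (isoR f y hV hz G)
  haveI := h1
  have h1' : Subsingleton (Coh.HH (f.fiber y)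
      ((DCoh.sheafHom ((Scheme.Modules.pullback (gV f y hV hz)).obj (F.restrict j))).obj
        ((Scheme.Modules.pullback (gV f y hV hz)).obj (G.restrict j))) 1) :=
    subsingleton_HH_of_iso e 1
  obtain ⟨a, ha, u, hu⟩ := exists_lift_hom' (AV V) (Y.residueField y) (gV f y hV hz) hsq
    (xV hV y hz) (thetaV hV y hz) (thetaV_algebraMap hV y hz) (F.restrict j) (G.restrict j)
    hF' hG' hflG' h1' ((isoR f y hV hz F).hom ≫ u₀ ≫ (isoR f y hV hz G).inv)
  -- the scalar is a unit
  have hane : algebraMap (AV V) (Y.residueField y) a ≠ 0 := by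
    intro h0
    have h2 := thetaV_algebraMap hV y hz a
    rw [h0, map_zero] at h2
    exact ha ((Ideal.algebraMap_residueField_eq_zero).mp h2.symm)
  have hunit : IsUnit (algebraMap (AV V) (Y.residueField y) a) := isUnit_iff_ne_zero.mpr hane
  refine ⟨u, _, isIso_smulMod (Y.residueField y) _ hunit, ?_⟩
  rw [hu, Category.assoc, Category.assoc]

end Groth.Agent.Lib.HomLiftNhdH44
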