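import Mathlib

/-!
# Annihilators in graded rings and homogeneous primes (helper12)

`A` an `ℕ`-graded commutative ring, `p` a prime ideal.

* `exists_homogeneous_mul_eq_zero` : if `u * ν = 0` with `u ∉ p` then there is a homogeneous
  `s ∉ p` with `s * ν = 0`.  (So `S⁻¹A → A_p` is injective, `S` the homogeneous elements outside `p`.)
-/

set_option autoImplicit false
universe u

namespace Groth.Agent.Lib.HomLoc12

open DirectSum

section Ann

variable {A : Type u} [CommRing A] {σ : Type*} [SetLike σ A] [AddSubgroupClass σ A]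
  (𝒜 : ℕ → σ) [GradedRing 𝒜]

open Classical in
/-- The number of nonzero homogeneous components. -/
noncomputable def ncomp (x : A) : ℕ := (decompose 𝒜 x).support.card

open Classical in
theorem ncomp_eq_zero_iff (x : A) : ncomp 𝒜 x = 0 ↔ x = 0 := by
  unfold ncomp
  rw [Finset.card_eq_zero, DFinsupp.support_eq_empty, ← decompose_zero 𝒜]
  exact (decompose 𝒜).injective.eq_iff

open Classical in
/-- Multiplying by a homogeneous element does not increase the number of components. -/
theorem support_mul_subset {d : ℕ} {h : A} (hh : h ∈ 𝒜 d) (x : A) :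
    (decompose 𝒜 (h * x)).support ⊆ (decompose 𝒜 x).support.image (d + ·) := by
  intro n hn
  rw [DFinsupp.mem_support_iff] at hn
  have hn' : (decompose 𝒜 (h * x) n : A) ≠ 0 := fun h0 => hn (Subtype.ext h0)
  by_cases hdn : d ≤ n
  · rw [coe_decompose_mul_of_left_mem_of_le 𝒜 hh hdn] at hn'
    rw [Finset.mem_image]
    refine ⟨n - d, ?_, by omega⟩
    rw [DFinsupp.mem_support_iff]
    intro h0
    apply hn'
    rw [h0, ZeroMemClass.coe_zero, mul_zero]
  · exact absurd (coe_decompose_mul_of_left_mem_of_not_le 𝒜 hh hdn) hn'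

open Classical in
theorem support_mul_subset_erase {d m : ℕ} {h : A} (hh : h ∈ 𝒜 d) (x : A)
    (hm : h * (decompose 𝒜 x m : A) = 0) :
    (decompose 𝒜 (h * x)).support ⊆ ((decompose 𝒜 x).support.erase m).image (d + ·) := by
  intro n hn
  have h1 := support_mul_subset 𝒜 hh x hn
  rw [Finset.mem_image] at h1 ⊢
  obtain ⟨i, hi, rfl⟩ := h1
  refine ⟨i, Finset.mem_erase.2 ⟨?_, hi⟩, rfl⟩
  rintro rfl
  rw [DFinsupp.mem_support_iff] at hn
  apply hn
  apply Subtype.ext
  rw [coe_decompose_mul_add_of_left_mem 𝒜 hh, hm, ZeroMemClass.coe_zero]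

open Classical in
theorem ncomp_mul_le {d : ℕ} {h : A} (hh : h ∈ 𝒜 d) (x : A) : ncomp 𝒜 (h * x) ≤ ncomp 𝒜 x :=
  (Finset.card_le_card (support_mul_subset 𝒜 hh x)).trans Finset.card_image_le

open Classical in
theorem ncomp_mul_lt {d m : ℕ} {h : A} (hh : h ∈ 𝒜 d) (x : A)
    (hm : h * (decompose 𝒜 x m : A) = 0) (hm' : m ∈ (decompose 𝒜 x).support) :
    ncomp 𝒜 (h * x) < ncomp 𝒜 x :=
  calc ncomp 𝒜 (h * x) ≤ (((decompose 𝒜 x).support.erase m).image (d + ·)).card :=
        Finset.card_le_card (support_mul_subset_erase 𝒜 hh x hm)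
    _ ≤ ((decompose 𝒜 x).support.erase m).card := Finset.card_image_le
    _ < (decompose 𝒜 x).support.card := Finset.card_erase_lt_of_mem hm'

open Classical in
theorem support_sub_subset (x : A) (j : ℕ) :
    (decompose 𝒜 (x - (decompose 𝒜 x j : A))).support ⊆ (decompose 𝒜 x).support.erase j := by
  intro n hn
  rw [DFinsupp.mem_support_iff] at hn
  rw [Finset.mem_erase, DFinsupp.mem_support_iff]
  have hcoe : (decompose 𝒜 (x - (decompose 𝒜 x j : A)) n : A) =
      (decompose 𝒜 x n : A) - (decompose 𝒜 ((decompose 𝒜 x j : A)) n : A) := by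
    rw [decompose_sub, DirectSum.sub_apply, AddSubgroupClass.coe_sub]
  constructor
  · rintro rfl
    apply hn
    apply Subtype.ext
    rw [hcoe, decompose_of_mem_same 𝒜 (decompose 𝒜 x n).2, sub_self, ZeroMemClass.coe_zero]
  · intro h0
    apply hn
    apply Subtype.ext
    rw [hcoe, h0, ZeroMemClass.coe_zero, zero_sub, neg_eq_zero]
    by_cases hjn : j = n
    · subst hjn
      rw [decompose_of_mem_same 𝒜 (decompose 𝒜 x j).2, h0, ZeroMemClass.coe_zero]
    · exact decompose_of_mem_ne 𝒜 (decompose 𝒜 x j).2 hjn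

open Classical in
theorem ncomp_sub_lt (x : A) {j : ℕ} (hj : j ∈ (decompose 𝒜 x).support) :
    ncomp 𝒜 (x - (decompose 𝒜 x j : A)) < ncomp 𝒜 x :=
  (Finset.card_le_card (support_sub_subset 𝒜 x j)).trans_lt (Finset.card_erase_lt_of_mem hj)

open Classical in
/-- The top component of a product. -/
theorem top_mul (u ν : A) (hu : (decompose 𝒜 u).support.Nonempty)
    (hν : (decompose 𝒜 ν).support.Nonempty) :
    (decompose 𝒜 (u * ν) ((decompose 𝒜 u).support.max' hu + (decompose 𝒜 ν).support.max' hν) : A)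
      = (decompose 𝒜 u ((decompose 𝒜 u).support.max' hu) : A) *
        (decompose 𝒜 ν ((decompose 𝒜 ν).support.max' hν) : A) := by
  set j := (decompose 𝒜 u).support.max' hu with hj
  set m := (decompose 𝒜 ν).support.max' hν with hm
  rw [decompose_mul, coe_mul_apply_eq_sum_antidiagonal]
  rw [Finset.sum_eq_single (j, m)]
  · rintro ⟨i, i'⟩ hi hne
    rw [Finset.HasAntidiagonal.mem_antidiagonal] at hi
    simp only at hi
    by_cases hij : i ≤ j
    · have hi' : m < i' := by
        rcases lt_or_eq_of_le hij with h | h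
        · omega
        · exfalso; apply hne; rw [Prod.mk.injEq]; exact ⟨h, by omega⟩
      have : decompose 𝒜 ν i' = 0 := by
        by_contra h0
        have := Finset.le_max' _ _ (DFinsupp.mem_support_iff.2 h0)
        omega
      rw [this, ZeroMemClass.coe_zero, mul_zero]
    · have : decompose 𝒜 u i = 0 := by
        by_contra h0
        have := Finset.le_max' _ _ (DFinsupp.mem_support_iff.2 h0)
        omega
      rw [this, ZeroMemClass.coe_zero, zero_mul]
  · intro h
    exact absurd (Finset.HasAntidiagonal.mem_antidiagonal.2 (rfl : (j, m).1 + (j, m).2 = j + m)) h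

open Classical in
theorem exists_homogeneous_mul_eq_zero_aux (p : Ideal A) [p.IsPrime] :
    ∀ (n : ℕ) (ν u : A), ncomp 𝒜 ν + ncomp 𝒜 u ≤ n → u ∉ p → u * ν = 0 →
      ∃ s : A, SetLike.IsHomogeneousElem 𝒜 s ∧ s ∉ p ∧ s * ν = 0 := by
  intro n
  induction n with
  | zero =>
    intro ν u hn hu huν
    have h1 : ncomp 𝒜 u = 0 := by omega
    rw [ncomp_eq_zero_iff] at h1
    exact absurd (h1 ▸ p.zero_mem) hu
  | succ n ih =>
    intro ν u hn hu huν
    by_cases hν0 : ν = 0
    · exact ⟨1, ⟨0, SetLike.GradedOne.one_mem⟩, fun h => Ideal.IsPrime.ne_top inferInstance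
        ((Ideal.eq_top_iff_one p).2 h), by rw [hν0, mul_zero]⟩
    have hu0 : u ≠ 0 := fun h => hu (h ▸ p.zero_mem)
    have hsu : (decompose 𝒜 u).support.Nonempty := by
      rw [Finset.nonempty_iff_ne_empty, Ne, DFinsupp.support_eq_empty, ← decompose_zero 𝒜]
      exact fun h => hu0 ((decompose 𝒜).injective h)
    have hsν : (decompose 𝒜 ν).support.Nonempty := by
      rw [Finset.nonempty_iff_ne_empty, Ne, DFinsupp.support_eq_empty, ← decompose_zero 𝒜]
      exact fun h => hν0 ((decompose 𝒜).injective h)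
    set j := (decompose 𝒜 u).support.max' hsu with hj
    set m := (decompose 𝒜 ν).support.max' hsν with hm
    have hjm : (decompose 𝒜 u j : A) * (decompose 𝒜 ν m : A) = 0 := by
      rw [← top_mul 𝒜 u ν hsu hsν, huν, decompose_zero, DirectSum.zero_apply,
        ZeroMemClass.coe_zero]
    have hjmem : (decompose 𝒜 u j : A) ∈ 𝒜 j := (decompose 𝒜 u j).2
    have hlt : ncomp 𝒜 ((decompose 𝒜 u j : A) * ν) < ncomp 𝒜 ν :=
      ncomp_mul_lt 𝒜 hjmem ν hjm (Finset.max'_mem _ hsν)
    have h2 : u * ((decompose 𝒜 u j : A) * ν) = 0 := by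
      rw [mul_left_comm, huν, mul_zero]
    obtain ⟨s, hs, hsp, hsν'⟩ := ih ((decompose 𝒜 u j : A) * ν) u (by omega) hu h2
    by_cases huj : (decompose 𝒜 u j : A) ∈ p
    · -- remove the top component of `u`
      have hu' : s * (u - (decompose 𝒜 u j : A)) ∉ p := by
        intro h
        rcases Ideal.IsPrime.mem_or_mem inferInstance h with h | h
        · exact hsp h
        · apply hu
          have := p.add_mem h huj
          rwa [sub_add_cancel] at this
      have h3 : s * (u - (decompose 𝒜 u j : A)) * ν = 0 := by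
        have : s * (u - (decompose 𝒜 u j : A)) * ν =
            s * (u * ν) - s * ((decompose 𝒜 u j : A) * ν) := by ring
        rw [this, huν, hsν', mul_zero, sub_zero]
      obtain ⟨ds, hds⟩ := hs
      have hlt' : ncomp 𝒜 (s * (u - (decompose 𝒜 u j : A))) < ncomp 𝒜 u :=
        (ncomp_mul_le 𝒜 hds _).trans_lt (ncomp_sub_lt 𝒜 u (Finset.max'_mem _ hsu))
      exact ih ν (s * (u - (decompose 𝒜 u j : A))) (by omega) hu' h3
    · obtain ⟨ds, hds⟩ := hs
      refine ⟨s * (decompose 𝒜 u j : A), ⟨ds + j, SetLike.GradedMul.mul_mem hds hjmem⟩, ?_, ?_⟩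
      · intro h
        rcases Ideal.IsPrime.mem_or_mem inferInstance h with h | h
        · exact hsp h
        · exact huj h
      · rw [mul_assoc, hsν']

/-- **Annihilators and homogeneous primes.** If `u * ν = 0` with `u` outside the homogeneous
prime `p`, some homogeneous `s ∉ p` kills `ν`. -/
theorem exists_homogeneous_mul_eq_zero (p : Ideal A) [p.IsPrime]
    {ν u : A} (hu : u ∉ p) (huν : u * ν = 0) :
    ∃ s : A, SetLike.IsHomogeneousElem 𝒜 s ∧ s ∉ p ∧ s * ν = 0 :=
  exists_homogeneous_mul_eq_zero_aux 𝒜 p _ ν u le_rfl hu huν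

end Ann

end Groth.Agent.Lib.HomLoc12
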