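import Groth.Agent.Lib.HomLoc12a

/-!
# Homogeneous localization inside the localization at a prime (helper12)

`A` an `ℕ`-graded commutative ring, `p` a prime ideal, `B = A_(p)` the homogeneous localization,
`C = A_p`.

* `exists_mul_eq_of_val` : if `c * β.val = α.val` with `c ∈ C`, `α β ∈ B`, then `b * β = α` for
  some `b ∈ B` ("`B = C ∩ Frac B`");
* `isDomain_atPrime`, `isIntegrallyClosed_atPrime` : `B` is a (normal) domain when `C` is.
-/

set_option autoImplicit false
set_option linter.unusedSectionVars false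
universe u

namespace Groth.Agent.Lib.HomLoc12

open DirectSum HomogeneousLocalization

section Inter

variable {A : Type u} [CommRing A] {σ : Type*} [SetLike σ A] [AddSubgroupClass σ A]
  (𝒜 : ℕ → σ) [GradedRing 𝒜] (p : Ideal A) [p.IsPrime]

open Classical in
theorem exists_component_notMem {u : A} (hu : u ∉ p) : ∃ i : ℕ, (decompose 𝒜 u i : A) ∉ p := by
  by_contra hcon
  push Not at hcon
  apply hu
  rw [← DirectSum.sum_support_decompose 𝒜 u]
  exact p.sum_mem fun i _ => hcon i

/-- If `c * β = α` in `A_p` with `α, β ∈ A_(p)` then `b * β = α` for some `b ∈ A_(p)`. -/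
theorem exists_mul_eq_of_val (α β : AtPrime 𝒜 p) (c : Localization.AtPrime p)
    (h : c * β.val = α.val) : ∃ b : AtPrime 𝒜 p, b * β = α := by
  obtain ⟨a, u, rfl⟩ := IsLocalization.exists_mk'_eq p.primeCompl c
  rw [← Localization.mk_eq_mk', eq_num_div_den, eq_num_div_den, Localization.mk_mul,
    Localization.mk_eq_mk_iff, Localization.r_iff_exists] at h
  obtain ⟨v, hv⟩ := h
  simp only [Submonoid.coe_mul] at hv
  -- `ν := α.den * (a * β.num) - u * β.den * α.num` is killed by `v ∉ p`
  have hν : (v : A) * (α.den * (a * β.num) - u * β.den * α.num) = 0 := by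
    rw [mul_sub, hv, sub_self]
  obtain ⟨t, ⟨dt, hdt⟩, htp, ht⟩ := exists_homogeneous_mul_eq_zero 𝒜 p v.2 hν
  obtain ⟨i, hi⟩ := exists_component_notMem 𝒜 p u.2
  -- compare the components of degree `dt + α.deg + β.deg + i`
  have h1 : t * α.den * β.num * a = t * β.den * α.num * u := by
    have : t * α.den * β.num * a - t * β.den * α.num * u =
        t * (α.den * (a * β.num) - u * β.den * α.num) := by ring
    rw [← sub_eq_zero, this, ht]
  have hL : t * α.den * β.num ∈ 𝒜 (dt + α.deg + β.deg) :=
    SetLike.GradedMul.mul_mem (SetLike.GradedMul.mul_mem hdt α.den_mem_deg) β.num_mem_deg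
  have hR : t * β.den * α.num ∈ 𝒜 (dt + α.deg + β.deg) := by
    have := SetLike.GradedMul.mul_mem (SetLike.GradedMul.mul_mem hdt β.den_mem_deg) α.num_mem_deg
    rwa [add_assoc, add_comm β.deg α.deg, ← add_assoc] at this
  have h2 : t * α.den * β.num * (decompose 𝒜 a i : A) =
      t * β.den * α.num * (decompose 𝒜 u i : A) := by
    rw [← coe_decompose_mul_add_of_left_mem 𝒜 hL, ← coe_decompose_mul_add_of_left_mem 𝒜 hR, h1]
  refine ⟨mk ⟨i, decompose 𝒜 a i, decompose 𝒜 u i, hi⟩, ?_⟩
  rw [ext_iff_val, val_mul, val_mk, eq_num_div_den, eq_num_div_den, Localization.mk_mul,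
    Localization.mk_eq_mk_iff, Localization.r_iff_exists]
  refine ⟨⟨t, htp⟩, ?_⟩
  simp only [Submonoid.coe_mul]
  calc t * (α.den * ((decompose 𝒜 a i : A) * β.num))
      = t * α.den * β.num * (decompose 𝒜 a i : A) := by ring
    _ = t * β.den * α.num * (decompose 𝒜 u i : A) := h2
    _ = t * ((decompose 𝒜 u i : A) * β.den * α.num) := by ring

theorem isDomain_atPrime [IsDomain (Localization.AtPrime p)] : IsDomain (AtPrime 𝒜 p) :=
  Function.Injective.isDomain (algebraMap (AtPrime 𝒜 p) (Localization.AtPrime p))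
    (val_injective p.primeCompl)

/-- `A_(p)` is integrally closed when `A_p` is an integrally closed domain. -/
theorem isIntegrallyClosed_atPrime [IsDomain (Localization.AtPrime p)]
    [IsIntegrallyClosed (Localization.AtPrime p)] :
    haveI := isDomain_atPrime 𝒜 p
    IsIntegrallyClosed (AtPrime 𝒜 p) := by
  haveI := isDomain_atPrime 𝒜 p
  rw [isIntegrallyClosed_iff (FractionRing (AtPrime 𝒜 p))]
  intro z hz
  obtain ⟨α, β, rfl⟩ := IsLocalization.exists_mk'_eq (nonZeroDivisors (AtPrime 𝒜 p)) z
  have hinj : Function.Injective (algebraMap (AtPrime 𝒜 p) (Localization.AtPrime p)) :=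
    val_injective p.primeCompl
  have hle : nonZeroDivisors (AtPrime 𝒜 p) ≤
      (nonZeroDivisors (Localization.AtPrime p)).comap
        (algebraMap (AtPrime 𝒜 p) (Localization.AtPrime p)) := by
    intro b hb
    rw [Submonoid.mem_comap]
    apply mem_nonZeroDivisors_of_ne_zero
    rw [Ne, ← map_zero (algebraMap (AtPrime 𝒜 p) (Localization.AtPrime p)), hinj.eq_iff]
    exact nonZeroDivisors.ne_zero hb
  let φ : FractionRing (AtPrime 𝒜 p) →+* FractionRing (Localization.AtPrime p) :=
    IsLocalization.map (FractionRing (Localization.AtPrime p))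
      (algebraMap (AtPrime 𝒜 p) (Localization.AtPrime p)) hle
  have hφ : ∀ b : AtPrime 𝒜 p, φ (algebraMap _ _ b) =
      algebraMap (Localization.AtPrime p) (FractionRing (Localization.AtPrime p)) b.val :=
    fun b => IsLocalization.map_eq hle b
  -- the image of `z` is integral over `A_p`
  have hint : IsIntegral (Localization.AtPrime p)
      (φ (IsLocalization.mk' (FractionRing (AtPrime 𝒜 p)) α β)) := by
    obtain ⟨P, hP, hPz⟩ := hz
    refine ⟨P.map (algebraMap (AtPrime 𝒜 p) (Localization.AtPrime p)), hP.map _, ?_⟩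
    rw [Polynomial.eval₂_map]
    have h1 : (algebraMap (Localization.AtPrime p) (FractionRing (Localization.AtPrime p))).comp
        (algebraMap (AtPrime 𝒜 p) (Localization.AtPrime p)) =
        φ.comp (algebraMap (AtPrime 𝒜 p) (FractionRing (AtPrime 𝒜 p))) := by
      ext b
      exact (hφ b).symm
    rw [h1, ← Polynomial.hom_eval₂, hPz, map_zero]
  obtain ⟨c, hc⟩ := IsIntegrallyClosed.algebraMap_eq_of_integral hint
  have hc' : c * (β : AtPrime 𝒜 p).val = α.val := by
    apply IsFractionRing.injective (Localization.AtPrime p)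
      (FractionRing (Localization.AtPrime p))
    rw [map_mul, hc, ← hφ, ← hφ, ← map_mul, IsLocalization.mk'_spec]
  obtain ⟨b, hb⟩ := exists_mul_eq_of_val 𝒜 p α β c hc'
  refine ⟨b, ?_⟩
  rw [IsLocalization.eq_mk'_iff_mul_eq, ← map_mul, hb]

end Inter

end Groth.Agent.Lib.HomLoc12
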