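import Groth.Agent.Lib.HomLoc12b

/-!
# Flatness of `A_(p) → A_p` in the presence of a unit of degree one (helper12)

`A` an `ℕ`-graded commutative ring, `p` a prime ideal, `B = A_(p)` the homogeneous localization,
`C = A_p`.  If there are homogeneous `f ∈ A_d`, `f' ∈ A_{d+1}` outside `p` (so `f'/f` is a unit of
degree one) then `C` is a flat `B`-module (indeed `C` is a localization of `B[t, t⁻¹]`); the proof
is by the equational criterion for flatness.  Since `B → C` is local, `C` is faithfully flat over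
`B`, and `B` is Noetherian when `C` is.

* `exists_common_den` : common homogeneous denominators in `A_(p)`;
* `flat_atPrime`, `isLocalHom_atPrime`, `faithfullyFlat_atPrime`, `isNoetherianRing_atPrime`.
-/

set_option autoImplicit false
set_option linter.unusedSectionVars false
universe u

namespace Groth.Agent.Lib.HomLoc12

open DirectSum HomogeneousLocalization

section Flat

variable {A : Type u} [CommRing A] {σ : Type*} [SetLike σ A] [AddSubgroupClass σ A]
  (𝒜 : ℕ → σ) [GradedRing 𝒜] (p : Ideal A) [p.IsPrime]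

/-- Common homogeneous denominators in `A_(p)`. -/
theorem exists_common_den {l : ℕ} (b : Fin l → AtPrime 𝒜 p) :
    ∃ (e : ℕ) (s : A) (n : Fin l → A), s ∈ 𝒜 e ∧ ∃ hsp : s ∈ p.primeCompl, (∀ i, n i ∈ 𝒜 e) ∧
      ∀ i, (b i).val = Localization.mk (n i) ⟨s, hsp⟩ := by
  classical
  refine ⟨∑ i, (b i).deg, ∏ i, (b i).den,
    fun i => (b i).num * ∏ j ∈ Finset.univ.erase i, (b j).den,
    SetLike.prod_mem_graded 𝒜 _ _ fun i _ => (b i).den_mem_deg,
    prod_mem fun i _ => (b i).den_mem, fun i => ?_, fun i => ?_⟩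
  · have h1 : ∏ j ∈ Finset.univ.erase i, (b j).den ∈ 𝒜 (∑ j ∈ Finset.univ.erase i, (b j).deg) :=
      SetLike.prod_mem_graded 𝒜 _ _ fun j _ => (b j).den_mem_deg
    have h2 := SetLike.GradedMul.mul_mem (b i).num_mem_deg h1
    rwa [Finset.add_sum_erase _ (fun j => (b j).deg) (Finset.mem_univ i)] at h2
  · rw [(b i).eq_num_div_den, Localization.mk_eq_mk_iff, Localization.r_iff_exists]
    refine ⟨1, ?_⟩
    simp only [OneMemClass.coe_one, one_mul]
    rw [← Finset.mul_prod_erase _ (fun j => (b j).den) (Finset.mem_univ i)]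
    ring

/-- Splitting a relation with homogeneous coefficients of the same degree into its homogeneous
components. -/
theorem mul_sum_component_eq_zero {l e g : ℕ} {w : A} (hw : w ∈ 𝒜 g) (n a : Fin l → A)
    (hn : ∀ i, n i ∈ 𝒜 e) (h : w * ∑ i, n i * a i = 0) (k : ℕ) :
    w * ∑ i, n i * (decompose 𝒜 (a i) k : A) = 0 := by
  have h1 : ∀ i, w * (n i * (decompose 𝒜 (a i) k : A)) =
      GradedRing.proj 𝒜 (g + e + k) (w * n i * a i) := by
    intro i
    rw [GradedRing.proj_apply,
      coe_decompose_mul_add_of_left_mem 𝒜 (SetLike.GradedMul.mul_mem hw (hn i)), mul_assoc]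
  rw [Finset.mul_sum, Finset.sum_congr rfl fun i _ => h1 i, ← map_sum]
  have h2 : ∑ i, w * n i * a i = w * ∑ i, n i * a i := by
    rw [Finset.mul_sum]
    exact Finset.sum_congr rfl fun i _ => mul_assoc _ _ _
  rw [h2, h, map_zero]

variable {d : ℕ} {f f' : A}

/-- The degree-zero fraction `(a f^k) / f'^k` for `a ∈ A_k`, `f ∈ A_d`, `f' ∈ A_{d+1}`. -/
noncomputable def yfrac (hf : f ∈ 𝒜 d) (hf' : f' ∈ 𝒜 (d + 1)) (hf'p : f' ∉ p) (k : ℕ) (a : A)
    (ha : a ∈ 𝒜 k) : AtPrime 𝒜 p :=
  mk ⟨k * (d + 1), ⟨a * f ^ k, by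
      have h1 := SetLike.GradedMul.mul_mem ha (SetLike.pow_mem_graded k hf)
      have h2 : k + k • d = k * (d + 1) := by rw [smul_eq_mul]; ring
      rwa [h2] at h1⟩,
    ⟨f' ^ k, by
      have h1 := SetLike.pow_mem_graded k hf'
      rwa [smul_eq_mul] at h1⟩,
    p.primeCompl.pow_mem hf'p k⟩

theorem val_yfrac (hf : f ∈ 𝒜 d) (hf' : f' ∈ 𝒜 (d + 1)) (hf'p : f' ∉ p) (k : ℕ) (a : A)
    (ha : a ∈ 𝒜 k) :
    (yfrac 𝒜 p hf hf' hf'p k a ha).val =
      Localization.mk (a * f ^ k) ⟨f' ^ k, p.primeCompl.pow_mem hf'p k⟩ := rfl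

/-- **Flatness of `A_(p) → A_p`** when there is a unit `f'/f` of degree one. -/
theorem flat_atPrime (hf : f ∈ 𝒜 d) (hf' : f' ∈ 𝒜 (d + 1)) (hfp : f ∉ p) (hf'p : f' ∉ p) :
    Module.Flat (AtPrime 𝒜 p) (Localization.AtPrime p) := by
  classical
  rw [Module.Flat.iff_forall_isTrivialRelation]
  intro l b c h
  obtain ⟨u, hu⟩ := IsLocalization.exist_integer_multiples p.primeCompl Finset.univ c
  choose a ha using fun i => hu i (Finset.mem_univ i)
  obtain ⟨e, s, n, hs, hsp, hn, hb⟩ := exists_common_den 𝒜 p b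
  -- the relation in `A`
  have hrel : algebraMap A (Localization.AtPrime p) (∑ i, n i * a i) = 0 := by
    have h1 : ∀ i, algebraMap A (Localization.AtPrime p) (n i * a i) =
        algebraMap A (Localization.AtPrime p) (s * u) * (b i • c i) := by
      intro i
      have h2 : (b i).val * algebraMap A (Localization.AtPrime p) s =
          algebraMap A (Localization.AtPrime p) (n i) := by
        rw [hb i, Localization.mk_eq_mk']
        exact IsLocalization.mk'_spec _ (n i) ⟨s, hsp⟩
      rw [map_mul, ← h2, ha i, Algebra.smul_def, Algebra.smul_def, HomogeneousLocalization.algebraMap_apply, map_mul]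
      ring
    rw [map_sum, Finset.sum_congr rfl fun i _ => h1 i, ← Finset.mul_sum, h, mul_zero]
  obtain ⟨v, hv⟩ := (IsLocalization.map_eq_zero_iff p.primeCompl (Localization.AtPrime p) _).1 hrel
  obtain ⟨w, ⟨g, hwg⟩, hwp, hw⟩ := exists_homogeneous_mul_eq_zero 𝒜 p v.2 hv
  have hcomp := mul_sum_component_eq_zero 𝒜 hwg n a hn hw
  -- a bound on the degrees
  set N : ℕ := Finset.univ.sup fun i => (decompose 𝒜 (a i)).support.sup id with hN
  have hsum : ∀ i, a i = ∑ k : Fin (N + 1), (decompose 𝒜 (a i) k : A) := by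
    intro i
    rw [Fin.sum_univ_eq_sum_range (fun k => (decompose 𝒜 (a i) k : A)) (N + 1)]
    conv_lhs => rw [← DirectSum.sum_support_decompose 𝒜 (a i)]
    apply Finset.sum_subset
    · intro k hk
      rw [Finset.mem_range, Nat.lt_succ_iff]
      exact (Finset.le_sup (f := id) hk).trans
        (Finset.le_sup (f := fun i => (decompose 𝒜 (a i)).support.sup id) (Finset.mem_univ i))
    · intro k _ hk
      rw [DFinsupp.notMem_support_iff] at hk
      rw [hk, ZeroMemClass.coe_zero]
  refine ⟨N + 1, fun i k => yfrac 𝒜 p hf hf' hf'p k (decompose 𝒜 (a i) k) (SetLike.coe_mem _),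
    fun k => Localization.mk (f' ^ (k : ℕ))
      ⟨u * f ^ (k : ℕ), p.primeCompl.mul_mem u.2 (p.primeCompl.pow_mem hfp k)⟩, ?_, ?_⟩
  · intro i
    have hyz : ∀ k : Fin (N + 1),
        yfrac 𝒜 p hf hf' hf'p k (decompose 𝒜 (a i) k) (SetLike.coe_mem _) •
          (Localization.mk (f' ^ (k : ℕ)) ⟨u * f ^ (k : ℕ),
            p.primeCompl.mul_mem u.2 (p.primeCompl.pow_mem hfp k)⟩ : Localization.AtPrime p) =
        Localization.mk (decompose 𝒜 (a i) k : A) u := by
      intro k
      rw [Algebra.smul_def, HomogeneousLocalization.algebraMap_apply, val_yfrac, Localization.mk_mul,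
        Localization.mk_eq_mk_iff, Localization.r_iff_exists]
      refine ⟨1, ?_⟩
      simp only [OneMemClass.coe_one, one_mul, Submonoid.coe_mul]
      ring
    rw [Finset.sum_congr rfl fun k _ => hyz k, ← Localization.mk_sum, ← hsum i,
      Localization.mk_eq_mk', IsLocalization.eq_mk'_iff_mul_eq, ha i, Algebra.smul_def, mul_comm]
  · intro k
    apply val_injective
    rw [val_zero, ← HomogeneousLocalization.algebraMap_apply, map_sum]
    have h1 : ∀ i, algebraMap (AtPrime 𝒜 p) (Localization.AtPrime p)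
        (b i * yfrac 𝒜 p hf hf' hf'p k (decompose 𝒜 (a i) k) (SetLike.coe_mem _)) =
        Localization.mk (n i * (decompose 𝒜 (a i) k : A) * f ^ (k : ℕ))
          (⟨s, hsp⟩ * ⟨f' ^ (k : ℕ), p.primeCompl.pow_mem hf'p k⟩) := by
      intro i
      rw [map_mul, HomogeneousLocalization.algebraMap_apply, HomogeneousLocalization.algebraMap_apply, hb i, val_yfrac, Localization.mk_mul,
        mul_assoc]
    rw [Finset.sum_congr rfl fun i _ => h1 i, ← Localization.mk_sum, Localization.mk_eq_mk',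
      IsLocalization.mk'_eq_zero_iff]
    refine ⟨⟨w, hwp⟩, ?_⟩
    have h2 : ∑ i, n i * (decompose 𝒜 (a i) k : A) * f ^ (k : ℕ) =
        (∑ i, n i * (decompose 𝒜 (a i) k : A)) * f ^ (k : ℕ) := by
      rw [Finset.sum_mul]
    rw [h2, ← mul_assoc, hcomp k, zero_mul]

/-- `A_(p) → A_p` is a local homomorphism. -/
theorem isLocalHom_atPrime :
    IsLocalHom (algebraMap (AtPrime 𝒜 p) (Localization.AtPrime p)) :=
  ⟨fun b hb => (isUnit_iff_isUnit_val 𝒜 p b).1 hb⟩

theorem faithfullyFlat_atPrime (hf : f ∈ 𝒜 d) (hf' : f' ∈ 𝒜 (d + 1)) (hfp : f ∉ p)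
    (hf'p : f' ∉ p) : Module.FaithfullyFlat (AtPrime 𝒜 p) (Localization.AtPrime p) := by
  have := flat_atPrime 𝒜 p hf hf' hfp hf'p
  have := isLocalHom_atPrime 𝒜 p
  exact Module.FaithfullyFlat.of_flat_of_isLocalHom

/-- `A_(p)` is Noetherian when `A_p` is (and there is a unit of degree one). -/
theorem isNoetherianRing_atPrime [IsNoetherianRing (Localization.AtPrime p)] (hf : f ∈ 𝒜 d)
    (hf' : f' ∈ 𝒜 (d + 1)) (hfp : f ∉ p) (hf'p : f' ∉ p) : IsNoetherianRing (AtPrime 𝒜 p) := by
  have := faithfullyFlat_atPrime 𝒜 p hf hf' hfp hf'p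
  have : IsNoetherian (Localization.AtPrime p)
      (TensorProduct (AtPrime 𝒜 p) (Localization.AtPrime p) (AtPrime 𝒜 p)) :=
    isNoetherian_of_linearEquiv
      (TensorProduct.AlgebraTensorModule.rid (AtPrime 𝒜 p) (Localization.AtPrime p)
        (Localization.AtPrime p)).symm
  exact Submodule.IsNoetherian.of_isNoetherian_tensorProduct_of_faithfullyFlat
    (A := Localization.AtPrime p) this

end Flat

end Groth.Agent.Lib.HomLoc12
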