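import Groth.Agent.Lib.HomLoc12c
import Groth.Agent.Lib.H14GorFlat
import Groth.Agent.Lib.H14GorHom

/-!
# Gorenstein descent from `A_p` to `A_(p)` under condition (#) (helper12)

* `isGorensteinLocalRing_atPrime` : with a unit of degree one, `A_p` Gorenstein ⟹ `A_(p)` Gorenstein
  (flat local descent);
* `exists_deg_succ_of_sharp` : under condition (#), for a prime `p` not containing the irrelevant
  ideal there are homogeneous `f ∈ A_d`, `f' ∈ A_{d+1}` outside `p`.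
-/

set_option autoImplicit false
set_option linter.unusedSectionVars false
universe u

namespace Groth.Agent.Lib.HomLoc12

open DirectSum HomogeneousLocalization

section Gor

variable {A : Type u} [CommRing A] {σ : Type*} [SetLike σ A] [AddSubgroupClass σ A]
  (𝒜 : ℕ → σ) [GradedRing 𝒜] (p : Ideal A) [p.IsPrime] {d : ℕ} {f f' : A}

theorem isGorensteinLocalRing_atPrime
    (hC : LocCoh.IsGorensteinLocalRing (Localization.AtPrime p)) (hf : f ∈ 𝒜 d)
    (hf' : f' ∈ 𝒜 (d + 1)) (hfp : f ∉ p) (hf'p : f' ∉ p) :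
    LocCoh.IsGorensteinLocalRing (AtPrime 𝒜 p) := by
  haveI : IsNoetherianRing (Localization.AtPrime p) := hC.toIsNoetherian
  haveI := isNoetherianRing_atPrime 𝒜 p hf hf' hfp hf'p
  haveI := flat_atPrime 𝒜 p hf hf' hfp hf'p
  haveI := isLocalHom_atPrime 𝒜 p
  exact ((H14GorFlat.gorenstein_flat_local_iff (AtPrime 𝒜 p) (Localization.AtPrime p)).1 hC).1

end Gor

section Sharp

open Pointwise

variable {A : Type u} [CommRing A] (𝒜 : ℕ → AddSubgroup A) [GradedRing 𝒜]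

/-- Under condition (#), a prime not containing the irrelevant ideal misses homogeneous elements of
two consecutive degrees. -/
theorem exists_deg_succ_of_sharp
    (hsharp : ∃ d₀ : ℕ, ∀ d : ℕ, d₀ ≤ d → ∀ n : ℕ, 1 ≤ n →
      𝒜 ((n + 1) * d) = AddSubgroup.closure ((𝒜 d : Set A) * (𝒜 (n * d) : Set A)))
    (P : HomogeneousIdeal 𝒜) [hP : P.toIdeal.IsPrime] (hirr : ¬ HomogeneousIdeal.irrelevant 𝒜 ≤ P) :
    ∃ (d : ℕ) (f f' : A), f ∈ 𝒜 d ∧ f' ∈ 𝒜 (d + 1) ∧ f ∉ P.toIdeal ∧ f' ∉ P.toIdeal := by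
  obtain ⟨d₀, hd₀⟩ := hsharp
  rw [HomogeneousIdeal.irrelevant_le] at hirr
  push Not at hirr
  obtain ⟨e, he, hle⟩ := hirr
  obtain ⟨g, hg, hgP⟩ := SetLike.not_le_iff_exists.1 hle
  have hg' : g ∈ 𝒜 e := hg
  have hgP' : g ∉ P.toIdeal := hgP
  have hpow : ∀ m : ℕ, g ^ m ∉ P.toIdeal := fun m hm => hgP' (hP.mem_of_pow_mem m hm)
  set d := (d₀ + 1) * e with hd
  have hdd : d₀ ≤ d := by
    rw [hd]
    nlinarith
  refine ⟨d, g ^ (d₀ + 1), ?_⟩
  have hf : g ^ (d₀ + 1) ∈ 𝒜 d := by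
    have := SetLike.pow_mem_graded (d₀ + 1) hg'
    rwa [smul_eq_mul] at this
  by_contra hcon
  push Not at hcon
  have hall : ∀ f' ∈ 𝒜 (d + 1), f' ∈ P.toIdeal := by
    intro f' hf'
    by_contra hf'P
    exact hf'P (hcon f' hf hf' (hpow _))
  have hn : 1 ≤ 2 * e - 1 := by omega
  have hkey := hd₀ (d + 1) (by omega) (2 * e - 1) hn
  have hn1 : 2 * e - 1 + 1 = 2 * e := by omega
  rw [hn1] at hkey
  have hmem : g ^ (2 * (d + 1)) ∈ 𝒜 (2 * e * (d + 1)) := by
    have := SetLike.pow_mem_graded (2 * (d + 1)) hg'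
    rw [smul_eq_mul] at this
    have h2 : 2 * (d + 1) * e = 2 * e * (d + 1) := by ring
    rwa [h2] at this
  rw [hkey] at hmem
  have hsub : AddSubgroup.closure ((𝒜 (d + 1) : Set A) * (𝒜 ((2 * e - 1) * (d + 1)) : Set A)) ≤
      Submodule.toAddSubgroup P.toIdeal := by
    rw [AddSubgroup.closure_le]
    rintro _ ⟨a, ha, b, _, rfl⟩
    exact P.toIdeal.mul_mem_right b (hall a ha)
  exact hpow _ (hsub hmem)

end Sharp

end Groth.Agent.Lib.HomLoc12
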