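import Groth.Agent.Lib.H78Dual
import Groth.Agent.Lib.CohFinite
import Groth.Prelude.Def_RefHull

/-!
# helper53: the sheaf Hom `RefHull.homSh F G` — basic API and injectivity of `evalStalk`
(namespace `Groth.Agent.Lib.HomSh53`)

* `resH`, `resH_apply`, `homSh_ext`: restriction and extensionality of sections of `𝓗om(F, G)`.
* `exists_nhd_eq_zero`: a section with zero germ vanishes on a neighbourhood.
* `evalStalk_injective`: for `F` of finite type, `𝓗om(F, G)_x → Hom(F_x, G_x)` is injective.
-/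

set_option autoImplicit false
set_option maxHeartbeats 400000
set_option linter.unusedSectionVars false
set_option linter.style.haveILetI false
universe u
open CategoryTheory CategoryTheory.Limits AlgebraicGeometry Opposite TopologicalSpace
open Groth.Agent.Lib.H78TensorGen Groth.Agent.Lib.H78Dual

namespace Groth.Agent.Lib.HomSh53

variable {X : Scheme.{u}} {F G : X.Modules}

/-- restriction of a section of the sheaf Hom -/
noncomputable abbrev resH {U V : X.Opens} (h : V ≤ U) (g : Γ(RefHull.homSh F G, U)) :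
    Γ(RefHull.homSh F G, V) := rs (RefHull.homSh F G) h g

lemma resH_apply {U V : X.Opens} (h : V ≤ U) (g : Γ(RefHull.homSh F G, U)) (y : V) :
    (resH h g).1 y = g.1 ⟨y.1, h y.2⟩ := rfl

lemma homSh_ext {U : X.Opens} (g g' : Γ(RefHull.homSh F G, U)) (h : ∀ y : U, g.1 y = g'.1 y) :
    g = g' := Subtype.ext (funext h)

lemma homSh_zero_apply {U : X.Opens} (y : U) : (0 : Γ(RefHull.homSh F G, U)).1 y = 0 := rfl

/-- a section with zero germ at `x` vanishes near `x` -/
lemma exists_nhd_eq_zero (M : X.Modules) {V : X.Opens} (x : X) (hx : x ∈ V) (s : Γ(M, V))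
    (h : M.presheaf.germ V x hx s = 0) : ∃ (W : X.Opens) (hW : W ≤ V), x ∈ W ∧ rs M hW s = 0 := by
  have h' : M.presheaf.germ V x hx s = M.presheaf.germ V x hx 0 := by rw [h, map_zero]
  obtain ⟨W, hxW, iU, iV, hW⟩ := TopCat.Presheaf.germ_eq M.presheaf x hx hx s 0 h'
  refine ⟨W, iU.le, hxW, ?_⟩
  have : M.presheaf.map iU.op s = M.presheaf.map iV.op 0 := hW
  rw [map_zero] at this
  exact this

/-- the pairing with the restriction -/
lemma germ_pair_res {U V : X.Opens} (h : V ≤ U) (g : Γ(RefHull.homSh F G, U)) (s : Γ(F, V))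
    (y : X) (hy : y ∈ V) :
    G.presheaf.germ V y hy (pair (resH h g) s) = g.1 ⟨y, h hy⟩ (F.presheaf.germ V y hy s) :=
  germ_pair (resH h g) s y hy

/-- **Stalks of the sheaf Hom, injectivity.** For `F` of finite type the canonical map
`𝓗om(F, G)_x → Hom(F_x, G_x)` is injective. -/
theorem evalStalk_injective (hF : CohB1.IsFT F) (x : X) :
    Function.Injective (RefHull.evalStalk F G x) := by
  haveI : F.IsFiniteType := hF
  rw [injective_iff_map_eq_zero]
  intro θ hθ
  obtain ⟨U, hxU, g, rfl⟩ := TopCat.Presheaf.exists_germ_eq (RefHull.homSh F G).presheaf θ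
  rw [RefHull.evalStalk_germ] at hθ
  obtain ⟨W, hxW, I, hI, s, hs⟩ := Groth.Agent.Lib.CohFinite.exists_sections_span_stalk F x
  have hle : U ⊓ W ≤ U := inf_le_left
  have hxV : x ∈ U ⊓ W := ⟨hxU, hxW⟩
  -- the values on the generators vanish near `x`
  have hn : ∀ i : I, ∃ (W' : X.Opens) (hW' : W' ≤ U ⊓ W), x ∈ W' ∧
      rs G hW' (pair (resH hle g) (rs F (inf_le_right : U ⊓ W ≤ W) (s i))) = 0 := by
    intro i
    apply exists_nhd_eq_zero G x hxV
    rw [germ_pair_res, hθ]
    rfl
  choose W' hW' hxW' hz using hn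
  let V : X.Opens := (U ⊓ W) ⊓ ⨅ i, W' i
  have hxVV : x ∈ V := by
    refine ⟨hxV, ?_⟩
    change x ∈ ((⨅ i, W' i : X.Opens) : Set X)
    rw [Opens.coe_iInf]
    exact Set.mem_iInter.mpr hxW'
  have hVle : ∀ i, V ≤ W' i := fun i => inf_le_right.trans (iInf_le W' i)
  have hVU : V ≤ U := inf_le_left.trans inf_le_left
  have hVW : V ≤ W := inf_le_left.trans inf_le_right
  have hzero : resH hVU g = 0 := by
    refine homSh_ext _ _ (fun y => ?_)
    rw [resH_apply, homSh_zero_apply]
    apply LinearMap.ext_on (hs y.1 (hVW y.2))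
    rintro _ ⟨i, rfl⟩
    rw [LinearMap.zero_apply]
    have h1 := germ_pair_res hle g (rs F (inf_le_right : U ⊓ W ≤ W) (s i)) y.1
      ((hVle i).trans (hW' i) y.2)
    rw [germ_rs] at h1
    rw [← h1, ← germ_rs G (hW' i) y.1 (hVle i y.2), hz i, map_zero]
  have h2 := germ_rs (RefHull.homSh F G) hVU x hxVV g
  rw [← h2]
  change (RefHull.homSh F G).presheaf.germ V x hxVV (resH hVU g) = 0
  rw [hzero, map_zero]

end Groth.Agent.Lib.HomSh53
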