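import Groth.Agent.Lib.HomSh53a
import Groth.Agent.Lib.QCohStalk
import Groth.Agent.Lib.AssPush

/-!
# helper53: sections of the sheaf Hom over an affine open
(namespace `Groth.Agent.Lib.HomSh53`)

For `F` quasi-coherent and `U` affine: `Γ(U, 𝓗om(F, G)) ≃ₗ Hom_{Γ(X,U)}(Γ(F,U), Γ(G,U))`.
-/

set_option autoImplicit false
set_option maxHeartbeats 400000
set_option linter.unusedSectionVars false
set_option linter.style.haveILetI false
universe u
open CategoryTheory CategoryTheory.Limits AlgebraicGeometry Opposite TopologicalSpace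
open Groth.Agent.Lib.H78TensorGen Groth.Agent.Lib.H78Dual Groth.Agent.Lib.QCohStalk
  Groth.Agent.Lib.H4TensorPair

namespace Groth.Agent.Lib.HomSh53

variable {X : Scheme.{u}} {F G : X.Modules}

/-- evaluation of sections of the sheaf Hom on sections, as a linear map -/
noncomputable def toLin (U : X.Opens) :
    Γ(RefHull.homSh F G, U) →ₗ[Γ(X, U)] (Γ(F, U) →ₗ[Γ(X, U)] Γ(G, U)) where
  toFun g :=
    { toFun := fun m => pair g m
      map_add' := fun a b => (evPairing F G).add_right U g a b
      map_smul' := fun r a => (evPairing F G).smul_right U r g a }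
  map_add' g g' := LinearMap.ext fun m => (evPairing F G).add_left U g g' m
  map_smul' r g := LinearMap.ext fun m => (evPairing F G).smul_left U r g m

lemma toLin_apply {U : X.Opens} (g : Γ(RefHull.homSh F G, U)) (m : Γ(F, U)) :
    toLin U g m = pair g m := rfl

section stalk

variable {U : X.Opens} (hU : IsAffineOpen U) [F.IsQuasicoherent]

include hU in
lemma isUnit_germ_of_mem_primeCompl (y : U) (s : Γ(X, U))
    (hs : s ∈ (hU.primeIdealOf y).asIdeal.primeCompl) : IsUnit (X.presheaf.germ U y.1 y.2 s) := by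
  haveI : IsLocalization.AtPrime (X.presheaf.stalk y.1) (hU.primeIdealOf y).asIdeal :=
    hU.isLocalization_stalk y
  exact (IsLocalization.AtPrime.isUnit_to_map_iff (X.presheaf.stalk (y : X))
    (hU.primeIdealOf y).asIdeal s).mpr hs

include hU in
lemma isUnit_algebraMap_end_stalk (M : X.Modules) (y : U)
    (s : (hU.primeIdealOf y).asIdeal.primeCompl) :
    letI := moduleSectionStalk M y
    IsUnit (algebraMap Γ(X, U) (Module.End Γ(X, U) (M.presheaf.stalk y.1)) s) := by
  letI := moduleSectionStalk M y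
  rw [Module.End.isUnit_iff]
  have hg := isUnit_germ_of_mem_primeCompl hU y s.1 s.2
  constructor
  · intro a b hab
    have hab' : X.presheaf.germ U y.1 y.2 s.1 • a = X.presheaf.germ U y.1 y.2 s.1 • b := hab
    exact hg.smul_left_cancel.mp hab'
  · intro b
    obtain ⟨u, hu⟩ := hg
    refine ⟨(↑u⁻¹ : X.presheaf.stalk (y : X)) • b, ?_⟩
    change X.presheaf.germ U y.1 y.2 s.1 • ((↑u⁻¹ : X.presheaf.stalk (y : X)) • b) = b
    rw [← hu, smul_smul, Units.mul_inv, one_smul]

/-- the stalk map induced by a linear map on sections over an affine open -/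
noncomputable def stalkOfLin (l : Γ(F, U) →ₗ[Γ(X, U)] Γ(G, U)) (y : U) :
    RefHull.StalkHom F G y.1 :=
  letI := moduleSectionStalk F y
  letI := moduleSectionStalk G y
  haveI := isScalarTower_sectionStalk F y
  haveI := isScalarTower_sectionStalk G y
  haveI := isLocalizedModule_germ F hU y
  haveI : IsLocalization.AtPrime (X.presheaf.stalk y.1) (hU.primeIdealOf y).asIdeal :=
    hU.isLocalization_stalk y
  LinearMap.extendScalarsOfIsLocalization (hU.primeIdealOf y).asIdeal.primeCompl
    (X.presheaf.stalk y.1)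
    (IsLocalizedModule.lift (hU.primeIdealOf y).asIdeal.primeCompl (germLinear F y)
      ((germLinear G y).comp l) (isUnit_algebraMap_end_stalk hU G y))

lemma stalkOfLin_germ (l : Γ(F, U) →ₗ[Γ(X, U)] Γ(G, U)) (y : U) (m : Γ(F, U)) :
    stalkOfLin hU l y (F.presheaf.germ U y.1 y.2 m) = G.presheaf.germ U y.1 y.2 (l m) := by
  letI := moduleSectionStalk F y
  letI := moduleSectionStalk G y
  haveI := isLocalizedModule_germ F hU y
  unfold stalkOfLin
  rw [LinearMap.extendScalarsOfIsLocalization_apply']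
  exact IsLocalizedModule.lift_apply (hU.primeIdealOf y).asIdeal.primeCompl (germLinear F y)
      ((germLinear G y).comp l) (isUnit_algebraMap_end_stalk hU G y) m

include hU in
lemma isLocSect_stalkOfLin (l : Γ(F, U) →ₗ[Γ(X, U)] Γ(G, U)) :
    RefHull.IsLocSect F G (fun y : U => stalkOfLin hU l y) := by
  intro V i m x
  obtain ⟨f, hfV, hxf⟩ := hU.exists_basicOpen_le ⟨x.1, x.2⟩ (i.le x.2)
  obtain ⟨k, s, hs⟩ := exists_pow_smul_eq_res F hU f (res F hfV m)
  have hunit : IsUnit (resO X (X.basicOpen_le f) f) :=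
    RingedSpace.isUnit_res_basicOpen X.toRingedSpace f
  obtain ⟨w, hw⟩ := (hunit.pow k).exists_right_inv
  refine ⟨X.basicOpen f, hxf, homOfLE hfV, w • res G (X.basicOpen_le f) (l s), fun y => ?_⟩
  have hyU : y.1 ∈ U := X.basicOpen_le f y.2
  have hfy : IsUnit (X.presheaf.germ U y.1 hyU f) := (X.mem_basicOpen _ _ hyU).mp y.2
  -- Claim A
  have hA : (X.presheaf.germ U y.1 hyU f) ^ k • F.presheaf.germ V y.1 (hfV y.2) m =
      F.presheaf.germ U y.1 hyU s := by
    have h1 := congrArg (F.presheaf.germ (X.basicOpen f) y.1 y.2) hs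
    rw [germ_smul, germ_res, germ_res, map_pow, germO_res] at h1
    exact h1
  -- Claim B
  have hB : (X.presheaf.germ U y.1 hyU f) ^ k •
      G.presheaf.germ (X.basicOpen f) y.1 y.2 (w • res G (X.basicOpen_le f) (l s)) =
      G.presheaf.germ U y.1 hyU (l s) := by
    rw [germ_smul, germ_res, smul_smul, ← germO_res X (X.basicOpen_le f) y.1 y.2 f, ← map_pow,
      ← map_mul, hw, map_one, one_smul]
  apply (hfy.pow k).smul_left_cancel.mp
  change _ • stalkOfLin hU l ⟨y.1, hyU⟩ _ = _
  rw [← map_smul, hA, stalkOfLin_germ, hB]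

/-- the section of the sheaf Hom over an affine open defined by a linear map on sections -/
noncomputable def ofLin (l : Γ(F, U) →ₗ[Γ(X, U)] Γ(G, U)) : Γ(RefHull.homSh F G, U) :=
  ⟨fun y => stalkOfLin hU l y, isLocSect_stalkOfLin hU l⟩

lemma ofLin_apply (l : Γ(F, U) →ₗ[Γ(X, U)] Γ(G, U)) (y : U) :
    (ofLin hU l).1 y = stalkOfLin hU l y := rfl

lemma toLin_ofLin (l : Γ(F, U) →ₗ[Γ(X, U)] Γ(G, U)) : toLin U (ofLin hU l) = l := by
  refine LinearMap.ext fun m => ?_
  rw [toLin_apply]
  refine pair_unique _ _ _ (fun x hx => ?_)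
  rw [ofLin_apply]
  exact (stalkOfLin_germ hU l ⟨x, hx⟩ m).symm

include hU in
/-- linear maps out of the stalk of a quasi-coherent module at a point of an affine open are
determined by their values on germs of sections over the affine open -/
lemma stalkHom_ext_affine (y : U) (φ ψ : RefHull.StalkHom F G y.1)
    (h : ∀ m : Γ(F, U), φ (F.presheaf.germ U y.1 y.2 m) = ψ (F.presheaf.germ U y.1 y.2 m)) :
    φ = ψ := by
  refine LinearMap.ext fun ξ => ?_
  obtain ⟨g, s, hg, hgs⟩ := exists_germ_smul_eq_germ F hU y.1 y.2 ξ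
  apply hg.smul_left_cancel.mp
  rw [← map_smul, ← map_smul, hgs, h]

include hU in
lemma toLin_injective : Function.Injective (toLin (F := F) (G := G) U) := by
  intro g g' h
  refine homSh_ext _ _ (fun y => stalkHom_ext_affine hU y _ _ (fun m => ?_))
  rw [← germ_pair g m y.1 y.2, ← germ_pair g' m y.1 y.2]
  exact congrArg _ (LinearMap.congr_fun h m)

/-- **Sections of the sheaf Hom over an affine open.** For `F` quasi-coherent and `U` affine,
`Γ(U, 𝓗om(F, G)) ≃ Hom_{Γ(X,U)}(Γ(F,U), Γ(G,U))`. -/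
noncomputable def sectionsLinEquiv :
    Γ(RefHull.homSh F G, U) ≃ₗ[Γ(X, U)] (Γ(F, U) →ₗ[Γ(X, U)] Γ(G, U)) :=
  LinearEquiv.ofBijective (toLin U)
    ⟨toLin_injective hU, fun l => ⟨ofLin hU l, toLin_ofLin hU l⟩⟩

lemma sectionsLinEquiv_apply (g : Γ(RefHull.homSh F G, U)) (m : Γ(F, U)) :
    sectionsLinEquiv hU g m = pair g m := rfl

lemma sectionsLinEquiv_symm_apply (l : Γ(F, U) →ₗ[Γ(X, U)] Γ(G, U)) :
    (sectionsLinEquiv hU).symm l = ofLin hU l := by
  apply (sectionsLinEquiv hU).injective
  rw [LinearEquiv.apply_symm_apply]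
  exact (toLin_ofLin hU l).symm

end stalk

end Groth.Agent.Lib.HomSh53
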