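import Groth.Agent.Lib.HomSh53b
import Groth.Agent.Lib.H90OXModFP
import Groth.Agent.Lib.H90OXModPush

/-!
# helper53: the sheaf Hom of a finitely presented module into a quasi-coherent module is
quasi-coherent; coherent in the locally Noetherian case
(namespace `Groth.Agent.Lib.HomSh53`)
-/

set_option autoImplicit false
set_option maxHeartbeats 400000
set_option linter.unusedSectionVars false
set_option linter.style.haveILetI false
universe u
open CategoryTheory CategoryTheory.Limits AlgebraicGeometry Opposite TopologicalSpace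
open Groth.Agent.Lib.H78TensorGen Groth.Agent.Lib.H78Dual Groth.Agent.Lib.QCohStalk
  Groth.Agent.Lib.H4TensorPair Groth.Agent.Lib.AssPush Groth.Agent.Lib.H90OXModFP

namespace Groth.Agent.Lib.HomSh53

variable {X : Scheme.{u}} {F G : X.Modules}

lemma res_pair {U V : X.Opens} (h : V ≤ U) (g : Γ(RefHull.homSh F G, U)) (m : Γ(F, U)) :
    res G h (pair g m) = pair (resH h g) (res F h m) := (evPairing F G).map h g m

lemma pair_zero_left {U : X.Opens} (m : Γ(F, U)) :
    pair (0 : Γ(RefHull.homSh F G, U)) m = 0 := by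
  have := (toLin (F := F) (G := G) U).map_zero
  exact LinearMap.congr_fun this m

section loc
variable {U : X.Opens} (hU : IsAffineOpen U)

/-- the linear map `Γ(F,U) → Γ(G, D(f))` defined by a section of the sheaf Hom over `D(f)` -/
noncomputable def linOfBasic (f : Γ(X, U)) (t : Γ(RefHull.homSh F G, X.basicOpen f)) :
    letI := moduleBasicOpen G f
    Γ(F, U) →ₗ[Γ(X, U)] Γ(G, X.basicOpen f) :=
  letI := moduleBasicOpen G f
  { toFun := fun m => pair t (res F (X.basicOpen_le f) m)
    map_add' := fun a b => by
      have : res F (X.basicOpen_le f) (a + b) =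
          res F (X.basicOpen_le f) a + res F (X.basicOpen_le f) b :=
        map_add (F.presheaf.map (homOfLE (X.basicOpen_le f)).op).hom a b
      rw [this]
      exact (evPairing F G).add_right _ t _ _
    map_smul' := fun r m => by
      rw [res_smul]
      exact (evPairing F G).smul_right _ _ t _ }

lemma linOfBasic_apply (f : Γ(X, U)) (t : Γ(RefHull.homSh F G, X.basicOpen f)) (m : Γ(F, U)) :
    linOfBasic f t m = pair t (res F (X.basicOpen_le f) m) := rfl

variable [F.IsQuasicoherent]

include hU in
/-- for `F` finitely presented and `G` quasi-coherent, the sheaf Hom is localizing on affine opens -/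
theorem isLocalizingOn_homSh (hF : CohB1.IsFP F) [G.IsQuasicoherent] :
    IsLocalizingOn (RefHull.homSh F G) U where
  surj f t := by
    haveI : SheafOfModules.IsFinitePresentation (R := X.ringCatSheaf) F := hF
    haveI := finitePresentation_sections F hU
    letI := moduleBasicOpen G f
    haveI := isLocalizedModule_resBasicOpen G (isLocalizingOn_of_isQuasicoherent G hU) f
    obtain ⟨h, s, hs⟩ := Module.FinitePresentation.exists_lift_of_isLocalizedModule
      (Submonoid.powers f) (resBasicOpen G f) (linOfBasic f t)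
    obtain ⟨_, n, rfl⟩ := s
    refine ⟨n, ofLin hU h, ?_⟩
    refine homSh_ext _ _ (fun y => ?_)
    have hyU : y.1 ∈ U := X.basicOpen_le f y.2
    refine stalkHom_ext_affine hU ⟨y.1, hyU⟩ _ _ (fun m => ?_)
    have hR : (res (RefHull.homSh F G) (X.basicOpen_le f) (ofLin hU h)).1 y
        (F.presheaf.germ U y.1 hyU m) = G.presheaf.germ U y.1 hyU (h m) :=
      stalkOfLin_germ hU h ⟨y.1, hyU⟩ m
    have hL : (resO X (X.basicOpen_le f) f ^ n • t).1 y (F.presheaf.germ U y.1 hyU m) =
        X.presheaf.germ (X.basicOpen f) y.1 y.2 (resO X (X.basicOpen_le f) f ^ n) •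
          t.1 y (F.presheaf.germ U y.1 hyU m) := rfl
    rw [hR, hL, ← germ_res F (X.basicOpen_le f) y.1 y.2 m, ← germ_pair t _ y.1 y.2,
      ← germ_res G (X.basicOpen_le f) y.1 y.2 (h m), ← germ_smul]
    have h1 := LinearMap.congr_fun hs m
    have h2 : res G (X.basicOpen_le f) (h m) =
        resO X (X.basicOpen_le f) (f ^ n) • pair t (res F (X.basicOpen_le f) m) := h1
    rw [h2, resO_pow]
  inj f g hg := by
    haveI : SheafOfModules.IsFinitePresentation (R := X.ringCatSheaf) F := hF
    haveI : Module.Finite Γ(X, U) Γ(F, U) :=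
      Groth.Agent.Lib.CohFinite.finite_sections_of_isAffineOpen F hU
    letI := moduleBasicOpen G f
    haveI := isLocalizedModule_resBasicOpen G (isLocalizingOn_of_isQuasicoherent G hU) f
    have h0 : (resBasicOpen G f).comp (toLin U g) =
        (resBasicOpen G f).comp (0 : Γ(F, U) →ₗ[Γ(X, U)] Γ(G, U)) := by
      refine LinearMap.ext fun m => ?_
      change res G (X.basicOpen_le f) (pair g m) = res G (X.basicOpen_le f) 0
      rw [res_pair, res_zero]
      change pair (res (RefHull.homSh F G) (X.basicOpen_le f) g) _ = 0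
      rw [hg, pair_zero_left]
    obtain ⟨s, hs⟩ := Module.Finite.exists_smul_of_comp_eq_of_isLocalizedModule
      (Submonoid.powers f) (resBasicOpen G f) _ _ h0
    obtain ⟨_, n, rfl⟩ := s
    refine ⟨n, toLin_injective hU ?_⟩
    rw [map_smul, map_zero]
    rw [smul_zero] at hs
    exact hs

end loc

/-- **Quasi-coherence of the sheaf Hom.** -/
theorem isQuasicoherent_homSh (hF : CohB1.IsFP F) [G.IsQuasicoherent] :
    (RefHull.homSh F G).IsQuasicoherent := by
  haveI : SheafOfModules.IsFinitePresentation (R := X.ringCatSheaf) F := hF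
  haveI : F.IsQuasicoherent := inferInstance
  exact (Groth.Agent.Lib.H90OXModPush.isQuasicoherent_iff_forall_isLocalizingOn _).mpr
    fun U => isLocalizingOn_homSh U.2 hF

/-- coherent modules on locally Noetherian schemes are finitely presented -/
theorem isFP_of_isCoh [IsLocallyNoetherian X] {F : X.Modules} (hF : Coh.IsCoh F) :
    CohB1.IsFP F := by
  rw [Groth.Agent.Lib.H90OXModFP.isFP_iff_forall_affine]
  refine ⟨hF.1, fun U => ?_⟩
  have : IsNoetherianRing Γ(X, U.1) := IsLocallyNoetherian.component_noetherian U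
  have : Module.Finite Γ(X, U.1) Γ(F, U.1) :=
    Groth.Agent.Lib.CohFinite.finite_sections_of_isCoh F hF U.2
  exact Module.finitePresentation_of_finite _ _

/-- **Coherence of the sheaf Hom** on a locally Noetherian scheme. -/
theorem isCoh_homSh [IsLocallyNoetherian X] (hF : Coh.IsCoh F) (hG : Coh.IsCoh G) :
    Coh.IsCoh (RefHull.homSh F G) := by
  haveI := hF.1
  haveI := hG.1
  rw [Groth.Agent.Lib.H90OXModAffineFT.isCoh_iff_forall_affine]
  refine ⟨isQuasicoherent_homSh (isFP_of_isCoh hF), fun U => ?_⟩
  haveI : IsNoetherianRing Γ(X, U.1) := IsLocallyNoetherian.component_noetherian U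
  haveI : Module.Finite Γ(X, U.1) Γ(F, U.1) :=
    Groth.Agent.Lib.CohFinite.finite_sections_of_isCoh F hF U.2
  haveI : Module.Finite Γ(X, U.1) Γ(G, U.1) :=
    Groth.Agent.Lib.CohFinite.finite_sections_of_isCoh G hG U.2
  haveI : IsNoetherian Γ(X, U.1) Γ(G, U.1) := isNoetherian_of_isNoetherianRing_of_finite _ _
  haveI : IsNoetherian Γ(X, U.1) (Γ(F, U.1) →ₗ[Γ(X, U.1)] Γ(G, U.1)) := isNoetherian_linearMap _ _ _
  exact Module.Finite.equiv (sectionsLinEquiv U.2).symm

end Groth.Agent.Lib.HomSh53
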