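import Groth.Agent.Lib.HomSh53c

/-!
# helper53: stalks of the sheaf Hom of a finitely presented module
(namespace `Groth.Agent.Lib.HomSh53`)

`evalStalk_bijective`: for `F` finitely presented, `𝓗om(F, G)_x → Hom(F_x, G_x)` is bijective.
-/

set_option autoImplicit false
set_option maxHeartbeats 400000
set_option linter.unusedSectionVars false
set_option linter.style.haveILetI false
universe u
open CategoryTheory CategoryTheory.Limits AlgebraicGeometry Opposite TopologicalSpace
open Groth.Agent.Lib.H78TensorGen Groth.Agent.Lib.H78Dual Groth.Agent.Lib.QCohStalk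
  Groth.Agent.Lib.H4TensorPair Groth.Agent.Lib.AssPush Groth.Agent.Lib.H90OXModFP

namespace Groth.Agent.Lib.HomSh53

variable {X : Scheme.{u}} {F G : X.Modules}

section lift
variable {U : X.Opens} (hU : IsAffineOpen U)

lemma germ_sum (M : X.Modules) {V : X.Opens} (x : X) (hx : x ∈ V) {ι : Type*} (s : Finset ι)
    (t : ι → Γ(M, V)) :
    M.presheaf.germ V x hx (∑ i ∈ s, t i) = ∑ i ∈ s, M.presheaf.germ V x hx (t i) :=
  map_sum (M.presheaf.germ V x hx).hom t s

lemma res_sum (M : X.Modules) {V W : X.Opens} (h : W ≤ V) {ι : Type*} (s : Finset ι)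
    (t : ι → Γ(M, V)) : res M h (∑ i ∈ s, t i) = ∑ i ∈ s, res M h (t i) :=
  map_sum (M.presheaf.map (homOfLE h).op).hom t s

include hU in
/-- a linear map out of the stalk of `F` at `x` lifts, near `x`, to a linear map from the sections
of `F` over the affine open `U` to the sections of `G` over a basic open. -/
theorem exists_lin_germ [Module.FinitePresentation Γ(X, U) Γ(F, U)] (x : X) (hx : x ∈ U)
    (φ : RefHull.StalkHom F G x) :
    ∃ (f : Γ(X, U)) (hxf : x ∈ X.basicOpen f)
      (l : letI := moduleBasicOpen G f; Γ(F, U) →ₗ[Γ(X, U)] Γ(G, X.basicOpen f)),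
      ∀ m, G.presheaf.germ (X.basicOpen f) x hxf (l m) = φ (F.presheaf.germ U x hx m) := by
  obtain ⟨n, r, π, g, hπ, hex⟩ := Module.FinitePresentation.exists_fin' Γ(X, U) Γ(F, U)
  -- generators
  have hgen : ∀ v : Fin n → Γ(X, U), π v = ∑ i, v i • π (Pi.single i 1) := by
    intro v
    conv_lhs => rw [pi_eq_sum_univ' v]
    rw [map_sum]
    refine Finset.sum_congr rfl (fun i _ => ?_)
    rw [← map_smul]
  choose V hxV t ht using fun i : Fin n =>
    TopCat.Presheaf.exists_germ_eq G.presheaf (φ (F.presheaf.germ U x hx (π (Pi.single i 1))))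
  let V₀ : X.Opens := U ⊓ ⨅ i, V i
  have hxV₀ : x ∈ V₀ := by
    refine ⟨hx, ?_⟩
    change x ∈ ((⨅ i, V i : X.Opens) : Set X)
    rw [Opens.coe_iInf]
    exact Set.mem_iInter.mpr hxV
  have hV₀U : V₀ ≤ U := inf_le_left
  have hV₀V : ∀ i, V₀ ≤ V i := fun i => inf_le_right.trans (iInf_le V i)
  -- the value of a vector of coefficients
  let val : (Fin n → Γ(X, U)) → Γ(G, V₀) := fun v =>
    ∑ i, resO X hV₀U (v i) • res G (hV₀V i) (t i)
  have hval : ∀ v, G.presheaf.germ V₀ x hxV₀ (val v) = φ (F.presheaf.germ U x hx (π v)) := by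
    intro v
    rw [germ_sum, hgen v, germ_sum, map_sum]
    refine Finset.sum_congr rfl (fun i _ => ?_)
    rw [germ_smul, germ_res, germO_res, ht i, germ_smul, map_smul]
  -- relations
  have hrel : ∀ j : Fin r, ∃ (W : X.Opens) (hW : W ≤ V₀), x ∈ W ∧
      res G hW (val (g (Pi.single j 1))) = 0 := by
    intro j
    apply exists_nhd_eq_zero G x hxV₀
    rw [hval]
    have : π (g (Pi.single j 1)) = 0 := hex.apply_apply_eq_zero _
    rw [this, map_zero, map_zero]
  choose W hW hxW hz using hrel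
  let W₀ : X.Opens := V₀ ⊓ ⨅ j, W j
  have hxW₀ : x ∈ W₀ := by
    refine ⟨hxV₀, ?_⟩
    change x ∈ ((⨅ j, W j : X.Opens) : Set X)
    rw [Opens.coe_iInf]
    exact Set.mem_iInter.mpr hxW
  obtain ⟨f, hfW₀, hxf⟩ := hU.exists_basicOpen_le ⟨x, hxW₀⟩ hx
  have hfV₀ : X.basicOpen f ≤ V₀ := hfW₀.trans inf_le_left
  have hfW : ∀ j, X.basicOpen f ≤ W j := fun j => hfW₀.trans (inf_le_right.trans (iInf_le W j))
  letI := moduleBasicOpen G f
  let μ : (Fin n → Γ(X, U)) →ₗ[Γ(X, U)] Γ(G, X.basicOpen f) :=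
    Fintype.linearCombination Γ(X, U) (fun i => res G (hfV₀.trans (hV₀V i)) (t i))
  have hμ : ∀ v, μ v = res G hfV₀ (val v) := by
    intro v
    rw [Fintype.linearCombination_apply, res_sum]
    refine Finset.sum_congr rfl (fun i _ => ?_)
    rw [res_smul, res_res, resO_resO]
    rfl
  have hμg : ∀ j : Fin r, μ (g (Pi.single j 1)) = 0 := by
    intro j
    rw [hμ, ← res_res G (hfW j) (hW j), hz j, res_zero]
  have hker : LinearMap.ker π ≤ LinearMap.ker μ := by
    intro v hv
    obtain ⟨w, rfl⟩ := (hex v).mp hv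
    rw [LinearMap.mem_ker]
    conv_lhs => rw [pi_eq_sum_univ' w]
    rw [map_sum, map_sum]
    refine Finset.sum_eq_zero (fun j _ => ?_)
    rw [map_smul, map_smul, hμg j, smul_zero]
  let l : Γ(F, U) →ₗ[Γ(X, U)] Γ(G, X.basicOpen f) :=
    ((LinearMap.ker π).liftQ μ hker).comp (π.quotKerEquivOfSurjective hπ).symm.toLinearMap
  have hl : ∀ v, l (π v) = μ v := by
    intro v
    have h1 : (π.quotKerEquivOfSurjective hπ).symm (π v) = (LinearMap.ker π).mkQ v := by
      rw [LinearEquiv.symm_apply_eq]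
      rfl
    change ((LinearMap.ker π).liftQ μ hker) ((π.quotKerEquivOfSurjective hπ).symm (π v)) = μ v
    rw [h1]
    rfl
  refine ⟨f, hxf, l, fun m => ?_⟩
  obtain ⟨v, rfl⟩ := hπ m
  rw [hl, hμ, germ_res, hval]

lemma isUnit_algebraMap_end_basicOpen (M : X.Modules) (f : Γ(X, U)) (s : Submonoid.powers f) :
    letI := moduleBasicOpen M f
    IsUnit (algebraMap Γ(X, U) (Module.End Γ(X, U) Γ(M, X.basicOpen f)) s) := by
  letI := moduleBasicOpen M f
  have hfunit : IsUnit (algebraMap Γ(X, U) Γ(X, X.basicOpen f) f) :=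
    RingedSpace.isUnit_res_basicOpen X.toRingedSpace f
  obtain ⟨_, n, rfl⟩ := s
  rw [Module.End.isUnit_iff]
  have hu : IsUnit (algebraMap Γ(X, U) Γ(X, X.basicOpen f) (f ^ n)) := by
    rw [map_pow]; exact hfunit.pow n
  constructor
  · intro a b hab
    have hab' : algebraMap Γ(X, U) Γ(X, X.basicOpen f) (f ^ n) • a =
        algebraMap Γ(X, U) Γ(X, X.basicOpen f) (f ^ n) • b := hab
    exact hu.smul_left_cancel.mp hab'
  · intro b
    obtain ⟨c, hc⟩ := hu.exists_left_inv
    refine ⟨c • b, ?_⟩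
    change algebraMap Γ(X, U) Γ(X, X.basicOpen f) (f ^ n) • c • b = b
    rw [← mul_smul, mul_comm, hc, one_smul]

include hU in
/-- extend a linear map from `Γ(F,U)` into `Γ(G,D(f))` to `Γ(F,D(f))` -/
theorem exists_lin_basicOpen [F.IsQuasicoherent] (f : Γ(X, U))
    (l : letI := moduleBasicOpen G f; Γ(F, U) →ₗ[Γ(X, U)] Γ(G, X.basicOpen f)) :
    ∃ l' : Γ(F, X.basicOpen f) →ₗ[Γ(X, X.basicOpen f)] Γ(G, X.basicOpen f),
      ∀ m, l' (res F (X.basicOpen_le f) m) = l m := by
  letI := moduleBasicOpen G f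
  letI := moduleBasicOpen F f
  haveI := isScalarTower_basicOpen F f
  haveI := isScalarTower_basicOpen G f
  haveI := isLocalizedModule_resBasicOpen F (isLocalizingOn_of_isQuasicoherent F hU) f
  haveI : IsLocalization.Away f Γ(X, X.basicOpen f) := hU.isLocalization_basicOpen f
  refine ⟨LinearMap.extendScalarsOfIsLocalization (Submonoid.powers f) Γ(X, X.basicOpen f)
    (IsLocalizedModule.lift (Submonoid.powers f) (resBasicOpen F f) l
      (isUnit_algebraMap_end_basicOpen G f)), fun m => ?_⟩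
  rw [LinearMap.extendScalarsOfIsLocalization_apply']
  exact IsLocalizedModule.lift_apply (Submonoid.powers f) (resBasicOpen F f) l
      (isUnit_algebraMap_end_basicOpen G f) m

end lift

/-- **Stalks of the sheaf Hom.** For `F` finitely presented the canonical map
`𝓗om(F, G)_x → Hom(F_x, G_x)` is bijective. -/
theorem evalStalk_bijective (hF : CohB1.IsFP F) (x : X) :
    Function.Bijective (RefHull.evalStalk F G x) := by
  haveI : SheafOfModules.IsFinitePresentation (R := X.ringCatSheaf) F := hF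
  haveI : F.IsQuasicoherent := inferInstance
  refine ⟨evalStalk_injective (by infer_instance) x, fun φ => ?_⟩
  obtain ⟨_, ⟨U, hU : IsAffineOpen U, rfl⟩, hxU, -⟩ :=
    X.isBasis_affineOpens.exists_subset_of_mem_open (Set.mem_univ x) isOpen_univ
  haveI := finitePresentation_sections F hU
  obtain ⟨f, hxf, l, hl⟩ := exists_lin_germ hU x hxU φ
  obtain ⟨l', hl'⟩ := exists_lin_basicOpen hU f l
  refine ⟨(RefHull.homSh F G).presheaf.germ (X.basicOpen f) x hxf (ofLin (hU.basicOpen f) l'), ?_⟩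
  rw [RefHull.evalStalk_germ, ofLin_apply]
  refine stalkHom_ext_affine hU ⟨x, hxU⟩ _ _ (fun m => ?_)
  rw [← germ_res F (X.basicOpen_le f) x hxf m]
  rw [stalkOfLin_germ (hU.basicOpen f) l' ⟨x, hxf⟩, hl', hl]
  rw [germ_res]

end Groth.Agent.Lib.HomSh53
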