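import Groth.Agent.Lib.HomSh53d
import Groth.Agent.Lib.StructureModuleStalk
import Groth.Agent.Lib.ModStalkIso
import Groth.Agent.Lib.H90Invertible

/-!
# helper53: reflexivity of a coherent module versus reflexivity of its stalks
(namespace `Groth.Agent.Lib.HomSh53`)

* `bijective_iff_isReflexive`: abstract comparison of a "twisted" biduality map with `Module.Dual.eval`.
* `bijective_bidualAt_iff`: `RefHull.bidualAt F x` is bijective iff `F_x` is reflexive (`F` f.p.).
* `isReflexive_iff_forall_isReflexiveAt`: for `F` coherent on a locally Noetherian scheme,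
  `RefHull.IsReflexive F ↔ ∀ x, RefHull.IsReflexiveAt F x`.
-/

set_option autoImplicit false
set_option maxHeartbeats 400000
set_option linter.unusedSectionVars false
set_option linter.style.haveILetI false
universe u
open CategoryTheory CategoryTheory.Limits AlgebraicGeometry Opposite TopologicalSpace
open Groth.Agent.Lib.H78TensorGen Groth.Agent.Lib.H78Dual Groth.Agent.Lib.QCohStalk
  Groth.Agent.Lib.H4TensorPair Groth.Agent.Lib.AssPush Groth.Agent.Lib.H90OXModFP
  Groth.Agent.Lib.ModStalkLin Groth.Agent.Lib.ModStalk

namespace Groth.Agent.Lib.HomSh53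

section algebra
variable {R : Type u} [CommRing R] {M P D : Type u} [AddCommGroup M] [Module R M]
  [AddCommGroup P] [Module R P] [AddCommGroup D] [Module R D]

theorem bijective_iff_isReflexive (e : R ≃ₗ[R] P) (ε : D ≃ₗ[R] (M →ₗ[R] P))
    (β : M →ₗ[R] (D →ₗ[R] P)) (hβ : ∀ v θ, β v θ = ε θ v) :
    Function.Bijective β ↔ Module.IsReflexive R M := by
  let ε' : D ≃ₗ[R] Module.Dual R M :=
    ε ≪≫ₗ LinearEquiv.arrowCongr (LinearEquiv.refl R M) e.symm
  let Φ : (D →ₗ[R] P) ≃ₗ[R] Module.Dual R (Module.Dual R M) := LinearEquiv.arrowCongr ε' e.symm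
  have key : ∀ v, Φ (β v) = Module.Dual.eval R M v := by
    intro v
    refine LinearMap.ext fun ψ => ?_
    change e.symm (β v (ε'.symm ψ)) = ψ v
    rw [hβ]
    have h1 : ε (ε'.symm ψ) = (LinearEquiv.arrowCongr (LinearEquiv.refl R M) e.symm).symm ψ := by
      change ε (ε.symm _) = _
      rw [LinearEquiv.apply_symm_apply]
      rfl
    rw [h1]
    change e.symm (e (ψ v)) = ψ v
    rw [LinearEquiv.symm_apply_apply]
  have hcomp : (Module.Dual.eval R M : M → _) = Φ ∘ β := funext fun v => (key v).symm
  constructor
  · intro h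
    refine ⟨?_⟩
    rw [hcomp]
    exact Φ.bijective.comp h
  · intro h
    have h1 := h.bijective_dual_eval'
    rw [hcomp] at h1
    exact (Function.Bijective.of_comp_iff' Φ.bijective β).mp h1

end algebra

variable {X : Scheme.{u}} {F : X.Modules}

theorem isCoh_structureModule (X : Scheme.{u}) : Coh.IsCoh (Coh.structureModule X) :=
  Groth.Agent.Lib.H90Invertible.isCoh_of_isInvertible
    (Groth.Agent.Lib.H90Invertible.isInvertible_structureModule X)

/-- `bidualAt F x` is bijective iff the stalk `F_x` is reflexive (for `F` finitely presented). -/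
theorem bijective_bidualAt_iff (hF : CohB1.IsFP F) (x : X) :
    Function.Bijective (RefHull.bidualAt F x) ↔ RefHull.IsReflexiveAt F x :=
  bijective_iff_isReflexive (Groth.Agent.Lib.StructureModuleStalk.stalkEquiv x)
    (LinearEquiv.ofBijective (RefHull.evalStalk F (Coh.structureModule X) x)
      (evalStalk_bijective hF x))
    (RefHull.bidualAt F x) (fun _ _ => rfl)

/-- the stalk of the biduality map, composed with the evaluation of the double dual -/
theorem evalStalk_comp_stalkLin_bidualMap (x : X) :
    (RefHull.evalStalk (RefHull.dual F) (Coh.structureModule X) x) ∘ₗ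
      (stalkLin (RefHull.bidualMap F) x) = RefHull.bidualAt F x := by
  refine LinearMap.ext fun v => ?_
  obtain ⟨U, hxU, s, rfl⟩ := TopCat.Presheaf.exists_germ_eq F.presheaf v
  rw [LinearMap.comp_apply, stalkLin_germ, RefHull.evalStalk_germ]
  exact RefHull.bidualMap_app_apply F s ⟨x, hxU⟩

/-- coherence of the dual and of the reflexive hull -/
theorem isCoh_dual [IsLocallyNoetherian X] (hF : Coh.IsCoh F) : Coh.IsCoh (RefHull.dual F) :=
  isCoh_homSh hF (isCoh_structureModule X)

theorem isCoh_ddual [IsLocallyNoetherian X] (hF : Coh.IsCoh F) : Coh.IsCoh (RefHull.ddual F) :=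
  isCoh_dual (isCoh_dual hF)

/-- the stalk of the biduality map is bijective iff the stalk is reflexive -/
theorem bijective_stalkLin_bidualMap_iff [IsLocallyNoetherian X] (hF : Coh.IsCoh F) (x : X) :
    Function.Bijective (stalkLin (RefHull.bidualMap F) x) ↔ RefHull.IsReflexiveAt F x := by
  rw [← bijective_bidualAt_iff (isFP_of_isCoh hF) x, ← evalStalk_comp_stalkLin_bidualMap x]
  exact (Function.Bijective.of_comp_iff'
    (evalStalk_bijective (isFP_of_isCoh (isCoh_dual hF)) x) _).symm

/-- **Reflexive iff stalkwise reflexive**, for coherent modules on locally Noetherian schemes. -/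
theorem isReflexive_iff_forall_isReflexiveAt [IsLocallyNoetherian X] (hF : Coh.IsCoh F) :
    RefHull.IsReflexive F ↔ ∀ x : X, RefHull.IsReflexiveAt F x := by
  unfold RefHull.IsReflexive
  rw [Groth.Agent.Lib.ModStalkIso.isIso_iff_stalk_bijective]
  exact forall_congr' fun x => bijective_stalkLin_bidualMap_iff hF x

end Groth.Agent.Lib.HomSh53
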