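import Groth.Prelude.Def_ActBC
import Groth.Prelude.Def_NonAbH2
import Mathlib.AlgebraicGeometry.Sites.Fpqc
import Mathlib.AlgebraicGeometry.Morphisms.FlatDescent
import Mathlib.AlgebraicGeometry.Morphisms.IsIso

/-!
# fpqc torsors and base change along a faithfully flat quasi-compact morphism (helper21)

For `f : S' ⟶ S` surjective, flat and quasi-compact:

* `isPullback_pullback_map_left` : `(Over.pullback f).map h` is the base change of `h` along
  `B ×_S S' ⟶ B`;
* `isIso_of_isIso_pullback_map` : `h` is an isomorphism if `(Over.pullback f).map h` is;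
* `isPseudoTorsorSch_of_bc`, `isLocallyTrivialFor_fpqc_of_bc`, `isTorsorFor_fpqc_bc_iff` :
  an action is an fpqc torsor iff its base change along `f` is.
-/

universe u

open CategoryTheory CategoryTheory.Limits MonoidalCategory CartesianMonoidalCategory MonObj
  AlgebraicGeometry

namespace Groth.Agent.Lib.TorsorFpqcBC

variable {S S' : Scheme.{u}} (f : S' ⟶ S)

lemma isPullback_pullback_map_left {A B : Over S} (h : A ⟶ B) :
    IsPullback ((Over.pullback f).map h).left (pullback.fst A.hom f) (pullback.fst B.hom f)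
      h.left := by
  have e1 : ((Over.pullback f).map h).left ≫ pullback.snd B.hom f = pullback.snd A.hom f :=
    Over.w ((Over.pullback f).map h)
  refine IsPullback.of_right (h₁₂ := pullback.snd B.hom f) (h₂₂ := B.hom) (v₁₃ := f)
    ?_ (ActBC.pullback_map_left_fst f h) (IsPullback.of_hasPullback B.hom f).flip
  rw [e1, Over.w h]
  exact (IsPullback.of_hasPullback A.hom f).flip

/-- A property that descends along fpqc morphisms can be checked after base change of the base
along an fpqc morphism. -/
theorem prop_left_of_pullback_map (P : MorphismProperty Scheme.{u})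
    [P.DescendsAlong (@Surjective ⊓ @Flat ⊓ @QuasiCompact)]
    [Surjective f] [Flat f] [QuasiCompact f] {A B : Over S} (h : A ⟶ B)
    (hP : P ((Over.pullback f).map h).left) : P h.left :=
  MorphismProperty.of_isPullback_of_descendsAlong (P := P)
    (Q := (@Surjective ⊓ @Flat ⊓ @QuasiCompact : MorphismProperty Scheme.{u}))
    (isPullback_pullback_map_left f h) ⟨⟨inferInstance, inferInstance⟩, inferInstance⟩ hP

theorem isIso_of_isIso_pullback_map [Surjective f] [Flat f] [QuasiCompact f] {A B : Over S}
    (h : A ⟶ B) (hh : IsIso ((Over.pullback f).map h)) : IsIso h := by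
  have h2 : IsIso ((Over.pullback f).map h).left :=
    inferInstanceAs (IsIso ((Over.forget S').map ((Over.pullback f).map h)))
  have h3 : IsIso h.left :=
    prop_left_of_pullback_map f (MorphismProperty.isomorphisms Scheme.{u}) h h2
  have : IsIso ((Over.forget S).map h) := h3
  exact isIso_of_reflects_iso h (Over.forget S)

variable {G X : Over S} [GrpObj G]

theorem isPseudoTorsorSch_of_bc [Surjective f] [Flat f] [QuasiCompact f] (a : AlgGrp.Action G X)
    (h : NonAbH1.IsPseudoTorsorSch (a.bc f)) : NonAbH1.IsPseudoTorsorSch a := by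
  have key : lift (a.bc f).act (snd _ _) ≫ Functor.LaxMonoidal.μ (Over.pullback f) X X =
      Functor.LaxMonoidal.μ (Over.pullback f) G X ≫
        (Over.pullback f).map (lift a.act (snd G X)) := by
    rw [← Functor.Monoidal.lift_μ, comp_lift_assoc, Functor.Monoidal.μ_snd,
      AlgGrp.Action.bc_act]
  have : IsIso (lift (a.bc f).act (snd _ _)) := h
  have h1 : IsIso (Functor.LaxMonoidal.μ (Over.pullback f) G X ≫
      (Over.pullback f).map (lift a.act (snd G X))) := by
    rw [← key]; infer_instance
  have h2 : IsIso ((Over.pullback f).map (lift a.act (snd G X))) :=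
    IsIso.of_isIso_comp_left (Functor.LaxMonoidal.μ (Over.pullback f) G X) _
  exact isIso_of_isIso_pullback_map f _ h2

omit [GrpObj G] in
theorem isLocallyTrivialFor_fpqc_of_bc [Surjective f] [Flat f] [QuasiCompact f]
    (h : NonAbH1.IsLocallyTrivialFor Scheme.fpqcPrecoverage (Red.bc f X)) :
    NonAbH1.IsLocallyTrivialFor Scheme.fpqcPrecoverage X := by
  obtain ⟨R, hR, hsec⟩ := h
  obtain ⟨𝒰, h𝒰, rfl⟩ := Scheme.mem_propQCPrecoverage_iff_exists_quasiCompactCover.mp hR
  have h1 : Presieve.ofArrows (fun _ : PUnit.{1} => S') (fun _ => f) ∈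
      Scheme.fpqcPrecoverage S := by
    rw [Presieve.ofArrows_pUnit]
    exact Scheme.Hom.singleton_mem_fpqcPrecoverage f
  have h2 := Precoverage.comp_mem_coverings (J := Scheme.fpqcPrecoverage) _ h1
    (σ := fun _ => 𝒰.I₀) (Y := fun _ => 𝒰.X) (fun _ => 𝒰.f) (fun _ => hR)
  refine ⟨_, h2, ?_⟩
  · rintro T g ⟨p⟩
    obtain ⟨s, hs⟩ := hsec (𝒰.f p.2) (Presieve.ofArrows.mk p.2)
    refine ⟨s ≫ pullback.fst X.hom f, ?_⟩
    rw [Category.assoc, pullback.condition, ← Category.assoc]
    congr 1

theorem isTorsorFor_fpqc_bc_iff [Surjective f] [Flat f] [QuasiCompact f] (a : AlgGrp.Action G X) :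
    NonAbH1.IsTorsorFor Scheme.fpqcPrecoverage a ↔
      NonAbH1.IsTorsorFor Scheme.fpqcPrecoverage (a.bc f) :=
  ⟨fun h => NonAbH1.isTorsorFor_bc f Scheme.fpqcPrecoverage h,
    fun h => ⟨isPseudoTorsorSch_of_bc f a h.1, isLocallyTrivialFor_fpqc_of_bc f h.2⟩⟩

end Groth.Agent.Lib.TorsorFpqcBC
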