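import Groth.Agent.Lib.HomogDim45
import Groth.Agent.Lib.ArtinGrpTransfer45
import Groth.Agent.Lib.TorsorFpqcBC

/-!
# Homogeneous spaces over a local artinian ring: reduction to the residue field (helper45)

* `surjective_bc` : surjectivity of `(g, x) ↦ (g x, x)` is stable under base change.
* `dim_connectedComponent_eq_artinian` : over a local artinian base, all connected components of a
  homogeneous space locally of finite type have the same dimension.
-/

set_option autoImplicit false
set_option linter.unusedSectionVars false
universe u
open CategoryTheory CategoryTheory.Limits MonoidalCategory CartesianMonoidalCategory MonObj GrpObj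
  AlgebraicGeometry
open Groth.Agent.Lib.ArtinTransfer45 Groth.Agent.Lib.ArtinGrpTransfer45

namespace Groth.Agent.Lib.HomogArt45

section bc

variable {S S' : Scheme.{u}} (f : S' ⟶ S) {G X : Over S} [GrpObj G] (a : AlgGrp.Action G X)

/-- Surjectivity of `(g, x) ↦ (g x, x)` is stable under base change. -/
theorem surjective_bc (hΦ : Function.Surjective (lift a.act (snd G X)).left) :
    Function.Surjective (lift (a.bc f).act (snd (Red.bc f G) (Red.bc f X))).left := by
  have key : lift (a.bc f).act (snd _ _) ≫ Functor.LaxMonoidal.μ (Over.pullback f) X X =
      Functor.LaxMonoidal.μ (Over.pullback f) G X ≫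
        (Over.pullback f).map (lift a.act (snd G X)) := by
    rw [← Functor.Monoidal.lift_μ, comp_lift_assoc, Functor.Monoidal.μ_snd,
      AlgGrp.Action.bc_act]
  have hpb := (Groth.Agent.Lib.TorsorFpqcBC.isPullback_pullback_map_left f
    (lift a.act (snd G X))).flip
  have h1 : Surjective ((Over.pullback f).map (lift a.act (snd G X))).left :=
    MorphismProperty.of_isPullback (P := @Surjective) hpb ⟨hΦ⟩
  have e : lift (a.bc f).act (snd (Red.bc f G) (Red.bc f X)) =
      Functor.LaxMonoidal.μ (Over.pullback f) G X ≫
        (Over.pullback f).map (lift a.act (snd G X)) ≫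
          inv (Functor.LaxMonoidal.μ (Over.pullback f) X X) := by
    rw [← Category.assoc, ← key, Category.assoc, IsIso.hom_inv_id, Category.comp_id]
  have i1 : IsIso (Functor.LaxMonoidal.μ (Over.pullback f) G X).left :=
    inferInstanceAs (IsIso ((Over.forget _).map (Functor.LaxMonoidal.μ (Over.pullback f) G X)))
  have i2 : IsIso (inv (Functor.LaxMonoidal.μ (Over.pullback f) X X)).left :=
    inferInstanceAs (IsIso ((Over.forget _).map (inv (Functor.LaxMonoidal.μ (Over.pullback f) X X))))
  rw [e, Over.comp_left, Over.comp_left, Scheme.Hom.comp_base, Scheme.Hom.comp_base,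
    TopCat.coe_comp, TopCat.coe_comp]
  exact ((inv (Functor.LaxMonoidal.μ (Over.pullback f) X X)).left.homeomorph.surjective.comp
    h1.surj).comp (Functor.LaxMonoidal.μ (Over.pullback f) G X).left.homeomorph.surjective

end bc

section artin

variable {A : Type u} [CommRing A] [IsArtinianRing A] [IsLocalRing A]
  {G X : Over (Spec (CommRingCat.of A))} [GrpObj G] [LocallyOfFiniteType G.hom]
  [LocallyOfFiniteType X.hom] (a : AlgGrp.Action G X)

/-- Over a local artinian base, all connected components of a homogeneous space locally of finite
type have the same dimension. -/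
theorem dim_connectedComponent_eq_artinian
    (hΦ : Function.Surjective (lift a.act (snd G X)).left) (x y : X.left) :
    topologicalKrullDim ↥(connectedComponent x) = topologicalKrullDim ↥(connectedComponent y) := by
  have hG : LocallyOfFiniteType (Red.bc (j A) G).hom :=
    inferInstanceAs (LocallyOfFiniteType (pullback.snd G.hom (j A)))
  have hX : LocallyOfFiniteType (Red.bc (j A) X).hom :=
    inferInstanceAs (LocallyOfFiniteType (pullback.snd X.hom (j A)))
  have hΦκ := surjective_bc (j A) a hΦ
  obtain ⟨x', rfl⟩ := (π X).surjective x
  obtain ⟨y', rfl⟩ := (π X).surjective y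
  rw [← image_connectedComponent X x', ← image_connectedComponent X y']
  have e : ∀ z' : ((Over.pullback (j A)).obj X).left,
      topologicalKrullDim ↥(π X '' connectedComponent z') =
        topologicalKrullDim ↥(connectedComponent z') := fun z' =>
    (((πHomeo X).image (connectedComponent z')).isHomeomorph.topologicalKrullDim_eq).symm
  rw [e, e]
  exact Groth.Agent.Lib.HomogDim45.dim_connectedComponent_eq (a.bc (j A)) hΦκ x' y'

end artin

end Groth.Agent.Lib.HomogArt45
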