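import Mathlib

/-!
# Abstract homogeneous prime avoidance (helper75)

`G n` are the graded pieces (additive subgroups with `G n * G m ⊆ G (n+m)`, `1 ∈ G 0`), and
`Pr i n x` is a "prime-like" predicate on homogeneous elements `x ∈ G n` ("`x` vanishes at the point
`i`").  If for every `i ∈ s` some homogeneous element of positive degree does not vanish at `i`, then
some homogeneous element of positive degree vanishes at no `i ∈ s`.
-/

set_option autoImplicit false

namespace Groth.Agent.Lib.HomogAvoid75

variable {B : Type*} [CommRing B] {ι : Type*} (G : ℕ → AddSubgroup B)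
  (hone : (1 : B) ∈ G 0)
  (hmul : ∀ n m x y, x ∈ G n → y ∈ G m → x * y ∈ G (n + m))
  (Pr : ι → ℕ → B → Prop)
  (hPmul : ∀ i n m x y, x ∈ G n → y ∈ G m → (Pr i (n + m) (x * y) ↔ Pr i n x ∨ Pr i m y))
  (hPadd : ∀ i n x y, x ∈ G n → y ∈ G n → Pr i n x → ¬ Pr i n y → ¬ Pr i n (x + y))

include hone hmul in
theorem pow_mem (n : ℕ) (x : B) (hx : x ∈ G n) (m : ℕ) : x ^ m ∈ G (m * n) := by
  induction m with
  | zero => simpa using hone
  | succ m ih =>
    rw [pow_succ, Nat.succ_mul]
    exact hmul _ _ _ _ ih hx

include hone hmul hPmul in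
theorem Pr_pow (i : ι) (n : ℕ) (x : B) (hx : x ∈ G n) (m : ℕ) (hm : 0 < m) :
    Pr i (m * n) (x ^ m) ↔ Pr i n x := by
  induction m with
  | zero => omega
  | succ m ih =>
    rcases Nat.eq_zero_or_pos m with rfl | hm'
    · simp
    · rw [pow_succ, Nat.succ_mul, hPmul i _ _ _ _ (pow_mem G hone hmul n x hx m) hx, ih hm']
      simp

include hone hmul in
theorem prod_mem {κ : Type*} (t : Finset κ) (n : κ → ℕ) (x : κ → B) (hx : ∀ j ∈ t, x j ∈ G (n j)) :
    ∏ j ∈ t, x j ∈ G (∑ j ∈ t, n j) := by
  classical
  induction t using Finset.induction_on with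
  | empty => simpa using hone
  | insert a t ha ih =>
    rw [Finset.prod_insert ha, Finset.sum_insert ha]
    exact hmul _ _ _ _ (hx a (Finset.mem_insert_self a t))
      (ih fun j hj => hx j (Finset.mem_insert_of_mem hj))

include hone hmul hPmul in
theorem Pr_prod {κ : Type*} (i : ι) (t : Finset κ) (ht : t.Nonempty) (n : κ → ℕ) (x : κ → B)
    (hx : ∀ j ∈ t, x j ∈ G (n j)) :
    Pr i (∑ j ∈ t, n j) (∏ j ∈ t, x j) ↔ ∃ j ∈ t, Pr i (n j) (x j) := by
  classical
  induction ht using Finset.Nonempty.cons_induction with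
  | singleton a => simp
  | cons a t ha ht ih =>
    rw [Finset.prod_cons, Finset.sum_cons,
      hPmul i _ _ _ _ (hx a (Finset.mem_cons_self a t))
        (prod_mem G hone hmul t n x fun j hj => hx j (Finset.mem_cons.2 (Or.inr hj))),
      ih fun j hj => hx j (Finset.mem_cons.2 (Or.inr hj))]
    simp

include hone hmul hPmul hPadd in
theorem homog_avoid (s : Finset ι)
    (h : ∀ i ∈ s, ∃ n, 0 < n ∧ ∃ x ∈ G n, ¬ Pr i n x) :
    ∃ n, 0 < n ∧ ∃ f ∈ G n, ∀ i ∈ s, ¬ Pr i n f := by
  classical
  induction s using Finset.strongInduction with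
  | H s ih =>
    rcases s.eq_empty_or_nonempty with rfl | hne
    · exact ⟨1, one_pos, 0, zero_mem _, by simp⟩
    have h1 : ∀ i ∈ s, ∃ n, 0 < n ∧ ∃ x ∈ G n, ∀ j ∈ s.erase i, ¬ Pr j n x := fun i hi =>
      ih (s.erase i) (Finset.erase_ssubset hi) (fun j hj => h j (Finset.mem_of_mem_erase hj))
    choose! n hn x hx hxav using h1
    by_cases hgood : ∃ i ∈ s, ¬ Pr i (n i) (x i)
    · obtain ⟨i, hi, hPi⟩ := hgood
      refine ⟨n i, hn i hi, x i, hx i hi, fun j hj => ?_⟩
      rcases eq_or_ne j i with rfl | hji
      · exact hPi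
      · exact hxav i hi j (Finset.mem_erase.2 ⟨hji, hj⟩)
    · push_neg at hgood
      obtain ⟨a, ha⟩ := hne
      rcases (s.erase a).eq_empty_or_nonempty with hemp | hne'
      · obtain ⟨m, hm, y, hy, hPy⟩ := h a ha
        refine ⟨m, hm, y, hy, fun j hj => ?_⟩
        rcases eq_or_ne j a with rfl | hja
        · exact hPy
        · exfalso
          have : j ∈ s.erase a := Finset.mem_erase.2 ⟨hja, hj⟩
          rw [hemp] at this
          simp at this
      · set t := s.erase a with ht
        set M := ∑ j ∈ t, n j with hM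
        set y := ∏ j ∈ t, x j with hy
        have hxt : ∀ j ∈ t, x j ∈ G (n j) := fun j hj => hx j (Finset.mem_of_mem_erase hj)
        have hyM : y ∈ G M := prod_mem G hone hmul t n x hxt
        have hMpos : 0 < M := by
          obtain ⟨j, hj⟩ := hne'
          exact lt_of_lt_of_le (hn j (Finset.mem_of_mem_erase hj))
            (Finset.single_le_sum (fun _ _ => Nat.zero_le _) hj)
        have hPy : ∀ i, Pr i M y ↔ ∃ j ∈ t, Pr i (n j) (x j) := fun i =>
          Pr_prod G hone hmul Pr hPmul i t hne' n x hxt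
        have hxa : x a ^ M ∈ G (M * n a) := pow_mem G hone hmul (n a) (x a) (hx a ha) M
        have hya : y ^ n a ∈ G (M * n a) := by
          rw [Nat.mul_comm]
          exact pow_mem G hone hmul M y hyM (n a)
        refine ⟨M * n a, Nat.mul_pos hMpos (hn a ha), x a ^ M + y ^ n a,
          (G (M * n a)).add_mem hxa hya, fun i hi => ?_⟩
        rcases eq_or_ne i a with rfl | hia
        · -- at `a`: `x a` vanishes, `y` does not
          apply hPadd i _ _ _ hxa hya
          · exact (Pr_pow G hone hmul Pr hPmul i (n i) (x i) (hx i hi) M hMpos).2 (hgood i hi)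
          · have hny : ¬ Pr i M y := by
              rw [hPy]
              rintro ⟨j, hj, hPj⟩
              exact hxav j (Finset.mem_of_mem_erase hj) i
                (Finset.mem_erase.2 ⟨(Finset.ne_of_mem_erase hj).symm, hi⟩) hPj
            intro hc
            have := (Pr_pow G hone hmul Pr hPmul i M y hyM (n i) (hn i hi)).1
              (by rw [Nat.mul_comm]; exact hc)
            exact hny this
        · -- at `i ≠ a`: `y` vanishes, `x a` does not
          have hit : i ∈ t := Finset.mem_erase.2 ⟨hia, hi⟩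
          rw [add_comm]
          apply hPadd i _ _ _ hya hxa
          · have : Pr i M y := (hPy i).2 ⟨i, hit, hgood i hi⟩
            have h2 := (Pr_pow G hone hmul Pr hPmul i M y hyM (n a) (hn a ha)).2 this
            rw [Nat.mul_comm] at h2
            exact h2
          · intro hc
            have := (Pr_pow G hone hmul Pr hPmul i (n a) (x a) (hx a ha) M hMpos).1 hc
            exact hxav a ha i hit this

end Groth.Agent.Lib.HomogAvoid75
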