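import Groth.Agent.Lib.HomogComp45

/-!
# Connected components of homogeneous spaces (helper45)

`k` a field, `G` an arbitrary group scheme over `k` acting on `X` with `(g, x) ↦ (g x, x)`
surjective.

* `connectedComponent_eq_irreducibleComponent` : `X` quasi-separated ⇒ connected components are
  the irreducible components.
* `compactSpace_of_irreducibleSpace` : `X` irreducible ⇒ `X` quasi-compact.
* `orbitMap_image_cc` : `X` quasi-separated, `x` rational ⇒ the orbit map maps `C⁰` onto the
  connected component of `x`.
-/

set_option autoImplicit false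
set_option linter.unusedSectionVars false
universe u
open CategoryTheory CategoryTheory.Limits MonoidalCategory CartesianMonoidalCategory MonObj GrpObj
  AlgebraicGeometry
open Groth.Agent.Lib.GrpTopPts45 Groth.Agent.Lib.UniqueComp45 Groth.Agent.Lib.GrpAction
  Groth.Agent.Lib.HomogUC45 Groth.Agent.Lib.ActSet45 Groth.Agent.Lib.MaxPt45
  Groth.Agent.Lib.HomogOrbit45 Groth.Agent.Lib.HomogComp45

namespace Groth.Agent.Lib.HomogCC45

variable {k : Type u} [Field k] {G X : Over (Spec (CommRingCat.of k))} [GrpObj G]
  (a : AlgGrp.Action G X)

section rational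

/-- The section `g ↦ (g, x)` of `G ⊗ X` is the base change of the rational point `x`. -/
lemma isPullback_sec (x : 𝟙_ (Over (Spec (CommRingCat.of k))) ⟶ X) :
    IsPullback (lift (𝟙 G) (toUnit G ≫ x)) (toUnit G) (snd G X) x := by
  refine ⟨⟨by rw [lift_snd]⟩, ⟨PullbackCone.IsLimit.mk _ (fun c => c.fst ≫ fst G X) (fun c => ?_)
    (fun c => toUnit_unique _ _) (fun c m h1 _ => ?_)⟩⟩
  · apply CartesianMonoidalCategory.hom_ext
    · rw [Category.assoc, lift_fst, Category.comp_id]
    · rw [Category.assoc, lift_snd, c.condition, ← Category.assoc]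
      congr 1
      exact toUnit_unique _ _
  · rw [← h1, Category.assoc, lift_fst, Category.comp_id]

/-- For a rational point `x`, `A · {x}` is the image of `A` under the orbit map. -/
lemma actSet_singleton_rational (x : 𝟙_ (Over (Spec (CommRingCat.of k))) ⟶ X)
    (pt : ↥(𝟙_ (Over (Spec (CommRingCat.of k)))).left) (A : Set G.left) :
    actSet a A {x.left pt} = (a.orbitMap x).left '' A := by
  have hsub : Subsingleton ↥(𝟙_ (Over (Spec (CommRingCat.of k)))).left :=
    inferInstanceAs (Subsingleton (PrimeSpectrum k))
  apply Set.Subset.antisymm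
  · rintro _ ⟨w, ⟨hw1, hw2⟩, rfl⟩
    have hpb : IsPullback (lift (𝟙 G) (toUnit G ≫ x)).left (toUnit G).left (snd G X).left x.left :=
      (isPullback_sec (G := G) x).map (Over.forget _)
    obtain ⟨g, hg', -⟩ := Groth.Agent.Lib.ActOpen18.exists_preimage_of_isPullback hpb w pt hw2
    refine ⟨g, ?_, ?_⟩
    · have : (fst G X).left w = g := by
        rw [← hg', ← Scheme.Hom.comp_apply, ← Over.comp_left, lift_fst]
        rfl
      rw [← this]; exact hw1
    · unfold AlgGrp.Action.orbitMap
      rw [Over.comp_left, Scheme.Hom.comp_apply, hg']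
  · rintro _ ⟨g, hg, rfl⟩
    unfold AlgGrp.Action.orbitMap
    refine act_mem_actSet (𝟙 G) (toUnit G ≫ x) g hg ?_
    rw [Set.mem_singleton_iff, comp_left_apply]
    congr 1
    exact Subsingleton.elim _ _

end rational

section main

variable (hΦ : Function.Surjective (lift a.act (snd G X)).left)
include hΦ

/-- In a quasi-separated homogeneous space the connected components are irreducible. -/
theorem connectedComponent_eq_irreducibleComponent [QuasiSeparatedSpace X.left] (x : X.left) :
    connectedComponent x = irreducibleComponent x := by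
  apply Set.Subset.antisymm
  · intro x' hx'
    have hirr : IsIrreducible (irreducibleComponent x) := isIrreducible_irreducibleComponent
    have hgen := hirr.isGenericPoint_genericPoint_closure
    rw [isClosed_irreducibleComponent.closure_eq] at hgen
    have hirr' : IsIrreducible (irreducibleComponent x') := isIrreducible_irreducibleComponent
    have hgen' := hirr'.isGenericPoint_genericPoint_closure
    rw [isClosed_irreducibleComponent.closure_eq] at hgen'
    have hmax : IsMaxPt hirr.genericPoint :=
      isMaxPt_of_isGenericPoint (irreducibleComponent_mem_irreducibleComponents x) hgen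
    have key : hirr'.genericPoint ⤳ hirr.genericPoint := by
      rw [specializes_iff_forall_open]
      intro W hW hξW
      obtain ⟨_, ⟨U₀, hU, rfl⟩, hξU, hUW⟩ :=
        (X.left.isBasis_affineOpens).exists_subset_of_mem_open hξW hW
      let U : X.left.Opens := U₀
      have hU' : IsAffineOpen U := hU
      have hξU : hirr.genericPoint ∈ (U : Set X.left) := hξU
      have hUW : (U : Set X.left) ⊆ W := hUW
      apply hUW
      have hretro : IsRetrocompact (U : Set X.left) := fun V hVc hVo =>
        QuasiSeparatedSpace.inter_isCompact _ _ U.isOpen hU'.isCompact hVo hVc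
      have hopen := isOpen_closure_of_isRetrocompact a hΦ U hretro
      have hclopen : IsClopen (closure (U : Set X.left)) := ⟨isClosed_closure, hopen⟩
      have hxU : x ∈ closure (U : Set X.left) := by
        apply closure_mono (Set.singleton_subset_iff.mpr hξU)
        rw [hgen.def]
        exact mem_irreducibleComponent
      have hx'U : x' ∈ closure (U : Set X.left) := hclopen.connectedComponent_subset hxU hx'
      rw [← actSet_cc_eq_closure a hΦ U hretro,
        actSet_cc_eq a hΦ (U := (U : Set X.left)) U.isOpen] at hx'U
      obtain ⟨Z'', ⟨hZ'', ξ'', hξ''U, hcl''⟩, hx'Z''⟩ := hx'U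
      have h1 := (uniqueComp a hΦ x').eq_irreducibleComponent hZ'' hx'Z''
      have h2 : ξ'' = hirr'.genericPoint :=
        IsMaxPt.eq_of_closure_eq (hcl''.trans (h1.trans hgen'.def.symm))
      exact h2 ▸ hξ''U
    have h3 : hirr'.genericPoint = hirr.genericPoint := hmax.eq_of_specializes key
    rw [← hgen.def, ← h3, hgen'.def]
    exact mem_irreducibleComponent
  · exact isIrreducible_irreducibleComponent.isPreirreducible.isPreconnected.subset_connectedComponent
      mem_irreducibleComponent

/-- An irreducible homogeneous space is quasi-compact. -/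
theorem compactSpace_of_irreducibleSpace [IrreducibleSpace X.left] : CompactSpace X.left := by
  obtain ⟨G₀, hG₀, incl, hhom, hcl, hfl, hr, hgeo, hcpt⟩ :=
    Groth.Agent.Lib.GrpIdComp45.exists_identityComponent G
  let ξ : X.left := genericPoint X.left
  have hgen : IsGenericPoint ξ Set.univ := genericPoint_spec X.left
  obtain ⟨_, ⟨U₀, hU, rfl⟩, hξU, -⟩ :=
    (X.left.isBasis_affineOpens).exists_subset_of_mem_open (Set.mem_univ ξ) isOpen_univ
  let U : X.left.Opens := U₀
  have hU' : IsAffineOpen U := hU
  have hξU : ξ ∈ (U : Set X.left) := hξU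
  have hmax : IsMaxPt ξ := fun w _ => hgen.specializes (Set.mem_univ w)
  -- `X = C⁰ · U`
  have huniv : (Set.univ : Set X.left) ⊆ actSet a (connectedComponent (unitPt G)) (U : Set X.left) :=
    fun y _ => actSet_mono subset_rfl (Set.singleton_subset_iff.mpr hξU)
      (mem_actSet_cc_generic a hΦ y hmax (hgen.specializes (Set.mem_univ y)))
  -- compactness of the box
  let U' : Over (Spec (CommRingCat.of k)) := Over.mk (U.ι ≫ X.hom)
  let j : U' ⟶ X := Over.homMk U.ι rfl
  have hcU : CompactSpace ↥U'.left := isCompact_iff_compactSpace.mp hU'.isCompact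
  have hqc : QuasiCompact G₀.hom := (quasiCompact_iff_compactSpace G₀.hom).mpr hcpt
  have hcbox : CompactSpace ↥(G₀ ⊗ U').left := by
    change CompactSpace ↥(pullback G₀.hom U'.hom)
    have : QuasiCompact (pullback.snd G₀.hom U'.hom) := inferInstance
    exact QuasiCompact.compactSpace_of_compactSpace (pullback.snd G₀.hom U'.hom)
  have hrm := Scheme.Pullback.range_map (f := G₀.hom) (g := U'.hom) G.hom X.hom incl.left j.left
    (𝟙 _) (by simp) (by simp)
  have hbox : IsCompact ((fst G X).left ⁻¹' connectedComponent (unitPt G) ∩
      (snd G X).left ⁻¹' (U : Set X.left)) := by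
    have h1 : Set.range j.left = (U : Set X.left) := Scheme.Opens.range_ι U
    have h2 : Set.range incl.left = connectedComponent (unitPt G) := hr
    rw [← h1, ← h2]
    change IsCompact (pullback.fst G.hom X.hom ⁻¹' Set.range incl.left ∩
      pullback.snd G.hom X.hom ⁻¹' Set.range j.left)
    rw [← hrm]
    exact isCompact_range (Scheme.Hom.continuous _)
  have hc : IsCompact (actSet a (connectedComponent (unitPt G)) (U : Set X.left)) :=
    hbox.image a.act.left.continuous
  rw [← isCompact_univ_iff]
  exact hc.of_isClosed_subset isClosed_univ huniv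

/-- The orbit map of a rational point maps `C⁰` onto the connected component of the point. -/
theorem orbitMap_image_cc [QuasiSeparatedSpace X.left]
    (x : 𝟙_ (Over (Spec (CommRingCat.of k))) ⟶ X)
    (pt : ↥(𝟙_ (Over (Spec (CommRingCat.of k)))).left) :
    (a.orbitMap x).left '' connectedComponent (unitPt G) = connectedComponent (x.left pt) := by
  rw [connectedComponent_eq_irreducibleComponent a hΦ, ← actSet_singleton_rational a x pt]
  apply Set.Subset.antisymm (actSet_cc_singleton_subset a hΦ _)
  intro y hy
  have hirr : IsIrreducible (irreducibleComponent (x.left pt)) :=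
    isIrreducible_irreducibleComponent
  have hgen := hirr.isGenericPoint_genericPoint_closure
  rw [isClosed_irreducibleComponent.closure_eq] at hgen
  have hmax : IsMaxPt hirr.genericPoint :=
    isMaxPt_of_isGenericPoint (irreducibleComponent_mem_irreducibleComponents _) hgen
  have h1 := mem_actSet_cc_generic a hΦ y hmax (hgen.specializes hy)
  have h2 := mem_actSet_cc_of_isMaxPt a hΦ (x.left pt) hmax
    (hgen.specializes mem_irreducibleComponent)
  have h3 : y ∈ actSet a (connectedComponent (unitPt G))
      (actSet a (connectedComponent (unitPt G)) {x.left pt}) :=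
    actSet_mono subset_rfl (Set.singleton_subset_iff.mpr h2) h1
  exact actSet_mono (Groth.Agent.Lib.GrpIdCompPts45.mulSet_cc_subset G) subset_rfl
    (actSet_actSet_subset _ _ _ h3)

end main

end Groth.Agent.Lib.HomogCC45
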