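import Mathlib

/-!
# Closure of the range of a quasi-compact morphism

For a quasi-compact morphism `f : X ⟶ S`, every point of the closure of the range of `f`
is a specialization of a point of the range.
-/

universe u

namespace Groth.Agent.Lib.QcSpecialize

open AlgebraicGeometry CategoryTheory CategoryTheory.Limits

/-- Affine case: a prime in the closure of the range of `comap φ` is a specialization of a
point in the range. -/
lemma exists_comap_le_of_mem_closure {R A : Type*} [CommRing R] [CommRing A] (φ : R →+* A)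
    (p : PrimeSpectrum R) (hp : p ∈ closure (Set.range (PrimeSpectrum.comap φ))) :
    ∃ q : PrimeSpectrum A, PrimeSpectrum.comap φ q ⤳ p := by
  rw [PrimeSpectrum.closure_range_comap, PrimeSpectrum.mem_zeroLocus] at hp
  obtain ⟨p', hp', hle⟩ := Ideal.exists_minimalPrimes_le (J := p.asIdeal) hp
  obtain ⟨q, hq, -, hqp⟩ := Ideal.exists_comap_eq_of_mem_minimalPrimes φ p' hp'
  refine ⟨⟨q, hq⟩, ?_⟩
  rw [← PrimeSpectrum.le_iff_specializes]
  change Ideal.comap φ q ≤ p.asIdeal
  rw [hqp]; exact hle

/-- Case of a target of the form `Spec R`. -/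
lemma exists_specializes_of_spec_target {X : Scheme.{u}} {R : CommRingCat.{u}}
    (f : X ⟶ Spec R) [QuasiCompact f] (s : Spec R) (hs : s ∈ closure (Set.range f.base)) :
    ∃ x : X, f.base x ⤳ s := by
  have : CompactSpace X := QuasiCompact.compactSpace_of_compactSpace f
  obtain ⟨A, g, hg⟩ := compactSpace_iff_exists.mp this
  obtain ⟨φ, hφ⟩ := Spec.map_surjective (g ≫ f)
  have hrange : Set.range (g ≫ f).base = Set.range f.base := by
    rw [Scheme.Hom.comp_base, TopCat.coe_comp, Set.range_comp, hg.range_eq, Set.image_univ]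
  rw [← hrange, ← hφ] at hs
  obtain ⟨q, hq⟩ := exists_comap_le_of_mem_closure φ.hom s hs
  refine ⟨g.base q, ?_⟩
  have : f.base (g.base q) = (Spec.map φ).base q := by
    rw [hφ]; rfl
  rw [this]
  exact hq

/-- Case of an affine target. -/
lemma exists_specializes_of_affine_target {X Y : Scheme.{u}} [IsAffine Y]
    (f : X ⟶ Y) [QuasiCompact f] (s : Y) (hs : s ∈ closure (Set.range f.base)) :
    ∃ x : X, f.base x ⤳ s := by
  have hs' : Y.isoSpec.hom.base s ∈ closure (Set.range (f ≫ Y.isoSpec.hom).base) := by
    rw [Scheme.Hom.comp_base, TopCat.coe_comp, Set.range_comp]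
    exact image_closure_subset_closure_image Y.isoSpec.hom.continuous ⟨s, hs, rfl⟩
  obtain ⟨x, hx⟩ := exists_specializes_of_spec_target (f ≫ Y.isoSpec.hom) _ hs'
  refine ⟨x, ?_⟩
  have h1 := hx.map Y.isoSpec.inv.continuous
  have e : ∀ y : Y, Y.isoSpec.inv.base (Y.isoSpec.hom.base y) = y := fun y => by
    rw [← Scheme.Hom.comp_apply, Iso.hom_inv_id]; rfl
  rw [Scheme.Hom.comp_base, TopCat.comp_app] at h1
  rwa [e, e] at h1

/-- For a quasi-compact morphism, every point of the closure of the range is a
specialization of a point of the range. -/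
theorem exists_specializes_of_mem_closure_range {X S : Scheme.{u}} (f : X ⟶ S) [QuasiCompact f]
    (s : S) (hs : s ∈ closure (Set.range f.base)) : ∃ x : X, f.base x ⤳ s := by
  let 𝒰 := S.affineCover
  obtain ⟨i, s', rfl⟩ := 𝒰.exists_eq s
  have inst : QuasiCompact (𝒰.pullbackHom f i) :=
    MorphismProperty.pullback_snd _ _ inferInstance
  have hr : Set.range (𝒰.pullbackHom f i).base = (𝒰.f i).base ⁻¹' Set.range f.base :=
    Scheme.Pullback.range_snd _ _
  have hs' : s' ∈ closure (Set.range (𝒰.pullbackHom f i).base) := by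
    rw [hr, ← (𝒰.f i).isOpenEmbedding.isOpenMap.preimage_closure_eq_closure_preimage
      (𝒰.f i).continuous]
    exact hs
  obtain ⟨x', hx'⟩ := exists_specializes_of_affine_target (𝒰.pullbackHom f i) s' hs'
  refine ⟨(pullback.fst f (𝒰.f i)).base x', ?_⟩
  have h1 := hx'.map (𝒰.f i).continuous
  have h2 : (𝒰.f i).base ((𝒰.pullbackHom f i).base x') =
      f.base ((pullback.fst f (𝒰.f i)).base x') := by
    rw [← Scheme.Hom.comp_apply, ← Scheme.Hom.comp_apply]
    have hc : 𝒰.pullbackHom f i ≫ 𝒰.f i = pullback.fst f (𝒰.f i) ≫ f :=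
      (pullback.condition (f := f) (g := 𝒰.f i)).symm
    rw [hc]
    rfl
  rw [← h2]
  exact h1

/-- For a quasi-compact morphism the closure of the range is the set of specializations of
points of the range. -/
theorem closure_range_eq {X S : Scheme.{u}} (f : X ⟶ S) [QuasiCompact f] :
    closure (Set.range f.base) = {s | ∃ x : X, f.base x ⤳ s} := by
  ext s
  refine ⟨exists_specializes_of_mem_closure_range f s, ?_⟩
  rintro ⟨x, hx⟩
  exact hx.mem_closed isClosed_closure (subset_closure ⟨x, rfl⟩)

end Groth.Agent.Lib.QcSpecialize
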