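import Groth.Agent.Lib.HomogOrbit45
import Groth.Agent.Lib.QcSpecialize

/-!
# `C⁰ · U` in a homogeneous space (helper45)

`k` a field, `G` an arbitrary group scheme over `k` acting on `X` with `(g, x) ↦ (g x, x)`
surjective, `C⁰` the unit component of `G`.

* `actSet_cc_singleton_subset` : `C⁰ · {u}` is contained in the irreducible component of `u`.
* `actSet_cc_eq` : for `U` open, `C⁰ · U` is the union of the irreducible components with generic
  point in `U`.
* `actSet_cc_eq_closure` : for `U` retrocompact open, `C⁰ · U = closure U`.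
-/

set_option autoImplicit false
set_option linter.unusedSectionVars false
universe u
open CategoryTheory CategoryTheory.Limits MonoidalCategory CartesianMonoidalCategory MonObj GrpObj
  AlgebraicGeometry
open Groth.Agent.Lib.GrpTopPts45 Groth.Agent.Lib.UniqueComp45 Groth.Agent.Lib.GrpAction
  Groth.Agent.Lib.HomogUC45 Groth.Agent.Lib.ActSet45 Groth.Agent.Lib.MaxPt45
  Groth.Agent.Lib.HomogOrbit45

namespace Groth.Agent.Lib.HomogComp45

variable {k : Type u} [Field k] {G X : Over (Spec (CommRingCat.of k))} [GrpObj G]
  (a : AlgGrp.Action G X)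

/-- An irreducible component of `G` through the unit point is the connected component of the
unit. -/
lemma eq_cc_of_mem_irreducibleComponents {C0 : Set G.left}
    (hC0 : C0 ∈ irreducibleComponents ↥G.left) (he : unitPt G ∈ C0) :
    C0 = connectedComponent (unitPt G) := by
  let hG : GrpObj (Over.mk G.hom) := ‹GrpObj G›
  exact Groth.Agent.Lib.GrpTopBC45.uniqueComp G.hom (unitPt G) hC0
    (Groth.Agent.Lib.GrpIdComp45.cc_mem_irreducibleComponents G) he mem_connectedComponent

section main

variable (hΦ : Function.Surjective (lift a.act (snd G X)).left)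
include hΦ

/-- `C⁰ · {u}` is contained in the irreducible component of `u`. -/
theorem actSet_cc_singleton_subset (u : X.left) :
    actSet a (connectedComponent (unitPt G)) {u} ⊆ irreducibleComponent u := by
  obtain ⟨G₀, hG₀, incl, hhom, hcl, hfl, hr, hgeo, hcpt⟩ :=
    Groth.Agent.Lib.GrpIdComp45.exists_identityComponent G
  let T := ptObj u
  let yT : T ⟶ X := ptHom u
  let m : G₀ ⊗ T ⟶ X := (incl ⊗ₘ yT) ≫ a.act
  have hirr : IrreducibleSpace ↥(G₀ ⊗ T).left := by
    have h1 : UniversallyOpen G₀.hom := inferInstance
    have h2 : GeometricallyIrreducible G₀.hom := hgeo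
    have h3 : IrreducibleSpace ↥T.left :=
      inferInstanceAs (IrreducibleSpace ↥(Spec (X.left.residueField u)))
    change IrreducibleSpace ↥(pullback G₀.hom T.hom)
    infer_instance
  have hrange : IsIrreducible (Set.range m.left) := by
    rw [← Set.image_univ]
    exact (IrreducibleSpace.isIrreducible_univ _).image _ m.left.continuous.continuousOn
  -- `u` is in the range
  have hu : u ∈ Set.range m.left := by
    refine ⟨(lift (1 : T ⟶ G₀) (𝟙 T)).left (ptPt u), ?_⟩
    rw [← Scheme.Hom.comp_apply, ← Over.comp_left]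
    have : lift (1 : T ⟶ G₀) (𝟙 T) ≫ m = yT := by
      change lift (1 : T ⟶ G₀) (𝟙 T) ≫ (incl ⊗ₘ yT) ≫ a.act = yT
      rw [← Category.assoc, lift_map, Category.id_comp, MonObj.one_comp (f := incl), one_act]
    rw [this, ptHom_left_apply]
  obtain ⟨Z, hZ, hsub⟩ := exists_mem_irreducibleComponents_subset_of_isIrreducible _ hrange
  have hZu := (uniqueComp a hΦ u).eq_irreducibleComponent hZ (hsub hu)
  -- the product set is in the range
  rintro _ ⟨w, ⟨hw1, hw2⟩, rfl⟩
  rw [← hZu]
  apply hsub
  have hrm := Scheme.Pullback.range_map (f := G₀.hom) (g := T.hom) G.hom X.hom incl.left yT.left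
    (𝟙 _) (by simp) (by simp)
  have hw : w ∈ Set.range (incl ⊗ₘ yT).left := by
    have : w ∈ pullback.fst G.hom X.hom ⁻¹' Set.range incl.left ∩
        pullback.snd G.hom X.hom ⁻¹' Set.range yT.left := by
      refine ⟨?_, ?_⟩
      · change (fst G X).left w ∈ Set.range incl.left
        rw [hr]; exact hw1
      · change (snd G X).left w ∈ Set.range yT.left
        rw [Set.mem_singleton_iff.mp hw2]
        exact ⟨ptPt u, ptHom_left_apply u _⟩
    rw [← hrm] at this
    exact this
  obtain ⟨s, rfl⟩ := hw
  exact ⟨s, by rw [Over.comp_left, Scheme.Hom.comp_apply]⟩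

/-- For `U` open, `C⁰ · U` is the union of the irreducible components with generic point in
`U`. -/
theorem actSet_cc_eq {U : Set X.left} (hU : IsOpen U) :
    actSet a (connectedComponent (unitPt G)) U =
      ⋃₀ {Z : Set X.left | Z ∈ irreducibleComponents ↥X.left ∧ ∃ ξ ∈ U, closure {ξ} = Z} := by
  apply Set.Subset.antisymm
  · rintro _ ⟨w, ⟨hw1, hw2⟩, rfl⟩
    have h1 : a.act.left w ∈ actSet a (connectedComponent (unitPt G)) {(snd G X).left w} :=
      ⟨w, ⟨hw1, rfl⟩, rfl⟩
    have h2 := actSet_cc_singleton_subset a hΦ _ h1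
    have hirr : IsIrreducible (irreducibleComponent ((snd G X).left w)) :=
      isIrreducible_irreducibleComponent
    have hgen := hirr.isGenericPoint_genericPoint_closure
    rw [isClosed_irreducibleComponent.closure_eq] at hgen
    refine ⟨_, ⟨irreducibleComponent_mem_irreducibleComponents _, hirr.genericPoint, ?_,
      hgen.def⟩, h2⟩
    exact (hgen.specializes mem_irreducibleComponent).mem_open hU hw2
  · rintro y ⟨Z, ⟨hZ, ξ, hξU, hξZ⟩, hyZ⟩
    have hgen : IsGenericPoint ξ Z := hξZ
    have hmax : IsMaxPt ξ := isMaxPt_of_isGenericPoint hZ hgen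
    have hsp : ξ ⤳ y := hgen.specializes hyZ
    exact actSet_mono subset_rfl (Set.singleton_subset_iff.mpr hξU)
      (mem_actSet_cc_generic a hΦ y hmax hsp)

/-- For `U` retrocompact open, `C⁰ · U` is the closure of `U`. -/
theorem actSet_cc_eq_closure (U : X.left.Opens) (hr : IsRetrocompact (U : Set X.left)) :
    actSet a (connectedComponent (unitPt G)) (U : Set X.left) = closure (U : Set X.left) := by
  rw [actSet_cc_eq a hΦ (U := (U : Set X.left)) U.isOpen]
  apply Set.Subset.antisymm
  · rintro y ⟨Z, ⟨-, ξ, hξU, rfl⟩, hyZ⟩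
    exact closure_mono (Set.singleton_subset_iff.mpr hξU) hyZ
  · intro x hx
    have hqc : QuasiCompact U.ι :=
      quasiCompact_iff_isSpectralMap.mpr (IsRetrocompact_iff_isSpectralMap_subtypeVal.mp hr)
    have hx' : x ∈ closure (Set.range U.ι.base) := by
      rw [Scheme.Opens.range_ι]; exact hx
    obtain ⟨u, hu⟩ := Groth.Agent.Lib.QcSpecialize.exists_specializes_of_mem_closure_range U.ι x hx'
    have hirr : IsIrreducible (irreducibleComponent (U.ι u)) :=
      isIrreducible_irreducibleComponent
    have hgen := hirr.isGenericPoint_genericPoint_closure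
    rw [isClosed_irreducibleComponent.closure_eq] at hgen
    refine ⟨_, ⟨irreducibleComponent_mem_irreducibleComponents _, hirr.genericPoint, ?_,
      hgen.def⟩, ?_⟩
    · exact (hgen.specializes mem_irreducibleComponent).mem_open U.2 u.2
    · exact hu.mem_closed isClosed_irreducibleComponent mem_irreducibleComponent

/-- For `U` retrocompact open, `closure U` is open. -/
theorem isOpen_closure_of_isRetrocompact (U : X.left.Opens)
    (hr : IsRetrocompact (U : Set X.left)) : IsOpen (closure (U : Set X.left)) := by
  rw [← actSet_cc_eq_closure a hΦ U hr]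
  exact isOpen_actSet _ U.2

end main

end Groth.Agent.Lib.HomogComp45
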