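import Groth.Agent.Lib.HomogFlat45
import Mathlib.AlgebraicGeometry.AlgClosed.Basic

/-!
# Homogeneous spaces with connected stabilizer (helper45)

`k` algebraically closed, `G` a group scheme of finite type over `k` acting on a reduced connected
`X` locally of finite type with a surjective orbit map at a rational point `x₀` whose stabilizer
(on `k`-points) is the image of a connected group `H`. Then `G` is connected
(`connectedSpace_of_connected_stabilizer`).
-/

set_option autoImplicit false
set_option linter.unusedSectionVars false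
universe u
open CategoryTheory CategoryTheory.Limits MonoidalCategory CartesianMonoidalCategory MonObj GrpObj
  AlgebraicGeometry
open Groth.Agent.Lib.GrpTopPts45 Groth.Agent.Lib.GrpAction Groth.Agent.Lib.StabSq45

namespace Groth.Agent.Lib.HomogConn45

variable {k : Type u} [Field k] [IsAlgClosed k] {G X : Over (Spec (CommRingCat.of k))} [GrpObj G]

/-- A nonempty locally closed subset of a scheme locally of finite type over an algebraically
closed field contains a rational point. -/
lemma exists_rational_point_mem [LocallyOfFiniteType X.hom] {Z : Set X.left}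
    (hZ : IsLocallyClosed Z) (hne : Z.Nonempty) :
    ∃ x : 𝟙_ (Over (Spec (CommRingCat.of k))) ⟶ X, ∀ t, x.left t ∈ Z := by
  have hJ : JacobsonSpace X.left := LocallyOfFiniteType.jacobsonSpace X.hom
  obtain ⟨y, hyZ, hy'⟩ := nonempty_inter_closedPoints hne hZ
  have hy : IsClosed ({y} : Set X.left) := hy'
  refine ⟨Over.homMk (pointOfClosedPoint X.hom y hy) (pointOfClosedPoint_comp X.hom y hy),
    fun t => ?_⟩
  have : (pointOfClosedPoint X.hom y hy) t = y := pointOfClosedPoint_apply X.hom y hy t
  change (pointOfClosedPoint X.hom y hy) t ∈ Z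
  rw [this]
  exact hyZ

/-- Rational points with the same underlying point are equal. -/
lemma rational_point_ext [LocallyOfFiniteType X.hom]
    (x y : 𝟙_ (Over (Spec (CommRingCat.of k))) ⟶ X)
    (h : x.left (IsLocalRing.closedPoint k) = y.left (IsLocalRing.closedPoint k)) : x = y := by
  apply Over.OverMorphism.ext
  exact ext_of_apply_closedPoint_eq X.hom (Over.w x) (Over.w y) h

section stable

variable {H : Over (Spec (CommRingCat.of k))} [GrpObj H] (i : H ⟶ G) [IsMonHom i]
  [PreconnectedSpace H.left]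

/-- Clopen subsets are stable under right translation by rational points of a connected
subgroup. -/
lemma mem_of_isClopen {A : Set G.left} (hA : IsClopen A)
    (g : 𝟙_ (Over (Spec (CommRingCat.of k))) ⟶ G) (h : 𝟙_ (Over (Spec (CommRingCat.of k))) ⟶ H)
    (t : (𝟙_ (Over (Spec (CommRingCat.of k)))).left) (hg : g.left t ∈ A) :
    (g * (h ≫ i)).left t ∈ A := by
  let ψ : H ⟶ G := (toUnit H ≫ g) * i
  have h1 : η[H] ≫ ψ = g := by
    change η[H] ≫ ((toUnit H ≫ g) * i) = g
    have e1 : η[H] ≫ i = η[G] := IsMonHom.one_hom i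
    have e2 : (η[G] : 𝟙_ (Over (Spec (CommRingCat.of k))) ⟶ G) = 1 := by
      rw [Hom.one_def, toUnit_unique (toUnit (𝟙_ (Over (Spec (CommRingCat.of k))))) (𝟙 _),
        Category.id_comp]
    rw [MonObj.comp_mul, e1, ← Category.assoc,
      toUnit_unique (η[H] ≫ toUnit H) (𝟙 _), Category.id_comp, e2, _root_.mul_one]
  have h2 : h ≫ ψ = g * (h ≫ i) := by
    change h ≫ ((toUnit H ≫ g) * i) = g * (h ≫ i)
    rw [MonObj.comp_mul, ← Category.assoc, toUnit_unique (h ≫ toUnit H) (𝟙 _), Category.id_comp]
  have hpre : _root_.IsPreconnected (Set.range ψ.left) := isPreconnected_range ψ.left.continuous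
  have hsub : Set.range ψ.left ⊆ A := by
    refine hpre.subset_isClopen hA ⟨g.left t, ⟨η[H].left t, ?_⟩, hg⟩
    rw [← Scheme.Hom.comp_apply, ← Over.comp_left, h1]
  apply hsub
  refine ⟨h.left t, ?_⟩
  rw [← Scheme.Hom.comp_apply, ← Over.comp_left, h2]

end stable

variable (a : AlgGrp.Action G X) (x₀ : 𝟙_ (Over (Spec (CommRingCat.of k))) ⟶ X)

theorem connectedSpace_of_connected_stabilizer [LocallyOfFiniteType G.hom] [QuasiCompact G.hom]
    [LocallyOfFiniteType X.hom] [IsReduced X.left] [PreconnectedSpace X.left]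
    [Surjective (a.orbitMap x₀).left]
    {H : Over (Spec (CommRingCat.of k))} [GrpObj H] (i : H ⟶ G) [IsMonHom i]
    [PreconnectedSpace H.left]
    (hH : ∀ g : 𝟙_ (Over (Spec (CommRingCat.of k))) ⟶ G, g ≫ a.orbitMap x₀ = x₀ →
      ∃ h : 𝟙_ (Over (Spec (CommRingCat.of k))) ⟶ H, h ≫ i = g) :
    ConnectedSpace G.left := by
  have hopen : IsOpenMap (a.orbitMap x₀).left :=
    Groth.Agent.Lib.HomogFlat45.isOpenMap_orbitMap_of_surjective a x₀
  have hJX : JacobsonSpace X.left := LocallyOfFiniteType.jacobsonSpace X.hom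
  set φ := a.orbitMap x₀ with hφ
  rw [connectedSpace_iff_clopen]
  refine ⟨⟨unitPt G⟩, fun A hA => ?_⟩
  -- the key claim: the images of `A` and `Aᶜ` are disjoint
  have key : Disjoint (φ.left '' A) (φ.left '' Aᶜ) := by
    rw [Set.disjoint_iff_inter_eq_empty]
    by_contra hne
    have hne' : (φ.left '' A ∩ φ.left '' Aᶜ).Nonempty := Set.nonempty_iff_ne_empty.mpr hne
    have hop : IsOpen (φ.left '' A ∩ φ.left '' Aᶜ) :=
      (hopen A hA.isOpen).inter (hopen Aᶜ hA.compl.isOpen)
    obtain ⟨y, ⟨hyA, hyB⟩, hy'⟩ := nonempty_inter_closedPoints hne' hop.isLocallyClosed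
    have hy : IsClosed ({y} : Set X.left) := hy'
    have hcl : IsClosed (φ.left ⁻¹' {y}) := hy.preimage φ.left.continuous
    obtain ⟨g₁, hg₁⟩ := exists_rational_point_mem (X := G)
      (Z := A ∩ φ.left ⁻¹' {y}) (hA.isClosed.inter hcl).isLocallyClosed (by
        obtain ⟨z, hz, hzy⟩ := hyA
        exact ⟨z, hz, hzy⟩)
    obtain ⟨g₂, hg₂⟩ := exists_rational_point_mem (X := G)
      (Z := Aᶜ ∩ φ.left ⁻¹' {y}) (hA.compl.isClosed.inter hcl).isLocallyClosed (by
        obtain ⟨z, hz, hzy⟩ := hyB
        exact ⟨z, hz, hzy⟩)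
    have heq : g₁ ≫ φ = g₂ ≫ φ := by
      apply rational_point_ext
      change φ.left (g₁.left _) = φ.left (g₂.left _)
      exact ((hg₁ _).2).trans ((hg₂ _).2).symm
    have hstab : (g₁⁻¹ * g₂) ≫ φ = x₀ := by
      rw [hφ, mul_comp_orbitMap, ← hφ, ← heq, hφ, ← mul_comp_orbitMap, inv_mul_cancel,
        comp_orbitMap, one_act,
        toUnit_unique (toUnit (𝟙_ (Over (Spec (CommRingCat.of k))))) (𝟙 _), Category.id_comp]
    obtain ⟨h, hh⟩ := hH _ hstab
    have hmem := mem_of_isClopen i hA g₁ h (IsLocalRing.closedPoint k) (hg₁ _).1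
    rw [hh, mul_inv_cancel_left] at hmem
    exact (hg₂ _).1 hmem
  have hcover : φ.left '' A ∪ φ.left '' Aᶜ = Set.univ := by
    rw [← Set.image_union, Set.union_compl_self, Set.image_univ]
    exact Set.range_eq_univ.mpr φ.left.surjective
  have hclopen : IsClopen (φ.left '' A) := by
    refine ⟨?_, hopen A hA.isOpen⟩
    have : φ.left '' A = (φ.left '' Aᶜ)ᶜ := by
      ext z
      constructor
      · intro hz hz'
        exact Set.disjoint_left.mp key hz hz'
      · intro hz
        have : z ∈ φ.left '' A ∪ φ.left '' Aᶜ := by rw [hcover]; trivial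
        rcases this with h | h
        · exact h
        · exact absurd h hz
    rw [this]
    exact (hopen Aᶜ hA.compl.isOpen).isClosed_compl
  rcases isClopen_iff.mp hclopen with h | h
  · left
    exact Set.image_eq_empty.mp h
  · right
    rw [← Set.compl_empty_iff, ← Set.image_eq_empty (f := φ.left)]
    rw [Set.eq_empty_iff_forall_notMem]
    intro z hz
    have : z ∈ φ.left '' A := by rw [h]; trivial
    exact Set.disjoint_left.mp key this hz

end Groth.Agent.Lib.HomogConn45
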