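import Groth.Agent.Lib.HomogGeomIrr45
import Groth.Agent.Lib.GrpDim45
import Groth.Agent.Lib.NoethTop
import Mathlib.AlgebraicGeometry.AlgClosed.Basic

/-!
# Equidimensionality of homogeneous spaces locally of finite type over a field (helper45)

`k` a field, `G` a group scheme locally of finite type over `k` acting on `X` locally of finite
type with `(g, x) ↦ (g x, x)` surjective.

* `localDim_const_bar` : the local dimension of `X_{k̄}` is constant.
* `dim_open_eq` : all nonempty opens of `X` have the same dimension.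
* `dim_connectedComponent_eq` : all connected components of `X` have the same dimension.
-/

set_option autoImplicit false
set_option linter.unusedSectionVars false
universe u
open CategoryTheory CategoryTheory.Limits MonoidalCategory CartesianMonoidalCategory MonObj GrpObj
  AlgebraicGeometry TopologicalSpace
open Groth.Agent.Lib.GrpTopPts45 Groth.Agent.Lib.UniqueComp45 Groth.Agent.Lib.GrpAction
  Groth.Agent.Lib.HomogUC45 Groth.Agent.Lib.HomogGeomIrr45

namespace Groth.Agent.Lib.HomogDim45

variable {k : Type u} [Field k] {G X : Over (Spec (CommRingCat.of k))} [GrpObj G]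
  (a : AlgGrp.Action G X)

local notation "Ω" => AlgebraicClosure k

section sections

variable [LocallyOfFiniteType X.hom]

instance lft_snd : LocallyOfFiniteType (snd X (Pbar k)).left :=
  inferInstanceAs (LocallyOfFiniteType (pullback.snd X.hom (Pbar k).hom))

lemma tensor_hom' (A B : Over (Spec (CommRingCat.of k))) :
    (A ⊗ B).hom = pullback.snd A.hom B.hom ≫ B.hom := by
  change pullback.fst A.hom B.hom ≫ A.hom = _
  exact pullback.condition

/-- The `k̄`-point through a closed point of `X_{k̄}`. -/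
lemma exists_section_of_isClosed (y : (X ⊗ Pbar k).left)
    (hy : IsClosed ({y} : Set (X ⊗ Pbar k).left)) :
    ∃ b : Pbar k ⟶ X, ∀ t, (lift b (𝟙 (Pbar k))).left t = y := by
  let q : (X ⊗ Pbar k).left ⟶ Spec (CommRingCat.of Ω) := (snd X (Pbar k)).left
  have hq : LocallyOfFiniteType q := lft_snd
  let s := pointOfClosedPoint q y hy
  have hs : s ≫ q = 𝟙 _ := pointOfClosedPoint_comp q y hy
  let S : Pbar k ⟶ X ⊗ Pbar k := Over.homMk s (by
    rw [tensor_hom']
    change s ≫ q ≫ _ = _
    rw [← Category.assoc, hs, Category.id_comp])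
  have hS : S ≫ snd X (Pbar k) = 𝟙 _ := by
    apply Over.OverMorphism.ext
    exact hs
  refine ⟨S ≫ fst X (Pbar k), fun t => ?_⟩
  have : lift (S ≫ fst X (Pbar k)) (𝟙 (Pbar k)) = S := by
    apply CartesianMonoidalCategory.hom_ext
    · rw [lift_fst]
    · rw [lift_snd, hS]
  rw [this]
  exact pointOfClosedPoint_apply q y hy t

omit [LocallyOfFiniteType X.hom] in
lemma exists_noetherian_nhds_of_lft {Y T : Scheme.{u}} (q : Y ⟶ T) [LocallyOfFiniteType q]
    [IsLocallyNoetherian T] (y : Y) : ∃ U ∈ nhds y, NoetherianSpace U := by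
  have hln : IsLocallyNoetherian Y := LocallyOfFiniteType.isLocallyNoetherian q
  obtain ⟨_, ⟨W, hW, rfl⟩, hxW, -⟩ := Y.isBasis_affineOpens.exists_subset_of_mem_open
    (Set.mem_univ y) isOpen_univ
  have : IsNoetherianRing Γ(Y, W) := IsLocallyNoetherian.component_noetherian ⟨W, hW⟩
  exact ⟨W, W.isOpen.mem_nhds hxW, noetherianSpace_of_isAffineOpen W hW⟩

/-- Dimension of an open of `X` equals the dimension of its preimage in `X_{k̄}`. -/
lemma dim_preimage_bar (U : X.left.Opens) :
    topologicalKrullDim ↥((((fst X (Pbar k)).left ⁻¹ᵁ U : (X ⊗ Pbar k).left.Opens) :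
        Set ↥(X ⊗ Pbar k).left)) =
      topologicalKrullDim ↥(U : Set X.left) := by
  have h1 := isPullback_morphismRestrict (pullback.fst X.hom (Pbar k).hom) U
  have h2 := IsPullback.of_hasPullback X.hom (Pbar k).hom
  have h3 := h1.paste_vert h2
  have : Subsingleton ↥(Spec (CommRingCat.of k)) :=
    inferInstanceAs (Subsingleton (PrimeSpectrum k))
  have : Subsingleton ↥(Spec (CommRingCat.of (AlgebraicClosure k))) :=
    inferInstanceAs (Subsingleton (PrimeSpectrum (AlgebraicClosure k)))
  exact Groth.Agent.Lib.H77DimFieldExt.dim_eq_of_isPullback_field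
    (T := Spec (CommRingCat.of k)) (T' := Spec (CommRingCat.of (AlgebraicClosure k))) _ _ _ _ h3

end sections

section trans

variable [LocallyOfFiniteType G.hom] [LocallyOfFiniteType X.hom]
  (hΦ : Function.Surjective (lift a.act (snd G X)).left)
include hΦ

/-- Transitivity on `k̄`-points. -/
lemma exists_act_eq (b₁ b₂ : Pbar k ⟶ X) : ∃ g : Pbar k ⟶ G, lift g b₂ ≫ a.act = b₁ := by
  let Φ : G ⊗ X ⟶ X ⊗ X := lift a.act (snd G X)
  let pair : Pbar k ⟶ X ⊗ X := lift b₁ b₂
  have hGX : LocallyOfFiniteType (G ⊗ X).hom := by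
    change LocallyOfFiniteType (pullback.fst G.hom X.hom ≫ G.hom)
    infer_instance
  have hΦlft : LocallyOfFiniteType Φ.left := by
    have : LocallyOfFiniteType (Φ.left ≫ (X ⊗ X).hom) := by rw [Over.w Φ]; exact hGX
    exact locallyOfFiniteType_of_comp Φ.left (X ⊗ X).hom
  have hΦs : Surjective Φ.left := ⟨hΦ⟩
  let F := pullback Φ.left pair.left
  let r : F ⟶ Spec (CommRingCat.of Ω) := pullback.snd Φ.left pair.left
  have hr : LocallyOfFiniteType r := inferInstanceAs (LocallyOfFiniteType (pullback.snd _ _))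
  have hrs : Surjective r := inferInstanceAs (Surjective (pullback.snd _ _))
  have hne : Nonempty F := by
    obtain ⟨f, -⟩ := r.surjective (default : PrimeSpectrum Ω)
    exact ⟨f⟩
  have hJ : JacobsonSpace F := LocallyOfFiniteType.jacobsonSpace r
  obtain ⟨f, -, hf'⟩ := nonempty_inter_closedPoints (X := F) (Z := Set.univ)
    Set.univ_nonempty isOpen_univ.isLocallyClosed
  have hf : IsClosed ({f} : Set F) := hf'
  let σ := pointOfClosedPoint r f hf
  have hσ : σ ≫ r = 𝟙 _ := pointOfClosedPoint_comp r f hf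
  let w : Spec (CommRingCat.of Ω) ⟶ (G ⊗ X).left := σ ≫ pullback.fst Φ.left pair.left
  have hw : w ≫ Φ.left = pair.left := by
    change (σ ≫ pullback.fst Φ.left pair.left) ≫ Φ.left = _
    rw [Category.assoc, pullback.condition, ← Category.assoc]
    change (σ ≫ r) ≫ _ = _
    rw [hσ, Category.id_comp]
  let w' : Pbar k ⟶ G ⊗ X := Over.homMk w (by
    rw [← Over.w Φ, ← Category.assoc, hw, Over.w pair])
  have hw' : w' ≫ Φ = pair := by
    apply Over.OverMorphism.ext
    exact hw
  have h1 : w' ≫ a.act = b₁ := by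
    have := congrArg (· ≫ fst X X) hw'
    simpa [Φ, pair] using this
  have h2 : w' ≫ snd G X = b₂ := by
    have := congrArg (· ≫ snd X X) hw'
    simpa [Φ, pair] using this
  refine ⟨w' ≫ fst G X, ?_⟩
  have hid : lift (fst G X) (snd G X) = 𝟙 (G ⊗ X) := by
    apply CartesianMonoidalCategory.hom_ext <;> simp
  rw [← h2, ← comp_lift, hid, Category.comp_id, h1]

end trans

section main

variable [LocallyOfFiniteType G.hom] [LocallyOfFiniteType X.hom]
  (hΦ : Function.Surjective (lift a.act (snd G X)).left)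
include hΦ

/-- The irreducible components of `X_{k̄}` are open. -/
theorem isOpen_of_mem_irreducibleComponents_bar {Z : Set (X ⊗ Pbar k).left}
    (hZ : Z ∈ irreducibleComponents (X ⊗ Pbar k).left) : IsOpen Z := by
  refine Groth.Agent.Lib.NoethTop.isOpen_of_mem_irreducibleComponents_of_pairwiseDisjoint
    (exists_noetherian_nhds_of_lft (T := Spec (CommRingCat.of Ω)) (snd X (Pbar k)).left) ?_ hZ
  intro Z₁ hZ₁ Z₂ hZ₂ hne
  rw [Function.onFun, Set.disjoint_left]
  intro x hx₁ hx₂
  exact hne ((uniqueComp_of_field a hΦ (Pbar k).hom x) hZ₁ hZ₂ hx₁ hx₂)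

/-- The local dimension at any point of `X_{k̄}` is the local dimension at some closed point. -/
lemma exists_closed_localDim_eq (y : (X ⊗ Pbar k).left) :
    ∃ y₀ : (X ⊗ Pbar k).left, IsClosed ({y₀} : Set (X ⊗ Pbar k).left) ∧
      FlatMor.localDim (X ⊗ Pbar k).left y = FlatMor.localDim (X ⊗ Pbar k).left y₀ := by
  have hZ := irreducibleComponent_mem_irreducibleComponents y
  have hZopen : IsOpen (irreducibleComponent y) := isOpen_of_mem_irreducibleComponents_bar a hΦ hZ
  let ZU : (X ⊗ Pbar k).left.Opens := ⟨irreducibleComponent y, hZopen⟩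
  let X' : Scheme.{u} := ZU.toScheme
  let _ : X'.Over (Spec (CommRingCat.of Ω)) := ⟨ZU.ι ≫ (snd X (Pbar k)).left⟩
  have hlft : LocallyOfFiniteType (X' ↘ Spec (CommRingCat.of Ω)) :=
    inferInstanceAs (LocallyOfFiniteType (ZU.ι ≫ (snd X (Pbar k)).left))
  have hirr : IrreducibleSpace X' :=
    Subtype.irreducibleSpace (isIrreducible_irreducibleComponent (x := y))
  have hemb : Topology.IsOpenEmbedding (ZU.ι : X' → (X ⊗ Pbar k).left) := ZU.ι.isOpenEmbedding
  have key : ∀ y' : X', FlatMor.localDim (X ⊗ Pbar k).left (ZU.ι y') = topologicalKrullDim X' :=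
    fun y' => by
      rw [← Groth.Agent.Lib.H56LocDim.localDim_eq_of_isOpenEmbedding hemb y']
      exact Groth.Agent.Lib.H30FlatDim.localDim_eq_dim Ω X' y'
  have hjac : JacobsonSpace (X ⊗ Pbar k).left :=
    LocallyOfFiniteType.jacobsonSpace (Y := Spec (CommRingCat.of Ω)) (snd X (Pbar k)).left
  obtain ⟨y₀, hy₀Z, hy₀c⟩ := nonempty_inter_closedPoints (X := (X ⊗ Pbar k).left)
    ⟨y, (mem_irreducibleComponent : y ∈ irreducibleComponent y)⟩ hZopen.isLocallyClosed
  refine ⟨y₀, hy₀c, ?_⟩
  have h1 := key ⟨y, mem_irreducibleComponent⟩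
  have h2 := key ⟨y₀, hy₀Z⟩
  change FlatMor.localDim (X ⊗ Pbar k).left y = _ at h1
  change FlatMor.localDim (X ⊗ Pbar k).left y₀ = _ at h2
  rw [h1, ← h2]

/-- The local dimension at closed points of `X_{k̄}` is constant. -/
lemma localDim_closed_eq (y₁ y₂ : (X ⊗ Pbar k).left)
    (h₁ : IsClosed ({y₁} : Set (X ⊗ Pbar k).left)) (h₂ : IsClosed ({y₂} : Set (X ⊗ Pbar k).left)) :
    FlatMor.localDim (X ⊗ Pbar k).left y₂ = FlatMor.localDim (X ⊗ Pbar k).left y₁ := by
  obtain ⟨b₁, hb₁⟩ := exists_section_of_isClosed y₁ h₁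
  obtain ⟨b₂, hb₂⟩ := exists_section_of_isClosed y₂ h₂
  obtain ⟨g, hg⟩ := exists_act_eq a hΦ b₁ b₂
  have hiso : IsIso (transl a g).hom.left :=
    inferInstanceAs (IsIso ((Over.forget _).map (transl a g).hom))
  have h := Groth.Agent.Lib.H56LocDim.localDim_eq_of_homeomorph
    (transl a g).hom.left.homeomorph y₂
  rw [h]
  congr 1
  let t : (Pbar k).left := (default : PrimeSpectrum Ω)
  change (transl a g).hom.left y₂ = y₁
  rw [← hb₂ t, ← Scheme.Hom.comp_apply, ← Over.comp_left, lift_transl, Category.id_comp, hg, hb₁]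

/-- **The local dimension of `X_{k̄}` is constant.** -/
theorem localDim_const_bar (y₁ y₂ : (X ⊗ Pbar k).left) :
    FlatMor.localDim (X ⊗ Pbar k).left y₁ = FlatMor.localDim (X ⊗ Pbar k).left y₂ := by
  obtain ⟨z₁, hz₁, e₁⟩ := exists_closed_localDim_eq a hΦ y₁
  obtain ⟨z₂, hz₂, e₂⟩ := exists_closed_localDim_eq a hΦ y₂
  rw [e₁, e₂]
  exact localDim_closed_eq a hΦ z₂ z₁ hz₂ hz₁

/-- **All nonempty opens of `X` have the same dimension.** -/
theorem dim_open_eq (U V : X.left.Opens) (hU : (U : Set X.left).Nonempty)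
    (hV : (V : Set X.left).Nonempty) :
    topologicalKrullDim ↥(U : Set X.left) = topologicalKrullDim ↥(V : Set X.left) := by
  obtain ⟨x, hx⟩ := hU
  obtain ⟨x', hx'⟩ := hV
  have hne : Nonempty ↥(Pbar k).left := ⟨(default : PrimeSpectrum Ω)⟩
  obtain ⟨y, rfl⟩ := surjective_fst X (Pbar k) x
  obtain ⟨y', rfl⟩ := surjective_fst X (Pbar k) x'
  have hconst : ∀ z : (X ⊗ Pbar k).left,
      FlatMor.localDim (X ⊗ Pbar k).left z = FlatMor.localDim (X ⊗ Pbar k).left y :=
    fun z => localDim_const_bar a hΦ z y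
  rw [← dim_preimage_bar U, ← dim_preimage_bar V,
    Groth.Agent.Lib.GrpDim45.dim_open_eq_of_localDim_const hconst _ ⟨y, hx⟩,
    Groth.Agent.Lib.GrpDim45.dim_open_eq_of_localDim_const hconst _ ⟨y', hx'⟩]

/-- **All connected components of `X` have the same dimension.** -/
theorem dim_connectedComponent_eq (x y : X.left) :
    topologicalKrullDim ↥(connectedComponent x) = topologicalKrullDim ↥(connectedComponent y) := by
  have hlc : LocallyConnectedSpace X.left :=
    Groth.Agent.Lib.NoethTop.locallyConnectedSpace_of_locallyNoetherian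
      (exists_noetherian_nhds_of_lft X.hom)
  exact dim_open_eq a hΦ ⟨connectedComponent x, isOpen_connectedComponent⟩
    ⟨connectedComponent y, isOpen_connectedComponent⟩ ⟨x, mem_connectedComponent⟩
    ⟨y, mem_connectedComponent⟩

end main

end Groth.Agent.Lib.HomogDim45
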