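import Groth.Agent.Lib.GrpAction
import Groth.Agent.Lib.KerSq18

/-!
# From the stabilizer square to the quotient square (helper45)

For an action `a` of `G` on `X` over `S`, a section `o` with stabilizer `i : H ⟶ G`
(`IsPullback i (toUnit H) (a.orbitMap o) o`) and any factorization `ψ ≫ j = a.orbitMap o` of the
orbit map through a monomorphism `j`:
`isPullback_fst_mul_of_isStabilizer : IsPullback (fst G H) ((G ◁ i) ≫ μ[G]) ψ ψ`,
i.e. `G ×_Y G ≅ G × H` via `(g, h) ↦ (g, g h)`.
-/

set_option autoImplicit false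
universe u
open CategoryTheory CategoryTheory.Limits MonoidalCategory CartesianMonoidalCategory MonObj GrpObj
  AlgebraicGeometry
open Groth.Agent.Lib.GrpAction

namespace Groth.Agent.Lib.StabSq45

variable {S : Scheme.{u}} {G X H Y : Over S} [GrpObj G] (a : AlgGrp.Action G X)
  (o : 𝟙_ (Over S) ⟶ X) (i : H ⟶ G) (hH : IsPullback i (toUnit H) (a.orbitMap o) o)
  (ψ : G ⟶ Y) (j : Y ⟶ X) [Mono j] (hψ : ψ ≫ j = a.orbitMap o)

include hH in
lemma stab_comp_orbitMap {T : Over S} (n : T ⟶ H) : (n ≫ i) ≫ a.orbitMap o = toUnit T ≫ o := by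
  rw [Category.assoc, hH.w, ← Category.assoc, toUnit_unique (n ≫ toUnit H) (toUnit T)]

lemma mul_comp_orbitMap {T : Over S} (g h : T ⟶ G) :
    (g * h) ≫ a.orbitMap o = lift g (h ≫ a.orbitMap o) ≫ a.act := by
  rw [comp_orbitMap, comp_orbitMap, mul_act]

include hH hψ in
theorem isPullback_fst_mul_of_isStabilizer :
    IsPullback (fst G H) ((G ◁ i) ≫ μ[G]) ψ ψ := by
  have hmul : ∀ {T : Over S} (t : T ⟶ G ⊗ H),
      t ≫ (G ◁ i) ≫ μ[G] = (t ≫ fst G H) * ((t ≫ snd G H) ≫ i) :=
    fun t => Groth.Agent.Lib.KerSq18.whiskerLeft_mul i t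
  have hc : ∀ s : PullbackCone ψ ψ,
      ((s.fst)⁻¹ * s.snd) ≫ a.orbitMap o = toUnit s.pt ≫ o := by
    intro s
    have h1 : s.snd ≫ a.orbitMap o = s.fst ≫ a.orbitMap o := by
      rw [← hψ, ← Category.assoc, ← Category.assoc, s.condition]
    rw [mul_comp_orbitMap, h1, ← mul_comp_orbitMap, inv_mul_cancel, comp_orbitMap, one_act]
  refine ⟨⟨?_⟩, ⟨PullbackCone.IsLimit.mk _
    (fun s => lift s.fst (hH.lift _ (toUnit s.pt) (hc s))) ?_ ?_ ?_⟩⟩
  · rw [← cancel_mono j, Category.assoc, Category.assoc, hψ]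
    have h := hmul (𝟙 (G ⊗ H))
    rw [Category.id_comp, Category.id_comp, Category.id_comp] at h
    rw [h, mul_comp_orbitMap, stab_comp_orbitMap a o i hH, ← comp_orbitMap]
  · intro s
    exact lift_fst _ _
  · intro s
    rw [hmul, lift_fst, lift_snd, hH.lift_fst, mul_inv_cancel_left]
  · intro s l h1 h2
    apply CartesianMonoidalCategory.hom_ext
    · rw [lift_fst, h1]
    · rw [lift_snd]
      apply hH.hom_ext
      · rw [hH.lift_fst]
        have h3 := hmul l
        rw [h1, h2] at h3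
        rw [h3, inv_mul_cancel_left]
      · exact toUnit_unique _ _

end Groth.Agent.Lib.StabSq45
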