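import Groth.Agent.Lib.HomogUC45
import Mathlib.AlgebraicGeometry.Morphisms.Integral

/-!
# Homogeneous spaces: the component of a rational point is geometrically irreducible (helper45)

* `eq_of_fst_eq` : over a rational point `x` of `X` there is at most one point of `X ⊗ P` when `P`
  is a one-point scheme.
* `preimage_component_eq` : for `k̄` the algebraic closure, the preimage in `X_k̄` of the component
  through a rational point is the component of the point above it.
* `isIrreducible_preimage_component` : for every field extension `K/k` the preimage in `X_K` of the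
  irreducible component through a rational point is irreducible.
-/

set_option autoImplicit false
set_option linter.unusedSectionVars false
universe u
open CategoryTheory CategoryTheory.Limits MonoidalCategory CartesianMonoidalCategory MonObj GrpObj
  AlgebraicGeometry
open Groth.Agent.Lib.GrpTopPts45 Groth.Agent.Lib.UniqueComp45 Groth.Agent.Lib.GrpAction
  Groth.Agent.Lib.HomogUC45

namespace Groth.Agent.Lib.HomogGeomIrr45

variable {k : Type u} [Field k] {X : Over (Spec (CommRingCat.of k))}

/-- Over a rational point there is at most one point of `X ⊗ P`, `P` a one-point scheme. -/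
lemma eq_of_fst_eq (x : 𝟙_ (Over (Spec (CommRingCat.of k))) ⟶ X)
    (pt : ↥(𝟙_ (Over (Spec (CommRingCat.of k)))).left) (P : Over (Spec (CommRingCat.of k)))
    [Subsingleton P.left] (z₁ z₂ : (X ⊗ P).left) (h₁ : (fst X P).left z₁ = x.left pt)
    (h₂ : (fst X P).left z₂ = x.left pt) : z₁ = z₂ := by
  let e₀ : Spec (CommRingCat.of k) ⟶ X.left := x.left
  have he₀ : e₀ ≫ X.hom = 𝟙 _ := Over.w x
  have hiso : IsIso (e₀ ≫ X.hom) := he₀ ▸ inferInstance
  have hsub : Subsingleton ↥(pullback e₀ (pullback.fst X.hom P.hom)) := by
    let φ := (pullbackRightPullbackFstIso X.hom P.hom e₀).hom ≫ pullback.snd (e₀ ≫ X.hom) P.hom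
    have : IsIso φ := inferInstance
    have hinj : Function.Injective φ := φ.homeomorph.injective
    exact hinj.subsingleton
  obtain ⟨t₁, -, ht₁⟩ := Scheme.Pullback.exists_preimage_pullback (f := e₀)
    (g := pullback.fst X.hom P.hom) pt z₁ h₁.symm
  obtain ⟨t₂, -, ht₂⟩ := Scheme.Pullback.exists_preimage_pullback (f := e₀)
    (g := pullback.fst X.hom P.hom) pt z₂ h₂.symm
  rw [← ht₁, ← ht₂, Subsingleton.elim t₁ t₂]

variable {G : Over (Spec (CommRingCat.of k))} [GrpObj G] (a : AlgGrp.Action G X)
  (hΦ : Function.Surjective (lift a.act (snd G X)).left)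
  (x : 𝟙_ (Over (Spec (CommRingCat.of k))) ⟶ X)
  (pt : ↥(𝟙_ (Over (Spec (CommRingCat.of k)))).left)
  {C : Set X.left} (hC : C ∈ irreducibleComponents X.left) (hx : x.left pt ∈ C)

/-- `Spec k̄` as an object over `k`. -/
noncomputable abbrev Pbar (k : Type u) [Field k] : Over (Spec (CommRingCat.of k)) :=
  Over.mk (Spec.map (CommRingCat.ofHom (algebraMap k (AlgebraicClosure k))))

include hΦ hC hx in
/-- Over the algebraic closure, the preimage of the component through a rational point is
irreducible. -/
theorem isIrreducible_preimage_bar : IsIrreducible ((fst X (Pbar k)).left ⁻¹' C) := by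
  let P := Pbar k
  have hsub : Subsingleton ↥P.left := inferInstanceAs (Subsingleton (PrimeSpectrum _))
  let p₀ : P.left := (default : PrimeSpectrum (AlgebraicClosure k))
  let xb : (X ⊗ P).left := (lift (toUnit P ≫ x) (𝟙 P)).left p₀
  have h1 : (fst X P).left xb = x.left pt := by
    change (fst X P).left ((lift (toUnit P ≫ x) (𝟙 P)).left p₀) = _
    rw [← Scheme.Hom.comp_apply, ← Over.comp_left, lift_fst, Over.comp_left,
      Scheme.Hom.comp_apply]
    congr 1
    exact Subsingleton.elim (α := PrimeSpectrum k) _ _
  have hint : IsIntegralHom P.hom := by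
    change IsIntegralHom (Spec.map (CommRingCat.ofHom (algebraMap k (AlgebraicClosure k))))
    rw [IsIntegralHom.SpecMap_iff]
    exact algebraMap_isIntegral_iff.mpr inferInstance
  have hfl : Flat P.hom := by
    change Flat (Spec.map (CommRingCat.ofHom (algebraMap k (AlgebraicClosure k))))
    infer_instance
  have hcl : IsClosedMap (fst X P).left := by
    have : IsIntegralHom (pullback.fst X.hom P.hom) := inferInstance
    exact (pullback.fst X.hom P.hom).isClosedMap
  have hgen : GeneralizingMap (fst X P).left := by
    have : Flat (pullback.fst X.hom P.hom) := inferInstance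
    exact Flat.generalizingMap (pullback.fst X.hom P.hom)
  have key := preimage_irreducibleComponent_eq (p := (fst X P).left) (fst X P).left.continuous
    hcl hgen (uniqueComp a hΦ) (e' := xb) (uniqueComp_of_field a hΦ _ xb)
    (fun x' hx' => eq_of_fst_eq x pt P x' xb (hx'.trans h1) h1)
  rw [h1, ← (uniqueComp a hΦ (x.left pt)).eq_irreducibleComponent hC hx] at key
  rw [key]
  exact isIrreducible_irreducibleComponent

include hΦ hC hx in
/-- **For every field extension `K/k` the preimage in `X_K` of the irreducible component through a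
rational point is irreducible.** -/
theorem isIrreducible_preimage_component (K : Type u) [Field K] [Algebra k K] :
    IsIrreducible ((pullback.fst X.hom
      (Spec.map (CommRingCat.ofHom (algebraMap k K)))) ⁻¹' C) := by
  let PK : Over (Spec (CommRingCat.of k)) :=
    Over.mk (Spec.map (CommRingCat.ofHom (algebraMap k K)))
  let Ω := AlgebraicClosure K
  let PΩ : Over (Spec (CommRingCat.of k)) :=
    Over.mk (Spec.map (CommRingCat.ofHom (algebraMap k Ω)))
  let ω : PΩ ⟶ PK := Over.homMk (Spec.map (CommRingCat.ofHom (algebraMap K Ω))) (by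
    change Spec.map _ ≫ Spec.map _ = Spec.map _
    rw [← Spec.map_comp, ← CommRingCat.ofHom_comp, ← IsScalarTower.algebraMap_eq])
  let ψ : AlgebraicClosure k →ₐ[k] Ω := IsAlgClosed.lift
  let ω' : PΩ ⟶ Pbar k := Over.homMk (Spec.map (CommRingCat.ofHom ψ.toRingHom)) (by
    change Spec.map _ ≫ Spec.map _ = Spec.map _
    rw [← Spec.map_comp, ← CommRingCat.ofHom_comp]
    congr 2
    exact ψ.comp_algebraMap)
  -- irreducibility over `Ω`
  have hirrΩ : IsIrreducible ((fst X PΩ).left ⁻¹' C) := by
    have hsq := (Groth.Agent.Lib.ActOpen18.isPullback_whiskerLeft_snd X ω').flip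
    have hirr : IrreducibleSpace ↥PΩ.left :=
      inferInstanceAs (IrreducibleSpace ↥(Spec (CommRingCat.of Ω)))
    have hgi0 : GeometricallyIrreducible ω'.left :=
      Groth.Agent.Lib.AlgClosedGeom.geometricallyIrreducible_of_irreducibleSpace
        (k := AlgebraicClosure k) ω'.left
    have huo0 : UniversallyOpen ω'.left := by
      have h1 : IsIntegral (Spec (CommRingCat.of (AlgebraicClosure k))) := inferInstance
      have h2 : Subsingleton ↥(Spec (CommRingCat.of (AlgebraicClosure k))) :=
        inferInstanceAs (Subsingleton (PrimeSpectrum (AlgebraicClosure k)))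
      exact inferInstanceAs (UniversallyOpen (Y := Spec (CommRingCat.of (AlgebraicClosure k)))
        ω'.left)
    have hgi : GeometricallyIrreducible (X ◁ ω').left :=
      MorphismProperty.of_isPullback (P := @GeometricallyIrreducible) hsq hgi0
    have huo : UniversallyOpen (X ◁ ω').left :=
      MorphismProperty.of_isPullback (P := @UniversallyOpen) hsq huo0
    have heq : (fst X PΩ).left = (X ◁ ω').left ≫ (fst X (Pbar k)).left := by
      rw [← Over.comp_left, whiskerLeft_fst]
    rw [heq, Scheme.Hom.comp_base, TopCat.coe_comp, Set.preimage_comp]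
    exact (X ◁ ω').left.isIrreducible_preimage (X ◁ ω').left.isOpenMap
      (isIrreducible_preimage_bar a hΦ x pt hC hx)
  -- descend to `K`
  have hsqK := (Groth.Agent.Lib.ActOpen18.isPullback_whiskerLeft_snd X ω).flip
  have hsu0 : Surjective ω.left := by
    change Surjective (Spec.map (CommRingCat.ofHom (algebraMap K Ω)))
    infer_instance
  have hsu : Surjective (X ◁ ω).left :=
    MorphismProperty.of_isPullback (P := @Surjective) hsqK hsu0
  have heqK : (fst X PΩ).left = (X ◁ ω).left ≫ (fst X PK).left := by
    rw [← Over.comp_left, whiskerLeft_fst]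
  have himg : (fst X PK).left ⁻¹' C = (X ◁ ω).left '' ((fst X PΩ).left ⁻¹' C) := by
    rw [heqK, Scheme.Hom.comp_base, TopCat.coe_comp, Set.preimage_comp,
      Set.image_preimage_eq _ (X ◁ ω).left.surjective]
  change IsIrreducible ((fst X PK).left ⁻¹' C)
  rw [himg]
  exact hirrΩ.image _ (X ◁ ω).left.continuous.continuousOn

end Groth.Agent.Lib.HomogGeomIrr45
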