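import Mathlib.Topology.Sober
import Mathlib.Topology.Irreducible
import Mathlib.Topology.Inseparable
import Mathlib.Topology.Homeomorph.Lemmas
import Groth.Agent.Lib.UniqueComp45

/-!
# Maximal points (points without proper generalizations) (helper45)

`IsMaxPt x` : every generalization of `x` is a specialization of `x`; in a quasi-sober space these
are the generic points of the irreducible components.
-/

set_option autoImplicit false
open Set

namespace Groth.Agent.Lib.MaxPt45

open Groth.Agent.Lib.UniqueComp45

variable {X Y : Type*} [TopologicalSpace X] [TopologicalSpace Y]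

/-- `x` has no proper generalization. -/
def IsMaxPt (x : X) : Prop := ∀ w : X, w ⤳ x → x ⤳ w

lemma IsMaxPt.map {f : X → Y} (hf : Continuous f) (hg : GeneralizingMap f) {x : X}
    (hx : IsMaxPt x) : IsMaxPt (f x) := by
  intro w hw
  obtain ⟨x', hx', rfl⟩ := hg hw
  exact (hx x' hx').map hf

lemma IsMaxPt.map_homeomorph (h : X ≃ₜ Y) {x : X} (hx : IsMaxPt x) : IsMaxPt (h x) :=
  hx.map h.continuous h.isOpenEmbedding.generalizingMap

lemma isMaxPt_of_isGenericPoint {x : X} {Z : Set X} (hZ : Z ∈ irreducibleComponents X)
    (hx : IsGenericPoint x Z) : IsMaxPt x :=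
  fun _ hw => specializes_of_isGenericPoint hZ hx hw

lemma IsMaxPt.closure_mem [QuasiSober X] {x : X} (hx : IsMaxPt x) :
    closure {x} ∈ irreducibleComponents X :=
  closure_singleton_mem_irreducibleComponents hx

/-- Every point is a specialization of a maximal point. -/
lemma exists_isMaxPt_specializes [QuasiSober X] (x : X) : ∃ m : X, IsMaxPt m ∧ m ⤳ x := by
  let Z : irreducibleComponents X := ⟨irreducibleComponent x,
    irreducibleComponent_mem_irreducibleComponents _⟩
  have hg := genericPoints.isGenericPoint_ofComponent Z
  exact ⟨_, isMaxPt_of_isGenericPoint Z.2 hg, hg.specializes mem_irreducibleComponent⟩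

lemma IsMaxPt.eq_of_specializes [T0Space X] {x w : X} (hx : IsMaxPt x) (h : w ⤳ x) : w = x :=
  (h.antisymm (hx w h)).eq

/-- If `m ⤳ x` and `f x` is maximal then `f m = f x`. -/
lemma IsMaxPt.map_eq_of_specializes [T0Space Y] {f : X → Y} (hf : Continuous f) {m x : X}
    (h : m ⤳ x) (hx : IsMaxPt (f x)) : f m = f x :=
  hx.eq_of_specializes (h.map hf)

/-- Two maximal points in an irreducible subset coincide. -/
lemma IsMaxPt.eq_of_mem_isIrreducible [T0Space X] [QuasiSober X] {F : Set X}
    (hF : IsIrreducible F) {a b : X} (ha : IsMaxPt a) (hb : IsMaxPt b) (haF : a ∈ F)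
    (hbF : b ∈ F) : a = b := by
  have hcl : IsIrreducible (closure F) := hF.closure
  have hgen := hcl.isGenericPoint_genericPoint_closure
  rw [closure_closure] at hgen
  have h1 := ha.eq_of_specializes (hgen.specializes (subset_closure haF))
  have h2 := hb.eq_of_specializes (hgen.specializes (subset_closure hbF))
  rw [← h1, ← h2]

/-- A maximal point of an irreducible subset specializes to every point of it. -/
lemma IsMaxPt.specializes_of_mem_isIrreducible [T0Space X] [QuasiSober X] {F : Set X}
    (hF : IsIrreducible F) {a b : X} (ha : IsMaxPt a) (haF : a ∈ F) (hbF : b ∈ F) : a ⤳ b := by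
  have hcl : IsIrreducible (closure F) := hF.closure
  have hgen := hcl.isGenericPoint_genericPoint_closure
  rw [closure_closure] at hgen
  have h1 := ha.eq_of_specializes (hgen.specializes (subset_closure haF))
  rw [← h1]
  exact hgen.specializes (subset_closure hbF)

/-- In a space where `y` lies on a unique component, a maximal generalization of `y` is the generic
point of the component of `y`. -/
lemma IsMaxPt.closure_eq_of_uniqueComp [QuasiSober X] {m y : X} (hm : IsMaxPt m) (h : m ⤳ y)
    (hy : UniqueComp y) : closure {m} = irreducibleComponent y :=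
  hy.eq_irreducibleComponent hm.closure_mem h.mem_closure

lemma IsMaxPt.eq_of_closure_eq [T0Space X] {m ξ : X} (h : closure {m} = closure {ξ}) : m = ξ := by
  have h1 : m ⤳ ξ := specializes_iff_mem_closure.mpr (h ▸ subset_closure rfl)
  have h2 : ξ ⤳ m := specializes_iff_mem_closure.mpr (h.symm ▸ subset_closure rfl)
  exact (h1.antisymm h2).eq

end Groth.Agent.Lib.MaxPt45
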