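import Groth.Agent.Lib.ActSet45
import Groth.Agent.Lib.MaxPt45
import Groth.Agent.Lib.GrpHomAction45
import Groth.Agent.Lib.GrpIdComp45

/-!
# Orbit maps of `P`-points of a homogeneous space (helper45)

`k` a field, `G` an arbitrary group scheme over `k` acting on `X`, `P` a `k`-scheme, `y : P ⟶ X`.

* `orb a y : G ⊗ P ⟶ X ⊗ P`, `(g, p) ↦ (g · y(p), p)`; base change (`isPullback_orb`),
  compatibility with translations (`transl_orb`), surjectivity when `(g, x) ↦ (g x, x)` is
  surjective (`surjective_orb`).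
* `mem_actSet_cc_of_isMaxPt` : **for every point `y` of a homogeneous space `X`, the generic point
  `ξ` of the irreducible component through `y` lies in `C⁰ · {y}`**, `C⁰` the unit component.
-/

set_option autoImplicit false
set_option linter.unusedSectionVars false
universe u
open CategoryTheory CategoryTheory.Limits MonoidalCategory CartesianMonoidalCategory MonObj GrpObj
  AlgebraicGeometry
open Groth.Agent.Lib.GrpTopPts45 Groth.Agent.Lib.UniqueComp45 Groth.Agent.Lib.GrpAction
  Groth.Agent.Lib.HomogUC45 Groth.Agent.Lib.ActSet45 Groth.Agent.Lib.MaxPt45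

namespace Groth.Agent.Lib.HomogOrbit45

variable {k : Type u} [Field k] {G X : Over (Spec (CommRingCat.of k))} [GrpObj G]
  (a : AlgGrp.Action G X)

/-- The orbit map of a `P`-point `y` of `X`: `(g, p) ↦ (g · y(p), p)`. -/
noncomputable def orb {P : Over (Spec (CommRingCat.of k))} (y : P ⟶ X) : G ⊗ P ⟶ X ⊗ P :=
  lift (lift (fst G P) (snd G P ≫ y) ≫ a.act) (snd G P)

section basic

variable {P : Over (Spec (CommRingCat.of k))} (y : P ⟶ X)

@[reassoc]
lemma orb_snd : orb a y ≫ snd X P = snd G P := by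
  unfold orb; rw [lift_snd]

@[reassoc]
lemma orb_fst : orb a y ≫ fst X P = lift (fst G P) (snd G P ≫ y) ≫ a.act := by
  unfold orb; rw [lift_fst]

lemma lift_orb {Q : Over (Spec (CommRingCat.of k))} (g : Q ⟶ G) (t : Q ⟶ P) :
    lift g t ≫ orb a y = lift (lift g (t ≫ y) ≫ a.act) t := by
  unfold orb
  apply CartesianMonoidalCategory.hom_ext
  · rw [Category.assoc, lift_fst, lift_fst, ← Category.assoc, comp_lift, lift_fst,
      ← Category.assoc, lift_snd]
  · rw [Category.assoc, lift_snd, lift_snd, lift_snd]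

lemma orb_whiskerLeft {Q : Over (Spec (CommRingCat.of k))} (t : Q ⟶ P) :
    (G ◁ t) ≫ orb a y = orb a (t ≫ y) ≫ (X ◁ t) := by
  unfold orb
  apply CartesianMonoidalCategory.hom_ext
  · simp only [Category.assoc, lift_fst, whiskerLeft_fst]
    rw [← Category.assoc, comp_lift, whiskerLeft_fst, ← Category.assoc, whiskerLeft_snd,
      Category.assoc]
  · simp only [Category.assoc, lift_snd, whiskerLeft_snd, lift_snd_assoc]

/-- `orb` is compatible with base change. -/
lemma isPullback_orb {Q : Over (Spec (CommRingCat.of k))} (t : Q ⟶ P) :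
    IsPullback (G ◁ t).left (orb a (t ≫ y)).left (orb a y).left (X ◁ t).left := by
  have hbig := Groth.Agent.Lib.ActOpen18.isPullback_whiskerLeft_snd G t
  have hbot := Groth.Agent.Lib.ActOpen18.isPullback_whiskerLeft_snd X t
  have e1 : (orb a (t ≫ y)).left ≫ (snd X Q).left = (snd G Q).left := by
    rw [← Over.comp_left, orb_snd]
  have e2 : (orb a y).left ≫ (snd X P).left = (snd G P).left := by
    rw [← Over.comp_left, orb_snd]
  rw [← e1, ← e2] at hbig
  refine IsPullback.of_bot hbig ?_ hbot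
  rw [← Over.comp_left, ← Over.comp_left, orb_whiskerLeft]

/-- `orb` intertwines the translations of `G ⊗ P` and of `X ⊗ P`. -/
lemma translHom_orb (h : P ⟶ G) :
    translHom (Groth.Agent.Lib.GrpHomAction45.leftMul G) h ≫ orb a y =
      orb a y ≫ translHom a h := by
  have e : translHom (Groth.Agent.Lib.GrpHomAction45.leftMul G) h =
      lift ((snd G P ≫ h) * fst G P) (snd G P) := by
    unfold translHom
    rw [Groth.Agent.Lib.GrpHomAction45.leftMul_act, MonObj.comp_mul, lift_fst, lift_snd]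
  rw [e, lift_orb, mul_act]
  unfold orb
  exact (lift_transl a h _ _).symm

end basic

section surj

variable (hΦ : Function.Surjective (lift a.act (snd G X)).left)
include hΦ

/-- The orbit map of any `P`-point of a homogeneous space is surjective. -/
theorem surjective_orb {P : Over (Spec (CommRingCat.of k))} (y : P ⟶ X) :
    Function.Surjective (orb a y).left := by
  intro x'
  let pair : ptObj x' ⟶ X ⊗ X := lift (ptHom x' ≫ fst X P) (ptHom x' ≫ snd X P ≫ y)
  obtain ⟨w, hw⟩ := hΦ (pair.left (ptPt x'))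
  obtain ⟨Q, t₁, t₂, s, hs₁, hs₂, ht⟩ := exists_common pair (lift a.act (snd G X)) (ptPt x') w
    hw.symm
  have e1 : t₁ ≫ ptHom x' ≫ fst X P = t₂ ≫ a.act := by
    have := congrArg (· ≫ fst X X) ht
    simpa [pair] using this
  have e2 : t₁ ≫ ptHom x' ≫ snd X P ≫ y = t₂ ≫ snd G X := by
    have := congrArg (· ≫ snd X X) ht
    simpa [pair] using this
  refine ⟨(lift (t₂ ≫ fst G X) (t₁ ≫ ptHom x' ≫ snd X P)).left s, ?_⟩
  rw [← Scheme.Hom.comp_apply, ← Over.comp_left, lift_orb]
  have e3 : lift (lift (t₂ ≫ fst G X) ((t₁ ≫ ptHom x' ≫ snd X P) ≫ y) ≫ a.act)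
      (t₁ ≫ ptHom x' ≫ snd X P) = t₁ ≫ ptHom x' := by
    apply CartesianMonoidalCategory.hom_ext
    · simp only [Category.assoc, lift_fst]
      rw [e2, ← comp_lift, lift_fst_snd_id, Category.comp_id, e1]
    · simp only [Category.assoc, lift_snd]
  rw [e3, comp_left_apply, hs₁, ptHom_left_apply]

/-- Key lemma, over an algebraically closed point. -/
theorem mem_actSet_cc_aux {Ω : Type u} [Field Ω] [IsAlgClosed Ω]
    (φ : Spec (CommRingCat.of Ω) ⟶ Spec (CommRingCat.of k)) (yP : Over.mk φ ⟶ X)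
    (p₀ : ↥(Over.mk φ).left) {ξ : X.left} (hξ : IsMaxPt ξ) (hξy : ξ ⤳ yP.left p₀) :
    ξ ∈ actSet a (connectedComponent (unitPt G)) {yP.left p₀} := by
  let P : Over (Spec (CommRingCat.of k)) := Over.mk φ
  have hsubP : Subsingleton ↥P.left := inferInstanceAs (Subsingleton (PrimeSpectrum Ω))
  -- a maximal point `ω'` of `X ⊗ P` and a maximal point `δ'` of `G ⊗ P` above it
  obtain ⟨ω', hω', -⟩ := exists_isMaxPt_specializes ((lift yP (𝟙 P)).left p₀)
  obtain ⟨γ', hγ'⟩ := surjective_orb a hΦ yP ω'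
  obtain ⟨δ', hδ', hδγ⟩ := exists_isMaxPt_specializes γ'
  have hoδ : (orb a yP).left δ' = ω' := by
    rw [← hγ']
    exact IsMaxPt.map_eq_of_specializes (orb a yP).left.continuous hδγ (hγ'.symm ▸ hω')
  -- the point object
  let Q := ptObj δ'
  let t : Q ⟶ P := ptHom δ' ≫ snd G P
  let h : Q ⟶ G := ptHom δ' ≫ fst G P
  let q₀ : Q.left := ptPt δ'
  have hirr : IrreducibleSpace ↥Q.left :=
    inferInstanceAs (IrreducibleSpace ↥(Spec ((G ⊗ P).left.residueField δ')))
  have hgi : GeometricallyIrreducible t.left :=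
    Groth.Agent.Lib.AlgClosedGeom.geometricallyIrreducible_of_irreducibleSpace (k := Ω) t.left
  have huo : UniversallyOpen t.left := by
    have h1 : IsIntegral (Spec (CommRingCat.of Ω)) := inferInstance
    have h2 : Subsingleton ↥(Spec (CommRingCat.of Ω)) :=
      inferInstanceAs (Subsingleton (PrimeSpectrum Ω))
    exact inferInstanceAs (UniversallyOpen (Y := Spec (CommRingCat.of Ω)) t.left)
  have hsu : Surjective t.left := ⟨fun p => ⟨q₀, Subsingleton.elim _ _⟩⟩
  have hsqG := (Groth.Agent.Lib.ActOpen18.isPullback_whiskerLeft_snd G t).flip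
  have hsqX := (Groth.Agent.Lib.ActOpen18.isPullback_whiskerLeft_snd X t).flip
  have hgiG : GeometricallyIrreducible (G ◁ t).left :=
    MorphismProperty.of_isPullback (P := @GeometricallyIrreducible) hsqG hgi
  have huoG : UniversallyOpen (G ◁ t).left :=
    MorphismProperty.of_isPullback (P := @UniversallyOpen) hsqG huo
  have hsuX : Surjective (X ◁ t).left :=
    MorphismProperty.of_isPullback (P := @Surjective) hsqX hsu
  let oQ := orb a (t ≫ yP)
  have hpb := isPullback_orb a yP t
  -- a maximal point `ωQ` of `X ⊗ Q` over `ω'`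
  obtain ⟨x₁, hx₁⟩ := (X ◁ t).left.surjective ω'
  obtain ⟨ωQ, hωQ, hωQx⟩ := exists_isMaxPt_specializes x₁
  have hωQ' : (X ◁ t).left ωQ = ω' := by
    rw [← hx₁]
    exact IsMaxPt.map_eq_of_specializes (X ◁ t).left.continuous hωQx (hx₁.symm ▸ hω')
  -- a maximal point `ε'` of `G ⊗ Q` over `δ'` and `ωQ`
  obtain ⟨ε₁, hε₁a, hε₁b⟩ := Groth.Agent.Lib.ActOpen18.exists_preimage_of_isPullback hpb δ' ωQ
    (hoδ.trans hωQ'.symm)
  obtain ⟨ε', hε', hε'ε⟩ := exists_isMaxPt_specializes ε₁
  have hε'a : (G ◁ t).left ε' = δ' := by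
    rw [← hε₁a]
    exact IsMaxPt.map_eq_of_specializes (G ◁ t).left.continuous hε'ε (hε₁a.symm ▸ hδ')
  have hε'b : oQ.left ε' = ωQ := by
    rw [← hε₁b]
    exact IsMaxPt.map_eq_of_specializes oQ.left.continuous hε'ε (hε₁b.symm ▸ hωQ)
  -- the rational points
  let eQ : (G ⊗ Q).left := (lift (1 : Q ⟶ G) (𝟙 Q)).left q₀
  let δQ : (G ⊗ Q).left := (lift h (𝟙 Q)).left q₀
  have hδQ : (G ◁ t).left δQ = δ' := by
    change (G ◁ t).left ((lift h (𝟙 Q)).left q₀) = δ'
    rw [← Scheme.Hom.comp_apply, ← Over.comp_left, lift_whiskerLeft, Category.id_comp]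
    have : lift h t = ptHom δ' := by
      apply CartesianMonoidalCategory.hom_ext <;> simp [h, t]
    rw [this, ptHom_left_apply]
  -- `ε' ⤳ δQ` (irreducible fibre)
  have hfib : IsIrreducible ((G ◁ t).left ⁻¹' {δ'}) :=
    (G ◁ t).left.isIrreducible_preimage (G ◁ t).left.isOpenMap isIrreducible_singleton
  have hεδ : ε' ⤳ δQ := hε'.specializes_of_mem_isIrreducible hfib hε'a hδQ
  -- translate back
  let LG := Groth.Agent.Lib.GrpHomAction45.leftMul G
  have hisoG : IsIso (transl LG h).inv.left :=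
    inferInstanceAs (IsIso ((Over.forget _).map (transl LG h).inv))
  have hisoX : IsIso (transl a h).inv.left :=
    inferInstanceAs (IsIso ((Over.forget _).map (transl a h).inv))
  let ε : (G ⊗ Q).left := (transl LG h).inv.left ε'
  have hε : IsMaxPt ε := hε'.map_homeomorph (transl LG h).inv.left.homeomorph
  have hτe : (transl LG h).inv.left δQ = eQ := by
    change (transl LG h⁻¹).hom.left ((lift h (𝟙 Q)).left q₀) = _
    rw [← Scheme.Hom.comp_apply, ← Over.comp_left, lift_transl, Category.id_comp,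
      Groth.Agent.Lib.GrpHomAction45.leftMul_act, MonObj.comp_mul, lift_fst, lift_snd,
      inv_mul_cancel]
  have hεe : ε ⤳ eQ := hτe ▸ hεδ.map (transl LG h).inv.left.continuous
  -- `fst ε ∈ C⁰`
  have hfe : (fst G Q).left eQ = unitPt G := by
    change (fst G Q).left ((lift (1 : Q ⟶ G) (𝟙 Q)).left q₀) = _
    rw [← Scheme.Hom.comp_apply, ← Over.comp_left, lift_fst, one_left_apply]
  have hC0 : (fst G Q).left ε ∈ connectedComponent (unitPt G) :=
    Groth.Agent.Lib.GrpIdComp45.stableUnderGeneralization_cc G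
      (hfe ▸ hεe.map (fst G Q).left.continuous) mem_connectedComponent
  -- `oQ ε` is maximal
  have hoε : oQ.left ε = (transl a h).inv.left ωQ := by
    change oQ.left ((translHom LG h⁻¹).left ε') = (translHom a h⁻¹).left ωQ
    rw [← hε'b, ← Scheme.Hom.comp_apply, ← Scheme.Hom.comp_apply, ← Over.comp_left,
      ← Over.comp_left, translHom_orb]
  have hmax : IsMaxPt (oQ.left ε) :=
    hoε ▸ hωQ.map_homeomorph (transl a h).inv.left.homeomorph
  -- project to `X`
  have hflat : GeneralizingMap (fst X Q).left := by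
    have : Flat (pullback.fst X.hom Q.hom) := inferInstance
    exact Flat.generalizingMap (pullback.fst X.hom Q.hom)
  have hmax' : IsMaxPt ((fst X Q).left (oQ.left ε)) :=
    hmax.map (fst X Q).left.continuous hflat
  have hoe : (fst X Q).left (oQ.left eQ) = yP.left p₀ := by
    change (fst X Q).left (oQ.left ((lift (1 : Q ⟶ G) (𝟙 Q)).left q₀)) = _
    rw [← Scheme.Hom.comp_apply, ← Scheme.Hom.comp_apply, ← Over.comp_left, ← Over.comp_left,
      ← Category.assoc, lift_orb, lift_fst, one_act, Category.id_comp, comp_left_apply]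
    congr 1
    exact Subsingleton.elim _ _
  have hsp : (fst X Q).left (oQ.left ε) ⤳ yP.left p₀ :=
    hoe ▸ (hεe.map oQ.left.continuous).map (fst X Q).left.continuous
  have hUC := HomogUC45.uniqueComp a hΦ (yP.left p₀)
  have hξeq : (fst X Q).left (oQ.left ε) = ξ :=
    IsMaxPt.eq_of_closure_eq ((hmax'.closure_eq_of_uniqueComp hsp hUC).trans
      (hξ.closure_eq_of_uniqueComp hξy hUC).symm)
  -- conclude
  rw [← hξeq, ← Scheme.Hom.comp_apply, ← Over.comp_left, orb_fst]
  refine act_mem_actSet _ _ _ hC0 ?_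
  rw [Set.mem_singleton_iff, comp_left_apply, comp_left_apply]
  congr 1
  exact Subsingleton.elim _ _

/-- **For every point `y` of a homogeneous space, the generic point `ξ` of the irreducible
component through `y` lies in `C⁰ · {y}`.** -/
theorem mem_actSet_cc_of_isMaxPt (y : X.left) {ξ : X.left} (hξ : IsMaxPt ξ) (hξy : ξ ⤳ y) :
    ξ ∈ actSet a (connectedComponent (unitPt G)) {y} := by
  let κ := X.left.residueField y
  let Ω := AlgebraicClosure κ
  let ψ : Spec (CommRingCat.of Ω) ⟶ Spec κ := Spec.map (CommRingCat.ofHom (algebraMap κ Ω))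
  let φ : Spec (CommRingCat.of Ω) ⟶ Spec (CommRingCat.of k) :=
    ψ ≫ X.left.fromSpecResidueField y ≫ X.hom
  let yP : Over.mk φ ⟶ X := Over.homMk (ψ ≫ X.left.fromSpecResidueField y) (by simp [φ])
  let p₀ : ↥(Over.mk φ).left := (default : PrimeSpectrum Ω)
  have hy : yP.left p₀ = y := by
    change (ψ ≫ X.left.fromSpecResidueField y) p₀ = y
    rw [Scheme.Hom.comp_apply, Scheme.fromSpecResidueField_apply]
  have := mem_actSet_cc_aux a hΦ φ yP p₀ hξ (hy.symm ▸ hξy)
  rwa [hy] at this

/-- Symmetric form: every point `y` lies in `C⁰ · {ξ}` for the generic point `ξ` of its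
component. -/
theorem mem_actSet_cc_generic (y : X.left) {ξ : X.left} (hξ : IsMaxPt ξ) (hξy : ξ ⤳ y) :
    y ∈ actSet a (connectedComponent (unitPt G)) {ξ} :=
  actSet_mono (Groth.Agent.Lib.GrpIdComp45.inv_cc_subset G) subset_rfl
    (mem_actSet_inv (mem_actSet_cc_of_isMaxPt a hΦ y hξ hξy))

end surj

end Groth.Agent.Lib.HomogOrbit45
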