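import Groth.Agent.Lib.GrpTopIrr45
import Groth.Agent.Lib.GrpAction
import Groth.Agent.Lib.ActOpen18
import Groth.Agent.Lib.AlgClosedGeom

/-!
# Homogeneous spaces over a field: every point lies on a unique irreducible component (helper45)

`k` a field, `G` an ARBITRARY group scheme over `k` acting on a `k`-scheme `X` such that
`G × X ⟶ X × X`, `(g, x) ↦ (g x, x)` is surjective.

* `transl a g : X ⊗ T ≅ X ⊗ T`, `(x, t) ↦ (g(t) x, t)`.
* `uniqueComp_iff_of_act` : transfer of `UniqueComp` along translations, for a point object `Q`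
  geometrically irreducible and universally open over `P`.
* `uniqueComp_of_isAlgClosed` : all points of `X ⊗ Spec Ω`, `Ω` an algebraically closed extension.
* `uniqueComp_of_field` : all points of `X ⊗ Spec K`, `K` any field extension.
-/

set_option autoImplicit false
set_option linter.unusedSectionVars false
universe u
open CategoryTheory CategoryTheory.Limits MonoidalCategory CartesianMonoidalCategory MonObj GrpObj
  AlgebraicGeometry
open Groth.Agent.Lib.GrpTopPts45 Groth.Agent.Lib.UniqueComp45 Groth.Agent.Lib.GrpAction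

namespace Groth.Agent.Lib.HomogUC45

variable {k : Type u} [Field k] {G X : Over (Spec (CommRingCat.of k))} [GrpObj G]
  (a : AlgGrp.Action G X)

/-- Translation by a `T`-point of `G` on `X ⊗ T`. -/
noncomputable def translHom {T : Over (Spec (CommRingCat.of k))} (g : T ⟶ G) : X ⊗ T ⟶ X ⊗ T :=
  lift (lift (snd X T ≫ g) (fst X T) ≫ a.act) (snd X T)

lemma translHom_comp {T : Over (Spec (CommRingCat.of k))} (g h : T ⟶ G) :
    translHom a h ≫ translHom a g = translHom a (g * h) := by
  unfold translHom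
  apply CartesianMonoidalCategory.hom_ext
  · rw [Category.assoc, lift_fst, lift_fst, ← Category.assoc, comp_lift, ← Category.assoc, lift_snd,
      lift_fst, MonObj.comp_mul, mul_act]
  · rw [Category.assoc, lift_snd, lift_snd, lift_snd]

lemma translHom_one {T : Over (Spec (CommRingCat.of k))} :
    translHom a (1 : T ⟶ G) = 𝟙 (X ⊗ T) := by
  unfold translHom
  apply CartesianMonoidalCategory.hom_ext
  · rw [lift_fst, Category.id_comp, MonObj.comp_one, one_act]
  · rw [lift_snd, Category.id_comp]

/-- Translation by a `T`-point of `G` as an automorphism of `X ⊗ T`. -/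
noncomputable def transl {T : Over (Spec (CommRingCat.of k))} (g : T ⟶ G) : X ⊗ T ≅ X ⊗ T where
  hom := translHom a g
  inv := translHom a g⁻¹
  hom_inv_id := by rw [translHom_comp, inv_mul_cancel, translHom_one]
  inv_hom_id := by rw [translHom_comp, mul_inv_cancel, translHom_one]

lemma lift_transl {T Q : Over (Spec (CommRingCat.of k))} (g : T ⟶ G) (b : Q ⟶ X) (t : Q ⟶ T) :
    lift b t ≫ (transl a g).hom = lift (lift (t ≫ g) b ≫ a.act) t := by
  change lift b t ≫ translHom a g = _
  unfold translHom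
  apply CartesianMonoidalCategory.hom_ext
  · rw [Category.assoc, lift_fst, lift_fst, ← Category.assoc, comp_lift, ← Category.assoc, lift_snd,
      lift_fst]
  · rw [Category.assoc, lift_snd, lift_snd, lift_snd]

omit [GrpObj G] in
/-- `UniqueComp` transfers along `X ◁ q` for `q` geometrically irreducible and universally open. -/
lemma uniqueComp_whiskerLeft_iff {P Q : Over (Spec (CommRingCat.of k))} (q : Q ⟶ P)
    [GeometricallyIrreducible q.left] [UniversallyOpen q.left] (t : (X ⊗ Q).left) :
    UniqueComp t ↔ UniqueComp ((X ◁ q).left t) := by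
  have hsq := (Groth.Agent.Lib.ActOpen18.isPullback_whiskerLeft_snd X q).flip
  have hgi : GeometricallyIrreducible (X ◁ q).left :=
    MorphismProperty.of_isPullback (P := @GeometricallyIrreducible) hsq inferInstance
  have huo : UniversallyOpen (X ◁ q).left :=
    MorphismProperty.of_isPullback (P := @UniversallyOpen) hsq inferInstance
  exact uniqueComp_iff_of_isOpenMap (X ◁ q).left (X ◁ q).left.continuous (X ◁ q).left.isOpenMap
    (fun _ => ((X ◁ q).left.isIrreducible_preimage (X ◁ q).left.isOpenMap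
      isIrreducible_singleton).isPreirreducible) (X ◁ q).left.surjective t

/-- Transfer of `UniqueComp` along a translation. -/
lemma uniqueComp_iff_of_act {P Q : Over (Spec (CommRingCat.of k))} (q : Q ⟶ P)
    [GeometricallyIrreducible q.left] [UniversallyOpen q.left] (g : Q ⟶ G) (b : Q ⟶ X)
    (s : Q.left) :
    UniqueComp ((lift b q).left s) ↔ UniqueComp ((lift (lift g b ≫ a.act) q).left s) := by
  have h1 : lift b (𝟙 Q) ≫ (X ◁ q) = lift b q := by
    rw [lift_whiskerLeft, Category.id_comp]
  have h2 : lift (lift g b ≫ a.act) (𝟙 Q) ≫ (X ◁ q) = lift (lift g b ≫ a.act) q := by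
    rw [lift_whiskerLeft, Category.id_comp]
  have h3 : lift b (𝟙 Q) ≫ (transl a g).hom = lift (lift g b ≫ a.act) (𝟙 Q) := by
    rw [lift_transl, Category.id_comp]
  have hiso : IsIso (transl a g).hom.left :=
    inferInstanceAs (IsIso ((Over.forget _).map (transl a g).hom))
  rw [← h1, ← h2, Over.comp_left, Over.comp_left, Scheme.Hom.comp_apply, Scheme.Hom.comp_apply,
    ← uniqueComp_whiskerLeft_iff, ← uniqueComp_whiskerLeft_iff, ← h3, Over.comp_left,
    Scheme.Hom.comp_apply]
  exact uniqueComp_iff_of_homeomorph (transl a g).hom.left.homeomorph _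

section main

variable (hΦ : Function.Surjective (lift a.act (snd G X)).left)
include hΦ

/-- **Every point of `X_Ω`, `Ω` algebraically closed, lies on exactly one irreducible component**,
for `X` homogeneous under an arbitrary group scheme. -/
theorem uniqueComp_of_isAlgClosed {Ω : Type u} [Field Ω] [IsAlgClosed Ω]
    (φ : Spec (CommRingCat.of Ω) ⟶ Spec (CommRingCat.of k)) (z : (X ⊗ Over.mk φ).left) :
    UniqueComp z := by
  let P : Over (Spec (CommRingCat.of k)) := Over.mk φ
  have hne : Nonempty (X ⊗ P).left := ⟨z⟩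
  obtain ⟨z₂, hz₂⟩ := exists_uniqueComp (X := (X ⊗ P).left)
  have hsub : Subsingleton P.left := inferInstanceAs (Subsingleton (PrimeSpectrum Ω))
  -- step 1: a common point object over `P`
  obtain ⟨Q₁, r₁, r₂, s₁, hs₁, hs₂, hr⟩ := exists_common (ptHom z ≫ snd X P) (ptHom z₂ ≫ snd X P)
    (ptPt z) (ptPt z₂) (Subsingleton.elim _ _)
  -- step 2: transitivity
  let pair : Q₁ ⟶ X ⊗ X := lift (r₁ ≫ ptHom z ≫ fst X P) (r₂ ≫ ptHom z₂ ≫ fst X P)
  obtain ⟨w, hw⟩ := hΦ (pair.left s₁)
  obtain ⟨Q₂, t₁, t₂, s₂, ht₁, ht₂, ht⟩ := exists_common pair (lift a.act (snd G X)) s₁ w hw.symm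
  -- step 3: the point object
  let Q := ptObj s₂
  let j : Q ⟶ Q₂ := ptHom s₂
  let q : Q ⟶ P := j ≫ t₁ ≫ r₁ ≫ ptHom z ≫ snd X P
  have hq' : q = j ≫ t₁ ≫ r₂ ≫ ptHom z₂ ≫ snd X P := by
    change j ≫ t₁ ≫ r₁ ≫ ptHom z ≫ snd X P = _
    rw [hr]
  let b₁ : Q ⟶ X := j ≫ t₁ ≫ r₁ ≫ ptHom z ≫ fst X P
  let b₂ : Q ⟶ X := j ≫ t₁ ≫ r₂ ≫ ptHom z₂ ≫ fst X P
  let g : Q ⟶ G := j ≫ t₂ ≫ fst G X
  have hb₁ : lift g b₂ ≫ a.act = b₁ := by
    have e1 : t₁ ≫ r₁ ≫ ptHom z ≫ fst X P = t₂ ≫ a.act := by
      have := congrArg (· ≫ fst X X) ht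
      simpa [pair] using this
    have e2 : t₁ ≫ r₂ ≫ ptHom z₂ ≫ fst X P = t₂ ≫ snd G X := by
      have := congrArg (· ≫ snd X X) ht
      simpa [pair] using this
    change lift (j ≫ t₂ ≫ fst G X) (j ≫ t₁ ≫ r₂ ≫ ptHom z₂ ≫ fst X P) ≫ a.act =
      j ≫ t₁ ≫ r₁ ≫ ptHom z ≫ fst X P
    rw [e1, e2, ← comp_lift, ← comp_lift, Category.assoc, Category.assoc]
    congr 2
    have : lift (fst G X) (snd G X) = 𝟙 (G ⊗ X) := by
      apply CartesianMonoidalCategory.hom_ext <;> simp
    rw [this, Category.id_comp]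
  have hirr : IrreducibleSpace ↥Q.left :=
    inferInstanceAs (IrreducibleSpace ↥(Spec (Q₂.left.residueField s₂)))
  have hgi : GeometricallyIrreducible q.left :=
    Groth.Agent.Lib.AlgClosedGeom.geometricallyIrreducible_of_irreducibleSpace (k := Ω) q.left
  have huo : UniversallyOpen q.left := by
    have h1 : IsIntegral (Spec (CommRingCat.of Ω)) := inferInstance
    have h2 : Subsingleton ↥(Spec (CommRingCat.of Ω)) :=
      inferInstanceAs (Subsingleton (PrimeSpectrum Ω))
    exact inferInstanceAs (UniversallyOpen (Y := Spec (CommRingCat.of Ω)) q.left)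
  -- the two points
  have hz : (lift b₁ q).left (ptPt s₂) = z := by
    have e : lift b₁ q = j ≫ t₁ ≫ r₁ ≫ ptHom z := by
      apply CartesianMonoidalCategory.hom_ext
      · simp [b₁]
      · simp [q]
    rw [e, comp_left_apply, comp_left_apply, comp_left_apply, ptHom_left_apply]
  have hz₂' : (lift b₂ q).left (ptPt s₂) = z₂ := by
    have e : lift b₂ q = j ≫ t₁ ≫ r₂ ≫ ptHom z₂ := by
      apply CartesianMonoidalCategory.hom_ext
      · simp [b₂]
      · rw [lift_snd, hq']; simp
    rw [e, comp_left_apply, comp_left_apply, comp_left_apply, ptHom_left_apply]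
  have key := uniqueComp_iff_of_act a q g b₂ (ptPt s₂)
  rw [hb₁, hz, hz₂'] at key
  exact key.mp hz₂

/-- **Every point of `X_K`, `K` any field extension, lies on exactly one irreducible component.** -/
theorem uniqueComp_of_field {K : Type u} [Field K]
    (φ : Spec (CommRingCat.of K) ⟶ Spec (CommRingCat.of k)) (z : (X ⊗ Over.mk φ).left) :
    UniqueComp z := by
  let ψ : Spec (CommRingCat.of (AlgebraicClosure K)) ⟶ Spec (CommRingCat.of K) :=
    Spec.map (CommRingCat.ofHom (algebraMap K (AlgebraicClosure K)))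
  let ω : Over.mk (ψ ≫ φ) ⟶ Over.mk φ := Over.homMk ψ rfl
  have hsq := (Groth.Agent.Lib.ActOpen18.isPullback_whiskerLeft_snd X ω).flip
  have hfl : Flat ψ := inferInstance
  have hsu : Surjective ψ := inferInstance
  have h1 : Flat (X ◁ ω).left := MorphismProperty.of_isPullback (P := @Flat) hsq hfl
  have h2 : Surjective (X ◁ ω).left := MorphismProperty.of_isPullback (P := @Surjective) hsq hsu
  obtain ⟨z', rfl⟩ := (X ◁ ω).left.surjective z
  exact (uniqueComp_of_isAlgClosed a hΦ (ψ ≫ φ) z').of_generalizingMap (X ◁ ω).left.continuous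
    (Flat.generalizingMap _)

/-- Every point of a homogeneous space lies on exactly one irreducible component. -/
theorem uniqueComp (x : X.left) : UniqueComp x := by
  let P : Over (Spec (CommRingCat.of k)) := Over.mk (𝟙 (Spec (CommRingCat.of k)))
  have hiso : IsIso (fst X P).left := by
    change IsIso (pullback.fst X.hom (𝟙 _))
    infer_instance
  obtain ⟨z, rfl⟩ := (fst X P).left.homeomorph.surjective x
  have := uniqueComp_of_field a hΦ (𝟙 (Spec (CommRingCat.of k))) z
  exact (uniqueComp_iff_of_homeomorph (fst X P).left.homeomorph z).mp this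

end main

end Groth.Agent.Lib.HomogUC45
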