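import Mathlib.CategoryTheory.Triangulated.Subcategory
import Mathlib.CategoryTheory.Triangulated.HomologicalFunctor

/-!
Objects on which a homological functor vanishes in a range of shifts: a general statement
covering "bounded below" and "bounded above".
-/

set_option autoImplicit false
set_option linter.unusedSectionVars false
universe v u v' u'
open CategoryTheory CategoryTheory.Limits CategoryTheory.Pretriangulated ZeroObject

namespace Groth.Agent.Lib.HomologicalBounded

variable {D : Type u} [Category.{v} D] [Preadditive D] [HasZeroObject D] [HasShift D ℤ]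
  [∀ n : ℤ, (shiftFunctor D n).Additive] [Pretriangulated D]
  {A : Type u'} [Category.{v'} A] [Abelian A] (H : D ⥤ A) [H.IsHomological]

/-- The objects `X` such that `H (X⟦n⟧) = 0` for all `n` in the range `Q N` for some `N`. -/
def bdd (Q : ℤ → ℤ → Prop) : ObjectProperty D :=
  fun X => ∃ N : ℤ, ∀ n : ℤ, Q N n → IsZero (H.obj ((shiftFunctor D n).obj X))

variable (Q : ℤ → ℤ → Prop)

theorem bdd_isClosedUnderIsomorphisms : (bdd H Q).IsClosedUnderIsomorphisms where
  of_iso e hX := by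
    obtain ⟨N, hN⟩ := hX
    exact ⟨N, fun n hn => (hN n hn).of_iso ((shiftFunctor D n ⋙ H).mapIso e.symm)⟩

theorem bdd_isTriangulated
    (hshift : ∀ a N : ℤ, ∃ N' : ℤ, ∀ n : ℤ, Q N' n → Q N (a + n))
    (hinf : ∀ N₁ N₃ : ℤ, ∃ N : ℤ, ∀ n : ℤ, Q N n → Q N₁ n ∧ Q N₃ n) :
    (bdd H Q).IsTriangulated := by
  have := bdd_isClosedUnderIsomorphisms H Q
  exact
    { exists_zero := ⟨0, isZero_zero D, 0,
        fun n _ => (shiftFunctor D n ⋙ H).map_isZero (isZero_zero D)⟩
      toIsStableUnderShift := ⟨fun a => ⟨fun X hX => by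
        obtain ⟨N, hN⟩ := hX
        obtain ⟨N', hN'⟩ := hshift a N
        exact ⟨N', fun n hn => (hN (a + n) (hN' n hn)).of_iso
          (H.mapIso ((shiftFunctorAdd D a n).app X).symm)⟩⟩⟩
      toIsTriangulatedClosed₂ :=
        ObjectProperty.IsTriangulatedClosed₂.mk' (fun T hT h₁ h₃ => by
          obtain ⟨N₁, hN₁⟩ := h₁
          obtain ⟨N₃, hN₃⟩ := h₃
          obtain ⟨N, hN⟩ := hinf N₁ N₃
          exact ⟨N, fun n hn => (H.map_distinguished_exact _
            (Triangle.shift_distinguished T hT n)).isZero_of_both_zeros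
              ((hN₁ n (hN n hn).1).eq_of_src _ _) ((hN₃ n (hN n hn).2).eq_of_tgt _ _)⟩) }

theorem bdd_saturated (X Y : D) (h : bdd H Q (X ⊞ Y)) : bdd H Q X ∧ bdd H Q Y := by
  obtain ⟨N, hN⟩ := h
  refine ⟨⟨N, fun n hn => ?_⟩, ⟨N, fun n hn => ?_⟩⟩
  · rw [IsZero.iff_id_eq_zero]
    have : 𝟙 ((shiftFunctor D n ⋙ H).obj X) =
        (shiftFunctor D n ⋙ H).map (biprod.inl : X ⟶ X ⊞ Y) ≫
          (shiftFunctor D n ⋙ H).map (biprod.fst : X ⊞ Y ⟶ X) := by
      rw [← CategoryTheory.Functor.map_comp, biprod.inl_fst, CategoryTheory.Functor.map_id]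
    exact this.trans (by
      rw [(hN n hn).eq_of_tgt ((shiftFunctor D n ⋙ H).map (biprod.inl : X ⟶ X ⊞ Y)) 0, zero_comp])
  · rw [IsZero.iff_id_eq_zero]
    have : 𝟙 ((shiftFunctor D n ⋙ H).obj Y) =
        (shiftFunctor D n ⋙ H).map (biprod.inr : Y ⟶ X ⊞ Y) ≫
          (shiftFunctor D n ⋙ H).map (biprod.snd : X ⊞ Y ⟶ Y) := by
      rw [← CategoryTheory.Functor.map_comp, biprod.inr_snd, CategoryTheory.Functor.map_id]
    exact this.trans (by
      rw [(hN n hn).eq_of_tgt ((shiftFunctor D n ⋙ H).map (biprod.inr : Y ⟶ X ⊞ Y)) 0, zero_comp])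

end Groth.Agent.Lib.HomologicalBounded
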