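import Mathlib.CategoryTheory.Triangulated.HomologicalFunctor
import Mathlib.CategoryTheory.Abelian.DiagramLemmas.Four

/-!
# Four lemmas for the long exact sequences of a homological functor

For a morphism of distinguished triangles `φ : T ⟶ T'` and a homological functor `F` with a shift
sequence, conditions on `F_n(φ.hom₁)`, `F_n(φ.hom₂)` ensuring that `F_n(φ.hom₃)` is epi / mono.
-/

set_option autoImplicit false

open CategoryTheory CategoryTheory.Limits Pretriangulated ComposableArrows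

namespace Groth.Agent.Lib.HomologicalFour

variable {C A : Type*} [Category C] [Category A] [HasShift C ℤ] [HasZeroObject C] [Preadditive C]
  [∀ n : ℤ, (shiftFunctor C n).Additive] [Pretriangulated C] [Abelian A]
  (F : C ⥤ A) [F.IsHomological] [F.ShiftSequence ℤ]
  {T T' : Triangle C} (hT : T ∈ distTriang C) (hT' : T' ∈ distTriang C) (φ : T ⟶ T')

include hT hT' in
theorem epi_shift_map_hom₃ (n₀ n₁ : ℤ) (h : n₀ + 1 = n₁)
    (h2 : Epi ((F.shift n₀).map φ.hom₂)) (h1 : Epi ((F.shift n₁).map φ.hom₁))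
    (h2' : Mono ((F.shift n₁).map φ.hom₂)) : Epi ((F.shift n₀).map φ.hom₃) := by
  let R₁ : ComposableArrows A 3 := mk₃ ((F.shift n₀).map T.mor₂) (F.homologySequenceδ T n₀ n₁ h)
    ((F.shift n₁).map T.mor₁)
  let R₂ : ComposableArrows A 3 := mk₃ ((F.shift n₀).map T'.mor₂)
    (F.homologySequenceδ T' n₀ n₁ h) ((F.shift n₁).map T'.mor₁)
  let ψ : R₁ ⟶ R₂ := homMk₃ ((F.shift n₀).map φ.hom₂) ((F.shift n₀).map φ.hom₃)
    ((F.shift n₁).map φ.hom₁) ((F.shift n₁).map φ.hom₂)
    (by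
      change (F.shift n₀).map T.mor₂ ≫ (F.shift n₀).map φ.hom₃ =
        (F.shift n₀).map φ.hom₂ ≫ (F.shift n₀).map T'.mor₂
      rw [← Functor.map_comp, ← Functor.map_comp, φ.comm₂])
    (by
      change F.homologySequenceδ T n₀ n₁ h ≫ (F.shift n₁).map φ.hom₁ =
        (F.shift n₀).map φ.hom₃ ≫ F.homologySequenceδ T' n₀ n₁ h
      exact (F.homologySequenceδ_naturality T T' φ n₀ n₁ h).symm)
    (by
      change (F.shift n₁).map T.mor₁ ≫ (F.shift n₁).map φ.hom₂ =
        (F.shift n₁).map φ.hom₁ ≫ (F.shift n₁).map T'.mor₁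
      rw [← Functor.map_comp, ← Functor.map_comp, φ.comm₁])
  exact Abelian.epi_of_epi_of_epi_of_mono' ψ
    (F.homologySequence_exact₁ T hT n₀ n₁ h).exact_toComposableArrows
    (F.homologySequence_exact₃ T' hT' n₀ n₁ h).exact_toComposableArrows
    (F.homologySequenceδ_comp T' hT' n₀ n₁ h) h2 h1 h2'

include hT hT' in
theorem mono_shift_map_hom₃ (n₀ n₁ : ℤ) (h : n₀ + 1 = n₁)
    (h1 : Epi ((F.shift n₀).map φ.hom₁)) (h2 : Mono ((F.shift n₀).map φ.hom₂))
    (h1' : Mono ((F.shift n₁).map φ.hom₁)) : Mono ((F.shift n₀).map φ.hom₃) := by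
  let R₁ : ComposableArrows A 3 := mk₃ ((F.shift n₀).map T.mor₁) ((F.shift n₀).map T.mor₂)
    (F.homologySequenceδ T n₀ n₁ h)
  let R₂ : ComposableArrows A 3 := mk₃ ((F.shift n₀).map T'.mor₁) ((F.shift n₀).map T'.mor₂)
    (F.homologySequenceδ T' n₀ n₁ h)
  let ψ : R₁ ⟶ R₂ := homMk₃ ((F.shift n₀).map φ.hom₁) ((F.shift n₀).map φ.hom₂)
    ((F.shift n₀).map φ.hom₃) ((F.shift n₁).map φ.hom₁)
    (by
      change (F.shift n₀).map T.mor₁ ≫ (F.shift n₀).map φ.hom₂ =
        (F.shift n₀).map φ.hom₁ ≫ (F.shift n₀).map T'.mor₁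
      rw [← Functor.map_comp, ← Functor.map_comp, φ.comm₁])
    (by
      change (F.shift n₀).map T.mor₂ ≫ (F.shift n₀).map φ.hom₃ =
        (F.shift n₀).map φ.hom₂ ≫ (F.shift n₀).map T'.mor₂
      rw [← Functor.map_comp, ← Functor.map_comp, φ.comm₂])
    (by
      change F.homologySequenceδ T n₀ n₁ h ≫ (F.shift n₁).map φ.hom₁ =
        (F.shift n₀).map φ.hom₃ ≫ F.homologySequenceδ T' n₀ n₁ h
      exact (F.homologySequenceδ_naturality T T' φ n₀ n₁ h).symm)
  exact Abelian.mono_of_epi_of_mono_of_mono' ψ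
    (F.homologySequence_comp T hT n₀)
    (F.homologySequence_exact₃ T hT n₀ n₁ h).exact_toComposableArrows
    (F.homologySequence_exact₂ T' hT' n₀).exact_toComposableArrows h1 h2 h1'

end Groth.Agent.Lib.HomologicalFour
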