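import Mathlib
import Groth.Agent.Lib.Hopf99c

set_option autoImplicit false
universe u v

namespace Groth.Agent.Lib.Hopf99

/-- **Hopf lemma**: a 1-generic bilinear map `U × V → W` of finite-dimensional spaces over an
algebraically closed field, `U, V ≠ 0`, satisfies `dim U + dim V ≤ dim W + 1`. -/
theorem hopf_bilin (k : Type u) [Field k] [IsAlgClosed k]
    (U : Type*) (V : Type*) (W : Type*) [AddCommGroup U] [Module k U] [AddCommGroup V] [Module k V]
    [AddCommGroup W] [Module k W]
    [Module.Finite k U] [Module.Finite k V] [Module.Finite k W] [Nontrivial U] [Nontrivial V]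
    (φ : U →ₗ[k] V →ₗ[k] W) (hφ : ∀ (a : U) (b : V), a ≠ 0 → b ≠ 0 → φ a b ≠ 0) :
    Module.finrank k U + Module.finrank k V ≤ Module.finrank k W + 1 := by
  classical
  let bU := Module.finBasis k U
  let bV := Module.finBasis k V
  let bW := Module.finBasis k W
  refine hopf_coord (k := k) Module.finrank_pos Module.finrank_pos
    (fun l i j => bW.repr (φ (bU i) (bV j)) l) ?_
  intro x y hxy
  have hexp : φ (bU.equivFun.symm x) (bV.equivFun.symm y) =
      ∑ i, ∑ j, (x i * y j) • φ (bU i) (bV j) := by
    rw [Module.Basis.equivFun_symm_apply, Module.Basis.equivFun_symm_apply]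
    simp only [map_sum, map_smul, LinearMap.sum_apply, LinearMap.smul_apply, Finset.smul_sum,
      smul_smul]
    rw [Finset.sum_comm]
    refine Finset.sum_congr rfl fun i _ => Finset.sum_congr rfl fun j _ => ?_
    rw [mul_comm]
  have hzero : φ (bU.equivFun.symm x) (bV.equivFun.symm y) = 0 := by
    apply bW.repr.injective
    ext l
    rw [hexp]
    simp only [map_sum, map_smul, Finsupp.coe_finsetSum, Finset.sum_apply, Finsupp.coe_smul,
      Pi.smul_apply, smul_eq_mul, map_zero, Finsupp.coe_zero, Pi.zero_apply]
    rw [← hxy l]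
    refine Finset.sum_congr rfl fun i _ => Finset.sum_congr rfl fun j _ => ?_
    ring
  by_contra hcon
  push Not at hcon
  refine hφ _ _ ?_ ?_ hzero
  · intro h
    exact hcon.1 (by simpa using (LinearEquiv.map_eq_zero_iff _).mp h)
  · intro h
    exact hcon.2 (by simpa using (LinearEquiv.map_eq_zero_iff _).mp h)

end Groth.Agent.Lib.Hopf99
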