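import Groth.Agent.Lib.Cartier38c
import Groth.Agent.Lib.AlgClosedTensor2
import Groth.Agent.Lib.GITPts38
import Mathlib.RingTheory.Ideal.AssociatedPrime.Basic
import Mathlib.RingTheory.Ideal.AssociatedPrime.Finiteness
import Mathlib.RingTheory.Filtration

set_option autoImplicit false
set_option linter.unusedSectionVars false
universe u v
open TensorProduct

namespace Groth.Agent.Lib.HopfConn38
open Groth.Agent.Lib.Cartier38

section MinPrime
variable {k : Type u} [Field k] [IsAlgClosed k] {A : Type u} [CommRing A] [HopfAlgebra k A]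

/-- the projection `(A/𝔭₁) ⊗ (A/𝔭₂) → A/𝔭₁` through the counit undoes the comultiplication -/
theorem ker_comul_le_left {𝔭₁ 𝔭₂ : Ideal A}
    (hle₂ : 𝔭₂ ≤ RingHom.ker (Bialgebra.counitAlgHom k A)) (a : A)
    (ha : (Algebra.TensorProduct.map (Ideal.Quotient.mkₐ k 𝔭₁) (Ideal.Quotient.mkₐ k 𝔭₂))
      (Bialgebra.comulAlgHom k A a) = 0) : a ∈ 𝔭₁ := by
  let ε₂ : A ⧸ 𝔭₂ →ₐ[k] k := Ideal.Quotient.liftₐ 𝔭₂ (Bialgebra.counitAlgHom k A)
    (fun a ha => hle₂ ha)
  let π₁ : (A ⧸ 𝔭₁) ⊗[k] (A ⧸ 𝔭₂) →ₐ[k] A ⧸ 𝔭₁ :=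
    (Algebra.TensorProduct.rid k k (A ⧸ 𝔭₁)).toAlgHom.comp
      (Algebra.TensorProduct.map (AlgHom.id k _) ε₂)
  have key : ∀ t : A ⊗[k] A,
      π₁ ((Algebra.TensorProduct.map (Ideal.Quotient.mkₐ k 𝔭₁) (Ideal.Quotient.mkₐ k 𝔭₂)) t) =
      Ideal.Quotient.mk 𝔭₁ ((TensorProduct.rid k A)
        ((CoalgebraStruct.counit (R := k) (A := A)).lTensor A t)) := by
    intro t
    induction t using TensorProduct.induction_on with
    | zero => simp
    | add x y hx hy => simp only [map_add, hx, hy]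
    | tmul x y =>
      simp [π₁, ε₂, Algebra.smul_def]
  have h1 := key (Bialgebra.comulAlgHom k A a)
  rw [ha, map_zero] at h1
  have h2 : (CoalgebraStruct.counit (R := k) (A := A)).lTensor A
      (CoalgebraStruct.comul (R := k) a) = a ⊗ₜ[k] (1 : k) := Coalgebra.lTensor_counit_comul a
  have h3 : (Bialgebra.comulAlgHom k A a) = CoalgebraStruct.comul (R := k) a := rfl
  rw [h3, h2, TensorProduct.rid_tmul, one_smul] at h1
  exact Ideal.Quotient.eq_zero_iff_mem.1 h1.symm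

theorem ker_comul_le_right {𝔭₁ 𝔭₂ : Ideal A}
    (hle₁ : 𝔭₁ ≤ RingHom.ker (Bialgebra.counitAlgHom k A)) (a : A)
    (ha : (Algebra.TensorProduct.map (Ideal.Quotient.mkₐ k 𝔭₁) (Ideal.Quotient.mkₐ k 𝔭₂))
      (Bialgebra.comulAlgHom k A a) = 0) : a ∈ 𝔭₂ := by
  let ε₁ : A ⧸ 𝔭₁ →ₐ[k] k := Ideal.Quotient.liftₐ 𝔭₁ (Bialgebra.counitAlgHom k A)
    (fun a ha => hle₁ ha)
  let π₂ : (A ⧸ 𝔭₁) ⊗[k] (A ⧸ 𝔭₂) →ₐ[k] A ⧸ 𝔭₂ :=
    (Algebra.TensorProduct.lid k (A ⧸ 𝔭₂)).toAlgHom.comp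
      (Algebra.TensorProduct.map ε₁ (AlgHom.id k _))
  have key : ∀ t : A ⊗[k] A,
      π₂ ((Algebra.TensorProduct.map (Ideal.Quotient.mkₐ k 𝔭₁) (Ideal.Quotient.mkₐ k 𝔭₂)) t) =
      Ideal.Quotient.mk 𝔭₂ ((TensorProduct.lid k A)
        ((CoalgebraStruct.counit (R := k) (A := A)).rTensor A t)) := by
    intro t
    induction t using TensorProduct.induction_on with
    | zero => simp
    | add x y hx hy => simp only [map_add, hx, hy]
    | tmul x y =>
      simp [π₂, ε₁, Algebra.smul_def]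
  have h1 := key (Bialgebra.comulAlgHom k A a)
  rw [ha, map_zero] at h1
  have h2 : (CoalgebraStruct.counit (R := k) (A := A)).rTensor A
      (CoalgebraStruct.comul (R := k) a) = (1 : k) ⊗ₜ[k] a := Coalgebra.rTensor_counit_comul a
  have h3 : (Bialgebra.comulAlgHom k A a) = CoalgebraStruct.comul (R := k) a := rfl
  rw [h3, h2, TensorProduct.lid_tmul, one_smul] at h1
  exact Ideal.Quotient.eq_zero_iff_mem.1 h1.symm

/-- at most one irreducible component passes through the identity -/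
theorem minimalPrime_unique_of_le_augI {𝔭₁ 𝔭₂ : Ideal A} (h₁ : 𝔭₁ ∈ minimalPrimes A)
    (h₂ : 𝔭₂ ∈ minimalPrimes A) (hle₁ : 𝔭₁ ≤ RingHom.ker (Bialgebra.counitAlgHom k A))
    (hle₂ : 𝔭₂ ≤ RingHom.ker (Bialgebra.counitAlgHom k A)) : 𝔭₁ = 𝔭₂ := by
  have hp1 : 𝔭₁.IsPrime := h₁.1.1
  have hp2 : 𝔭₂.IsPrime := h₂.1.1
  have : IsDomain ((A ⧸ 𝔭₁) ⊗[k] (A ⧸ 𝔭₂)) :=
    Groth.Agent.Lib.AlgClosedTensor2.isDomain_tensorProduct
  let δ : A →ₐ[k] (A ⧸ 𝔭₁) ⊗[k] (A ⧸ 𝔭₂) :=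
    (Algebra.TensorProduct.map (Ideal.Quotient.mkₐ k 𝔭₁) (Ideal.Quotient.mkₐ k 𝔭₂)).comp
      (Bialgebra.comulAlgHom k A)
  have hq : (RingHom.ker δ).IsPrime := RingHom.ker_isPrime δ
  have hq1 : RingHom.ker δ ≤ 𝔭₁ := fun a ha => ker_comul_le_left hle₂ a ha
  have hq2 : RingHom.ker δ ≤ 𝔭₂ := fun a ha => ker_comul_le_right hle₁ a ha
  have e1 : 𝔭₁ ≤ RingHom.ker δ := h₁.2 ⟨hq, bot_le⟩ hq1
  have e2 : 𝔭₂ ≤ RingHom.ker δ := h₂.2 ⟨hq, bot_le⟩ hq2
  exact le_antisymm (e1.trans hq2) (e2.trans hq1)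

end MinPrime

section Transl
variable {k : Type u} [Field k] [IsAlgClosed k] {A : Type u} [CommRing A] [HopfAlgebra k A]

omit [IsAlgClosed k] in
/-- rational points are permuted transitively by translations -/
theorem exists_algEquiv_apply_eq_zero_iff (g h : A →ₐ[k] k) :
    ∃ τ : A ≃ₐ[k] A, ∀ a : A, g a = 0 ↔ h (τ a) = 0 := by
  refine ⟨(translate g).trans (translate h).symm, fun a => ?_⟩
  rw [← counit_translate g a, ← counit_translate h ((translate g).trans (translate h).symm a),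
    AlgEquiv.trans_apply, AlgEquiv.apply_symm_apply]

omit [IsAlgClosed k] [HopfAlgebra k A] in
/-- minimal primes are permuted by automorphisms -/
theorem comap_symm_mem_minimalPrimes [Algebra k A] (τ : A ≃ₐ[k] A) {𝔭 : Ideal A}
    (h : 𝔭 ∈ minimalPrimes A) :
    Ideal.comap (τ.symm : A →+* A) 𝔭 ∈ minimalPrimes A := by
  have hp : 𝔭.IsPrime := h.1.1
  refine ⟨⟨Ideal.comap_isPrime _ _, bot_le⟩, ?_⟩
  rintro q ⟨hq, -⟩ hle
  have h1 : Ideal.comap (τ : A →+* A) q ≤ 𝔭 := by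
    intro a ha
    have := hle (Ideal.mem_comap.1 ha)
    rw [Ideal.mem_comap] at this
    simpa using this
  have h2 := h.2 ⟨Ideal.comap_isPrime _ _, bot_le⟩ h1
  intro a ha
  rw [Ideal.mem_comap] at ha
  have := h2 ha
  rw [Ideal.mem_comap] at this
  simpa using this

/-- every rational point lies on exactly one irreducible component -/
theorem minimalPrime_unique_of_le_ker (g : A →ₐ[k] k) {𝔭₁ 𝔭₂ : Ideal A}
    (h₁ : 𝔭₁ ∈ minimalPrimes A) (h₂ : 𝔭₂ ∈ minimalPrimes A)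
    (hle₁ : 𝔭₁ ≤ RingHom.ker g) (hle₂ : 𝔭₂ ≤ RingHom.ker g) : 𝔭₁ = 𝔭₂ := by
  let τ := translate g
  have hle : ∀ 𝔭 : Ideal A, 𝔭 ≤ RingHom.ker g →
      Ideal.comap (τ.symm : A →+* A) 𝔭 ≤ RingHom.ker (Bialgebra.counitAlgHom k A) := by
    intro 𝔭 h𝔭 a ha
    rw [Ideal.mem_comap] at ha
    have := h𝔭 ha
    rw [RingHom.mem_ker] at this ⊢
    have e := counit_translate g (τ.symm a)
    rw [show translate g (τ.symm a) = a from τ.apply_symm_apply a] at e
    show CoalgebraStruct.counit (R := k) a = 0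
    rw [e]
    exact this
  have := minimalPrime_unique_of_le_augI (comap_symm_mem_minimalPrimes τ h₁)
    (comap_symm_mem_minimalPrimes τ h₂) (hle _ hle₁) (hle _ hle₂)
  ext a
  have e := SetLike.ext_iff.1 this (τ a)
  rw [Ideal.mem_comap, Ideal.mem_comap] at e
  simpa using e

variable [Algebra.FiniteType k A]

include k in
/-- distinct irreducible components are disjoint -/
theorem sup_eq_top_of_ne {𝔭₁ 𝔭₂ : Ideal A} (h₁ : 𝔭₁ ∈ minimalPrimes A)
    (h₂ : 𝔭₂ ∈ minimalPrimes A) (hne : 𝔭₁ ≠ 𝔭₂) : 𝔭₁ ⊔ 𝔭₂ = ⊤ := by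
  by_contra htop
  obtain ⟨g, hg⟩ := Groth.Agent.Lib.Cartier38.exists_algHom_ker_ge (k := k) _ htop
  exact hne (minimalPrime_unique_of_le_ker g h₁ h₂ (le_sup_left.trans hg) (le_sup_right.trans hg))

include k in
/-- a connected affine algebraic group has a unique irreducible component -/
theorem minimalPrimes_subsingleton (hconn : ∀ e : A, IsIdempotentElem e → e = 0 ∨ e = 1)
    {𝔭₁ 𝔭₂ : Ideal A} (h₁ : 𝔭₁ ∈ minimalPrimes A) (h₂ : 𝔭₂ ∈ minimalPrimes A) : 𝔭₁ = 𝔭₂ := by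
  classical
  have hAn : IsNoetherianRing A := Algebra.FiniteType.isNoetherianRing k A
  by_contra hne
  have hp1 : 𝔭₁.IsPrime := h₁.1.1
  have hp2 : 𝔭₂.IsPrime := h₂.1.1
  have hfin : (minimalPrimes A).Finite := minimalPrimes.finite_of_isNoetherianRing A
  let S : Finset (Ideal A) := hfin.toFinset.erase 𝔭₁
  let I₂ : Ideal A := ⨅ 𝔭 ∈ S, 𝔭
  have hsup : 𝔭₁ ⊔ I₂ = ⊤ := by
    apply Ideal.sup_iInf_eq_top
    intro 𝔭 h𝔭
    have h𝔭' := Finset.mem_erase.1 h𝔭
    exact sup_eq_top_of_ne (k := k) h₁ (hfin.mem_toFinset.1 h𝔭'.2) (Ne.symm h𝔭'.1)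
  have hI₂ : I₂ ≤ 𝔭₂ := by
    have : 𝔭₂ ∈ S := Finset.mem_erase.2 ⟨Ne.symm hne, hfin.mem_toFinset.2 h₂⟩
    exact iInf₂_le 𝔭₂ this
  have hinf : 𝔭₁ ⊓ I₂ ≤ nilradical A := by
    intro a ha
    rw [nilradical_eq_sInf, Ideal.mem_sInf]
    intro q hq
    have hqp : q.IsPrime := hq
    obtain ⟨𝔭, h𝔭min, h𝔭le⟩ := Ideal.exists_minimalPrimes_le (I := ⊥) (J := q) bot_le
    apply h𝔭le
    by_cases h𝔭1 : 𝔭 = 𝔭₁
    · rw [h𝔭1]; exact ha.1
    · have : 𝔭 ∈ S := Finset.mem_erase.2 ⟨h𝔭1, hfin.mem_toFinset.2 h𝔭min⟩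
      exact (iInf₂_le 𝔭 this : I₂ ≤ 𝔭) ha.2
  have h1 : (1 : A) ∈ 𝔭₁ ⊔ I₂ := hsup ▸ Submodule.mem_top
  obtain ⟨a, ha, b, hb, hab⟩ := Submodule.mem_sup.1 h1
  have hnil : IsNilpotent (a * b) :=
    hinf ⟨Ideal.mul_mem_right _ _ ha, Ideal.mul_mem_left _ _ hb⟩
  obtain ⟨N, hN⟩ := hnil
  have hcop : IsCoprime a b := ⟨1, 1, by rw [one_mul, one_mul]; exact hab⟩
  obtain ⟨u, v, huv⟩ := (hcop.pow (m := N + 1) (n := N + 1))
  have hidem : IsIdempotentElem (u * a ^ (N + 1)) := by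
    have hz : u * a ^ (N + 1) * (v * b ^ (N + 1)) = 0 := by
      have : u * a ^ (N + 1) * (v * b ^ (N + 1)) = u * v * (a * b) * (a * b) ^ N := by ring
      rw [this, hN, mul_zero]
    have h2 : v * b ^ (N + 1) = 1 - u * a ^ (N + 1) := by rw [← huv]; ring
    rw [h2, mul_sub, mul_one, sub_eq_zero] at hz
    exact hz.symm
  rcases hconn _ hidem with h0 | h1'
  · rw [h0, zero_add] at huv
    have : (1 : A) ∈ 𝔭₂ := by
      rw [← huv]
      exact Ideal.mul_mem_left _ _ (hI₂ (Ideal.pow_mem_of_mem _ hb _ (Nat.succ_pos N)))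
    exact hp2.ne_top ((Ideal.eq_top_iff_one _).2 this)
  · have : (1 : A) ∈ 𝔭₁ := by
      rw [← h1']
      exact Ideal.mul_mem_left _ _ (Ideal.pow_mem_of_mem _ ha _ (Nat.succ_pos N))
    exact hp1.ne_top ((Ideal.eq_top_iff_one _).2 this)

include k in
/-- the nilradical of a connected affine algebraic group is prime -/
theorem isPrime_nilradical (hconn : ∀ e : A, IsIdempotentElem e → e = 0 ∨ e = 1) :
    (nilradical A).IsPrime := by
  have hnt : Nontrivial A := by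
    refine ⟨⟨0, 1, fun h => ?_⟩⟩
    have := congrArg (Bialgebra.counitAlgHom k A) h
    rw [map_zero, map_one] at this
    exact zero_ne_one this
  obtain ⟨𝔭, h𝔭⟩ := Ideal.nonempty_minimalPrimes (I := (⊥ : Ideal A)) bot_ne_top
  have h𝔭' : 𝔭 ∈ minimalPrimes A := h𝔭
  have : nilradical A = 𝔭 := by
    rw [nilradical, ← Ideal.sInf_minimalPrimes]
    apply le_antisymm
    · exact sInf_le h𝔭
    · apply le_sInf
      intro q hq
      rw [minimalPrimes_subsingleton (k := k) hconn h𝔭' hq]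
  rw [this]
  exact h𝔭.1.1

end Transl

section Krull
variable {k : Type u} [Field k] [IsAlgClosed k] {A : Type u} [CommRing A] [HopfAlgebra k A]
  [Algebra.FiniteType k A]

omit [IsAlgClosed k] [HopfAlgebra k A] [Algebra.FiniteType k A] in
/-- associated primes are permuted by automorphisms -/
theorem comap_symm_mem_associatedPrimes [Algebra k A] [IsNoetherianRing A] (τ : A ≃ₐ[k] A)
    {𝔮 : Ideal A} (h : 𝔮 ∈ associatedPrimes A A) :
    Ideal.comap (τ.symm : A →+* A) 𝔮 ∈ associatedPrimes A A := by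
  rw [AssociatedPrimes.mem_iff, isAssociatedPrime_iff] at h ⊢
  obtain ⟨hq, x, hx⟩ := h
  refine ⟨Ideal.comap_isPrime _ _, τ x, ?_⟩
  ext r
  rw [Ideal.mem_comap, hx, Submodule.mem_colon_singleton, Submodule.mem_colon_singleton,
    Submodule.mem_bot, Submodule.mem_bot, smul_eq_mul, smul_eq_mul]
  constructor
  · intro h0
    have := congrArg τ h0
    rw [map_mul, map_zero] at this
    simpa using this
  · intro h0
    have := congrArg τ.symm h0
    rw [map_mul, map_zero] at this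
    simpa using this

include k in
/-- a connected affine algebraic group scheme has no embedded components -/
theorem associatedPrimes_subset (hconn : ∀ e : A, IsIdempotentElem e → e = 0 ∨ e = 1)
    {𝔮₀ : Ideal A} (h𝔮₀ : 𝔮₀ ∈ associatedPrimes A A) : 𝔮₀ = nilradical A := by
  classical
  have hAn : IsNoetherianRing A := Algebra.FiniteType.isNoetherianRing k A
  have hN : (nilradical A).IsPrime := isPrime_nilradical (k := k) hconn
  by_contra hne
  have hfin : (associatedPrimes A A).Finite := associatedPrimes.finite A A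
  let E : Finset (Ideal A) := hfin.toFinset.erase (nilradical A)
  have hE : ∀ 𝔮, 𝔮 ∈ E ↔ 𝔮 ∈ associatedPrimes A A ∧ 𝔮 ≠ nilradical A := by
    intro 𝔮
    rw [Finset.mem_erase, hfin.mem_toFinset, and_comm]
  have hJ : ¬ (E.inf id ≤ nilradical A) := by
    intro hle
    obtain ⟨𝔮, h𝔮E, h𝔮le⟩ := (Ideal.IsPrime.inf_le' hN).1 hle
    have h𝔮 := (hE 𝔮).1 h𝔮E
    have hp : 𝔮.IsPrime := h𝔮.1.isPrime
    exact h𝔮.2 (le_antisymm h𝔮le (nilradical_le_prime 𝔮))
  obtain ⟨f, hfJ, hfN⟩ := Set.not_subset.1 hJ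
  have hfnil : ¬ IsNilpotent f := hfN
  have hpt : ∃ g : A →ₐ[k] k, g f ≠ 0 := by
    by_contra hcon
    push Not at hcon
    exact hfnil (Groth.Agent.Lib.GITPts38.isNilpotent_of_forall_algHom_eq_zero f hcon)
  obtain ⟨g, hg⟩ := hpt
  have h𝔮₀p : 𝔮₀.IsPrime := (AssociatedPrimes.mem_iff.1 h𝔮₀).isPrime
  obtain ⟨h, hh⟩ := Groth.Agent.Lib.Cartier38.exists_algHom_ker_ge (k := k) 𝔮₀ h𝔮₀p.ne_top
  obtain ⟨τ, hτ⟩ := exists_algEquiv_apply_eq_zero_iff h g
  have h𝔮₁ := comap_symm_mem_associatedPrimes τ h𝔮₀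
  have h𝔮₁ne : Ideal.comap (τ.symm : A →+* A) 𝔮₀ ≠ nilradical A := by
    intro heq
    apply hne
    ext a
    have e := SetLike.ext_iff.1 heq (τ a)
    rw [Ideal.mem_comap] at e
    have e2 : (τ.symm : A →+* A) (τ a) = a := τ.symm_apply_apply a
    rw [e2] at e
    rw [e, mem_nilradical, mem_nilradical]
    constructor
    · intro hn
      have := hn.map τ.symm
      rwa [τ.symm_apply_apply] at this
    · intro hn
      exact hn.map τ
  have hmem : f ∈ Ideal.comap (τ.symm : A →+* A) 𝔮₀ := by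
    have : E.inf id ≤ Ideal.comap (τ.symm : A →+* A) 𝔮₀ :=
      Finset.inf_le (f := id) ((hE _).2 ⟨h𝔮₁, h𝔮₁ne⟩)
    exact this hfJ
  rw [Ideal.mem_comap] at hmem
  have h0 := hh hmem
  rw [RingHom.mem_ker] at h0
  have h1 := (hτ _).1 h0
  have e2 : τ ((τ.symm : A →+* A) f) = f := τ.apply_symm_apply f
  rw [e2] at h1
  exact hg h1

include k in
/-- elements which do not vanish at the identity are non-zero-divisors -/
theorem eq_zero_of_mul_eq_zero_of_counit_ne_zero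
    (hconn : ∀ e : A, IsIdempotentElem e → e = 0 ∨ e = 1) {s x : A}
    (hs : Bialgebra.counitAlgHom k A s ≠ 0) (hsx : s * x = 0) : x = 0 := by
  have hAn : IsNoetherianRing A := Algebra.FiniteType.isNoetherianRing k A
  by_contra hx
  obtain ⟨P, hP, hle⟩ := exists_le_isAssociatedPrime_of_isNoetherianRing A x hx
  have hPN := associatedPrimes_subset (k := k) hconn (AssociatedPrimes.mem_iff.2 hP)
  have hsP : s ∈ P := hle (by
    rw [Submodule.mem_colon_singleton, Submodule.mem_bot, smul_eq_mul]; exact hsx)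
  rw [hPN, mem_nilradical] at hsP
  have := hsP.map (Bialgebra.counitAlgHom k A)
  exact hs this.eq_zero

include k in
/-- **Krull intersection for connected affine algebraic group schemes.** -/
theorem iInf_pow_augI_eq_bot (hconn : ∀ e : A, IsIdempotentElem e → e = 0 ∨ e = 1) :
    (⨅ n : ℕ, RingHom.ker (Bialgebra.counitAlgHom k A) ^ n) = ⊥ := by
  have hAn : IsNoetherianRing A := Algebra.FiniteType.isNoetherianRing k A
  rw [eq_bot_iff]
  intro x hx
  have hx' : x ∈ (⨅ i : ℕ, RingHom.ker (Bialgebra.counitAlgHom k A) ^ i • ⊤ : Submodule A A) := by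
    convert hx using 2
    simp
  obtain ⟨r, hr⟩ := (Ideal.mem_iInf_smul_pow_eq_bot_iff _ x).1 hx'
  have hs : Bialgebra.counitAlgHom k A (1 - (r : A)) ≠ 0 := by
    rw [map_sub, map_one, (RingHom.mem_ker).1 r.2, sub_zero]
    exact one_ne_zero
  have hsx : (1 - (r : A)) * x = 0 := by
    rw [sub_mul, one_mul, sub_eq_zero]
    exact hr.symm
  rw [Submodule.mem_bot]
  exact eq_zero_of_mul_eq_zero_of_counit_ne_zero (k := k) hconn hs hsx

end Krull

end Groth.Agent.Lib.HopfConn38
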