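import Groth.Agent.Lib.ComodUnipBC41
import Mathlib.RingTheory.Localization.BaseChange
import Mathlib.RingTheory.Flat.TorsionFree
import Mathlib.RingTheory.DedekindDomain.Basic
import Mathlib.RingTheory.HopfAlgebra.TensorProduct
import Mathlib.RingTheory.HopfAlgebra.Quotient

/-!
# Hopf ideals of the generic fibre (helper41)

For a domain `R` with fraction field `K` and a flat commutative Hopf algebra `A` over `R`:
Hopf ideals of `K ⊗[R] A` correspond to Hopf ideals of `A` with `R`-flat (= torsion-free, when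
`R` is Dedekind) quotient, via extension and contraction along `A → K ⊗[R] A`.
-/

set_option autoImplicit false
set_option linter.unusedSectionVars false
universe u

open TensorProduct

namespace Groth.Agent.Lib.HopfDedekind41

open Groth.Agent.Lib.HopfPrim41 Groth.Agent.Lib.Comod

section General

variable {R : Type u} [CommRing R] (K : Type u) [CommRing K] [Algebra R K]
  {A : Type u} [CommRing A] [HopfAlgebra R A]

theorem bcIncl_injective {M : Type u} [CommRing M] [HopfAlgebra R M] [Module.Flat R M]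
    (hK : Function.Injective (algebraMap R K)) :
    Function.Injective (bcIncl (R := R) (H := M) K) := by
  have h1 : Function.Injective ((Algebra.linearMap R K).rTensor M) :=
    Module.Flat.rTensor_preserves_injective_linearMap _ hK
  have h2 : bcIncl (R := R) (H := M) K =
      (Algebra.linearMap R K).rTensor M ∘ₗ (TensorProduct.lid R M).symm.toLinearMap := by
    ext a
    simp
  rw [h2]
  exact h1.comp (TensorProduct.lid R M).symm.injective

/-- `a ↦ 1 ⊗ a` as a ring hom. -/
noncomputable abbrev incl : A →+* K ⊗[R] A :=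
  (Algebra.TensorProduct.includeRight : A →ₐ[R] K ⊗[R] A)

theorem incl_apply (a : A) : incl K a = (1 : K) ⊗ₜ[R] a := rfl

theorem counit_incl (a : A) :
    CoalgebraStruct.counit (R := K) ((1 : K) ⊗ₜ[R] a) =
      algebraMap R K (CoalgebraStruct.counit (R := R) a) := by
  rw [TensorProduct.counit_tmul, Algebra.algebraMap_eq_smul_one]
  rfl

theorem antipode_incl (a : A) :
    HopfAlgebraStruct.antipode K ((1 : K) ⊗ₜ[R] a) =
      (1 : K) ⊗ₜ[R] HopfAlgebraStruct.antipode R a := by
  rw [TensorProduct.antipode_def,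
    TensorProduct.AlgebraTensorModule.map_tmul]
  rfl

end General

section Key

variable {R : Type u} [CommRing R] [IsDomain R] (K : Type u) [Field K] [Algebra R K]
  [IsFractionRing R K] {A : Type u} [CommRing A] [HopfAlgebra R A]

/-- `A → (K ⊗ A) ⧸ I`. -/
noncomputable def toQ (I : Submodule K (K ⊗[R] A)) : A →ₗ[R] (K ⊗[R] A) ⧸ I :=
  (I.mkQ.restrictScalars R) ∘ₗ bcIncl K

theorem toQ_apply (I : Submodule K (K ⊗[R] A)) (a : A) :
    toQ K I a = I.mkQ ((1 : K) ⊗ₜ[R] a) := rfl

/-- Key identity: the `K`-bilinear reduction of `θ(1 ⊗ t)` modulo `I`, read over `R`, is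
`(toQ ⊗ toQ) t`. -/
theorem key (I : Submodule K (K ⊗[R] A)) (t : A ⊗[R] A) :
    IsLocalization.moduleTensorEquiv (nonZeroDivisors R) K ((K ⊗[R] A) ⧸ I) ((K ⊗[R] A) ⧸ I)
      (TensorProduct.map I.mkQ I.mkQ (theta K ((1 : K) ⊗ₜ[R] t))) =
    TensorProduct.map (toQ K I) (toQ K I) t := by
  induction t using TensorProduct.induction_on with
  | zero => simp
  | add a b ha hb => simp only [TensorProduct.tmul_add, map_add, ha, hb]
  | tmul a b =>
    rw [theta_tmul_tmul, TensorProduct.map_tmul, TensorProduct.map_tmul]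
    rfl

/-- Consequence: `(mkQ ⊗ mkQ)(Δ_K (1 ⊗ a)) = 0` iff `(toQ ⊗ toQ)(Δ a) = 0`. -/
theorem map_mkQ_comul_incl_eq_zero_iff (I : Submodule K (K ⊗[R] A)) (a : A) :
    TensorProduct.map I.mkQ I.mkQ (CoalgebraStruct.comul (R := K) ((1 : K) ⊗ₜ[R] a)) = 0 ↔
      TensorProduct.map (toQ K I) (toQ K I) (CoalgebraStruct.comul (R := R) a) = 0 := by
  rw [← key, comul_eq_theta, LinearMap.lTensor_tmul]
  exact (LinearEquiv.map_eq_zero_iff _).symm

/-- Every element of `K ⊗ A` becomes of the form `1 ⊗ a` after multiplying by a nonzero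
element of `R`. -/
theorem exists_smul_eq (x : K ⊗[R] A) :
    ∃ s : nonZeroDivisors R, ∃ a : A, (s : R) • x = (1 : K) ⊗ₜ[R] a := by
  obtain ⟨⟨a, s⟩, h⟩ := IsLocalizedModule.surj (nonZeroDivisors R) (TensorProduct.mk R K A 1) x
  exact ⟨s, a, h⟩

theorem flat_quotient_of_field (I : Submodule K (K ⊗[R] A)) :
    Module.Flat R ((K ⊗[R] A) ⧸ I) := by
  have h1 : Module.Flat R K := IsLocalization.flat K (nonZeroDivisors R)
  exact Module.Flat.trans R K _

/-- `K`-scalar multiples stay in an ideal of `K ⊗ A`. -/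
theorem smul_mem_ideal (J : Ideal (K ⊗[R] A)) (c : K) {x : K ⊗[R] A} (hx : x ∈ J) :
    c • x ∈ J := by
  have : ∀ x : K ⊗[R] A, c • x = (c ⊗ₜ[R] (1 : A)) * x := by
    intro x
    induction x using TensorProduct.induction_on with
    | zero => simp
    | add a b ha hb => rw [smul_add, mul_add, ha, hb]
    | tmul d a =>
      rw [Algebra.TensorProduct.tmul_mul_tmul, one_mul, TensorProduct.smul_tmul', smul_eq_mul]
  rw [this x]
  exact J.mul_mem_left _ hx

theorem smul_R_mem_ideal (J : Ideal (K ⊗[R] A)) (r : R) {x : K ⊗[R] A} (hx : x ∈ J) :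
    r • x ∈ J := by
  rw [← algebraMap_smul K r x]
  exact smul_mem_ideal K J _ hx

/-- If `r • x ∈ J` with `r ≠ 0` then `x ∈ J`. -/
theorem mem_of_smul_mem (J : Ideal (K ⊗[R] A)) (s : nonZeroDivisors R) {x : K ⊗[R] A}
    (hx : (s : R) • x ∈ J) : x ∈ J := by
  have hs : algebraMap R K (s : R) ≠ 0 :=
    IsFractionRing.to_map_ne_zero_of_mem_nonZeroDivisors s.2
  have h1 := smul_mem_ideal K J (algebraMap R K (s : R))⁻¹ hx
  rwa [← algebraMap_smul K (s : R) x, smul_smul, inv_mul_cancel₀ hs, one_smul] at h1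

/-- Extension of the contraction of an ideal of `K ⊗ A` is the ideal itself. -/
theorem map_comap_incl (J : Ideal (K ⊗[R] A)) : (J.comap (incl K)).map (incl K) = J := by
  apply le_antisymm Ideal.map_comap_le
  intro x hx
  obtain ⟨s, a, hsa⟩ := exists_smul_eq K x
  have ha : a ∈ J.comap (incl K) := by
    show (1 : K) ⊗ₜ[R] a ∈ J
    rw [← hsa]
    exact smul_R_mem_ideal K J _ hx
  have h1 : (1 : K) ⊗ₜ[R] a ∈ (J.comap (incl K)).map (incl K) := Ideal.mem_map_of_mem _ ha
  rw [← hsa] at h1
  exact mem_of_smul_mem K _ s h1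

/-- The quotient of `A` by the contraction of an ideal of `K ⊗ A` is `R`-torsion-free. -/
theorem torsion_quotient_comap (J : Ideal (K ⊗[R] A)) :
    Submodule.torsion R (A ⧸ J.comap (incl K)) = ⊥ := by
  rw [eq_bot_iff]
  intro y hy
  rw [Submodule.mem_torsion_iff] at hy
  obtain ⟨s, hs⟩ := hy
  obtain ⟨a, rfl⟩ := Ideal.Quotient.mk_surjective y
  rw [Submodule.mem_bot, Ideal.Quotient.eq_zero_iff_mem]
  have h1 : (s : R) • a ∈ J.comap (incl K) := by
    rw [← Ideal.Quotient.eq_zero_iff_mem]
    exact hs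
  show (1 : K) ⊗ₜ[R] a ∈ J
  apply mem_of_smul_mem K J s
  have h2 : (1 : K) ⊗ₜ[R] ((s : R) • a) ∈ J := h1
  rwa [TensorProduct.tmul_smul] at h2

/-- The induced injection `A ⧸ J' → (K ⊗ A) ⧸ J`, `J' = J ∩ A`. -/
noncomputable def quotIncl (J : Ideal (K ⊗[R] A)) :
    (A ⧸ (J.comap (incl K)).restrictScalars R) →ₗ[R] (K ⊗[R] A) ⧸ J.restrictScalars K :=
  ((J.comap (incl K)).restrictScalars R).liftQ (toQ K (J.restrictScalars K)) (by
    intro a ha
    rw [LinearMap.mem_ker, toQ_apply, Submodule.mkQ_apply, Submodule.Quotient.mk_eq_zero]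
    exact ha)

theorem quotIncl_comp_mkQ (J : Ideal (K ⊗[R] A)) :
    quotIncl K J ∘ₗ ((J.comap (incl K)).restrictScalars R).mkQ = toQ K (J.restrictScalars K) :=
  Submodule.liftQ_mkQ _ _ _

theorem quotIncl_injective (J : Ideal (K ⊗[R] A)) : Function.Injective (quotIncl K J) := by
  rw [← LinearMap.ker_eq_bot]
  apply Submodule.ker_liftQ_eq_bot
  intro a ha
  rw [LinearMap.mem_ker, toQ_apply, Submodule.mkQ_apply, Submodule.Quotient.mk_eq_zero] at ha
  exact ha

/-- **Contraction of a Hopf ideal** of `K ⊗ A` to `A` is a Hopf ideal, provided the quotient is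
`R`-flat. -/
theorem isHopfIdeal_comap (J : Ideal (K ⊗[R] A)) [hJ : J.IsHopfIdeal K]
    (hflat : Module.Flat R (A ⧸ (J.comap (incl K)).restrictScalars R)) :
    (J.comap (incl K)).IsHopfIdeal R := by
  refine { counit_eq_zero := ?_, map_mkQ_comul_eq_zero := ?_, antipode_mem := ?_ }
  · intro x hx
    have h1 : CoalgebraStruct.counit (R := K) ((1 : K) ⊗ₜ[R] x) = 0 :=
      hJ.counit_eq_zero (show (1 : K) ⊗ₜ[R] x ∈ J.restrictScalars K from hx)
    rw [counit_incl] at h1
    exact (IsFractionRing.injective R K) (h1.trans (map_zero _).symm)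
  · intro x hx
    have h1 : TensorProduct.map (J.restrictScalars K).mkQ (J.restrictScalars K).mkQ
        (CoalgebraStruct.comul (R := K) ((1 : K) ⊗ₜ[R] x)) = 0 :=
      hJ.map_mkQ_comul_eq_zero (show (1 : K) ⊗ₜ[R] x ∈ J.restrictScalars K from hx)
    rw [map_mkQ_comul_incl_eq_zero_iff, ← quotIncl_comp_mkQ, TensorProduct.map_comp,
      LinearMap.comp_apply] at h1
    have hfl : Module.Flat R ((K ⊗[R] A) ⧸ J.restrictScalars K) := flat_quotient_of_field K _
    have hinj := TensorProduct.map_injective_of_flat_flat (quotIncl K J) (quotIncl K J)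
      (quotIncl_injective K J) (quotIncl_injective K J)
    exact hinj (h1.trans (map_zero _).symm)
  · intro x hx
    show (1 : K) ⊗ₜ[R] HopfAlgebraStruct.antipode R x ∈ J
    rw [← antipode_incl]
    exact hJ.antipode_mem hx

/-- The extension of an ideal of `A` to `K ⊗ A` is the `K`-span of its image. -/
theorem restrictScalars_map_incl (J' : Ideal A) :
    (J'.map (incl (R := R) K)).restrictScalars K =
      Submodule.span K ((fun j : A => (1 : K) ⊗ₜ[R] j) '' (J' : Set A)) := by
  set S : Submodule K (K ⊗[R] A) :=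
    Submodule.span K ((fun j : A => (1 : K) ⊗ₜ[R] j) '' (J' : Set A)) with hS
  apply le_antisymm
  · have hmul : ∀ (y z : K ⊗[R] A), z ∈ S → y * z ∈ S := by
      intro y z hz
      induction hz using Submodule.span_induction with
      | zero => rw [mul_zero]; exact zero_mem _
      | add a b _ _ ha hb => rw [mul_add]; exact add_mem ha hb
      | smul c a _ ha => rw [mul_smul_comm]; exact S.smul_mem c ha
      | mem z hz =>
        obtain ⟨j, hj, rfl⟩ := hz
        induction y using TensorProduct.induction_on with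
        | zero => rw [zero_mul]; exact zero_mem _
        | add a b ha hb => rw [add_mul]; exact add_mem ha hb
        | tmul c a =>
          rw [Algebra.TensorProduct.tmul_mul_tmul, mul_one]
          have h1 : c ⊗ₜ[R] (a * j) = c • ((1 : K) ⊗ₜ[R] (a * j)) := by
            rw [TensorProduct.smul_tmul', smul_eq_mul, mul_one]
          rw [h1]
          exact S.smul_mem c (Submodule.subset_span ⟨a * j, J'.mul_mem_left a hj, rfl⟩)
    have hall : ∀ x ∈ Ideal.span ((incl (R := R) K) '' (J' : Set A)), x ∈ S := by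
      intro x hx'
      induction hx' using Submodule.span_induction with
      | zero => exact zero_mem _
      | add a b _ _ ha hb => exact add_mem ha hb
      | smul y a _ ha => exact hmul y a ha
      | mem z hz =>
        obtain ⟨j, hj, rfl⟩ := hz
        exact Submodule.subset_span ⟨j, hj, rfl⟩
    intro x hx
    exact hall x hx
  · rw [hS, Submodule.span_le]
    rintro _ ⟨j, hj, rfl⟩
    exact Ideal.mem_map_of_mem (incl K) hj

/-- **Extension of a Hopf ideal** of `A` to `K ⊗ A` is a Hopf ideal. -/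
theorem isHopfIdeal_map (J' : Ideal A) [hJ' : J'.IsHopfIdeal R] :
    (J'.map (incl (R := R) K)).IsHopfIdeal K := by
  set J : Ideal (K ⊗[R] A) := J'.map (incl (R := R) K) with hJ
  have hmem : ∀ j ∈ J', (1 : K) ⊗ₜ[R] j ∈ J := fun j hj => Ideal.mem_map_of_mem (incl K) hj
  refine { counit_eq_zero := ?_, map_mkQ_comul_eq_zero := ?_, antipode_mem := ?_ }
  · have hle : J ≤ RingHom.ker (Bialgebra.counitAlgHom K (K ⊗[R] A)) := by
      refine hJ.le.trans (Ideal.map_le_iff_le_comap.2 ?_)
      intro j hj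
      rw [Ideal.mem_comap, RingHom.mem_ker]
      show CoalgebraStruct.counit (R := K) ((1 : K) ⊗ₜ[R] j) = 0
      rw [counit_incl, hJ'.counit_eq_zero (show j ∈ J'.restrictScalars R from hj), map_zero]
    intro x hx
    exact hle hx
  · let L : K ⊗[R] A →ₗ[K] _ :=
      TensorProduct.map (J.restrictScalars K).mkQ (J.restrictScalars K).mkQ ∘ₗ
        CoalgebraStruct.comul (R := K)
    have hle : J.restrictScalars K ≤ LinearMap.ker L := by
      refine (restrictScalars_map_incl K J').le.trans (Submodule.span_le.2 ?_)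
      rintro _ ⟨j, hj, rfl⟩
      rw [SetLike.mem_coe, LinearMap.mem_ker]
      show TensorProduct.map (J.restrictScalars K).mkQ (J.restrictScalars K).mkQ
        (CoalgebraStruct.comul (R := K) ((1 : K) ⊗ₜ[R] j)) = 0
      rw [map_mkQ_comul_incl_eq_zero_iff]
      let ib : (A ⧸ J'.restrictScalars R) →ₗ[R] (K ⊗[R] A) ⧸ J.restrictScalars K :=
        (J'.restrictScalars R).liftQ (toQ K (J.restrictScalars K)) (by
          intro a ha
          rw [LinearMap.mem_ker, toQ_apply, Submodule.mkQ_apply, Submodule.Quotient.mk_eq_zero]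
          exact hmem a ha)
      have hib : ib ∘ₗ (J'.restrictScalars R).mkQ = toQ K (J.restrictScalars K) :=
        Submodule.liftQ_mkQ _ _ _
      rw [← hib, TensorProduct.map_comp, LinearMap.comp_apply,
        hJ'.map_mkQ_comul_eq_zero (show j ∈ J'.restrictScalars R from hj), map_zero]
    intro x hx
    exact hle hx
  · have hle : J ≤ J.comap (HopfAlgebra.antipodeAlgHom K (K ⊗[R] A)) := by
      refine hJ.le.trans (Ideal.map_le_iff_le_comap.2 ?_)
      intro j hj
      rw [Ideal.mem_comap, Ideal.mem_comap]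
      show HopfAlgebraStruct.antipode K ((1 : K) ⊗ₜ[R] j) ∈ _
      rw [antipode_incl]
      exact hmem _ (hJ'.antipode_mem hj)
    intro x hx
    exact hle hx

/-- Contraction of the extension of an ideal with `R`-flat quotient is the ideal itself. -/
theorem comap_map_incl (J' : Ideal A) (hflat : Module.Flat R (A ⧸ J')) :
    (J'.map (incl (R := R) K)).comap (incl K) = J' := by
  apply le_antisymm _ Ideal.le_comap_map
  intro x hx
  let F : K ⊗[R] A →ₐ[K] K ⊗[R] (A ⧸ J') :=
    Algebra.TensorProduct.map (AlgHom.id K K) (Ideal.Quotient.mkₐ R J')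
  have hle : J'.map (incl (R := R) K) ≤ RingHom.ker F.toRingHom := by
    rw [Ideal.map_le_iff_le_comap]
    intro j hj
    rw [Ideal.mem_comap, RingHom.mem_ker]
    show F ((1 : K) ⊗ₜ[R] j) = 0
    have : Ideal.Quotient.mk J' j = 0 := Ideal.Quotient.eq_zero_iff_mem.2 hj
    simp [F, this]
  have h1 : F ((1 : K) ⊗ₜ[R] x) = 0 := hle hx
  have h2 : (1 : K) ⊗ₜ[R] (Ideal.Quotient.mk J' x) = 0 := by
    simpa [F] using h1
  have hinj : Function.Injective (TensorProduct.mk R K (A ⧸ J') 1) := by
    have h3 : Function.Injective ((Algebra.linearMap R K).rTensor (A ⧸ J')) :=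
      Module.Flat.rTensor_preserves_injective_linearMap _ (IsFractionRing.injective R K)
    have h4 : TensorProduct.mk R K (A ⧸ J') 1 =
        (Algebra.linearMap R K).rTensor (A ⧸ J') ∘ₗ
          (TensorProduct.lid R (A ⧸ J')).symm.toLinearMap := by
      ext a
      simp
    rw [h4]
    exact h3.comp (TensorProduct.lid R (A ⧸ J')).symm.injective
  have h5 : Ideal.Quotient.mk J' x = 0 := hinj (h2.trans (map_zero _).symm)
  exact Ideal.Quotient.eq_zero_iff_mem.1 h5

end Key

end Groth.Agent.Lib.HopfDedekind41
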