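import Mathlib
import Groth.Agent.Lib.HopfSplit41
import Groth.Agent.Lib.HopfKilledByOrder41

/-!
# Deligne's theorem: a commutative finite locally free group scheme is killed by its order
(helper41)

* `transl`, `translEquiv`: translation by a point as an algebra automorphism.
* `Theta : A' ⊗ A → Hom(A, A)` (convolution algebras), with inverse `Psi` given a basis.
* `pow_card_eq_one_of_algEquiv`: abstract norm argument.
* `pow_card_eq_one_of_basis`: points of a free commutative group scheme of rank `n` are killed
  by `n`.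
* `convPow_baseChange_apply'`: base change of convolution powers of points.
* `convPow_id_card_eq_one_of_basis`: the universal point (free case).
* `convPow_id_eq_one_of_rankAtStalk_eq`: the finite projective constant rank case.
-/

set_option autoImplicit false
universe u v w
open scoped TensorProduct
open WithConv

namespace Groth.Agent.Lib.HopfDeligne41

open HopfSplit41 HopfKilledByOrder41



section transl
variable {R : Type u} [CommRing R] {A : Type v} [CommRing A] [HopfAlgebra R A]

/-- The point `u`, viewed as an `A`-valued point. -/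
noncomputable def bar (u : WithConv (A →ₐ[R] R)) : WithConv (A →ₐ[R] A) :=
  postcomp (Algebra.ofId R A) u

/-- Translation by a point `u : A → R`: `a ↦ Σ u(a₁) a₂`. -/
noncomputable def transl (u : WithConv (A →ₐ[R] R)) : A →ₐ[R] A :=
  (bar u * toConv (AlgHom.id R A)).ofConv

theorem transl_comp (u v : WithConv (A →ₐ[R] R)) :
    (transl u).comp (transl v) = transl (v * u) := by
  have h1 : toConv ((transl u).comp (transl v)) =
      postcomp (transl u) (bar v * toConv (AlgHom.id R A)) := rfl
  have h2 : postcomp (transl u) (bar v) = bar v := by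
    rw [bar, postcomp_apply, postcomp_apply]
    congr 1
    apply AlgHom.ext
    intro a
    simp
  have h3 : postcomp (transl u) (toConv (AlgHom.id R A)) = bar u * toConv (AlgHom.id R A) := by
    rw [postcomp_apply]
    rfl
  apply WithConv.toConv_injective
  rw [h1, map_mul, h2, h3, ← mul_assoc]
  show _ = bar (v * u) * toConv (AlgHom.id R A)
  rw [bar, bar, bar, map_mul]

theorem transl_one : transl (1 : WithConv (A →ₐ[R] R)) = AlgHom.id R A := by
  apply WithConv.toConv_injective
  show bar 1 * toConv (AlgHom.id R A) = _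
  rw [bar, map_one, one_mul]

/-- Translation as an algebra automorphism. -/
noncomputable def translEquiv (u : WithConv (A →ₐ[R] R)) : A ≃ₐ[R] A :=
  AlgEquiv.ofAlgHom (transl u) (transl u⁻¹)
    (by rw [transl_comp, inv_mul_cancel, transl_one])
    (by rw [transl_comp, mul_inv_cancel, transl_one])

@[simp] theorem translEquiv_apply (u : WithConv (A →ₐ[R] R)) (a : A) :
    translEquiv u a = transl u a := rfl

end transl




section theta
variable (R : Type u) [CommRing R] (A : Type v) [CommRing A] [HopfAlgebra R A]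
  [Coalgebra.IsCocomm R A]

/-- `A' → W`, `φ ↦ η ∘ φ`. -/
noncomputable def iotaHom : WithConv (A →ₗ[R] R) →ₐ[R] WithConv (A →ₗ[R] A) where
  toFun φ := toConv (Algebra.linearMap R A ∘ₗ φ.ofConv)
  map_one' := by
    apply WithConv.ofConv_injective
    ext x
    simp
  map_mul' φ ψ := by
    apply WithConv.ofConv_injective
    exact LinearMap.algHom_comp_convMul_distrib (Algebra.ofId R A) φ ψ
  map_zero' := by
    apply WithConv.ofConv_injective
    ext x
    simp
  map_add' φ ψ := by
    apply WithConv.ofConv_injective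
    ext x
    simp
  commutes' r := by
    apply WithConv.ofConv_injective
    ext x
    simp [Algebra.smul_def]

omit [Coalgebra.IsCocomm R A] in
@[simp] theorem iotaHom_apply (φ : WithConv (A →ₗ[R] R)) (x : A) :
    (iotaHom R A φ).ofConv x = algebraMap R A (φ.ofConv x) := rfl

/-- `A → W`, `b ↦ (x ↦ ε(x) b)`. -/
noncomputable def kappaHom : A →ₐ[R] WithConv (A →ₗ[R] A) where
  toFun b := algebraMap A (WithConv (A →ₗ[R] A)) b
  map_one' := map_one _
  map_mul' := map_mul _
  map_zero' := map_zero _
  map_add' := map_add _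
  commutes' r := by
    apply WithConv.ofConv_injective
    ext x
    show algebraMap R A r • algebraMap R A (Coalgebra.counit x) =
      r • algebraMap R A (Coalgebra.counit x)
    rw [Algebra.smul_def (algebraMap R A r), Algebra.smul_def r]
    rfl

omit [Coalgebra.IsCocomm R A] in
@[simp] theorem kappaHom_apply (b : A) (x : A) :
    (kappaHom R A b).ofConv x = b * algebraMap R A (Coalgebra.counit x) := rfl

/-- The algebra map `A' ⊗ A → Hom(A, A)` (convolution algebras). -/
noncomputable def Theta : (WithConv (A →ₗ[R] R)) ⊗[R] A →ₐ[R] WithConv (A →ₗ[R] A) :=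
  Algebra.TensorProduct.lift (iotaHom R A) (kappaHom R A) (fun _ _ => Commute.all _ _)

theorem Theta_tmul_apply (φ : WithConv (A →ₗ[R] R)) (b x : A) :
    (Theta R A (φ ⊗ₜ[R] b)).ofConv x = φ.ofConv x • b := by
  rw [Theta, Algebra.TensorProduct.lift_tmul]
  have ℛ := Coalgebra.Repr.arbitrary R x
  rw [show (iotaHom R A φ * kappaHom R A b).ofConv x = (iotaHom R A φ * kappaHom R A b) x from rfl,
    ℛ.convMul_apply]
  simp only [iotaHom_apply, kappaHom_apply]
  have h1 : ∀ i ∈ ℛ.index, algebraMap R A (φ.ofConv (ℛ.left i)) *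
      (b * algebraMap R A (Coalgebra.counit (ℛ.right i))) =
      (φ.ofConv ((Coalgebra.counit (R := R) (ℛ.right i)) • ℛ.left i)) • b := by
    intro i _
    rw [map_smul, smul_eq_mul, Algebra.smul_def, map_mul]
    ring
  rw [Finset.sum_congr rfl h1, ← Finset.sum_smul, ← map_sum]
  congr 2
  have h2 := congrArg (TensorProduct.rid R A) (Coalgebra.sum_tmul_counit_eq ℛ)
  rw [map_sum, TensorProduct.rid_tmul, one_smul] at h2
  simp only [TensorProduct.rid_tmul] at h2
  exact h2

end theta




section core
variable {R : Type u} [CommRing R] {A : Type v} [CommRing A] [HopfAlgebra R A]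
  [Coalgebra.IsCocomm R A] {ι : Type w} [Fintype ι] (b : Module.Basis ι R A)

/-- Inverse of `Theta` in terms of a basis. -/
noncomputable def Psi (f : WithConv (A →ₗ[R] A)) : (WithConv (A →ₗ[R] R)) ⊗[R] A :=
  ∑ i, (toConv (b.coord i ∘ₗ f.ofConv) : WithConv (A →ₗ[R] R)) ⊗ₜ[R] b i

theorem Theta_Psi (f : WithConv (A →ₗ[R] A)) : Theta R A (Psi b f) = f := by
  apply WithConv.ofConv_injective
  ext x
  rw [Psi, map_sum]
  have h1 : (∑ i, Theta R A ((toConv (b.coord i ∘ₗ f.ofConv) : WithConv (A →ₗ[R] R)) ⊗ₜ[R] b i)).ofConv x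
      = ∑ i, (Theta R A ((toConv (b.coord i ∘ₗ f.ofConv) : WithConv (A →ₗ[R] R)) ⊗ₜ[R] b i)).ofConv x := by
    have : ∀ (s : Finset ι) (g : ι → WithConv (A →ₗ[R] A)),
        (∑ i ∈ s, g i).ofConv x = ∑ i ∈ s, (g i).ofConv x := by
      intro s g
      induction s using Finset.cons_induction with
      | empty => simp
      | cons a s ha ih => rw [Finset.sum_cons, Finset.sum_cons, ← ih]; rfl
    exact this _ _
  rw [h1]
  simp only [Theta_tmul_apply]
  exact b.sum_repr (f.ofConv x)

theorem Psi_Theta (t : (WithConv (A →ₗ[R] R)) ⊗[R] A) : Psi b (Theta R A t) = t := by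
  induction t using TensorProduct.induction_on with
  | zero =>
    rw [map_zero, Psi]
    apply Finset.sum_eq_zero
    intro i _
    have : (toConv (b.coord i ∘ₗ (0 : WithConv (A →ₗ[R] A)).ofConv) : WithConv (A →ₗ[R] R)) = 0 := by
      apply WithConv.ofConv_injective
      ext x
      simp
    rw [this, TensorProduct.zero_tmul]
  | tmul φ c =>
    rw [Psi]
    have h1 : ∀ i, (toConv (b.coord i ∘ₗ (Theta R A (φ ⊗ₜ[R] c)).ofConv) : WithConv (A →ₗ[R] R)) =
        (b.coord i c) • φ := by
      intro i
      apply WithConv.ofConv_injective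
      ext x
      show b.coord i ((Theta R A (φ ⊗ₜ[R] c)).ofConv x) = b.coord i c • φ.ofConv x
      rw [Theta_tmul_apply, map_smul, smul_eq_mul, smul_eq_mul, mul_comm]
    simp only [h1, TensorProduct.smul_tmul]
    rw [← TensorProduct.tmul_sum]
    congr 1
    exact b.sum_repr c
  | add s t hs ht =>
    rw [map_add]
    conv_rhs => rw [← hs, ← ht]
    rw [Psi, Psi, Psi, ← Finset.sum_add_distrib]
    refine Finset.sum_congr rfl fun i _ => ?_
    rw [← TensorProduct.add_tmul]
    congr 1
    apply WithConv.ofConv_injective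
    ext x
    show b.coord i (((Theta R A) s).ofConv x + ((Theta R A) t).ofConv x) = _
    rw [map_add]
    rfl

include b in
theorem Theta_injective : Function.Injective (Theta R A) :=
  Function.LeftInverse.injective (Psi_Theta b)

end core




/-- Abstract norm argument: if `e D = c • D` for an automorphism `e` and a unit `D` of a free
algebra of rank `n`, then `c ^ n = 1`. -/
theorem pow_card_eq_one_of_algEquiv {S : Type*} [CommRing S] {T : Type*} [CommRing T] [Algebra S T]
    {ι : Type*} [Fintype ι] (bT : Module.Basis ι S T) (e : T ≃ₐ[S] T) (D D' : T) (c : S)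
    (hDD' : D * D' = 1) (key : e D = algebraMap S T c * D) : c ^ Fintype.card ι = 1 := by
  classical
  have hN1 : Algebra.norm S (e D) = Algebra.norm S D := Algebra.norm_eq_of_algEquiv e D
  have hN2 : Algebra.norm S (algebraMap S T c * D) = c ^ Fintype.card ι * Algebra.norm S D := by
    rw [map_mul, Algebra.norm_algebraMap_of_basis bT]
  have hN3 : Algebra.norm S D * Algebra.norm S D' = 1 := by
    rw [← map_mul, hDD', map_one]
  calc c ^ Fintype.card ι = c ^ Fintype.card ι * (Algebra.norm S D * Algebra.norm S D') := by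
        rw [hN3, mul_one]
    _ = (c ^ Fintype.card ι * Algebra.norm S D) * Algebra.norm S D' := by rw [mul_assoc]
    _ = Algebra.norm S D * Algebra.norm S D' := by rw [← hN2, ← key, hN1]
    _ = 1 := hN3

section core
variable {R : Type u} [CommRing R] {A : Type v} [CommRing A] [HopfAlgebra R A]
  [Coalgebra.IsCocomm R A] {ι : Type w} [Fintype ι] (b : Module.Basis ι R A)

theorem Theta_map_transl (u : WithConv (A →ₐ[R] R)) (t : (WithConv (A →ₗ[R] R)) ⊗[R] A) :
    Theta R A (Algebra.TensorProduct.map (AlgHom.id (WithConv (A →ₗ[R] R)) (WithConv (A →ₗ[R] R)))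
      (transl u) t) = toConv ((transl u).toLinearMap ∘ₗ (Theta R A t).ofConv) := by
  induction t using TensorProduct.induction_on with
  | zero =>
    rw [map_zero, map_zero]
    apply WithConv.ofConv_injective
    ext x
    simp
  | tmul φ c =>
    apply WithConv.ofConv_injective
    ext x
    rw [Algebra.TensorProduct.map_tmul, Theta_tmul_apply]
    show _ = transl u ((Theta R A (φ ⊗ₜ[R] c)).ofConv x)
    rw [Theta_tmul_apply, map_smul]
    rfl
  | add s t hs ht =>
    rw [map_add, map_add, hs, ht, map_add]
    apply WithConv.ofConv_injective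
    ext x
    show transl u ((Theta R A s).ofConv x) + transl u ((Theta R A t).ofConv x) =
      transl u ((Theta R A s).ofConv x + (Theta R A t).ofConv x)
    rw [map_add]

include b in
/-- **Deligne's theorem, free case, for points.** -/
theorem pow_card_eq_one_of_basis (u : WithConv (A →ₐ[R] R)) : u ^ Fintype.card ι = 1 := by
  classical
  set u' : WithConv (A →ₗ[R] R) := toConv u.ofConv.toLinearMap with hu'def
  set D : WithConv (A →ₗ[R] R) ⊗[R] A := Psi b (toConv LinearMap.id) with hD
  set D' : WithConv (A →ₗ[R] R) ⊗[R] A := Psi b (toConv (HopfAlgebra.antipode R)) with hD'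
  have hDD' : D * D' = 1 := by
    apply Theta_injective b
    have h1 : Theta R A 1 = 1 := (Theta R A).map_one
    rw [map_mul, Theta_Psi, Theta_Psi, h1]
    exact LinearMap.id_mul_antipode
  let e : WithConv (A →ₗ[R] R) ⊗[R] A ≃ₐ[WithConv (A →ₗ[R] R)] WithConv (A →ₗ[R] R) ⊗[R] A :=
    Algebra.TensorProduct.congr AlgEquiv.refl (translEquiv u)
  have key : e D = (u' ⊗ₜ[R] (1 : A)) * D := by
    apply Theta_injective b
    have h1 : e D = Algebra.TensorProduct.map (AlgHom.id (WithConv (A →ₗ[R] R))
      (WithConv (A →ₗ[R] R))) (transl u) D := rfl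
    rw [h1, Theta_map_transl, Theta_Psi, map_mul, Theta_Psi]
    have h2 : Theta R A (u' ⊗ₜ[R] (1 : A)) = iotaHom R A u' := by
      rw [Theta, Algebra.TensorProduct.lift_tmul, map_one, mul_one]
    rw [h2]
    rfl
  have hu' : u' ^ Fintype.card ι = 1 := by
    refine pow_card_eq_one_of_algEquiv (S := WithConv (A →ₗ[R] R))
      (T := WithConv (A →ₗ[R] R) ⊗[R] A)
      (Algebra.TensorProduct.basis (WithConv (A →ₗ[R] R)) b) e D D' u' hDD' ?_
    rw [key, Algebra.TensorProduct.algebraMap_apply]
    rfl
  apply WithConv.ofConv_injective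
  apply AlgHom.toLinearMap_injective
  apply WithConv.toConv_injective
  rw [AlgHom.toLinearMap_convPow]
  exact hu'

end core




section baseChange
variable {k : Type u} [CommRing k] (K : Type w) [CommRing K] [Algebra k K]
  {A : Type v} [CommRing A] [Bialgebra k A] {C : Type*} [CommRing C] [Algebra k C]
  {D : Type*} [CommRing D] [Algebra K D] (φ : C →+* D)

theorem convMul_baseChange_apply' (f g : WithConv (A →ₐ[k] C))
    (fK gK : WithConv (K ⊗[k] A →ₐ[K] D))
    (hf : ∀ a, fK.ofConv (1 ⊗ₜ a) = φ (f.ofConv a))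
    (hg : ∀ a, gK.ofConv (1 ⊗ₜ a) = φ (g.ofConv a)) (a : A) :
    (fK * gK).ofConv (1 ⊗ₜ a) = φ ((f * g).ofConv a) := by
  have ℛ := Coalgebra.Repr.arbitrary k a
  have h1 : (fK * gK).ofConv (1 ⊗ₜ a) =
      (toConv fK.ofConv.toLinearMap * toConv gK.ofConv.toLinearMap) (1 ⊗ₜ a) := rfl
  have h2 : (f * g).ofConv a =
      (toConv f.ofConv.toLinearMap * toConv g.ofConv.toLinearMap) a := rfl
  rw [h1, h2, (reprBaseChange K ℛ).convMul_apply, ℛ.convMul_apply, map_sum]
  refine Finset.sum_congr rfl fun i _ => ?_
  show fK.ofConv (1 ⊗ₜ ℛ.left i) * gK.ofConv (1 ⊗ₜ ℛ.right i) = _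
  rw [hf, hg, map_mul]
  rfl

theorem convPow_baseChange_apply' (hφ : ∀ r : k, φ (algebraMap k C r) = algebraMap K D (algebraMap k K r))
    (f : WithConv (A →ₐ[k] C)) (fK : WithConv (K ⊗[k] A →ₐ[K] D))
    (hf : ∀ a, fK.ofConv (1 ⊗ₜ a) = φ (f.ofConv a)) (n : ℕ) (a : A) :
    (fK ^ n).ofConv (1 ⊗ₜ a) = φ ((f ^ n).ofConv a) := by
  induction n generalizing a with
  | zero =>
    rw [pow_zero, pow_zero]
    show algebraMap K D (CoalgebraStruct.counit (R := K) ((1 : K) ⊗ₜ[k] a)) =
      φ (algebraMap k C (CoalgebraStruct.counit (R := k) a))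
    rw [hφ, TensorProduct.counit_tmul, Algebra.algebraMap_eq_smul_one (A := K)]
    simp
  | succ n ih =>
    rw [pow_succ, pow_succ]
    exact convMul_baseChange_apply' K φ _ _ _ _ ih hf a

end baseChange

section universal
variable {R : Type u} [CommRing R] {A : Type v} [CommRing A] [HopfAlgebra R A]
  [Coalgebra.IsCocomm R A] {ι : Type w} [Fintype ι] (b : Module.Basis ι R A)

include b in
/-- **Deligne's theorem, free case.** -/
theorem convPow_id_card_eq_one_of_basis :
    (toConv (AlgHom.id R A)) ^ Fintype.card ι = 1 := by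
  have h1 := pow_card_eq_one_of_basis (R := A) (A := A ⊗[R] A) (Algebra.TensorProduct.basis A b)
    (toConv (Algebra.TensorProduct.lmul'' R : A ⊗[R] A →ₐ[A] A))
  have key : ∀ (n : ℕ) (a : A),
      ((toConv (Algebra.TensorProduct.lmul'' R : A ⊗[R] A →ₐ[A] A)) ^ n).ofConv (1 ⊗ₜ a) =
      ((toConv (AlgHom.id R A)) ^ n).ofConv a := by
    intro n a
    exact convPow_baseChange_apply' A (RingHom.id A) (fun r => rfl) (toConv (AlgHom.id R A))
      (toConv (Algebra.TensorProduct.lmul'' R : A ⊗[R] A →ₐ[A] A))
      (fun a => by simp [Algebra.TensorProduct.lmul'']) n a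
  apply WithConv.ofConv_injective
  apply AlgHom.ext
  intro a
  rw [← key, h1, ← pow_zero (toConv (Algebra.TensorProduct.lmul'' R : A ⊗[R] A →ₐ[A] A)), key,
    pow_zero]

end universal




/-- **Deligne's theorem**: a commutative finite locally free group scheme of constant order `n`
is killed by `n`. -/
theorem convPow_id_eq_one_of_rankAtStalk_eq (R : Type u) [CommRing R] (A : Type v) [CommRing A]
    [HopfAlgebra R A] [Coalgebra.IsCocomm R A] [Module.Finite R A] [Module.Projective R A] (n : ℕ)
    (hn : ∀ p : PrimeSpectrum R, Module.rankAtStalk A p = n) :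
    (toConv (AlgHom.id R A)) ^ n = 1 := by
  apply WithConv.ofConv_injective
  apply AlgHom.ext
  intro a
  rw [← sub_eq_zero]
  refine Module.eq_zero_of_localization_maximal
    (fun P _ => Localization.AtPrime P ⊗[R] A)
    (fun P _ => TensorProduct.mk R (Localization.AtPrime P) A 1) _ ?_
  intro P hP
  have hPp : P.IsPrime := hP.isPrime
  show (1 : Localization.AtPrime P) ⊗ₜ[R] _ = 0
  rw [TensorProduct.tmul_sub, sub_eq_zero]
  have hfree : Module.Free (Localization.AtPrime P) (Localization.AtPrime P ⊗[R] A) :=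
    Module.free_of_flat_of_isLocalRing
  have hfr : Module.finrank (Localization.AtPrime P) (Localization.AtPrime P ⊗[R] A) = n := by
    rw [← hn ⟨P, hPp⟩, Module.rankAtStalk_eq_finrank_tensorProduct]
  have h1 := convPow_id_card_eq_one_of_basis
    (Module.finBasis (Localization.AtPrime P) (Localization.AtPrime P ⊗[R] A))
  rw [Fintype.card_fin, hfr] at h1
  rw [← convPow_id_baseChange_apply (Localization.AtPrime P) n a, h1,
    ← pow_zero (toConv (AlgHom.id R A)), ← convPow_id_baseChange_apply (Localization.AtPrime P) 0 a,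
    pow_zero]

end Groth.Agent.Lib.HopfDeligne41
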