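import Mathlib
import Groth.Prelude.Def_CartDual

/-!
# Invariant derivations of the dual of a finite cocommutative Hopf algebra (helper58)

For a finite projective (not necessarily commutative) Hopf algebra `H` over `k`, right
multiplication by `h ∈ H` induces `rmul h` on the dual `D = Hom(H, k)`: `(rmul h f) w = f (w * h)`.
These are exactly the left-invariant endomorphisms of `D`, and `rmul h` is a derivation iff `h` is
primitive.
-/

set_option autoImplicit false
set_option linter.unusedSectionVars false
set_option linter.unusedVariables false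

namespace Groth.Agent.Lib.HopfDualDer58

open TensorProduct WithConv Coalgebra CartDual

variable (k : Type*) [CommRing k] (H : Type*) [Ring H] [HopfAlgebra k H]

/-- `(rmulL h f) w = f (w * h)`. -/
noncomputable def rmulL : H →ₗ[k] Module.End k (CartDual.D k H) where
  toFun h :=
    { toFun := fun f => toConv (f.ofConv ∘ₗ LinearMap.mulRight k h)
      map_add' := fun f g => by
        apply WithConv.ofConv_injective
        rfl
      map_smul' := fun c f => by
        apply WithConv.ofConv_injective
        rfl }
  map_add' h h' := by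
    apply LinearMap.ext
    intro f
    apply WithConv.ofConv_injective
    apply LinearMap.ext
    intro w
    show f.ofConv (w * (h + h')) = f.ofConv (w * h) + f.ofConv (w * h')
    rw [mul_add, map_add]
  map_smul' c h := by
    apply LinearMap.ext
    intro f
    apply WithConv.ofConv_injective
    apply LinearMap.ext
    intro w
    show f.ofConv (w * (c • h)) = c • f.ofConv (w * h)
    rw [mul_smul_comm, map_smul]

theorem rmulL_apply (h : H) (f : CartDual.D k H) (w : H) : (rmulL k H h f) w = f (w * h) := rfl

/-- Right multiplication on the dual, as an algebra homomorphism `H → End(D)`. -/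
noncomputable def rmul : H →ₐ[k] Module.End k (CartDual.D k H) :=
  AlgHom.ofLinearMap (rmulL k H)
    (by
      apply LinearMap.ext
      intro f
      apply WithConv.ofConv_injective
      apply LinearMap.ext
      intro w
      show f.ofConv (w * 1) = f.ofConv w
      rw [mul_one])
    (by
      intro h h'
      apply LinearMap.ext
      intro f
      apply WithConv.ofConv_injective
      apply LinearMap.ext
      intro w
      show f.ofConv (w * (h * h')) = f.ofConv (w * h * h')
      rw [mul_assoc])

theorem rmul_apply (h : H) (f : CartDual.D k H) (w : H) : (rmul k H h f) w = f (w * h) := rfl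

theorem mul_apply_one (f g : CartDual.D k H) : (f * g) (1 : H) = f 1 * g 1 := by
  rw [CartDual.coe_apply, LinearMap.convMul_def, WithConv.ofConv_toConv, LinearMap.comp_apply,
    LinearMap.comp_apply, Bialgebra.comul_one, Algebra.TensorProduct.one_def, TensorProduct.map_tmul,
    LinearMap.mul'_apply]

theorem pow_apply_one (f : CartDual.D k H) (m : ℕ) : (f ^ m) (1 : H) = (f 1) ^ m := by
  induction m with
  | zero =>
    rw [pow_zero, pow_zero, CartDual.coe_apply, LinearMap.convOne_apply, Bialgebra.counit_one,
      map_one]
  | succ m ih => rw [pow_succ, pow_succ, mul_apply_one, ih]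

theorem convMul_mul_prim (f g : CartDual.D k H) (h : H) (t : H ⊗[k] H) :
    LinearMap.mul' k k (TensorProduct.map f.ofConv g.ofConv
      (t * (h ⊗ₜ[k] (1 : H) + (1 : H) ⊗ₜ[k] h))) =
    LinearMap.mul' k k (TensorProduct.map (rmul k H h f).ofConv g.ofConv t) +
      LinearMap.mul' k k (TensorProduct.map f.ofConv (rmul k H h g).ofConv t) := by
  induction t using TensorProduct.induction_on with
  | zero => simp
  | tmul a c =>
    rw [mul_add, Algebra.TensorProduct.tmul_mul_tmul, Algebra.TensorProduct.tmul_mul_tmul, mul_one,
      mul_one, map_add, map_add, TensorProduct.map_tmul, TensorProduct.map_tmul,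
      TensorProduct.map_tmul, TensorProduct.map_tmul]
    rfl
  | add t t' ht ht' =>
    rw [add_mul, map_add, map_add, ht, ht', map_add, map_add, map_add, map_add]
    abel

theorem rmul_mul_of_primitive (h : H)
    (hh : Coalgebra.comul (R := k) h = h ⊗ₜ[k] (1 : H) + (1 : H) ⊗ₜ[k] h) (f g : CartDual.D k H) :
    rmul k H h (f * g) = rmul k H h f * g + f * rmul k H h g := by
  apply WithConv.ofConv_injective
  apply LinearMap.ext
  intro w
  show (f * g) (w * h) = (rmul k H h f * g) w + (f * rmul k H h g) w
  rw [LinearMap.convMul_apply, LinearMap.convMul_apply, LinearMap.convMul_apply,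
    Bialgebra.comul_mul, hh, convMul_mul_prim]

section Finite

variable [Module.Finite k H] [Module.Projective k H]

theorem ev₂_lTensor_rmul (h : H) (t : CartDual.D k H ⊗[k] CartDual.D k H) (a c : H) :
    ev₂ k H (LinearMap.lTensor (CartDual.D k H) (rmul k H h) t) (a ⊗ₜ c) =
      ev₂ k H t (a ⊗ₜ (c * h)) := by
  induction t using TensorProduct.induction_on with
  | zero => simp
  | tmul f g =>
    rw [LinearMap.lTensor_tmul, ev₂_tmul, ev₂_tmul, rmul_apply]
  | add t t' ht ht' =>
    rw [map_add, map_add, LinearMap.add_apply, ht, ht', map_add, LinearMap.add_apply]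

/-- `rmul h` is left-invariant. -/
theorem comul_rmul (h : H) (f : CartDual.D k H) :
    Coalgebra.comul (R := k) (rmul k H h f) =
      LinearMap.lTensor (CartDual.D k H) (rmul k H h) (Coalgebra.comul (R := k) f) := by
  apply (ev₂ k H).injective
  apply TensorProduct.ext'
  intro a c
  rw [ev₂_coalgebra_comul_tmul, ev₂_lTensor_rmul, ev₂_coalgebra_comul_tmul, rmul_apply, mul_assoc]

theorem ev₂_lTensor_one (D' : CartDual.D k H →ₗ[k] CartDual.D k H) (h : H)
    (hh : ∀ f : CartDual.D k H, (D' f) (1 : H) = f h)
    (t : CartDual.D k H ⊗[k] CartDual.D k H) (a : H) :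
    ev₂ k H (LinearMap.lTensor (CartDual.D k H) D' t) (a ⊗ₜ (1 : H)) =
      ev₂ k H t (a ⊗ₜ h) := by
  induction t using TensorProduct.induction_on with
  | zero => simp
  | tmul f g =>
    rw [LinearMap.lTensor_tmul, ev₂_tmul, ev₂_tmul, hh]
  | add t t' ht ht' =>
    rw [map_add, map_add, LinearMap.add_apply, ht, ht', map_add, LinearMap.add_apply]

/-- Every left-invariant endomorphism of the dual is `rmul h`. -/
theorem exists_rmul_of_leftInvariant (D' : CartDual.D k H →ₗ[k] CartDual.D k H)
    (hD : (Coalgebra.comul (R := k) (A := CartDual.D k H)) ∘ₗ D' =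
      LinearMap.lTensor (CartDual.D k H) D' ∘ₗ Coalgebra.comul (R := k) (A := CartDual.D k H)) :
    ∃ h : H, D' = rmul k H h := by
  let δ : Module.Dual k (Module.Dual k H) :=
    (LinearMap.applyₗ (1 : H)) ∘ₗ (CartDual.toDual k H).toLinearMap ∘ₗ D' ∘ₗ
      (CartDual.toDual k H).symm.toLinearMap
  let h : H := (Module.evalEquiv k H).symm δ
  have hh : ∀ f : CartDual.D k H, (D' f) (1 : H) = f h := by
    intro f
    have h1 : Module.evalEquiv k H h = δ := (Module.evalEquiv k H).apply_symm_apply δ
    have h2 := LinearMap.congr_fun h1 f.ofConv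
    rw [Module.evalEquiv_apply, Module.Dual.eval_apply] at h2
    exact h2.symm
  refine ⟨h, ?_⟩
  apply LinearMap.ext
  intro f
  apply WithConv.ofConv_injective
  apply LinearMap.ext
  intro v
  show (D' f) v = f (v * h)
  have h3 := LinearMap.congr_fun hD f
  rw [LinearMap.comp_apply, LinearMap.comp_apply] at h3
  have h4 := congrArg (fun y => ev₂ k H y (v ⊗ₜ (1 : H))) h3
  rw [ev₂_coalgebra_comul_tmul, ev₂_lTensor_one k H D' h hh, ev₂_coalgebra_comul_tmul, mul_one] at h4
  exact h4

/-- If `rmul h` satisfies the Leibniz rule then `h` is primitive. -/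
theorem primitive_of_leibniz (h : H)
    (hL : ∀ f g : CartDual.D k H, rmul k H h (f * g) = rmul k H h f * g + f * rmul k H h g) :
    Coalgebra.comul (R := k) h = h ⊗ₜ[k] (1 : H) + (1 : H) ⊗ₜ[k] h := by
  rw [← sub_eq_zero, ← Module.forall_dual_apply_eq_zero_iff k]
  intro F
  obtain ⟨y, rfl⟩ := (ev₂ k H).surjective F
  induction y using TensorProduct.induction_on with
  | zero => simp
  | tmul f g =>
    rw [map_sub, map_add, ev₂_tmul, ev₂_tmul, sub_eq_zero]
    have h1 := congrArg (fun x : CartDual.D k H => x (1 : H)) (hL f g)
    have h2 : (rmul k H h (f * g)) (1 : H) = ev₂ k H (f ⊗ₜ g) (Coalgebra.comul (R := k) h) := by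
      rw [rmul_apply, one_mul, LinearMap.convMul_apply, ev₂_tmul_eq]
      generalize Coalgebra.comul (R := k) h = t
      induction t using TensorProduct.induction_on with
      | zero => simp
      | tmul a c => simp
      | add t t' ht ht' => simp only [map_add, ht, ht']
    rw [← h2, h1]
    have h3 : (rmul k H h f * g + f * rmul k H h g) (1 : H) =
        (rmul k H h f * g) (1 : H) + (f * rmul k H h g) (1 : H) := rfl
    rw [h3, mul_apply_one, mul_apply_one, rmul_apply, rmul_apply, one_mul]
  | add y y' hy hy' =>
    rw [map_add, LinearMap.add_apply, hy, hy', add_zero]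

end Finite

end Groth.Agent.Lib.HopfDualDer58
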