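import Mathlib
import Groth.Agent.Lib.HenselIdem
import Groth.Agent.Lib.HenselPair

/-!
# Extensions of affine group schemes, Hopf algebra form (helper61)

Setting: a bialgebra map `π : A'' → A` of commutative Hopf algebras over `R` (given as an algebra
structure `Algebra A'' A` with compatibilities `hΔ`, `hε`), `J = π(ker ε'') A` the ideal of the
kernel.

* `antipode_conv_self`: `(g ∘ S) * g = 1` for points `g : A →ₐ[R] C` (any commutative `C`).
* `formallyUnramified_of_extension`: if `A''` and `A/J` are formally unramified over `R`, so is `A`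
  (functor of points argument: `G(C) → G(C/N)` is an injective group homomorphism).
* `isLocalRing_of_extension`: if `A''` and `A/J` are local and `A` is integral over `A''`, then `A`
  is local.
-/

set_option autoImplicit false
universe u

namespace Groth.Agent.Lib.HopfExtension61

open WithConv TensorProduct

section conv

variable {R : Type*} [CommRing R] {A : Type*} [CommRing A] [HopfAlgebra R A]
  {C : Type*} [CommRing C] [Algebra R C]

/-- `(g ∘ S) * g = 1` in the convolution monoid of points. -/
theorem antipode_conv_self (g : A →ₐ[R] C) :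
    (toConv (g.comp (HopfAlgebra.antipodeAlgHom R A)) * toConv g : WithConv (A →ₐ[R] C)) = 1 := by
  have H : (Algebra.TensorProduct.lmul' R).comp (Algebra.TensorProduct.map g g) =
      g.comp (Algebra.TensorProduct.lmul' R) := by ext <;> simp
  trans toConv <| ((Algebra.TensorProduct.lmul' R).comp (Algebra.TensorProduct.map g g)).comp
    ((Algebra.TensorProduct.map (HopfAlgebra.antipodeAlgHom R A) (.id _ _)).comp
      (Bialgebra.comulAlgHom R A))
  · rw [AlgHom.comp_assoc, ← AlgHom.comp_assoc (Algebra.TensorProduct.map g g),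
      ← Algebra.TensorProduct.map_comp]; rfl
  rw [H, AlgHom.comp_assoc, WithConv.ext_iff, ← AlgHom.toLinearMap_injective.eq_iff]
  change g.toLinearMap.comp
      (toConv (HopfAlgebraStruct.antipode R (A := A)) * toConv LinearMap.id).ofConv =
    ofConv (1 : WithConv <| A →ₗ[R] C)
  rw [LinearMap.antipode_mul_id]
  ext
  simp

end conv

section ext

variable {R : Type u} [CommRing R] {A A'' : Type u} [CommRing A] [HopfAlgebra R A]
  [CommRing A''] [HopfAlgebra R A''] [Algebra A'' A] [IsScalarTower R A'' A]

/-- Two points `g₁`, `g₂ : A →ₐ[R] C` with `(g₁ ∘ S) * g₂ = 1` are equal. -/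
theorem eq_of_antipode_conv_eq_one {C : Type*} [CommRing C] [Algebra R C] (g₁ g₂ : A →ₐ[R] C)
    (h : (toConv (g₁.comp (HopfAlgebra.antipodeAlgHom R A)) * toConv g₂ :
      WithConv (A →ₐ[R] C)) = 1) : g₁ = g₂ := by
  -- left-multiply with the left inverse of `g₁ ∘ S`
  set i₁ : WithConv (A →ₐ[R] C) := toConv (g₁.comp (HopfAlgebra.antipodeAlgHom R A)) with hi₁
  set j₁ : WithConv (A →ₐ[R] C) :=
    toConv ((g₁.comp (HopfAlgebra.antipodeAlgHom R A)).comp (HopfAlgebra.antipodeAlgHom R A))
  have hj : j₁ * i₁ = 1 := antipode_conv_self (g₁.comp (HopfAlgebra.antipodeAlgHom R A))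
  have h1 : i₁ * toConv g₁ = 1 := antipode_conv_self g₁
  have e1 : toConv g₁ = j₁ := by
    calc toConv g₁ = (j₁ * i₁) * toConv g₁ := by rw [hj, one_mul]
      _ = j₁ * (i₁ * toConv g₁) := mul_assoc _ _ _
      _ = j₁ := by rw [h1, mul_one]
  have e2 : toConv g₂ = j₁ := by
    calc toConv g₂ = (j₁ * i₁) * toConv g₂ := by rw [hj, one_mul]
      _ = j₁ * (i₁ * toConv g₂) := mul_assoc _ _ _
      _ = j₁ := by rw [h, mul_one]
  exact WithConv.toConv_injective (e1.trans e2.symm)

variable (R A A'') in
/-- If `A''` and `A/J` are formally unramified over `R` then so is `A`, for a bialgebra map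
`A'' → A` of commutative Hopf algebras with kernel ideal `J`. -/
theorem formallyUnramified_of_extension
    (hΔ : (Bialgebra.comulAlgHom R A).comp (IsScalarTower.toAlgHom R A'' A) =
      (Algebra.TensorProduct.map (IsScalarTower.toAlgHom R A'' A)
        (IsScalarTower.toAlgHom R A'' A)).comp (Bialgebra.comulAlgHom R A''))
    (hε : (Bialgebra.counitAlgHom R A).comp (IsScalarTower.toAlgHom R A'' A) =
      Bialgebra.counitAlgHom R A'')
    [Algebra.FormallyUnramified R A'']
    [Algebra.FormallyUnramified R
      (A ⧸ (RingHom.ker (Bialgebra.counitAlgHom R A'')).map (algebraMap A'' A))] :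
    Algebra.FormallyUnramified R A := by
  rw [Algebra.FormallyUnramified.iff_comp_injective]
  intro C _ _ N hN g₁ g₂ hg
  set J := (RingHom.ker (Bialgebra.counitAlgHom R A'')).map (algebraMap A'' A) with hJ
  let π : A'' →ₐc[R] A := BialgHom.ofAlgHom (IsScalarTower.toAlgHom R A'' A) hε hΔ.symm
  let S := HopfAlgebra.antipodeAlgHom R A
  let q := Ideal.Quotient.mkₐ R N
  -- the two points agree on `A''`
  have hπ : g₁.comp (π : A'' →ₐ[R] A) = g₂.comp (π : A'' →ₐ[R] A) := by
    apply Algebra.FormallyUnramified.comp_injective N hN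
    change q.comp (g₁.comp (π : A'' →ₐ[R] A)) = q.comp (g₂.comp (π : A'' →ₐ[R] A))
    rw [← AlgHom.comp_assoc, ← AlgHom.comp_assoc]
    exact congrArg (fun f => f.comp (π : A'' →ₐ[R] A)) hg
  -- the difference point
  set h : WithConv (A →ₐ[R] C) := toConv (g₁.comp S) * toConv g₂ with hh
  apply eq_of_antipode_conv_eq_one
  change h = 1
  -- `h ∘ π = 1`
  have h1 : h.ofConv.comp (π : A'' →ₐ[R] A) =
      (Algebra.ofId R C).comp (Bialgebra.counitAlgHom R A'') := by
    rw [hh, AlgHom.convMul_comp_bialgHom_distrib]
    dsimp only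
    rw [← hπ]
    have := AlgHom.convMul_comp_bialgHom_distrib (toConv (g₁.comp S)) (toConv g₁) π
    dsimp only at this
    rw [← this, antipode_conv_self]
    change ((Algebra.ofId R C).comp (Bialgebra.counitAlgHom R A)).comp (π : A'' →ₐ[R] A) = _
    rw [AlgHom.comp_assoc]
    congr 1
  -- `h` kills `J`
  have hJker : ∀ a ∈ J, h.ofConv a = 0 := by
    intro a ha
    have hle : J ≤ RingHom.ker (h.ofConv : A →+* C) := by
      rw [hJ, Ideal.map_le_iff_le_comap]
      intro c hc
      rw [Ideal.mem_comap, RingHom.mem_ker]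
      have := AlgHom.congr_fun h1 c
      change h.ofConv (algebraMap A'' A c) = algebraMap R C (Bialgebra.counitAlgHom R A'' c) at this
      change h.ofConv (algebraMap A'' A c) = 0
      rw [this, (RingHom.mem_ker).1 hc, map_zero]
    exact hle ha
  have hJε : ∀ a ∈ J, Bialgebra.counitAlgHom R A a = 0 := by
    intro a ha
    have hle : J ≤ RingHom.ker ((Bialgebra.counitAlgHom R A : A →ₐ[R] R) : A →+* R) := by
      rw [hJ, Ideal.map_le_iff_le_comap]
      intro c hc
      rw [Ideal.mem_comap, RingHom.mem_ker]
      have := AlgHom.congr_fun hε c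
      change Bialgebra.counitAlgHom R A (algebraMap A'' A c) = Bialgebra.counitAlgHom R A'' c at this
      change Bialgebra.counitAlgHom R A (algebraMap A'' A c) = 0
      rw [this]
      exact hc
    exact hle ha
  let h' : (A ⧸ J) →ₐ[R] C := Ideal.Quotient.liftₐ J h.ofConv hJker
  let u' : (A ⧸ J) →ₐ[R] C :=
    (Algebra.ofId R C).comp (Ideal.Quotient.liftₐ J (Bialgebra.counitAlgHom R A) hJε)
  -- `q ∘ h = 1`
  have h2 : q.comp h.ofConv = (Algebra.ofId R (C ⧸ N)).comp (Bialgebra.counitAlgHom R A) := by
    rw [hh, AlgHom.comp_convMul_distrib]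
    dsimp only
    have e1 : q.comp g₂ = q.comp g₁ := hg.symm
    rw [e1, ← AlgHom.comp_assoc]
    exact congrArg ofConv (antipode_conv_self (q.comp g₁))
  have h3 : h' = u' := by
    apply Algebra.FormallyUnramified.comp_injective N hN
    apply Ideal.Quotient.algHom_ext
    ext a
    change q (h.ofConv a) = q (algebraMap R C (Bialgebra.counitAlgHom R A a))
    have := AlgHom.congr_fun h2 a
    change q (h.ofConv a) = algebraMap R (C ⧸ N) (Bialgebra.counitAlgHom R A a) at this
    rw [this]
    exact (q.commutes _).symm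
  apply WithConv.ofConv_injective
  ext a
  have := AlgHom.congr_fun h3 (Ideal.Quotient.mk J a)
  change h.ofConv a = algebraMap R C (Bialgebra.counitAlgHom R A a) at this
  rw [this]
  rfl

end ext

end Groth.Agent.Lib.HopfExtension61
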