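import Mathlib
import Groth.Agent.Lib.HenselIdem
import Groth.Agent.Lib.HenselPair
import Groth.Agent.Lib.HenselTransfer22

/-!
# More on extensions of finite Hopf algebras (helper61)

* `eq_algebraMap_of_formallyUnramified_of_isLocalRing`: a Noetherian local ring `B`, formally
  unramified over `R`, with an `R`-point `s : B →ₐ[R] R`, is `R` itself: `b = s(b)·1`.
* `flat_quotient_idem`, `faithfullyFlat_quotient_idem`: for `A` flat over a local ring `A''`,
  finite, and `e ∈ A` idempotent with `A/(1-e)` local, `A/(1-e)` is faithfully flat over `A''`.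
-/

set_option autoImplicit false
universe u

namespace Groth.Agent.Lib.HopfExtension61

section unram

variable {R : Type*} [CommRing R] {B : Type*} [CommRing B] [Algebra R B]

/-- The kernel of an `R`-point of a formally unramified algebra is idempotent. -/
theorem ker_le_sq_of_formallyUnramified [Algebra.FormallyUnramified R B] (s : B →ₐ[R] R) :
    RingHom.ker (s : B →+* R) ≤ (RingHom.ker (s : B →+* R)) ^ 2 := by
  set K := RingHom.ker (s : B →+* R) with hK
  set N : Ideal (B ⧸ K ^ 2) := K.map (Ideal.Quotient.mk (K ^ 2)) with hN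
  have hN2 : N ^ 2 = ⊥ := by
    rw [hN, ← Ideal.map_pow, Ideal.map_quotient_self]
  let f₁ : B →ₐ[R] (B ⧸ K ^ 2) := Ideal.Quotient.mkₐ R (K ^ 2)
  let f₂ : B →ₐ[R] (B ⧸ K ^ 2) := (Algebra.ofId R (B ⧸ K ^ 2)).comp s
  have hsub : ∀ b : B, b - algebraMap R B (s b) ∈ K := by
    intro b
    rw [hK, RingHom.mem_ker, map_sub]
    change s b - s (algebraMap R B (s b)) = 0
    rw [s.commutes]
    simp
  have h12 : f₁ = f₂ := by
    apply Algebra.FormallyUnramified.comp_injective N hN2
    ext b
    change Ideal.Quotient.mk N (Ideal.Quotient.mk (K ^ 2) b) =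
      Ideal.Quotient.mk N (algebraMap R (B ⧸ K ^ 2) (s b))
    rw [Ideal.Quotient.eq]
    have : Ideal.Quotient.mk (K ^ 2) b - algebraMap R (B ⧸ K ^ 2) (s b) =
        Ideal.Quotient.mk (K ^ 2) (b - algebraMap R B (s b)) := by
      rw [map_sub]; rfl
    rw [this]
    exact Ideal.mem_map_of_mem _ (hsub b)
  intro b hb
  have h1 := AlgHom.congr_fun h12 b
  change Ideal.Quotient.mk (K ^ 2) b = algebraMap R (B ⧸ K ^ 2) (s b) at h1
  have hb0 : s b = 0 := (RingHom.mem_ker).1 hb
  rw [hb0, map_zero, Ideal.Quotient.eq_zero_iff_mem] at h1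
  exact h1

/-- A Noetherian local ring, formally unramified over `R` and with an `R`-point, is `R`. -/
theorem eq_algebraMap_of_formallyUnramified_of_isLocalRing [IsLocalRing B] [IsNoetherianRing B]
    [Algebra.FormallyUnramified R B] [Nontrivial R] (s : B →ₐ[R] R) (b : B) :
    b = algebraMap R B (s b) := by
  set K := RingHom.ker (s : B →+* R) with hK
  have hKjac : K ≤ Ideal.jacobson ⊥ := by
    rw [IsLocalRing.jacobson_eq_maximalIdeal ⊥ bot_ne_top]
    exact IsLocalRing.le_maximalIdeal (RingHom.ker_ne_top _)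
  have hKK : K ≤ K • K := by
    have := ker_le_sq_of_formallyUnramified s
    rwa [pow_two, ← smul_eq_mul] at this
  have hbot : K = ⊥ :=
    Submodule.eq_bot_of_le_smul_of_le_jacobson_bot K K (IsNoetherian.noetherian K) hKK hKjac
  have hsub : b - algebraMap R B (s b) ∈ K := by
    rw [hK, RingHom.mem_ker, map_sub]
    change s b - s (algebraMap R B (s b)) = 0
    rw [s.commutes]
    simp
  rw [hbot, Ideal.mem_bot, sub_eq_zero] at hsub
  exact hsub

end unram

end Groth.Agent.Lib.HopfExtension61
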