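import Groth.Agent.Lib.Fitting82G
import Groth.Agent.Lib.Fitting82D
import Groth.Agent.Lib.Comod
import Mathlib.RingTheory.Flat.EquationalCriterion
import Mathlib.RingTheory.Flat.Localization
import Mathlib.RingTheory.Flat.Stability
import Mathlib.RingTheory.Flat.FaithfullyFlat.Basic
import Mathlib.RingTheory.HopfAlgebra.Basic
import Mathlib.RingTheory.HopfAlgebra.Convolution
import Mathlib.RingTheory.Bialgebra.Convolution
import Mathlib.RingTheory.Bialgebra.Hom
import Mathlib.LinearAlgebra.TensorProduct.RightExactness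

/-!
# Takeuchi's theorem (helper41): a commutative Hopf algebra over a field is faithfully flat over
every Hopf subalgebra

Proof after Masuoka–Wigner.  Setting: `k` a field, `K`, `H` commutative Hopf algebras, `H` a
`K`-algebra such that the structure map is an injective map of bialgebras (`IsBialgMap k K H`).

* `fitt_map_le_of_semilinear`, `flat_of_fitt_bot_or_top`, `flat_of_forall_finite_mem_flat`:
  general algebra (on top of helper82's Fitting ideal library).
* `IsHopfSub M`: a `K`-submodule of `H` stable under the right regular coaction.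
* `fitt_bot_or_top`: the Fitting ideals of a `K`-finite Hopf submodule are costable ideals of `K`,
  hence `⊥` or `⊤`; so such a module is locally free (`flat_of_isHopfSub`).
* `flat_of_isBialgMap`: `H` is the directed union of its `K`-finite Hopf submodules, hence flat.
* `faithfullyFlat_of_isBialgMap`: faithful flatness, by the translation trick (for a maximal ideal
  `m` of `K` with residue field `L` the ring `H ⊗[K] (H ⊗ L)_ψ` is nonzero by flatness and carries a
  point `w = (v ∘ S) * u` of `H` lying over `K → L`).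
-/

set_option autoImplicit false
universe u v w x

namespace Groth.Agent.Lib.HopfFlat41


open Groth.Agent.Lib.Fitting82 TensorProduct

section General

variable {R : Type u} [CommRing R] {M : Type v} [AddCommGroup M] [Module R M]

/-- Fitting ideals only grow along a semilinear map whose image spans. -/
theorem fitt_map_le_of_semilinear {R' : Type w} [CommRing R'] (φ : R →+* R')
    {M₁ : Type*} [AddCommGroup M₁] [Module R' M₁] (g : M →+ M₁)
    (hg : ∀ (a : R) (m : M), g (a • m) = φ a • g m)
    (hspan : Submodule.span R' (Set.range g) = ⊤) (r : ℕ) :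
    (Fitt.ideal R M r).map φ ≤ Fitt.ideal R' M₁ r := by
  rw [Ideal.map_le_iff_le_comap]
  apply Ideal.span_le.2
  rintro _ ⟨n, x, a, hx, ha, rfl⟩
  show φ a.det ∈ Fitt.ideal R' M₁ r
  refine Ideal.subset_span ⟨n, fun i => g (x i), φ.mapMatrix a, ?_, ?_, ?_⟩
  · rw [eq_top_iff, ← hspan, Submodule.span_le]
    rintro _ ⟨m, rfl⟩
    have hm : m ∈ Submodule.span R (Set.range x) := by rw [hx]; trivial
    obtain ⟨c, rfl⟩ := (Submodule.mem_span_range_iff_exists_fun R).1 hm
    rw [map_sum]
    refine Submodule.sum_mem _ fun i _ => ?_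
    rw [hg]
    exact Submodule.smul_mem _ _ (Submodule.subset_span ⟨i, rfl⟩)
  · intro i hi
    have h := ha i hi
    have h2 := congrArg g h
    rw [map_sum, map_zero] at h2
    rw [← h2]
    refine Finset.sum_congr rfl fun j _ => ?_
    rw [hg]
    rfl
  · rw [RingHom.map_det]

/-- A finite module all of whose Fitting ideals are trivial is flat. -/
theorem flat_of_fitt_bot_or_top [Module.Finite R M]
    (h : ∀ r, Fitt.ideal R M r = ⊥ ∨ Fitt.ideal R M r = ⊤) : Module.Flat R M := by
  classical
  obtain ⟨n, x, hx⟩ := Module.Finite.exists_fin (R := R) (M := M)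
  have hex : ∃ r, Fitt.ideal R M r = ⊤ := ⟨n, ideal_eq_top_of_span x hx n le_rfl⟩
  set r := Nat.find hex with hr
  have hr1 : Fitt.ideal R M r = ⊤ := Nat.find_spec hex
  have hlf := (locallyFree_rank_iff (R := R) (M := M) r).2 ⟨fun k hk => by
    rcases h k with h0 | h1
    · exact h0
    · exact absurd h1 (Nat.find_min hex hk), fun k hk => by
    rw [eq_top_iff, ← hr1]
    exact ideal_mono_index hk⟩
  let s : Set R := {f | Module.Free (Localization.Away f) (LocalizedModule (Submonoid.powers f) M)}
  have hs : Ideal.span s = ⊤ := by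
    by_contra hne
    obtain ⟨p, hp, hle⟩ := Ideal.exists_le_maximal _ hne
    have := hp.isPrime
    obtain ⟨f, hf, hfree, -⟩ := hlf p
    exact hf (hle (Ideal.subset_span hfree))
  refine Module.flat_of_localized_span R M s hs fun f => ?_
  have : Module.Free (Localization.Away f.1) (LocalizedModule (Submonoid.powers f.1) M) := f.2
  exact Module.Flat.trans R (Localization.Away f.1) _

/-- A module in which every finite family lies in a flat submodule is flat. -/
theorem flat_of_forall_finite_mem_flat {N : Type*} [AddCommGroup N] [Module R N]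
    (h : ∀ (l : ℕ) (x : Fin l → N), ∃ P : Submodule R N, Module.Flat R P ∧ ∀ i, x i ∈ P) :
    Module.Flat R N := by
  refine Module.Flat.of_forall_isTrivialRelation ?_
  intro l f x hfx
  obtain ⟨P, hP, hxP⟩ := h l x
  have hrel : ∑ i, f i • (⟨x i, hxP i⟩ : P) = 0 := by
    apply Subtype.ext
    simpa using hfx
  obtain ⟨κ, a, y, hxy, hfa⟩ := Module.Flat.isTrivialRelation_of_sum_smul_eq_zero hrel
  refine ⟨κ, a, fun j => (y j : N), fun i => ?_, hfa⟩
  have := congrArg (Subtype.val) (hxy i)
  simpa using this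

end General



open Groth.Agent.Lib.Fitting82 TensorProduct

section Hopf

variable {k : Type u} [Field k] {K : Type v} {H : Type w} [CommRing K] [CommRing H]
  [HopfAlgebra k K] [HopfAlgebra k H] [Algebra K H] [IsScalarTower k K H]

local notation "Δ" => CoalgebraStruct.comul (R := k)
local notation "ε" => CoalgebraStruct.counit (R := k)
local notation "S" => HopfAlgebraStruct.antipode k

/-- The inclusion of a `K`-submodule of `H`, as a `k`-linear map. -/
noncomputable abbrev incl (M : Submodule K H) : M →ₗ[k] H := M.subtype.restrictScalars k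

theorem incl_rTensor_injective (M : Submodule K H) :
    Function.Injective ((incl (k := k) M).rTensor H) :=
  Module.Flat.rTensor_preserves_injective_linearMap _ M.injective_subtype

/-- A `K`-submodule of `H` stable under the (right regular) coaction. -/
def IsHopfSub (M : Submodule K H) : Prop :=
  ∀ m ∈ M, Δ m ∈ LinearMap.range ((incl (k := k) M).rTensor H)

variable (M : Submodule K H)

/-- `(K ⊗ H) ⊗[K] M ≃ M ⊗ H`. -/
noncomputable def eqv : (K ⊗[k] H) ⊗[K] M ≃ₗ[k] M ⊗[k] H :=
  ((TensorProduct.comm K (K ⊗[k] H) M).restrictScalars k) ≪≫ₗ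
    ((TensorProduct.AlgebraTensorModule.cancelBaseChange k K K M H).restrictScalars k)

theorem eqv_tmul (a : K) (h : H) (m : M) :
    eqv (k := k) M ((a ⊗ₜ[k] h) ⊗ₜ[K] m) = (a • m) ⊗ₜ[k] h := rfl

theorem eqv_symm_tmul (h : H) (m : M) :
    (eqv (k := k) M).symm (m ⊗ₜ[k] h) = ((1 : K) ⊗ₜ[k] h) ⊗ₜ[K] m := rfl

/-- The embedding `(K ⊗ H) ⊗[K] M → H ⊗ H`. -/
noncomputable def jmap : (K ⊗[k] H) ⊗[K] M →ₗ[k] H ⊗[k] H :=
  (incl (k := k) M).rTensor H ∘ₗ (eqv (k := k) M).toLinearMap

theorem jmap_tmul (a : K) (h : H) (m : M) :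
    jmap (k := k) M ((a ⊗ₜ[k] h) ⊗ₜ[K] m) = (a • (m : H)) ⊗ₜ[k] h := rfl

theorem jmap_injective : Function.Injective (jmap (k := k) M) :=
  (incl_rTensor_injective M).comp (eqv (k := k) M).injective

variable (k K H) in
/-- The structure map `K → H` as a `k`-algebra map. -/
noncomputable abbrev fA : K →ₐ[k] H := IsScalarTower.toAlgHom k K H

variable (k K H) in
/-- The structure map `K → H` is a map of bialgebras. -/
structure IsBialgMap : Prop where
  comul : ∀ a : K, Δ (algebraMap K H a) =
    TensorProduct.map (fA k K H).toLinearMap (fA k K H).toLinearMap (Δ a)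
  counit : ∀ a : K, ε (algebraMap K H a) = ε a

variable (k K H) in
/-- `K ⊗ H → H ⊗ H`. -/
noncomputable abbrev FA : K ⊗[k] H →ₐ[k] H ⊗[k] H :=
  Algebra.TensorProduct.map (fA k K H) (AlgHom.id k H)

variable (k K H) in
/-- The coaction `K → K ⊗ H`, as an algebra map. -/
noncomputable def delta : K →ₐ[k] K ⊗[k] H :=
  (Algebra.TensorProduct.map (AlgHom.id k K) (fA k K H)).comp (Bialgebra.comulAlgHom k K)

theorem FA_delta (hb : IsBialgMap k K H) (a : K) :
    FA k K H (delta k K H a) = Δ (algebraMap K H a) := by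
  rw [hb.comul, delta, AlgHom.comp_apply]
  show FA k K H ((Algebra.TensorProduct.map (AlgHom.id k K) (fA k K H)) (Δ a)) = _
  generalize (Δ a : K ⊗[k] K) = t
  induction t using TensorProduct.induction_on with
  | zero => simp
  | add x y hx hy => simp only [map_add, hx, hy]
  | tmul x y => simp

theorem jmap_smul (r : K ⊗[k] H) (y : (K ⊗[k] H) ⊗[K] M) :
    jmap (k := k) M (r • y) = FA k K H r * jmap (k := k) M y := by
  induction y using TensorProduct.induction_on with
  | zero => simp
  | add x y hx hy => rw [smul_add, map_add, hx, hy, map_add, mul_add]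
  | tmul r' m =>
    rw [TensorProduct.smul_tmul', smul_eq_mul]
    induction r using TensorProduct.induction_on with
    | zero => simp
    | add x y hx hy => rw [add_mul, TensorProduct.add_tmul, map_add, hx, hy, map_add, add_mul]
    | tmul a h =>
      induction r' using TensorProduct.induction_on with
      | zero => simp
      | add x y hx hy =>
        rw [mul_add, TensorProduct.add_tmul, map_add, hx, hy, TensorProduct.add_tmul, map_add,
          mul_add]
      | tmul a' h' =>
        rw [Algebra.TensorProduct.tmul_mul_tmul, jmap_tmul, jmap_tmul]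
        simp only [FA, Algebra.TensorProduct.map_tmul, AlgHom.coe_id, id_eq,
          Algebra.TensorProduct.tmul_mul_tmul, IsScalarTower.coe_toAlgHom']
        rw [mul_smul, Algebra.smul_def a]

variable {M}

/-- The restricted coaction `M → M ⊗ H` of a Hopf submodule. -/
noncomputable def rho (hM : IsHopfSub (k := k) M) : M →ₗ[k] M ⊗[k] H :=
  (LinearEquiv.ofInjective _ (incl_rTensor_injective (k := k) M)).symm.toLinearMap ∘ₗ
    LinearMap.codRestrict (LinearMap.range ((incl (k := k) M).rTensor H))
      ((Δ : H →ₗ[k] H ⊗[k] H) ∘ₗ incl (k := k) M) (fun m => hM m.1 m.2)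

theorem incl_rho (hM : IsHopfSub (k := k) M) (m : M) :
    (incl (k := k) M).rTensor H (rho hM m) = Δ (m : H) := by
  have := LinearEquiv.apply_symm_apply (LinearEquiv.ofInjective _ (incl_rTensor_injective (k := k) M))
    (LinearMap.codRestrict (LinearMap.range ((incl (k := k) M).rTensor H))
      ((Δ : H →ₗ[k] H ⊗[k] H) ∘ₗ incl (k := k) M) (fun m => hM m.1 m.2) m)
  exact congrArg Subtype.val this

/-- The `delta`-semilinear map `M → (K ⊗ H) ⊗[K] M`. -/
noncomputable def g2 (hM : IsHopfSub (k := k) M) : M →ₗ[k] (K ⊗[k] H) ⊗[K] M :=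
  (eqv (k := k) M).symm.toLinearMap ∘ₗ rho hM

theorem jmap_g2 (hM : IsHopfSub (k := k) M) (m : M) :
    jmap (k := k) M (g2 hM m) = Δ (m : H) := by
  rw [jmap, g2, LinearMap.comp_apply, LinearMap.comp_apply, LinearEquiv.coe_coe, LinearEquiv.coe_coe,
    LinearEquiv.apply_symm_apply, incl_rho]

theorem g2_smul (hb : IsBialgMap k K H) (hM : IsHopfSub (k := k) M) (a : K) (m : M) :
    g2 hM (a • m) = delta k K H a • g2 hM m := by
  apply jmap_injective (k := k) M
  rw [jmap_smul, jmap_g2, jmap_g2, FA_delta hb]
  show Δ (a • (m : H)) = _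
  rw [Algebra.smul_def, Bialgebra.comul_mul]

variable (k H) in
/-- `x ⊗ h ↦ Σ x₁ ⊗ x₂ S(h)`. -/
noncomputable def Phi : H ⊗[k] H →ₗ[k] H ⊗[k] H :=
  (LinearMap.mul' k H ∘ₗ (S : H →ₗ[k] H).lTensor H).lTensor H ∘ₗ
    (TensorProduct.assoc k H H H).toLinearMap ∘ₗ (Δ : H →ₗ[k] H ⊗[k] H).rTensor H

theorem Phi_aux (t : H ⊗[k] H) (h : H) :
    (LinearMap.mul' k H ∘ₗ (S : H →ₗ[k] H).lTensor H).lTensor H
      (TensorProduct.assoc k H H H (t ⊗ₜ[k] h)) = t * ((1 : H) ⊗ₜ[k] S h) := by
  induction t using TensorProduct.induction_on with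
  | zero => simp
  | add x y hx hy => rw [TensorProduct.add_tmul, map_add, map_add, hx, hy, add_mul]
  | tmul x y => simp [Algebra.TensorProduct.tmul_mul_tmul]

theorem Phi_tmul (x h : H) : Phi k H (x ⊗ₜ[k] h) = Δ x * ((1 : H) ⊗ₜ[k] S h) := by
  rw [Phi, LinearMap.comp_apply, LinearMap.comp_apply, LinearMap.rTensor_tmul, LinearEquiv.coe_coe,
    Phi_aux]

theorem Phi_comul (m : H) : Phi k H (Δ m) = m ⊗ₜ[k] (1 : H) := by
  rw [Phi, LinearMap.comp_apply, LinearMap.comp_apply, LinearEquiv.coe_coe,
    Coalgebra.coassoc_apply, ← LinearMap.comp_apply, ← LinearMap.lTensor_comp]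
  have h2 : (LinearMap.mul' k H ∘ₗ (S : H →ₗ[k] H).lTensor H) ∘ₗ (Δ : H →ₗ[k] H ⊗[k] H) =
      Algebra.linearMap k H ∘ₗ (ε : H →ₗ[k] k) := by
    apply LinearMap.ext
    intro b
    simp only [LinearMap.comp_apply]
    rw [HopfAlgebra.mul_antipode_lTensor_comul_apply]
    rfl
  rw [h2, LinearMap.lTensor_comp, LinearMap.comp_apply, Coalgebra.lTensor_counit_comul]
  simp [Algebra.algebraMap_eq_smul_one]

theorem one_tmul_mem_span (hM : IsHopfSub (k := k) M) (m : M) :
    ((1 : K ⊗[k] H) ⊗ₜ[K] m : (K ⊗[k] H) ⊗[K] M) ∈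
      Submodule.span (K ⊗[k] H) (Set.range (g2 hM)) := by
  have key : ∀ x : M ⊗[k] H, ∃ y ∈ Submodule.span (K ⊗[k] H) (Set.range (g2 hM)),
      jmap (k := k) M y = Phi k H ((incl (k := k) M).rTensor H x) := by
    intro x
    induction x using TensorProduct.induction_on with
    | zero => exact ⟨0, zero_mem _, by simp⟩
    | add x y hx hy =>
      obtain ⟨y1, h1, e1⟩ := hx
      obtain ⟨y2, h2, e2⟩ := hy
      exact ⟨y1 + y2, add_mem h1 h2, by rw [map_add, e1, e2, map_add, map_add]⟩
    | tmul m' h =>
      refine ⟨((1 : K) ⊗ₜ[k] S h) • g2 hM m', Submodule.smul_mem _ _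
        (Submodule.subset_span ⟨m', rfl⟩), ?_⟩
      rw [jmap_smul, jmap_g2, LinearMap.rTensor_tmul, Phi_tmul, mul_comm]
      simp [FA]
  obtain ⟨y, hy, e⟩ := key (rho hM m)
  rw [incl_rho, Phi_comul] at e
  have : y = (1 : K ⊗[k] H) ⊗ₜ[K] m := by
    apply jmap_injective (k := k) M
    rw [e, Algebra.TensorProduct.one_def, jmap_tmul, one_smul]
  rw [← this]
  exact hy

theorem span_range_g2 (hM : IsHopfSub (k := k) M) :
    Submodule.span (K ⊗[k] H) (Set.range (g2 hM)) = ⊤ := by
  rw [eq_top_iff]
  rintro y -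
  induction y using TensorProduct.induction_on with
  | zero => exact zero_mem _
  | add x y hx hy => exact add_mem hx hy
  | tmul r m =>
    have : r ⊗ₜ[K] m = r • ((1 : K ⊗[k] H) ⊗ₜ[K] m) := by
      rw [TensorProduct.smul_tmul', smul_eq_mul, mul_one]
    rw [this]
    exact Submodule.smul_mem _ _ (one_tmul_mem_span hM m)

/-- Fitting ideals of a finite Hopf submodule are costable. -/
theorem fitt_delta_le (hb : IsBialgMap k K H) (hM : IsHopfSub (k := k) M) [Module.Finite K M]
    (r : ℕ) :
    (Fitt.ideal K M r).map (delta k K H).toRingHom ≤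
      (Fitt.ideal K M r).map (algebraMap K (K ⊗[k] H)) := by
  rw [← ideal_baseChange (K ⊗[k] H) r]
  exact fitt_map_le_of_semilinear (delta k K H).toRingHom (g2 hM).toAddMonoidHom
    (fun a m => g2_smul hb hM a m) (span_range_g2 hM) r

theorem delta_mem_range (hb : IsBialgMap k K H) (hM : IsHopfSub (k := k) M) [Module.Finite K M]
    (r : ℕ) (a : K) (ha : a ∈ Fitt.ideal K M r) :
    delta k K H a ∈ LinearMap.range
      (LinearMap.rTensor H (Submodule.subtype ((Fitt.ideal K M r).restrictScalars k))) := by
  have h1 : delta k K H a ∈ (Fitt.ideal K M r).map (algebraMap K (K ⊗[k] H)) :=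
    fitt_delta_le hb hM r (Ideal.mem_map_of_mem _ ha)
  have h2 := Ideal.map_includeLeft_eq (R := k) (A := K) (B := H) (Fitt.ideal K M r)
  have h3 : delta k K H a ∈ ((Fitt.ideal K M r).map
      (Algebra.TensorProduct.includeLeft : K →ₐ[k] K ⊗[k] H)).restrictScalars k := h1
  rwa [h2] at h3

theorem delta_eq (a : K) :
    delta k K H a = (fA k K H).toLinearMap.lTensor K (Δ a) := by
  rw [delta, AlgHom.comp_apply]
  show (Algebra.TensorProduct.map (AlgHom.id k K) (fA k K H)) (Δ a) = _
  generalize (Δ a : K ⊗[k] K) = t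
  induction t using TensorProduct.induction_on with
  | zero => simp
  | add x y hx hy => simp only [map_add, hx, hy]
  | tmul x y => simp

/-- Costable ideals of a Hopf algebra are trivial: the Fitting ideals of a finite Hopf submodule are
`⊥` or `⊤`. -/
theorem fitt_bot_or_top (hb : IsBialgMap k K H) (hinj : Function.Injective (algebraMap K H))
    (hM : IsHopfSub (k := k) M) [Module.Finite K M] (r : ℕ) :
    Fitt.ideal K M r = ⊥ ∨ Fitt.ideal K M r = ⊤ := by
  set I := Fitt.ideal K M r with hI
  have hker : LinearMap.ker (fA k K H).toLinearMap = ⊥ := by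
    rw [LinearMap.ker_eq_bot]
    exact hinj
  obtain ⟨ret, hret⟩ := LinearMap.exists_leftInverse_of_injective (fA k K H).toLinearMap hker
  -- step 1 : `ε a • 1 ∈ I`
  let lam : K ⊗[k] H →ₗ[k] K :=
    LinearMap.mul' k K ∘ₗ ((HopfAlgebraStruct.antipode k (A := K)) ∘ₗ ret).lTensor K
  have hlam : ∀ z : (I.restrictScalars k) ⊗[k] H,
      lam (LinearMap.rTensor H (Submodule.subtype (I.restrictScalars k)) z) ∈ I := by
    intro z
    induction z using TensorProduct.induction_on with
    | zero => simp
    | add x y hx hy => rw [map_add, map_add]; exact add_mem hx hy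
    | tmul x h =>
      simp only [lam, LinearMap.rTensor_tmul, LinearMap.comp_apply, LinearMap.lTensor_tmul,
        LinearMap.mul'_apply, Submodule.subtype_apply]
      exact Ideal.mul_mem_right _ _ x.2
  have hlam2 : ∀ a : K, lam (delta k K H a) = algebraMap k K (ε a) := by
    intro a
    rw [delta_eq, ← LinearMap.comp_apply]
    have : lam ∘ₗ (fA k K H).toLinearMap.lTensor K =
        LinearMap.mul' k K ∘ₗ (HopfAlgebraStruct.antipode k (A := K)).lTensor K := by
      simp only [lam]
      rw [LinearMap.comp_assoc, ← LinearMap.lTensor_comp, LinearMap.comp_assoc, hret,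
        LinearMap.comp_id]
    rw [this, LinearMap.comp_apply, HopfAlgebra.mul_antipode_lTensor_comul_apply]
  have h1 : ∀ a ∈ I, algebraMap k K (ε a) ∈ I := by
    intro a ha
    obtain ⟨z, hz⟩ := delta_mem_range hb hM r a ha
    rw [← hlam2, ← hz]
    exact hlam z
  by_cases hex : ∃ a ∈ I, ε a ≠ 0
  · right
    obtain ⟨a, ha, hne⟩ := hex
    rw [Ideal.eq_top_iff_one]
    have := Ideal.mul_mem_left I (algebraMap k K (ε a)⁻¹) (h1 a ha)
    rwa [← map_mul, inv_mul_cancel₀ hne, map_one] at this
  · left
    push Not at hex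
    rw [eq_bot_iff]
    intro a ha
    rw [Ideal.mem_bot]
    let mu : K ⊗[k] H →ₗ[k] H :=
      (TensorProduct.lid k H).toLinearMap ∘ₗ (ε : K →ₗ[k] k).rTensor H
    have hmu : ∀ z : (I.restrictScalars k) ⊗[k] H,
        mu (LinearMap.rTensor H (Submodule.subtype (I.restrictScalars k)) z) = 0 := by
      intro z
      induction z using TensorProduct.induction_on with
      | zero => simp
      | add x y hx hy => rw [map_add, map_add, hx, hy, add_zero]
      | tmul x h =>
        simp only [mu, LinearMap.rTensor_tmul, LinearMap.comp_apply, LinearEquiv.coe_coe,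
          TensorProduct.lid_tmul, Submodule.subtype_apply]
        rw [hex x.1 x.2, zero_smul]
    have hmu2 : mu (delta k K H a) = algebraMap K H a := by
      rw [delta_eq]
      have : mu ∘ₗ (fA k K H).toLinearMap.lTensor K =
          (fA k K H).toLinearMap ∘ₗ (TensorProduct.lid k K).toLinearMap ∘ₗ
            (ε : K →ₗ[k] k).rTensor K := by
        apply TensorProduct.ext'
        intro x y
        simp only [mu, LinearMap.comp_apply, LinearMap.lTensor_tmul, LinearMap.rTensor_tmul,
          LinearEquiv.coe_coe, TensorProduct.lid_tmul, AlgHom.toLinearMap_apply,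
          IsScalarTower.coe_toAlgHom', map_smul]
      rw [← LinearMap.comp_apply, this, LinearMap.comp_apply, LinearMap.comp_apply,
        Coalgebra.rTensor_counit_comul]
      simp
    obtain ⟨z, hz⟩ := delta_mem_range hb hM r a ha
    have h0 : algebraMap K H a = 0 := by rw [← hmu2, ← hz, hmu]
    exact hinj (by rw [h0, map_zero])

theorem flat_of_isHopfSub (hb : IsBialgMap k K H) (hinj : Function.Injective (algebraMap K H))
    (hM : IsHopfSub (k := k) M) [Module.Finite K M] : Module.Flat K M :=
  flat_of_fitt_bot_or_top fun r => fitt_bot_or_top hb hinj hM r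

variable (M) in
theorem mul_mem_range_incl (r : K ⊗[k] H) (t : H ⊗[k] H)
    (ht : t ∈ LinearMap.range ((incl (k := k) M).rTensor H)) :
    FA k K H r * t ∈ LinearMap.range ((incl (k := k) M).rTensor H) := by
  obtain ⟨z, rfl⟩ := ht
  refine ⟨eqv (k := k) M (r • (eqv (k := k) M).symm z), ?_⟩
  have h1 : ∀ y, (incl (k := k) M).rTensor H (eqv (k := k) M y) = jmap (k := k) M y := fun _ => rfl
  rw [h1, jmap_smul, ← h1, LinearEquiv.apply_symm_apply]

theorem isHopfSub_span (hb : IsBialgMap k K H) (s : Set H)
    (hs : ∀ x ∈ s, Δ x ∈ LinearMap.range ((incl (k := k) (Submodule.span K s)).rTensor H)) :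
    IsHopfSub (k := k) (Submodule.span K s) := by
  intro m hm
  induction hm using Submodule.span_induction with
  | mem x hx => exact hs x hx
  | zero => rw [map_zero]; exact zero_mem _
  | add x y _ _ hx hy => rw [map_add]; exact add_mem hx hy
  | smul a x _ hx =>
    rw [Algebra.smul_def, Bialgebra.comul_mul, ← FA_delta hb]
    exact mul_mem_range_incl _ _ _ hx

theorem exists_finite_hopfSub (hb : IsBialgMap k K H) {l : ℕ} (x : Fin l → H) :
    ∃ M : Submodule K H, IsHopfSub (k := k) M ∧ Module.Finite K M ∧ ∀ i, x i ∈ M := by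
  classical
  choose W hWfin hxW hWsub using fun i =>
    Groth.Agent.Lib.Comod.exists_finite_subcomod_mem (k := k) (C := H) (V := H) (x i)
  let W' : Submodule k H := ⨆ i, W i
  have hW'fin : Module.Finite k W' := by
    have := hWfin
    exact Submodule.finite_iSup W
  refine ⟨Submodule.span K (W' : Set H), ?_, ?_, fun i => Submodule.subset_span
    (le_iSup W i (hxW i))⟩
  · apply isHopfSub_span hb
    intro y hy
    have hy' : y ∈ ⨆ i, W i := hy
    clear hy
    induction hy' using Submodule.iSup_induction' with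
    | mem i y hyi =>
      obtain ⟨z, hz⟩ := hWsub i y hyi
      have hz' : Δ y = (W i).subtype.rTensor H z := hz.symm
      rw [hz']
      clear hz hz'
      induction z using TensorProduct.induction_on with
      | zero => rw [map_zero]; exact zero_mem _
      | add a b ha hb' => rw [map_add]; exact add_mem ha hb'
      | tmul w h =>
        exact ⟨(⟨w.1, Submodule.subset_span (le_iSup W i w.2)⟩ :
          Submodule.span K (W' : Set H)) ⊗ₜ[k] h, rfl⟩
    | zero => rw [map_zero]; exact zero_mem _
    | add a b _ _ ha hb' => rw [map_add]; exact add_mem ha hb'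
  · obtain ⟨t, ht⟩ := (Module.Finite.iff_fg.1 hW'fin)
    rw [Module.Finite.iff_fg]
    refine ⟨t, ?_⟩
    rw [← ht, Submodule.span_span_of_tower]

/-- **Flatness** (Masuoka–Wigner): a commutative Hopf algebra over a field is flat over a Hopf
subalgebra. -/
theorem flat_of_isBialgMap (hb : IsBialgMap k K H) (hinj : Function.Injective (algebraMap K H)) :
    Module.Flat K H :=
  flat_of_forall_finite_mem_flat fun l x => by
    obtain ⟨M, hM, hfin, hx⟩ := exists_finite_hopfSub hb x
    exact ⟨M, flat_of_isHopfSub hb hinj hM, hx⟩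

end Hopf



open TensorProduct WithConv

section Faithful

variable {k : Type u} [Field k] {K : Type v} {H : Type w} [CommRing K] [CommRing H]
  [HopfAlgebra k K] [HopfAlgebra k H] [Algebra K H] [IsScalarTower k K H]

local notation "Δ" => CoalgebraStruct.comul (R := k)
local notation "ε" => CoalgebraStruct.counit (R := k)

/-- The structure map as a bialgebra map. -/
noncomputable def fB (hb : IsBialgMap k K H) : K →ₐc[k] H :=
  BialgHom.ofAlgHom (fA k K H)
    (by
      ext a
      exact hb.counit a)
    (by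
      ext a
      simp only [AlgHom.comp_apply, Bialgebra.comulAlgHom_apply]
      rw [show (fA k K H) a = algebraMap K H a from rfl, hb.comul]
      generalize (Δ a : K ⊗[k] K) = t
      induction t using TensorProduct.induction_on with
      | zero => simp
      | add x y hx hy => simp only [map_add, hx, hy]
      | tmul x y => simp)

theorem fB_coe (hb : IsBialgMap k K H) : ((fB hb : K →ₐc[k] H) : K →ₐ[k] H) = fA k K H := rfl

/-- For a point `g` of a commutative Hopf algebra, `g ∘ S` is a left inverse for convolution. -/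
theorem conv_antipode_mul {T : Type x} [CommRing T] [Algebra k T] (g : H →ₐ[k] T) :
    toConv (g.comp (HopfAlgebra.antipodeAlgHom k H)) * toConv g = 1 := by
  have hH : (Algebra.TensorProduct.lmul' k).comp (Algebra.TensorProduct.map g g) =
      g.comp (Algebra.TensorProduct.lmul' k) := by ext <;> simp
  trans toConv <| ((Algebra.TensorProduct.lmul' k).comp
      (Algebra.TensorProduct.map g g)).comp
    ((Algebra.TensorProduct.map
    (HopfAlgebra.antipodeAlgHom k H) (.id _ _)).comp (Bialgebra.comulAlgHom k H))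
  · rw [AlgHom.comp_assoc, ← AlgHom.comp_assoc (Algebra.TensorProduct.map g g),
      ← Algebra.TensorProduct.map_comp]; rfl
  rw [hH, AlgHom.comp_assoc, WithConv.ext_iff, ← AlgHom.toLinearMap_injective.eq_iff]
  change g.toLinearMap.comp
      (toConv (HopfAlgebraStruct.antipode k (A := H)) * toConv LinearMap.id).ofConv =
    ofConv (1 : WithConv <| H →ₗ[k] T)
  rw [LinearMap.antipode_mul_id]
  ext
  simp

section Twist

variable {L : Type x} [CommRing L] [Algebra k L] (xp : K →ₐ[k] L)

/-- `a ↦ Σ a₁ ⊗ x(a₂)`, `K → K ⊗ L`. -/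
noncomputable def phi' : K →ₐ[k] K ⊗[k] L :=
  (Algebra.TensorProduct.map (AlgHom.id k K) xp).comp (Bialgebra.comulAlgHom k K)

/-- `b ⊗ l ↦ Σ b₁ ⊗ x(S b₂) l`. -/
noncomputable def Gmap : K ⊗[k] L →ₗ[k] K ⊗[k] L :=
  (LinearMap.mul' k L ∘ₗ (xp.toLinearMap ∘ₗ HopfAlgebraStruct.antipode k (A := K)).rTensor L).lTensor K
    ∘ₗ (TensorProduct.assoc k K K L).toLinearMap ∘ₗ (Δ : K →ₗ[k] K ⊗[k] K).rTensor L

theorem Gmap_phi' (a : K) : Gmap xp (phi' xp a) = a ⊗ₜ[k] (1 : L) := by
  have h1 : phi' xp a = xp.toLinearMap.lTensor K (Δ a) := by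
    rw [phi', AlgHom.comp_apply]
    show (Algebra.TensorProduct.map (AlgHom.id k K) xp) (Δ a) = _
    generalize (Δ a : K ⊗[k] K) = t
    induction t using TensorProduct.induction_on with
    | zero => simp
    | add x y hx hy => simp only [map_add, hx, hy]
    | tmul x y => simp
  -- `(Δ ⊗ id) ∘ (id ⊗ x) = (id ⊗ id ⊗ x) ∘ (Δ ⊗ id)`
  have h2 : ∀ t : K ⊗[k] K,
      (TensorProduct.assoc k K K L) ((Δ : K →ₗ[k] K ⊗[k] K).rTensor L (xp.toLinearMap.lTensor K t)) =
        (xp.toLinearMap.lTensor K).lTensor K
          ((TensorProduct.assoc k K K K) ((Δ : K →ₗ[k] K ⊗[k] K).rTensor K t)) := by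
    intro t
    induction t using TensorProduct.induction_on with
    | zero => simp
    | add x y hx hy => simp only [map_add, hx, hy]
    | tmul x y =>
      simp only [LinearMap.lTensor_tmul, LinearMap.rTensor_tmul]
      generalize (Δ x : K ⊗[k] K) = s
      induction s using TensorProduct.induction_on with
      | zero => simp
      | add x y hx hy => simp only [TensorProduct.add_tmul, map_add, hx, hy]
      | tmul p q => simp
  rw [Gmap, LinearMap.comp_apply, LinearMap.comp_apply, LinearEquiv.coe_coe, h1, h2,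
    Coalgebra.coassoc_apply, ← LinearMap.comp_apply, ← LinearMap.lTensor_comp,
    ← LinearMap.comp_apply, ← LinearMap.lTensor_comp]
  have h4 : ∀ t : K ⊗[k] K, LinearMap.mul' k L
      ((xp.toLinearMap ∘ₗ HopfAlgebraStruct.antipode k (A := K)).rTensor L
        (xp.toLinearMap.lTensor K t)) =
      xp (LinearMap.mul' k K ((HopfAlgebraStruct.antipode k (A := K)).rTensor K t)) := by
    intro t
    induction t using TensorProduct.induction_on with
    | zero => simp
    | add x y hx hy => simp only [map_add, hx, hy]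
    | tmul p q => simp
  have h3 : ((LinearMap.mul' k L ∘ₗ
      (xp.toLinearMap ∘ₗ HopfAlgebraStruct.antipode k (A := K)).rTensor L) ∘ₗ
        xp.toLinearMap.lTensor K) ∘ₗ (Δ : K →ₗ[k] K ⊗[k] K) =
      Algebra.linearMap k L ∘ₗ (ε : K →ₗ[k] k) := by
    apply LinearMap.ext
    intro b
    simp only [LinearMap.comp_apply]
    rw [h4, HopfAlgebra.mul_antipode_rTensor_comul_apply]
    simp
  rw [h3, LinearMap.lTensor_comp, LinearMap.comp_apply, Coalgebra.lTensor_counit_comul]
  simp [Algebra.algebraMap_eq_smul_one]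

theorem phi'_injective [Nontrivial L] : Function.Injective (phi' (k := k) xp) := by
  intro a b hab
  have := congrArg (Gmap xp) hab
  rw [Gmap_phi', Gmap_phi'] at this
  exact Algebra.TensorProduct.includeLeft_injective (S := k) (R := k) (A := K) (B := L)
    (algebraMap k L).injective this

variable (H) in
/-- `a ↦ Σ f(a₁) ⊗ x(a₂)`, `K → H ⊗ L`. -/
noncomputable def psi : K →ₐ[k] H ⊗[k] L :=
  (Algebra.TensorProduct.map (fA k K H) xp).comp (Bialgebra.comulAlgHom k K)

theorem psi_eq : psi H xp = (Algebra.TensorProduct.map (fA k K H) (AlgHom.id k L)).comp (phi' xp) := by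
  rw [psi, phi', ← AlgHom.comp_assoc, ← Algebra.TensorProduct.map_comp]
  rfl

theorem psi_injective [Nontrivial L] (hinj : Function.Injective (algebraMap K H)) :
    Function.Injective (psi H xp) := by
  rw [psi_eq, AlgHom.coe_comp]
  have : ⇑(Algebra.TensorProduct.map (fA k K H) (AlgHom.id k L)) =
      ⇑((fA k K H).toLinearMap.rTensor L) := by
    ext t
    induction t using TensorProduct.induction_on with
    | zero => simp
    | add x y hx hy => simp only [map_add, hx, hy]
    | tmul p q => simp
  rw [this]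
  exact (Module.Flat.rTensor_preserves_injective_linearMap _ hinj).comp (phi'_injective xp)

variable (H) in
/-- `H ⊗ L` with `K` acting through `psi`. -/
def Tw (_ : K →ₐ[k] L) : Type (max w x) := H ⊗[k] L

noncomputable instance : CommRing (Tw H xp) := inferInstanceAs (CommRing (H ⊗[k] L))
noncomputable instance : Algebra k (Tw H xp) := inferInstanceAs (Algebra k (H ⊗[k] L))
noncomputable instance : Algebra K (Tw H xp) := (psi H xp).toRingHom.toAlgebra
instance : IsScalarTower k K (Tw H xp) :=
  IsScalarTower.of_algebraMap_eq fun c => ((psi H xp).commutes c).symm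

theorem algebraMap_Tw (a : K) : algebraMap K (Tw H xp) a = psi H xp a := rfl

variable (H) in
/-- The ring `H ⊗[K] (H ⊗ L)_ψ`. -/
abbrev TT : Type (max w x) := H ⊗[K] Tw H xp

theorem nontrivial_of_hopf (k : Type u) [Field k] (H : Type w) [CommRing H] [HopfAlgebra k H] :
    Nontrivial H := by
  refine nontrivial_of_ne (1 : H) 0 fun h => ?_
  have := congrArg (CoalgebraStruct.counit (R := k) : H → k) h
  rw [Bialgebra.counit_one, map_zero] at this
  exact one_ne_zero this

theorem nontrivial_TT [Nontrivial L] (hflat : Module.Flat K H)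
    (hinj : Function.Injective (algebraMap K H)) : Nontrivial (TT H xp) := by
  have h1 : Function.Injective (Algebra.linearMap K (Tw H xp)) := psi_injective xp hinj
  have h2 := Module.Flat.lTensor_preserves_injective_linearMap (M := H) _ h1
  refine nontrivial_of_ne (1 : TT H xp) 0 fun h => ?_
  have h3 : (Algebra.linearMap K (Tw H xp)).lTensor H ((1 : H) ⊗ₜ[K] (1 : K)) = 0 := by
    rw [LinearMap.lTensor_tmul, Algebra.linearMap_apply, map_one]
    exact h
  have h4 : ((1 : H) ⊗ₜ[K] (1 : K)) = 0 := h2 (by rw [h3, map_zero])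
  have h5 := congrArg (TensorProduct.rid K H) h4
  rw [TensorProduct.rid_tmul, one_smul, map_zero] at h5
  have := nontrivial_of_hopf k H
  exact one_ne_zero h5

/-- `u : H → T`, first factor. -/
noncomputable def uu : H →ₐ[k] TT H xp := Algebra.TensorProduct.includeLeft

/-- `Tw → T`. -/
noncomputable def vP : Tw H xp →ₐ[K] TT H xp := Algebra.TensorProduct.includeRight

/-- `v : H → T`, second factor. -/
noncomputable def vv : H →ₐ[k] TT H xp :=
  ((vP xp).restrictScalars k).comp
    (show H →ₐ[k] Tw H xp from (Algebra.TensorProduct.includeLeft : H →ₐ[k] H ⊗[k] L))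

/-- `ξ : L → T`. -/
noncomputable def xi : L →ₐ[k] TT H xp :=
  ((vP xp).restrictScalars k).comp
    (show L →ₐ[k] Tw H xp from (Algebra.TensorProduct.includeRight : L →ₐ[k] H ⊗[k] L))

theorem vP_map (t : K ⊗[k] K) :
    vP xp (show Tw H xp from (Algebra.TensorProduct.map (fA k K H) xp) t) =
      Algebra.TensorProduct.lift ((vv xp).comp (fA k K H)) ((xi xp).comp xp)
        (fun _ _ => Commute.all _ _) t := by
  induction t using TensorProduct.induction_on with
  | zero =>
    rw [map_zero, map_zero]
    exact map_zero (vP xp)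
  | add x y hx hy =>
    simp only [map_add]
    rw [← hx, ← hy]
    exact map_add (vP xp) _ _
  | tmul p q =>
    simp only [Algebra.TensorProduct.map_tmul, Algebra.TensorProduct.lift_tmul, AlgHom.comp_apply]
    rw [vv, xi, AlgHom.comp_apply, AlgHom.comp_apply, AlgHom.restrictScalars_apply,
      AlgHom.restrictScalars_apply, ← map_mul]
    congr 1
    show _ = (((fA k K H) p ⊗ₜ[k] (1 : L)) * ((1 : H) ⊗ₜ[k] xp q) : H ⊗[k] L)
    rw [Algebra.TensorProduct.tmul_mul_tmul, mul_one, one_mul]

theorem uu_comp_fA :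
    (uu xp).comp (fA k K H) =
      ofConv (toConv ((vv xp).comp (fA k K H)) * toConv ((xi xp).comp xp)) := by
  ext a
  have h1 := AlgHom.convMul_apply (toConv ((vv xp).comp (fA k K H))) (toConv ((xi xp).comp xp)) a
  refine Eq.trans ?_ h1.symm
  rw [ofConv_toConv, ofConv_toConv, ← vP_map, AlgHom.comp_apply]
  show ((algebraMap K H a) ⊗ₜ[K] (1 : Tw H xp) : TT H xp) =
    (1 : H) ⊗ₜ[K] (algebraMap K (Tw H xp) a)
  rw [Algebra.algebraMap_eq_smul_one, Algebra.algebraMap_eq_smul_one,
    TensorProduct.smul_tmul]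

/-- `w = (v ∘ S) * u`. -/
noncomputable def ww : H →ₐ[k] TT H xp :=
  ofConv (toConv ((vv xp).comp (HopfAlgebra.antipodeAlgHom k H)) * toConv (uu xp))

theorem ww_comp_fA (hb : IsBialgMap k K H) : (ww xp).comp (fA k K H) = (xi xp).comp xp := by
  have h1 := AlgHom.convMul_comp_bialgHom_distrib
    (toConv ((vv xp).comp (HopfAlgebra.antipodeAlgHom k H))) (toConv (uu xp)) (fB hb)
  rw [fB_coe] at h1
  have h2 := AlgHom.convMul_comp_bialgHom_distrib
    (toConv ((vv xp).comp (HopfAlgebra.antipodeAlgHom k H))) (toConv (vv xp)) (fB hb)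
  rw [fB_coe, conv_antipode_mul] at h2
  have h3 : (1 : WithConv (H →ₐ[k] TT H xp)).ofConv.comp (fA k K H) =
      (1 : WithConv (K →ₐ[k] TT H xp)).ofConv := by
    ext a
    simp only [AlgHom.comp_apply, AlgHom.convOne_def, ofConv_toConv, Bialgebra.counitAlgHom_apply]
    congr 1
    exact hb.counit a
  rw [h3] at h2
  rw [ww, h1]
  rw [uu_comp_fA, toConv_ofConv, ← mul_assoc]
  have h4 := congrArg toConv h2
  rw [toConv_ofConv, toConv_ofConv] at h4
  rw [← h4, one_mul, ofConv_toConv]

theorem ww_algebraMap (hb : IsBialgMap k K H) (a : K) (ha : xp a = 0) :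
    ww xp (algebraMap K H a) = 0 := by
  have := AlgHom.congr_fun (ww_comp_fA xp hb) a
  rw [AlgHom.comp_apply, AlgHom.comp_apply, ha, map_zero] at this
  exact this

end Twist

/-- **Faithful flatness** (Takeuchi): a commutative Hopf algebra over a field is faithfully flat over
a Hopf subalgebra. -/
theorem faithfullyFlat_of_isBialgMap (hb : IsBialgMap k K H)
    (hinj : Function.Injective (algebraMap K H)) : Module.FaithfullyFlat K H := by
  have hflat : Module.Flat K H := flat_of_isBialgMap hb hinj
  refine { submodule_ne_top := ?_ }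
  intro m hm htop
  let xp : K →ₐ[k] K ⧸ m := Ideal.Quotient.mkₐ k m
  have hnt : Nontrivial (TT H xp) := nontrivial_TT xp hflat hinj
  have h1 : (1 : H) ∈ m • (⊤ : Submodule K H) := by rw [htop]; trivial
  have h2 : ∀ y ∈ m • (⊤ : Submodule K H), ww xp y = 0 := by
    intro y hy
    refine Submodule.smul_induction_on hy (fun a ha h _ => ?_) (fun x y hx hy => ?_)
    · rw [Algebra.smul_def, map_mul, ww_algebraMap xp hb a
        (by simpa [xp] using Ideal.Quotient.eq_zero_iff_mem.2 ha), zero_mul]
    · rw [map_add, hx, hy, add_zero]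
  have h3 := h2 1 h1
  rw [map_one] at h3
  exact one_ne_zero h3

end Faithful


end Groth.Agent.Lib.HopfFlat41
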