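import Groth.Agent.Lib.HopfInfinitesimal41
import Mathlib.RingTheory.HopfAlgebra.TensorProduct
import Mathlib.RingTheory.IntegralClosure.IsIntegralClosure.Basic
import Mathlib.FieldTheory.IsAlgClosed.AlgebraicClosure
import Mathlib.RingTheory.Localization.FractionRing

/-!
# Frobenius height of Hopf algebras (helper41)

`R` a ring of characteristic `p`, `A` a commutative Hopf `R`-algebra of finite type.

* `finite_of_pow_eq_zero`: if `a ^ q = 0` on the augmentation ideal then `A` is finite over `R`.
* `pow_eq_zero_baseChange`: finite Frobenius height passes to base changes to fields.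
* `isNilpotent_of_forall_isLocalRing`: if `A` is finite over `R` and all geometric fibres are local,
  the augmentation ideal is nil.
-/

set_option autoImplicit false
universe u

open TensorProduct

namespace Groth.Agent.Lib.HopfFrobHeight41

variable {R : Type u} [CommRing R] {A : Type u} [CommRing A] [HopfAlgebra R A]

theorem finite_of_pow_eq_zero [Algebra.FiniteType R A] (q : ℕ) (hq : 0 < q)
    (h1 : ∀ a : A, Bialgebra.counitAlgHom R A a = 0 → a ^ q = 0) : Module.Finite R A := by
  have hint : Algebra.IsIntegral R A := ⟨fun a => by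
    have e : a = algebraMap R A (CoalgebraStruct.counit (R := R) a) +
        (a - algebraMap R A (CoalgebraStruct.counit (R := R) a)) := by ring
    rw [e]
    refine IsIntegral.add isIntegral_algebraMap ?_
    refine IsIntegral.of_pow hq ?_
    rw [h1 _ (by rw [map_sub, AlgHom.commutes, Bialgebra.counitAlgHom_apply]; simp)]
    exact isIntegral_zero⟩
  exact Algebra.IsIntegral.finite

theorem pow_eq_zero_baseChange (p : ℕ) [Fact p.Prime] (K : Type u) [Field K] [Algebra R K]
    [CharP K p] (n : ℕ)
    (h1 : ∀ a : A, Bialgebra.counitAlgHom R A a = 0 → a ^ p ^ n = 0) :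
    ∀ f : K ⊗[R] A, CoalgebraStruct.counit (R := K) f = 0 → f ^ p ^ n = 0 := by
  have hκA : CharP (K ⊗[R] A) p := FrobSection41.charP_of_bialgebra (k := K) p _
  have key : ∀ f : K ⊗[R] A,
      (f - algebraMap K (K ⊗[R] A) (CoalgebraStruct.counit (R := K) f)) ^ p ^ n = 0 := by
    intro f
    induction f using TensorProduct.induction_on with
    | zero => simp [zero_pow (pow_pos (Fact.out : p.Prime).pos n).ne']
    | tmul c a =>
      have e : c ⊗ₜ[R] a - algebraMap K (K ⊗[R] A)
          (CoalgebraStruct.counit (R := K) (c ⊗ₜ[R] a)) =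
          c ⊗ₜ[R] (a - algebraMap R A (CoalgebraStruct.counit (R := R) a)) := by
        rw [TensorProduct.counit_tmul, Algebra.TensorProduct.algebraMap_apply,
          TensorProduct.tmul_sub]
        congr 1
        show (CoalgebraStruct.counit (R := R) a • c) ⊗ₜ[R] (1 : A) = _
        rw [TensorProduct.smul_tmul, Algebra.algebraMap_eq_smul_one]
      rw [e, Algebra.TensorProduct.tmul_pow,
        h1 _ (by rw [map_sub, AlgHom.commutes, Bialgebra.counitAlgHom_apply]; simp),
        TensorProduct.tmul_zero]
    | add f g hf hg =>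
      have e : f + g - algebraMap K (K ⊗[R] A) (CoalgebraStruct.counit (R := K) (f + g)) =
          (f - algebraMap K (K ⊗[R] A) (CoalgebraStruct.counit (R := K) f)) +
          (g - algebraMap K (K ⊗[R] A) (CoalgebraStruct.counit (R := K) g)) := by
        rw [map_add, map_add]
        ring
      rw [e, add_pow_char_pow, hf, hg, add_zero]
  intro f hf0
  have := key f
  rwa [hf0, map_zero, sub_zero] at this

/-- If all geometric fibres are local rings, the augmentation ideal is nil. -/
theorem isNilpotent_of_forall_isLocalRing [Module.Finite R A]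
    (hloc : ∀ (K : Type u) [Field K] [IsAlgClosed K] [Algebra R K], IsLocalRing (K ⊗[R] A))
    (a : A) (ha : CoalgebraStruct.counit (R := R) a = 0) : IsNilpotent a := by
  rw [nilpotent_iff_mem_prime]
  intro q hq
  let L := FractionRing (A ⧸ q)
  let K := AlgebraicClosure L
  have hK := hloc K
  have h1 : IsNilpotent ((1 : K) ⊗ₜ[R] a) := by
    apply HopfInfinitesimal41.nil_of_isLocalRing (k := K)
    rw [TensorProduct.counit_tmul, ha, zero_smul]
  let g : A →ₐ[R] K := IsScalarTower.toAlgHom R A K
  let φ : K ⊗[R] A →ₐ[R] K := Algebra.TensorProduct.productMap (AlgHom.id R K) g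
  have h2 : IsNilpotent (φ ((1 : K) ⊗ₜ[R] a)) := h1.map φ
  have h3 : φ ((1 : K) ⊗ₜ[R] a) = algebraMap A K a := by
    simp [φ, g]
  rw [h3] at h2
  have h4 : algebraMap A K a = 0 := h2.eq_zero
  have h5 : algebraMap A K a = algebraMap L K (algebraMap (A ⧸ q) L (Ideal.Quotient.mk q a)) := by
    rw [← IsScalarTower.algebraMap_apply (A ⧸ q) L K, ← Ideal.Quotient.algebraMap_eq,
      ← IsScalarTower.algebraMap_apply A (A ⧸ q) K]
  rw [h5] at h4
  have h6 := (algebraMap L K).injective (h4.trans (map_zero _).symm)
  have h7 := IsFractionRing.injective (A ⧸ q) L (h6.trans (map_zero _).symm)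
  exact Ideal.Quotient.eq_zero_iff_mem.1 h7

end Groth.Agent.Lib.HopfFrobHeight41
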