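import Groth.Agent.Lib.Cartier38b
import Mathlib.RingTheory.MvPolynomial.Homogeneous
import Mathlib.Data.Finsupp.Multiset
import Mathlib.Data.Sym.Card
import Mathlib.RingTheory.Ideal.Cotangent
import Mathlib.LinearAlgebra.Dimension.Constructions
import Mathlib.LinearAlgebra.FiniteDimensional.Lemmas

/-!
# Graded pieces of the augmentation filtration of a Hopf algebra (helper41)

Builds on helper38's `Lib/Cartier38(b)`.  For a commutative bialgebra `A` over a field with
coordinates `c : Coords k A ι` at the identity (`I` the augmentation ideal):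

* `coords_eq_zero_of_evx_mem`: if `n!` is nonzero in `k`, a homogeneous polynomial `P` of degree
  `n` with `P(x) ∈ I^(n+1)` vanishes (Cartier's lemma with the sharp hypothesis on `n`).
* `finrank_homogeneousSubmodule`: the dimension of the space of homogeneous polynomials.
* `finrank_quotient_pow_succ`: `dim A/I^(n+1) = dim A/I^n + C(r+n-1, n)`.
-/

set_option autoImplicit false
set_option linter.unusedSectionVars false
universe u v

open TensorProduct

namespace Groth.Agent.Lib.HopfGraded41

open Groth.Agent.Lib.Cartier38 Groth.Agent.Lib.Comod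

section Key

variable {k : Type u} [Field k] {A : Type v} [CommRing A] [Bialgebra k A]
variable {ι : Type} [Fintype ι] [DecidableEq ι] (c : Coords k A ι)

/-- Cartier's lemma with the sharp hypothesis: if `n!` is invertible in `k`, the coordinates are
algebraically independent modulo `I^(n+1)` in degree `n`. -/
theorem coords_eq_zero_of_evx_mem (n : ℕ) (hn : (n.factorial : k) ≠ 0) :
    ∀ P : MvPolynomial ι k, P.IsHomogeneous n → c.evx P ∈ augI k A ^ (n + 1) → P = 0 := by
  induction n with
  | zero =>
    intro P hP hmem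
    rw [← MvPolynomial.totalDegree_zero_iff_isHomogeneous,
      MvPolynomial.totalDegree_eq_zero_iff_eq_C] at hP
    rw [hP, Coords.evx, MvPolynomial.aeval_C, zero_add, pow_one, mem_augI,
      Bialgebra.counit_algebraMap] at hmem
    rw [hP]
    simpa using hmem
  | succ n ih =>
    intro P hP hmem
    have hfac : ((n + 1 : ℕ) : k) * (n.factorial : k) ≠ 0 := by
      rw [← Nat.cast_mul, ← Nat.factorial_succ]
      exact hn
    have hn1 : ((n + 1 : ℕ) : k) ≠ 0 := left_ne_zero_of_mul hfac
    have hn0 : (n.factorial : k) ≠ 0 := right_ne_zero_of_mul hfac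
    have hpd : ∀ i, MvPolynomial.pderiv i P = 0 := by
      intro i
      have hh : ∀ j, (MvPolynomial.pderiv j P).IsHomogeneous n := fun j => hP.pderiv
      apply ih hn0 _ (hh i)
      have h1 := der_pow_le (c.D i) (c.D_mul i) (augI k A) (n + 1) _ hmem
      rw [c.chain (c.D i) (c.D_mul i)] at h1
      have e : c.evx (MvPolynomial.pderiv i P) =
          ∑ j, c.evx (MvPolynomial.pderiv j P) * c.D i (c.x j) -
          ∑ j, c.evx (MvPolynomial.pderiv j P) *
            (c.D i (c.x j) - (if i = j then (1 : A) else 0)) := by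
        rw [← Finset.sum_sub_distrib]
        simp only [mul_sub, sub_sub_cancel, mul_ite, mul_one, mul_zero]
        rw [Finset.sum_ite_eq]
        simp
      rw [e]
      refine Ideal.sub_mem _ h1 (Ideal.sum_mem _ fun j _ => ?_)
      have := Ideal.mul_mem_mul (c.evx_mem_pow (hh j)) (c.D_x_sub_mem i j)
      rwa [← pow_succ] at this
    have hE := hP.sum_X_mul_pderiv
    simp only [hpd, mul_zero, Finset.sum_const_zero] at hE
    rw [nsmul_eq_mul] at hE
    rcases mul_eq_zero.1 hE.symm with h | h
    · exfalso
      have : ((n + 1 : ℕ) : MvPolynomial ι k) = MvPolynomial.C ((n + 1 : ℕ) : k) := by simp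
      rw [this, MvPolynomial.C_eq_zero] at h
      exact hn1 h
    · exact h

end Key

section Count

variable (k : Type u) [Field k] (σ : Type) [Fintype σ] [DecidableEq σ]

theorem finrank_homogeneousSubmodule (n : ℕ) :
    Module.finrank k (MvPolynomial.homogeneousSubmodule σ k n) =
      Nat.choose (Fintype.card σ + n - 1) n := by
  classical
  rw [MvPolynomial.homogeneousSubmodule_eq_finsupp_supported]
  rw [LinearEquiv.finrank_eq (AddMonoidAlgebra.supportedEquivFinsupp (R := k) (S := k)
    {d : σ →₀ ℕ | d.degree = n})]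
  have e : Sym σ n ≃ {d : σ →₀ ℕ | d.degree = n} :=
    (Sym.equivNatSum σ n).trans (Equiv.subtypeEquivRight (fun d => by
      simp only [Finsupp.degree, Finsupp.sum, Set.mem_ofPred_eq, id]; rfl))
  have : Finite {d : σ →₀ ℕ | d.degree = n} := Finite.of_equiv _ e
  have : Fintype {d : σ →₀ ℕ | d.degree = n} := Fintype.ofFinite _
  rw [Module.finrank_finsupp_self, ← Fintype.card_congr e, Sym.card_sym_eq_choose]

end Count

section Main

variable {k : Type u} [Field k] {A : Type v} [CommRing A] [Bialgebra k A]
variable {ι : Type} [Fintype ι] [DecidableEq ι]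

theorem coords_finrank_cotangent (c : Coords k A ι) :
    Module.finrank k (augI k A).Cotangent = Fintype.card ι := by
  classical
  set I := augI k A with hI
  let f1 : I →ₗ[k] (ι → k) :=
    LinearMap.pi (fun i => (c.d i) ∘ₗ (I.subtype.restrictScalars k))
  let f2 : I →ₗ[k] I.Cotangent := I.toCotangent.restrictScalars k
  have h1 : Function.Surjective f1 := by
    intro v
    refine ⟨⟨∑ j, v j • c.x j, I.sum_mem fun j _ => ?_⟩, ?_⟩
    · rw [Algebra.smul_def]
      exact I.mul_mem_left _ (c.hx j)
    · ext i
      simp [f1, c.hd_x]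
  have h2 : Function.Surjective f2 := I.toCotangent_surjective
  have hk : LinearMap.ker f1 = LinearMap.ker f2 := by
    ext a
    rw [LinearMap.mem_ker, LinearMap.mem_ker]
    have e2 : f2 a = 0 ↔ (a : A) ∈ I ^ 2 := Ideal.toCotangent_eq_zero I a
    rw [e2]
    constructor
    · intro h
      have hd : ∀ i, c.d i (a : A) = 0 := fun i => congrFun h i
      have := c.hspan a a.2
      simpa [hd] using this
    · intro h
      ext i
      exact c.hd_sq i _ h
  have e1 := f1.quotKerEquivOfSurjective h1
  have e2 := f2.quotKerEquivOfSurjective h2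
  rw [← e2.finrank_eq, ← (Submodule.quotEquivOfEq _ _ hk).finrank_eq, e1.finrank_eq,
    Module.finrank_fintype_fun_eq_card]

/-- the map from homogeneous polynomials of degree `n` to `A ⧸ I^(n+1)` -/
noncomputable def coordsGr (c : Coords k A ι) (n : ℕ) :
    MvPolynomial.homogeneousSubmodule ι k n →ₗ[k] A ⧸ augI k A ^ (n + 1) :=
  (Ideal.Quotient.mkₐ k (augI k A ^ (n + 1))).toLinearMap ∘ₗ c.evx.toLinearMap ∘ₗ
    (MvPolynomial.homogeneousSubmodule ι k n).subtype

theorem coordsGr_apply (c : Coords k A ι) (n : ℕ) (P : MvPolynomial.homogeneousSubmodule ι k n) :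
    coordsGr c n P = Ideal.Quotient.mk (augI k A ^ (n + 1)) (c.evx P.1) := rfl

theorem coordsGr_injective (c : Coords k A ι) (n : ℕ) (hn : (n.factorial : k) ≠ 0) :
    Function.Injective (coordsGr c n) := by
  rw [← LinearMap.ker_eq_bot, LinearMap.ker_eq_bot']
  intro P hP
  rw [coordsGr_apply c, Ideal.Quotient.eq_zero_iff_mem] at hP
  exact Subtype.ext (coords_eq_zero_of_evx_mem c n hn P.1 ((MvPolynomial.mem_homogeneousSubmodule _ _).1 P.2) hP)

/-- the transition map `A ⧸ I^(n+1) → A ⧸ I^n` -/
noncomputable def trans (k : Type u) [Field k] (A : Type v) [CommRing A] [Bialgebra k A] (n : ℕ) :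
    (A ⧸ augI k A ^ (n + 1)) →ₗ[k] A ⧸ augI k A ^ n :=
  (Ideal.Quotient.factorₐ k
    (Ideal.pow_le_pow_right (I := augI k A) (m := n) (n := n + 1) (Nat.le_succ n))).toLinearMap

theorem trans_mk (n : ℕ) (a : A) :
    trans k A n (Ideal.Quotient.mk _ a) = Ideal.Quotient.mk _ a := rfl

theorem trans_surjective (n : ℕ) : Function.Surjective (trans k A n) :=
  Ideal.Quotient.factor_surjective
    (Ideal.pow_le_pow_right (I := augI k A) (m := n) (n := n + 1) (Nat.le_succ n))

theorem coords_exact (c : Coords k A ι) (n : ℕ) : Function.Exact (coordsGr c n) (trans k A n) := by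
  intro y
  constructor
  · intro hy
    obtain ⟨a, rfl⟩ := Ideal.Quotient.mk_surjective y
    rw [trans_mk, Ideal.Quotient.eq_zero_iff_mem] at hy
    obtain ⟨P, hP, hPa⟩ := c.exists_hom_sub_mem n a hy
    refine ⟨⟨P, (MvPolynomial.mem_homogeneousSubmodule _ _).2 hP⟩, ?_⟩
    rw [coordsGr_apply c]
    symm
    rw [← sub_eq_zero, ← map_sub, Ideal.Quotient.eq_zero_iff_mem]
    exact hPa
  · rintro ⟨P, rfl⟩
    rw [coordsGr_apply c, trans_mk, Ideal.Quotient.eq_zero_iff_mem]
    exact c.evx_mem_pow ((MvPolynomial.mem_homogeneousSubmodule _ _).1 P.2)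

theorem coords_finite_quotient_pow (c : Coords k A ι) (n : ℕ) : Module.Finite k (A ⧸ augI k A ^ n) := by
  induction n with
  | zero =>
    have : Subsingleton (A ⧸ augI k A ^ 0) := by
      rw [pow_zero, Ideal.one_eq_top]
      exact Ideal.Quotient.subsingleton_iff.2 rfl
    infer_instance
  | succ n ih =>
    have : Module.Finite k (MvPolynomial.homogeneousSubmodule ι k n) :=
      Module.Finite.iff_fg.2 (MvPolynomial.homogeneousSubmodule_fg ι k n)
    exact Module.Finite.of_exact (coords_exact c n) (trans_surjective n)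

theorem coords_finrank_quotient_pow_succ (c : Coords k A ι) (n : ℕ) (hn : (n.factorial : k) ≠ 0) :
    Module.finrank k (A ⧸ augI k A ^ (n + 1)) =
      Module.finrank k (A ⧸ augI k A ^ n) + Nat.choose (Fintype.card ι + n - 1) n := by
  have : Module.Finite k (A ⧸ augI k A ^ (n + 1)) := coords_finite_quotient_pow c (n + 1)
  rw [← LinearMap.finrank_range_add_finrank_ker (trans k A n),
    LinearMap.range_eq_top.2 (trans_surjective n), finrank_top,
    LinearMap.exact_iff.1 (coords_exact c n), LinearMap.finrank_range_of_inj (coordsGr_injective c n hn),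
    finrank_homogeneousSubmodule]

end Main

section Final

variable (k : Type u) [Field k] (A : Type v) [CommRing A] [Bialgebra k A] [IsNoetherianRing A]

theorem finrank_quotient_pow_succ (n : ℕ) (hn : (n.factorial : k) ≠ 0) :
    Module.finrank k (A ⧸ augI k A ^ (n + 1)) =
      Module.finrank k (A ⧸ augI k A ^ n) +
        Nat.choose (Module.finrank k (augI k A).Cotangent + n - 1) n := by
  obtain ⟨r, c, -⟩ := exists_coords (k := k) (A := A)
  rw [coords_finrank_cotangent c, coords_finrank_quotient_pow_succ c n hn]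

end Final

end Groth.Agent.Lib.HopfGraded41
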