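import Groth.Agent.Lib.HopfGraded41

/-!
# Infinitesimal group schemes of height one (helper41)

`k` a field of characteristic `p`, `A` a commutative bialgebra with coordinates
`c : Coords k A ι` at the identity.

* `IsRestricted p P`: all exponents of `P` are `< p`.
* `restricted_eq_zero_of_evx_mem`: a restricted homogeneous polynomial `P` of degree `n` with
  `P(x) ∈ I^(n+1)` vanishes (Cartier's lemma for restricted polynomials).
* `restricted_eq_zero_of_evx_eq_zero`: restricted monomials in the coordinates are linearly
  independent.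
* `finrank_eq_pow_of_height_one`: if `f^p = 0` for all `f ∈ I` and `A` is finite-dimensional then
  `dim A = p ^ dim I/I²`.
-/

set_option autoImplicit false
set_option linter.unusedSectionVars false
universe u v

open TensorProduct

namespace Groth.Agent.Lib.HopfHeightOne41

open Groth.Agent.Lib.Cartier38 Groth.Agent.Lib.HopfGraded41

section Restricted

variable {k : Type u} [Field k] {ι : Type} [Fintype ι] [DecidableEq ι]

/-- All exponents are `< p`. -/
def IsRestricted (p : ℕ) (P : MvPolynomial ι k) : Prop := ∀ m ∈ P.support, ∀ i, m i < p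

theorem IsRestricted.pderiv {p : ℕ} {P : MvPolynomial ι k} (h : IsRestricted p P) (i : ι) :
    IsRestricted p (MvPolynomial.pderiv i P) := by
  intro m hm j
  rw [MvPolynomial.mem_support_iff, MvPolynomial.coeff_pderiv] at hm
  have h1 : MvPolynomial.coeff (m + Finsupp.single i 1) P ≠ 0 := left_ne_zero_of_mul hm
  have h2 := h _ (MvPolynomial.mem_support_iff.2 h1) j
  rw [Finsupp.add_apply] at h2
  omega

theorem isRestricted_zero (p : ℕ) : IsRestricted p (0 : MvPolynomial ι k) := by
  intro m hm
  simp at hm

theorem IsRestricted.homogeneousComponent {p : ℕ} {P : MvPolynomial ι k} (h : IsRestricted p P)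
    (n : ℕ) : IsRestricted p (MvPolynomial.homogeneousComponent n P) := by
  intro m hm i
  refine h m ?_ i
  rw [MvPolynomial.mem_support_iff] at hm ⊢
  rw [MvPolynomial.coeff_homogeneousComponent] at hm
  intro h0
  apply hm
  rw [h0]
  simp

theorem eq_zero_of_pderiv_eq_zero (p : ℕ) [Fact p.Prime] [CharP k p] {P : MvPolynomial ι k}
    (hr : IsRestricted p P) (h0 : MvPolynomial.coeff 0 P = 0)
    (hd : ∀ i, MvPolynomial.pderiv i P = 0) : P = 0 := by
  by_contra hP
  obtain ⟨m, hm⟩ := MvPolynomial.support_nonempty.2 hP
  have hm0 : m ≠ 0 := by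
    rintro rfl
    exact (MvPolynomial.mem_support_iff.1 hm) h0
  obtain ⟨i, hi⟩ : ∃ i, m i ≠ 0 := by
    by_contra hcon
    push Not at hcon
    apply hm0
    ext i
    exact hcon i
  have h1 : m = (m - Finsupp.single i 1) + Finsupp.single i 1 := by
    ext j
    by_cases hj : j = i
    · subst hj
      simp only [Finsupp.add_apply, Finsupp.tsub_apply, Finsupp.single_eq_same]
      omega
    · simp [Finsupp.single_eq_of_ne hj]
  have h2 := MvPolynomial.coeff_pderiv (i := i) P (m - Finsupp.single i 1)
  rw [hd i, MvPolynomial.coeff_zero, ← h1] at h2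
  have h3 : (((m - Finsupp.single i 1 : ι →₀ ℕ) i : ℕ) : k) + 1 = ((m i : ℕ) : k) := by
    rw [Finsupp.tsub_apply, Finsupp.single_eq_same]
    have : m i - 1 + 1 = m i := by omega
    rw [← Nat.cast_one (R := k), ← Nat.cast_add, this]
  rw [h3] at h2
  rcases mul_eq_zero.1 h2.symm with h4 | h4
  · exact (MvPolynomial.mem_support_iff.1 hm) h4
  · rw [CharP.cast_eq_zero_iff k p] at h4
    have := hr m hm i
    exact absurd (Nat.le_of_dvd (Nat.pos_of_ne_zero hi) h4) (by omega)

end Restricted

section Key

variable {k : Type u} [Field k] {A : Type v} [CommRing A] [Bialgebra k A]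
variable {ι : Type} [Fintype ι] [DecidableEq ι]

/-- Cartier's lemma for restricted polynomials. -/
theorem restricted_eq_zero_of_evx_mem (c : Coords k A ι) (p : ℕ) [Fact p.Prime] [CharP k p]
    (n : ℕ) : ∀ P : MvPolynomial ι k, P.IsHomogeneous n → IsRestricted p P →
      c.evx P ∈ augI k A ^ (n + 1) → P = 0 := by
  induction n with
  | zero =>
    intro P hP _ hmem
    rw [← MvPolynomial.totalDegree_zero_iff_isHomogeneous,
      MvPolynomial.totalDegree_eq_zero_iff_eq_C] at hP
    rw [hP, Coords.evx, MvPolynomial.aeval_C, zero_add, pow_one, mem_augI,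
      Bialgebra.counit_algebraMap] at hmem
    rw [hP]
    simpa using hmem
  | succ n ih =>
    intro P hP hr hmem
    have hpd : ∀ i, MvPolynomial.pderiv i P = 0 := by
      intro i
      have hh : ∀ j, (MvPolynomial.pderiv j P).IsHomogeneous n := fun j => hP.pderiv
      apply ih _ (hh i) (hr.pderiv i)
      have h1 := der_pow_le (c.D i) (c.D_mul i) (augI k A) (n + 1) _ hmem
      rw [c.chain (c.D i) (c.D_mul i)] at h1
      have e : c.evx (MvPolynomial.pderiv i P) =
          ∑ j, c.evx (MvPolynomial.pderiv j P) * c.D i (c.x j) -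
          ∑ j, c.evx (MvPolynomial.pderiv j P) *
            (c.D i (c.x j) - (if i = j then (1 : A) else 0)) := by
        rw [← Finset.sum_sub_distrib]
        simp only [mul_sub, sub_sub_cancel, mul_ite, mul_one, mul_zero]
        rw [Finset.sum_ite_eq]
        simp
      rw [e]
      refine Ideal.sub_mem _ h1 (Ideal.sum_mem _ fun j _ => ?_)
      have := Ideal.mul_mem_mul (c.evx_mem_pow (hh j)) (c.D_x_sub_mem i j)
      rwa [← pow_succ] at this
    refine eq_zero_of_pderiv_eq_zero p hr ?_ hpd
    by_contra h0
    have := hP h0
    simp at this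

/-- Restricted monomials in the coordinates are linearly independent. -/
theorem restricted_eq_zero_of_evx_eq_zero (c : Coords k A ι) (p : ℕ) [Fact p.Prime] [CharP k p]
    (P : MvPolynomial ι k) (hr : IsRestricted p P) (h0 : c.evx P = 0) : P = 0 := by
  have key : ∀ d, MvPolynomial.homogeneousComponent d P = 0 := by
    intro d
    induction d using Nat.strong_induction_on with
    | _ d ih =>
      apply restricted_eq_zero_of_evx_mem c p d _
        (MvPolynomial.homogeneousComponent_isHomogeneous d P) (hr.homogeneousComponent d)
      have hsum := MvPolynomial.sum_homogeneousComponent P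
      have h1 : c.evx (MvPolynomial.homogeneousComponent d P) =
          - ∑ i ∈ (Finset.range (P.totalDegree + 1)).erase d,
            c.evx (MvPolynomial.homogeneousComponent i P) := by
        by_cases hd : d ∈ Finset.range (P.totalDegree + 1)
        · have h2 := congrArg c.evx hsum
          rw [h0, map_sum, ← Finset.add_sum_erase _ _ hd] at h2
          exact eq_neg_of_add_eq_zero_left h2
        · have h3 : MvPolynomial.homogeneousComponent d P = 0 := by
            apply MvPolynomial.homogeneousComponent_eq_zero
            rw [Finset.mem_range] at hd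
            omega
          have h2 := congrArg c.evx hsum
          rw [h0, map_sum] at h2
          rw [h3, map_zero, Finset.erase_eq_of_notMem hd, h2, neg_zero]
      rw [h1]
      refine Ideal.neg_mem_iff _ |>.2 (Ideal.sum_mem _ fun i hi => ?_)
      rw [Finset.mem_erase] at hi
      rcases Nat.lt_or_gt_of_ne hi.1 with hlt | hgt
      · rw [ih i hlt, map_zero]
        exact zero_mem _
      · exact Ideal.pow_le_pow_right hgt
          (c.evx_mem_pow (MvPolynomial.homogeneousComponent_isHomogeneous i P))
  rw [← MvPolynomial.sum_homogeneousComponent P]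
  exact Finset.sum_eq_zero fun i _ => key i

/-- If the augmentation ideal is nilpotent, the coordinates generate `A`. -/
theorem evx_surjective (c : Coords k A ι) {N : ℕ} (hN : augI k A ^ N = ⊥) :
    Function.Surjective c.evx := by
  have key : ∀ j, j ≤ N → ∀ a ∈ augI k A ^ (N - j), ∃ P, c.evx P = a := by
    intro j
    induction j with
    | zero =>
      intro _ a ha
      rw [Nat.sub_zero, hN] at ha
      have ha0 : a = 0 := Ideal.mem_bot.1 ha
      exact ⟨0, by rw [ha0, map_zero]⟩
    | succ j ih =>
      intro hj a ha
      obtain ⟨P, _, hP⟩ := c.exists_hom_sub_mem (N - (j + 1)) a ha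
      have e : N - (j + 1) + 1 = N - j := by omega
      rw [e] at hP
      obtain ⟨Q, hQ⟩ := ih (by omega) _ hP
      exact ⟨P + Q, by rw [map_add, hQ]; ring⟩
  intro a
  refine key N le_rfl a ?_
  rw [Nat.sub_self, pow_zero, Ideal.one_eq_top]
  exact Submodule.mem_top (R := A)

/-- The exponent vector attached to `m : ι → Fin p`. -/
noncomputable def expo {p : ℕ} (m : ι → Fin p) : ι →₀ ℕ :=
  Finsupp.equivFunOnFinite.symm (fun i => (m i : ℕ))

@[simp] theorem expo_apply {p : ℕ} (m : ι → Fin p) (i : ι) : expo m i = (m i : ℕ) := rfl

theorem expo_injective {p : ℕ} : Function.Injective (expo (ι := ι) (p := p)) := by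
  intro m m' h
  ext i
  have := DFunLike.congr_fun h i
  simpa using this

theorem finrank_eq_pow_card_of_coords (c : Coords k A ι) (p : ℕ) [Fact p.Prime] [CharP k p]
    [Module.Finite k A]
    (h1 : ∀ f : A, Bialgebra.counitAlgHom k A f = 0 → f ^ p = 0) :
    Module.finrank k A = p ^ Fintype.card ι := by
  classical
  have hnoeth : IsNoetherianRing A := IsNoetherianRing.of_finite k A
  obtain ⟨N, hN⟩ : ∃ N, augI k A ^ N = ⊥ := by
    obtain ⟨N, hN⟩ := IsNoetherianRing.isNilpotent_nilradical A
    refine ⟨N, le_bot_iff.1 ?_⟩
    rw [← Ideal.zero_eq_bot, ← hN]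
    refine Ideal.pow_right_mono (fun f hf => ?_) N
    exact mem_nilradical.2 ⟨p, h1 f hf⟩
  have hsurj := evx_surjective c hN
  let mon : (ι → Fin p) → A := fun m => c.evx (MvPolynomial.monomial (expo m) 1)
  have hxp : ∀ i, c.x i ^ p = 0 := fun i => h1 _ (c.hx i)
  have hspan : ⊤ ≤ Submodule.span k (Set.range mon) := by
    intro a _
    obtain ⟨P, rfl⟩ := hsurj a
    rw [← MvPolynomial.support_sum_monomial_coeff P, map_sum]
    refine Submodule.sum_mem _ fun m _ => ?_
    have e1 : MvPolynomial.monomial m (MvPolynomial.coeff m P) =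
        MvPolynomial.coeff m P • MvPolynomial.monomial m (1 : k) := by
      rw [MvPolynomial.smul_monomial, smul_eq_mul, mul_one]
    rw [e1, map_smul]
    refine Submodule.smul_mem _ _ ?_
    by_cases hm : ∀ i, m i < p
    · refine Submodule.subset_span ⟨fun i => ⟨m i, hm i⟩, ?_⟩
      show c.evx (MvPolynomial.monomial (expo fun i => (⟨m i, hm i⟩ : Fin p)) 1) = _
      have e3 : expo (fun i => (⟨m i, hm i⟩ : Fin p)) = m := by
        ext i
        simp
      rw [e3]
    · push Not at hm
      obtain ⟨i, hi⟩ := hm
      have : c.evx (MvPolynomial.monomial m 1) = 0 := by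
        rw [Coords.evx, MvPolynomial.aeval_monomial, Finsupp.prod]
        have hi' : i ∈ m.support := by
          rw [Finsupp.mem_support_iff]
          have := (Fact.out : p.Prime).pos
          omega
        rw [Finset.prod_eq_zero hi', mul_zero]
        have e2 : m i = p + (m i - p) := by omega
        rw [e2, pow_add, hxp, zero_mul]
      rw [this]
      exact zero_mem _
  have hli : LinearIndependent k mon := by
    rw [Fintype.linearIndependent_iff]
    intro g hg m₀
    set P : MvPolynomial ι k := ∑ m, MvPolynomial.monomial (expo m) (g m) with hP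
    have hPr : IsRestricted p P := by
      intro s hs i
      have h2 := MvPolynomial.support_sum hs
      rw [Finset.mem_biUnion] at h2
      obtain ⟨m, _, hm⟩ := h2
      have h3 := MvPolynomial.support_monomial_subset hm
      rw [Finset.mem_singleton] at h3
      rw [h3, expo_apply]
      exact (m i).2
    have hev : c.evx P = 0 := by
      rw [hP, map_sum, ← hg]
      refine Finset.sum_congr rfl fun m _ => ?_
      have e1 : MvPolynomial.monomial (expo m) (g m) =
          g m • MvPolynomial.monomial (expo m) (1 : k) := by
        rw [MvPolynomial.smul_monomial, smul_eq_mul, mul_one]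
      rw [e1, map_smul]
    have hP0 := restricted_eq_zero_of_evx_eq_zero c p P hPr hev
    have h4 := congrArg (MvPolynomial.coeff (expo m₀)) hP0
    rw [hP, MvPolynomial.coeff_sum, MvPolynomial.coeff_zero] at h4
    rw [Finset.sum_eq_single m₀] at h4
    · simpa using h4
    · intro m _ hm
      rw [MvPolynomial.coeff_monomial, if_neg]
      exact fun h => hm (expo_injective h)
    · intro h
      exact absurd (Finset.mem_univ m₀) h
  have hb := Module.finrank_eq_card_basis (Module.Basis.mk hli hspan)
  rw [hb, Fintype.card_fun, Fintype.card_fin]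

/-- **Height one**: `dim A = p ^ dim I/I²`. -/
theorem finrank_eq_pow_of_height_one (p : ℕ) [Fact p.Prime] [CharP k p] [Module.Finite k A]
    (h1 : ∀ f : A, Bialgebra.counitAlgHom k A f = 0 → f ^ p = 0) :
    Module.finrank k A = p ^ Module.finrank k (augI k A).Cotangent := by
  have hnoeth : IsNoetherianRing A := IsNoetherianRing.of_finite k A
  obtain ⟨r, c, _⟩ := exists_coords (k := k) (A := A)
  rw [coords_finrank_cotangent c]
  exact finrank_eq_pow_card_of_coords c p h1

end Key

end Groth.Agent.Lib.HopfHeightOne41
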