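import Groth.Agent.Lib.HopfHeightOne41b
import Groth.Agent.Lib.FrobSection41
import Mathlib.RingTheory.LocalRing.Module
import Mathlib.RingTheory.HopfAlgebra.TensorProduct
import Mathlib.RingTheory.IntegralClosure.IsIntegralClosure.Basic

/-!
# Height one group schemes over a local base (helper41)

`R` a local ring of characteristic `p`, `A` a commutative Hopf `R`-algebra of finite type and flat
over `R`, with `a ^ p = 0` on the augmentation ideal.  Then `A` is finite over `R` and
`A ≃ₐ[R] R[X_1..X_n]/(X_i^p)` (`nonempty_algEquiv_truncated_of_isLocalRing`).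
-/

set_option autoImplicit false
universe u

open TensorProduct IsLocalRing

namespace Groth.Agent.Lib.HopfHeightOne41

open Groth.Agent.Lib.Cartier38 Groth.Agent.Lib.HopfGraded41

section

variable (p : ℕ) [Fact p.Prime] {R : Type u} [CommRing R] {A : Type u} [CommRing A]
  [HopfAlgebra R A]

theorem finite_of_height_one [Algebra.FiniteType R A]
    (h1 : ∀ a : A, Bialgebra.counitAlgHom R A a = 0 → a ^ p = 0) : Module.Finite R A := by
  have hint : Algebra.IsIntegral R A := ⟨fun a => by
    have e : a = algebraMap R A (CoalgebraStruct.counit (R := R) a) +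
        (a - algebraMap R A (CoalgebraStruct.counit (R := R) a)) := by ring
    rw [e]
    refine IsIntegral.add isIntegral_algebraMap ?_
    refine IsIntegral.of_pow (Fact.out : p.Prime).pos ?_
    rw [h1 _ (by rw [map_sub, AlgHom.commutes, Bialgebra.counitAlgHom_apply]; simp)]
    exact isIntegral_zero⟩
  exact Algebra.IsIntegral.finite

variable [IsLocalRing R] [CharP R p]

theorem charP_residueField : CharP (ResidueField R) p := by
  refine (CharP.charP_iff_prime_eq_zero (Fact.out : p.Prime)).2 ?_
  have h0 : (p : R) = 0 := CharP.cast_eq_zero R p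
  rw [← map_natCast (algebraMap R (ResidueField R)), h0, map_zero]

theorem height_one_baseChange
    (h1 : ∀ a : A, Bialgebra.counitAlgHom R A a = 0 → a ^ p = 0) :
    ∀ f : ResidueField R ⊗[R] A,
      Bialgebra.counitAlgHom (ResidueField R) (ResidueField R ⊗[R] A) f = 0 → f ^ p = 0 := by
  have hκ : CharP (ResidueField R) p := charP_residueField p
  have hκA : CharP (ResidueField R ⊗[R] A) p :=
    FrobSection41.charP_of_bialgebra (k := ResidueField R) p _
  have key : ∀ f : ResidueField R ⊗[R] A,
      (f - algebraMap (ResidueField R) (ResidueField R ⊗[R] A)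
        (CoalgebraStruct.counit (R := ResidueField R) f)) ^ p = 0 := by
    intro f
    induction f using TensorProduct.induction_on with
    | zero => simp [zero_pow (Fact.out : p.Prime).ne_zero]
    | tmul c a =>
      have e : c ⊗ₜ[R] a - algebraMap (ResidueField R) (ResidueField R ⊗[R] A)
          (CoalgebraStruct.counit (R := ResidueField R) (c ⊗ₜ[R] a)) =
          c ⊗ₜ[R] (a - algebraMap R A (CoalgebraStruct.counit (R := R) a)) := by
        rw [TensorProduct.counit_tmul, Algebra.TensorProduct.algebraMap_apply,
          TensorProduct.tmul_sub]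
        congr 1
        show (CoalgebraStruct.counit (R := R) a • c) ⊗ₜ[R] (1 : A) = _
        rw [TensorProduct.smul_tmul, Algebra.algebraMap_eq_smul_one]
      rw [e, Algebra.TensorProduct.tmul_pow,
        h1 _ (by rw [map_sub, AlgHom.commutes, Bialgebra.counitAlgHom_apply]; simp),
        TensorProduct.tmul_zero]
    | add f g hf hg =>
      have e : f + g - algebraMap (ResidueField R) (ResidueField R ⊗[R] A)
          (CoalgebraStruct.counit (R := ResidueField R) (f + g)) =
          (f - algebraMap (ResidueField R) (ResidueField R ⊗[R] A)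
            (CoalgebraStruct.counit (R := ResidueField R) f)) +
          (g - algebraMap (ResidueField R) (ResidueField R ⊗[R] A)
            (CoalgebraStruct.counit (R := ResidueField R) g)) := by
        rw [map_add, map_add]
        ring
      rw [e, add_pow_char, hf, hg, add_zero]
  intro f hf
  have hf0 : CoalgebraStruct.counit (R := ResidueField R) f = 0 := hf
  have := key f
  rwa [hf0, map_zero, sub_zero] at this

/-- **Height one over a local base**: `A ≃ R[X_1..X_n]/(X_i^p)`. -/
theorem nonempty_algEquiv_truncated_of_isLocalRing [Algebra.FiniteType R A] [Module.Flat R A]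
    (h1 : ∀ a : A, Bialgebra.counitAlgHom R A a = 0 → a ^ p = 0) :
    ∃ n : ℕ, Nonempty (A ≃ₐ[R] MvPolynomial (Fin n) R ⧸ truncIdeal R (Fin n) p) := by
  classical
  have hfin : Module.Finite R A := finite_of_height_one p h1
  have hκ : CharP (ResidueField R) p := charP_residueField p
  have hh1 := height_one_baseChange p h1
  have hnoeth : IsNoetherianRing (ResidueField R ⊗[R] A) :=
    IsNoetherianRing.of_finite (ResidueField R) _
  obtain ⟨n, c, _⟩ := exists_coords (k := ResidueField R) (A := ResidueField R ⊗[R] A)
  refine ⟨n, ?_⟩
  -- lift the coordinates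
  have hmk := TensorProduct.mk_surjective R A (ResidueField R)
    (Ideal.Quotient.mk_surjective (I := maximalIdeal R))
  choose a ha using fun i => hmk (c.x i)
  let x : Fin n → A := fun i => a i - algebraMap R A (CoalgebraStruct.counit (R := R) (a i))
  have hxI : ∀ i, Bialgebra.counitAlgHom R A (x i) = 0 := by
    intro i
    rw [map_sub, AlgHom.commutes, Bialgebra.counitAlgHom_apply]
    simp
  have hxp : ∀ i, x i ^ p = 0 := fun i => h1 _ (hxI i)
  have hx : ∀ i, (1 : ResidueField R) ⊗ₜ[R] x i = c.x i := by
    intro i
    have h2 : CoalgebraStruct.counit (R := ResidueField R) (c.x i) = 0 := c.hx i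
    rw [← ha i] at h2
    have h3 : CoalgebraStruct.counit (R := ResidueField R)
        ((1 : ResidueField R) ⊗ₜ[R] a i) =
        CoalgebraStruct.counit (R := R) (a i) • (1 : ResidueField R) :=
      TensorProduct.counit_tmul _ _
    have h4 : CoalgebraStruct.counit (R := R) (a i) • (1 : ResidueField R) = 0 := by
      rw [← h3]
      exact h2
    show (1 : ResidueField R) ⊗ₜ[R]
      (a i - algebraMap R A (CoalgebraStruct.counit (R := R) (a i))) = c.x i
    rw [TensorProduct.tmul_sub, Algebra.algebraMap_eq_smul_one, ← TensorProduct.smul_tmul, h4,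
      TensorProduct.zero_tmul, sub_zero]
    exact ha i
  let v : (Fin n → Fin p) → A := fun m =>
    MvPolynomial.aeval x (MvPolynomial.monomial (expo m) (1 : R))
  have hv : ∀ m, (1 : ResidueField R) ⊗ₜ[R] v m =
      MvPolynomial.aeval c.x (MvPolynomial.monomial (expo m) (1 : ResidueField R)) := by
    intro m
    show (Algebra.TensorProduct.includeRight : A →ₐ[R] ResidueField R ⊗[R] A) (v m) = _
    simp only [v, MvPolynomial.aeval_monomial, map_one, one_mul, Finsupp.prod, map_prod, map_pow]
    refine Finset.prod_congr rfl fun i _ => ?_
    congr 1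
    exact hx i
  have hliκ : LinearIndependent (ResidueField R)
      (TensorProduct.mk R (ResidueField R) A 1 ∘ v) := by
    have e : (TensorProduct.mk R (ResidueField R) A 1 ∘ v) = fun m : Fin n → Fin p =>
        MvPolynomial.aeval c.x (MvPolynomial.monomial (expo m) (1 : ResidueField R)) := by
      funext m
      exact hv m
    rw [e]
    exact linearIndependent_restricted c p
  have hli : LinearIndependent R v := Module.IsLocalRing.linearIndependent_of_flat v hliκ
  have hcard : Fintype.card (Fin n → Fin p) =
      Module.finrank (ResidueField R) (ResidueField R ⊗[R] A) := by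
    rw [finrank_eq_pow_card_of_coords c p hh1, Fintype.card_fun, Fintype.card_fin,
      Fintype.card_fin]
  let b : Module.Basis (Fin n → Fin p) (ResidueField R) (ResidueField R ⊗[R] A) :=
    Module.Basis.mk hliκ (hliκ.span_eq_top_of_card_eq_finrank' hcard).ge
  have hspan : Submodule.span R (Set.range v) = ⊤ := by
    refine IsLocalRing.span_eq_top_of_tmul_eq_basis v b fun m => ?_
    rw [Module.Basis.mk_apply]
    rfl
  have hsurj : Function.Surjective (MvPolynomial.aeval x : MvPolynomial (Fin n) R →ₐ[R] A) := by
    intro y
    have hy : y ∈ Submodule.span R (Set.range v) := hspan ▸ Submodule.mem_top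
    have hle : Submodule.span R (Set.range v) ≤
        Subalgebra.toSubmodule (MvPolynomial.aeval x : MvPolynomial (Fin n) R →ₐ[R] A).range := by
      refine Submodule.span_le.2 ?_
      rintro _ ⟨m, rfl⟩
      exact ⟨_, rfl⟩
    exact hle hy
  exact nonempty_algEquiv_truncated p x hxp hsurj hli

end

end Groth.Agent.Lib.HopfHeightOne41
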