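import Groth.Prelude.Def_ConstGrp
import Groth.Prelude.Def_AlphaP
import Mathlib.RingTheory.Ideal.Maps
import Mathlib.RingTheory.Bialgebra.Equiv
import Mathlib.RingTheory.Bialgebra.MonoidAlgebra
import Mathlib.Data.ZMod.Basic
import Mathlib.Algebra.CharP.Algebra

/-!
# Non-isomorphism of the function algebra of a finite set with algebras having "residually nonzero"
# nilpotents (helper85)

`HopfNe.isEmpty_algEquiv`: over a nonzero ring `R`, there is no `R`-algebra isomorphism from
`ConstGrp.F R G` (`G` finite) to an algebra `B` containing `x` with `x ^ n = 0` and a linear form `φ`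
with `φ x = 1` (reduce modulo a maximal ideal: the function algebra becomes reduced).
-/

set_option autoImplicit false
universe u v w

namespace HopfNe

variable {R : Type u} [CommRing R]

/-- If a linear form takes the value `1` at `x`, then `x ∉ 𝔪 B` for a proper ideal `𝔪`. -/
theorem not_mem_smul_top {B : Type v} [CommRing B] [Algebra R B] (𝔪 : Ideal R) (h𝔪 : 𝔪 ≠ ⊤)
    (x : B) (φ : B →ₗ[R] R) (hφ : φ x = 1) : x ∉ 𝔪 • (⊤ : Submodule R B) := by
  intro hx
  have key : ∀ y ∈ 𝔪 • (⊤ : Submodule R B), φ y ∈ 𝔪 := by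
    intro y hy
    refine Submodule.smul_induction_on hy ?_ ?_
    · intro r hr b _
      rw [map_smul, smul_eq_mul]
      exact 𝔪.mul_mem_right _ hr
    · intro a b ha hb
      rw [map_add]
      exact 𝔪.add_mem ha hb
  have := key x hx
  rw [hφ] at this
  exact h𝔪 ((Ideal.eq_top_iff_one _).mpr this)

/-- In the algebra of functions on a finite set, `f ^ n ∈ 𝔪 F` forces `f ∈ 𝔪 F` for a prime `𝔪`. -/
theorem mem_smul_top_of_pow_mem {G : Type v} [Fintype G] [DecidableEq G] (𝔪 : Ideal R) [𝔪.IsPrime]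
    (f : ConstGrp.F R G) (n : ℕ) (hf : f ^ n ∈ 𝔪 • (⊤ : Submodule R (ConstGrp.F R G))) :
    f ∈ 𝔪 • (⊤ : Submodule R (ConstGrp.F R G)) := by
  have key : ∀ y ∈ 𝔪 • (⊤ : Submodule R (ConstGrp.F R G)), ∀ g, y g ∈ 𝔪 := by
    intro y hy g
    refine Submodule.smul_induction_on hy ?_ ?_
    · intro r hr b _
      rw [ConstGrp.smul_apply]
      exact 𝔪.mul_mem_right _ hr
    · intro a b ha hb
      rw [ConstGrp.add_apply]
      exact 𝔪.add_mem ha hb
  have h1 : ∀ g, f g ∈ 𝔪 := by
    intro g
    have := key _ hf g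
    have e : (f ^ n) g = (f g) ^ n := Pi.pow_apply f n g
    rw [e] at this
    exact Ideal.IsPrime.mem_of_pow_mem inferInstance n this
  rw [ConstGrp.eq_sum_smul_e f]
  exact Submodule.sum_mem _ fun g _ => Submodule.smul_mem_smul (h1 g) Submodule.mem_top

/-- No algebra isomorphism from functions on a finite set to an algebra having an element `x` with
`x ^ n = 0` on which some linear form takes the value `1`. -/
theorem isEmpty_algEquiv [Nontrivial R] {G : Type v} [Fintype G] [DecidableEq G]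
    {B : Type w} [CommRing B] [Algebra R B] (x : B) (n : ℕ) (hx : x ^ n = 0)
    (φ : B →ₗ[R] R) (hφ : φ x = 1) : IsEmpty (ConstGrp.F R G ≃ₐ[R] B) := by
  refine ⟨fun e => ?_⟩
  obtain ⟨𝔪, h𝔪⟩ := Ideal.exists_maximal R
  have := h𝔪.isPrime
  have h1 : (e.symm x) ^ n ∈ 𝔪 • (⊤ : Submodule R (ConstGrp.F R G)) := by
    rw [← map_pow, hx, map_zero]
    exact Submodule.zero_mem _
  have h2 := mem_smul_top_of_pow_mem 𝔪 _ n h1
  have hmap' : ∀ y : ConstGrp.F R G, y ∈ 𝔪 • (⊤ : Submodule R (ConstGrp.F R G)) →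
      e y ∈ 𝔪 • (⊤ : Submodule R B) := by
    intro y hy
    refine Submodule.smul_induction_on hy ?_ ?_
    · intro r hr b _
      rw [map_smul]
      exact Submodule.smul_mem_smul hr Submodule.mem_top
    · intro a b ha hb
      rw [map_add]
      exact Submodule.add_mem _ ha hb
  have h3 := hmap' _ h2
  rw [AlgEquiv.apply_symm_apply] at h3
  exact not_mem_smul_top 𝔪 h𝔪.ne_top x φ hφ h3

end HopfNe
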