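import Groth.Agent.Lib.CoeffSpace
import Mathlib.RingTheory.Jacobson.Ring
import Mathlib.FieldTheory.IsAlgClosed.Basic
import Mathlib.LinearAlgebra.Dual.Lemmas

/-!
# The span of the orbit of a vector under the rational points (helper18)
-/

set_option autoImplicit false
universe u v w
open scoped TensorProduct

namespace Groth.Agent.Lib.OrbitSpan18

open Groth.Agent.Lib.Comod Groth.Agent.Lib.CoeffSpace

section Points

variable (k : Type u) [Field k] [IsAlgClosed k] (A : Type v) [CommRing A] [Algebra k A]
  [Algebra.FiniteType k A]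

/-- Every maximal ideal of a finite type algebra over an algebraically closed field is the kernel
of a rational point. -/
theorem exists_algHom_ker_eq (m : Ideal A) [hm : m.IsMaximal] :
    ∃ g : A →ₐ[k] k, ∀ a : A, g a = 0 ↔ a ∈ m := by
  let _ : Field (A ⧸ m) := Ideal.Quotient.field m
  have hfin : Module.Finite k (A ⧸ m) := finite_of_finite_type_of_isJacobsonRing k (A ⧸ m)
  have hint : Algebra.IsIntegral k (A ⧸ m) := Algebra.IsIntegral.of_finite k (A ⧸ m)
  have hbij : Function.Bijective (algebraMap k (A ⧸ m)) :=
    IsAlgClosed.algebraMap_bijective_of_isIntegral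
  let e : k ≃ₐ[k] (A ⧸ m) := AlgEquiv.ofBijective (Algebra.ofId k (A ⧸ m)) hbij
  refine ⟨(e.symm : (A ⧸ m) →ₐ[k] k).comp (Ideal.Quotient.mkₐ k m), fun a => ?_⟩
  rw [← Ideal.Quotient.eq_zero_iff_mem]
  show e.symm (Ideal.Quotient.mk m a) = 0 ↔ _
  exact EmbeddingLike.map_eq_zero_iff

/-- Rational points separate the elements of a reduced finite type algebra over an algebraically
closed field. -/
theorem eq_zero_of_forall_algHom [IsReduced A] (a : A) (h : ∀ g : A →ₐ[k] k, g a = 0) :
    a = 0 := by
  have hJ : IsJacobsonRing A := isJacobsonRing_of_finiteType (A := k) (B := A)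
  have hrad : (⊥ : Ideal A).IsRadical := by
    rw [← Ideal.radical_eq_iff]
    exact (nilradical_eq_zero A : nilradical A = 0)
  have hjac : (⊥ : Ideal A).jacobson = ⊥ := hJ.out hrad
  have hmem : a ∈ (⊥ : Ideal A).jacobson := by
    rw [Ideal.jacobson, Submodule.mem_sInf]
    rintro m ⟨-, hm⟩
    obtain ⟨g, hg⟩ := exists_algHom_ker_eq k A m
    exact (hg a).1 (h g)
  rw [hjac] at hmem
  exact hmem

end Points

section Act

variable {k : Type u} [Field k] {C : Type v} [AddCommGroup C] [Module k C] [Coalgebra k C]
  {V : Type w} [AddCommGroup V] [Module k V] [HopfRep.Comod k C V]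

theorem act_act (φ ψ : C →ₗ[k] k) (v : V) :
    act V ψ (act V φ v) = act V (ψ ∘ₗ slice φ) v := by
  rw [act_apply, act_apply, coact_contr_coact, act_apply]
  generalize HopfRep.Comod.coact (k := k) (A := C) v = y
  induction y using TensorProduct.induction_on with
  | zero => simp
  | add x y hx hy => simp only [map_add, hx, hy]
  | tmul w c => simp

end Act

section Main

variable (k : Type u) [Field k] [IsAlgClosed k] (A : Type u) [CommRing A] [HopfAlgebra k A]
  [Algebra.FiniteType k A] [IsReduced A] (V : Type u) [AddCommGroup V] [Module k V]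
  [HopfRep.Comod k A V]

omit [IsAlgClosed k] [Algebra.FiniteType k A] [IsReduced A] in
theorem comodAct_eq (g : A →ₐ[k] k) (v : V) :
    HopfRep.Comod.act k A V g v = act V g.toLinearMap v := rfl

/-- Every coefficient vector `(id ⊗ χ)(ρ v)` lies in the span of the orbit of `v`. -/
theorem act_mem_span_orbit (v : V) (χ : A →ₗ[k] k) :
    act V χ v ∈ Submodule.span k (Set.range fun g : A →ₐ[k] k => HopfRep.Comod.act k A V g v) := by
  by_contra hnot
  obtain ⟨lam, hlam, hE⟩ := Submodule.exists_dual_map_eq_bot_of_notMem hnot inferInstance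
  have hzero : cfm A lam v = 0 := by
    apply eq_zero_of_forall_algHom k A
    intro g
    have h1 : g (cfm A lam v) = g.toLinearMap (cfm A lam v) := rfl
    rw [h1, cfm_apply, apply_lcontr, ← act_apply, ← comodAct_eq]
    have : lam (HopfRep.Comod.act k A V g v) ∈ (Submodule.span k
        (Set.range fun g : A →ₐ[k] k => HopfRep.Comod.act k A V g v)).map lam :=
      Submodule.mem_map_of_mem (Submodule.subset_span ⟨g, rfl⟩)
    rw [hE] at this
    exact this
  apply hlam
  rw [act_apply, ← apply_lcontr, ← cfm_apply, hzero, map_zero]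

theorem main (v : V) :
    HopfRep.IsSubcomod (k := k) (A := A)
        (Submodule.span k (Set.range fun g : A →ₐ[k] k => HopfRep.Comod.act k A V g v)) ∧
      v ∈ Submodule.span k (Set.range fun g : A →ₐ[k] k => HopfRep.Comod.act k A V g v) ∧
      ∀ W : Submodule k V, HopfRep.IsSubcomod (k := k) (A := A) W → v ∈ W →
        Submodule.span k (Set.range fun g : A →ₐ[k] k => HopfRep.Comod.act k A V g v) ≤ W := by
  refine ⟨?_, ?_, ?_⟩
  · rw [isSubcomod_iff_act]
    intro φ x hx
    induction hx using Submodule.span_induction with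
    | mem x hx =>
      obtain ⟨g, rfl⟩ := hx
      show act V φ (HopfRep.Comod.act k A V g v) ∈ _
      rw [comodAct_eq, act_act]
      exact act_mem_span_orbit k A V v _
    | zero => rw [map_zero]; exact zero_mem _
    | add x y _ _ hx hy => rw [map_add]; exact add_mem hx hy
    | smul a x _ hx => rw [map_smul]; exact Submodule.smul_mem _ a hx
  · have h := act_mem_span_orbit k A V v (CoalgebraStruct.counit (R := k) (A := A))
    rwa [act_counit] at h
  · intro W hW hv
    rw [Submodule.span_le]
    rintro _ ⟨g, rfl⟩
    exact act_mem_of_isSubcomod hW g.toLinearMap hv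

end Main

end Groth.Agent.Lib.OrbitSpan18
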