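import Groth.Agent.Lib.HopfPointExt41
import Groth.Agent.Lib.Cartier38c
import Groth.Agent.Lib.ComodUnip41c

/-!
# Rational points separate functions in characteristic zero (helper41)

Over an algebraically closed field of characteristic zero, the `k`-points of an arbitrary
commutative Hopf algebra `A` (not necessarily finitely generated) separate its elements
(`eq_zero_of_forall_algHom`), and hence detect subcomodules
(`isSubcomod_of_forall_act_le`).
-/

set_option autoImplicit false
universe u v w

open TensorProduct

namespace Groth.Agent.Lib.HopfPointSep41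

open Groth.Agent.Lib.HopfSub41 Groth.Agent.Lib.HopfSubFG18 Groth.Agent.Lib.HopfPointExt41
  Groth.Agent.Lib.Comod

variable {k : Type u} [Field k] [IsAlgClosed k] [CharZero k] {A : Type v} [CommRing A]
  [HopfAlgebra k A]

/-- In characteristic zero over an algebraically closed field, rational points separate the
elements of any commutative Hopf algebra. -/
theorem eq_zero_of_forall_algHom (a : A) (h : ∀ g : A →ₐ[k] k, g a = 0) : a = 0 := by
  obtain ⟨B, haB, hBfg, hBΔ, hBS⟩ := exists_fg_hopfSub (k := k) a
  let _ : HopfAlgebra k B := hopfAlgebra hBΔ hBS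
  have hft : Algebra.FiniteType k B := (Subalgebra.fg_iff_finiteType B).1 hBfg
  have hred : IsReduced B := Groth.Agent.Lib.Cartier38.isReduced_of_charZero k B
  have h0 : (⟨a, haB⟩ : B) = 0 := by
    apply Groth.Agent.Lib.OrbitSpan18.eq_zero_of_forall_algHom k B
    intro g₀
    obtain ⟨G, hG⟩ := exists_algHom_extends B hBΔ hBS g₀
    rw [← hG]
    exact h G
  exact congrArg Subtype.val h0

/-- A tensor `t ∈ X ⊗ A` all of whose specialisations at rational points vanish is zero. -/
theorem eq_zero_of_forall_contr_algHom {X : Type w} [AddCommGroup X] [Module k X]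
    (t : X ⊗[k] A) (h : ∀ g : A →ₐ[k] k, contr X g.toLinearMap t = 0) : t = 0 := by
  apply (TensorProduct.comm k X A).injective
  rw [map_zero]
  have key : ∀ ξ : X →ₗ[k] k, lcontr A ξ t = 0 := by
    intro ξ
    apply eq_zero_of_forall_algHom (k := k)
    intro g
    have h1 : ∀ s : X ⊗[k] A, g (lcontr A ξ s) = ξ (contr X g.toLinearMap s) := by
      intro s
      induction s using TensorProduct.induction_on with
      | zero => simp
      | add a b ha hb => simp only [map_add, ha, hb]
      | tmul x a => simp [mul_comm]
    rw [h1, h, map_zero]
  -- all contractions of `comm t` against functionals on `X` vanish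
  have h2 : ∀ ξ : X →ₗ[k] k, contr A ξ (TensorProduct.comm k X A t) = 0 := by
    intro ξ
    rw [contr_comm]
    exact key ξ
  exact eq_zero_of_contr_eq_zero _ h2

/-- Over an algebraically closed field of characteristic zero, a subspace of a comodule over a
commutative Hopf algebra which is stable under all rational points is a subcomodule. -/
theorem isSubcomod_of_forall_act_le {V : Type w} [AddCommGroup V] [Module k V]
    [HopfRep.Comod k A V] (W : Submodule k V)
    (hW : ∀ g : A →ₐ[k] k, W.map (HopfRep.Comod.act k A V g) ≤ W) :
    HopfRep.IsSubcomod (k := k) (A := A) W := by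
  intro w hw
  have hex : Function.Exact (W.subtype.rTensor A) (W.mkQ.rTensor A) :=
    rTensor_exact A (LinearMap.exact_subtype_mkQ W) (Submodule.mkQ_surjective W)
  rw [LinearMap.mem_range]
  refine (hex _).1 ?_
  apply eq_zero_of_forall_contr_algHom
  intro g
  rw [contr_rTensor]
  have h1 : HopfRep.Comod.act k A V g w ∈ W := hW g ⟨w, hw, rfl⟩
  have h2 : contr V g.toLinearMap (HopfRep.Comod.coact (k := k) (A := A) w) =
      HopfRep.Comod.act k A V g w := rfl
  rw [h2, Submodule.mkQ_apply, Submodule.Quotient.mk_eq_zero]
  exact h1

end Groth.Agent.Lib.HopfPointSep41
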