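import Groth.Agent.Lib.ComodUnip41c
import Groth.Agent.Lib.OrbitSpan18
import Mathlib.LinearAlgebra.Eigenspace.Pi
import Mathlib.LinearAlgebra.Eigenspace.Semisimple
import Mathlib.LinearAlgebra.Eigenspace.Minpoly
import Mathlib.LinearAlgebra.Eigenspace.Triangularizable
import Mathlib.FieldTheory.Separable

/-!
# Rational points detecting subcomodules; joint eigenvectors (helper41)

* `PointsSeparate k A`: the `k`-points of `A` separate its elements
  (`pointsSeparate_of_isReduced`: reduced finite type over an algebraically closed field).
* `eq_zero_of_forall_contr_algHom`, `isSubcomod_of_forall_act_le`: under `PointsSeparate`,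
  a subspace stable under all rational points is a subcomodule.
* `exists_coact_eq_tmul`: a joint eigenvector `v` of all rational points has `ρ v = v ⊗ a`.
* `act_comm`: for cocommutative `C`, the operators `act V φ` commute.
* `isSemisimple_of_span_eigenvectors`: an endomorphism whose eigenvectors span is semisimple.
* `span_eigen_eq_top`: cocommutative, points separate, all points act semisimply on a f.d.
  comodule `V` over an algebraically closed field ⟹ `V` is spanned by `v` with `ρ v = v ⊗ a`.
-/

set_option autoImplicit false
universe u v w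

open TensorProduct

namespace Groth.Agent.Lib.HopfPointSep41b

open Groth.Agent.Lib.Comod

section LinAlg

variable {K : Type u} [Field K] {V : Type v} [AddCommGroup V] [Module K V]
  [FiniteDimensional K V]

open Polynomial in
/-- An endomorphism of a finite-dimensional space whose eigenvectors span is semisimple. -/
theorem isSemisimple_of_span_eigenvectors (f : Module.End K V)
    (h : Submodule.span K {v : V | ∃ μ : K, f v = μ • v} = ⊤) : f.IsSemisimple := by
  classical
  set S : Finset K := (f.finite_hasEigenvalue).toFinset with hS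
  set p : K[X] := ∏ μ ∈ S, (X - C μ) with hp
  have hsq : Squarefree p := by
    apply Polynomial.Separable.squarefree
    rw [hp, Polynomial.separable_prod_X_sub_C_iff']
    intro x _ y _ hxy
    exact hxy
  refine Module.End.isSemisimple_of_squarefree_aeval_eq_zero hsq ?_
  have hle : Submodule.span K {v : V | ∃ μ : K, f v = μ • v} ≤ LinearMap.ker (aeval f p) := by
    refine Submodule.span_le.2 ?_
    rintro v ⟨μ, hv⟩
    rw [SetLike.mem_coe, LinearMap.mem_ker, Module.End.aeval_apply_of_mem_apply_eq_smul hv]
    by_cases hv0 : v = 0
    · rw [hv0, smul_zero]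
    · have hμ : f.HasEigenvalue μ :=
        Module.End.hasEigenvalue_of_hasEigenvector ⟨Module.End.mem_eigenspace_iff.2 hv, hv0⟩
      have hμS : μ ∈ S := by
        rw [hS, Set.Finite.mem_toFinset]
        exact hμ
      have : p.eval μ = 0 := by
        rw [hp, Polynomial.eval_prod]
        exact Finset.prod_eq_zero hμS (by simp)
      rw [this, zero_smul]
  rw [h] at hle
  ext v
  exact hle (Submodule.mem_top : v ∈ ⊤)

end LinAlg

section Sep

variable (k : Type u) [Field k] (A : Type v) [CommRing A] [Algebra k A]

/-- The rational points of `A` separate its elements. -/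
def PointsSeparate : Prop := ∀ a : A, (∀ g : A →ₐ[k] k, g a = 0) → a = 0

theorem pointsSeparate_of_isReduced [IsAlgClosed k] [Algebra.FiniteType k A] [IsReduced A] :
    PointsSeparate k A :=
  fun a h => Groth.Agent.Lib.OrbitSpan18.eq_zero_of_forall_algHom k A a h

variable {k A}

/-- A tensor `t ∈ X ⊗ A` all of whose specialisations at rational points vanish is zero. -/
theorem eq_zero_of_forall_contr_algHom (hsep : PointsSeparate k A)
    {X : Type w} [AddCommGroup X] [Module k X]
    (t : X ⊗[k] A) (h : ∀ g : A →ₐ[k] k, contr X g.toLinearMap t = 0) : t = 0 := by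
  apply (TensorProduct.comm k X A).injective
  rw [map_zero]
  have key : ∀ ξ : X →ₗ[k] k, lcontr A ξ t = 0 := by
    intro ξ
    apply hsep
    intro g
    have h1 : ∀ s : X ⊗[k] A, g (lcontr A ξ s) = ξ (contr X g.toLinearMap s) := by
      intro s
      induction s using TensorProduct.induction_on with
      | zero => simp
      | add a b ha hb => simp only [map_add, ha, hb]
      | tmul x a => simp [mul_comm]
    rw [h1, h, map_zero]
  have h2 : ∀ ξ : X →ₗ[k] k, contr A ξ (TensorProduct.comm k X A t) = 0 := by
    intro ξ
    rw [contr_comm]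
    exact key ξ
  exact eq_zero_of_contr_eq_zero _ h2

end Sep

section Comod

variable {k : Type u} [Field k] {A : Type v} [CommRing A] [Bialgebra k A]
  {V : Type w} [AddCommGroup V] [Module k V] [HopfRep.Comod k A V]

/-- If rational points separate, a subspace of a comodule which is stable under all rational
points is a subcomodule. -/
theorem isSubcomod_of_forall_act_le (hsep : PointsSeparate k A) (W : Submodule k V)
    (hW : ∀ g : A →ₐ[k] k, W.map (HopfRep.Comod.act k A V g) ≤ W) :
    HopfRep.IsSubcomod (k := k) (A := A) W := by
  intro w hw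
  have hex : Function.Exact (W.subtype.rTensor A) (W.mkQ.rTensor A) :=
    rTensor_exact A (LinearMap.exact_subtype_mkQ W) (Submodule.mkQ_surjective W)
  rw [LinearMap.mem_range]
  refine (hex _).1 ?_
  apply eq_zero_of_forall_contr_algHom hsep
  intro g
  rw [contr_rTensor]
  have h1 : HopfRep.Comod.act k A V g w ∈ W := hW g ⟨w, hw, rfl⟩
  have h2 : contr V g.toLinearMap (HopfRep.Comod.coact (k := k) (A := A) w) =
      HopfRep.Comod.act k A V g w := rfl
  rw [h2, Submodule.mkQ_apply, Submodule.Quotient.mk_eq_zero]
  exact h1

/-- A joint eigenvector of all rational points spans a subcomodule. -/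
theorem exists_coact_eq_tmul (hsep : PointsSeparate k A) (v : V) (χ : (A →ₐ[k] k) → k)
    (hv : ∀ g : A →ₐ[k] k, HopfRep.Comod.act k A V g v = χ g • v) :
    ∃ a : A, HopfRep.Comod.coact (k := k) (A := A) v = v ⊗ₜ[k] a := by
  have hsub : HopfRep.IsSubcomod (k := k) (A := A) (Submodule.span k {v}) := by
    apply isSubcomod_of_forall_act_le hsep
    intro g
    rw [Submodule.map_span, Submodule.span_le]
    rintro _ ⟨w, hw, rfl⟩
    rw [Set.mem_singleton_iff] at hw
    rw [hw, hv g]
    exact Submodule.smul_mem _ _ (Submodule.mem_span_singleton_self v)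
  obtain ⟨x, hx⟩ := hsub v (Submodule.mem_span_singleton_self v)
  have key : ∀ x : (Submodule.span k {v}) ⊗[k] A,
      ∃ a : A, (Submodule.span k {v}).subtype.rTensor A x = v ⊗ₜ[k] a := by
    intro x
    induction x using TensorProduct.induction_on with
    | zero => exact ⟨0, by simp⟩
    | tmul w b =>
      obtain ⟨c, hc⟩ := Submodule.mem_span_singleton.1 w.2
      refine ⟨c • b, ?_⟩
      rw [LinearMap.rTensor_tmul, Submodule.subtype_apply, ← hc, TensorProduct.smul_tmul]
    | add x y hx hy =>
      obtain ⟨a, ha⟩ := hx
      obtain ⟨b, hb⟩ := hy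
      exact ⟨a + b, by rw [map_add, ha, hb, TensorProduct.tmul_add]⟩
  obtain ⟨a, ha⟩ := key x
  exact ⟨a, by rw [← hx, ha]⟩

end Comod

section Cocomm

variable {k : Type u} [Field k] {C : Type v} [AddCommGroup C] [Module k C] [Coalgebra k C]
  [Coalgebra.IsCocomm k C]
  {V : Type w} [AddCommGroup V] [Module k V] [HopfRep.Comod k C V]

theorem comp_slice_comm (φ ψ : C →ₗ[k] k) : ψ ∘ₗ slice φ = φ ∘ₗ slice ψ := by
  ext c
  have key : ∀ t : C ⊗[k] C, ψ (contr C φ t) = φ (contr C ψ (TensorProduct.comm k C C t)) := by
    intro t
    induction t using TensorProduct.induction_on with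
    | zero => simp
    | add x y hx hy => simp only [map_add, hx, hy]
    | tmul a b => simp [mul_comm]
  simp only [LinearMap.comp_apply, slice]
  rw [key, Coalgebra.comm_comul]

/-- Over a cocommutative coalgebra the operators `act V φ` commute. -/
theorem act_comm (φ ψ : C →ₗ[k] k) (v : V) :
    act V ψ (act V φ v) = act V φ (act V ψ v) := by
  rw [Groth.Agent.Lib.OrbitSpan18.act_act, Groth.Agent.Lib.OrbitSpan18.act_act,
    comp_slice_comm]

end Cocomm

section Main

variable {k : Type u} [Field k] [IsAlgClosed k] {A : Type v} [CommRing A] [Bialgebra k A]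
  [Coalgebra.IsCocomm k A]
  {V : Type w} [AddCommGroup V] [Module k V] [HopfRep.Comod k A V] [FiniteDimensional k V]

/-- Cocommutative `A` whose rational points separate; if every rational point acts semisimply
on the finite-dimensional comodule `V`, then `V` is spanned by vectors spanning subcomodules. -/
theorem span_eigen_eq_top (hsep : PointsSeparate k A)
    (hss : ∀ g : A →ₐ[k] k, Module.End.IsSemisimple (HopfRep.Comod.act k A V g)) :
    Submodule.span k {v : V | ∃ a : A, HopfRep.Comod.coact (k := k) (A := A) v = v ⊗ₜ[k] a} =
      ⊤ := by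
  have hcomm : Pairwise fun g h : A →ₐ[k] k =>
      Commute (HopfRep.Comod.act k A V g) (HopfRep.Comod.act k A V h) := by
    intro g h _
    ext v
    exact act_comm (V := V) h.toLinearMap g.toLinearMap v
  have htop := Module.End.iSup_iInf_maxGenEigenspace_eq_top_of_iSup_maxGenEigenspace_eq_top_of_commute
    (fun g : A →ₐ[k] k => HopfRep.Comod.act k A V g) hcomm
    (fun g => Module.End.iSup_maxGenEigenspace_eq_top _)
  rw [eq_top_iff, ← htop]
  refine iSup_le fun χ => ?_
  intro v hv
  refine Submodule.subset_span ?_
  apply exists_coact_eq_tmul hsep v χ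
  intro g
  have hv' : v ∈ Module.End.maxGenEigenspace (HopfRep.Comod.act k A V g) (χ g) :=
    (Submodule.mem_iInf _).1 hv g
  rw [(hss g).isFinitelySemisimple.maxGenEigenspace_eq_eigenspace] at hv'
  exact Module.End.mem_eigenspace_iff.1 hv'

end Main

end Groth.Agent.Lib.HopfPointSep41b
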