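import Mathlib
import Groth.Prelude.Def_CartDual
import Groth.Agent.Lib.HopfPrimeOrder41

/-!
# Simple finite commutative group schemes: generators (helper41)

* `exists_repr`: functionals on the dual are evaluations;
* `linearIndependent_pow_of_nilpotent`, `span_pow_eq_top`, `finrank_eq_of_span_pow`;
* `isHopfIdeal_span_singleton`, `isHopfIdeal_span_primitive`, `isHopfIdeal_span_groupLike_sub_one`;
* `antipode_primitive`, `counit_primitive`;
* `exists_primitive_of_isLocalRing_dual`: local dual of dimension `> 1` gives a nonzero primitive.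
-/

set_option autoImplicit false
universe u v
open scoped TensorProduct
open WithConv

namespace Groth.Agent.Lib.HopfSimple41

open HopfPrimeOrder41

section repr
variable {k : Type u} [Field k] {A : Type v} [AddCommGroup A] [Module k A] [FiniteDimensional k A]

/-- Every functional on the dual is evaluation at an element. -/
theorem exists_repr (Φ : WithConv (A →ₗ[k] k) →ₗ[k] k) :
    ∃ x : A, ∀ f : A →ₗ[k] k, Φ (toConv f) = f x := by
  let Ψ : Module.Dual k (Module.Dual k A) :=
    Φ ∘ₗ (WithConv.linearEquiv k (A →ₗ[k] k)).symm.toLinearMap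
  refine ⟨(Module.evalEquiv k A).symm Ψ, fun f => ?_⟩
  rw [Module.apply_evalEquiv_symm_apply]
  rfl

end repr

section nilp
variable {k : Type u} [Field k] {A : Type v} [CommRing A] [Algebra k A]

/-- Powers of a nilpotent element below the nilpotency index are linearly independent. -/
theorem linearIndependent_pow_of_nilpotent (y : A) (n : ℕ) (hn : y ^ n = 0) (hn1 : y ^ (n - 1) ≠ 0) :
    LinearIndependent k (fun i : Fin n => y ^ (i : ℕ)) := by
  classical
  rw [Fintype.linearIndependent_iff]
  intro c hc
  by_contra hne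
  push Not at hne
  -- the least index with nonzero coefficient
  have hex : ∃ i : ℕ, ∃ h : i < n, c ⟨i, h⟩ ≠ 0 := by
    obtain ⟨i, hi⟩ := hne
    exact ⟨i.1, i.2, hi⟩
  let i0 := Nat.find hex
  obtain ⟨hi0, hci0⟩ := Nat.find_spec hex
  have hmin : ∀ j : Fin n, (j : ℕ) < i0 → c j = 0 := by
    intro j hj
    by_contra hcj
    exact Nat.find_min hex hj ⟨j.2, hcj⟩
  have h1 := congrArg (fun t => y ^ (n - 1 - i0) * t) hc
  simp only [mul_zero, Finset.mul_sum] at h1
  rw [Finset.sum_eq_single (⟨i0, hi0⟩ : Fin n)] at h1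
  · rw [mul_smul_comm, ← pow_add] at h1
    have h2 : n - 1 - i0 + i0 = n - 1 := by omega
    rw [h2] at h1
    rcases smul_eq_zero.1 h1 with h3 | h3
    · exact hci0 h3
    · exact hn1 h3
  · intro j _ hj
    rcases lt_or_gt_of_ne (fun h => hj (Fin.ext h) : (j : ℕ) ≠ i0) with h | h
    · rw [hmin j h, zero_smul, mul_zero]
    · rw [mul_smul_comm, ← pow_add]
      have h2 : n ≤ n - 1 - i0 + j := by omega
      rw [pow_eq_zero_of_le h2 hn, smul_zero]
  · intro h
    exact absurd (Finset.mem_univ _) h

end nilp

section gen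
variable {k : Type u} [Field k] {A : Type v} [CommRing A] [Bialgebra k A]

/-- If the augmentation ideal is generated by `y` with `y ^ n = 0`, the powers `y ^ i`, `i < n`,
span `A`. -/
theorem span_pow_eq_top (y : A) (n : ℕ) (hn : y ^ n = 0)
    (hI : RingHom.ker (Bialgebra.counitAlgHom k A) = Ideal.span {y}) :
    Submodule.span k (Set.range (fun i : Fin n => y ^ (i : ℕ))) = ⊤ := by
  have key : ∀ j : ℕ, j ≤ n → ∀ a : A, ∃ s ∈ Submodule.span k (Set.range (fun i : Fin n => y ^ (i : ℕ))),
      ∃ b : A, a = s + y ^ j * b := by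
    intro j
    induction j with
    | zero =>
      intro _ a
      exact ⟨0, Submodule.zero_mem _, a, by simp⟩
    | succ j ih =>
      intro hj a
      obtain ⟨s, hs, b, hab⟩ := ih (by omega) a
      have hmem : b - algebraMap k A (CoalgebraStruct.counit (R := k) b) ∈
          RingHom.ker (Bialgebra.counitAlgHom k A) := by
        rw [RingHom.mem_ker, map_sub, Bialgebra.counitAlgHom_apply, AlgHom.commutes]
        simp
      rw [hI] at hmem
      obtain ⟨b', hb'⟩ := Ideal.mem_span_singleton'.1 hmem
      refine ⟨s + CoalgebraStruct.counit (R := k) b • y ^ j, ?_, b', ?_⟩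
      · refine Submodule.add_mem _ hs (Submodule.smul_mem _ _ (Submodule.subset_span ?_))
        exact ⟨⟨j, by omega⟩, rfl⟩
      · have hb : b = algebraMap k A (CoalgebraStruct.counit (R := k) b) + b' * y := by
          rw [hb']; ring
        rw [hab]
        conv_lhs => rw [hb]
        rw [Algebra.smul_def, pow_succ]
        ring
  rw [eq_top_iff]
  intro a _
  obtain ⟨s, hs, b, hab⟩ := key n le_rfl a
  rw [hn, zero_mul, add_zero] at hab
  rw [hab]
  exact hs

theorem finrank_eq_of_span_pow (y : A) (n : ℕ) (hn : y ^ n = 0)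
    (hI : RingHom.ker (Bialgebra.counitAlgHom k A) = Ideal.span {y})
    (hli : LinearIndependent k (fun i : Fin n => y ^ (i : ℕ))) :
    Module.finrank k A = n := by
  have hsp := span_pow_eq_top (k := k) y n hn hI
  let b : Module.Basis (Fin n) k A := Module.Basis.mk hli (by rw [hsp])
  rw [Module.finrank_eq_card_basis b, Fintype.card_fin]

end gen



section hopfIdeal
variable {k : Type u} [CommRing k] {A : Type v} [CommRing A] [HopfAlgebra k A]

/-- A principal ideal `(x)` with `ε x = 0`, `(π ⊗ π)(Δ x) = 0` and `S x ∈ (x)` is a Hopf ideal. -/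
theorem isHopfIdeal_span_singleton (x : A) (hε : CoalgebraStruct.counit (R := k) x = 0)
    (hΔ : Algebra.TensorProduct.map (Ideal.Quotient.mkₐ k (Ideal.span ({x} : Set A)))
      (Ideal.Quotient.mkₐ k (Ideal.span ({x} : Set A))) (Bialgebra.comulAlgHom k A x) = 0)
    (hS : HopfAlgebra.antipode k x ∈ Ideal.span ({x} : Set A)) :
    (Ideal.span ({x} : Set A)).IsHopfIdeal k := by
  have : ((Ideal.span ({x} : Set A)).restrictScalars k).IsCoideal := by
    refine Submodule.IsCoideal.mk ?_ ?_
    · intro a ha
      obtain ⟨c, rfl⟩ := Ideal.mem_span_singleton'.mp ha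
      change Bialgebra.counitAlgHom k A (c * x) = 0
      rw [map_mul, Bialgebra.counitAlgHom_apply, Bialgebra.counitAlgHom_apply, hε, mul_zero]
    · intro a ha
      obtain ⟨c, rfl⟩ := Ideal.mem_span_singleton'.mp ha
      have hmk : (Submodule.restrictScalars k (Ideal.span ({x} : Set A))).mkQ =
          (Ideal.Quotient.mkₐ k (Ideal.span ({x} : Set A))).toLinearMap := rfl
      rw [hmk]
      change Algebra.TensorProduct.map (Ideal.Quotient.mkₐ k (Ideal.span ({x} : Set A)))
        (Ideal.Quotient.mkₐ k (Ideal.span ({x} : Set A)))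
          (Bialgebra.comulAlgHom k A (c * x)) = 0
      rw [map_mul, map_mul, hΔ, mul_zero]
  refine Ideal.IsHopfIdeal.mk ?_
  intro a ha
  obtain ⟨c, rfl⟩ := Ideal.mem_span_singleton'.mp ha
  change HopfAlgebra.antipodeAlgHom k A (c * x) ∈ Ideal.span ({x} : Set A)
  rw [map_mul]
  exact Ideal.mul_mem_left _ _ hS

/-- The antipode of a primitive element. -/
theorem antipode_primitive (x : A)
    (hx : Coalgebra.comul (R := k) x = x ⊗ₜ[k] (1 : A) + (1 : A) ⊗ₜ[k] x) :
    HopfAlgebra.antipode k x = -x := by
  have hε : CoalgebraStruct.counit (R := k) x = 0 := by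
    have h := Coalgebra.rTensor_counit_comul (R := k) x
    rw [hx, map_add, LinearMap.rTensor_tmul, LinearMap.rTensor_tmul, Bialgebra.counit_one] at h
    have h2 := congrArg (TensorProduct.lid k A) h
    rw [map_add, TensorProduct.lid_tmul, TensorProduct.lid_tmul, one_smul] at h2
    have h3 : CoalgebraStruct.counit (R := k) x • (1 : A) = 0 := by
      rwa [add_eq_right] at h2
    have h4 := congrArg (CoalgebraStruct.counit (R := k)) h3
    rwa [map_smul, Bialgebra.counit_one, smul_eq_mul, mul_one, map_zero] at h4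
  have h := HopfAlgebra.mul_antipode_rTensor_comul_apply (R := k) x
  rw [hx, map_add, LinearMap.rTensor_tmul, LinearMap.rTensor_tmul, map_add, LinearMap.mul'_apply,
    LinearMap.mul'_apply, HopfAlgebra.antipode_one, mul_one, one_mul, hε, map_zero] at h
  exact eq_neg_of_add_eq_zero_left h

theorem counit_primitive (x : A)
    (hx : Coalgebra.comul (R := k) x = x ⊗ₜ[k] (1 : A) + (1 : A) ⊗ₜ[k] x) :
    CoalgebraStruct.counit (R := k) x = 0 := by
  have h := Coalgebra.rTensor_counit_comul (R := k) x
  rw [hx, map_add, LinearMap.rTensor_tmul, LinearMap.rTensor_tmul, Bialgebra.counit_one] at h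
  have h2 := congrArg (TensorProduct.lid k A) h
  rw [map_add, TensorProduct.lid_tmul, TensorProduct.lid_tmul, one_smul] at h2
  have h3 : CoalgebraStruct.counit (R := k) x • (1 : A) = 0 := by
    rwa [add_eq_right] at h2
  have h4 := congrArg (CoalgebraStruct.counit (R := k)) h3
  rwa [map_smul, Bialgebra.counit_one, smul_eq_mul, mul_one, map_zero] at h4

/-- The ideal generated by a primitive element is a Hopf ideal. -/
theorem isHopfIdeal_span_primitive (x : A)
    (hx : Coalgebra.comul (R := k) x = x ⊗ₜ[k] (1 : A) + (1 : A) ⊗ₜ[k] x) :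
    (Ideal.span ({x} : Set A)).IsHopfIdeal k := by
  apply isHopfIdeal_span_singleton x (counit_primitive x hx)
  · have h0 : Ideal.Quotient.mkₐ k (Ideal.span ({x} : Set A)) x = 0 :=
      Ideal.Quotient.eq_zero_iff_mem.2 (Ideal.subset_span rfl)
    change Algebra.TensorProduct.map _ _ (Coalgebra.comul (R := k) x) = 0
    rw [hx, map_add, Algebra.TensorProduct.map_tmul, Algebra.TensorProduct.map_tmul, h0,
      TensorProduct.zero_tmul, TensorProduct.tmul_zero, add_zero]
  · rw [antipode_primitive x hx]
    exact Ideal.neg_mem_iff _ |>.2 (Ideal.subset_span rfl)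

/-- The ideal generated by `g - 1`, `g` group-like, is a Hopf ideal. -/
theorem isHopfIdeal_span_groupLike_sub_one (g : A) (hg : IsGroupLikeElem k g) :
    (Ideal.span ({g - 1} : Set A)).IsHopfIdeal k := by
  have h0 : Ideal.Quotient.mkₐ k (Ideal.span ({g - 1} : Set A)) g = 1 := by
    have : Ideal.Quotient.mkₐ k (Ideal.span ({g - 1} : Set A)) (g - 1) = 0 :=
      Ideal.Quotient.eq_zero_iff_mem.2 (Ideal.subset_span rfl)
    rwa [map_sub, map_one, sub_eq_zero] at this
  apply isHopfIdeal_span_singleton (g - 1)
  · rw [map_sub, hg.counit_eq_one, Bialgebra.counit_one, sub_self]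
  · rw [map_sub, map_one, map_sub, map_one]
    change Algebra.TensorProduct.map _ _ (Coalgebra.comul (R := k) g) - 1 = 0
    rw [hg.comul_eq_tmul_self, Algebra.TensorProduct.map_tmul, h0, sub_eq_zero]
    rfl
  · rw [map_sub, HopfAlgebra.antipode_one]
    have h1 : HopfAlgebra.antipode k g - 1 = - (HopfAlgebra.antipode k g) * (g - 1) := by
      have := hg.antipode_mul_cancel
      linear_combination this
    rw [h1]
    exact Ideal.mul_mem_left _ _ (Ideal.subset_span rfl)

end hopfIdeal





section prim
variable {k : Type u} [Field k] {A : Type v} [CommRing A] [HopfAlgebra k A]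
  [Coalgebra.IsCocomm k A] [FiniteDimensional k A]

/-- evaluation at one, as an algebra map on the dual. -/
noncomputable def evOne : WithConv (A →ₗ[k] k) →ₐ[k] k :=
  Bialgebra.counitAlgHom k (CartDual.D k A)

theorem evOne_apply (f : WithConv (A →ₗ[k] k)) : evOne (k := k) (A := A) f = f.ofConv 1 := rfl

theorem finrank_dual : Module.finrank k (WithConv (A →ₗ[k] k)) = Module.finrank k A := by
  rw [(WithConv.linearEquiv k (A →ₗ[k] k)).finrank_eq]
  exact Subspace.dual_finrank_eq

/-- If the dual algebra is local of dimension `> 1`, there is a nonzero primitive element. -/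
theorem exists_primitive_of_isLocalRing_dual
    (hdual : IsLocalRing (WithConv (A →ₗ[k] k))) (hA : 1 < Module.finrank k A) :
    ∃ x : A, x ≠ 0 ∧ Coalgebra.comul (R := k) x = x ⊗ₜ[k] (1 : A) + (1 : A) ⊗ₜ[k] x := by
  classical
  let D := WithConv (A →ₗ[k] k)
  let M : Ideal D := RingHom.ker (evOne (k := k) (A := A))
  have hsurj : Function.Surjective (evOne (k := k) (A := A)) := by
    intro c
    exact ⟨algebraMap k D c, AlgHom.commutes _ c⟩
  have hMmax : M.IsMaximal := RingHom.ker_isMaximal_of_surjective _ hsurj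
  have hMeq : M = IsLocalRing.maximalIdeal D := IsLocalRing.eq_maximalIdeal hMmax
  -- M ≠ M²
  have hne : ¬ (M ≤ M * M) := by
    intro hle
    have hnoeth : IsNoetherian D D := isNoetherian_of_tower k (inferInstance : IsNoetherian k D)
    have hfg : (M : Submodule D D).FG := IsNoetherian.noetherian M
    have hbot : M = ⊥ := by
      apply Submodule.eq_bot_of_le_smul_of_le_jacobson_bot M M hfg
      · rw [smul_eq_mul]; exact hle
      · rw [IsLocalRing.jacobson_eq_maximalIdeal ⊥ bot_ne_top, hMeq]
    have hinj : Function.Injective (evOne (k := k) (A := A)).toLinearMap := by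
      rw [← LinearMap.ker_eq_bot]
      rw [eq_bot_iff]
      intro f hf
      have : f ∈ M := hf
      rw [hbot] at this
      exact this
    have h1 := LinearMap.finrank_le_finrank_of_injective hinj
    rw [finrank_dual, Module.finrank_self] at h1
    omega
  obtain ⟨f₀, hf₀M, hf₀⟩ := Set.not_subset.1 hne
  -- the subspace W = M² + k·1
  let W : Submodule k D := (M * M).restrictScalars k ⊔ Submodule.span k {(1 : D)}
  have hW : W < ⊤ := by
    rw [lt_top_iff_ne_top]
    intro htop
    have hmem : f₀ ∈ W := by rw [htop]; trivial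
    obtain ⟨m, hm, t, ht, hmt⟩ := Submodule.mem_sup.1 hmem
    obtain ⟨c, rfl⟩ := Submodule.mem_span_singleton.1 ht
    have hmM : m ∈ M := Ideal.mul_le_left hm
    have h1 := congrArg (evOne (k := k) (A := A)) hmt
    rw [map_add, map_smul, map_one, (RingHom.mem_ker).1 hmM, (RingHom.mem_ker).1 hf₀M, zero_add,
      smul_eq_mul, mul_one] at h1
    rw [h1, zero_smul, add_zero] at hmt
    rw [← hmt] at hf₀
    exact hf₀ hm
  obtain ⟨Φ, hΦ0, hΦW⟩ := Submodule.exists_le_ker_of_lt_top W hW
  obtain ⟨x, hx⟩ := exists_repr Φ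
  have hΦ1 : Φ 1 = 0 := by
    apply hΦW
    exact Submodule.mem_sup_right (Submodule.mem_span_singleton_self _)
  have hΦM : ∀ F G : D, F ∈ M → G ∈ M → Φ (F * G) = 0 := by
    intro F G hF hG
    apply hΦW
    exact Submodule.mem_sup_left (Ideal.mul_mem_mul hF hG)
  refine ⟨x, ?_, ?_⟩
  · rintro rfl
    apply hΦ0
    ext f
    have := hx f.ofConv
    rw [map_zero] at this
    rw [LinearMap.zero_apply, ← this]
  · rw [← sub_eq_zero]
    apply eq_zero_of_forall_mul'_map
    intro f g
    rw [map_sub, map_sub, sub_eq_zero]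
    -- left side: (f * g)(x)
    have hL : LinearMap.mul' k k (TensorProduct.map f g (Coalgebra.comul (R := k) x)) =
        Φ (toConv f * toConv g) := by
      rw [hx]
      rfl
    rw [hL]
    set F : D := toConv f with hF
    set G : D := toConv g with hG
    have hF' : F - algebraMap k D (f 1) ∈ M := by
      rw [RingHom.mem_ker, map_sub, AlgHom.commutes]
      rw [evOne_apply]
      simp [hF]
    have hG' : G - algebraMap k D (g 1) ∈ M := by
      rw [RingHom.mem_ker, map_sub, AlgHom.commutes]
      rw [evOne_apply]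
      simp [hG]
    have hdec : F * G = (F - algebraMap k D (f 1)) * (G - algebraMap k D (g 1))
        + f 1 • G + g 1 • F - (f 1 * g 1) • (1 : D) := by
      rw [Algebra.algebraMap_eq_smul_one, Algebra.algebraMap_eq_smul_one]
      simp only [sub_mul, mul_sub, smul_mul_assoc, mul_smul_comm, one_mul, mul_one, smul_sub,
        smul_smul]
      rw [mul_comm (g 1) (f 1)]
      abel
    rw [hdec, map_sub, map_add, map_add, hΦM _ _ hF' hG', map_smul, map_smul, map_smul, hΦ1,
      smul_zero, sub_zero, zero_add, hF, hG, hx, hx, map_add, map_add, TensorProduct.map_tmul,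
      TensorProduct.map_tmul, LinearMap.mul'_apply, LinearMap.mul'_apply, smul_eq_mul, smul_eq_mul]
    ring

end prim

end Groth.Agent.Lib.HopfSimple41
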