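import Mathlib
import Groth.Prelude.Def_CartDual
import Groth.Agent.Lib.HopfSimple41
import Groth.Agent.Lib.FinEtaleHopf41

set_option autoImplicit false
universe u v
open scoped TensorProduct
open WithConv

namespace Groth.Agent.Lib.HopfSimple41

open HopfPrimeOrder41 FinEtaleHopf41

section glike
variable {k : Type u} [Field k] {A : Type v} [CommRing A] [HopfAlgebra k A]
  [Coalgebra.IsCocomm k A] [FiniteDimensional k A]

/-- An algebra map on the dual is evaluation at a group-like element. -/
theorem exists_groupLike_of_algHom (φ : WithConv (A →ₗ[k] k) →ₐ[k] k) :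
    ∃ g : A, IsGroupLikeElem k g ∧ ∀ f : A →ₗ[k] k, φ (toConv f) = f g := by
  obtain ⟨g, hg⟩ := exists_repr φ.toLinearMap
  have hg' : ∀ f : A →ₗ[k] k, φ (toConv f) = f g := hg
  refine ⟨g, ⟨?_, ?_⟩, hg'⟩
  · have h1 := hg' (Algebra.linearMap k k ∘ₗ Coalgebra.counit)
    have h2 : (toConv (Algebra.linearMap k k ∘ₗ Coalgebra.counit) : WithConv (A →ₗ[k] k)) = 1 := rfl
    rw [h2, map_one] at h1
    rw [h1]
    rfl
  · rw [← sub_eq_zero]
    apply eq_zero_of_forall_mul'_map
    intro f f'
    rw [map_sub, map_sub, sub_eq_zero, TensorProduct.map_tmul, LinearMap.mul'_apply, ← hg' f,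
      ← hg' f', ← map_mul, hg']
    rfl

/-- If the dual algebra is reduced of dimension `> 1` over an algebraically closed field, there is
a group-like element different from `1`. -/
theorem exists_groupLike_ne_one_of_isReduced_dual [IsAlgClosed k]
    (hdual : IsReduced (WithConv (A →ₗ[k] k))) (hA : 1 < Module.finrank k A) :
    ∃ g : A, IsGroupLikeElem k g ∧ g ≠ 1 := by
  classical
  let D := WithConv (A →ₗ[k] k)
  have hfin : Finite (D →ₐ[k] k) := finite_points k D
  have : Fintype (D →ₐ[k] k) := Fintype.ofFinite _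
  let e : D ≃ₗ[k] ((D →ₐ[k] k) → k) :=
    LinearEquiv.ofBijective (evPts k D).toLinearMap ⟨evPts_injective k D, evPts_surjective k D⟩
  have hcard : Module.finrank k A = Fintype.card (D →ₐ[k] k) := by
    rw [← finrank_dual (k := k) (A := A), e.finrank_eq, Module.finrank_fintype_fun_eq_card]
  have hnt : Nontrivial (D →ₐ[k] k) := by
    rw [← Fintype.one_lt_card_iff_nontrivial, ← hcard]
    exact hA
  obtain ⟨φ, hφ⟩ := exists_ne (evOne (k := k) (A := A))
  obtain ⟨g, hg, hgφ⟩ := exists_groupLike_of_algHom φ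
  refine ⟨g, hg, ?_⟩
  rintro rfl
  apply hφ
  ext f
  have := hgφ f.ofConv
  rw [evOne_apply]
  exact this

end glike

end Groth.Agent.Lib.HopfSimple41
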