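import Mathlib
import Groth.Prelude.Def_CartDual
import Groth.Prelude.Def_ConstGrp
import Groth.Prelude.Def_AlphaP
import Groth.Agent.Lib.HopfPrimeOrder41
import Groth.Agent.Lib.HopfSimple41b
import Groth.Agent.Lib.CartierConst18

/-!
# Classification of group schemes of prime order over an algebraically closed field (helper41)

* `isReduced_or_nil_of_finrank_eq_prime`: reduced, or local of order `p`;
* `nonempty_bialgEquiv_constGrp`: reduced finite Hopf algebra = functions on its group of points;
* `comul_pow_primitive`, `natCast_eq_zero_of_primitive`, `nonempty_bialgEquiv_alphaP`;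
* `nonempty_bialgEquiv_monoidAlgebra`: étale dual of prime order gives `μ_p`;
* `nonempty_bialgEquiv_constGrp_of_finrank_eq_prime`.
-/

set_option autoImplicit false
universe u v w
open scoped TensorProduct
open WithConv

namespace Groth.Agent.Lib.HopfPrimeClass41

open Groth.Agent.Lib.Comod Groth.Agent.Lib.Cartier38 HopfSplit41 HopfPrimeOrder41 HopfSimple41
open Groth.Agent.Lib.HopfPoints FinEtaleHopf41


/-- A finite group scheme of prime order over an algebraically closed field of characteristic `p` is
reduced, or local of order `p`. -/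
theorem isReduced_or_nil_of_finrank_eq_prime (k : Type u) (A : Type v) [Field k] [IsAlgClosed k]
    [CommRing A] [HopfAlgebra k A] [Module.Finite k A] (p : ℕ) [Fact p.Prime] [CharP k p]
    (ℓ : ℕ) (hℓ : ℓ.Prime) (hA : Module.finrank k A = ℓ) :
    IsReduced A ∨
      (ℓ = p ∧ ∀ f : A, CoalgebraStruct.counit (R := k) f = 0 → IsNilpotent f) := by
  by_cases hred : IsReduced A
  · exact Or.inl hred
  right
  have hpp : p.Prime := Fact.out
  have hperf : PerfectField k := inferInstance
  have hHI : (nilradical A).IsHopfIdeal k :=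
    HopfKilledByOrder41.isHopfIdeal_nilradical_of_isAlgClosed k A
  obtain ⟨σ, hσ⟩ := FrobSection41.exists_section k p A
  have hloc : IsLocalRing (A ⧸ splitIdeal σ) :=
    isLocalRing_quotient_splitIdeal (Bialgebra.Quotient.mkBialgHom (R := k) (nilradical A)) σ hσ
      (fun a ha => mem_nilradical.1 (Ideal.Quotient.eq_zero_iff_mem.1 ha))
  have hbij := bijective_splitMap (Bialgebra.Quotient.mkBialgHom (R := k) (nilradical A)) σ hσ
  have hdim : Module.finrank k A =
      Module.finrank k (A ⧸ nilradical A) * Module.finrank k (A ⧸ splitIdeal σ) := by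
    rw [← Module.finrank_tensorProduct]
    exact (LinearEquiv.ofBijective (splitMap (Bialgebra.Quotient.mkBialgHom (R := k)
      (nilradical A)) (splitIdeal σ)).toLinearMap hbij).finrank_eq
  obtain ⟨e, he⟩ := HopfInfinitesimal41.exists_finrank_eq_pow k p
    (Module.finrank k (A ⧸ splitIdeal σ)) (A ⧸ splitIdeal σ)
    (fun f hf => HopfInfinitesimal41.nil_of_isLocalRing f hf) rfl
  rw [hA] at hdim
  rcases (Nat.dvd_prime hℓ).1 (Dvd.intro _ hdim.symm) with h1 | h1
  · rw [h1, one_mul] at hdim
    have hpe : ℓ = p ^ e := hdim.trans he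
    have hpeq : p = ℓ := by
      have hdvd : p ∣ ℓ := by
        rw [hpe]
        refine dvd_pow_self p ?_
        rintro rfl
        rw [pow_zero] at hpe
        exact hℓ.one_lt.ne' hpe
      exact (Nat.prime_dvd_prime_iff_eq hpp hℓ).1 hdvd
    refine ⟨hpeq.symm, ?_⟩
    intro f hf
    have h11 : (1 : A ⧸ nilradical A) ≠ 0 := by
      intro h0
      have : Subsingleton (A ⧸ nilradical A) := subsingleton_of_zero_eq_one h0.symm
      have := Module.finrank_zero_of_subsingleton (R := k) (M := A ⧸ nilradical A)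
      omega
    obtain ⟨c, hc⟩ := (finrank_eq_one_iff_of_nonzero' (1 : A ⧸ nilradical A) h11).1 h1
      (Ideal.Quotient.mk _ f)
    have h2 := congrArg (CoalgebraStruct.counit (R := k)) hc
    have h3 : CoalgebraStruct.counit (R := k) (Ideal.Quotient.mk (nilradical A) f) =
        CoalgebraStruct.counit (R := k) f :=
      CoalgHomClass.counit_comp_apply (Bialgebra.Quotient.mkBialgHom (R := k) (nilradical A)) f
    rw [map_smul, Bialgebra.counit_one, smul_eq_mul, mul_one, h3, hf] at h2
    rw [h2, zero_smul] at hc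
    exact mem_nilradical.1 (Ideal.Quotient.eq_zero_iff_mem.1 hc.symm)
  · exfalso
    apply hred
    have hsurj : Function.Surjective (Ideal.Quotient.mkₐ k (nilradical A)).toLinearMap :=
      Ideal.Quotient.mk_surjective
    have hinj : Function.Injective (Ideal.Quotient.mkₐ k (nilradical A)).toLinearMap :=
      (LinearMap.injective_iff_surjective_of_finrank_eq_finrank (by rw [h1, hA])).2 hsurj
    have hbot : nilradical A = ⊥ := by
      rw [eq_bot_iff]
      intro a ha
      have : (Ideal.Quotient.mkₐ k (nilradical A)).toLinearMap a = 0 :=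
        Ideal.Quotient.eq_zero_iff_mem.2 ha
      rw [← map_zero (Ideal.Quotient.mkₐ k (nilradical A)).toLinearMap] at this
      exact hinj this
    exact nilradical_eq_bot_iff.1 hbot



section const
variable (k : Type u) [Field k] [IsAlgClosed k] (A : Type v) [CommRing A] [HopfAlgebra k A]
  [Module.Finite k A] [IsReduced A]

/-- A reduced finite commutative Hopf algebra over an algebraically closed field is the algebra of
functions on any group isomorphic to its group of points. -/
theorem nonempty_bialgEquiv_constGrp (Z : Type w) [Group Z] [Fintype Z] [DecidableEq Z]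
    (θ : Z ≃* WithConv (A →ₐ[k] k)) : Nonempty (A ≃ₐc[k] ConstGrp.F k Z) := by
  classical
  have hfin : Finite (A →ₐ[k] k) := finite_points k A
  have : Fintype (A →ₐ[k] k) := Fintype.ofFinite _
  let Ψ : A →ₐ[k] ConstGrp.F k Z :=
    (ConstGrp.equivFun k Z).symm.toAlgHom.comp (AlgHom.pi (fun z : Z => (θ z).ofConv))
  have hΨ : ∀ (a : A) (z : Z), Ψ a z = (θ z).ofConv a := fun a z => rfl
  have hinj : Function.Injective Ψ := by
    rw [injective_iff_map_eq_zero]
    intro a ha
    apply Groth.Agent.Lib.HopfPointSep41b.pointsSeparate_of_isReduced k A a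
    intro χ
    have h1 := congrFun ha (θ.symm (toConv χ))
    rw [hΨ, MulEquiv.apply_symm_apply] at h1
    exact h1
  have hcard : Module.finrank k A = Module.finrank k (ConstGrp.F k Z) := by
    let e : A ≃ₗ[k] ((A →ₐ[k] k) → k) :=
      LinearEquiv.ofBijective (evPts k A).toLinearMap ⟨evPts_injective k A, evPts_surjective k A⟩
    rw [e.finrank_eq, Module.finrank_fintype_fun_eq_card,
      Module.finrank_eq_card_basis (ConstGrp.basis k Z)]
    exact Fintype.card_congr ((WithConv.equiv (A →ₐ[k] k)).symm.trans θ.symm.toEquiv)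
  have hbij : Function.Bijective Ψ := by
    refine ⟨hinj, ?_⟩
    exact (LinearMap.injective_iff_surjective_of_finrank_eq_finrank (f := Ψ.toLinearMap) hcard).1 hinj
  have hcounit : (Bialgebra.counitAlgHom k (ConstGrp.F k Z)).comp Ψ = Bialgebra.counitAlgHom k A := by
    ext a
    change Ψ a 1 = _
    rw [hΨ, map_one]
    simp
  have hcomul : (Algebra.TensorProduct.map Ψ Ψ).comp (Bialgebra.comulAlgHom k A) =
      (Bialgebra.comulAlgHom k (ConstGrp.F k Z)).comp Ψ := by
    ext a
    apply Groth.Agent.Lib.CartierConst18.pair_injective k Z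
    ext ⟨z, w⟩
    change ConstGrp.pair k Z (Algebra.TensorProduct.map Ψ Ψ (Coalgebra.comul (R := k) a)) (z, w) =
      ConstGrp.pair k Z (Coalgebra.comul (R := k) (Ψ a)) (z, w)
    rw [ConstGrp.pair_comul, hΨ, map_mul]
    have e2 : (θ z * θ w).ofConv a = Algebra.TensorProduct.lift (θ z).ofConv (θ w).ofConv
        (fun _ _ => .all ..) (CoalgebraStruct.comul (R := k) a) :=
      AlgHom.convMul_apply (θ z) (θ w) a
    rw [e2]
    generalize CoalgebraStruct.comul (R := k) a = t
    induction t using TensorProduct.induction_on with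
    | zero => simp
    | add x y hx hy =>
      rw [map_add, map_add, ConstGrp.add_apply, map_add, hx, hy]
    | tmul x y =>
      rw [Algebra.TensorProduct.map_tmul, ConstGrp.pair_tmul, hΨ, hΨ,
        Algebra.TensorProduct.lift_tmul]
  exact ⟨BialgEquiv.ofBijective (BialgHom.ofAlgHom Ψ hcounit hcomul) hbij⟩

end const



section alpha
variable {k : Type u} [Field k] {A : Type v} [CommRing A] [HopfAlgebra k A]

/-- Comultiplication of a power of a primitive element. -/
theorem comul_pow_primitive (x : A)
    (hx : Coalgebra.comul (R := k) x = x ⊗ₜ[k] (1 : A) + (1 : A) ⊗ₜ[k] x) (m : ℕ) :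
    Coalgebra.comul (R := k) (x ^ m) =
      ∑ i ∈ Finset.range (m + 1), (m.choose i : k) • ((x ^ i) ⊗ₜ[k] (x ^ (m - i))) := by
  change Bialgebra.comulAlgHom k A (x ^ m) = _
  rw [map_pow]
  change (Coalgebra.comul (R := k) x) ^ m = _
  rw [hx, add_pow]
  refine Finset.sum_congr rfl fun i _ => ?_
  rw [Algebra.TensorProduct.tmul_pow, Algebra.TensorProduct.tmul_pow, one_pow, one_pow,
    Algebra.TensorProduct.tmul_mul_tmul, mul_one, one_mul, mul_comm, ← nsmul_eq_mul,
    Nat.cast_smul_eq_nsmul]

/-- The nilpotency index of a primitive element vanishes in `k`. -/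
theorem natCast_eq_zero_of_primitive (x : A)
    (hx : Coalgebra.comul (R := k) x = x ⊗ₜ[k] (1 : A) + (1 : A) ⊗ₜ[k] x) (m : ℕ)
    (hm2 : 2 ≤ m) (hm0 : x ^ m = 0) (hm1 : x ^ (m - 1) ≠ 0) : (m : k) = 0 := by
  obtain ⟨d, hd⟩ : ∃ d : A →ₗ[k] k, d (x ^ (m - 1)) ≠ 0 := by
    by_contra hcon
    push Not at hcon
    exact hm1 ((Module.forall_dual_apply_eq_zero_iff k _).1 hcon)
  have h1 := comul_pow_primitive x hx m
  rw [hm0, map_zero] at h1
  have h2 := congrArg (fun t => x ^ (m - 2) * (TensorProduct.rid k A) ((LinearMap.lTensor A d) t)) h1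
  simp only [map_zero, mul_zero, map_sum, map_smul, LinearMap.lTensor_tmul, TensorProduct.rid_tmul,
    Finset.mul_sum] at h2
  rw [Finset.sum_eq_single_of_mem 1 (by simp; omega)] at h2
  · rw [Nat.choose_one_right, pow_one, mul_smul_comm, mul_smul_comm, ← pow_succ] at h2
    have h3 : m - 2 + 1 = m - 1 := by omega
    rw [h3, smul_smul] at h2
    rcases smul_eq_zero.1 h2.symm with h4 | h4
    · rcases mul_eq_zero.1 h4 with h5 | h5
      · exact h5
      · exact absurd h5 hd
    · exact absurd h4 hm1
  · intro i hi hi1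
    rcases Nat.lt_or_ge i 1 with h | h
    · have hi0 : i = 0 := by omega
      subst hi0
      rw [Nat.sub_zero, hm0, map_zero, zero_smul, smul_zero, mul_zero]
    · have h2 : m ≤ m - 2 + i := by omega
      rw [mul_smul_comm, mul_smul_comm, ← pow_add, pow_eq_zero_of_le h2 hm0, smul_zero, smul_zero]

/-- A Hopf algebra of dimension `p` with a nonzero nilpotent primitive element is `α_p`. -/
theorem nonempty_bialgEquiv_alphaP (p : ℕ) [Fact p.Prime] [CharP k p] [Module.Finite k A]
    (hA : Module.finrank k A = p) (x : A) (hx0 : x ≠ 0) (hxn : IsNilpotent x)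
    (hx : Coalgebra.comul (R := k) x = x ⊗ₜ[k] (1 : A) + (1 : A) ⊗ₜ[k] x) :
    Nonempty (A ≃ₐc[k] AlphaP.A p k) := by
  classical
  have hp : p.Prime := Fact.out
  have hnt : Nontrivial A := FrobSection41.nontrivial_of_bialgebra (k := k) A
  obtain ⟨n, hn⟩ := hxn
  have hex : ∃ m : ℕ, x ^ m = 0 := ⟨n, hn⟩
  let m := Nat.find hex
  have hm0 : x ^ m = 0 := Nat.find_spec hex
  have hm2 : 2 ≤ m := by
    by_contra hlt
    have hcases : m = 0 ∨ m = 1 := by omega
    rcases hcases with h | h
    · rw [h, pow_zero] at hm0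
      exact one_ne_zero hm0
    · rw [h, pow_one] at hm0
      exact hx0 hm0
  have hm1 : x ^ (m - 1) ≠ 0 := fun h => Nat.find_min hex (by omega : m - 1 < m) h
  have hpm : (m : k) = 0 := natCast_eq_zero_of_primitive x hx m hm2 hm0 hm1
  have hdvd : p ∣ m := (CharP.cast_eq_zero_iff k p m).1 hpm
  have hli0 := linearIndependent_pow_of_nilpotent (k := k) x m hm0 hm1
  have hmp : m ≤ p := by
    have := hli0.fintype_card_le_finrank
    rwa [Fintype.card_fin, hA] at this
  have hmeq : m = p := le_antisymm hmp (Nat.le_of_dvd (by omega) hdvd)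
  rw [hmeq] at hm1 hm0
  have hli := linearIndependent_pow_of_nilpotent (k := k) x p hm0 hm1
  -- the map
  let φ : AlphaP.A p k →ₐ[k] A := AlphaP.lift p k x hm0
  have hφx : φ (AlphaP.x p k) = x := AlphaP.lift_x x hm0
  have hcounit : (Bialgebra.counitAlgHom k A).comp φ = Bialgebra.counitAlgHom k (AlphaP.A p k) := by
    apply AlphaP.algHom_ext
    rw [AlgHom.comp_apply, hφx, Bialgebra.counitAlgHom_apply, Bialgebra.counitAlgHom_apply,
      AlphaP.counit_x, counit_primitive x hx]
  have hcomul : (Algebra.TensorProduct.map φ φ).comp (Bialgebra.comulAlgHom k (AlphaP.A p k)) =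
      (Bialgebra.comulAlgHom k A).comp φ := by
    apply AlphaP.algHom_ext
    rw [AlgHom.comp_apply, AlgHom.comp_apply, hφx]
    change Algebra.TensorProduct.map φ φ (Coalgebra.comul (R := k) (AlphaP.x p k)) =
      Coalgebra.comul (R := k) x
    rw [AlphaP.comul_x, hx, map_add, Algebra.TensorProduct.map_tmul, Algebra.TensorProduct.map_tmul,
      hφx, map_one]
  have hsurj : Function.Surjective φ := by
    have hspan : Submodule.span k (Set.range (fun i : Fin p => x ^ (i : ℕ))) = ⊤ := by
      apply hli.span_eq_top_of_card_eq_finrank'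
      rw [Fintype.card_fin, hA]
    have hr : LinearMap.range φ.toLinearMap = ⊤ := by
      rw [eq_top_iff, ← hspan, Submodule.span_le]
      rintro _ ⟨i, rfl⟩
      exact ⟨AlphaP.x p k ^ (i : ℕ), by rw [AlgHom.toLinearMap_apply, map_pow, hφx]⟩
    exact LinearMap.range_eq_top.1 hr
  have hinj : Function.Injective φ := by
    have hfr : Module.finrank k (AlphaP.A p k) = Module.finrank k A := by
      rw [AlphaP.finrank_eq, hA]
    exact (LinearMap.injective_iff_surjective_of_finrank_eq_finrank (f := φ.toLinearMap) hfr).2 hsurj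
  exact ⟨(BialgEquiv.ofBijective (BialgHom.ofAlgHom φ hcounit hcomul) ⟨hinj, hsurj⟩).symm⟩

end alpha




section mu
variable (k : Type u) [Field k] [IsAlgClosed k] (A : Type v) [CommRing A] [HopfAlgebra k A]
  [Coalgebra.IsCocomm k A] [Module.Finite k A]

/-- A finite commutative group scheme of prime order with étale dual is `μ_p`. -/
theorem nonempty_bialgEquiv_monoidAlgebra
    (hdual : IsReduced (WithConv (A →ₗ[k] k))) (p : ℕ) [Fact p.Prime]
    (hA : Module.finrank k A = p) :
    Nonempty (A ≃ₐc[k] MonoidAlgebra k (Multiplicative (ZMod p))) := by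
  classical
  let Γ := GroupLike k A
  have hli : LinearIndependent k (GroupLike.val : Γ → A) := linearIndep_groupLikeVal
  have hfinΓ : Finite Γ := hli.finite_of_isNoetherian
  have : Fintype Γ := Fintype.ofFinite _
  have hle : Fintype.card Γ ≤ p := by
    have := hli.fintype_card_le_finrank
    rwa [hA] at this
  let D := WithConv (A →ₗ[k] k)
  have hfin : Finite (D →ₐ[k] k) := finite_points k D
  have : Fintype (D →ₐ[k] k) := Fintype.ofFinite _
  let e : D ≃ₗ[k] ((D →ₐ[k] k) → k) :=
    LinearEquiv.ofBijective (evPts k D).toLinearMap ⟨evPts_injective k D, evPts_surjective k D⟩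
  have hcardD : p = Fintype.card (D →ₐ[k] k) := by
    rw [← hA, ← finrank_dual (k := k) (A := A), e.finrank_eq, Module.finrank_fintype_fun_eq_card]
  let ι : (D →ₐ[k] k) → Γ := fun φ =>
    ⟨(exists_groupLike_of_algHom φ).choose, (exists_groupLike_of_algHom φ).choose_spec.1⟩
  have hι : ∀ (φ : D →ₐ[k] k) (f : A →ₗ[k] k), φ (toConv f) = f (ι φ).val := fun φ =>
    (exists_groupLike_of_algHom φ).choose_spec.2
  have hιinj : Function.Injective ι := by
    intro φ ψ h
    ext f
    have h1 := hι φ f.ofConv
    have h2 := hι ψ f.ofConv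
    rw [h] at h1
    exact h1.trans h2.symm
  have hge : p ≤ Fintype.card Γ := by
    rw [hcardD]
    exact Fintype.card_le_of_injective ι hιinj
  have hcard : Fintype.card Γ = p := le_antisymm hle hge
  have hNat : Nat.card Γ = p := by rw [Nat.card_eq_fintype_card, hcard]
  have hcyc : IsCyclic Γ := isCyclic_of_prime_card hNat
  obtain ⟨θ⟩ : Nonempty (Multiplicative (ZMod p) ≃* Γ) := by
    have := zmodCyclicMulEquiv hcyc
    rw [hNat] at this
    exact ⟨this⟩
  let Λ : MonoidAlgebra k Γ →ₐc[k] A := MonoidAlgebra.liftGroupLikeBialgHom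
  have hΛ : ∀ g : Γ, Λ (MonoidAlgebra.single g 1) = g.val := by
    intro g
    change MonoidAlgebra.liftGroupLikeBialgHom (MonoidAlgebra.single g 1) = g.val
    rw [MonoidAlgebra.liftGroupLikeBialgHom_apply, MonoidAlgebra.lift_single, one_smul]
    rfl
  let b' : Module.Basis Γ k A := basisOfLinearIndependentOfCardEqFinrank hli (by rw [hcard, hA])
  have hb' : ∀ g, b' g = g.val := fun g => by
    simp [b']
  have hΛeq : (Λ : MonoidAlgebra k Γ →ₗ[k] A) =
      ((MonoidAlgebra.basis Γ k).equiv b' (Equiv.refl _)).toLinearMap := by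
    apply (MonoidAlgebra.basis Γ k).ext
    intro g
    rw [LinearEquiv.coe_coe, Module.Basis.equiv_apply, MonoidAlgebra.basis_apply, Equiv.refl_apply,
      hb']
    exact hΛ g
  have hbij : Function.Bijective Λ := by
    have h1 := ((MonoidAlgebra.basis Γ k).equiv b' (Equiv.refl _)).bijective
    have h2 : (Λ : MonoidAlgebra k Γ → A) =
        ((MonoidAlgebra.basis Γ k).equiv b' (Equiv.refl _)) := by
      ext t
      exact congrArg (fun L : MonoidAlgebra k Γ →ₗ[k] A => L t) hΛeq
    rw [h2]
    exact h1
  exact ⟨(BialgEquiv.ofBijective Λ hbij).symm.trans (MonoidAlgebra.domCongrBialgEquiv k k θ.symm)⟩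

end mu


/-- A reduced commutative Hopf algebra of prime dimension `ℓ` over an algebraically closed field is
the algebra of functions on the cyclic group of order `ℓ`. -/
theorem nonempty_bialgEquiv_constGrp_of_finrank_eq_prime (k : Type u) [Field k] [IsAlgClosed k]
    (A : Type v) [CommRing A] [HopfAlgebra k A] [Module.Finite k A] [IsReduced A]
    (ℓ : ℕ) [Fact ℓ.Prime] (hA : Module.finrank k A = ℓ)
    [Fintype (Multiplicative (ZMod ℓ))] [DecidableEq (Multiplicative (ZMod ℓ))] :
    Nonempty (A ≃ₐc[k] ConstGrp.F k (Multiplicative (ZMod ℓ))) := by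
  classical
  have hfin : Finite (A →ₐ[k] k) := finite_points k A
  have : Fintype (A →ₐ[k] k) := Fintype.ofFinite _
  let G := WithConv (A →ₐ[k] k)
  have hfinG : Finite G := Finite.of_equiv _ (WithConv.equiv (A →ₐ[k] k)).symm
  let e : A ≃ₗ[k] ((A →ₐ[k] k) → k) :=
    LinearEquiv.ofBijective (evPts k A).toLinearMap ⟨evPts_injective k A, evPts_surjective k A⟩
  have hcard : Nat.card G = ℓ := by
    rw [← hA, e.finrank_eq, Module.finrank_fintype_fun_eq_card, ← Nat.card_eq_fintype_card]
    exact Nat.card_congr (WithConv.equiv (A →ₐ[k] k))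
  have hcyc : IsCyclic G := isCyclic_of_prime_card hcard
  obtain ⟨θ⟩ : Nonempty (Multiplicative (ZMod ℓ) ≃* G) := by
    have := zmodCyclicMulEquiv hcyc
    rw [hcard] at this
    exact ⟨this⟩
  exact nonempty_bialgEquiv_constGrp k A (Multiplicative (ZMod ℓ)) θ

end Groth.Agent.Lib.HopfPrimeClass41
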