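import Mathlib
import Groth.Agent.S15063
import Groth.Agent.Lib.ComodFP2
import Groth.Agent.Lib.HopfQuot55c

/-!
# Invariants of a normal Hopf ideal form a Hopf subalgebra, over a ring (helper55)

Ring-level generalisation (flatness hypotheses instead of a base field) of helper41's S7968 and of
`Lib/NormalKer55a`: for a commutative Hopf algebra `A` flat over a commutative ring `R` and a normal
Hopf ideal `I`, the right `A ⧸ I`-invariants `coinv I` are stable under the antipode, and
`Δ (coinv I) ⊆ (coinv I ⊗ A) ∩ (A ⊗ coinv I)`.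
-/

set_option autoImplicit false
universe u v
open scoped TensorProduct
open HopfRep WithConv

namespace Groth.Agent.Lib.HopfQuot55.Nrm

open Groth.Agent.Lib.HopfQuot55

section
variable {k A : Type u} [CommRing k] [CommRing A] [HopfAlgebra k A]

variable (I : Ideal A) [I.IsHopfIdeal k]

/-- `a ↦ a ⊗ 1` -/
noncomputable def p₁ : A →ₐ[k] A ⊗[k] (A ⧸ I) := Algebra.TensorProduct.includeLeft

/-- `a ↦ 1 ⊗ π a` -/
noncomputable def p₂ : A →ₐ[k] A ⊗[k] (A ⧸ I) :=
  Algebra.TensorProduct.includeRight.comp (Ideal.Quotient.mkₐ k I)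

/-- the conjugate `g⁻¹ h g` of the universal points -/
noncomputable def cj : A →ₐ[k] A ⊗[k] (A ⧸ I) :=
  ((toConv (p₁ (k := k) I))⁻¹ * toConv (p₂ I) * toConv (p₁ I)).ofConv

theorem cj_eq_zero (hI : SGA3.IsNormalHopfIdeal k A I) (a : A) (ha : a ∈ I) :
    cj (k := k) I a = 0 := by
  have h := hI (A ⊗[k] (A ⧸ I)) ((toConv (p₁ (k := k) I))⁻¹).ofConv (p₂ I) (fun a ha => by
    show (1 : A) ⊗ₜ[k] (Ideal.Quotient.mk I a) = 0
    rw [Ideal.Quotient.eq_zero_iff_mem.mpr ha, TensorProduct.tmul_zero]) a ha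
  rw [Groth.Agent.S15063.conv3_eq] at h
  have hS : ((toConv (p₁ (k := k) I))⁻¹).ofConv.comp (HopfAlgebra.antipodeAlgHom k A) = p₁ I := by
    ext x
    show p₁ I (HopfAlgebraStruct.antipode k (HopfAlgebraStruct.antipode k x)) = p₁ I x
    rw [Groth.Agent.Lib.ComodFP2.antipode_antipode]
  rw [hS] at h
  exact h

variable (hI : SGA3.IsNormalHopfIdeal k A I)

/-- `cj` descends to the quotient -/
noncomputable def cbar : A ⧸ I →ₐ[k] A ⊗[k] (A ⧸ I) :=
  Ideal.Quotient.liftₐ I (cj (k := k) I) (cj_eq_zero I hI)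

/-- `x ⊗ a ↦ (x ⊗ 1) * cj a` -/
noncomputable def Th : A ⊗[k] A →ₐ[k] A ⊗[k] (A ⧸ I) :=
  Algebra.TensorProduct.lift (p₁ I) (cj (k := k) I) (fun _ _ => Commute.all _ _)

/-- `x ⊗ b ↦ (x ⊗ 1) * cbar b` -/
noncomputable def Thbar : A ⊗[k] (A ⧸ I) →ₐ[k] A ⊗[k] (A ⧸ I) :=
  Algebra.TensorProduct.lift (p₁ I) (cbar I hI) (fun _ _ => Commute.all _ _)

theorem Th_eq (t : A ⊗[k] A) :
    Th (k := k) I t = Thbar I hI ((Ideal.Quotient.mkₐ k I).toLinearMap.lTensor A t) := by
  induction t using TensorProduct.induction_on with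
  | zero => simp
  | add x y hx hy => simp only [map_add, hx, hy]
  | tmul x a =>
    simp [Th, Thbar, cbar]

theorem Thbar_tmul_one (x : A) : Thbar I hI (x ⊗ₜ[k] (1 : A ⧸ I)) = x ⊗ₜ[k] (1 : A ⧸ I) := by
  simp [Thbar, p₁]

theorem Th_comul (a : A) :
    Th (k := k) I (CoalgebraStruct.comul (R := k) a) =
      TensorProduct.comm k (A ⧸ I) A
        ((Ideal.Quotient.mkₐ k I).toLinearMap.rTensor A (CoalgebraStruct.comul (R := k) a)) := by
  have h1 : toConv (p₁ (k := k) I) * toConv (cj I) = toConv (p₂ I) * toConv (p₁ I) := by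
    have e : toConv (cj (k := k) I) = (toConv (p₁ (k := k) I))⁻¹ * toConv (p₂ I) * toConv (p₁ I) := rfl
    rw [e]
    have hg : ∀ {G : Type u} [Group G] (x y : G), x * (x⁻¹ * y * x) = y * x := by
      intros; group
    exact hg (G := WithConv (A →ₐ[k] A ⊗[k] (A ⧸ I))) _ _
  have h2 := congrArg (fun f : WithConv (A →ₐ[k] A ⊗[k] (A ⧸ I)) => f a) h1
  have h3 := AlgHom.convMul_apply (toConv (p₁ (k := k) I)) (toConv (cj I)) a
  have h4 := AlgHom.convMul_apply (toConv (p₂ (k := k) I)) (toConv (p₁ I)) a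
  have h2' := h3.symm.trans (h2.trans h4)
  show Algebra.TensorProduct.lift (p₁ I) (cj (k := k) I) _ _ = _
  refine h2'.trans ?_
  generalize CoalgebraStruct.comul (R := k) a = t
  induction t using TensorProduct.induction_on with
  | zero => simp
  | add x y hx hy => simp only [map_add, hx, hy]
  | tmul x y => simp [p₁, p₂]

end

section Main
variable {k A : Type u} [CommRing k] [CommRing A] [HopfAlgebra k A]
  (I : Ideal A) [I.IsHopfIdeal k] (hI : SGA3.IsNormalHopfIdeal k A I)
  {V : Type v} [AddCommGroup V] [Module k V] [HopfRep.Comod k A V]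

local notation "ρ" => HopfRep.Comod.coact (k := k) (A := A) (V := V)

theorem lTensor_rTensor_comm (t : V ⊗[k] A) :
    (Ideal.Quotient.mkₐ k I).toLinearMap.lTensor (V ⊗[k] A) ((ρ).rTensor A t) = (ρ).rTensor (A ⧸ I) ((Ideal.Quotient.mkₐ k I).toLinearMap.lTensor V t) := by
  induction t using TensorProduct.induction_on with
  | zero => simp
  | add x y hx hy => simp only [map_add, hx, hy]
  | tmul w x => simp

theorem Thbar_assoc_tmul_one (t : V ⊗[k] A) :
    (Thbar I hI).toLinearMap.lTensor V (TensorProduct.assoc k V A (A ⧸ I) (t ⊗ₜ[k] (1 : A ⧸ I))) =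
      TensorProduct.assoc k V A (A ⧸ I) (t ⊗ₜ[k] (1 : A ⧸ I)) := by
  induction t using TensorProduct.induction_on with
  | zero => simp
  | add x y hx hy => simp only [TensorProduct.add_tmul, map_add, hx, hy]
  | tmul w x =>
    simp only [TensorProduct.assoc_tmul, LinearMap.lTensor_tmul, AlgHom.toLinearMap_apply,
      Thbar_tmul_one]

include hI in
/-- the key identity: `Σ v₀ ⊗ v₂ ⊗ π v₁ = Σ v₀ ⊗ v₁ ⊗ 1` for `v` fixed by `N`. -/
theorem key (v : V) (hv : (Ideal.Quotient.mkₐ k I).toLinearMap.lTensor V (ρ v) = v ⊗ₜ[k] (1 : A ⧸ I)) :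
    (TensorProduct.comm k (A ⧸ I) A).toLinearMap.lTensor V
      (((Ideal.Quotient.mkₐ k I).toLinearMap.rTensor A).lTensor V ((CoalgebraStruct.comul (R := k) (A := A)).lTensor V (ρ v))) =
    TensorProduct.assoc k V A (A ⧸ I) ((ρ v) ⊗ₜ[k] (1 : A ⧸ I)) := by
  have h1 : ∀ t : V ⊗[k] A, (TensorProduct.comm k (A ⧸ I) A).toLinearMap.lTensor V
      (((Ideal.Quotient.mkₐ k I).toLinearMap.rTensor A).lTensor V
        ((CoalgebraStruct.comul (R := k) (A := A)).lTensor V t)) =
      (Th (k := k) I).toLinearMap.lTensor V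
        ((CoalgebraStruct.comul (R := k) (A := A)).lTensor V t) := by
    intro t
    induction t using TensorProduct.induction_on with
    | zero => simp
    | add x y hx hy => simp only [map_add, hx, hy]
    | tmul w a =>
      simp only [LinearMap.lTensor_tmul, AlgHom.toLinearMap_apply, Th_comul, LinearEquiv.coe_coe]
  rw [h1]
  have hco := LinearMap.congr_fun (HopfRep.Comod.coassoc (k := k) (A := A) (V := V)) v
  simp only [LinearMap.comp_apply, LinearEquiv.coe_coe] at hco
  rw [← hco]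
  -- Th = Thbar ∘ (id ⊗ π)
  have h2 : ∀ Y : (V ⊗[k] A) ⊗[k] A,
      (Th (k := k) I).toLinearMap.lTensor V (TensorProduct.assoc k V A A Y) =
      (Thbar I hI).toLinearMap.lTensor V
        (TensorProduct.assoc k V A (A ⧸ I) ((Ideal.Quotient.mkₐ k I).toLinearMap.lTensor (V ⊗[k] A) Y)) := by
    intro Y
    induction Y using TensorProduct.induction_on with
    | zero => simp
    | add x y hx hy => simp only [map_add, hx, hy]
    | tmul t y =>
      induction t using TensorProduct.induction_on with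
      | zero => simp
      | add x z hx hz => simp only [TensorProduct.add_tmul, map_add, hx, hz]
      | tmul w x =>
        simp only [TensorProduct.assoc_tmul, LinearMap.lTensor_tmul, AlgHom.toLinearMap_apply,
          Th_eq I hI]
  rw [h2, lTensor_rTensor_comm, hv, LinearMap.rTensor_tmul, Thbar_assoc_tmul_one]

include hI in
/-- helper41's S7968 over a ring: fixed points of a normal Hopf ideal form a subcomodule, when `A`
is flat. -/
theorem main [Module.Flat k A] (W : Submodule k V)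
    (hW : ∀ v : V, v ∈ W ↔
      LinearMap.lTensor V (Ideal.Quotient.mkₐ k I).toLinearMap (ρ v) = v ⊗ₜ[k] (1 : A ⧸ I)) :
    HopfRep.IsSubcomod (k := k) (A := A) W := by
  intro v hv
  have hv' := (hW v).mp hv
  let T : V →ₗ[k] V ⊗[k] (A ⧸ I) :=
    (Ideal.Quotient.mkₐ k I).toLinearMap.lTensor V ∘ₗ ρ - (TensorProduct.mk k V (A ⧸ I)).flip 1
  have hker : W = LinearMap.ker T := by
    ext w
    rw [hW, LinearMap.mem_ker]
    simp [T, sub_eq_zero]
  have hex : Function.Exact W.subtype T := by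
    rw [hker]
    exact LinearMap.exact_subtype_ker_map T
  have hex' : Function.Exact (W.subtype.rTensor A) (T.rTensor A) :=
    Module.Flat.rTensor_exact A hex
  refine (hex' (ρ v)).mp ?_
  let Φ : (V ⊗[k] (A ⧸ I)) ⊗[k] A ≃ₗ[k] V ⊗[k] (A ⊗[k] (A ⧸ I)) :=
    (TensorProduct.assoc k V (A ⧸ I) A) ≪≫ₗ (LinearEquiv.lTensor V (TensorProduct.comm k (A ⧸ I) A))
  apply Φ.injective
  rw [map_zero]
  have hΦ1 : ∀ Y : (V ⊗[k] A) ⊗[k] A,
      Φ (((Ideal.Quotient.mkₐ k I).toLinearMap.lTensor V).rTensor A Y) =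
      (TensorProduct.comm k (A ⧸ I) A).toLinearMap.lTensor V
        (((Ideal.Quotient.mkₐ k I).toLinearMap.rTensor A).lTensor V (TensorProduct.assoc k V A A Y)) := by
    intro Y
    induction Y using TensorProduct.induction_on with
    | zero => simp
    | add x y hx hy => simp only [map_add, hx, hy]
    | tmul t y =>
      induction t using TensorProduct.induction_on with
      | zero => simp
      | add x z hx hz => simp only [TensorProduct.add_tmul, map_add, hx, hz]
      | tmul w x => simp [Φ]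
  have hΦ2 : ∀ t : V ⊗[k] A, Φ (((TensorProduct.mk k V (A ⧸ I)).flip 1).rTensor A t) =
      TensorProduct.assoc k V A (A ⧸ I) (t ⊗ₜ[k] (1 : A ⧸ I)) := by
    intro t
    induction t using TensorProduct.induction_on with
    | zero => simp
    | add x z hx hz => simp only [TensorProduct.add_tmul, map_add, hx, hz]
    | tmul w x => simp [Φ]
  have hco := LinearMap.congr_fun (HopfRep.Comod.coassoc (k := k) (A := A) (V := V)) v
  simp only [LinearMap.comp_apply, LinearEquiv.coe_coe] at hco
  have e1 : T.rTensor A (ρ v) =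
      ((Ideal.Quotient.mkₐ k I).toLinearMap.lTensor V).rTensor A ((ρ).rTensor A (ρ v)) -
        ((TensorProduct.mk k V (A ⧸ I)).flip 1).rTensor A (ρ v) := by
    simp only [T, LinearMap.rTensor_sub, LinearMap.sub_apply, LinearMap.rTensor_comp,
      LinearMap.comp_apply]
  rw [e1, map_sub, hΦ1, hΦ2, hco, key I hI v hv', sub_self]

end Main

end Groth.Agent.Lib.HopfQuot55.Nrm
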