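import Mathlib
import Groth.Agent.Lib.HopfQuot55g

/-!
# Invariants of a normal Hopf ideal form a Hopf subalgebra, over a ring, II (helper55)

`isHopfSubalgebra_coinv`: `A` a commutative Hopf algebra flat over `R`, `I` a normal Hopf ideal such
that `coinv I` and `A ⧸ coinv I` are flat `R`-modules; then `coinv I` is a Hopf subalgebra.
-/

set_option autoImplicit false
universe u
open scoped TensorProduct
open WithConv

namespace Groth.Agent.Lib.HopfQuot55

section Inter

variable {k : Type u} [CommRing k] {V : Type u} [AddCommGroup V] [Module k V]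

/-- `(W ⊗ V) ∩ (V ⊗ W) = W ⊗ W` for a submodule `W` with `V`, `W`, `V ⧸ W` flat. -/
theorem mem_range_map_of_mem_rTensor_of_mem_lTensor (W : Submodule k V)
    [Module.Flat k V] [Module.Flat k W] [Module.Flat k (V ⧸ W)] (t : V ⊗[k] V)
    (h1 : t ∈ LinearMap.range (W.subtype.rTensor V))
    (h2 : t ∈ LinearMap.range (W.subtype.lTensor V)) :
    t ∈ LinearMap.range (TensorProduct.map W.subtype W.subtype) := by
  obtain ⟨s, rfl⟩ := h1
  have hex : Function.Exact W.subtype W.mkQ := LinearMap.exact_subtype_mkQ W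
  have hexV : Function.Exact (W.subtype.lTensor V) (W.mkQ.lTensor V) :=
    Module.Flat.lTensor_exact V hex
  have hexW : Function.Exact (W.subtype.lTensor W) (W.mkQ.lTensor W) :=
    Module.Flat.lTensor_exact W hex
  have h3 : W.mkQ.lTensor V (W.subtype.rTensor V s) = 0 := (hexV _).2 h2
  have h4 : W.subtype.rTensor (V ⧸ W) (W.mkQ.lTensor W s) = 0 := by
    rw [← h3]
    simp only [← LinearMap.comp_apply]
    congr 1
    ext a b
    simp
  have hinj : Function.Injective (W.subtype.rTensor (V ⧸ W)) :=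
    Module.Flat.rTensor_preserves_injective_linearMap W.subtype W.injective_subtype
  have h5 : W.mkQ.lTensor W s = 0 := hinj (by rw [h4, map_zero])
  obtain ⟨s', rfl⟩ := (hexW s).1 h5
  refine ⟨s', ?_⟩
  simp only [← LinearMap.comp_apply]
  congr 1
  ext a b
  simp

end Inter

section B

variable {k A : Type u} [CommRing k] [CommRing A] [HopfAlgebra k A] (I : Ideal A)
  [I.IsHopfIdeal k]

local notation "Δ" => CoalgebraStruct.comul (R := k) (A := A)
local notation "π" => AlgHom.toLinearMap (Ideal.Quotient.mkₐ k I)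

theorem rho_apply' (x : A) : rho (R := k) I x = (π).lTensor A (Δ x) := by
  rw [rho_apply]
  generalize Δ x = t
  induction t using TensorProduct.induction_on with
  | zero => simp
  | add x y hx hy => simp only [map_add, hx, hy]
  | tmul x y => simp

theorem mem_coinv_iff' (x : A) :
    x ∈ coinv (R := k) I ↔ (π).lTensor A (Δ x) = x ⊗ₜ[k] (1 : A ⧸ I) := by
  rw [← rho_apply']
  exact Iff.rfl

/-- the defect map `x ↦ Σ x₁ ⊗ π x₂ - x ⊗ 1`, whose kernel is `coinv I` -/
noncomputable def dfc : A →ₗ[k] A ⊗[k] (A ⧸ I) :=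
  (rho (R := k) I).toLinearMap - (incl (R := k) I).toLinearMap

theorem dfc_apply (x : A) : dfc (k := k) I x = rho (R := k) I x - x ⊗ₜ[k] (1 : A ⧸ I) := rfl

theorem mem_coinv_iff_dfc (x : A) : x ∈ coinv (R := k) I ↔ dfc (k := k) I x = 0 := by
  rw [dfc_apply, sub_eq_zero]
  exact Iff.rfl

theorem exact_coinv_dfc :
    Function.Exact (Subalgebra.toSubmodule (coinv (R := k) I)).subtype (dfc (k := k) I) := by
  intro x
  rw [← mem_coinv_iff_dfc]
  constructor
  · intro hx
    exact ⟨⟨x, hx⟩, rfl⟩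
  · rintro ⟨y, rfl⟩
    exact y.2

theorem lTensor_rho_comul (x : A) :
    (rho (R := k) I).toLinearMap.lTensor A (Δ x) =
      TensorProduct.assoc k A A (A ⧸ I) ((Δ).rTensor (A ⧸ I) (rho (R := k) I x)) := by
  have h1 : (rho (R := k) I).toLinearMap = LinearMap.lTensor A π ∘ₗ Δ := by
    ext y
    exact rho_apply' I y
  rw [h1, LinearMap.lTensor_comp, LinearMap.comp_apply, ← Coalgebra.coassoc_apply, rho_apply']
  generalize Δ x = t
  induction t using TensorProduct.induction_on with
  | zero => simp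
  | add x y hx hy => simp only [map_add, hx, hy]
  | tmul a b =>
    simp only [LinearMap.rTensor_tmul, LinearMap.lTensor_tmul]
    generalize Δ a = s
    induction s using TensorProduct.induction_on with
    | zero => simp
    | add x y hx hy => simp only [map_add, TensorProduct.add_tmul, hx, hy]
    | tmul c d => simp

theorem comul_mem_lTensor [Module.Flat k A] (x : A) (hx : x ∈ coinv (R := k) I) :
    Δ x ∈ LinearMap.range ((Subalgebra.toSubmodule (coinv (R := k) I)).subtype.lTensor A) := by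
  have hex := Module.Flat.lTensor_exact A (exact_coinv_dfc (k := k) I)
  refine (hex _).1 ?_
  have hx' : rho (R := k) I x = x ⊗ₜ[k] (1 : A ⧸ I) := hx
  have h2 : (dfc (k := k) I).lTensor A (Δ x) =
      (rho (R := k) I).toLinearMap.lTensor A (Δ x) -
        (incl (R := k) I).toLinearMap.lTensor A (Δ x) := by
    rw [dfc, LinearMap.lTensor_sub, LinearMap.sub_apply]
  rw [h2, lTensor_rho_comul, hx', LinearMap.rTensor_tmul, sub_eq_zero]
  generalize Δ x = t
  induction t using TensorProduct.induction_on with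
  | zero => simp
  | add x y hx hy => simp only [map_add, TensorProduct.add_tmul, hx, hy]
  | tmul a b => simp [incl]

variable (hI : SGA3.IsNormalHopfIdeal k A I)

include hI in
theorem comul_mem_rTensor [Module.Flat k A] (x : A) (hx : x ∈ coinv (R := k) I) :
    Δ x ∈ LinearMap.range ((Subalgebra.toSubmodule (coinv (R := k) I)).subtype.rTensor A) := by
  have h := Nrm.main (V := A) I hI (Subalgebra.toSubmodule (coinv (R := k) I))
    (fun v => mem_coinv_iff' I v)
  exact h x hx

theorem rho_eq_conv :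
    rho (R := k) I = (toConv (Nrm.p₁ (k := k) I) * toConv (Nrm.p₂ I)).ofConv := by
  ext x
  rw [AlgHom.convMul_apply]
  show Algebra.TensorProduct.map (AlgHom.id k A) (Ideal.Quotient.mkₐ k I) (Δ x) = _
  generalize Δ x = t
  induction t using TensorProduct.induction_on with
  | zero => simp
  | add x y hx hy => simp only [map_add, hx, hy]
  | tmul a b => simp [Nrm.p₁, Nrm.p₂]

/-- a point killing `I` acts trivially on coinvariants from the right -/
theorem conv_apply_of_mem_coinv {T : Type u} [CommRing T] [Algebra k T] (g m : A →ₐ[k] T)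
    (hm : ∀ a ∈ I, m a = 0) (x : A) (hx : x ∈ coinv (R := k) I) :
    (toConv g * toConv m) x = g x := by
  rw [AlgHom.convMul_apply]
  simp only [ofConv_toConv]
  let mb : A ⧸ I →ₐ[k] T := Ideal.Quotient.liftₐ I m hm
  have h1 : ∀ t : A ⊗[k] A, Algebra.TensorProduct.lift g m (fun _ _ => Commute.all _ _) t =
      Algebra.TensorProduct.lift g mb (fun _ _ => Commute.all _ _)
        ((Ideal.Quotient.mkₐ k I).toLinearMap.lTensor A t) := by
    intro t
    induction t using TensorProduct.induction_on with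
    | zero => simp
    | add x y hx hy => simp only [map_add, hx, hy]
    | tmul a b => simp [mb]
  rw [h1, (mem_coinv_iff' I x).1 hx]
  simp

theorem inv_apply {T : Type u} [CommRing T] [Bialgebra k T] (g : WithConv (A →ₐ[k] T)) (x : A) :
    g⁻¹ x = g (HopfAlgebraStruct.antipode k x) := rfl

theorem p₂_inv_apply_of_mem (a : A) (ha : a ∈ I) : (toConv (Nrm.p₂ (k := k) I))⁻¹ a = 0 := by
  rw [inv_apply]
  show (1 : A) ⊗ₜ[k] (Ideal.Quotient.mk I (HopfAlgebraStruct.antipode k a)) = 0
  rw [Ideal.Quotient.eq_zero_iff_mem.mpr (Ideal.IsHopfIdeal.antipode_mem (R := k) ha),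
    TensorProduct.tmul_zero]

include hI in
theorem antipode_mem_coinv (x : A) (hx : x ∈ coinv (R := k) I) :
    HopfAlgebraStruct.antipode k x ∈ coinv (R := k) I := by
  show rho (R := k) I _ = _
  rw [rho_eq_conv]
  let P₁ : WithConv (A →ₐ[k] A ⊗[k] (A ⧸ I)) := toConv (Nrm.p₁ (k := k) I)
  let P₂ : WithConv (A →ₐ[k] A ⊗[k] (A ⧸ I)) := toConv (Nrm.p₂ (k := k) I)
  -- m = p₁ p₂⁻¹ p₁⁻¹ kills I
  have hm : ∀ a ∈ I, (P₁ * P₂⁻¹ * P₁⁻¹) a = 0 := by
    intro a ha
    have h := hI (A ⊗[k] (A ⧸ I)) (Nrm.p₁ I) (P₂⁻¹).ofConv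
      (p₂_inv_apply_of_mem I) a ha
    rw [Groth.Agent.S15063.conv3_eq] at h
    exact h
  have e : P₁ * P₂ = (P₁⁻¹ * (P₁ * P₂⁻¹ * P₁⁻¹))⁻¹ := by
    have hg : ∀ {G : Type u} [Group G] (x y : G), x * y = (x⁻¹ * (x * y⁻¹ * x⁻¹))⁻¹ := by
      intros; group
    exact hg (G := WithConv (A →ₐ[k] A ⊗[k] (A ⧸ I))) _ _
  show (P₁ * P₂) (HopfAlgebraStruct.antipode k x) = _
  rw [← inv_apply, e, inv_inv]
  have h2 := conv_apply_of_mem_coinv I (P₁⁻¹).ofConv (P₁ * P₂⁻¹ * P₁⁻¹).ofConv hm x hx
  simp only [toConv_ofConv] at h2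
  rw [h2]
  rfl

include hI in
/-- The invariants of a normal Hopf ideal form a Hopf subalgebra (flatness hypotheses). -/
theorem isHopfSubalgebra_coinv [Module.Flat k A]
    [Module.Flat k (Subalgebra.toSubmodule (coinv (R := k) I))]
    [Module.Flat k (A ⧸ Subalgebra.toSubmodule (coinv (R := k) I))] :
    SGA3.IsHopfSubalgebra k A (coinv (R := k) I) :=
  ⟨fun b hb => mem_range_map_of_mem_rTensor_of_mem_lTensor
      (Subalgebra.toSubmodule (coinv (R := k) I)) _
      (comul_mem_rTensor I hI b hb) (comul_mem_lTensor I b hb),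
    fun b hb => antipode_mem_coinv I hI b hb⟩

end B

end Groth.Agent.Lib.HopfQuot55
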