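import Mathlib
import Groth.Agent.Lib.HenselIntegralLocal
import Groth.Agent.Lib.HenselTransfer22
import Groth.Agent.Lib.HenselIdem
import Groth.Agent.Lib.HenselRadical

/-!
# Unit components of finite Hopf algebras over local rings (helper61)

Elementary tools:
* `eq_one_of_isIdempotentElem_of_map_eq_one`: an idempotent of a local ring mapping to `1` in a
  nontrivial ring is `1`.
* `henselianLocalRing_of_isIntegral'`: universe-polymorphic version of "a local ring integral over a
  henselian local ring is henselian".
* `tensor_idempotent_eq_one`: for local rings `B`, `C` finite over a local ring `R` with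
  `R`-points `β`, `γ`, an idempotent of `B ⊗[R] C` on which `β ⊗ γ` takes the value `1` is `1`.
* `isHopfIdeal_span_one_sub`: for a commutative Hopf algebra `A` finite over a local ring `R` and an
  idempotent `e` with `ε(e) = 1` and `A/(1-e)` local, `(1 - e)` is a Hopf ideal.
-/

set_option autoImplicit false
universe u v w

namespace Groth.Agent.Lib.HopfUnitComp61

open IsLocalRing TensorProduct

/-- An idempotent of a local ring is `0` or `1`. -/
theorem eq_zero_or_eq_one_of_isIdempotentElem {L : Type*} [CommRing L] [IsLocalRing L] {f : L}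
    (hf : IsIdempotentElem f) : f = 0 ∨ f = 1 := by
  have h : f * (1 - f) = 0 := by rw [mul_sub, mul_one, hf.eq, sub_self]
  rcases IsLocalRing.isUnit_or_isUnit_one_sub_self f with hu | hu
  · right
    have := hu.mul_right_eq_zero.1 h
    exact (sub_eq_zero.1 this).symm
  · left
    exact hu.mul_left_eq_zero.1 h

/-- An idempotent of a local ring which maps to `1` in a nontrivial ring is `1`. -/
theorem eq_one_of_isIdempotentElem_of_map_eq_one {L S : Type*} [CommRing L] [IsLocalRing L]
    [Semiring S] [Nontrivial S] (φ : L →+* S) {f : L} (hf : IsIdempotentElem f) (h1 : φ f = 1) :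
    f = 1 := by
  rcases eq_zero_or_eq_one_of_isIdempotentElem hf with h | h
  · rw [h, map_zero] at h1
    exact absurd h1 zero_ne_one
  · exact h

/-- Universe-polymorphic: a local ring integral over a henselian local ring is henselian. -/
theorem henselianLocalRing_of_isIntegral' (R : Type u) [CommRing R] [HenselianLocalRing R]
    (B : Type v) [CommRing B] [IsLocalRing B] [Algebra R B] [Algebra.IsIntegral R B] :
    HenselianLocalRing B := by
  let eR : ULift.{v} R ≃+* R := ULift.ringEquiv
  let eB : ULift.{u} B ≃+* B := ULift.ringEquiv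
  have hR' : HenselianLocalRing (ULift.{v} R) :=
    Groth.Agent.Lib.HenselTransfer22.henselianLocalRing_of_ringEquiv eR
  have hB'loc : IsLocalRing (ULift.{u} B) := eB.symm.isLocalRing
  let φ : ULift.{v} R →+* ULift.{u} B :=
    (eB.symm : B →+* ULift.{u} B).comp ((algebraMap R B).comp (eR : ULift.{v} R →+* R))
  let _ : Algebra (ULift.{v} R) (ULift.{u} B) := φ.toAlgebra
  have hφ : φ.IsIntegral := by
    refine RingHom.IsIntegral.trans _ _ ?_ ?_
    · refine RingHom.IsIntegral.trans _ _ ?_ ?_
      · exact RingHom.isIntegral_of_surjective _ eR.surjective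
      · exact algebraMap_isIntegral_iff.2 inferInstance
    · exact RingHom.isIntegral_of_surjective _ eB.symm.surjective
  have hint : Algebra.IsIntegral (ULift.{v} R) (ULift.{u} B) := ⟨hφ⟩
  have hB' : HenselianLocalRing (ULift.{u} B) :=
    Groth.Agent.Lib.HenselIntegralLocal.henselianLocalRing_of_isIntegral (ULift.{v} R) (ULift.{u} B)
  exact Groth.Agent.Lib.HenselTransfer22.henselianLocalRing_of_ringEquiv eB.symm

section tensor

variable {R : Type u} [CommRing R] [IsLocalRing R]
  {B : Type v} [CommRing B] [IsLocalRing B] [Algebra R B] [Module.Finite R B]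
  {C : Type w} [CommRing C] [IsLocalRing C] [Algebra R C] [Module.Finite R C]

/-- For an `R`-point `β` of a local ring `B` finite over the local ring `R`, `b - β(b)` lies in
`rad(m_R B)`. -/
theorem sub_algebraMap_mem_radical (β : B →ₐ[R] R) (b : B) :
    b - algebraMap R B (β b) ∈ ((maximalIdeal R).map (algebraMap R B)).radical := by
  rw [Groth.Agent.Lib.HenselIntegralLocal.radical_map_maximalIdeal]
  have hker : b - algebraMap R B (β b) ∈ RingHom.ker (β : B →+* R) := by
    rw [RingHom.mem_ker, map_sub]
    change β b - β (algebraMap R B (β b)) = 0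
    rw [β.commutes]
    simp
  exact IsLocalRing.le_maximalIdeal (RingHom.ker_ne_top _) hker

omit [IsLocalRing B] [Module.Finite R B] [IsLocalRing C] [Module.Finite R C] in
theorem includeLeft_mem_radical {x : B}
    (hx : x ∈ ((maximalIdeal R).map (algebraMap R B)).radical) (c : C) :
    x ⊗ₜ[R] c ∈ ((maximalIdeal R).map (algebraMap R (B ⊗[R] C))).radical := by
  have h0 : x ⊗ₜ[R] c = (Algebra.TensorProduct.includeLeft : B →ₐ[R] B ⊗[R] C) x * (1 ⊗ₜ[R] c) := by
    simp
  rw [h0]
  apply Ideal.mul_mem_right
  obtain ⟨k, hk⟩ := hx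
  refine ⟨k, ?_⟩
  rw [← map_pow]
  have hmap : Ideal.map ((Algebra.TensorProduct.includeLeft : B →ₐ[R] B ⊗[R] C) : B →+* B ⊗[R] C)
      ((maximalIdeal R).map (algebraMap R B)) = (maximalIdeal R).map (algebraMap R (B ⊗[R] C)) := by
    rw [Ideal.map_map]
    congr 1
  rw [← hmap]
  exact Ideal.mem_map_of_mem _ hk

omit [IsLocalRing B] [Module.Finite R B] [IsLocalRing C] [Module.Finite R C] in
theorem includeRight_mem_radical {x : C}
    (hx : x ∈ ((maximalIdeal R).map (algebraMap R C)).radical) (b : B) :
    b ⊗ₜ[R] x ∈ ((maximalIdeal R).map (algebraMap R (B ⊗[R] C))).radical := by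
  have h0 : b ⊗ₜ[R] x = (Algebra.TensorProduct.includeRight : C →ₐ[R] B ⊗[R] C) x * (b ⊗ₜ[R] 1) := by
    simp
  rw [h0]
  apply Ideal.mul_mem_right
  obtain ⟨k, hk⟩ := hx
  refine ⟨k, ?_⟩
  rw [← map_pow]
  have hmap : Ideal.map ((Algebra.TensorProduct.includeRight : C →ₐ[R] B ⊗[R] C) : C →+* B ⊗[R] C)
      ((maximalIdeal R).map (algebraMap R C)) = (maximalIdeal R).map (algebraMap R (B ⊗[R] C)) := by
    rw [Ideal.map_map]
    congr 1
    exact (Algebra.TensorProduct.includeRight : C →ₐ[R] B ⊗[R] C).comp_algebraMap
  rw [← hmap]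
  exact Ideal.mem_map_of_mem _ hk

/-- For local rings `B`, `C` finite over a local ring `R` with `R`-points `β`, `γ`, an idempotent of
`B ⊗[R] C` on which `β ⊗ γ` takes the value `1` is `1` (so `B ⊗[R] C` is local). -/
theorem tensor_idempotent_eq_one (β : B →ₐ[R] R) (γ : C →ₐ[R] R) {f : B ⊗[R] C}
    (hf : IsIdempotentElem f)
    (h1 : Algebra.TensorProduct.lift β γ (fun _ _ => Commute.all _ _) f = 1) : f = 1 := by
  have hKjac : ((maximalIdeal R).map (algebraMap R (B ⊗[R] C))).radical ≤ Ideal.jacobson ⊥ := by
    apply Groth.Agent.Lib.HenselRadical.radical_le_jacobson_bot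
    apply Groth.Agent.Lib.HenselIdem.map_le_jacobson_of_isIntegral
    rw [IsLocalRing.jacobson_eq_maximalIdeal ⊥ bot_ne_top]
  have key : ∀ t : B ⊗[R] C, t - algebraMap R (B ⊗[R] C)
      (Algebra.TensorProduct.lift β γ (fun _ _ => Commute.all _ _) t) ∈
        ((maximalIdeal R).map (algebraMap R (B ⊗[R] C))).radical := by
    intro t
    induction t using TensorProduct.induction_on with
    | zero => simp
    | tmul b c =>
      have h2 : b ⊗ₜ[R] c - algebraMap R (B ⊗[R] C)
          (Algebra.TensorProduct.lift β γ (fun _ _ => Commute.all _ _) (b ⊗ₜ[R] c)) =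
          (b - algebraMap R B (β b)) ⊗ₜ[R] c +
            (algebraMap R B (β b)) ⊗ₜ[R] (c - algebraMap R C (γ c)) := by
        rw [Algebra.TensorProduct.lift_tmul, TensorProduct.sub_tmul, TensorProduct.tmul_sub,
          Algebra.TensorProduct.algebraMap_apply, map_mul]
        have h3 : (algebraMap R B (β b)) ⊗ₜ[R] (algebraMap R C (γ c)) =
            (algebraMap R B (β b) * algebraMap R B (γ c)) ⊗ₜ[R] (1 : C) := by
          rw [Algebra.algebraMap_eq_smul_one (A := C) (γ c), TensorProduct.tmul_smul,
            Algebra.algebraMap_eq_smul_one (A := B) (γ c), mul_smul_comm, mul_one,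
            TensorProduct.smul_tmul']
        rw [h3]
        abel
      rw [h2]
      exact Ideal.add_mem _ (includeLeft_mem_radical (sub_algebraMap_mem_radical β b) c)
        (includeRight_mem_radical (sub_algebraMap_mem_radical γ c) _)
    | add x y hx hy =>
      have h2 : x + y - algebraMap R (B ⊗[R] C)
          (Algebra.TensorProduct.lift β γ (fun _ _ => Commute.all _ _) (x + y)) =
          (x - algebraMap R (B ⊗[R] C) (Algebra.TensorProduct.lift β γ (fun _ _ => Commute.all _ _) x))
          + (y - algebraMap R (B ⊗[R] C)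
            (Algebra.TensorProduct.lift β γ (fun _ _ => Commute.all _ _) y)) := by
        rw [map_add, map_add]; abel
      rw [h2]
      exact Ideal.add_mem _ hx hy
  have h2 := key f
  rw [h1, map_one] at h2
  exact Groth.Agent.Lib.HenselIdem.idempotent_eq_of_sub_mem hKjac hf IsIdempotentElem.one h2

end tensor

section hopf

variable {R : Type u} [CommRing R] {A : Type v} [CommRing A] [Bialgebra R A]

/-- The counit vanishes on `(1 - e)` when `ε(e) = 1`. -/
theorem counit_eq_zero_of_mem {e : A} (hε : Bialgebra.counitAlgHom R A e = 1) {x : A}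
    (hx : x ∈ Ideal.span ({1 - e} : Set A)) : Bialgebra.counitAlgHom R A x = 0 := by
  obtain ⟨a, rfl⟩ := Ideal.mem_span_singleton'.mp hx
  rw [map_mul, map_sub, map_one, hε, sub_self, mul_zero]

/-- The counit of `A/(1 - e)`. -/
noncomputable def counitQuot {e : A} (hε : Bialgebra.counitAlgHom R A e = 1) :
    (A ⧸ Ideal.span ({1 - e} : Set A)) →ₐ[R] R :=
  Ideal.Quotient.liftₐ _ (Bialgebra.counitAlgHom R A) (fun _ hx => counit_eq_zero_of_mem hε hx)

@[simp]
theorem counitQuot_mk {e : A} (hε : Bialgebra.counitAlgHom R A e = 1) (a : A) :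
    counitQuot hε (Ideal.Quotient.mk _ a) = Bialgebra.counitAlgHom R A a := rfl

/-- `(ε ⊗ ε) ∘ Δ = ε`. -/
theorem mul_counit_counit_comul (a : A) :
    LinearMap.mul' R R (TensorProduct.map (Coalgebra.counit (R := R) (A := A))
      (Coalgebra.counit (R := R) (A := A)) (Coalgebra.comul (R := R) a)) = Coalgebra.counit a := by
  have h1 : TensorProduct.map (Coalgebra.counit (R := R) (A := A))
      (Coalgebra.counit (R := R) (A := A)) =
      (LinearMap.lTensor R (Coalgebra.counit (R := R) (A := A))) ∘ₗ
        (LinearMap.rTensor A (Coalgebra.counit (R := R) (A := A))) := by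
    rw [LinearMap.lTensor_comp_rTensor]
  rw [h1, LinearMap.comp_apply, Coalgebra.rTensor_counit_comul]
  simp

end hopf

section hopfIdeal

variable {R : Type u} [CommRing R] [IsLocalRing R] {A : Type v} [CommRing A] [HopfAlgebra R A]
  [Module.Finite R A]

/-- For a commutative Hopf algebra `A` finite over a local ring `R` and an idempotent `e` with
`ε(e) = 1` and `A/(1 - e)` local, the comultiplication sends `e` to `1` in
`A/(1-e) ⊗ A/(1-e)`. -/
theorem map_comul_idem_eq_one {e : A} (he : IsIdempotentElem e)
    (hε : Bialgebra.counitAlgHom R A e = 1) [IsLocalRing (A ⧸ Ideal.span ({1 - e} : Set A))] :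
    Algebra.TensorProduct.map (Ideal.Quotient.mkₐ R (Ideal.span ({1 - e} : Set A)))
      (Ideal.Quotient.mkₐ R (Ideal.span ({1 - e} : Set A))) (Bialgebra.comulAlgHom R A e) = 1 := by
  have hfin : Module.Finite R (A ⧸ Ideal.span ({1 - e} : Set A)) :=
    Module.Finite.of_surjective (Ideal.Quotient.mkₐ R (Ideal.span ({1 - e} : Set A))).toLinearMap
      Ideal.Quotient.mk_surjective
  apply tensor_idempotent_eq_one (counitQuot hε) (counitQuot hε)
  · exact (he.map (Bialgebra.comulAlgHom R A)).map _
  · have key : ∀ z : A ⊗[R] A,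
        Algebra.TensorProduct.lift (counitQuot hε) (counitQuot hε) (fun _ _ => Commute.all _ _)
          (Algebra.TensorProduct.map (Ideal.Quotient.mkₐ R (Ideal.span ({1 - e} : Set A)))
            (Ideal.Quotient.mkₐ R (Ideal.span ({1 - e} : Set A))) z) =
        LinearMap.mul' R R (TensorProduct.map (Coalgebra.counit (R := R) (A := A))
          (Coalgebra.counit (R := R) (A := A)) z) := by
      intro z
      induction z using TensorProduct.induction_on with
      | zero => simp
      | tmul a b =>
        rw [Algebra.TensorProduct.map_tmul, Algebra.TensorProduct.lift_tmul, TensorProduct.map_tmul,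
          LinearMap.mul'_apply]
        rfl
      | add x y hx hy => rw [map_add, map_add, hx, hy, map_add, map_add]
    rw [key]
    change LinearMap.mul' R R (TensorProduct.map (Coalgebra.counit (R := R) (A := A))
      (Coalgebra.counit (R := R) (A := A)) (Coalgebra.comul (R := R) e)) = 1
    rw [mul_counit_counit_comul]
    exact hε

/-- For a commutative Hopf algebra `A` finite over a local ring `R` and an idempotent `e` with
`ε(e) = 1` and `A/(1 - e)` local, `(1 - e)` is a Hopf ideal. -/
theorem isHopfIdeal_span_one_sub {e : A} (he : IsIdempotentElem e)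
    (hε : Bialgebra.counitAlgHom R A e = 1) [IsLocalRing (A ⧸ Ideal.span ({1 - e} : Set A))] :
    (Ideal.span ({1 - e} : Set A)).IsHopfIdeal R := by
  have : ((Ideal.span ({1 - e} : Set A)).restrictScalars R).IsCoideal := by
    refine Submodule.IsCoideal.mk ?_ ?_
    · intro x hx
      exact counit_eq_zero_of_mem hε hx
    · intro x hx
      obtain ⟨a, rfl⟩ := Ideal.mem_span_singleton'.mp hx
      have hmk : (Submodule.restrictScalars R (Ideal.span ({1 - e} : Set A))).mkQ =
          (Ideal.Quotient.mkₐ R (Ideal.span ({1 - e} : Set A))).toLinearMap := rfl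
      rw [hmk]
      change Algebra.TensorProduct.map (Ideal.Quotient.mkₐ R (Ideal.span ({1 - e} : Set A)))
        (Ideal.Quotient.mkₐ R (Ideal.span ({1 - e} : Set A)))
          (Bialgebra.comulAlgHom R A (a * (1 - e))) = 0
      rw [map_mul, map_mul, map_sub, map_sub, map_one, map_one, map_comul_idem_eq_one he hε,
        sub_self, mul_zero]
  refine Ideal.IsHopfIdeal.mk ?_
  intro x hx
  obtain ⟨a, rfl⟩ := Ideal.mem_span_singleton'.mp hx
  change HopfAlgebra.antipodeAlgHom R A (a * (1 - e)) ∈ Ideal.span ({1 - e} : Set A)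
  rw [map_mul]
  apply Ideal.mul_mem_left
  rw [← Ideal.Quotient.eq_zero_iff_mem, map_sub, map_sub, map_one, map_one]
  have h1 : Ideal.Quotient.mk (Ideal.span ({1 - e} : Set A)) (HopfAlgebra.antipodeAlgHom R A e) = 1 := by
    apply eq_one_of_isIdempotentElem_of_map_eq_one
      ((counitQuot hε : (A ⧸ Ideal.span ({1 - e} : Set A)) →ₐ[R] R) :
        (A ⧸ Ideal.span ({1 - e} : Set A)) →+* R)
    · exact (he.map (HopfAlgebra.antipodeAlgHom R A)).map _
    · change Bialgebra.counitAlgHom R A (HopfAlgebra.antipodeAlgHom R A e) = 1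
      change Coalgebra.counit (R := R) (HopfAlgebra.antipode R e) = 1
      rw [HopfAlgebra.counit_antipode]
      exact hε
  rw [h1, sub_self]

end hopfIdeal

end Groth.Agent.Lib.HopfUnitComp61
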