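import Mathlib
import Groth.Agent.Lib.HopfQuot55f
import Groth.Agent.Lib.HopfQuot55h
import Groth.Agent.Lib.HopfUnitComp61

/-!
# The unit component of a finite flat group over a local ring: basic facts (helper55)
-/

set_option autoImplicit false
universe u
open scoped TensorProduct
open WithConv

namespace Groth.Agent.Lib.HopfQuot55

open Groth.Agent.Lib.HopfUnitComp61

section UnitComp

variable {R A : Type u} [CommRing R] [CommRing A] [HopfAlgebra R A]
  (e : A) (he : IsIdempotentElem e)

include he in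
theorem mk_idem : Ideal.Quotient.mk (Ideal.span ({1 - e} : Set A)) e = 1 := by
  have : Ideal.Quotient.mk (Ideal.span ({1 - e} : Set A)) (1 - e) = 0 :=
    Ideal.Quotient.eq_zero_iff_mem.mpr (Ideal.subset_span rfl)
  rw [map_sub, map_one, sub_eq_zero] at this
  exact this.symm

/-- `[a] ↦ e a`, an `R`-linear section of `A → A/(1-e)`. -/
noncomputable def secIdem : (A ⧸ Ideal.span ({1 - e} : Set A)) →ₗ[R] A :=
  (Submodule.liftQ (Ideal.span ({1 - e} : Set A)) (LinearMap.mulLeft A e) (by
    intro x hx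
    obtain ⟨a, rfl⟩ := Ideal.mem_span_singleton'.mp hx
    rw [LinearMap.mem_ker, LinearMap.mulLeft_apply]
    have : e * (a * (1 - e)) = a * (e * (1 - e)) := by ring
    rw [this, mul_sub, mul_one, he.eq, sub_self, mul_zero])).restrictScalars R

theorem secIdem_mk (a : A) :
    secIdem (R := R) e he (Ideal.Quotient.mk (Ideal.span ({1 - e} : Set A)) a) = e * a := rfl

include he in
theorem projective_quot_idem [Module.Projective R A] :
    Module.Projective R (A ⧸ Ideal.span ({1 - e} : Set A)) := by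
  refine Module.Projective.of_split (secIdem (R := R) e he)
    (Ideal.Quotient.mkₐ R (Ideal.span ({1 - e} : Set A))).toLinearMap ?_
  ext x
  obtain ⟨a, rfl⟩ := Ideal.Quotient.mk_surjective x
  simp only [LinearMap.comp_apply, AlgHom.toLinearMap_apply, Ideal.Quotient.mkₐ_eq_mk,
    LinearMap.id_apply]
  rw [secIdem_mk, map_mul, mk_idem e he, one_mul]

section Mem

variable [Nontrivial R] [Module.Finite R A] (hε : Bialgebra.counitAlgHom R A e = 1)
  [(Ideal.span ({1 - e} : Set A)).IsHopfIdeal R]
  [IsLocalRing (A ⧸ Ideal.span ({1 - e} : Set A))]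

include hε in
/-- An idempotent of `A ⊗ H` (`H = A/(1-e)` local) killed by `id ⊗ ε` is zero. -/
theorem eq_zero_of_idem_of_epsR (f : A ⊗[R] (A ⧸ Ideal.span ({1 - e} : Set A)))
    (hf : IsIdempotentElem f)
    (h0 : epsR (R := R) (Ideal.span ({1 - e} : Set A)) f = 0) : f = 0 := by
  let sw := Algebra.TensorProduct.comm R A (A ⧸ Ideal.span ({1 - e} : Set A))
  have hE : ∀ z : A ⊗[R] (A ⧸ Ideal.span ({1 - e} : Set A)),
      Algebra.TensorProduct.lift ((Algebra.ofId R A).comp (counitQuot hε)) (AlgHom.id R A)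
        (fun _ _ => Commute.all _ _) (sw z) =
      epsR (R := R) (Ideal.span ({1 - e} : Set A)) z := by
    intro z
    induction z using TensorProduct.induction_on with
    | zero => simp
    | add x y hx hy => simp only [map_add, hx, hy]
    | tmul a h =>
      obtain ⟨b, rfl⟩ := Ideal.Quotient.mk_surjective h
      rw [epsR_tmul]
      simp only [sw, Algebra.TensorProduct.comm_tmul, Algebra.TensorProduct.lift_tmul,
        AlgHom.comp_apply, AlgHom.coe_id, id_eq, counitQuot_mk, Algebra.ofId_apply]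
      rw [Algebra.smul_def]
      rfl
  have h1 := Groth.Agent.S15063.eq_zero_of_idempotent (counitQuot hε) (sw f) (hf.map sw) (by
    rw [hE, h0])
  exact sw.injective (by rw [h1, map_zero])

include he hε in
/-- The idempotent `e` is right `G⁰`-invariant. -/
theorem idem_mem_coinv : e ∈ coinv (R := R) (Ideal.span ({1 - e} : Set A)) := by
  set I := Ideal.span ({1 - e} : Set A) with hIdef
  have hρe : IsIdempotentElem (rho (R := R) I e) := he.map _
  have hie : IsIdempotentElem (e ⊗ₜ[R] (1 : A ⧸ I)) := he.map (incl (R := R) I)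
  -- `(1 - e ⊗ 1) ρ(e) = 0`
  have h1 : (1 - e ⊗ₜ[R] (1 : A ⧸ I)) * rho (R := R) I e = 0 := by
    apply eq_zero_of_idem_of_epsR e hε
    · exact hie.one_sub.mul hρe
    · rw [map_mul, map_sub, map_one, epsR_rho]
      have : epsR (R := R) I (e ⊗ₜ[R] (1 : A ⧸ I)) = e := epsR_incl (R := R) I e
      rw [this, sub_mul, one_mul, he.eq, sub_self]
  -- `(e ⊗ 1) (1 - ρ(e)) = 0`
  have h2 : (e ⊗ₜ[R] (1 : A ⧸ I)) * (1 - rho (R := R) I e) = 0 := by
    apply eq_zero_of_idem_of_epsR e hε
    · exact hie.mul hρe.one_sub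
    · rw [map_mul, map_sub, map_one, epsR_rho]
      have : epsR (R := R) I (e ⊗ₜ[R] (1 : A ⧸ I)) = e := epsR_incl (R := R) I e
      rw [this, mul_sub, mul_one, he.eq, sub_self]
  show rho (R := R) I e = e ⊗ₜ[R] (1 : A ⧸ I)
  rw [sub_mul, one_mul, sub_eq_zero] at h1
  rw [mul_sub, mul_one, sub_eq_zero] at h2
  rw [h1, ← h2]

end Mem

end UnitComp

end Groth.Agent.Lib.HopfQuot55
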