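import Mathlib
import Groth.Agent.Lib.HopfQuot55i
import Groth.Agent.Lib.HopfQuot55j

/-!
# The quotient by the unit component is unramified (helper55)

`A` a finite commutative Hopf algebra over `R`, `e` an idempotent with `ε e = 1`, `I = (1 - e)` a
Hopf ideal, `B = coinv I` a Hopf subalgebra containing `e` such that `B ⊗ B → A ⊗ A` is injective.
Then `B` is formally unramified over `R`: the diagonal idempotent is `(S ⊗ id) Δ e`.
-/

set_option autoImplicit false
universe u
open scoped TensorProduct

namespace Groth.Agent.Lib.HopfQuot55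

open Groth.Agent.Lib.HopfTraceIntegral18

section Unram

variable {R A : Type u} [CommRing R] [CommRing A] [HopfAlgebra R A]
  (e : A) (he : IsIdempotentElem e)
  [(Ideal.span ({1 - e} : Set A)).IsHopfIdeal R]

local notation "I" => Ideal.span ({1 - e} : Set A)
local notation "B" => coinv (R := R) (Ideal.span ({1 - e} : Set A))

/-- `w (1 ⊗ e) = (id ⊗ ι) ((id ⊗ π) w)`. -/
theorem mul_one_tmul_idem (w : A ⊗[R] A) :
    w * ((1 : A) ⊗ₜ[R] e) =
      (secIdem (R := R) e he).lTensor A
        (Algebra.TensorProduct.map (AlgHom.id R A) (Ideal.Quotient.mkₐ R I) w) := by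
  induction w using TensorProduct.induction_on with
  | zero => simp
  | add x y hx hy => simp only [add_mul, map_add, hx, hy]
  | tmul x y =>
    simp only [Algebra.TensorProduct.tmul_mul_tmul, mul_one, Algebra.TensorProduct.map_tmul,
      AlgHom.coe_id, id_eq, Ideal.Quotient.mkₐ_eq_mk, LinearMap.lTensor_tmul, secIdem_mk]
    rw [mul_comm]

include he in
/-- For an invariant `s`: `(Δ s - s ⊗ 1) (1 ⊗ e) = 0`. -/
theorem comul_sub_mul_idem (s : A) (hs : s ∈ B) :
    (CoalgebraStruct.comul (R := R) s - s ⊗ₜ[R] (1 : A)) * ((1 : A) ⊗ₜ[R] e) = 0 := by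
  rw [mul_one_tmul_idem e he, map_sub]
  have h1 : Algebra.TensorProduct.map (AlgHom.id R A) (Ideal.Quotient.mkₐ R I)
      (CoalgebraStruct.comul (R := R) s) = s ⊗ₜ[R] (1 : A ⧸ I) := hs
  rw [h1]
  simp

variable [Module.Finite R A]

include he in
/-- `(1 ⊗ s - s ⊗ 1) · (S ⊗ id) Δ e = 0` in `A ⊗ A` for invariant `s`. -/
theorem diag_mul_eq_zero (s : A) (hs : s ∈ B) :
    ((1 : A) ⊗ₜ[R] s - s ⊗ₜ[R] (1 : A)) *
      (HopfAlgebra.antipode R (A := A)).rTensor A (CoalgebraStruct.comul (R := R) e) = 0 := by
  apply (shear_bijective (K := R) (A := A)).1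
  rw [map_mul, map_sub, shear_antipode_comul, map_zero, shear_tmul, shear_tmul,
    ← Algebra.TensorProduct.one_def, one_mul, Bialgebra.comul_one, mul_one]
  exact comul_sub_mul_idem e he s hs

section Main

variable (hε : Bialgebra.counitAlgHom R A e = 1)
  (heB : e ∈ coinv (R := R) (Ideal.span ({1 - e} : Set A)))
  (hHS : SGA3.IsHopfSubalgebra R A (coinv (R := R) (Ideal.span ({1 - e} : Set A))))
  (hinj : Function.Injective (TensorProduct.map
    (Subalgebra.val (coinv (R := R) (Ideal.span ({1 - e} : Set A)))).toLinearMap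
    (Subalgebra.val (coinv (R := R) (Ideal.span ({1 - e} : Set A)))).toLinearMap))
  [Algebra.EssFiniteType R (coinv (R := R) (Ideal.span ({1 - e} : Set A)))]

theorem val_lmul' (z : B ⊗[R] B) :
    ((Algebra.TensorProduct.lmul' R (S := B) z : B) : A) =
      Algebra.TensorProduct.lmul' R (S := A) (Algebra.TensorProduct.map (Subalgebra.val B) (Subalgebra.val B) z) := by
  induction z using TensorProduct.induction_on with
  | zero => simp
  | add x y hx hy => simp only [map_add, Subalgebra.coe_add, hx, hy]
  | tmul x y => simp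

include he hε heB hHS hinj in
/-- The invariants under the unit component are formally unramified. -/
theorem formallyUnramified_coinv : Algebra.FormallyUnramified R B := by
  rw [Algebra.FormallyUnramified.iff_exists_tensorProduct]
  obtain ⟨t₀, ht₀⟩ := hHS.1 e heB
  let SB : B →ₗ[R] B :=
    { toFun := fun b => ⟨HopfAlgebra.antipode R (b : A), hHS.2 b b.2⟩
      map_add' := fun x y => Subtype.ext (by simp)
      map_smul' := fun r x => Subtype.ext (by simp) }
  let t : B ⊗[R] B := SB.rTensor B t₀
  have hjt : Algebra.TensorProduct.map (Subalgebra.val B) (Subalgebra.val B) t =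
      (HopfAlgebra.antipode R (A := A)).rTensor A (CoalgebraStruct.comul (R := R) e) := by
    rw [← ht₀]
    change (TensorProduct.map (Subalgebra.val B).toLinearMap (Subalgebra.val B).toLinearMap) (SB.rTensor B t₀) = _
    simp only [← LinearMap.comp_apply]
    congr 1
    ext a b
    simp [SB]
  have hinj' : Function.Injective (Algebra.TensorProduct.map (Subalgebra.val B) (Subalgebra.val B)) := hinj
  refine ⟨t, fun s => ?_, ?_⟩
  · apply hinj'
    rw [map_mul, map_sub, map_zero, hjt]
    simp only [Algebra.TensorProduct.map_tmul, map_one]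
    exact diag_mul_eq_zero e he s.1 s.2
  · apply Subtype.ext
    rw [val_lmul', hjt]
    change LinearMap.mul' R A ((HopfAlgebra.antipode R (A := A)).rTensor A
      (CoalgebraStruct.comul (R := R) e)) = 1
    rw [HopfAlgebra.mul_antipode_rTensor_comul_apply]
    have : CoalgebraStruct.counit (R := R) e = 1 := hε
    rw [this, map_one]

end Main

end Unram

end Groth.Agent.Lib.HopfQuot55
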