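import Mathlib

/-!
# Subalgebras that are direct summands (helper55)

For a subalgebra `B ⊆ A` with a `B`-linear retraction `φ : A → B`, `φ 1 = 1`:
`A ⧸ B` is a retract of `A` and `B ⊗ B → A ⊗ A` is injective.  Mathlib only.
-/

set_option autoImplicit false
universe u v
open scoped TensorProduct

namespace Groth.Agent.Lib.HopfQuot55

section Summand

variable {R : Type u} {A : Type v} [CommRing R] [CommRing A] [Algebra R A] (B : Subalgebra R A)
  (φ : A →ₗ[B] B) (hφ : φ 1 = 1)

include hφ in
theorem retraction_apply_coe (b : B) : φ (b : A) = b := by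
  have : (b : A) = b • (1 : A) := by
    rw [Algebra.smul_def, mul_one]
    rfl
  rw [this, map_smul, hφ, smul_eq_mul, mul_one]

/-- `φ` as an `R`-linear map. -/
noncomputable def retrR : A →ₗ[R] B := φ.restrictScalars R

include hφ in
theorem map_val_injective :
    Function.Injective (TensorProduct.map B.val.toLinearMap B.val.toLinearMap) := by
  have h : (TensorProduct.map (retrR B φ) (retrR B φ)) ∘ₗ
      (TensorProduct.map B.val.toLinearMap B.val.toLinearMap) = LinearMap.id := by
    ext a b
    simp only [TensorProduct.AlgebraTensorModule.curry_apply, LinearMap.restrictScalars_self,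
      TensorProduct.curry_apply, LinearMap.comp_apply, TensorProduct.map_tmul,
      AlgHom.toLinearMap_apply, Subalgebra.coe_val, LinearMap.id_apply]
    change φ (a : A) ⊗ₜ[R] φ (b : A) = _
    rw [retraction_apply_coe B φ hφ, retraction_apply_coe B φ hφ]
  exact fun x y hxy => by
    have := congrArg (TensorProduct.map (retrR B φ) (retrR B φ)) hxy
    rwa [← LinearMap.comp_apply, ← LinearMap.comp_apply, h] at this

include hφ in
theorem projective_quot_of_retraction [Module.Projective R A] :
    Module.Projective R (A ⧸ Subalgebra.toSubmodule B) := by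
  let f : A →ₗ[R] A := LinearMap.id - B.val.toLinearMap ∘ₗ retrR B φ
  have hf : Subalgebra.toSubmodule B ≤ LinearMap.ker f := by
    intro b hb
    rw [LinearMap.mem_ker]
    change b - ((φ b : B) : A) = 0
    have := retraction_apply_coe B φ hφ ⟨b, hb⟩
    simp only at this
    rw [this, sub_self]
  let i : (A ⧸ Subalgebra.toSubmodule B) →ₗ[R] A := Submodule.liftQ _ f hf
  refine Module.Projective.of_split i (Subalgebra.toSubmodule B).mkQ ?_
  ext a
  simp only [LinearMap.comp_apply, Submodule.mkQ_apply, LinearMap.id_apply]
  change Submodule.Quotient.mk (a - ((φ a : B) : A)) = _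
  rw [Submodule.Quotient.mk_sub, sub_eq_self, Submodule.Quotient.mk_eq_zero]
  exact (φ a).2

end Summand

end Groth.Agent.Lib.HopfQuot55
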