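import Mathlib
import Groth.Prelude.Def_CartDual
import Groth.Prelude.Def_CartDual2
import Groth.Agent.Lib.HopfUnitComp61

/-!
# Bialgebra maps on quotients, invariants under the dual unit component (helper41)

* `quotMap`: a bialgebra map `ψ : B → A` with `ψ(I) ⊆ J` descends to `B ⧸ I → A ⧸ J`;
* `invariant_transpose`: invariance under the unit component of the dual is preserved by transposes.
-/

set_option autoImplicit false
universe u v w
open scoped TensorProduct

namespace Groth.Agent.Lib.HopfQuotMap41

section lift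
variable {R : Type u} [CommRing R] {A : Type v} {B : Type w} [CommRing A] [CommRing B]
  [Bialgebra R A] [Bialgebra R B]
  (I : Ideal B) [(I.restrictScalars R).IsCoideal] (J : Ideal A) [(J.restrictScalars R).IsCoideal]

/-- A bialgebra map `B → A` with `ψ(I) ⊆ J` descends to the quotients. -/
noncomputable def quotMap (ψ : B →ₐc[R] A) (h : ∀ b ∈ I, ψ b ∈ J) : (B ⧸ I) →ₐc[R] (A ⧸ J) :=
  BialgHom.ofAlgHom
    (Ideal.Quotient.liftₐ I ((Ideal.Quotient.mkₐ R J).comp (ψ : B →ₐ[R] A))
      (fun b hb => Ideal.Quotient.eq_zero_iff_mem.2 (h b hb)))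
    (by
      apply Ideal.Quotient.algHom_ext
      ext b
      change Bialgebra.counitAlgHom R (A ⧸ J) (Ideal.Quotient.mk J (ψ b)) =
        Bialgebra.counitAlgHom R (B ⧸ I) (Ideal.Quotient.mk I b)
      change Coalgebra.counit (R := R) (ψ b) = Coalgebra.counit (R := R) b
      exact CoalgHomClass.counit_comp_apply ψ b)
    (by
      apply Ideal.Quotient.algHom_ext
      ext b
      change Algebra.TensorProduct.map _ _ (Coalgebra.comul (R := R) (Ideal.Quotient.mk I b)) =
        Coalgebra.comul (R := R) (Ideal.Quotient.mk J (ψ b))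
      rw [Bialgebra.Quotient.comul_mk, Bialgebra.Quotient.comul_mk,
        ← CoalgHomClass.map_comp_comul_apply ψ b]
      generalize Coalgebra.comul (R := R) b = t
      induction t using TensorProduct.induction_on with
      | zero => simp
      | add x y hx hy => simp only [map_add, hx, hy]
      | tmul x y => rfl)

@[simp] theorem quotMap_mk (ψ : B →ₐc[R] A) (h : ∀ b ∈ I, ψ b ∈ J) (b : B) :
    quotMap I J ψ h (Ideal.Quotient.mk I b) = Ideal.Quotient.mk J (ψ b) := rfl

end lift

section inv
variable {R : Type u} [CommRing R] {A' : Type v} {B' : Type w}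
  [CommRing A'] [Bialgebra R A'] [Coalgebra.IsCocomm R A'] [Module.Finite R A'] [Module.Projective R A']
  [CommRing B'] [Bialgebra R B'] [Coalgebra.IsCocomm R B'] [Module.Finite R B'] [Module.Projective R B']

/-- Invariance under the unit component of the dual is preserved by transposes. -/
theorem invariant_transpose (ψ0 : B' →ₐc[R] A')
    (fA : CartDual.D R A') (hfA : IsIdempotentElem fA)
    (hfAε : Bialgebra.counitAlgHom R (CartDual.D R A') fA = 1)
    (fB : CartDual.D R B') (hfB : IsIdempotentElem fB)
    (hfBε : Bialgebra.counitAlgHom R (CartDual.D R B') fB = 1)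
    [IsLocalRing (CartDual.D R B' ⧸ Ideal.span ({1 - fB} : Set (CartDual.D R B')))]
    (x : CartDual.D R A')
    (hx : LinearMap.lTensor (CartDual.D R A') (LinearMap.mulLeft R fA) (Coalgebra.comul (R := R) x) =
      x ⊗ₜ[R] fA) :
    LinearMap.lTensor (CartDual.D R B') (LinearMap.mulLeft R fB)
      (Coalgebra.comul (R := R) (CartDual.transpose R ψ0 x)) = CartDual.transpose R ψ0 x ⊗ₜ[R] fB := by
  let T : CartDual.D R A' →ₐc[R] CartDual.D R B' := CartDual.transpose R ψ0
  have hTf : fB * T fA = fB := by
    have hloc : @IsLocalRing (CartDual.D R B' ⧸ Ideal.span ({1 - fB} : Set (CartDual.D R B')))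
        (CommRing.toCommSemiring.toSemiring) := ‹IsLocalRing _›
    have hidem : IsIdempotentElem
        (Ideal.Quotient.mk (Ideal.span ({1 - fB} : Set (CartDual.D R B'))) (T fA)) :=
      (hfA.map T).map (Ideal.Quotient.mk _)
    have hone : ((Groth.Agent.Lib.HopfUnitComp61.counitQuot hfBε :
          (CartDual.D R B' ⧸ Ideal.span ({1 - fB} : Set (CartDual.D R B'))) →ₐ[R] R) :
          (CartDual.D R B' ⧸ Ideal.span ({1 - fB} : Set (CartDual.D R B'))) →+* R)
        (Ideal.Quotient.mk (Ideal.span ({1 - fB} : Set (CartDual.D R B'))) (T fA)) = 1 := by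
      change Bialgebra.counitAlgHom R (CartDual.D R B') (T fA) = 1
      rw [Bialgebra.counitAlgHom_apply, CoalgHomClass.counit_comp_apply T fA]
      exact hfAε
    have hntR : Nontrivial R := by
      by_contra hcon
      rw [not_nontrivial_iff_subsingleton] at hcon
      have : Subsingleton (CartDual.D R B' ⧸ Ideal.span ({1 - fB} : Set (CartDual.D R B'))) := by
        have := Module.subsingleton R (CartDual.D R B' ⧸ Ideal.span ({1 - fB} : Set (CartDual.D R B')))
        exact this
      exact not_subsingleton _ this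
    have h1 : Ideal.Quotient.mk (Ideal.span ({1 - fB} : Set (CartDual.D R B'))) (T fA) = 1 :=
      @Groth.Agent.Lib.HopfUnitComp61.eq_one_of_isIdempotentElem_of_map_eq_one
        (CartDual.D R B' ⧸ Ideal.span ({1 - fB} : Set (CartDual.D R B'))) R _ hloc _ hntR _ _ hidem hone
    have h2 : T fA - 1 ∈ Ideal.span ({1 - fB} : Set (CartDual.D R B')) := by
      rw [← Ideal.Quotient.eq_zero_iff_mem, map_sub, map_one, h1, sub_self]
    obtain ⟨c, hc⟩ := Ideal.mem_span_singleton'.1 h2
    have h3 : fB * (1 - fB) = 0 := by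
      rw [mul_sub, mul_one, hfB.eq, sub_self]
    have h4 : fB * (T fA - 1) = 0 := by
      rw [← hc, mul_left_comm, h3, mul_zero]
    rw [mul_sub, mul_one, sub_eq_zero] at h4
    exact h4
  have hcomul : Coalgebra.comul (R := R) (T x) =
      TensorProduct.map (T : CartDual.D R A' →ₗ[R] CartDual.D R B')
        (T : CartDual.D R A' →ₗ[R] CartDual.D R B') (Coalgebra.comul (R := R) x) :=
    (CoalgHomClass.map_comp_comul_apply T x).symm
  have key : ∀ t : CartDual.D R A' ⊗[R] CartDual.D R A',
      LinearMap.lTensor (CartDual.D R B') (LinearMap.mulLeft R fB)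
        (TensorProduct.map (T : CartDual.D R A' →ₗ[R] CartDual.D R B')
          (T : CartDual.D R A' →ₗ[R] CartDual.D R B')
          (LinearMap.lTensor (CartDual.D R A') (LinearMap.mulLeft R fA) t)) =
      LinearMap.lTensor (CartDual.D R B') (LinearMap.mulLeft R fB)
        (TensorProduct.map (T : CartDual.D R A' →ₗ[R] CartDual.D R B')
          (T : CartDual.D R A' →ₗ[R] CartDual.D R B') t) := by
    intro t
    induction t using TensorProduct.induction_on with
    | zero => simp
    | add x y hx hy => simp only [map_add, hx, hy]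
    | tmul u v =>
      simp only [LinearMap.lTensor_tmul, TensorProduct.map_tmul, LinearMap.mulLeft_apply]
      change T u ⊗ₜ[R] (fB * T (fA * v)) = T u ⊗ₜ[R] (fB * T v)
      rw [map_mul, ← mul_assoc, hTf]
  change LinearMap.lTensor (CartDual.D R B') (LinearMap.mulLeft R fB)
      (Coalgebra.comul (R := R) (T x)) = T x ⊗ₜ[R] fB
  rw [hcomul, ← key, hx]
  simp only [TensorProduct.map_tmul, LinearMap.lTensor_tmul, LinearMap.mulLeft_apply]
  change T x ⊗ₜ[R] (fB * T fA) = _
  rw [hTf]

end inv

end Groth.Agent.Lib.HopfQuotMap41
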