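import Mathlib
import Groth.Prelude.Def_CartDual
import Groth.Agent.Lib.FinEtaleHopf41
import Groth.Agent.Lib.HopfPrimeOrder41
import Groth.Agent.Lib.HopfPrimeClass41
import Groth.Agent.Lib.CartDualEtale41

/-!
# Subgroups of order `p` in non-reduced finite group schemes (helper41)

* `isNilpotent_of_forall_algHom`, `exists_frob_eigen`: a Frobenius-stable nonzero subspace of a finite
  commutative algebra over an algebraically closed field of characteristic `p` contains a nonzero
  `v` with `v ^ p = 0` or `v ^ p = v` (minimal support argument);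
* `IsPrim`, `primSub`, `comul_pow_prim`, `isPrim_pow_char`, `antipode_prim`, `antipode_pow_prim`:
  primitive elements of (possibly noncommutative) bialgebras / Hopf algebras;
* `isPrim_iff_isEpsDer`: primitives of the dual are the `ε`-derivations; `exists_prim_eigen`;
* `powSpan`, `annIdeal`, `isHopfIdeal_annIdeal`, `finrank_quotient_annIdeal`: the subgroup scheme of
  order `p` attached to a primitive `d` with `d ^ p ∈ {0, d}`;
* `exists_surjective_of_isLocalRing`, `exists_surjective_of_not_isReduced`.
-/

set_option autoImplicit false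
universe u v w
open scoped TensorProduct
open WithConv

namespace Groth.Agent.Lib.HopfSubgroupP41


open Groth.Agent.Lib.HopfPointSep41b FinEtaleHopf41

section frob
variable (k : Type u) [Field k] [IsAlgClosed k] (R : Type v) [CommRing R] [Algebra k R]
  [Module.Finite k R]

/-- An element killed by all rational points is nilpotent. -/
theorem isNilpotent_of_forall_algHom (v : R) (h : ∀ χ : R →ₐ[k] k, χ v = 0) : IsNilpotent v := by
  have hred : IsReduced (R ⧸ nilradical R) :=
    (Ideal.isRadical_iff_quotient_reduced _).1 (Ideal.radical_isRadical (0 : Ideal R))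
  have hsep := pointsSeparate_of_isReduced k (R ⧸ nilradical R)
  have h0 : Ideal.Quotient.mk (nilradical R) v = 0 := by
    apply hsep
    intro g
    exact h (g.comp (Ideal.Quotient.mkₐ k (nilradical R)))
  exact mem_nilradical.1 (Ideal.Quotient.eq_zero_iff_mem.1 h0)

/-- A nonzero subspace of a finite commutative algebra over an algebraically closed field of
characteristic `p`, stable under `x ↦ x ^ p`, contains a nonzero `v` with `v ^ p = 0` or
`v ^ p = v`. -/
theorem exists_frob_eigen (p : ℕ) [Fact p.Prime] [CharP k p]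
    (V : Submodule k R) (hV : V ≠ ⊥) (hF : ∀ v ∈ V, v ^ p ∈ V) :
    ∃ v ∈ V, v ≠ 0 ∧ (v ^ p = 0 ∨ v ^ p = v) := by
  classical
  have hp : p.Prime := Fact.out
  by_cases hnil : ∃ v ∈ V, v ≠ 0 ∧ IsNilpotent v
  · obtain ⟨v, hvV, hv0, n, hn⟩ := hnil
    have hpow : ∀ j : ℕ, v ^ (p ^ j) ∈ V := by
      intro j
      induction j with
      | zero => simpa using hvV
      | succ j ih =>
        rw [pow_succ, pow_mul]
        exact hF _ ih
    have hex : ∃ j : ℕ, v ^ (p ^ j) = 0 := by
      refine ⟨n, pow_eq_zero_of_le ?_ hn⟩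
      exact (Nat.lt_pow_self hp.one_lt).le
    let j := Nat.find hex
    have hj : v ^ (p ^ j) = 0 := Nat.find_spec hex
    have hj0 : j ≠ 0 := by
      intro h
      rw [h, pow_zero, pow_one] at hj
      exact hv0 hj
    obtain ⟨j', hj'⟩ := Nat.exists_eq_succ_of_ne_zero hj0
    have hne : v ^ (p ^ j') ≠ 0 := fun h => Nat.find_min hex (by omega : j' < j) h
    refine ⟨v ^ (p ^ j'), hpow j', hne, Or.inl ?_⟩
    rw [← pow_mul, ← pow_succ, ← Nat.succ_eq_add_one, ← hj']
    exact hj
  · push Not at hnil
    have hfin : Finite (R →ₐ[k] k) := finite_points k R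
    have : Fintype (R →ₐ[k] k) := Fintype.ofFinite _
    let supp : R → Finset (R →ₐ[k] k) := fun v => Finset.univ.filter (fun χ => χ v ≠ 0)
    have hexV : ∃ n : ℕ, ∃ v ∈ V, v ≠ 0 ∧ (supp v).card = n := by
      obtain ⟨v, hvV, hv0⟩ := (Submodule.ne_bot_iff V).1 hV
      exact ⟨_, v, hvV, hv0, rfl⟩
    let n₀ := Nat.find hexV
    obtain ⟨v, hvV, hv0, hvn⟩ := Nat.find_spec hexV
    have hmin : ∀ u ∈ V, u ≠ 0 → n₀ ≤ (supp u).card := fun u hu hu0 =>
      Nat.find_min' hexV ⟨u, hu, hu0, rfl⟩
    -- a point in the support
    obtain ⟨χ₀, hχ₀⟩ : ∃ χ₀ : R →ₐ[k] k, χ₀ v ≠ 0 := by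
      by_contra hcon
      push Not at hcon
      exact hnil v hvV hv0 (isNilpotent_of_forall_algHom k R v hcon)
    let v' : R := (χ₀ v)⁻¹ • v
    have hv'V : v' ∈ V := V.smul_mem _ hvV
    have hv'0 : v' ≠ 0 := by
      intro h
      rcases smul_eq_zero.1 h with h1 | h1
      · exact hχ₀ (inv_eq_zero.1 h1)
      · exact hv0 h1
    have hχv' : χ₀ v' = 1 := by
      rw [map_smul, smul_eq_mul, inv_mul_cancel₀ hχ₀]
    have hsupp' : supp v' = supp v := by
      ext χ
      simp only [supp, Finset.mem_filter, Finset.mem_univ, true_and, v', map_smul, smul_eq_mul, ne_eq,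
        mul_eq_zero, inv_eq_zero, not_or]
      exact ⟨fun h => h.2, fun h => ⟨hχ₀, h⟩⟩
    let u : R := v' ^ p - v'
    have huV : u ∈ V := V.sub_mem (hF _ hv'V) hv'V
    have hu0 : u = 0 := by
      by_contra hu0
      have h1 := hmin u huV hu0
      have h2 : supp u ⊂ supp v' := by
        rw [Finset.ssubset_iff_of_subset]
        · refine ⟨χ₀, ?_, ?_⟩
          · simp only [supp, Finset.mem_filter, Finset.mem_univ, true_and]
            rw [hχv']
            exact one_ne_zero
          · simp only [supp, Finset.mem_filter, Finset.mem_univ, true_and, u, map_sub, map_pow, hχv',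
              one_pow, sub_self, ne_eq, not_true_eq_false, not_false_eq_true]
        · intro χ hχ
          simp only [supp, Finset.mem_filter, Finset.mem_univ, true_and] at hχ ⊢
          intro h0
          apply hχ
          rw [map_sub, map_pow, h0, zero_pow hp.ne_zero, sub_zero]
      have h3 := Finset.card_lt_card h2
      rw [hsupp', hvn] at h3
      omega
    refine ⟨v', hv'V, hv'0, Or.inr ?_⟩
    exact sub_eq_zero.1 hu0

end frob



section prim
variable {k : Type u} [CommRing k] {H : Type v} [Ring H] [Bialgebra k H]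

variable (k) in
/-- Primitive elements of a bialgebra. -/
def IsPrim (x : H) : Prop := Coalgebra.comul (R := k) x = x ⊗ₜ[k] (1 : H) + (1 : H) ⊗ₜ[k] x

variable (k H) in
/-- The submodule of primitive elements. -/
def primSub : Submodule k H where
  carrier := {x | IsPrim k x}
  add_mem' := by
    intro x y hx hy
    change Coalgebra.comul (R := k) (x + y) = _
    rw [map_add, hx, hy, TensorProduct.add_tmul, TensorProduct.tmul_add]
    abel
  zero_mem' := by
    change Coalgebra.comul (R := k) (0 : H) = _
    rw [map_zero, TensorProduct.zero_tmul, TensorProduct.tmul_zero, add_zero]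
  smul_mem' := by
    intro c x hx
    change Coalgebra.comul (R := k) (c • x) = _
    rw [map_smul, hx, smul_add, TensorProduct.smul_tmul', TensorProduct.tmul_smul]

theorem mem_primSub {x : H} : x ∈ primSub k H ↔ IsPrim k x := Iff.rfl

theorem commute_tmul_one_one_tmul (x : H) :
    Commute (x ⊗ₜ[k] (1 : H)) ((1 : H) ⊗ₜ[k] x) := by
  rw [Commute, SemiconjBy, Algebra.TensorProduct.tmul_mul_tmul, Algebra.TensorProduct.tmul_mul_tmul,
    mul_one, one_mul]

/-- Comultiplication of a power of a primitive element. -/
theorem comul_pow_prim {x : H} (hx : IsPrim k x) (n : ℕ) :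
    Coalgebra.comul (R := k) (x ^ n) =
      ∑ i ∈ Finset.range (n + 1), n.choose i • ((x ^ i) ⊗ₜ[k] (x ^ (n - i))) := by
  change Bialgebra.comulAlgHom k H (x ^ n) = _
  rw [map_pow]
  change (Coalgebra.comul (R := k) x) ^ n = _
  rw [hx, (commute_tmul_one_one_tmul x).add_pow]
  refine Finset.sum_congr rfl fun i _ => ?_
  rw [Algebra.TensorProduct.tmul_pow, Algebra.TensorProduct.tmul_pow, one_pow, one_pow,
    Algebra.TensorProduct.tmul_mul_tmul, mul_one, one_mul, nsmul_eq_mul, (Nat.cast_commute _ _).eq]

/-- In characteristic `p`, the `p`-th power of a primitive element is primitive. -/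
theorem isPrim_pow_char (p : ℕ) [Fact p.Prime] [CharP k p] {x : H} (hx : IsPrim k x) :
    IsPrim k (x ^ p) := by
  change Bialgebra.comulAlgHom k H (x ^ p) = _
  rw [map_pow]
  change (Coalgebra.comul (R := k) x) ^ p = _
  rw [hx]
  obtain ⟨r, hr⟩ := (commute_tmul_one_one_tmul (k := k) x).exists_add_pow_prime_eq (Fact.out : p.Prime)
  have hp0 : ((p : ℕ) : H ⊗[k] H) = 0 := by
    rw [← map_natCast (algebraMap k (H ⊗[k] H)) p, CharP.cast_eq_zero k p, map_zero]
  rw [hr, hp0, zero_mul, zero_mul, zero_mul, add_zero, Algebra.TensorProduct.tmul_pow,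
    Algebra.TensorProduct.tmul_pow, one_pow]

theorem counit_prim {x : H} (hx : IsPrim k x) : CoalgebraStruct.counit (R := k) x = 0 := by
  have h := Coalgebra.rTensor_counit_comul (R := k) x
  rw [hx, map_add, LinearMap.rTensor_tmul, LinearMap.rTensor_tmul, Bialgebra.counit_one] at h
  have h2 := congrArg (TensorProduct.lid k H) h
  rw [map_add, TensorProduct.lid_tmul, TensorProduct.lid_tmul, one_smul] at h2
  have h3 : CoalgebraStruct.counit (R := k) x • (1 : H) = 0 := by
    rwa [add_eq_right] at h2
  have h4 := congrArg (CoalgebraStruct.counit (R := k)) h3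
  rwa [map_smul, Bialgebra.counit_one, smul_eq_mul, mul_one, map_zero] at h4

end prim

section hopf
variable {k : Type u} [CommRing k] {H : Type v} [Ring H] [HopfAlgebra k H]

theorem antipode_prim {x : H} (hx : IsPrim k x) : HopfAlgebra.antipode k x = -x := by
  have hε := counit_prim hx
  have h := HopfAlgebra.mul_antipode_rTensor_comul_apply (R := k) x
  rw [hx, map_add, LinearMap.rTensor_tmul, LinearMap.rTensor_tmul, map_add, LinearMap.mul'_apply,
    LinearMap.mul'_apply, HopfAlgebra.antipode_one, mul_one, one_mul, hε, map_zero] at h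
  exact eq_neg_of_add_eq_zero_left h

theorem antipode_pow_prim {x : H} (hx : IsPrim k x) (n : ℕ) :
    HopfAlgebra.antipode k (x ^ n) = (-x) ^ n := by
  induction n with
  | zero => rw [pow_zero, pow_zero, HopfAlgebra.antipode_one]
  | succ n ih =>
    rw [pow_succ, HopfAlgebra.antipode_mul_antidistrib, ih, antipode_prim hx, pow_succ']

theorem antipode_pow_prim' {x : H} (hx : IsPrim k x) (n : ℕ) :
    HopfAlgebra.antipode k (x ^ n) = x ^ n ∨ HopfAlgebra.antipode k (x ^ n) = -(x ^ n) := by
  rw [antipode_pow_prim hx, neg_pow]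
  rcases neg_one_pow_eq_or H n with h | h
  · left; rw [h, one_mul]
  · right; rw [h, neg_one_mul]

end hopf



open Groth.Agent.Lib.Cartier38 Groth.Agent.Lib.HopfPrimeOrder41

section dual
variable {k : Type u} [Field k] {B : Type v} [CommRing B] [HopfAlgebra k B] [Module.Finite k B]

theorem one_apply_D (a : B) : (1 : CartDual.D k B) a = CoalgebraStruct.counit (R := k) a := rfl

/-- Primitive elements of the dual are the `ε`-derivations. -/
theorem isPrim_iff_isEpsDer (d : B →ₗ[k] k) :
    IsPrim k (toConv d : CartDual.D k B) ↔ IsEpsDer d := by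
  constructor
  · intro h a b
    have h1 := congrArg (fun t => CartDual.ev₂ k B t (a ⊗ₜ[k] b)) h
    simp only [CartDual.ev₂_coalgebra_comul_tmul, map_add, LinearMap.add_apply,
      CartDual.ev₂_tmul] at h1
    rw [one_apply_D, one_apply_D] at h1
    rw [show d (a * b) = (toConv d : CartDual.D k B) (a * b) from rfl, h1]
    change d a * _ + _ * d b = _
    ring
  · intro h
    apply (CartDual.ev₂ k B).injective
    apply TensorProduct.ext'
    intro a b
    rw [CartDual.ev₂_coalgebra_comul_tmul, map_add, LinearMap.add_apply, CartDual.ev₂_tmul,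
      CartDual.ev₂_tmul, one_apply_D, one_apply_D]
    change d (a * b) = d a * _ + _ * d b
    rw [h a b]
    ring

/-- In a local finite Hopf algebra of dimension `> 1` over an algebraically closed field of
characteristic `p`, the dual has a nonzero primitive element `d` with `d ^ p = 0` or
`d ^ p = d`. -/
theorem exists_prim_eigen [IsAlgClosed k] (p : ℕ) [Fact p.Prime] [CharP k p] [IsLocalRing B]
    (hB : 1 < Module.finrank k B) :
    ∃ d : CartDual.D k B, d ≠ 0 ∧ IsPrim k d ∧ (d ^ p = 0 ∨ d ^ p = d) := by
  classical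
  -- I ≠ I²
  have hne : ∃ x ∈ augI k B, x ∉ augI k B ^ 2 := by
    by_contra hcon
    push Not at hcon
    have hle : augI k B ≤ augI k B * augI k B := by
      intro x hx
      rw [← pow_two]
      exact hcon x hx
    have hmax : (augI k B).IsMaximal := by
      apply RingHom.ker_isMaximal_of_surjective
      intro c
      exact ⟨algebraMap k B c, by rw [Bialgebra.counitAlgHom_apply]; simp⟩
    have hnoeth : IsNoetherian B B := isNoetherian_of_tower k (inferInstance : IsNoetherian k B)
    have hfg : (augI k B : Submodule B B).FG := IsNoetherian.noetherian _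
    have hbot : augI k B = ⊥ := by
      apply Submodule.eq_bot_of_le_smul_of_le_jacobson_bot (augI k B) (augI k B) hfg
      · rw [smul_eq_mul]; exact hle
      · rw [IsLocalRing.jacobson_eq_maximalIdeal ⊥ bot_ne_top, IsLocalRing.eq_maximalIdeal hmax]
    have hinj : Function.Injective (Bialgebra.counitAlgHom k B).toLinearMap := by
      rw [← LinearMap.ker_eq_bot, eq_bot_iff]
      intro f hf
      have : f ∈ augI k B := hf
      rw [hbot] at this
      exact this
    have h1 := LinearMap.finrank_le_finrank_of_injective hinj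
    rw [Module.finrank_self] at h1
    omega
  obtain ⟨x, hx, hx2⟩ := hne
  obtain ⟨d₀, hd₀, hd₀x⟩ := exists_epsDer x hx hx2
  let D := CartDual.D k B
  let δ : D := toConv d₀
  have hδ : IsPrim k δ := (isPrim_iff_isEpsDer d₀).2 hd₀
  have hδ0 : δ ≠ 0 := by
    intro h
    have : d₀ x = 0 := by
      have := congrArg (fun t : D => t x) h
      exact this
    rw [hd₀x] at this
    exact one_ne_zero this
  -- the commutative algebra k[δ]
  let φ : Polynomial k →ₐ[k] D := Polynomial.aeval δ
  let R := Polynomial k ⧸ RingHom.ker φ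
  let ι : R →ₐ[k] D := Ideal.kerLiftAlg φ
  have hι : Function.Injective ι := Ideal.kerLiftAlg_injective φ
  have hfinR : Module.Finite k R := Module.Finite.of_injective ι.toLinearMap hι
  let V : Submodule k R := (primSub k D).comap ι.toLinearMap
  have hV : V ≠ ⊥ := by
    rw [Submodule.ne_bot_iff]
    refine ⟨Ideal.Quotient.mk _ Polynomial.X, ?_, ?_⟩
    · change IsPrim k (ι (Ideal.Quotient.mk _ Polynomial.X))
      have : ι (Ideal.Quotient.mk _ Polynomial.X) = δ := by
        change φ Polynomial.X = δ
        exact Polynomial.aeval_X δ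
      rw [this]
      exact hδ
    · intro h
      have : ι (Ideal.Quotient.mk _ Polynomial.X) = δ := by
        change φ Polynomial.X = δ
        exact Polynomial.aeval_X δ
      rw [h, map_zero] at this
      exact hδ0 this.symm
  have hF : ∀ v ∈ V, v ^ p ∈ V := by
    intro v hv
    change IsPrim k (ι (v ^ p))
    rw [map_pow]
    exact isPrim_pow_char p hv
  obtain ⟨v, hvV, hv0, hv⟩ := exists_frob_eigen k R p V hV hF
  refine ⟨ι v, ?_, hvV, ?_⟩
  · intro h
    rw [← map_zero ι] at h
    exact hv0 (hι h)
  · rcases hv with h | h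
    · left
      rw [← map_pow, h, map_zero]
    · right
      rw [← map_pow, h]

end dual



open Groth.Agent.Lib.Cartier38 Groth.Agent.Lib.HopfPrimeOrder41

section ideal
variable {k : Type u} [Field k] {B : Type v} [CommRing B] [HopfAlgebra k B] [Module.Finite k B]
  (p : ℕ) [Fact p.Prime] (d : CartDual.D k B)

/-- The span of the first `p` powers of `d`. -/
def powSpan : Submodule k (CartDual.D k B) :=
  Submodule.span k (Set.range fun i : Fin p => d ^ (i : ℕ))

variable {p d}

theorem pow_mem_powSpan (hd : d ^ p = 0 ∨ d ^ p = d) (n : ℕ) : d ^ n ∈ powSpan p d := by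
  have hp : p.Prime := Fact.out
  induction n using Nat.strong_induction_on with
  | _ n ih =>
    rcases Nat.lt_or_ge n p with h | h
    · exact Submodule.subset_span ⟨⟨n, h⟩, rfl⟩
    · obtain ⟨m, rfl⟩ := Nat.exists_eq_add_of_le h
      rw [pow_add]
      rcases hd with hd | hd
      · rw [hd, zero_mul]
        exact Submodule.zero_mem _
      · rw [hd, ← pow_succ']
        exact ih _ (by have := hp.two_le; omega)

theorem one_mem_powSpan : (1 : CartDual.D k B) ∈ powSpan p d := by
  have hp : p.Prime := Fact.out
  exact Submodule.subset_span ⟨⟨0, hp.pos⟩, by simp⟩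

theorem mul_mem_powSpan (hd : d ^ p = 0 ∨ d ^ p = d) {w w' : CartDual.D k B}
    (hw : w ∈ powSpan p d) (hw' : w' ∈ powSpan p d) : w * w' ∈ powSpan p d := by
  induction hw using Submodule.span_induction with
  | mem x hx =>
    obtain ⟨i, rfl⟩ := hx
    induction hw' using Submodule.span_induction with
    | mem y hy =>
      obtain ⟨j, rfl⟩ := hy
      rw [← pow_add]
      exact pow_mem_powSpan hd _
    | zero => rw [mul_zero]; exact Submodule.zero_mem _
    | add y z _ _ hy hz => rw [mul_add]; exact Submodule.add_mem _ hy hz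
    | smul c y _ hy => rw [mul_smul_comm]; exact Submodule.smul_mem _ _ hy
  | zero => rw [zero_mul]; exact Submodule.zero_mem _
  | add y z _ _ hy hz => rw [add_mul]; exact Submodule.add_mem _ hy hz
  | smul c y _ hy => rw [smul_mul_assoc]; exact Submodule.smul_mem _ _ hy

theorem antipode_mem_powSpan (hprim : IsPrim k d) {w : CartDual.D k B}
    (hw : w ∈ powSpan p d) : HopfAlgebra.antipode k w ∈ powSpan p d := by
  induction hw using Submodule.span_induction with
  | mem x hx =>
    obtain ⟨i, rfl⟩ := hx
    rcases antipode_pow_prim' hprim (i : ℕ) with h | h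
    · rw [h]
      exact Submodule.subset_span ⟨i, rfl⟩
    · rw [h]
      exact Submodule.neg_mem _ (Submodule.subset_span ⟨i, rfl⟩)
  | zero => rw [map_zero]; exact Submodule.zero_mem _
  | add y z _ _ hy hz => rw [map_add]; exact Submodule.add_mem _ hy hz
  | smul c y _ hy => rw [map_smul]; exact Submodule.smul_mem _ _ hy

/-- Leibniz rule for powers of a primitive element of the dual. -/
theorem pow_prim_apply_mul (hprim : IsPrim k d) (n : ℕ) (a b : B) :
    (d ^ n) (a * b) =
      ∑ i ∈ Finset.range (n + 1), n.choose i • ((d ^ i) a * (d ^ (n - i)) b) := by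
  rw [← CartDual.ev₂_coalgebra_comul_tmul, comul_pow_prim hprim, map_sum, LinearMap.sum_apply]
  refine Finset.sum_congr rfl fun i _ => ?_
  rw [map_nsmul, LinearMap.smul_apply, CartDual.ev₂_tmul]

variable (p d) in
/-- The annihilator of `powSpan p d` in `B`. -/
def annIdeal (hprim : IsPrim k d) : Ideal B where
  carrier := {a | ∀ w ∈ powSpan p d, w a = 0}
  add_mem' := by
    intro a b ha hb w hw
    rw [CartDual.coe_apply, map_add, ← CartDual.coe_apply, ← CartDual.coe_apply, ha w hw, hb w hw,
      add_zero]
  zero_mem' := by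
    intro w _
    rw [CartDual.coe_apply, map_zero]
  smul_mem' := by
    intro c a ha w hw
    rw [smul_eq_mul]
    induction hw using Submodule.span_induction with
    | mem x hx =>
      obtain ⟨i, rfl⟩ := hx
      rw [pow_prim_apply_mul hprim]
      refine Finset.sum_eq_zero fun j _ => ?_
      rw [ha _ (Submodule.span_induction (p := fun x _ => x ∈ powSpan p d)
        (fun x hx => Submodule.subset_span hx) (Submodule.zero_mem _)
        (fun _ _ _ _ hx hy => Submodule.add_mem _ hx hy)
        (fun c _ _ hx => Submodule.smul_mem _ c hx)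
        (?_ : d ^ ((i : ℕ) - j) ∈ powSpan p d)), mul_zero, smul_zero]
      exact Submodule.subset_span ⟨⟨(i : ℕ) - j, by have := i.2; omega⟩, rfl⟩
    | zero => rw [CartDual.coe_apply]; rfl
    | add y z _ _ hy hz =>
      rw [CartDual.coe_apply, WithConv.ofConv_add, LinearMap.add_apply]
      rw [CartDual.coe_apply] at hy hz
      rw [hy, hz, add_zero]
    | smul r y _ hy =>
      rw [CartDual.coe_apply, WithConv.ofConv_smul, LinearMap.smul_apply]
      rw [CartDual.coe_apply] at hy
      rw [hy, smul_zero]

theorem mem_annIdeal (hprim : IsPrim k d) (a : B) :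
    a ∈ annIdeal p d hprim ↔ ∀ w ∈ powSpan p d, w a = 0 := Iff.rfl

end ideal



open Groth.Agent.Lib.Cartier38 Groth.Agent.Lib.HopfPrimeOrder41

section ideal
variable {k : Type u} [Field k] {B : Type v} [CommRing B] [HopfAlgebra k B] [Module.Finite k B]
  {p : ℕ} [Fact p.Prime] {d : CartDual.D k B}

/-- The image of `powSpan` in the linear dual. -/
def powSpanDual (p : ℕ) [Fact p.Prime] (d : CartDual.D k B) : Submodule k (Module.Dual k B) :=
  (powSpan p d).map (CartDual.toDual k B).toLinearMap

theorem annIdeal_eq_dualCoannihilator (hprim : IsPrim k d) :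
    (annIdeal p d hprim).restrictScalars k = (powSpanDual p d).dualCoannihilator := by
  ext a
  rw [Submodule.mem_dualCoannihilator]
  constructor
  · rintro ha _ ⟨w, hw, rfl⟩
    exact ha w hw
  · intro ha w hw
    exact ha _ ⟨w, hw, rfl⟩

/-- A functional vanishing on `annIdeal` lies in `powSpan`. -/
theorem toConv_mem_powSpan_of_vanish (hprim : IsPrim k d) (φ : B →ₗ[k] k)
    (hφ : ∀ a ∈ annIdeal p d hprim, φ a = 0) : (toConv φ : CartDual.D k B) ∈ powSpan p d := by
  have h1 : φ ∈ (powSpanDual p d).dualCoannihilator.dualAnnihilator := by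
    rw [Submodule.mem_dualAnnihilator]
    intro a ha
    rw [← annIdeal_eq_dualCoannihilator hprim] at ha
    exact hφ a ha
  rw [Subspace.dualCoannihilator_dualAnnihilator_eq] at h1
  obtain ⟨w, hw, hwφ⟩ := h1
  have : w = toConv φ := by
    apply WithConv.ofConv_injective
    exact hwφ
  rw [← this]
  exact hw

theorem isHopfIdeal_annIdeal (hprim : IsPrim k d) (hd : d ^ p = 0 ∨ d ^ p = d) :
    (annIdeal p d hprim).IsHopfIdeal k := by
  have hco : ((annIdeal p d hprim).restrictScalars k).IsCoideal := by
    refine Submodule.IsCoideal.mk ?_ ?_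
    · intro a ha
      exact ha 1 one_mem_powSpan
    · intro a ha
      apply eq_zero_of_forall_mul'_map
      intro φ ψ
      have key := congrArg (fun L => L (CoalgebraStruct.comul (R := k) a))
        (TensorProduct.map_comp φ ψ ((annIdeal p d hprim).restrictScalars k).mkQ
          ((annIdeal p d hprim).restrictScalars k).mkQ)
      simp only [LinearMap.comp_apply] at key
      rw [← key]
      have hφ := toConv_mem_powSpan_of_vanish hprim
        (φ ∘ₗ ((annIdeal p d hprim).restrictScalars k).mkQ) (by
          intro b hb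
          rw [LinearMap.comp_apply]
          have : ((annIdeal p d hprim).restrictScalars k).mkQ b = 0 :=
            (Submodule.Quotient.mk_eq_zero _).2 hb
          rw [this, map_zero])
      have hψ := toConv_mem_powSpan_of_vanish hprim
        (ψ ∘ₗ ((annIdeal p d hprim).restrictScalars k).mkQ) (by
          intro b hb
          rw [LinearMap.comp_apply]
          have : ((annIdeal p d hprim).restrictScalars k).mkQ b = 0 :=
            (Submodule.Quotient.mk_eq_zero _).2 hb
          rw [this, map_zero])
      exact ha _ (mul_mem_powSpan hd hφ hψ)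
  refine Ideal.IsHopfIdeal.mk ?_
  intro a ha w hw
  rw [← CartDual.antipode_apply]
  exact ha _ (antipode_mem_powSpan hprim hw)

theorem finrank_quotient_annIdeal (hprim : IsPrim k d)
    (hli : LinearIndependent k (fun i : Fin p => d ^ (i : ℕ))) :
    Module.finrank k (B ⧸ annIdeal p d hprim) = p := by
  have h1 := Subspace.finrank_add_finrank_dualCoannihilator_eq (powSpanDual (k := k) (B := B) p d)
  rw [← annIdeal_eq_dualCoannihilator hprim] at h1
  have h2 := Submodule.finrank_quotient_add_finrank ((annIdeal p d hprim).restrictScalars k)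
  have h3 : Module.finrank k (powSpanDual (k := k) (B := B) p d) = p := by
    rw [powSpanDual]
    rw [LinearEquiv.finrank_map_eq (CartDual.toDual k B)]
    rw [powSpan, finrank_span_eq_card hli, Fintype.card_fin]
  have h4 : Module.finrank k (B ⧸ annIdeal p d hprim) =
      Module.finrank k (B ⧸ (annIdeal p d hprim).restrictScalars k) :=
    (Submodule.Quotient.restrictScalarsEquiv k (annIdeal p d hprim)).symm.finrank_eq
  omega

end ideal



open Groth.Agent.Lib.Cartier38 Groth.Agent.Lib.HopfPrimeOrder41 Groth.Agent.Lib.HopfPrimeClass41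
open Groth.Agent.Lib.HopfSplit41

section main
variable (k : Type u) [Field k] [IsAlgClosed k] (p : ℕ) [Fact p.Prime] [CharP k p]

theorem linearIndependent_pow_prim {B : Type v} [CommRing B] [HopfAlgebra k B] [Module.Finite k B]
    (d : CartDual.D k B) (hd0 : d ≠ 0) (hprim : IsPrim k d) :
    LinearIndependent k (fun i : Fin p => d ^ (i : ℕ)) := by
  have hp : p.Prime := Fact.out
  have hder : IsEpsDer d.ofConv := (isPrim_iff_isEpsDer d.ofConv).1 hprim
  have hd1 : d.ofConv 1 = 0 := by
    have h := hder 1 1
    rw [mul_one, Bialgebra.counit_one, one_mul, mul_one] at h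
    have : d.ofConv 1 + d.ofConv 1 = d.ofConv 1 + 0 := by rw [add_zero]; exact h.symm
    exact add_left_cancel this
  obtain ⟨a, ha⟩ : ∃ a : B, d.ofConv a ≠ 0 := by
    by_contra hcon
    push Not at hcon
    apply hd0
    apply WithConv.ofConv_injective
    ext a
    exact hcon a
  let x : B := (d.ofConv a)⁻¹ • (a - algebraMap k B (CoalgebraStruct.counit (R := k) a))
  have hx : x ∈ augI k B := by
    rw [mem_augI, map_smul, map_sub]
    have : CoalgebraStruct.counit (R := k) (algebraMap k B (CoalgebraStruct.counit (R := k) a)) =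
        CoalgebraStruct.counit (R := k) a := by
      rw [Algebra.algebraMap_eq_smul_one, map_smul, Bialgebra.counit_one, smul_eq_mul, mul_one]
    rw [this, sub_self, smul_zero]
  have hdx : d.ofConv x = 1 := by
    rw [map_smul, map_sub, Algebra.algebraMap_eq_smul_one, map_smul, hd1, smul_zero, sub_zero,
      smul_eq_mul, inv_mul_cancel₀ ha]
  have hfact : ∀ j < p, ((j.factorial : ℕ) : k) ≠ 0 := by
    intro j hj h0
    have := (CharP.cast_eq_zero_iff k p _).1 h0
    rw [hp.dvd_factorial] at this
    omega
  exact linearIndependent_convPow hder x hx hdx p hfact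

/-- A local finite Hopf algebra of dimension `> 1` over an algebraically closed field of
characteristic `p` surjects onto the Hopf algebra of `μ_p` or of `α_p`. -/
theorem exists_surjective_of_isLocalRing (B : Type v) [CommRing B] [HopfAlgebra k B]
    [Module.Finite k B] [IsLocalRing B] (hB : 1 < Module.finrank k B) :
    (∃ f : B →ₐc[k] MonoidAlgebra k (Multiplicative (ZMod p)), Function.Surjective f) ∨
      (∃ f : B →ₐc[k] AlphaP.A p k, Function.Surjective f) := by
  classical
  have hp : p.Prime := Fact.out
  obtain ⟨d, hd0, hprim, hd⟩ := exists_prim_eigen p hB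
  have hli := linearIndependent_pow_prim k p d hd0 hprim
  have hJ : (annIdeal p d hprim).IsHopfIdeal k := isHopfIdeal_annIdeal hprim hd
  have hfin : Module.finrank k (B ⧸ annIdeal p d hprim) = p := finrank_quotient_annIdeal hprim hli
  have hnt : Nontrivial (B ⧸ annIdeal p d hprim) := by
    apply Module.nontrivial_of_finrank_pos (R := k)
    rw [hfin]
    exact hp.pos
  have hloc : IsLocalRing (B ⧸ annIdeal p d hprim) :=
    IsLocalRing.of_surjective' (Ideal.Quotient.mk (annIdeal p d hprim)) Ideal.Quotient.mk_surjective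
  have hcocomm : Coalgebra.IsCocomm k (B ⧸ annIdeal p d hprim) :=
    isCocomm_of_finrank_eq_prime k _ p hp hfin
  have hnilC : ∀ f : B ⧸ annIdeal p d hprim, CoalgebraStruct.counit (R := k) f = 0 → IsNilpotent f :=
    fun f hf => Groth.Agent.Lib.HopfInfinitesimal41.nil_of_isLocalRing f hf
  have hfinD : Module.finrank k (CartDual.D k (B ⧸ annIdeal p d hprim)) = p := by
    rw [Groth.Agent.Lib.CartDualEtale41.finrank_D, hfin]
  have hπ : Function.Surjective (Bialgebra.Quotient.mkBialgHom (R := k) (annIdeal p d hprim)) :=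
    Ideal.Quotient.mk_surjective
  rcases isReduced_or_nil_of_finrank_eq_prime k (CartDual.D k (B ⧸ annIdeal p d hprim)) p p hp hfinD
    with hDred | ⟨_, hDnil⟩
  · left
    obtain ⟨e⟩ := nonempty_bialgEquiv_monoidAlgebra k (B ⧸ annIdeal p d hprim) hDred p hfin
    refine ⟨(e : (B ⧸ annIdeal p d hprim) →ₐc[k] _).comp
      (Bialgebra.Quotient.mkBialgHom (R := k) (annIdeal p d hprim)), ?_⟩
    rw [BialgHom.coe_comp]
    exact e.surjective.comp hπ
  · right
    have hDloc : IsLocalRing (CartDual.D k (B ⧸ annIdeal p d hprim)) :=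
      Groth.Agent.Lib.HopfInfinitesimal41.isLocalRing_of_nil hDnil
    obtain ⟨x, hx0, hx⟩ := Groth.Agent.Lib.HopfSimple41.exists_primitive_of_isLocalRing_dual hDloc
      (by rw [hfin]; exact hp.one_lt)
    obtain ⟨e⟩ := nonempty_bialgEquiv_alphaP p hfin x hx0
      (hnilC x (Groth.Agent.Lib.HopfSimple41.counit_primitive x hx)) hx
    refine ⟨(e : (B ⧸ annIdeal p d hprim) →ₐc[k] _).comp
      (Bialgebra.Quotient.mkBialgHom (R := k) (annIdeal p d hprim)), ?_⟩
    rw [BialgHom.coe_comp]
    exact e.surjective.comp hπ

/-- A non-reduced finite group scheme over an algebraically closed field of characteristic `p`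
contains `μ_p` or `α_p`. -/
theorem exists_surjective_of_not_isReduced (A : Type v) [CommRing A] [HopfAlgebra k A]
    [Module.Finite k A] (hA : ¬ IsReduced A) :
    (∃ f : A →ₐc[k] MonoidAlgebra k (Multiplicative (ZMod p)), Function.Surjective f) ∨
      (∃ f : A →ₐc[k] AlphaP.A p k, Function.Surjective f) := by
  classical
  have hperf : PerfectField k := inferInstance
  have hHI : (nilradical A).IsHopfIdeal k :=
    HopfKilledByOrder41.isHopfIdeal_nilradical_of_isAlgClosed k A
  obtain ⟨σ, hσ⟩ := FrobSection41.exists_section k p A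
  have hloc : IsLocalRing (A ⧸ splitIdeal σ) :=
    isLocalRing_quotient_splitIdeal (Bialgebra.Quotient.mkBialgHom (R := k) (nilradical A)) σ hσ
      (fun a ha => mem_nilradical.1 (Ideal.Quotient.eq_zero_iff_mem.1 ha))
  have hbij := bijective_splitMap (Bialgebra.Quotient.mkBialgHom (R := k) (nilradical A)) σ hσ
  have hdim : Module.finrank k A =
      Module.finrank k (A ⧸ nilradical A) * Module.finrank k (A ⧸ splitIdeal σ) := by
    rw [← Module.finrank_tensorProduct]
    exact (LinearEquiv.ofBijective (splitMap (Bialgebra.Quotient.mkBialgHom (R := k)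
      (nilradical A)) (splitIdeal σ)).toLinearMap hbij).finrank_eq
  have hB : 1 < Module.finrank k (A ⧸ splitIdeal σ) := by
    by_contra hle
    have hpos : 0 < Module.finrank k (A ⧸ splitIdeal σ) := Module.finrank_pos
    have h1 : Module.finrank k (A ⧸ splitIdeal σ) = 1 := by omega
    rw [h1, mul_one] at hdim
    apply hA
    have hsurj : Function.Surjective (Ideal.Quotient.mkₐ k (nilradical A)).toLinearMap :=
      Ideal.Quotient.mk_surjective
    have hinj : Function.Injective (Ideal.Quotient.mkₐ k (nilradical A)).toLinearMap :=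
      (LinearMap.injective_iff_surjective_of_finrank_eq_finrank hdim).2 hsurj
    have hbot : nilradical A = ⊥ := by
      rw [eq_bot_iff]
      intro a ha
      have : (Ideal.Quotient.mkₐ k (nilradical A)).toLinearMap a = 0 :=
        Ideal.Quotient.eq_zero_iff_mem.2 ha
      rw [← map_zero (Ideal.Quotient.mkₐ k (nilradical A)).toLinearMap] at this
      exact hinj this
    exact nilradical_eq_bot_iff.1 hbot
  have hπ : Function.Surjective (Bialgebra.Quotient.mkBialgHom (R := k) (splitIdeal σ)) :=
    Ideal.Quotient.mk_surjective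
  rcases exists_surjective_of_isLocalRing k p (A ⧸ splitIdeal σ) hB with ⟨f, hf⟩ | ⟨f, hf⟩
  · left
    refine ⟨f.comp (Bialgebra.Quotient.mkBialgHom (R := k) (splitIdeal σ)), ?_⟩
    rw [BialgHom.coe_comp]
    exact hf.comp hπ
  · right
    refine ⟨f.comp (Bialgebra.Quotient.mkBialgHom (R := k) (splitIdeal σ)), ?_⟩
    rw [BialgHom.coe_comp]
    exact hf.comp hπ

end main

end Groth.Agent.Lib.HopfSubgroupP41
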