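import Groth.Agent.Lib.AdjUniqComp
import Groth.Agent.Lib.ExtAdj

/-!
# Abstract pullback maps on `Ext`-cohomology (helper95)

Abstract version (for "constant sheaf" adjunctions `c ⊣ Γ` and "pullback" adjunctions `p ⊣ q` with
`p` exact) of the pullback maps `Ext^n(c_X M, G) → Ext^n(c_U M, p G)`, their compatibility with
composition (after helper39's `Lib/EtHpullComp`), bijectivity for equivalences, and the existence
of a retraction when the pullback functor has a "section".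
-/

set_option autoImplicit false

universe w w' w'' v₁ v₂ v₃ v₄ u₁ u₂ u₃ u₄

namespace Groth.Agent.Lib.HpullGen95

open CategoryTheory CategoryTheory.Limits CategoryTheory.Abelian
open Groth.Agent.Lib.AdjUniqComp Groth.Agent.Lib.ExtAdj

section Def

variable {𝒜 : Type u₁} [Category.{v₁} 𝒜]
  {𝒳 : Type u₂} [Category.{v₂} 𝒳] [Abelian 𝒳] [HasExt.{w} 𝒳]
  {𝒰 : Type u₃} [Category.{v₃} 𝒰] [Abelian 𝒰] [HasExt.{w'} 𝒰]
  {cX : 𝒜 ⥤ 𝒳} {gX : 𝒳 ⥤ 𝒜} (CX : cX ⊣ gX)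
  {cU : 𝒜 ⥤ 𝒰} {gU : 𝒰 ⥤ 𝒜} (CU : cU ⊣ gU)
  {pt : 𝒳 ⥤ 𝒰} {qt : 𝒰 ⥤ 𝒳} (Pt : pt ⊣ qt)
  [pt.Additive] [PreservesFiniteLimits pt] [PreservesFiniteColimits pt]
  (Gt : qt ⋙ gX ≅ gU)

/-- the abstract pullback map on `Ext`-cohomology -/
noncomputable def hp (M : 𝒜) (G : 𝒳) (n : ℕ) :
    Ext.{w} (cX.obj M) G n →+ Ext.{w'} (cU.obj M) (pt.obj G) n :=
  AddMonoidHom.comp
    (AddMonoidHom.mk' (fun e => (Ext.mk₀ ((constIso CX CU Pt Gt).inv.app M)).comp e (zero_add n))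
      (fun _ _ => Ext.comp_add _ _ _ _))
    (pt.mapExtAddHom _ _ n)

lemma hp_apply (M : 𝒜) (G : 𝒳) (n : ℕ) (x : Ext.{w} (cX.obj M) G n) :
    hp CX CU Pt Gt M G n x =
      (Ext.mk₀ ((constIso CX CU Pt Gt).inv.app M)).comp (x.mapExactFunctor pt) (zero_add n) := rfl

/-- the pullback map along an equivalence is bijective -/
theorem hp_bijective [pt.IsEquivalence] [EnoughInjectives 𝒳] (M : 𝒜) (G : 𝒳) (n : ℕ) :
    Function.Bijective (hp CX CU Pt Gt M G n) := by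
  have h1 : Function.Bijective (pt.mapExtAddHom (cX.obj M) G n) :=
    Functor.mapExt_bijective_of_preservesInjectiveObjects _ _ _ _
  have h2 : Function.Bijective (fun e : Ext.{w'} (pt.obj (cX.obj M)) (pt.obj G) n =>
      (Ext.mk₀ ((constIso CX CU Pt Gt).inv.app M)).comp e (zero_add n)) := by
    refine Function.bijective_iff_has_inverse.2
      ⟨fun e => (Ext.mk₀ ((constIso CX CU Pt Gt).hom.app M)).comp e (zero_add n),
        fun e => ?_, fun e => ?_⟩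
    · dsimp only
      rw [← Ext.comp_assoc_of_second_deg_zero, Ext.mk₀_comp_mk₀, Iso.hom_inv_id_app,
        Ext.mk₀_id_comp]
    · dsimp only
      rw [← Ext.comp_assoc_of_second_deg_zero, Ext.mk₀_comp_mk₀, Iso.inv_hom_id_app,
        Ext.mk₀_id_comp]
  exact h2.comp h1

end Def

section Comp

variable {𝒜 : Type u₁} [Category.{v₁} 𝒜]
  {𝒳 : Type u₂} [Category.{v₂} 𝒳] [Abelian 𝒳] [HasExt.{w} 𝒳]
  {𝒰 : Type u₃} [Category.{v₃} 𝒰] [Abelian 𝒰] [HasExt.{w'} 𝒰]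
  {𝒲 : Type u₄} [Category.{v₄} 𝒲] [Abelian 𝒲] [HasExt.{w''} 𝒲]
  {cX : 𝒜 ⥤ 𝒳} {gX : 𝒳 ⥤ 𝒜} (CX : cX ⊣ gX)
  {cU : 𝒜 ⥤ 𝒰} {gU : 𝒰 ⥤ 𝒜} (CU : cU ⊣ gU)
  {cW : 𝒜 ⥤ 𝒲} {gW : 𝒲 ⥤ 𝒜} (CW : cW ⊣ gW)
  {pt : 𝒳 ⥤ 𝒰} {qt : 𝒰 ⥤ 𝒳} (Pt : pt ⊣ qt)
  {pa : 𝒰 ⥤ 𝒲} {qa : 𝒲 ⥤ 𝒰} (Pa : pa ⊣ qa)
  {pf : 𝒳 ⥤ 𝒲} {qf : 𝒲 ⥤ 𝒳} (Pf : pf ⊣ qf)
  [pt.Additive] [PreservesFiniteLimits pt] [PreservesFiniteColimits pt]
  [pa.Additive] [PreservesFiniteLimits pa] [PreservesFiniteColimits pa]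
  [pf.Additive] [PreservesFiniteLimits pf] [PreservesFiniteColimits pf]
  (Gt : qt ⋙ gX ≅ gU) (Ga : qa ⋙ gU ≅ gW) (Gf : qf ⋙ gX ≅ gW) (K : qa ⋙ qt ≅ qf)
  (hK : ∀ B : 𝒲, gX.map (K.hom.app B) ≫ Gf.hom.app B = Gt.hom.app (qa.obj B) ≫ Ga.hom.app B)

include hK in
lemma constIso_inv_comp (M : 𝒜) :
    (constIso CX CW Pf Gf).inv.app M =
      (constIso CU CW Pa Ga).inv.app M ≫ pa.map ((constIso CX CU Pt Gt).inv.app M) ≫
        (compIso Pt Pa Pf K).inv.app (cX.obj M) := by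
  have h := constIso_comp CX CU CW Pt Pa Pf Gt Ga Gf K hK M
  have e : (constIso CX CW Pf Gf).app M = (compIso Pt Pa Pf K).app (cX.obj M) ≪≫
      pa.mapIso ((constIso CX CU Pt Gt).app M) ≪≫ (constIso CU CW Pa Ga).app M := Iso.ext h
  have e' := congrArg Iso.inv e
  simpa only [Iso.trans_inv, Iso.app_inv, Functor.mapIso_inv, Category.assoc] using e'

include hK in
/-- compatibility of the abstract pullback maps with composition -/
theorem hp_comp [EnoughInjectives 𝒳] (M : 𝒜) (G : 𝒳) (n : ℕ) (x : Ext.{w} (cX.obj M) G n) :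
    (hp CU CW Pa Ga M (pt.obj G) n (hp CX CU Pt Gt M G n x)).comp
      (Ext.mk₀ ((compIso Pt Pa Pf K).inv.app G)) (add_zero n) = hp CX CW Pf Gf M G n x := by
  have : PreservesFiniteLimits (pt ⋙ pa) := comp_preservesFiniteLimits _ _
  have : PreservesFiniteColimits (pt ⋙ pa) := comp_preservesFiniteColimits _ _
  set κ := (compIso Pt Pa Pf K).symm with hκ
  rw [hp_apply, hp_apply, hp_apply]
  have h2 : (x.mapExactFunctor pt).mapExactFunctor pa = x.mapExactFunctor (pt ⋙ pa) :=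
    mapExactFunctor_mapExactFunctor pt pa x
  have h3 : (x.mapExactFunctor (pt ⋙ pa)).comp (Ext.mk₀ (κ.hom.app G)) (add_zero n) =
      (Ext.mk₀ (κ.hom.app (cX.obj M))).comp (x.mapExactFunctor pf) (zero_add n) :=
    mapExactFunctor_naturality κ.hom x
  have h4 := constIso_inv_comp CX CU CW Pt Pa Pf Gt Ga Gf K hK M
  calc ((Ext.mk₀ ((constIso CU CW Pa Ga).inv.app M)).comp
        (((Ext.mk₀ ((constIso CX CU Pt Gt).inv.app M)).comp (x.mapExactFunctor pt)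
          (zero_add n)).mapExactFunctor pa) (zero_add n)).comp
        (Ext.mk₀ ((compIso Pt Pa Pf K).inv.app G)) (add_zero n)
      = ((Ext.mk₀ ((constIso CU CW Pa Ga).inv.app M)).comp
          ((Ext.mk₀ (pa.map ((constIso CX CU Pt Gt).inv.app M))).comp
            (x.mapExactFunctor (pt ⋙ pa)) (zero_add n)) (zero_add n)).comp
          (Ext.mk₀ (κ.hom.app G)) (add_zero n) := by
        rw [Ext.mapExactFunctor_comp, Ext.mapExactFunctor_mk₀, h2]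
        rfl
    _ = (Ext.mk₀ ((constIso CU CW Pa Ga).inv.app M)).comp
          ((Ext.mk₀ (pa.map ((constIso CX CU Pt Gt).inv.app M))).comp
            ((x.mapExactFunctor (pt ⋙ pa)).comp
              (Ext.mk₀ (κ.hom.app G)) (add_zero n)) (zero_add n)) (zero_add n) := by
        rw [Ext.comp_assoc_of_third_deg_zero, Ext.comp_assoc_of_third_deg_zero]
    _ = (Ext.mk₀ ((constIso CU CW Pa Ga).inv.app M)).comp
          ((Ext.mk₀ (pa.map ((constIso CX CU Pt Gt).inv.app M))).comp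
            ((Ext.mk₀ (κ.hom.app (cX.obj M))).comp
              (x.mapExactFunctor pf) (zero_add n)) (zero_add n)) (zero_add n) := by
        rw [h3]
    _ = (Ext.mk₀ ((constIso CX CW Pf Gf).inv.app M)).comp (x.mapExactFunctor pf)
          (zero_add n) := by
        rw [Ext.mk₀_comp_mk₀_assoc, Ext.mk₀_comp_mk₀_assoc, h4]
        simp only [Category.assoc]
        rfl

include CW Pa Pf hK in
/-- if the composite pullback functor is an equivalence, the first pullback map has a retraction -/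
theorem exists_retraction [pf.IsEquivalence] [EnoughInjectives 𝒳] (M : 𝒜) (G : 𝒳) (n : ℕ) :
    ∃ r : Ext.{w'} (cU.obj M) (pt.obj G) n →+ Ext.{w} (cX.obj M) G n,
      ∀ x, r (hp CX CU Pt Gt M G n x) = x := by
  let φ := AddEquiv.ofBijective (hp CX CW Pf Gf M G n) (hp_bijective CX CW Pf Gf M G n)
  let ψ : Ext.{w''} (cW.obj M) (pa.obj (pt.obj G)) n →+ Ext.{w''} (cW.obj M) (pf.obj G) n :=
    AddMonoidHom.mk' (fun e => e.comp (Ext.mk₀ ((compIso Pt Pa Pf K).inv.app G)) (add_zero n))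
      (fun _ _ => Ext.add_comp _ _ _ _)
  refine ⟨φ.symm.toAddMonoidHom.comp (ψ.comp (hp CU CW Pa Ga M (pt.obj G) n)), fun x => ?_⟩
  have h := hp_comp CX CU CW Pt Pa Pf Gt Ga Gf K hK M G n x
  rw [AddMonoidHom.comp_apply, AddMonoidHom.comp_apply]
  change φ.symm ((hp CU CW Pa Ga M (pt.obj G) n (hp CX CU Pt Gt M G n x)).comp
    (Ext.mk₀ ((compIso Pt Pa Pf K).inv.app G)) (add_zero n)) = x
  rw [h]
  exact φ.symm_apply_apply x

end Comp

end Groth.Agent.Lib.HpullGen95
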