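import Groth.Agent.Lib.H90DevSubset
import Groth.Agent.Lib.H90DevSummand
import Groth.Agent.Lib.H90DevHub
import Groth.Agent.Lib.H90OXModSections
import Groth.Agent.Lib.SerreCrit13b
import Groth.Agent.Lib.IdealMod
import Groth.Agent.Lib.CurveDeg48d
import Mathlib.RingTheory.Length

/-!
# Additive functions on coherent modules with zero-dimensional support (helper42)
-/

set_option autoImplicit false
universe u
open CategoryTheory CategoryTheory.Limits AlgebraicGeometry Opposite TopologicalSpace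

namespace Groth.Agent.Lib.ZeroDimDev42

open Groth.Agent.Lib.H90DevHub2 Groth.Agent.Lib.H90DevHub Groth.Agent.Lib.H90DevCanon
  Groth.Agent.Lib.H90OXModSections Groth.Agent.Lib.H90DevAtom

variable {X : Scheme.{u}}

/-- the length of the module of sections over an open -/
noncomputable def slen (W : X.Opens) (N : X.Modules) : ℕ∞ := Module.length Γ(X, W) Γ(N, W)

theorem slen_congr (W : X.Opens) {M N : X.Modules} (e : M ≅ N) : slen W M = slen W N := by
  have h1 : Function.Bijective (appLin e.hom W) :=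
    (ConcreteCategory.isIso_iff_bijective (e.hom.app W)).mp inferInstance
  exact (LinearEquiv.ofBijective (appLin e.hom W) h1).length_eq

theorem slen_of_isZero (W : X.Opens) {N : X.Modules} (hN : IsZero N) : slen W N = 0 := by
  have : Subsingleton Γ(N, W) := by
    refine ⟨fun a b => ?_⟩
    have h1 : (𝟙 N : N ⟶ N).app W a = a := rfl
    have h2 : (𝟙 N : N ⟶ N).app W b = b := rfl
    rw [← h1, ← h2, hN.eq_of_src (𝟙 N) 0]
    rfl
  exact Module.length_eq_zero

theorem slen_add {W : X.Opens} (hW : IsAffineOpen W) {S : ShortComplex X.Modules} (hS : S.ShortExact)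
    (h₁ : Coh.IsQCoh S.X₁) : slen W S.X₂ = slen W S.X₁ + slen W S.X₃ := by
  haveI := hS.mono_f
  have hinj : Function.Injective (appLin S.f W) := injective_appLin_of_mono S.f W
  have hsurj : Function.Surjective (appLin S.g W) :=
    Groth.Agent.Lib.SerreCrit13.surjective_app_of_isAffineOpen hS h₁ hW
  have hex : Function.Exact (appLin S.f W) (appLin S.g W) := by
    intro y
    constructor
    · intro hy
      obtain ⟨t, ht⟩ := (Groth.Agent.Lib.IdealMod.sections_exact hS.exact W).2 y hy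
      exact ⟨t, ht⟩
    · rintro ⟨t, rfl⟩
      change (S.f ≫ S.g).app W t = 0
      rw [S.zero]
      rfl
  exact Module.length_eq_add_of_exact _ _ hinj hsurj hex


/-- sections of the hub over an open not containing the generic point have length zero -/
theorem slen_hub_of_notMem {Zc : Closeds X} {ξ : X} (hξ : IsGenericPoint ξ (Zc : Set X)) {W : X.Opens}
    (hW : ξ ∉ W) : slen W (hub Zc) = 0 := by
  have : Subsingleton Γ(hub Zc, W) :=
    ⟨fun a b => (hub_eq_zero_of_notMem hξ hW a).trans (hub_eq_zero_of_notMem hξ hW b).symm⟩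
  exact Module.length_eq_zero

/-- a reduced one-point scheme: every nonzero function on a nonempty open is a unit -/
theorem isUnit_of_ne_zero_of_subsingleton {Z : Scheme.{u}} [IsReduced Z] [Subsingleton Z] {U : Z.Opens}
    (d : Γ(Z, U)) (hd : d ≠ 0) : IsUnit d := by
  have h1 : Z.basicOpen d ≠ ⊥ := fun h => hd ((basicOpen_eq_bot_iff d).mp h)
  obtain ⟨z, hz⟩ : ∃ z, z ∈ Z.basicOpen d := by
    by_contra hne
    apply h1
    ext z
    simp only [Opens.coe_bot, Set.mem_empty_iff_false, iff_false]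
    exact fun hz => hne ⟨z, hz⟩
  refine Z.toRingedSpace.isUnit_of_isUnit_germ U d (fun z' hz' => ?_)
  have hzz : z' = z := Subsingleton.elim _ _
  subst hzz
  exact (Z.mem_basicOpen d z' hz').mp hz

/-- sections of the hub of a closed point over an affine open containing it form a module of length one -/
theorem slen_hub_point (Zc : Closeds X) {x : X} (hZc : (Zc : Set X) = {x}) {W : X.Opens}
    (hW : IsAffineOpen W) (hxW : x ∈ W) : slen W (hub Zc) = 1 := by
  have hirr : IsIrreducible (Zc : Set X) := by rw [hZc]; exact isIrreducible_singleton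
  haveI : IsIntegral (ZZ Zc) := isIntegral_subscheme Zc hirr
  have hξ : IsGenericPoint x (Zc : Set X) := by
    change closure {x} = (Zc : Set X)
    rw [hZc]
    have : IsClosed ({x} : Set X) := by rw [← hZc]; exact Zc.isClosed
    exact this.closure_eq
  have hne : ((iZ Zc) ⁻¹ᵁ W : Set (ZZ Zc)).Nonempty := preimage_nonempty hξ hxW
  haveI : Nonempty ((iZ Zc) ⁻¹ᵁ W : (ZZ Zc).Opens) := hne.to_subtype
  haveI : Subsingleton (ZZ Zc) := by
    refine ⟨fun a b => ?_⟩
    apply (iZ Zc).isEmbedding.injective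
    have ha : (iZ Zc) a ∈ (Zc : Set X) := by rw [← range_iZ]; exact ⟨a, rfl⟩
    have hb : (iZ Zc) b ∈ (Zc : Set X) := by rw [← range_iZ]; exact ⟨b, rfl⟩
    rw [hZc] at ha hb
    exact (Set.mem_singleton_iff.mp ha).trans (Set.mem_singleton_iff.mp hb).symm
  let D := Γ(ZZ Zc, (iZ Zc) ⁻¹ᵁ W)
  let σ : Γ(X, W) →+* D := ((iZ Zc).app W).hom
  have hσ : Function.Surjective σ :=
    (Scheme.IdealSheafData.vanishingIdeal Zc).subschemeι_app_surjective ⟨W, hW⟩
  letI : Algebra Γ(X, W) D := σ.toAlgebra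
  have hfield : IsField D := by
    refine ⟨⟨0, 1, zero_ne_one⟩, mul_comm, fun {d} hd => ?_⟩
    obtain ⟨u, hu⟩ := isUnit_of_ne_zero_of_subsingleton (Z := ZZ Zc) d hd
    exact ⟨↑u⁻¹, by rw [← hu]; exact u.mul_inv⟩
  letI : Field D := hfield.toField
  let e : Γ(hub Zc, W) ≃ₗ[Γ(X, W)] D :=
    { toFun := fun w => w
      invFun := fun d => ofFun (iZ Zc) W d
      left_inv := fun _ => rfl
      right_inv := fun _ => rfl
      map_add' := fun _ _ => rfl
      map_smul' := fun _ _ => rfl }
  rw [slen, e.length_eq, Module.length_eq_of_surjective (R := D) (S := Γ(X, W)) hσ,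
    Module.length_eq_finrank, Module.finrank_self]
  rfl

/-- additive functions on coherent modules -/
structure AddFun (X : Scheme.{u}) where
  f : X.Modules → ℤ
  iso : ∀ {M N : X.Modules}, (M ≅ N) → f M = f N
  zero : ∀ {M : X.Modules}, IsZero M → f M = 0
  add : ∀ (S : ShortComplex X.Modules), S.ShortExact → Coh.IsCoh S.X₁ → Coh.IsCoh S.X₂ →
    Coh.IsCoh S.X₃ → f S.X₂ = f S.X₁ + f S.X₃

/-- the hub of the closure of a point -/
noncomputable abbrev hubc (x : X) : X.Modules := hub ⟨closure {x}, isClosed_closure⟩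

section Formula

variable [AlgebraicGeometry.IsNoetherian X] (A : AddFun X) (T : Closeds X)
  (hT : topologicalKrullDim ↥(T : Set X) ≤ 0) (Tf : Finset X) (hTf : ∀ x, x ∈ Tf ↔ x ∈ (T : Set X))
  (W : X → X.Opens) (hWaff : ∀ x ∈ (T : Set X), IsAffineOpen (W x)) (hxW : ∀ x ∈ (T : Set X), x ∈ W x)
  (hW : ∀ x ∈ (T : Set X), ∀ y ∈ (T : Set X), y ∈ W x → y = x)

include hT hTf hWaff hxW hW in
/-- an additive function on coherent modules supported on a closed subset of dimension `≤ 0` is the sum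
of the local section lengths weighted by the values at the points -/
theorem formula (N : X.Modules) (hN : Coh.IsCoh N) (hs : CohB1.support N ⊆ (T : Set X)) :
    (∀ x ∈ Tf, slen (W x) N ≠ ⊤) ∧
      A.f N = ∑ x ∈ Tf, ((slen (W x) N).toNat : ℤ) * A.f (hubc x) := by
  classical
  refine Groth.Agent.Lib.H90DevSubset.devissage_two_of_three_subset X (T : Set X)
    (fun N => (∀ x ∈ Tf, slen (W x) N ≠ ⊤) ∧
      A.f N = ∑ x ∈ Tf, ((slen (W x) N).toNat : ℤ) * A.f (hubc x)) ?_ ?_ ?_ ?_ N hN hs
  · rintro M N ⟨e⟩ ⟨h1, h2⟩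
    refine ⟨fun x hx => by rw [← slen_congr (W x) e]; exact h1 x hx, ?_⟩
    rw [← A.iso e, h2]
    exact Finset.sum_congr rfl (fun x _ => by rw [slen_congr (W x) e])
  · intro N hN
    refine ⟨fun x _ => by rw [slen_of_isZero (W x) hN]; simp, ?_⟩
    rw [A.zero hN]
    symm
    apply Finset.sum_eq_zero
    intro x _
    rw [slen_of_isZero (W x) hN]
    simp
  · intro S hS h₁ h₂ h₃
    have hl : ∀ x ∈ Tf, slen (W x) S.X₂ = slen (W x) S.X₁ + slen (W x) S.X₃ := fun x hx =>
      slen_add (hWaff x ((hTf x).mp hx)) hS h₁.1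
    have ha := A.add S hS h₁ h₂ h₃
    refine ⟨fun p₁ p₂ => ?_, fun p₁ p₃ => ?_, fun p₂ p₃ => ?_⟩
    · obtain ⟨f₁, e₁⟩ := p₁
      obtain ⟨f₂, e₂⟩ := p₂
      have f₃ : ∀ x ∈ Tf, slen (W x) S.X₃ ≠ ⊤ := by
        intro x hx h
        have := hl x hx
        rw [h, add_top] at this
        exact f₂ x hx this
      refine ⟨f₃, ?_⟩
      have hsum : ∑ x ∈ Tf, ((slen (W x) S.X₂).toNat : ℤ) * A.f (hubc x) =
          ∑ x ∈ Tf, ((slen (W x) S.X₁).toNat : ℤ) * A.f (hubc x) +
            ∑ x ∈ Tf, ((slen (W x) S.X₃).toNat : ℤ) * A.f (hubc x) := by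
        rw [← Finset.sum_add_distrib]
        refine Finset.sum_congr rfl (fun x hx => ?_)
        rw [hl x hx, ENat.toNat_add (f₁ x hx) (f₃ x hx)]
        push_cast
        ring
      rw [e₁, e₂, hsum] at ha
      linarith
    · obtain ⟨f₁, e₁⟩ := p₁
      obtain ⟨f₃, e₃⟩ := p₃
      have f₂ : ∀ x ∈ Tf, slen (W x) S.X₂ ≠ ⊤ := by
        intro x hx
        rw [hl x hx]
        exact WithTop.add_ne_top.mpr ⟨f₁ x hx, f₃ x hx⟩
      refine ⟨f₂, ?_⟩
      have hsum : ∑ x ∈ Tf, ((slen (W x) S.X₂).toNat : ℤ) * A.f (hubc x) =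
          ∑ x ∈ Tf, ((slen (W x) S.X₁).toNat : ℤ) * A.f (hubc x) +
            ∑ x ∈ Tf, ((slen (W x) S.X₃).toNat : ℤ) * A.f (hubc x) := by
        rw [← Finset.sum_add_distrib]
        refine Finset.sum_congr rfl (fun x hx => ?_)
        rw [hl x hx, ENat.toNat_add (f₁ x hx) (f₃ x hx)]
        push_cast
        ring
      rw [ha, e₁, e₃, hsum]
    · obtain ⟨f₂, e₂⟩ := p₂
      obtain ⟨f₃, e₃⟩ := p₃
      have f₁ : ∀ x ∈ Tf, slen (W x) S.X₁ ≠ ⊤ := by
        intro x hx h
        have := hl x hx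
        rw [h, top_add] at this
        exact f₂ x hx this
      refine ⟨f₁, ?_⟩
      have hsum : ∑ x ∈ Tf, ((slen (W x) S.X₂).toNat : ℤ) * A.f (hubc x) =
          ∑ x ∈ Tf, ((slen (W x) S.X₁).toNat : ℤ) * A.f (hubc x) +
            ∑ x ∈ Tf, ((slen (W x) S.X₃).toNat : ℤ) * A.f (hubc x) := by
        rw [← Finset.sum_add_distrib]
        refine Finset.sum_congr rfl (fun x hx => ?_)
        rw [hl x hx, ENat.toNat_add (f₁ x hx) (f₃ x hx)]
        push_cast
        ring
      rw [e₂, e₃, hsum] at ha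
      linarith
  · intro Zc hirr hZcT ξ hgen
    obtain ⟨hsupp, he⟩ := Groth.Agent.Lib.H90DevSummand.hub_props Zc hirr ξ hgen
    refine ⟨hub Zc, isCoh_hub Zc, hsupp, he, ?_⟩
    have hξ : IsGenericPoint ξ (Zc : Set X) := hgen
    have hξT : ξ ∈ (T : Set X) := hZcT hξ.mem
    have hcl : IsClosed ({ξ} : Set X) :=
      Groth.Agent.Lib.CurveDeg48.isClosed_singleton_of_mem_of_dim_le_zero T.isClosed hT hξT
    have hZc : (Zc : Set X) = {ξ} := by rw [← hgen]; exact hcl.closure_eq
    have hZc' : Zc = ⟨closure {ξ}, isClosed_closure⟩ := by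
      apply SetLike.coe_injective
      exact hgen.symm
    have hlen : ∀ x ∈ Tf, slen (W x) (hub Zc) = if x = ξ then 1 else 0 := by
      intro x hx
      have hxT := (hTf x).mp hx
      split_ifs with hxξ
      · subst hxξ
        exact slen_hub_point Zc hZc (hWaff x hxT) (hxW x hxT)
      · apply slen_hub_of_notMem hξ
        intro hmem
        exact hxξ (hW x hxT ξ hξT hmem).symm
    refine ⟨fun x hx => by rw [hlen x hx]; split_ifs <;> simp, ?_⟩
    rw [Finset.sum_eq_single ξ]
    · rw [hlen ξ ((hTf ξ).mpr hξT), if_pos rfl]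
      change A.f (hub Zc) = ((1 : ℕ∞).toNat : ℤ) * A.f (hub ⟨closure {ξ}, isClosed_closure⟩)
      rw [← hZc']
      simp
    · intro x hx hxξ
      rw [hlen x hx, if_neg hxξ]
      simp
    · intro h
      exact absurd ((hTf ξ).mpr hξT) h

include hT hTf hWaff hxW hW in
/-- two coherent modules supported on `T` with the same local section lengths have the same value under any additive
function -/
theorem eq_of_slen_eq {N N' : X.Modules} (hN : Coh.IsCoh N) (hN' : Coh.IsCoh N')
    (hs : CohB1.support N ⊆ (T : Set X)) (hs' : CohB1.support N' ⊆ (T : Set X))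
    (h : ∀ x ∈ (T : Set X), slen (W x) N = slen (W x) N') : A.f N = A.f N' := by
  rw [(formula A T hT Tf hTf W hWaff hxW hW N hN hs).2,
    (formula A T hT Tf hTf W hWaff hxW hW N' hN' hs').2]
  exact Finset.sum_congr rfl (fun x hx => by rw [h x ((hTf x).mp hx)])

end Formula

end Groth.Agent.Lib.ZeroDimDev42
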