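import Mathlib
import Groth.Agent.Lib.DetLength3
import Groth.Agent.Lib.LocFreeBasis48
import Groth.Agent.Lib.CurveSerreVan54
import Groth.Agent.Lib.H90OXModSections
import Groth.Agent.Lib.H90OXModExact
import Groth.Agent.Lib.SerreCrit13b
import Groth.Agent.Lib.IdealMod
import Groth.Agent.Lib.DetSec42
import Groth.Agent.Lib.ZeroDimDev42

/-!
# Cokernel of `hub ⊗ O^n ⟶ hub ⊗ F` given by `n` sections, in local coordinates (helper42)

For the "hub" `G = i_* O_Z` of an integral closed subscheme, a module `F` with a basis `e` over an affine open `W`,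
and global sections `s i` of `F` with coordinate matrix `M` over `W`: the map `Ψ_W` is injective and the sections of
the cokernel over `W` have length `ord_D (det M)` where `D = Γ(Z, W ∩ Z)`, as soon as `det M` is a nonzerodivisor
of `D`.
-/

set_option autoImplicit false
universe u
open CategoryTheory CategoryTheory.Limits AlgebraicGeometry Opposite TopologicalSpace
open Groth.Agent.Lib.OXModTensor Groth.Agent.Lib.StructureModule Groth.Agent.Lib.H90Invertible
open Groth.Agent.Lib.H78TensorGen Groth.Agent.Lib.H78SecCoord Groth.Agent.Lib.LocFreeBasis48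
open Groth.Agent.Lib.H90OXModSections Groth.Agent.Lib.H90DevCanon Groth.Agent.Lib.H90DevAtom
open Groth.Agent.Lib.DetSec42 Groth.Agent.Lib.ZeroDimDev42

namespace Groth.Agent.Lib.HubCoker42

section Alg

variable {R D : Type u} [CommRing R] [CommRing D] [Algebra R D] {n : ℕ}

/-- the `R`-linear endomorphism of `D^n` given by the transpose of a matrix over `R` -/
noncomputable def mu (M : Matrix (Fin n) (Fin n) R) : (Fin n → D) →ₗ[R] (Fin n → D) where
  toFun x := fun j => ∑ i, M i j • x i
  map_add' x y := by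
    funext j
    simp only [Pi.add_apply, smul_add, Finset.sum_add_distrib]
  map_smul' r x := by
    funext j
    simp only [Pi.smul_apply, RingHom.id_apply, Finset.smul_sum]
    refine Finset.sum_congr rfl (fun i _ => ?_)
    rw [smul_comm]

lemma mu_eq_toLin' (M : Matrix (Fin n) (Fin n) R) (x : Fin n → D) :
    mu M x = Matrix.toLin' (M.map (algebraMap R D)).transpose x := by
  funext j
  rw [Matrix.toLin'_apply, Matrix.mulVec, dotProduct]
  change ∑ i, M i j • x i = _
  refine Finset.sum_congr rfl (fun i _ => ?_)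
  rw [Matrix.transpose_apply, Matrix.map_apply, Algebra.smul_def]

lemma mu_injective (M : Matrix (Fin n) (Fin n) R)
    (h : algebraMap R D M.det ∈ nonZeroDivisors D) : Function.Injective (mu (D := D) M) := by
  have h1 : (M.map (algebraMap R D)).transpose.det ∈ nonZeroDivisors D := by
    rw [Matrix.det_transpose]
    have : (M.map (algebraMap R D)).det = algebraMap R D M.det :=
      (RingHom.map_det (algebraMap R D) M).symm
    rw [this]
    exact h
  have h2 := Matrix.mulVec_injective_of_det_mem_nonZeroDivisors h1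
  intro x y hxy
  apply h2
  rw [mu_eq_toLin', mu_eq_toLin', Matrix.toLin'_apply, Matrix.toLin'_apply] at hxy
  exact hxy

lemma length_coker_mu [IsNoetherianRing D] (hσ : Function.Surjective (algebraMap R D))
    (M : Matrix (Fin n) (Fin n) R) (h : algebraMap R D M.det ∈ nonZeroDivisors D) :
    Module.length R ((Fin n → D) ⧸ LinearMap.range (mu (D := D) M)) =
      Ring.ord D (algebraMap R D M.det) := by
  let φ : (Fin n → D) →ₗ[D] (Fin n → D) := Matrix.toLin' (M.map (algebraMap R D)).transpose
  have hdet : LinearMap.det φ = algebraMap R D M.det := by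
    rw [LinearMap.det_toLin', Matrix.det_transpose]
    exact (RingHom.map_det (algebraMap R D) M).symm
  have hr : LinearMap.range (mu (D := D) M) = (LinearMap.range φ).restrictScalars R := by
    ext y
    constructor
    · rintro ⟨x, rfl⟩
      exact ⟨x, (mu_eq_toLin' M x).symm⟩
    · rintro ⟨x, rfl⟩
      exact ⟨x, mu_eq_toLin' M x⟩
  rw [hr, (Submodule.Quotient.restrictScalarsEquiv R (LinearMap.range φ)).length_eq,
    Module.length_eq_of_surjective (R := D) (S := R) hσ,
    Groth.Agent.Lib.DetLength.length_coker_eq_ord (Pi.basisFun D (Fin n)) φ (by rw [hdet]; exact h), hdet]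

end Alg

section LinAlg

variable {R : Type*} [CommRing R] {A B C P : Type*} [AddCommGroup A] [AddCommGroup B] [AddCommGroup C]
  [AddCommGroup P] [Module R A] [Module R B] [Module R C] [Module R P]

lemma length_of_exact_of_comm (f : A →ₗ[R] B) (g : B →ₗ[R] C) (hg : Function.Surjective g)
    (hex : Function.Exact f g) (cO : P → A) (hcO : Function.Surjective cO) (cF : P ≃ₗ[R] B)
    (μ : P →ₗ[R] P) (hcomm : ∀ x, f (cO x) = cF (μ x)) :
    Module.length R C = Module.length R (P ⧸ LinearMap.range μ) := by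
  have hker : LinearMap.ker g = LinearMap.range f := LinearMap.exact_iff.mp hex
  have hmap : (LinearMap.range μ).map cF.toLinearMap = LinearMap.range f := by
    ext y
    constructor
    · rintro ⟨_, ⟨x, rfl⟩, rfl⟩
      exact ⟨cO x, hcomm x⟩
    · rintro ⟨a, rfl⟩
      obtain ⟨x, rfl⟩ := hcO a
      exact ⟨μ x, ⟨x, rfl⟩, (hcomm x).symm⟩
  have e1 : (B ⧸ LinearMap.ker g) ≃ₗ[R] C := LinearMap.quotKerEquivOfSurjective g hg
  have e2 : (B ⧸ LinearMap.ker g) ≃ₗ[R] (B ⧸ LinearMap.range f) := Submodule.quotEquivOfEq _ _ hker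
  have e3 : (P ⧸ LinearMap.range μ) ≃ₗ[R] (B ⧸ LinearMap.range f) :=
    Submodule.Quotient.equiv (LinearMap.range μ) (LinearMap.range f) cF hmap
  rw [← e1.length_eq, e2.length_eq, ← e3.length_eq]

lemma injective_of_comm (f : A →ₗ[R] B) (cO : P → A) (hcO : Function.Surjective cO)
    (hcO0 : cO 0 = 0) (cF : P ≃ₗ[R] B)
    (μ : P →ₗ[R] P) (hcomm : ∀ x, f (cO x) = cF (μ x)) (hμ : Function.Injective μ) :
    Function.Injective f := by
  rw [injective_iff_map_eq_zero]
  intro a ha
  obtain ⟨x, rfl⟩ := hcO a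
  rw [hcomm] at ha
  have h1 : μ x = 0 := by
    have := cF.injective (ha.trans (map_zero cF).symm)
    exact this
  have h2 : x = 0 := hμ (h1.trans (map_zero μ).symm)
  rw [h2, hcO0]

end LinAlg

variable {X : Scheme.{u}} {n : ℕ} {E : X.Modules}

/-- the map `O^n ⟶ E` given by `n` global sections -/
noncomputable def psi (s : Fin n → (Coh.structureModule X ⟶ E)) : FlatMod.freeMod X n ⟶ E :=
  Sigma.desc s

/-- the standard sections of `O^n` -/
noncomputable def std (n : ℕ) (W : X.Opens) (i : Fin n) : Γ(FlatMod.freeMod X n, W) :=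
  (Sigma.ι (fun _ : Fin n => Coh.structureModule X) i).app W (toSec W 1)

lemma psi_std (s : Fin n → (Coh.structureModule X ⟶ E)) (W : X.Opens) (i : Fin n) :
    (psi s).app W (std n W i) = rs E le_top (sec (s i)) := by
  change ((Sigma.ι (fun _ : Fin n => Coh.structureModule X) i) ≫ psi s).app W (toSec W 1) = _
  rw [psi, Sigma.ι_desc, app_toSec, one_smul]

/-- `G ⊗ O^n ⟶ G ⊗ E` -/
noncomputable def Psi (G : X.Modules) (s : Fin n → (Coh.structureModule X ⟶ E)) :
    CohB1.tensorMod G (FlatMod.freeMod X n) ⟶ CohB1.tensorMod G E :=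
  tensorModMap (𝟙 G) (psi s)

lemma tmul_zero_right (M N : X.Modules) {V : X.Opens} (x : Γ(M, V)) : tmul x (0 : Γ(N, V)) = 0 := by
  have h := tmul_smul (0 : Γ(X, V)) x (0 : Γ(N, V))
  rw [zero_smul, zero_smul] at h
  exact h

lemma tmul_sum_right {M N : X.Modules} {V : X.Opens} {ι : Type*} (S : Finset ι) (x : Γ(M, V))
    (y : ι → Γ(N, V)) : tmul x (∑ i ∈ S, y i) = ∑ i ∈ S, tmul x (y i) := by
  classical
  induction S using Finset.induction_on with
  | empty => simp [tmul_zero_right]
  | insert a S ha ih => rw [Finset.sum_insert ha, Finset.sum_insert ha, tmul_add_right, ih]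

section Local

variable (G : X.Modules) {F : X.Modules} (s : Fin n → (Coh.structureModule X ⟶ F))
  {W : X.Opens} {e : Fin n → Γ(F, W)} (he : IsBasis F W e)
  (M : Matrix (Fin n) (Fin n) Γ(X, W))
  (hM : ∀ i, rs F le_top (sec (s i)) = ∑ j, M i j • e j)

/-- coordinates on `G ⊗ O^n` -/
noncomputable def cO (W : X.Opens) (x : Fin n → Γ(G, W)) :
    Γ(CohB1.tensorMod G (FlatMod.freeMod X n), W) :=
  ∑ i, tmul (x i) (std n W i)

/-- coordinates on `G ⊗ F` -/
noncomputable def cF (e : Fin n → Γ(F, W)) : (Fin n → Γ(G, W)) →ₗ[Γ(X, W)] Γ(CohB1.tensorMod G F, W) where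
  toFun x := ∑ j, tmul (x j) (e j)
  map_add' x y := by
    simp only [Pi.add_apply, tmul_add_left, Finset.sum_add_distrib]
  map_smul' r x := by
    simp only [Pi.smul_apply, smul_tmul, RingHom.id_apply, Finset.smul_sum]

lemma cO_bijective (W : X.Opens) : Function.Bijective (cO (n := n) G W) := by
  have h := tmul_basis_bijective G (isBasis_freeMod (X := X) n W) (le_refl W)
  convert h using 2 with x
  change ∑ i, tmul (x i) (std n W i) = _
  refine Finset.sum_congr rfl (fun i _ => ?_)
  rw [rs_self]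
  rfl

include he in
lemma cF_bijective : Function.Bijective (cF G e) := by
  have h := tmul_basis_bijective G he (le_refl W)
  convert h using 2 with x
  change ∑ i, tmul (x i) (e i) = _
  refine Finset.sum_congr rfl (fun i _ => ?_)
  rw [rs_self]

include hM in
lemma Psi_cO (x : Fin n → Γ(G, W)) :
    (Psi G s).app W (cO G W x) = cF G e (fun j => ∑ i, M i j • x i) := by
  change (Psi G s).app W (∑ i, tmul (x i) (std n W i)) = ∑ j, tmul (∑ i, M i j • x i) (e j)
  rw [map_sum]
  have h1 : ∀ i, (Psi G s).app W (tmul (x i) (std n W i)) = ∑ j, tmul (M i j • x i) (e j) := by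
    intro i
    rw [Psi, Groth.Agent.Lib.CurveSerreVan54.tensorModMap_tmul, psi_std, hM, tmul_sum_right]
    refine Finset.sum_congr rfl (fun j _ => ?_)
    rw [tmul_smul, smul_tmul]
    rfl
  simp_rw [h1]
  rw [Finset.sum_comm]
  refine Finset.sum_congr rfl (fun j _ => ?_)
  rw [tmul_sum_left]

end Local

section Hub

variable (Zc : Closeds X) {F : X.Modules} (s : Fin n → (Coh.structureModule X ⟶ F))
  {W : X.Opens} (hW : IsAffineOpen W) {e : Fin n → Γ(F, W)} (he : IsBasis F W e)
  (M : Matrix (Fin n) (Fin n) Γ(X, W))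
  (hM : ∀ i, rs F le_top (sec (s i)) = ∑ j, M i j • e j)

/-- functions on the trace of `W` on the reduced closed subscheme -/
abbrev DD (Zc : Closeds X) (W : X.Opens) : Type u := Γ(ZZ Zc, (iZ Zc) ⁻¹ᵁ W)

/-- restriction of functions to the closed subscheme -/
noncomputable def sig (Zc : Closeds X) (W : X.Opens) : Γ(X, W) →+* DD Zc W := ((iZ Zc).app W).hom

include hW in
lemma sig_surjective : Function.Surjective (sig Zc W) :=
  (Scheme.IdealSheafData.vanishingIdeal Zc).subschemeι_app_surjective ⟨W, hW⟩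

/-- the identification `D^n ≃ Γ(hub, W)^n` -/
noncomputable def eD (Zc : Closeds X) (W : X.Opens) (n : ℕ) :
    letI : Algebra Γ(X, W) (DD Zc W) := (sig Zc W).toAlgebra
    (Fin n → DD Zc W) ≃ₗ[Γ(X, W)] (Fin n → Γ(hub Zc, W)) :=
  letI : Algebra Γ(X, W) (DD Zc W) := (sig Zc W).toAlgebra
  { toFun := fun d j => ofFun (iZ Zc) W (d j)
    invFun := fun w j => w j
    left_inv := fun _ => rfl
    right_inv := fun _ => rfl
    map_add' := fun _ _ => rfl
    map_smul' := fun _ _ => rfl }

lemma eD_mu (x : Fin n → DD Zc W) :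
    letI : Algebra Γ(X, W) (DD Zc W) := (sig Zc W).toAlgebra
    eD Zc W n (mu M x) = fun j => ∑ i, M i j • (eD Zc W n x) i := by
  letI : Algebra Γ(X, W) (DD Zc W) := (sig Zc W).toAlgebra
  funext j
  let φ : DD Zc W →+ Γ(hub Zc, W) :=
    { toFun := fun d => ofFun (iZ Zc) W d, map_zero' := rfl, map_add' := fun _ _ => rfl }
  change φ (∑ i, M i j • x i) = ∑ i, M i j • φ (x i)
  rw [map_sum]
  rfl

include he hM in
theorem Psi_app_injective (hdet : sig Zc W M.det ∈ nonZeroDivisors (DD Zc W)) :
    Function.Injective ((Psi (hub Zc) s).app W) := by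
  letI : Algebra Γ(X, W) (DD Zc W) := (sig Zc W).toAlgebra
  have hμ : Function.Injective (mu (D := DD Zc W) M) := mu_injective M hdet
  let cFe : (Fin n → DD Zc W) ≃ₗ[Γ(X, W)] Γ(CohB1.tensorMod (hub Zc) F, W) :=
    (eD Zc W n).trans (LinearEquiv.ofBijective (cF (hub Zc) e) (cF_bijective (hub Zc) he))
  have hinj := injective_of_comm (appLin (Psi (hub Zc) s) W) (fun x => cO (hub Zc) W (eD Zc W n x))
    (fun a => by
      obtain ⟨x, rfl⟩ := (cO_bijective (n := n) (hub Zc) W).2 a
      exact ⟨(eD Zc W n).symm x, congrArg (cO (hub Zc) W) ((eD Zc W n).apply_symm_apply x)⟩)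
    (by
      change cO (hub Zc) W (eD Zc W n 0) = 0
      rw [map_zero]
      change ∑ i, tmul (0 : Γ(hub Zc, W)) (std n W i) = 0
      simp [tmul_zero_left])
    cFe (mu M)
    (fun x => by
      change (Psi (hub Zc) s).app W (cO (hub Zc) W (eD Zc W n x)) = cF (hub Zc) e (eD Zc W n (mu M x))
      rw [Psi_cO (hub Zc) s M hM, eD_mu])
    hμ
  exact hinj

include hW he hM in
theorem slen_cokernel [IsLocallyNoetherian X]
    [(CohB1.tensorMod (hub Zc) (FlatMod.freeMod X n)).IsQuasicoherent]
    [(CohB1.tensorMod (hub Zc) F).IsQuasicoherent]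
    (hdet : sig Zc W M.det ∈ nonZeroDivisors (DD Zc W)) :
    slen W (cokernel (Psi (hub Zc) s)) = Ring.ord (DD Zc W) (sig Zc W M.det) := by
  letI : Algebra Γ(X, W) (DD Zc W) := (sig Zc W).toAlgebra
  haveI : IsNoetherianRing Γ(X, W) := IsLocallyNoetherian.component_noetherian ⟨W, hW⟩
  haveI : IsNoetherianRing (DD Zc W) :=
    isNoetherianRing_of_surjective Γ(X, W) (DD Zc W) (sig Zc W) (sig_surjective Zc hW)
  let cFe : (Fin n → DD Zc W) ≃ₗ[Γ(X, W)] Γ(CohB1.tensorMod (hub Zc) F, W) :=
    (eD Zc W n).trans (LinearEquiv.ofBijective (cF (hub Zc) e) (cF_bijective (hub Zc) he))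
  haveI := Groth.Agent.Lib.H90OXModExact.isQuasicoherent_cokernel (Psi (hub Zc) s)
  have hg : Function.Surjective (appLin (cokernel.π (Psi (hub Zc) s)) W) :=
    Groth.Agent.Lib.H90OXModExact.surjective_app_of_epi (cokernel.π (Psi (hub Zc) s)) hW
  have hex : Function.Exact (appLin (Psi (hub Zc) s) W) (appLin (cokernel.π (Psi (hub Zc) s)) W) := by
    intro y
    constructor
    · intro hy
      obtain ⟨t, ht⟩ := Groth.Agent.Lib.H90OXModExact.sections_exact_of_isAffineOpen
        (S := ShortComplex.mk (Psi (hub Zc) s) (cokernel.π (Psi (hub Zc) s)) (cokernel.condition _))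
        (ShortComplex.exact_cokernel (Psi (hub Zc) s)) hW y hy
      exact ⟨t, ht⟩
    · rintro ⟨t, rfl⟩
      change (Psi (hub Zc) s ≫ cokernel.π (Psi (hub Zc) s)).app W t = 0
      rw [cokernel.condition]
      rfl
  have hlen := length_of_exact_of_comm (appLin (Psi (hub Zc) s) W)
    (appLin (cokernel.π (Psi (hub Zc) s)) W) hg hex (fun x => cO (hub Zc) W (eD Zc W n x))
    (fun a => by
      obtain ⟨x, rfl⟩ := (cO_bijective (n := n) (hub Zc) W).2 a
      exact ⟨(eD Zc W n).symm x, congrArg (cO (hub Zc) W) ((eD Zc W n).apply_symm_apply x)⟩)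
    cFe (mu M)
    (fun x => by
      change (Psi (hub Zc) s).app W (cO (hub Zc) W (eD Zc W n x)) = cF (hub Zc) e (eD Zc W n (mu M x))
      rw [Psi_cO (hub Zc) s M hM, eD_mu])
  rw [slen, hlen]
  exact length_coker_mu (sig_surjective Zc hW) M hdet

end Hub

/-- a morphism which is injective on a basis of opens is a monomorphism -/
theorem mono_of_basis {N N' : X.Modules} (φ : N ⟶ N') (B : Set X.Opens) (hB : Opens.IsBasis B)
    (h : ∀ V ∈ B, Function.Injective (φ.app V)) : Mono φ := by
  have hinj : ∀ W : X.Opens, Function.Injective (φ.app W) := by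
    intro W
    rw [injective_iff_map_eq_zero]
    intro s hs
    obtain ⟨Us, hUs, hW⟩ := Opens.isBasis_iff_cover.mp hB W
    have hle : ∀ V : Us, V.1 ≤ W := fun V => by rw [hW]; exact le_sSup V.2
    apply Groth.Agent.Lib.H90OXModQcqs.res_ext N W (fun V : Us => V.1) hle
      (by rw [hW, sSup_eq_iSup'])
    intro V
    rw [Groth.Agent.Lib.QCohStalk.res_zero]
    apply h V.1 (hUs V.2)
    rw [map_zero]
    have nat := congr($(φ.mapPresheaf.naturality (homOfLE (hle V)).op) s)
    change φ.app V.1 (N.presheaf.map (homOfLE (hle V)).op s) =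
      N'.presheaf.map (homOfLE (hle V)).op (φ.app W s) at nat
    rw [hs, map_zero] at nat
    exact nat
  haveI : Mono ((Scheme.Modules.toPresheaf X).map φ) := by
    apply (config := { allowSynthFailures := true }) NatTrans.mono_of_mono_app
    intro W
    exact (AddCommGrpCat.mono_iff_injective _).mpr (hinj W.unop)
  exact (Scheme.Modules.toPresheaf X).mono_of_mono_map inferInstance

end Groth.Agent.Lib.HubCoker42
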