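import Mathlib
import Groth.Agent.Lib.UnobsG5

/-!
# Hyperplane quotients of a semismall extension and the linearity of the `T²` obstruction (helper1)

For a surjection `p : A' → A` of augmented local rings whose kernel `I` is killed by the maximal ideal, and a `k`-linear
functional `Λ` on `A'` with `Λ t = 1` for some `t ∈ I`, the quotient `A' ⧸ (I ∩ ker Λ) → A` is a small extension
(`mkD`).  The obstruction cocycles (`UnobsG.obL2`) of these small extensions, computed from a common choice of lifted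
equations, depend linearly on `Λ` (`obL2_comb`).
-/

set_option autoImplicit false
set_option linter.unusedVariables false
set_option linter.unusedSectionVars false
set_option linter.style.haveILetI false

universe u

open TensorProduct Function IsLocalRing MvPolynomial

namespace Groth.Agent.Lib.HullDim

open Groth.Agent.Lib.UnobsG

section W

variable {k : Type u} [Field k] {A' : Type u} [CommRing A'] [Algebra k A'] {ι : Type u}

/-- apply a `k`-linear functional coefficientwise -/
noncomputable def W (Λ : A' →ₗ[k] k) (x : MvPolynomial ι A') : MvPolynomial ι k :=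
  ∑ m ∈ x.support, monomial m (Λ (coeff m x))

theorem coeff_W (Λ : A' →ₗ[k] k) (x : MvPolynomial ι A') (m : ι →₀ ℕ) :
    coeff m (W Λ x) = Λ (coeff m x) := by
  classical
  unfold W
  rw [coeff_sum]
  simp only [coeff_monomial]
  rw [Finset.sum_ite_eq']
  split_ifs with h
  · rfl
  · rw [notMem_support_iff.1 h, map_zero]

theorem W_comb {n : ℕ} (c : Fin n → k) (Λs : Fin n → A' →ₗ[k] k) (Λ : A' →ₗ[k] k)
    (x : MvPolynomial ι A')
    (h : ∀ m, Λ (coeff m x) = ∑ j, c j * Λs j (coeff m x)) :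
    W Λ x = ∑ j, c j • W (Λs j) x := by
  ext m
  rw [coeff_W, coeff_sum, h]
  refine Finset.sum_congr rfl fun j _ => ?_
  rw [coeff_smul, coeff_W, smul_eq_mul]

end W

section Quot

variable {A' : Type u} [CommRing A'] [IsLocalRing A']

theorem isLocalRing_quot (K : Ideal A') (hK : K ≤ maximalIdeal A') : IsLocalRing (A' ⧸ K) :=
  have : Nontrivial (A' ⧸ K) := Ideal.Quotient.nontrivial_iff.2
    (fun h => (maximalIdeal.isMaximal A').ne_top (top_le_iff.1 (h ▸ hK)))
  IsLocalRing.of_surjective' (Ideal.Quotient.mk K) Ideal.Quotient.mk_surjective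

theorem mk_mem_max_iff (K : Ideal A') (hK : K ≤ maximalIdeal A') [IsLocalRing (A' ⧸ K)] (a : A') :
    Ideal.Quotient.mk K a ∈ maximalIdeal (A' ⧸ K) ↔ a ∈ maximalIdeal A' := by
  constructor
  · intro h
    rw [mem_maximalIdeal, mem_nonunits_iff] at h ⊢
    exact fun hu => h (hu.map (Ideal.Quotient.mk K))
  · intro h
    rw [mem_maximalIdeal, mem_nonunits_iff]
    intro hu
    obtain ⟨b', hb'⟩ := hu.exists_right_inv
    obtain ⟨b, rfl⟩ := Ideal.Quotient.mk_surjective b'
    rw [← map_mul, ← map_one (Ideal.Quotient.mk K), Ideal.Quotient.eq] at hb'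
    have h1 : a * b ∈ maximalIdeal A' := Ideal.mul_mem_right _ _ h
    have h2 : (1 : A') ∈ maximalIdeal A' := by
      have := Ideal.sub_mem _ h1 (hK hb')
      rwa [sub_sub_cancel] at this
    exact (maximalIdeal.isMaximal A').ne_top ((Ideal.eq_top_iff_one _).2 h2)

theorem isNilpotent_max_quot (K : Ideal A') (hK : K ≤ maximalIdeal A') [IsLocalRing (A' ⧸ K)]
    (hnil : IsNilpotent (maximalIdeal A')) : IsNilpotent (maximalIdeal (A' ⧸ K)) := by
  obtain ⟨N, hN⟩ := hnil
  refine ⟨N, ?_⟩
  have hle : maximalIdeal (A' ⧸ K) ≤ (maximalIdeal A').map (Ideal.Quotient.mk K) := by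
    intro x hx
    obtain ⟨a, rfl⟩ := Ideal.Quotient.mk_surjective x
    exact Ideal.mem_map_of_mem _ ((mk_mem_max_iff K hK a).1 hx)
  have h2 := Ideal.pow_right_mono hle N
  rw [← Ideal.map_pow, hN, Ideal.zero_eq_bot, Ideal.map_bot] at h2
  exact le_bot_iff.1 h2

end Quot

section QDataDef

variable {k : Type u} [Field k] {A' A : Type u} [CommRing A'] [CommRing A] [IsLocalRing A']
  [IsLocalRing A] [Algebra k A']

/-- a small quotient of a semismall extension together with a functional computing the quotient map on the kernel -/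
structure QData (p : A' →+* A) (res' : A' →+* k) (A₁ : Type u) [CommRing A₁] [IsLocalRing A₁] where
  /-- the small extension -/
  D : SmallData k A₁ A
  /-- the quotient map -/
  q : A' →+* A₁
  /-- the functional -/
  Λ : A' →ₗ[k] k
  p_q : ∀ a, D.p (q a) = p a
  res_q : ∀ a, D.res' (q a) = res' a
  q_ker : ∀ x, p x = 0 → q x = q (algebraMap k A' (Λ x)) * D.t

end QDataDef

section MkQ

variable {k : Type u} [Field k] {A' A : Type u} [CommRing A'] [CommRing A] [IsLocalRing A']
  [IsLocalRing A] [Algebra k A']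
  (p : A' →+* A) (hp : Surjective p) (res : A →+* k) (res_surj : Surjective res)
  (ker_res : RingHom.ker res = maximalIdeal A)
  (ker_res' : RingHom.ker (res.comp p) = maximalIdeal A')
  (nilA : IsNilpotent (maximalIdeal A)) (nilA' : IsNilpotent (maximalIdeal A'))
  (hresalg : ∀ c : k, res (p (algebraMap k A' c)) = c)
  (hsemi : ∀ a ∈ maximalIdeal A', ∀ x, p x = 0 → a * x = 0)
  (Λ : A' →ₗ[k] k)

include ker_res' hresalg hsemi in
theorem mul_eq_smul (a x : A') (hx : p x = 0) : a * x = (res (p a)) • x := by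
  have h1 : a - algebraMap k A' (res (p a)) ∈ maximalIdeal A' := by
    rw [← ker_res', RingHom.mem_ker, map_sub]
    change res (p a) - res (p (algebraMap k A' (res (p a)))) = 0
    rw [hresalg, sub_self]
  have h2 := hsemi _ h1 x hx
  rw [sub_mul, sub_eq_zero] at h2
  rw [h2, Algebra.smul_def]

include ker_res' in
theorem ker_le_max : RingHom.ker p ≤ maximalIdeal A' := by
  intro x hx
  rw [← ker_res', RingHom.mem_ker]
  change res (p x) = 0
  rw [RingHom.mem_ker.1 hx, map_zero]

/-- the ideal `ker p ∩ ker Λ` -/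
def KΛ : Ideal A' where
  carrier := {x | p x = 0 ∧ Λ x = 0}
  add_mem' := by
    intro x y hx hy
    exact ⟨by rw [map_add, hx.1, hy.1, add_zero], by rw [map_add, hx.2, hy.2, add_zero]⟩
  zero_mem' := ⟨map_zero _, map_zero _⟩
  smul_mem' := by
    intro a x hx
    have h := mul_eq_smul p res ker_res' hresalg hsemi a x hx.1
    change p (a * x) = 0 ∧ Λ (a * x) = 0
    refine ⟨by rw [map_mul, hx.1, mul_zero], ?_⟩
    rw [h, map_smul, hx.2, smul_zero]

theorem mem_KΛ (x : A') : x ∈ KΛ p res ker_res' hresalg hsemi Λ ↔ p x = 0 ∧ Λ x = 0 := Iff.rfl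

theorem KΛ_le_ker : KΛ p res ker_res' hresalg hsemi Λ ≤ RingHom.ker p := fun x hx => hx.1

theorem KΛ_le_max : KΛ p res ker_res' hresalg hsemi Λ ≤ maximalIdeal A' :=
  (KΛ_le_ker p res ker_res' hresalg hsemi Λ).trans (ker_le_max p res ker_res')

instance instLocalQuot : IsLocalRing (A' ⧸ KΛ p res ker_res' hresalg hsemi Λ) :=
  isLocalRing_quot _ (KΛ_le_max p res ker_res' hresalg hsemi Λ)

/-- the small extension `A' ⧸ (ker p ∩ ker Λ) → A` -/
noncomputable def mkD (t : A') (ht : p t = 0) (hΛt : Λ t = 1) :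
    SmallData k (A' ⧸ KΛ p res ker_res' hresalg hsemi Λ) A where
  p := Ideal.Quotient.lift _ p (fun x hx => hx.1)
  res := res
  t := Ideal.Quotient.mk _ t
  p_surj := fun a => by
    obtain ⟨a', rfl⟩ := hp a
    exact ⟨Ideal.Quotient.mk _ a', Ideal.Quotient.lift_mk _ _ _⟩
  res_surj := res_surj
  ker_res := ker_res
  ker_res' := by
    ext x
    obtain ⟨a, rfl⟩ := Ideal.Quotient.mk_surjective x
    rw [mk_mem_max_iff _ (KΛ_le_max p res ker_res' hresalg hsemi Λ), ← ker_res', RingHom.mem_ker,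
      RingHom.mem_ker]
    rfl
  nilA := nilA
  nilA' := isNilpotent_max_quot _ (KΛ_le_max p res ker_res' hresalg hsemi Λ) nilA'
  ker_p := by
    apply le_antisymm
    · intro x hx
      obtain ⟨a, rfl⟩ := Ideal.Quotient.mk_surjective x
      have ha : p a = 0 := by rwa [RingHom.mem_ker, Ideal.Quotient.lift_mk] at hx
      rw [Ideal.mem_span_singleton']
      refine ⟨Ideal.Quotient.mk _ (algebraMap k A' (Λ a)), ?_⟩
      rw [← map_mul, eq_comm, Ideal.Quotient.eq]
      refine ⟨by rw [map_sub, ha, map_mul, ht, mul_zero, sub_zero], ?_⟩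
      rw [map_sub, ← Algebra.smul_def, map_smul, hΛt, smul_eq_mul, mul_one, sub_self]
    · rw [Ideal.span_le]
      rintro _ rfl
      rw [SetLike.mem_coe, RingHom.mem_ker, Ideal.Quotient.lift_mk, ht]
  t_ne := by
    intro h
    rw [Ideal.Quotient.eq_zero_iff_mem] at h
    have h2 := h.2
    rw [hΛt] at h2
    exact one_ne_zero h2
  t_mul := by
    intro a ha
    obtain ⟨a', rfl⟩ := Ideal.Quotient.mk_surjective a
    rw [mk_mem_max_iff _ (KΛ_le_max p res ker_res' hresalg hsemi Λ)] at ha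
    rw [← map_mul, hsemi a' ha t ht, map_zero]

/-- the quotient datum of `Λ` -/
noncomputable def mkQ (t : A') (ht : p t = 0) (hΛt : Λ t = 1) :
    QData p (res.comp p) (A' ⧸ KΛ p res ker_res' hresalg hsemi Λ) where
  D := mkD p hp res res_surj ker_res ker_res' nilA nilA' hresalg hsemi Λ t ht hΛt
  q := Ideal.Quotient.mk _
  Λ := Λ
  p_q := fun a => Ideal.Quotient.lift_mk _ _ _
  res_q := fun a => rfl
  q_ker := by
    intro x hx
    change Ideal.Quotient.mk _ x = Ideal.Quotient.mk _ (algebraMap k A' (Λ x)) * Ideal.Quotient.mk _ t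
    rw [← map_mul, Ideal.Quotient.eq]
    refine ⟨by rw [map_sub, hx, map_mul, ht, mul_zero, sub_zero], ?_⟩
    rw [map_sub, ← Algebra.smul_def, map_smul, hΛt, smul_eq_mul, mul_one, sub_self]

end MkQ

section QLemmas

variable {k : Type u} [Field k] {A' A : Type u} [CommRing A'] [CommRing A] [IsLocalRing A']
  [IsLocalRing A] [Algebra k A']
  {p : A' →+* A} {res' : A' →+* k} {A₁ : Type u} [CommRing A₁] [IsLocalRing A₁]
  (Q : QData p res' A₁) (hres' : ∀ c, res' (algebraMap k A' c) = c) {ι σ : Type u} [Fintype σ]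

include hres' in
theorem map_q_eq_tl (x : MvPolynomial ι A') (hx : MvPolynomial.map p x = 0) :
    MvPolynomial.map Q.q x = tl Q.D (W Q.Λ x) := by
  let y : MvPolynomial ι A₁ := MvPolynomial.map (Q.q.comp (algebraMap k A')) (W Q.Λ x)
  have hy : mapR Q.D.res' y = W Q.Λ x := by
    change MvPolynomial.map Q.D.res' (MvPolynomial.map (Q.q.comp (algebraMap k A')) (W Q.Λ x)) = _
    rw [MvPolynomial.map_map]
    have h1 : (Q.D.res'.comp (Q.q.comp (algebraMap k A'))) = RingHom.id k := RingHom.ext fun c => by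
      change Q.D.res' (Q.q (algebraMap k A' c)) = c
      rw [Q.res_q, hres']
    rw [h1, MvPolynomial.map_id]
  have hxy : MvPolynomial.map Q.q x = C Q.D.t * y := by
    ext m
    rw [coeff_map, coeff_C_mul, coeff_map, coeff_W]
    have h0 : p (coeff m x) = 0 := by
      have h := congrArg (coeff m) hx
      rwa [coeff_map, coeff_zero] at h
    rw [Q.q_ker _ h0, mul_comm]
    rfl
  rw [hxy, ← hy, tl_mapR]

variable (F' : σ → MvPolynomial ι A')

/-- the equations over the quotient -/
noncomputable def QData.F (s : σ) : MvPolynomial ι A₁ := MvPolynomial.map Q.q (F' s)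

theorem mapP_QF (s : σ) : mapP Q.D (Q.F F' s) = MvPolynomial.map p (F' s) := by
  unfold QData.F mapP
  rw [MvPolynomial.map_map]
  have h : Q.D.p.comp Q.q = p := RingHom.ext Q.p_q
  rw [h]

theorem mapR_QF (s : σ) : mapR Q.D.res' (Q.F F' s) = MvPolynomial.map res' (F' s) := by
  unfold QData.F mapR
  rw [MvPolynomial.map_map]
  have h : Q.D.res'.comp Q.q = res' := RingHom.ext Q.res_q
  rw [h]

include hres' in
theorem obRel_Q (qq : σ → MvPolynomial ι k) (r' : σ → MvPolynomial ι A')
    (hr' : ∀ s, MvPolynomial.map res' (r' s) = qq s)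
    (hx : MvPolynomial.map p (∑ s, r' s * F' s) = 0) :
    ObRel Q.D (Q.F F') qq (W Q.Λ (∑ s, r' s * F' s)) := by
  refine ⟨fun s => MvPolynomial.map Q.q (r' s), fun s => ?_, ?_⟩
  · rw [← hr' s]
    unfold mapR
    rw [MvPolynomial.map_map]
    have h : Q.D.res'.comp Q.q = res' := RingHom.ext Q.res_q
    rw [h]
  · rw [← map_q_eq_tl Q hres' _ hx, map_sum]
    refine Finset.sum_congr rfl fun s _ => ?_
    rw [map_mul]
    rfl

end QLemmas

section Common

variable {k : Type u} [Field k] {A' A : Type u} [CommRing A'] [CommRing A] [IsLocalRing A']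
  [IsLocalRing A] {ι σ : Type u} [Fintype σ]
  (p : A' →+* A) (hp : Surjective p) (res : A →+* k) (res_surj : Surjective res)
  (ker_res : RingHom.ker res = maximalIdeal A)
  (F' : σ → MvPolynomial ι A')
  (hFflat : Module.Flat A
    (MvPolynomial ι A ⧸ Ideal.span (Set.range (fun s => MvPolynomial.map p (F' s)))))

include hp res_surj ker_res hFflat in
theorem exists_common_lift (qq : σ → MvPolynomial ι k)
    (hq : ∑ s, qq s * MvPolynomial.map (res.comp p) (F' s) = 0) :
    ∃ r' : σ → MvPolynomial ι A', (∀ s, MvPolynomial.map (res.comp p) (r' s) = qq s) ∧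
      MvPolynomial.map p (∑ s, r' s * F' s) = 0 := by
  have hq' : ∑ s, qq s * mapR res (MvPolynomial.map p (F' s)) = 0 := by
    rw [← hq]
    refine Finset.sum_congr rfl fun s _ => ?_
    unfold mapR
    rw [MvPolynomial.map_map]
  obtain ⟨r, hr1, hr2⟩ := exists_lift_relation res res_surj ker_res
    (fun s => MvPolynomial.map p (F' s)) hFflat qq hq'
  choose r' hr' using fun s => MvPolynomial.map_surjective p hp (r s)
  refine ⟨r', fun s => ?_, ?_⟩
  · rw [← hr1 s, ← hr' s]
    unfold mapR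
    rw [MvPolynomial.map_map]
  · rw [map_sum, ← hr2]
    exact Finset.sum_congr rfl fun s _ => by rw [map_mul, hr']

end Common

section Class

variable {k : Type u} [Field k] {B₀ : Type u} [CommRing B₀] [Algebra k B₀] {ι σ : Type u}
  [Fintype σ] (P : Algebra.Presentation k B₀ ι σ)
  {A' A : Type u} [CommRing A'] [CommRing A] [IsLocalRing A'] [IsLocalRing A] [Algebra k A']
  (p : A' →+* A) (hp : Surjective p) (res : A →+* k) (res_surj : Surjective res)
  (ker_res : RingHom.ker res = maximalIdeal A)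
  (hresalg : ∀ c : k, res (p (algebraMap k A' c)) = c)
  (F' : σ → MvPolynomial ι A')
  (hFflat : Module.Flat A
    (MvPolynomial ι A ⧸ Ideal.span (Set.range (fun s => MvPolynomial.map p (F' s)))))
  (hrel : ∀ s, MvPolynomial.map (res.comp p) (F' s) = P.relation s)

include hFflat in
theorem QData.h1 {A₁ : Type u} [CommRing A₁] [IsLocalRing A₁] (Q : QData p (res.comp p) A₁) :
    Module.Flat A
      (MvPolynomial ι A ⧸ Ideal.span (Set.range (fun s => mapP Q.D (Q.F F' s)))) := by
  have h : (fun s => mapP Q.D (Q.F F' s)) = fun s => MvPolynomial.map p (F' s) :=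
    funext (mapP_QF Q F')
  rw [h]
  exact hFflat

include hrel in
theorem QData.h2 {A₁ : Type u} [CommRing A₁] [IsLocalRing A₁] (Q : QData p (res.comp p) A₁) :
    ∀ s, mapR Q.D.res' (Q.F F' s) = P.relation s := fun s => by
  rw [mapR_QF, hrel]

include hp res_surj ker_res hresalg hFflat hrel in
theorem exists_X : ∃ X : CotT.relKer P → MvPolynomial ι A',
    (∀ qk, MvPolynomial.map p (X qk) = 0) ∧
    ∀ (A₁ : Type u) [CommRing A₁] [IsLocalRing A₁] (Q : QData p (res.comp p) A₁)
      (h1 : Module.Flat A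
        (MvPolynomial ι A ⧸ Ideal.span (Set.range (fun s => mapP Q.D (Q.F F' s)))))
      (h2 : ∀ s, mapR Q.D.res' (Q.F F' s) = P.relation s) (qk : CotT.relKer P),
      obFun P Q.D (Q.F F') h1 h2 qk = aeval P.val (W Q.Λ (X qk)) := by
  have hq : ∀ qk : CotT.relKer P,
      ∑ s, coeffFun P qk.1 s * MvPolynomial.map (res.comp p) (F' s) = 0 := by
    intro qk
    have h : (CotT.jmap P qk.1 : MvPolynomial ι k) = 0 := qk.2
    rw [jmap_eq_sum] at h
    refine Eq.trans ?_ h
    exact Finset.sum_congr rfl fun s _ => by rw [hrel]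
  have hcl : ∀ qk : CotT.relKer P, ∃ r' : σ → MvPolynomial ι A',
      (∀ s, MvPolynomial.map (res.comp p) (r' s) = coeffFun P qk.1 s) ∧
        MvPolynomial.map p (∑ s, r' s * F' s) = 0 := fun qk =>
    exists_common_lift p hp res res_surj ker_res F' hFflat (coeffFun P qk.1) (hq qk)
  choose r' hr' hx using hcl
  refine ⟨fun qk => ∑ s, r' qk s * F' s, hx, ?_⟩
  intro A₁ _ _ Q h1 h2 qk
  have hres' : ∀ c, (res.comp p) (algebraMap k A' c) = c := hresalg
  have hob : ObRel Q.D (Q.F F') (coeffFun P qk.1) (W Q.Λ (∑ s, r' qk s * F' s)) :=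
    obRel_Q Q hres' F' (coeffFun P qk.1) (r' qk) (hr' qk) (hx qk)
  exact obFun_eq P Q.D (Q.F F') h1 h2 qk (W Q.Λ (∑ s, r' qk s * F' s)) hob

include hp res_surj ker_res hresalg hFflat hrel in
theorem obL2_comb {n : ℕ} {A₀ : Type u} [CommRing A₀] [IsLocalRing A₀]
    (Q : QData p (res.comp p) A₀)
    {A₁ : Fin n → Type u} [∀ j, CommRing (A₁ j)] [∀ j, IsLocalRing (A₁ j)]
    (Qs : ∀ j, QData p (res.comp p) (A₁ j)) (c : Fin n → k)
    (hΛ : ∀ x, p x = 0 → Q.Λ x = ∑ j, c j * (Qs j).Λ x)
    (h1 : Module.Flat A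
      (MvPolynomial ι A ⧸ Ideal.span (Set.range (fun s => mapP Q.D (Q.F F' s)))))
    (h2 : ∀ s, mapR Q.D.res' (Q.F F' s) = P.relation s)
    (h1s : ∀ j, Module.Flat A
      (MvPolynomial ι A ⧸ Ideal.span (Set.range (fun s => mapP (Qs j).D ((Qs j).F F' s)))))
    (h2s : ∀ j s, mapR (Qs j).D.res' ((Qs j).F F' s) = P.relation s) :
    obL2 P Q.D (Q.F F') h1 h2 =
      ∑ j, c j • obL2 P (Qs j).D ((Qs j).F F') (h1s j) (h2s j) := by
  obtain ⟨X, hX0, hX⟩ := exists_X P p hp res res_surj ker_res hresalg F' hFflat hrel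
  refine Submodule.linearMap_qext _ ?_
  refine TensorProduct.AlgebraTensorModule.ext fun b qk => ?_
  have hb : (b ⊗ₜ[P.toExtension.Ring] qk : B₀ ⊗[P.toExtension.Ring] CotT.relKer P) =
      b • ((1 : B₀) ⊗ₜ[P.toExtension.Ring] qk) := by
    rw [TensorProduct.smul_tmul', smul_eq_mul, mul_one]
  simp only [LinearMap.coe_comp, Function.comp_apply, Submodule.mkQ_apply, LinearMap.sum_apply,
    LinearMap.smul_apply]
  rw [hb, Submodule.Quotient.mk_smul, map_smul, obL2_mk_tmul, hX]
  have hW : W Q.Λ (X qk) = ∑ j, c j • W ((Qs j).Λ) (X qk) := by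
    apply W_comb
    intro m
    apply hΛ
    have h := congrArg (coeff m) (hX0 qk)
    rwa [coeff_map, coeff_zero] at h
  rw [hW, map_sum, Finset.smul_sum]
  refine Finset.sum_congr rfl fun j _ => ?_
  rw [map_smul, map_smul, obL2_mk_tmul, hX, smul_comm]

end Class

section Lift

variable {k : Type u} [Field k] {B₀ : Type u} [CommRing B₀] [Algebra k B₀] {ι σ : Type u}
  [Fintype σ] (P : Algebra.Presentation k B₀ ι σ)
variable {A' A : Type u} [CommRing A'] [CommRing A]
  [IsLocalRing A'] [IsLocalRing A] (D : SmallData k A' A)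
  (F' : σ → MvPolynomial ι A')
  (hFflat : Module.Flat A
    (MvPolynomial ι A ⧸ Ideal.span (Set.range (fun s => mapP D (F' s)))))
  (hrel : ∀ s, mapR D.res' (F' s) = P.relation s)

include hFflat hrel in
/-- if the class of the obstruction cocycle in `T²` vanishes, the obstruction is a coboundary -/
theorem exists_correction_of_class (h0 : CotT.toT2 P B₀ (obL2 P D F' hFflat hrel) = 0) :
    ∃ c : σ → MvPolynomial ι k, ∀ (q : σ → MvPolynomial ι k) (w : MvPolynomial ι k),
      ∑ s, q s * mapR D.res' (F' s) = 0 → ObRel D F' q w →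
        w - ∑ s, q s * c s ∈ Ideal.span (Set.range (fun s => mapR D.res' (F' s))) := by
  classical
  unfold CotT.toT2 at h0
  rw [Submodule.mkQ_apply, Submodule.Quotient.mk_eq_zero] at h0
  obtain ⟨φ, hφ⟩ := h0
  rw [CotT.d2Star_apply] at hφ
  choose c hc using fun s => P.aeval_val_surjective
    (φ ((1 : B₀) ⊗ₜ (Finsupp.single s 1 : CotT.relMod P)))
  refine ⟨c, fun q w hq hw => ?_⟩
  let qf : CotT.relMod P := Finsupp.equivFunOnFinite.symm q
  have hqf : coeffFun P qf = q := by
    funext s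
    rfl
  have hqk : qf ∈ CotT.relKer P := by
    change CotT.jmap P qf = 0
    have h1 := jmap_eq_sum P qf
    rw [hqf] at h1
    refine h1.trans (Eq.trans ?_ hq)
    exact Finset.sum_congr rfl fun s _ => by rw [hrel]
  let qk : CotT.relKer P := ⟨qf, hqk⟩
  have hw' : ObRel D F' (coeffFun P qk.1) w := by
    change ObRel D F' (coeffFun P qf) w
    rw [hqf]
    exact hw
  have e1 : obFun P D F' hFflat hrel qk = aeval P.val w := obFun_eq P D F' hFflat hrel qk w hw'
  have e2 : obFun P D F' hFflat hrel qk = φ ((1 : B₀) ⊗ₜ qf) := by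
    rw [← obL2_mk_tmul, ← hφ, LinearMap.comp_apply, CotT.d2_mk_tmul]
  have e3 : qf = ∑ s, (qf s) • (Finsupp.single s 1 : CotT.relMod P) := by
    conv_lhs => rw [← Finsupp.univ_sum_single qf]
    exact Finset.sum_congr rfl fun s _ => (Finsupp.smul_single_one s (qf s)).symm
  have e4 : φ ((1 : B₀) ⊗ₜ qf) = aeval P.val (∑ s, q s * c s) := by
    conv_lhs => rw [e3]
    rw [TensorProduct.tmul_sum, map_sum, map_sum]
    refine Finset.sum_congr rfl fun s _ => ?_
    rw [TensorProduct.tmul_smul, LinearMap.map_smul_of_tower, map_mul, hc, Algebra.smul_def,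
      CotT.algebraMap_toExtension]
    rfl
  have e5 : aeval P.val (w - ∑ s, q s * c s) = 0 := by
    rw [map_sub, ← e1, e2, e4, sub_self]
  have h3 : (fun s => mapR D.res' (F' s)) = P.relation := funext hrel
  rw [h3, P.span_range_relation_eq_ker, P.ker_eq_ker_aeval_val, RingHom.mem_ker]
  exact e5

variable {R : Type u} [CommRing R] (φ : A →+* R) (π : R →+* B₀)
  (Φ : MvPolynomial ι A →+* R) (F : σ → MvPolynomial ι A)
  (hΦC : ∀ a, Φ (C a) = φ a) (hπΦ : ∀ q, π (Φ q) = aeval P.val (mapR D.res q))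
  (hkerΦ : RingHom.ker Φ = Ideal.span (Set.range F))
  (hF' : ∀ s, mapP D (F' s) = F s)

set_option maxHeartbeats 800000 in
include hFflat hrel hΦC hπΦ hkerΦ hF' in
/-- if the class of the obstruction cocycle in `T²` vanishes, the deformation lifts -/
theorem exists_lift_of_class (h0 : CotT.toT2 P B₀ (obL2 P D F' hFflat hrel) = 0) :
    ∃ (R' : Type u) (_ : CommRing R') (φ' : A' →+* R') (π' : R' →+* B₀) (ρ : R' →+* R),
      φ'.Flat ∧ Surjective π' ∧ RingHom.ker π' = (maximalIdeal A').map φ' ∧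
      (∀ a, π' (φ' a) = algebraMap k B₀ (D.res' a)) ∧ (∀ a, ρ (φ' a) = φ (D.p a)) ∧
      (∀ r, π (ρ r) = π' r) := by
  classical
  obtain ⟨c, hc⟩ := exists_correction_of_class P D F' hFflat hrel h0
  have hflat'' := flat_of_correction D F' hFflat c hc
  let F'' : σ → MvPolynomial ι A' := fun s => F' s - tl D (c s)
  have hF''R : ∀ s, mapR D.res' (F'' s) = P.relation s := fun s => by
    change mapR D.res' (F' s - tl D (c s)) = _
    rw [map_sub, mapR'_tl, sub_zero, hrel]
  have hF''P : ∀ s, mapP D (F'' s) = F s := fun s => by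
    change mapP D (F' s - tl D (c s)) = _
    rw [map_sub, mapP_tl, sub_zero, hF']
  let J : Ideal (MvPolynomial ι A') := Ideal.span (Set.range F'')
  let π₀ : MvPolynomial ι A' →+* B₀ :=
    ((aeval P.val : MvPolynomial ι k →ₐ[k] B₀) : _ →+* _).comp (mapR D.res')
  have hπ₀ : ∀ q ∈ J, π₀ q = 0 := by
    intro q hq
    have hle : J ≤ RingHom.ker π₀ := by
      rw [Ideal.span_le]
      rintro _ ⟨s, rfl⟩
      rw [SetLike.mem_coe, RingHom.mem_ker]
      change aeval P.val (mapR D.res' (F'' s)) = 0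
      rw [hF''R]
      exact P.aeval_val_relation s
    exact hle hq
  let ρ₀ : MvPolynomial ι A' →+* R := Φ.comp (mapP D)
  have hρ₀ : ∀ q ∈ J, ρ₀ q = 0 := by
    intro q hq
    have hle : J ≤ RingHom.ker ρ₀ := by
      rw [Ideal.span_le]
      rintro _ ⟨s, rfl⟩
      rw [SetLike.mem_coe, RingHom.mem_ker]
      change Φ (mapP D (F'' s)) = 0
      rw [hF''P, ← RingHom.mem_ker, hkerΦ]
      exact Ideal.subset_span ⟨s, rfl⟩
    exact hle hq
  let π' : (MvPolynomial ι A' ⧸ J) →+* B₀ := Ideal.Quotient.lift J π₀ hπ₀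
  let ρ : (MvPolynomial ι A' ⧸ J) →+* R := Ideal.Quotient.lift J ρ₀ hρ₀
  have hπ'mk : ∀ q, π' (Ideal.Quotient.mk J q) = aeval P.val (mapR D.res' q) := fun q =>
    Ideal.Quotient.lift_mk J π₀ hπ₀
  have hρmk : ∀ q, ρ (Ideal.Quotient.mk J q) = Φ (mapP D q) := fun q =>
    Ideal.Quotient.lift_mk J ρ₀ hρ₀
  have halg : ∀ a : A', algebraMap A' (MvPolynomial ι A' ⧸ J) a = Ideal.Quotient.mk J (C a) :=
    fun a => rfl
  have hres'surj : Surjective (D.res' : A' →+* k) := D.res'_surj
  refine ⟨MvPolynomial ι A' ⧸ J, inferInstance, algebraMap A' (MvPolynomial ι A' ⧸ J), π', ρ,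
    ?_, ?_, ?_, ?_, ?_, ?_⟩
  · rw [RingHom.flat_algebraMap_iff]
    exact hflat''
  · intro b
    obtain ⟨qb, rfl⟩ := P.aeval_val_surjective b
    obtain ⟨q, rfl⟩ := MvPolynomial.map_surjective (D.res' : A' →+* k) hres'surj qb
    exact ⟨Ideal.Quotient.mk J q, hπ'mk q⟩
  · apply le_antisymm
    · intro r hr
      obtain ⟨q, rfl⟩ := Ideal.Quotient.mk_surjective r
      rw [RingHom.mem_ker, hπ'mk] at hr
      have h1 : mapR D.res' q ∈ Ideal.span (Set.range P.relation) := by
        rw [P.span_range_relation_eq_ker, P.ker_eq_ker_aeval_val, RingHom.mem_ker]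
        exact hr
      rw [Ideal.mem_span_range_iff_exists_fun] at h1
      obtain ⟨h, hh⟩ := h1
      have h2 : q - ∑ s, lft D.res' D.res'_surj (h s) * F'' s ∈ RingHom.ker (mapR (ι := ι) D.res') := by
        rw [RingHom.mem_ker, map_sub, map_sum, ← hh, sub_eq_zero]
        refine Finset.sum_congr rfl fun s _ => ?_
        rw [map_mul, mapR_lft, hF''R]
      rw [ker_mapR D.res' D.ker_res'] at h2
      have h3 : Ideal.Quotient.mk J q = Ideal.Quotient.mk J (q - ∑ s, lft D.res' D.res'_surj (h s) * F'' s) := by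
        rw [Ideal.Quotient.eq]
        have : q - (q - ∑ s, lft D.res' D.res'_surj (h s) * F'' s) = ∑ s, lft D.res' D.res'_surj (h s) * F'' s := by ring
        rw [this]
        exact Ideal.sum_mem _ fun s _ => Ideal.mul_mem_left _ _ (Ideal.subset_span ⟨s, rfl⟩)
      rw [h3]
      have h4 := Ideal.mem_map_of_mem (Ideal.Quotient.mk J) h2
      rw [Ideal.map_map] at h4
      exact h4
    · rw [Ideal.map_le_iff_le_comap]
      intro a ha
      rw [Ideal.mem_comap, RingHom.mem_ker, halg, hπ'mk]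
      rw [← D.ker_res', RingHom.mem_ker] at ha
      unfold mapR
      rw [MvPolynomial.map_C, ha, map_zero, map_zero]
  · intro a
    rw [halg, hπ'mk]
    unfold mapR
    rw [MvPolynomial.map_C, aeval_C]
  · intro a
    rw [halg, hρmk]
    unfold mapP
    rw [MvPolynomial.map_C, hΦC]
  · intro r
    obtain ⟨q, rfl⟩ := Ideal.Quotient.mk_surjective r
    rw [hρmk, hπΦ, mapR_mapP, hπ'mk]

end Lift

section Main

variable {k : Type u} [Field k] {B₀ : Type u} [CommRing B₀] [Algebra k B₀] {ι σ : Type u}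
  [Fintype σ] (P : Algebra.Presentation k B₀ ι σ)
  {A' A : Type u} [CommRing A'] [CommRing A] [IsLocalRing A'] [IsLocalRing A] [Algebra k A']
  (p : A' →+* A) (hp : Surjective p) (res : A →+* k) (res_surj : Surjective res)
  (ker_res : RingHom.ker res = maximalIdeal A)
  (ker_res' : RingHom.ker (res.comp p) = maximalIdeal A')
  (nilA : IsNilpotent (maximalIdeal A)) (nilA' : IsNilpotent (maximalIdeal A'))
  (hresalg : ∀ c : k, res (p (algebraMap k A' c)) = c)
  (hsemi : ∀ a ∈ maximalIdeal A', ∀ x, p x = 0 → a * x = 0)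
  {R : Type u} [CommRing R] (φ : A →+* R) (hflat : φ.Flat) (π : R →+* B₀)
  (hcomm : ∀ a, π (φ a) = algebraMap k B₀ (res a)) (hπ : Surjective π)
  (hker : RingHom.ker π = (maximalIdeal A).map φ)

set_option maxHeartbeats 1600000 in
include hp res_surj ker_res ker_res' nilA nilA' hresalg hsemi hflat hcomm hπ hker in
/-- if the kernel of a semismall extension has dimension bigger than `T²`, a flat deformation lifts to the quotient of the
extension by some hyperplane of the kernel -/
theorem exists_hyperplane_lift [Module.Finite k (CotT.T2 P B₀)]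
    (hdim : Module.finrank k (CotT.T2 P B₀) < Module.finrank k ↥(RingHom.ker p)) :
    ∃ (K : Ideal A') (_ : K ≤ RingHom.ker p) (_ : K ≠ RingHom.ker p) (_ : IsLocalRing (A' ⧸ K))
      (D : SmallData k (A' ⧸ K) A),
      (∀ a, D.p (Ideal.Quotient.mk K a) = p a) ∧ D.res = res ∧
      ∃ (R' : Type u) (_ : CommRing R') (φ' : A' ⧸ K →+* R') (π' : R' →+* B₀) (ρ : R' →+* R),
        φ'.Flat ∧ Surjective π' ∧ RingHom.ker π' = (maximalIdeal (A' ⧸ K)).map φ' ∧
        (∀ a, π' (φ' a) = algebraMap k B₀ (D.res' a)) ∧ (∀ a, ρ (φ' a) = φ (D.p a)) ∧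
        (∀ r, π (ρ r) = π' r) := by
  classical
  obtain ⟨Φ, F, hΦs, hΦC, hπΦ, hkerΦ, hFrel, hFfl⟩ :=
    exists_presentation P res res_surj ker_res nilA φ hflat π hcomm hπ hker
  choose F' hF' using fun s => MvPolynomial.map_surjective p hp (F s)
  have hFF : (fun s => MvPolynomial.map p (F' s)) = F := funext hF'
  have hFflat : Module.Flat A
      (MvPolynomial ι A ⧸ Ideal.span (Set.range (fun s => MvPolynomial.map p (F' s)))) := by
    rw [hFF]
    exact hFfl
  have hrel : ∀ s, MvPolynomial.map (res.comp p) (F' s) = P.relation s := fun s => by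
    rw [← hFrel s, ← hF' s]
    unfold mapR
    rw [MvPolynomial.map_map]
  -- the kernel as a `k`-vector space
  have hfinI : Module.Finite k ↥(RingHom.ker p) :=
    Module.finite_of_finrank_pos (lt_of_le_of_lt (Nat.zero_le _) hdim)
  set n := Module.finrank k ↥(RingHom.ker p) with hn
  let b : Module.Basis (Fin n) k ↥(RingHom.ker p) := Module.finBasis k ↥(RingHom.ker p)
  obtain ⟨pr, hpr⟩ := LinearMap.exists_leftInverse_of_injective
    ((Submodule.subtype (RingHom.ker p)).restrictScalars k)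
    (LinearMap.ker_eq_bot.2 (fun x y h => Subtype.ext h))
  have hpr' : ∀ x : ↥(RingHom.ker p), pr (x : A') = x := fun x =>
    DFunLike.congr_fun hpr x
  let Λs : Fin n → A' →ₗ[k] k := fun j => (b.coord j) ∘ₗ pr
  have hΛs : ∀ j j', Λs j ((b j' : ↥(RingHom.ker p)) : A') = if j' = j then 1 else 0 := by
    intro j j'
    change b.coord j (pr ((b j' : ↥(RingHom.ker p)) : A')) = _
    rw [hpr', Module.Basis.coord_apply, Module.Basis.repr_self, Finsupp.single_apply]
  have hbp : ∀ j, p ((b j : ↥(RingHom.ker p)) : A') = 0 := fun j => (b j).2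
  let Qs : ∀ j, QData p (res.comp p) (A' ⧸ KΛ p res ker_res' hresalg hsemi (Λs j)) := fun j =>
    mkQ p hp res res_surj ker_res ker_res' nilA nilA' hresalg hsemi (Λs j) _ (hbp j)
      (by rw [hΛs j j, if_pos rfl])
  let o : Fin n → CotT.T2 P B₀ := fun j =>
    CotT.toT2 P B₀ (obL2 P (Qs j).D ((Qs j).F F') (QData.h1 p res F' hFflat (Qs j))
      (QData.h2 P p res F' hrel (Qs j)))
  have hdep : ¬ LinearIndependent k o := fun h => by
    have h1 := h.fintype_card_le_finrank
    rw [Fintype.card_fin] at h1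
    omega
  obtain ⟨c, hc0, j₀, hj₀⟩ := Fintype.not_linearIndependent_iff.1 hdep
  let Λ : A' →ₗ[k] k := ∑ j, c j • Λs j
  have hΛapp : ∀ x, Λ x = ∑ j, c j * Λs j x := fun x => by
    change (∑ j, c j • Λs j) x = _
    rw [LinearMap.sum_apply]
    rfl
  let t : A' := (c j₀)⁻¹ • ((b j₀ : ↥(RingHom.ker p)) : A')
  have ht : p t = 0 := by
    change p ((c j₀)⁻¹ • ((b j₀ : ↥(RingHom.ker p)) : A')) = 0
    rw [Algebra.smul_def, map_mul, hbp, mul_zero]
  have hΛt : Λ t = 1 := by
    rw [hΛapp]
    have h1 : ∀ j, c j * Λs j t = if j₀ = j then c j * (c j₀)⁻¹ else 0 := by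
      intro j
      change c j * Λs j ((c j₀)⁻¹ • ((b j₀ : ↥(RingHom.ker p)) : A')) = _
      rw [map_smul, hΛs j j₀, smul_eq_mul]
      split_ifs <;> simp
    rw [Finset.sum_congr rfl fun j _ => h1 j, Finset.sum_ite_eq Finset.univ j₀, if_pos (Finset.mem_univ _),
      mul_inv_cancel₀ hj₀]
  let Q : QData p (res.comp p) (A' ⧸ KΛ p res ker_res' hresalg hsemi Λ) :=
    mkQ p hp res res_surj ker_res ker_res' nilA nilA' hresalg hsemi Λ t ht hΛt
  have hcomb := obL2_comb P p hp res res_surj ker_res hresalg F' hFflat hrel Q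
    (A₁ := fun j => A' ⧸ KΛ p res ker_res' hresalg hsemi (Λs j)) Qs c
    (fun x _ => hΛapp x) (QData.h1 p res F' hFflat Q) (QData.h2 P p res F' hrel Q)
    (fun j => QData.h1 p res F' hFflat (Qs j)) (fun j => QData.h2 P p res F' hrel (Qs j))
  have hclass : CotT.toT2 P B₀ (obL2 P Q.D (Q.F F') (QData.h1 p res F' hFflat Q)
      (QData.h2 P p res F' hrel Q)) = 0 := by
    rw [hcomb, map_sum, ← hc0]
    refine Finset.sum_congr rfl fun j _ => ?_
    rw [LinearMap.map_smul_of_tower]
  refine ⟨KΛ p res ker_res' hresalg hsemi Λ, KΛ_le_ker p res ker_res' hresalg hsemi Λ, ?_,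
    inferInstance, Q.D, fun a => Q.p_q a, rfl, ?_⟩
  · intro h
    have h1 : t ∈ KΛ p res ker_res' hresalg hsemi Λ := by
      rw [h]
      exact ht
    have h2 := h1.2
    rw [hΛt] at h2
    exact one_ne_zero h2
  · exact exists_lift_of_class P Q.D (Q.F F') (QData.h1 p res F' hFflat Q)
      (QData.h2 P p res F' hrel Q) φ π Φ F hΦC hπΦ hkerΦ
      (fun s => by rw [mapP_QF]; exact hF' s) hclass

end Main

end Groth.Agent.Lib.HullDim
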