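import Mathlib
import Groth.Prelude.Def_ArtFun3
import Groth.Agent.Lib.HullDimA
import Groth.Agent.Lib.UnobsG6

/-!
# Hyperplane lifting for the deformation functor of `Spec B₀` (helper1)

If `p : C' → C` is a semismall extension in `Art k k` whose kernel has dimension bigger than `dim T²(B₀/k, B₀)`, every
deformation of `Spec B₀` over `C` lifts to `C'/K` for some ideal `K` properly contained in the kernel.
-/

set_option autoImplicit false
set_option linter.unusedVariables false
set_option linter.unusedSectionVars false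

universe u

open CategoryTheory CategoryTheory.Limits AlgebraicGeometry

namespace Groth.Agent.Lib.HullDim

variable {k : Type u} [Field k]
  (B₀ : Type u) [CommRing B₀] [Algebra k B₀] {ι σ : Type u} [Finite σ]
  (P : Algebra.Presentation k B₀ ι σ)

set_option maxHeartbeats 1600000 in
theorem exists_hyperplane_lift_DF [Module.Finite k (CotT.T2 P B₀)]
    {C' C : ArtFun.Art k k} (p : C' ⟶ C) (hp : ArtFun.Art.IsSemismallExt p)
    (hdim : Module.finrank k (CotT.T2 P B₀) < Module.finrank k ↥(RingHom.ker p.toAlgHom))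
    (u : (ArtFun.defFunctor (Λ := k) (Spec (CommRingCat.of B₀))
      (Spec.map (CommRingCat.ofHom (algebraMap k B₀)))).obj C) :
    ∃ (K : Ideal C') (hK : K ≤ IsLocalRing.maximalIdeal C') (hKJ : K ≤ RingHom.ker p.toAlgHom),
      K ≠ RingHom.ker p.toAlgHom ∧
      ∃ u' : (ArtFun.defFunctor (Λ := k) (Spec (CommRingCat.of B₀))
        (Spec.map (CommRingCat.ofHom (algebraMap k B₀)))).obj (ArtFun.Art.quot C' K hK),
        (ArtFun.defFunctor (Λ := k) (Spec (CommRingCat.of B₀))
          (Spec.map (CommRingCat.ofHom (algebraMap k B₀)))).map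
            (ArtFun.Art.quotFactor hK p hKJ) u' = u := by
  classical
  induction u using Quotient.inductionOn with
  | h ξ =>
  have _ : Fintype σ := Fintype.ofFinite σ
  obtain ⟨hps, hmul⟩ := hp
  have hnilA : IsNilpotent (IsLocalRing.maximalIdeal C) :=
    Groth.Agent.Lib.ArtinianFlat.isNilpotent_maximalIdeal
  have hnilA' : IsNilpotent (IsLocalRing.maximalIdeal C') :=
    Groth.Agent.Lib.ArtinianFlat.isNilpotent_maximalIdeal
  have hresp : C.res.comp p.toAlgHom = C'.res := p.res_comp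
  have hresp' : ∀ a, C.res (p.toAlgHom a) = C'.res a := fun a =>
    congrArg (fun f : C' →ₐ[k] k => f a) hresp
  have hker_res' : RingHom.ker ((C.res : C →+* k).comp (p.toAlgHom : C' →+* C)) =
      IsLocalRing.maximalIdeal C' := by
    have h1 : ((C.res : C →+* k).comp (p.toAlgHom : C' →+* C)) = (C'.res : C' →+* k) :=
      RingHom.ext hresp'
    rw [h1]
    exact Groth.Agent.Lib.DefSchAff.ker_res C'
  have hresalg : ∀ c : k, (C.res : C →+* k) ((p.toAlgHom : C' →+* C) (algebraMap k C' c)) = c := by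
    intro c
    change C.res (p.toAlgHom (algebraMap k C' c)) = c
    rw [AlgHom.commutes, AlgHom.commutes]
    rfl
  have hsemi : ∀ a ∈ IsLocalRing.maximalIdeal C', ∀ x, (p.toAlgHom : C' →+* C) x = 0 → a * x = 0 := by
    intro a ha x hx
    have h1 : a * x ∈ IsLocalRing.maximalIdeal C' * RingHom.ker p.toAlgHom :=
      Ideal.mul_mem_mul ha (RingHom.mem_ker.2 hx)
    rw [hmul] at h1
    exact h1
  obtain ⟨K, hKJ, hKne, instL, D, hDp, hDres, R', instR', φ', π', ρ, hfl', hπ's, hker', hcomm',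
      hρφ, hπρ⟩ :=
    Groth.Agent.Lib.HullDim.exists_hyperplane_lift P (p.toAlgHom : C' →+* C) hps
      (C.res : C →+* k) C.res_surjective (Groth.Agent.Lib.DefSchAff.ker_res C) hker_res'
      hnilA hnilA' hresalg hsemi
      (Groth.Agent.Lib.DefSchAff.algA ξ)
      (Groth.Agent.Lib.DefSchAff.flat_algA ξ) (Groth.Agent.Lib.DefSchAff.proj ξ)
      (Groth.Agent.Lib.DefSchAff.proj_algA ξ) (Groth.Agent.Lib.DefSchAff.proj_surjective ξ)
      (Groth.Agent.Lib.DefSchAff.ker_proj ξ) hdim
  have hKJ' : K ≤ RingHom.ker p.toAlgHom := hKJ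
  have hK : K ≤ IsLocalRing.maximalIdeal C' :=
    hKJ.trans (ker_le_max (p.toAlgHom : C' →+* C) (C.res : C →+* k) hker_res')
  refine ⟨K, hK, hKJ', hKne, ?_⟩
  have hDp' : ∀ a₁ : C' ⧸ K, D.p a₁ = (ArtFun.Art.quotFactor hK p hKJ').toAlgHom a₁ := by
    intro a₁
    obtain ⟨a, rfl⟩ := Ideal.Quotient.mk_surjective a₁
    rw [hDp]
    rfl
  have hcomm'' : ∀ a₁ : (ArtFun.Art.quot C' K hK), π' (φ' a₁) =
      algebraMap k B₀ ((ArtFun.Art.quot C' K hK).res a₁) := by
    intro a₁
    rw [hcomm' a₁]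
    congr 1
    obtain ⟨a, rfl⟩ := Ideal.Quotient.mk_surjective a₁
    change D.res (D.p (Ideal.Quotient.mk K a)) = C'.res a
    rw [hDp, hDres]
    exact hresp' a
  let ξ' : ArtFun.DefSch (Spec (CommRingCat.of B₀))
      (Spec.map (CommRingCat.ofHom (algebraMap k B₀))) (ArtFun.Art.quot C' K hK) :=
    Groth.Agent.Lib.DefSchAff.ofRing R' φ' hfl' π' hcomm'' hπ's hker'
  refine ⟨ξ'.cl, ?_⟩
  rw [ArtFun.defFunctor_map_cl]
  apply Quotient.sound
  let ψ : ξ.total ⟶ Spec (CommRingCat.of R') := ξ.total.toSpecΓ ≫ Spec.map (CommRingCat.ofHom ρ)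
  refine Groth.Agent.Lib.DefSchAff.nonempty_iso_baseChange (ArtFun.Art.quotFactor hK p hKJ') ξ' ξ ψ
    ?_ ?_
  · change (ξ.total.toSpecΓ ≫ Spec.map (CommRingCat.ofHom ρ)) ≫ Spec.map (CommRingCat.ofHom φ') =
      ξ.f ≫ Spec.map (CommRingCat.ofHom (ArtFun.Art.quotFactor hK p hKJ').toAlgHom.toRingHom)
    rw [Groth.Agent.Lib.UnobsG.f_eq' ξ, Category.assoc, Category.assoc, ← Spec.map_comp,
      ← Spec.map_comp]
    congr 2
    refine CommRingCat.hom_ext (RingHom.ext fun a => ?_)
    exact (hρφ a).trans (congrArg _ (hDp' a))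
  · change ξ.i ≫ ξ.total.toSpecΓ ≫ Spec.map (CommRingCat.ofHom ρ) =
      Spec.map (CommRingCat.ofHom π')
    rw [← Category.assoc, Groth.Agent.Lib.UnobsG.i_toSpecΓ' ξ, Category.assoc, ← Spec.map_comp,
      ← Spec.map_comp]
    congr 1
    refine CommRingCat.hom_ext (RingHom.ext fun r => ?_)
    exact hπρ r

end Groth.Agent.Lib.HullDim
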