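import Groth.Agent.Lib.H59ObsDim
import Groth.Agent.Lib.ArtFunFibre

/-!
# Dimension estimates from a weak obstruction property (helper1)

`WOP G r`: along every semismall extension whose kernel has dimension bigger than `r`, every element lifts to the quotient
of the extension by some ideal properly contained in the kernel.  This is what an obstruction theory with an `r`-dimensional
obstruction space gives, and it suffices for the estimate `embdim R ≤ dim R + r` for a ring `R` with `WOP h_R r`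
(the argument of `H59ObsDim.exists_gens_of_obsTheory`, helper59).
-/

set_option autoImplicit false
set_option linter.unusedSectionVars false
set_option linter.unusedVariables false
universe u v w
open CategoryTheory ArtFun ArtFun.Art IsLocalRing
open scoped TensorProduct

namespace Groth.Agent.Lib.HullDim

open Groth.Agent.Lib.H59PowerSeries Groth.Agent.Lib.H59PowerSeriesCRing Groth.Agent.Lib.H59BaseCRing
  Groth.Agent.Lib.H59PowerSeriesLift Groth.Agent.Lib.H59T1Lift Groth.Agent.Lib.H59ObsHR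
  Groth.Agent.Lib.H59PowerSeriesDim Groth.Agent.Lib.H59ObsTransport Groth.Agent.Lib.H59ObsDim

variable {k : Type u} [Field k]

/-- the weak obstruction property -/
def WOP (G : Art k k ⥤ Type v) (r : ℕ) : Prop :=
  ∀ ⦃C' C : Art k k⦄ (p : C' ⟶ C), IsSemismallExt p →
    r < Module.finrank k ↥(RingHom.ker p.toAlgHom) → ∀ u : G.obj C,
    ∃ (K : Ideal C') (hK : K ≤ maximalIdeal C') (hKJ : K ≤ RingHom.ker p.toAlgHom),
      K ≠ RingHom.ker p.toAlgHom ∧
      ∃ u' : G.obj (quot C' K hK), G.map (quotFactor hK p hKJ) u' = u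

theorem quotFactor_surjective {C' C : Art k k} (p : C' ⟶ C) (hp : Function.Surjective p)
    (K : Ideal C') (hK : K ≤ maximalIdeal C') (hKJ : K ≤ RingHom.ker p.toAlgHom) :
    Function.Surjective (quotFactor hK p hKJ) := by
  intro c
  obtain ⟨c', rfl⟩ := hp c
  exact ⟨Ideal.Quotient.mk K c', rfl⟩

theorem mem_of_quotMk_eq_zero (C' : Art k k) (K : Ideal C') (hK : K ≤ maximalIdeal C') (x : C')
    (h : quotMk C' K hK x = 0) : x ∈ K :=
  Ideal.Quotient.eq_zero_iff_mem.1 h

/-- the weak obstruction property passes to `h_R` along a versal family -/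
theorem WOP.of_versal {F : Art k k ⥤ Type v} {R : Type u} [CommRing R] [Algebra k R]
    {resR : R →ₐ[k] k} {r : ℕ} (T : WOP F r) (ξ : Family R resR F) (hξ : IsVersal ξ) :
    WOP (hR R resR) r := by
  intro C' C p hp hlt φ
  obtain ⟨K, hK, hKJ, hKne, y', hy'⟩ := T p hp hlt (ξ.app C φ)
  obtain ⟨ψ, hψ1, -⟩ := hξ (quotFactor hK p hKJ) (quotFactor_surjective p hp.1 K hK hKJ) φ y' hy'
  exact ⟨K, hK, hKJ, hKne, ψ, hψ1⟩

/-- transport along a natural family of bijections -/
theorem WOP.transport {F : Art k k ⥤ Type v} {G : Art k k ⥤ Type w} {r : ℕ} (T : WOP G r)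
    (e : ∀ C : Art k k, F.obj C ≃ G.obj C)
    (hnat : ∀ {C' C : Art k k} (p : C' ⟶ C) (x : F.obj C'), e C (F.map p x) = G.map p (e C' x)) :
    WOP F r := by
  intro C' C p hp hlt x
  obtain ⟨K, hK, hKJ, hKne, y', hy'⟩ := T p hp hlt (e C x)
  refine ⟨K, hK, hKJ, hKne, (e _).symm y', ?_⟩
  apply (e C).injective
  rw [hnat, Equiv.apply_symm_apply, hy']

section Key

variable {d : ℕ}

/-- the weak obstruction property for `h_R`, `R = k[[t]]/J` with `J ≤ 𝔫²`, forces `J` to be generated by `r` elements. -/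
theorem exists_gens_of_wop (J : Ideal (MvPowerSeries (Fin d) k))
    (hJ : J ≤ maximalIdeal (MvPowerSeries (Fin d) k) ^ 2)
    (res : (MvPowerSeries (Fin d) k ⧸ J) →ₐ[k] k) (r : ℕ)
    (T : WOP (hR (MvPowerSeries (Fin d) k ⧸ J) res) r) :
    ∃ g : Fin r → MvPowerSeries (Fin d) k, Ideal.span (Set.range g) = J := by
  classical
  have hnoeth : IsNoetherianRing (MvPowerSeries (Fin d) k) := (psk k d).isNoetherianRing
  -- Artin–Rees
  obtain ⟨c, hc⟩ := Ideal.exists_pow_inf_eq_pow_smul (maximalIdeal (MvPowerSeries (Fin d) k))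
    (J : Submodule (MvPowerSeries (Fin d) k) (MvPowerSeries (Fin d) k))
  have hAR : maximalIdeal (MvPowerSeries (Fin d) k) ^ (c + 1) ⊓ J ≤
      maximalIdeal (MvPowerSeries (Fin d) k) * J := by
    have h1 := hc (c + 1) (Nat.le_succ c)
    rw [Nat.add_sub_cancel_left, pow_one] at h1
    intro x hx
    have h2 : x ∈ maximalIdeal (MvPowerSeries (Fin d) k) ^ (c + 1) •
        (⊤ : Submodule (MvPowerSeries (Fin d) k) (MvPowerSeries (Fin d) k)) ⊓ J := by
      refine ⟨?_, hx.2⟩
      rw [Ideal.smul_top_eq_map]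
      simpa using hx.1
    rw [h1] at h2
    exact (Submodule.smul_mono le_rfl inf_le_right) h2
  set N := c + 1 with hNdef
  set 𝔫 := maximalIdeal (MvPowerSeries (Fin d) k) with h𝔫
  let a : Ideal (MvPowerSeries (Fin d) k) := 𝔫 * J ⊔ 𝔫 ^ N
  let b : Ideal (MvPowerSeries (Fin d) k) := J ⊔ 𝔫 ^ N
  have hab : a ≤ b := sup_le_sup_right Ideal.mul_le_right _
  have hlow_a : 𝔫 ^ N ≤ a := le_sup_right
  have hlow_b : 𝔫 ^ N ≤ b := le_sup_right
  have hJn : J ≤ 𝔫 := hJ.trans (Ideal.pow_le_self two_ne_zero)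
  have hup_b : b ≤ 𝔫 := sup_le hJn (Ideal.pow_le_self (Nat.succ_ne_zero c))
  have hup_a : a ≤ 𝔫 := hab.trans hup_b
  have hnb : 𝔫 * b ≤ a := by
    rw [Ideal.mul_sup]
    refine sup_le_sup_left ?_ _
    rw [← pow_succ']
    exact Ideal.pow_le_pow_right (Nat.le_succ N)
  let C' : Art k k := artQuot (psk k d) a N hlow_a hup_a
  let C : Art k k := artQuot (psk k d) b N hlow_b hup_b
  let p : C' ⟶ C := artQuotMap (psk k d) N hlow_a hup_a hlow_b hup_b hab
  have hp : IsSemismallExt p := isSemismallExt_artQuotMap (psk k d) N hlow_a hup_a hlow_b hup_b hab hnb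
  -- the canonical element
  let u₀ : (MvPowerSeries (Fin d) k ⧸ J) →ₐ[k] C := Ideal.Quotient.factorₐ k (le_sup_left : J ≤ b)
  have hu₀ : C.res.comp u₀ = res := algHom_to_field_eq J _ _
  let u : HomSet (MvPowerSeries (Fin d) k ⧸ J) res C := ⟨u₀, hu₀⟩
  -- elements of the kernel come from `J`
  have hJI : ∀ g ∈ J, (Ideal.Quotient.mk a g : C') ∈ RingHom.ker p.toAlgHom := fun g hg =>
    (mem_ker_artQuotMap (psk k d) N hlow_a hup_a hlow_b hup_b hab g).2 (le_sup_left (a := J) hg)
  have hIJ : ∀ x ∈ RingHom.ker p.toAlgHom, ∃ g' ∈ J, (Ideal.Quotient.mk a g' : C') = x := by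
    intro x hx
    obtain ⟨g, hg⟩ : ∃ g : MvPowerSeries (Fin d) k, (Ideal.Quotient.mk a g : C') = x :=
      Ideal.Quotient.mk_surjective _
    have hgb : g ∈ b := by
      rw [← hg] at hx
      exact (mem_ker_artQuotMap (psk k d) N hlow_a hup_a hlow_b hup_b hab g).1 hx
    obtain ⟨g', hg', h, hh, rfl⟩ := Submodule.mem_sup.1 hgb
    refine ⟨g', hg', ?_⟩
    rw [← hg]
    have h0 : Ideal.Quotient.mk a h = 0 := Ideal.Quotient.eq_zero_iff_mem.2 (hlow_a hh)
    change Ideal.Quotient.mk a g' = Ideal.Quotient.mk a (g' + h)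
    rw [map_add, h0, add_zero]
  -- the kernel has dimension at most `r`
  have hfinC' : Module.Finite k C' := Groth.Agent.Lib.ArtFunFibre.finite_carrier C'
  have hdimI : Module.finrank k ↥(RingHom.ker p.toAlgHom) ≤ r := by
    by_contra hlt
    rw [not_le] at hlt
    obtain ⟨K, hK, hKJ, hKne, u', hu'⟩ := T p hp hlt u
    have hq : IsSemismallExt (quotFactor hK p hKJ) := isSemismallExt_quotFactor p hp K hK hKJ
    have hpu' : (quotFactor hK p hKJ).toAlgHom.comp u'.1 = u.1 := congrArg Subtype.val hu'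
    -- the two lifts
    let ψ : MvPowerSeries (Fin d) k →ₐ[k] (quot C' K hK) := u'.1.comp (Ideal.Quotient.mkₐ k J)
    let ψ' : MvPowerSeries (Fin d) k →ₐ[k] (quot C' K hK) :=
      (quotMk C' K hK).toAlgHom.comp (Ideal.Quotient.mkₐ k a)
    have hψψ' : (quotFactor hK p hKJ).toAlgHom.comp ψ = (quotFactor hK p hKJ).toAlgHom.comp ψ' := by
      apply AlgHom.ext
      intro g
      have h1 : (quotFactor hK p hKJ).toAlgHom (u'.1 (Ideal.Quotient.mk J g)) =
          u₀ (Ideal.Quotient.mk J g) := DFunLike.congr_fun hpu' _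
      exact h1
    have hJK : ∀ g ∈ J, (Ideal.Quotient.mk a g : C') ∈ K := by
      intro g hg
      have h1 := lift_eq_on_sq (quotFactor hK p hKJ) hq ψ ψ' hψψ' g (hJ hg)
      have h2 : ψ g = 0 := by
        change u'.1 (Ideal.Quotient.mk J g) = 0
        rw [Ideal.Quotient.eq_zero_iff_mem.2 hg, map_zero]
      rw [h2] at h1
      exact mem_of_quotMk_eq_zero C' K hK _ h1.symm
    apply hKne
    apply le_antisymm hKJ
    intro x hx
    obtain ⟨g', hg', rfl⟩ := hIJ x hx
    exact hJK g' hg'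
  -- a spanning family of `r` elements
  obtain ⟨j, hj⟩ : ∃ j : Fin r → ↥(RingHom.ker p.toAlgHom), Submodule.span k (Set.range j) = ⊤ := by
    let bI := Module.finBasis k ↥(RingHom.ker p.toAlgHom)
    refine ⟨fun i => if h : i.1 < Module.finrank k ↥(RingHom.ker p.toAlgHom) then bI ⟨i.1, h⟩ else 0, ?_⟩
    rw [eq_top_iff, ← bI.span_eq]
    apply Submodule.span_mono
    rintro _ ⟨i, rfl⟩
    refine ⟨⟨i.1, lt_of_lt_of_le i.2 hdimI⟩, ?_⟩
    simp only [Fin.is_lt, dite_true, Fin.eta]
  let K : Ideal C' := Ideal.span (Set.range fun i => ((j i : ↥(RingHom.ker p.toAlgHom)) : C'))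
  have hIK : ∀ x : ↥(RingHom.ker p.toAlgHom), (x : C') ∈ K := by
    intro x
    have hx : x ∈ Submodule.span k (Set.range j) := by rw [hj]; trivial
    refine Submodule.span_induction (p := fun y _ => ((y : ↥(RingHom.ker p.toAlgHom)) : C') ∈ K)
      ?_ ?_ ?_ ?_ hx
    · rintro _ ⟨i, rfl⟩
      exact Ideal.subset_span ⟨i, rfl⟩
    · exact K.zero_mem
    · intro y z _ _ hy hz
      exact K.add_mem hy hz
    · intro c y _ hy
      change c • (y : C') ∈ K
      rw [Algebra.smul_def]
      exact K.mul_mem_left _ hy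
  have hJK : ∀ g ∈ J, (Ideal.Quotient.mk a g : C') ∈ K := fun g hg => hIK ⟨_, hJI g hg⟩
  -- lift the generators of `K` to `J`
  have hjlift : ∀ i, ∃ g' ∈ J, (Ideal.Quotient.mk a g' : C') = (j i : C') := by
    intro i
    obtain ⟨g, hg⟩ : ∃ g : MvPowerSeries (Fin d) k, (Ideal.Quotient.mk a g : C') = (j i : C') :=
      Ideal.Quotient.mk_surjective _
    have hgb : g ∈ b := by
      have h1 := (j i).2
      rw [← hg] at h1
      exact (mem_ker_artQuotMap (psk k d) N hlow_a hup_a hlow_b hup_b hab g).1 h1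
    obtain ⟨g', hg', h, hh, rfl⟩ := Submodule.mem_sup.1 hgb
    refine ⟨g', hg', ?_⟩
    rw [← hg]
    have h0 : Ideal.Quotient.mk a h = 0 := Ideal.Quotient.eq_zero_iff_mem.2 (hlow_a hh)
    change Ideal.Quotient.mk a g' = Ideal.Quotient.mk a (g' + h)
    rw [map_add, h0, add_zero]
  choose g' hg'J hg' using hjlift
  refine ⟨g', ?_⟩
  have hspanJ : Ideal.span (Set.range g') ≤ J :=
    Ideal.span_le.2 (by rintro _ ⟨i, rfl⟩; exact hg'J i)
  apply le_antisymm hspanJ
  have hKmap : K = (Ideal.span (Set.range g')).map (Ideal.Quotient.mk a) := by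
    rw [Ideal.map_span, ← Set.range_comp]
    have hfun : (fun i => ((j i : ↥(RingHom.ker p.toAlgHom)) : C')) =
        (⇑(Ideal.Quotient.mk a) ∘ g') := funext fun i => (hg' i).symm
    change Ideal.span (Set.range fun i => ((j i : ↥(RingHom.ker p.toAlgHom)) : C')) = _
    rw [hfun]
    rfl
  apply Submodule.le_of_le_smul_of_le_jacobson_bot (I := 𝔫) (IsNoetherian.noetherian J)
    (IsLocalRing.maximalIdeal_le_jacobson _)
  intro g hg
  have h1 := hJK g hg
  rw [hKmap] at h1
  have h2 : g ∈ Ideal.span (Set.range g') ⊔ a := by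
    have h3 : g ∈ ((Ideal.span (Set.range g')).map (Ideal.Quotient.mk a)).comap
        (Ideal.Quotient.mk a) := Ideal.mem_comap.2 h1
    rwa [Ideal.comap_map_of_surjective _ Ideal.Quotient.mk_surjective, ← RingHom.ker_eq_comap_bot,
      Ideal.mk_ker] at h3
  obtain ⟨s, hs, ta, hta, rfl⟩ := Submodule.mem_sup.1 h2
  obtain ⟨t, ht, h, hh, rfl⟩ := Submodule.mem_sup.1 hta
  have hsJ : s ∈ J := hspanJ hs
  have htJ : t ∈ J := Ideal.mul_le_right ht
  have hhJ : h ∈ J := by
    have h4 : h = (s + (t + h)) - s - t := by ring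
    rw [h4]
    exact J.sub_mem (J.sub_mem hg hsJ) htJ
  have hh' : h ∈ 𝔫 * J := hAR ⟨hh, hhJ⟩
  exact Submodule.add_mem_sup hs (add_mem ht hh')

end Key

section Dim

theorem ringKrullDim_le_finrank_cotangentSpace (R : CRing k k) :
    ringKrullDim R.carrier ≤
      (Module.finrank (ResidueField R.carrier) (CotangentSpace R.carrier) : WithBot ℕ∞) := by
  rw [← IsLocalRing.spanFinrank_maximalIdeal_eq_finrank_cotangentSpace]
  exact ringKrullDim_le_spanFinrank_maximalIdeal _

/-- the lower estimate for the dimension of a coefficient ring `R` over a field such that `h_R` has the weak obstruction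
property. -/
theorem finrank_cotangentSpace_le_of_wop (R : CRing k k) (r : ℕ) (T : WOP (hR R.carrier R.res) r) :
    (Module.finrank (ResidueField R.carrier) (CotangentSpace R.carrier) : WithBot ℕ∞) ≤
      ringKrullDim R.carrier + (r : WithBot ℕ∞) := by
  classical
  obtain ⟨u, husurj, hker⟩ := exists_presentation_finrank R
  generalize hd : Module.finrank (ResidueField R.carrier) (CotangentSpace R.carrier) = d at u husurj hker ⊢
  have hnoeth : IsNoetherianRing (MvPowerSeries (Fin d) k) := (psk k d).isNoetherianRing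
  set J := RingHom.ker (u : MvPowerSeries (Fin d) k →+* R.carrier) with hJdef
  let eq : (MvPowerSeries (Fin d) k ⧸ J) ≃ₐ[k] R.carrier :=
    Ideal.quotientKerAlgEquivOfSurjective husurj
  have T' : WOP (hR (MvPowerSeries (Fin d) k ⧸ J) (R.res.comp eq.toAlgHom)) r :=
    T.transport (fun C => (homSetCongr R.res eq C).symm) (fun p x => rfl)
  obtain ⟨g, hg⟩ := exists_gens_of_wop J hker _ r T'
  have hJrank : J.spanFinrank ≤ r := by
    rw [← hg]
    refine (Submodule.spanFinrank_span_le_ncard_of_finite (Set.finite_range _)).trans ?_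
    rw [← Set.image_univ]
    refine (Set.ncard_image_le Set.finite_univ).trans ?_
    rw [Set.ncard_univ, Nat.card_eq_fintype_card, Fintype.card_fin]
  have hdimP : ringKrullDim (MvPowerSeries (Fin d) k) = d := ringKrullDim_psk d
  have hdimR : ringKrullDim (MvPowerSeries (Fin d) k ⧸ J) = ringKrullDim R.carrier :=
    ringKrullDim_eq_of_ringEquiv eq.toRingEquiv
  have hJjac : J ≤ Ring.jacobson (MvPowerSeries (Fin d) k) := by
    rw [IsLocalRing.ringJacobson_eq_maximalIdeal]
    exact hker.trans (Ideal.pow_le_self two_ne_zero)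
  have hkrull : (d : WithBot ℕ∞) ≤ ringKrullDim R.carrier + (J.spanFinrank : WithBot ℕ∞) := by
    rw [← hdimP, ← hdimR]
    exact ringKrullDim_le_ringKrullDim_quotient_add_spanFinrank J hJjac
  have hrank' : (J.spanFinrank : WithBot ℕ∞) ≤ (r : WithBot ℕ∞) := by
    exact_mod_cast hJrank
  exact hkrull.trans (add_le_add_right hrank' _)

end Dim

end Groth.Agent.Lib.HullDim
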