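import Mathlib
import Groth.Prelude.Def_ArtFun4
import Groth.Agent.Lib.DefTan4

/-!
# The tangent space of the deformation functor of `Spec B₀` is `T¹(B₀/k, B₀)` (helper1)

Injectivity of `T¹ → t_F` (`ker_ThetaL_le`): a deformation over `k[ε]` whose class is trivial comes from a split extension.
Hence `dim t_F = dim T¹` (`finrank_tangent_DF`).
-/

set_option autoImplicit false
set_option linter.style.haveILetI false
set_option linter.unusedVariables false
set_option linter.unusedSectionVars false

universe u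

open CategoryTheory CategoryTheory.Limits AlgebraicGeometry ArtFun ArtFun.Art Function TensorProduct
open Groth.Agent.Lib.DefSchAff Groth.Agent.Lib.DefGlue Groth.Agent.Lib.H59TangentStr
open Groth.Agent.Lib.ExalY

namespace Groth.Agent.Lib.DefTan

variable (Λ : Type u) {k : Type u} [CommRing Λ] [Field k] [Algebra Λ k]
  {B₀ : Type u} [CommRing B₀] [Algebra k B₀]

section Inj

variable (M : Type u) [AddCommGroup M] [Module k M] [Module kᵐᵒᵖ M] [SMulCommClass k kᵐᵒᵖ M]
  [IsCentralScalar k M] [Module Λ M] [IsScalarTower Λ k M] [IsScalarTower Λ kᵐᵒᵖ M]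
  [Module.Finite k M]

/-- extensions with the same deformation class are equivalent. -/
theorem nonempty_equiv_of_clExt_eq (X X' : Exal.Ext k B₀ (B₀ ⊗[k] M))
    (h : clExt Λ M X = clExt Λ M X') : Nonempty (Exal.Ext.Equiv X X') := by
  obtain ⟨e⟩ := Quotient.exact h
  let h1 := homToOf (ofExt Λ M X)
  let h2 := homOfIso _ _ e.symm
  let h3 := (homToOf (ofExt Λ M X')).symm
  let hh : DefRing.Hom (ofExt Λ M X) (ofExt Λ M X') (RingHom.id _) :=
    ((h1.comp h2).comp h3).cast (fun x => rfl)
  let ψ : X.E →+* X'.E := hh.ψ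
  have hφ : ∀ t, ψ (phi X t) = phi X' t := hh.comp_φ
  have hπ : ∀ r, X'.proj (ψ r) = X.proj r := hh.π_comp
  let ψa : X.E →ₐ[k] X'.E := AlgHom.mk ψ (fun c => by
    have := hφ (TrivSqZeroExt.inl c)
    rwa [phi_inl, phi_inl] at this)
  have hψa : ∀ r, ψa r = ψ r := fun r => rfl
  refine ⟨equivOfHom X X' ψa hπ ?_⟩
  intro z
  induction z using TensorProduct.induction_on with
  | zero => rw [map_zero, map_zero, map_zero]
  | tmul b m =>
    obtain ⟨r, rfl⟩ := X.isExtension.proj_surjective b
    rw [incl_tmul, hψa, map_mul, hφ, ← hπ r, incl_tmul]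
  | add x y hx hy => rw [map_add, map_add, hx, hy, map_add]

end Inj

section Fin

open Groth.Agent.Lib.ExalT1 Groth.Agent.Lib.CotTIndep Algebra.Extension

variable (E : Algebra.Extension.{u} k B₀)
variable (h0 : H0 (DF Λ B₀ (k := k))) (h2 : Heps (DF Λ B₀ (k := k)))

theorem ker_ThetaL_le :
    letI := addCommGroup (F := DF Λ B₀ (k := k)) h0 h2
    letI := module (F := DF Λ B₀ (k := k)) h0 h2
    LinearMap.ker (ThetaL Λ E h0 h2) ≤ LinearMap.ker (qLin E) := by
  letI := addCommGroup (F := DF Λ B₀ (k := k)) h0 h2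
  letI := module (F := DF Λ B₀ (k := k)) h0 h2
  intro v hv
  have h1 : Theta Λ E k v = Theta Λ E k 0 := by
    have h3 : ThetaL Λ E h0 h2 v = ThetaL Λ E h0 h2 0 := by
      rw [LinearMap.mem_ker.1 hv, map_zero]
    exact h3
  obtain ⟨e⟩ := nonempty_equiv_of_clExt_eq Λ k _ _ h1
  let X' := EVext k (R := E.Ring) (0 : V E k) E.algebraMap_surjective
  let s' : E.Ring →ₐ[k] X'.E :=
    (e.toAlgEquiv : _ →ₐ[k] X'.E).comp (EV.lift k v E.algebraMap_surjective)
  have hs' : ∀ r, X'.proj (s' r) = algebraMap E.Ring B₀ r := fun r => by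
    change X'.proj (e.toAlgEquiv (EV.lift k v E.algebraMap_surjective r)) = _
    rw [e.proj_apply]
    exact EV.proj_lift k v E.algebraMap_surjective r
  have hv1 : vOf X' s' hs' = v := by
    have h4 := vOf_equiv e (EV.lift k v E.algebraMap_surjective)
      (EV.proj_lift k v E.algebraMap_surjective)
    rw [vOf_EV] at h4
    exact h4
  have hD : ∀ x : E.ker, v x = derOf X' s' hs'
      (EV.lift k (0 : V E k) E.algebraMap_surjective)
      (EV.proj_lift k (0 : V E k) E.algebraMap_surjective) x := by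
    intro x
    rw [← vOf_sub_vOf, hv1, vOf_EV, LinearMap.zero_apply, sub_zero]
  rw [LinearMap.mem_ker]
  change Submodule.Quotient.mk (cotLift E v) = 0
  rw [Submodule.Quotient.mk_eq_zero]
  exact (mem_range_iff E (cotLift E v)).2 ⟨_, fun x => by rw [cotLift_mk]; exact hD x⟩

end Fin

section Generic

theorem finrank_eq_of_factor {k V Y T : Type*} [Field k] [AddCommMonoid V] [Module k V]
    [AddCommGroup Y] [Module k Y] [AddCommGroup T] [Module k T]
    (q : V →ₗ[k] Y) (θ : V →ₗ[k] T) (hq : Surjective q) (hθ : Surjective θ)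
    (hker : ∀ v, q v = 0 ↔ θ v = 0) : Module.finrank k Y = Module.finrank k T := by
  let _ : AddCommGroup V := Module.addCommMonoidToAddCommGroup k
  have hk : LinearMap.ker q = LinearMap.ker θ := by
    ext v
    exact hker v
  exact ((q.quotKerEquivOfSurjective hq).symm.trans ((Submodule.quotEquivOfEq _ _ hk).trans
    (θ.quotKerEquivOfSurjective hθ))).finrank_eq

end Generic

section YM

open Groth.Agent.Lib.CotTIndep Algebra.Extension

variable {A B : Type u} [CommRing A] [CommRing B] [Algebra A B]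
  {M M' : Type u} [AddCommGroup M] [Module B M] [AddCommGroup M'] [Module B M']

/-- `Y` is functorial in isomorphisms of the coefficient module. -/
noncomputable def Ycongr (E : Algebra.Extension.{u} A B) (g : M ≃ₗ[B] M') : Y M E ≃ₗ[B] Y M' E :=
  Submodule.Quotient.equiv _ _ (LinearEquiv.congrRight g) (by
    ext w
    constructor
    · rintro ⟨_, ⟨ψ, rfl⟩, rfl⟩
      refine ⟨(g : M →ₗ[B] M') ∘ₗ ψ, ?_⟩
      ext x
      rfl
    · rintro ⟨ψ', rfl⟩
      refine ⟨_, ⟨(g.symm : M' →ₗ[B] M) ∘ₗ ψ', rfl⟩, ?_⟩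
      ext x
      change g (g.symm (ψ' (E.cotangentComplex x))) = ψ' (E.cotangentComplex x)
      rw [LinearEquiv.apply_symm_apply])

end YM

section Final

open Groth.Agent.Lib.ExalT1 Groth.Agent.Lib.CotTIndep Algebra.Extension

variable {ι σ : Type u} (P : Algebra.Presentation k B₀ ι σ)
variable (h0 : H0 (DF Λ B₀ (k := k))) (h2 : Heps (DF Λ B₀ (k := k)))

theorem exists_lift_presentation (X : Exal.Ext k B₀ (B₀ ⊗[k] k)) :
    ∃ s : P.toExtension.Ring →ₐ[k] X.E, ∀ r, X.proj (s r) = algebraMap P.toExtension.Ring B₀ r := by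
  choose y hy using X.isExtension.proj_surjective
  refine ⟨(MvPolynomial.aeval (fun i => y (P.val i)) : MvPolynomial _ k →ₐ[k] X.E), fun r => ?_⟩
  have : X.proj.comp (MvPolynomial.aeval (fun i => y (P.val i)) : MvPolynomial _ k →ₐ[k] X.E) =
      IsScalarTower.toAlgHom k P.toExtension.Ring B₀ := by
    apply MvPolynomial.algHom_ext
    intro i
    change X.proj (MvPolynomial.aeval (fun i => y (P.val i)) (MvPolynomial.X i)) =
      algebraMap P.Ring B₀ (MvPolynomial.X i)
    rw [MvPolynomial.aeval_X, hy, Algebra.Generators.algebraMap_apply, MvPolynomial.aeval_X]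
  exact congrArg (fun f => f r) this

/-- the tangent space of the deformation functor of `Spec B₀` has the dimension of `T¹(B₀/k, B₀)`. -/
theorem finrank_tangent_DF :
    @Module.finrank k ((DF Λ B₀ (k := k)).obj (dual Λ k)) _
      (addCommGroup (F := DF Λ B₀ (k := k)) h0 h2).toAddCommMonoid
      (module (F := DF Λ B₀ (k := k)) h0 h2) = Module.finrank k (CotT.T1 P B₀) := by
  letI := addCommGroup (F := DF Λ B₀ (k := k)) h0 h2
  letI := module (F := DF Λ B₀ (k := k)) h0 h2
  have e1 : Module.finrank k (Y (B₀ ⊗[k] k) P.toExtension) =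
      Module.finrank k ((DF Λ B₀ (k := k)).obj (dual Λ k)) := by
    refine finrank_eq_of_factor (qLin P.toExtension) (ThetaL Λ P.toExtension h0 h2)
      (qLin_surjective P.toExtension) ?_ ?_
    · intro t
      obtain ⟨v, hv⟩ := exists_Theta Λ P.toExtension k (exists_lift_presentation P) t
      exact ⟨v, hv⟩
    · intro v
      constructor
      · intro hv
        exact LinearMap.mem_ker.1 (ker_qLin_le Λ P.toExtension h0 h2 (LinearMap.mem_ker.2 hv))
      · intro hv
        exact LinearMap.mem_ker.1 (ker_ThetaL_le Λ P.toExtension h0 h2 (LinearMap.mem_ker.2 hv))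
  have e2 : Module.finrank k (Y (B₀ ⊗[k] k) P.toExtension) =
      Module.finrank k (Y B₀ P.toExtension) :=
    ((Ycongr P.toExtension (TensorProduct.AlgebraTensorModule.rid k B₀ B₀)).restrictScalars
      k).finrank_eq
  have e3 : Module.finrank k (CotT.T1 P B₀) = Module.finrank k (Y B₀ P.toExtension) :=
    ((T1equivY P B₀).restrictScalars k).finrank_eq
  rw [← e1, e2, e3]

end Final

end Groth.Agent.Lib.DefTan
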