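import Mathlib
import Groth.Prelude.Def_ArtFun2
import Groth.Agent.Lib.H59TangentStr
import Groth.Agent.Lib.H59Pushout
import Groth.Agent.Lib.H59ObsDim

/-!
# The tangent space of `h_R` and of a functor with a hull (helper1)

* `exists_linearMap_of_compat`: a map out of the tangent space compatible with `scale`, `plus`, `pr₁`, `pr₂` is linear;
* `finrank_tangent_eq_of_miniversal`: a miniversal family identifies the tangent spaces linearly;
* `finrank_tangent_hR`: `dim t_{h_R}` is the embedding dimension of `R`.
-/

set_option autoImplicit false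
set_option linter.style.haveILetI false
set_option linter.unusedVariables false
set_option linter.unusedSectionVars false

universe u v w

open CategoryTheory ArtFun ArtFun.Art Function IsLocalRing
open Groth.Agent.Lib.H59TangentStr

namespace Groth.Agent.Lib.HullDim

section Generic

variable {Λ : Type u} {k : Type u} [CommRing Λ] [Field k] [Algebra Λ k]

/-- a map out of the tangent space compatible with the structure maps is linear -/
theorem exists_linearMap_of_compat {F : Art Λ k ⥤ Type v} (h0 : H0 F) (h2 : Heps F)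
    [T : TangentStr F] {W : Type w} [AddCommGroup W] [Module k W] (Ψ : F.obj (dual Λ k) → W)
    (hs : ∀ (c : k) (x : F.obj (dual Λ k)), Ψ (F.map (scale c) x) = c • Ψ x)
    (ha : ∀ z : F.obj (dual2 Λ k), Ψ (F.map plus z) = Ψ (F.map pr₁ z) + Ψ (F.map pr₂ z)) :
    ∃ L : TangentSpace F →ₗ[k] W, ∀ x : TangentSpace F, L x = Ψ x := by
  have hadd : ∀ x y : TangentSpace F, Ψ (x + y) = Ψ x + Ψ y := by
    intro x y
    obtain ⟨z, hz1, hz2⟩ := pair_surjective h0 h2 k x y
    let z' : F.obj (dual2 Λ k) := z
    have hz1' : F.map pr₁ z' = x := hz1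
    have hz2' : F.map pr₂ z' = y := hz2
    have h3 : x + y = F.map plus z' := by
      have h4 := T.add_eq z'
      rw [hz1', hz2'] at h4
      exact h4
    exact (congrArg Ψ h3).trans ((ha z').trans
      (congrArg₂ (· + ·) (congrArg Ψ hz1') (congrArg Ψ hz2')))
  have hsmul : ∀ (c : k) (x : TangentSpace F), Ψ (c • x) = c • Ψ x := by
    intro c x
    have h3 : c • x = F.map (scale c) (x : F.obj (dual Λ k)) := T.smul_eq c x
    exact (congrArg Ψ h3).trans (hs c x)
  exact ⟨{ toFun := Ψ, map_add' := hadd, map_smul' := hsmul }, fun x => rfl⟩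

/-- a miniversal family identifies the tangent spaces linearly -/
theorem finrank_tangent_eq_of_miniversal {F : Art Λ k ⥤ Type v} [TF : TangentStr F]
    {R : Type u} [CommRing R] [Algebra Λ R] {resR : R →ₐ[Λ] k} [TR : TangentStr (hR R resR)]
    (h0 : H0 (hR R resR)) (h2 : Heps (hR R resR))
    (ξ : Family R resR F) (hξ : Function.Bijective (ξ.app (dual Λ k))) :
    Module.finrank k (TangentSpace (hR R resR)) = Module.finrank k (TangentSpace F) := by
  obtain ⟨L, hL⟩ := exists_linearMap_of_compat (F := hR R resR) h0 h2 (W := TangentSpace F)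
    (fun x => TangentSpace.mk (ξ.app (dual Λ k) x))
    (fun c x => by
      have h1 : ξ.app (dual Λ k) (HomSet.map (scale c) x) = F.map (scale c) (ξ.app (dual Λ k) x) :=
        ξ.natural (scale c) x
      have h3 : c • TangentSpace.mk (ξ.app (dual Λ k) x) = F.map (scale c) (ξ.app (dual Λ k) x) :=
        TF.smul_eq c _
      exact (congrArg TangentSpace.mk h1).trans h3.symm)
    (fun z => by
      have h1 : ξ.app (dual Λ k) (HomSet.map plus z) = F.map plus (ξ.app (dual2 Λ k) z) :=
        ξ.natural plus z
      have h2 : ξ.app (dual Λ k) (HomSet.map pr₁ z) = F.map pr₁ (ξ.app (dual2 Λ k) z) :=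
        ξ.natural pr₁ z
      have h3 : ξ.app (dual Λ k) (HomSet.map pr₂ z) = F.map pr₂ (ξ.app (dual2 Λ k) z) :=
        ξ.natural pr₂ z
      have h4 : TangentSpace.mk (F.map pr₁ (ξ.app (dual2 Λ k) z)) +
          TangentSpace.mk (F.map pr₂ (ξ.app (dual2 Λ k) z)) =
          TangentSpace.mk (F.map plus (ξ.app (dual2 Λ k) z)) := TF.add_eq (ξ.app (dual2 Λ k) z)
      exact (congrArg TangentSpace.mk h1).trans (h4.symm.trans
        (congrArg₂ (· + ·) (congrArg TangentSpace.mk h2.symm) (congrArg TangentSpace.mk h3.symm))))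
  have hbij : Function.Bijective L := by
    have : ⇑L = ξ.app (dual Λ k) := funext hL
    rw [this]
    exact hξ
  exact (LinearEquiv.ofBijective L hbij).finrank_eq

end Generic

section HR

variable {k : Type u} [Field k]

open Groth.Agent.Lib.H59PowerSeries Groth.Agent.Lib.H59PowerSeriesCRing Groth.Agent.Lib.H59ObsDim
  Groth.Agent.Lib.H59Pushout Groth.Agent.Lib.H59T1Lift Groth.Agent.Lib.H59ObsHR
  Groth.Agent.Lib.H59PowerSeriesLift

theorem tsze_mul_eq_zero (x y : TrivSqZeroExt k k) (hx : x.fst = 0) (hy : y.fst = 0) :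
    x * y = 0 := by
  apply TrivSqZeroExt.ext
  · rw [TrivSqZeroExt.fst_mul, hx, zero_mul]
    rfl
  · rw [TrivSqZeroExt.snd_mul, hx, hy, zero_smul, MulOpposite.op_zero, zero_smul, add_zero]
    rfl

theorem mul_eq_zero_of_mem_maximalIdeal_dual (x y : dual k k) (hx : x ∈ maximalIdeal (dual k k))
    (hy : y ∈ maximalIdeal (dual k k)) : x * y = 0 :=
  tsze_mul_eq_zero x y ((Art.mem_maximalIdeal_iff (dual k k) x).1 hx)
    ((Art.mem_maximalIdeal_iff (dual k k) y).1 hy)

/-- the tangent space of `h_R` has the dimension of the cotangent space of `R`. -/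
theorem finrank_tangent_hR (R : CRing k k) [T : TangentStr (hR R.carrier R.res)] :
    Module.finrank k (TangentSpace (hR R.carrier R.res)) =
      Module.finrank (ResidueField R.carrier) (CotangentSpace R.carrier) := by
  classical
  obtain ⟨u, husurj, hker⟩ := exists_presentation_finrank R
  generalize Module.finrank (ResidueField R.carrier) (CotangentSpace R.carrier) = d at u husurj hker ⊢
  let Ψ : (hR R.carrier R.res).obj (dual k k) → (Fin d → k) :=
    fun ψ i => TrivSqZeroExt.snd (ψ.1 (u (MvPowerSeries.X i)) : TrivSqZeroExt k k)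
  obtain ⟨L, hL⟩ := exists_linearMap_of_compat (h0_hR R) (heps_hR R) Ψ
    (fun c ψ => by
      funext i
      rfl)
    (fun z => by
      funext i
      rfl)
  obtain ⟨N, hN⟩ := Groth.Agent.Lib.ArtFunFormal.isNilpotent_maximalIdeal (dual k k)
  have hN' : maximalIdeal (dual k k) ^ N = ⊥ := hN
  have hbij : Function.Bijective L := by
    constructor
    · intro ψ ψ' h
      rw [hL, hL] at h
      apply Subtype.ext
      apply AlgHom.ext
      intro r
      obtain ⟨g, rfl⟩ := husurj r
      have hX : ∀ i, (ψ.1.comp u) (MvPowerSeries.X i) = (ψ'.1.comp u) (MvPowerSeries.X i) := by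
        intro i
        apply TrivSqZeroExt.ext
        · have e1 : (dual k k).res (ψ.1 (u (MvPowerSeries.X i))) = R.res (u (MvPowerSeries.X i)) :=
            DFunLike.congr_fun ψ.2 _
          have e2 : (dual k k).res (ψ'.1 (u (MvPowerSeries.X i))) = R.res (u (MvPowerSeries.X i)) :=
            DFunLike.congr_fun ψ'.2 _
          exact e1.trans e2.symm
        · exact congrFun h i
      have := eval_unique (maximalIdeal (dual k k)) N hN' (ψ.1.comp u) (ψ'.1.comp u)
        (fun i => map_X_mem_maximalIdeal d (dual k k) (ψ.1.comp u) i) hX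
      exact DFunLike.congr_fun this g
    · intro a
      let b : Fin d → (dual k k) := fun i => (TrivSqZeroExt.inr (a i) : TrivSqZeroExt k k)
      have hb : ∀ i, b i ∈ maximalIdeal (dual k k) := by
        intro i
        exact (Art.mem_maximalIdeal_iff (dual k k) _).2 rfl
      obtain ⟨φ, hφ⟩ := exists_eval (σ := Fin d) (R := k) (maximalIdeal (dual k k)) N hN' b hb
      have hφX : ∀ i, φ (MvPowerSeries.X i) = b i := by
        intro i
        have h1 := hφ (MvPolynomial.X i)
        rw [MvPolynomial.coe_X] at h1
        exact h1.trans (MvPolynomial.aeval_X b i)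
      have hkill : RingHom.ker u.toRingHom ≤ RingHom.ker φ.toRingHom := by
        intro g hg
        have hg2 : g ∈ maximalIdeal (MvPowerSeries (Fin d) k) ^ 2 := hker hg
        rw [RingHom.mem_ker]
        change φ g = 0
        rw [sq] at hg2
        refine Submodule.mul_induction_on hg2 ?_ ?_
        · intro x hx y hy
          rw [map_mul]
          exact mul_eq_zero_of_mem_maximalIdeal_dual _ _
            (map_mem_maximalIdeal (dual k k) φ x hx) (map_mem_maximalIdeal (dual k k) φ y hy)
        · intro x y hx hy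
          rw [map_add, hx, hy, add_zero]
      let ψ₁ : R.carrier →ₐ[k] (dual k k) := AlgHom.liftOfSurjective u husurj φ hkill
      let ψ₂ : TangentSpace (hR R.carrier R.res) :=
        (⟨ψ₁, res_comp_eq R (dual k k) ψ₁⟩ : HomSet R.carrier R.res (dual k k))
      refine ⟨ψ₂, (hL ψ₂).trans ?_⟩
      funext i
      change TrivSqZeroExt.snd (ψ₁ (u (MvPowerSeries.X i)) : TrivSqZeroExt k k) = a i
      have h1 : ψ₁ (u (MvPowerSeries.X i)) = φ (MvPowerSeries.X i) :=
        AlgHom.liftOfSurjective_apply u husurj φ hkill _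
      rw [h1, hφX]
      rfl
  rw [(LinearEquiv.ofBijective L hbij).finrank_eq, Module.finrank_fin_fun]

end HR

end Groth.Agent.Lib.HullDim
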