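import Groth.Agent.Lib.HullDimC
import Groth.Agent.Lib.H59Pushout

/-!
# Smoothness of a functor with a hull and the dimension of the hull (helper1)
-/

set_option autoImplicit false
set_option linter.unusedSectionVars false
set_option linter.unusedVariables false
universe u v w
open CategoryTheory ArtFun ArtFun.Art IsLocalRing Function

namespace Groth.Agent.Lib.HullDim

open Groth.Agent.Lib.H59PowerSeries Groth.Agent.Lib.H59PowerSeriesCRing Groth.Agent.Lib.H59BaseCRing
  Groth.Agent.Lib.H59PowerSeriesLift Groth.Agent.Lib.H59T1Lift Groth.Agent.Lib.H59ObsHR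
  Groth.Agent.Lib.H59PowerSeriesDim Groth.Agent.Lib.H59ObsTransport Groth.Agent.Lib.H59ObsDim
  Groth.Agent.Lib.H59Pushout

variable {k : Type u} [Field k]

/-- a smooth functor has the weak obstruction property with `r = 0` -/
theorem WOP.of_smooth {F : Art k k ⥤ Type v} (hF : IsSmoothFunctor F) : WOP F 0 := by
  intro C' C p hp hlt x
  have hK : (⊥ : Ideal C') ≤ maximalIdeal C' := bot_le
  have hKJ : (⊥ : Ideal C') ≤ RingHom.ker p.toAlgHom := bot_le
  refine ⟨⊥, hK, hKJ, ?_, ?_⟩
  · intro h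
    rw [← h] at hlt
    have h0 : Module.finrank k ↥(⊥ : Ideal C') = 0 := Module.finrank_zero_of_subsingleton
    omega
  · obtain ⟨x', hx'⟩ := hF p hp.1 x
    refine ⟨F.map (quotMk C' ⊥ hK) x', ?_⟩
    rw [← CategoryTheory.Functor.map_comp_apply, quotMk_quotFactor]
    exact hx'

/-- a presentation of a ring of full dimension is injective -/
theorem injective_of_dim_eq {d : ℕ} (R : CRing k k) (u : MvPowerSeries (Fin d) k →ₐ[k] R.carrier)
    (hu : Surjective u) (hdim : ringKrullDim R.carrier = d) : Injective u := by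
  rw [injective_iff_map_eq_zero]
  intro x hx
  by_contra hne
  have hx0 : x ∈ nonZeroDivisors (MvPowerSeries (Fin d) k) := mem_nonZeroDivisors_of_ne_zero hne
  have h1 := ringKrullDim_quotient_succ_le_of_nonZeroDivisor hx0
  rw [ringKrullDim_psk] at h1
  let f : MvPowerSeries (Fin d) k ⧸ Ideal.span {x} →+* R.carrier :=
    Ideal.Quotient.lift _ (u : MvPowerSeries (Fin d) k →+* R.carrier) (by
      intro a ha
      obtain ⟨c, rfl⟩ := Ideal.mem_span_singleton'.1 ha
      change u (c * x) = 0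
      rw [map_mul, hx, mul_zero])
  have hf : Surjective f := fun r => by
    obtain ⟨g, rfl⟩ := hu r
    exact ⟨Ideal.Quotient.mk _ g, Ideal.Quotient.lift_mk _ _ _⟩
  have h2 := ringKrullDim_le_of_surjective f hf
  rw [hdim] at h2
  have h3 : ((d + 1 : ℕ) : WithBot ℕ∞) ≤ (d : ℕ) := by
    rw [Nat.cast_add, Nat.cast_one]
    exact le_trans (add_le_add h2 le_rfl) h1
  have h4 : d + 1 ≤ d := by exact_mod_cast h3
  omega

/-- `h_R` is smooth for a power series ring -/
theorem isSmoothFunctor_hR_of_bijective {d : ℕ} (R : CRing k k)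
    (u : MvPowerSeries (Fin d) k →ₐ[k] R.carrier) (hu : Bijective u) :
    IsSmoothFunctor (hR R.carrier R.res) := by
  intro B A μ hμ φ
  let e := AlgEquiv.ofBijective u hu
  obtain ⟨ψ', hψ'⟩ := exists_lift μ hμ (φ.1.comp u)
  let ψ₁ : R.carrier →ₐ[k] B := ψ'.comp (e.symm : R.carrier →ₐ[k] MvPowerSeries (Fin d) k)
  refine ⟨(⟨ψ₁, res_comp_eq R B ψ₁⟩ : HomSet R.carrier R.res B), ?_⟩
  apply Subtype.ext
  apply AlgHom.ext
  intro r
  obtain ⟨g, rfl⟩ := hu.2 r
  change μ.toAlgHom (ψ' (e.symm (u g))) = φ.1 (u g)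
  have h1 : e.symm (u g) = g := e.symm_apply_apply g
  rw [h1]
  exact DFunLike.congr_fun hψ' g

/-- a functor with a versal family over a ring with smooth `h_R` is smooth -/
theorem isSmoothFunctor_of_versal {F : Art k k ⥤ Type v} (h0 : H0 F) (R : CRing k k)
    (ξ : Family R.carrier R.res F) (hξ : IsVersal ξ)
    (hsm : IsSmoothFunctor (hR R.carrier R.res)) : IsSmoothFunctor F := by
  intro B A μ hμ a
  obtain ⟨φ₀⟩ := (h0_hR R).1
  have hsub := h0.2
  obtain ⟨ψ, -, hψ⟩ := hξ (toBase A) A.res_surjective φ₀ a (hsub.elim _ _)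
  obtain ⟨ψB, hψB⟩ := hsm μ hμ ψ
  refine ⟨ξ.app B ψB, ?_⟩
  have hψB' : HomSet.map μ ψB = ψ := hψB
  have h1 : ξ.app A (HomSet.map μ ψB) = F.map μ (ξ.app B ψB) := ξ.natural μ ψB
  exact h1.symm.trans ((congrArg (ξ.app A) hψB').trans hψ)

end Groth.Agent.Lib.HullDim
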