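import Groth.Agent.Lib.RegSub53b
import Groth.Agent.Lib.H29LocCohReg
import Groth.Agent.Lib.LocCohLinear

/-!
# `A^(1)` finite ⇒ `H^1_J(A)` finite for `ht J ≥ 2` (helper53)
-/

set_option maxHeartbeats 400000
set_option linter.unusedSectionVars false
set_option linter.style.haveILetI false
universe u

namespace Groth.Agent.Lib.HullFin53
open Groth.Agent.Lib.LocCohLES Groth.Agent.Lib.NormHartogs53

section gen
variable {R : Type u} [CommRing R] (I : Ideal R) (M : Type u) [AddCommGroup M] [Module R M]

/-- if some `e ∈ I` acts bijectively on `M`, all `H^i_I(M)` vanish. -/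
theorem subsingleton_H_of_smul_bijective (e : R) (he : e ∈ I)
    (hbij : Function.Bijective (fun m : M => e • m)) (i : ℕ) :
    Subsingleton (LocCoh.H I i M) := by
  let φ : M ≃ₗ[R] M := LinearEquiv.ofBijective (e • (LinearMap.id : M →ₗ[R] M)) hbij
  have hφ : ∀ y : LocCoh.H I i M, Hmap I φ.toLinearMap i y = e • y := by
    intro y
    have : φ.toLinearMap = e • (LinearMap.id : M →ₗ[R] M) := rfl
    rw [this, Hmap_smul, Hmap_id]
  have hinj : ∀ y : LocCoh.H I i M, e • y = 0 → y = 0 := by
    intro y hy
    rw [← hφ] at hy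
    exact (Hmap_bijective_of_equiv I φ i).1 (by rw [hy, map_zero])
  refine subsingleton_of_forall_eq 0 fun y => ?_
  obtain ⟨n, hn⟩ := Groth.Agent.Lib.H29LocCohReg.isPowerTorsion_H I M i y
  have h0 : e ^ n • y = 0 := hn _ (Ideal.pow_mem_pow he n)
  clear hn
  induction n with
  | zero => simpa using h0
  | succ n ih =>
    apply ih
    apply hinj
    rw [← mul_smul, ← pow_succ']
    exact h0

end gen

section dom
variable (B : Type u) [CommRing B] [IsDomain B] [IsNoetherianRing B] (J : Ideal B)

theorem subsingleton_H_fractionRing (hJ : J ≠ ⊥) (i : ℕ) :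
    Subsingleton (LocCoh.H J i (FractionRing B)) := by
  have hinj : Function.Injective (algebraMap B (FractionRing B)) :=
    IsFractionRing.injective B (FractionRing B)
  obtain ⟨e, heI, he0⟩ : ∃ e ∈ J, e ≠ 0 := by
    by_contra hcon
    push Not at hcon
    exact hJ (eq_bot_iff.2 fun e he => by rw [Ideal.mem_bot]; exact hcon e he)
  have he0' : algebraMap B (FractionRing B) e ≠ 0 := fun h => he0 ((map_eq_zero_iff _ hinj).1 h)
  refine subsingleton_H_of_smul_bijective J (FractionRing B) e heI ⟨?_, ?_⟩ i
  · intro x y hxy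
    simp only [Algebra.smul_def] at hxy
    exact mul_left_cancel₀ he0' hxy
  · intro y
    refine ⟨(algebraMap B (FractionRing B) e)⁻¹ * y, ?_⟩
    simp only [Algebra.smul_def]
    rw [← mul_assoc, mul_inv_cancel₀ he0', one_mul]

/-- converse of `finite_regSubalgebra_of_finite_H1`. -/
theorem finite_H1_of_finite_regSubalgebra (hJ : J ≠ ⊥)
    (hfin : Module.Finite B (regSubalgebra B {p | ¬ J ≤ p})) :
    Module.Finite B (LocCoh.H J 1 B) := by
  have hinj : Function.Injective (algebraMap B (FractionRing B)) :=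
    IsFractionRing.injective B (FractionRing B)
  let f : B →ₗ[B] FractionRing B := Algebra.linearMap B (FractionRing B)
  let g := (LinearMap.range f).mkQ
  have hg : Function.Surjective g := Submodule.mkQ_surjective _
  have hfg : Function.Exact f g := LinearMap.exact_map_mkQ_range f
  haveI := subsingleton_H_fractionRing B J hJ 1
  have hδ : Function.Surjective (Hδ J f g hinj hfg hg 0) := by
    intro y
    exact (exact₁ J f g hinj hfg hg 0 y).1 (Subsingleton.elim _ _)
  let S := regSubalgebra B {p | ¬ J ≤ p}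
  let φ : S →ₗ[B] DRing.torsionSub J (FractionRing B ⧸ LinearMap.range f) :=
    LinearMap.codRestrict _ (g.comp S.val.toLinearMap) (fun x => by
      obtain ⟨n, hn⟩ := exists_pow_mul_mem B J x.1 x.2
      refine ⟨n, fun r hr => ?_⟩
      obtain ⟨a, ha⟩ := hn r hr
      change r • g (x : FractionRing B) = 0
      rw [← map_smul, Algebra.smul_def, ← ha]
      exact (Submodule.Quotient.mk_eq_zero _).2 ⟨a, rfl⟩)
  have hφ : Function.Surjective φ := by
    rintro ⟨y, n, hn⟩
    obtain ⟨x, rfl⟩ := hg y
    have hxS : x ∈ S := by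
      intro p hp hJp
      obtain ⟨s, hsJ, hsp⟩ := SetLike.not_le_iff_exists.1 hJp
      have h1 := hn (s ^ n) (Ideal.pow_mem_pow hsJ n)
      rw [← map_smul] at h1
      obtain ⟨a, ha⟩ := (Submodule.Quotient.mk_eq_zero _).1 h1
      refine ⟨s ^ n, fun h => hsp (hp.mem_of_pow_mem n h), a, ?_⟩
      rw [← Algebra.smul_def]
      exact ha
    exact ⟨⟨x, hxS⟩, Subtype.ext rfl⟩
  let ψ : S →ₗ[B] LocCoh.H J 1 B :=
    (Hδ J f g hinj hfg hg 0).comp
      ((Groth.Agent.Lib.LocCohH0.gammaEquiv J _).symm.toLinearMap.comp φ)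
  have hψ : Function.Surjective ψ :=
    hδ.comp ((Groth.Agent.Lib.LocCohH0.gammaEquiv J _).symm.surjective.comp hφ)
  exact Module.Finite.of_surjective ψ hψ

end dom

section hull
variable (A : Type u) [CommRing A] [IsDomain A] [IsNoetherianRing A]

theorem finite_regSubalgebra_of_heightOneHullFinite (hA : EGA4.HeightOneHullFinite A) :
    Module.Finite A (regSubalgebra A {q | q.height = 1}) := by
  obtain ⟨S, hS, hfin⟩ := hA
  have : S = regSubalgebra A {q | q.height = 1} := SetLike.coe_injective (by rw [hS]; rfl)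
  rw [← this]
  exact hfin

theorem finite_regSubalgebra_of_le (P₁ P₂ : Set (Ideal A)) (h : P₁ ⊆ P₂)
    (hfin : Module.Finite A (regSubalgebra A P₁)) : Module.Finite A (regSubalgebra A P₂) := by
  have hle : regSubalgebra A P₂ ≤ regSubalgebra A P₁ := fun x hx p hp hpP => @hx p hp (h hpP)
  haveI : IsNoetherian A (regSubalgebra A P₁) := isNoetherian_of_isNoetherianRing_of_finite A _
  exact Module.Finite.of_injective (Subalgebra.inclusion hle).toLinearMap
    (Subalgebra.inclusion_injective hle)

/-- `A^(1)` finite ⇒ `H^1_J(A)` finite for all ideals `J` of height `≥ 2`. -/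
theorem finite_H1_of_heightOneHullFinite (hA : EGA4.HeightOneHullFinite A) (J : Ideal A)
    (hJ : (2 : ℕ∞) ≤ J.height) : Module.Finite A (LocCoh.H J 1 A) := by
  have hJ0 : J ≠ ⊥ := by
    rintro rfl
    rw [Ideal.height_bot] at hJ
    exact absurd hJ (by decide)
  refine finite_H1_of_finite_regSubalgebra A J hJ0 ?_
  refine finite_regSubalgebra_of_le A {q | q.height = 1} _ ?_
    (finite_regSubalgebra_of_heightOneHullFinite A hA)
  intro q hq hJq
  have h1 : J.height ≤ q.height := Ideal.height_mono hJq
  rw [show q.height = 1 from hq] at h1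
  exact absurd (hJ.trans h1) (by decide)

end hull

end Groth.Agent.Lib.HullFin53
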