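import Groth.Agent.Lib.HullFin53a
import Groth.Agent.Lib.PushCompl53b

/-!
# `A^(1)` finite ⇒ height-one primes of a finite extension domain lie over height-one primes
(helper53)
-/

set_option maxHeartbeats 400000
set_option linter.unusedSectionVars false
set_option linter.style.haveILetI false
universe u

namespace Groth.Agent.Lib.HullFin53
open Groth.Agent.Lib.LocCohLES Groth.Agent.Lib.NormHartogs53

section dom
variable (B : Type u) [CommRing B] [IsDomain B]

theorem height_map_mk_bot (I : Ideal B) :
    (I.map (Ideal.Quotient.mk (⊥ : Ideal B))).height = I.height := by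
  have hmk : (Ideal.Quotient.mk (⊥ : Ideal B)) =
      ((RingEquiv.quotientBot B).symm : B →+* B ⧸ (⊥ : Ideal B)) :=
    RingHom.ext fun x => rfl
  rw [hmk]
  exact RingEquiv.height_map _ I

theorem bot_mem_associatedPrimes_self [IsNoetherianRing B] :
    (⊥ : Ideal B) ∈ associatedPrimes B B := by
  refine isAssociatedPrime_iff.2 ⟨Ideal.isPrime_bot, 1, ?_⟩
  ext a
  rw [Submodule.mem_colon_singleton, Ideal.mem_bot, Submodule.mem_bot, smul_eq_mul, mul_one]

/-- over a Noetherian domain, `H^1_J(B)` finite forces `ht J ≥ 2`. -/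
theorem two_le_height_of_finite_H1 [IsNoetherianRing B] (J : Ideal B) (hJ : J ≠ ⊥)
    (h1 : Module.Finite B (LocCoh.H J 1 B)) : (2 : ℕ∞) ≤ J.height := by
  have := Groth.Agent.Lib.PushCompl53.height_ge_two_of_finite_H1 B J B h1 ⊥
    (bot_mem_associatedPrimes_self B) (fun h => hJ (le_bot_iff.1 h))
  rwa [height_map_mk_bot] at this

end dom

section ext
variable (A : Type u) [CommRing A] [IsDomain A] [IsNoetherianRing A]
  (B : Type u) [CommRing B] [IsDomain B] [Algebra A B] [FaithfulSMul A B] [Module.Finite A B]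

theorem eq_bot_of_mem_associatedPrimes_ext (p : Ideal A) (hp : p ∈ associatedPrimes A B) :
    p = ⊥ := by
  obtain ⟨hpp, x, hx⟩ := isAssociatedPrime_iff.1 hp
  have hx0 : x ≠ 0 := by
    rintro rfl
    apply hpp.ne_top
    rw [hx, Ideal.eq_top_iff_one, Submodule.mem_colon_singleton, smul_zero]
    exact Submodule.zero_mem _
  rw [eq_bot_iff]
  intro a ha
  rw [hx, Submodule.mem_colon_singleton, Submodule.mem_bot, Algebra.smul_def] at ha
  rw [Ideal.mem_bot]
  have h0 := (mul_eq_zero.1 ha).resolve_right hx0
  exact (map_eq_zero_iff _ (FaithfulSMul.algebraMap_injective A B)).1 h0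

/-- `H^1_J(A)` finite ⇒ `H^1_J(B)` finite over `A`. -/
theorem finite_H1_ext (J : Ideal A) (h : Module.Finite A (LocCoh.H J 1 A)) :
    Module.Finite A (LocCoh.H J 1 B) := by
  rw [Groth.Agent.Lib.H1Fin53.finite_H1_iff]
  intro p hp _
  obtain rfl := eq_bot_of_mem_associatedPrimes_ext A B p hp
  exact Groth.Agent.Lib.H1Fin53.F_of_equiv J
    (Submodule.quotEquivOfEqBot (⊥ : Submodule A A) rfl).symm h

/-- `H^1_J(A)` finite ⇒ `H^1_{JB}(B)` finite over `B`. -/
theorem finite_H1_map (J : Ideal A) (h : Module.Finite A (LocCoh.H J 1 A)) :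
    Module.Finite B (LocCoh.H (J.map (algebraMap A B)) 1 B) := by
  haveI : IsNoetherianRing B := IsNoetherianRing.of_finite A B
  obtain ⟨φ, hφ⟩ := Groth.Agent.Lib.LocCohIndepBase.indep_base (R := A) (R' := B) J 1 B
  have hA := finite_H1_ext A B J h
  letI : Module A (LocCoh.H (J.map (algebraMap A B)) 1 B) :=
    Module.compHom _ (algebraMap A B)
  haveI : IsScalarTower A B (LocCoh.H (J.map (algebraMap A B)) 1 B) :=
    ⟨fun r b y => by
      change (r • b) • y = algebraMap A B r • (b • y)
      rw [Algebra.smul_def, mul_smul]⟩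
  let e : LocCoh.H (J.map (algebraMap A B)) 1 B ≃ₗ[A] LocCoh.H J 1 B :=
    { φ with map_smul' := fun r y => hφ r y }
  haveI : Module.Finite A (LocCoh.H (J.map (algebraMap A B)) 1 B) := Module.Finite.equiv e.symm
  exact Module.Finite.of_restrictScalars_finite A B _

/-- **EGA IV 5.10.17 (second half)**: if `A^(1)` is finite, a height-one prime of a finite
extension domain lies over a height-one prime. -/
theorem height_comap_eq_one (hA : EGA4.HeightOneHullFinite A) (q : Ideal B) [q.IsPrime]
    (hq : q.height = 1) : (q.comap (algebraMap A B)).height = 1 := by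
  haveI : IsNoetherianRing B := IsNoetherianRing.of_finite A B
  haveI : Algebra.IsIntegral A B := inferInstance
  set p := q.comap (algebraMap A B) with hp
  have hp0 : p ≠ ⊥ := by
    intro h0
    have : q = ⊥ := Ideal.eq_bot_of_comap_eq_bot h0
    rw [this, Ideal.height_bot] at hq
    exact absurd hq (by decide)
  by_contra h1
  have h2 : (2 : ℕ∞) ≤ p.height :=
    two_le_of_ne _ (fun h => hp0 (Ideal.height_eq_zero_iff_eq_bot.1 h)) h1
  have hfin := finite_H1_map A B p (finite_H1_of_heightOneHullFinite A hA p h2)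
  have hpB0 : p.map (algebraMap A B) ≠ ⊥ := by
    intro h0
    apply hp0
    rw [eq_bot_iff]
    intro a ha
    have : algebraMap A B a ∈ p.map (algebraMap A B) := Ideal.mem_map_of_mem _ ha
    rw [h0, Ideal.mem_bot] at this
    rw [Ideal.mem_bot]
    exact (map_eq_zero_iff _ (FaithfulSMul.algebraMap_injective A B)).1 this
  have h3 := two_le_height_of_finite_H1 B _ hpB0 hfin
  have h4 : (p.map (algebraMap A B)).height ≤ q.height := Ideal.height_mono Ideal.map_comap_le
  rw [hq] at h4
  exact absurd (h3.trans h4) (by decide)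

end ext

end Groth.Agent.Lib.HullFin53
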