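import Groth.Agent.Lib.SingleMaps31
import Groth.Agent.Lib.FreeSheaf31
import Groth.Agent.Lib.HomologySheafLocal31
import Mathlib.CategoryTheory.Preadditive.Yoneda.Basic

/-!
# The comparison between the hypercohomology presheaf and the cohomology sheaf (helper31)

For `K` in the derived category of abelian sheaves on a small site, the presheaf
`HP K : U ↦ Hom_D(ℤ_U[0], K)` maps to (the underlying presheaf of) the sheaf `H⁰(K)` by
`θ K`, naturally in `K`, and `θ K` is locally bijective (`W_θ`).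
-/

set_option autoImplicit false

open CategoryTheory CategoryTheory.Limits Opposite HomologicalComplex DerivedCategory

universe u

namespace Groth.Agent.HyperLocal31

open Groth.Agent.FreeSheaf31 Groth.Agent.SingleMaps31 Groth.Agent.HomologySheafLocal31

variable {C : Type u} [SmallCategory C] {J : GrothendieckTopology C}
  [HasDerivedCategory.{u} (Sheaf J AddCommGrpCat.{u})]

/-- `ℤ_U[0]` in the derived category -/
noncomputable abbrev ZD (J : GrothendieckTopology C)
    [HasDerivedCategory.{u} (Sheaf J AddCommGrpCat.{u})] (U : C) :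
    DerivedCategory (Sheaf J AddCommGrpCat.{u}) :=
  Q.obj ((s0 (𝒜 := Sheaf J AddCommGrpCat.{u})).obj ((Zf J).obj U))

/-- restriction maps `ℤ_V[0] ⟶ ℤ_U[0]` -/
noncomputable abbrev ZDmap (J : GrothendieckTopology C)
    [HasDerivedCategory.{u} (Sheaf J AddCommGrpCat.{u})] {U V : C} (h : V ⟶ U) :
    ZD J V ⟶ ZD J U :=
  Q.map ((s0 (𝒜 := Sheaf J AddCommGrpCat.{u})).map ((Zf J).map h))

/-- the comparison map on sections -/
noncomputable def θfun (U : C) (K : DerivedCategory (Sheaf J AddCommGrpCat.{u}))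
    (f : ZD J U ⟶ K) : ((homologyFunctor (Sheaf J AddCommGrpCat.{u}) 0).obj K).obj.obj (op U) :=
  homEquiv U _ (σ ((Zf J).obj U) ≫ (homologyFunctor (Sheaf J AddCommGrpCat.{u}) 0).map f)

lemma θfun_zero (U : C) (K : DerivedCategory (Sheaf J AddCommGrpCat.{u})) :
    θfun U K 0 = 0 := by
  unfold θfun
  rw [Functor.map_zero, comp_zero, homEquiv_zero]

lemma θfun_add (U : C) (K : DerivedCategory (Sheaf J AddCommGrpCat.{u})) (f g : ZD J U ⟶ K) :
    θfun U K (f + g) = θfun U K f + θfun U K g := by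
  unfold θfun
  rw [Functor.map_add, Preadditive.comp_add, homEquiv_add]

lemma θfun_comp (U : C) {K K' : DerivedCategory (Sheaf J AddCommGrpCat.{u})} (f : ZD J U ⟶ K)
    (α : K ⟶ K') :
    θfun U K' (f ≫ α) =
      ((homologyFunctor (Sheaf J AddCommGrpCat.{u}) 0).map α).hom.app (op U) (θfun U K f) := by
  unfold θfun
  rw [Functor.map_comp, ← Category.assoc, homEquiv_comp]

lemma θfun_map {U V : C} (h : V ⟶ U) {K : DerivedCategory (Sheaf J AddCommGrpCat.{u})}
    (f : ZD J U ⟶ K) :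
    θfun V K (ZDmap J h ≫ f) =
      ((homologyFunctor (Sheaf J AddCommGrpCat.{u}) 0).obj K).obj.map h.op (θfun U K f) := by
  unfold θfun
  rw [Functor.map_comp, ← Category.assoc, σ_naturality, Category.assoc, homEquiv_map]

lemma θfun_gOf {U : C} {M : CochainComplex (Sheaf J AddCommGrpCat.{u}) ℤ}
    (z : (Zf J).obj U ⟶ M.cycles 0) :
    θfun U (Q.obj M) (Q.map (gOf z)) =
      homEquiv U _ (z ≫ M.homologyπ 0 ≫ (φI M).inv) := by
  unfold θfun
  rw [σ_gOf']

omit [HasDerivedCategory.{u} (Sheaf J AddCommGrpCat.{u})] in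
/-- a cocycle whose class vanishes in the cohomology sheaf is locally a coboundary -/
lemma exists_local_bdry {U : C} {M : CochainComplex (Sheaf J AddCommGrpCat.{u}) ℤ}
    (z : (Zf J).obj U ⟶ M.cycles 0) (hz : z ≫ M.homologyπ 0 = 0) :
    ∃ S ∈ J U, ∀ ⦃V : C⦄ (h : V ⟶ U), S.arrows h →
      ∃ x : (Zf J).obj V ⟶ M.X (-1), x ≫ M.toCycles (-1) 0 = (Zf J).map h ≫ z := by
  have hex : (ShortComplex.mk (M.toCycles (-1) 0) (M.homologyπ 0)
      (M.toCycles_comp_homologyπ (-1) 0)).Exact :=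
    ShortComplex.exact_of_g_is_cokernel _ (M.homologyIsCokernel (-1) 0 (by simp))
  rw [ShortComplex.exact_iff_epi_kernel_lift] at hex
  obtain ⟨S, hS, hS'⟩ := exists_local_lift
    (kernel.lift (M.homologyπ 0) (M.toCycles (-1) 0) (M.toCycles_comp_homologyπ (-1) 0))
    (kernel.lift (M.homologyπ 0) z hz)
  refine ⟨S, hS, fun V h hh => ?_⟩
  obtain ⟨b, hb⟩ := hS' h hh
  refine ⟨b, ?_⟩
  have := congrArg (· ≫ kernel.ι (M.homologyπ 0)) hb
  simpa using this

/-- local surjectivity of the comparison map -/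
lemma θfun_locally_surjective (M : CochainComplex (Sheaf J AddCommGrpCat.{u}) ℤ) (U : C)
    (s : ((homologyFunctor (Sheaf J AddCommGrpCat.{u}) 0).obj (Q.obj M)).obj.obj (op U)) :
    ∃ S ∈ J U, ∀ ⦃V : C⦄ (h : V ⟶ U), S.arrows h → ∃ f : ZD J V ⟶ Q.obj M,
      θfun V (Q.obj M) f =
        ((homologyFunctor (Sheaf J AddCommGrpCat.{u}) 0).obj (Q.obj M)).obj.map h.op s := by
  obtain ⟨S, hS, hS'⟩ := exists_local_lift (M.homologyπ 0)
    ((homEquiv U _).symm s ≫ (φI M).hom)
  refine ⟨S, hS, fun V h hh => ?_⟩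
  obtain ⟨b, hb⟩ := hS' h hh
  refine ⟨Q.map (gOf b), ?_⟩
  rw [θfun_gOf, ← Category.assoc, hb, Category.assoc, Category.assoc, Iso.hom_inv_id,
    Category.comp_id, homEquiv_map, Equiv.apply_symm_apply]

/-- local injectivity of the comparison map -/
lemma θfun_locally_injective (M : CochainComplex (Sheaf J AddCommGrpCat.{u}) ℤ) (U : C)
    (f : ZD J U ⟶ Q.obj M) (hf : θfun U (Q.obj M) f = 0) :
    ∃ S ∈ J U, ∀ ⦃V : C⦄ (h : V ⟶ U), S.arrows h → ZDmap J h ≫ f = 0 := by
  obtain ⟨Y', g, s, hs, rfl⟩ := left_fac f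
  have h1 : θfun U (Q.obj Y') (Q.map g) = 0 := by
    have := θfun_comp U (Q.map g ≫ inv (Q.map s)) (Q.map s)
    rw [Category.assoc, IsIso.inv_hom_id, Category.comp_id, hf, map_zero] at this
    exact this
  rw [← gOf_zOf g, θfun_gOf] at h1
  have h2 := eq_zero_of_homEquiv_eq_zero U _ h1
  have h3 : zOf g ≫ Y'.homologyπ 0 = 0 := by
    have := congrArg (· ≫ (φI Y').hom) h2
    simpa using this
  obtain ⟨S, hS, hS'⟩ := exists_local_bdry (zOf g) h3
  refine ⟨S, hS, fun V h hh => ?_⟩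
  obtain ⟨x, hx⟩ := hS' h hh
  have h4 : Q.map ((s0 (𝒜 := Sheaf J AddCommGrpCat.{u})).map ((Zf J).map h) ≫ g) = 0 := by
    rw [← gOf_zOf g, gOf_comp]
    exact Q_map_gOf_eq_zero _ x hx
  rw [← Category.assoc, ← Functor.map_comp, h4, zero_comp]

lemma θfun_sub (U : C) (K : DerivedCategory (Sheaf J AddCommGrpCat.{u})) (f g : ZD J U ⟶ K) :
    θfun U K (f - g) = θfun U K f - θfun U K g := by
  rw [eq_sub_iff_add_eq, ← θfun_add, sub_add_cancel]

/-- the presheaf `U ↦ Hom_D(ℤ_U[0], K)` -/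
noncomputable abbrev HP (K : DerivedCategory (Sheaf J AddCommGrpCat.{u})) :
    Cᵒᵖ ⥤ AddCommGrpCat.{u} :=
  (yoneda ⋙ (Functor.whiskeringRight _ _ _).obj AddCommGrpCat.free.{u} ⋙
      presheafToSheaf J AddCommGrpCat.{u} ⋙
      DerivedCategory.singleFunctor (Sheaf J AddCommGrpCat.{u}) 0).op ⋙
    preadditiveYoneda.obj K

/-- functoriality of `HP` -/
noncomputable def HPmap {K K' : DerivedCategory (Sheaf J AddCommGrpCat.{u})} (α : K ⟶ K') :
    HP K ⟶ HP K' :=
  Functor.whiskerLeft _ (preadditiveYoneda.map α)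

lemma HPmap_apply {K K' : DerivedCategory (Sheaf J AddCommGrpCat.{u})} (α : K ⟶ K') (U : C)
    (f : ZD J U ⟶ K) : ((HPmap α).app (op U)).hom f = f ≫ α := rfl

lemma HP_map_apply (K : DerivedCategory (Sheaf J AddCommGrpCat.{u})) {U V : C} (h : V ⟶ U)
    (f : ZD J U ⟶ K) : ((HP K).map h.op).hom f = ZDmap J h ≫ f := rfl

/-- the comparison morphism of presheaves -/
noncomputable def θ (K : DerivedCategory (Sheaf J AddCommGrpCat.{u})) :
    HP K ⟶ (P J).obj ((homologyFunctor (Sheaf J AddCommGrpCat.{u}) 0).obj K) where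
  app X := AddCommGrpCat.ofHom
    { toFun := fun f => θfun X.unop K f
      map_zero' := θfun_zero _ _
      map_add' := θfun_add _ _ }
  naturality X Y h := by
    ext f
    exact θfun_map h.unop f

lemma θ_app_apply (K : DerivedCategory (Sheaf J AddCommGrpCat.{u})) (U : C) (f : ZD J U ⟶ K) :
    ((θ K).app (op U)).hom f = θfun U K f := rfl

lemma θ_naturality {K K' : DerivedCategory (Sheaf J AddCommGrpCat.{u})} (α : K ⟶ K') :
    θ K ≫ (P J).map ((homologyFunctor (Sheaf J AddCommGrpCat.{u}) 0).map α) =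
      HPmap α ≫ θ K' := by
  ext X f
  exact (θfun_comp X.unop f α).symm

lemma W_θ_Q (M : CochainComplex (Sheaf J AddCommGrpCat.{u}) ℤ) : J.W (θ (Q.obj M)) := by
  rw [J.W_iff_isLocallyBijective]
  constructor
  · refine ⟨fun {X} x y hxy => ?_⟩
    let x' : ZD J X.unop ⟶ Q.obj M := x
    let y' : ZD J X.unop ⟶ Q.obj M := y
    have hxy' : θfun X.unop (Q.obj M) x' = θfun X.unop (Q.obj M) y' := hxy
    have h0 : θfun X.unop (Q.obj M) (x' - y') = 0 := by
      rw [θfun_sub, hxy', sub_self]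
    obtain ⟨S, hS, hS'⟩ := θfun_locally_injective M X.unop (x' - y') h0
    refine J.superset_covering ?_ hS
    intro V h hh
    have := hS' h hh
    rw [Preadditive.comp_sub, sub_eq_zero] at this
    exact this
  · refine ⟨fun {U} s => ?_⟩
    obtain ⟨S, hS, hS'⟩ := θfun_locally_surjective M U s
    refine J.superset_covering ?_ hS
    intro V h hh
    obtain ⟨f, hf⟩ := hS' h hh
    exact ⟨f, hf⟩

/-- **the comparison map is locally bijective** -/
theorem W_θ (K : DerivedCategory (Sheaf J AddCommGrpCat.{u})) : J.W (θ K) := by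
  let e : Q.obj (Q.objPreimage K) ≅ K := Q.objObjPreimageIso K
  have h1 : θ K = HPmap e.inv ≫ θ (Q.obj (Q.objPreimage K)) ≫
      (P J).map ((homologyFunctor (Sheaf J AddCommGrpCat.{u}) 0).map e.hom) := by
    rw [θ_naturality, ← Category.assoc]
    have : HPmap e.inv ≫ HPmap e.hom = 𝟙 (HP K) := by
      ext X f
      change (f ≫ e.inv) ≫ e.hom = f
      rw [Category.assoc, e.inv_hom_id, Category.comp_id]
    rw [this, Category.id_comp]
  have h2 : IsIso (HPmap e.inv) := by
    refine ⟨HPmap e.hom, ?_, ?_⟩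
    · ext X f
      change (f ≫ e.inv) ≫ e.hom = f
      rw [Category.assoc, e.inv_hom_id, Category.comp_id]
    · ext X f
      change (f ≫ e.hom) ≫ e.inv = f
      rw [Category.assoc, e.hom_inv_id, Category.comp_id]
  have h3 := (J.W_iff _).1 (W_θ_Q (Q.objPreimage K))
  rw [J.W_iff, h1, Functor.map_comp, Functor.map_comp]
  infer_instance

/-- the isomorphism `a(HP K) ≅ H⁰(K)` -/
noncomputable def sheafifyHPIso (K : DerivedCategory (Sheaf J AddCommGrpCat.{u})) :
    (a J).obj (HP K) ≅ (homologyFunctor (Sheaf J AddCommGrpCat.{u}) 0).obj K :=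
  haveI := (J.W_iff _).1 (W_θ K)
  asIso ((a J).map (θ K)) ≪≫ cIso J _

end Groth.Agent.HyperLocal31
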