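/-
# Coordinate linear subspaces of projective space (helper3)

For an injection `ι : Fin (n+1) → Fin (N+1)`: the graded surjection `R[T_0..T_N] → R[T_0..T_n]`, `T_{ι i} ↦ T_i`, other
variables `↦ 0` (`φ`), and the closed immersion `lin R ι hι : P^n_R ⟶ P^N_R` over `R`; two such subspaces with complementary
index sets are disjoint (`lin_base_ne`).
-/
import Groth.Agent.Lib.ProjMapImm
import Groth.Agent.Lib.VeryAmpleAmpleH3
import Groth.Prelude.Def_CohB1

set_option autoImplicit false
set_option linter.style.haveILetI false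
universe u
open CategoryTheory CategoryTheory.Limits AlgebraicGeometry MvPolynomial

namespace Groth.Agent.Lib.ProjLinearH3

variable (R : Type u) [CommRing R] {N n m : ℕ}

/-- images of the variables -/
noncomputable def g (ι : Fin (n + 1) → Fin (N + 1)) (j : Fin (N + 1)) : MvPolynomial (Fin (n + 1)) R :=
  open Classical in if h : ∃ i, ι i = j then X h.choose else 0

theorem g_apply (ι : Fin (n + 1) → Fin (N + 1)) (hι : Function.Injective ι) (i : Fin (n + 1)) :
    g R ι (ι i) = X i := by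
  classical
  have h : ∃ i', ι i' = ι i := ⟨i, rfl⟩
  rw [g, dif_pos h]
  congr 1
  exact hι h.choose_spec

theorem g_eq_zero (ι : Fin (n + 1) → Fin (N + 1)) (j : Fin (N + 1)) (hj : ∀ i, ι i ≠ j) : g R ι j = 0 := by
  classical
  rw [g, dif_neg]
  rintro ⟨i, hi⟩
  exact hj i hi

theorem g_isHomogeneous (ι : Fin (n + 1) → Fin (N + 1)) (j : Fin (N + 1)) : (g R ι j).IsHomogeneous 1 := by
  classical
  unfold g
  split_ifs
  · exact isHomogeneous_X R _
  · exact isHomogeneous_zero _ _ _

/-- the graded surjection -/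
noncomputable def φ (ι : Fin (n + 1) → Fin (N + 1)) : CohB1.polyGrading N R →+*ᵍ CohB1.polyGrading n R where
  toRingHom := (aeval (g R ι)).toRingHom
  map_mem := fun {d p} hp => by
    rw [mem_homogeneousSubmodule] at hp ⊢
    have := hp.aeval (g R ι) (g_isHomogeneous R ι)
    rwa [one_mul] at this

theorem φ_apply (ι : Fin (n + 1) → Fin (N + 1)) (p : MvPolynomial (Fin (N + 1)) R) :
    φ R ι p = aeval (g R ι) p := rfl

theorem φ_rename (ι : Fin (n + 1) → Fin (N + 1)) (hι : Function.Injective ι) (y : MvPolynomial (Fin (n + 1)) R) :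
    φ R ι (rename ι y) = y := by
  rw [φ_apply, aeval_rename]
  have : g R ι ∘ ι = X := funext fun i => g_apply R ι hι i
  rw [this, aeval_X_left_apply]

theorem φ_surj (ι : Fin (n + 1) → Fin (N + 1)) (hι : Function.Injective ι) (d : ℕ)
    (y : MvPolynomial (Fin (n + 1)) R) (hy : y ∈ CohB1.polyGrading n R d) :
    ∃ x ∈ CohB1.polyGrading N R d, φ R ι x = y := by
  refine ⟨rename ι y, ?_, φ_rename R ι hι y⟩
  rw [mem_homogeneousSubmodule] at hy ⊢
  exact hy.rename_isHomogeneous

theorem irrelevant_le (ι : Fin (n + 1) → Fin (N + 1)) (hι : Function.Injective ι) :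
    HomogeneousIdeal.irrelevant (CohB1.polyGrading n R) ≤
      (HomogeneousIdeal.irrelevant (CohB1.polyGrading N R)).map (φ R ι) := by
  rw [HomogeneousIdeal.irrelevant_le]
  intro d hd b hb
  obtain ⟨a, ha, rfl⟩ := φ_surj R ι hι d b hb
  exact Ideal.mem_map_of_mem _ (HomogeneousIdeal.mem_irrelevant_of_mem _ hd ha)

/-- the coordinate linear subspace `P^n_R ⟶ P^N_R` -/
noncomputable def lin (ι : Fin (n + 1) → Fin (N + 1)) (hι : Function.Injective ι) :
    Proj (CohB1.polyGrading n R) ⟶ Proj (CohB1.polyGrading N R) :=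
  Proj.map (φ R ι) (irrelevant_le R ι hι)

instance (ι : Fin (n + 1) → Fin (N + 1)) (hι : Function.Injective ι) : IsClosedImmersion (lin R ι hι) :=
  Groth.Agent.Lib.ProjMapImm.isClosedImmersion_map _ _ 0 (fun d _ y hy => φ_surj R ι hι d y hy)

theorem lin_toSpec (ι : Fin (n + 1) → Fin (N + 1)) (hι : Function.Injective ι) :
    lin R ι hι ≫ (CohB1.ProjSpace.toSpec N R : Proj (CohB1.polyGrading N R) ⟶ _) =
      (CohB1.ProjSpace.toSpec n R : Proj (CohB1.polyGrading n R) ⟶ _) := by
  refine Groth.Agent.Lib.ProjMapImm.map_toSpecZero (φ R ι) (irrelevant_le R ι hι)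
    (CommRingCat.ofHom (algebraMap R (CohB1.polyGrading N R 0)))
    (CommRingCat.ofHom (algebraMap R (CohB1.polyGrading n R 0))) (fun r => ?_)
  change aeval (g R ι) (algebraMap R (MvPolynomial (Fin (N + 1)) R) r) = algebraMap R _ r
  rw [AlgHom.commutes]

theorem X_mem_lin_base (ι : Fin (n + 1) → Fin (N + 1)) (hι : Function.Injective ι)
    (a : Proj (CohB1.polyGrading n R)) (j : Fin (N + 1)) (hj : ∀ i, ι i ≠ j) :
    (X j : MvPolynomial (Fin (N + 1)) R) ∈ ((lin R ι hι).base a).asHomogeneousIdeal := by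
  change φ R ι (X j) ∈ a.asHomogeneousIdeal
  rw [φ_apply, aeval_X, g_eq_zero R ι j hj]
  exact zero_mem _

/-- complementary coordinate subspaces are disjoint -/
theorem lin_base_ne (ι₁ : Fin (n + 1) → Fin (N + 1)) (hι₁ : Function.Injective ι₁)
    (ι₂ : Fin (m + 1) → Fin (N + 1)) (hι₂ : Function.Injective ι₂)
    (hdisj : ∀ i i', ι₁ i ≠ ι₂ i')
    (a : Proj (CohB1.polyGrading n R)) (b : Proj (CohB1.polyGrading m R)) :
    (lin R ι₁ hι₁).base a ≠ (lin R ι₂ hι₂).base b := by
  intro hab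
  apply ((lin R ι₁ hι₁).base a).not_irrelevant_le
  change (HomogeneousIdeal.irrelevant (CohB1.polyGrading N R)).toIdeal ≤
    ((lin R ι₁ hι₁).base a).asHomogeneousIdeal.toIdeal
  rw [Groth.Agent.Lib.VeryAmpleAmpleH3.irrelevant_eq_span_X N R, Ideal.span_le]
  rintro _ ⟨j, -, rfl⟩
  by_cases hj : ∀ i, ι₁ i ≠ j
  · exact X_mem_lin_base R ι₁ hι₁ a j hj
  · push Not at hj
    obtain ⟨i, rfl⟩ := hj
    change _ ∈ ((lin R ι₁ hι₁).base a).asHomogeneousIdeal
    rw [hab]
    exact X_mem_lin_base R ι₂ hι₂ b (ι₁ i) (fun i' h => hdisj i i' h.symm)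

end Groth.Agent.Lib.ProjLinearH3
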