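
import Groth.Agent.Lib.ProjLinearH3

set_option autoImplicit false
set_option linter.style.haveILetI false
universe u
open CategoryTheory CategoryTheory.Limits AlgebraicGeometry MvPolynomial

namespace Groth.Agent.Lib.HyperplaneH3

variable (k : Type u) [Field k] {n : ℕ} (c : Fin (n + 2) → k) (i₀ : Fin (n + 2))

/-- the linear form `∑ c_j X_j` -/
noncomputable def ell : MvPolynomial (Fin (n + 2)) k := ∑ j, c j • X j

theorem ell_mem : ell k c ∈ CohB1.polyGrading (n + 1) k 1 := by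
  unfold ell
  refine Submodule.sum_mem _ fun j _ => Submodule.smul_mem _ _ ?_
  rw [mem_homogeneousSubmodule]
  exact isHomogeneous_X k j

/-- images of the variables: `X_{i₀} ↦ -c_{i₀}⁻¹ ∑_m c_{σ m} X_m`, `X_{σ m} ↦ X_m` (`σ = i₀.succAbove`) -/
noncomputable def g : Fin (n + 2) → MvPolynomial (Fin (n + 1)) k :=
  Fin.insertNth (α := fun _ => MvPolynomial (Fin (n + 1)) k) i₀
    (-((c i₀)⁻¹ • ∑ m, c (i₀.succAbove m) • X m)) X

theorem g_same : g k c i₀ i₀ = -((c i₀)⁻¹ • ∑ m, c (i₀.succAbove m) • X m) := by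
  unfold g
  exact Fin.insertNth_apply_same _ _ _

theorem g_succAbove (m : Fin (n + 1)) : g k c i₀ (i₀.succAbove m) = X m := by
  unfold g
  exact Fin.insertNth_apply_succAbove _ _ _ _

theorem g_isHomogeneous (j : Fin (n + 2)) : (g k c i₀ j).IsHomogeneous 1 := by
  rcases Fin.eq_self_or_eq_succAbove i₀ j with rfl | ⟨m, rfl⟩
  · rw [g_same, ← mem_homogeneousSubmodule]
    refine Submodule.neg_mem _ (Submodule.smul_mem _ _ (Submodule.sum_mem _ fun m _ => Submodule.smul_mem _ _ ?_))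
    rw [mem_homogeneousSubmodule]
    exact isHomogeneous_X k m
  · rw [g_succAbove]
    exact isHomogeneous_X k m

/-- the graded surjection `k[X_0..X_{n+1}] → k[X_0..X_n]` with kernel `(ℓ)` -/
noncomputable def ψ : CohB1.polyGrading (n + 1) k →+*ᵍ CohB1.polyGrading n k where
  toRingHom := (aeval (g k c i₀)).toRingHom
  map_mem := fun {d p} hp => by
    rw [mem_homogeneousSubmodule] at hp ⊢
    have := hp.aeval (g k c i₀) (g_isHomogeneous k c i₀)
    rwa [one_mul] at this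

theorem ψ_apply (p : MvPolynomial (Fin (n + 2)) k) : ψ k c i₀ p = aeval (g k c i₀) p := rfl

theorem ψ_X_succAbove (m : Fin (n + 1)) : ψ k c i₀ (X (i₀.succAbove m)) = X m := by
  rw [ψ_apply, aeval_X, g_succAbove]

theorem ψ_rename (y : MvPolynomial (Fin (n + 1)) k) : ψ k c i₀ (rename i₀.succAbove y) = y := by
  rw [ψ_apply, aeval_rename]
  have : g k c i₀ ∘ i₀.succAbove = X := funext fun m => g_succAbove k c i₀ m
  rw [this, aeval_X_left_apply]

theorem ψ_ell (hc : c i₀ ≠ 0) : ψ k c i₀ (ell k c) = 0 := by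
  rw [ψ_apply, ell, map_sum, Fin.sum_univ_succAbove _ i₀]
  simp only [map_smul, aeval_X, g_same, g_succAbove]
  rw [smul_neg, smul_smul, mul_inv_cancel₀ hc, one_smul, neg_add_cancel]

theorem ψ_surj (d : ℕ) (y : MvPolynomial (Fin (n + 1)) k) (hy : y ∈ CohB1.polyGrading n k d) :
    ∃ x ∈ CohB1.polyGrading (n + 1) k d, ψ k c i₀ x = y := by
  refine ⟨rename i₀.succAbove y, ?_, ψ_rename k c i₀ y⟩
  rw [mem_homogeneousSubmodule] at hy ⊢
  exact hy.rename_isHomogeneous

theorem ψ_surjective : Function.Surjective (ψ k c i₀) := fun y => ⟨_, ψ_rename k c i₀ y⟩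

theorem irrelevant_le :
    HomogeneousIdeal.irrelevant (CohB1.polyGrading n k) ≤
      (HomogeneousIdeal.irrelevant (CohB1.polyGrading (n + 1) k)).map (ψ k c i₀) := by
  rw [HomogeneousIdeal.irrelevant_le]
  intro d hd b hb
  obtain ⟨a, ha, rfl⟩ := ψ_surj k c i₀ d b hb
  exact Ideal.mem_map_of_mem _ (HomogeneousIdeal.mem_irrelevant_of_mem _ hd ha)

/-- `P - σ(ψ P) ∈ (ℓ)` -/
theorem exists_sub_eq_mul (hc : c i₀ ≠ 0) (P : MvPolynomial (Fin (n + 2)) k) :
    ∃ Q, P - rename i₀.succAbove (ψ k c i₀ P) = ell k c * Q := by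
  induction P using MvPolynomial.induction_on with
  | C a =>
    refine ⟨0, ?_⟩
    rw [ψ_apply, aeval_C, algebraMap_eq, rename_C, sub_self, mul_zero]
  | add P Q hP hQ =>
    obtain ⟨P', hP'⟩ := hP
    obtain ⟨Q', hQ'⟩ := hQ
    refine ⟨P' + Q', ?_⟩
    rw [map_add, map_add, mul_add, ← hP', ← hQ']
    ring
  | mul_X P j hP =>
    obtain ⟨P', hP'⟩ := hP
    obtain ⟨Qj, hQj⟩ : ∃ Qj, X j - rename i₀.succAbove (ψ k c i₀ (X j)) = ell k c * Qj := by
      rcases Fin.eq_self_or_eq_succAbove i₀ j with rfl | ⟨m, rfl⟩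
      · refine ⟨C (c j)⁻¹, ?_⟩
        rw [ψ_apply, aeval_X, g_same, ell, Fin.sum_univ_succAbove _ j]
        simp only [map_neg, map_smul, map_sum, rename_X]
        rw [sub_neg_eq_add, add_mul]
        have e1 : c j • X j * C (c j)⁻¹ = (X j : MvPolynomial (Fin (n + 2)) k) := by
          rw [mul_comm, ← smul_eq_C_mul, smul_smul, inv_mul_cancel₀ hc, one_smul]
        have e2 : ∀ S : MvPolynomial (Fin (n + 2)) k, S * C (c j)⁻¹ = (c j)⁻¹ • S := fun S => by
          rw [mul_comm, ← smul_eq_C_mul]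
        rw [e1, e2]
      · refine ⟨0, ?_⟩
        rw [ψ_X_succAbove, rename_X, sub_self, mul_zero]
    refine ⟨P' * X j + rename i₀.succAbove (ψ k c i₀ P) * Qj, ?_⟩
    rw [map_mul, map_mul, mul_add, ← mul_assoc, ← hP', mul_left_comm, ← hQj]
    ring

/-- **the kernel of `ψ` in each degree** -/
theorem exists_eq_mul_of_ψ_eq_zero (hc : c i₀ ≠ 0) {d : ℕ} {F : MvPolynomial (Fin (n + 2)) k}
    (hF : F ∈ CohB1.polyGrading (n + 1) k d) (h0 : ψ k c i₀ F = 0) :
    (d = 0 → F = 0) ∧ ∃ G ∈ CohB1.polyGrading (n + 1) k (d - 1), 0 < d → F = ell k c * G := by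
  obtain ⟨Q, hQ⟩ := exists_sub_eq_mul k c i₀ hc F
  rw [h0, map_zero, sub_zero] at hQ
  have h1 := DirectSum.decompose_of_mem_same (CohB1.polyGrading (n + 1) k) hF
  constructor
  · intro hd
    subst hd
    have h2 := DirectSum.coe_decompose_mul_of_left_mem_of_not_le (CohB1.polyGrading (n + 1) k)
      (b := Q) (ell_mem k c) (by omega : ¬ 1 ≤ 0)
    rw [← hQ, h1] at h2
    exact h2
  · refine ⟨(DirectSum.decompose (CohB1.polyGrading (n + 1) k) Q (d - 1) : MvPolynomial (Fin (n + 2)) k),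
      SetLike.coe_mem _, fun hd => ?_⟩
    have h2 := DirectSum.coe_decompose_mul_of_left_mem_of_le (CohB1.polyGrading (n + 1) k)
      (b := Q) (ell_mem k c) (by omega : 1 ≤ d)
    rw [← hQ, h1] at h2
    exact h2

end Groth.Agent.Lib.HyperplaneH3
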