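/-
# Sections `a/1` of `O(d)` on `Proj 𝒜` in charts, and their pullbacks (helper3)

* `numSec_res_eq_smul`: on `D₊(f)`, `f ∈ 𝒜 e`, `a ∈ 𝒜 (k • e)`: `(a/1)|_{D₊ f} = (a / f^k) • (f^k/1)|_{D₊ f}`;
* `isGen_numSec_pow`: `(f^k/1)|_{D₊ f}` is a free generator of `O(k e)`;
* `pullSec_numSec_eq_zero_iff`: for `i : Z ⟶ Proj 𝒜` and a cover of `Proj 𝒜` by `D₊(f)`, `f ∈ s ⊆ 𝒜 1`, the pulled back
  section `i^*(a/1)` of `i^* O(n)` vanishes iff every `i^♯(a / f^n)` vanishes (`rho` of `ProjClosedSub`).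
-/
import Groth.Agent.Lib.PullSecH3
import Groth.Agent.Lib.H4TwistAmple
import Groth.Agent.Lib.H4TwistGamma
import Groth.Agent.Lib.H4TwistInv
import Groth.Agent.Lib.ProjClosedSub
import Groth.Agent.Lib.H78SecCoord

set_option autoImplicit false
set_option linter.style.haveILetI false
universe u
open CategoryTheory AlgebraicGeometry TopologicalSpace Opposite Twist HomogeneousLocalization
open AlgebraicGeometry.Scheme.Modules
open Groth.Agent.Lib.H90Invertible Groth.Agent.Lib.H4Twist Groth.Agent.Lib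
open Groth.Agent.Lib.PullSecH3 Groth.Agent.Lib.H78TensorGen Groth.Agent.Lib.H78SecCoord

namespace Groth.Agent.Lib.TwistNumSecH3

variable {R A : Type u} [CommRing R] [CommRing A] [Algebra R A] {𝒜 : ℕ → Submodule R A} [GradedAlgebra 𝒜]

theorem pow_mem_smul {f : A} {e : ℕ} (hf : f ∈ 𝒜 e) (k : ℕ) : f ^ k ∈ 𝒜 (k • e) :=
  SetLike.pow_mem_graded k hf

/-- **chart expansion of `a/1`** -/
theorem numSec_res_eq_smul {f : A} {e : ℕ} (hf : f ∈ 𝒜 e) (k : ℕ) {a : A} (ha : a ∈ 𝒜 (k • e))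
    (d : ℤ) (hd : d = ((k • e : ℕ) : ℤ)) :
    (twist 𝒜 d).presheaf.map (homOfLE (le_top : Proj.basicOpen 𝒜 f ≤ ⊤)).op (numSec ha d hd) =
      (Proj.awayToSection 𝒜 f).hom (Away.mk 𝒜 hf k a ha) •
        (twist 𝒜 d).presheaf.map (homOfLE (le_top : Proj.basicOpen 𝒜 f ≤ ⊤)).op
          (numSec (pow_mem_smul hf k) d hd) := by
  refine H4Twist.sec_ext fun x => ?_
  rw [sval_smul, sval_map, sval_map, sval_numSec, sval_numSec, oval_awayToSection_mk hf k a ha x,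
    Localization.mk_mul, Localization.mk_eq_mk_iff, Localization.r_iff_exists]
  refine ⟨1, ?_⟩
  simp only [OneMemClass.coe_one, one_mul, mul_one]
  ring

/-- `(f^k/1)|_{D₊ f}` generates `O(k e)` -/
theorem isGen_numSec_pow {f : A} {e : ℕ} (hf : f ∈ 𝒜 e) (k : ℕ) (d : ℤ) (hd : d = ((k • e : ℕ) : ℤ)) :
    IsGen (twist 𝒜 d) (Proj.basicOpen 𝒜 f)
      ((twist 𝒜 d).presheaf.map (homOfLE (le_top : Proj.basicOpen 𝒜 f ≤ ⊤)).op
        (numSec (pow_mem_smul hf k) d hd)) :=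
  isGen_numSec_of_le hf k rfl (pow_mem_smul hf k) (smul_eq_mul k e) d hd le_rfl

section Pull

variable {Z : Scheme.{u}} (i : Z ⟶ Proj 𝒜) (s : Set A) (hs1 : ∀ f ∈ s, f ∈ 𝒜 1)
  (hcov : ∀ x : ProjectiveSpectrum 𝒜, ∃ f ∈ s, f ∉ x.asHomogeneousIdeal)

include hs1 hcov in
theorem isInvertible_twist_of_cover' (n : ℤ) : PicF.IsInvertible (twist 𝒜 n) := by
  have h := isInvertible_twist_of_cover 𝒜 1 n (fun x => by
    obtain ⟨f, hf, hfx⟩ := hcov x
    exact ⟨f, hs1 f hf, hfx⟩)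
  rwa [Nat.cast_one, mul_one] at h

include hcov in
/-- **vanishing of a pulled back section, chartwise** -/
theorem pullSec_numSec_eq_zero_iff (n : ℕ) {a : A} (ha : a ∈ 𝒜 (n • 1)) (d : ℤ) (hd : d = ((n • 1 : ℕ) : ℤ)) :
    ProjUP.pullSec i (twist 𝒜 d) (numSec ha d hd) = 0 ↔
      ∀ (f : A) (hf : f ∈ s), Groth.Agent.Lib.ProjClosedSub.rho 𝒜 i f (Away.mk 𝒜 (hs1 f hf) n a ha) = 0 := by
  haveI : (twist 𝒜 d).IsQuasicoherent :=
    isQCoh_of_isInvertible (isInvertible_twist_of_cover' s hs1 hcov d)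
  -- the restriction of the pulled back section to `i⁻¹ D₊(f)`
  have key : ∀ (f : A) (hf : f ∈ s),
      ((pullback i).obj (twist 𝒜 d)).presheaf.map
          (homOfLE (le_top : i ⁻¹ᵁ Proj.basicOpen 𝒜 f ≤ ⊤)).op (ProjUP.pullSec i (twist 𝒜 d) (numSec ha d hd)) =
        Groth.Agent.Lib.ProjClosedSub.rho 𝒜 i f (Away.mk 𝒜 (hs1 f hf) n a ha) •
          unitV i (twist 𝒜 d) (Proj.basicOpen 𝒜 f)
            ((twist 𝒜 d).presheaf.map (homOfLE (le_top : Proj.basicOpen 𝒜 f ≤ ⊤)).op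
              (numSec (pow_mem_smul (hs1 f hf) n) d hd)) := by
    intro f hf
    have h1 := unitV_res i (twist 𝒜 d) (le_top : Proj.basicOpen 𝒜 f ≤ ⊤) (numSec ha d hd)
    rw [numSec_res_eq_smul (hs1 f hf) n ha d hd, unitV_smul] at h1
    exact h1.symm
  have hgen : ∀ (f : A) (hf : f ∈ s), IsGen ((pullback i).obj (twist 𝒜 d)) (i ⁻¹ᵁ Proj.basicOpen 𝒜 f)
      (unitV i (twist 𝒜 d) (Proj.basicOpen 𝒜 f)
        ((twist 𝒜 d).presheaf.map (homOfLE (le_top : Proj.basicOpen 𝒜 f ≤ ⊤)).op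
          (numSec (pow_mem_smul (hs1 f hf) n) d hd))) :=
    fun f hf => isGen_unitV i (twist 𝒜 d) (isGen_numSec_pow (hs1 f hf) n d hd)
  constructor
  · intro h0 f hf
    have h2 := key f hf
    rw [h0, map_zero] at h2
    have h3 := coord_smul_gen (hgen f hf) le_rfl
      (Groth.Agent.Lib.ProjClosedSub.rho 𝒜 i f (Away.mk 𝒜 (hs1 f hf) n a ha))
    rw [rs_self] at h3
    rw [← h3, ← h2, coord_zero]
  · intro h0
    refine H78TensorGen.sec_ext _ _ _ (fun z _ => ?_)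
    obtain ⟨f, hf, hfz⟩ := hcov (i.base z)
    refine ⟨i ⁻¹ᵁ Proj.basicOpen 𝒜 f, le_top, hfz, ?_⟩
    change ((pullback i).obj (twist 𝒜 d)).presheaf.map _ _ = ((pullback i).obj (twist 𝒜 d)).presheaf.map _ 0
    rw [key f hf, h0 f hf, zero_smul, map_zero]

end Pull

end Groth.Agent.Lib.TwistNumSecH3
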