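/-
# Closed subschemes of `Proj 𝒜` are `Proj` of the quotient by the "section" ideal (helper3; S9570)

`𝒜₊` generated by a finite set `s ⊆ 𝒜 1`, `i : Z ⟶ Proj 𝒜` a closed immersion, `φ : 𝒜 → ℬ` a surjection of graded rings
whose kernel in degree `d` is `{F : i^*(F/1) = 0 in Γ(Z, i^* O(d))}`. Then `Z ≅ Proj ℬ` over `Proj 𝒜`.
-/
import Groth.Agent.Lib.TwistNumSecH3
import Groth.Agent.Lib.ProjBaseChangeGr

set_option autoImplicit false
set_option linter.style.haveILetI false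
universe u
open CategoryTheory AlgebraicGeometry TopologicalSpace Opposite Twist HomogeneousLocalization
open AlgebraicGeometry.Scheme.Modules
open Groth.Agent.Lib.H90Invertible Groth.Agent.Lib.H4Twist Groth.Agent.Lib
open Groth.Agent.Lib.ProjClosedSub Groth.Agent.Lib.GradedQuot Groth.Agent.Lib.ProjBaseChange

namespace Groth.Agent.Lib.ProjClosedSatH3

variable {R A : Type u} [CommRing R] [CommRing A] [Algebra R A] (𝒜 : ℕ → Submodule R A) [GradedAlgebra 𝒜]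
  (s : Finset A) (hs1 : ∀ f ∈ s, f ∈ 𝒜 1)
  (hs : (HomogeneousIdeal.irrelevant 𝒜).toIdeal = Ideal.span (s : Set A))
  {Z : Scheme.{u}} (i : Z ⟶ Proj 𝒜)

include hs in
theorem exists_notMem (x : ProjectiveSpectrum 𝒜) : ∃ f ∈ (s : Set A), f ∉ x.asHomogeneousIdeal := by
  by_contra H
  push Not at H
  apply x.not_irrelevant_le
  intro z hz
  have hz' : z ∈ (HomogeneousIdeal.irrelevant 𝒜).toIdeal := hz
  rw [hs] at hz'
  exact (Ideal.span_le.2 fun y hy => H y hy) hz'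

include hs in
/-- homogeneous elements of `kerIdeal` are those whose pulled back section vanishes -/
theorem mem_kerIdeal_iff_pullSec [QuasiCompact i] (d : ℕ) (F : A) (hF : F ∈ 𝒜 d) :
    F ∈ kerIdeal 𝒜 s hs1 i ↔
      ProjUP.pullSec i (twist 𝒜 (d : ℤ)) (Twist.globalOf 𝒜 ⟨F, hF⟩) = 0 := by
  have hF' : F ∈ 𝒜 (d • 1) := by rwa [smul_eq_mul, mul_one]
  have hd : (d : ℤ) = ((d • 1 : ℕ) : ℤ) := by rw [smul_eq_mul, mul_one]
  have e1 : (Twist.globalOf 𝒜 ⟨F, hF⟩ : Γ(twist 𝒜 (d : ℤ), ⊤)) = numSec hF' (d : ℤ) hd := rfl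
  rw [e1, Groth.Agent.Lib.TwistNumSecH3.pullSec_numSec_eq_zero_iff i (s : Set A) hs1
    (exists_notMem 𝒜 s hs) d hF' (d : ℤ) hd]
  constructor
  · intro h f hf
    have := h f hf d
    rwa [degMap_of_mem 𝒜 (hs1 f hf) d F hF'] at this
  · intro h
    exact mem_theIdeal_of_homogeneous 𝒜 s hs1 _ (rho 𝒜 i) hF' (fun f hf => h f hf)

variable {B : Type u} [CommRing B] [Algebra R B] (ℬ : ℕ → Submodule R B) [GradedAlgebra ℬ]
  (φ : 𝒜 →+*ᵍ ℬ)

theorem ker_isHomogeneous : (RingHom.ker (φ : A →+* B)).IsHomogeneous 𝒜 := by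
  intro d a ha
  rw [RingHom.mem_ker] at ha ⊢
  change φ (DirectSum.decompose 𝒜 a d : A) = 0
  rw [GradedRingHom.map_directSumDecompose, show φ a = 0 from ha, DirectSum.decompose_zero]
  rfl

include hs in
theorem ker_eq_kerIdeal [QuasiCompact i]
    (hker : ∀ (d : ℕ) (F : A) (hF : F ∈ 𝒜 d),
      φ F = 0 ↔ ProjUP.pullSec i (twist 𝒜 (d : ℤ)) (Twist.globalOf 𝒜 ⟨F, hF⟩) = 0) :
    RingHom.ker (φ : A →+* B) = kerIdeal 𝒜 s hs1 i := by
  ext a
  rw [(ker_isHomogeneous 𝒜 ℬ φ).mem_iff, (kerIdeal_isHomogeneous 𝒜 s hs1 i).mem_iff]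
  refine forall_congr' fun d => ?_
  rw [RingHom.mem_ker, mem_kerIdeal_iff_pullSec 𝒜 s hs1 hs i d _ (SetLike.coe_mem _)]
  exact hker d _ (SetLike.coe_mem _)

include hs hs1 in
/-- **S9570 (general graded form)** -/
theorem exists_iso [IsClosedImmersion i] (hφs : Function.Surjective φ)
    (hker : ∀ (d : ℕ) (F : A) (hF : F ∈ 𝒜 d),
      φ F = 0 ↔ ProjUP.pullSec i (twist 𝒜 (d : ℤ)) (Twist.globalOf 𝒜 ⟨F, hF⟩) = 0)
    (hφ : HomogeneousIdeal.irrelevant ℬ ≤ (HomogeneousIdeal.irrelevant 𝒜).map φ) :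
    ∃ e : Z ≅ Proj ℬ, e.hom ≫ Proj.map φ hφ = i := by
  classical
  let J : Ideal A := kerIdeal 𝒜 s hs1 i
  have hJ : J.IsHomogeneous 𝒜 := kerIdeal_isHomogeneous 𝒜 s hs1 i
  letI inst : GradedAlgebra (quotGrading 𝒜 J) := gradedAlgebra 𝒜 hJ
  obtain ⟨e₀, he₀⟩ := ProjClosedSub.exists_iso 𝒜 s hs1 i hs
  have hkerJ : RingHom.ker (φ : A →+* B) = J := ker_eq_kerIdeal 𝒜 s hs1 hs i ℬ φ hker
  -- the induced graded map `A ⧸ J → B`
  let ψ : quotGrading 𝒜 J →+*ᵍ ℬ :=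
    { toRingHom := Ideal.Quotient.lift J (φ : A →+* B) (fun a ha => by
        have : a ∈ RingHom.ker (φ : A →+* B) := by rw [hkerJ]; exact ha
        exact this)
      map_mem := fun {d x} hx => by
        obtain ⟨a, ha, rfl⟩ := (mem_quotGrading 𝒜 J).1 hx
        exact φ.map_mem ha }
  have hψ_mk : ∀ a : A, ψ (Ideal.Quotient.mk J a) = φ a := fun a => rfl
  have hψsurj : ∀ k, 0 ≤ k → ∀ y ∈ ℬ k, ∃ x ∈ quotGrading 𝒜 J k, ψ x = y := by
    intro k _ y hy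
    obtain ⟨a, rfl⟩ := hφs y
    refine ⟨Ideal.Quotient.mk J (DirectSum.decompose 𝒜 a k : A),
      mk_mem_quotGrading 𝒜 J (SetLike.coe_mem _), ?_⟩
    rw [hψ_mk, GradedRingHom.map_directSumDecompose, DirectSum.decompose_of_mem_same ℬ hy]
  have hψinj : ∀ k, 0 ≤ k → ∀ x ∈ quotGrading 𝒜 J k, ψ x = 0 → x = 0 := by
    intro k _ x hx h0
    obtain ⟨a, -, rfl⟩ := (mem_quotGrading 𝒜 J).1 hx
    rw [hψ_mk] at h0
    have : a ∈ RingHom.ker (φ : A →+* B) := h0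
    rw [hkerJ] at this
    exact Ideal.Quotient.eq_zero_iff_mem.2 this
  have hψirr : HomogeneousIdeal.irrelevant ℬ ≤ (HomogeneousIdeal.irrelevant (quotGrading 𝒜 J)).map ψ := by
    rw [HomogeneousIdeal.irrelevant_le]
    intro k hk b hb
    obtain ⟨x, hx, rfl⟩ := hψsurj k (Nat.zero_le _) b hb
    exact Ideal.mem_map_of_mem _ (HomogeneousIdeal.mem_irrelevant_of_mem _ hk hx)
  haveI : IsIso (Proj.map ψ hψirr) :=
    Groth.Agent.Lib.ProjMapImm.isIso_map ψ hψirr 0 hψsurj hψinj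
  have hcomp : Proj.map φ hφ = Proj.map ψ hψirr ≫
      Proj.map (mkGraded 𝒜 (I := J)) (irrelevant_le_map_mkGraded 𝒜 J) := by
    rw [← Proj.map_comp]
    exact Groth.Agent.Lib.ProjBaseChangeGr.projMap_congr' (fun x => rfl) _ _
  refine ⟨e₀ ≪≫ (asIso (Proj.map ψ hψirr)).symm, ?_⟩
  rw [hcomp, Iso.trans_hom, Iso.symm_hom, asIso_inv, Category.assoc, IsIso.inv_hom_id_assoc]
  exact he₀

end Groth.Agent.Lib.ProjClosedSatH3
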