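/-
# `O(n)` on `Proj 𝒜` is very ample relative to `Spec R` for `n ≥ d` (helper3)

`𝒜` a graded `R`-algebra of finite type generated by elements of degrees in `[1, d]`, with `Proj 𝒜` covered by the
`D₊(g)`, `g ∈ 𝒜 1`. Then for `n ≥ d`, `n ≥ 1`, `O(n)` is very ample (in the `P^N_S` form) relative to the structure
morphism `Proj 𝒜 ⟶ Spec R` (`isRelVeryAmplePn_twist`).
Algebra: `exists_finset_subset_adjoin_eq_top`, `mem_range_algebraMap_of_mem_zero`, `closure_eq_top_of_away`.
-/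
import Groth.Agent.Lib.TwistNumSecH3
import Groth.Agent.Lib.VeryAmpleCritH3

set_option autoImplicit false
set_option linter.style.haveILetI false
set_option linter.unusedSectionVars false
universe u
open CategoryTheory CategoryTheory.Limits AlgebraicGeometry TopologicalSpace Opposite Twist HomogeneousLocalization
open AlgebraicGeometry.Scheme.Modules
open Groth.Agent.Lib.H90Invertible Groth.Agent.Lib.H4Twist Groth.Agent.Lib
open Groth.Agent.Lib.H78TensorGen Groth.Agent.Lib.H78SecCoord Groth.Agent.Lib.H78Atlas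
open Groth.Agent.Lib.GenCoverH3 Groth.Agent.Lib.TwistNumSecH3

namespace Groth.Agent.Lib.TwistVeryAmpleH3

section Alg

variable {R A : Type u} [CommRing R] [CommRing A] [Algebra R A]

theorem exists_finset_subset_of_mem_adjoin {S : Set A} {x : A} (hx : x ∈ Algebra.adjoin R S) :
    ∃ T : Finset A, (T : Set A) ⊆ S ∧ x ∈ Algebra.adjoin R (T : Set A) := by
  classical
  induction hx using Algebra.adjoin_induction with
  | mem x hx => exact ⟨{x}, by simpa using hx, Algebra.subset_adjoin (by simp)⟩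
  | algebraMap r => exact ⟨∅, by simp, Subalgebra.algebraMap_mem _ r⟩
  | add x y _ _ hx hy =>
    obtain ⟨T1, h1, h1'⟩ := hx
    obtain ⟨T2, h2, h2'⟩ := hy
    refine ⟨T1 ∪ T2, by simp [h1, h2], add_mem (Algebra.adjoin_mono (by simp) h1')
      (Algebra.adjoin_mono (by simp) h2')⟩
  | mul x y _ _ hx hy =>
    obtain ⟨T1, h1, h1'⟩ := hx
    obtain ⟨T2, h2, h2'⟩ := hy
    refine ⟨T1 ∪ T2, by simp [h1, h2], mul_mem (Algebra.adjoin_mono (by simp) h1')
      (Algebra.adjoin_mono (by simp) h2')⟩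

theorem exists_finset_subset_adjoin_eq_top [Algebra.FiniteType R A] {S : Set A}
    (hS : Algebra.adjoin R S = ⊤) :
    ∃ T : Finset A, (T : Set A) ⊆ S ∧ Algebra.adjoin R (T : Set A) = ⊤ := by
  classical
  obtain ⟨G, hG⟩ := (Algebra.FiniteType.out : (⊤ : Subalgebra R A).FG)
  have h : ∀ g : A, ∃ T : Finset A, (T : Set A) ⊆ S ∧ g ∈ Algebra.adjoin R (T : Set A) := fun g =>
    exists_finset_subset_of_mem_adjoin (by rw [hS]; trivial)
  choose T hT hT' using h
  refine ⟨G.biUnion T, ?_, ?_⟩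
  · intro x hx
    simp only [Finset.coe_biUnion, Set.mem_iUnion] at hx
    obtain ⟨g, -, hx⟩ := hx
    exact hT g hx
  · rw [eq_top_iff, ← hG]
    apply Algebra.adjoin_le
    intro g hg
    refine Algebra.adjoin_mono ?_ (hT' g)
    intro x hx
    simp only [Finset.coe_biUnion, Set.mem_iUnion]
    exact ⟨g, hg, hx⟩

variable {𝒜 : ℕ → Submodule R A} [GradedAlgebra 𝒜]

theorem smul_one_mem' {a : A} {k : ℕ} (ha : a ∈ 𝒜 k) : a ∈ 𝒜 (k • 1) := by
  rwa [smul_eq_mul, mul_one]

/-- if `A` is generated by elements of positive degrees then `𝒜 0` is the image of `R` -/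
theorem mem_range_algebraMap_of_mem_zero {S : Set A} (hS : ∀ x ∈ S, ∃ i, 0 < i ∧ x ∈ 𝒜 i)
    (hgen : Algebra.adjoin R S = ⊤) {a : A} (ha : a ∈ 𝒜 0) : ∃ r : R, algebraMap R A r = a := by
  have key : ∀ x ∈ Algebra.adjoin R S, ∃ r : R, algebraMap R A r = GradedRing.projZeroRingHom 𝒜 x := by
    intro x hx
    induction hx using Algebra.adjoin_induction with
    | mem x hx =>
      obtain ⟨i, hi, hxi⟩ := hS x hx
      refine ⟨0, ?_⟩
      rw [map_zero, GradedRing.projZeroRingHom_apply, DirectSum.decompose_of_mem_ne 𝒜 hxi hi.ne']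
    | algebraMap r =>
      refine ⟨r, ?_⟩
      rw [GradedRing.projZeroRingHom_apply,
        DirectSum.decompose_of_mem_same 𝒜 (SetLike.algebraMap_mem_graded 𝒜 r)]
    | add x y _ _ hx hy =>
      obtain ⟨r1, h1⟩ := hx
      obtain ⟨r2, h2⟩ := hy
      exact ⟨r1 + r2, by rw [map_add, map_add, h1, h2]⟩
    | mul x y _ _ hx hy =>
      obtain ⟨r1, h1⟩ := hx
      obtain ⟨r2, h2⟩ := hy
      exact ⟨r1 * r2, by rw [map_mul, map_mul, h1, h2]⟩
  obtain ⟨r, hr⟩ := key a (by rw [hgen]; trivial)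
  refine ⟨r, ?_⟩
  rw [hr, GradedRing.projZeroRingHom_apply, DirectSum.decompose_of_mem_same 𝒜 ha]

theorem away_mk_prod_pow {g : A} (hg : g ∈ 𝒜 1) {J : Type*} [Fintype J] (v : J → A) (dv : J → ℕ)
    (hv : ∀ j, v j ∈ 𝒜 (dv j)) (a : ℕ) (ai : J → ℕ) (hai : ∑ i, ai i • dv i = a • 1) :
    Away.mk 𝒜 hg a (∏ i, v i ^ ai i) (hai ▸ SetLike.prod_pow_mem_graded _ _ _ _ fun i _ ↦ hv i) =
      ∏ i, (Away.mk 𝒜 hg (dv i) (v i) (smul_one_mem' (hv i))) ^ ai i := by
  apply (show Function.Injective (algebraMap (Away 𝒜 g) (Localization.Away g)) from val_injective _)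
  simp only [map_pow, map_prod, HomogeneousLocalization.algebraMap_apply, Away.val_mk, Localization.mk_pow,
    Localization.mk_prod]
  congr 1
  ext
  simp only [SubmonoidClass.coe_finsetProd, SubmonoidClass.coe_pow, ← pow_mul, Finset.prod_pow_eq_pow_sum]
  congr 1
  rw [smul_eq_mul, mul_one] at hai
  rw [← hai]
  simp [mul_comm]

theorem closure_eq_top_of_away {g : A} (hg : g ∈ 𝒜 1) {J : Type*} [Fintype J] (v : J → A) (dv : J → ℕ)
    (hv : ∀ j, v j ∈ 𝒜 (dv j)) (hadj : Algebra.adjoin (𝒜 0) (Set.range v) = ⊤)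
    {B : Type*} [CommRing B] (ψ : Away 𝒜 g →+* B) (hψ : Function.Surjective ψ) (S : Subring B)
    (h0 : ∀ a : 𝒜 0, ψ (fromZeroRingHom 𝒜 _ a) ∈ S)
    (h1 : ∀ j, ψ (Away.mk 𝒜 hg (dv j) (v j) (smul_one_mem' (hv j))) ∈ S) : S = ⊤ := by
  rw [eq_top_iff]
  rintro y -
  obtain ⟨x, rfl⟩ := hψ y
  have hx : x ∈ (⊤ : Submodule (𝒜 0) (Away 𝒜 g)) := trivial
  rw [← Away.span_mk_prod_pow_eq_top hg v hadj dv hv] at hx
  induction hx using Submodule.span_induction with
  | mem x hx =>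
    obtain ⟨a, ai, hai, rfl⟩ := hx
    rw [away_mk_prod_pow hg v dv hv a ai hai, map_prod]
    refine Subring.prod_mem _ fun i _ => ?_
    rw [map_pow]
    exact pow_mem (h1 i) _
  | zero => rw [map_zero]; exact zero_mem _
  | add x y _ _ hx hy => rw [map_add]; exact add_mem hx hy
  | smul a x _ hx =>
    rw [Algebra.smul_def, map_mul]
    exact mul_mem (h0 a) hx

end Alg

variable {R A : Type u} [CommRing R] [CommRing A] [Algebra R A] {𝒜 : ℕ → Submodule R A} [GradedAlgebra 𝒜]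

/-- restriction along an equality of opens is bijective -/
theorem rf_bijective_of_eq {X : Scheme.{u}} {W W' : X.Opens} (h : W = W') :
    Function.Bijective (rf (h.le) : Γ(X, W') → Γ(X, W)) := by
  subst h
  have : (rf (le_refl W) : Γ(X, W) → Γ(X, W)) = id := funext fun a => rf_self a
  rw [this]
  exact Function.bijective_id

/-- the section of a global function coming from `R`, in the chart `D₊(g)` -/
theorem awayToSection_fromZero_eq (g : A) (a : 𝒜 0) (r : R) (hr : algebraMap R A r = a) :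
    (Proj.awayToSection 𝒜 g).hom (fromZeroRingHom 𝒜 _ a) =
      rf (le_top : Proj.basicOpen 𝒜 g ≤ ⊤) (show Γ(Proj 𝒜, ⊤) from Coh.toGlobal (structMap 𝒜) r) := by
  refine oval_ext fun x => ?_
  rw [oval_awayToSection_fromZero, oval_map, oval_toGlobal, hr]

theorem away_mk_mul_pow {g : A} (hg : g ∈ 𝒜 1) {v : A} {dv n : ℕ} (hv : v ∈ 𝒜 (dv • 1)) (hdn : dv ≤ n)
    (hb : v * g ^ (n - dv) ∈ 𝒜 (n • 1)) :
    Away.mk 𝒜 hg n (v * g ^ (n - dv)) hb = Away.mk 𝒜 hg dv v hv := by
  apply HomogeneousLocalization.val_injective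
  rw [Away.val_mk, Away.val_mk, Localization.mk_eq_mk_iff, Localization.r_iff_exists]
  refine ⟨1, ?_⟩
  simp only [OneMemClass.coe_one, one_mul]
  have : g ^ n = g ^ dv * g ^ (n - dv) := by rw [← pow_add, Nat.add_sub_cancel' hdn]
  rw [this]
  ring

variable (𝒜)

theorem isRelVeryAmplePn_twist [Algebra.FiniteType R A] (d : ℕ)
    (hgen : Algebra.adjoin R (⋃ i ∈ Finset.Icc 1 d, (𝒜 i : Set A)) = ⊤)
    (hcov : ∀ x : ProjectiveSpectrum 𝒜, ∃ g ∈ 𝒜 1, g ∉ x.asHomogeneousIdeal) (n : ℕ) (hn : d ≤ n) (hn1 : 0 < n) :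
    RelAmple.IsRelVeryAmplePn (structMap 𝒜) (twist 𝒜 (n : ℤ)) := by
  classical
  -- finitely many homogeneous generators of degrees in `[1, d]`
  obtain ⟨T, hTS, hT⟩ := exists_finset_subset_adjoin_eq_top hgen
  have hdeg : ∀ j : T, ∃ i, (1 ≤ i ∧ i ≤ d) ∧ (j : A) ∈ 𝒜 i := by
    intro j
    have := hTS j.2
    simp only [Set.mem_iUnion, Finset.mem_Icc, exists_prop] at this
    exact this
  choose dv hdv hv using hdeg
  let v : T → A := fun j => (j : A)
  have hvT : Algebra.adjoin R (Set.range v) = ⊤ := by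
    have : Set.range v = (T : Set A) := Subtype.range_coe
    rw [this]; exact hT
  have hadj : Algebra.adjoin (𝒜 0) (Set.range v) = ⊤ := by
    rw [eq_top_iff]
    rintro x -
    have hx : x ∈ Algebra.adjoin R (Set.range v) := by rw [hvT]; trivial
    induction hx using Algebra.adjoin_induction with
    | mem x hx => exact Algebra.subset_adjoin hx
    | algebraMap r =>
      have : algebraMap R A r = algebraMap (𝒜 0) A ⟨algebraMap R A r, SetLike.algebraMap_mem_graded 𝒜 r⟩ := rfl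
      rw [this]
      exact Subalgebra.algebraMap_mem _ _
    | add x y _ _ hx hy => exact add_mem hx hy
    | mul x y _ _ hx hy => exact mul_mem hx hy
  -- `𝒜 0` is the image of `R`
  have hzero : ∀ a : 𝒜 0, ∃ r : R, algebraMap R A r = a := fun a =>
    mem_range_algebraMap_of_mem_zero (𝒜 := 𝒜) (S := ⋃ i ∈ Finset.Icc 1 d, (𝒜 i : Set A)) (fun x hx => by
      simp only [Set.mem_iUnion, Finset.mem_Icc, exists_prop] at hx
      obtain ⟨i, ⟨h1, -⟩, hxi⟩ := hx
      exact ⟨i, h1, hxi⟩) hgen a.2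
  -- compactness and a finite subcover
  haveI : IsScalarTower R (𝒜 0) A := ⟨fun r a x => by
    change ((r • a : 𝒜 0) : A) * x = r • ((a : A) * x)
    rw [Submodule.coe_smul, smul_mul_assoc]⟩
  haveI : Algebra.FiniteType (𝒜 0) A := Algebra.FiniteType.of_restrictScalars_finiteType R (𝒜 0) A
  haveI : CompactSpace (Proj 𝒜) := QuasiCompact.compactSpace_of_compactSpace (Proj.toSpecZero 𝒜)
  obtain ⟨t, ht⟩ := isCompact_univ.elim_finite_subcover
    (fun g : 𝒜 1 => ((Proj.basicOpen 𝒜 (g : A) : (Proj 𝒜).Opens) : Set (Proj 𝒜)))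
    (fun g => (Proj.basicOpen 𝒜 (g : A)).isOpen) (by
      intro x _
      obtain ⟨g, hg, hgx⟩ := hcov x
      exact Set.mem_iUnion.2 ⟨⟨g, hg⟩, hgx⟩)
  -- the sections
  let L := {g : 𝒜 1 // g ∈ t}
  let K := Option T × L
  let b : K → A := fun k => match k.1 with
    | none => ((k.2 : 𝒜 1) : A) ^ n
    | some j => v j * ((k.2 : 𝒜 1) : A) ^ (n - dv j)
  have hb : ∀ k, b k ∈ 𝒜 (n • 1) := by
    rintro ⟨_ | j, l⟩
    · exact pow_mem_smul l.1.2 n
    · have h1 := SetLike.mul_mem_graded (hv j) (pow_mem_of_one 𝒜 l.1.2 (n - dv j))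
      have h2 : dv j + (n - dv j) = n • 1 := by
        have := (hdv j).2
        simp only [smul_eq_mul, mul_one]
        omega
      rw [h2] at h1
      exact h1
  have hd : (n : ℤ) = ((n • 1 : ℕ) : ℤ) := by simp
  let sK : K → Γ(twist 𝒜 (n : ℤ), ⊤) := fun k => numSec (hb k) (n : ℤ) hd
  have hcovn : ∀ x : ProjectiveSpectrum 𝒜, ∃ g ∈ 𝒜 (n • 1), g ∉ x.asHomogeneousIdeal := fun x => by
    obtain ⟨g, hg, hgx⟩ := hcov x
    exact ⟨g ^ n, pow_mem_smul hg n, fun h => hgx (x.isPrime.mem_of_pow_mem n h)⟩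
  have hU : ∀ l : L, U sK (none, l) = Proj.basicOpen 𝒜 ((l.1 : 𝒜 1) : A) := fun l => by
    have := genLocus_ofSection_numSec (hb (none, l)) (n : ℤ) hd hcovn
    rw [← Proj.basicOpen_pow 𝒜 _ n hn1]
    exact this
  have hM : PicF.IsInvertible (twist 𝒜 (n : ℤ)) :=
    isInvertible_twist_of_cover' (𝒜 1 : Set A) (fun f hf => hf) hcov (n : ℤ)
  refine Groth.Agent.Lib.VeryAmpleCritH3.isRelVeryAmplePn_of_closure (structMap 𝒜) hM sK {k | k.1 = none}
    ?_ ?_ ?_
  · intro x
    obtain ⟨g, hgt, hx⟩ : ∃ g ∈ t, x ∈ Proj.basicOpen 𝒜 ((g : 𝒜 1) : A) := by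
      have := ht (Set.mem_univ x)
      simpa only [Set.mem_iUnion, exists_prop, SetLike.mem_coe] using this
    refine ⟨(none, ⟨g, hgt⟩), rfl, ?_⟩
    rw [hU]
    exact hx
  · rintro ⟨_ | j, l⟩ hk
    · rw [hU l]
      exact Proj.isAffineOpen_basicOpen 𝒜 _ l.1.2 one_pos
    · exact absurd hk (by simp)
  · rintro ⟨_ | j, l⟩ hk
    · have hg : ((l.1 : 𝒜 1) : A) ∈ 𝒜 1 := l.1.2
      have hW := hU l
      let ψ : Away 𝒜 ((l.1 : 𝒜 1) : A) →+* Γ(Proj 𝒜, U sK (none, l)) :=
        (CommRingCat.Hom.hom ((Proj 𝒜).presheaf.map (homOfLE hW.le).op)).comp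
          (Proj.awayToSection 𝒜 ((l.1 : 𝒜 1) : A)).hom
      have hψ : Function.Surjective ψ :=
        (rf_bijective_of_eq hW).surjective.comp (awayToSection_bijective hg one_pos).surjective
      refine closure_eq_top_of_away hg v dv hv hadj ψ hψ _ ?_ ?_
      · intro a
        obtain ⟨r, hr⟩ := hzero a
        apply Subring.subset_closure
        right
        refine ⟨(Scheme.ΓSpecIso (CommRingCat.of R)).inv.hom r, ?_⟩
        change _ = rf hW.le ((Proj.awayToSection 𝒜 ((l.1 : 𝒜 1) : A)).hom (fromZeroRingHom 𝒜 _ a))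
        rw [awayToSection_fromZero_eq _ a r hr, rf_rf]
        rfl
      · intro j
        apply Subring.subset_closure
        left
        refine ⟨(some j, l), ?_⟩
        symm
        apply ratio_unique
        have h1 := numSec_res_eq_smul hg n (hb (some j, l)) (n : ℤ) hd
        have h2 := congrArg (rs (twist 𝒜 (n : ℤ)) hW.le) h1
        rw [rs_smul] at h2
        erw [rs_rs, rs_rs] at h2
        rw [away_mk_mul_pow hg (smul_one_mem' (hv j)) ((hdv j).2.trans hn)] at h2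
        exact h2
    · exact absurd hk (by simp)

end Groth.Agent.Lib.TwistVeryAmpleH3
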