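/-
# `O(a l)` on `Proj 𝒜` is very ample for `a ≥ max(1, s - 1)` (helper3)

`𝒜` a graded `R`-algebra generated by `f_1, …, f_s` homogeneous of positive degrees `d_i`, `l = lcm d_i`.
* `exists_sub_exponent`: a monomial of degree `(k+1) a l` has a sub-monomial of degree `a l` (`a ≥ s - 1`);
* `closure_eq_top_of_away_lcm`: `A_(F)`, `F ∈ 𝒜 (a l)`, is generated by `𝒜 0` and the `m / F`, `m` a monomial of degree `a l`;
* `isRelVeryAmplePn_twist_of_closure`: general criterion for `O(n)` on `Proj 𝒜` (generation of chart rings by ratios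
  of degree `n` elements);
* `isRelVeryAmplePn_twist_lcm`: the theorem.
-/
import Groth.Agent.Lib.TwistVeryAmpleH3
import Groth.Agent.Lib.GradedGen

set_option autoImplicit false
set_option linter.style.haveILetI false
set_option linter.unusedSectionVars false
universe u
open CategoryTheory CategoryTheory.Limits AlgebraicGeometry TopologicalSpace Opposite Twist HomogeneousLocalization
open AlgebraicGeometry.Scheme.Modules
open Groth.Agent.Lib.H90Invertible Groth.Agent.Lib.H4Twist Groth.Agent.Lib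
open Groth.Agent.Lib.H78TensorGen Groth.Agent.Lib.H78SecCoord Groth.Agent.Lib.H78Atlas
open Groth.Agent.Lib.GenCoverH3 Groth.Agent.Lib.TwistNumSecH3 Groth.Agent.Lib.TwistVeryAmpleH3

namespace Groth.Agent.Lib.TwistLcmH3

/-- choose a sub-vector with prescribed sum -/
theorem exists_le_sum_eq {s : ℕ} (q : Fin s → ℕ) (t : ℕ) (ht : t ≤ ∑ j, q j) :
    ∃ q' : Fin s → ℕ, (∀ j, q' j ≤ q j) ∧ ∑ j, q' j = t := by
  induction t with
  | zero => exact ⟨fun _ => 0, fun j => Nat.zero_le _, by simp⟩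
  | succ t ih =>
    obtain ⟨q', hq', hsum⟩ := ih (by omega)
    have hlt : ∑ j, q' j < ∑ j, q j := by omega
    obtain ⟨j, -, hj⟩ := Finset.exists_lt_of_sum_lt hlt
    refine ⟨q' + Pi.single j 1, fun i => ?_, ?_⟩
    · by_cases hij : i = j
      · subst hij
        simp only [Pi.add_apply, Pi.single_eq_same]
        omega
      · simp only [Pi.add_apply, Pi.single_eq_of_ne hij, add_zero]
        exact hq' i
    · simp only [Pi.add_apply, Finset.sum_add_distrib, hsum, Finset.sum_pi_single', Finset.mem_univ,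
        if_true]

/-- **sub-monomial of degree `a l`** -/
theorem exists_sub_exponent {s : ℕ} (deg : Fin s → ℕ) (hdeg : ∀ i, 0 < deg i) (a : ℕ) (has : s - 1 ≤ a)
    (k : ℕ) (e : Fin s → ℕ) (he : ∑ j, e j * deg j = (k + 1) * (a * Finset.univ.lcm deg)) :
    ∃ e' : Fin s → ℕ, (∀ j, e' j ≤ e j) ∧ ∑ j, e' j * deg j = a * Finset.univ.lcm deg := by
  set l := Finset.univ.lcm deg with hl
  have hlpos : 0 < l := by
    apply Nat.pos_of_ne_zero
    rw [hl, Ne, Finset.lcm_eq_zero_iff]
    rintro ⟨j, -, hj⟩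
    exact (hdeg j).ne' hj
  have hdvd : ∀ j, deg j ∣ l := fun j => Finset.dvd_lcm (Finset.mem_univ j)
  let m : Fin s → ℕ := fun j => l / deg j
  have hm : ∀ j, m j * deg j = l := fun j => Nat.div_mul_cancel (hdvd j)
  have hmpos : ∀ j, 0 < m j := fun j => by
    rcases Nat.eq_zero_or_pos (m j) with h | h
    · have := hm j
      rw [h, zero_mul] at this
      omega
    · exact h
  let q : Fin s → ℕ := fun j => e j / m j
  let r : Fin s → ℕ := fun j => e j % m j
  have hqr : ∀ j, e j = m j * q j + r j := fun j => (Nat.div_add_mod (e j) (m j)).symm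
  set ρ := ∑ j, r j * deg j with hρ
  have H1 : ∀ q' : Fin s → ℕ, ∑ j, (m j * q' j + r j) * deg j = l * ∑ j, q' j + ρ := by
    intro q'
    rw [hρ, Finset.mul_sum, ← Finset.sum_add_distrib]
    refine Finset.sum_congr rfl fun j _ => ?_
    rw [add_mul, ← hm j]
    ring
  have H1e : ∑ j, e j * deg j = l * ∑ j, q j + ρ := by
    rw [← H1 q]
    exact Finset.sum_congr rfl fun j _ => by rw [← hqr j]
  have H2 : l ∣ ρ := by
    have h1 : l ∣ l * ∑ j, q j + ρ := by
      rw [← H1e, he]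
      exact ⟨(k + 1) * a, by ring⟩
    exact (Nat.dvd_add_right (dvd_mul_right l _)).1 h1
  obtain ⟨c, hc⟩ := H2
  have H3 : c ≤ a := by
    rcases Nat.eq_zero_or_pos s with hs | hs
    · subst hs
      have : ρ = 0 := by rw [hρ]; simp
      rw [this] at hc
      have : c = 0 := by
        rcases Nat.eq_zero_or_pos c with h | h
        · exact h
        · have := Nat.mul_pos hlpos h
          omega
      omega
    · have hlt : ρ < ∑ _j : Fin s, l := by
        rw [hρ]
        have : Nonempty (Fin s) := ⟨⟨0, hs⟩⟩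
        apply Finset.sum_lt_sum_of_nonempty Finset.univ_nonempty
        intro j _
        rw [← hm j]
        exact Nat.mul_lt_mul_of_pos_right (Nat.mod_lt _ (hmpos j)) (hdeg j)
      rw [Finset.sum_const, Finset.card_univ, Fintype.card_fin, smul_eq_mul, hc, mul_comm s l] at hlt
      have : c < s := Nat.lt_of_mul_lt_mul_left hlt
      omega
  have H4 : ∑ j, q j + c = (k + 1) * a := by
    have h1 : l * (∑ j, q j + c) = l * ((k + 1) * a) := by
      rw [mul_add, ← hc, ← H1e, he]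
      ring
    exact Nat.eq_of_mul_eq_mul_left hlpos h1
  have H5 : a - c ≤ ∑ j, q j := by
    have : a ≤ (k + 1) * a := Nat.le_mul_of_pos_left a (Nat.succ_pos k)
    omega
  obtain ⟨q', hq', hsum⟩ := exists_le_sum_eq q (a - c) H5
  refine ⟨fun j => m j * q' j + r j, fun j => ?_, ?_⟩
  · rw [hqr j]
    exact Nat.add_le_add_right (Nat.mul_le_mul_left _ (hq' j)) _
  · rw [H1 q', hsum, hc, ← mul_add, Nat.sub_add_cancel H3, mul_comm]

variable {R A : Type u} [CommRing R] [CommRing A] [Algebra R A] {𝒜 : ℕ → Submodule R A} [GradedAlgebra 𝒜]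

theorem one_smul_mem {b : A} {n : ℕ} (hb : b ∈ 𝒜 n) : b ∈ 𝒜 (1 • n) := by
  rwa [one_smul]

theorem prod_pow_mem {s : ℕ} {f : Fin s → A} {deg : Fin s → ℕ} (hf : ∀ i, f i ∈ 𝒜 (deg i)) (e : Fin s → ℕ)
    {m : ℕ} (he : ∑ j, e j * deg j = m) : ∏ j, f j ^ e j ∈ 𝒜 m := by
  have := SetLike.prod_pow_mem_graded 𝒜 deg f (F := Finset.univ) e fun i _ => hf i
  simp only [smul_eq_mul] at this
  rwa [he] at this

theorem away_mk_mul {F : A} {n : ℕ} (hF : F ∈ 𝒜 n) (k : ℕ) {x y : A} (hx : x ∈ 𝒜 (1 • n)) (hy : y ∈ 𝒜 (k • n))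
    (hxy : x * y ∈ 𝒜 ((k + 1) • n)) :
    Away.mk 𝒜 hF (k + 1) (x * y) hxy = Away.mk 𝒜 hF 1 x hx * Away.mk 𝒜 hF k y hy := by
  apply HomogeneousLocalization.val_injective
  rw [HomogeneousLocalization.val_mul, Away.val_mk, Away.val_mk, Away.val_mk, Localization.mk_mul]
  congr 1
  ext
  simp only [Submonoid.coe_mul, pow_succ, pow_zero, one_mul]
  ring

theorem closure_eq_top_of_away_lcm {s : ℕ} (f : Fin s → A) (deg : Fin s → ℕ) (hdeg : ∀ i, 0 < deg i)
    (hf : ∀ i, f i ∈ 𝒜 (deg i)) (hadj : Algebra.adjoin (𝒜 0) (Set.range f) = ⊤) (a : ℕ) (has : s - 1 ≤ a)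
    {F : A} (hF : F ∈ 𝒜 (a * Finset.univ.lcm deg)) (S : Subring (Away 𝒜 F))
    (h0 : ∀ a0 : 𝒜 0, fromZeroRingHom 𝒜 _ a0 ∈ S)
    (h1 : ∀ (e : Fin s → ℕ) (he : ∑ j, e j * deg j = a * Finset.univ.lcm deg),
      Away.mk 𝒜 hF 1 (∏ j, f j ^ e j) (one_smul_mem (prod_pow_mem hf e he)) ∈ S) : S = ⊤ := by
  rw [eq_top_iff]
  rintro x -
  have hx : x ∈ (⊤ : Submodule (𝒜 0) (Away 𝒜 F)) := trivial
  rw [← Away.span_mk_prod_pow_eq_top hF f hadj deg hf] at hx
  have key : ∀ (k : ℕ) (e : Fin s → ℕ) (hke : ∑ j, e j * deg j = k • (a * Finset.univ.lcm deg)),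
      Away.mk 𝒜 hF k (∏ j, f j ^ e j) (prod_pow_mem hf e hke) ∈ S := by
    intro k
    induction k with
    | zero =>
      intro e hke
      have he0 : ∀ j, e j = 0 := by
        intro j
        rw [zero_smul] at hke
        have := (Finset.sum_eq_zero_iff.1 hke) j (Finset.mem_univ j)
        rcases Nat.mul_eq_zero.1 this with h | h
        · exact h
        · exact absurd h (hdeg j).ne'
      have : Away.mk 𝒜 hF 0 (∏ j, f j ^ e j) (prod_pow_mem hf e hke) = 1 := by
        apply HomogeneousLocalization.val_injective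
        rw [Away.val_mk, HomogeneousLocalization.val_one]
        simp only [he0, pow_zero, Finset.prod_const_one]
        exact Localization.mk_one
      rw [this]
      exact one_mem _
    | succ k ih =>
      intro e hke
      obtain ⟨e', hle, he'⟩ := exists_sub_exponent deg hdeg a has k e (by rw [hke, smul_eq_mul])
      let e'' : Fin s → ℕ := fun j => e j - e' j
      have hee : ∀ j, e j = e' j + e'' j := fun j => (Nat.add_sub_cancel' (hle j)).symm
      have he'' : ∑ j, e'' j * deg j = k • (a * Finset.univ.lcm deg) := by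
        have h2 : ∑ j, e j * deg j = ∑ j, e' j * deg j + ∑ j, e'' j * deg j := by
          rw [← Finset.sum_add_distrib]
          exact Finset.sum_congr rfl fun j _ => by rw [hee j, add_mul]
        rw [hke, he', smul_eq_mul, add_mul, one_mul] at h2
        rw [smul_eq_mul]
        omega
      have hprod : ∏ j, f j ^ e j = (∏ j, f j ^ e' j) * ∏ j, f j ^ e'' j := by
        rw [← Finset.prod_mul_distrib]
        exact Finset.prod_congr rfl fun j _ => by rw [hee j, pow_add]
      have h3 := away_mk_mul hF k (one_smul_mem (prod_pow_mem hf e' he')) (prod_pow_mem hf e'' he'')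
        (hprod ▸ prod_pow_mem hf e hke)
      have h4 : Away.mk 𝒜 hF (k + 1) (∏ j, f j ^ e j) (prod_pow_mem hf e hke) =
          Away.mk 𝒜 hF (k + 1) ((∏ j, f j ^ e' j) * ∏ j, f j ^ e'' j) (hprod ▸ prod_pow_mem hf e hke) := by
        congr 1
      rw [h4, h3]
      exact mul_mem (h1 e' he') (ih e'' he'')
  induction hx using Submodule.span_induction with
  | mem x hx =>
    obtain ⟨k, e, hke, rfl⟩ := hx
    exact key k e (by simpa only [smul_eq_mul] using hke)
  | zero => exact zero_mem _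
  | add x y _ _ hx hy => exact add_mem hx hy
  | smul a x _ hx =>
    rw [Algebra.smul_def]
    exact mul_mem (h0 a) hx

/-- chart expansion of `b/1` on `D₊(F)`, `F` and `b` of the same degree -/
theorem numSec_res_eq_smul_one {F : A} {n : ℕ} (hF : F ∈ 𝒜 n) {b : A} (hb : b ∈ 𝒜 n) (d : ℤ) (hd : d = (n : ℤ)) :
    rs (twist 𝒜 d) (le_top : Proj.basicOpen 𝒜 F ≤ ⊤) (numSec hb d hd) =
      (Proj.awayToSection 𝒜 F).hom (Away.mk 𝒜 hF 1 b (one_smul_mem hb)) •
        rs (twist 𝒜 d) (le_top : Proj.basicOpen 𝒜 F ≤ ⊤) (numSec hF d hd) := by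
  refine H4Twist.sec_ext fun x => ?_
  rw [sval_smul, sval_map, sval_map, sval_numSec, sval_numSec, oval_awayToSection_mk hF 1 b (one_smul_mem hb) x,
    Localization.mk_mul, Localization.mk_eq_mk_iff, Localization.r_iff_exists]
  refine ⟨1, ?_⟩
  simp only [OneMemClass.coe_one, one_mul, mul_one, pow_one]
  ring

variable (𝒜)

/-- **very ampleness of `O(n)` from generation of the chart rings by ratios of degree `n` elements** -/
theorem isRelVeryAmplePn_twist_of_closure (n : ℕ) (hn : 0 < n) {K : Type*} [Finite K] (b : K → A)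
    (hb : ∀ k, b k ∈ 𝒜 n) (T : Set K)
    (hcov : ∀ x : ProjectiveSpectrum 𝒜, ∃ k ∈ T, b k ∉ x.asHomogeneousIdeal)
    (hzero : ∀ a : 𝒜 0, ∃ r : R, algebraMap R A r = a)
    (hgen : ∀ k ∈ T, ∀ S : Subring (Away 𝒜 (b k)), (∀ a0 : 𝒜 0, fromZeroRingHom 𝒜 _ a0 ∈ S) →
      (∀ k', Away.mk 𝒜 (hb k) 1 (b k') (one_smul_mem (hb k')) ∈ S) → S = ⊤) :
    RelAmple.IsRelVeryAmplePn (structMap 𝒜) (twist 𝒜 (n : ℤ)) := by
  let sK : K → Γ(twist 𝒜 (n : ℤ), ⊤) := fun k => numSec (hb k) (n : ℤ) rfl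
  have hcovn : ∀ x : ProjectiveSpectrum 𝒜, ∃ g ∈ 𝒜 n, g ∉ x.asHomogeneousIdeal := fun x => by
    obtain ⟨k, -, hk⟩ := hcov x
    exact ⟨b k, hb k, hk⟩
  have hU : ∀ k, U sK k = Proj.basicOpen 𝒜 (b k) := fun k =>
    genLocus_ofSection_numSec (hb k) (n : ℤ) rfl hcovn
  have hM : PicF.IsInvertible (twist 𝒜 (n : ℤ)) := by
    have h := isInvertible_twist_of_cover 𝒜 n 1 hcovn
    rwa [one_mul] at h
  refine Groth.Agent.Lib.VeryAmpleCritH3.isRelVeryAmplePn_of_closure (structMap 𝒜) hM sK T ?_ ?_ ?_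
  · intro x
    obtain ⟨k, hkT, hk⟩ := hcov x
    refine ⟨k, hkT, ?_⟩
    rw [hU]
    exact hk
  · intro k _
    rw [hU k]
    exact Proj.isAffineOpen_basicOpen 𝒜 _ (hb k) hn
  · intro k hkT
    have hW := hU k
    let ψ : Away 𝒜 (b k) →+* Γ(Proj 𝒜, U sK k) :=
      (CommRingCat.Hom.hom ((Proj 𝒜).presheaf.map (homOfLE hW.le).op)).comp (Proj.awayToSection 𝒜 (b k)).hom
    have hψ : Function.Surjective ψ :=
      (rf_bijective_of_eq hW).surjective.comp (awayToSection_bijective (hb k) hn).surjective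
    set S' : Subring Γ(Proj 𝒜, U sK k) := Subring.closure
      (Set.range (ratio sK k) ∪ Set.range ((structMap 𝒜).appLE ⊤ (U sK k) le_top).hom) with hS'
    have hcomap : S'.comap ψ = ⊤ := by
      refine hgen k hkT _ ?_ ?_
      · intro a
        obtain ⟨r, hr⟩ := hzero a
        change ψ _ ∈ S'
        apply Subring.subset_closure
        right
        refine ⟨(Scheme.ΓSpecIso (CommRingCat.of R)).inv.hom r, ?_⟩
        change _ = rf hW.le ((Proj.awayToSection 𝒜 (b k)).hom (fromZeroRingHom 𝒜 _ a))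
        rw [awayToSection_fromZero_eq _ a r hr, rf_rf]
        rfl
      · intro k'
        change ψ _ ∈ S'
        apply Subring.subset_closure
        left
        refine ⟨k', ?_⟩
        symm
        apply ratio_unique
        have h1 := numSec_res_eq_smul_one (hb k) (hb k') (n : ℤ) rfl
        have h2 := congrArg (rs (twist 𝒜 (n : ℤ)) hW.le) h1
        rw [rs_smul] at h2
        erw [rs_rs, rs_rs] at h2
        exact h2
    rw [eq_top_iff]
    rintro y -
    obtain ⟨x, rfl⟩ := hψ y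
    have : x ∈ S'.comap ψ := by rw [hcomap]; trivial
    exact this

theorem adjoin_zero_eq_top {S : Set A} (hgen : Algebra.adjoin R S = ⊤) : Algebra.adjoin (𝒜 0) S = ⊤ := by
  rw [eq_top_iff]
  rintro x -
  have hx : x ∈ Algebra.adjoin R S := by rw [hgen]; trivial
  induction hx using Algebra.adjoin_induction with
  | mem x hx => exact Algebra.subset_adjoin hx
  | algebraMap r =>
    have : algebraMap R A r = algebraMap (𝒜 0) A ⟨algebraMap R A r, SetLike.algebraMap_mem_graded 𝒜 r⟩ := rfl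
    rw [this]
    exact Subalgebra.algebraMap_mem _ _
  | add x y _ _ hx hy => exact add_mem hx hy
  | mul x y _ _ hx hy => exact mul_mem hx hy

theorem isRelVeryAmplePn_twist_lcm {s : ℕ} (f : Fin s → A) (deg : Fin s → ℕ) (hdeg : ∀ i, 0 < deg i)
    (hf : ∀ i, f i ∈ 𝒜 (deg i)) (hgen : Algebra.adjoin R (Set.range f) = ⊤) (a : ℕ) (ha : 0 < a)
    (has : s - 1 ≤ a) :
    RelAmple.IsRelVeryAmplePn (structMap 𝒜) (twist 𝒜 ((a * Finset.univ.lcm deg : ℕ) : ℤ)) := by
  classical
  set l := Finset.univ.lcm deg with hl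
  have hlpos : 0 < l := by
    apply Nat.pos_of_ne_zero
    rw [hl, Ne, Finset.lcm_eq_zero_iff]
    rintro ⟨j, -, hj⟩
    exact (hdeg j).ne' hj
  have hn : 0 < a * l := Nat.mul_pos ha hlpos
  have hadj := adjoin_zero_eq_top 𝒜 hgen
  have hirr : (HomogeneousIdeal.irrelevant 𝒜).toIdeal = Ideal.span (Set.range f) :=
    Groth.Agent.Lib.GradedGen.irrelevant_eq_span_of_adjoin_eq_top 𝒜 (Set.range f)
      (by rintro _ ⟨i, rfl⟩; exact ⟨deg i, hdeg i, hf i⟩) hadj
  have hex : ∀ x : ProjectiveSpectrum 𝒜, ∃ i, f i ∉ x.asHomogeneousIdeal := by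
    intro x
    by_contra hcon
    push Not at hcon
    apply x.not_irrelevant_le
    intro b hb
    have hb' : b ∈ (HomogeneousIdeal.irrelevant 𝒜).toIdeal := hb
    rw [hirr] at hb'
    have hle : Ideal.span (Set.range f) ≤ x.asHomogeneousIdeal.toIdeal :=
      Ideal.span_le.mpr (by rintro _ ⟨j, rfl⟩; exact hcon j)
    exact hle hb'
  have hdvd : ∀ i, deg i ∣ a * l := fun i => Dvd.dvd.mul_left (Finset.dvd_lcm (Finset.mem_univ i)) a
  let K₀ := {e : Fin s → ℕ // ∑ j, e j * deg j = a * l}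
  have hbound : ∀ (e : K₀) (j : Fin s), e.1 j < a * l + 1 := by
    intro e j
    have h1 : e.1 j * deg j ≤ ∑ j, e.1 j * deg j :=
      Finset.single_le_sum (f := fun j => e.1 j * deg j) (fun _ _ => Nat.zero_le _) (Finset.mem_univ j)
    rw [e.2] at h1
    have h2 : e.1 j ≤ e.1 j * deg j := Nat.le_mul_of_pos_right _ (hdeg j)
    omega
  haveI : Finite K₀ := Finite.of_injective (fun e : K₀ => fun j => (⟨e.1 j, hbound e j⟩ : Fin (a * l + 1)))
    (by
      intro e e' h
      apply Subtype.ext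
      funext j
      have := congrFun h j
      exact Fin.mk.inj_iff.1 this)
  let K := Fin s ⊕ K₀
  let b : K → A := fun k => match k with
    | Sum.inl i => f i ^ (a * l / deg i)
    | Sum.inr e => ∏ j, f j ^ e.1 j
  have hb : ∀ k, b k ∈ 𝒜 (a * l) := by
    rintro (i | e)
    · have := SetLike.pow_mem_graded (a * l / deg i) (hf i)
      rwa [smul_eq_mul, Nat.div_mul_cancel (hdvd i)] at this
    · exact prod_pow_mem hf e.1 e.2
  have hzero : ∀ a0 : 𝒜 0, ∃ r : R, algebraMap R A r = a0 := fun a0 =>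
    mem_range_algebraMap_of_mem_zero (𝒜 := 𝒜) (S := Set.range f)
      (by rintro _ ⟨i, rfl⟩; exact ⟨deg i, hdeg i, hf i⟩) hgen a0.2
  refine isRelVeryAmplePn_twist_of_closure 𝒜 (a * l) hn b hb (Set.range Sum.inl) ?_ hzero ?_
  · intro x
    obtain ⟨i, hi⟩ := hex x
    exact ⟨Sum.inl i, ⟨i, rfl⟩, fun h => hi (x.isPrime.mem_of_pow_mem _ h)⟩
  · rintro _ ⟨i, rfl⟩ S h0 h1
    exact closure_eq_top_of_away_lcm f deg hdeg hf hadj a has (hb (Sum.inl i)) S h0
      (fun e he => h1 (Sum.inr ⟨e, he⟩))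

end Groth.Agent.Lib.TwistLcmH3
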