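/-
# Hyperplanes in projective space (helper3; S7676)

`k` a field, `s` a nonzero section of `O(1)` on `P^{n+1}_k`: the zero scheme `Z(s)` is isomorphic to `P^n_k`, compatibly with
`O(1)` (`hyperplane`).  Via S9570 (`ProjClosedSatH3.exists_iso`), helper82's `ZeroScheme82` (ideal of the zero scheme in
charts) and `ProjMapTwistH3` (pullback of `O(1)` along `Proj.map`); algebra in `HyperplaneAlgH3`.
-/
import Groth.Agent.Lib.HyperplaneAlgH3
import Groth.Agent.Lib.ProjMapTwistH3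
import Groth.Agent.Lib.ZeroScheme82
import Groth.Agent.Lib.TwistLcmH3
import Groth.Agent.Lib.ProjClosedSatH3
import Groth.Agent.Lib.H4ProjSpaceGamma

set_option autoImplicit false
set_option linter.style.haveILetI false
set_option linter.unusedSectionVars false
universe u
open CategoryTheory CategoryTheory.Limits AlgebraicGeometry TopologicalSpace Opposite Twist HomogeneousLocalization
open AlgebraicGeometry.Scheme.Modules
open Groth.Agent.Lib.H90Invertible Groth.Agent.Lib.H4Twist Groth.Agent.Lib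
open Groth.Agent.Lib.H78TensorGen Groth.Agent.Lib.H78SecCoord Groth.Agent.Lib.H78Atlas
open Groth.Agent.Lib.ProjClosedSub

namespace Groth.Agent.Lib.HyperplaneH3

section General

variable {R A : Type u} [CommRing R] [CommRing A] [Algebra R A] (𝒜 : ℕ → Submodule R A) [GradedAlgebra 𝒜]
  (hcov : ∀ x : ProjectiveSpectrum 𝒜, ∃ g ∈ 𝒜 1, g ∉ x.asHomogeneousIdeal)
  (s : Coh.structureModule (Proj 𝒜) ⟶ twist 𝒜 1) {ℓ : A} (hℓ : ℓ ∈ 𝒜 1)
  (hs : sec s = numSec hℓ 1 (by simp))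

include hcov hs in
/-- **the ideal of the zero scheme of `ℓ/1 ∈ Γ(O(1))` in the chart `D₊(f)`** -/
theorem rho_subschemeι_eq_zero_iff {f : A} (hf : f ∈ 𝒜 1) (y : Away 𝒜 f) :
    rho 𝒜 (PicF2.zeroScheme (twist 𝒜 1) s).subschemeι f y = 0 ↔
      y ∈ Ideal.span {Away.mk 𝒜 hf 1 ℓ (TwistLcmH3.one_smul_mem hℓ)} := by
  have hL : PicF.IsInvertible (twist 𝒜 1) :=
    TwistNumSecH3.isInvertible_twist_of_cover' (𝒜 1 : Set A) (fun f hf => hf) hcov 1
  have hd : (1 : ℤ) = ((1 : ℕ) : ℤ) := by simp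
  let U : (Proj 𝒜).affineOpens := ⟨Proj.basicOpen 𝒜 f, Proj.isAffineOpen_basicOpen 𝒜 f hf one_pos⟩
  have he : IsGen (twist 𝒜 1) U.1 (rs (twist 𝒜 1) (le_top : U.1 ≤ ⊤) (numSec hf 1 hd)) :=
    isGen_numSec_of_le hf 1 (pow_one f).symm hf (one_mul 1).symm 1 hd le_rfl
  have hc : ZeroScheme82.sv (twist 𝒜 1) s U.1 =
      (Proj.awayToSection 𝒜 f).hom (Away.mk 𝒜 hf 1 ℓ (TwistLcmH3.one_smul_mem hℓ)) •
        rs (twist 𝒜 1) (le_top : U.1 ≤ ⊤) (numSec hf 1 hd) := by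
    have h1 : ZeroScheme82.sv (twist 𝒜 1) s U.1 = rs (twist 𝒜 1) (le_top : U.1 ≤ ⊤) (sec s) :=
      (ZeroScheme82.res_sv (twist 𝒜 1) s (le_top : U.1 ≤ ⊤)).symm
    rw [h1, hs]
    exact TwistLcmH3.numSec_res_eq_smul_one hf hℓ 1 hd
  have hideal := ZeroScheme82.ideal_zeroScheme_eq_span (twist 𝒜 1) s hL U he _ hc
  have hker := (PicF2.zeroScheme (twist 𝒜 1) s).ker_subschemeι_app U
  rw [ProjClosedSub.rho_apply]
  have hbij := awayToSection_bijective hf one_pos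
  constructor
  · intro h0
    have h1 : (Proj.awayToSection 𝒜 f).hom y ∈
        RingHom.ker ((PicF2.zeroScheme (twist 𝒜 1) s).subschemeι.app U.1).hom := h0
    rw [hker, hideal, Ideal.mem_span_singleton'] at h1
    obtain ⟨a, ha⟩ := h1
    obtain ⟨a', rfl⟩ := hbij.2 a
    rw [← map_mul] at ha
    rw [Ideal.mem_span_singleton']
    exact ⟨a', hbij.1 ha⟩
  · intro h1
    rw [Ideal.mem_span_singleton'] at h1
    obtain ⟨a', rfl⟩ := h1
    have h2 : (Proj.awayToSection 𝒜 f).hom (a' * Away.mk 𝒜 hf 1 ℓ (TwistLcmH3.one_smul_mem hℓ)) ∈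
        RingHom.ker ((PicF2.zeroScheme (twist 𝒜 1) s).subschemeι.app U.1).hom := by
      rw [hker, hideal, Ideal.mem_span_singleton', map_mul]
      exact ⟨_, rfl⟩
    exact h2

theorem away_mk_zero {f : A} {e : ℕ} (hf : f ∈ 𝒜 e) (d : ℕ) (h0 : (0 : A) ∈ 𝒜 (d • e)) :
    Away.mk 𝒜 hf d 0 h0 = 0 := by
  apply HomogeneousLocalization.val_injective
  rw [Away.val_mk, HomogeneousLocalization.val_zero, Localization.mk_zero]

theorem sec_eq_zero_imp (s : Coh.structureModule (Proj 𝒜) ⟶ twist 𝒜 1) (h : sec s = 0) : s = 0 := by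
  rw [← ofSection_sec s, h]
  have h0 : sec (0 : Coh.structureModule (Proj 𝒜) ⟶ twist 𝒜 1) = 0 := rfl
  rw [← h0, ofSection_sec]

end General

section Poly

open MvPolynomial

variable (k : Type u) [Field k] (n : ℕ)

local notation "𝒜" => CohB1.polyGrading (n + 1) k
local notation "ℬ" => CohB1.polyGrading n k

theorem X_memA (j : Fin (n + 2)) : (X j : MvPolynomial (Fin (n + 2)) k) ∈ 𝒜 1 :=
  (mem_homogeneousSubmodule _ _).2 (isHomogeneous_X k j)

theorem hyperplane (s : Coh.structureModule (Proj 𝒜) ⟶ twist 𝒜 1) (hs : s ≠ 0) :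
    ∃ (ψ : 𝒜 →+*ᵍ ℬ) (hirr : HomogeneousIdeal.irrelevant ℬ ≤ (HomogeneousIdeal.irrelevant 𝒜).map ψ)
      (e : (PicF2.zeroScheme (twist 𝒜 1) s).subscheme ≅ Proj ℬ),
      e.hom ≫ Proj.map ψ hirr = (PicF2.zeroScheme (twist 𝒜 1) s).subschemeι ∧
      Nonempty ((Scheme.Modules.pullback (Proj.map ψ hirr)).obj (twist 𝒜 1) ≅ twist ℬ 1) := by
  classical
  -- the linear form
  obtain ⟨⟨ℓ, hℓ⟩, ht⟩ := numSec_surjective (n := n + 1) (R := k) 1 (sec s)
  have hsec : sec s = numSec hℓ 1 (by simp) := ht.symm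
  have hℓ0 : ℓ ≠ 0 := by
    rintro rfl
    apply hs
    apply sec_eq_zero_imp
    rw [hsec]
    refine H4Twist.sec_ext fun x => ?_
    rw [sval_numSec, sval_zero, Localization.mk_zero]
  have hℓ' : ℓ ∈ Submodule.span k (Set.range (X : Fin (n + 2) → MvPolynomial (Fin (n + 2)) k)) := by
    rw [← homogeneousSubmodule_one_eq_span_X]
    exact hℓ
  obtain ⟨c, hc⟩ := (Submodule.mem_span_range_iff_exists_fun k).1 hℓ'
  have hell : ell k c = ℓ := hc
  obtain ⟨i₀, hi₀⟩ : ∃ i₀, c i₀ ≠ 0 := by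
    by_contra hcon
    push Not at hcon
    apply hℓ0
    rw [← hc]
    exact Finset.sum_eq_zero fun j _ => by rw [hcon j, zero_smul]
  subst hell
  have hcovA : ∀ x : ProjectiveSpectrum 𝒜, ∃ j, (X j : MvPolynomial (Fin (n + 2)) k) ∉ x.asHomogeneousIdeal :=
    fun x => exists_X_notMem (n := n + 1) (R := k) x
  have hcovB : ∀ y : ProjectiveSpectrum ℬ, ∃ j, ψ k c i₀ (X j) ∉ y.asHomogeneousIdeal := by
    intro y
    obtain ⟨m, hm⟩ := exists_X_notMem (n := n) (R := k) y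
    exact ⟨i₀.succAbove m, by rw [ψ_X_succAbove]; exact hm⟩
  have hcov1 : ∀ x : ProjectiveSpectrum 𝒜, ∃ g ∈ 𝒜 1, g ∉ x.asHomogeneousIdeal := fun x => by
    obtain ⟨j, hj⟩ := hcovA x
    exact ⟨X j, X_memA k n j, hj⟩
  refine ⟨ψ k c i₀, irrelevant_le k c i₀, ?_⟩
  -- the kernel condition
  have hker : ∀ (d : ℕ) (F : MvPolynomial (Fin (n + 2)) k) (hF : F ∈ 𝒜 d),
      ψ k c i₀ F = 0 ↔ ProjUP.pullSec (PicF2.zeroScheme (twist 𝒜 1) s).subschemeι (twist 𝒜 (d : ℤ))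
        (Twist.globalOf 𝒜 ⟨F, hF⟩) = 0 := by
    intro d F hF
    have hF' : F ∈ 𝒜 (d • 1) := by rwa [smul_eq_mul, mul_one]
    have hd : (d : ℤ) = ((d • 1 : ℕ) : ℤ) := by rw [smul_eq_mul, mul_one]
    have e1 : (Twist.globalOf 𝒜 ⟨F, hF⟩ : Γ(twist 𝒜 (d : ℤ), ⊤)) = numSec hF' (d : ℤ) hd := rfl
    rw [e1, Groth.Agent.Lib.TwistNumSecH3.pullSec_numSec_eq_zero_iff
      (PicF2.zeroScheme (twist 𝒜 1) s).subschemeι (Set.range (X : Fin (n + 2) → MvPolynomial (Fin (n + 2)) k))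
      (by rintro _ ⟨j, rfl⟩; exact X_memA k n j)
      (fun x => by obtain ⟨j, hj⟩ := hcovA x; exact ⟨X j, ⟨j, rfl⟩, hj⟩) d hF' (d : ℤ) hd]
    constructor
    · intro h0 f hf
      obtain ⟨j, rfl⟩ := hf
      rw [rho_subschemeι_eq_zero_iff 𝒜 hcov1 s (ell_mem k c) hsec (X_memA k n j)]
      obtain ⟨hd0, G, hG, hFG⟩ := exists_eq_mul_of_ψ_eq_zero k c i₀ hi₀ hF h0
      rcases Nat.eq_zero_or_pos d with hdz | hdpos
      · have hFz : F = 0 := hd0 hdz
        subst hFz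
        rw [away_mk_zero]
        exact zero_mem _
      · obtain ⟨d', rfl⟩ : ∃ d', d = d' + 1 := ⟨d - 1, by omega⟩
        have hFG' := hFG hdpos
        subst hFG'
        have hG' : G ∈ 𝒜 (d' • 1) := by
          rw [smul_eq_mul, mul_one]
          exact hG
        rw [TwistLcmH3.away_mk_mul (X_memA k n j) d' (TwistLcmH3.one_smul_mem (ell_mem k c)) hG']
        exact Ideal.mul_mem_right _ _ (Ideal.mem_span_singleton_self _)
    · intro h
      -- use a chart `X_{σ m₀}`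
      let m₀ : Fin (n + 1) := 0
      have h1 := h (X (i₀.succAbove m₀)) ⟨_, rfl⟩
      rw [rho_subschemeι_eq_zero_iff 𝒜 hcov1 s (ell_mem k c) hsec (X_memA k n _),
        Ideal.mem_span_singleton'] at h1
      obtain ⟨z, hz⟩ := h1
      have h2 := congrArg (Away.map (ψ k c i₀) (X (i₀.succAbove m₀))) hz
      rw [map_mul, Away.map_mk, Away.map_mk] at h2
      have h3 : Away.mk ℬ ((ψ k c i₀).map_mem (X_memA k n (i₀.succAbove m₀))) 1 (ψ k c i₀ (ell k c))
          ((ψ k c i₀).map_mem (TwistLcmH3.one_smul_mem (ell_mem k c))) = 0 := by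
        have := ψ_ell k c i₀ hi₀
        apply HomogeneousLocalization.val_injective
        rw [Away.val_mk, HomogeneousLocalization.val_zero, this, Localization.mk_zero]
      rw [h3, mul_zero] at h2
      obtain ⟨M, hM⟩ := (Groth.Agent.Lib.ProjMapImm.away_mk_eq_zero_iff _ _ _ _).1 h2.symm
      rw [ψ_X_succAbove] at hM
      rcases mul_eq_zero.1 hM with hX | hψ
      · exact absurd hX (pow_ne_zero _ (X_ne_zero _))
      · exact hψ
  haveI : IsClosedImmersion (PicF2.zeroScheme (twist 𝒜 1) s).subschemeι := inferInstance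
  obtain ⟨e, he⟩ := Groth.Agent.Lib.ProjClosedSatH3.exists_iso 𝒜
    (Finset.univ.image (X : Fin (n + 2) → MvPolynomial (Fin (n + 2)) k))
    (by
      intro f hf
      obtain ⟨j, -, rfl⟩ := Finset.mem_image.1 hf
      exact X_memA k n j)
    (by
      rw [Groth.Agent.Lib.VeryAmpleAmpleH3.irrelevant_eq_span_X (n + 1) k]
      congr 1
      ext p
      simp)
    (PicF2.zeroScheme (twist 𝒜 1) s).subschemeι ℬ (ψ k c i₀) (ψ_surjective k c i₀) hker
    (irrelevant_le k c i₀)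
  refine ⟨e, he, ?_⟩
  exact Groth.Agent.Lib.ProjMapTwistH3.nonempty_pullback_map_twist_iso (ψ k c i₀) (irrelevant_le k c i₀)
    (X : Fin (n + 2) → MvPolynomial (Fin (n + 2)) k) (X_memA k n) hcovB hcovA 1

end Poly

end Groth.Agent.Lib.HyperplaneH3
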