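import Groth.Agent.Lib.PairEtaleNbhd
import Groth.Agent.Lib.LocalEtaleNbhd
import Groth.Agent.Lib.H15IndZariski
import Groth.Prelude.Def_PBC

/-!
# Henselizations are ind-étale (helper96)

`isIndEtale_of_isPairHenselization`: a henselization `B` of a pair `(A, I)` (in the sense of
`Hens2.IsPairHenselization`) is ind-étale over `A` (`EtPBC.IsIndEtale A B`): it is the colimit of
the small filtered category `Sk A I` of étale neighbourhoods of `(A, I)` of the form
`A[X₁, …, Xₙ] / K`.

`isIndEtale_of_isHenselization`: the henselization of a local ring is ind-étale.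

Inputs: helper22's `Lib/PairEtaleNbhd` (étale neighbourhoods, uniqueness of maps to the
henselization, coequalizers, every element comes from a neighbourhood, kernels die) and helper15's
`Lib/H15IndZariski.isColimit_under_of_elementwise`.
-/

set_option autoImplicit false
universe u

namespace Groth.Agent.Lib.HznIndEtale96

open CategoryTheory CategoryTheory.Limits Groth.Agent.Lib.PairEtaleNbhd TensorProduct

section Transport

variable {A : Type u} [CommRing A] {I : Ideal A}

/-- Étale neighbourhoods are invariant under isomorphism. -/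
theorem IsNbhd.of_algEquiv {S S' : Type u} [CommRing S] [Algebra A S] [CommRing S'] [Algebra A S']
    (e : S ≃ₐ[A] S') (h : IsNbhd I S) : IsNbhd I S' := by
  have := h.etale
  refine ⟨Algebra.Etale.of_equiv e, ?_⟩
  have hmap : ∀ {c : S}, c ∈ I.map (algebraMap A S) → e c ∈ I.map (algebraMap A S') := by
    intro c hc
    have h1 := Ideal.mem_map_of_mem (e : S →+* S') hc
    rw [Ideal.map_map] at h1
    have h2 : ((e : S →+* S').comp (algebraMap A S)) = algebraMap A S' := by
      ext a; exact e.commutes a
    rwa [h2] at h1
  have hmap' : ∀ {c : S'}, c ∈ I.map (algebraMap A S') → e.symm c ∈ I.map (algebraMap A S) := by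
    intro c hc
    have h1 := Ideal.mem_map_of_mem (e.symm : S' →+* S) hc
    rw [Ideal.map_map] at h1
    have h2 : ((e.symm : S' →+* S).comp (algebraMap A S')) = algebraMap A S := by
      ext a; exact e.symm.commutes a
    rwa [h2] at h1
  rw [qbij_iff]
  refine ⟨fun c => ?_, fun a ha => ?_⟩
  · obtain ⟨a, ha⟩ := h.qbij.exists_sub_mem (e.symm c)
    refine ⟨a, ?_⟩
    have := hmap ha
    rwa [map_sub, e.apply_symm_apply, e.commutes] at this
  · apply h.qbij.mem_of_algebraMap_mem
    have := hmap' ha
    rwa [e.symm.commutes] at this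

end Transport

variable (A : Type u) [CommRing A] (I : Ideal A)

/-- The small skeleton of étale neighbourhoods of `(A, I)`: quotients of polynomial rings in
finitely many variables. -/
structure Sk : Type u where
  /-- number of variables -/
  n : ℕ
  /-- ideal of relations -/
  K : Ideal (MvPolynomial (Fin n) A)
  /-- the quotient is an étale neighbourhood -/
  isNbhd : IsNbhd I (MvPolynomial (Fin n) A ⧸ K)

variable {A I}

/-- The underlying algebra of a skeleton neighbourhood. -/
abbrev Sk.alg (X : Sk A I) : Type u := MvPolynomial (Fin X.n) A ⧸ X.K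

noncomputable instance : Category (Sk A I) where
  Hom X Y := X.alg →ₐ[A] Y.alg
  id X := AlgHom.id A X.alg
  comp f g := g.comp f

/-- Every étale neighbourhood is isomorphic to a skeleton one. -/
theorem exists_sk {S : Type u} [CommRing S] [Algebra A S] (hS : IsNbhd I S) :
    ∃ X : Sk A I, Nonempty (S ≃ₐ[A] X.alg) := by
  have := hS.etale
  have hft : Algebra.FiniteType A S := inferInstance
  obtain ⟨n, f, hf⟩ := Algebra.FiniteType.iff_quotient_mvPolynomial''.1 hft
  let e : (MvPolynomial (Fin n) A ⧸ RingHom.ker (f : MvPolynomial (Fin n) A →+* S)) ≃ₐ[A] S :=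
    Ideal.quotientKerAlgEquivOfSurjective hf
  exact ⟨⟨n, RingHom.ker (f : MvPolynomial (Fin n) A →+* S), IsNbhd.of_algEquiv e.symm hS⟩,
    ⟨e.symm⟩⟩

instance : Nonempty (Sk A I) := by
  obtain ⟨X, -⟩ := exists_sk (I := I) (IsNbhd.self (I := I))
  exact ⟨X⟩

instance : IsFiltered (Sk A I) where
  cocone_objs X Y := by
    obtain ⟨Z, ⟨e⟩⟩ := exists_sk (X.isNbhd.tensor Y.isNbhd)
    exact ⟨Z, e.toAlgHom.comp Algebra.TensorProduct.includeLeft,
      e.toAlgHom.comp Algebra.TensorProduct.includeRight, trivial⟩
  cocone_maps {X Y} f g := by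
    obtain ⟨t, ht, hfg⟩ := exists_coequalizer X.isNbhd f g
    obtain ⟨Z, ⟨e⟩⟩ := exists_sk (Y.isNbhd.away t ht)
    refine ⟨Z, e.toAlgHom.comp (IsScalarTower.toAlgHom A Y.alg (Localization.Away t)), ?_⟩
    change (e.toAlgHom.comp (IsScalarTower.toAlgHom A Y.alg (Localization.Away t))).comp f
      = (e.toAlgHom.comp (IsScalarTower.toAlgHom A Y.alg (Localization.Away t))).comp g
    rw [AlgHom.comp_assoc, AlgHom.comp_assoc, hfg]

/-- The diagram of skeleton neighbourhoods. -/
noncomputable def diag : Sk A I ⥤ Under (CommRingCat.of A) where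
  obj X := Under.mk (CommRingCat.ofHom (algebraMap A X.alg))
  map {X Y} f := Under.homMk (CommRingCat.ofHom (f : X.alg →ₐ[A] Y.alg).toRingHom)
    (by ext a; exact (f : X.alg →ₐ[A] Y.alg).commutes a)
  map_id X := by ext x; rfl
  map_comp f g := by ext x; rfl

variable {B : Type u} [CommRing B] [Algebra A B]

/-- The canonical map from a skeleton neighbourhood to the henselization. -/
noncomputable def toB (hB : Hens2.IsPairHenselization A I B) (X : Sk A I) : X.alg →ₐ[A] B :=
  (existsUnique_algHom hB X.isNbhd).exists.choose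

/-- The cocone with point the henselization. -/
noncomputable def cocone (hB : Hens2.IsPairHenselization A I B) : Cocone (diag (A := A) (I := I)) where
  pt := Under.mk (CommRingCat.ofHom (algebraMap A B))
  ι :=
    { app := fun X => Under.homMk (CommRingCat.ofHom (toB hB X).toRingHom)
        (by ext a; exact (toB hB X).commutes a)
      naturality := fun X Y f => by
        have h : (toB hB Y).comp (f : X.alg →ₐ[A] Y.alg) = toB hB X :=
          algHom_ext hB X.isNbhd _ _
        ext x
        exact AlgHom.congr_fun h x }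

theorem isColimit_cocone (hB : Hens2.IsPairHenselization A I B) :
    Nonempty (IsColimit (cocone hB)) := by
  refine Groth.Agent.Lib.H15IndZariski.isColimit_under_of_elementwise _ _ ?_ ?_
  · intro b
    obtain ⟨S, _, _, hS, φ, s, hs⟩ := exists_nbhd_of_mem hB (b : B)
    obtain ⟨X, ⟨e⟩⟩ := exists_sk hS
    refine ⟨X, e s, ?_⟩
    have h : (toB hB X).comp e.toAlgHom = φ := algHom_ext hB hS _ _
    have := AlgHom.congr_fun h s
    rw [hs] at this
    exact this
  · intro X (x : X.alg) (y : X.alg) hxy
    replace hxy : toB hB X x = toB hB X y := hxy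
    have hxy' : toB hB X (x - y) = 0 := by
      rw [map_sub, sub_eq_zero]; exact hxy
    obtain ⟨t, ht, hts⟩ := exists_mul_eq_zero_of_algHom_eq_zero hB X.isNbhd (toB hB X) (x - y) hxy'
    obtain ⟨Z, ⟨e⟩⟩ := exists_sk (X.isNbhd.away t ht)
    refine ⟨Z, e.toAlgHom.comp (IsScalarTower.toAlgHom A X.alg (Localization.Away t)), ?_⟩
    have h0 : algebraMap X.alg (Localization.Away t) (x - y) = 0 := by
      have hunit : IsUnit (algebraMap X.alg (Localization.Away t) t) :=
        IsLocalization.Away.algebraMap_isUnit t
      have h2 : algebraMap X.alg (Localization.Away t) t *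
          algebraMap X.alg (Localization.Away t) (x - y) = 0 := by
        rw [← map_mul, hts, map_zero]
      exact (hunit.mul_right_eq_zero).mp h2
    rw [map_sub, sub_eq_zero] at h0
    change e (algebraMap X.alg (Localization.Away t) x) = e (algebraMap X.alg (Localization.Away t) y)
    rw [h0]

/-- A henselization of a pair is ind-étale. -/
theorem isIndEtale_of_isPairHenselization (hB : Hens2.IsPairHenselization A I B) :
    EtPBC.IsIndEtale A B := by
  obtain ⟨hc⟩ := isColimit_cocone hB
  refine ⟨Sk A I, inferInstance, inferInstance, diag, cocone hB, hc, ?_, ⟨Iso.refl _⟩⟩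
  intro X
  have heq : ((diag (A := A) (I := I)).obj X).hom.hom.toAlgebra =
      (inferInstance : Algebra A X.alg) := by
    apply Algebra.algebra_ext
    intro r
    rfl
  show @Algebra.Etale A X.alg _ _ ((diag (A := A) (I := I)).obj X).hom.hom.toAlgebra
  rw [heq]
  exact X.isNbhd.etale

/-- The henselization of a local ring is ind-étale. -/
theorem isIndEtale_of_isHenselization (R Rh : Type u) [CommRing R] [IsLocalRing R] [CommRing Rh]
    [IsLocalRing Rh] [Algebra R Rh] [IsLocalHom (algebraMap R Rh)] [Hensel.IsHenselization R Rh] :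
    EtPBC.IsIndEtale R Rh :=
  isIndEtale_of_isPairHenselization (Groth.Agent.Lib.LocalEtaleNbhd.isPairHenselization R Rh)

end Groth.Agent.Lib.HznIndEtale96
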