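import Groth.Agent.Lib.HenselStep
import Groth.Agent.Lib.MonicRelFree
import Groth.Agent.Lib.HenselizationDim
import Mathlib.FieldTheory.Separable
import Mathlib.FieldTheory.SeparableDegree
import Mathlib.RingTheory.Polynomial.Basic
import Mathlib.Algebra.Polynomial.Lifts

/-!
# Residue field extension step (helper22)

For a local ring `A` and a separable algebraic extension `Ω` of its residue field, we construct a
local `A`-algebra `SStep A Ω`, flat over `A`, whose residue field is `Ω`, with a universal property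
with respect to henselian local rings `T` under `A` together with an embedding `Ω → κ(T)`.

`SStep A Ω` is the localization of `A[X_p : p] / (F_p (X_p))` at the kernel of the evaluation to
`Ω`, where `p = (F_p, ω_p)` runs over monic polynomials together with a simple root in `Ω`.
-/

namespace Groth.Agent.Lib.SepStep

open Polynomial IsLocalRing Groth.Agent.Lib

universe u

variable (A : Type u) [CommRing A] [IsLocalRing A] (Ω : Type u) [Field Ω]
  [Algebra (ResidueField A) Ω]

/-- The composite `A → κ(A) → Ω`. -/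
noncomputable def toΩ : A →+* Ω := (algebraMap (ResidueField A) Ω).comp (residue A)

theorem toΩ_apply (a : A) : toΩ A Ω a = algebraMap (ResidueField A) Ω (residue A a) := rfl

theorem toΩ_eq_zero_iff (a : A) : toΩ A Ω a = 0 ↔ a ∈ maximalIdeal A := by
  rw [toΩ_apply, map_eq_zero, residue_eq_zero_iff]

/-- Data: a monic polynomial over `A` and a simple root of its image in `Ω`. -/
def SData : Type u :=
  { p : A[X] × Ω // p.1.Monic ∧ (p.1.map (toΩ A Ω)).IsRoot p.2 ∧
    (p.1.map (toΩ A Ω)).derivative.eval p.2 ≠ 0 }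

variable {A Ω} in
/-- The polynomial of a datum. -/
def SData.poly (p : SData A Ω) : A[X] := p.1.1

variable {A Ω} in
/-- The root of a datum. -/
def SData.pt (p : SData A Ω) : Ω := p.1.2

variable {A Ω} in
theorem SData.monic (p : SData A Ω) : p.poly.Monic := p.2.1

variable {A Ω} in
theorem SData.isRoot (p : SData A Ω) : (p.poly.map (toΩ A Ω)).IsRoot p.pt := p.2.2.1

variable {A Ω} in
theorem SData.derivative_ne_zero (p : SData A Ω) :
    (p.poly.map (toΩ A Ω)).derivative.eval p.pt ≠ 0 := p.2.2.2

variable {A Ω} in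
theorem SData.natDegree_pos (p : SData A Ω) : 0 < p.poly.natDegree := by
  by_contra h
  have h0 : p.poly.natDegree = 0 := by omega
  have h1 : p.poly = 1 := p.monic.natDegree_eq_zero.mp h0
  have h2 := p.isRoot
  rw [h1, Polynomial.map_one, IsRoot.def, eval_one] at h2
  exact one_ne_zero h2

/-- The ideal of relations `F_p (X_p) = 0`. -/
noncomputable def relIdeal : Ideal (MvPolynomial (SData A Ω) A) :=
  MonicRelFree.relI (fun p : SData A Ω => p.poly)

/-- The ring obtained by adjoining formal roots. -/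
abbrev SPre : Type u := MvPolynomial (SData A Ω) A ⧸ relIdeal A Ω

/-- Evaluation of the polynomial ring in `Ω`. -/
noncomputable def evalPoly : MvPolynomial (SData A Ω) A →+* Ω :=
  MvPolynomial.eval₂Hom (toΩ A Ω) (fun p => p.pt)

theorem evalPoly_aeval_X (p : SData A Ω) (F : A[X]) :
    evalPoly A Ω (Polynomial.aeval (MvPolynomial.X p : MvPolynomial (SData A Ω) A) F) =
      (F.map (toΩ A Ω)).eval p.pt := by
  rw [Polynomial.aeval_def, Polynomial.hom_eval₂]
  have h1 : (evalPoly A Ω).comp (algebraMap A (MvPolynomial (SData A Ω) A)) = toΩ A Ω := by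
    ext a
    simp [evalPoly, MvPolynomial.algebraMap_eq]
  have h2 : evalPoly A Ω (MvPolynomial.X p) = p.pt := by
    simp [evalPoly]
  rw [h1, h2, Polynomial.eval_map]

theorem relIdeal_le_ker : relIdeal A Ω ≤ RingHom.ker (evalPoly A Ω) := by
  rw [relIdeal, MonicRelFree.relI, Ideal.span_le]
  rintro _ ⟨p, rfl⟩
  rw [SetLike.mem_coe, RingHom.mem_ker, evalPoly_aeval_X]
  exact p.isRoot

/-- Evaluation of `SPre A Ω` in `Ω`. -/
noncomputable def evalΩ : SPre A Ω →+* Ω :=
  Ideal.Quotient.lift (relIdeal A Ω) (evalPoly A Ω) (fun _ ha => relIdeal_le_ker A Ω ha)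

theorem evalΩ_algebraMap (a : A) : evalΩ A Ω (algebraMap A (SPre A Ω) a) = toΩ A Ω a := by
  show evalΩ A Ω (Ideal.Quotient.mk _ (algebraMap A (MvPolynomial (SData A Ω) A) a)) = _
  rw [evalΩ, Ideal.Quotient.lift_mk]
  simp [evalPoly, MvPolynomial.algebraMap_eq]

theorem evalΩ_mk_X (p : SData A Ω) :
    evalΩ A Ω (Ideal.Quotient.mk _ (MvPolynomial.X p)) = p.pt := by
  rw [evalΩ, Ideal.Quotient.lift_mk]
  simp [evalPoly]

section Separable

variable [Algebra.IsSeparable (ResidueField A) Ω]

/-- Every element of `Ω` is the root of some datum. -/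
theorem exists_sdata (ω : Ω) : ∃ p : SData A Ω, p.pt = ω := by
  have hsep : (minpoly (ResidueField A) ω).Separable := Algebra.IsSeparable.isSeparable _ ω
  have hint : IsIntegral (ResidueField A) ω := Algebra.IsSeparable.isIntegral _ ω
  have hmonic : (minpoly (ResidueField A) ω).Monic := minpoly.monic hint
  have hmem : minpoly (ResidueField A) ω ∈ Polynomial.lifts (residue A) :=
    Polynomial.mem_lifts_of_surjective residue_surjective _
  obtain ⟨F, hF, -, hFm⟩ := Polynomial.lifts_and_natDegree_eq_and_monic hmem hmonic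
  have hmap : F.map (toΩ A Ω) =
      (minpoly (ResidueField A) ω).map (algebraMap (ResidueField A) Ω) := by
    rw [toΩ, ← Polynomial.map_map, hF]
  refine ⟨⟨(F, ω), hFm, ?_, ?_⟩, rfl⟩
  · show (F.map (toΩ A Ω)).IsRoot ω
    rw [hmap, IsRoot.def, Polynomial.eval_map_algebraMap, minpoly.aeval]
  · show (F.map (toΩ A Ω)).derivative.eval ω ≠ 0
    rw [hmap, Polynomial.derivative_map, Polynomial.eval_map_algebraMap]
    exact hsep.aeval_derivative_ne_zero (minpoly.aeval _ ω)

theorem evalΩ_surjective : Function.Surjective (evalΩ A Ω) := by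
  intro ω
  obtain ⟨p, rfl⟩ := exists_sdata A Ω ω
  exact ⟨_, evalΩ_mk_X A Ω p⟩

/-- The maximal ideal of `SPre A Ω` at which we localize. -/
noncomputable def sPrime : Ideal (SPre A Ω) := RingHom.ker (evalΩ A Ω)

instance sPrime_isMaximal : (sPrime A Ω).IsMaximal :=
  RingHom.ker_isMaximal_of_surjective _ (evalΩ_surjective A Ω)

instance sPrime_isPrime : (sPrime A Ω).IsPrime := (sPrime_isMaximal A Ω).isPrime

/-- The residue field extension step. -/
def SStep : Type u := Localization.AtPrime (sPrime A Ω)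

noncomputable instance : CommRing (SStep A Ω) :=
  inferInstanceAs (CommRing (Localization.AtPrime (sPrime A Ω)))

noncomputable instance : Algebra (SPre A Ω) (SStep A Ω) :=
  inferInstanceAs (Algebra (SPre A Ω) (Localization.AtPrime (sPrime A Ω)))

instance : IsLocalization.AtPrime (SStep A Ω) (sPrime A Ω) :=
  inferInstanceAs (IsLocalization.AtPrime (Localization.AtPrime (sPrime A Ω)) (sPrime A Ω))

noncomputable instance : Algebra A (SStep A Ω) :=
  inferInstanceAs (Algebra A (Localization.AtPrime (sPrime A Ω)))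

instance : IsScalarTower A (SPre A Ω) (SStep A Ω) :=
  inferInstanceAs (IsScalarTower A (SPre A Ω) (Localization.AtPrime (sPrime A Ω)))

instance : IsLocalRing (SStep A Ω) :=
  inferInstanceAs (IsLocalRing (Localization.AtPrime (sPrime A Ω)))

theorem algebraMap_sStep_apply (a : A) :
    algebraMap A (SStep A Ω) a = algebraMap (SPre A Ω) (SStep A Ω) (algebraMap A (SPre A Ω) a) :=
  IsScalarTower.algebraMap_apply A (SPre A Ω) (SStep A Ω) a

theorem isUnit_evalΩ (s : (sPrime A Ω).primeCompl) : IsUnit (evalΩ A Ω s) :=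
  isUnit_iff_ne_zero.mpr fun h => s.2 h

/-- The evaluation map `SStep A Ω → Ω`. -/
noncomputable def rho : SStep A Ω →+* Ω :=
  IsLocalization.lift (M := (sPrime A Ω).primeCompl) (isUnit_evalΩ A Ω)

theorem rho_algebraMapPre (x : SPre A Ω) :
    rho A Ω (algebraMap (SPre A Ω) (SStep A Ω) x) = evalΩ A Ω x :=
  IsLocalization.lift_eq _ x

theorem rho_algebraMap (a : A) : rho A Ω (algebraMap A (SStep A Ω) a) = toΩ A Ω a := by
  rw [algebraMap_sStep_apply, rho_algebraMapPre, evalΩ_algebraMap]

theorem rho_surjective : Function.Surjective (rho A Ω) := by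
  intro ω
  obtain ⟨x, rfl⟩ := evalΩ_surjective A Ω ω
  exact ⟨_, rho_algebraMapPre A Ω x⟩

theorem rho_eq_zero_iff (x : SStep A Ω) : rho A Ω x = 0 ↔ x ∈ maximalIdeal (SStep A Ω) := by
  obtain ⟨b, s, rfl⟩ := IsLocalization.exists_mk'_eq (sPrime A Ω).primeCompl x
  rw [IsLocalization.AtPrime.mk'_mem_maximal_iff (SStep A Ω) (sPrime A Ω), rho,
    IsLocalization.lift_mk', Units.mul_left_eq_zero]
  rfl

instance isLocalHom_rho : IsLocalHom (rho A Ω) := by
  refine ⟨fun x hx => ?_⟩
  by_contra hcon
  have hmem : x ∈ maximalIdeal (SStep A Ω) := hcon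
  rw [← rho_eq_zero_iff] at hmem
  rw [hmem] at hx
  exact not_isUnit_zero hx

instance isLocalHom_algebraMap_sStep : IsLocalHom (algebraMap A (SStep A Ω)) := by
  refine ⟨fun a ha => ?_⟩
  by_contra hcon
  have hmem : a ∈ maximalIdeal A := hcon
  rw [← toΩ_eq_zero_iff A Ω, ← rho_algebraMap] at hmem
  have := (rho_eq_zero_iff A Ω _).mp hmem
  exact this ha

/-- The residue field of `SStep A Ω` is `Ω`. -/
noncomputable def resEquiv : ResidueField (SStep A Ω) ≃+* Ω :=
  RingEquiv.ofBijective
    (Ideal.Quotient.lift (maximalIdeal (SStep A Ω)) (rho A Ω)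
      (fun x hx => (rho_eq_zero_iff A Ω x).mpr hx))
    ⟨RingHom.injective _, fun ω => by
      obtain ⟨x, rfl⟩ := rho_surjective A Ω ω
      exact ⟨residue _ x, rfl⟩⟩

theorem resEquiv_residue (x : SStep A Ω) : resEquiv A Ω (residue _ x) = rho A Ω x := rfl

theorem resEquiv_map (x : ResidueField A) :
    resEquiv A Ω (ResidueField.map (algebraMap A (SStep A Ω)) x) =
      algebraMap (ResidueField A) Ω x := by
  obtain ⟨a, rfl⟩ := residue_surjective x
  rw [ResidueField.map_residue, resEquiv_residue, rho_algebraMap]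
  rfl

/-- The adjoined root of a datum. -/
noncomputable def root (p : SData A Ω) : SStep A Ω :=
  algebraMap (SPre A Ω) (SStep A Ω) (Ideal.Quotient.mk _ (MvPolynomial.X p))

theorem rho_root (p : SData A Ω) : rho A Ω (root A Ω p) = p.pt := by
  rw [root, rho_algebraMapPre, evalΩ_mk_X]

omit [Algebra.IsSeparable (ResidueField A) Ω] in
theorem aeval_mk_X (p : SData A Ω) :
    Polynomial.aeval (Ideal.Quotient.mk (relIdeal A Ω) (MvPolynomial.X p)) p.poly = 0 := by
  have h1 : Polynomial.aeval (MvPolynomial.X p : MvPolynomial (SData A Ω) A) p.poly ∈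
      relIdeal A Ω := Ideal.subset_span ⟨p, rfl⟩
  have h2 := Ideal.Quotient.eq_zero_iff_mem.mpr h1
  have h3 : Polynomial.aeval (Ideal.Quotient.mk (relIdeal A Ω) (MvPolynomial.X p)) p.poly =
      Ideal.Quotient.mk (relIdeal A Ω)
        (Polynomial.aeval (MvPolynomial.X p : MvPolynomial (SData A Ω) A) p.poly) :=
    (Polynomial.aeval_algHom_apply (Ideal.Quotient.mkₐ A (relIdeal A Ω)) _ _)
  rw [h3, h2]

theorem aeval_root (p : SData A Ω) : Polynomial.aeval (root A Ω p) p.poly = 0 := by
  have h := Polynomial.aeval_algHom_apply (IsScalarTower.toAlgHom A (SPre A Ω) (SStep A Ω))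
    (Ideal.Quotient.mk (relIdeal A Ω) (MvPolynomial.X p)) p.poly
  rw [aeval_mk_X, map_zero] at h
  exact h

theorem isRoot_root (p : SData A Ω) :
    (p.poly.map (algebraMap A (SStep A Ω))).IsRoot (root A Ω p) := by
  rw [IsRoot.def, Polynomial.eval_map_algebraMap]
  exact aeval_root A Ω p

end Separable


section Lift

variable {A Ω}
variable {T : Type*} [CommRing T] [HenselianLocalRing T] (φ : A →+* T)
  (τ : Ω →+* ResidueField T) (hτ : τ.comp (toΩ A Ω) = (residue T).comp φ)

include hτ in
/-- Compatibility of evaluation with residues. -/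
theorem residue_eval_map (G : A[X]) (a₀ : T) (ω : Ω) (h : residue T a₀ = τ ω) :
    residue T ((G.map φ).eval a₀) = τ ((G.map (toΩ A Ω)).eval ω) := by
  rw [Polynomial.eval_map, Polynomial.eval_map, Polynomial.hom_eval₂, Polynomial.hom_eval₂, h, hτ]

include hτ in
theorem exists_rootIn (p : SData A Ω) :
    ∃ b : T, (p.poly.map φ).IsRoot b ∧ residue T b = τ p.pt := by
  obtain ⟨a₀, ha₀⟩ := residue_surjective (τ p.pt)
  have h1 : (p.poly.map φ).eval a₀ ∈ maximalIdeal T := by
    rw [← residue_eq_zero_iff, residue_eval_map φ τ hτ p.poly a₀ p.pt ha₀, p.isRoot, map_zero]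
  have h2 : IsUnit ((p.poly.map φ).derivative.eval a₀) := by
    rw [← residue_ne_zero_iff_isUnit, Polynomial.derivative_map,
      residue_eval_map φ τ hτ p.poly.derivative a₀ p.pt ha₀, ← Polynomial.derivative_map]
    exact (map_ne_zero τ).mpr p.derivative_ne_zero
  obtain ⟨b, hb, hb'⟩ := HenselianLocalRing.is_henselian (p.poly.map φ) (p.monic.map φ) a₀ h1 h2
  refine ⟨b, hb, ?_⟩
  rw [← ha₀, ← sub_eq_zero, ← map_sub, residue_eq_zero_iff]
  exact hb'

/-- The chosen root in `T`. -/
noncomputable def rootIn (p : SData A Ω) : T := (exists_rootIn φ τ hτ p).choose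

theorem rootIn_isRoot (p : SData A Ω) : (p.poly.map φ).IsRoot (rootIn φ τ hτ p) :=
  (exists_rootIn φ τ hτ p).choose_spec.1

theorem residue_rootIn (p : SData A Ω) : residue T (rootIn φ τ hτ p) = τ p.pt :=
  (exists_rootIn φ τ hτ p).choose_spec.2

include hτ in
theorem isUnit_derivative_of_residue (p : SData A Ω) (b : T) (hb : residue T b = τ p.pt) :
    IsUnit ((p.poly.map φ).derivative.eval b) := by
  rw [← residue_ne_zero_iff_isUnit, Polynomial.derivative_map,
    residue_eval_map φ τ hτ p.poly.derivative b p.pt hb, ← Polynomial.derivative_map]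
  exact (map_ne_zero τ).mpr p.derivative_ne_zero

theorem isUnit_derivative_rootIn (p : SData A Ω) :
    IsUnit ((p.poly.map φ).derivative.eval (rootIn φ τ hτ p)) :=
  isUnit_derivative_of_residue φ τ hτ p _ (residue_rootIn φ τ hτ p)

/-- The map from the polynomial ring to `T`. -/
noncomputable def liftPoly : MvPolynomial (SData A Ω) A →+* T :=
  MvPolynomial.eval₂Hom φ (rootIn φ τ hτ)

theorem relIdeal_le_ker_liftPoly : relIdeal A Ω ≤ RingHom.ker (liftPoly φ τ hτ) := by
  rw [relIdeal, MonicRelFree.relI, Ideal.span_le]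
  rintro _ ⟨p, rfl⟩
  show liftPoly φ τ hτ
    (Polynomial.aeval (MvPolynomial.X p : MvPolynomial (SData A Ω) A) p.poly) = 0
  rw [Polynomial.aeval_def, Polynomial.hom_eval₂]
  have h1 : (liftPoly φ τ hτ).comp (algebraMap A (MvPolynomial (SData A Ω) A)) = φ := by
    ext a
    simp [liftPoly, MvPolynomial.algebraMap_eq]
  have h2 : liftPoly φ τ hτ (MvPolynomial.X p) = rootIn φ τ hτ p := by
    simp [liftPoly]
  rw [h1, h2, ← Polynomial.eval_map]
  exact rootIn_isRoot φ τ hτ p

/-- The map from `SPre A Ω` to `T`. -/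
noncomputable def liftPre : SPre A Ω →+* T :=
  Ideal.Quotient.lift (relIdeal A Ω) (liftPoly φ τ hτ)
    (fun _ ha => relIdeal_le_ker_liftPoly φ τ hτ ha)

theorem liftPre_algebraMap (a : A) : liftPre φ τ hτ (algebraMap A (SPre A Ω) a) = φ a := by
  show liftPre φ τ hτ (Ideal.Quotient.mk _ (algebraMap A (MvPolynomial (SData A Ω) A) a)) = _
  rw [liftPre, Ideal.Quotient.lift_mk]
  simp [liftPoly, MvPolynomial.algebraMap_eq]

theorem liftPre_mk_X (p : SData A Ω) :
    liftPre φ τ hτ (Ideal.Quotient.mk _ (MvPolynomial.X p)) = rootIn φ τ hτ p := by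
  rw [liftPre, Ideal.Quotient.lift_mk]
  simp [liftPoly]

theorem residue_comp_liftPre :
    (residue T).comp (liftPre φ τ hτ) = τ.comp (evalΩ A Ω) := by
  apply Ideal.Quotient.ringHom_ext
  apply MvPolynomial.ringHom_ext
  · intro a
    show residue T (liftPre φ τ hτ (Ideal.Quotient.mk _ (MvPolynomial.C a))) =
      τ (evalΩ A Ω (Ideal.Quotient.mk _ (MvPolynomial.C a)))
    have h1 : (Ideal.Quotient.mk (relIdeal A Ω) (MvPolynomial.C a)) =
      algebraMap A (SPre A Ω) a := rfl
    rw [h1, liftPre_algebraMap, evalΩ_algebraMap]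
    exact (congrArg (fun k => k a) hτ).symm
  · intro p
    show residue T (liftPre φ τ hτ (Ideal.Quotient.mk _ (MvPolynomial.X p))) =
      τ (evalΩ A Ω (Ideal.Quotient.mk _ (MvPolynomial.X p)))
    rw [liftPre_mk_X, evalΩ_mk_X, residue_rootIn]

variable [Algebra.IsSeparable (ResidueField A) Ω]

theorem isUnit_liftPre (s : (sPrime A Ω).primeCompl) : IsUnit (liftPre φ τ hτ s) := by
  rw [← residue_ne_zero_iff_isUnit]
  have h := congrArg (fun k => k (s : SPre A Ω)) (residue_comp_liftPre φ τ hτ)
  simp only [RingHom.comp_apply] at h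
  rw [h]
  intro h0
  have h1 : evalΩ A Ω s = 0 := (map_eq_zero _).mp h0
  exact s.2 h1

/-- The canonical map `SStep A Ω → T`. -/
noncomputable def lift : SStep A Ω →+* T :=
  IsLocalization.lift (M := (sPrime A Ω).primeCompl) (isUnit_liftPre φ τ hτ)

theorem lift_algebraMapPre (x : SPre A Ω) :
    lift φ τ hτ (algebraMap (SPre A Ω) (SStep A Ω) x) = liftPre φ τ hτ x :=
  IsLocalization.lift_eq _ x

theorem lift_comp_algebraMap : (lift φ τ hτ).comp (algebraMap A (SStep A Ω)) = φ := by
  ext a
  rw [RingHom.comp_apply, algebraMap_sStep_apply, lift_algebraMapPre, liftPre_algebraMap]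

theorem lift_root (p : SData A Ω) : lift φ τ hτ (root A Ω p) = rootIn φ τ hτ p := by
  rw [root, lift_algebraMapPre, liftPre_mk_X]

theorem residue_comp_lift : (residue T).comp (lift φ τ hτ) = τ.comp (rho A Ω) := by
  apply IsLocalization.ringHom_ext (sPrime A Ω).primeCompl
  refine RingHom.ext fun x => ?_
  simp only [RingHom.comp_apply]
  rw [lift_algebraMapPre, rho_algebraMapPre]
  exact congrArg (fun k => k x) (residue_comp_liftPre φ τ hτ)

theorem residue_lift (x : SStep A Ω) : residue T (lift φ τ hτ x) = τ (rho A Ω x) :=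
  congrArg (fun k => k x) (residue_comp_lift φ τ hτ)

/-- Uniqueness of the lift. -/
theorem lift_unique (ψ : SStep A Ω →+* T) (hψ : ψ.comp (algebraMap A (SStep A Ω)) = φ)
    (hψ' : ∀ x, residue T (ψ x) = τ (rho A Ω x)) : ψ = lift φ τ hτ := by
  have hψa : ∀ a, ψ (algebraMap A (SStep A Ω) a) = φ a := fun a => congrArg (fun k => k a) hψ
  apply IsLocalization.ringHom_ext (sPrime A Ω).primeCompl
  apply Ideal.Quotient.ringHom_ext
  apply MvPolynomial.ringHom_ext
  · intro a
    show ψ (algebraMap (SPre A Ω) (SStep A Ω) (algebraMap A (SPre A Ω) a)) =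
      lift φ τ hτ (algebraMap (SPre A Ω) (SStep A Ω) (algebraMap A (SPre A Ω) a))
    rw [← algebraMap_sStep_apply, hψa, algebraMap_sStep_apply, lift_algebraMapPre,
      liftPre_algebraMap]
  · intro p
    show ψ (root A Ω p) = lift φ τ hτ (root A Ω p)
    rw [lift_root]
    apply HenselStep.root_unique (p.poly.map φ) (rootIn_isRoot φ τ hτ p) ?_
      (isUnit_derivative_rootIn φ τ hτ p) ?_
    · have h := isRoot_root A Ω p
      rw [IsRoot.def] at h ⊢
      have h2 := congrArg ψ h
      rw [map_zero, Polynomial.eval_map, Polynomial.hom_eval₂, hψ] at h2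
      rw [Polynomial.eval_map]
      exact h2
    · rw [← residue_eq_zero_iff, map_sub, hψ', rho_root, residue_rootIn, sub_self]

instance isLocalHom_lift : IsLocalHom (lift φ τ hτ) := by
  refine ⟨fun x hx => ?_⟩
  have h1 : residue T (lift φ τ hτ x) ≠ 0 := (residue_ne_zero_iff_isUnit _).mpr hx
  rw [residue_lift] at h1
  have h2 : rho A Ω x ≠ 0 := fun h => h1 (by rw [h, map_zero])
  by_contra hcon
  exact h2 ((rho_eq_zero_iff A Ω x).mpr hcon)

end Lift

section Props

variable [Algebra.IsSeparable (ResidueField A) Ω]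

instance flat_sPre : Module.Flat A (SPre A Ω) :=
  MonicRelFree.flat_quotient (fun p : SData A Ω => p.poly) (fun p => p.monic)
    (fun p => p.natDegree_pos)

instance flat_sStep : Module.Flat A (SStep A Ω) :=
  have : Module.Flat (SPre A Ω) (SStep A Ω) :=
    IsLocalization.flat (SStep A Ω) (sPrime A Ω).primeCompl
  Module.Flat.trans A (SPre A Ω) (SStep A Ω)

instance faithfullyFlat_sStep : Module.FaithfullyFlat A (SStep A Ω) :=
  Module.FaithfullyFlat.of_flat_of_isLocalHom

omit [Algebra.IsSeparable (ResidueField A) Ω] in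
instance isIntegral_sPre : Algebra.IsIntegral A (SPre A Ω) := by
  have hX : ∀ p : SData A Ω,
      IsIntegral A (Ideal.Quotient.mk (relIdeal A Ω) (MvPolynomial.X p)) := by
    intro p
    refine ⟨p.poly, p.monic, ?_⟩
    rw [← Polynomial.aeval_def]
    exact aeval_mk_X A Ω p
  refine ⟨fun x => ?_⟩
  obtain ⟨f, rfl⟩ := Ideal.Quotient.mk_surjective x
  induction f using MvPolynomial.induction_on with
  | C a => exact isIntegral_algebraMap (R := A) (A := SPre A Ω) (x := a)
  | add f g hf hg => rw [map_add]; exact hf.add hg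
  | mul_X f p hf => rw [map_mul]; exact hf.mul (hX p)

theorem strictComap_sStep :
    HenselizationDim.StrictComap (algebraMap A (SStep A Ω)) := by
  have h1 : HenselizationDim.StrictComap (algebraMap A (SPre A Ω)) :=
    HenselizationDim.StrictComap.of_isIntegral A (SPre A Ω)
  have h2 : HenselizationDim.StrictComap (algebraMap (SPre A Ω) (SStep A Ω)) :=
    HenselizationDim.StrictComap.of_isLocalization (sPrime A Ω).primeCompl (SStep A Ω)
  have h3 := h1.comp h2
  rwa [← IsScalarTower.algebraMap_eq A (SPre A Ω) (SStep A Ω)] at h3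

end Props

end Groth.Agent.Lib.SepStep
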