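import Groth.Agent.Lib.IdealExt68
import Groth.Agent.Lib.RelCartier
import Groth.Prelude.Def_BlowUp2

/-!
# Colon ideal sheaves and division of effective Cartier divisors (helper68)

* `map_colon_of_fg`: localization commutes with the colon by a finitely generated ideal.
* `colon I E hE`: the ideal sheaf `(I : E)` for `E` of finite type.
* `isFiniteTypeIdeal_of_isEffCartier`.
* `exists_basicOpen_forall_principal`: simultaneous local principal generators on a basic open.
* `exists_mul_eq_of_le`: if `𝓐 ≤ 𝓑` are effective Cartier then `𝓐 = 𝓒 * 𝓑` with `𝓒 = (𝓐 : 𝓑)` effective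
  Cartier.
-/

set_option autoImplicit false
universe u
open CategoryTheory CategoryTheory.Limits AlgebraicGeometry TopologicalSpace

namespace Groth.Agent.Lib.IdealColon68

/-- Localization commutes with the colon by a finitely generated ideal. -/
theorem map_colon_of_fg {R S : Type*} [CommRing R] [CommRing S] [Algebra R S] (M : Submonoid R)
    [IsLocalization M S] (I E : Ideal R) (hE : E.FG) :
    (I.colon (E : Set R)).map (algebraMap R S) =
      (I.map (algebraMap R S)).colon ((E.map (algebraMap R S) : Ideal S) : Set S) := by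
  classical
  have hrhs : (I.map (algebraMap R S)).colon ((E.map (algebraMap R S) : Ideal S) : Set S) =
      (I.map (algebraMap R S)).colon ((algebraMap R S) '' (E : Set R)) := by
    change (I.map (algebraMap R S)).colon ((Ideal.span ((algebraMap R S) '' (E : Set R)) :
      Ideal S) : Set S) = _
    exact Ideal.colon_span
  rw [hrhs]
  apply le_antisymm
  · rw [Ideal.map_le_iff_le_comap]
    intro r hr
    rw [Ideal.mem_comap, Submodule.mem_colon]
    rintro _ ⟨e, he, rfl⟩
    rw [smul_eq_mul, ← map_mul]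
    exact Ideal.mem_map_of_mem _ (Submodule.mem_colon.1 hr e he)
  · intro s hs
    obtain ⟨r, m, rfl⟩ := IsLocalization.exists_mk'_eq M s
    rw [IsLocalization.mk'_mem_map_algebraMap_iff M]
    have hr : algebraMap R S r ∈ (I.map (algebraMap R S)).colon ((algebraMap R S) '' (E : Set R)) := by
      rw [← IsLocalization.mk'_spec S r m]
      exact Ideal.mul_mem_right _ _ hs
    obtain ⟨T, rfl⟩ := hE
    have hc : ∀ e ∈ T, ∃ c ∈ M, c * (r * e) ∈ I := by
      intro e he
      have h1 := Submodule.mem_colon.1 hr (algebraMap R S e)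
        ⟨e, Submodule.subset_span he, rfl⟩
      rw [smul_eq_mul, ← map_mul] at h1
      exact (IsLocalization.algebraMap_mem_map_algebraMap_iff M S I _).1 h1
    choose! c hcM hcI using hc
    refine ⟨∏ e ∈ T, c e, Submonoid.prod_mem M fun e he => hcM e he, ?_⟩
    have h2 : (∏ e ∈ T, c e) * r ∈ I.colon (T : Set R) := by
      rw [Submodule.mem_colon]
      intro e he
      have he' : e ∈ T := he
      rw [smul_eq_mul, ← Finset.mul_prod_erase T c he']
      have : (c e * ∏ x ∈ T.erase e, c x) * r * e = (∏ x ∈ T.erase e, c x) * (c e * (r * e)) := by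
        ring
      rw [this]
      exact I.mul_mem_left _ (hcI e he')
    have h3 : I.colon ((Ideal.span (T : Set R) : Ideal R) : Set R) = I.colon (T : Set R) :=
      Ideal.colon_span
    rw [h3]
    exact h2

variable {X : Scheme.{u}}

/-- The colon ideal sheaf `(I : E)` for `E` of finite type. -/
noncomputable def colon (I E : X.IdealSheafData) (hE : BlowUp.IsFiniteTypeIdeal E) :
    X.IdealSheafData where
  ideal U := (I.ideal U).colon (E.ideal U : Set Γ(X, U.1))
  map_ideal_basicOpen U f := by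
    have hloc : IsLocalization.Away f Γ(X, X.basicOpen f) := U.2.isLocalization_basicOpen f
    rw [← I.map_ideal_basicOpen U f, ← E.map_ideal_basicOpen U f]
    exact map_colon_of_fg (Submonoid.powers f) (I.ideal U) (E.ideal U) (hE U)

theorem ideal_colon (I E : X.IdealSheafData) (hE : BlowUp.IsFiniteTypeIdeal E) (U : X.affineOpens) :
    (colon I E hE).ideal U = (I.ideal U).colon (E.ideal U : Set Γ(X, U.1)) := rfl

/-- Simultaneous principal generators of finitely many effective Cartier ideals on a basic open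
neighbourhood inside a given affine open. -/
theorem exists_basicOpen_forall_principal {ι : Type*} [Finite ι] (E : ι → X.IdealSheafData)
    (hE : ∀ i, BlowUp.IsEffCartierIdeal (E i)) (U : X.affineOpens) (x : X) (hx : x ∈ U.1) :
    ∃ f : Γ(X, U.1), x ∈ X.basicOpen f ∧ ∀ i, ∃ e : Γ(X, (X.affineBasicOpen f).1),
      e ∈ nonZeroDivisors Γ(X, (X.affineBasicOpen f).1) ∧
        (E i).ideal (X.affineBasicOpen f) = Ideal.span {e} := by
  choose W hxW e he hEe using fun i => hE i x
  have hopen : IsOpen (⋂ i, ((W i).1 : Set X)) := isOpen_iInter_of_finite fun i => (W i).1.2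
  obtain ⟨f, hfV, hxf⟩ := U.2.exists_basicOpen_le
    (V := ⟨⋂ i, ((W i).1 : Set X), hopen⟩) ⟨x, Set.mem_iInter.2 hxW⟩ hx
  refine ⟨f, hxf, fun i => ?_⟩
  have hle : X.affineBasicOpen f ≤ W i := fun z hz => Set.mem_iInter.1 (hfV hz) i
  obtain ⟨h1, h2⟩ := Groth.Agent.Lib.RelCartier.cartier_restrict (E i) hle (e i) (he i) (hEe i)
  exact ⟨_, h1, h2⟩

/-- An effective Cartier ideal is of finite type. -/
theorem isFiniteTypeIdeal_of_isEffCartier (E : X.IdealSheafData) (hE : BlowUp.IsEffCartierIdeal E) :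
    BlowUp.IsFiniteTypeIdeal E := by
  intro U
  apply Groth.Agent.Lib.IdealExt68.fg_of_forall_exists_basicOpen
  intro x hx
  obtain ⟨f, hxf, h⟩ := exists_basicOpen_forall_principal (fun _ : Unit => E) (fun _ => hE) U x hx
  obtain ⟨e, -, he⟩ := h ()
  exact ⟨f, hxf, he ▸ ⟨{e}, by simp⟩⟩

/-- `((c * b) : (b)) = (c)` for a nonzerodivisor `b`. -/
theorem colon_span_singleton_mul {R : Type*} [CommRing R] (b c : R) (hb : b ∈ nonZeroDivisors R) :
    (Ideal.span {c * b}).colon ((Ideal.span {b} : Ideal R) : Set R) = Ideal.span {c} := by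
  ext r
  rw [Ideal.mem_colon_span_singleton, Ideal.mem_span_singleton', Ideal.mem_span_singleton']
  constructor
  · rintro ⟨t, ht⟩
    refine ⟨t, ?_⟩
    have : (t * c - r) * b = 0 := by rw [sub_mul, mul_assoc, ht, sub_self]
    exact sub_eq_zero.1 (mem_nonZeroDivisors_iff_right.1 hb _ this)
  · rintro ⟨t, rfl⟩
    exact ⟨t, by ring⟩

/-- Two ideal sheaves agreeing on a basic open neighbourhood of every point of every affine open
are equal. -/
theorem eq_of_forall_exists_basicOpen (I J : X.IdealSheafData)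
    (h : ∀ (U : X.affineOpens) (x : X), x ∈ U.1 → ∃ f : Γ(X, U.1), x ∈ X.basicOpen f ∧
      I.ideal (X.affineBasicOpen f) = J.ideal (X.affineBasicOpen f)) : I = J := by
  apply le_antisymm
  · intro U
    apply Groth.Agent.Lib.IdealExt68.ideal_le_of_forall_exists_basicOpen
    intro x hx
    obtain ⟨f, hxf, hf⟩ := h U x hx
    exact ⟨f, hxf, hf.le⟩
  · intro U
    apply Groth.Agent.Lib.IdealExt68.ideal_le_of_forall_exists_basicOpen
    intro x hx
    obtain ⟨f, hxf, hf⟩ := h U x hx
    exact ⟨f, hxf, hf.ge⟩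

/-- Local form of the colon of two principal ideals `(a) ≤ (b)`, `b` a nonzerodivisor. -/
theorem exists_colon_eq_span {R : Type*} [CommRing R] (a b : R) (ha : a ∈ nonZeroDivisors R)
    (hb : b ∈ nonZeroDivisors R) (hle : Ideal.span {a} ≤ Ideal.span {b}) :
    ∃ c : R, c ∈ nonZeroDivisors R ∧ a = c * b ∧
      (Ideal.span {a}).colon ((Ideal.span {b} : Ideal R) : Set R) = Ideal.span {c} := by
  obtain ⟨c, hc⟩ := Ideal.mem_span_singleton'.1 (hle (Ideal.mem_span_singleton_self a))
  refine ⟨c, ?_, hc.symm, ?_⟩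
  · have : c * b ∈ nonZeroDivisors R := hc ▸ ha
    exact (mul_mem_nonZeroDivisors.1 this).1
  · rw [← hc]
    exact colon_span_singleton_mul b c hb

/-- **Division of effective Cartier divisors.** If `𝓐 ≤ 𝓑` are effective Cartier ideals, the colon
`(𝓐 : 𝓑)` is effective Cartier and `𝓐 = (𝓐 : 𝓑) * 𝓑`. -/
theorem exists_mul_eq_of_le (𝓐 𝓑 : X.IdealSheafData) (hA : BlowUp.IsEffCartierIdeal 𝓐)
    (hB : BlowUp.IsEffCartierIdeal 𝓑) (hle : 𝓐 ≤ 𝓑) :
    BlowUp.IsEffCartierIdeal (colon 𝓐 𝓑 (isFiniteTypeIdeal_of_isEffCartier 𝓑 hB)) ∧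
      𝓐 = colon 𝓐 𝓑 (isFiniteTypeIdeal_of_isEffCartier 𝓑 hB) * 𝓑 := by
  have key : ∀ (U : X.affineOpens) (x : X), x ∈ U.1 → ∃ f : Γ(X, U.1), x ∈ X.basicOpen f ∧
      ∃ b c : Γ(X, (X.affineBasicOpen f).1), c ∈ nonZeroDivisors Γ(X, (X.affineBasicOpen f).1) ∧
        𝓑.ideal (X.affineBasicOpen f) = Ideal.span {b} ∧
        𝓐.ideal (X.affineBasicOpen f) = Ideal.span {c * b} ∧
        (colon 𝓐 𝓑 (isFiniteTypeIdeal_of_isEffCartier 𝓑 hB)).ideal (X.affineBasicOpen f) =
          Ideal.span {c} := by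
    intro U x hx
    obtain ⟨f, hxf, h⟩ := exists_basicOpen_forall_principal (fun i : Bool => if i then 𝓐 else 𝓑)
      (fun i => by cases i <;> simpa) U x hx
    obtain ⟨a, ha, hAa⟩ := h true
    obtain ⟨b, hb, hBb⟩ := h false
    simp only [if_true] at hAa
    simp only [Bool.false_eq_true, if_false] at hBb
    have hle' : Ideal.span {a} ≤ Ideal.span {b} := hAa ▸ hBb ▸ hle (X.affineBasicOpen f)
    obtain ⟨c, hc, hac, hcol⟩ := exists_colon_eq_span a b ha hb hle'
    refine ⟨f, hxf, b, c, hc, hBb, hac ▸ hAa, ?_⟩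
    rw [ideal_colon, hAa, hBb]
    exact hcol
  constructor
  · intro x
    obtain ⟨_, ⟨U, hU, rfl⟩, hxU, -⟩ :=
      X.isBasis_affineOpens.exists_subset_of_mem_open (Set.mem_univ x) isOpen_univ
    obtain ⟨f, hxf, b, c, hc, -, -, hcol⟩ := key ⟨U, hU⟩ x hxU
    exact ⟨X.affineBasicOpen f, hxf, c, hc, hcol⟩
  · apply eq_of_forall_exists_basicOpen
    intro U x hx
    obtain ⟨f, hxf, b, c, hc, hBb, hAa, hcol⟩ := key U x hx
    refine ⟨f, hxf, ?_⟩
    rw [Scheme.IdealSheafData.ideal_mul, Pi.mul_apply, hcol, hBb, hAa,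
      Ideal.span_singleton_mul_span_singleton]

end Groth.Agent.Lib.IdealColon68
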