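import Mathlib
import Groth.Agent.S0591
import Groth.Agent.Lib.LimDescentClosedImm
import Groth.Agent.Lib.H69ClosedLfp

/-!
# Descent of finite type ideal sheaves along cofiltered limits (helper62)

* `comap_ker_eq_of_isPullback`: for a pullback square with `h` a closed immersion, the kernel of the
  base change of `h` along `q` is `h.ker.comap q`.
* `exists_idealSheaf_fg_descend`: a finite type quasi-coherent ideal on `lim S_i` (all `S_i` qcqs,
  affine transition maps) is the pullback of a finite type quasi-coherent ideal on some `S_i`.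
-/

set_option autoImplicit false
set_option linter.style.haveILetI false
universe u
open CategoryTheory CategoryTheory.Limits AlgebraicGeometry TopologicalSpace Opposite

namespace Groth.Agent.Lib.IdealLimDesc62

open Groth.Agent.Lib.LimDescent Groth.Agent.Lib.LimPullback

theorem comap_le_ker_iff {X S : Scheme.{u}} (K : S.IdealSheafData) (f : X ⟶ S) :
    K ≤ f.ker ↔ K.comap f = ⊥ := by
  rw [eq_bot_iff, ← Scheme.IdealSheafData.le_map_iff_comap_le, Scheme.IdealSheafData.map_bot]

/-- The kernel of a base change of a closed immersion is the pullback of the kernel. -/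
theorem comap_ker_eq_of_isPullback {X X' S S' : Scheme.{u}} {p : X ⟶ X'} {f : X ⟶ S}
    {h : X' ⟶ S'} {q : S ⟶ S'} (sq : IsPullback p f h q) [IsClosedImmersion h] :
    h.ker.comap q = f.ker := by
  apply le_antisymm
  · rw [comap_le_ker_iff, ← Scheme.IdealSheafData.comap_comp, ← sq.w,
      Scheme.IdealSheafData.comap_comp, (comap_le_ker_iff h.ker h).1 le_rfl,
      Scheme.IdealSheafData.comap_bot]
  · set K₁ := h.ker.comap q with hK₁
    have h1 : h.ker ≤ (K₁.subschemeι ≫ q).ker := by
      rw [comap_le_ker_iff, Scheme.IdealSheafData.comap_comp, ← hK₁, ← comap_le_ker_iff,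
        Scheme.IdealSheafData.ker_subschemeι]
    obtain ⟨u, -, hu⟩ := sq.exists_lift (IsClosedImmersion.lift h (K₁.subschemeι ≫ q) h1)
      K₁.subschemeι (IsClosedImmersion.lift_fac _ _ _)
    calc f.ker ≤ (u ≫ f).ker := Scheme.Hom.le_ker_comp _ _
      _ = K₁ := by rw [hu, Scheme.IdealSheafData.ker_subschemeι]

variable {I : Type u} [SmallCategory I] [IsCofiltered I] (D : I ⥤ Scheme.{u}) (c : Cone D)
  (hc : IsLimit c) [∀ (i j : I) (f : i ⟶ j), IsAffineHom (D.map f)]
  [∀ i, CompactSpace (D.obj i)] [∀ i, QuasiSeparatedSpace (D.obj i)]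

include hc in
theorem exists_idealSheaf_fg_descend (J : c.pt.IdealSheafData)
    (hJ : ∀ U : c.pt.affineOpens, (J.ideal U).FG) :
    ∃ (i : I) (Ji : (D.obj i).IdealSheafData), (∀ U : (D.obj i).affineOpens, (Ji.ideal U).FG) ∧
      Ji.comap (c.π.app i) = J := by
  haveI : ∀ {i j : I} (f : i ⟶ j), IsAffineHom (D.map f) := fun f => inferInstance
  haveI : LocallyOfFinitePresentation J.subschemeι := by
    rw [Groth.Agent.Lib.H69ClosedLfp.lfp_iff_ker_fg, Scheme.IdealSheafData.ker_subschemeι]
    exact hJ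
  obtain ⟨i, Xi, fi, g, h1, h2, h3, hpb⟩ :=
    Groth.Agent.S0591.result D c hc J.subscheme J.subschemeι
  haveI := h1; haveI := h2; haveI := h3
  have hY : IsPullback (c.π.app i) (𝟙 c.pt) (𝟙 (D.obj i)) (c.π.app i) :=
    IsPullback.id_vert _
  have hlim : IsClosedImmersion (bcMap fi (𝟙 (D.obj i)) (c.π.app i)) :=
    limMap_of D c @IsClosedImmersion fi (𝟙 _) J.subschemeι (𝟙 c.pt) (c.π.app i) g hY hpb
      inferInstance
  obtain ⟨j, hj⟩ := exists_isClosedImmersion_stage D c hc fi (𝟙 _) hlim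
  -- the closed immersion at stage `j`
  have hsnd : pullback.snd (fi ≫ 𝟙 (D.obj i)) (D.map j.hom) =
      bcMap fi (𝟙 (D.obj i)) (D.map j.hom) ≫ pullback.snd (𝟙 (D.obj i)) (D.map j.hom) :=
    (bcMap_snd _ _ _).symm
  haveI : IsClosedImmersion (pullback.snd (fi ≫ 𝟙 (D.obj i)) (D.map j.hom)) := by
    rw [hsnd]; infer_instance
  haveI : LocallyOfFinitePresentation (pullback.snd (fi ≫ 𝟙 (D.obj i)) (D.map j.hom)) :=
    inferInstance
  refine ⟨j.left, (pullback.snd (fi ≫ 𝟙 (D.obj i)) (D.map j.hom)).ker, ?_, ?_⟩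
  · exact (Groth.Agent.Lib.H69ClosedLfp.lfp_iff_ker_fg _).1 inferInstance
  · rw [comap_ker_eq_of_isPullback (isPullback_pbProj D c i (fi ≫ 𝟙 (D.obj i)) j)]
    have hpb' : IsPullback g J.subschemeι (fi ≫ 𝟙 (D.obj i)) (c.π.app i) := by
      rw [Category.comp_id]; exact hpb
    have h4 : pullback.snd (fi ≫ 𝟙 (D.obj i)) (c.π.app i) =
        hpb'.isoPullback.inv ≫ J.subschemeι := by
      rw [Iso.eq_inv_comp]; exact hpb'.isoPullback_hom_snd
    rw [h4, Scheme.Hom.ker_comp_of_isIso, Scheme.IdealSheafData.ker_subschemeι]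

end Groth.Agent.Lib.IdealLimDesc62
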