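import Groth.Agent.Lib.IdealTransform2

/-!
Ideal transforms: universal property (Brodmann–Sharp 2.2.15, 2.2.17), depth-two criterion (2.2.6(i)(c)).
-/

universe u
open CategoryTheory CategoryTheory.Limits Opposite

namespace Groth.Agent.Lib.IdealTransform
open LocCoh
variable {R : Type u} [CommRing R] (I : Ideal R) {M : Type u} [AddCommGroup M] [Module R M]
  {M' : Type u} [AddCommGroup M'] [Module R M'] {K : Type u} [AddCommGroup K] [Module R K]

/-- Two maps into `D_I(K)` agreeing on the range of `e` (with `I`-torsion cokernel) are equal. -/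
theorem eq_of_comp_eq [IsNoetherianRing R] (e : M →ₗ[R] M')
    (hcoker : IsPowerTorsion I (M' ⧸ LinearMap.range e)) (ψ₁ ψ₂ : M' →ₗ[R] DT I K)
    (h : ψ₁ ∘ₗ e = ψ₂ ∘ₗ e) : ψ₁ = ψ₂ := by
  ext m'
  rw [← sub_eq_zero]
  have hmem : ψ₁ m' - ψ₂ m' ∈ DRing.torsionSub I (DT I K) := by
    obtain ⟨k, hk⟩ := hcoker (Submodule.Quotient.mk m')
    refine ⟨k, fun a ha => ?_⟩
    have h1 := hk a ha
    rw [← Submodule.Quotient.mk_smul, Submodule.Quotient.mk_eq_zero] at h1
    obtain ⟨m, hm⟩ := h1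
    rw [smul_sub, ← map_smul, ← map_smul, ← hm]
    have := LinearMap.congr_fun h m
    simp only [LinearMap.comp_apply] at this
    rw [this, sub_self]
  rw [torsionSub_DT_eq_bot] at hmem
  exact (Submodule.mem_bot R).1 hmem

/-- The equivalence `D_I(e)`. -/
noncomputable def mapEquiv [IsNoetherianRing R] (e : M →ₗ[R] M')
    (hker : LinearMap.ker e ≤ DRing.torsionSub I M)
    (hcoker : IsPowerTorsion I (M' ⧸ LinearMap.range e)) : DT I M ≃ₗ[R] DT I M' :=
  LinearEquiv.ofBijective ((idealTransform I).map (ModuleCat.ofHom e)).hom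
    (map_bijective I e hker hcoker)

/-- The factorization `ψ' = D(ψ) ∘ D(e)⁻¹ ∘ η_{M'}`. -/
noncomputable def factor [IsNoetherianRing R] (e : M →ₗ[R] M')
    (hker : LinearMap.ker e ≤ DRing.torsionSub I M)
    (hcoker : IsPowerTorsion I (M' ⧸ LinearMap.range e)) (ψ : M →ₗ[R] K) : M' →ₗ[R] DT I K :=
  ((idealTransform I).map (ModuleCat.ofHom ψ)).hom ∘ₗ (mapEquiv I e hker hcoker).symm.toLinearMap ∘ₗ
    toDT I M'

theorem factor_comp [IsNoetherianRing R] (e : M →ₗ[R] M')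
    (hker : LinearMap.ker e ≤ DRing.torsionSub I M)
    (hcoker : IsPowerTorsion I (M' ⧸ LinearMap.range e)) (ψ : M →ₗ[R] K) :
    factor I e hker hcoker ψ ∘ₗ e = toDT I K ∘ₗ ψ := by
  ext m
  simp only [factor, LinearMap.comp_apply, LinearEquiv.coe_coe]
  have h1 : toDT I M' (e m) = mapEquiv I e hker hcoker (toDT I M m) := (map_toDT I e m).symm
  rw [h1, LinearEquiv.symm_apply_apply, map_toDT]

/-- Brodmann–Sharp 2.2.15. -/
theorem existsUnique_factor [IsNoetherianRing R] (e : M →ₗ[R] M')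
    (hker : LinearMap.ker e ≤ DRing.torsionSub I M)
    (hcoker : IsPowerTorsion I (M' ⧸ LinearMap.range e)) (ψ : M →ₗ[R] K) :
    ∃! ψ' : M' →ₗ[R] DT I K, ψ' ∘ₗ e = toDT I K ∘ₗ ψ :=
  ⟨factor I e hker hcoker ψ, factor_comp I e hker hcoker ψ, fun _ h =>
    eq_of_comp_eq I e hcoker _ _ (h.trans (factor_comp I e hker hcoker ψ).symm)⟩

theorem map_bijective_of_bijective [IsNoetherianRing R] (ψ : M →ₗ[R] K) (hψ : Function.Bijective ψ) :
    Function.Bijective ((idealTransform I).map (ModuleCat.ofHom ψ)).hom := by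
  refine map_bijective I ψ ?_ ?_
  · rw [LinearMap.ker_eq_bot.2 hψ.1]; exact bot_le
  · intro q
    obtain ⟨x, rfl⟩ := Submodule.Quotient.mk_surjective _ q
    refine ⟨0, fun a _ => ?_⟩
    rw [← Submodule.Quotient.mk_smul, Submodule.Quotient.mk_eq_zero, LinearMap.range_eq_top.2 hψ.2]
    trivial

/-- Brodmann–Sharp 2.2.17. -/
theorem factor_bijective [IsNoetherianRing R] (e : M →ₗ[R] M')
    (hker : LinearMap.ker e ≤ DRing.torsionSub I M)
    (hcoker : IsPowerTorsion I (M' ⧸ LinearMap.range e)) (ψ : M →ₗ[R] K)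
    (hψ : Function.Bijective ψ) (ψ' : M' →ₗ[R] DT I K) (hψ' : ψ' ∘ₗ e = toDT I K ∘ₗ ψ)
    (hη : Function.Bijective (toDT I M')) : Function.Bijective ψ' := by
  have : ψ' = factor I e hker hcoker ψ :=
    eq_of_comp_eq I e hcoker _ _ (hψ'.trans (factor_comp I e hker hcoker ψ).symm)
  rw [this]
  simp only [factor, LinearMap.coe_comp, LinearEquiv.coe_coe]
  exact (map_bijective_of_bijective I ψ hψ).comp ((mapEquiv I e hker hcoker).symm.bijective.comp hη)

/-- `y` regular on `M/xM` and `x` regular on `M` imply `y` regular on `M/x^a M`, elementwise. -/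
theorem exists_eq_pow_smul_of_smul_eq (x y : R) (hx : IsSMulRegular M x)
    (hy : ∀ m m' : M, y • m = x • m' → ∃ m₁, m = x • m₁) (a : ℕ) :
    ∀ m m' : M, y • m = x ^ a • m' → ∃ m₁, m = x ^ a • m₁ := by
  induction a with
  | zero => intro m _ _; exact ⟨m, by simp⟩
  | succ a ih =>
    intro m m' h
    obtain ⟨m₁, rfl⟩ := hy m (x ^ a • m') (by rw [h, pow_succ', mul_smul])
    have h2 : x • (y • m₁) = x • (x ^ a • m') := by
      rw [smul_comm, h, pow_succ', mul_smul]
    obtain ⟨m₂, rfl⟩ := ih m₁ m' (hx h2)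
    exact ⟨m₂, by rw [pow_succ', mul_smul]⟩

theorem exists_eq_pow_smul_of_pow_smul_eq (x y : R) (hx : IsSMulRegular M x)
    (hy : ∀ m m' : M, y • m = x • m' → ∃ m₁, m = x • m₁) (a b : ℕ) :
    ∀ m m' : M, y ^ b • m = x ^ a • m' → ∃ m₁, m = x ^ a • m₁ := by
  induction b with
  | zero => intro m m' h; exact ⟨m', by simpa using h⟩
  | succ b ih =>
    intro m m' h
    rw [pow_succ', mul_smul] at h
    obtain ⟨m₁, hm₁⟩ := exists_eq_pow_smul_of_smul_eq x y hx hy a _ _ h
    exact ih m m₁ hm₁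

/-- Brodmann–Sharp 2.2.6(i)(c) direction: if `I` contains an `M`-regular pair, `η_M` is bijective. -/
theorem toDT_bijective_of_regular_pair (x y : R) (hxI : x ∈ I) (hyI : y ∈ I)
    (hx : IsSMulRegular M x) (hy : ∀ m m' : M, y • m = x • m' → ∃ m₁, m = x • m₁) :
    Function.Bijective (toDT I M) := by
  constructor
  · rw [← LinearMap.ker_eq_bot, ker_toDT, eq_bot_iff]
    rintro m ⟨k, hk⟩
    rw [Submodule.mem_bot]
    have h1 := hk (x ^ k) (Ideal.pow_mem_pow hxI k)
    exact (hx.pow k) (show x ^ k • m = x ^ k • 0 by rw [h1, smul_zero])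
  · intro z
    obtain ⟨n, f, rfl⟩ := exists_rep I M z
    have hxn : x ^ n ∈ I ^ n := Ideal.pow_mem_pow hxI n
    have hyn : y ^ n ∈ I ^ n := Ideal.pow_mem_pow hyI n
    have h1 : y ^ n • f ⟨x ^ n, hxn⟩ = x ^ n • f ⟨y ^ n, hyn⟩ := by
      rw [← map_smul, ← map_smul]
      congr 1
      ext
      simp [mul_comm]
    obtain ⟨m, hm⟩ := exists_eq_pow_smul_of_pow_smul_eq x y hx hy n n _ _ h1
    refine ⟨m, ?_⟩
    rw [toDT_eq I M n]
    congr 1
    ext ⟨r, hr⟩
    rw [smulMap_apply]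
    apply hx.pow n
    change x ^ n • (r • m) = x ^ n • f ⟨r, hr⟩
    rw [smul_comm, ← hm, ← map_smul, ← map_smul]
    congr 1
    ext
    simp [mul_comm]

end Groth.Agent.Lib.IdealTransform
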