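import Groth.Agent.Lib.LocCohLinear
import Groth.Agent.Lib.LocCohTorsion
import Groth.Agent.Lib.DeltaUniv
import Groth.Prelude.Def_DeltaF

/-!
# Local cohomology as a universal cohomological delta-functor (helper53)

`T I : DeltaF.CohDeltaFunctor (ModuleCat R) (ModuleCat R) ℕ` with `(T I).F n = localCohomology I n`
(definitionally), connecting maps from `Lib/LocCohLES`; `isEffaceable`, `isUniversal`, `zeroMono`.
-/

set_option maxHeartbeats 400000
universe u
open CategoryTheory CategoryTheory.Limits Opposite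

namespace Groth.Agent.Lib.LocCohDelta
open Groth.Agent.Lib.ExtBridge Groth.Agent.Lib.LocCohConcrete Groth.Agent.Lib.LocCohLES
open Abelian

variable {R : Type u} [CommRing R] (I : Ideal R)

instance additive (n : ℕ) : (localCohomology I n).Additive where
  map_add {X Y f g} := by
    apply ModuleCat.hom_ext
    apply LinearMap.ext
    intro y
    exact Hmap_add I f.hom g.hom n y

section
variable (S : ShortComplex (ModuleCat.{u} R)) (hS : S.ShortExact)

include hS in
theorem inj_f : Function.Injective S.f.hom := hS.moduleCat_injective_f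
include hS in
theorem surj_g : Function.Surjective S.g.hom := hS.moduleCat_surjective_g
include hS in
theorem exact_fg : Function.Exact S.f.hom S.g.hom :=
  (ShortComplex.ShortExact.moduleCat_exact_iff_function_exact S).1 hS.exact

/-- connecting morphism `H^n(X₃) ⟶ H^{n+1}(X₁)`. -/
noncomputable def δ' (n : ℕ) :
    (localCohomology I n).obj S.X₃ ⟶ (localCohomology I (n + 1)).obj S.X₁ :=
  ModuleCat.ofHom (Hδ I S.f.hom S.g.hom (inj_f S hS) (exact_fg S hS) (surj_g S hS) n)

theorem δ'_apply (n : ℕ) (y : (localCohomology I n).obj S.X₃) :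
    (δ' I S hS n).hom y =
      Hδ I S.f.hom S.g.hom (inj_f S hS) (exact_fg S hS) (surj_g S hS) n y := rfl

/-- connecting morphism with free target degree. -/
noncomputable def δ (n₀ n₁ : ℕ) (h : n₀ + 1 = n₁) :
    (localCohomology I n₀).obj S.X₃ ⟶ (localCohomology I n₁).obj S.X₁ :=
  δ' I S hS n₀ ≫ eqToHom (by rw [h])

theorem δ_rfl (n : ℕ) : δ I S hS n (n + 1) rfl = δ' I S hS n := by
  simp [δ]

end

theorem map_apply {X Y : ModuleCat.{u} R} (f : X ⟶ Y) (n : ℕ) (y : (localCohomology I n).obj X) :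
    ((localCohomology I n).map f).hom y = Hmap I f.hom n y := rfl

theorem δ'_natural {S S' : ShortComplex (ModuleCat.{u} R)} (hS : S.ShortExact)
    (hS' : S'.ShortExact) (φ : S ⟶ S') (n : ℕ) :
    (localCohomology I n).map φ.τ₃ ≫ δ' I S' hS' n =
      δ' I S hS n ≫ (localCohomology I (n + 1)).map φ.τ₁ := by
  apply ModuleCat.hom_ext
  apply LinearMap.ext
  intro y
  have c₁ : S'.f.hom ∘ₗ φ.τ₁.hom = φ.τ₂.hom ∘ₗ S.f.hom := by
    have := congrArg ModuleCat.Hom.hom φ.comm₁₂
    exact this
  have c₂ : S'.g.hom ∘ₗ φ.τ₂.hom = φ.τ₃.hom ∘ₗ S.g.hom := by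
    have := congrArg ModuleCat.Hom.hom φ.comm₂₃
    exact this
  exact Hδ_naturality I S.f.hom S.g.hom (inj_f S hS) (exact_fg S hS) (surj_g S hS)
    S'.f.hom S'.g.hom (inj_f S' hS') (exact_fg S' hS') (surj_g S' hS')
    φ.τ₁.hom φ.τ₂.hom φ.τ₃.hom c₁ c₂ n y

/-- local cohomology as a cohomological delta-functor. -/
noncomputable def T : DeltaF.CohDeltaFunctor (ModuleCat.{u} R) (ModuleCat.{u} R) ℕ where
  F n := localCohomology I n
  additive n := additive I n
  δ S hS n₀ n₁ h := δ I S hS n₀ n₁ h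
  δ_natural {S S'} hS hS' φ n₀ n₁ h := by
    subst h
    rw [δ_rfl, δ_rfl]
    exact δ'_natural I hS hS' φ n₀
  exact₂ S hS n := by
    rw [ShortComplex.moduleCat_exact_iff]
    intro x₂ hx₂
    exact (exact₂ I S.f.hom S.g.hom (exact_fg S hS) (inj_f S hS) (surj_g S hS) n x₂).1 hx₂
  comp_δ S hS n₀ n₁ h := by
    subst h
    rw [δ_rfl]
    apply ModuleCat.hom_ext
    apply LinearMap.ext
    intro y
    exact (exact₃ I S.f.hom S.g.hom (inj_f S hS) (exact_fg S hS) (surj_g S hS) n₀ _).2 ⟨y, rfl⟩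
  exact₃ S hS n₀ n₁ h := by
    subst h
    rw [ShortComplex.moduleCat_exact_iff]
    intro x₂ hx₂
    refine (exact₃ I S.f.hom S.g.hom (inj_f S hS) (exact_fg S hS) (surj_g S hS) n₀ x₂).1 ?_
    have : (δ I S hS n₀ (n₀ + 1) rfl).hom x₂ = 0 := hx₂
    rw [δ_rfl] at this
    exact this
  δ_comp S hS n₀ n₁ h := by
    subst h
    rw [δ_rfl]
    apply ModuleCat.hom_ext
    apply LinearMap.ext
    intro y
    exact (exact₁ I S.f.hom S.g.hom (inj_f S hS) (exact_fg S hS) (surj_g S hS) n₀ _).2 ⟨y, rfl⟩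
  exact₁ S hS n₀ n₁ h := by
    subst h
    rw [ShortComplex.moduleCat_exact_iff]
    intro x₂ hx₂
    obtain ⟨x₁, hx₁⟩ :=
      (exact₁ I S.f.hom S.g.hom (inj_f S hS) (exact_fg S hS) (surj_g S hS) n₀ x₂).1 hx₂
    refine ⟨x₁, ?_⟩
    have : (δ I S hS n₀ (n₀ + 1) rfl).hom x₁ = x₂ := by
      rw [δ_rfl]
      exact hx₁
    exact this

theorem T_F (n : ℕ) : (T I).F n = localCohomology I n := rfl

theorem zeroMono : (T I).ZeroMono := by
  intro S hS
  rw [ModuleCat.mono_iff_injective]
  exact Hmap_zero_injective I S.f.hom (inj_f S hS)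

theorem isEffaceable : (T I).IsEffaceable := by
  intro n X
  refine ⟨Injective.under X, Injective.ι X, inferInstance, ?_⟩
  have hinj : CategoryTheory.Injective (ModuleCat.of R ↑(Injective.under X)) :=
    Injective.injective_under X
  have hJ : Module.Injective R ↑(Injective.under X) :=
    @Module.injective_module_of_injective_object R ↑(Injective.under X) _ _ _ hinj
  have := Groth.Agent.Lib.LocCohTorsion.subsingleton_H_of_injective I
    ↑(Injective.under X) hJ (n + 1) (Nat.succ_pos n)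
  have h0 : ∀ z : LocCoh.H I (n + 1) ↑(Injective.under X), z = 0 :=
    fun z => Subsingleton.elim _ _
  change (localCohomology I (n + 1)).map (Injective.ι X) = 0
  apply ModuleCat.hom_ext
  apply LinearMap.ext
  intro y
  exact h0 _

theorem isUniversal : (T I).IsUniversal :=
  Groth.Agent.Lib.DeltaUniv.isUniversal_of_isEffaceable (T I) (isEffaceable I)

end Groth.Agent.Lib.LocCohDelta
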