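import Mathlib

/-!
# Product decomposition of a ring from a locally constant function on its spectrum (helper89)

Namespace `Groth.Agent.Lib.IdemDecomp89`.

* `exists_idempotents` : for `δ : PrimeSpectrum S → ℕ` locally constant there are `N` and complete
  orthogonal idempotents `e : Fin (N+1) → S` with `D(e d) = δ⁻¹{d}`.
* `piAlgEquiv` : `S ≃ₐ[R] Π d, S ⧸ (1 - e d)` for complete orthogonal idempotents.
* `isLocalization_away_quotient` : `S ⧸ (1 - e)` is the localization of `S` at the idempotent `e`.
-/

set_option autoImplicit false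
universe u v

namespace Groth.Agent.Lib.IdemDecomp89

variable {S : Type u} [CommRing S]

theorem eq_zero_of_isIdempotentElem_of_basicOpen_eq_bot {e : S} (he : IsIdempotentElem e)
    (h : PrimeSpectrum.basicOpen e = ⊥) : e = 0 := by
  rw [PrimeSpectrum.basicOpen_eq_bot_iff] at h
  obtain ⟨n, hn⟩ := h
  rcases Nat.eq_zero_or_pos n with rfl | hpos
  · rw [pow_zero] at hn
    rw [← mul_one e, hn, mul_zero]
  · obtain ⟨m, rfl⟩ : ∃ m, n = m + 1 := ⟨n - 1, by omega⟩
    rwa [he.pow_succ_eq] at hn

theorem exists_idempotents (δ : PrimeSpectrum S → ℕ) (hδ : IsLocallyConstant δ) :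
    ∃ (N : ℕ) (e : Fin (N + 1) → S), CompleteOrthogonalIdempotents e ∧
      ∀ d : Fin (N + 1), ((PrimeSpectrum.basicOpen (e d) : TopologicalSpace.Opens _) :
        Set (PrimeSpectrum S)) = δ ⁻¹' {(d : ℕ)} := by
  classical
  have hfin : (Set.range δ).Finite := hδ.range_finite
  obtain ⟨N, hN⟩ : ∃ N, ∀ q, δ q ≤ N := by
    obtain ⟨N, hN⟩ := hfin.bddAbove
    exact ⟨N, fun q => hN ⟨q, rfl⟩⟩
  have hclopen : ∀ d : ℕ, IsClopen (δ ⁻¹' {d}) := fun d => hδ.isClopen_fiber d
  have hex : ∀ d : Fin (N + 1), ∃ e : S, IsIdempotentElem e ∧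
      δ ⁻¹' {(d : ℕ)} = (PrimeSpectrum.basicOpen e : Set (PrimeSpectrum S)) := fun d =>
    PrimeSpectrum.isClopen_iff.mp (hclopen d)
  choose e he hbasic using hex
  have hmem : ∀ (d : Fin (N + 1)) (q : PrimeSpectrum S), e d ∉ q.asIdeal ↔ δ q = d := by
    intro d q
    have : q ∈ (PrimeSpectrum.basicOpen (e d) : Set (PrimeSpectrum S)) ↔ q ∈ δ ⁻¹' {(d : ℕ)} := by
      rw [hbasic d]
    simpa using this
  have hortho : Pairwise (fun i j => e i * e j = 0) := by
    intro i j hij
    apply eq_zero_of_isIdempotentElem_of_basicOpen_eq_bot ((he i).mul (he j))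
    ext q
    simp only [PrimeSpectrum.basicOpen_mul, TopologicalSpace.Opens.coe_inf,
      Set.mem_inter_iff, SetLike.mem_coe, PrimeSpectrum.mem_basicOpen,
      TopologicalSpace.Opens.coe_bot, Set.mem_empty_iff_false, iff_false, not_and]
    intro h1 h2
    have h1' := (hmem i q).mp h1
    have h2' := (hmem j q).mp h2
    apply hij
    exact Fin.ext (h1'.symm.trans h2')
  have hsum : ∑ i, e i = 1 := by
    have hidem : IsIdempotentElem (∑ i, e i) := by
      unfold IsIdempotentElem
      rw [Finset.sum_mul_sum]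
      apply Finset.sum_congr rfl
      intro i _
      rw [Finset.sum_eq_single i]
      · exact (he i).eq
      · intro j _ hji
        exact hortho hji.symm
      · intro h
        exact absurd (Finset.mem_univ i) h
    have h0 : 1 - ∑ i, e i = 0 := by
      apply eq_zero_of_isIdempotentElem_of_basicOpen_eq_bot hidem.one_sub
      ext q
      simp only [SetLike.mem_coe, PrimeSpectrum.mem_basicOpen, TopologicalSpace.Opens.coe_bot,
        Set.mem_empty_iff_false, iff_false, not_not]
      let d : Fin (N + 1) := ⟨δ q, Nat.lt_succ_of_le (hN q)⟩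
      have hd : e d ∉ q.asIdeal := (hmem d q).mpr rfl
      have hprod : e d * (1 - ∑ i, e i) = 0 := by
        rw [mul_sub, mul_one, Finset.mul_sum, Finset.sum_eq_single d, (he d).eq, sub_self]
        · intro j _ hjd
          exact hortho hjd.symm
        · intro h
          exact absurd (Finset.mem_univ d) h
      have : e d * (1 - ∑ i, e i) ∈ q.asIdeal := by
        rw [hprod]
        exact q.asIdeal.zero_mem
      exact (q.isPrime.mem_or_mem this).resolve_left hd
    rw [sub_eq_zero] at h0
    exact h0.symm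
  refine ⟨N, e, ⟨⟨he, hortho⟩, hsum⟩, fun d => (hbasic d).symm⟩

section algebra

variable (R : Type v) [CommRing R] [Algebra R S]

/-- `S ≃ₐ[R] Π d, S ⧸ (1 - e d)` for complete orthogonal idempotents. -/
noncomputable def piAlgEquiv {I : Type*} [Fintype I] {e : I → S}
    (he : CompleteOrthogonalIdempotents e) :
    S ≃ₐ[R] ((i : I) → S ⧸ Ideal.span {1 - e i}) :=
  AlgEquiv.ofBijective (AlgHom.pi fun i => Ideal.Quotient.mkₐ R (Ideal.span {1 - e i}))
    he.bijective_pi

theorem isLocalization_away_quotient {e : S} (he : IsIdempotentElem e) :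
    IsLocalization.Away e (S ⧸ Ideal.span {1 - e}) :=
  IsLocalization.away_of_isIdempotentElem he Ideal.mk_ker Ideal.Quotient.mk_surjective

end algebra

end Groth.Agent.Lib.IdemDecomp89
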