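import Mathlib

/-!
# Idempotents on a fibre of a proper morphism: algebraic preliminaries (helper5)

* `isPushout_induction` : induction principle for elements of a pushout of commutative rings.
-/

set_option autoImplicit false
universe u

open CategoryTheory CategoryTheory.Limits TensorProduct

namespace Groth.Agent.Lib.IdemFibre5

/-- Every element of a pushout `P = B ⊗_R A'` of commutative rings is a finite sum of products
`c x * d y`. -/
theorem isPushout_induction {R B A' P : CommRingCat.{u}} {a : R ⟶ B} {b : R ⟶ A'} {c : B ⟶ P}
    {d : A' ⟶ P} (h : IsPushout a b c d) (M : P → Prop) (h0 : M 0)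
    (hadd : ∀ x y, M x → M y → M (x + y)) (hmul : ∀ (x : B) (y : A'), M (c.hom x * d.hom y)) :
    ∀ y, M y := by
  letI : Algebra R B := a.hom.toAlgebra
  letI : Algebra R A' := b.hom.toAlgebra
  letI : Algebra B P := c.hom.toAlgebra
  letI : Algebra A' P := d.hom.toAlgebra
  letI : Algebra R P := (c.hom.comp a.hom).toAlgebra
  haveI : IsScalarTower R B P := .of_algebraMap_eq' rfl
  haveI : IsScalarTower R A' P := .of_algebraMap_eq' (by
    change c.hom.comp a.hom = d.hom.comp b.hom
    have := h.w
    exact congr($(this).hom))
  have hpo : Algebra.IsPushout R B A' P := by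
    rw [← CommRingCat.isPushout_iff_isPushout]
    exact h
  intro y
  obtain ⟨z, rfl⟩ := hpo.out.equiv.surjective y
  induction z using TensorProduct.induction_on with
  | zero => rw [map_zero]; exact h0
  | tmul x y =>
    rw [IsBaseChange.equiv_tmul]
    change M (c.hom x * d.hom y)
    exact hmul x y
  | add x y hx hy => rw [map_add]; exact hadd _ _ hx hy

end Groth.Agent.Lib.IdemFibre5
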