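import Groth.Agent.Lib.IdemFibre5A
import Groth.Agent.Lib.HenselProper5B
import Groth.Agent.Lib.HenselCouple61
import Groth.Agent.Lib.HenselizationFlat
import Groth.Agent.Lib.HenselizationUP
import Groth.Agent.Lib.GenericFlatPt

/-!
# Idempotents on a fibre of a proper morphism lift to a neighbourhood (helper5)

`f : X ⟶ S` proper, `s : S`, `e` an idempotent of `Γ(X_s, O)`. Then `e` is the restriction of a
section of `O_X` over `f⁻¹(V)` for an open neighbourhood `V` of `s` (statement of S0979, Stacks
0A3K-type), in hypothesis form over `Hyp7383`, `Hyp` (S0002), `Hyp58` (S0058).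

Proof: base change to the henselization `Aʰ` of `A = O_{S,s}` (flat, same residue field); the clopen
`D(e)` of the closed fibre lifts to a clopen of `Y = X ×_S Spec Aʰ` (`HenselProper5B`), i.e. to an
idempotent `ẽ` of `Γ(Y) = Γ(f⁻¹V₀) ⊗_{Γ(V₀)} Aʰ` (flat base change); write `ẽ = ∑ bᵢ ⊗ aᵢ` and
replace the `aᵢ` by sections of `O_S` near `s` with the same image in `κ(s)`.
-/

set_option autoImplicit false
set_option linter.style.haveILetI false
set_option linter.unusedSectionVars false
universe u

open CategoryTheory CategoryTheory.Limits AlgebraicGeometry TopologicalSpace Opposite Set Topology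

namespace Groth.Agent.Lib.IdemFibre5

open Groth.Agent.Lib.HenselizationConstr

section Base

variable (S : Scheme.{u}) (s : S)

/-- the henselization of the local ring at `s` -/
noncomputable abbrev Ah : Type u := Hzn (S.presheaf.stalk s)

/-- `Spec Aʰ` -/
noncomputable abbrev T : Scheme.{u} := Spec (CommRingCat.of (Ah S s))

/-- `A → Aʰ` in `CommRingCat` -/
noncomputable def algC : S.presheaf.stalk s ⟶ CommRingCat.of (Ah S s) :=
  CommRingCat.ofHom (algebraMap (S.presheaf.stalk s) (Ah S s))

/-- `Spec Aʰ ⟶ Spec A ⟶ S` -/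
noncomputable def g : T S s ⟶ S :=
  Spec.map (algC S s) ≫ S.fromSpecStalk s

instance : Flat (g S s) := by
  haveI := Groth.Agent.Lib.GenericFlatPt.flat_fromSpecStalk S s
  haveI : Flat (Spec.map (algC S s)) := by
    rw [Flat.SpecMap_iff]
    exact (RingHom.flat_algebraMap_iff).mpr inferInstance
  rw [g]
  infer_instance

/-- the residue field of the stalk at `s` -/
abbrev κ : Type u := IsLocalRing.ResidueField (S.presheaf.stalk s)

/-- the ring isomorphism `κ(A) ≃ κ(Aʰ)` -/
noncomputable def κEquiv : κ S s ≃+* IsLocalRing.ResidueField (Ah S s) :=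
  RingEquiv.ofBijective _
    (Groth.Agent.Lib.HenselizationUP.residueFieldMap_bijective (S.presheaf.stalk s) (Ah S s))

theorem κEquiv_residue (a : S.presheaf.stalk s) :
    κEquiv S s (IsLocalRing.residue _ a) =
      IsLocalRing.residue _ (algebraMap (S.presheaf.stalk s) (Ah S s) a) := rfl

/-- the ring map `Aʰ → κ(s)` -/
noncomputable def ψR : Ah S s →+* κ S s :=
  ((κEquiv S s).symm : IsLocalRing.ResidueField (Ah S s) →+* κ S s).comp
    (IsLocalRing.residue (Ah S s))

theorem ψR_algebraMap (a : S.presheaf.stalk s) :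
    ψR S s (algebraMap (S.presheaf.stalk s) (Ah S s) a) = IsLocalRing.residue _ a := by
  rw [ψR, RingHom.comp_apply, RingEquiv.coe_toRingHom, ← κEquiv_residue,
    RingEquiv.symm_apply_apply]

theorem ψR_surjective : Function.Surjective (ψR S s) := by
  intro x
  obtain ⟨a, ha⟩ := IsLocalRing.residue_surjective (κEquiv S s x)
  refine ⟨a, ?_⟩
  rw [ψR, RingHom.comp_apply, ha, RingEquiv.coe_toRingHom, RingEquiv.symm_apply_apply]

theorem ker_ψR : RingHom.ker (ψR S s) = IsLocalRing.maximalIdeal (Ah S s) := by
  ext a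
  rw [RingHom.mem_ker, ψR, RingHom.comp_apply, RingEquiv.coe_toRingHom]
  constructor
  · intro h
    have h2 : IsLocalRing.residue (Ah S s) a = 0 := by
      have := congrArg (κEquiv S s) h
      rwa [RingEquiv.apply_symm_apply, map_zero] at this
    exact (IsLocalRing.residue_eq_zero_iff a).mp h2
  · intro h
    rw [(IsLocalRing.residue_eq_zero_iff a).mpr h, map_zero]

/-- `Aʰ → κ(s)` in `CommRingCat` -/
noncomputable def ψC : CommRingCat.of (Ah S s) ⟶ S.residueField s :=
  CommRingCat.ofHom (ψR S s)

theorem algC_ψC : algC S s ≫ ψC S s = S.residue s := by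
  ext a
  exact ψR_algebraMap S s a

/-- `Spec κ(s) ⟶ Spec Aʰ` -/
noncomputable def ψ : Spec (S.residueField s) ⟶ T S s :=
  Spec.map (ψC S s)

theorem ψ_g : ψ S s ≫ g S s = S.fromSpecResidueField s := by
  rw [ψ, g, ← Category.assoc, ← Spec.map_comp, algC_ψC, Scheme.fromSpecResidueField]

instance : IsClosedImmersion (ψ S s) :=
  IsClosedImmersion.spec_of_surjective _ (ψR_surjective S s)

theorem range_ψ : Set.range (ψ S s) =
    {((IsLocalRing.closedPoint (Ah S s) : PrimeSpectrum (Ah S s)) : ↥(T S s))} := by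
  have h1 := range_comap_of_surjective _ (ψR S s) (ψR_surjective S s)
  rw [ker_ψR, PrimeSpectrum.zeroLocus_eq_singleton] at h1
  exact h1

end Base

section Fibre

variable {X S : Scheme.{u}} (f : X ⟶ S) (s : S)

/-- `Y = X ×_S Spec Aʰ` -/
noncomputable abbrev Y : Scheme.{u} := pullback f (g S s)

/-- `Y ⟶ Spec Aʰ` -/
noncomputable abbrev fh : Y f s ⟶ T S s := pullback.snd f (g S s)

/-- `Y ⟶ X` -/
noncomputable abbrev πX : Y f s ⟶ X := pullback.fst f (g S s)

/-- the closed fibre `X_s ⟶ Y` -/
noncomputable def q : f.fiber s ⟶ Y f s :=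
  pullback.lift (f.fiberι s) (f.fiberToSpecResidueField s ≫ ψ S s) (by
    rw [Category.assoc, ψ_g]
    exact f.fiber_fac s)

@[reassoc (attr := simp)]
theorem q_fst : q f s ≫ πX f s = f.fiberι s := pullback.lift_fst _ _ _

@[reassoc (attr := simp)]
theorem q_snd : q f s ≫ fh f s = f.fiberToSpecResidueField s ≫ ψ S s := pullback.lift_snd _ _ _

theorem isPullback_q : IsPullback (q f s) (f.fiberToSpecResidueField s) (fh f s) (ψ S s) := by
  refine IsPullback.of_right ?_ (q_snd f s) (IsPullback.of_hasPullback f (g S s))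
  rw [q_fst, ψ_g]
  exact IsPullback.of_hasPullback f (S.fromSpecResidueField s)

instance : IsClosedImmersion (q f s) :=
  MorphismProperty.of_isPullback (P := @IsClosedImmersion) (isPullback_q f s).flip inferInstance

theorem range_q : Set.range (q f s) = (fh f s) ⁻¹'
    {((IsLocalRing.closedPoint (Ah S s) : PrimeSpectrum (Ah S s)) : ↥(T S s))} := by
  have h1 : q f s = (isPullback_q f s).isoPullback.hom ≫ pullback.fst (fh f s) (ψ S s) := by
    rw [IsPullback.isoPullback_hom_fst]
  rw [h1, Scheme.Hom.comp_base, TopCat.coe_comp, Set.range_comp, Set.range_eq_univ.mpr,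
    Set.image_univ, Scheme.Pullback.range_fst, range_ψ]
  exact (ConcreteCategory.bijective_of_isIso (isPullback_q f s).isoPullback.hom.base).2

end Fibre

end Groth.Agent.Lib.IdemFibre5
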