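import Groth.Agent.Lib.IdemFibre5B

/-!
# Idempotents on a fibre of a proper morphism lift to a neighbourhood, II (helper5)

* `exists_section_of_residue` : elements of `κ(s)` are values of sections of `O_S` near `s`.
* `exists_idempotent_lift` : idempotents of the closed fibre lift to `Y = X ×_S Spec Aʰ`.
* `isPushout_sections` : `Γ(Y) = Γ(f⁻¹V₀) ⊗_{Γ(V₀)} Aʰ` (flat base change).
-/

set_option autoImplicit false
set_option linter.style.haveILetI false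
set_option linter.unusedSectionVars false
universe u

open CategoryTheory CategoryTheory.Limits AlgebraicGeometry TopologicalSpace Opposite Set Topology

namespace Groth.Agent.Lib.IdemFibre5

open Groth.Agent.Lib.HenselizationConstr

theorem top_le_preimage_top {P Q : Scheme.{u}} (a : P ⟶ Q) : (⊤ : P.Opens) ≤ a ⁻¹ᵁ ⊤ :=
  fun _ _ => trivial

theorem appLE_congr_hom {P Q : Scheme.{u}} {a b : P ⟶ Q} (hab : a = b) (U : Q.Opens)
    (V : P.Opens) (e : V ≤ a ⁻¹ᵁ U) : a.appLE U V e = b.appLE U V (hab ▸ e) := by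
  subst hab; rfl

section Sect

variable (S : Scheme.{u}) (s : S)

theorem top_le_preimage_fromSpecResidueField (V : S.Opens) (hs : s ∈ V) :
    (⊤ : (Spec (S.residueField s)).Opens) ≤ (S.fromSpecResidueField s) ⁻¹ᵁ V := by
  intro x _
  change S.fromSpecResidueField s x ∈ V
  rw [Scheme.fromSpecResidueField_apply]
  exact hs

theorem fromSpecResidueField_appLE (V : S.Opens) (hs : s ∈ V)
    (h : (⊤ : (Spec (S.residueField s)).Opens) ≤ (S.fromSpecResidueField s) ⁻¹ᵁ V) :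
    (S.fromSpecResidueField s).appLE V ⊤ h =
      S.presheaf.germ V s hs ≫ S.residue s ≫ (Scheme.ΓSpecIso (S.residueField s)).inv := by
  have key : ∀ (m : Spec (S.residueField s) ⟶ S)
      (_ : m = Spec.map (S.residue s) ≫ S.fromSpecStalk s)
      (h : (⊤ : (Spec (S.residueField s)).Opens) ≤ m ⁻¹ᵁ V), m.appLE V ⊤ h =
        S.presheaf.germ V s hs ≫ S.residue s ≫ (Scheme.ΓSpecIso (S.residueField s)).inv := by
    intro m hm h
    subst hm
    have h' : (⊤ : (Spec (S.residueField s)).Opens) ≤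
        (Spec.map (S.residue s)) ⁻¹ᵁ ((S.fromSpecStalk s) ⁻¹ᵁ V) := h
    have e1 : (Spec.map (S.residue s) ≫ S.fromSpecStalk s).appLE V ⊤ h =
        (S.fromSpecStalk s).app V ≫
          (Spec.map (S.residue s)).appLE ((S.fromSpecStalk s) ⁻¹ᵁ V) ⊤ h' :=
      Scheme.Hom.comp_appLE _ _ _ _ _
    rw [e1, Scheme.fromSpecStalk_app hs, Category.assoc, Category.assoc, Scheme.Hom.map_appLE,
      Groth.Agent.Lib.HenselCouple61.appLE_top_top, Scheme.ΓSpecIso_inv_naturality]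
  exact key _ rfl h

/-- every element of `κ(s)` is the value at `s` of a section of `O_S` over a small neighbourhood. -/
theorem exists_section_of_residue (z : Γ(Spec (S.residueField s), ⊤)) (V₀ : S.Opens)
    (hs : s ∈ V₀) :
    ∃ (V : S.Opens) (_ : V ≤ V₀) (hsV : s ∈ V) (σ : Γ(S, V)),
      ((S.fromSpecResidueField s).appLE V ⊤
        (top_le_preimage_fromSpecResidueField S s V hsV)).hom σ = z := by
  obtain ⟨a, ha⟩ := S.residue_surjective s ((Scheme.ΓSpecIso (S.residueField s)).hom.hom z)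
  obtain ⟨V₁, hsV₁, σ₁, hσ₁⟩ := TopCat.Presheaf.exists_germ_eq S.presheaf a
  have hsV : s ∈ V₁ ⊓ V₀ := ⟨hsV₁, hs⟩
  refine ⟨V₁ ⊓ V₀, inf_le_right, hsV,
    (S.presheaf.map (homOfLE (inf_le_left : V₁ ⊓ V₀ ≤ V₁)).op).hom σ₁, ?_⟩
  rw [fromSpecResidueField_appLE S s _ hsV]
  simp only [CommRingCat.hom_comp, RingHom.comp_apply]
  erw [TopCat.Presheaf.germ_res_apply, hσ₁, ha]
  exact congr($((Scheme.ΓSpecIso (S.residueField s)).hom_inv_id).hom z)

end Sect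

section Lift

open Groth.Agent.Lib.AbsApproxHyp62 Groth.Agent.Lib.ProperFinHyp Groth.Agent.Lib.ConnFib5
  Groth.Agent.Lib.HenselProper5 Groth.Agent.Lib.HenselCouple61

variable {X S : Scheme.{u}} (f : X ⟶ S) (s : S)

instance [IsProper f] : IsProper (fh f s) :=
  MorphismProperty.of_isPullback (P := @IsProper) (IsPullback.of_hasPullback f (g S s))
    inferInstance

variable (H : Hyp7383.{u}) (H2 : Hyp.{u}) (H58 : Hyp58.{u})

include H H2 H58

/-- Idempotents of the closed fibre lift to idempotents of `Y = X ×_S Spec Aʰ`. -/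
theorem exists_idempotent_lift [IsProper f] (e : Γ(f.fiber s, ⊤)) (he : IsIdempotentElem e) :
    ∃ e₁ : Γ(Y f s, ⊤), IsIdempotentElem e₁ ∧ (q f s).appTop.hom e₁ = e := by
  set x₀ : ↥(T S s) :=
    ((IsLocalRing.closedPoint (Ah S s) : PrimeSpectrum (Ah S s)) : ↥(T S s)) with hx₀
  have hrange : Set.range (q f s) = (fh f s) ⁻¹' {x₀} := range_q f s
  have hemb : IsClosedEmbedding (q f s) := (q f s).isClosedEmbedding
  have hclopen := isClopen_basicOpen_of_isIdempotentElem he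
  set D : Set (f.fiber s) := (((f.fiber s).basicOpen e : (f.fiber s).Opens) : Set (f.fiber s)) with hD
  have hV : IsClosed ((q f s) '' D) := hemb.isClosedMap _ hclopen.1
  have hVZ : (q f s) '' D ⊆ (fh f s) ⁻¹' {x₀} := by
    rw [← hrange]; exact Set.image_subset_range _ _
  have hV' : IsClosed ((fh f s) ⁻¹' {x₀} \ (q f s) '' D) := by
    rw [← hrange, ← Set.image_univ, ← Set.image_diff hemb.injective, ← Set.compl_eq_univ_diff]
    exact hemb.isClosedMap _ hclopen.2.isClosed_compl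
  obtain ⟨U, hU, hUV⟩ := exists_isClopen_inter_eq H H2 H58 (Ah S s) (fh f s) x₀ rfl _ hVZ hV hV'
  obtain ⟨e₁, he₁, he₁U⟩ := exists_isIdempotentElem_basicOpen_eq U hU
  refine ⟨e₁, he₁, ?_⟩
  apply eq_of_basicOpen_eq (he₁.map _) he
  rw [← Scheme.preimage_basicOpen_top]
  ext x
  change (q f s) x ∈ (((Y f s).basicOpen e₁ : (Y f s).Opens) : Set (Y f s)) ↔ x ∈ D
  rw [he₁U]
  constructor
  · intro hx
    have h1 : (q f s) x ∈ U ∩ (fh f s) ⁻¹' {x₀} := ⟨hx, by rw [← hrange]; exact ⟨x, rfl⟩⟩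
    rw [hUV] at h1
    obtain ⟨x', hx', hxx'⟩ := h1
    rwa [← hemb.injective hxx']
  · intro hx
    have h1 : (q f s) x ∈ U ∩ (fh f s) ⁻¹' {x₀} := by rw [hUV]; exact ⟨x, hx, rfl⟩
    exact h1.1

end Lift

section Pushout

variable {X S : Scheme.{u}} (f : X ⟶ S) (s : S)

theorem preimage_g_eq_top (V : S.Opens) (hs : s ∈ V) : (g S s) ⁻¹ᵁ V = ⊤ := by
  rw [eq_top_iff]
  intro x _
  have h1 : (g S s) x ∈ Set.range (S.fromSpecStalk s) := by
    rw [g, Scheme.Hom.comp_apply]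
    exact ⟨_, rfl⟩
  rw [Scheme.range_fromSpecStalk] at h1
  exact h1.mem_open V.2 hs

theorem preimage_πX_eq_top (V : S.Opens) (hs : s ∈ V) : (πX f s) ⁻¹ᵁ (f ⁻¹ᵁ V) = ⊤ := by
  have h1 : (πX f s) ⁻¹ᵁ (f ⁻¹ᵁ V) = (πX f s ≫ f) ⁻¹ᵁ V := rfl
  have h2 : πX f s ≫ f = fh f s ≫ g S s := pullback.condition
  rw [h1, h2]
  change (fh f s) ⁻¹ᵁ ((g S s) ⁻¹ᵁ V) = ⊤
  rw [preimage_g_eq_top s V hs]
  rfl

/-- flat base change: `Γ(Y) = Γ(f⁻¹V₀) ⊗_{Γ(V₀)} Aʰ`. -/
theorem isPushout_sections [QuasiCompact f] [QuasiSeparated f] (V₀ : S.Opens)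
    (hV₀ : IsAffineOpen V₀) (hs : s ∈ V₀) :
    IsPushout (f.appLE V₀ (f ⁻¹ᵁ V₀) le_rfl)
      ((g S s).appLE V₀ ⊤ (by rw [preimage_g_eq_top s V₀ hs]))
      ((πX f s).appLE (f ⁻¹ᵁ V₀) ⊤ (by rw [preimage_πX_eq_top f s V₀ hs]))
      ((fh f s).appLE ⊤ ⊤ (top_le_preimage_top _)) := by
  have H := IsPullback.of_hasPullback f (g S s)
  have h1 : (⊤ : (T S s).Opens) ≤ (g S s) ⁻¹ᵁ V₀ := by rw [preimage_g_eq_top s V₀ hs]
  have h2 : f ⁻¹ᵁ V₀ ≤ f ⁻¹ᵁ V₀ := le_rfl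
  have h3 : (⊤ : (Y f s).Opens) = (πX f s) ⁻¹ᵁ (f ⁻¹ᵁ V₀) ⊓ (fh f s) ⁻¹ᵁ ⊤ := by
    rw [preimage_πX_eq_top f s V₀ hs]
    simp
  have hiso := isIso_pushoutSection_of_isQuasiSeparated_of_flat_right H
    (US := V₀) (UT := ⊤) (UX := f ⁻¹ᵁ V₀) (UY := ⊤) h1 h2 h3 hV₀
    (isAffineOpen_top (T S s)) (f.isCompact_preimage hV₀.isCompact)
    (f.isQuasiSeparated_preimage hV₀.isQuasiSeparated)
  exact (isIso_pushoutSection_iff H (US := V₀) (UT := ⊤) (UX := f ⁻¹ᵁ V₀) (UY := ⊤)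
    h1 h2 h3).mp hiso

end Pushout

section Main

open Groth.Agent.Lib.AbsApproxHyp62 Groth.Agent.Lib.ProperFinHyp Groth.Agent.Lib.ConnFib5
  Groth.Agent.Lib.HenselProper5 Groth.Agent.Lib.HenselCouple61

variable {X S : Scheme.{u}} (f : X ⟶ S) (s : S)

theorem top_le_preimage_fiberι (V : S.Opens) (hs : s ∈ V) :
    (⊤ : (f.fiber s).Opens) ≤ (f.fiberι s) ⁻¹ᵁ (f ⁻¹ᵁ V) := by
  intro x _
  have h1 : (f.fiberι s) x ∈ Set.range (f.fiberι s) := ⟨x, rfl⟩
  rw [f.range_fiberι s] at h1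
  change f ((f.fiberι s) x) ∈ V
  rw [h1]
  exact hs

/-- restriction of sections over `f⁻¹V` to the fibre over `s ∈ V`. -/
noncomputable def ρ (V : S.Opens) (hs : s ∈ V) : Γ(X, f ⁻¹ᵁ V) ⟶ Γ(f.fiber s, ⊤) :=
  (f.fiberι s).appLE (f ⁻¹ᵁ V) ⊤ (top_le_preimage_fiberι f s V hs)

theorem ρ_res (V V' : S.Opens) (hVV' : V' ≤ V) (hs : s ∈ V') :
    X.presheaf.map (homOfLE (f.preimage_mono hVV')).op ≫ ρ f s V' hs =
      ρ f s V (hVV' hs) := by
  rw [ρ, Scheme.Hom.map_appLE]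
  rfl

theorem ρ_eq_q (V : S.Opens) (hs : s ∈ V) :
    (πX f s).appLE (f ⁻¹ᵁ V) ⊤ (by rw [preimage_πX_eq_top f s V hs]) ≫ (q f s).appTop =
      ρ f s V hs := by
  rw [← appLE_top_top (q f s) (top_le_preimage_top _), Scheme.Hom.appLE_comp_appLE]
  exact appLE_congr_hom (q_fst f s) _ _ _

theorem fh_q : (fh f s).appLE ⊤ ⊤ (top_le_preimage_top _) ≫ (q f s).appTop =
    (ψ S s).appTop ≫ (f.fiberToSpecResidueField s).appTop := by
  rw [appLE_top_top, ← Scheme.Hom.comp_appTop, ← Scheme.Hom.comp_appTop, q_snd]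

theorem ρ_app (V : S.Opens) (hs : s ∈ V) :
    f.app V ≫ ρ f s V hs =
      (S.fromSpecResidueField s).appLE V ⊤ (top_le_preimage_fromSpecResidueField S s V hs) ≫
        (f.fiberToSpecResidueField s).appTop := by
  rw [← appLE_top_top (f.fiberToSpecResidueField s) (top_le_preimage_top _),
    Scheme.Hom.appLE_comp_appLE,
    ← appLE_congr_hom (f.fiber_fac s) V ⊤ (top_le_preimage_fiberι f s V hs), ρ]
  exact (Scheme.Hom.comp_appLE _ _ _ _ _).symm

variable (H : Hyp7383.{u}) (H2 : Hyp.{u}) (H58 : Hyp58.{u})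

/-- every global section of `Y` restricts on the closed fibre to the restriction of a section of
`O_X` over `f⁻¹(V)`, `V ∋ s`. -/
theorem exists_section_of_Y [QuasiCompact f] [QuasiSeparated f] (y : Γ(Y f s, ⊤)) :
    ∃ (V : S.Opens) (hs : s ∈ V) (t : Γ(X, f ⁻¹ᵁ V)),
      (ρ f s V hs).hom t = (q f s).appTop.hom y := by
  obtain ⟨_, ⟨V₀, hV₀, rfl⟩, hsV₀, -⟩ :=
    S.isBasis_affineOpens.exists_subset_of_mem_open (Set.mem_univ s) isOpen_univ
  refine isPushout_induction (isPushout_sections f s V₀ hV₀ hsV₀)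
    (fun y => ∃ (V : S.Opens) (hs : s ∈ V) (t : Γ(X, f ⁻¹ᵁ V)),
      (ρ f s V hs).hom t = (q f s).appTop.hom y) ?_ ?_ ?_ y
  · exact ⟨⊤, trivial, 0, by rw [map_zero, map_zero]⟩
  · rintro y₁ y₂ ⟨V₁, hs₁, t₁, ht₁⟩ ⟨V₂, hs₂, t₂, ht₂⟩
    have hs12 : s ∈ V₁ ⊓ V₂ := ⟨hs₁, hs₂⟩
    refine ⟨V₁ ⊓ V₂, hs12,
      (X.presheaf.map (homOfLE (f.preimage_mono (inf_le_left : V₁ ⊓ V₂ ≤ V₁))).op).hom t₁ +
      (X.presheaf.map (homOfLE (f.preimage_mono (inf_le_right : V₁ ⊓ V₂ ≤ V₂))).op).hom t₂, ?_⟩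
    rw [map_add, map_add, ← ht₁, ← ht₂]
    congr 1
    · exact congr($(ρ_res f s V₁ (V₁ ⊓ V₂) inf_le_left hs12).hom t₁)
    · exact congr($(ρ_res f s V₂ (V₁ ⊓ V₂) inf_le_right hs12).hom t₂)
  · intro x a
    obtain ⟨V, hVV₀, hsV, σ, hσ⟩ := exists_section_of_residue S s ((ψ S s).appTop.hom a) V₀ hsV₀
    refine ⟨V, hsV, (X.presheaf.map (homOfLE (f.preimage_mono hVV₀)).op).hom x *
      (f.app V).hom σ, ?_⟩
    rw [map_mul, map_mul]
    congr 1
    · have h1 := congr($(ρ_res f s V₀ V hVV₀ hsV).hom x)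
      have h2 := congr($(ρ_eq_q f s V₀ hsV₀).hom x)
      exact h1.trans h2.symm
    · have h1 := congr($(ρ_app f s V hsV).hom σ)
      have h2 := congr($(fh_q f s).hom a)
      simp only [CommRingCat.hom_comp, RingHom.comp_apply] at h1 h2
      rw [hσ] at h1
      exact h1.trans h2.symm

include H H2 H58 in
/-- **S0979 (hypothesis form).** Idempotents on a fibre of a proper morphism are restrictions of
sections of `O_X` over `f⁻¹(V)` for a neighbourhood `V` of `s`. -/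
theorem exists_section_of_idempotent [IsProper f] (e : Γ(f.fiber s, ⊤))
    (he : IsIdempotentElem e) :
    ∃ (V : S.Opens) (hs : s ∈ V) (t : Γ(X, f ⁻¹ᵁ V)), (ρ f s V hs).hom t = e := by
  obtain ⟨e₁, -, he₁⟩ := exists_idempotent_lift f s H H2 H58 e he
  obtain ⟨V, hs, t, ht⟩ := exists_section_of_Y f s e₁
  exact ⟨V, hs, t, ht.trans he₁⟩

include H H2 H58 in
/-- **S0979 (hypothesis form)**, in the shape of the milestone statement. -/
theorem exists_section_of_idempotent' [IsProper f] (e : (f.fiber s).presheaf.obj (op ⊤))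
    (he : IsIdempotentElem e) :
    ∃ (V : S.Opens) (_ : s ∈ V) (t : X.presheaf.obj (op (f ⁻¹ᵁ V))),
      ((f.fiberι s).app (f ⁻¹ᵁ V)).hom t =
        ((f.fiber s).presheaf.map
          (homOfLE (le_top : (f.fiberι s) ⁻¹ᵁ (f ⁻¹ᵁ V) ≤ ⊤)).op).hom e := by
  obtain ⟨V, hs, t, ht⟩ := exists_section_of_idempotent f s H H2 H58 e he
  refine ⟨V, hs, t, ?_⟩
  rw [← ht, ρ, Scheme.Hom.appLE, CommRingCat.comp_apply, ← CommRingCat.comp_apply,
    ← Functor.map_comp]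
  have h1 : (homOfLE (top_le_preimage_fiberι f s V hs)).op ≫
      (homOfLE (le_top : (f.fiberι s) ⁻¹ᵁ (f ⁻¹ᵁ V) ≤ ⊤)).op = 𝟙 _ := rfl
  rw [h1, CategoryTheory.Functor.map_id]
  rfl

end Main

end Groth.Agent.Lib.IdemFibre5
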