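import Groth.Agent.S13719
import Groth.Agent.Lib.QuotLaw23

/-!
# Multiplicity of a multiplicative law along an idempotent, over a connected base (helper23)
-/

set_option autoImplicit false
universe u
open scoped TensorProduct

namespace Groth.Agent.Lib.IdemMult23

variable {A : Type u} [CommRing A] {B : Type u} [CommRing B] [Algebra A B] {d : ℕ}

/-- The family `s ↦ 1 ⊗ (1 - e) + s ⊗ e`. -/
noncomputable def EE (e : B) (S : Type u) [CommSemiring S] [Algebra A S] (s : S) : S ⊗[A] B :=
  (1 : S) ⊗ₜ[A] (1 - e) + s ⊗ₜ[A] e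

theorem EE_nat (e : B) (S S' : Type u) [CommSemiring S] [Algebra A S] [CommSemiring S'] [Algebra A S']
    (ψ : S →ₐ[A] S') (s : S) : ψ.toLinearMap.rTensor B (EE e S s) = EE e S' (ψ s) := by
  simp [EE]

theorem EE_mul_gen {e : B} (he : IsIdempotentElem e) (S : Type u) [CommSemiring S] [Algebra A S]
    (s s' : S) : EE (A := A) e S s * EE e S s' = EE e S (s * s') := by
  have h1 : (1 - e) * (1 - e) = 1 - e := he.one_sub.eq
  have h2 : (1 - e) * e = 0 := by rw [sub_mul, one_mul, he.eq, sub_self]
  have h3 : e * (1 - e) = 0 := by rw [mul_comm, h2]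
  simp only [EE, add_mul, mul_add, Algebra.TensorProduct.tmul_mul_tmul, h1, h2, h3, he.eq,
    TensorProduct.tmul_zero, add_zero, zero_add, one_mul, mul_one]

theorem EE_mul {e : B} (he : IsIdempotentElem e) (S : Type u) [CommSemiring S] [Algebra A S]
    (s s' : S) : EE (A := A) e S s * EE e S s' = EE e S (s * s') :=
  EE_mul_gen he S s s'

theorem EE_one (e : B) (S : Type u) [CommSemiring S] [Algebra A S] : EE (A := A) e S 1 = 1 := by
  rw [EE, ← TensorProduct.tmul_add, sub_add_cancel, Algebra.TensorProduct.one_def]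

/-- For orthogonal idempotents the families multiply to the family of the sum. -/
theorem EE_add {e e' : B} (h : e * e' = 0) (_he : IsIdempotentElem e) (_he' : IsIdempotentElem e')
    (S : Type u) [CommSemiring S] [Algebra A S] (s : S) :
    EE (A := A) e S s * EE e' S s = EE (e + e') S s := by
  have h1 : (1 - e) * (1 - e') = 1 - (e + e') := by
    rw [sub_mul, mul_sub, mul_sub, h]; ring
  have h2 : (1 - e) * e' = e' := by rw [sub_mul, one_mul, h, sub_zero]
  have h3 : e * (1 - e') = e := by rw [mul_sub, mul_one, h, sub_zero]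
  simp only [EE, add_mul, mul_add, Algebra.TensorProduct.tmul_mul_tmul, h1, h2, h3, h,
    TensorProduct.tmul_zero, add_zero, one_mul, mul_one, TensorProduct.tmul_add]
  abel

variable [ConnectedSpace (PrimeSpectrum A)]

theorem exists_mult (G : PolLaw.MulLaw A B A d) {e : B} (he : IsIdempotentElem e) :
    ∃ k : ℕ, ∀ (S : Type u) [CommSemiring S] [Algebra A S] (s : S),
      G.law.toFun' S (EE e S s) = (s ^ k) ⊗ₜ[A] (1 : A) :=
  Groth.Agent.S13719.exists_pow G.law G.mult (fun S _ _ s => EE e S s)
    (fun S S' _ _ _ _ ψ s => EE_nat e S S' ψ s)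
    (fun S _ _ s s' => EE_mul he S s s') (fun S _ _ => EE_one e S)

open Classical in
/-- The multiplicity of `G` along the idempotent `e`. -/
noncomputable def mult (G : PolLaw.MulLaw A B A d) (e : B) : ℕ :=
  if h : ∃ k : ℕ, ∀ (S : Type u) [CommSemiring S] [Algebra A S] (s : S),
      G.law.toFun' S (EE e S s) = (s ^ k) ⊗ₜ[A] (1 : A) then h.choose else 0

theorem mult_spec (G : PolLaw.MulLaw A B A d) {e : B} (he : IsIdempotentElem e)
    (S : Type u) [CommSemiring S] [Algebra A S] (s : S) :
    G.law.toFun' S (EE e S s) = (s ^ mult G e) ⊗ₜ[A] (1 : A) := by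
  have h := exists_mult G he
  rw [mult, dif_pos h]
  exact h.choose_spec S s

theorem mult_unique (G : PolLaw.MulLaw A B A d) {e : B} (he : IsIdempotentElem e) (k : ℕ)
    (h : G.law.toFun' (Polynomial A) (EE e (Polynomial A) Polynomial.X) =
      ((Polynomial.X : Polynomial A) ^ k) ⊗ₜ[A] (1 : A)) : mult G e = k := by
  have : Nontrivial A := Groth.Agent.S13719.nontrivial_of_connected
  have h1 := mult_spec G he (Polynomial A) Polynomial.X
  rw [h] at h1
  exact (Groth.Agent.S13719.X_pow_tmul_inj h1).symm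

theorem mult_one (G : PolLaw.MulLaw A B A d) : mult G (1 : B) = d := by
  apply mult_unique G IsIdempotentElem.one
  have : EE (A := A) (1 : B) (Polynomial A) Polynomial.X =
      (Polynomial.X : Polynomial A) • (1 : Polynomial A ⊗[A] B) := by
    rw [EE, sub_self, TensorProduct.tmul_zero, zero_add, Algebra.TensorProduct.one_def,
      TensorProduct.smul_tmul', smul_eq_mul, mul_one]
  rw [this, G.homog, (G.mult _).1, Algebra.TensorProduct.one_def, TensorProduct.smul_tmul', smul_eq_mul,
    mul_one]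

theorem mult_add (G : PolLaw.MulLaw A B A d) {e e' : B} (h : e * e' = 0) (he : IsIdempotentElem e)
    (he' : IsIdempotentElem e') : mult G (e + e') = mult G e + mult G e' := by
  have hsum : IsIdempotentElem (e + e') := by
    show (e + e') * (e + e') = e + e'
    rw [add_mul, mul_add, mul_add, he.eq, he'.eq, h, mul_comm e' e, h]; ring
  apply mult_unique G hsum
  rw [← EE_add h he he', (G.mult _).2, mult_spec G he, mult_spec G he', Algebra.TensorProduct.tmul_mul_tmul,
    mul_one, pow_add]

theorem mult_pos (G : PolLaw.MulLaw A B A d) (hker : PolLaw.ker G.law = ⊥) {e : B}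
    (he : IsIdempotentElem e) (hne : e ≠ 0) : 0 < mult G e := by
  by_contra h0
  have h0' : mult G e = 0 := by omega
  apply hne
  rw [← Ideal.mem_bot, ← hker]
  intro S _ _ x w
  have h1 : G.law.toFun' S ((1 : S) ⊗ₜ[A] (1 - e)) = 1 := by
    have := mult_spec G he S (0 : S)
    rw [h0', pow_zero, EE, TensorProduct.zero_tmul, add_zero] at this
    rw [this, Algebra.TensorProduct.one_def]
  have h2 : (x + w * ((1 : S) ⊗ₜ[A] e)) * ((1 : S) ⊗ₜ[A] (1 - e)) = x * ((1 : S) ⊗ₜ[A] (1 - e)) := by
    have h3 : e * (1 - e) = 0 := by rw [mul_sub, mul_one, he.eq, sub_self]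
    rw [add_mul, mul_assoc, Algebra.TensorProduct.tmul_mul_tmul, h3,
      TensorProduct.tmul_zero, mul_zero, add_zero]
  calc G.law.toFun' S (x + w * ((1 : S) ⊗ₜ[A] e))
      = G.law.toFun' S (x + w * ((1 : S) ⊗ₜ[A] e)) * G.law.toFun' S ((1 : S) ⊗ₜ[A] (1 - e)) := by
        rw [h1, mul_one]
    _ = G.law.toFun' S (x * ((1 : S) ⊗ₜ[A] (1 - e))) := by rw [← (G.mult S).2, h2]
    _ = G.law.toFun' S x := by rw [(G.mult S).2, h1, mul_one]

theorem mult_sum (G : PolLaw.MulLaw A B A d) {ι : Type*} [DecidableEq ι] (e : ι → B)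
    (he : ∀ i, IsIdempotentElem (e i)) (horth : ∀ i j, i ≠ j → e i * e j = 0) (s : Finset ι) :
    IsIdempotentElem (∑ i ∈ s, e i) ∧ mult G (∑ i ∈ s, e i) = ∑ i ∈ s, mult G (e i) := by
  induction s using Finset.induction_on with
  | empty =>
    refine ⟨by simp [IsIdempotentElem], ?_⟩
    simp only [Finset.sum_empty]
    apply mult_unique G IsIdempotentElem.zero
    rw [EE, sub_zero, TensorProduct.tmul_zero, add_zero, ← Algebra.TensorProduct.one_def, (G.mult _).1,
      pow_zero, Algebra.TensorProduct.one_def]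
  | insert a s ha ih =>
    have h0 : e a * ∑ i ∈ s, e i = 0 := by
      rw [Finset.mul_sum]
      exact Finset.sum_eq_zero fun i hi => horth a i (fun h => ha (h ▸ hi))
    rw [Finset.sum_insert ha, Finset.sum_insert ha, mult_add G h0 (he a) ih.1, ih.2]
    refine ⟨?_, rfl⟩
    show (e a + ∑ i ∈ s, e i) * (e a + ∑ i ∈ s, e i) = _
    rw [add_mul, mul_add, mul_add, (he a).eq, ih.1.eq, h0, mul_comm _ (e a), h0]; ring

/-- A family of `n` nonzero pairwise orthogonal idempotents, for a law with zero kernel of degree `d` over a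
connected base, has `n ≤ d`. -/
theorem card_le (G : PolLaw.MulLaw A B A d) (hker : PolLaw.ker G.law = ⊥) {n : ℕ} (e : Fin n → B)
    (he : ∀ i, IsIdempotentElem (e i)) (horth : ∀ i j, i ≠ j → e i * e j = 0) (hne : ∀ i, e i ≠ 0) :
    n ≤ d := by
  obtain ⟨hid, hsum⟩ := mult_sum G e he horth Finset.univ
  have h1 : n ≤ mult G (∑ i, e i) := by
    rw [hsum]
    calc n = ∑ _i : Fin n, 1 := by simp
      _ ≤ ∑ i, mult G (e i) := Finset.sum_le_sum fun i _ => mult_pos G hker (he i) (hne i)
  have h2 : mult G (∑ i, e i) + mult G (1 - ∑ i, e i) = d := by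
    rw [← mult_add G _ hid hid.one_sub, add_sub_cancel, mult_one]
    rw [mul_sub, mul_one, hid.eq, sub_self]
  omega

end Groth.Agent.Lib.IdemMult23
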