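/-
Presentations of finite projective modules by idempotent matrices, and their base change.
Author: helper89
-/
import Mathlib.RingTheory.TensorProduct.Free
import Mathlib.LinearAlgebra.Matrix.ToLin
import Mathlib.Algebra.Module.Projective
import Mathlib.RingTheory.Finiteness.Basic
import Mathlib.RingTheory.Finiteness.Cardinality
import Mathlib.LinearAlgebra.TensorProduct.Tower

set_option autoImplicit false

namespace Groth.Agent.Lib.IdemPres

open TensorProduct

variable {R : Type*} [CommRing R]

/-- `P` is presented by the (idempotent) matrix `e`: it is a retract of `R ^ n` with associated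
projector `e`. -/
def Pres (P : Type*) [AddCommGroup P] [Module R P] {n : ℕ} (e : Matrix (Fin n) (Fin n) R) : Prop :=
  ∃ (i : P →ₗ[R] (Fin n → R)) (s : (Fin n → R) →ₗ[R] P),
    s ∘ₗ i = LinearMap.id ∧ LinearMap.toMatrix' (i ∘ₗ s) = e

/-- A finite projective module is presented by some matrix. -/
theorem exists_pres (P : Type*) [AddCommGroup P] [Module R P] [Module.Finite R P]
    [Module.Projective R P] : ∃ (n : ℕ) (e : Matrix (Fin n) (Fin n) R), Pres P e := by
  obtain ⟨n, s, hs⟩ := Module.Finite.exists_fin' R P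
  obtain ⟨i, hi⟩ := Module.projective_lifting_property s LinearMap.id hs
  exact ⟨n, _, i, s, hi, rfl⟩

/-- Two modules presented by the same matrix are isomorphic. -/
theorem Pres.nonempty_equiv {P P' : Type*} [AddCommGroup P] [Module R P] [AddCommGroup P']
    [Module R P'] {n : ℕ} {e : Matrix (Fin n) (Fin n) R} (h : Pres P e) (h' : Pres P' e) :
    Nonempty (P ≃ₗ[R] P') := by
  obtain ⟨i, s, hsi, he⟩ := h
  obtain ⟨i', s', hsi', he'⟩ := h'
  have hee : i ∘ₗ s = i' ∘ₗ s' := LinearMap.toMatrix'.injective (he.trans he'.symm)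
  have hsi1 : ∀ x, s (i x) = x := fun x => LinearMap.congr_fun hsi x
  have hsi2 : ∀ x, s' (i' x) = x := fun x => LinearMap.congr_fun hsi' x
  have hee1 : ∀ v, i (s v) = i' (s' v) := fun v => LinearMap.congr_fun hee v
  refine ⟨LinearEquiv.ofLinearMap (s' ∘ₗ i) (s ∘ₗ i') ?_ ?_⟩
  · ext x
    simp only [LinearMap.comp_apply, LinearMap.id_apply]
    rw [hee1, hsi2, hsi2]
  · ext x
    simp only [LinearMap.comp_apply, LinearMap.id_apply]
    rw [← hee1, hsi1, hsi1]

/-- The range of an idempotent matrix is presented by it. -/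
theorem pres_range {n : ℕ} (e : Matrix (Fin n) (Fin n) R) (he : e * e = e) :
    Pres (LinearMap.range (Matrix.toLin' e)) e := by
  refine ⟨(LinearMap.range (Matrix.toLin' e)).subtype, (Matrix.toLin' e).rangeRestrict, ?_, ?_⟩
  · apply LinearMap.ext
    rintro ⟨x, v, rfl⟩
    apply Subtype.ext
    show Matrix.toLin' e (Matrix.toLin' e v) = Matrix.toLin' e v
    rw [← LinearMap.comp_apply, ← Matrix.toLin'_mul, he]
  · have : (LinearMap.range (Matrix.toLin' e)).subtype ∘ₗ (Matrix.toLin' e).rangeRestrict =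
        Matrix.toLin' e := by
      ext v
      rfl
    rw [this, LinearMap.toMatrix'_toLin']

theorem Pres.idem {P : Type*} [AddCommGroup P] [Module R P] {n : ℕ}
    {e : Matrix (Fin n) (Fin n) R} (h : Pres P e) : e * e = e := by
  obtain ⟨i, s, hsi, he⟩ := h
  rw [← he, ← LinearMap.toMatrix'_comp]
  congr 1
  have : (i ∘ₗ s) ∘ₗ (i ∘ₗ s) = i ∘ₗ (s ∘ₗ i) ∘ₗ s := rfl
  rw [this, hsi, LinearMap.id_comp]

theorem finite_range {n : ℕ} (e : Matrix (Fin n) (Fin n) R) :
    Module.Finite R (LinearMap.range (Matrix.toLin' e)) :=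
  Module.Finite.range _

theorem projective_of_pres {P : Type*} [AddCommGroup P] [Module R P] {n : ℕ}
    {e : Matrix (Fin n) (Fin n) R} (h : Pres P e) : Module.Projective R P := by
  obtain ⟨i, s, hsi, -⟩ := h
  exact Module.Projective.of_split i s hsi

/-- Base change of a presentation. -/
theorem Pres.baseChange {P : Type*} [AddCommGroup P] [Module R P] {n : ℕ}
    {e : Matrix (Fin n) (Fin n) R} (h : Pres P e) (S : Type*) [CommRing S] [Algebra R S] :
    Pres (R := S) (S ⊗[R] P) (e.map (algebraMap R S)) := by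
  classical
  obtain ⟨i, s, hsi, he⟩ := h
  let bS := Algebra.TensorProduct.basis S (Pi.basisFun R (Fin n))
  refine ⟨bS.equivFun.toLinearMap ∘ₗ i.baseChange S,
    s.baseChange S ∘ₗ bS.equivFun.symm.toLinearMap, ?_, ?_⟩
  · apply LinearMap.ext
    intro x
    show s.baseChange S (bS.equivFun.symm (bS.equivFun (i.baseChange S x))) = x
    rw [LinearEquiv.symm_apply_apply, ← LinearMap.comp_apply, ← LinearMap.baseChange_comp, hsi,
      LinearMap.baseChange_id, LinearMap.id_apply]
  · have h1 : (bS.equivFun.toLinearMap ∘ₗ i.baseChange S) ∘ₗ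
        (s.baseChange S ∘ₗ bS.equivFun.symm.toLinearMap) =
        bS.equivFun.toLinearMap ∘ₗ (i ∘ₗ s).baseChange S ∘ₗ bS.equivFun.symm.toLinearMap := by
      rw [LinearMap.baseChange_comp]
      rfl
    rw [h1]
    have h2 : LinearMap.toMatrix' (bS.equivFun.toLinearMap ∘ₗ (i ∘ₗ s).baseChange S ∘ₗ
        bS.equivFun.symm.toLinearMap) = LinearMap.toMatrix bS bS ((i ∘ₗ s).baseChange S) := rfl
    rw [h2, LinearMap.toMatrix_baseChange, LinearMap.toMatrix_eq_toMatrix', he]

end Groth.Agent.Lib.IdemPres
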