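import Mathlib

/-!
# Idempotents of a tensor product over an algebraically closed field (helper55)

Over an algebraically closed field `k`, every idempotent of `A ⊗[k] B` (`A`, `B` arbitrary
commutative `k`-algebras) is a finite sum of pure tensors `f ⊗ g` of idempotents
(`π₀(X × Y) = π₀(X) × π₀(Y)`).  Mathlib only.

* `exists_algHom_apply_eq_one`: a nonzero idempotent of a finitely generated algebra takes the value
  `1` at some rational point;
* `eq_zero_of_primitive`: the fibrewise vanishing lemma;
* `mul_mem_idemSpan`, `mem_idemSpan_fg`: the finitely generated case (well-founded induction on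
  idempotents);
* `mem_idemSpan`: the general case.
-/

set_option autoImplicit false
universe u v w
open TensorProduct

namespace Groth.Agent.Lib.IdemTensor55

section Null

/-- Weak Nullstellensatz: a proper ideal of a finitely generated algebra over an algebraically
closed field is contained in the kernel of a rational point. -/
theorem exists_algHom_ker_ge {k : Type*} [Field k] [IsAlgClosed k] {R : Type*} [CommRing R]
    [Algebra k R] [Algebra.FiniteType k R] (I : Ideal R) (hI : I ≠ ⊤) :
    ∃ z : R →ₐ[k] k, I ≤ RingHom.ker z := by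
  obtain ⟨𝔪, h𝔪, hI𝔪⟩ := Ideal.exists_le_maximal I hI
  have := h𝔪
  let _ : Field (R ⧸ 𝔪) := Ideal.Quotient.field 𝔪
  have : Algebra.FiniteType k (R ⧸ 𝔪) :=
    Algebra.FiniteType.of_surjective (Ideal.Quotient.mkₐ k 𝔪) (Ideal.Quotient.mkₐ_surjective k 𝔪)
  have : Module.Finite k (R ⧸ 𝔪) := finite_of_finite_type_of_isJacobsonRing k (R ⧸ 𝔪)
  have : Algebra.IsIntegral k (R ⧸ 𝔪) := Algebra.IsIntegral.of_finite k _
  have hbij := IsAlgClosed.algebraMap_bijective_of_isIntegral (k := k) (K := R ⧸ 𝔪)
  let e : k ≃ₐ[k] (R ⧸ 𝔪) := AlgEquiv.ofBijective (Algebra.ofId k _) hbij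
  refine ⟨(e.symm : (R ⧸ 𝔪) →ₐ[k] k).comp (Ideal.Quotient.mkₐ k 𝔪), ?_⟩
  intro f hf
  rw [RingHom.mem_ker]
  show e.symm (Ideal.Quotient.mk 𝔪 f) = 0
  rw [Ideal.Quotient.eq_zero_iff_mem.2 (hI𝔪 hf), map_zero]

/-- An element killed by every rational point is nilpotent. -/
theorem isNilpotent_of_forall_algHom_eq_zero {k : Type*} [Field k] [IsAlgClosed k] {A : Type*}
    [CommRing A] [Algebra k A] [Algebra.FiniteType k A] (a : A)
    (h : ∀ g : A →ₐ[k] k, g a = 0) : IsNilpotent a := by
  have hJ : IsJacobsonRing A := isJacobsonRing_of_finiteType (A := k) (B := A)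
  rw [← mem_nilradical]
  show a ∈ (⊥ : Ideal A).radical
  rw [Ideal.radical_eq_jacobson, Ideal.jacobson, Ideal.mem_sInf]
  rintro J ⟨-, hJmax⟩
  obtain ⟨g, hg⟩ := exists_algHom_ker_ge (k := k) J hJmax.ne_top
  have hker : RingHom.ker g ≠ ⊤ := by
    intro htop
    have : (1 : A) ∈ RingHom.ker g := by rw [htop]; trivial
    rw [RingHom.mem_ker, map_one] at this
    exact one_ne_zero this
  have hJeq : J = RingHom.ker g := hJmax.eq_of_le hker hg
  rw [hJeq, RingHom.mem_ker]
  exact h g

/-- A nonzero idempotent takes the value `1` at some rational point. -/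
theorem exists_algHom_apply_eq_one {k : Type*} [Field k] [IsAlgClosed k] {A : Type*}
    [CommRing A] [Algebra k A] [Algebra.FiniteType k A] (a : A) (ha : IsIdempotentElem a)
    (h0 : a ≠ 0) : ∃ x : A →ₐ[k] k, x a = 1 := by
  by_contra hcon
  push_neg at hcon
  apply h0
  apply ha.eq_zero_of_isNilpotent
  apply isNilpotent_of_forall_algHom_eq_zero (k := k)
  intro g
  have hg : IsIdempotentElem (g a) := ha.map g
  rcases IsIdempotentElem.iff_eq_zero_or_one.1 hg with h | h
  · exact h
  · exact absurd h (hcon g)

end Null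

section Ev

variable {k : Type u} [Field k] {A : Type v} [CommRing A] [Algebra k A]
  {B : Type w} [CommRing B] [Algebra k B]

/-- Evaluate the left factor at a rational point. -/
noncomputable def evL (x : A →ₐ[k] k) : A ⊗[k] B →ₐ[k] B :=
  Algebra.TensorProduct.lift ((Algebra.ofId k B).comp x) (AlgHom.id k B) (fun _ _ => Commute.all _ _)

/-- Evaluate the right factor at a rational point. -/
noncomputable def evR (y : B →ₐ[k] k) : A ⊗[k] B →ₐ[k] A :=
  Algebra.TensorProduct.lift (AlgHom.id k A) ((Algebra.ofId k A).comp y) (fun _ _ => Commute.all _ _)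

@[simp] theorem evL_tmul (x : A →ₐ[k] k) (a : A) (b : B) : evL x (a ⊗ₜ[k] b) = x a • b := by
  simp [evL, Algebra.ofId_apply, Algebra.smul_def]

@[simp] theorem evR_tmul (y : B →ₐ[k] k) (a : A) (b : B) : evR y (a ⊗ₜ[k] b) = y b • a := by
  simp [evR, Algebra.ofId_apply, Algebra.smul_def, mul_comm]

theorem apply_evR (x : A →ₐ[k] k) (y : B →ₐ[k] k) (u : A ⊗[k] B) :
    x (evR y u) = y (evL x u) := by
  induction u using TensorProduct.induction_on with
  | zero => simp
  | add u v hu hv => simp only [map_add, hu, hv]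
  | tmul a b => simp [mul_comm]

/-- If all evaluations `evR y u` vanish and `B` is finitely generated over an algebraically closed
field, `u` is nilpotent. -/
theorem isNilpotent_of_forall_evR_eq_zero [IsAlgClosed k] [Algebra.FiniteType k B]
    (u : A ⊗[k] B) (h : ∀ y : B →ₐ[k] k, evR y u = 0) : IsNilpotent u := by
  classical
  let b := Module.Basis.ofVectorSpace k A
  let coef := TensorProduct.equivFinsuppOfBasisLeft (N := B) b u
  have hsum : u = coef.sum fun i m => b i ⊗ₜ[k] m := by
    rw [← TensorProduct.equivFinsuppOfBasisLeft_symm_apply, LinearEquiv.symm_apply_apply]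
  have hy : ∀ (y : B →ₐ[k] k) (i) (w : A ⊗[k] B),
      y (TensorProduct.equivFinsuppOfBasisLeft (N := B) b w i) = b.coord i (evR y w) := by
    intro y i w
    induction w using TensorProduct.induction_on with
    | zero => simp
    | add w w' hw hw' => simp only [map_add, Finsupp.add_apply, hw, hw']
    | tmul a c =>
      rw [TensorProduct.equivFinsuppOfBasisLeft_apply_tmul_apply]
      simp [mul_comm]
  have hnil : ∀ i, IsNilpotent (coef i) := by
    intro i
    apply isNilpotent_of_forall_algHom_eq_zero (k := k)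
    intro y
    rw [hy y i u, h y, map_zero]
  rw [hsum, Finsupp.sum, ← mem_nilradical]
  refine Ideal.sum_mem _ fun i _ => ?_
  rw [mem_nilradical]
  obtain ⟨n, hn⟩ := hnil i
  refine ⟨n, ?_⟩
  rw [Algebra.TensorProduct.tmul_pow, hn, TensorProduct.tmul_zero]

/-- Fibrewise vanishing: an idempotent of `A ⊗ B` lying under `a ⊗ 1`, for a primitive idempotent
`a` of `A`, which vanishes at one rational point `x` of `A` with `x a = 1`, is zero. -/
theorem eq_zero_of_primitive [IsAlgClosed k] [Algebra.FiniteType k B]
    (a : A) (ha : ∀ f : A, IsIdempotentElem f → f * a = f → f = 0 ∨ f = a)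
    (x : A →ₐ[k] k) (hx : x a = 1)
    (u : A ⊗[k] B) (hu : IsIdempotentElem u) (hua : u * (a ⊗ₜ[k] (1 : B)) = u)
    (hxu : evL x u = 0) : u = 0 := by
  apply hu.eq_zero_of_isNilpotent
  apply isNilpotent_of_forall_evR_eq_zero
  intro y
  have hw : IsIdempotentElem (evR y u) := hu.map (evR y)
  have hwa : evR y u * a = evR y u := by
    have := congrArg (evR y) hua
    rw [map_mul, evR_tmul, map_one, one_smul] at this
    exact this
  rcases ha _ hw hwa with h | h
  · exact h
  · exfalso
    have h1 : x (evR y u) = 1 := by rw [h, hx]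
    rw [apply_evR, hxu, map_zero] at h1
    exact zero_ne_one h1

end Ev

section Main

variable (k : Type u) [Field k] (A : Type v) [CommRing A] [Algebra k A]
  (B : Type w) [CommRing B] [Algebra k B]

/-- The span of the pure tensors of idempotents. -/
def idemSpan : Submodule k (A ⊗[k] B) :=
  Submodule.span k {t | ∃ f : A, ∃ g : B, IsIdempotentElem f ∧ IsIdempotentElem g ∧ t = f ⊗ₜ[k] g}

variable {k A B}

theorem tmul_mem_idemSpan {f : A} {g : B} (hf : IsIdempotentElem f) (hg : IsIdempotentElem g) :
    f ⊗ₜ[k] g ∈ idemSpan k A B :=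
  Submodule.subset_span ⟨f, g, hf, hg, rfl⟩

/-- The primitive case. -/
theorem mul_tmul_eq_of_primitive [IsAlgClosed k] [Algebra.FiniteType k B]
    (v : A ⊗[k] B) (hv : IsIdempotentElem v)
    (a : A) (ha : IsIdempotentElem a)
    (hprim : ∀ f : A, IsIdempotentElem f → f * a = f → f = 0 ∨ f = a)
    (x : A →ₐ[k] k) (hx : x a = 1) :
    v * (a ⊗ₜ[k] (1 : B)) = a ⊗ₜ[k] evL x v := by
  set g : B := evL x v with hg
  have hgi : IsIdempotentElem g := hv.map (evL x)
  set P : A ⊗[k] B := a ⊗ₜ[k] (1 : B) with hP
  have hPP : P * P = P := by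
    rw [hP, Algebra.TensorProduct.tmul_mul_tmul, ha.eq, mul_one]
  set G : A ⊗[k] B := (1 : A) ⊗ₜ[k] g with hG
  have hGG : G * G = G := by
    rw [hG, Algebra.TensorProduct.tmul_mul_tmul, hgi.eq, mul_one]
  have hvv : v * v = v := hv.eq
  have hxP : evL x P = 1 := by rw [hP, evL_tmul, hx, one_smul]
  have hxG : evL x G = g := by rw [hG, evL_tmul, map_one, one_smul]
  have hu : v * P * (1 - G) = 0 := by
    apply eq_zero_of_primitive a hprim x hx
    · show (v * P * (1 - G)) * (v * P * (1 - G)) = v * P * (1 - G)
      linear_combination (P * P * (1 - G) * (1 - G)) * hvv + (v * (1 - G) * (1 - G)) * hPP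
        + (v * P) * hGG
    · show v * P * (1 - G) * P = v * P * (1 - G)
      linear_combination (v * (1 - G)) * hPP
    · rw [map_mul, map_mul, map_sub, map_one, hxP, hxG, ← hg, mul_one]
      have := hgi.eq
      linear_combination (-1 : B) * this
  have hu' : (1 - v) * P * G = 0 := by
    apply eq_zero_of_primitive a hprim x hx
    · show ((1 - v) * P * G) * ((1 - v) * P * G) = (1 - v) * P * G
      linear_combination (P * P * G * G) * hvv + ((1 - v) * G * G) * hPP
        + ((1 - v) * P) * hGG
    · show (1 - v) * P * G * P = (1 - v) * P * G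
      linear_combination ((1 - v) * G) * hPP
    · rw [map_mul, map_mul, map_sub, map_one, hxP, hxG, ← hg, mul_one]
      have := hgi.eq
      linear_combination (-1 : B) * this
  have hPG : a ⊗ₜ[k] g = P * G := by
    rw [hP, hG, Algebra.TensorProduct.tmul_mul_tmul, mul_one, one_mul]
  rw [hPG]
  linear_combination hu - hu'

/-- Finitely generated case, localised at an idempotent `a` of `A`. -/
theorem mul_mem_idemSpan [IsAlgClosed k] [Algebra.FiniteType k A] [Algebra.FiniteType k B]
    (v : A ⊗[k] B) (hv : IsIdempotentElem v) (a : A) (ha : IsIdempotentElem a) :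
    v * (a ⊗ₜ[k] (1 : B)) ∈ idemSpan k A B := by
  have hN : IsNoetherianRing A := Algebra.FiniteType.isNoetherianRing k A
  suffices H : ∀ I : Ideal A, ∀ a : A, IsIdempotentElem a → Ideal.span {1 - a} = I →
      v * (a ⊗ₜ[k] (1 : B)) ∈ idemSpan k A B from H _ a ha rfl
  intro I
  induction I using WellFoundedGT.induction with
  | ind I IH =>
    intro a ha hI
    by_cases h0 : a = 0
    · rw [h0, TensorProduct.zero_tmul, mul_zero]; exact Submodule.zero_mem _
    by_cases hprim : ∀ f : A, IsIdempotentElem f → f * a = f → f = 0 ∨ f = a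
    · obtain ⟨x, hx⟩ := exists_algHom_apply_eq_one (k := k) a ha h0
      rw [mul_tmul_eq_of_primitive v hv a ha hprim x hx]
      exact tmul_mem_idemSpan ha (hv.map (evL x))
    · push_neg at hprim
      obtain ⟨f, hf, hfa, hf0, hfne⟩ := hprim
      have hfi : f * f = f := hf.eq
      have hai : a * a = a := ha.eq
      have haf : IsIdempotentElem (a - f) := by
        show (a - f) * (a - f) = a - f
        linear_combination hai + hfi - 2 * hfa
      have hsplit : v * (a ⊗ₜ[k] (1 : B)) =
          v * (f ⊗ₜ[k] (1 : B)) + v * ((a - f) ⊗ₜ[k] (1 : B)) := by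
        rw [← mul_add, ← TensorProduct.add_tmul, add_sub_cancel]
      rw [hsplit]
      refine Submodule.add_mem _ (IH (Ideal.span {1 - f}) ?_ f hf rfl)
        (IH (Ideal.span {1 - (a - f)}) ?_ (a - f) haf rfl)
      · rw [← hI]
        refine lt_of_le_of_ne ?_ ?_
        · rw [Ideal.span_singleton_le_span_singleton]
          exact ⟨1 - a, by linear_combination (-1 : A) * hfa⟩
        · intro heq
          have hmem : 1 - f ∈ Ideal.span {1 - a} := by
            rw [heq]; exact Ideal.subset_span rfl
          obtain ⟨r, hr⟩ := Ideal.mem_span_singleton.1 hmem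
          apply hfne
          have : a * (1 - f) = a * ((1 - a) * r) := by rw [hr]
          linear_combination (-1 : A) * this - hfa + r * hai
      · rw [← hI]
        refine lt_of_le_of_ne ?_ ?_
        · rw [Ideal.span_singleton_le_span_singleton]
          exact ⟨1 - a, by linear_combination (-1 : A) * hai + hfa⟩
        · intro heq
          have hmem : 1 - (a - f) ∈ Ideal.span {1 - a} := by
            rw [heq]; exact Ideal.subset_span rfl
          obtain ⟨r, hr⟩ := Ideal.mem_span_singleton.1 hmem
          apply hf0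
          have : a * (1 - (a - f)) = a * ((1 - a) * r) := by rw [hr]
          linear_combination this + hai - r * hai - hfa

theorem mem_idemSpan_fg [IsAlgClosed k] [Algebra.FiniteType k A] [Algebra.FiniteType k B]
    (v : A ⊗[k] B) (hv : IsIdempotentElem v) : v ∈ idemSpan k A B := by
  have := mul_mem_idemSpan v hv (1 : A) (IsIdempotentElem.one)
  rwa [← Algebra.TensorProduct.one_def, mul_one] at this

/-- **Idempotents of a tensor product over an algebraically closed field**: every idempotent of
`A ⊗[k] B` is a `k`-linear combination of pure tensors `f ⊗ g` of idempotents. -/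
theorem mem_idemSpan [IsAlgClosed k] (v : A ⊗[k] B) (hv : IsIdempotentElem v) :
    v ∈ idemSpan k A B := by
  classical
  obtain ⟨s, hs⟩ := TensorProduct.exists_finset v
  let A' : Subalgebra k A := Algebra.adjoin k ((s.image Prod.fst : Finset A) : Set A)
  let B' : Subalgebra k B := Algebra.adjoin k ((s.image Prod.snd : Finset B) : Set B)
  have hA' : Algebra.FiniteType k A' :=
    (Subalgebra.fg_iff_finiteType A').1 (Subalgebra.fg_adjoin_finset _)
  have hB' : Algebra.FiniteType k B' :=
    (Subalgebra.fg_iff_finiteType B').1 (Subalgebra.fg_adjoin_finset _)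
  have hmemA : ∀ i ∈ s, i.1 ∈ A' := fun i hi =>
    Algebra.subset_adjoin (Finset.mem_coe.2 (Finset.mem_image_of_mem _ hi))
  have hmemB : ∀ i ∈ s, i.2 ∈ B' := fun i hi =>
    Algebra.subset_adjoin (Finset.mem_coe.2 (Finset.mem_image_of_mem _ hi))
  let φ : A' ⊗[k] B' →ₐ[k] A ⊗[k] B := Algebra.TensorProduct.map A'.val B'.val
  have hφ : Function.Injective φ := by
    have := TensorProduct.map_injective_of_flat_flat (R := k) A'.val.toLinearMap B'.val.toLinearMap
      Subtype.val_injective Subtype.val_injective
    exact this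
  let v' : A' ⊗[k] B' := ∑ i ∈ s.attach, (⟨i.1.1, hmemA _ i.2⟩ : A') ⊗ₜ[k] (⟨i.1.2, hmemB _ i.2⟩ : B')
  have hv' : φ v' = v := by
    rw [hs, map_sum, ← Finset.sum_attach s]
    refine Finset.sum_congr rfl fun i _ => ?_
    simp [φ]
  have hv'i : IsIdempotentElem v' := hφ (by rw [map_mul, hv', hv.eq])
  have hfg := mem_idemSpan_fg v' hv'i
  have hmap : (idemSpan k A' B').map φ.toLinearMap ≤ idemSpan k A B := by
    rw [idemSpan, Submodule.map_span, Submodule.span_le]
    rintro _ ⟨_, ⟨f, g, hf, hg, rfl⟩, rfl⟩
    exact tmul_mem_idemSpan (hf.map A'.val) (hg.map B'.val)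
  rw [← hv']
  exact hmap (Submodule.mem_map_of_mem hfg)

end Main

end Groth.Agent.Lib.IdemTensor55
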