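import Mathlib

/-!
# Separable elements over an algebraically closed field are combinations of idempotents (helper55)

* `isSeparable_of_isIdempotentElem`: an idempotent of a `k`-algebra is separable over `k`;
* `mem_span_idem_of_isSeparable`: over an algebraically closed field, a separable element of a
  commutative `k`-algebra is a `k`-linear combination of idempotents (Lagrange idempotents).
Mathlib only.
-/

set_option autoImplicit false
universe u v
open Polynomial

namespace Groth.Agent.Lib.IdemTensor55

variable {k : Type u} [Field k] {A : Type v} [CommRing A] [Algebra k A]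

/-- An idempotent is separable: its minimal polynomial divides `X ^ 2 - X`. -/
theorem isSeparable_of_isIdempotentElem (e : A) (he : IsIdempotentElem e) : IsSeparable k e := by
  have hsep : (X ^ 2 - X : k[X]).Separable := by
    refine ⟨-4, 2 * X - 1, ?_⟩
    have hd : derivative (X ^ 2 - X : k[X]) = 2 * X - 1 := by
      simp [one_add_one_eq_two]
      rfl
    rw [hd]
    ring
  refine hsep.of_dvd (minpoly.dvd k e ?_)
  simp only [map_sub, map_pow, aeval_X]
  rw [pow_two, he.eq, sub_self]

/-- Over an algebraically closed field, a separable element is a linear combination of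
idempotents. -/
theorem mem_span_idem_of_isSeparable [IsAlgClosed k] (x : A) (hx : IsSeparable k x) :
    x ∈ Submodule.span k {e : A | IsIdempotentElem e} := by
  classical
  set q := minpoly k x with hq
  have hqsep : q.Separable := hx
  have hq0 : q ≠ 0 := hqsep.ne_zero
  have hnd : q.roots.Nodup := nodup_roots hqsep
  set s : Finset k := q.roots.toFinset with hs
  set P : k[X] := ∏ μ ∈ s, (X - C μ) with hP
  have hqP : q = C q.leadingCoeff * P := by
    have h1 := (IsAlgClosed.splits q).eq_prod_roots
    have h2 : (q.roots.map (X - C ·)).prod = P := by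
      rw [hP, Finset.prod_eq_multiset_prod, hs, Multiset.toFinset_val, hnd.dedup]
    rw [h2] at h1
    exact h1
  have hPx : aeval x P = 0 := by
    have h0 : aeval x q = 0 := minpoly.aeval k x
    rw [hqP, map_mul, aeval_C] at h0
    have hl : q.leadingCoeff ≠ 0 := leadingCoeff_ne_zero.2 hq0
    have := congrArg (fun t => algebraMap k A (q.leadingCoeff)⁻¹ * t) h0
    simp only [mul_zero, ← mul_assoc, ← map_mul, inv_mul_cancel₀ hl, map_one, one_mul] at this
    exact this
  by_cases hse : s = ∅
  · -- the algebra is trivial
    have h1 : (1 : A) = 0 := by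
      rw [hP, hse, Finset.prod_empty, map_one] at hPx
      exact hPx
    have : x = 0 := by rw [← mul_one x, h1, mul_zero]
    rw [this]
    exact Submodule.zero_mem _
  have hsne : s.Nonempty := Finset.nonempty_iff_ne_empty.2 hse
  have hinj : Set.InjOn (id : k → k) s := Function.injective_id.injOn
  -- Lagrange idempotents
  let L : k → k[X] := fun l => Lagrange.basis s id l
  let e : k → A := fun l => aeval x (L l)
  have hmul : ∀ l ∈ s, ∃ c : k, (X - C l) * L l = C c * P := by
    intro l hl
    refine ⟨∏ μ ∈ s.erase l, (l - μ)⁻¹, ?_⟩
    have h1 : L l = C (∏ μ ∈ s.erase l, (l - μ)⁻¹) * ∏ μ ∈ s.erase l, (X - C μ) := by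
      show Lagrange.basis s id l = _
      rw [Lagrange.basis, map_prod, ← Finset.prod_mul_distrib]
      rfl
    rw [h1, hP, ← Finset.mul_prod_erase s (fun μ => X - C μ) hl]
    ring
  have hxe : ∀ l ∈ s, x * e l = l • e l := by
    intro l hl
    obtain ⟨c, hc⟩ := hmul l hl
    have := congrArg (aeval x) hc
    rw [map_mul, map_mul, hPx, mul_zero, map_sub, aeval_X, aeval_C] at this
    show x * e l = l • e l
    rw [Algebra.smul_def]
    linear_combination this
  have hpe : ∀ (p : k[X]) (l : k), l ∈ s → aeval x p * e l = (p.eval l) • e l := by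
    intro p l hl
    have h1 := modByMonic_add_div p (X - C l)
    rw [modByMonic_X_sub_C_eq_C_eval] at h1
    have h2 := congrArg (aeval x) h1
    rw [map_add, map_mul, aeval_C, map_sub, aeval_X, aeval_C] at h2
    have h3 := hxe l hl
    rw [Algebra.smul_def] at h3 ⊢
    rw [← h2]
    linear_combination (aeval x (p /ₘ (X - C l))) * h3
  have hidem : ∀ l ∈ s, IsIdempotentElem (e l) := by
    intro l hl
    show e l * e l = e l
    have := hpe (L l) l hl
    have h1 : (L l).eval l = 1 := Lagrange.eval_basis_self (v := id) hinj hl
    rw [h1, one_smul] at this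
    exact this
  have hsum : ∑ l ∈ s, e l = 1 := by
    have := congrArg (aeval x) (Lagrange.sum_basis hinj hsne)
    rw [map_sum, map_one] at this
    exact this
  have hxsum : x = ∑ l ∈ s, l • e l := by
    calc x = x * ∑ l ∈ s, e l := by rw [hsum, mul_one]
      _ = ∑ l ∈ s, x * e l := Finset.mul_sum _ _ _
      _ = ∑ l ∈ s, l • e l := Finset.sum_congr rfl hxe
  rw [hxsum]
  exact Submodule.sum_mem _ fun l hl =>
    Submodule.smul_mem _ _ (Submodule.subset_span (hidem l hl))

end Groth.Agent.Lib.IdemTensor55
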