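import Groth.Agent.Lib.SepCritH52

/-!
Scheme-theoretic image of an immersion from a reduced scheme (no quasi-compactness):
the image is the reduced induced structure on the closure and `toImage` is a dense open immersion.
-/

set_option autoImplicit false
universe u

open CategoryTheory AlgebraicGeometry Limits

namespace Groth.Agent.Lib.ImmImageH52

open Groth.Agent.Lib.SepCritH52

variable {Z X : Scheme.{u}}

/-- The kernel of a morphism from a reduced scheme is the vanishing ideal of the closure of its
range. -/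
theorem ker_eq_vanishingIdeal [IsReduced Z] (h : Z ⟶ X) :
    h.ker = Scheme.IdealSheafData.vanishingIdeal ⟨closure (Set.range h), isClosed_closure⟩ := by
  have h1 : h.ker = Scheme.IdealSheafData.vanishingIdeal
      (.closure (h '' (⊤ : TopologicalSpace.Closeds Z))) := by
    rw [← Scheme.IdealSheafData.map_vanishingIdeal, Scheme.IdealSheafData.vanishingIdeal_top,
      Scheme.nilradical_eq_bot, Scheme.IdealSheafData.map_bot]
  rw [h1]
  congr 1
  ext x
  change x ∈ closure (h '' Set.univ) ↔ x ∈ closure (Set.range h)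
  rw [Set.image_univ]

theorem isReduced_image [IsReduced Z] (h : Z ⟶ X) : IsReduced h.image := by
  change IsReduced h.ker.subscheme
  rw [ker_eq_vanishingIdeal h]
  exact Groth.Agent.Lib.ReducedSubscheme.isReduced_subscheme_vanishingIdeal _

theorem range_imageι [IsReduced Z] (h : Z ⟶ X) : Set.range h.imageι = closure (Set.range h) := by
  change Set.range h.ker.subschemeι = _
  rw [Scheme.IdealSheafData.range_subschemeι, ker_eq_vanishingIdeal h,
    Scheme.IdealSheafData.coe_support_vanishingIdeal]
  rfl

theorem denseRange_toImage [IsReduced Z] (h : Z ⟶ X) : DenseRange h.toImage := by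
  intro t
  rw [h.imageι.isEmbedding.isInducing.closure_eq_preimage_closure_image]
  have : h.imageι '' Set.range h.toImage = Set.range h := by
    rw [← Set.range_comp]
    change Set.range (h.toImage ≫ h.imageι) = _
    rw [Scheme.Hom.toImage_imageι]
  rw [this, ← range_imageι h]
  exact ⟨t, rfl⟩

/-- For an immersion from a reduced scheme (not necessarily quasi-compact), `toImage` is an open
immersion. -/
theorem isOpenImmersion_toImage [IsReduced Z] (h : Z ⟶ X) [IsImmersion h] :
    IsOpenImmersion h.toImage := by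
  have hred := isReduced_image h
  have hr : Set.range h.toImage ⊆ Set.range (h.imageι ⁻¹ᵁ h.coborderRange).ι := by
    rintro _ ⟨z, rfl⟩
    rw [Scheme.Opens.range_ι]
    change h.imageι (h.toImage z) ∈ h.coborderRange
    rw [← Scheme.Hom.comp_apply, Scheme.Hom.toImage_imageι]
    exact subset_coborder ⟨z, rfl⟩
  have ht₀ : IsOpenImmersion.lift (h.imageι ⁻¹ᵁ h.coborderRange).ι h.toImage hr ≫
      (h.imageι ⁻¹ᵁ h.coborderRange).ι = h.toImage := IsOpenImmersion.lift_fac _ _ _
  generalize IsOpenImmersion.lift (h.imageι ⁻¹ᵁ h.coborderRange).ι h.toImage hr = t₀ at ht₀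
  have hρ : (h.imageι ∣_ h.coborderRange) ≫ h.coborderRange.ι =
      (h.imageι ⁻¹ᵁ h.coborderRange).ι ≫ h.imageι := morphismRestrict_ι _ _
  have ht₀ρ : t₀ ≫ (h.imageι ∣_ h.coborderRange) = h.liftCoborder := by
    rw [← cancel_mono h.coborderRange.ι, Category.assoc, hρ, ← Category.assoc, ht₀,
      Scheme.Hom.toImage_imageι, Scheme.Hom.liftCoborder_ι]
  have hρr : Set.range (h.imageι ∣_ h.coborderRange) ⊆ Set.range h.liftCoborder := by
    rintro _ ⟨u, rfl⟩
    have h1 : h.coborderRange.ι ((h.imageι ∣_ h.coborderRange) u) ∈ Set.range h := by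
      have h2 : h.coborderRange.ι ((h.imageι ∣_ h.coborderRange) u) ∈
          (h.coborderRange : Set X) ∩ closure (Set.range h) := by
        refine ⟨((h.imageι ∣_ h.coborderRange) u).2, ?_⟩
        rw [← Scheme.Hom.comp_apply, hρ, ← range_imageι h]
        exact ⟨(h.imageι ⁻¹ᵁ h.coborderRange).ι u, rfl⟩
      rwa [show ((h.coborderRange : X.Opens) : Set X) ∩ closure (Set.range h) = Set.range h from
        coborder_inter_closure] at h2
    obtain ⟨z, hz⟩ := h1
    refine ⟨z, h.coborderRange.ι.isOpenEmbedding.injective ?_⟩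
    rw [← Scheme.Hom.comp_apply, Scheme.Hom.liftCoborder_ι]
    exact hz
  obtain ⟨w, hw⟩ := exists_lift_of_isReduced h.liftCoborder (h.imageι ∣_ h.coborderRange) hρr
  have h1 : t₀ ≫ w = 𝟙 _ := by
    rw [← cancel_mono h.liftCoborder, Category.assoc, hw, ht₀ρ, Category.id_comp]
  have h2 : w ≫ t₀ = 𝟙 _ := by
    rw [← cancel_mono (h.imageι ∣_ h.coborderRange), Category.assoc, ht₀ρ, hw, Category.id_comp]
  have : IsIso t₀ := ⟨w, h1, h2⟩
  rw [← ht₀]
  infer_instance

end Groth.Agent.Lib.ImmImageH52
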