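import Mathlib

set_option autoImplicit false
universe u v

namespace Groth.Agent.Lib.ImperfTwist

open IsLocalRing TensorProduct KaehlerDifferential

section G

variable {k K A : Type u} [Field k] [Field K] [Algebra k K] [CommRing A] [IsLocalRing A] [Algebra k A]

/-- Injectivity criterion for `K_A ⊗_k Ω_k → K_A ⊗_A Ω_A` via an auxiliary "first order part"
`D₂ : A → W`. -/
theorem injective_lTensor_of_coeff
    (ε : A →+* K) (hε : Function.Surjective ε) (hker : RingHom.ker ε = maximalIdeal A)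
    (hεk : ∀ x : k, ε (algebraMap k A x) = algebraMap k K x)
    {W : Type v} [AddCommGroup W] [Module K W]
    (D₂ : A →+ W) (hD₂ : ∀ a b, D₂ (a * b) = ε a • D₂ b + ε b • D₂ a)
    (δ : K ⊗[k] Ω[k⁄ℤ] →ₗ[K] W) (hδ : ∀ x : k, δ (1 ⊗ₜ D ℤ k x) = D₂ (algebraMap k A x))
    (hinj : ∀ z, mapBaseChange ℤ k K z = 0 → δ z = 0 → z = 0) :
    Function.Injective ((mapBaseChange ℤ k A).lTensor (ResidueField A)) := by
  classical
  have hloc : IsLocalHom ε := by
    refine ⟨fun a ha => ?_⟩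
    by_contra hna
    have h1 : a ∈ maximalIdeal A := (mem_maximalIdeal a).2 hna
    rw [← hker, RingHom.mem_ker] at h1
    rw [h1] at ha
    exact not_isUnit_zero ha
  let ι : ResidueField A →+* K := ResidueField.lift ε
  have hι : ∀ a, ι (residue A a) = ε a := fun a => ResidueField.lift_residue_apply ε a
  have hιinj : Function.Injective ι := ι.injective
  -- module structures
  let V := Ω[K⁄ℤ] × W
  let modAV : Module A V := Module.compHom V ε
  have hsmulV : ∀ (a : A) (v : V), a • v = ε a • v := fun a v => rfl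
  -- the derivation
  let 𝔇lin : A →ₗ[ℤ] V :=
    ((AddMonoidHom.prod ((D ℤ K).toLinearMap.toAddMonoidHom.comp ε.toAddMonoidHom) D₂)).toIntLinearMap
  have h𝔇lin : ∀ a, 𝔇lin a = (D ℤ K (ε a), D₂ a) := fun a => rfl
  let 𝔇 : Derivation ℤ A V := Derivation.mk' 𝔇lin (by
    intro a b
    rw [h𝔇lin, h𝔇lin, h𝔇lin, hsmulV, hsmulV, map_mul, Derivation.leibniz, hD₂]
    rfl)
  have h𝔇 : ∀ a, 𝔇 a = (D ℤ K (ε a), D₂ a) := fun a => rfl
  let Ψ₀ : Ω[A⁄ℤ] →ₗ[A] V := 𝔇.liftKaehlerDifferential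
  have hΨ₀ : ∀ a, Ψ₀ (D ℤ A a) = (D ℤ K (ε a), D₂ a) := fun a => by
    rw [← h𝔇]; exact 𝔇.liftKaehlerDifferential_comp_D a
  let Ψ : ResidueField A ⊗[A] Ω[A⁄ℤ] →ₗ[A] V :=
    TensorProduct.lift (LinearMap.mk₂ A (fun c ω => ι c • Ψ₀ ω)
      (fun c c' ω => by rw [map_add, add_smul])
      (fun a c ω => by
        have h1 : ι (algebraMap A (ResidueField A) a) = ε a := hι a
        rw [Algebra.smul_def, map_mul, hsmulV, mul_smul, h1])
      (fun c ω ω' => by rw [map_add, smul_add])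
      (fun a c ω => by rw [map_smul, hsmulV, hsmulV, smul_comm]))
  have hΨ : ∀ c ω, Ψ (c ⊗ₜ ω) = ι c • Ψ₀ ω := fun c ω => rfl
  -- the comparison `Φ`
  have hιsurj : Function.Surjective ι := fun y => by
    obtain ⟨a, rfl⟩ := hε y
    exact ⟨residue A a, hι a⟩
  let ιlin : ResidueField A →ₗ[k] K :=
    { toFun := ι
      map_add' := map_add ι
      map_smul' := fun x c => by
        have h1 : ι (algebraMap k (ResidueField A) x) = algebraMap k K x := by
          rw [← hεk, ← hι]; rfl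
        rw [Algebra.smul_def, map_mul, h1, RingHom.id_apply, Algebra.smul_def] }
  let ιeq : ResidueField A ≃ₗ[k] K := LinearEquiv.ofBijective ιlin ⟨hιinj, hιsurj⟩
  let Φ : ResidueField A ⊗[A] (A ⊗[k] Ω[k⁄ℤ]) ≃ₗ[k] K ⊗[k] Ω[k⁄ℤ] :=
    ((TensorProduct.AlgebraTensorModule.cancelBaseChange k A (ResidueField A) (ResidueField A)
      (Ω[k⁄ℤ])).restrictScalars k).trans (LinearEquiv.rTensor (Ω[k⁄ℤ]) ιeq)
  have hΦ : ∀ c a ω, Φ (c ⊗ₜ (a ⊗ₜ ω)) = (ε a * ι c) ⊗ₜ ω := fun c a ω => by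
    change (ιeq (a • c)) ⊗ₜ ω = _
    congr 1
    change ι (a • c) = _
    have h1 : ι (algebraMap A (ResidueField A) a) = ε a := hι a
    rw [Algebra.smul_def, map_mul, h1]
  have key : ∀ ξ, Ψ ((mapBaseChange ℤ k A).lTensor (ResidueField A) ξ) =
      (mapBaseChange ℤ k K (Φ ξ), δ (Φ ξ)) := by
    intro ξ
    induction ξ using TensorProduct.induction_on with
    | zero => simp only [map_zero]; rfl
    | add ξ₁ ξ₂ h₁ h₂ => simp only [map_add, h₁, h₂]; rfl
    | tmul c η =>
      induction η using TensorProduct.induction_on with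
      | zero => simp only [tmul_zero, map_zero]; rfl
      | add η₁ η₂ h₁ h₂ => simp only [tmul_add, map_add, h₁, h₂]; rfl
      | tmul a ω =>
        have hω : ω ∈ Submodule.span k (Set.range (D ℤ k)) := by
          rw [KaehlerDifferential.span_range_derivation]; trivial
        induction hω using Submodule.span_induction generalizing a with
        | mem ω hω =>
          obtain ⟨x, rfl⟩ := hω
          rw [LinearMap.lTensor_tmul, mapBaseChange_tmul, map_D, hΨ, map_smul, hΨ₀, hΦ,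
            mapBaseChange_tmul, map_D, hεk]
          have h2 : ((ε a * ι c) ⊗ₜ[k] (D ℤ k) x : K ⊗[k] Ω[k⁄ℤ]) = (ε a * ι c) • (1 ⊗ₜ[k] (D ℤ k) x) := by
            rw [smul_tmul', smul_eq_mul, mul_one]
          rw [h2, map_smul, hδ, hsmulV, smul_smul, mul_comm]
          rfl
        | zero => simp only [tmul_zero, map_zero]; rfl
        | add ω₁ ω₂ _ _ h₁ h₂ => simp only [tmul_add, map_add, h₁, h₂]; rfl
        | smul y ω _ h =>
          have h3 : (a ⊗ₜ[k] (y • ω) : A ⊗[k] Ω[k⁄ℤ]) = (y • a) ⊗ₜ[k] ω := by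
            rw [tmul_smul, smul_tmul']
          rw [h3]
          exact h _
  intro ξ₁ ξ₂ h
  have h1 := key ξ₁
  have h2 := key ξ₂
  rw [h] at h1
  rw [h1] at h2
  have h3 : Φ (ξ₁ - ξ₂) = 0 := by
    apply hinj
    · have := (Prod.ext_iff.1 h2).1
      rw [map_sub, map_sub, sub_eq_zero]
      exact this
    · have := (Prod.ext_iff.1 h2).2
      rw [map_sub, map_sub, sub_eq_zero]
      exact this
  have h4 : ξ₁ - ξ₂ = 0 := by
    rwa [LinearEquiv.map_eq_zero_iff] at h3
  exact sub_eq_zero.1 h4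

end G

end Groth.Agent.Lib.ImperfTwist
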