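import Mathlib
import Groth.Agent.Lib.H59PowerSeries
import Groth.Agent.Lib.ArtinSmoothField

set_option autoImplicit false
universe u v

namespace Groth.Agent.Lib.ImperfTwist

open IsLocalRing MvPowerSeries

section PSsec

variable {K : Type u} [Field K] (n : ℕ)

local notation "PS" => MvPowerSeries (Fin n) K

/-- the first order coefficients. -/
noncomputable def lin1 : PS →+ (Fin n → K) where
  toFun f := fun i => coeff (Finsupp.single i 1) f
  map_zero' := by ext i; simp
  map_add' f g := by ext i; simp

theorem lin1_apply (f : PS) (i : Fin n) : lin1 n f i = coeff (Finsupp.single i 1) f := rfl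

theorem lin1_mul (f g : PS) :
    lin1 n (f * g) = constantCoeff f • lin1 n g + constantCoeff g • lin1 n f := by
  classical
  ext i
  rw [lin1_apply, coeff_mul, Finsupp.antidiagonal_single, Finset.sum_map]
  have h1 : Finset.HasAntidiagonal.antidiagonal (1 : ℕ) = {((0 : ℕ), (1 : ℕ)), ((1 : ℕ), (0 : ℕ))} := by decide
  rw [h1, Finset.sum_pair (by decide)]
  simp only [Function.Embedding.coe_prodMap, Function.Embedding.coeFn_mk, Prod.map_apply,
    Finsupp.single_zero, coeff_zero_eq_constantCoeff_apply, Pi.add_apply, Pi.smul_apply,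
    smul_eq_mul, lin1_apply]
  ring

theorem ker_constantCoeff : RingHom.ker (constantCoeff : PS →+* K) = maximalIdeal PS := by
  ext f
  rw [RingHom.mem_ker, mem_maximalIdeal, mem_nonunits_iff, MvPowerSeries.isUnit_iff_constantCoeff,
    isUnit_iff_ne_zero, not_not]

theorem isAdicComplete_maximalIdeal : IsAdicComplete (maximalIdeal PS) PS := by
  rw [Groth.Agent.Lib.H59PowerSeries.maximalIdeal_eq_bigIdeal, IsLocalRing.maximalIdeal_eq_bot]
  exact Groth.Agent.Lib.H59PowerSeries.isAdicComplete_bigIdeal ⊥

theorem lin1_eq_zero_of_mem_sq (f : PS) (hf : f ∈ maximalIdeal PS ^ 2) : lin1 n f = 0 := by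
  rw [pow_two] at hf
  refine Submodule.mul_induction_on hf (fun a ha b hb => ?_) (fun a b ha hb => ?_)
  · rw [← ker_constantCoeff, RingHom.mem_ker] at ha hb
    rw [lin1_mul, ha, hb, zero_smul, zero_smul, add_zero]
  · rw [map_add, ha, hb, add_zero]

/-- the linear polynomial attached to a vector. -/
noncomputable def linPoly : (Fin n → K) →+ PS where
  toFun v := ∑ i, C (v i) * X i
  map_zero' := by simp
  map_add' v w := by simp [add_mul, Finset.sum_add_distrib]

theorem linPoly_apply (v : Fin n → K) : linPoly n v = ∑ i, C (v i) * X i := rfl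

theorem linPoly_mem (v : Fin n → K) : linPoly n v ∈ maximalIdeal PS := by
  rw [linPoly_apply]
  refine Ideal.sum_mem _ fun i _ => Ideal.mul_mem_left _ _ ?_
  rw [← ker_constantCoeff, RingHom.mem_ker, constantCoeff_X]

theorem linPoly_smul (c : K) (v : Fin n → K) : linPoly n (c • v) = C c * linPoly n v := by
  rw [linPoly_apply, linPoly_apply, Finset.mul_sum]
  refine Finset.sum_congr rfl fun i _ => ?_
  rw [Pi.smul_apply, smul_eq_mul, map_mul, mul_assoc]

theorem lin1_linPoly (v : Fin n → K) : lin1 n (linPoly n v) = v := by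
  classical
  ext i
  rw [lin1_apply, linPoly_apply, map_sum]
  simp only [coeff_C_mul, coeff_index_single_X, mul_ite, mul_one, mul_zero]
  rw [Finset.sum_ite_eq]
  simp

theorem lin1_C (c : K) : lin1 n (C c : PS) = 0 := by
  classical
  ext i
  rw [lin1_apply, coeff_C, if_neg]
  · rfl
  · intro h
    have := DFunLike.congr_fun h i
    simp at this

end PSsec

end Groth.Agent.Lib.ImperfTwist
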