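import Mathlib
import Groth.Agent.Lib.ImperfTwist1
import Groth.Agent.Lib.ImperfTwist2
import Groth.Agent.S2483
import Groth.Agent.S2471
import Groth.Agent.Lib.H59PowerSeriesDim

set_option autoImplicit false
universe u v

namespace Groth.Agent.Lib.ImperfTwist

open IsLocalRing MvPowerSeries TensorProduct KaehlerDifferential

section Twist

variable {k K : Type u} [Field k] [Field K] [Algebra k K] (n : ℕ)
  (δ : K ⊗[k] Ω[k⁄ℤ] →ₗ[K] (Fin n → K))

local notation "PS" => MvPowerSeries (Fin n) K

/-- the derivation `k → K^n` attached to `δ`. -/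
noncomputable def der (x : k) : Fin n → K := δ (1 ⊗ₜ D ℤ k x)

theorem der_add (x y : k) : der n δ (x + y) = der n δ x + der n δ y := by
  unfold der
  rw [map_add, tmul_add, map_add]

theorem der_zero : der n δ 0 = 0 := by
  unfold der
  rw [map_zero, tmul_zero, map_zero]

theorem der_one : der n δ 1 = 0 := by
  unfold der
  rw [Derivation.map_one_eq_zero, tmul_zero, map_zero]

theorem der_mul (x y : k) :
    der n δ (x * y) = algebraMap k K x • der n δ y + algebraMap k K y • der n δ x := by
  unfold der
  rw [Derivation.leibniz, tmul_add, tmul_smul, tmul_smul, map_add,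
    ← algebraMap_smul K x, ← algebraMap_smul K y, map_smul, map_smul]

/-- the twisted map modulo `𝔪²`. -/
noncomputable def phi1 : k →+* (PS ⧸ maximalIdeal PS ^ 2) where
  toFun x := Ideal.Quotient.mk _ (C (algebraMap k K x) + linPoly n (der n δ x))
  map_one' := by
    rw [der_one, map_one, map_one, map_zero, add_zero, map_one]
  map_zero' := by
    rw [der_zero, map_zero, map_zero, map_zero, add_zero, map_zero]
  map_add' x y := by
    rw [der_add, ← map_add]
    congr 1
    rw [map_add, map_add, map_add]
    ring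
  map_mul' x y := by
    rw [← map_mul, Ideal.Quotient.eq, der_mul, map_add, linPoly_smul, linPoly_smul, map_mul, map_mul]
    have h1 : C (algebraMap k K x) * C (algebraMap k K y) +
        (C (algebraMap k K x) * linPoly n (der n δ y) + C (algebraMap k K y) * linPoly n (der n δ x)) -
        (C (algebraMap k K x) + linPoly n (der n δ x)) * (C (algebraMap k K y) + linPoly n (der n δ y)) =
        - (linPoly n (der n δ x) * linPoly n (der n δ y)) := by ring
    rw [h1, pow_two]
    exact neg_mem (Ideal.mul_mem_mul (linPoly_mem n _) (linPoly_mem n _))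

theorem phi1_apply (x : k) :
    phi1 n δ x = Ideal.Quotient.mk _ (C (algebraMap k K x) + linPoly n (der n δ x)) := rfl

theorem exists_phi : ∃ φ : k →+* PS,
    ∀ x, φ x - (C (algebraMap k K x) + linPoly n (der n δ x)) ∈ maximalIdeal PS ^ 2 := by
  have hc : IsAdicComplete (maximalIdeal PS) PS := isAdicComplete_maximalIdeal n
  have hc2 : IsAdicComplete (maximalIdeal PS ^ 2) PS :=
    Groth.Agent.Lib.ArtinSmoothField.isAdicComplete_sq _
  obtain ⟨φ, hφ⟩ := Groth.Agent.S2483.exists_lift (maximalIdeal PS ^ 2) k
    ((C : K →+* PS).comp (algebraMap k K)) (phi1 n δ)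
  refine ⟨φ, fun x => ?_⟩
  rw [← Ideal.Quotient.eq, hφ, phi1_apply]

theorem isLocalHom_constantCoeff : IsLocalHom (constantCoeff : PS →+* K) :=
  ⟨fun _ ha => MvPowerSeries.isUnit_iff_constantCoeff.2 ha⟩

theorem exists_complete (hδ : ∀ z, mapBaseChange ℤ k K z = 0 → δ z = 0 → z = 0) :
    ∃ (_ : Algebra k PS), IsAdicComplete (maximalIdeal PS) PS ∧
      CAlgX.IsAdicFormallySmooth k PS (maximalIdeal PS) ∧
      Nonempty (ResidueField PS ≃ₐ[k] K) ∧ ringKrullDim PS = n := by
  obtain ⟨φ, hφ⟩ := exists_phi n δ
  let alg : Algebra k PS := φ.toAlgebra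
  have halg : ∀ x, algebraMap k PS x = φ x := fun x => rfl
  have hεk : ∀ x : k, (constantCoeff : PS →+* K) (algebraMap k PS x) = algebraMap k K x := by
    intro x
    have h1 : φ x - (C (algebraMap k K x) + linPoly n (der n δ x)) ∈ maximalIdeal PS :=
      Ideal.pow_le_self two_ne_zero (hφ x)
    have h2 : linPoly n (der n δ x) ∈ maximalIdeal PS := linPoly_mem n _
    rw [← ker_constantCoeff, RingHom.mem_ker] at h1 h2
    rw [map_sub, map_add, h2, add_zero, constantCoeff_C, sub_eq_zero] at h1
    rw [halg, h1]
  have hδ' : ∀ x : k, δ (1 ⊗ₜ D ℤ k x) = lin1 n (algebraMap k PS x) := by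
    intro x
    have h1 := lin1_eq_zero_of_mem_sq n _ (hφ x)
    rw [map_sub, map_add, lin1_C, zero_add, lin1_linPoly, sub_eq_zero] at h1
    rw [halg, h1]
    rfl
  have hinj := injective_lTensor_of_coeff (k := k) (K := K) (A := PS) constantCoeff
    (fun c => ⟨C c, constantCoeff_C c⟩) (ker_constantCoeff n) hεk (lin1 n) (lin1_mul n) δ hδ' hδ
  refine ⟨alg, isAdicComplete_maximalIdeal n, ?_, ?_, ?_⟩
  · exact (Groth.Agent.S2471.result).2 ⟨Groth.Agent.Lib.H59PowerSeriesDim.isRegularLocalRing_psk n, hinj⟩
  · have hloc : IsLocalHom (constantCoeff : PS →+* K) := isLocalHom_constantCoeff n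
    let ι : ResidueField PS →+* K := ResidueField.lift constantCoeff
    have hι : ∀ a, ι (residue PS a) = constantCoeff a :=
      fun a => ResidueField.lift_residue_apply constantCoeff a
    let ιa : ResidueField PS →ₐ[k] K :=
      { ι with
        commutes' := fun x => by
          have h1 : algebraMap k (ResidueField PS) x = residue PS (algebraMap k PS x) := rfl
          change ι (algebraMap k (ResidueField PS) x) = _
          rw [h1, hι, hεk] }
    refine ⟨AlgEquiv.ofBijective ιa ⟨ι.injective, fun c => ⟨residue PS (C c), ?_⟩⟩⟩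
    change ι (residue PS (C c)) = c
    rw [hι, constantCoeff_C]
  · exact Groth.Agent.Lib.H59PowerSeriesDim.ringKrullDim_psk n

end Twist

end Groth.Agent.Lib.ImperfTwist
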