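import Mathlib
import Groth.Prelude.Def_EGA41

set_option autoImplicit false
universe u v

namespace Groth.Agent.Lib.ImperfTwist

open IsLocalRing TensorProduct KaehlerDifferential

section Fwd

variable {k K A : Type u} [Field k] [Field K] [Algebra k K]
    [CommRing A] [IsLocalRing A] [IsNoetherianRing A] [Algebra k A]

theorem finite_imperfection_of_injective
    (hinj : Function.Injective ((mapBaseChange ℤ k A).lTensor (ResidueField A)))
    (e : ResidueField A ≃ₐ[k] K) : Module.Finite K (EGA41.imperfection ℤ k K) := by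
  classical
  let ε : A →+* K := (e : ResidueField A →+* K).comp (residue A)
  have hε : ∀ a, ε a = e (residue A a) := fun a => rfl
  let algAK : Algebra A K := ε.toAlgebra
  have halg : ∀ a, algebraMap A K a = e (residue A a) := fun a => rfl
  have tower : IsScalarTower k A K := IsScalarTower.of_algebraMap_eq (fun x => by
    rw [halg]
    have h1 : residue A (algebraMap k A x) = algebraMap k (ResidueField A) x := rfl
    rw [h1, e.commutes])
  have hsurj : Function.Surjective (algebraMap A K) := fun y => by
    obtain ⟨c, rfl⟩ := e.surjective y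
    obtain ⟨a, rfl⟩ := residue_surjective c
    exact ⟨a, rfl⟩
  -- the `A`-linear identification of the residue field with `K`
  let ê : ResidueField A ≃ₗ[A] K :=
    { e.toLinearEquiv.toAddEquiv with
      map_smul' := fun a c => by
        change e (a • c) = a • e c
        rw [Algebra.smul_def, Algebra.smul_def, map_mul, halg]
        rfl }
  let f := mapBaseChange ℤ k A
  have hinjK : Function.Injective (f.lTensor K) := by
    have h1 : (f.lTensor K) ∘ₗ (ê.toLinearMap.rTensor _) = (ê.toLinearMap.rTensor _) ∘ₗ (f.lTensor (ResidueField A)) := by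
      rw [LinearMap.lTensor_comp_rTensor, LinearMap.rTensor_comp_lTensor]
    intro z₁ z₂ hz
    obtain ⟨w₁, rfl⟩ := (ê.rTensor (A ⊗[k] Ω[k⁄ℤ])).surjective z₁
    obtain ⟨w₂, rfl⟩ := (ê.rTensor (A ⊗[k] Ω[k⁄ℤ])).surjective z₂
    have h2 := DFunLike.congr_fun h1 w₁
    have h3 := DFunLike.congr_fun h1 w₂
    simp only [LinearMap.comp_apply] at h2 h3
    have h4 : (ê.toLinearMap.rTensor _) ((f.lTensor (ResidueField A)) w₁) =
        (ê.toLinearMap.rTensor _) ((f.lTensor (ResidueField A)) w₂) := by
      rw [← h2, ← h3]; exact hz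
    have h5 := hinj ((ê.rTensor (Ω[A⁄ℤ])).injective h4)
    rw [h5]
  -- the comparison map
  let h : K ⊗[k] Ω[k⁄ℤ] →ₗ[K] K ⊗[A] Ω[A⁄ℤ] :=
    (f.baseChange K) ∘ₗ
      (TensorProduct.AlgebraTensorModule.cancelBaseChange k A K K (Ω[k⁄ℤ])).symm.toLinearMap
  have hh : ∀ c ω, h (c ⊗ₜ ω) = c ⊗ₜ f (1 ⊗ₜ ω) := fun c ω => rfl
  have hhinj : Function.Injective h := by
    intro z₁ z₂ hz
    apply (TensorProduct.AlgebraTensorModule.cancelBaseChange k A K K (Ω[k⁄ℤ])).symm.injective
    apply hinjK
    exact hz
  have hcomp : ∀ z, mapBaseChange ℤ A K (h z) = mapBaseChange ℤ k K z := by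
    have h1 : (map ℤ ℤ A K).restrictScalars k ∘ₗ (map ℤ ℤ k A) = map ℤ ℤ k K := by
      apply Derivation.liftKaehlerDifferential_unique
      ext x
      simp [← IsScalarTower.algebraMap_apply k A K]
    intro z
    induction z using TensorProduct.induction_on with
    | zero => simp only [map_zero]
    | add z₁ z₂ h₁ h₂ => simp only [map_add, h₁, h₂]
    | tmul c ω =>
      rw [hh, mapBaseChange_tmul, mapBaseChange_tmul, mapBaseChange_tmul, one_smul, ← h1]
      rfl
  -- finiteness of the kernel of `K ⊗ Ω_A → Ω_K`
  let N' : Submodule K (K ⊗[A] Ω[A⁄ℤ]) := LinearMap.ker (mapBaseChange ℤ A K)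
  have hfinI : Module.Finite A (RingHom.ker (algebraMap A K)) := Module.IsNoetherian.finite A _
  have hfinC : Module.Finite A (RingHom.ker (algebraMap A K)).Cotangent :=
    Module.Finite.of_surjective (Ideal.toCotangent _) (Ideal.toCotangent_surjective _)
  have hfinA : Module.Finite A (LinearMap.range (kerCotangentToTensor ℤ A K)) :=
    Module.Finite.range _
  rw [range_kerCotangentToTensor ℤ A K hsurj] at hfinA
  have hfinA' : Module.Finite A N' :=
    Module.Finite.equiv ((Submodule.restrictScalarsEquiv A K _ N').restrictScalars A)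
  have hfinK : Module.Finite K N' := Module.Finite.of_restrictScalars_finite A K N'
  -- conclude
  let j : EGA41.imperfection ℤ k K →ₗ[K] N' :=
    h.restrict (p := EGA41.imperfection ℤ k K) (q := N') (fun z hz => by
      change mapBaseChange ℤ A K (h z) = 0
      rw [hcomp]
      exact hz)
  have hj : Function.Injective j := fun z₁ z₂ hz => by
    apply Subtype.ext
    apply hhinj
    exact congrArg Subtype.val hz
  have hnoeth : IsNoetherian K N' := isNoetherian_of_isNoetherianRing_of_finite K N'
  exact Module.Finite.of_injective j hj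

end Fwd

end Groth.Agent.Lib.ImperfTwist
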