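import Groth.Agent.Lib.IndRep
import Groth.Agent.Lib.H86SubobjElem

/-!
# Ind-objects of cofinite type: the core decomposition `A = A[p^M] + p^n A`
-/

namespace Groth.Agent.Lib.IndCof

open CategoryTheory CategoryTheory.Limits Opposite Groth.Agent.Lib.IndElem Groth.Agent.Lib.IndRep
  Groth.Agent.Lib.H86SubobjElem

universe v

section Preadd

variable {𝒜 : Type*} [Category 𝒜] [Preadditive 𝒜]

theorem nsmul_id_comp (A : 𝒜) (a b : ℕ) : (a • 𝟙 A) ≫ (b • 𝟙 A) = (a * b) • 𝟙 A := by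
  rw [Preadditive.nsmul_comp, Category.id_comp, mul_smul]

theorem comp_nsmul_id {A B : 𝒜} (f : A ⟶ B) (a : ℕ) : f ≫ (a • 𝟙 B) = (a • 𝟙 A) ≫ f := by
  rw [Preadditive.comp_nsmul, Preadditive.nsmul_comp, Category.comp_id, Category.id_comp]

/-- An element killed by `a` is killed by every multiple of `a`. -/
theorem comp_nsmul_id_eq_zero_of_dvd {W A : 𝒜} (x : W ⟶ A) {a b : ℕ} (hab : a ∣ b)
    (h : x ≫ (a • 𝟙 A) = 0) : x ≫ (b • 𝟙 A) = 0 := by
  obtain ⟨c, rfl⟩ := hab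
  rw [← nsmul_id_comp, ← Category.assoc, h, zero_comp]

end Preadd

section Abelian

variable {𝒜 : Type*} [Category 𝒜] [Abelian 𝒜]

/-- `y` lies in the image of `f` as soon as it dies in the cokernel of `f`. -/
theorem imageSubobject_factors_of_comp_cokernel {X Y W : 𝒜} (f : X ⟶ Y) (y : W ⟶ Y)
    (h : y ≫ cokernel.π f = 0) : (imageSubobject f).Factors y := by
  rw [imageSubobject_factors_iff]
  exact (ShortComplex.exact_cokernel f).exact_up_to_refinements y h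

theorem comp_cokernel_of_imageSubobject_factors {X Y W : 𝒜} (f : X ⟶ Y) (y : W ⟶ Y)
    (h : (imageSubobject f).Factors y) : y ≫ cokernel.π f = 0 := by
  rw [imageSubobject_factors_iff] at h
  obtain ⟨W', π, hπ, x, hx⟩ := h
  rw [← cancel_epi π, ← Category.assoc, hx, Category.assoc, cokernel.condition, comp_zero,
    comp_zero]

variable (A : 𝒜) (p : ℕ)

/-- The map `A[p^{k+1}] ⟶ A[p]` given by multiplication by `p^k`. -/
noncomputable def κ (k : ℕ) : kernel ((p ^ (k + 1)) • 𝟙 A) ⟶ kernel ((p ^ 1) • 𝟙 A) :=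
  kernel.lift _ (kernel.ι ((p ^ (k + 1)) • 𝟙 A) ≫ ((p ^ k) • 𝟙 A)) (by
    rw [Category.assoc, nsmul_id_comp, ← pow_add, kernel.condition])

@[reassoc]
theorem κ_ι (k : ℕ) : κ A p k ≫ kernel.ι ((p ^ 1) • 𝟙 A) =
    kernel.ι ((p ^ (k + 1)) • 𝟙 A) ≫ ((p ^ k) • 𝟙 A) :=
  kernel.lift_ι _ _ _

theorem image_κ_antitone : Antitone (fun k => imageSubobject (κ A p k)) := by
  apply antitone_nat_of_succ_le
  intro k
  -- `κ_{k+1} = μ ≫ κ_k` with `μ : A[p^{k+2}] ⟶ A[p^{k+1}]` multiplication by `p`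
  let μ : kernel ((p ^ (k + 1 + 1)) • 𝟙 A) ⟶ kernel ((p ^ (k + 1)) • 𝟙 A) :=
    kernel.lift _ (kernel.ι ((p ^ (k + 1 + 1)) • 𝟙 A) ≫ ((p ^ 1) • 𝟙 A)) (by
      rw [Category.assoc, nsmul_id_comp, ← pow_add, add_comm 1 (k + 1), kernel.condition])
  have e : κ A p (k + 1) = μ ≫ κ A p k := by
    rw [← cancel_mono (kernel.ι ((p ^ 1) • 𝟙 A)), Category.assoc, κ_ι, κ_ι, kernel.lift_ι_assoc,
      Category.assoc, nsmul_id_comp, ← pow_add, add_comm 1 k]
  show imageSubobject (κ A p (k + 1)) ≤ imageSubobject (κ A p k)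
  rw [e]
  exact imageSubobject_comp_le _ _

/-- **Core decomposition**: if the images `p^k A[p^{k+1}] ⊆ A[p]` are constant for `k ≥ M₀`, then
every `p`-power torsion element of `A` is, after refinement, the sum of an element killed by
`p^M₀` and a multiple of `p^n`, for every `n`. -/
theorem core (M₀ : ℕ)
    (hM₀ : ∀ k : ℕ, M₀ ≤ k → imageSubobject (κ A p k) = imageSubobject (κ A p M₀)) (n : ℕ) :
    ∀ (m : ℕ) (W : 𝒜) (x : W ⟶ A), x ≫ ((p ^ m) • 𝟙 A) = 0 →
      ∃ (W' : 𝒜) (π : W' ⟶ W) (_ : Epi π) (u z : W' ⟶ A),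
        u ≫ ((p ^ M₀) • 𝟙 A) = 0 ∧ π ≫ x = u + z ≫ ((p ^ n) • 𝟙 A) := by
  intro m
  induction m with
  | zero =>
    intro W x hx
    refine ⟨W, 𝟙 W, inferInstance, x, 0, ?_, by simp⟩
    exact comp_nsmul_id_eq_zero_of_dvd x (pow_dvd_pow p (Nat.zero_le _)) hx
  | succ k ih =>
    intro W x hx
    by_cases hk : k + 1 ≤ M₀
    · refine ⟨W, 𝟙 W, inferInstance, x, 0, ?_, by simp⟩
      exact comp_nsmul_id_eq_zero_of_dvd x (pow_dvd_pow p hk) hx
    · have hk' : M₀ ≤ k := by omega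
      let x' : W ⟶ kernel ((p ^ (k + 1)) • 𝟙 A) := kernel.lift _ x hx
      have hx' : x' ≫ kernel.ι _ = x := kernel.lift_ι _ _ _
      have hfac : (imageSubobject (κ A p (k + n))).Factors (x' ≫ κ A p k) := by
        rw [hM₀ (k + n) (by omega), ← hM₀ k hk']
        exact imageSubobject_factors_comp_self _ _
      rw [imageSubobject_factors_iff] at hfac
      obtain ⟨W₁, π₁, hπ₁, y, hy⟩ := hfac
      have hy' : π₁ ≫ x ≫ ((p ^ k) • 𝟙 A) =
          (y ≫ kernel.ι _) ≫ ((p ^ (k + n)) • 𝟙 A) := by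
        have := congrArg (fun t => t ≫ kernel.ι ((p ^ 1) • 𝟙 A)) hy
        simp only [Category.assoc, κ_ι] at this
        rw [← hx', Category.assoc, Category.assoc]
        exact this
      obtain ⟨W₂, π₂, hπ₂, u, z, hu, hz⟩ := ih W₁
        (π₁ ≫ x - (y ≫ kernel.ι _) ≫ ((p ^ n) • 𝟙 A)) (by
          rw [Preadditive.sub_comp, Category.assoc, hy', Category.assoc (y ≫ kernel.ι _),
            nsmul_id_comp, ← pow_add, add_comm n k, sub_self])
      refine ⟨W₂, π₂ ≫ π₁, epi_comp _ _, u, z + π₂ ≫ y ≫ kernel.ι _, hu, ?_⟩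
      rw [Preadditive.comp_sub] at hz
      rw [Preadditive.add_comp, ← add_assoc, ← hz, Category.assoc]
      simp only [Category.assoc]
      abel

end Abelian

section AbelianExact

variable {𝒜 : Type*} [Category 𝒜] [Abelian 𝒜] (A : 𝒜) (p : ℕ)

/-- The map `A[p^{M+n}] ⟶ A[p^M]` given by multiplication by `p^n`. -/
noncomputable def ν (M n : ℕ) : kernel ((p ^ (M + n)) • 𝟙 A) ⟶ kernel ((p ^ M) • 𝟙 A) :=
  kernel.lift _ (kernel.ι ((p ^ (M + n)) • 𝟙 A) ≫ ((p ^ n) • 𝟙 A)) (by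
    rw [Category.assoc, nsmul_id_comp, ← pow_add, add_comm n M, kernel.condition])

@[reassoc]
theorem ν_ι (M n : ℕ) : ν A p M n ≫ kernel.ι ((p ^ M) • 𝟙 A) =
    kernel.ι ((p ^ (M + n)) • 𝟙 A) ≫ ((p ^ n) • 𝟙 A) :=
  kernel.lift_ι _ _ _

/-- The map `A[p^M] ⟶ A / p^n A`. -/
noncomputable def γ (M n : ℕ) : kernel ((p ^ M) • 𝟙 A) ⟶ cokernel ((p ^ n) • 𝟙 A) :=
  kernel.ι _ ≫ cokernel.π _

theorem ν_γ (M n : ℕ) : ν A p M n ≫ γ A p M n = 0 := by
  rw [γ, ν_ι_assoc, cokernel.condition, comp_zero]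

/-- `A[p^{M+n}] ⟶ A[p^M] ⟶ A / p^n A` is exact. -/
theorem exact_ν_γ (M n : ℕ) : (ShortComplex.mk _ _ (ν_γ A p M n)).Exact := by
  rw [ShortComplex.exact_iff_exact_up_to_refinements]
  intro W u hu
  obtain ⟨W', π, hπ, w, hw⟩ := (ShortComplex.exact_cokernel ((p ^ n) • 𝟙 A)).exact_up_to_refinements
    (u ≫ kernel.ι _) (by rw [Category.assoc]; exact hu)
  dsimp at w hw
  refine ⟨W', π, hπ, kernel.lift _ w ?_, ?_⟩
  · rw [pow_add, mul_comm, ← nsmul_id_comp, ← Category.assoc, ← hw, Category.assoc,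
      Category.assoc, kernel.condition, comp_zero, comp_zero]
  · dsimp
    rw [← cancel_mono (kernel.ι ((p ^ M) • 𝟙 A)), Category.assoc, Category.assoc, ν_ι,
      kernel.lift_ι_assoc, hw]

end AbelianExact

variable {C : Type v} [SmallCategory C] [Abelian C]

section Torsion

/-- In a category all of whose objects are killed by a power of `p`, representable elements of
ind-objects are killed by a power of `p`. -/
theorem yoneda_elem_torsion (p : ℕ) (htor : ∀ X : C, ∃ n : ℕ, (p ^ n) • 𝟙 X = 0) {A : Ind C}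
    (T : C) (x : Ind.yoneda.obj T ⟶ A) : ∃ m : ℕ, x ≫ ((p ^ m) • 𝟙 A) = 0 := by
  obtain ⟨m, hm⟩ := htor T
  refine ⟨m, ?_⟩
  rw [comp_nsmul_id, ← map_nsmul_id, hm, Functor.map_zero, zero_comp]

/-- In a category all of whose objects are killed by a positive integer, representable elements
of ind-objects are killed by a positive integer. -/
theorem yoneda_elem_torsion' (htor : ∀ X : C, ∃ n : ℕ, 0 < n ∧ n • 𝟙 X = 0) {A : Ind C}
    (T : C) (x : Ind.yoneda.obj T ⟶ A) : ∃ m : ℕ, 0 < m ∧ x ≫ (m • 𝟙 A) = 0 := by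
  obtain ⟨m, hm0, hm⟩ := htor T
  refine ⟨m, hm0, ?_⟩
  rw [comp_nsmul_id, ← map_nsmul_id, hm, Functor.map_zero, zero_comp]

/-- The end of an exact sequence `X₁ ⟶ X₂ ⟶ X₃ ⟶ 0` with `X₁`, `X₂` representable is
representable. -/
theorem rep_of_exact_epi {S : ShortComplex (Ind C)} (hS : S.Exact) [Epi S.g] (h₁ : Rep S.X₁)
    (h₂ : Rep S.X₂) : Rep S.X₃ :=
  (rep_cokernel S.f h₁ h₂).of_iso
    (IsColimit.coconePointUniqueUpToIso (colimit.isColimit _) hS.gIsCokernel)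

end Torsion

section Core

variable (A : Ind C) (p : ℕ)

variable (hart : ∀ X : C, IsArtinianObject X) (hA : ∀ m : ℕ, Rep (kernel ((p ^ m) • 𝟙 A)))

include hart hA in
/-- The images `p^k A[p^{k+1}] ⊆ A[p]` are eventually constant. -/
theorem exists_stab : ∃ M₀ : ℕ, ∀ k : ℕ, M₀ ≤ k →
    imageSubobject (κ A p k) = imageSubobject (κ A p M₀) :=
  rep_chain_stabilizes (hA 1) hart _ (image_κ_antitone A p)
    (fun k => rep_imageSubobject _ (hA (k + 1)) (hA 1))

variable (htor : ∀ X : C, ∃ n : ℕ, (p ^ n) • 𝟙 X = 0) (M₀ : ℕ)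
  (hM₀ : ∀ k : ℕ, M₀ ≤ k → imageSubobject (κ A p k) = imageSubobject (κ A p M₀))

include htor hM₀ in
/-- `A[p^M₀] ⟶ A / p^n A` is an epimorphism. -/
theorem epi_γ (n : ℕ) : Epi (γ A p M₀ n) := by
  apply epi_of_forall_yoneda
  intro T z
  obtain ⟨T', π, hπ, x', hx'⟩ := exists_refinement (cokernel.π ((p ^ n) • 𝟙 A)) T z
  obtain ⟨m, hm⟩ := yoneda_elem_torsion p htor T' x'
  obtain ⟨W', π', hπ', u, z', hu, hz'⟩ := core A p M₀ hM₀ n m _ x' hm
  have : Epi (Ind.yoneda.map π) := inferInstance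
  refine ⟨W', π' ≫ Ind.yoneda.map π, epi_comp _ _, kernel.lift _ u hu, ?_⟩
  rw [γ, kernel.lift_ι_assoc, Category.assoc, ← hx', ← Category.assoc, hz', Preadditive.add_comp,
    Category.assoc, cokernel.condition, comp_zero, add_zero]

include htor hM₀ in
/-- `A / p^n A` is representable. -/
theorem rep_cokernel_pow (hA : ∀ m : ℕ, Rep (kernel ((p ^ m) • 𝟙 A))) (n : ℕ) :
    Rep (cokernel ((p ^ n) • 𝟙 A)) := by
  have := epi_γ A p htor M₀ hM₀ n
  exact rep_of_exact_epi (S := ShortComplex.mk _ _ (ν_γ A p M₀ n)) (exact_ν_γ A p M₀ n)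
    (hA _) (hA _)

include htor hM₀ in
/-- `p^M₀ A ⊆ p^n A` for every `n`. -/
theorem factors_pow (n : ℕ) : (imageSubobject ((p ^ n) • 𝟙 A)).Factors ((p ^ M₀) • 𝟙 A) := by
  apply imageSubobject_factors_of_comp_cokernel
  apply eq_zero_of_forall_yoneda
  intro T x
  obtain ⟨m, hm⟩ := yoneda_elem_torsion p htor T x
  obtain ⟨W', π', hπ', u, z', hu, hz'⟩ := core A p M₀ hM₀ n m _ x hm
  rw [← cancel_epi π', ← Category.assoc, hz', comp_zero, Preadditive.add_comp, ← Category.assoc,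
    hu, zero_comp, zero_add, Category.assoc, ← Category.assoc ((p ^ n) • 𝟙 A), nsmul_id_comp,
    mul_comm, ← nsmul_id_comp, Category.assoc, cokernel.condition, comp_zero, comp_zero]

include htor hM₀ in
/-- The images `p^n A` are constant for `n ≥ M₀`. -/
theorem image_pow_stab (n : ℕ) (hn : M₀ ≤ n) :
    imageSubobject ((p ^ n) • 𝟙 A) = imageSubobject ((p ^ M₀) • 𝟙 A) := by
  apply le_antisymm
  · obtain ⟨d, rfl⟩ := Nat.exists_eq_add_of_le hn
    rw [pow_add, mul_comm, ← nsmul_id_comp]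
    exact imageSubobject_comp_le _ _
  · exact imageSubobject_le _ _ (Subobject.factorThru_arrow _ _ (factors_pow A p htor M₀ hM₀ n))

end Core

end Groth.Agent.Lib.IndCof
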