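import Groth.Agent.Lib.IndCof
import Mathlib.Algebra.Homology.ShortComplex.SnakeLemma
import Mathlib.Algebra.Homology.ShortComplex.Abelian

/-!
# Ind-objects of cofinite type: kernels and cokernels

* `rep_five`: the middle term of a five-term exact sequence with the four outer terms
  representable is representable;
* `snake_rep`: for a short exact sequence `0 ⟶ X₁ ⟶ X₂ ⟶ X₃ ⟶ 0`, `X₃[ν]` is representable as
  soon as `X₁[ν]`, `X₂[ν]`, `X₁/ν`, `X₂/ν` are;
* `rep_kernel_nsmul_kernel`: `(ker f)[ν]` is representable if `A[ν]`, `B[ν]` are;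
* `cof_kernel_cokernel`: kernels and cokernels of morphisms of cofinite type objects.
-/

namespace Groth.Agent.Lib.IndCof2

open CategoryTheory CategoryTheory.Limits Opposite Groth.Agent.Lib.IndElem Groth.Agent.Lib.IndRep
  Groth.Agent.Lib.H86SubobjElem Groth.Agent.Lib.IndCof

universe v

section General

variable {D : Type*} [Category D] [Abelian D]

/-- The short exact sequence `0 ⟶ ker u ⟶ X ⟶ im u ⟶ 0`. -/
theorem shortExact_kernel_image {X Y : D} (u : X ⟶ Y) :
    (ShortComplex.mk (kernel.ι u) (Abelian.factorThruImage u) (by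
      rw [← cancel_mono (Abelian.image.ι u), Category.assoc, Abelian.image.fac,
        kernel.condition, zero_comp])).ShortExact := by
  have hex : (ShortComplex.mk (kernel.ι u) u (kernel.condition u)).Exact :=
    ShortComplex.exact_kernel u
  let φ : ShortComplex.mk (kernel.ι u) (Abelian.factorThruImage u) (by
      rw [← cancel_mono (Abelian.image.ι u), Category.assoc, Abelian.image.fac,
        kernel.condition, zero_comp]) ⟶ ShortComplex.mk (kernel.ι u) u (kernel.condition u) :=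
    { τ₁ := 𝟙 _
      τ₂ := 𝟙 _
      τ₃ := Abelian.image.ι u
      comm₁₂ := by simp
      comm₂₃ := by simp }
  have h1 : Epi φ.τ₁ := by dsimp [φ]; infer_instance
  have h2 : IsIso φ.τ₂ := by dsimp [φ]; infer_instance
  have h3 : Mono φ.τ₃ := by dsimp [φ]; infer_instance
  exact
    { exact := (ShortComplex.exact_iff_of_epi_of_isIso_of_mono φ).mpr hex
      mono_f := by dsimp; infer_instance
      epi_g := by dsimp; infer_instance }

/-- The short exact sequence `0 ⟶ im u ⟶ Y ⟶ coker u ⟶ 0`. -/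
theorem shortExact_image_cokernel {X Y : D} (u : X ⟶ Y) :
    (ShortComplex.mk (Abelian.image.ι u) (cokernel.π u) (kernel.condition _)).ShortExact :=
  { exact := ShortComplex.exact_kernel _
    mono_f := by dsimp; infer_instance
    epi_g := by dsimp; infer_instance }

end General

variable {C : Type v} [SmallCategory C] [Abelian C]

/-- The beginning of an exact sequence `0 ⟶ X₁ ⟶ X₂ ⟶ X₃` with `X₂`, `X₃` representable is
representable. -/
theorem rep_of_exact_mono {S : ShortComplex (Ind C)} (hS : S.Exact) [Mono S.f] (h₂ : Rep S.X₂)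
    (h₃ : Rep S.X₃) : Rep S.X₁ :=
  (rep_kernel S.g h₂ h₃).of_iso
    (IsLimit.conePointUniqueUpToIso (limit.isLimit _) hS.fIsKernel)

/-- The middle term of a five-term exact sequence with the four outer terms representable is
representable. -/
theorem rep_five {X₁ X₂ X₃ X₄ X₅ : Ind C} (f : X₁ ⟶ X₂) (g : X₂ ⟶ X₃) (h : X₃ ⟶ X₄)
    (k : X₄ ⟶ X₅) (w₁ : f ≫ g = 0) (w₂ : g ≫ h = 0) (w₃ : h ≫ k = 0)
    (e₁ : (ShortComplex.mk f g w₁).Exact) (e₂ : (ShortComplex.mk g h w₂).Exact)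
    (e₃ : (ShortComplex.mk h k w₃).Exact)
    (h₁ : Rep X₁) (h₂ : Rep X₂) (h₄ : Rep X₄) (h₅ : Rep X₅) : Rep X₃ := by
  -- `ker h ≅ coker f`
  have hK : Rep (kernel h) := by
    let g' : X₂ ⟶ kernel h := kernel.lift h g w₂
    have hg' : g' ≫ kernel.ι h = g := kernel.lift_ι _ _ _
    have w' : f ≫ g' = 0 := by
      rw [← cancel_mono (kernel.ι h), Category.assoc, hg', w₁, zero_comp]
    have hepi : Epi g' := e₂.epi_kernelLift
    have ex : (ShortComplex.mk f g' w').Exact := by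
      let φ : ShortComplex.mk f g' w' ⟶ ShortComplex.mk f g w₁ :=
        { τ₁ := 𝟙 _
          τ₂ := 𝟙 _
          τ₃ := kernel.ι h
          comm₁₂ := by simp
          comm₂₃ := by simp [hg'] }
      have h1 : Epi φ.τ₁ := by dsimp [φ]; infer_instance
      have h2 : IsIso φ.τ₂ := by dsimp [φ]; infer_instance
      have h3 : Mono φ.τ₃ := by dsimp [φ]; infer_instance
      exact (ShortComplex.exact_iff_of_epi_of_isIso_of_mono φ).mpr e₁
    have : Epi (ShortComplex.mk f g' w').g := hepi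
    exact rep_of_exact_epi (S := ShortComplex.mk f g' w') ex h₁ h₂
  -- `im h ≅ ker k`
  have hI : Rep (Abelian.image h) := by
    have w' : Abelian.image.ι h ≫ k = 0 := by
      rw [← cancel_epi (Abelian.factorThruImage h), ← Category.assoc, Abelian.image.fac, w₃,
        comp_zero]
    have ex : (ShortComplex.mk (Abelian.image.ι h) k w').Exact := by
      let φ : ShortComplex.mk h k w₃ ⟶ ShortComplex.mk (Abelian.image.ι h) k w' :=
        { τ₁ := Abelian.factorThruImage h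
          τ₂ := 𝟙 _
          τ₃ := 𝟙 _
          comm₁₂ := by simp
          comm₂₃ := by simp }
      have h1 : Epi φ.τ₁ := by dsimp [φ]; infer_instance
      have h2 : IsIso φ.τ₂ := by dsimp [φ]; infer_instance
      have h3 : Mono φ.τ₃ := by dsimp [φ]; infer_instance
      exact (ShortComplex.exact_iff_of_epi_of_isIso_of_mono φ).mp e₃
    have : Mono (ShortComplex.mk (Abelian.image.ι h) k w').f := by dsimp; infer_instance
    exact rep_of_exact_mono (S := ShortComplex.mk (Abelian.image.ι h) k w') ex h₄ h₅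
  exact rep_of_shortExact (shortExact_kernel_image h) hK hI

/-- Multiplication by `ν` as an endomorphism of a short complex. -/
@[simps]
noncomputable def mulHom (S : ShortComplex (Ind C)) (ν : ℕ) : S ⟶ S where
  τ₁ := ν • 𝟙 _
  τ₂ := ν • 𝟙 _
  τ₃ := ν • 𝟙 _
  comm₁₂ := (comp_nsmul_id S.f ν).symm
  comm₂₃ := (comp_nsmul_id S.g ν).symm

/-- **Snake lemma for representability**: for a short exact sequence
`0 ⟶ X₁ ⟶ X₂ ⟶ X₃ ⟶ 0` of ind-objects, `X₃[ν]` is representable as soon as `X₁[ν]`, `X₂[ν]`,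
`X₁/ν` and `X₂/ν` are. -/
theorem snake_rep {S : ShortComplex (Ind C)} (hS : S.ShortExact) (ν : ℕ)
    (h₁ : Rep (kernel (ν • 𝟙 S.X₁))) (h₂ : Rep (kernel (ν • 𝟙 S.X₂)))
    (h₁' : Rep (cokernel (ν • 𝟙 S.X₁))) (h₂' : Rep (cokernel (ν • 𝟙 S.X₂))) :
    Rep (kernel (ν • 𝟙 S.X₃)) := by
  let I : ShortComplex.SnakeInput (Ind C) :=
    { L₀ := kernel (mulHom S ν)
      L₁ := S
      L₂ := S
      L₃ := cokernel (mulHom S ν)
      v₀₁ := kernel.ι _
      v₁₂ := mulHom S ν
      v₂₃ := cokernel.π _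
      w₀₂ := kernel.condition _
      w₁₃ := cokernel.condition _
      h₀ := kernelIsKernel _
      h₃ := cokernelIsCokernel _
      L₁_exact := hS.exact
      epi_L₁_g := hS.epi_g
      L₂_exact := hS.exact
      mono_L₂_f := hS.mono_f }
  have e₀₁ : I.L₀.X₁ ≅ kernel (ν • 𝟙 S.X₁) :=
    IsLimit.conePointUniqueUpToIso I.h₀τ₁ (limit.isLimit _)
  have e₀₂ : I.L₀.X₂ ≅ kernel (ν • 𝟙 S.X₂) :=
    IsLimit.conePointUniqueUpToIso I.h₀τ₂ (limit.isLimit _)
  have e₀₃ : I.L₀.X₃ ≅ kernel (ν • 𝟙 S.X₃) :=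
    IsLimit.conePointUniqueUpToIso I.h₀τ₃ (limit.isLimit _)
  have e₃₁ : I.L₃.X₁ ≅ cokernel (ν • 𝟙 S.X₁) :=
    IsColimit.coconePointUniqueUpToIso I.h₃τ₁ (colimit.isColimit _)
  have e₃₂ : I.L₃.X₂ ≅ cokernel (ν • 𝟙 S.X₂) :=
    IsColimit.coconePointUniqueUpToIso I.h₃τ₂ (colimit.isColimit _)
  exact (rep_five I.L₀.f I.L₀.g I.δ I.L₃.f I.L₀.zero I.L₀_g_δ I.δ_L₃_f I.L₀_exact I.L₁'_exact
    I.L₂'_exact (h₁.of_iso e₀₁.symm) (h₂.of_iso e₀₂.symm) (h₁'.of_iso e₃₁.symm)
    (h₂'.of_iso e₃₂.symm)).of_iso e₀₃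

/-- `(ker f)[ν]` is representable as soon as `A[ν]` and `B[ν]` are. -/
theorem rep_kernel_nsmul_kernel {A B : Ind C} (f : A ⟶ B) (ν : ℕ)
    (hA : Rep (kernel (ν • 𝟙 A))) (hB : Rep (kernel (ν • 𝟙 B))) :
    Rep (kernel (ν • 𝟙 (kernel f))) := by
  let fν : kernel (ν • 𝟙 A) ⟶ kernel (ν • 𝟙 B) :=
    kernel.map _ _ f f (comp_nsmul_id f ν).symm
  have hfν : fν ≫ kernel.ι (ν • 𝟙 B) = kernel.ι (ν • 𝟙 A) ≫ f := kernel.lift_ι _ _ _
  let i : kernel (ν • 𝟙 (kernel f)) ⟶ kernel (ν • 𝟙 A) :=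
    kernel.map _ _ (kernel.ι f) (kernel.ι f) (comp_nsmul_id (kernel.ι f) ν).symm
  have hi : i ≫ kernel.ι (ν • 𝟙 A) = kernel.ι (ν • 𝟙 (kernel f)) ≫ kernel.ι f :=
    kernel.lift_ι _ _ _
  have himono : Mono i := by
    have : Mono (i ≫ kernel.ι (ν • 𝟙 A)) := by rw [hi]; infer_instance
    exact mono_of_mono i (kernel.ι (ν • 𝟙 A))
  have w : i ≫ fν = 0 := by
    rw [← cancel_mono (kernel.ι (ν • 𝟙 B)), Category.assoc, hfν, ← Category.assoc, hi,
      Category.assoc, kernel.condition, comp_zero, zero_comp]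
  have ex : (ShortComplex.mk i fν w).Exact := by
    rw [ShortComplex.exact_iff_exact_up_to_refinements]
    intro W x hx
    dsimp at x hx
    have h1 : (x ≫ kernel.ι (ν • 𝟙 A)) ≫ f = 0 := by
      rw [Category.assoc, ← hfν, ← Category.assoc, hx, zero_comp]
    let y : W ⟶ kernel f := kernel.lift f (x ≫ kernel.ι (ν • 𝟙 A)) h1
    have hy : y ≫ kernel.ι f = x ≫ kernel.ι (ν • 𝟙 A) := kernel.lift_ι _ _ _
    have h2 : y ≫ (ν • 𝟙 (kernel f)) = 0 := by
      rw [← cancel_mono (kernel.ι f), Category.assoc, ← comp_nsmul_id, ← Category.assoc, hy,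
        Category.assoc, kernel.condition, comp_zero, zero_comp]
    refine ⟨W, 𝟙 W, inferInstance, kernel.lift _ y h2, ?_⟩
    dsimp
    rw [Category.id_comp, ← cancel_mono (kernel.ι (ν • 𝟙 A)), Category.assoc, hi,
      kernel.lift_ι_assoc, hy]
  have : Mono (ShortComplex.mk i fν w).f := himono
  exact rep_of_exact_mono (S := ShortComplex.mk i fν w) ex hA hB

/-- Kernels and cokernels of morphisms between ind-objects "of cofinite type" with respect to a
set `P` of integers `ν` (those `A` with `A[ν]` representable for `ν ∈ P`) are of cofinite type,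
provided `X/ν` is representable for every cofinite type `X` and `ν ∈ P`. -/
theorem cof_kernel_cokernel (P : ℕ → Prop)
    (hcok : ∀ X : Ind C, (∀ ν, P ν → Rep (kernel (ν • 𝟙 X))) →
      ∀ ν, P ν → Rep (cokernel (ν • 𝟙 X)))
    {A B : Ind C} (f : A ⟶ B) (hA : ∀ ν, P ν → Rep (kernel (ν • 𝟙 A)))
    (hB : ∀ ν, P ν → Rep (kernel (ν • 𝟙 B))) :
    (∀ ν, P ν → Rep (kernel (ν • 𝟙 (kernel f)))) ∧
      (∀ ν, P ν → Rep (kernel (ν • 𝟙 (cokernel f)))) := by
  have hK : ∀ ν, P ν → Rep (kernel (ν • 𝟙 (kernel f))) := fun ν hν =>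
    rep_kernel_nsmul_kernel f ν (hA ν hν) (hB ν hν)
  have hI : ∀ ν, P ν → Rep (kernel (ν • 𝟙 (Abelian.image f))) := fun ν hν =>
    snake_rep (shortExact_kernel_image f) ν (hK ν hν) (hA ν hν) (hcok _ hK ν hν)
      (hcok _ hA ν hν)
  refine ⟨hK, fun ν hν => ?_⟩
  exact snake_rep (shortExact_image_cokernel f) ν (hI ν hν) (hB ν hν) (hcok _ hI ν hν)
    (hcok _ hB ν hν)

end Groth.Agent.Lib.IndCof2
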