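import Groth.Agent.Lib.IndCof2
import Mathlib.RingTheory.Coprime.Lemmas
import Mathlib.Data.Nat.Factorization.Induction
import Mathlib.Data.Nat.Factorization.Basic

/-!
# Ind-objects of cofinite type, torsion by arbitrary positive integers

`rep_cokernel_nsmul`: if all objects of `C` are Artinian and killed by a positive integer and
`A[n]` is representable for all `n > 0`, then `A / n A` is representable for all `n > 0`.
-/

namespace Groth.Agent.Lib.IndCof3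

open CategoryTheory CategoryTheory.Limits Opposite Groth.Agent.Lib.IndElem Groth.Agent.Lib.IndRep
  Groth.Agent.Lib.H86SubobjElem Groth.Agent.Lib.IndCof Groth.Agent.Lib.IndCof2

universe v

section Group

variable {G : Type*} [AddCommGroup G]

/-- An element killed by `a * b` with `a`, `b` coprime is the sum of an element killed by `a` and
an element killed by `b`. -/
theorem exists_split_of_coprime (x : G) {a b : ℕ} (h : Nat.Coprime a b) (hx : (a * b) • x = 0) :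
    ∃ x₁ x₂ : G, x = x₁ + x₂ ∧ a • x₁ = 0 ∧ b • x₂ = 0 := by
  obtain ⟨u, w, huw⟩ := (Nat.isCoprime_iff_coprime.mpr h)
  have hx' : ((a : ℤ) * (b : ℤ)) • x = 0 := by
    rw [← Nat.cast_mul, natCast_zsmul]; exact hx
  refine ⟨(w * b) • x, (u * a) • x, ?_, ?_, ?_⟩
  · rw [← add_zsmul, add_comm, huw, one_zsmul]
  · rw [← natCast_zsmul, ← mul_zsmul, show (a : ℤ) * (w * b) = w * (a * b) by ring, mul_zsmul, hx',
      zsmul_zero]
  · rw [← natCast_zsmul, ← mul_zsmul, show (b : ℤ) * (u * a) = u * (a * b) by ring, mul_zsmul, hx',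
      zsmul_zero]

/-- An element killed by `b` is divisible by every `c` coprime to `b`. -/
theorem exists_div_of_coprime (x : G) {b c : ℕ} (h : Nat.Coprime c b) (hx : b • x = 0) :
    ∃ y : G, x = c • y := by
  obtain ⟨u, w, huw⟩ := (Nat.isCoprime_iff_coprime.mpr h)
  have hx' : (b : ℤ) • x = 0 := by rw [natCast_zsmul]; exact hx
  refine ⟨u • x, ?_⟩
  rw [← natCast_zsmul, ← mul_zsmul]
  have : x = (u * c + w * b) • x := by rw [huw, one_zsmul]
  rw [add_zsmul, mul_zsmul x w (b : ℤ), hx', zsmul_zero, add_zero] at this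
  rw [mul_comm]
  exact this

end Group

section Abelian

variable {𝒜 : Type*} [Category 𝒜] [Abelian 𝒜] (A : 𝒜)

theorem comp_nsmul_id' {W : 𝒜} (x : W ⟶ A) (n : ℕ) : x ≫ (n • 𝟙 A) = n • x := by
  rw [Preadditive.comp_nsmul, Category.comp_id]

/-- **Core decomposition, general torsion**: as `core`, for elements killed by an arbitrary
positive integer. -/
theorem gen_core (p : ℕ) (hp : p.Prime) (M₀ : ℕ)
    (hM₀ : ∀ k : ℕ, M₀ ≤ k → imageSubobject (κ A p k) = imageSubobject (κ A p M₀)) (n : ℕ)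
    (L : ℕ) (hL : 0 < L) (W : 𝒜) (x : W ⟶ A) (hx : x ≫ (L • 𝟙 A) = 0) :
    ∃ (W' : 𝒜) (π : W' ⟶ W) (_ : Epi π) (u z : W' ⟶ A),
      u ≫ ((p ^ M₀) • 𝟙 A) = 0 ∧ π ≫ x = u + z ≫ ((p ^ n) • 𝟙 A) := by
  obtain ⟨e, b, hb, rfl⟩ := Nat.exists_eq_pow_mul_and_not_dvd hL.ne' p hp.ne_one
  have hcop : Nat.Coprime (p ^ e) b :=
    Nat.Coprime.pow_left e ((Nat.Prime.coprime_iff_not_dvd hp).mpr hb)
  rw [comp_nsmul_id'] at hx
  obtain ⟨x₁, x₂, hx12, hx₁, hx₂⟩ := exists_split_of_coprime x hcop hx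
  have hcop' : Nat.Coprime (p ^ n) b :=
    Nat.Coprime.pow_left n ((Nat.Prime.coprime_iff_not_dvd hp).mpr hb)
  obtain ⟨y, hy⟩ := exists_div_of_coprime x₂ hcop' hx₂
  obtain ⟨W', π, hπ, u, z, hu, hz⟩ := core A p M₀ hM₀ n e W x₁ (by rw [comp_nsmul_id']; exact hx₁)
  refine ⟨W', π, hπ, u, z + π ≫ y, hu, ?_⟩
  rw [hx12, Preadditive.comp_add, hz, Preadditive.add_comp, Category.assoc, comp_nsmul_id' A y,
    ← hy, add_assoc]

/-- The four-term exact sequence `A[b] ⟶ A/a ⟶ A/(ab) ⟶ A/b ⟶ 0`: the first map. -/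
noncomputable def φ₁ (a b : ℕ) : kernel (b • 𝟙 A) ⟶ cokernel (a • 𝟙 A) :=
  kernel.ι _ ≫ cokernel.π _

/-- Multiplication by `b` from `A/a` to `A/(ab)`. -/
noncomputable def φ₂ (a b : ℕ) : cokernel (a • 𝟙 A) ⟶ cokernel ((a * b) • 𝟙 A) :=
  cokernel.desc _ ((b • 𝟙 A) ≫ cokernel.π _) (by
    rw [← Category.assoc, nsmul_id_comp, cokernel.condition])

/-- The projection `A/(ab) ⟶ A/b`. -/
noncomputable def φ₃ (a b : ℕ) : cokernel ((a * b) • 𝟙 A) ⟶ cokernel (b • 𝟙 A) :=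
  cokernel.desc _ (cokernel.π _) (by
    rw [← nsmul_id_comp, Category.assoc, cokernel.condition, comp_zero])

@[reassoc]
theorem π_φ₂ (a b : ℕ) : cokernel.π (a • 𝟙 A) ≫ φ₂ A a b = (b • 𝟙 A) ≫ cokernel.π _ :=
  cokernel.π_desc _ _ _

@[reassoc]
theorem π_φ₃ (a b : ℕ) : cokernel.π ((a * b) • 𝟙 A) ≫ φ₃ A a b = cokernel.π _ :=
  cokernel.π_desc _ _ _

theorem φ₁_φ₂ (a b : ℕ) : φ₁ A a b ≫ φ₂ A a b = 0 := by
  rw [φ₁, Category.assoc, π_φ₂, ← Category.assoc, kernel.condition, zero_comp]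

theorem φ₂_φ₃ (a b : ℕ) : φ₂ A a b ≫ φ₃ A a b = 0 := by
  rw [← cancel_epi (cokernel.π (a • 𝟙 A)), ← Category.assoc, π_φ₂, Category.assoc, π_φ₃,
    cokernel.condition, comp_zero]

instance (a b : ℕ) : Epi (φ₃ A a b) := by
  have : Epi (cokernel.π ((a * b) • 𝟙 A) ≫ φ₃ A a b) := by rw [π_φ₃]; infer_instance
  exact epi_of_epi (cokernel.π ((a * b) • 𝟙 A)) _

theorem exact_φ₁_φ₂ (a b : ℕ) : (ShortComplex.mk _ _ (φ₁_φ₂ A a b)).Exact := by
  rw [ShortComplex.exact_iff_exact_up_to_refinements]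
  intro W x hx
  dsimp at x hx
  obtain ⟨W₁, π₁, hπ₁, x', hx'⟩ := surjective_up_to_refinements_of_epi (cokernel.π (a • 𝟙 A)) x
  have h1 : (x' ≫ (b • 𝟙 A)) ≫ cokernel.π ((a * b) • 𝟙 A) = 0 := by
    rw [Category.assoc, ← π_φ₂, ← Category.assoc, ← hx', Category.assoc, hx, comp_zero]
  obtain ⟨W₂, π₂, hπ₂, y, hy⟩ :=
    (ShortComplex.exact_cokernel ((a * b) • 𝟙 A)).exact_up_to_refinements _ h1
  dsimp at y hy
  have h2 : (π₂ ≫ x' - y ≫ (a • 𝟙 A)) ≫ (b • 𝟙 A) = 0 := by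
    rw [Preadditive.sub_comp, Category.assoc, Category.assoc, hy, nsmul_id_comp, sub_self]
  refine ⟨W₂, π₂ ≫ π₁, epi_comp _ _, kernel.lift _ _ h2, ?_⟩
  dsimp
  rw [φ₁, kernel.lift_ι_assoc, Preadditive.sub_comp, Category.assoc y,
    cokernel.condition, comp_zero, sub_zero, Category.assoc, Category.assoc, hx']

theorem exact_φ₂_φ₃ (a b : ℕ) : (ShortComplex.mk _ _ (φ₂_φ₃ A a b)).Exact := by
  rw [ShortComplex.exact_iff_exact_up_to_refinements]
  intro W x hx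
  dsimp at x hx
  obtain ⟨W₁, π₁, hπ₁, x', hx'⟩ :=
    surjective_up_to_refinements_of_epi (cokernel.π ((a * b) • 𝟙 A)) x
  have h1 : x' ≫ cokernel.π (b • 𝟙 A) = 0 := by
    rw [← π_φ₃ A a b, ← Category.assoc, ← hx', Category.assoc, hx, comp_zero]
  obtain ⟨W₂, π₂, hπ₂, y, hy⟩ :=
    (ShortComplex.exact_cokernel (b • 𝟙 A)).exact_up_to_refinements _ h1
  dsimp at y hy
  refine ⟨W₂, π₂ ≫ π₁, epi_comp _ _, y ≫ cokernel.π _, ?_⟩
  dsimp
  rw [Category.assoc y, π_φ₂, ← Category.assoc y, ← hy, Category.assoc, Category.assoc, hx']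

end Abelian

variable {C : Type v} [SmallCategory C] [Abelian C]

/-- `A/(ab)` is representable as soon as `A/a`, `A/b` and `A[b]` are. -/
theorem rep_cokernel_mul (A : Ind C) (a b : ℕ) (ha : Rep (cokernel (a • 𝟙 A)))
    (hb : Rep (cokernel (b • 𝟙 A))) (hb' : Rep (kernel (b • 𝟙 A))) :
    Rep (cokernel ((a * b) • 𝟙 A)) := by
  have ex : (ShortComplex.mk (φ₃ A a b) (0 : cokernel (b • 𝟙 A) ⟶ cokernel (b • 𝟙 A))
      comp_zero).Exact := by
    rw [ShortComplex.exact_iff_epi _ rfl]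
    dsimp
    infer_instance
  exact rep_five (φ₁ A a b) (φ₂ A a b) (φ₃ A a b) 0 (φ₁_φ₂ A a b) (φ₂_φ₃ A a b) comp_zero
    (exact_φ₁_φ₂ A a b) (exact_φ₂_φ₃ A a b) ex hb' ha hb hb

section Main

variable (hart : ∀ X : C, IsArtinianObject X)
  (htor : ∀ X : C, ∃ n : ℕ, 0 < n ∧ n • 𝟙 X = 0) (A : Ind C)
  (hA : ∀ n : ℕ, 0 < n → Rep (kernel (n • 𝟙 A)))

include htor in
/-- `A[p^M₀] ⟶ A / p^n A` is an epimorphism (general torsion). -/
theorem epi_γ' (p : ℕ) (hp : p.Prime) (M₀ : ℕ)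
    (hM₀ : ∀ k : ℕ, M₀ ≤ k → imageSubobject (κ A p k) = imageSubobject (κ A p M₀)) (n : ℕ) :
    Epi (γ A p M₀ n) := by
  apply epi_of_forall_yoneda
  intro T z
  obtain ⟨T', π, hπ, x', hx'⟩ := exists_refinement (cokernel.π ((p ^ n) • 𝟙 A)) T z
  obtain ⟨L, hL, hm⟩ := yoneda_elem_torsion' htor T' x'
  obtain ⟨W', π', hπ', u, z', hu, hz'⟩ := gen_core A p hp M₀ hM₀ n L hL _ x' hm
  have : Epi (Ind.yoneda.map π) := inferInstance
  refine ⟨W', π' ≫ Ind.yoneda.map π, epi_comp _ _, kernel.lift _ u hu, ?_⟩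
  rw [γ, kernel.lift_ι_assoc, Category.assoc, ← hx', ← Category.assoc, hz', Preadditive.add_comp,
    Category.assoc, cokernel.condition, comp_zero, add_zero]

include hart htor hA in
/-- `A / p^n A` is representable (general torsion). -/
theorem rep_cokernel_pow' (p : ℕ) (hp : p.Prime) (n : ℕ) :
    Rep (cokernel ((p ^ n) • 𝟙 A)) := by
  have hA' : ∀ m : ℕ, Rep (kernel ((p ^ m) • 𝟙 A)) := fun m => hA _ (pow_pos hp.pos m)
  obtain ⟨M₀, hM₀⟩ := exists_stab A p hart hA'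
  have := epi_γ' htor A p hp M₀ hM₀ n
  exact rep_of_exact_epi (S := ShortComplex.mk _ _ (ν_γ A p M₀ n)) (exact_ν_γ A p M₀ n)
    (hA' _) (hA' _)

include hart htor hA in
/-- **`A / n A` is representable** for every `n > 0`. -/
theorem rep_cokernel_nsmul (n : ℕ) (hn : 0 < n) : Rep (cokernel (n • 𝟙 A)) := by
  induction n using induction_on_primes with
  | zero => exact absurd hn (lt_irrefl 0)
  | one =>
    apply rep_of_isZero
    rw [one_smul]
    exact isZero_cokernel_of_epi (𝟙 A)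
  | prime_mul p a hp ih =>
    have ha : 0 < a := Nat.pos_of_mul_pos_left hn
    have h1 := rep_cokernel_pow' hart htor A hA p hp 1
    rw [pow_one] at h1
    exact rep_cokernel_mul A p a h1 (ih ha) (hA a ha)

end Main

end Groth.Agent.Lib.IndCof3
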