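import Groth.Agent.Lib.IndCof2

/-!
# Ind-objects of cofinite type: the divisible part

For `A` with `p^n A = p^N A` for `n ≥ N`, the subobject `p^N A` is divisible, of cofinite type,
contains every divisible subobject, and is killed by every morphism to a representable object.
-/

namespace Groth.Agent.Lib.IndCof4

open CategoryTheory CategoryTheory.Limits Opposite Groth.Agent.Lib.IndElem Groth.Agent.Lib.IndRep
  Groth.Agent.Lib.H86SubobjElem Groth.Agent.Lib.IndCof Groth.Agent.Lib.IndCof2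

universe v

section Abelian

variable {𝒜 : Type*} [Category 𝒜] [Abelian 𝒜]

theorem mk_factors_iff' {X Y Z : 𝒜} (f : Y ⟶ X) [Mono f] (g : Z ⟶ X) :
    (Subobject.mk f).Factors g ↔ ∃ h : Z ⟶ Y, h ≫ f = g := Iff.rfl

/-- Subobjects are closed under multiplication by integers. -/
theorem factors_comp_nsmul {W A : 𝒜} (P : Subobject A) (x : W ⟶ A) (n : ℕ) (h : P.Factors x) :
    P.Factors (x ≫ (n • 𝟙 A)) := by
  rw [comp_nsmul_id]
  exact Subobject.factors_of_factors_right _ h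

theorem factors_sub {W A : 𝒜} (P : Subobject A) (x y : W ⟶ A) (hx : P.Factors x)
    (hy : P.Factors y) : P.Factors (x - y) := by
  have : x - y = (P.factorThru x hx - P.factorThru y hy) ≫ P.arrow := by
    rw [Preadditive.sub_comp, Subobject.factorThru_arrow, Subobject.factorThru_arrow]
  rw [this]
  exact Subobject.factors_comp_arrow _

theorem epi_pow_nsmul (p : ℕ) {X : 𝒜} (h : Epi (p • 𝟙 X)) (n : ℕ) : Epi ((p ^ n) • 𝟙 X) := by
  induction n with
  | zero => rw [pow_zero, one_smul]; infer_instance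
  | succ k ih =>
    rw [pow_succ, ← nsmul_id_comp]
    exact epi_comp _ _

variable (A : 𝒜) (p : ℕ)

/-- If `p^{N+1} A = p^N A` then `p^N A` is `p`-divisible. -/
theorem epi_nsmul_image (N : ℕ)
    (h : imageSubobject ((p ^ (N + 1)) • 𝟙 A) = imageSubobject ((p ^ N) • 𝟙 A)) :
    Epi (p • 𝟙 ((imageSubobject ((p ^ N) • 𝟙 A) : Subobject A) : 𝒜)) := by
  rw [epi_iff_surjective_up_to_refinements]
  intro W d
  have hf : (imageSubobject ((p ^ (N + 1)) • 𝟙 A)).Factors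
      (d ≫ (imageSubobject ((p ^ N) • 𝟙 A)).arrow) := by
    rw [h]; exact Subobject.factors_comp_arrow _
  rw [imageSubobject_factors_iff] at hf
  obtain ⟨W', π, hπ, w, hw⟩ := hf
  refine ⟨W', π, hπ, w ≫ factorThruImageSubobject ((p ^ N) • 𝟙 A), ?_⟩
  rw [← cancel_mono (imageSubobject ((p ^ N) • 𝟙 A)).arrow, Category.assoc, hw, Category.assoc,
    Category.assoc, ← comp_nsmul_id, imageSubobject_arrow_comp_assoc, nsmul_id_comp, ← pow_succ]

/-- Every `p`-divisible subobject of `A` lies in `p^N A`. -/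
theorem le_image_of_epi (D' : Subobject A) (h : Epi (p • 𝟙 (D' : 𝒜))) (N : ℕ) :
    D' ≤ imageSubobject ((p ^ N) • 𝟙 A) := by
  rw [le_iff_forall_factors]
  intro W y hy
  have hN := epi_pow_nsmul p h N
  obtain ⟨W', π, hπ, z, hz⟩ := surjective_up_to_refinements_of_epi ((p ^ N) • 𝟙 (D' : 𝒜))
    (D'.factorThru y hy)
  rw [imageSubobject_factors_iff]
  refine ⟨W', π, hπ, z ≫ D'.arrow, ?_⟩
  rw [Category.assoc, comp_nsmul_id, ← Category.assoc, ← hz, Category.assoc,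
    Subobject.factorThru_arrow]

/-- If `p^{N+e} A = p^N A` and `p^e` kills `Q`, every morphism `A ⟶ Q` vanishes on `p^N A`. -/
theorem image_arrow_comp_eq_zero {Q : 𝒜} (q : A ⟶ Q) (e : ℕ) (hQ : (p ^ e) • 𝟙 Q = 0) (N : ℕ)
    (h : imageSubobject ((p ^ (N + e)) • 𝟙 A) = imageSubobject ((p ^ N) • 𝟙 A)) :
    (imageSubobject ((p ^ N) • 𝟙 A)).arrow ≫ q = 0 := by
  have hf : (imageSubobject ((p ^ (N + e)) • 𝟙 A)).Factors
      (imageSubobject ((p ^ N) • 𝟙 A)).arrow := by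
    rw [h]; exact Subobject.factors_self _
  rw [imageSubobject_factors_iff] at hf
  obtain ⟨W', π, hπ, w, hw⟩ := hf
  rw [← cancel_epi π, ← Category.assoc, hw, comp_zero, pow_add, ← nsmul_id_comp, Category.assoc,
    Category.assoc, ← comp_nsmul_id q, hQ, comp_zero, comp_zero, comp_zero]

end Abelian

variable {C : Type v} [SmallCategory C] [Abelian C]

theorem rep_kernel_nsmul_of_iso {X Y : Ind C} (e : X ≅ Y) (ν : ℕ)
    (h : Rep (kernel (ν • 𝟙 X))) : Rep (kernel (ν • 𝟙 Y)) :=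
  h.of_iso (kernel.mapIso _ _ e e (comp_nsmul_id e.hom ν).symm)

theorem epi_nsmul_of_iso {𝒜 : Type*} [Category 𝒜] [Preadditive 𝒜] {X Y : 𝒜} (e : X ≅ Y) (ν : ℕ)
    (h : Epi (ν • 𝟙 X)) : Epi (ν • 𝟙 Y) := by
  have : ν • 𝟙 Y = e.inv ≫ (ν • 𝟙 X) ≫ e.hom := by
    rw [← comp_nsmul_id, e.inv_hom_id_assoc]
  rw [this]
  infer_instance

/-- A representable ind-object is killed by a power of `p`. -/
theorem exists_pow_nsmul_eq_zero_of_rep (p : ℕ) (htor : ∀ X : C, ∃ n : ℕ, (p ^ n) • 𝟙 X = 0)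
    {Q : Ind C} (hQ : Rep Q) : ∃ e : ℕ, (p ^ e) • 𝟙 Q = 0 := by
  obtain ⟨X, ⟨i⟩⟩ := hQ
  obtain ⟨e, he⟩ := htor X
  refine ⟨e, ?_⟩
  have : (p ^ e) • 𝟙 Q = i.inv ≫ ((p ^ e) • 𝟙 (Ind.yoneda.obj X)) ≫ i.hom := by
    rw [← comp_nsmul_id, i.inv_hom_id_assoc]
  rw [this, ← map_nsmul_id, he, Functor.map_zero, zero_comp, comp_zero]

/-- The image of `f` has representable `ν`-torsion as soon as `A[ν]` and `(coker f)[ν]` do. -/
theorem rep_kernel_nsmul_imageSubobject {A' A : Ind C} (f : A' ⟶ A) (ν : ℕ)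
    (hA : Rep (kernel (ν • 𝟙 A))) (hQ : Rep (kernel (ν • 𝟙 (cokernel f)))) :
    Rep (kernel (ν • 𝟙 ((imageSubobject f : Subobject A) : Ind C))) :=
  rep_kernel_nsmul_of_iso ((Abelian.imageIsoImage f ≪≫ (imageSubobjectIso f).symm)) ν
    (rep_kernel_nsmul_kernel (cokernel.π f) ν hA hQ)

/-- `p^N A` is of cofinite type. -/
theorem rep_kernel_nsmul_image_pow (A : Ind C) (p N : ℕ) (ν : ℕ)
    (hA : Rep (kernel (ν • 𝟙 A))) (hQ : Rep (cokernel ((p ^ N) • 𝟙 A))) :
    Rep (kernel (ν • 𝟙 ((imageSubobject ((p ^ N) • 𝟙 A) : Subobject A) : Ind C))) :=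
  rep_kernel_nsmul_imageSubobject _ ν hA (rep_kernel _ hQ hQ)

end Groth.Agent.Lib.IndCof4
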