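import Groth.Agent.Lib.IndCof4

/-!
# Ind-objects of cofinite type form an Artinian category
-/

namespace Groth.Agent.Lib.IndCof5

open CategoryTheory CategoryTheory.Limits Opposite Groth.Agent.Lib.IndElem Groth.Agent.Lib.IndRep
  Groth.Agent.Lib.H86SubobjElem Groth.Agent.Lib.IndCof Groth.Agent.Lib.IndCof2
  Groth.Agent.Lib.IndCof4

universe v

section Abelian

variable {𝒜 : Type*} [Category 𝒜] [Abelian 𝒜] {A : 𝒜}

/-- Precomposing with an epimorphism does not change the image. -/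
theorem imageSubobject_eq_of_epi_comp {X' X Y : 𝒜} (π : X' ⟶ X) [Epi π] (f : X ⟶ Y) (g : X' ⟶ Y)
    (h : π ≫ f = g) : imageSubobject g = imageSubobject f := by
  subst h
  apply eq_of_forall_factors_iff
  intro W y
  rw [imageSubobject_factors_iff, imageSubobject_factors_iff]
  constructor
  · rintro ⟨W', π', hπ', x, hx⟩
    exact ⟨W', π', hπ', x ≫ π, by rw [hx, Category.assoc]⟩
  · rintro ⟨W', π', hπ', x, hx⟩
    obtain ⟨W'', π'', hπ'', x', hx'⟩ := surjective_up_to_refinements_of_epi π x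
    exact ⟨W'', π'' ≫ π', epi_comp _ _, x', by
      rw [Category.assoc, hx, ← Category.assoc, hx', Category.assoc]⟩

/-- The `ν`-torsion of a subobject `D` of `A`, as a subobject of `A`. -/
noncomputable def torsionSub (D : Subobject A) (ν : ℕ) : Subobject A :=
  Subobject.mk (kernel.ι (ν • 𝟙 (D : 𝒜)) ≫ D.arrow)

theorem torsionSub_factors_iff (D : Subobject A) (ν : ℕ) {W : 𝒜} (x : W ⟶ A) :
    (torsionSub D ν).Factors x ↔ D.Factors x ∧ x ≫ (ν • 𝟙 A) = 0 := by
  rw [torsionSub, mk_factors_iff']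
  constructor
  · rintro ⟨h, rfl⟩
    refine ⟨?_, ?_⟩
    · rw [← Category.assoc]; exact Subobject.factors_comp_arrow _
    · rw [Category.assoc, Category.assoc, comp_nsmul_id, kernel.condition_assoc, zero_comp,
        comp_zero]
  · rintro ⟨hx, hx0⟩
    have h0 : D.factorThru x hx ≫ (ν • 𝟙 (D : 𝒜)) = 0 := by
      rw [← cancel_mono D.arrow, Category.assoc, ← comp_nsmul_id, Subobject.factorThru_arrow_assoc,
        hx0, zero_comp]
    refine ⟨kernel.lift _ (D.factorThru x hx) h0, ?_⟩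
    rw [kernel.lift_ι_assoc, Subobject.factorThru_arrow]

theorem torsionSub_mono {D₁ D₂ : Subobject A} (h : D₁ ≤ D₂) (ν : ℕ) :
    torsionSub D₁ ν ≤ torsionSub D₂ ν := by
  rw [le_iff_forall_factors]
  intro W x
  rw [torsionSub_factors_iff, torsionSub_factors_iff]
  exact fun ⟨h1, h2⟩ => ⟨Subobject.factors_of_le x h h1, h2⟩

/-- The underlying object of `torsionSub D ν` is `D[ν]`. -/
noncomputable def torsionSubIso (D : Subobject A) (ν : ℕ) :
    ((torsionSub D ν : Subobject A) : 𝒜) ≅ kernel (ν • 𝟙 (D : 𝒜)) :=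
  Subobject.underlyingIso _

variable (p : ℕ)

/-- The subobject `p^N X` of `A`, for a subobject `X` of `A`. -/
noncomputable def divSub (X : Subobject A) (N : ℕ) : Subobject A :=
  Subobject.mk ((imageSubobject ((p ^ N) • 𝟙 (X : 𝒜))).arrow ≫ X.arrow)

/-- The underlying object of `divSub X N` is `p^N X`. -/
noncomputable def divSubIso (X : Subobject A) (N : ℕ) :
    ((divSub p X N : Subobject A) : 𝒜) ≅
      ((imageSubobject ((p ^ N) • 𝟙 (X : 𝒜)) : Subobject (X : 𝒜)) : 𝒜) :=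
  Subobject.underlyingIso _

theorem divSub_factors_iff (X : Subobject A) (N : ℕ) {W : 𝒜} (x : W ⟶ A) :
    (divSub p X N).Factors x ↔ ∃ (W' : 𝒜) (π : W' ⟶ W) (_ : Epi π) (w : W' ⟶ (X : 𝒜)),
      π ≫ x = w ≫ ((p ^ N) • 𝟙 (X : 𝒜)) ≫ X.arrow := by
  rw [divSub, mk_factors_iff']
  constructor
  · rintro ⟨h, rfl⟩
    have hf : (imageSubobject ((p ^ N) • 𝟙 (X : 𝒜))).Factors
        (h ≫ (imageSubobject ((p ^ N) • 𝟙 (X : 𝒜))).arrow) := Subobject.factors_comp_arrow _
    rw [imageSubobject_factors_iff] at hf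
    obtain ⟨W', π, hπ, w, hw⟩ := hf
    refine ⟨W', π, hπ, w, ?_⟩
    have := congrArg (fun t => t ≫ X.arrow) hw
    simpa only [Category.assoc] using this
  · rintro ⟨W', π, hπ, w, hw⟩
    have h1 : (divSub p X N).Factors (π ≫ x) := by
      rw [divSub, mk_factors_iff']
      refine ⟨w ≫ factorThruImageSubobject _, ?_⟩
      rw [Category.assoc, imageSubobject_arrow_comp_assoc, hw]
    have := factors_of_epi_comp _ π x h1
    rwa [divSub, mk_factors_iff'] at this

theorem divSub_le (X : Subobject A) (N : ℕ) : divSub p X N ≤ X :=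
  Subobject.mk_le_of_comm (imageSubobject ((p ^ N) • 𝟙 (X : 𝒜))).arrow rfl

/-- A `p`-divisible subobject of `A` contained in `X` is contained in `p^N X`. -/
theorem le_divSub_of_epi (D' X : Subobject A) (hle : D' ≤ X) (h : Epi (p • 𝟙 (D' : 𝒜)))
    (N : ℕ) : D' ≤ divSub p X N := by
  rw [le_iff_forall_factors]
  intro W y hy
  have hN := epi_pow_nsmul p h N
  obtain ⟨W', π, hπ, z, hz⟩ := surjective_up_to_refinements_of_epi ((p ^ N) • 𝟙 (D' : 𝒜))
    (D'.factorThru y hy)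
  rw [divSub_factors_iff]
  refine ⟨W', π, hπ, z ≫ Subobject.ofLE D' X hle, ?_⟩
  rw [Category.assoc, ← comp_nsmul_id X.arrow, Subobject.ofLE_arrow_assoc, comp_nsmul_id D'.arrow,
    ← Category.assoc, ← hz, Category.assoc, Subobject.factorThru_arrow]

/-- If `D₁ ≤ D₂` with `D₁` `p`-divisible and `D₂[p] ⊆ D₁`, then every `p`-power torsion element
of `D₂` lies in `D₁`. -/
theorem factors_of_torsion_of_epi (D₁ D₂ : Subobject A) (hle : D₁ ≤ D₂)
    (hdiv : Epi (p • 𝟙 (D₁ : 𝒜)))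
    (htors : ∀ (W : 𝒜) (x : W ⟶ A), D₂.Factors x → x ≫ (p • 𝟙 A) = 0 → D₁.Factors x) :
    ∀ (k : ℕ) (W : 𝒜) (x : W ⟶ A), D₂.Factors x → x ≫ ((p ^ k) • 𝟙 A) = 0 → D₁.Factors x := by
  intro k
  induction k with
  | zero =>
    intro W x _ hx
    rw [pow_zero, one_smul, Category.comp_id] at hx
    rw [hx]
    exact Subobject.factors_zero
  | succ k ih =>
    intro W x hx2 hx
    -- `p^k x` is `p`-torsion in `D₂`, so it lies in `D₁`
    have h1 : D₁.Factors (x ≫ ((p ^ k) • 𝟙 A)) := by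
      apply htors _ _ (factors_comp_nsmul D₂ x _ hx2)
      rw [Category.assoc, nsmul_id_comp, ← pow_succ]
      exact hx
    -- divide by `p^k` inside `D₁`
    have hk := epi_pow_nsmul p hdiv k
    obtain ⟨W', π, hπ, y', hy'⟩ := surjective_up_to_refinements_of_epi ((p ^ k) • 𝟙 (D₁ : 𝒜))
      (D₁.factorThru _ h1)
    have hy : D₁.Factors (y' ≫ D₁.arrow) := Subobject.factors_comp_arrow _
    have e1 : (π ≫ x - y' ≫ D₁.arrow) ≫ ((p ^ k) • 𝟙 A) = 0 := by
      rw [Preadditive.sub_comp, Category.assoc, Category.assoc, comp_nsmul_id D₁.arrow,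
        ← Category.assoc y', ← hy', Category.assoc, Subobject.factorThru_arrow, sub_self]
    have h2 : D₁.Factors (π ≫ x - y' ≫ D₁.arrow) :=
      ih W' _ (factors_sub D₂ _ _ (Subobject.factors_of_factors_right _ hx2)
        (Subobject.factors_of_le _ hle hy)) e1
    have h3 : D₁.Factors (π ≫ x) := by
      have := Subobject.factors_add _ _ h2 hy
      rwa [sub_add_cancel] at this
    exact factors_of_epi_comp D₁ π x h3

/-- The image of a subobject `X ≤ X₀` of `A` in `X₀ / p^N₀ X₀`. -/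
noncomputable def quotSub (X₀ : Subobject A) (N₀ : ℕ) (X : Subobject A) (h : X ≤ X₀) :
    Subobject (cokernel ((p ^ N₀) • 𝟙 (X₀ : 𝒜))) :=
  imageSubobject (Subobject.ofLE X X₀ h ≫ cokernel.π ((p ^ N₀) • 𝟙 (X₀ : 𝒜)))

theorem quotSub_anti (X₀ : Subobject A) (N₀ : ℕ) {X' X : Subobject A} (h' : X' ≤ X)
    (h : X ≤ X₀) : quotSub p X₀ N₀ X' (h'.trans h) ≤ quotSub p X₀ N₀ X h := by
  unfold quotSub
  rw [le_iff_forall_factors]
  intro W y
  rw [imageSubobject_factors_iff, imageSubobject_factors_iff]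
  rintro ⟨W', π, hπ, w, hw⟩
  refine ⟨W', π, hπ, w ≫ Subobject.ofLE X' X h', ?_⟩
  rw [hw, Category.assoc, ← Category.assoc (Subobject.ofLE X' X h'), Subobject.ofLE_comp_ofLE]

theorem exists_desc (X₀ : Subobject A) (N₀ : ℕ) (X : Subobject A) (h : X ≤ X₀) (N : ℕ)
    (hD : divSub p X N ≤ divSub p X₀ N₀) :
    ∃ ψ : cokernel ((p ^ N) • 𝟙 (X : 𝒜)) ⟶ cokernel ((p ^ N₀) • 𝟙 (X₀ : 𝒜)),
      cokernel.π _ ≫ ψ = Subobject.ofLE X X₀ h ≫ cokernel.π _ := by
  have h0 : ((p ^ N) • 𝟙 (X : 𝒜)) ≫ Subobject.ofLE X X₀ h ≫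
      cokernel.π ((p ^ N₀) • 𝟙 (X₀ : 𝒜)) = 0 := by
    have hf : (divSub p X N).Factors (((p ^ N) • 𝟙 (X : 𝒜)) ≫ X.arrow) := by
      rw [divSub_factors_iff]
      exact ⟨_, 𝟙 _, inferInstance, 𝟙 _, by simp⟩
    have hf' := Subobject.factors_of_le _ hD hf
    rw [divSub_factors_iff] at hf'
    obtain ⟨W', π, hπ, w, hw⟩ := hf'
    have e : π ≫ ((p ^ N) • 𝟙 (X : 𝒜)) ≫ Subobject.ofLE X X₀ h =
        w ≫ ((p ^ N₀) • 𝟙 (X₀ : 𝒜)) := by
      rw [← cancel_mono X₀.arrow]
      simp only [Category.assoc, Subobject.ofLE_arrow]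
      exact hw
    rw [← cancel_epi π, comp_zero, ← Category.assoc, ← Category.assoc, Category.assoc π, e,
      Category.assoc, cokernel.condition, comp_zero]
  exact ⟨cokernel.desc _ _ h0, cokernel.π_desc _ _ _⟩

theorem le_of_quotSub_le (X₀ : Subobject A) (N₀ : ℕ) (X X' : Subobject A) (hX : X ≤ X₀)
    (hX' : X' ≤ X₀) (hq : quotSub p X₀ N₀ X' hX' ≤ quotSub p X₀ N₀ X hX)
    (hD : divSub p X₀ N₀ ≤ X) : X' ≤ X := by
  rw [le_iff_forall_factors]
  intro W x hx
  set q := cokernel.π ((p ^ N₀) • 𝟙 (X₀ : 𝒜)) with hq_def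
  have h1 : (quotSub p X₀ N₀ X hX).Factors
      (X'.factorThru x hx ≫ Subobject.ofLE X' X₀ hX' ≫ q) :=
    Subobject.factors_of_le _ hq (imageSubobject_factors_comp_self _ _)
  rw [quotSub, imageSubobject_factors_iff] at h1
  obtain ⟨W₁, π₁, hπ₁, w, hw⟩ := h1
  have h2 : (π₁ ≫ X'.factorThru x hx ≫ Subobject.ofLE X' X₀ hX' - w ≫ Subobject.ofLE X X₀ hX)
      ≫ q = 0 := by
    rw [Preadditive.sub_comp]
    simp only [Category.assoc]
    rw [hw, sub_self]
  obtain ⟨W₂, π₂, hπ₂, v, hv⟩ :=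
    (ShortComplex.exact_cokernel ((p ^ N₀) • 𝟙 (X₀ : 𝒜))).exact_up_to_refinements _ h2
  dsimp at v hv
  have h3 : π₂ ≫ (π₁ ≫ x - w ≫ X.arrow) = v ≫ ((p ^ N₀) • 𝟙 (X₀ : 𝒜)) ≫ X₀.arrow := by
    have := congrArg (fun t => t ≫ X₀.arrow) hv
    simp only [Category.assoc, Preadditive.sub_comp, Subobject.ofLE_arrow,
      Subobject.factorThru_arrow] at this
    exact this
  have h4 : X.Factors (π₂ ≫ (π₁ ≫ x - w ≫ X.arrow)) := by
    rw [h3]
    apply Subobject.factors_of_le _ hD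
    rw [divSub_factors_iff]
    exact ⟨_, 𝟙 _, inferInstance, v, by simp⟩
  have h5 : X.Factors (π₂ ≫ w ≫ X.arrow) := by
    rw [← Category.assoc]; exact Subobject.factors_comp_arrow _
  have h6 : X.Factors ((π₂ ≫ π₁) ≫ x) := by
    have := Subobject.factors_add _ _ h4 h5
    rw [Preadditive.comp_sub, sub_add_cancel] at this
    rwa [Category.assoc]
  have : Epi (π₂ ≫ π₁) := epi_comp _ _
  exact factors_of_epi_comp X (π₂ ≫ π₁) x h6

end Abelian

variable {C : Type v} [SmallCategory C] [Abelian C]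

/-- Subobjects of ind-objects are ordered by their representable elements. -/
theorem le_of_forall_yoneda_factors {A : Ind C} (P Q : Subobject A)
    (h : ∀ (T : C) (x : Ind.yoneda.obj T ⟶ A), P.Factors x → Q.Factors x) : P ≤ Q := by
  have hQ : imageSubobject Q.arrow = Q := by rw [imageSubobject_mono, Subobject.mk_arrow]
  have h0 : P.arrow ≫ cokernel.π Q.arrow = 0 := by
    apply eq_zero_of_forall_yoneda
    intro T x
    have hx : Q.Factors (x ≫ P.arrow) := h T _ (Subobject.factors_comp_arrow _)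
    rw [← Category.assoc, ← Subobject.factorThru_arrow Q _ hx, Category.assoc,
      cokernel.condition, comp_zero]
  have hf : Q.Factors P.arrow := by
    rw [← hQ]
    exact imageSubobject_factors_of_comp_cokernel _ _ h0
  exact Subobject.le_of_comm (Q.factorThru P.arrow hf) (Subobject.factorThru_arrow _ _ _)

/-- A decreasing sequence of representable subobjects of an arbitrary ind-object is stationary. -/
theorem rep_chain_stabilizes' (hart : ∀ X : C, IsArtinianObject X) {A : Ind C}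
    (S : ℕ → Subobject A) (hS : Antitone S) (hrep : ∀ k, Rep (S k : Ind C)) :
    ∃ N : ℕ, ∀ k : ℕ, N ≤ k → S k = S N := by
  let S' : ℕ → Subobject ((S 0 : Subobject A) : Ind C) := fun k =>
    Subobject.mk (Subobject.ofLE (S k) (S 0) (hS (Nat.zero_le k)))
  have hS' : Antitone S' := fun k l hkl =>
    Subobject.mk_le_mk_of_comm (Subobject.ofLE (S l) (S k) (hS hkl))
      (Subobject.ofLE_comp_ofLE _ _ _ _ _)
  have hrep' : ∀ k, Rep (S' k : Ind C) := fun k =>
    (hrep k).of_iso (Subobject.underlyingIso _).symm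
  obtain ⟨N, hN⟩ := rep_chain_stabilizes (hrep 0) hart S' hS' hrep'
  refine ⟨N, fun k hk => le_antisymm (hS hk) ?_⟩
  have hle : S' N ≤ S' k := (hN k hk).ge
  refine Subobject.le_of_comm (Subobject.ofMkLEMk _ _ hle) ?_
  rw [← Subobject.ofLE_arrow (hS (Nat.zero_le k)), ← Category.assoc, Subobject.ofMkLEMk_comp,
    Subobject.ofLE_arrow]

/-- **Artinian property**: a decreasing chain of cofinite type subobjects of an ind-object is
stationary. -/
theorem chain_stabilizes (hart : ∀ X : C, IsArtinianObject X) (p : ℕ)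
    (htor : ∀ X : C, ∃ n : ℕ, (p ^ n) • 𝟙 X = 0) (A : Ind C) (S : ℕ → Subobject A)
    (hS : Antitone S)
    (hcof : ∀ m n : ℕ, Rep (kernel ((p ^ n) • 𝟙 ((S m : Subobject A) : Ind C)))) :
    ∃ N : ℕ, ∀ m : ℕ, N ≤ m → S m = S N := by
  -- stabilization indices of the chains `p^n S_m`
  have h1 : ∀ m, ∃ N, ∀ n, N ≤ n → imageSubobject ((p ^ n) • 𝟙 ((S m : Subobject A) : Ind C)) =
      imageSubobject ((p ^ N) • 𝟙 ((S m : Subobject A) : Ind C)) := fun m => by
    obtain ⟨M₀, hM₀⟩ := exists_stab ((S m : Subobject A) : Ind C) p hart (hcof m)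
    exact ⟨M₀, fun n hn => image_pow_stab _ p htor M₀ hM₀ n hn⟩
  choose N hN using h1
  have hcok : ∀ m n, Rep (cokernel ((p ^ n) • 𝟙 ((S m : Subobject A) : Ind C))) := fun m n => by
    obtain ⟨M₀, hM₀⟩ := exists_stab ((S m : Subobject A) : Ind C) p hart (hcof m)
    exact rep_cokernel_pow _ p htor M₀ hM₀ (hcof m) n
  -- the divisible parts
  let D : ℕ → Subobject A := fun m => divSub p (S m) (N m)
  have hDdiv : ∀ m, Epi (p • 𝟙 ((D m : Subobject A) : Ind C)) := fun m =>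
    epi_nsmul_of_iso (divSubIso p (S m) (N m)).symm p
      (epi_nsmul_image _ p (N m) (hN m _ (Nat.le_succ _)))
  have hDrep : ∀ m, Rep (kernel (p • 𝟙 ((D m : Subobject A) : Ind C))) := fun m =>
    rep_kernel_nsmul_of_iso (divSubIso p (S m) (N m)).symm p
      (rep_kernel_nsmul_image_pow _ p (N m) p (by have := hcof m 1; rwa [pow_one] at this)
        (hcok m (N m)))
  have hDle : ∀ m, D m ≤ S m := fun m => divSub_le p _ _
  have hDanti : Antitone D := antitone_nat_of_succ_le (fun m =>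
    le_divSub_of_epi p (D (m + 1)) (S m) ((hDle (m + 1)).trans (hS (Nat.le_succ m)))
      (hDdiv (m + 1)) (N m))
  -- their `p`-torsion
  let T : ℕ → Subobject A := fun m => torsionSub (D m) p
  have hTanti : Antitone T := fun k l hkl => torsionSub_mono (hDanti hkl) p
  have hTrep : ∀ m, Rep ((T m : Subobject A) : Ind C) := fun m =>
    (hDrep m).of_iso (torsionSubIso (D m) p).symm
  obtain ⟨n₁, hn₁⟩ := rep_chain_stabilizes' hart T hTanti hTrep
  -- the divisible parts are stationary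
  have hDstab : ∀ m, n₁ ≤ m → D m = D n₁ := by
    intro m hm
    apply le_antisymm (hDanti hm)
    apply le_of_forall_yoneda_factors
    intro T₀ x hx
    obtain ⟨k, hk⟩ := yoneda_elem_torsion p htor T₀ x
    refine factors_of_torsion_of_epi p (D m) (D n₁) (hDanti hm) (hDdiv m) ?_ k _ x hx hk
    intro W y hy hy0
    have hy1 : (T n₁).Factors y := (torsionSub_factors_iff _ _ _).mpr ⟨hy, hy0⟩
    rw [← hn₁ m hm] at hy1
    exact ((torsionSub_factors_iff _ _ _).mp hy1).1
  -- the chain of images in `S_{n₁} / D`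
  have hle : ∀ j, S (n₁ + j) ≤ S n₁ := fun j => hS (Nat.le_add_right _ _)
  let R : ℕ → Subobject (cokernel ((p ^ (N n₁)) • 𝟙 ((S n₁ : Subobject A) : Ind C))) :=
    fun j => quotSub p (S n₁) (N n₁) (S (n₁ + j)) (hle j)
  have hRanti : Antitone R := fun k l hkl =>
    quotSub_anti p (S n₁) (N n₁) (hS (Nat.add_le_add_left hkl n₁)) (hle k)
  have hRrep : ∀ j, Rep ((R j : Subobject _) : Ind C) := by
    intro j
    obtain ⟨ψ, hψ⟩ := exists_desc p (S n₁) (N n₁) (S (n₁ + j)) (hle j) (N (n₁ + j))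
      (hDstab (n₁ + j) (Nat.le_add_right _ _)).le
    have e : R j = imageSubobject ψ := imageSubobject_eq_of_epi_comp (cokernel.π _) ψ _ hψ
    rw [e]
    exact rep_imageSubobject ψ (hcok _ _) (hcok _ _)
  obtain ⟨j₀, hj₀⟩ := rep_chain_stabilizes (hcok n₁ (N n₁)) hart R hRanti hRrep
  refine ⟨n₁ + j₀, fun m hm => ?_⟩
  obtain ⟨j, rfl⟩ : ∃ j, m = n₁ + j := ⟨m - n₁, by omega⟩
  have hj : j₀ ≤ j := by omega
  apply le_antisymm (hS hm)
  refine le_of_quotSub_le p (S n₁) (N n₁) (S (n₁ + j)) (S (n₁ + j₀)) (hle j) (hle j₀)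
    (hj₀ j hj).ge ?_
  have : D n₁ = D (n₁ + j) := (hDstab (n₁ + j) (Nat.le_add_right _ _)).symm
  exact this.le.trans (hDle _)

end Groth.Agent.Lib.IndCof5
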