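import Mathlib.CategoryTheory.Abelian.GrothendieckAxioms.Indization
import Mathlib.CategoryTheory.Limits.Types.Filtered
import Mathlib.CategoryTheory.Abelian.Refinements

/-!
# Generalized elements of ind-objects with representable source

For a small abelian category `C`, representables `Ind.yoneda.obj T` are compact in `Ind C`
(`exists_factor`, `factor_eq`), they separate morphisms (`eq_zero_of_forall_yoneda`), and
epimorphisms can be refined inside `C` (`exists_refinement`).
-/

namespace Groth.Agent.Lib.IndElem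

open CategoryTheory CategoryTheory.Limits Opposite

universe v

section Compact

variable {C : Type v} [SmallCategory C]

/-- Morphisms out of a representable ind-object are sections of the underlying presheaf. -/
noncomputable def homEquiv (T : C) (X : Ind C) :
    (Ind.yoneda.obj T ⟶ X) ≃ ((Ind.inclusion C).obj X).obj (op T) :=
  (Ind.inclusion.fullyFaithful (C := C)).homEquiv.trans
    (((Iso.homFromEquiv (Ind.yonedaCompInclusion.app T))).trans yonedaEquiv)

/-- `Hom(yT, -)` is evaluation of the underlying presheaf at `T`. -/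
noncomputable def coyonedaIso (T : C) :
    coyoneda.obj (op (Ind.yoneda.obj T)) ≅
      Ind.inclusion C ⋙ (evaluation Cᵒᵖ (Type v)).obj (op T) :=
  NatIso.ofComponents (fun X => (homEquiv T X).toIso) (by
    intro X Y f
    ext x
    simp [homEquiv, Iso.homFromEquiv, yonedaEquiv_comp, Functor.FullyFaithful.homEquiv])


instance (T : C) {I : Type v} [SmallCategory I] [IsFiltered I] :
    PreservesColimitsOfShape I (coyoneda.obj (op (Ind.yoneda.obj T) : (Ind C)ᵒᵖ)) :=
  preservesColimitsOfShape_of_natIso (coyonedaIso T).symm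

/-- Compactness of representables, existence: a morphism from a representable into a filtered colimit
factors through a stage. -/
theorem exists_factor {I : Type v} [SmallCategory I] [IsFiltered I] {K : I ⥤ Ind C} {c : Cocone K}
    (hc : IsColimit c) (T : C) (x : Ind.yoneda.obj T ⟶ c.pt) :
    ∃ (i : I) (x' : Ind.yoneda.obj T ⟶ K.obj i), x' ≫ c.ι.app i = x := by
  have h := isColimitOfPreserves (coyoneda.obj (op (Ind.yoneda.obj T) : (Ind C)ᵒᵖ)) hc
  obtain ⟨i, x', hx'⟩ := Types.jointly_surjective_of_isColimit h x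
  exact ⟨i, x', hx'⟩

/-- Compactness of representables, uniqueness: two morphisms from a representable into a stage which
agree in the filtered colimit agree at a later stage. -/
theorem factor_eq {I : Type v} [SmallCategory I] [IsFiltered I] {K : I ⥤ Ind C} {c : Cocone K}
    (hc : IsColimit c) (T : C) {i : I} (x₁ x₂ : Ind.yoneda.obj T ⟶ K.obj i)
    (h : x₁ ≫ c.ι.app i = x₂ ≫ c.ι.app i) :
    ∃ (j : I) (f : i ⟶ j), x₁ ≫ K.map f = x₂ ≫ K.map f := by
  have h' := isColimitOfPreserves (coyoneda.obj (op (Ind.yoneda.obj T) : (Ind C)ᵒᵖ)) hc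
  exact (Types.FilteredColimit.isColimit_eq_iff' h' x₁ x₂).mp h

end Compact


section Abelian

variable {C : Type v} [SmallCategory C] [Abelian C]

instance : (Ind.yoneda (C := C)).Additive := Functor.additive_of_preserves_binary_products _

theorem map_nsmul_id (n : ℕ) (T : C) :
    (Ind.yoneda (C := C)).map (n • 𝟙 T) = n • 𝟙 (Ind.yoneda.obj T) := by
  rw [Functor.map_nsmul, CategoryTheory.Functor.map_id]

/-- Representables separate morphisms of ind-objects. -/
theorem eq_zero_of_forall_yoneda {A B : Ind C} (f : A ⟶ B)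
    (h : ∀ (T : C) (x : Ind.yoneda.obj T ⟶ A), x ≫ f = 0) : f = 0 := by
  apply Ind.isSeparating_range_yoneda (C := C) f 0
  rintro _ ⟨T⟩ x
  rw [h T x, comp_zero]

/-- A morphism is an epimorphism as soon as every representable element of the target lifts after
some refinement. -/
theorem epi_of_forall_yoneda {A B : Ind C} (f : A ⟶ B)
    (h : ∀ (T : C) (z : Ind.yoneda.obj T ⟶ B), ∃ (W : Ind C) (π : W ⟶ Ind.yoneda.obj T) (_ : Epi π)
      (x : W ⟶ A), π ≫ z = x ≫ f) : Epi f := by
  apply Preadditive.epi_of_cancel_zero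
  intro Z g hg
  apply eq_zero_of_forall_yoneda
  intro T z
  obtain ⟨W, π, hπ, x, hx⟩ := h T z
  rw [← cancel_epi π, ← Category.assoc, hx, Category.assoc, hg, comp_zero, comp_zero]

/-- A morphism is a monomorphism as soon as it kills no nonzero representable element. -/
theorem mono_of_forall_yoneda {A B : Ind C} (f : A ⟶ B)
    (h : ∀ (T : C) (x : Ind.yoneda.obj T ⟶ A), x ≫ f = 0 → x = 0) : Mono f := by
  apply Preadditive.mono_of_cancel_zero
  intro Z g hg
  apply eq_zero_of_forall_yoneda
  intro T z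
  apply h T (z ≫ g)
  rw [Category.assoc, hg, comp_zero]


/-- Refinement inside `C` for an epimorphism of the form `“colim” φ`. -/
theorem exists_refinement_lim {I : Type v} [SmallCategory I] [IsFiltered I] {F G : I ⥤ C}
    (φ : F ⟶ G) [Epi ((Ind.lim I).map φ)] (T : C)
    (x : Ind.yoneda.obj T ⟶ (Ind.lim I).obj G) :
    ∃ (T' : C) (π : T' ⟶ T) (_ : Epi π) (x' : Ind.yoneda.obj T' ⟶ (Ind.lim I).obj F),
      x' ≫ (Ind.lim I).map φ = Ind.yoneda.map π ≫ x := by
  -- the cokernel of `“colim” φ` is `“colim” (coker φ)`, which is zero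
  have hz : IsZero ((Ind.lim I).obj (cokernel φ)) :=
    (isZero_cokernel_of_epi ((Ind.lim I).map φ)).of_iso (PreservesCokernel.iso (Ind.lim I) φ)
  let ιF : ∀ j, Ind.yoneda.obj (F.obj j) ⟶ (Ind.lim I).obj F := fun j =>
    colimit.ι (F ⋙ Ind.yoneda) j
  let ιG : ∀ j, Ind.yoneda.obj (G.obj j) ⟶ (Ind.lim I).obj G := fun j =>
    colimit.ι (G ⋙ Ind.yoneda) j
  have e1 : ∀ j, ιF j ≫ (Ind.lim I).map φ = Ind.yoneda.map (φ.app j) ≫ ιG j := by
    intro j
    simp [ιF, ιG, Ind.lim]
  have wG : ∀ {i j : I} (f : i ⟶ j), Ind.yoneda.map (G.map f) ≫ ιG j = ιG i := fun f =>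
    colimit.w (G ⋙ Ind.yoneda) f
  -- factor `x` through a stage
  obtain ⟨i, x₀, hx₀⟩ := exists_factor (colimit.isColimit (G ⋙ Ind.yoneda)) T x
  obtain ⟨xi, rfl⟩ := (Ind.yoneda (C := C)).map_surjective x₀
  have hx₀' : Ind.yoneda.map xi ≫ ιG i = x := hx₀
  -- the class of `xi` in the cokernel dies at a later stage
  obtain ⟨j, f, hf⟩ := factor_eq (colimit.isColimit (cokernel φ ⋙ Ind.yoneda)) T
    (Ind.yoneda.map (xi ≫ (cokernel.π φ).app i)) 0 (hz.eq_of_tgt _ _)
  have hf' : (xi ≫ G.map f) ≫ (cokernel.π φ).app j = 0 := by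
    apply (Ind.yoneda (C := C)).map_injective
    rw [Functor.map_zero, Category.assoc, (cokernel.π φ).naturality f, ← Category.assoc,
      Functor.map_comp]
    rw [zero_comp] at hf
    exact hf
  -- exactness at stage `j`
  have hex : (ShortComplex.mk φ (cokernel.π φ) (cokernel.condition φ)).Exact :=
    ShortComplex.exact_cokernel φ
  have hexj := hex.map ((evaluation I C).obj j)
  obtain ⟨T', π, hπ, w, hw'⟩ : ∃ (T' : C) (π : T' ⟶ T) (_ : Epi π) (w : T' ⟶ F.obj j),
      π ≫ xi ≫ G.map f = w ≫ φ.app j := hexj.exact_up_to_refinements (xi ≫ G.map f) hf'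
  refine ⟨T', π, hπ, Ind.yoneda.map w ≫ ιF j, ?_⟩
  rw [Category.assoc, e1, ← Category.assoc, ← Functor.map_comp, ← hw', ← hx₀', ← wG f,
    Functor.map_comp, Functor.map_comp]
  simp only [Category.assoc]

/-- **Refinement inside `C`**: an element of the target of an epimorphism of ind-objects with
representable source lifts after composing with an epimorphism of `C`. -/
theorem exists_refinement {A B : Ind C} (e : B ⟶ A) [Epi e] (T : C)
    (x : Ind.yoneda.obj T ⟶ A) :
    ∃ (T' : C) (π : T' ⟶ T) (_ : Epi π) (x' : Ind.yoneda.obj T' ⟶ B),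
      x' ≫ e = Ind.yoneda.map π ≫ x := by
  obtain ⟨I, _, _, F, G, φ, ⟨i⟩⟩ := Ind.exists_nonempty_arrow_mk_iso_ind_lim (f := e)
  have hw : i.hom.left ≫ (Ind.lim I).map φ = e ≫ i.hom.right := i.hom.w
  have hepi : Epi ((Ind.lim I).map φ) := by
    have h1 : (Ind.lim I).map φ = i.inv.left ≫ e ≫ i.hom.right := by
      rw [← hw, ← Category.assoc, Arrow.inv_hom_id_left, Category.id_comp]
    rw [h1]
    infer_instance
  obtain ⟨T', π, hπ, x', hx'⟩ := exists_refinement_lim φ T (x ≫ i.hom.right)
  refine ⟨T', π, hπ, x' ≫ i.inv.left, ?_⟩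
  have h2 : i.inv.left ≫ e = (Ind.lim I).map φ ≫ i.inv.right := i.inv.w
  rw [Category.assoc, h2, ← Category.assoc, hx', Category.assoc, Category.assoc,
    Arrow.hom_inv_id_right]
  congr 1
  exact Category.comp_id x

end Abelian

end Groth.Agent.Lib.IndElem
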