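import Groth.Prelude.Def_PBC
import Mathlib.Algebra.Category.Ring.FilteredColimits
import Mathlib.CategoryTheory.Limits.Constructions.Over.Connected
import Mathlib.CategoryTheory.Limits.Types.Filtered
import Mathlib.CategoryTheory.Filtered.Connected
import Mathlib.CategoryTheory.Limits.Preserves.Filtered
import Mathlib.RingTheory.Etale.Basic

/-!
# A directed union of étale subalgebras is ind-étale (helper96)

`isIndEtale_of_directed_subalgebras`: if `B` is the union of a directed family of `A`-subalgebras,
each étale over `A`, then `EtPBC.IsIndEtale A B`.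
-/

namespace Groth.Agent.Lib.IndEtaleUnion96

open CategoryTheory CategoryTheory.Limits

universe u

variable (A B : Type u) [CommRing A] [CommRing B] [Algebra A B]
variable {ι : Type u} [Preorder ι] [IsDirectedOrder ι] [Nonempty ι]
variable (S : ι → Subalgebra A B) (hS : Monotone S)

/-- The diagram of subalgebras. -/
noncomputable def diag : ι ⥤ Under (CommRingCat.of A) where
  obj i := Under.mk (CommRingCat.ofHom (algebraMap A (S i)))
  map {i j} h := Under.homMk (CommRingCat.ofHom (Subalgebra.inclusion (hS (leOfHom h))).toRingHom)
    (by ext a; rfl)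
  map_id i := by ext x; rfl
  map_comp f g := by ext x; rfl

/-- The cocone with point `B`. -/
noncomputable def cocone : Cocone (diag A B S hS) where
  pt := Under.mk (CommRingCat.ofHom (algebraMap A B))
  ι :=
    { app := fun i => Under.homMk (CommRingCat.ofHom (S i).val.toRingHom) (by ext a; rfl)
      naturality := fun i j h => by ext x; rfl }

variable (hcov : ∀ b : B, ∃ i, b ∈ S i)

include hcov in
/-- The cocone is a colimit. -/
noncomputable def isColimitCocone : IsColimit (cocone A B S hS) := by
  haveI : IsFiltered ι := isFiltered_of_directed_le_nonempty ι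
  haveI : IsConnected ι := IsFiltered.isConnected ι
  apply isColimitOfReflects (Under.forget (CommRingCat.of A))
  haveI : PreservesColimitsOfShape ι (forget CommRingCat.{u}) :=
    PreservesFilteredColimitsOfSize.preserves_filtered_colimits ι
  haveI := reflectsColimit_of_reflectsIsomorphisms
    (diag A B S hS ⋙ Under.forget (CommRingCat.of A)) (forget CommRingCat.{u})
  apply isColimitOfReflects (forget CommRingCat)
  refine Types.FilteredColimit.isColimitOf _ _ ?_ ?_
  · intro x
    obtain ⟨i, hi⟩ := hcov x
    exact ⟨i, ⟨x, hi⟩, rfl⟩
  · intro i j xi xj h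
    obtain ⟨k, hik, hjk⟩ := exists_ge_ge i j
    refine ⟨k, homOfLE hik, homOfLE hjk, ?_⟩
    apply Subtype.ext
    exact h

include hcov hS in
theorem isIndEtale_of_directed_subalgebras (hE : ∀ i, Algebra.Etale A (S i)) :
    EtPBC.IsIndEtale A B := by
  haveI : IsFiltered ι := isFiltered_of_directed_le_nonempty ι
  refine ⟨ι, inferInstance, inferInstance, diag A B S hS, cocone A B S hS,
    isColimitCocone A B S hS hcov, ?_, ⟨Iso.refl _⟩⟩
  intro j
  have heq : ((diag A B S hS).obj j).hom.hom.toAlgebra = (S j).algebra := by
    apply Algebra.algebra_ext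
    intro r
    rfl
  show @Algebra.Etale A (S j) _ _ ((diag A B S hS).obj j).hom.hom.toAlgebra
  rw [heq]
  exact hE j

end Groth.Agent.Lib.IndEtaleUnion96
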