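import Groth.Agent.Lib.IndElem
import Mathlib.CategoryTheory.Limits.Preserves.Shapes.Kernels
import Mathlib.CategoryTheory.Limits.Preserves.Shapes.Biproducts
import Mathlib.CategoryTheory.Subobject.ArtinianObject

/-!
# Representable ind-objects: closure properties

For a small abelian category `C`, the essential image of `Ind.yoneda` in `Ind C` is closed under
isomorphisms, kernels and cokernels of morphisms between its objects, images, biproducts and
extensions.
-/

namespace Groth.Agent.Lib.IndRep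

open CategoryTheory CategoryTheory.Limits Opposite Groth.Agent.Lib.IndElem ZeroObject

universe v

section AbExt

variable {𝒜 : Type*} [Category 𝒜] [Abelian 𝒜]

/-- Presenting the middle term of a short exact sequence as a cokernel. -/
theorem exists_iso_cokernel_of_shortExact {S : ShortComplex 𝒜} (hS : S.ShortExact) {T : 𝒜}
    (q : T ⟶ S.X₃) [Epi q] (x' : T ⟶ S.X₂) (hx' : x' ≫ S.g = q) :
    ∃ (k : kernel q ⟶ T ⊞ S.X₁), Nonempty (cokernel k ≅ S.X₂) := by
  subst hx'
  have hx' : x' ≫ S.g = x' ≫ S.g := rfl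
  set q := x' ≫ S.g with hq
  have hmono : Mono S.f := hS.mono_f
  have hepi : Epi S.g := hS.epi_g
  -- the restriction of `x'` to the kernel of `q` lands in `S.X₁`
  have h0 : (kernel.ι q ≫ x') ≫ S.g = 0 := by
    rw [Category.assoc, hx', kernel.condition]
  let a : kernel q ⟶ S.X₁ := hS.exact.lift (kernel.ι q ≫ x') h0
  have ha : a ≫ S.f = kernel.ι q ≫ x' := hS.exact.lift_f _ h0
  let k : kernel q ⟶ T ⊞ S.X₁ := biprod.lift (kernel.ι q) (-a)
  let ψ : T ⊞ S.X₁ ⟶ S.X₂ := biprod.desc x' S.f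
  have hkψ : k ≫ ψ = 0 := by
    simp only [k, ψ, biprod.lift_desc, Preadditive.neg_comp, ha]
    abel
  have hψepi : Epi ψ := by
    apply Preadditive.epi_of_cancel_zero
    intro Z c hc
    have h1 : S.f ≫ c = 0 := by
      have := congrArg (fun t => biprod.inr ≫ t) hc
      simpa [ψ] using this
    have h2 : x' ≫ c = 0 := by
      have := congrArg (fun t => biprod.inl ≫ t) hc
      simpa [ψ] using this
    have hc' : S.g ≫ hS.exact.desc c h1 = c := hS.exact.g_desc c h1
    have h3 : q ≫ hS.exact.desc c h1 = 0 := by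
      rw [← hx', Category.assoc, hc', h2]
    rw [← hc', (cancel_epi q).mp (h3.trans comp_zero.symm), comp_zero]
  have hex : (ShortComplex.mk k ψ hkψ).Exact := by
    rw [ShortComplex.exact_iff_exact_up_to_refinements]
    intro W z hz
    have hz' : (z ≫ biprod.fst) ≫ x' + (z ≫ biprod.snd) ≫ S.f = 0 := by
      have : z ≫ ψ = (z ≫ biprod.fst) ≫ x' + (z ≫ biprod.snd) ≫ S.f := by
        simp only [ψ, biprod.desc_eq, Preadditive.comp_add, Category.assoc]
      rw [← this]; exact hz
    have ht : (z ≫ biprod.fst) ≫ q = 0 := by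
      have h1 : (z ≫ biprod.fst) ≫ x' = -((z ≫ biprod.snd) ≫ S.f) := eq_neg_of_add_eq_zero_left hz'
      show (z ≫ biprod.fst) ≫ x' ≫ S.g = 0
      rw [← Category.assoc, h1, Preadditive.neg_comp, Category.assoc, S.zero, comp_zero,
        neg_zero]
    refine ⟨W, 𝟙 W, inferInstance, kernel.lift q (z ≫ biprod.fst) ht, ?_⟩
    rw [Category.id_comp]
    show z = kernel.lift q (z ≫ biprod.fst) ht ≫ k
    apply biprod.hom_ext
    · simp [k]
    · simp only [k, Category.assoc, biprod.lift_snd, Preadditive.comp_neg]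
      rw [← cancel_mono S.f, Category.assoc, Preadditive.neg_comp, Category.assoc, ha,
        kernel.lift_ι_assoc]
      rw [← Category.assoc]
      exact eq_neg_of_add_eq_zero_right hz'
  have hcok : IsColimit (CokernelCofork.ofπ ψ hkψ) := hex.gIsCokernel
  exact ⟨k, ⟨IsColimit.coconePointUniqueUpToIso (colimit.isColimit _) hcok⟩⟩

end AbExt


section Rep

variable {C : Type v} [SmallCategory C] [Abelian C]

/-- Representable ind-objects. -/
abbrev Rep (A : Ind C) : Prop := (Ind.yoneda (C := C)).essImage A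

theorem rep_yoneda (X : C) : Rep (Ind.yoneda.obj X) := ⟨X, ⟨Iso.refl _⟩⟩

theorem Rep.of_iso {A B : Ind C} (e : A ≅ B) (h : Rep A) : Rep B := Functor.essImage.ofIso e h

theorem rep_of_isZero {A : Ind C} (h : IsZero A) : Rep A :=
  ⟨0, ⟨(Ind.yoneda (C := C)).mapZeroObject ≪≫ (h.isoZero).symm⟩⟩

theorem rep_kernel {A B : Ind C} (f : A ⟶ B) (hA : Rep A) (hB : Rep B) : Rep (kernel f) := by
  obtain ⟨X, ⟨eA⟩⟩ := hA
  obtain ⟨Y, ⟨eB⟩⟩ := hB
  obtain ⟨g, hg⟩ := (Ind.yoneda (C := C)).map_surjective (eA.hom ≫ f ≫ eB.inv)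
  refine ⟨kernel g, ⟨PreservesKernel.iso Ind.yoneda g ≪≫
    kernel.mapIso (Ind.yoneda.map g) f eA eB ?_⟩⟩
  rw [hg]
  simp

theorem rep_cokernel {A B : Ind C} (f : A ⟶ B) (hA : Rep A) (hB : Rep B) : Rep (cokernel f) := by
  obtain ⟨X, ⟨eA⟩⟩ := hA
  obtain ⟨Y, ⟨eB⟩⟩ := hB
  obtain ⟨g, hg⟩ := (Ind.yoneda (C := C)).map_surjective (eA.hom ≫ f ≫ eB.inv)
  refine ⟨cokernel g, ⟨PreservesCokernel.iso Ind.yoneda g ≪≫
    cokernel.mapIso (Ind.yoneda.map g) f eA eB ?_⟩⟩
  rw [hg]
  simp

theorem rep_biprod {A B : Ind C} (hA : Rep A) (hB : Rep B) : Rep (A ⊞ B) := by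
  obtain ⟨X, ⟨eA⟩⟩ := hA
  obtain ⟨Y, ⟨eB⟩⟩ := hB
  have : PreservesBinaryBiproducts (Ind.yoneda (C := C)) :=
    preservesBinaryBiproducts_of_preservesBinaryProducts _
  exact ⟨X ⊞ Y, ⟨(Ind.yoneda (C := C)).mapBiprod X Y ≪≫ biprod.mapIso eA eB⟩⟩

theorem rep_abelianImage {A B : Ind C} (f : A ⟶ B) (hA : Rep A) (hB : Rep B) :
    Rep (Abelian.image f) :=
  rep_kernel (cokernel.π f) hB (rep_cokernel f hA hB)

theorem rep_imageSubobject {A B : Ind C} (f : A ⟶ B) (hA : Rep A) (hB : Rep B) :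
    Rep ((imageSubobject f : Subobject B) : Ind C) :=
  (rep_abelianImage f hA hB).of_iso
    (Abelian.imageIsoImage f ≪≫ (imageSubobjectIso f).symm)

/-- Representable ind-objects are closed under extensions. -/
theorem rep_of_shortExact {S : ShortComplex (Ind C)} (hS : S.ShortExact) (h₁ : Rep S.X₁)
    (h₃ : Rep S.X₃) : Rep S.X₂ := by
  obtain ⟨X'', ⟨e₃⟩⟩ := h₃
  have := hS.epi_g
  obtain ⟨T', π, hπ, x', hx'⟩ := exists_refinement S.g X'' e₃.hom
  have hq : Epi (Ind.yoneda.map π ≫ e₃.hom) := by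
    have : Epi (Ind.yoneda.map π) := inferInstance
    infer_instance
  obtain ⟨k, ⟨e⟩⟩ := exists_iso_cokernel_of_shortExact hS (Ind.yoneda.map π ≫ e₃.hom) x' hx'
  have hK : Rep (kernel (Ind.yoneda.map π ≫ e₃.hom)) :=
    rep_kernel _ (rep_yoneda T') ⟨X'', ⟨e₃⟩⟩
  exact (rep_cokernel k hK (rep_biprod (rep_yoneda T') h₁)).of_iso e


section Chain

/-- The monomorphism of `C` underlying a representable subobject of a representable ind-object. -/
noncomputable def subArrow {X : C} {A : Ind C} (e : Ind.yoneda.obj X ≅ A) (S : Subobject A)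
    (hS : Rep (S : Ind C)) : hS.witness ⟶ X :=
  (Ind.yoneda (C := C)).preimage (hS.getIso.hom ≫ S.arrow ≫ e.inv)

theorem map_subArrow {X : C} {A : Ind C} (e : Ind.yoneda.obj X ≅ A) (S : Subobject A)
    (hS : Rep (S : Ind C)) :
    Ind.yoneda.map (subArrow e S hS) = hS.getIso.hom ≫ S.arrow ≫ e.inv :=
  (Ind.yoneda (C := C)).map_preimage _

instance {X : C} {A : Ind C} (e : Ind.yoneda.obj X ≅ A) (S : Subobject A)
    (hS : Rep (S : Ind C)) : Mono (subArrow e S hS) := by
  have : Mono (Ind.yoneda.map (subArrow e S hS)) := by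
    rw [map_subArrow]
    infer_instance
  exact (Ind.yoneda (C := C)).mono_of_mono_map this

/-- The subobject of `X` corresponding to a representable subobject of `yX ≅ A`. -/
noncomputable def subOfRep {X : C} {A : Ind C} (e : Ind.yoneda.obj X ≅ A) (S : Subobject A)
    (hS : Rep (S : Ind C)) : Subobject X :=
  Subobject.mk (subArrow e S hS)

theorem subOfRep_le_iff {X : C} {A : Ind C} (e : Ind.yoneda.obj X ≅ A) (S S' : Subobject A)
    (hS : Rep (S : Ind C)) (hS' : Rep (S' : Ind C)) :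
    subOfRep e S hS ≤ subOfRep e S' hS' ↔ S ≤ S' := by
  constructor
  · intro h
    have hc := Subobject.ofMkLEMk_comp h
    refine Subobject.le_of_comm
      (hS.getIso.inv ≫ Ind.yoneda.map (Subobject.ofMkLEMk _ _ h) ≫ hS'.getIso.hom) ?_
    have h1 : Ind.yoneda.map (Subobject.ofMkLEMk _ _ h) ≫ Ind.yoneda.map (subArrow e S' hS') =
        Ind.yoneda.map (subArrow e S hS) := by
      rw [← Functor.map_comp, hc]
    rw [map_subArrow, map_subArrow] at h1
    have h2 := congrArg (fun t => hS.getIso.inv ≫ t ≫ e.hom) h1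
    simpa using h2
  · intro h
    refine Subobject.mk_le_mk_of_comm
      ((Ind.yoneda (C := C)).preimage (hS.getIso.hom ≫ Subobject.ofLE S S' h ≫ hS'.getIso.inv)) ?_
    apply (Ind.yoneda (C := C)).map_injective
    rw [Functor.map_comp, Functor.map_preimage, map_subArrow, map_subArrow]
    simp

/-- A decreasing sequence of representable subobjects of a representable ind-object `yX`, with `X`
Artinian, is stationary. -/
theorem rep_chain_stabilizes {A : Ind C} (hA : Rep A) (hart : ∀ X : C, IsArtinianObject X)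
    (S : ℕ → Subobject A) (hS : Antitone S) (hrep : ∀ k, Rep (S k : Ind C)) :
    ∃ N : ℕ, ∀ k : ℕ, N ≤ k → S k = S N := by
  obtain ⟨X, ⟨e⟩⟩ := hA
  have := hart X
  obtain ⟨N, hN⟩ := antitone_chain_condition_of_isArtinianObject (X := X)
    ⟨fun k => OrderDual.toDual (subOfRep e (S k) (hrep k)), fun k l hkl => by
      show subOfRep e (S l) (hrep l) ≤ subOfRep e (S k) (hrep k)
      rw [subOfRep_le_iff]
      exact hS hkl⟩
  refine ⟨N, fun k hk => le_antisymm (hS hk) ?_⟩
  have h := hN k hk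
  have h' : subOfRep e (S N) (hrep N) = subOfRep e (S k) (hrep k) := congrArg OrderDual.ofDual h
  rw [← subOfRep_le_iff e _ _ (hrep N) (hrep k), h']

end Chain

end Rep

end Groth.Agent.Lib.IndRep
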