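import Groth.Agent.Lib.SmoothAlgLift22h
import Groth.Prelude.Def_Smoothing
import Mathlib.RingTheory.Flat.EquationalCriterion

/-!
# Stacks 07CN (helper22): killing a small ideal after a smooth enlargement

`lift_twice`: `R → Λ` flat, `I² = 0`, `Λ/IΛ` ind-smooth over `R/I`, `B` smooth over `R`,
`φ : B → Λ`, `J ⊆ IB` finitely generated with `φ(J) = 0`.  Then there are a smooth `R`-algebra `B'`
and maps `α : B → B'`, `β : B' → Λ` with `α(J) = 0` and `β ∘ α ≡ φ` modulo `IΛ`.
-/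

set_option autoImplicit false
universe u

namespace Groth.Agent.Lib.LiftTwice22

open TensorProduct MvPolynomial

/-- products of `I`-multiples vanish when `I² = 0` -/
theorem mul_eq_zero_of_mem_map {R C : Type*} [CommRing R] [CommRing C] [Algebra R C] (I : Ideal R)
    (hI : I ^ 2 = ⊥) {ε : R} (hε : ε ∈ I) {z : C} (hz : z ∈ I.map (algebraMap R C)) :
    algebraMap R C ε * z = 0 := by
  have h1 : algebraMap R C ε * z ∈ (I.map (algebraMap R C)) * (I.map (algebraMap R C)) :=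
    Ideal.mul_mem_mul (Ideal.mem_map_of_mem _ hε) hz
  rw [← Ideal.map_mul, ← pow_two, hI, Ideal.map_bot] at h1
  exact h1

theorem lift_twice {R Λ B : Type u} [CommRing R] [CommRing Λ] [Algebra R Λ] [Module.Flat R Λ]
    (I : Ideal R) (hI : I ^ 2 = ⊥) (h : Smoothing.IndSmooth (R ⧸ I) (Λ ⧸ I.map (algebraMap R Λ)))
    [CommRing B] [Algebra R B] [Algebra.Smooth R B] (φ : B →ₐ[R] Λ) (J : Ideal B)
    (hJ : J ≤ I.map (algebraMap R B)) (hJfg : J.FG) (hφJ : ∀ x ∈ J, φ x = 0) :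
    ∃ (B' : Type u) (_ : CommRing B') (_ : Algebra R B'), Algebra.Smooth R B' ∧
      ∃ (α : B →ₐ[R] B') (β : B' →ₐ[R] Λ), (∀ x ∈ J, α x = 0) ∧
        ∀ b : B, β (α b) - φ b ∈ I.map (algebraMap R Λ) := by
  classical
  obtain ⟨s, hs⟩ := hJfg
  -- Step 0: write the generators as combinations of elements of `I`
  have hdec : ∀ x : s, ∃ (m : ℕ) (c : Fin m → B) (ε : Fin m → R), (∀ k, ε k ∈ I) ∧
      ∑ k, c k * algebraMap R B (ε k) = x.1 := by
    intro x
    have hx : x.1 ∈ I.map (algebraMap R B) := hJ (hs ▸ Ideal.subset_span x.2)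
    rw [Ideal.map, Ideal.span, Submodule.mem_span_set'] at hx
    obtain ⟨m, c, gg, hsum⟩ := hx
    choose ε hεI hε using fun k => (gg k).2
    refine ⟨m, c, ε, hεI, ?_⟩
    rw [← hsum]
    refine Finset.sum_congr rfl fun k _ => ?_
    rw [hε k, smul_eq_mul]
  choose m c ε hεI hsum using hdec
  -- Step 1: the relations in `Λ` are trivial
  have hrel : ∀ x : s, ∑ k, ε x k • φ (c x k) = 0 := by
    intro x
    have h0 : φ x.1 = 0 := hφJ _ (hs ▸ Ideal.subset_span x.2)
    rw [← hsum x, map_sum] at h0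
    rw [← h0]
    refine Finset.sum_congr rfl fun k _ => ?_
    rw [map_mul, AlgHom.commutes, Algebra.smul_def, mul_comm]
  have htriv : ∀ x : s, Module.IsTrivialRelation (ε x) (fun k => φ (c x k)) := fun x =>
    Module.Flat.isTrivialRelation_of_sum_smul_eq_zero (R := R) (M := Λ) (hrel x)
  choose K a y hay0 ha0 using htriv
  have hay : ∀ x k, φ (c x k) = ∑ l, a x k l • y x l := hay0
  -- Step 2: the finitely presented algebra `A'`
  let σ := (x : s) × Fin (K x)
  let ρ := (x : s) × Fin (m x)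
  let rel : ρ → MvPolynomial σ B := fun xk =>
    C (c xk.1 xk.2) - ∑ l, C (algebraMap R B (a xk.1 xk.2 l)) * X (⟨xk.1, l⟩ : σ)
  let 𝔞 : Ideal (MvPolynomial σ B) := Ideal.span (Set.range rel)
  have h𝔞fg : 𝔞.FG := ⟨Finset.univ.image rel, by simp [𝔞]⟩
  haveI : Algebra.FinitePresentation R (MvPolynomial σ B) :=
    Algebra.FinitePresentation.trans R B (MvPolynomial σ B)
  haveI hA'fp : Algebra.FinitePresentation R (MvPolynomial σ B ⧸ 𝔞) :=
    Algebra.FinitePresentation.quotient (R := R) (A := MvPolynomial σ B) h𝔞fg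
  letI algBΛ : Algebra B Λ := φ.toRingHom.toAlgebra
  haveI : IsScalarTower R B Λ := IsScalarTower.of_algebraMap_eq fun r => (φ.commutes r).symm
  let θ₀ : MvPolynomial σ B →ₐ[R] Λ :=
    (MvPolynomial.aeval (fun s' : σ => y s'.1 s'.2) : MvPolynomial σ B →ₐ[B] Λ).restrictScalars R
  have hθ₀C : ∀ b : B, θ₀ (C b) = φ b := fun b => by
    change MvPolynomial.aeval _ (C b) = _
    rw [MvPolynomial.aeval_C]; rfl
  have hθ₀X : ∀ s' : σ, θ₀ (X s') = y s'.1 s'.2 := fun s' => by
    change MvPolynomial.aeval _ (X s') = _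
    rw [MvPolynomial.aeval_X]
  have hθ₀rel : ∀ z ∈ 𝔞, θ₀ z = 0 := by
    intro z hz
    have hle : 𝔞 ≤ RingHom.ker θ₀.toRingHom := by
      rw [Ideal.span_le]
      rintro _ ⟨xk, rfl⟩
      change θ₀ (rel xk) = 0
      simp only [rel, map_sub, map_sum, map_mul, hθ₀C, hθ₀X, AlgHom.commutes]
      rw [hay xk.1 xk.2, sub_eq_zero]
      refine Finset.sum_congr rfl fun l _ => ?_
      rw [Algebra.smul_def]
    exact hle hz
  let θ : (MvPolynomial σ B ⧸ 𝔞) →ₐ[R] Λ := Ideal.Quotient.liftₐ 𝔞 θ₀ hθ₀rel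
  let ιB : B →ₐ[R] MvPolynomial σ B ⧸ 𝔞 :=
    (Ideal.Quotient.mkₐ R 𝔞).comp (IsScalarTower.toAlgHom R B (MvPolynomial σ B))
  have hθι : ∀ b : B, θ (ιB b) = φ b := fun b => hθ₀C b
  -- Step 3: ind-smoothness modulo `I`
  let f : (R ⧸ I) ⊗[R] (MvPolynomial σ B ⧸ 𝔞) →ₐ[R ⧸ I] Λ ⧸ I.map (algebraMap R Λ) :=
    Algebra.TensorProduct.lift (Algebra.ofId (R ⧸ I) _)
      ((Ideal.Quotient.mkₐ R (I.map (algebraMap R Λ))).comp θ) (fun _ _ => Commute.all _ _)
  obtain ⟨Cb, _, _, hCb, gb, hb, hcomp⟩ :=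
    h ((R ⧸ I) ⊗[R] (MvPolynomial σ B ⧸ 𝔞)) inferInstance f
  -- Step 4: lift `Cb`
  obtain ⟨C', _, _, hCsm, ⟨e⟩⟩ := Groth.Agent.Lib.SmoothAlgLift22.exists_smooth_lift I (A₀ := Cb)
  letI : Algebra R Cb := ((algebraMap (R ⧸ I) Cb).comp (Ideal.Quotient.mk I)).toAlgebra
  haveI : IsScalarTower R (R ⧸ I) Cb := IsScalarTower.of_algebraMap_eq fun _ => rfl
  let eR : (C' ⧸ I.map (algebraMap R C')) ≃ₐ[R] Cb := e.restrictScalars R
  -- Step 5: the maps
  let gbA : (MvPolynomial σ B ⧸ 𝔞) →ₐ[R] Cb :=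
    (gb.restrictScalars R).comp Algebra.TensorProduct.includeRight
  let α₀ : B →ₐ[R] C' ⧸ I.map (algebraMap R C') := eR.symm.toAlgHom.comp (gbA.comp ιB)
  have hnilC : IsNilpotent (I.map (algebraMap R C')) :=
    ⟨2, by rw [← Ideal.map_pow, hI, Ideal.map_bot]; rfl⟩
  have hnilΛ : IsNilpotent (I.map (algebraMap R Λ)) :=
    ⟨2, by rw [← Ideal.map_pow, hI, Ideal.map_bot]; rfl⟩
  let α : B →ₐ[R] C' := Algebra.FormallySmooth.lift (I.map (algebraMap R C')) hnilC α₀
  have hα : ∀ b : B, Ideal.Quotient.mk (I.map (algebraMap R C')) (α b) = α₀ b :=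
    Algebra.FormallySmooth.mk_lift _ hnilC α₀
  let β₀ : C' →ₐ[R] Λ ⧸ I.map (algebraMap R Λ) :=
    ((hb.restrictScalars R).comp eR.toAlgHom).comp (Ideal.Quotient.mkₐ R _)
  let β : C' →ₐ[R] Λ := Algebra.FormallySmooth.lift (I.map (algebraMap R Λ)) hnilΛ β₀
  have hβ : ∀ z : C', Ideal.Quotient.mk (I.map (algebraMap R Λ)) (β z) = β₀ z :=
    Algebra.FormallySmooth.mk_lift _ hnilΛ β₀
  refine ⟨C', inferInstance, inferInstance, hCsm, α, β, ?_, ?_⟩
  · -- Step 6: `α` kills `J`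
    have hgen : ∀ x : s, α x.1 = 0 := by
      intro x
      -- lifts of the images of the variables
      choose γ hγ using fun l : Fin (K x) => Ideal.Quotient.mk_surjective
        (eR.symm (gbA (Ideal.Quotient.mk 𝔞 (X (⟨x, l⟩ : σ)))))
      have hck : ∀ k, α (c x k) - ∑ l, algebraMap R C' (a x k l) * γ l ∈
          I.map (algebraMap R C') := by
        intro k
        rw [← Ideal.Quotient.eq, hα, map_sum]
        simp only [map_mul, hγ]
        change eR.symm (gbA (ιB (c x k))) = _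
        have h1 : ιB (c x k) = ∑ l, algebraMap R _ (a x k l) *
            Ideal.Quotient.mk 𝔞 (X (⟨x, l⟩ : σ)) := by
          change Ideal.Quotient.mk 𝔞 (C (c x k)) = _
          have h2 : Ideal.Quotient.mk 𝔞 (rel ⟨x, k⟩) = 0 :=
            Ideal.Quotient.eq_zero_iff_mem.2 (Ideal.subset_span ⟨⟨x, k⟩, rfl⟩)
          simp only [rel, map_sub, map_sum, map_mul, sub_eq_zero] at h2
          rw [h2]
          rfl
        rw [h1, map_sum, map_sum]
        refine Finset.sum_congr rfl fun l _ => ?_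
        rw [map_mul, map_mul, AlgHom.commutes, AlgEquiv.commutes]
        rfl
      have e1 : α x.1 = ∑ k, algebraMap R C' (ε x k) * α (c x k) := by
        conv_lhs => rw [← hsum x]
        rw [map_sum]
        refine Finset.sum_congr rfl fun k _ => ?_
        rw [map_mul, AlgHom.commutes, mul_comm]
      rw [e1]
      have e2 : ∀ k, algebraMap R C' (ε x k) * α (c x k) =
          ∑ l, algebraMap R C' (ε x k * a x k l) * γ l := by
        intro k
        have h3 := mul_eq_zero_of_mem_map I hI (hεI x k) (hck k)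
        rw [mul_sub, sub_eq_zero] at h3
        rw [h3, Finset.mul_sum]
        refine Finset.sum_congr rfl fun l _ => ?_
        rw [map_mul]; ring
      rw [Finset.sum_congr rfl fun k _ => e2 k, Finset.sum_comm]
      refine Finset.sum_eq_zero fun l _ => ?_
      rw [← Finset.sum_mul, ← map_sum, ha0 x l, map_zero, zero_mul]
    intro x hx
    have hle : J ≤ RingHom.ker α.toRingHom := by
      rw [← hs, Ideal.span_le]
      intro z hz
      exact hgen ⟨z, hz⟩
    exact hle hx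
  · -- Step 7: commutation modulo `I`
    intro b
    rw [← Ideal.Quotient.eq, hβ]
    change hb (e (Ideal.Quotient.mk _ (α b))) = _
    rw [hα]
    change hb (e (eR.symm (gbA (ιB b)))) = _
    have h4 : e (eR.symm (gbA (ιB b))) = gbA (ιB b) := eR.apply_symm_apply _
    rw [h4]
    change hb (gb ((1 : R ⧸ I) ⊗ₜ[R] ιB b)) = _
    have := congr($hcomp ((1 : R ⧸ I) ⊗ₜ[R] ιB b))
    rw [AlgHom.comp_apply] at this
    rw [this]
    simp only [f, Algebra.TensorProduct.lift_tmul, map_one, one_mul, AlgHom.comp_apply, hθι]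
    rfl

end Groth.Agent.Lib.LiftTwice22
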