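import Groth.Agent.Lib.LiftOnce22
import Groth.Agent.Lib.LiftTwice22
import Mathlib.RingTheory.Kaehler.Basic
import Mathlib.RingTheory.Finiteness.Projective

/-!
# Stacks 07CP (helper22): ind-smoothness lifts along nilpotent flat deformations

* `exists_fix`: the derivation correction.  `I² = 0`, `B`, `B'` smooth over `R`, `ψ : B → Λ`,
  `α : B → B'`, `β : B' → Λ` with `α(J) = 0` (`J ⊆ IB`) and `β ∘ α ≡ ψ` modulo `IΛ`.  Then after a
  polynomial enlargement `B''` of `B'` there are `α''`, `β''` with `α''(J) = 0` and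
  `β'' ∘ α'' = ψ` on the nose.
* `indSmooth_of_sq_zero`: the case `I² = 0` of Stacks 07CP.
-/

set_option autoImplicit false
universe u

namespace Groth.Agent.Lib.IndSmoothNilp22

open MvPolynomial KaehlerDifferential

theorem exists_fix {R Λ B B' : Type u} [CommRing R] [CommRing Λ] [Algebra R Λ] (I : Ideal R)
    (hI : I ^ 2 = ⊥) [CommRing B] [Algebra R B] [Algebra.Smooth R B] [CommRing B'] [Algebra R B']
    [Algebra.Smooth R B'] (ψ : B →ₐ[R] Λ) (α : B →ₐ[R] B') (β : B' →ₐ[R] Λ) (J : Ideal B)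
    (hJ : J ≤ I.map (algebraMap R B)) (hαJ : ∀ x ∈ J, α x = 0)
    (hβα : ∀ b, β (α b) - ψ b ∈ I.map (algebraMap R Λ)) :
    ∃ (B'' : Type u) (_ : CommRing B'') (_ : Algebra R B''), Algebra.Smooth R B'' ∧
      ∃ (α'' : B →ₐ[R] B'') (β'' : B'' →ₐ[R] Λ), (∀ x ∈ J, α'' x = 0) ∧ β''.comp α'' = ψ := by
  classical
  letI algBΛ : Algebra B Λ := ψ.toRingHom.toAlgebra
  haveI : IsScalarTower R B Λ := IsScalarTower.of_algebraMap_eq fun r => (ψ.commutes r).symm
  have hsmul : ∀ (b : B) (x : Λ), b • x = ψ b * x := fun b x => rfl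
  have hRR : ∀ {r r' : R}, r ∈ I → r' ∈ I → r * r' = 0 := by
    intro r r' hr hr'
    have h1 : r * r' ∈ I * I := Ideal.mul_mem_mul hr hr'
    rwa [← pow_two, hI, Ideal.mem_bot] at h1
  have hII : ∀ {x y : Λ}, x ∈ I.map (algebraMap R Λ) → y ∈ I.map (algebraMap R Λ) →
      x * y = 0 := by
    intro x y hx hy
    have h1 : x * y ∈ (I.map (algebraMap R Λ)) * (I.map (algebraMap R Λ)) :=
      Ideal.mul_mem_mul hx hy
    rwa [← Ideal.map_mul, ← pow_two, hI, Ideal.map_bot, Ideal.mem_bot] at h1
  -- the derivation `ψ - β ∘ α`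
  let D : Derivation R B Λ :=
    { toLinearMap := ψ.toLinearMap - (β.comp α).toLinearMap
      map_one_eq_zero' := by simp
      leibniz' := fun a b => by
        have h0 := hII (hβα a) (hβα b)
        simp only [LinearMap.sub_apply, AlgHom.toLinearMap_apply, AlgHom.comp_apply, map_mul,
          hsmul]
        linear_combination (-1 : Λ) * h0 }
  let ξ : Ω[B⁄R] →ₗ[B] Λ := D.liftKaehlerDifferential
  have hξ : ∀ b, ξ (KaehlerDifferential.D R B b) = ψ b - β (α b) :=
    fun b => D.liftKaehlerDifferential_comp_D b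
  have hξI : ∀ ω, ξ ω ∈ I.map (algebraMap R Λ) := by
    intro ω
    have hω : ω ∈ Submodule.span B (Set.range (KaehlerDifferential.D R B)) := by
      rw [KaehlerDifferential.span_range_derivation]; trivial
    refine Submodule.span_induction ?_ ?_ ?_ ?_ hω
    · rintro _ ⟨b, rfl⟩
      rw [hξ, ← neg_sub]
      exact neg_mem (hβα b)
    · rw [map_zero]; exact zero_mem _
    · intro x y _ _ hx hy; rw [map_add]; exact add_mem hx hy
    · intro a x _ hx; rw [map_smul, hsmul]; exact Ideal.mul_mem_left _ _ hx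
  obtain ⟨N, p, s, -, -, hps⟩ := Module.Finite.exists_comp_eq_id_of_projective B Ω[B⁄R]
  -- decompose the images of the basis vectors
  have hdec : ∀ ν : Fin N, ∃ (m : ℕ) (c : Fin m → Λ) (ε : Fin m → R), (∀ k, ε k ∈ I) ∧
      ∑ k, c k * algebraMap R Λ (ε k) = ξ (p (fun j => if ν = j then 1 else 0)) := by
    intro ν
    have hx := hξI (p (fun j => if ν = j then 1 else 0))
    rw [Ideal.map, Ideal.span, Submodule.mem_span_set'] at hx
    obtain ⟨m, c, gg, hsum⟩ := hx
    choose ε hεI hε using fun k => (gg k).2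
    refine ⟨m, c, ε, hεI, ?_⟩
    rw [← hsum]
    refine Finset.sum_congr rfl fun k _ => ?_
    rw [hε k, smul_eq_mul]
  choose m c ε hεI hsum using hdec
  let T := (ν : Fin N) × Fin (m ν)
  haveI : Algebra.Smooth B' (MvPolynomial T B') :=
    { formallySmooth := inferInstance, finitePresentation := inferInstance }
  haveI hsm : Algebra.Smooth R (MvPolynomial T B') := Algebra.Smooth.comp R B' (MvPolynomial T B')
  -- the twisted map
  let f : B →ₐ[R] MvPolynomial T B' := (IsScalarTower.toAlgHom R B' (MvPolynomial T B')).comp α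
  have hf : ∀ b, f b = C (α b) := fun b => rfl
  let L : T → (B →ₗ[R] MvPolynomial T B') := fun t =>
    (LinearMap.mulLeft R (X t : MvPolynomial T B')) ∘ₗ
      (IsScalarTower.toAlgHom R B' (MvPolynomial T B')).toLinearMap ∘ₗ α.toLinearMap ∘ₗ
      (LinearMap.proj t.1 : (Fin N → B) →ₗ[R] B) ∘ₗ (s.restrictScalars R) ∘ₗ
      (KaehlerDifferential.D R B).toLinearMap
  have hL : ∀ t b, L t b = X t * C (α (s (KaehlerDifferential.D R B b) t.1)) := fun t b => rfl
  have hLleib : ∀ t a b, L t (a * b) = C (α a) * L t b + C (α b) * L t a := by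
    intro t a b
    simp only [hL, Derivation.leibniz, map_add, map_smul, Pi.add_apply, Pi.smul_apply, smul_eq_mul,
      map_mul]
    ring
  let E : B →ₗ[R] MvPolynomial T B' := ∑ t : T, ε t.1 t.2 • L t
  have hE : ∀ b, E b = ∑ t : T, ε t.1 t.2 • L t b := fun b => by
    simp only [E, LinearMap.sum_apply, LinearMap.smul_apply]
  have hEleib : ∀ a b, E (a * b) = C (α a) * E b + C (α b) * E a := by
    intro a b
    simp only [hE, Finset.mul_sum, ← Finset.sum_add_distrib]
    refine Finset.sum_congr rfl fun t _ => ?_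
    rw [hLleib, smul_add, mul_smul_comm, mul_smul_comm]
  have hEE : ∀ a b, E a * E b = 0 := by
    intro a b
    simp only [hE, Finset.sum_mul_sum]
    refine Finset.sum_eq_zero fun t _ => Finset.sum_eq_zero fun t' _ => ?_
    rw [smul_mul_smul_comm, hRR (hεI _ _) (hεI _ _), zero_smul]
  have hE1 : E 1 = 0 := by
    have := hEleib 1 1
    simp only [mul_one, map_one, one_mul] at this
    exact left_eq_add.mp this
  let α'' : B →ₐ[R] MvPolynomial T B' :=
    AlgHom.ofLinearMap (f.toLinearMap + E)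
      (by rw [LinearMap.add_apply, AlgHom.toLinearMap_apply, map_one, hE1, add_zero])
      (fun a b => by
        simp only [LinearMap.add_apply, AlgHom.toLinearMap_apply, map_mul, hf]
        linear_combination hEleib a b - hEE a b)
  have hα'' : ∀ b, α'' b = C (α b) + E b := fun b => rfl
  -- the evaluation
  letI algB'Λ : Algebra B' Λ := β.toRingHom.toAlgebra
  haveI : IsScalarTower R B' Λ := IsScalarTower.of_algebraMap_eq fun r => (β.commutes r).symm
  let β'' : MvPolynomial T B' →ₐ[R] Λ :=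
    (MvPolynomial.aeval (fun t : T => c t.1 t.2) : MvPolynomial T B' →ₐ[B'] Λ).restrictScalars R
  have hβ''C : ∀ b : B', β'' (C b) = β b := fun b => by
    change MvPolynomial.aeval _ (C b) = _
    rw [MvPolynomial.aeval_C]; rfl
  have hβ''X : ∀ t : T, β'' (X t) = c t.1 t.2 := fun t => by
    change MvPolynomial.aeval _ (X t) = _
    rw [MvPolynomial.aeval_X]
  refine ⟨MvPolynomial T B', inferInstance, inferInstance, hsm, α'', β'', ?_, ?_⟩
  · intro x hx
    rw [hα'', hαJ x hx, map_zero, zero_add]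
    have hx' : x ∈ I • (⊤ : Submodule R B) := by
      rw [Ideal.smul_top_eq_map]; exact hJ hx
    refine Submodule.smul_induction_on hx' (fun r hr n _ => ?_)
      (fun x y hx hy => by rw [map_add, hx, hy, add_zero])
    rw [map_smul, hE, Finset.smul_sum]
    refine Finset.sum_eq_zero fun t _ => ?_
    rw [smul_smul, hRR hr (hεI _ _), zero_smul]
  · apply AlgHom.ext
    intro b
    rw [AlgHom.comp_apply, hα'', map_add, hβ''C, hE, map_sum]
    have h1 : ψ b = β (α b) + ξ (KaehlerDifferential.D R B b) := by rw [hξ]; ring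
    rw [h1]
    congr 1
    -- expand `ξ (d b)` along the basis
    have h2 : ξ (KaehlerDifferential.D R B b) =
        (ξ ∘ₗ p) (s (KaehlerDifferential.D R B b)) := by
      have := congr($hps (KaehlerDifferential.D R B b))
      rw [LinearMap.comp_apply, LinearMap.id_apply] at this
      rw [LinearMap.comp_apply, this]
    rw [h2, LinearMap.pi_apply_eq_sum_univ (ξ ∘ₗ p), Fintype.sum_sigma]
    refine Finset.sum_congr rfl fun i _ => ?_
    rw [LinearMap.comp_apply, ← hsum i, hsmul, Finset.mul_sum]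
    refine Finset.sum_congr rfl fun k _ => ?_
    rw [map_smul, hL, map_mul, hβ''X, hβ''C, Algebra.smul_def]
    have hz := LiftTwice22.mul_eq_zero_of_mem_map I hI (hεI i k)
      (hβα (s (KaehlerDifferential.D R B b) i))
    rw [mul_sub, sub_eq_zero] at hz
    linear_combination (c i k) * hz

/-- Stacks 07CP in the square-zero case. -/
theorem indSmooth_of_sq_zero {R Λ : Type u} [CommRing R] [CommRing Λ] [Algebra R Λ] (I : Ideal R)
    (hI : I ^ 2 = ⊥) [Module.Flat R Λ]
    (h : Smoothing.IndSmooth (R ⧸ I) (Λ ⧸ I.map (algebraMap R Λ))) :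
    Smoothing.IndSmooth R Λ := by
  intro A _ _ hA φ
  obtain ⟨B, _, _, hB, J, hJ, hJfg, g, k, hgk⟩ := LiftOnce22.lift_once I hI h φ
  let ψ : B →ₐ[R] Λ := k.comp (Ideal.Quotient.mkₐ R J)
  have hψJ : ∀ x ∈ J, ψ x = 0 := fun x hx => by
    change k (Ideal.Quotient.mk J x) = 0
    rw [Ideal.Quotient.eq_zero_iff_mem.2 hx, map_zero]
  obtain ⟨B', _, _, hB', α, β, hαJ, hβα⟩ := LiftTwice22.lift_twice I hI h ψ J hJ hJfg hψJ
  obtain ⟨B'', _, _, hB'', α'', β'', hα''J, hβα''⟩ := exists_fix I hI ψ α β J hJ hαJ hβα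
  refine ⟨B'', inferInstance, inferInstance, hB'', (Ideal.Quotient.liftₐ J α'' hα''J).comp g, β'',
    ?_⟩
  rw [← hgk, ← AlgHom.comp_assoc]
  congr 1
  apply AlgHom.ext
  intro z
  obtain ⟨b, rfl⟩ := Ideal.Quotient.mk_surjective z
  exact congr($hβα'' b)

end Groth.Agent.Lib.IndSmoothNilp22
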