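import Groth.Agent.Lib.IndSmoothNilp22
import Mathlib.RingTheory.TensorProduct.Quotient
import Mathlib.RingTheory.Ideal.Over

/-!
# Stacks 07CP (helper22), part b: the nilpotent induction

* `indSmooth_of_ringEquiv`: `IndSmooth` is invariant under compatible ring isomorphisms.
* `flat_quotient`: `Λ/KΛ` is flat over `R/K`.
* `indSmooth_doubleQuot`: transport to a double quotient.
* `indSmooth_of_pow_eq_bot`: Stacks 07CP.
-/

set_option autoImplicit false
universe u

namespace Groth.Agent.Lib.IndSmoothNilp22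

theorem indSmooth_of_ringEquiv {R₁ Λ₁ R₂ Λ₂ : Type u} [CommRing R₁] [CommRing Λ₁] [Algebra R₁ Λ₁]
    [CommRing R₂] [CommRing Λ₂] [Algebra R₂ Λ₂] (e : R₂ ≃+* R₁) (e' : Λ₂ ≃+* Λ₁)
    (he : ∀ r, e' (algebraMap R₂ Λ₂ r) = algebraMap R₁ Λ₁ (e r))
    (h : Smoothing.IndSmooth R₁ Λ₁) : Smoothing.IndSmooth R₂ Λ₂ := by
  intro A _ _ hA f
  have he2 : ∀ r, e'.symm (algebraMap R₁ Λ₁ r) = algebraMap R₂ Λ₂ (e.symm r) := by
    intro r
    apply e'.injective
    rw [e'.apply_symm_apply, he, e.apply_symm_apply]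
  -- `R₂` as an `R₁`-algebra
  letI alg12 : Algebra R₁ R₂ := e.symm.toRingHom.toAlgebra
  let eA : R₁ ≃ₐ[R₁] R₂ := { e.symm with commutes' := fun r => rfl }
  haveI : Algebra.FinitePresentation R₁ R₂ := Algebra.FinitePresentation.equiv eA
  letI alg1A : Algebra R₁ A := ((algebraMap R₂ A).comp (algebraMap R₁ R₂)).toAlgebra
  haveI : IsScalarTower R₁ R₂ A := IsScalarTower.of_algebraMap_eq fun _ => rfl
  haveI : Algebra.FinitePresentation R₁ A := Algebra.FinitePresentation.trans R₁ R₂ A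
  let f₁ : A →ₐ[R₁] Λ₁ :=
    { toRingHom := e'.toRingHom.comp f.toRingHom
      commutes' := fun r => by
        change e' (f (algebraMap R₂ A (e.symm r))) = _
        rw [f.commutes, he, e.apply_symm_apply] }
  obtain ⟨B, _, _, hB, g, k, hgk⟩ := h A inferInstance f₁
  -- `R₁` as an `R₂`-algebra
  letI alg21 : Algebra R₂ R₁ := e.toRingHom.toAlgebra
  let eB : R₂ ≃ₐ[R₂] R₁ := { e with commutes' := fun r => rfl }
  haveI : Algebra.Smooth R₂ R₂ := { formallySmooth := inferInstance, finitePresentation := inferInstance }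
  haveI : Algebra.Smooth R₂ R₁ := Algebra.Smooth.of_equiv eB
  letI alg2B : Algebra R₂ B := ((algebraMap R₁ B).comp (algebraMap R₂ R₁)).toAlgebra
  haveI : IsScalarTower R₂ R₁ B := IsScalarTower.of_algebraMap_eq fun _ => rfl
  haveI hsm : Algebra.Smooth R₂ B := Algebra.Smooth.comp R₂ R₁ B
  have hA1 : ∀ r : R₂, algebraMap R₂ A r = algebraMap R₁ A (e r) := by
    intro r
    change _ = algebraMap R₂ A (e.symm (e r))
    rw [e.symm_apply_apply]
  let g₂ : A →ₐ[R₂] B :=
    { toRingHom := g.toRingHom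
      commutes' := fun r => by
        change g (algebraMap R₂ A r) = algebraMap R₁ B (e r)
        rw [hA1, g.commutes] }
  let k₂ : B →ₐ[R₂] Λ₂ :=
    { toRingHom := e'.symm.toRingHom.comp k.toRingHom
      commutes' := fun r => by
        change e'.symm (k (algebraMap R₁ B (e r))) = _
        rw [k.commutes, he2, e.symm_apply_apply] }
  refine ⟨B, inferInstance, alg2B, hsm, g₂, k₂, ?_⟩
  apply AlgHom.ext
  intro a
  change e'.symm (k (g a)) = f a
  have := congr($hgk a)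
  rw [AlgHom.comp_apply] at this
  rw [this]
  exact e'.symm_apply_apply _

theorem flat_quotient {R Λ : Type*} [CommRing R] [CommRing Λ] [Algebra R Λ] [Module.Flat R Λ]
    (K : Ideal R) : Module.Flat (R ⧸ K) (Λ ⧸ K.map (algebraMap R Λ)) :=
  Module.Flat.of_linearEquiv
    (Algebra.TensorProduct.quotIdealMapEquivQuotTensor Λ K).toLinearEquiv

theorem indSmooth_doubleQuot {R Λ : Type u} [CommRing R] [CommRing Λ] [Algebra R Λ]
    (I K : Ideal R) (hKI : K ≤ I)
    (h : Smoothing.IndSmooth (R ⧸ I) (Λ ⧸ I.map (algebraMap R Λ))) :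
    Smoothing.IndSmooth ((R ⧸ K) ⧸ I.map (Ideal.Quotient.mk K))
      ((Λ ⧸ K.map (algebraMap R Λ)) ⧸
        (I.map (Ideal.Quotient.mk K)).map (algebraMap (R ⧸ K) (Λ ⧸ K.map (algebraMap R Λ)))) := by
  have hideal : (I.map (Ideal.Quotient.mk K)).map
      (algebraMap (R ⧸ K) (Λ ⧸ K.map (algebraMap R Λ))) =
      (I.map (algebraMap R Λ)).map (Ideal.Quotient.mk (K.map (algebraMap R Λ))) := by
    rw [Ideal.map_map, Ideal.map_map]
    congr 1
  have hKI' : K.map (algebraMap R Λ) ≤ I.map (algebraMap R Λ) := Ideal.map_mono hKI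
  refine indSmooth_of_ringEquiv (DoubleQuot.quotQuotEquivQuotOfLE hKI)
    ((Ideal.quotEquivOfEq hideal).trans (DoubleQuot.quotQuotEquivQuotOfLE hKI')) ?_ h
  intro r
  obtain ⟨r', rfl⟩ := Ideal.Quotient.mk_surjective r
  obtain ⟨x, rfl⟩ := Ideal.Quotient.mk_surjective r'
  rfl

/-- Stacks 07CP. -/
theorem indSmooth_of_pow_eq_bot : ∀ (n : ℕ) {R Λ : Type u} [CommRing R] [CommRing Λ]
    [Algebra R Λ] (I : Ideal R), I ^ n = ⊥ → ∀ [Module.Flat R Λ],
    Smoothing.IndSmooth (R ⧸ I) (Λ ⧸ I.map (algebraMap R Λ)) → Smoothing.IndSmooth R Λ := by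
  intro n
  induction n using Nat.strong_induction_on with
  | _ n ih =>
    intro R Λ _ _ _ I hI _ h
    by_cases hn : n ≤ 2
    · exact indSmooth_of_sq_zero I (le_bot_iff.1 (hI ▸ Ideal.pow_le_pow_right hn)) h
    · push_neg at hn
      have hK2 : (I ^ (n - 1)) ^ 2 = ⊥ := by
        rw [← pow_mul]
        exact le_bot_iff.1 (hI ▸ Ideal.pow_le_pow_right (by omega))
      have hKI : I ^ (n - 1) ≤ I := Ideal.pow_le_self (by omega)
      have hI' : (I.map (Ideal.Quotient.mk (I ^ (n - 1)))) ^ (n - 1) = ⊥ := by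
        rw [← Ideal.map_pow, Ideal.map_quotient_self]
      haveI := flat_quotient (Λ := Λ) (I ^ (n - 1))
      have h' := ih (n - 1) (by omega) (I.map (Ideal.Quotient.mk (I ^ (n - 1)))) hI'
        (indSmooth_doubleQuot I (I ^ (n - 1)) hKI h)
      exact indSmooth_of_sq_zero (I ^ (n - 1)) hK2 h'

end Groth.Agent.Lib.IndSmoothNilp22
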