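import Groth.Prelude.Def_LefPen
import Groth.Agent.Lib.H78PlanePoints
import Mathlib.Algebra.MvPolynomial.Funext

/-!
# `m ≥ C(r+d,d)` general points impose independent conditions on forms of degree `d`
(helper99; used for S18464)
-/

set_option autoImplicit false
universe u

namespace Groth.Agent.Lib.IndepCond99

open MvPolynomial

variable (k : Type u) [Field k] (r d m : ℕ)

/-- the ambient space of `m`-tuples of vectors -/
abbrev V : Type u := Fin m → (Fin (r + 1) → k)

/-- the subalgebra of polynomial functions -/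
noncomputable def PF : Subalgebra k (V k r m → k) :=
  Algebra.adjoin k (Set.range (fun l : Module.Dual k (V k r m) => (l : V k r m → k)))

lemma isPolyFun_iff (f : V k r m → k) : LefPen.IsPolyFun k f ↔ f ∈ PF k r m := Iff.rfl

lemma coord_mem (i : Fin m) (j : Fin (r + 1)) : (fun w : V k r m => w i j) ∈ PF k r m :=
  Algebra.subset_adjoin
    ⟨(LinearMap.proj j : (Fin (r + 1) → k) →ₗ[k] k) ∘ₗ (LinearMap.proj i : V k r m →ₗ[k] _), rfl⟩

lemma const_mem (c : k) : (fun _ : V k r m => c) ∈ PF k r m :=
  (PF k r m).algebraMap_mem c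

lemma aeval_mem (P : MvPolynomial (Fin (r + 1)) k) (i : Fin m) :
    (fun w : V k r m => aeval (w i) P) ∈ PF k r m := by
  induction P using MvPolynomial.induction_on with
  | C a =>
    have : (fun w : V k r m => aeval (w i) (C a : MvPolynomial (Fin (r + 1)) k)) = fun _ => a := by
      funext w; simp
    rw [this]; exact const_mem k r m a
  | add p q hp hq =>
    have : (fun w : V k r m => aeval (w i) (p + q)) =
        (fun w : V k r m => aeval (w i) p) + (fun w : V k r m => aeval (w i) q) := by
      funext w; simp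
    rw [this]; exact add_mem hp hq
  | mul_X p j hp =>
    have : (fun w : V k r m => aeval (w i) (p * X j)) =
        (fun w : V k r m => aeval (w i) p) * (fun w : V k r m => w i j) := by
      funext w; simp
    rw [this]; exact mul_mem hp (coord_mem k r m i j)

lemma det_mem {ι : Type*} [Fintype ι] [DecidableEq ι] (M : V k r m → Matrix ι ι k)
    (hM : ∀ a b, (fun w => M w a b) ∈ PF k r m) : (fun w => (M w).det) ∈ PF k r m := by
  have : (fun w => (M w).det) =
      ∑ σ : Equiv.Perm ι, ((Equiv.Perm.sign σ : ℤˣ) : ℤ) • ∏ a, (fun w => M w (σ a) a) := by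
    funext w
    rw [Matrix.det_apply, Finset.sum_apply]
    refine Finset.sum_congr rfl (fun σ _ => ?_)
    rw [Pi.smul_apply, Finset.prod_apply, Units.smul_def]
  rw [this]
  exact Subalgebra.sum_mem _ (fun σ _ => Subalgebra.zsmul_mem _ (Subalgebra.prod_mem _ (fun a _ => hM _ _)) _)

instance : Module.Finite k (LefPen.Form r k d) := by
  apply Module.finite_of_finrank_pos
  classical
  rw [Groth.Agent.Lib.H78PlanePoints.finrank_homogeneousSubmodule k (Fin (r + 1)) d]
  apply Nat.choose_pos
  simp only [Fintype.card_fin]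
  omega

lemma finrank_form : Module.finrank k (LefPen.Form r k d) = (r + d).choose d := by
  classical
  rw [Groth.Agent.Lib.H78PlanePoints.finrank_homogeneousSubmodule k (Fin (r + 1)) d]
  simp only [Fintype.card_fin]
  congr 1
  omega

/-- the evaluation map at the tuple `w` -/
noncomputable def L (w : V k r m) : LefPen.Form r k d →ₗ[k] (Fin m → k) :=
  LinearMap.pi (fun i => (aeval (w i)).toLinearMap ∘ₗ (Submodule.subtype _))

lemma L_apply (w : V k r m) (G : LefPen.Form r k d) (i : Fin m) :
    L k r d m w G i = aeval (w i) G.1 := rfl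

/-- the set of tuples imposing independent conditions -/
def S : Set (V k r m) :=
  {x | ∀ G : LefPen.Form r k d, (∀ i : Fin m, aeval (x i) G.1 = 0) → G = 0}

lemma mem_S_iff (w : V k r m) : w ∈ S k r d m ↔ LinearMap.ker (L k r d m w) = ⊥ := by
  rw [LinearMap.ker_eq_bot']
  constructor
  · intro h G hG
    exact h G (fun i => by rw [← L_apply, hG]; rfl)
  · intro h G hG
    exact h G (funext fun i => by rw [L_apply, hG i]; rfl)

theorem isZOpen : LefPen.IsZOpen k (S k r d m) := by
  classical
  intro x hx
  rw [mem_S_iff] at hx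
  obtain ⟨Ψ, hΨ⟩ := (L k r d m x).exists_leftInverse_of_injective hx
  refine ⟨fun w => LinearMap.det (Ψ ∘ₗ L k r d m w), ?_, ?_, ?_⟩
  · rw [isPolyFun_iff]
    let B := Module.finBasis k (LefPen.Form r k d)
    have h1 : (fun w => LinearMap.det (Ψ ∘ₗ L k r d m w)) =
        fun w => (LinearMap.toMatrix B B (Ψ ∘ₗ L k r d m w)).det := by
      funext w; rw [LinearMap.det_toMatrix]
    rw [h1]
    apply det_mem
    intro a b
    have h2 : (fun w => LinearMap.toMatrix B B (Ψ ∘ₗ L k r d m w) a b) =
        ∑ c : Fin m, (fun w : V k r m => aeval (w c) (B b).1) *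
          (fun _ => B.repr (Ψ (Pi.single c 1)) a) := by
      funext w
      rw [LinearMap.toMatrix_apply, LinearMap.comp_apply, Finset.sum_apply]
      have : L k r d m w (B b) = ∑ c : Fin m, (L k r d m w (B b) c) • (Pi.single c (1 : k) : Fin m → k) := by
        conv_lhs => rw [pi_eq_sum_univ (L k r d m w (B b))]
        refine Finset.sum_congr rfl (fun c _ => ?_)
        congr 1
        funext j
        simp [Pi.single_apply, eq_comm]
      rw [this, map_sum, map_sum, Finsupp.finsetSum_apply]
      refine Finset.sum_congr rfl (fun c _ => ?_)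
      rw [map_smul, map_smul, Finsupp.smul_apply, smul_eq_mul, Pi.mul_apply, L_apply]
    rw [h2]
    exact Subalgebra.sum_mem _ (fun c _ => mul_mem (aeval_mem k r m _ c) (const_mem k r m _))
  · show LinearMap.det (Ψ ∘ₗ L k r d m x) ≠ 0
    rw [hΨ, LinearMap.det_id]
    exact one_ne_zero
  · intro w hw
    rw [mem_S_iff]
    have h3 : LinearMap.ker (Ψ ∘ₗ L k r d m w) = ⊥ := by
      by_contra hne
      exact hw (LinearMap.det_eq_zero_iff_ker_ne_bot.mpr hne)
    rw [LinearMap.ker_eq_bot] at h3 ⊢
    exact Function.Injective.of_comp (f := Ψ) (by simpa using h3)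

/-- the evaluation functional at a vector -/
noncomputable def φ (v : Fin (r + 1) → k) : Module.Dual k (LefPen.Form r k d) :=
  (aeval v).toLinearMap ∘ₗ (Submodule.subtype _)

lemma φ_apply (v : Fin (r + 1) → k) (G : LefPen.Form r k d) : φ k r d v G = aeval v G.1 := rfl

theorem nonempty_S [Infinite k] (hm : Nat.choose (r + d) d ≤ m) : (S k r d m).Nonempty := by
  classical
  obtain ⟨κ, a, ha, hsp, hli⟩ := exists_linearIndependent' k (φ k r d)
  have : Finite κ := hli.finite
  have : Fintype κ := Fintype.ofFinite κ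
  have hcard : Fintype.card κ ≤ Fintype.card (Fin m) := by
    have h1 := hli.fintype_card_le_finrank
    rw [Subspace.dual_finrank_eq, finrank_form] at h1
    rw [Fintype.card_fin]
    exact h1.trans hm
  obtain ⟨ε⟩ := Function.Embedding.nonempty_of_card_le hcard
  refine ⟨fun i => if h : ∃ c, ε c = i then a h.choose else 0, ?_⟩
  intro G hG
  -- all functionals `φ (a c)` vanish at `G`
  have h1 : ∀ c : κ, φ k r d (a c) G = 0 := by
    intro c
    have h2 := hG (ε c)
    have hex : ∃ c', ε c' = ε c := ⟨c, rfl⟩
    beta_reduce at h2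
    rw [dif_pos hex] at h2
    have : hex.choose = c := ε.injective hex.choose_spec
    rw [this] at h2
    exact h2
  have h3 : ∀ ψ ∈ Submodule.span k (Set.range (φ k r d ∘ a)), ψ G = 0 := by
    intro ψ hψ
    induction hψ using Submodule.span_induction with
    | mem x hx => obtain ⟨c, rfl⟩ := hx; exact h1 c
    | zero => rfl
    | add x y _ _ hx hy => rw [LinearMap.add_apply, hx, hy, add_zero]
    | smul t x _ hx => rw [LinearMap.smul_apply, hx, smul_zero]
  have h4 : ∀ v : Fin (r + 1) → k, aeval v G.1 = 0 := by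
    intro v
    have : φ k r d v ∈ Submodule.span k (Set.range (φ k r d ∘ a)) := by
      rw [hsp]; exact Submodule.subset_span ⟨v, rfl⟩
    exact h3 _ this
  apply Subtype.ext
  apply MvPolynomial.funext
  intro v
  have := h4 v
  rw [← MvPolynomial.coe_aeval_eq_eval]
  simpa using this

theorem isGeneric [Infinite k] (hm : Nat.choose (r + d) d ≤ m) : LefPen.IsGeneric k (S k r d m) := by
  obtain ⟨x, hx⟩ := nonempty_S k r d m hm
  obtain ⟨f, hf, hfx, hfS⟩ := isZOpen k r d m x hx
  exact ⟨f, hf, ⟨x, hfx⟩, hfS⟩

end Groth.Agent.Lib.IndepCond99
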