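import Groth.Agent.Lib.SixTermH44

/-!
# helper44: the index of a linear map with finite-dimensional kernel and cokernel

`ind f = dim ker f - dim coker f`; additivity under composition, and the two "partial Euler
characteristic" identities for six-term exact sequences in which only two of the six terms
are known to be finite-dimensional.
-/

set_option autoImplicit false

namespace Groth.Agent.Lib.IndexH44

open Groth.Agent.Lib.SixTermH44

section Generic

variable {F : Type*} [Field F] {U V W : Type*} [AddCommGroup U] [Module F U]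
  [AddCommGroup V] [Module F V] [AddCommGroup W] [Module F W]

/-- kernel and cokernel are finite-dimensional -/
def FinInd (f : U →ₗ[F] V) : Prop :=
  Module.Finite F (LinearMap.ker f) ∧ Module.Finite F (V ⧸ LinearMap.range f)

/-- the index `dim ker - dim coker` -/
noncomputable def ind (f : U →ₗ[F] V) : ℤ :=
  (Module.finrank F (LinearMap.ker f) : ℤ) - Module.finrank F (V ⧸ LinearMap.range f)

theorem ind_comp (f : U →ₗ[F] V) (g : V →ₗ[F] W) (hf : FinInd f) (hg : FinInd g) :
    FinInd (g ∘ₗ f) ∧ ind (g ∘ₗ f) = ind f + ind g := by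
  obtain ⟨hf1, hf2⟩ := hf
  obtain ⟨hg1, hg2⟩ := hg
  let a : LinearMap.ker f →ₗ[F] LinearMap.ker (g ∘ₗ f) :=
    Submodule.inclusion (LinearMap.ker_le_ker_comp f g)
  let b : LinearMap.ker (g ∘ₗ f) →ₗ[F] LinearMap.ker g :=
    f.restrict (fun x hx => by simpa using hx)
  let c : LinearMap.ker g →ₗ[F] V ⧸ LinearMap.range f :=
    (LinearMap.range f).mkQ ∘ₗ (LinearMap.ker g).subtype
  let d : (V ⧸ LinearMap.range f) →ₗ[F] W ⧸ LinearMap.range (g ∘ₗ f) :=
    Submodule.mapQ _ _ g (by rintro _ ⟨u, rfl⟩; exact ⟨u, rfl⟩)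
  let e : (W ⧸ LinearMap.range (g ∘ₗ f)) →ₗ[F] W ⧸ LinearMap.range g :=
    Submodule.mapQ _ _ LinearMap.id (by
      rw [Submodule.comap_id]; exact LinearMap.range_comp_le_range f g)
  have ha : Function.Injective a := Submodule.inclusion_injective _
  have hab : Function.Exact a b := by
    intro x
    constructor
    · intro hx
      have hx' : f x.1 = 0 := congrArg Subtype.val hx
      exact ⟨⟨x.1, hx'⟩, Subtype.ext rfl⟩
    · rintro ⟨y, rfl⟩
      exact Subtype.ext y.2
  have hbc : Function.Exact b c := by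
    intro y
    constructor
    · intro hy
      have hy' : y.1 ∈ LinearMap.range f := (Submodule.Quotient.mk_eq_zero _).1 hy
      obtain ⟨x, hx⟩ := hy'
      refine ⟨⟨x, ?_⟩, Subtype.ext hx⟩
      simp only [LinearMap.mem_ker, LinearMap.coe_comp, Function.comp_apply, hx]
      exact y.2
    · rintro ⟨x, rfl⟩
      exact (Submodule.Quotient.mk_eq_zero _).2 ⟨x.1, rfl⟩
  have hcd : Function.Exact c d := by
    intro v
    obtain ⟨v, rfl⟩ := Submodule.Quotient.mk_surjective _ v
    constructor
    · intro hv
      have hv' : g v ∈ LinearMap.range (g ∘ₗ f) := (Submodule.Quotient.mk_eq_zero _).1 hv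
      obtain ⟨u, hu⟩ := hv'
      refine ⟨⟨v - f u, ?_⟩, ?_⟩
      · simp only [LinearMap.mem_ker, map_sub]
        rw [sub_eq_zero]; exact hu.symm
      · change Submodule.Quotient.mk (v - f u) = Submodule.Quotient.mk v
        rw [Submodule.Quotient.eq]
        exact ⟨-u, by simp⟩
    · rintro ⟨y, hy⟩
      rw [← hy]
      change Submodule.Quotient.mk (g y.1) = 0
      rw [y.2]; rfl
  have hde : Function.Exact d e := by
    intro w
    obtain ⟨w, rfl⟩ := Submodule.Quotient.mk_surjective _ w
    constructor
    · intro hw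
      have hw' : w ∈ LinearMap.range g := (Submodule.Quotient.mk_eq_zero _).1 hw
      obtain ⟨v, rfl⟩ := hw'
      exact ⟨Submodule.Quotient.mk v, rfl⟩
    · rintro ⟨v, hv⟩
      obtain ⟨v, rfl⟩ := Submodule.Quotient.mk_surjective _ v
      rw [← hv]
      exact (Submodule.Quotient.mk_eq_zero _).2 ⟨v, rfl⟩
  have he : Function.Surjective e := by
    intro w
    obtain ⟨w, rfl⟩ := Submodule.Quotient.mk_surjective _ w
    exact ⟨Submodule.Quotient.mk w, rfl⟩
  obtain ⟨f2, f5, h⟩ := six_term a b c d e ha hab hbc hcd hde he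
  refine ⟨⟨f2, f5⟩, ?_⟩
  unfold ind
  omega

variable {V1 V2 V3 V4 V5 V6 : Type*}
  [AddCommGroup V1] [Module F V1] [AddCommGroup V2] [Module F V2] [AddCommGroup V3] [Module F V3]
  [AddCommGroup V4] [Module F V4] [AddCommGroup V5] [Module F V5] [AddCommGroup V6] [Module F V6]

/-- the cokernel of `f` is the range of `g` when `f, g` is exact -/
noncomputable def cokerEquivRange {f : U →ₗ[F] V} {g : V →ₗ[F] W} (h : Function.Exact f g) :
    (V ⧸ LinearMap.range f) ≃ₗ[F] LinearMap.range g :=
  (Submodule.quotEquivOfEq _ _ (LinearMap.exact_iff.1 h).symm).trans g.quotKerEquivRange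

theorem finInd_of_injective_of_exact {f : U →ₗ[F] V} {g : V →ₗ[F] W} (hf : Function.Injective f)
    (h : Function.Exact f g) [Module.Finite F W] :
    FinInd f ∧ ind f = - (Module.finrank F (LinearMap.range g) : ℤ) := by
  have hk : LinearMap.ker f = ⊥ := LinearMap.ker_eq_bot.2 hf
  have e := cokerEquivRange h
  refine ⟨⟨?_, Module.Finite.equiv e.symm⟩, ?_⟩
  · rw [hk]; infer_instance
  · unfold ind
    rw [e.finrank_eq, hk, finrank_bot]
    simp

/-- Six-term exact sequence with the third and sixth terms finite-dimensional. -/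
theorem six_term_36 (a : V1 →ₗ[F] V2) (b : V2 →ₗ[F] V3) (c : V3 →ₗ[F] V4) (d : V4 →ₗ[F] V5)
    (e : V5 →ₗ[F] V6) (ha : Function.Injective a) (hab : Function.Exact a b)
    (hbc : Function.Exact b c) (hcd : Function.Exact c d) (hde : Function.Exact d e)
    (he : Function.Surjective e) [Module.Finite F V3] [Module.Finite F V6] :
    FinInd a ∧ FinInd d ∧
      ind d - ind a = (Module.finrank F V3 : ℤ) - Module.finrank F V6 := by
  obtain ⟨h1, h2⟩ := finInd_of_injective_of_exact ha hab
  have e5 := cokerEquivRange hde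
  have hre : LinearMap.range e = ⊤ := LinearMap.range_eq_top.2 he
  have hkd : LinearMap.ker d = LinearMap.range c := LinearMap.exact_iff.1 hcd
  have hd : FinInd d := by
    refine ⟨?_, Module.Finite.equiv e5.symm⟩
    rw [hkd]; infer_instance
  refine ⟨h1, hd, ?_⟩
  have nc := LinearMap.finrank_range_add_finrank_ker c
  rw [LinearMap.exact_iff.1 hbc] at nc
  rw [h2]
  unfold ind
  rw [e5.finrank_eq, hre, finrank_top, hkd]
  omega

/-- Six-term exact sequence with the first and fourth terms finite-dimensional. -/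
theorem six_term_14 (a : V1 →ₗ[F] V2) (b : V2 →ₗ[F] V3) (c : V3 →ₗ[F] V4) (d : V4 →ₗ[F] V5)
    (e : V5 →ₗ[F] V6) (ha : Function.Injective a) (hab : Function.Exact a b)
    (hbc : Function.Exact b c) (hcd : Function.Exact c d) (hde : Function.Exact d e)
    (he : Function.Surjective e) [Module.Finite F V1] [Module.Finite F V4] :
    FinInd b ∧ FinInd e ∧
      ind e - ind b = (Module.finrank F V4 : ℤ) - Module.finrank F V1 := by
  have e3 := cokerEquivRange hbc
  have hkb : LinearMap.ker b = LinearMap.range a := LinearMap.exact_iff.1 hab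
  have hke : LinearMap.ker e = LinearMap.range d := LinearMap.exact_iff.1 hde
  have hre : LinearMap.range e = ⊤ := LinearMap.range_eq_top.2 he
  have hb : FinInd b := by
    refine ⟨?_, Module.Finite.equiv e3.symm⟩
    rw [hkb]; infer_instance
  have hE : FinInd e := by
    refine ⟨?_, ?_⟩
    · rw [hke]; infer_instance
    · rw [hre]; infer_instance
  refine ⟨hb, hE, ?_⟩
  have ra := LinearMap.finrank_range_of_inj ha
  have nd := LinearMap.finrank_range_add_finrank_ker d
  rw [LinearMap.exact_iff.1 hcd] at nd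
  have h0 : Module.finrank F (V6 ⧸ LinearMap.range e) = 0 := by
    rw [hre]; exact Module.finrank_zero_of_subsingleton
  unfold ind
  rw [e3.finrank_eq, hkb, hke, ra, h0]
  omega

end Generic

end Groth.Agent.Lib.IndexH44
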