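import Groth.Prelude.Def_W4bk4git07Quot

/-!
# The induced action on a base change of an invariant morphism (helper45)

For an action `a` of `G` on `X`, an invariant `φ : X ⟶ Y` and a cartesian square
`X₁ = X ×_Y Y₁` (in `Over S`), `inducedAction` is the unique action of `G` on `X₁` for which
`X₁ ⟶ X` is equivariant and `X₁ ⟶ Y₁` is invariant.
-/

set_option autoImplicit false
universe u
open CategoryTheory CategoryTheory.Limits MonoidalCategory CartesianMonoidalCategory MonObj
  AlgebraicGeometry

namespace Groth.Agent.Lib.InducedAct45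

variable {S : Scheme.{u}} {G X Y X₁ Y₁ : Over S} [GrpObj G]
  (a : AlgGrp.Action G X) {φ : X ⟶ Y} (hinv : GIT.IsInvariant a φ)
  {pr₁ : X₁ ⟶ X} {φ₁ : X₁ ⟶ Y₁} {g : Y₁ ⟶ Y} (hpb : IsPullback pr₁ φ₁ φ g)

include hinv hpb in
lemma inducedAct_cond : ((G ◁ pr₁) ≫ a.act) ≫ φ = (snd G X₁ ≫ φ₁) ≫ g := by
  rw [Category.assoc, hinv, whiskerLeft_snd_assoc, Category.assoc, hpb.w]

/-- The induced action morphism. -/
noncomputable def inducedAct : G ⊗ X₁ ⟶ X₁ :=
  hpb.lift ((G ◁ pr₁) ≫ a.act) (snd G X₁ ≫ φ₁) (inducedAct_cond a hinv hpb)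

lemma inducedAct_fst : inducedAct a hinv hpb ≫ pr₁ = (G ◁ pr₁) ≫ a.act :=
  hpb.lift_fst _ _ _

lemma inducedAct_snd : inducedAct a hinv hpb ≫ φ₁ = snd G X₁ ≫ φ₁ :=
  hpb.lift_snd _ _ _

/-- The induced action on the base change. -/
noncomputable def inducedAction : AlgGrp.Action G X₁ where
  act := inducedAct a hinv hpb
  one_act := by
    apply hpb.hom_ext
    · rw [Category.assoc, inducedAct_fst, ← whisker_exchange_assoc, a.one_act,
        leftUnitor_naturality]
    · rw [Category.assoc, inducedAct_snd, whiskerRight_snd_assoc]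
      rfl
  mul_act := by
    apply hpb.hom_ext
    · rw [Category.assoc, inducedAct_fst, ← whisker_exchange_assoc, a.mul_act]
      simp only [Category.assoc]
      rw [inducedAct_fst, ← MonoidalCategory.whiskerLeft_comp_assoc, inducedAct_fst,
        MonoidalCategory.whiskerLeft_comp, Category.assoc, associator_naturality_right_assoc]
    · rw [Category.assoc, inducedAct_snd, whiskerRight_snd_assoc]
      simp only [Category.assoc]
      rw [inducedAct_snd, whiskerLeft_snd_assoc, inducedAct_snd]
      simp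

lemma inducedAction_equivariant :
    (inducedAction a hinv hpb).act ≫ pr₁ = (G ◁ pr₁) ≫ a.act := inducedAct_fst a hinv hpb

lemma inducedAction_invariant : GIT.IsInvariant (inducedAction a hinv hpb) φ₁ :=
  inducedAct_snd a hinv hpb

end Groth.Agent.Lib.InducedAct45
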