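import Groth.Prelude.Def_W4c5stacksedinertiaGpd
import Mathlib.GroupTheory.GroupAction.Quotient
import Mathlib.Algebra.BigOperators.Finprod
import Mathlib.Algebra.Group.Subgroup.Finite

set_option autoImplicit false

namespace Groth.Agent.Lib.Inertia76

open W4c5stacksedinertia

universe u v

/-- The chosen presentation of a finite group is isomorphic to the group. -/
noncomputable def ofEquiv (G : Type u) [Group G] [Finite G] : (FinGrp.of G).carrier ≃* G :=
  (Nat.equivFinOfCardPos (α := G) Nat.card_pos.ne').symm.mulEquiv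

theorem idxOf_eq_of_mulEquiv {G : Type u} {H : Type v} [Group G] [Finite G] [Group H] [Finite H]
    (e : G ≃* H) : Idx.of G = Idx.of H :=
  Quotient.sound ⟨(ofEquiv G).trans (e.trans (ofEquiv H).symm)⟩

theorem cl_eq_of_mulEquiv {G : Type u} {H : Type v} [Group G] [Finite G] [Group H] [Finite H]
    (e : G ≃* H) : cl G = cl H := by
  unfold cl
  rw [idxOf_eq_of_mulEquiv e]

theorem idxOf_rep (i : Idx) : Idx.of i.rep = i := by
  have h : FinGrp.setoid.r (FinGrp.of i.rep) (Quotient.out (s := FinGrp.setoid) i) :=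
    ⟨ofEquiv i.rep⟩
  have := Quotient.sound (s := FinGrp.setoid) h
  unfold Idx.of
  rw [this]
  exact Quotient.out_eq i

/-- The representative of the class of `G` is isomorphic to `G`. -/
noncomputable def repEquiv (G : Type u) [Group G] [Finite G] : (Idx.of G).rep ≃* G :=
  (Classical.choice (Quotient.exact (s := FinGrp.setoid)
    (Quotient.out_eq (s := FinGrp.setoid) (Idx.of G)))).trans (ofEquiv G)

theorem card_idxOf (G : Type u) [Group G] [Finite G] : (Idx.of G).card = Nat.card G :=
  Nat.card_congr (repEquiv G).toEquiv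

theorem centerCard_idxOf (G : Type u) [Group G] [Finite G] :
    (Idx.of G).centerCard = Nat.card (Subgroup.center G) :=
  Nat.card_congr (Subgroup.centerCongr (repEquiv G)).toEquiv

theorem cl_rep (i : Idx) : cl i.rep = Finsupp.single i 1 := by
  unfold cl
  rw [idxOf_rep]

section action

variable (G : Type u) [Group G] (r : ℕ)

instance instFiniteCommTuple [Finite G] : Finite (CommTuple G r) := by
  unfold CommTuple; infer_instance

instance instFiniteOrbit [Finite G] : Finite (CommTuple.Orbit G r) := by
  unfold CommTuple.Orbit; infer_instance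

variable {G r}

/-- The common centralizer of a tuple. -/
abbrev cent (s : Fin r → G) : Subgroup G := Subgroup.centralizer (Set.range s)

theorem mem_cent_iff (s : Fin r → G) (g : G) : g ∈ cent s ↔ ∀ i, g * s i * g⁻¹ = s i := by
  rw [Subgroup.mem_centralizer_iff]
  constructor
  · intro h i
    rw [← h (s i) ⟨i, rfl⟩, mul_inv_cancel_right]
  · rintro h _ ⟨i, rfl⟩
    have := h i
    rw [mul_inv_eq_iff_eq_mul] at this
    exact this.symm

/-- Conjugating a tuple. -/
def conjTuple (g : G) (s : CommTuple G r) : CommTuple G r :=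
  ⟨fun i => g * s.1 i * g⁻¹, by
    refine ⟨fun i j h => s.2.1 ?_, fun i j => ?_⟩
    · simpa using h
    · have := s.2.2 i j
      unfold Commute SemiconjBy at this ⊢
      calc g * s.1 i * g⁻¹ * (g * s.1 j * g⁻¹) = g * (s.1 i * s.1 j) * g⁻¹ := by group
        _ = g * (s.1 j * s.1 i) * g⁻¹ := by rw [this]
        _ = _ := by group⟩

@[simp] theorem conjTuple_apply (g : G) (s : CommTuple G r) (i : Fin r) :
    (conjTuple g s).1 i = g * s.1 i * g⁻¹ := rfl

/-- The conjugation action on tuples. -/
@[reducible] def conjAction : MulAction G (CommTuple G r) where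
  smul := conjTuple
  one_smul s := by
    apply Subtype.ext; funext i
    show (1 : G) * s.1 i * 1⁻¹ = s.1 i
    simp
  mul_smul g h s := by
    apply Subtype.ext; funext i
    show g * h * s.1 i * (g * h)⁻¹ = g * (h * s.1 i * h⁻¹) * g⁻¹
    group

theorem setoid_r_iff (s t : CommTuple G r) :
    (CommTuple.setoid G r).r s t ↔ ∃ g : G, conjTuple g s = t := by
  constructor
  · rintro ⟨g, hg⟩
    exact ⟨g, Subtype.ext (funext hg)⟩
  · rintro ⟨g, rfl⟩
    exact ⟨g, fun i => rfl⟩

theorem orbit_eq (s : CommTuple G r) :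
    letI := conjAction (G := G) (r := r)
    MulAction.orbit G s = {t | (CommTuple.setoid G r).r s t} := by
  letI := conjAction (G := G) (r := r)
  ext t
  rw [Set.mem_ofPred_eq, setoid_r_iff]
  rfl

theorem stabilizer_eq (s : CommTuple G r) :
    letI := conjAction (G := G) (r := r)
    MulAction.stabilizer G s = cent s.1 := by
  letI := conjAction (G := G) (r := r)
  ext g
  rw [MulAction.mem_stabilizer_iff, mem_cent_iff]
  constructor
  · intro h i
    exact congrFun (congrArg Subtype.val h) i
  · intro h
    exact Subtype.ext (funext h)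

theorem card_class_mul_card_cent [Finite G] (s : CommTuple G r) :
    Nat.card {t | (CommTuple.setoid G r).r s t} * Nat.card (cent s.1) = Nat.card G := by
  letI := conjAction (G := G) (r := r)
  rw [← orbit_eq, ← stabilizer_eq, ← Nat.card_prod]
  exact Nat.card_congr (MulAction.orbitProdStabilizerEquivGroup G s)

/-- The orbit of a tuple. -/
def toOrbit (s : CommTuple G r) : CommTuple.Orbit G r := Quotient.mk (CommTuple.setoid G r) s

theorem finsum_orbit_eq {M : Type*} [AddCommGroup M] [Module ℚ M] [Finite G]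
    (φ : CommTuple G r → M)
    (hφ : ∀ s t, (CommTuple.setoid G r).r s t → φ s = φ t) :
    (Nat.card G : ℚ) • ∑ᶠ O : CommTuple.Orbit G r,
        φ (Quotient.out (s := CommTuple.setoid G r) O)
      = ∑ᶠ s : CommTuple G r, (Nat.card (cent s.1) : ℚ) • φ s := by
  classical
  haveI : Fintype (CommTuple G r) := Fintype.ofFinite _
  haveI : Fintype (CommTuple.Orbit G r) := Fintype.ofFinite _
  rw [finsum_eq_sum_of_fintype, finsum_eq_sum_of_fintype, Finset.smul_sum]
  rw [← Finset.sum_fiberwise (Finset.univ) (toOrbit (G := G) (r := r))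
    (fun s => (Nat.card (cent s.1) : ℚ) • φ s)]
  refine Finset.sum_congr rfl (fun O _ => ?_)
  set s₀ := Quotient.out (s := CommTuple.setoid G r) O with hs₀
  set F := Finset.univ.filter (fun s : CommTuple G r => toOrbit s = O) with hF
  have hmem : ∀ s, s ∈ F ↔ (CommTuple.setoid G r).r s₀ s := by
    intro s
    rw [hF, Finset.mem_filter]
    constructor
    · rintro ⟨_, h⟩
      have h2 : Quotient.mk (CommTuple.setoid G r) s₀ = Quotient.mk (CommTuple.setoid G r) s :=
        (Quotient.out_eq O).trans h.symm
      exact Quotient.exact h2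
    · intro h
      refine ⟨Finset.mem_univ _, ?_⟩
      have := Quotient.sound (s := CommTuple.setoid G r) h
      exact this.symm.trans (Quotient.out_eq O)
  have hcardF : ∀ s ∈ F, F.card = Nat.card {t | (CommTuple.setoid G r).r s t} := by
    intro s hs
    rw [Nat.card_eq_fintype_card, ← Fintype.card_coe]
    apply Fintype.card_congr
    refine Equiv.subtypeEquivRight (fun t => ?_)
    rw [hmem, Set.mem_ofPred_eq]
    have hs' := (hmem s).1 hs
    constructor
    · intro h; exact (CommTuple.setoid G r).trans ((CommTuple.setoid G r).symm hs') h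
    · intro h; exact (CommTuple.setoid G r).trans hs' h
  have hs₀F : s₀ ∈ F := (hmem s₀).2 ((CommTuple.setoid G r).refl s₀)
  have hFpos : (F.card : ℚ) ≠ 0 := by
    have : F.card ≠ 0 := Finset.card_ne_zero.mpr ⟨s₀, hs₀F⟩
    exact_mod_cast this
  have hterm : ∀ s ∈ F, (Nat.card (cent s.1) : ℚ) • φ s
      = ((Nat.card G : ℚ) / F.card) • φ s₀ := by
    intro s hs
    rw [← hφ s₀ s ((hmem s).1 hs)]
    congr 1
    rw [eq_div_iff hFpos]
    have := card_class_mul_card_cent s
    rw [← hcardF s hs] at this
    rw [mul_comm]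
    exact_mod_cast this
  rw [Finset.sum_congr rfl hterm, Finset.sum_const, ← Nat.cast_smul_eq_nsmul ℚ, smul_smul,
    mul_div_cancel₀ _ hFpos]

end action

section transport

variable {G : Type u} {H : Type v} [Group G] [Group H] {r : ℕ}

theorem cent_comp_mulEquiv (e : G ≃* H) (s : Fin r → G) :
    cent (fun i => e (s i)) = (cent s).map e.toMonoidHom := by
  ext y
  rw [Subgroup.mem_map, Subgroup.mem_centralizer_iff]
  constructor
  · intro hy
    refine ⟨e.symm y, ?_, e.apply_symm_apply y⟩
    rw [Subgroup.mem_centralizer_iff]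
    rintro _ ⟨i, rfl⟩
    apply e.injective
    rw [map_mul, map_mul, e.apply_symm_apply]
    exact hy _ ⟨i, rfl⟩
  · rintro ⟨x, hx, rfl⟩ _ ⟨i, rfl⟩
    rw [Subgroup.mem_centralizer_iff] at hx
    have := hx (s i) ⟨i, rfl⟩
    show e (s i) * e x = e x * e (s i)
    rw [← map_mul, ← map_mul, this]

/-- Centralizers correspond under an isomorphism. -/
noncomputable def centEquiv (e : G ≃* H) (s : Fin r → G) : cent s ≃* cent (fun i => e (s i)) :=
  (e.subgroupMap (cent s)).trans (MulEquiv.subgroupCongr (cent_comp_mulEquiv e s).symm)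

/-- Commuting tuples correspond under an isomorphism. -/
def mapTuple (e : G ≃* H) (s : CommTuple G r) : CommTuple H r :=
  ⟨fun i => e (s.1 i), fun i j h => s.2.1 (e.injective h), fun i j => by
    have := s.2.2 i j
    unfold Commute SemiconjBy at this ⊢
    rw [← map_mul, ← map_mul, this]⟩

/-- Commuting tuples correspond under an isomorphism. -/
def mapTupleEquiv (e : G ≃* H) : CommTuple G r ≃ CommTuple H r where
  toFun := mapTuple e
  invFun := mapTuple e.symm
  left_inv s := by
    apply Subtype.ext; funext i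
    exact e.symm_apply_apply _
  right_inv s := by
    apply Subtype.ext; funext i
    exact e.apply_symm_apply _

end transport

section wcl

/-- The class of a finite group weighted by its order. -/
noncomputable def wcl (G : Type u) [Group G] [Finite G] : K := (Nat.card G : ℚ) • cl G

theorem wcl_eq_of_mulEquiv {G : Type u} {H : Type v} [Group G] [Finite G] [Group H] [Finite H]
    (e : G ≃* H) : wcl G = wcl H := by
  unfold wcl
  rw [cl_eq_of_mulEquiv e, Nat.card_congr e.toEquiv]

theorem cl_cent_eq_of_r {G : Type u} [Group G] [Finite G] {r : ℕ} (s t : CommTuple G r)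
    (h : (CommTuple.setoid G r).r s t) : cl (cent s.1) = cl (cent t.1) := by
  obtain ⟨g, hg⟩ := h
  have h1 : t.1 = fun i => (MulAut.conj g) (s.1 i) := by
    funext i
    rw [← hg i]
    rfl
  rw [h1]
  exact cl_eq_of_mulEquiv (centEquiv (MulAut.conj g) s.1)

theorem card_smul_inertiaROf (r : ℕ) (G : Type u) [Group G] [Finite G] :
    (Nat.card G : ℚ) • inertiaROf r G = ∑ᶠ s : CommTuple G r, wcl (cent s.1) := by
  unfold inertiaROf
  exact finsum_orbit_eq (fun s => cl (cent s.1)) (fun s t h => cl_cent_eq_of_r s t h)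

theorem inertiaROf_eq_of_mulEquiv {G : Type u} {H : Type v} [Group G] [Finite G] [Group H]
    [Finite H] (r : ℕ) (e : G ≃* H) : inertiaROf r G = inertiaROf r H := by
  have hG : (Nat.card G : ℚ) ≠ 0 := by
    have : Nat.card G ≠ 0 := Nat.card_pos.ne'
    exact_mod_cast this
  have h1 : (Nat.card G : ℚ) • inertiaROf r G = (Nat.card G : ℚ) • inertiaROf r H := by
    rw [card_smul_inertiaROf]
    conv_rhs => rw [Nat.card_congr e.toEquiv, card_smul_inertiaROf]
    rw [← finsum_comp_equiv (mapTupleEquiv (r := r) e)]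
    refine finsum_congr (fun s => ?_)
    exact wcl_eq_of_mulEquiv (centEquiv e s.1)
  exact smul_right_injective K hG h1

theorem inertiaR_cl (r : ℕ) (G : Type u) [Group G] [Finite G] :
    inertiaR r (cl G) = inertiaROf r G := by
  unfold inertiaR cl
  rw [Finsupp.linearCombination_single, one_smul]
  exact inertiaROf_eq_of_mulEquiv r (repEquiv G)

theorem inertiaR_wcl (r : ℕ) (G : Type u) [Group G] [Finite G] :
    inertiaR r (wcl G) = ∑ᶠ s : CommTuple G r, wcl (cent s.1) := by
  unfold wcl
  rw [map_smul, inertiaR_cl, card_smul_inertiaROf]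
  rfl

theorem card_ne_zero (G : Type u) [Group G] [Finite G] : (Nat.card G : ℚ) ≠ 0 := by
  have : Nat.card G ≠ 0 := Nat.card_pos.ne'
  exact_mod_cast this

theorem cl_eq_inv_smul_wcl (G : Type u) [Group G] [Finite G] :
    cl G = (Nat.card G : ℚ)⁻¹ • wcl G := by
  unfold wcl
  rw [smul_smul, inv_mul_cancel₀ (card_ne_zero G), one_smul]

theorem cl_mem_Kle (G : Type u) [Group G] [Finite G] (n : ℕ) (h : Nat.card G ≤ n) :
    cl G ∈ Kle n := by
  unfold cl Kle
  apply Finsupp.single_mem_supported
  show (Idx.of G).card ≤ n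
  rw [card_idxOf]
  exact h

theorem cl_mem_Kge (G : Type u) [Group G] [Finite G] (k : ℕ)
    (h : k ≤ Nat.card (Subgroup.center G)) : cl G ∈ Kge k := by
  unfold cl Kge
  apply Finsupp.single_mem_supported
  show k ≤ (Idx.of G).centerCard
  rw [centerCard_idxOf]
  exact h

theorem wcl_mem_Kle (G : Type u) [Group G] [Finite G] (n : ℕ) (h : Nat.card G ≤ n) :
    wcl G ∈ Kle n :=
  Submodule.smul_mem _ _ (cl_mem_Kle G n h)

theorem wcl_mem_Kge (G : Type u) [Group G] [Finite G] (k : ℕ)
    (h : k ≤ Nat.card (Subgroup.center G)) : wcl G ∈ Kge k :=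
  Submodule.smul_mem _ _ (cl_mem_Kge G k h)

/-- To show that a linear map sends a `supported` subspace into a subspace it suffices to check
the weighted classes of the representatives. -/
theorem map_mem_of_forall_wcl {P : Submodule ℚ K} {S : Set Idx} (f : K →ₗ[ℚ] K)
    (h : ∀ i ∈ S, f (wcl i.rep) ∈ P) {v : K} (hv : v ∈ Finsupp.supported ℚ ℚ S) : f v ∈ P := by
  rw [Finsupp.supported_eq_span_single] at hv
  have hle : Submodule.span ℚ ((fun i => Finsupp.single i (1 : ℚ)) '' S) ≤ P.comap f := by
    rw [Submodule.span_le]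
    rintro _ ⟨i, hi, rfl⟩
    show f (Finsupp.single i 1) ∈ P
    rw [← cl_rep, cl_eq_inv_smul_wcl, map_smul]
    exact Submodule.smul_mem _ _ (h i hi)
  exact hle hv

theorem finsum_mem_submodule {ι : Sort*} (P : Submodule ℚ K) (f : ι → K) (h : ∀ i, f i ∈ P) :
    ∑ᶠ i, f i ∈ P :=
  finsum_induction (· ∈ P) P.zero_mem (fun _ _ hx hy => P.add_mem hx hy) h

theorem inertiaR_mem_Kle (r n : ℕ) {v : K} (hv : v ∈ Kle n) : inertiaR r v ∈ Kle n := by
  refine map_mem_of_forall_wcl (inertiaR r) (fun i hi => ?_) hv
  rw [inertiaR_wcl]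
  refine finsum_mem_submodule _ _ (fun s => ?_)
  refine wcl_mem_Kle _ n (le_trans (Subgroup.card_le_card_group _) hi)

end wcl

end Groth.Agent.Lib.Inertia76
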