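import Groth.Agent.Lib.Inertia76
import Mathlib.Data.Fintype.CardEmbedding
import Mathlib.SetTheory.Cardinal.NatCard
import Mathlib.Data.Nat.Choose.Basic

set_option autoImplicit false

namespace Groth.Agent.Lib.Inertia76

open W4c5stacksedinertia

universe u

section central

variable {G : Type u} [Group G] {r : ℕ}

/-- A tuple is central when all its entries are. -/
def IsCentral (s : CommTuple G r) : Prop := ∀ i, s.1 i ∈ Subgroup.center G

theorem cent_eq_top_of_isCentral (s : CommTuple G r) (hs : IsCentral s) : cent s.1 = ⊤ := by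
  rw [eq_top_iff]
  intro g _
  rw [Subgroup.mem_centralizer_iff]
  rintro _ ⟨i, rfl⟩
  exact ((Subgroup.mem_center_iff.mp (hs i)) g).symm

/-- Central tuples are embeddings into the centre. -/
def centralEquiv : {s : CommTuple G r // IsCentral s} ≃ (Fin r ↪ Subgroup.center G) where
  toFun s := ⟨fun i => ⟨s.1.1 i, s.2 i⟩, fun i j h => s.1.2.1 (congrArg Subtype.val h)⟩
  invFun f := ⟨⟨fun i => (f i : G), fun i j h => f.injective (Subtype.ext h), fun i j =>
    (Subgroup.mem_center_iff.mp (f j).2 (f i))⟩, fun i => (f i).2⟩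
  left_inv s := rfl
  right_inv f := rfl

theorem card_central [Finite G] :
    Nat.card {s : CommTuple G r // IsCentral s}
      = (Nat.card (Subgroup.center G)).descFactorial r := by
  classical
  haveI : Fintype (Subgroup.center G) := Fintype.ofFinite _
  rw [Nat.card_congr (centralEquiv (G := G) (r := r)), Nat.card_eq_fintype_card,
    Fintype.card_embedding_eq, Nat.card_eq_fintype_card, Fintype.card_fin]

theorem card_center_cent_of_not_isCentral [Finite G] (s : CommTuple G r) (hs : ¬ IsCentral s) :
    Nat.card (Subgroup.center G) + 1 ≤ Nat.card (Subgroup.center (cent s.1)) := by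
  unfold IsCentral at hs
  push Not at hs
  obtain ⟨j, hj⟩ := hs
  have hmemH : ∀ y : Subgroup.center G, (y : G) ∈ cent s.1 := by
    intro y
    rw [Subgroup.mem_centralizer_iff]
    intro h _
    exact (Subgroup.mem_center_iff.mp y.2 h)
  have hsj : s.1 j ∈ cent s.1 := by
    rw [Subgroup.mem_centralizer_iff]
    rintro _ ⟨i, rfl⟩
    exact s.2.2 i j
  let φ : Option (Subgroup.center G) → Subgroup.center (cent s.1) := fun o =>
    match o with
    | none => ⟨⟨s.1 j, hsj⟩, by
        rw [Subgroup.mem_center_iff]
        intro h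
        apply Subtype.ext
        have := h.2
        rw [Subgroup.mem_centralizer_iff] at this
        exact (this (s.1 j) ⟨j, rfl⟩).symm⟩
    | some y => ⟨⟨(y : G), hmemH y⟩, by
        rw [Subgroup.mem_center_iff]
        intro h
        apply Subtype.ext
        exact Subgroup.mem_center_iff.mp y.2 (h : G)⟩
  have hφ : Function.Injective φ := by
    intro a b hab
    have h2 : ((φ a : cent s.1) : G) = ((φ b : cent s.1) : G) := by rw [hab]
    match a, b, h2 with
    | none, none, _ => rfl
    | none, some y, h =>
      have h' : s.1 j = (y : G) := h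
      exact absurd (show s.1 j ∈ Subgroup.center G by rw [h']; exact y.2) hj
    | some y, none, h =>
      have h' : (y : G) = s.1 j := h
      exact absurd (show s.1 j ∈ Subgroup.center G by rw [← h']; exact y.2) hj
    | some y, some y', h => exact congrArg some (Subtype.ext h)
  have := Nat.card_le_card_of_injective φ hφ
  rwa [Finite.card_option] at this

end central

theorem Kge_anti {a b : ℕ} (h : a ≤ b) : Kge b ≤ Kge a :=
  Finsupp.supported_mono (fun _ hj => le_trans h hj)

theorem wcl_top {G : Type u} [Group G] [Finite G] (H : Subgroup G) (h : H = ⊤) :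
    wcl H = wcl G :=
  wcl_eq_of_mulEquiv ((MulEquiv.subgroupCongr h).trans Subgroup.topEquiv)

open Nat in
theorem inertiaR_wcl_sub_mem (r k : ℕ) (G : Type u) [Group G] [Finite G]
    (hk : k ≤ Nat.card (Subgroup.center G)) :
    inertiaR r (wcl G) - ((r ! * k.choose r : ℕ) : ℚ) • wcl G ∈ Kge (k + 1) := by
  classical
  haveI : Fintype (CommTuple G r) := Fintype.ofFinite _
  set z := Nat.card (Subgroup.center G) with hz
  rw [inertiaR_wcl, finsum_eq_sum_of_fintype,
    ← Finset.sum_filter_add_sum_filter_not Finset.univ (fun s : CommTuple G r => IsCentral s)]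
  have h1 : ∑ s ∈ Finset.univ.filter (fun s : CommTuple G r => IsCentral s), wcl (cent s.1)
      = ((r ! * z.choose r : ℕ) : ℚ) • wcl G := by
    rw [Finset.sum_congr rfl (fun s hs => wcl_top (cent s.1)
      (cent_eq_top_of_isCentral s (Finset.mem_filter.mp hs).2)), Finset.sum_const,
      ← Nat.cast_smul_eq_nsmul ℚ, ← Nat.descFactorial_eq_factorial_mul_choose, hz,
      ← card_central (G := G) (r := r), Nat.card_eq_fintype_card, Fintype.card_subtype]
  have h2 : ∑ s ∈ Finset.univ.filter (fun s : CommTuple G r => ¬ IsCentral s), wcl (cent s.1)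
      ∈ Kge (k + 1) := by
    refine Submodule.sum_mem _ (fun s hs => ?_)
    refine Kge_anti (Nat.succ_le_succ hk) (wcl_mem_Kge _ _ ?_)
    exact card_center_cent_of_not_isCentral s (Finset.mem_filter.mp hs).2
  rw [h1, add_sub_right_comm, ← sub_smul]
  refine Submodule.add_mem _ ?_ h2
  rcases Nat.eq_or_lt_of_le hk with h | h
  · rw [h, sub_self, zero_smul]
    exact Submodule.zero_mem _
  · exact Submodule.smul_mem _ _ (wcl_mem_Kge G _ h)

theorem inertiaR_sub_smul_mem_Kge (r k : ℕ) (v : K) (hv : v ∈ Kge k) :
    inertiaR r v - ((Nat.factorial r * Nat.choose k r : ℕ) : ℚ) • v ∈ Kge (k + 1) := by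
  have := map_mem_of_forall_wcl (P := Kge (k + 1)) (S := {j : Idx | k ≤ j.centerCard})
    (inertiaR r - ((Nat.factorial r * Nat.choose k r : ℕ) : ℚ) • LinearMap.id)
    (fun i hi => ?_) hv
  · simpa using this
  · have := inertiaR_wcl_sub_mem r k i.rep hi
    simpa using this

end Groth.Agent.Lib.Inertia76
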