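import Groth.Agent.Lib.Inertia76B
import Mathlib.LinearAlgebra.Eigenspace.Minpoly
import Mathlib.RingTheory.Polynomial.Basic
import Mathlib.Algebra.Polynomial.RingDivision
import Mathlib.Data.ZMod.Basic
import Mathlib.Algebra.Order.BigOperators.Group.LocallyFinite

set_option autoImplicit false

namespace Groth.Agent.Lib.Inertia76

open W4c5stacksedinertia Polynomial

universe u

section linalg

variable {M : Type*} [AddCommGroup M] [Module ℚ M]

theorem ker_aeval_X_sub_C (f : Module.End ℚ M) (a : ℚ) :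
    LinearMap.ker (aeval f (X - C a)) = Module.End.eigenspace f a := by
  ext v
  rw [LinearMap.mem_ker, Module.End.mem_eigenspace_iff, map_sub, aeval_X, aeval_C,
    LinearMap.sub_apply, Module.algebraMap_end_apply, sub_eq_zero]

/-- The kernel of a product of distinct linear factors is the span of the eigenspaces. -/
theorem ker_aeval_prod_eq (f : Module.End ℚ M) (s : Finset ℕ) :
    LinearMap.ker (aeval f (∏ j ∈ s, (X - C (j : ℚ))))
      = ⨆ j ∈ s, Module.End.eigenspace f (j : ℚ) := by
  classical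
  induction s using Finset.induction_on with
  | empty =>
    simp only [Finset.prod_empty, map_one, Finset.notMem_empty, iSup_false, iSup_bot]
    rw [LinearMap.ker_eq_bot]
    exact Function.injective_id
  | insert a s ha ih =>
    rw [Finset.prod_insert ha, Finset.iSup_insert, ← ih, ← ker_aeval_X_sub_C]
    symm
    apply sup_ker_aeval_eq_ker_aeval_mul_of_coprime
    apply IsCoprime.prod_right
    intro j hj
    apply isCoprime_X_sub_C_of_isUnit_sub
    have hne : (a : ℚ) - (j : ℚ) ≠ 0 := by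
      rw [sub_ne_zero]
      intro h
      have : a = j := by exact_mod_cast h
      exact ha (this ▸ hj)
    exact hne.isUnit

end linalg

theorem centerCard_le_card (i : Idx) : i.centerCard ≤ i.card :=
  Subgroup.card_le_card_group _

theorem centerCard_pos (i : Idx) : 1 ≤ i.centerCard :=
  Nat.card_pos

theorem Kle_inf_Kge_eq_bot (n : ℕ) : Kle n ⊓ Kge (n + 1) = ⊥ := by
  unfold Kle Kge
  rw [← Finsupp.supported_inter]
  convert Finsupp.supported_empty (M := ℚ) (R := ℚ) (α := Idx)
  ext i
  simp only [Set.mem_inter_iff, Set.mem_ofPred_eq, Set.mem_empty_iff_false, iff_false, not_and,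
    not_le]
  intro h
  exact Nat.lt_succ_of_le (le_trans (centerCard_le_card i) h)

theorem Kge_one : Kge 1 = ⊤ := by
  unfold Kge
  convert Finsupp.supported_univ (M := ℚ) (R := ℚ) (α := Idx)
  ext i
  simp only [Set.mem_ofPred_eq, Set.mem_univ, iff_true]
  exact centerCard_pos i

theorem inertia_sub_smul_mem (n k : ℕ) {v : K} (hv : v ∈ Kle n ⊓ Kge k) :
    inertia v - (k : ℚ) • v ∈ Kle n ⊓ Kge (k + 1) := by
  refine ⟨Submodule.sub_mem _ (inertiaR_mem_Kle 1 n hv.1) (Submodule.smul_mem _ _ hv.1), ?_⟩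
  have := inertiaR_sub_smul_mem_Kge 1 k v hv.2
  simpa using this

theorem aeval_prod_Ico_apply_eq_zero (n : ℕ) : ∀ m k : ℕ, k + m = n + 1 →
    ∀ v ∈ Kle n ⊓ Kge k, aeval inertia (∏ j ∈ Finset.Ico k (n + 1), (X - C (j : ℚ))) v = 0 := by
  intro m
  induction m with
  | zero =>
    intro k hk v hv
    rw [add_zero] at hk
    rw [hk, Kle_inf_Kge_eq_bot, Submodule.mem_bot] at hv
    rw [hv, map_zero]
  | succ m ih =>
    intro k hk v hv
    have hlt : k < n + 1 := by omega
    rw [Finset.prod_eq_prod_Ico_succ_bot hlt, mul_comm, map_mul, Module.End.mul_apply]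
    have h1 : aeval inertia (X - C (k : ℚ)) v = inertia v - (k : ℚ) • v := by
      rw [map_sub, aeval_X, aeval_C, LinearMap.sub_apply, Module.algebraMap_end_apply]
    rw [h1]
    exact ih (k + 1) (by omega) _ (inertia_sub_smul_mem n k hv)

theorem aeval_prod_apply_eq_zero (n : ℕ) {v : K} (hv : v ∈ Kle n) :
    aeval inertia (∏ j ∈ Finset.Ico 1 (n + 1), (X - C (j : ℚ))) v = 0 := by
  refine aeval_prod_Ico_apply_eq_zero n n 1 (by omega) v ⟨hv, ?_⟩
  rw [Kge_one]
  exact Submodule.mem_top

theorem mem_iSup_eigenspace_of_mem_Kle (n : ℕ) {v : K} (hv : v ∈ Kle n) :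
    v ∈ ⨆ j ∈ Finset.Ico 1 (n + 1), Module.End.eigenspace inertia (j : ℚ) := by
  rw [← ker_aeval_prod_eq, LinearMap.mem_ker]
  exact aeval_prod_apply_eq_zero n hv

theorem exists_mem_Kle (v : K) : ∃ n, v ∈ Kle n := by
  refine ⟨v.support.sup Idx.card, ?_⟩
  unfold Kle
  rw [Finsupp.mem_supported]
  intro i hi
  exact Finset.le_sup (f := Idx.card) hi

theorem iSup_eigenspace_inertia_eq_top :
    (⨆ n : ℕ, Module.End.eigenspace inertia (n : ℚ)) = ⊤ := by
  rw [eq_top_iff]
  intro v _
  obtain ⟨n, hn⟩ := exists_mem_Kle v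
  have h := mem_iSup_eigenspace_of_mem_Kle n hn
  refine (iSup₂_le (fun j _ => ?_) :
    (⨆ j ∈ Finset.Ico 1 (n + 1), Module.End.eigenspace inertia (j : ℚ)) ≤ _) h
  exact le_iSup (fun n : ℕ => Module.End.eigenspace inertia (n : ℚ)) j

open Nat in
theorem inertiaR_wcl_of_comm (r : ℕ) (G : Type u) [CommGroup G] [Finite G] :
    inertiaR r (wcl G) = ((r ! * (Nat.card G).choose r : ℕ) : ℚ) • wcl G := by
  classical
  haveI : Fintype (CommTuple G r) := Fintype.ofFinite _
  have hc : ∀ s : CommTuple G r, IsCentral s := fun s i => by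
    rw [CommGroup.center_eq_top]; exact Subgroup.mem_top _
  rw [inertiaR_wcl, finsum_eq_sum_of_fintype,
    Finset.sum_congr rfl (fun s _ => wcl_top (cent s.1) (cent_eq_top_of_isCentral s (hc s))),
    Finset.sum_const, ← Nat.cast_smul_eq_nsmul ℚ, ← Nat.descFactorial_eq_factorial_mul_choose]
  congr 2
  have h1 : Nat.card (Subgroup.center G) = Nat.card G := by
    rw [CommGroup.center_eq_top]
    exact Nat.card_congr Subgroup.topEquiv.toEquiv
  rw [← h1, ← card_central (G := G) (r := r), Finset.card_univ, ← Nat.card_eq_fintype_card]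
  exact Nat.card_congr (Equiv.subtypeUnivEquiv hc).symm

theorem wcl_ne_zero (G : Type u) [Group G] [Finite G] : wcl G ≠ 0 := by
  unfold wcl cl
  exact smul_ne_zero (card_ne_zero G) (Finsupp.single_ne_zero.mpr one_ne_zero)

theorem hasEigenvalue_inertia_iff (μ : ℚ) :
    Module.End.HasEigenvalue inertia μ ↔ ∃ n : ℕ, 0 < n ∧ μ = (n : ℚ) := by
  constructor
  · intro h
    obtain ⟨v, hv⟩ := h.exists_hasEigenvector
    obtain ⟨n, hn⟩ := exists_mem_Kle v
    have h0 := aeval_prod_apply_eq_zero n hn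
    rw [Module.End.aeval_apply_of_hasEigenvector hv] at h0
    have h1 : (∏ j ∈ Finset.Ico 1 (n + 1), (X - C (j : ℚ))).eval μ = 0 := by
      rcases smul_eq_zero.mp h0 with h | h
      · exact h
      · exact absurd h hv.2
    rw [eval_prod, Finset.prod_eq_zero_iff] at h1
    obtain ⟨j, hj, hj0⟩ := h1
    rw [eval_sub, eval_X, eval_C, sub_eq_zero] at hj0
    exact ⟨j, (Finset.mem_Ico.mp hj).1, hj0⟩
  · rintro ⟨n, hn, rfl⟩
    haveI : NeZero n := ⟨hn.ne'⟩
    have h := inertiaR_wcl_of_comm 1 (Multiplicative (ZMod n))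
    have hcard : Nat.card (Multiplicative (ZMod n)) = n := by
      rw [Nat.card_eq_fintype_card, Fintype.card_multiplicative, ZMod.card]
    rw [hcard, Nat.factorial_one, one_mul, Nat.choose_one_right] at h
    apply Module.End.hasEigenvalue_of_hasEigenvector (x := wcl (Multiplicative (ZMod n)))
    exact ⟨Module.End.mem_eigenspace_iff.mpr h, wcl_ne_zero _⟩

end Groth.Agent.Lib.Inertia76
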