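import Groth.Agent.Lib.Inertia76C
import Mathlib.Data.Fin.Tuple.Basic
import Mathlib.RingTheory.Polynomial.Pochhammer

set_option autoImplicit false

namespace Groth.Agent.Lib.Inertia76

open W4c5stacksedinertia

universe u

section key

variable {G : Type u} [Group G] {r : ℕ}

/-- Pairwise commuting tuples. -/
abbrev PC (s : Fin r → G) : Prop := ∀ i j, Commute (s i) (s j)

theorem mem_cent_iff' (s : Fin r → G) (g : G) : g ∈ cent s ↔ ∀ i, s i * g = g * s i := by
  rw [Subgroup.mem_centralizer_iff, Set.forall_mem_range]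

theorem mem_cent_cons_iff (s : Fin r → G) (x g : G) :
    g ∈ cent (Fin.cons x s : Fin (r + 1) → G) ↔ x * g = g * x ∧ g ∈ cent s := by
  rw [mem_cent_iff', mem_cent_iff', Fin.forall_fin_succ]
  simp only [Fin.cons_zero, Fin.cons_succ]

theorem pc_cons_iff (s : Fin r → G) (x : G) :
    PC (Fin.cons x s : Fin (r + 1) → G) ↔ PC s ∧ x ∈ cent s := by
  unfold PC
  rw [mem_cent_iff']
  constructor
  · intro h
    refine ⟨fun i j => ?_, fun i => ?_⟩
    · have := h i.succ j.succ
      simpa only [Fin.cons_succ] using this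
    · have := h i.succ 0
      simp only [Fin.cons_succ, Fin.cons_zero] at this
      exact this
  · rintro ⟨h1, h2⟩ i j
    refine Fin.cases ?_ (fun i => ?_) i <;> refine Fin.cases ?_ (fun j => ?_) j
    · exact Commute.refl _
    · simp only [Fin.cons_succ, Fin.cons_zero]
      exact (h2 j).symm
    · simp only [Fin.cons_succ, Fin.cons_zero]
      exact h2 i
    · simp only [Fin.cons_succ]
      exact h1 i j

theorem cent_cons_of_mem_range (s : Fin r → G) (i : Fin r) :
    cent (Fin.cons (s i) s : Fin (r + 1) → G) = cent s := by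
  unfold cent
  rw [Fin.range_cons, Set.insert_eq_of_mem (Set.mem_range_self i)]

/-- The centralizer of an element of the centralizer of a tuple, inside that centralizer, is
the centralizer of the extended tuple. -/
def centConsEquiv (s : Fin r → G) (x : cent s) :
    cent (fun _ : Fin 1 => x) ≃* cent (Fin.cons (x : G) s : Fin (r + 1) → G) where
  toFun y := ⟨((y : cent s) : G), by
    rw [mem_cent_cons_iff]
    refine ⟨?_, (y : cent s).2⟩
    have := (mem_cent_iff' (fun _ : Fin 1 => x) (y : cent s)).mp y.2 0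
    exact congrArg Subtype.val this⟩
  invFun g := ⟨⟨(g : G), ((mem_cent_cons_iff s x g).mp g.2).2⟩, by
    rw [mem_cent_iff']
    intro _
    apply Subtype.ext
    exact ((mem_cent_cons_iff s x g).mp g.2).1⟩
  left_inv _ := rfl
  right_inv _ := rfl
  map_mul' _ _ := rfl

/-- One-tuples are elements. -/
def tupleOneEquiv (H : Type*) [Group H] : CommTuple H 1 ≃ H where
  toFun h := h.1 0
  invFun x := ⟨fun _ => x, fun i j _ => Subsingleton.elim i j, fun _ _ => Commute.refl x⟩
  left_inv h := by
    apply Subtype.ext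
    funext i
    rw [Subsingleton.elim i 0]
  right_inv x := rfl

theorem inertia_wcl_cent [Finite G] (s : Fin r → G) :
    inertia (wcl (cent s)) = ∑ᶠ x : cent s, wcl (cent (Fin.cons (x : G) s : Fin (r + 1) → G)) := by
  show inertiaR 1 (wcl (cent s)) = _
  rw [inertiaR_wcl, ← finsum_comp_equiv (tupleOneEquiv (cent s)).symm]
  refine finsum_congr (fun x => ?_)
  exact wcl_eq_of_mulEquiv (centConsEquiv s x)

theorem finsum_subtype_eq_sum_filter {α : Type*} {M : Type*} [AddCommMonoid M] [Fintype α]
    (p : α → Prop) [DecidablePred p] (f : α → M) :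
    ∑ᶠ x : {x // p x}, f x = ∑ x ∈ Finset.univ.filter p, f x := by
  rw [finsum_eq_sum_of_fintype]
  exact (Finset.sum_subtype (Finset.univ.filter p) (by simp) f).symm

theorem cons_mem_iff (s : Fin r → G) (x : G) :
    (Function.Injective (Fin.cons x s : Fin (r + 1) → G) ∧ PC (Fin.cons x s : Fin (r + 1) → G)) ↔
      (Function.Injective s ∧ PC s) ∧ (x ∈ cent s ∧ x ∉ Set.range s) := by
  rw [Fin.cons_injective_iff, pc_cons_iff]
  tauto

theorem inertia_inertiaR_wcl (G : Type u) [Group G] [Finite G] (r : ℕ) :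
    inertia (inertiaR r (wcl G)) = inertiaR (r + 1) (wcl G) + (r : ℚ) • inertiaR r (wcl G) := by
  classical
  letI : Fintype G := Fintype.ofFinite G
  have hS1 : ∀ m, inertiaR m (wcl G) = ∑ s ∈ Finset.univ.filter
      (fun s : Fin m → G => Function.Injective s ∧ PC s), wcl (cent s) := by
    intro m
    rw [inertiaR_wcl]
    unfold CommTuple
    exact finsum_subtype_eq_sum_filter (fun s : Fin m → G => Function.Injective s ∧ PC s)
      (fun s => wcl (cent s))
  have hS2 : ∀ s : Fin r → G, inertia (wcl (cent s)) = ∑ x ∈ Finset.univ.filter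
      (fun x : G => x ∈ cent s), wcl (cent (Fin.cons x s : Fin (r + 1) → G)) := by
    intro s
    rw [inertia_wcl_cent]
    exact finsum_subtype_eq_sum_filter (fun x : G => x ∈ cent s)
      (fun x => wcl (cent (Fin.cons x s : Fin (r + 1) → G)))
  have hS3 : ∀ s ∈ Finset.univ.filter (fun s : Fin r → G => Function.Injective s ∧ PC s),
      ∑ x ∈ Finset.univ.filter (fun x : G => x ∈ cent s),
        wcl (cent (Fin.cons x s : Fin (r + 1) → G))
      = ∑ x ∈ Finset.univ.filter (fun x : G => x ∈ cent s ∧ x ∉ Set.range s),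
        wcl (cent (Fin.cons x s : Fin (r + 1) → G)) + (r : ℚ) • wcl (cent s) := by
    intro s hs
    obtain ⟨hinj, hpc⟩ := (Finset.mem_filter.mp hs).2
    rw [← Finset.sum_filter_add_sum_filter_not (Finset.univ.filter (fun x : G => x ∈ cent s))
      (fun x => x ∉ Set.range s), Finset.filter_filter]
    congr 1
    have himg : (Finset.univ.filter (fun x : G => x ∈ cent s)).filter
        (fun x => ¬ (x ∉ Set.range s)) = Finset.univ.image s := by
      ext x
      simp only [Finset.mem_filter, Finset.mem_univ, true_and, not_not, Finset.mem_image,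
        Set.mem_range]
      constructor
      · rintro ⟨_, h⟩; exact h
      · rintro ⟨i, rfl⟩
        refine ⟨?_, i, rfl⟩
        rw [mem_cent_iff']
        intro j
        exact hpc j i
    rw [himg, Finset.sum_image (fun i _ j _ h => hinj h),
      Finset.sum_congr rfl (fun i _ => by rw [cent_cons_of_mem_range]), Finset.sum_const,
      Finset.card_univ, Fintype.card_fin, Nat.cast_smul_eq_nsmul]
  have hS4 : ∑ s ∈ Finset.univ.filter (fun s : Fin r → G => Function.Injective s ∧ PC s),
      ∑ x ∈ Finset.univ.filter (fun x : G => x ∈ cent s ∧ x ∉ Set.range s),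
        wcl (cent (Fin.cons x s : Fin (r + 1) → G))
      = ∑ t ∈ Finset.univ.filter (fun t : Fin (r + 1) → G => Function.Injective t ∧ PC t),
        wcl (cent t) := by
    rw [Finset.sum_sigma']
    refine Finset.sum_nbij' (fun p => (Fin.cons p.2 p.1 : Fin (r + 1) → G))
      (fun t => ⟨Fin.tail t, t 0⟩) ?_ ?_ ?_ ?_ ?_
    · rintro ⟨s, x⟩ hp
      rw [Finset.mem_sigma, Finset.mem_filter, Finset.mem_filter] at hp
      rw [Finset.mem_filter]
      exact ⟨Finset.mem_univ _, (cons_mem_iff s x).mpr ⟨hp.1.2, hp.2.2⟩⟩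
    · intro t ht
      rw [Finset.mem_filter, ← Fin.cons_self_tail t, cons_mem_iff] at ht
      rw [Finset.mem_sigma, Finset.mem_filter, Finset.mem_filter]
      exact ⟨⟨Finset.mem_univ _, ht.2.1⟩, Finset.mem_univ _, ht.2.2⟩
    · rintro ⟨s, x⟩ _
      simp only [Fin.tail_cons, Fin.cons_zero]
    · intro t _
      exact Fin.cons_self_tail t
    · rintro ⟨s, x⟩ _
      rfl
  rw [hS1 r, hS1 (r + 1), map_sum, Finset.sum_congr rfl (fun s _ => hS2 s),
    Finset.sum_congr rfl hS3, Finset.sum_add_distrib, hS4, Finset.smul_sum]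

end key

section operators

open Polynomial

theorem eq_of_forall_wcl (f g : K →ₗ[ℚ] K) (h : ∀ i : Idx, f (wcl i.rep) = g (wcl i.rep)) :
    f = g := by
  refine LinearMap.ext (fun v => ?_)
  have hv : v ∈ Finsupp.supported ℚ ℚ (Set.univ : Set Idx) := by
    rw [Finsupp.supported_univ]; exact Submodule.mem_top
  have := map_mem_of_forall_wcl (P := ⊥) (S := Set.univ) (f - g)
    (fun i _ => by
      rw [Submodule.mem_bot ℚ, LinearMap.sub_apply, h i, sub_self]) hv
  rw [Submodule.mem_bot ℚ, LinearMap.sub_apply, sub_eq_zero] at this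
  exact this

theorem inertia_comp_inertiaR (r : ℕ) :
    inertia ∘ₗ inertiaR r = inertiaR (r + 1) + (r : ℚ) • inertiaR r := by
  refine eq_of_forall_wcl _ _ (fun i => ?_)
  exact inertia_inertiaR_wcl i.rep r

theorem inertiaR_zero : inertiaR 0 = LinearMap.id := by
  refine eq_of_forall_wcl _ _ (fun i => ?_)
  rw [inertiaR_wcl, LinearMap.id_apply]
  haveI : Unique (CommTuple i.rep 0) :=
    { default := ⟨Fin.elim0, fun a => a.elim0, fun a => a.elim0⟩
      uniq := fun s => Subtype.ext (funext fun a => a.elim0) }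
  rw [finsum_unique]
  exact wcl_top _ (cent_eq_top_of_isCentral _ (fun a => a.elim0))

theorem inertiaR_eq_aeval (r : ℕ) :
    inertiaR r = aeval inertia (∏ j ∈ Finset.range r, (X - C (j : ℚ))) := by
  induction r with
  | zero =>
    rw [inertiaR_zero, Finset.range_zero, Finset.prod_empty, map_one]
    rfl
  | succ r ih =>
    have h := inertia_comp_inertiaR r
    have h2 : inertiaR (r + 1) = inertia ∘ₗ inertiaR r - (r : ℚ) • inertiaR r := by
      rw [h, add_sub_cancel_right]
    rw [h2, Finset.prod_range_succ, mul_comm, map_mul, map_sub, aeval_X, aeval_C, ← ih]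
    refine LinearMap.ext (fun v => ?_)
    simp only [LinearMap.sub_apply, LinearMap.comp_apply, LinearMap.smul_apply,
      Module.End.mul_apply, Module.algebraMap_end_apply]

theorem ker_inertiaR_eq_iSup_eigenspace (r : ℕ) :
    LinearMap.ker (inertiaR r) = ⨆ k ∈ Finset.range r, Module.End.eigenspace inertia (k : ℚ) := by
  rw [inertiaR_eq_aeval, ker_aeval_prod_eq]

theorem eval_prod_range (k r : ℕ) :
    (∏ j ∈ Finset.range r, (X - C (j : ℚ))).eval (k : ℚ)
      = ((Nat.factorial r * Nat.choose k r : ℕ) : ℚ) := by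
  rw [eval_prod, ← Nat.descFactorial_eq_factorial_mul_choose,
    ← descPochhammer_eval_eq_descFactorial ℚ k r, descPochhammer_eval_eq_prod_range]
  refine Finset.prod_congr rfl (fun j _ => ?_)
  rw [eval_sub, eval_X, eval_C]

theorem inertiaR_apply_of_mem_eigenspace (k r : ℕ) {v : K}
    (hv : v ∈ Module.End.eigenspace inertia (k : ℚ)) :
    inertiaR r v = ((Nat.factorial r * Nat.choose k r : ℕ) : ℚ) • v := by
  by_cases h0 : v = 0
  · rw [h0, map_zero, smul_zero]
  · have hv' : Module.End.HasEigenvector inertia (k : ℚ) v := ⟨hv, h0⟩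
    rw [inertiaR_eq_aeval, Module.End.aeval_apply_of_hasEigenvector hv', eval_prod_range]

theorem eigenspace_inertia_le_eigenspace_inertiaR (k r : ℕ) :
    Module.End.eigenspace inertia (k : ℚ) ≤
      Module.End.eigenspace (inertiaR r) ((Nat.factorial r * Nat.choose k r : ℕ) : ℚ) := by
  intro v hv
  rw [Module.End.mem_eigenspace_iff]
  exact inertiaR_apply_of_mem_eigenspace k r hv

end operators

end Groth.Agent.Lib.Inertia76
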