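import Groth.Agent.Lib.Inertia76D
import Mathlib.Data.Nat.Choose.Sum
import Mathlib.LinearAlgebra.DFinsupp

set_option autoImplicit false

namespace Groth.Agent.Lib.Inertia76

open W4c5stacksedinertia

/-- Binomial inversion. -/
theorem sum_choose_mul_choose (j k N : ℕ) (hj : j < N) :
    ∑ r ∈ Finset.range N, ((-1 : ℚ) ^ (r + k) * (Nat.choose r k : ℚ) * (Nat.choose j r : ℚ))
      = if j = k then 1 else 0 := by
  have h1 : ∑ r ∈ Finset.range N, ((-1 : ℚ) ^ (r + k) * (Nat.choose r k : ℚ) * (Nat.choose j r : ℚ))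
      = ∑ r ∈ Finset.range (j + 1),
        ((-1 : ℚ) ^ (r + k) * (Nat.choose r k : ℚ) * (Nat.choose j r : ℚ)) := by
    symm
    apply Finset.sum_subset
    · intro r hr
      rw [Finset.mem_range] at hr ⊢
      omega
    · intro r _ hr
      rw [Finset.mem_range, not_lt] at hr
      rw [Nat.choose_eq_zero_of_lt (by omega : j < r), Nat.cast_zero, mul_zero]
  rw [h1]
  rcases Nat.lt_or_ge j k with hjk | hkj
  · rw [if_neg (by omega)]
    apply Finset.sum_eq_zero
    intro r hr
    rw [Finset.mem_range] at hr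
    rw [Nat.choose_eq_zero_of_lt (by omega : r < k), Nat.cast_zero, mul_zero, zero_mul]
  · rw [← Finset.sum_range_add_sum_Ico _ (by omega : k ≤ j + 1)]
    have h2 : ∑ r ∈ Finset.range k,
        ((-1 : ℚ) ^ (r + k) * (Nat.choose r k : ℚ) * (Nat.choose j r : ℚ)) = 0 := by
      apply Finset.sum_eq_zero
      intro r hr
      rw [Finset.mem_range] at hr
      rw [Nat.choose_eq_zero_of_lt hr, Nat.cast_zero, mul_zero, zero_mul]
    rw [h2, zero_add, Finset.sum_Ico_eq_sum_range]
    have h3 : ∀ i ∈ Finset.range (j + 1 - k),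
        ((-1 : ℚ) ^ (k + i + k) * (Nat.choose (k + i) k : ℚ) * (Nat.choose j (k + i) : ℚ))
        = (Nat.choose j k : ℚ) * (((-1 : ℤ) ^ i * ((j - k).choose i : ℤ) : ℤ) : ℚ) := by
      intro i _
      have hc : (Nat.choose j (k + i) : ℚ) * (Nat.choose (k + i) k : ℚ)
          = (Nat.choose j k : ℚ) * ((j - k).choose i : ℚ) := by
        have := Nat.choose_mul (n := j) (k := k + i) (s := k) (by omega)
        rw [Nat.add_sub_cancel_left] at this
        exact_mod_cast this
      have hs : (-1 : ℚ) ^ (k + i + k) = (-1) ^ i := by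
        rw [show k + i + k = i + 2 * k by ring, pow_add, pow_mul]
        norm_num
      rw [hs, mul_assoc, mul_comm (Nat.choose (k + i) k : ℚ), hc]
      push_cast
      ring
    rw [Finset.sum_congr rfl h3, ← Finset.mul_sum, ← Int.cast_sum,
      show j + 1 - k = (j - k) + 1 by omega, Int.alternating_sum_range_choose]
    by_cases hjk : j = k
    · rw [if_pos hjk, hjk, Nat.sub_self, if_pos rfl, Nat.choose_self]
      norm_num
    · rw [if_neg hjk, if_neg (by omega)]
      norm_num

theorem proj_apply (s : Finset ℕ) (μ : ∀ j : ℕ, Module.End.eigenspace inertia (j : ℚ)) (k : ℕ) :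
    (∑ᶠ r : ℕ, (((-1 : ℚ) ^ (r + k)) / (Nat.factorial r : ℚ) * (Nat.choose r k : ℚ)) •
        inertiaR r (∑ j ∈ s, (μ j : K)))
      = if k ∈ s then (μ k : K) else 0 := by
  set N := s.sup id + 1 with hN
  have hlt : ∀ j ∈ s, j < N := fun j hj => Nat.lt_succ_of_le (Finset.le_sup (f := id) hj)
  have hterm : ∀ r : ℕ, (((-1 : ℚ) ^ (r + k)) / (Nat.factorial r : ℚ) * (Nat.choose r k : ℚ)) •
        inertiaR r (∑ j ∈ s, (μ j : K))
      = ∑ j ∈ s, ((-1 : ℚ) ^ (r + k) * (Nat.choose r k : ℚ) * (Nat.choose j r : ℚ)) •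
        (μ j : K) := by
    intro r
    rw [map_sum, Finset.smul_sum]
    refine Finset.sum_congr rfl (fun j _ => ?_)
    rw [inertiaR_apply_of_mem_eigenspace j r (μ j).2, smul_smul]
    congr 1
    have : (Nat.factorial r : ℚ) ≠ 0 := by exact_mod_cast Nat.factorial_ne_zero r
    push_cast
    field_simp
  have hsupp : Function.support (fun r : ℕ =>
      (((-1 : ℚ) ^ (r + k)) / (Nat.factorial r : ℚ) * (Nat.choose r k : ℚ)) •
        inertiaR r (∑ j ∈ s, (μ j : K))) ⊆ ↑(Finset.range N) := by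
    intro r hr
    rw [Function.mem_support, hterm] at hr
    rw [Finset.mem_coe, Finset.mem_range]
    by_contra hge
    apply hr
    apply Finset.sum_eq_zero
    intro j hj
    rw [Nat.choose_eq_zero_of_lt (lt_of_lt_of_le (hlt j hj) (not_lt.mp hge)), Nat.cast_zero,
      mul_zero, zero_smul]
  rw [finsum_eq_sum_of_support_subset _ hsupp, Finset.sum_congr rfl (fun r _ => hterm r),
    Finset.sum_comm]
  have hj : ∀ j ∈ s, ∑ r ∈ Finset.range N,
      ((-1 : ℚ) ^ (r + k) * (Nat.choose r k : ℚ) * (Nat.choose j r : ℚ)) • (μ j : K)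
      = if j = k then (μ j : K) else 0 := by
    intro j hj
    rw [← Finset.sum_smul, sum_choose_mul_choose j k N (hlt j hj)]
    split_ifs
    · rw [one_smul]
    · rw [zero_smul]
  rw [Finset.sum_congr rfl hj, Finset.sum_ite_eq']

theorem eigenprojection_formula (v : K) :
    (∀ k : ℕ, (∑ᶠ r : ℕ, (((-1 : ℚ) ^ (r + k)) / (Nat.factorial r : ℚ) * (Nat.choose r k : ℚ)) •
        inertiaR r v) ∈ Module.End.eigenspace inertia (k : ℚ)) ∧
    (∑ᶠ k : ℕ, ∑ᶠ r : ℕ, (((-1 : ℚ) ^ (r + k)) / (Nat.factorial r : ℚ) * (Nat.choose r k : ℚ)) •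
        inertiaR r v) = v := by
  obtain ⟨n, hn⟩ := exists_mem_Kle v
  have h := mem_iSup_eigenspace_of_mem_Kle n hn
  rw [Submodule.mem_iSup_finset_iff_exists_sum] at h
  obtain ⟨μ, hμ⟩ := h
  rw [← hμ]
  constructor
  · intro k
    rw [proj_apply]
    split_ifs
    · exact (μ k).2
    · exact Submodule.zero_mem _
  · have hsupp : Function.support (fun k : ℕ => ∑ᶠ r : ℕ,
        (((-1 : ℚ) ^ (r + k)) / (Nat.factorial r : ℚ) * (Nat.choose r k : ℚ)) •
          inertiaR r (∑ j ∈ Finset.Ico 1 (n + 1), (μ j : K))) ⊆ ↑(Finset.Ico 1 (n + 1)) := by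
      intro k hk
      rw [Function.mem_support, proj_apply] at hk
      by_contra hks
      exact hk (if_neg hks)
    rw [finsum_eq_sum_of_support_subset _ hsupp]
    refine Finset.sum_congr rfl (fun k hk => ?_)
    rw [proj_apply, if_pos hk]

end Groth.Agent.Lib.Inertia76
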