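import Mathlib
import Groth.Prelude.Def_Pi1

/-!
# Invariants of a stabilizer are standard étale over the full invariants (helper89)

`G` a finite group acting on a commutative ring `R`, `u : R`, `H = Stab_G(u)`.
With `F = ∏_{c ∈ G/H} (X - c u)` (a monic polynomial over `R^G`) and `v = F'(u) ∈ R^H`, the
localisation `(R^H)_v` is isomorphic to the standard étale algebra `(R^G[X]/F)_{F'}`.
-/

set_option autoImplicit false
set_option linter.style.haveILetI false
set_option linter.unusedSectionVars false

open Polynomial

namespace Groth.Agent.Lib.InertiaEtale89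

section Abstract

variable {G R : Type*} [Group G] [CommRing R] [MulSemiringAction G R]
variable {Ω : Type*} [Fintype Ω] [DecidableEq Ω] [MulAction G Ω]
variable (r : Ω → R)

/-- The monic polynomial with roots `r c`. -/
noncomputable def F : R[X] := Lagrange.nodal Finset.univ r

/-- The Lagrange numerators `F / (X - r c)`. -/
noncomputable def L (c : Ω) : R[X] := Lagrange.nodal (Finset.univ.erase c) r

lemma F_monic : (F r).Monic := Lagrange.nodal_monic

lemma F_eq_mul_L (c : Ω) : F r = (X - C (r c)) * L r c :=
  Lagrange.nodal_eq_mul_nodal_erase (Finset.mem_univ c)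

lemma derivative_F : derivative (F r) = ∑ c, L r c := Lagrange.derivative_nodal

lemma eval_F (c : Ω) : eval (r c) (F r) = 0 := Lagrange.eval_nodal_at_node (Finset.mem_univ c)

lemma eval_L_of_ne {c o : Ω} (h : c ≠ o) : eval (r o) (L r c) = 0 :=
  Lagrange.eval_nodal_at_node (Finset.mem_erase.mpr ⟨h.symm, Finset.mem_univ o⟩)

lemma eval_L_self (o : Ω) : eval (r o) (L r o) = ∏ c ∈ Finset.univ.erase o, (r o - r c) :=
  Lagrange.eval_nodal

lemma eval_derivative_F (o : Ω) : eval (r o) (derivative (F r)) = eval (r o) (L r o) :=
  Lagrange.eval_nodal_derivative_eval_node_eq (Finset.mem_univ o)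

/-- The key congruence: `h F' ≡ ∑ h(r c) L_c` modulo `F`. -/
lemma F_dvd_sub (h : R[X]) :
    F r ∣ h * derivative (F r) - ∑ c, C (eval (r c) h) * L r c := by
  rw [derivative_F, Finset.mul_sum, ← Finset.sum_sub_distrib]
  refine Finset.dvd_sum fun c _ => ?_
  rw [← sub_mul, F_eq_mul_L r c]
  exact mul_dvd_mul_right (X_sub_C_dvd_sub_C_eval) _

variable {r}

lemma smul_F (hr : ∀ (g : G) c, r (g • c) = g • r c) (g : G) : g • F r = F r := by
  unfold F
  rw [Lagrange.nodal_eq, Finset.smul_prod']
  refine Fintype.prod_bijective _ (MulAction.bijective g) _ _ fun c => ?_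
  rw [hr, smul_sub, smul_X, smul_C]

lemma smul_L (hr : ∀ (g : G) c, r (g • c) = g • r c) (g : G) (c : Ω) :
    g • L r c = L r (g • c) := by
  unfold L
  rw [Lagrange.nodal_eq, Lagrange.nodal_eq, Finset.smul_prod']
  refine Finset.prod_equiv (MulAction.toPerm g) (fun i => ?_) (fun i _ => ?_)
  · simp
  · rw [MulAction.toPerm_apply, hr, smul_sub, smul_X, smul_C]

lemma smul_derivative_F (hr : ∀ (g : G) c, r (g • c) = g • r c) (g : G) :
    g • derivative (F r) = derivative (F r) := by
  rw [derivative_F, Finset.smul_sum]
  refine Fintype.sum_bijective _ (MulAction.bijective g) _ _ fun c => ?_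
  rw [smul_L hr]

/-- The Lagrange interpolation polynomial of an equivariant family. -/
noncomputable def interp (r : Ω → R) (x : Ω → R) : R[X] := ∑ c, C (x c) * L r c

lemma smul_interp (hr : ∀ (g : G) c, r (g • c) = g • r c) {x : Ω → R}
    (hx : ∀ (g : G) c, x (g • c) = g • x c) (g : G) : g • interp r x = interp r x := by
  unfold interp
  rw [Finset.smul_sum]
  refine Fintype.sum_bijective _ (MulAction.bijective g) _ _ fun c => ?_
  rw [smul_mul', smul_C, smul_L hr, hx]

lemma eval_interp (x : Ω → R) (o : Ω) :
    eval (r o) (interp r x) = x o * eval (r o) (derivative (F r)) := by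
  unfold interp
  rw [eval_finsetSum, Finset.sum_eq_single o]
  · rw [eval_mul, eval_C, eval_derivative_F]
  · intro c _ hc
    rw [eval_mul, eval_L_of_ne r hc, mul_zero]
  · intro h; exact absurd (Finset.mem_univ o) h

/-- If `h` is `G`-invariant and `v ^ m * h(u) = 0`, then `F` divides `h * F' ^ (m+1)` with an
invariant quotient. -/
lemma key_dvd (hr : ∀ (g : G) c, r (g • c) = g • r c) (o : Ω) (ho : ∀ c, ∃ g : G, g • o = c)
    (h : R[X]) (hh : ∀ g : G, g • h = h) (m : ℕ)
    (hv : eval (r o) (derivative (F r)) ^ m * eval (r o) h = 0) :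
    ∃ Q : R[X], (∀ g : G, g • Q = Q) ∧ h * derivative (F r) ^ (m + 1) = F r * Q := by
  set Hh : R[X] := h * derivative (F r) ^ m with hHh
  have hinv : ∀ g : G, g • Hh = Hh := fun g => by
    rw [hHh, smul_mul', smul_pow', hh, smul_derivative_F hr]
  have h0 : eval (r o) Hh = 0 := by
    rw [hHh, eval_mul, eval_pow, mul_comm]; exact hv
  have hall : ∀ c, eval (r c) Hh = 0 := by
    intro c
    obtain ⟨g, rfl⟩ := ho c
    rw [hr, ← hinv g, smul_eval_smul, h0, smul_zero]
  obtain ⟨Q, hQ⟩ := F_dvd_sub r Hh
  have hQ' : Hh * derivative (F r) = F r * Q := by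
    rw [← hQ]
    simp [hall]
  refine ⟨Q, fun g => ?_, ?_⟩
  · have h1 : F r * (g • Q) = F r * Q := by
      calc F r * (g • Q) = g • (F r * Q) := by rw [smul_mul', smul_F hr]
        _ = g • (Hh * derivative (F r)) := by rw [hQ']
        _ = Hh * derivative (F r) := by rw [smul_mul', hinv, smul_derivative_F hr]
        _ = F r * Q := hQ'
    exact (F_monic r).isRegular.left h1
  · rw [pow_succ, ← mul_assoc, ← hHh, hQ']

end Abstract

section Invariants

variable {G R : Type*} [Group G] [CommRing R] [MulSemiringAction G R]

lemma exists_lift (p : R[X]) (hp : ∀ g : G, g • p = p) :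
    ∃ pb : (FixedPoints.subring R G)[X], pb.map (FixedPoints.subring R G).subtype = p := by
  rw [← Polynomial.mem_lifts, Polynomial.lifts_iff_coeff_lifts]
  intro n
  refine ⟨⟨p.coeff n, fun g => ?_⟩, rfl⟩
  rw [← Polynomial.coeff_smul, hp]

lemma smul_map_subtype (pb : (FixedPoints.subring R G)[X]) (g : G) :
    g • pb.map (FixedPoints.subring R G).subtype = pb.map (FixedPoints.subring R G).subtype := by
  ext n
  rw [coeff_smul, coeff_map]
  exact (pb.coeff n).2 g

end Invariants

section Main

universe u

variable (G R : Type u) [Group G] [Finite G] [CommRing R] [MulSemiringAction G R]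

open Pi1

lemma coe_aeval (H : Subgroup G) (ub : FixedPoints.subring R H)
    (p : (FixedPoints.subring R G)[X]) :
    ((aeval ub p : FixedPoints.subring R H) : R) =
      eval (ub : R) (p.map (FixedPoints.subring R G).subtype) := by
  rw [eval_map, aeval_def]
  exact Polynomial.hom_eval₂ p (algebraMap _ _) (FixedPoints.subring R H).subtype ub

/-- **Main theorem (A).** For `u : R` with stabilizer `H`, there is `v ∈ R^H` (namely `F'(u)`,
the product of the `u - σ u` over the nontrivial cosets) such that `(R^H)_v` is standard étale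
over `R^G`. -/
theorem isStandardEtale_away_stabilizer (u : R) :
    ∃ v : FixedPoints.subring R (MulAction.stabilizer G u),
      (∀ p : Ideal R, p.IsPrime →
        (∀ σ : G, σ ∉ MulAction.stabilizer G u → u - σ • u ∉ p) → (v : R) ∉ p) ∧
      Algebra.IsStandardEtale (FixedPoints.subring R G) (Localization.Away v) := by
  classical
  set H := MulAction.stabilizer G u with hH
  haveI : Fintype (G ⧸ H) := Fintype.ofFinite _
  set r : G ⧸ H → R := MulAction.ofQuotientStabilizer G u with hrdef
  have hr : ∀ (g : G) (c : G ⧸ H), r (g • c) = g • r c :=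
    fun g c => MulAction.ofQuotientStabilizer_smul G u g c
  set o : G ⧸ H := ((1 : G) : G ⧸ H) with hodef
  have hro : r o = u := by
    rw [hrdef, hodef, MulAction.ofQuotientStabilizer_mk, one_smul]
  have ho : ∀ c : G ⧸ H, ∃ g : G, g • o = c := by
    intro c
    obtain ⟨g, rfl⟩ := QuotientGroup.mk_surjective c
    exact ⟨g, by rw [hodef, MulAction.Quotient.smul_mk, smul_eq_mul, mul_one]⟩
  -- the element `u` as an `H`-invariant
  have huH : ∀ h : H, h • u = u := fun h => h.2
  set ub : FixedPoints.subring R H := ⟨u, huH⟩ with hub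
  -- the element `v`
  set v : R := eval u (derivative (F r)) with hv
  have hvH : ∀ h : H, h • v = v := by
    intro h
    show (h : G) • v = v
    rw [hv, ← smul_eval_smul, smul_derivative_F hr]
    congr 1
    exact huH h
  set vb : FixedPoints.subring R H := ⟨v, hvH⟩ with hvb
  refine ⟨vb, ?_, ?_⟩
  · -- `v` avoids the primes `p` with `u - σ u ∉ p`
    intro p hp hσ
    show v ∉ p
    rw [hv, ← hro, eval_derivative_F, eval_L_self, hp.prod_mem_iff]
    rintro ⟨c, hc, hmem⟩
    obtain ⟨σ, rfl⟩ := QuotientGroup.mk_surjective c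
    have hne : (σ : G ⧸ H) ≠ o := (Finset.mem_erase.mp hc).1
    have hσH : σ ∉ H := by
      intro hmemH
      apply hne
      rw [hodef, QuotientGroup.eq, mul_one]
      exact H.inv_mem hmemH
    apply hσ σ hσH
    rw [hro] at hmem
    rwa [hrdef, MulAction.ofQuotientStabilizer_mk] at hmem
  · -- lift `F` to `R^G[X]`
    obtain ⟨Fb, hFb⟩ := exists_lift (F r) (smul_F hr)
    have hinj : Function.Injective (FixedPoints.subring R G).subtype := Subtype.val_injective
    have hFbm : Fb.Monic := Polynomial.monic_of_injective hinj (by rw [hFb]; exact F_monic r)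
    have hdFb : (derivative Fb).map (FixedPoints.subring R G).subtype = derivative (F r) := by
      rw [← derivative_map, hFb]
    let P : StandardEtalePair (FixedPoints.subring R G) :=
      { f := Fb, monic_f := hFbm, g := derivative Fb, cond := ⟨1, 0, 1, by simp⟩ }
    have e1 : aeval ub Fb = 0 := by
      apply Subtype.ext
      rw [coe_aeval, hFb]
      show eval u (F r) = 0
      rw [← hro]
      exact eval_F r o
    have e2 : aeval ub (derivative Fb) = vb := by
      apply Subtype.ext
      rw [coe_aeval, hdFb]
    have hx : P.HasMap (algebraMap _ (Localization.Away vb) ub) := by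
      refine ⟨?_, ?_⟩
      · show aeval (algebraMap _ (Localization.Away vb) ub) Fb = 0
        rw [aeval_algebraMap_apply, e1, map_zero]
      · show IsUnit (aeval (algebraMap _ (Localization.Away vb) ub) (derivative Fb))
        rw [aeval_algebraMap_apply, e2]
        exact IsLocalization.Away.algebraMap_isUnit vb
    have hφ : ∀ p : (FixedPoints.subring R G)[X],
        P.lift _ hx (aeval P.X p) = algebraMap _ (Localization.Away vb) (aeval ub p) := by
      intro p
      rw [← aeval_algHom_apply, P.lift_X, aeval_algebraMap_apply]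
    have hunit : IsUnit (aeval P.X (derivative Fb)) := P.hasMap_X.2
    refine ⟨⟨{ P := P, x := _, hasMap := hx, lift_bijective := ⟨?_, ?_⟩ }⟩⟩
    · -- injectivity
      rw [injective_iff_map_eq_zero]
      intro z hz
      let P₀ : StandardEtalePresentation (FixedPoints.subring R G) P.Ring :=
        ⟨P, P.X, P.hasMap_X, by simpa [StandardEtalePair.lift_X_left] using Function.bijective_id⟩
      obtain ⟨p, n, hpn⟩ := P₀.exists_mul_aeval_x_g_pow_eq_aeval_x z
      change z * aeval P.X (derivative Fb) ^ n = aeval P.X p at hpn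
      have h1 : algebraMap _ (Localization.Away vb) (aeval ub p) = 0 := by
        rw [← hφ, ← hpn, map_mul, hz, zero_mul]
      obtain ⟨⟨_, k, rfl⟩, hk⟩ :=
        (IsLocalization.map_eq_zero_iff (Submonoid.powers vb) (Localization.Away vb) _).mp h1
      have hk' : eval (r o) (derivative (F r)) ^ k *
          eval (r o) (p.map (FixedPoints.subring R G).subtype) = 0 := by
        rw [hro, ← coe_aeval G R H ub p]
        exact congrArg Subtype.val hk
      obtain ⟨Q, hQinv, hQ⟩ := key_dvd hr o ho _ (smul_map_subtype p) k hk'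
      obtain ⟨Qb, rfl⟩ := exists_lift Q hQinv
      have hQb : p * derivative Fb ^ (k + 1) = Fb * Qb := by
        apply Polynomial.map_injective _ hinj
        rw [Polynomial.map_mul, Polynomial.map_pow, hdFb, Polynomial.map_mul, hFb, hQ]
      have h2 : aeval P.X p * aeval P.X (derivative Fb) ^ (k + 1) = 0 := by
        rw [← map_pow, ← map_mul, hQb, map_mul]
        have : aeval P.X Fb = 0 := P.hasMap_X.1
        rw [this, zero_mul]
      have h3 : aeval P.X p = 0 := ((hunit.pow (k + 1)).mul_left_eq_zero).mp h2
      rw [h3] at hpn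
      exact ((hunit.pow n).mul_left_eq_zero).mp hpn
    · -- surjectivity
      intro y
      obtain ⟨n, a, hna⟩ := IsLocalization.Away.surj vb y
      -- the equivariant family attached to `a`
      let xa : G ⧸ H → R := fun c => Quotient.liftOn' c (fun g => g • (a : R)) (by
        intro g₁ g₂ h12
        rw [QuotientGroup.leftRel_apply] at h12
        have h' : (g₁⁻¹ * g₂) • (a : R) = a := a.2 ⟨_, h12⟩
        show g₁ • (a : R) = g₂ • (a : R)
        calc g₁ • (a : R) = g₁ • ((g₁⁻¹ * g₂) • (a : R)) := by rw [h']
          _ = g₂ • (a : R) := by rw [smul_smul, mul_inv_cancel_left])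
      have hxa : ∀ (g : G) (c : G ⧸ H), xa (g • c) = g • xa c := by
        intro g c
        obtain ⟨g', rfl⟩ := QuotientGroup.mk_surjective c
        show (g * g') • (a : R) = g • (g' • (a : R))
        rw [mul_smul]
      have hxao : xa o = a := one_smul G (a : R)
      obtain ⟨Pb, hPb⟩ := exists_lift (interp r xa) (smul_interp hr hxa)
      have e3 : aeval ub Pb = a * vb := by
        apply Subtype.ext
        rw [coe_aeval, hPb]
        show eval u (interp r xa) = a * v
        have h4 : eval (r o) (interp r xa) = xa o * eval (r o) (derivative (F r)) :=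
          eval_interp xa o
        rw [hro, hxao] at h4
        exact h4
      obtain ⟨w, hw⟩ := hunit.exists_right_inv
      have hφw : algebraMap _ (Localization.Away vb) vb * P.lift _ hx w = 1 := by
        have h5 : algebraMap _ (Localization.Away vb) vb =
            P.lift _ hx (aeval P.X (derivative Fb)) := by rw [hφ, e2]
        rw [h5, ← map_mul, hw, map_one]
      refine ⟨aeval P.X Pb * w * w ^ n, ?_⟩
      rw [map_mul, map_mul, map_pow, hφ, e3, map_mul]
      have hy : y = y * (algebraMap _ (Localization.Away vb) vb * P.lift _ hx w) ^ n := by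
        rw [hφw, one_pow, mul_one]
      rw [hy, mul_pow, ← mul_assoc y, hna, mul_assoc (algebraMap _ (Localization.Away vb) a),
        hφw, mul_one]

/-- The same for a subgroup `H` known to be the stabilizer of `u`. -/
theorem etale_away_of_stabilizer_eq (H : Subgroup G) (u : R)
    (hH : MulAction.stabilizer G u = H) :
    ∃ v : FixedPoints.subring R H,
      (∀ p : Ideal R, p.IsPrime → (∀ σ : G, σ ∉ H → u - σ • u ∉ p) → (v : R) ∉ p) ∧
      Algebra.Etale (FixedPoints.subring R G) (Localization.Away v) := by
  subst hH
  obtain ⟨v, h1, h2⟩ := isStandardEtale_away_stabilizer G R u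
  exact ⟨v, h1, inferInstance⟩

end Main

end Groth.Agent.Lib.InertiaEtale89
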