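import Mathlib

/-!
# A primitive element for the decomposition group modulo inertia (helper89)

`G` a finite group acting on a commutative ring `R`, `q` a prime, `I` its inertia group.
`exists_separating`: there is an `I`-invariant `u : R` with `u - σ u ∉ q` for all `σ ∉ I`.
-/

set_option autoImplicit false
set_option linter.style.haveILetI false
set_option linter.unusedSectionVars false

open scoped Pointwise IntermediateField

namespace Groth.Agent.Lib.InertiaPrim89

/-- A finite group acting on a field has a "primitive element": an element whose stabilizer acts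
trivially. -/
theorem exists_primitive_field (Γ K : Type*) [Group Γ] [Finite Γ] [Field K]
    [MulSemiringAction Γ K] :
    ∃ α : K, ∀ γ : Γ, γ • α = α → ∀ x : K, γ • x = x := by
  obtain ⟨α, hα⟩ := Field.exists_primitive_element (FixedPoints.subfield Γ K) K
  refine ⟨α, fun γ hγ x => ?_⟩
  have hle : (FixedPoints.subfield Γ K)⟮α⟯ ≤
      FixedBy.intermediateField (FixedPoints.subfield Γ K) K γ := by
    rw [IntermediateField.adjoin_simple_le_iff]
    exact hγ
  have hx : x ∈ (FixedPoints.subfield Γ K)⟮α⟯ := by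
    rw [hα]
    exact IntermediateField.mem_top
  exact hle hx

/-- The same for a finite group acting on a domain. -/
theorem exists_primitive_domain (Γ A : Type*) [Group Γ] [Finite Γ] [CommRing A] [IsDomain A]
    [MulSemiringAction Γ A] :
    ∃ a : A, ∀ γ : Γ, γ • a = a → ∀ x : A, γ • x = x := by
  classical
  cases nonempty_fintype Γ
  let K := FractionRing A
  letI : MulSemiringAction Γ K := IsFractionRing.mulSemiringAction Γ A K
  haveI : SMulDistribClass Γ A K := IsFractionRing.smulDistribClass Γ A K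
  have hcoe : ∀ (γ : Γ) (a : A), algebraMap A K (γ • a) = γ • algebraMap A K a :=
    fun γ a => algebraMap.smul' γ a K
  obtain ⟨α, hα⟩ := exists_primitive_field Γ K
  obtain ⟨x, y, hy, rfl⟩ := IsFractionRing.div_surjective (A := A) α
  set N : A := ∏ γ : Γ, γ • y with hNdef
  have hN : ∀ γ : Γ, γ • N = N := Finset.smul_prod_perm y
  have hy0 : y ≠ 0 := nonZeroDivisors.ne_zero hy
  have hN0 : N ≠ 0 := Finset.prod_ne_zero_iff.mpr fun γ _ => (smul_ne_zero_iff_ne γ).mpr hy0
  set a : A := x * ∏ γ ∈ Finset.univ.erase (1 : Γ), γ • y with hadef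
  have hay : a * y = x * N := by
    rw [hadef, hNdef, ← Finset.mul_prod_erase Finset.univ (fun γ : Γ => γ • y) (Finset.mem_univ 1),
      one_smul]
    ring
  have hyK : algebraMap A K y ≠ 0 := by
    simpa using hy0
  have hNK : algebraMap A K N ≠ 0 := by
    simpa using hN0
  have ha : algebraMap A K a = (algebraMap A K x / algebraMap A K y) * algebraMap A K N := by
    rw [div_mul_eq_mul_div, eq_div_iff hyK, ← map_mul, ← map_mul, hay]
  refine ⟨a, fun γ hγ z => ?_⟩
  have h1 : γ • (algebraMap A K x / algebraMap A K y) = algebraMap A K x / algebraMap A K y := by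
    have h := congrArg (algebraMap A K) hγ
    rw [hcoe, ha, smul_mul', ← hcoe γ N, hN] at h
    exact mul_right_cancel₀ hNK h
  have h2 := hα γ h1 (algebraMap A K z)
  rw [← hcoe] at h2
  exact IsFractionRing.injective A K h2

section Ring

open Polynomial

variable {G R : Type*} [Group G] [Finite G] [CommRing R] [MulSemiringAction G R]
  (q : Ideal R) [q.IsPrime]

/-- **Pure inseparability**: an element of `G` acting trivially on `R^I` modulo `q` lies in the
inertia group `I` of `q`. -/
theorem mem_inertia_of_forall_invariant (τ : G)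
    (h : ∀ s : R, (∀ i ∈ q.inertia G, i • s = s) → τ • s - s ∈ q) : τ ∈ q.inertia G := by
  classical
  intro x
  haveI : Fintype (q.inertia G) := Fintype.ofFinite _
  set g : R[X] := MulSemiringAction.charpoly (q.inertia G) x with hg
  have hcoeff : ∀ n, τ • g.coeff n - g.coeff n ∈ q := fun n =>
    h _ fun i hi => MulSemiringAction.smul_coeff_charpoly x n (⟨i, hi⟩ : q.inertia G)
  have hmap1 : (τ • g).map (Ideal.Quotient.mk q) = g.map (Ideal.Quotient.mk q) := by
    ext n
    rw [coeff_map, coeff_map, coeff_smul, Ideal.Quotient.eq]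
    exact hcoeff n
  have hmap2 : g.map (Ideal.Quotient.mk q) =
      (X - C (Ideal.Quotient.mk q x)) ^ Fintype.card (q.inertia G) := by
    rw [hg, MulSemiringAction.charpoly_eq, Polynomial.map_prod]
    rw [← Finset.card_univ, ← Finset.prod_const]
    refine Finset.prod_congr rfl fun i _ => ?_
    rw [Polynomial.map_sub, map_X, map_C]
    congr 2
    rw [Ideal.Quotient.eq]
    exact i.2 x
  have h0 : eval (τ • x) (τ • g) = 0 := by
    rw [smul_eval_smul, hg, MulSemiringAction.eval_charpoly, smul_zero]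
  have h1 := congrArg (Ideal.Quotient.mk q) h0
  rw [← eval₂_at_apply, ← eval_map, hmap1, hmap2, eval_pow, eval_sub, eval_X, eval_C, map_zero]
    at h1
  have h2 := pow_eq_zero_iff (Fintype.card_ne_zero) |>.mp h1
  rw [sub_eq_zero, Ideal.Quotient.eq] at h2
  exact h2

/-- A `D`-invariant element outside `q` but inside all the other conjugates of `q`. -/
theorem exists_decomposition_element :
    ∃ t : R, (∀ τ ∈ MulAction.stabilizer G q, τ • t = t) ∧ t ∉ q ∧
      ∀ σ : G, σ ∉ MulAction.stabilizer G q → σ • t ∈ q := by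
  classical
  cases nonempty_fintype G
  let P := Finset.inf {g : G | g • q ≠ q} (fun g ↦ g • q)
  have h1 : ¬ P ≤ q := by
    rw [Ideal.IsPrime.inf_le' inferInstance]
    rintro ⟨g, hg1, hg2⟩
    exact (Finset.mem_filter.mp hg1).2 (smul_eq_of_smul_le hg2)
  obtain ⟨b, hbP, hbQ⟩ := SetLike.not_le_iff_exists.mp h1
  replace hbP : ∀ g : G, g • q ≠ q → b ∈ g • q :=
    fun g hg ↦ (Finset.inf_le (Finset.mem_filter.mpr ⟨Finset.mem_univ g, hg⟩) : P ≤ g • q) hbP
  haveI : Fintype (MulAction.stabilizer G q) := Fintype.ofFinite _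
  refine ⟨∏ τ : MulAction.stabilizer G q, (τ : G) • b, ?_, ?_, ?_⟩
  · intro τ hτ
    exact Finset.smul_prod_perm b (⟨τ, hτ⟩ : MulAction.stabilizer G q)
  · rw [Ideal.IsPrime.prod_mem_iff]
    rintro ⟨τ, -, hτ⟩
    apply hbQ
    have h2 : b ∈ (τ : G)⁻¹ • q := by
      rw [Ideal.mem_pointwise_smul_iff_inv_smul_mem, inv_inv]
      exact hτ
    have h3 : (τ : G)⁻¹ • q = q := (MulAction.stabilizer G q).inv_mem τ.2
    rwa [h3] at h2
  · intro σ hσ
    rw [Finset.smul_prod']
    refine Ideal.prod_mem q (Finset.mem_univ (1 : MulAction.stabilizer G q)) ?_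
    have h2 : σ⁻¹ • q ≠ q := fun h => hσ ((MulAction.stabilizer G q).inv_mem_iff.mp h)
    have h3 := hbP σ⁻¹ h2
    rw [Ideal.mem_pointwise_smul_iff_inv_smul_mem, inv_inv] at h3
    simpa using h3

/-- Conjugation by the decomposition group preserves the inertia group. -/
lemma conj_mem_inertia {τ : G} (hτ : τ ∈ MulAction.stabilizer G q) {i : G}
    (hi : i ∈ q.inertia G) : τ⁻¹ * i * τ ∈ q.inertia G := by
  intro x
  have h1 : (τ⁻¹ * i * τ) • x - x = τ⁻¹ • (i • (τ • x) - τ • x) := by
    rw [smul_sub, inv_smul_smul, mul_smul, mul_smul]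
  have h2 : τ⁻¹ • q = q := (MulAction.stabilizer G q).inv_mem hτ
  have h3 := Ideal.smul_mem_pointwise_smul τ⁻¹ _ q (hi (τ • x))
  rw [h2, ← h1] at h3
  exact h3

/-- A primitive element for the action of the decomposition group on `R^I` modulo `q`. -/
theorem exists_primitive_mod :
    ∃ a : R, (∀ i ∈ q.inertia G, i • a = a) ∧
      ∀ τ ∈ MulAction.stabilizer G q, τ • a - a ∈ q → τ ∈ q.inertia G := by
  classical
  let D := MulAction.stabilizer G q
  letI : MulSemiringAction D (R ⧸ q) :=
    MulSemiringAction.compHom (R ⧸ q) (Ideal.Quotient.stabilizerHom q (q.under ℤ) G)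
  have hsmul : ∀ (τ : D) (x : R),
      τ • (Ideal.Quotient.mk q x) = Ideal.Quotient.mk q ((τ : G) • x) := fun τ x => rfl
  let Sbar : Subring (R ⧸ q) := (FixedPoints.subring R (q.inertia G)).map (Ideal.Quotient.mk q)
  haveI : IsInvariantSubring D Sbar := ⟨by
    rintro τ _ ⟨s, hs, rfl⟩
    refine ⟨(τ : G) • s, ?_, (hsmul τ s).symm⟩
    intro i
    show (i : G) • (τ : G) • s = (τ : G) • s
    have hj := conj_mem_inertia q τ.2 i.2
    have h1 : ((τ : G)⁻¹ * i * τ) • s = s := hs ⟨_, hj⟩
    calc (i : G) • (τ : G) • s = (τ : G) • ((τ : G)⁻¹ * i * τ) • s := by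
          rw [smul_smul, smul_smul, mul_assoc, mul_inv_cancel_left]
      _ = (τ : G) • s := by rw [h1]⟩
  obtain ⟨abar, habar⟩ := exists_primitive_domain D Sbar
  obtain ⟨a, ha, haeq⟩ := abar.2
  refine ⟨a, fun i hi => ha ⟨i, hi⟩, fun τ hτ hτa => ?_⟩
  apply mem_inertia_of_forall_invariant q τ
  intro s hs
  have h1 : (⟨τ, hτ⟩ : D) • abar = abar := by
    apply Subtype.ext
    show (⟨τ, hτ⟩ : D) • (abar : R ⧸ q) = abar
    rw [← haeq]
    show Ideal.Quotient.mk q (τ • a) = Ideal.Quotient.mk q a
    rw [Ideal.Quotient.eq]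
    exact hτa
  have h2 := habar ⟨τ, hτ⟩ h1 ⟨Ideal.Quotient.mk q s, ⟨s, fun i => hs i i.2, rfl⟩⟩
  have h3 : Ideal.Quotient.mk q (τ • s) = Ideal.Quotient.mk q s := congrArg Subtype.val h2
  rw [← Ideal.Quotient.eq]
  exact h3

/-- **Separating element.** There is an `I`-invariant `u` with `u - σ u ∉ q` for all `σ ∉ I`
(`I` the inertia group of `q`). -/
theorem exists_separating :
    ∃ u : R, (∀ i ∈ q.inertia G, i • u = u) ∧ ∀ σ : G, σ ∉ q.inertia G → u - σ • u ∉ q := by
  classical
  obtain ⟨a, haI, haD⟩ := exists_primitive_mod (G := G) q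
  obtain ⟨t, htD, htq, htσ⟩ := exists_decomposition_element (G := G) q
  have h1q : (1 : R) ∉ q := (Ideal.ne_top_iff_one q).mp (Ideal.IsPrime.ne_top inferInstance)
  -- normalise `a` to lie outside `q`
  obtain ⟨a', ha'I, ha'q, ha'D⟩ : ∃ a' : R, (∀ i ∈ q.inertia G, i • a' = a') ∧ a' ∉ q ∧
      ∀ τ ∈ MulAction.stabilizer G q, τ • a' - a' ∈ q → τ ∈ q.inertia G := by
    by_cases haq : a ∈ q
    · refine ⟨a + 1, fun i hi => by rw [smul_add, smul_one, haI i hi], fun h => ?_,
        fun τ hτ h => haD τ hτ ?_⟩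
      · exact h1q ((q.add_mem_iff_right haq).mp h)
      · rwa [smul_add, smul_one, add_sub_add_right_eq_sub] at h
    · exact ⟨a, haI, haq, haD⟩
  have huq : t * a' ∉ q := fun h => (Ideal.IsPrime.mem_or_mem inferInstance h).elim htq ha'q
  refine ⟨t * a', fun i hi => ?_, fun σ hσ hmem => ?_⟩
  · rw [smul_mul', htD i (Ideal.inertia_le_stabilizer q hi), ha'I i hi]
  · by_cases hσD : σ ∈ MulAction.stabilizer G q
    · rw [smul_mul', htD σ hσD, ← mul_sub] at hmem
      rcases Ideal.IsPrime.mem_or_mem inferInstance hmem with h | h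
      · exact htq h
      · apply hσ
        apply ha'D σ hσD
        rw [← neg_sub]
        exact q.neg_mem h
    · have h2 : σ • (t * a') ∈ q := by
        rw [smul_mul']
        exact q.mul_mem_right _ (htσ σ hσD)
      exact huq ((q.sub_mem_iff_left h2).mp hmem)

end Ring

end Groth.Agent.Lib.InertiaPrim89
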