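import Mathlib
import Groth.Agent.Lib.KummerDiv

/-!
# Inseparable elements in division algebras of degree `p` in characteristic `p`

If a central division algebra `A` of dimension `p²` over a field `K` of characteristic `p` has an
element which is not separable over `K`, then `A` is generated by two elements `v, u` with
`v ^ p, u ^ p ∈ K` and `v * u - u * v = 1`.
-/

set_option autoImplicit false

namespace Groth.Agent.Lib.InsepDivAlg

open Polynomial Groth.Agent.Lib.CSA Groth.Agent.Lib.KummerDiv

universe u v

variable {K : Type u} [Field K] {A : Type v} [DivisionRing A] [Algebra K A]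

omit [DivisionRing A] in
/-- `K[z]` is commutative. -/
theorem adjoin_singleton_comm {A : Type v} [Ring A] [Algebra K A] (z : A) :
    ∀ a ∈ Algebra.adjoin K {z}, ∀ b ∈ Algebra.adjoin K {z}, a * b = b * a := by
  intro a ha b hb
  have h1 : ∀ a ∈ ({z} : Set A), ∀ b ∈ ({z} : Set A), a * b = b * a := by
    intro a ha b hb
    rw [Set.mem_singleton_iff] at ha hb
    rw [ha, hb]
  letI := Algebra.adjoinCommRingOfComm K h1
  have := mul_comm (⟨a, ha⟩ : Algebra.adjoin K {z}) ⟨b, hb⟩
  exact congrArg Subtype.val this

variable [Algebra.IsCentral K A] [FiniteDimensional K A]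

/-- An inseparable element of a central division algebra of dimension `p²` in characteristic `p`
has its `p`-th power in `K`. -/
theorem pow_char_mem_range_of_not_isSeparable (p : ℕ) [Fact p.Prime] [CharP K p]
    (hA : Module.finrank K A = p ^ 2) (z : A) (hz : ¬ IsSeparable K z) :
    z ^ p ∈ (algebraMap K A).range := by
  have hp : p.Prime := Fact.out
  have hint : IsIntegral K z := IsIntegral.of_finite K z
  have hirr : Irreducible (minpoly K z) := minpoly.irreducible hint
  rcases separable_or p hirr with h | ⟨-, g, hg, hgf⟩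
  · exact absurd h hz
  set L : Subalgebra K A := Algebra.adjoin K {z} with hL
  have hzL : z ∈ L := Algebra.subset_adjoin (Set.mem_singleton z)
  have hdvd := finrank_dvd_of_comm p hA L (adjoin_singleton_comm z)
  have hle : Module.finrank K L ≤ p := Nat.le_of_dvd hp.pos hdvd
  have hmin : minpoly K (⟨z, hzL⟩ : L) = minpoly K z :=
    (minpoly.algHom_eq L.val Subtype.val_injective ⟨z, hzL⟩).symm
  have hdeg : (minpoly K z).natDegree ≤ p := by
    rw [← hmin]
    exact (minpoly.natDegree_le (A := K) (⟨z, hzL⟩ : L)).trans hle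
  rw [← hgf, natDegree_expand] at hdeg
  have hg1 : g.natDegree ≤ 1 := by
    by_contra hcon
    push_neg at hcon
    have : 2 * p ≤ g.natDegree * p := Nat.mul_le_mul_right p hcon
    have := hp.pos
    omega
  have hg0 : g.natDegree ≠ 0 := (Irreducible.natDegree_pos hg).ne'
  have hgeq := eq_X_add_C_of_natDegree_le_one hg1
  have ha0 : g.coeff 1 ≠ 0 := by
    have h1 : g.natDegree = 1 := by omega
    have := leadingCoeff_ne_zero.mpr hg.ne_zero
    rwa [leadingCoeff, h1] at this
  have hroot : aeval z (minpoly K z) = 0 := minpoly.aeval K z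
  rw [← hgf, expand_aeval, hgeq] at hroot
  simp only [map_add, map_mul, aeval_C, aeval_X] at hroot
  refine ⟨-(g.coeff 0) / g.coeff 1, ?_⟩
  have h2 : algebraMap K A (g.coeff 1) * z ^ p = algebraMap K A (-(g.coeff 0)) := by
    rw [map_neg]
    exact eq_neg_of_add_eq_zero_left hroot
  have h3 : algebraMap K A (g.coeff 1) ≠ 0 := by
    rw [Ne, map_eq_zero_iff _ (algebraMap K A).injective]
    exact ha0
  rw [div_eq_inv_mul, map_mul, ← h2, ← mul_assoc, ← map_mul, inv_mul_cancel₀ ha0, map_one, one_mul]

/-- If `v ∉ K` but `v ^ p ∈ K` then there is `u` with `v * u - u * v = 1`. -/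
theorem exists_commutator_eq_one (p : ℕ) [Fact p.Prime] [CharP K p]
    (v : A) (hv : v ^ p ∈ (algebraMap K A).range) (hvK : v ∉ (algebraMap K A).range) :
    ∃ u : A, v * u - u * v = 1 := by
  classical
  have hp : p.Prime := Fact.out
  obtain ⟨a, ha⟩ := hv
  set δ : Module.End K A := LinearMap.mulLeft K v - LinearMap.mulRight K v with hδ
  haveI : CharP (Module.End K A) p :=
    charP_of_injective_algebraMap (algebraMap K (Module.End K A)).injective p
  have hδp : δ ^ p = 0 := by
    rw [hδ, sub_pow_char_of_commute p (LinearMap.commute_mulLeft_right v v),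
      LinearMap.pow_mulLeft, LinearMap.pow_mulRight, ← ha]
    ext x
    simp [Algebra.commutes]
  have hδapply : ∀ x, δ x = v * x - x * v := fun x => by simp [hδ]
  obtain ⟨x, hx⟩ : ∃ x, δ x ≠ 0 := by
    by_contra! hcon
    apply hvK
    have hcen : v ∈ Subalgebra.center K A := by
      rw [Subalgebra.mem_center_iff]
      intro b
      have := hcon b
      rw [hδapply, sub_eq_zero] at this
      exact this.symm
    rw [Algebra.IsCentral.center_eq_bot] at hcen
    exact Algebra.mem_bot.mp hcen
  have hex : ∃ n : ℕ, (δ ^ n) x = 0 := ⟨p, by rw [hδp]; rfl⟩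
  set n := Nat.find hex with hn
  have hn_spec : (δ ^ n) x = 0 := Nat.find_spec hex
  have hn0 : n ≠ 0 := by
    intro h0
    rw [h0, pow_zero, Module.End.one_apply] at hn_spec
    rw [hn_spec, map_zero] at hx
    exact hx rfl
  have hn1 : n ≠ 1 := by
    intro h1
    rw [h1, pow_one] at hn_spec
    exact hx hn_spec
  obtain ⟨m, hm⟩ : ∃ m, n = m + 2 := ⟨n - 2, by omega⟩
  set y : A := (δ ^ m) x with hy
  set t : A := δ y with ht
  have ht0 : t ≠ 0 := by
    have := Nat.find_min hex (m := m + 1) (by omega)
    rwa [pow_succ', Module.End.mul_apply] at this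
  have hδt : δ t = 0 := by
    rw [hm, pow_succ', pow_succ', Module.End.mul_apply, Module.End.mul_apply] at hn_spec
    exact hn_spec
  have hvt : v * t = t * v := by
    rw [hδapply, sub_eq_zero] at hδt
    exact hδt
  have hvt' : v * t⁻¹ = t⁻¹ * v := (Commute.inv_right₀ (show Commute v t from hvt)).eq
  refine ⟨t⁻¹ * y, ?_⟩
  have hty : v * y - y * v = t := (hδapply y).symm
  calc v * (t⁻¹ * y) - t⁻¹ * y * v = t⁻¹ * (v * y - y * v) := by
        rw [← mul_assoc, hvt']; noncomm_ring
    _ = 1 := by rw [hty, inv_mul_cancel₀ ht0]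

/-- A commutative subalgebra of dimension `p` is its own centralizer. -/
theorem centralizer_eq_self (p : ℕ) (hp : 0 < p) (hA : Module.finrank K A = p ^ 2)
    (L : Subalgebra K A) (hcomm : ∀ a ∈ L, ∀ b ∈ L, a * b = b * a)
    (hrank : Module.finrank K L = p) :
    Subalgebra.centralizer K (L : Set A) = L := by
  haveI : IsSimpleRing L := isSimpleRing_subalgebra _
  have h := finrank_centralizer L
  rw [hA, hrank, sq] at h
  have hc : Module.finrank K (Subalgebra.centralizer K (L : Set A)) = p :=
    (Nat.eq_of_mul_eq_mul_left hp h).symm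
  have hle : L ≤ Subalgebra.centralizer K (L : Set A) := by
    intro b hb
    rw [Subalgebra.mem_centralizer_iff]
    intro c hc
    exact hcomm c hc b hb
  symm
  apply Subalgebra.toSubmodule_injective
  exact Submodule.eq_of_le_of_finrank_eq hle (by rw [Subalgebra.finrank_toSubmodule,
    Subalgebra.finrank_toSubmodule, hrank, hc])

/-- If `v * u - u * v = 1` then `v` and `u` generate `A`. -/
theorem adjoin_pair_eq_top (p : ℕ) [Fact p.Prime]
    (hA : Module.finrank K A = p ^ 2) (v u : A) (hvu : v * u - u * v = 1) :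
    Algebra.adjoin K {v, u} = ⊤ := by
  have hp : p.Prime := Fact.out
  set B : Subalgebra K A := Algebra.adjoin K {v, u} with hB
  have hvB : v ∈ B := Algebra.subset_adjoin (by simp)
  have huB : u ∈ B := Algebra.subset_adjoin (by simp)
  have hvK : v ∉ (algebraMap K A).range := by
    rintro ⟨c, rfl⟩
    rw [Algebra.commutes, sub_self] at hvu
    exact zero_ne_one hvu
  set L : Subalgebra K A := Algebra.adjoin K {v} with hL
  have hvL : v ∈ L := Algebra.subset_adjoin (Set.mem_singleton v)
  have hLcomm := adjoin_singleton_comm (K := K) v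
  have hLB : L ≤ B := Algebra.adjoin_mono (by simp)
  have hLrank : Module.finrank K L = p := by
    rcases (Nat.dvd_prime hp).mp (finrank_dvd_of_comm p hA L hLcomm) with h1 | h1
    · exfalso
      have hbot : L = ⊥ := Subalgebra.finrank_eq_one_iff.mp h1
      rw [hbot] at hvL
      exact hvK (Algebra.mem_bot.mp hvL)
    · exact h1
  have hLcent := centralizer_eq_self p hp.pos hA L hLcomm hLrank
  set C : Subalgebra K A := Subalgebra.centralizer K (B : Set A) with hC
  have hCL : C ≤ L := by
    rw [← hLcent]
    exact Subalgebra.centralizer_le K _ _ hLB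
  have hCcomm : ∀ a ∈ C, ∀ b ∈ C, a * b = b * a :=
    fun a ha b hb => hLcomm a (hCL ha) b (hCL hb)
  haveI : IsSimpleRing B := isSimpleRing_subalgebra _
  have hBC := finrank_centralizer B
  rcases (Nat.dvd_prime hp).mp (finrank_dvd_of_comm p hA C hCcomm) with h1 | h1
  · rw [← hC, h1, mul_one] at hBC
    apply Subalgebra.toSubmodule_injective
    rw [Algebra.top_toSubmodule]
    apply Submodule.eq_top_of_finrank_eq
    rw [Subalgebra.finrank_toSubmodule, hBC]
  · exfalso
    have hCeq : C = L := by
      apply Subalgebra.toSubmodule_injective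
      exact Submodule.eq_of_le_of_finrank_eq hCL (by rw [Subalgebra.finrank_toSubmodule,
        Subalgebra.finrank_toSubmodule, hLrank, h1])
    have hvC : v ∈ C := hCeq ▸ hvL
    rw [hC, Subalgebra.mem_centralizer_iff] at hvC
    have := hvC u huB
    rw [this, sub_self] at hvu
    exact zero_ne_one hvu

/-- If `v * u - u * v = 1` in characteristic `p` and `v, u` generate `A` then `u ^ p ∈ K`. -/
theorem pow_char_mem_range_of_commutator (p : ℕ) [Fact p.Prime] [CharP K p]
    (v u : A) (hvu : v * u - u * v = 1) (hgen : Algebra.adjoin K {v, u} = ⊤) :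
    u ^ p ∈ (algebraMap K A).range := by
  have hp : p.Prime := Fact.out
  haveI : CharP A p := charP_of_injective_algebraMap (algebraMap K A).injective p
  have hpow : ∀ n : ℕ, v * u ^ (n + 1) - u ^ (n + 1) * v = ((n + 1 : ℕ) : A) * u ^ n := by
    intro n
    induction n with
    | zero => simpa using hvu
    | succ n ih =>
      have h1 : v * u ^ (n + 1 + 1) - u ^ (n + 1 + 1) * v
          = (v * u ^ (n + 1) - u ^ (n + 1) * v) * u + u ^ (n + 1) * (v * u - u * v) := by
        rw [pow_succ u (n + 1)]; noncomm_ring
      rw [h1, ih, hvu, mul_one, mul_assoc, ← pow_succ]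
      push_cast
      noncomm_ring
  have hcomm_v : v * u ^ p = u ^ p * v := by
    obtain ⟨k, hk⟩ : ∃ k, p = k + 1 := ⟨p - 1, by have := hp.pos; omega⟩
    have h := hpow k
    rw [← hk, CharP.cast_eq_zero, zero_mul, sub_eq_zero] at h
    exact h
  have hcen : u ^ p ∈ Subalgebra.center K A := by
    rw [Subalgebra.mem_center_iff]
    intro b
    have hb : b ∈ Algebra.adjoin K {v, u} := by rw [hgen]; exact Algebra.mem_top
    induction hb using Algebra.adjoin_induction with
    | mem x hx =>
      rcases hx with rfl | hx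
      · exact hcomm_v
      · rw [Set.mem_singleton_iff] at hx
        subst hx
        rw [← pow_succ, ← pow_succ']
    | algebraMap r => exact Algebra.commutes r _
    | add x y _ _ hx hy => rw [add_mul, mul_add, hx, hy]
    | mul x y _ _ hx hy => rw [mul_assoc, hy, ← mul_assoc, hx, mul_assoc]
  rw [Algebra.IsCentral.center_eq_bot] at hcen
  exact Algebra.mem_bot.mp hcen

/-- **(1) ⇒ (2)**. -/
theorem exists_generators_of_not_isSeparable (p : ℕ) [Fact p.Prime] [CharP K p]
    (hA : Module.finrank K A = p ^ 2) (z : A) (hz : ¬ IsSeparable K z) :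
    ∃ v u : A, v ^ p ∈ (algebraMap K A).range ∧ u ^ p ∈ (algebraMap K A).range ∧
      v * u - u * v = 1 ∧ Algebra.adjoin K {v, u} = ⊤ := by
  have hzp := pow_char_mem_range_of_not_isSeparable p hA z hz
  have hzK : z ∉ (algebraMap K A).range := by
    rintro ⟨c, rfl⟩
    exact hz (isSeparable_algebraMap c)
  obtain ⟨u, hu⟩ := exists_commutator_eq_one p z hzp hzK
  have hgen := adjoin_pair_eq_top p hA z u hu
  exact ⟨z, u, hzp, pow_char_mem_range_of_commutator p z u hu hgen, hu, hgen⟩

end Groth.Agent.Lib.InsepDivAlg
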