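/-
helper96: ring homomorphisms to algebraically closed fields extending a given one along an
integral map (`HomOver`): independence of the algebraically closed field, existence with prescribed
kernel, and the decomposition along a tower `B → C → K` with `C` integral over `B`.
-/
import Mathlib
import Groth.Agent.Lib.IntClosRadicial96

set_option autoImplicit false
set_option linter.style.haveILetI false
universe u v w

namespace Groth.Agent.Lib.IntBirGU96

open Groth.Agent.Lib.BrnchSum98 Groth.Agent.Lib.IntClosRadicial96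

section Post

variable {A : Type*} {A' : Type*} {Ω : Type*} {L : Type*} [CommRing A] [CommRing A'] [Field Ω]
  [IsAlgClosed Ω] [Field L]

/-- Post-composition with an embedding of an algebraically closed field is a bijection on
extensions along an integral map. -/
noncomputable def homOverPostcomp (φ : A →+* A') (hφ : φ.IsIntegral) (ψ : Ω →+* L)
    (g₀ : A →+* Ω) : HomOver φ g₀ ≃ HomOver φ (ψ.comp g₀) :=
  Equiv.ofBijective (fun χ => ⟨ψ.comp χ.1, by rw [RingHom.comp_assoc, χ.2]⟩)
    ⟨fun χ₁ χ₂ h => Subtype.ext (RingHom.ext fun a =>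
        ψ.injective (RingHom.congr_fun (congrArg Subtype.val h) a)),
     fun τ => by
       obtain ⟨χ', h1, h2⟩ := descend φ hφ ψ g₀ τ.1 τ.2
       exact ⟨⟨χ', h2⟩, Subtype.ext h1⟩⟩

end Post

section Closure

variable {B : Type u} [CommRing B]

/-- The canonical map `B → κ(p) → κ(p)^alg`. -/
noncomputable def gCan (p : Ideal B) [p.IsPrime] : B →+* AlgebraicClosure p.ResidueField :=
  (algebraMap p.ResidueField (AlgebraicClosure p.ResidueField)).comp (algebraMap B p.ResidueField)

theorem exists_closure_embedding {Ω : Type*} [Field Ω] [IsAlgClosed Ω] (g : B →+* Ω) :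
    haveI : (RingHom.ker g).IsPrime := RingHom.ker_isPrime g
    ∃ ψ : AlgebraicClosure (RingHom.ker g).ResidueField →+* Ω,
      ψ.comp (gCan (RingHom.ker g)) = g := by
  haveI : (RingHom.ker g).IsPrime := RingHom.ker_isPrime g
  set p := RingHom.ker g with hp
  have hf₂ : p.primeCompl ≤ (IsUnit.submonoid Ω).comap g := by
    intro a ha
    rw [Submonoid.mem_comap, IsUnit.mem_submonoid_iff, isUnit_iff_ne_zero]
    exact fun h0 => ha h0
  let θ : p.ResidueField →+* Ω := Ideal.ResidueField.lift p g le_rfl hf₂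
  have hθ : ∀ a : B, θ (algebraMap B p.ResidueField a) = g a :=
    fun a => Ideal.ResidueField.lift_algebraMap p g le_rfl hf₂ a
  letI algκ : Algebra p.ResidueField Ω := θ.toAlgebra
  haveI : Module.IsTorsionFree p.ResidueField (AlgebraicClosure p.ResidueField) :=
    isTorsionFree_of_field _ _
  haveI : Module.IsTorsionFree p.ResidueField Ω := isTorsionFree_of_field _ _
  let ψ₀ : AlgebraicClosure p.ResidueField →ₐ[p.ResidueField] Ω := IsAlgClosed.lift
  refine ⟨ψ₀.toRingHom, ?_⟩
  ext a
  have h2 := ψ₀.commutes (algebraMap B p.ResidueField a)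
  have h3 : algebraMap p.ResidueField Ω (algebraMap B p.ResidueField a) =
      θ (algebraMap B p.ResidueField a) := rfl
  rw [h3, hθ] at h2
  exact h2

variable {B' : Type v} [CommRing B']

/-- The set of extensions along an integral map to an algebraically closed field only depends on
the kernel of the map to that field. -/
theorem nonempty_equiv_homOver (f : B →+* B') (hf : f.IsIntegral) {Ω : Type*} {Ω' : Type*}
    [Field Ω] [IsAlgClosed Ω] [Field Ω'] [IsAlgClosed Ω'] (g : B →+* Ω) (g' : B →+* Ω')
    (hk : RingHom.ker g = RingHom.ker g') : Nonempty (HomOver f g ≃ HomOver f g') := by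
  haveI : (RingHom.ker g).IsPrime := RingHom.ker_isPrime g
  haveI : (RingHom.ker g').IsPrime := RingHom.ker_isPrime g'
  obtain ⟨ψ, hψ⟩ := exists_closure_embedding g
  obtain ⟨ψ', hψ'⟩ := exists_closure_embedding g'
  have e1 := homOverPostcomp f hf ψ (gCan (RingHom.ker g))
  have e2 := homOverPostcomp f hf ψ' (gCan (RingHom.ker g'))
  rw [hψ] at e1
  rw [hψ'] at e2
  have e3 : HomOver f (gCan (RingHom.ker g)) ≃ HomOver f (gCan (RingHom.ker g')) := by
    have : ∀ (p p' : Ideal B) [p.IsPrime] [p'.IsPrime], p = p' →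
        Nonempty (HomOver f (gCan p) ≃ HomOver f (gCan p')) := by
      intro p p' _ _ h
      subst h
      exact ⟨Equiv.refl _⟩
    exact (this _ _ hk).some
  exact ⟨e1.symm.trans (e3.trans e2)⟩

theorem subsingleton_homOver_congr (f : B →+* B') (hf : f.IsIntegral) {Ω : Type*} {Ω' : Type*}
    [Field Ω] [IsAlgClosed Ω] [Field Ω'] [IsAlgClosed Ω'] (g : B →+* Ω) (g' : B →+* Ω')
    (hk : RingHom.ker g = RingHom.ker g') :
    Subsingleton (HomOver f g) ↔ Subsingleton (HomOver f g') :=
  (nonempty_equiv_homOver f hf g g' hk).some.subsingleton_congr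

end Closure

section Extend

variable {B : Type*} {C : Type*} [CommRing B] [CommRing C]

/-- Extension of a ring map to an algebraically closed field along an integral map, with
prescribed kernel lying over the kernel of the given map. -/
theorem exists_homOver_ker_eq (φ : B →+* C) (hφ : φ.IsIntegral) {Ω : Type*} [Field Ω]
    [IsAlgClosed Ω] (g : B →+* Ω) (q : Ideal C) [q.IsPrime] (hq : q.comap φ = RingHom.ker g) :
    ∃ h : C →+* Ω, h.comp φ = g ∧ RingHom.ker h = q := by
  haveI hp : (RingHom.ker g).IsPrime := RingHom.ker_isPrime g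
  set p := RingHom.ker g with hpdef
  let ρ : B ⧸ p →+* C ⧸ q := Ideal.quotientMap q φ (le_of_eq hq.symm)
  have hρinj : Function.Injective ρ := Ideal.quotientMap_injective' (le_of_eq hq)
  letI algRS : Algebra (B ⧸ p) (C ⧸ q) := ρ.toAlgebra
  letI algRΩ : Algebra (B ⧸ p) Ω := (RingHom.kerLift g).toAlgebra
  haveI : Module.IsTorsionFree (B ⧸ p) (C ⧸ q) :=
    Module.isTorsionFree_iff_algebraMap_injective.mpr hρinj
  haveI : Module.IsTorsionFree (B ⧸ p) Ω :=
    Module.isTorsionFree_iff_algebraMap_injective.mpr (RingHom.kerLift_injective g)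
  have hρint : ρ.IsIntegral := by
    intro x
    obtain ⟨c, rfl⟩ := Ideal.Quotient.mk_surjective x
    obtain ⟨P, hP, hP0⟩ := hφ c
    refine ⟨P.map (Ideal.Quotient.mk p), hP.map _, ?_⟩
    have hcomm : ρ.comp (Ideal.Quotient.mk p) = (Ideal.Quotient.mk q).comp φ := by
      ext b; rfl
    rw [Polynomial.eval₂_map, hcomm, ← Polynomial.hom_eval₂, hP0, map_zero]
  haveI : Algebra.IsIntegral (B ⧸ p) (C ⧸ q) := ⟨hρint⟩
  haveI : Algebra.IsAlgebraic (B ⧸ p) (C ⧸ q) := Algebra.IsIntegral.isAlgebraic
  let σ : (C ⧸ q) →ₐ[B ⧸ p] Ω := IsAlgClosed.lift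
  refine ⟨σ.toRingHom.comp (Ideal.Quotient.mk q), ?_, ?_⟩
  · ext b
    have h1 := σ.commutes (Ideal.Quotient.mk p b)
    have h2 : algebraMap (B ⧸ p) Ω (Ideal.Quotient.mk p b) = g b := RingHom.kerLift_mk g b
    have h3 : algebraMap (B ⧸ p) (C ⧸ q) (Ideal.Quotient.mk p b) = Ideal.Quotient.mk q (φ b) :=
      rfl
    rw [h2, h3] at h1
    exact h1
  · have hker : RingHom.ker σ.toRingHom = ⊥ := by
      haveI : (RingHom.ker σ.toRingHom).IsPrime := RingHom.ker_isPrime _
      apply Ideal.eq_bot_of_comap_eq_bot (R := B ⧸ p)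
      rw [eq_bot_iff]
      intro x hx
      rw [Ideal.mem_comap, RingHom.mem_ker] at hx
      have h1 : σ.toRingHom (algebraMap (B ⧸ p) (C ⧸ q) x) = algebraMap (B ⧸ p) Ω x :=
        σ.commutes x
      rw [h1] at hx
      exact (Ideal.mem_bot).mpr
        ((map_eq_zero_iff _ (RingHom.kerLift_injective g)).mp hx)
    rw [← RingHom.comap_ker, hker, ← RingHom.ker_eq_comap_bot, Ideal.mk_ker]

/-- Existence of extensions along an integral map whose kernel is killed. -/
theorem nonempty_homOver_of_ker_le (φ : B →+* C) (hφ : φ.IsIntegral) {Ω : Type*} [Field Ω]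
    [IsAlgClosed Ω] (g : B →+* Ω) (hk : RingHom.ker φ ≤ RingHom.ker g) :
    Nonempty (HomOver φ g) := by
  haveI hp : (RingHom.ker g).IsPrime := RingHom.ker_isPrime g
  letI := φ.toAlgebra
  haveI : Algebra.IsIntegral B C := ⟨hφ⟩
  obtain ⟨Q, -, hQ, hQc⟩ := Ideal.exists_ideal_over_prime_of_isIntegral
    (RingHom.ker g) (⊥ : Ideal C) (by
      rw [← RingHom.ker_eq_comap_bot]; exact hk)
  obtain ⟨h, hh, -⟩ := exists_homOver_ker_eq φ hφ g Q hQc
  exact ⟨⟨h, hh⟩⟩

end Extend

section Tower

variable (B : Type*) (C : Type*) (K : Type*) [CommRing B] [CommRing C] [CommRing K] [Algebra B C]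
  [Algebra C K] [Algebra B K] [IsScalarTower B C K] [Algebra.IsIntegral B C]

/-- For `C` integral over `B`, the integral closures of `B` and of `C` in `K` coincide. -/
def icTowerEquiv : integralClosure B K ≃+* integralClosure C K where
  toFun x := ⟨x.1, IsIntegral.tower_top x.2⟩
  invFun y := ⟨y.1, isIntegral_trans _ y.2⟩
  left_inv _ := rfl
  right_inv _ := rfl
  map_mul' _ _ := rfl
  map_add' _ _ := rfl

theorem icTowerEquiv_algebraMap (b : B) :
    icTowerEquiv B C K (algebraMap B (integralClosure B K) b) =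
      algebraMap C (integralClosure C K) (algebraMap B C b) :=
  Subtype.ext (IsScalarTower.algebraMap_apply B C K b)

variable {B C K}

theorem subsingleton_homOver_tower {Ω : Type*} [CommRing Ω] (g : B →+* Ω)
    (hne : ∀ h : HomOver (algebraMap B C) g,
      Nonempty (HomOver (algebraMap C (integralClosure C K)) h.1)) :
    Subsingleton (HomOver (algebraMap B (integralClosure B K)) g) ↔
      Subsingleton (HomOver (algebraMap B C) g) ∧
        ∀ h : HomOver (algebraMap B C) g,
          Subsingleton (HomOver (algebraMap C (integralClosure C K)) h.1) := by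
  set e := icTowerEquiv B C K with he
  have hcomp : ((e : integralClosure B K →+* integralClosure C K)).comp
      (algebraMap B (integralClosure B K)) =
      (algebraMap C (integralClosure C K)).comp (algebraMap B C) :=
    RingHom.ext fun b => icTowerEquiv_algebraMap B C K b
  -- from a pair `(h, τ)` to an element of the big set
  have mk : ∀ (h : HomOver (algebraMap B C) g)
      (τ : HomOver (algebraMap C (integralClosure C K)) h.1),
      (τ.1.comp (e : integralClosure B K →+* integralClosure C K)).comp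
        (algebraMap B (integralClosure B K)) = g := by
    intro h τ
    rw [RingHom.comp_assoc, hcomp, ← RingHom.comp_assoc, τ.2, h.2]
  have hcancel : ∀ τ₁ τ₂ : integralClosure C K →+* Ω,
      τ₁.comp (e : integralClosure B K →+* integralClosure C K) =
        τ₂.comp (e : integralClosure B K →+* integralClosure C K) → τ₁ = τ₂ := by
    intro τ₁ τ₂ h
    ext y
    have := RingHom.congr_fun h (e.symm y)
    simpa using this
  constructor
  · intro hS
    refine ⟨⟨fun h₁ h₂ => ?_⟩, fun h => ⟨fun τ₁ τ₂ => ?_⟩⟩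
    · obtain ⟨τ₁⟩ := hne h₁
      obtain ⟨τ₂⟩ := hne h₂
      have h12 := congrArg Subtype.val (hS.elim ⟨_, mk h₁ τ₁⟩ ⟨_, mk h₂ τ₂⟩)
      have h3 : τ₁.1 = τ₂.1 := hcancel _ _ h12
      apply Subtype.ext
      rw [← τ₁.2, ← τ₂.2, h3]
    · have h12 := congrArg Subtype.val (hS.elim ⟨_, mk h τ₁⟩ ⟨_, mk h τ₂⟩)
      exact Subtype.ext (hcancel _ _ h12)
  · rintro ⟨hS1, hS2⟩
    refine ⟨fun χ₁ χ₂ => ?_⟩
    have key : ∀ χ : HomOver (algebraMap B (integralClosure B K)) g,
        ((χ.1.comp (e.symm : integralClosure C K →+* integralClosure B K)).comp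
          (algebraMap C (integralClosure C K))).comp (algebraMap B C) = g := by
      intro χ
      rw [RingHom.comp_assoc, ← hcomp]
      ext b
      have := RingHom.congr_fun χ.2 b
      simpa using this
    let h₁ : HomOver (algebraMap B C) g := ⟨_, key χ₁⟩
    let h₂ : HomOver (algebraMap B C) g := ⟨_, key χ₂⟩
    have h12 : h₁ = h₂ := hS1.elim h₁ h₂
    let τ₁ : HomOver (algebraMap C (integralClosure C K)) h₁.1 :=
      ⟨χ₁.1.comp (e.symm : integralClosure C K →+* integralClosure B K), rfl⟩
    let τ₂ : HomOver (algebraMap C (integralClosure C K)) h₁.1 :=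
      ⟨χ₂.1.comp (e.symm : integralClosure C K →+* integralClosure B K),
        (congrArg Subtype.val h12).symm⟩
    have h3 : τ₁ = τ₂ := (hS2 h₁).elim τ₁ τ₂
    have h4 := congrArg Subtype.val h3
    apply Subtype.ext
    ext x
    have := RingHom.congr_fun h4 (e x)
    simpa [τ₁, τ₂] using this

end Tower

end Groth.Agent.Lib.IntBirGU96
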