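/-
helper96: geometric unibranchness of a localization `A = B_p` of an arbitrary ring `B` in terms of
extensions of `B → Ω` (`Ω` algebraically closed, kernel `p`) to the integral closure of `B` in a
field `K` which is the fraction field of `(B_p)_red`.
-/
import Mathlib
import Groth.Agent.Lib.IntBirGU96A
import Groth.Agent.S9811

set_option autoImplicit false
set_option linter.style.haveILetI false
universe u

namespace Groth.Agent.Lib.IntBirGU96

open IsLocalRing Groth.Agent.Lib.BrnchSum98 Groth.Agent.Lib.NormBranches96
  Groth.Agent.Lib.IntClosRadicial96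

section Nil

variable (A : Type u) [CommRing A]

theorem minimalPrimes_eq_singleton_nilradical [hN : (nilradical A).IsPrime] :
    minimalPrimes A = {nilradical A} := by
  have h1 : minimalPrimes A = (⊥ : Ideal A).radical.minimalPrimes :=
    (Ideal.radical_minimalPrimes (I := (⊥ : Ideal A))).symm
  rw [h1]
  exact Ideal.minimalPrimes_eq_subsingleton_self (I := nilradical A)

variable [IsLocalRing A]

theorem numGeomBranches_eq_quotient_nilradical [hN : (nilradical A).IsPrime] :
    Brnch.numGeomBranches A = Brnch.numGeomBranches (A ⧸ nilradical A) := by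
  have hmin := minimalPrimes_eq_singleton_nilradical A
  have hfin : (minimalPrimes A).Finite := by rw [hmin]; exact Set.finite_singleton _
  rw [Groth.Agent.S9811.result A hfin]
  have hmem : nilradical A ∈ minimalPrimes A := by rw [hmin]; exact Set.mem_singleton _
  have hall : ∀ q : Ideal A, q ∈ minimalPrimes A → q = nilradical A := by
    intro q hq
    rw [hmin] at hq
    exact hq
  haveI : Unique (minimalPrimes A) :=
    ⟨⟨⟨nilradical A, hmem⟩⟩, fun q => Subtype.ext (hall q.1 q.2)⟩
  rw [finsum_unique]
  have key : ∀ (I : Ideal A) (hI : I.IsPrime), I = nilradical A →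
      (haveI := hI; Brnch.numGeomBranches (A ⧸ I)) = Brnch.numGeomBranches (A ⧸ nilradical A) := by
    intro I hI h
    subst h
    rfl
  exact key _ (default : minimalPrimes A).2.1.1 (hall _ (default : minimalPrimes A).2)

theorem isGeomUnibranch_iff_quotient_nilradical [hN : (nilradical A).IsPrime] :
    CAlg2.IsGeomUnibranch A ↔ CAlg2.IsGeomUnibranch (A ⧸ nilradical A) := by
  rw [← Groth.Agent.S9236.result, ← Groth.Agent.S9236.result,
    numGeomBranches_eq_quotient_nilradical]

end Nil

section Domain

variable {B A K₀ : Type u} [CommRing B] [IsDomain B] [CommRing A] [Field K₀] [Algebra B A]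
  [Algebra B K₀] [IsFractionRing B K₀] (p : Ideal B) [p.IsPrime] [IsLocalization.AtPrime A p]
  [IsLocalRing A] [IsDomain A]

include p in
theorem numGeomBranches_eq_of_isDomain :
    Brnch.numGeomBranches A =
      ENat.card (HomOver (algebraMap B (integralClosure B K₀))
        ((Brnch.toClosure A).comp (algebraMap B A))) := by
  have hfin : (minimalPrimes A).Finite := by
    rw [IsDomain.minimalPrimes_eq_singleton_bot]
    exact Set.finite_singleton _
  unfold Brnch.numGeomBranches
  rw [if_pos hfin, card_sigma_emb]
  exact (ring_main B A K₀ p).2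

include p in
theorem nonempty_homOver_of_isDomain :
    Nonempty (HomOver (algebraMap B (integralClosure B K₀))
        ((Brnch.toClosure A).comp (algebraMap B A))) := by
  rw [← ENat.card_ne_zero_iff_nonempty, ← numGeomBranches_eq_of_isDomain (K₀ := K₀) p]
  have hfin : (minimalPrimes A).Finite := by
    rw [IsDomain.minimalPrimes_eq_singleton_bot]
    exact Set.finite_singleton _
  unfold Brnch.numGeomBranches
  rw [if_pos hfin, ENat.card_ne_zero_iff_nonempty]
  haveI : Nontrivial (CAlg2.red A) := by
    rw [Ideal.Quotient.nontrivial_iff]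
    intro h
    have : (1 : A) ∈ nilradical A := h ▸ Submodule.mem_top
    exact not_isNilpotent_one (mem_nilradical.mp this)
  haveI : Nontrivial (FractionRing (CAlg2.red A)) := inferInstance
  haveI : Nontrivial (CAlg2.normRed A) := inferInstance
  obtain ⟨m, hm⟩ := Ideal.exists_maximal (CAlg2.normRed A)
  obtain ⟨σ⟩ := Groth.Agent.Lib.BrnchPI98.nonempty_emb A ⟨m, hm⟩
  exact ⟨⟨⟨m, hm⟩, σ⟩⟩

include p in
theorem isGeomUnibranch_iff_of_isDomain :
    CAlg2.IsGeomUnibranch A ↔
      Subsingleton (HomOver (algebraMap B (integralClosure B K₀))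
        ((Brnch.toClosure A).comp (algebraMap B A))) := by
  rw [← Groth.Agent.S9236.result, numGeomBranches_eq_of_isDomain (K₀ := K₀) p,
    ENat.card_eq_one_iff_unique, unique_iff_subsingleton_and_nonempty]
  exact and_iff_left (nonempty_homOver_of_isDomain (K₀ := K₀) p)

end Domain

section General

variable {B A K : Type u} [CommRing B] [CommRing A] [Field K] [Algebra B A] [Algebra B K]
  (p : Ideal B) [p.IsPrime] [IsLocalization.AtPrime A p] [IsLocalRing A]

include p in
/-- The kernel of `B → K` is contained in `p` if it becomes nil in `A = B_p`. -/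
theorem ker_le_of_isNilpotent
    (hnil : ∀ b : B, algebraMap B K b = 0 → IsNilpotent (algebraMap B A b)) :
    RingHom.ker (algebraMap B K) ≤ p := by
  intro b hb
  by_contra hbp
  have hu : IsUnit (algebraMap B A b) :=
    IsLocalization.map_units A (⟨b, hbp⟩ : p.primeCompl)
  obtain ⟨n, hn⟩ := hnil b hb
  have : IsUnit ((algebraMap B A b) ^ n) := hu.pow n
  rw [hn] at this
  exact not_isUnit_zero this

include p in
theorem nilradical_eq_map
    (hnil : ∀ b : B, algebraMap B K b = 0 → IsNilpotent (algebraMap B A b)) :
    nilradical A = (RingHom.ker (algebraMap B K)).map (algebraMap B A) := by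
  have hle := ker_le_of_isNilpotent (A := A) (K := K) p hnil
  apply le_antisymm
  · intro a ha
    obtain ⟨n, hn⟩ := mem_nilradical.mp ha
    obtain ⟨b, s, rfl⟩ := IsLocalization.exists_mk'_eq p.primeCompl a
    have h1 : (algebraMap B A b) ^ n = 0 := by
      have h2 : algebraMap B A b = IsLocalization.mk' A b s * algebraMap B A s :=
        (IsLocalization.mk'_spec A b s).symm
      rw [h2, mul_pow, hn, zero_mul]
    rw [← map_pow, IsLocalization.map_eq_zero_iff p.primeCompl] at h1
    obtain ⟨t, ht⟩ := h1
    have h3 : algebraMap B K (t.1 * b ^ n) = 0 := by rw [ht, map_zero]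
    rw [map_mul, map_pow] at h3
    have ht0 : algebraMap B K t.1 ≠ 0 := fun h0 => t.2 (hle (RingHom.mem_ker.mpr h0))
    have hb0 : algebraMap B K b = 0 := by
      rcases mul_eq_zero.mp h3 with h | h
      · exact absurd h ht0
      · exact pow_eq_zero_iff (fun hn0 => by
          subst hn0
          rw [pow_zero] at h
          exact one_ne_zero h) |>.mp h
    have hmem : b ∈ RingHom.ker (algebraMap B K) := RingHom.mem_ker.mpr hb0
    rw [IsLocalization.mk'_eq_mul_mk'_one]
    exact Ideal.mul_mem_right _ _ (Ideal.mem_map_of_mem _ hmem)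
  · rw [Ideal.map_le_iff_le_comap]
    intro b hb
    rw [Ideal.mem_comap, mem_nilradical]
    exact hnil b (RingHom.mem_ker.mp hb)

include p in
/-- **Geometric unibranchness of `A = B_p` via extensions to the integral closure of `B` in `K`.**
`K` is a field which is the fraction field of the image of `B` and the kernel of `B → K` is nil
in `A`. -/
theorem isGeomUnibranch_iff_subsingleton_homOver
    (hfrac : ∀ z : K, ∃ b s : B, z = algebraMap B K b / algebraMap B K s)
    (hnil : ∀ b : B, algebraMap B K b = 0 → IsNilpotent (algebraMap B A b))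
    {Ω : Type*} [Field Ω] [IsAlgClosed Ω] (g : B →+* Ω) (hg : RingHom.ker g = p) :
    CAlg2.IsGeomUnibranch A ↔
      Subsingleton (HomOver (algebraMap B (integralClosure B K)) g) := by
  set P₀ := RingHom.ker (algebraMap B K) with hP₀
  haveI hP₀prime : P₀.IsPrime := RingHom.ker_isPrime _
  have hP₀p : P₀ ≤ p := ker_le_of_isNilpotent (A := A) (K := K) p hnil
  have hN : nilradical A = P₀.map (algebraMap B A) := nilradical_eq_map (A := A) (K := K) p hnil
  haveI hNprime : (nilradical A).IsPrime := by
    rw [hN]
    refine IsLocalization.isPrime_of_isPrime_disjoint p.primeCompl A P₀ hP₀prime ?_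
    rw [Set.disjoint_left]
    intro b hb hb'
    exact hb (hP₀p hb')
  rw [isGeomUnibranch_iff_quotient_nilradical A]
  -- the domain `D = B ⧸ P₀` and its localization `A ⧸ nil`
  have hcomap : P₀ ≤ (nilradical A).comap (algebraMap B A) := by
    rw [hN]; exact Ideal.le_comap_map
  let ρ : B ⧸ P₀ →+* A ⧸ nilradical A := Ideal.quotientMap (nilradical A) (algebraMap B A) hcomap
  letI algDA : Algebra (B ⧸ P₀) (A ⧸ nilradical A) := ρ.toAlgebra
  set pbar : Ideal (B ⧸ P₀) := p.map (Ideal.Quotient.mk P₀) with hpbar
  haveI hpbarprime : pbar.IsPrime :=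
    Ideal.map_isPrime_of_surjective Ideal.Quotient.mk_surjective (by rw [Ideal.mk_ker]; exact hP₀p)
  have hloc : IsLocalization (p.primeCompl.map (Ideal.Quotient.mk P₀)) (A ⧸ nilradical A) :=
    IsLocalization.of_surjective p.primeCompl A (Ideal.Quotient.mk P₀)
      Ideal.Quotient.mk_surjective (Ideal.Quotient.mk (nilradical A))
      Ideal.Quotient.mk_surjective rfl (by rw [Ideal.mk_ker, Ideal.mk_ker, hN])
  have hmonoid : p.primeCompl.map (Ideal.Quotient.mk P₀) = pbar.primeCompl := by
    ext d
    constructor
    · rintro ⟨b, hb, rfl⟩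
      intro hmem
      apply hb
      have h1 := Ideal.mem_comap.mpr hmem
      rwa [hpbar, Ideal.comap_map_of_surjective _ Ideal.Quotient.mk_surjective,
        ← RingHom.ker_eq_comap_bot, Ideal.mk_ker, sup_eq_left.mpr hP₀p] at h1
    · intro hd
      obtain ⟨b, rfl⟩ := Ideal.Quotient.mk_surjective d
      refine ⟨b, fun hb => hd (Ideal.mem_map_of_mem _ hb), rfl⟩
  haveI hlocAt : IsLocalization.AtPrime (A ⧸ nilradical A) pbar := by
    show IsLocalization pbar.primeCompl (A ⧸ nilradical A)
    rw [← hmonoid]; exact hloc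
  letI algDK : Algebra (B ⧸ P₀) K := (RingHom.kerLift (algebraMap B K)).toAlgebra
  haveI towBDK : IsScalarTower B (B ⧸ P₀) K := IsScalarTower.of_algebraMap_eq (fun b => rfl)
  haveI : FaithfulSMul (B ⧸ P₀) K :=
    (faithfulSMul_iff_algebraMap_injective _ _).mpr (RingHom.kerLift_injective (algebraMap B K))
  haveI : IsDomain (B ⧸ P₀) := Ideal.Quotient.isDomain P₀
  haveI hfracD : IsFractionRing (B ⧸ P₀) K := by
    refine IsFractionRing.of_field (B ⧸ P₀) K fun z => ?_
    obtain ⟨b, s, hz⟩ := hfrac z
    exact ⟨Ideal.Quotient.mk P₀ b, Ideal.Quotient.mk P₀ s, hz⟩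
  haveI : IsDomain (A ⧸ nilradical A) := Ideal.Quotient.isDomain _
  rw [isGeomUnibranch_iff_of_isDomain (B := B ⧸ P₀) (A := A ⧸ nilradical A) (K₀ := K) pbar]
  set gt : B ⧸ P₀ →+* AlgebraicClosure (ResidueField (A ⧸ nilradical A)) :=
    (Brnch.toClosure (A ⧸ nilradical A)).comp (algebraMap (B ⧸ P₀) (A ⧸ nilradical A)) with hgt
  -- tower `B → D → K`
  haveI : Algebra.IsIntegral B (B ⧸ P₀) :=
    Algebra.isIntegral_of_surjective Ideal.Quotient.mk_surjective
  let h₀ : HomOver (algebraMap B (B ⧸ P₀)) (gt.comp (Ideal.Quotient.mk P₀)) := ⟨gt, rfl⟩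
  have huniq : ∀ h : HomOver (algebraMap B (B ⧸ P₀)) (gt.comp (Ideal.Quotient.mk P₀)),
      h = h₀ := by
    intro h
    apply Subtype.ext
    exact (RingHom.cancel_right Ideal.Quotient.mk_surjective).mp h.2
  have hne : ∀ h : HomOver (algebraMap B (B ⧸ P₀)) (gt.comp (Ideal.Quotient.mk P₀)),
      Nonempty (HomOver (algebraMap (B ⧸ P₀) (integralClosure (B ⧸ P₀) K)) h.1) := by
    intro h
    rw [huniq h]
    exact nonempty_homOver_of_isDomain (B := B ⧸ P₀) (A := A ⧸ nilradical A) (K₀ := K) pbar
  have key := subsingleton_homOver_tower (B := B) (C := B ⧸ P₀) (K := K)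
    (gt.comp (Ideal.Quotient.mk P₀)) hne
  have hint : (algebraMap B (integralClosure B K)).IsIntegral :=
    algebraMap_isIntegral_iff.mpr inferInstance
  have hker : RingHom.ker (gt.comp (Ideal.Quotient.mk P₀)) = RingHom.ker g := by
    rw [hg]
    have h1 : gt.comp (Ideal.Quotient.mk P₀) =
        ((Brnch.toClosure (A ⧸ nilradical A)).comp (Ideal.Quotient.mk (nilradical A))).comp
          (algebraMap B A) := by
      ext b; rfl
    rw [h1, ← RingHom.comap_ker, ← RingHom.comap_ker,
      Groth.Agent.Lib.BrnchPI98.ker_toClosure]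
    have h2 : (maximalIdeal (A ⧸ nilradical A)).comap (Ideal.Quotient.mk (nilradical A)) =
        maximalIdeal A := by
      haveI : IsLocalHom (Ideal.Quotient.mk (nilradical A)) :=
        IsLocalHom.of_surjective _ Ideal.Quotient.mk_surjective
      exact IsLocalRing.maximalIdeal_comap (Ideal.Quotient.mk (nilradical A))
    rw [h2]
    exact IsLocalization.AtPrime.under_maximalIdeal A p
  rw [← subsingleton_homOver_congr _ hint _ g hker, key]
  constructor
  · intro hS
    exact ⟨⟨fun h₁ h₂ => (huniq h₁).trans (huniq h₂).symm⟩, fun h => by rw [huniq h]; exact hS⟩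
  · rintro ⟨-, hS⟩
    exact hS h₀

end General

section TowerGU

variable {B C K A : Type u} [CommRing B] [CommRing C] [Field K] [Algebra B C] [Algebra C K]
  [Algebra B K] [IsScalarTower B C K] [Algebra.IsIntegral B C] [CommRing A] [Algebra B A]
  (p : Ideal B) [p.IsPrime] [IsLocalization.AtPrime A p] [IsLocalRing A]

include p in
/-- **Ring form of the criterion**: `B → C` integral, `K` a field over `C` which is the fraction
field of the image of `B`, the kernel of `B → K` nil in `A = B_p` and the kernel of `C → K`
contained in all primes over `p`.  Then `A` is geometrically unibranch iff `B → Ω` has a unique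
extension to `C` and every such extension extends uniquely to the integral closure of `C`. -/
theorem isGeomUnibranch_iff_tower
    (hfrac : ∀ z : K, ∃ b s : B, z = algebraMap B K b / algebraMap B K s)
    (hnil : ∀ b : B, algebraMap B K b = 0 → IsNilpotent (algebraMap B A b))
    (hker : ∀ q : Ideal C, q.IsPrime → q.comap (algebraMap B C) = p →
      RingHom.ker (algebraMap C K) ≤ q)
    {Ω : Type*} [Field Ω] [IsAlgClosed Ω] (g : B →+* Ω) (hg : RingHom.ker g = p) :
    CAlg2.IsGeomUnibranch A ↔
      Subsingleton (HomOver (algebraMap B C) g) ∧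
        ∀ h : HomOver (algebraMap B C) g,
          Subsingleton (HomOver (algebraMap C (integralClosure C K)) h.1) := by
  rw [isGeomUnibranch_iff_subsingleton_homOver (A := A) (K := K) p hfrac hnil g hg]
  refine subsingleton_homOver_tower g (fun h => ?_)
  apply nonempty_homOver_of_ker_le _ (algebraMap_isIntegral_iff.mpr inferInstance)
  have hq : (RingHom.ker h.1).comap (algebraMap B C) = p := by rw [RingHom.comap_ker, h.2, hg]
  haveI := RingHom.ker_isPrime h.1
  refine le_trans ?_ (hker _ inferInstance hq)
  intro c hc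
  rw [RingHom.mem_ker] at hc ⊢
  exact congrArg Subtype.val hc

end TowerGU

end Groth.Agent.Lib.IntBirGU96
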