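/-
helper96: generic points, specialization and nilpotent germs.
* `eq_of_specializes_of_mem_genericPoints`, `mem_genericPoints_of_forall`,
  `exists_genericPoints_specializes`: generic points of components of a T0 quasi-sober space are
  the points without proper generizations, and every point has a generic generization.
* `isNilpotent_germ`: if `x₀` specializes to every generization of `x` and a section `c` vanishes
  at `x₀`, then the germ of `c` at `x` is nilpotent.
* `exists_generic_of_isPrime_nilradical`: if the nilradical of the stalk at `x` is prime there is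
  a point `x₀` specializing to all generizations of `x`.
-/
import Mathlib

set_option autoImplicit false
set_option linter.style.haveILetI false
universe u

open CategoryTheory AlgebraicGeometry

namespace Groth.Agent.Lib.IntBirGU96

section Top

variable {α : Type*} [TopologicalSpace α]

theorem eq_of_specializes_of_mem_genericPoints [T0Space α] {x z : α} (hx : x ∈ genericPoints α)
    (hz : z ⤳ x) : z = x := by
  have hx' : Maximal IsIrreducible (closure {x}) := hx
  have hle : closure {x} ⊆ closure {z} := hz.closure_subset
  have hirr : IsIrreducible (closure {z}) := isIrreducible_singleton.closure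
  have heq : closure {z} ⊆ closure {x} := hx'.2 hirr hle
  have hxz : x ⤳ z := specializes_iff_closure_subset.mpr heq
  exact (hz.antisymm hxz).eq

theorem mem_genericPoints_of_forall [QuasiSober α] {x : α} (h : ∀ z : α, z ⤳ x → x ⤳ z) :
    x ∈ genericPoints α := by
  show Maximal IsIrreducible (closure {x})
  refine ⟨isIrreducible_singleton.closure, fun Z hZ hle => ?_⟩
  have hZc : IsIrreducible (closure Z) := hZ.closure
  set z := hZc.genericPoint with hzdef
  have hz : IsGenericPoint z (closure Z) := hZc.isGenericPoint_genericPoint isClosed_closure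
  have hxZ : x ∈ closure Z := subset_closure (hle (subset_closure (Set.mem_singleton x)))
  have hzx : z ⤳ x := hz.specializes hxZ
  have hxz : x ⤳ z := h z hzx
  calc Z ⊆ closure Z := subset_closure
    _ = closure {z} := hz.def.symm
    _ ⊆ closure {x} := hxz.closure_subset

theorem exists_genericPoints_specializes [QuasiSober α] (x : α) :
    ∃ z ∈ genericPoints α, z ⤳ x := by
  have hirr := isIrreducible_irreducibleComponent (x := x)
  have hcl : IsClosed (irreducibleComponent x) := isClosed_irreducibleComponent
  have hz : IsGenericPoint hirr.genericPoint (irreducibleComponent x) :=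
    hirr.isGenericPoint_genericPoint hcl
  refine ⟨hirr.genericPoint, ?_, hz.specializes mem_irreducibleComponent⟩
  change closure {hirr.genericPoint} ∈ irreducibleComponents α
  rw [hz.def]
  exact irreducibleComponent_mem_irreducibleComponents x

end Top

section Nil

variable {X : Scheme.{u}}

/-- A prime of the stalk at `x` not containing the germ of `c` maps into the basic open of `c`. -/
theorem fromSpecStalk_mem_basicOpen {x : X} {U : X.Opens} (hx : x ∈ U) (c : Γ(X, U))
    (a : Spec (X.presheaf.stalk x)) (ha : X.presheaf.germ U x hx c ∉ a.asIdeal) :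
    X.fromSpecStalk x a ∈ X.basicOpen c := by
  show a ∈ (X.fromSpecStalk x) ⁻¹ᵁ X.basicOpen c
  rw [Scheme.preimage_basicOpen, Scheme.fromSpecStalk_app hx]
  simp only [CommRingCat.comp_apply]
  rw [Scheme.basicOpen_res, basicOpen_eq_of_affine]
  refine ⟨?_, ha⟩
  show X.fromSpecStalk x a ∈ U
  have h1 : X.fromSpecStalk x a ⤳ x := by
    have : X.fromSpecStalk x a ∈ Set.range (X.fromSpecStalk x) := ⟨a, rfl⟩
    rw [Scheme.range_fromSpecStalk] at this
    exact this
  exact h1.mem_open U.isOpen hx

/-- If `x₀` specializes to every generization of `x` and `c` vanishes at `x₀`, the germ of `c` at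
`x` is nilpotent. -/
theorem isNilpotent_germ {x x₀ : X} (h : ∀ z : X, z ⤳ x → x₀ ⤳ z) {U : X.Opens} (hx : x ∈ U)
    (c : Γ(X, U)) (hc : x₀ ∉ X.basicOpen c) : IsNilpotent (X.presheaf.germ U x hx c) := by
  rw [nilpotent_iff_mem_prime]
  intro J hJ
  by_contra hcon
  let a : Spec (X.presheaf.stalk x) := ⟨J, hJ⟩
  have h1 := fromSpecStalk_mem_basicOpen hx c a hcon
  have h2 : X.fromSpecStalk x a ⤳ x := by
    have : X.fromSpecStalk x a ∈ Set.range (X.fromSpecStalk x) := ⟨a, rfl⟩
    rw [Scheme.range_fromSpecStalk] at this
    exact this
  exact hc ((h _ h2).mem_open (X.basicOpen c).isOpen h1)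

/-- If the nilradical of the stalk at `x` is prime, some point specializes to every generization
of `x`. -/
theorem exists_generic_of_isPrime_nilradical (x : X)
    (hN : (nilradical (X.presheaf.stalk x)).IsPrime) : ∃ x₀ : X, ∀ z : X, z ⤳ x → x₀ ⤳ z := by
  refine ⟨X.fromSpecStalk x ⟨nilradical (X.presheaf.stalk x), hN⟩, fun z hz => ?_⟩
  have : z ∈ Set.range (X.fromSpecStalk x) := by
    rw [Scheme.range_fromSpecStalk]; exact hz
  obtain ⟨a, rfl⟩ := this
  refine Specializes.map ?_ (X.fromSpecStalk x).continuous
  exact (PrimeSpectrum.le_iff_specializes (R := X.presheaf.stalk x)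
    ⟨nilradical (X.presheaf.stalk x), hN⟩ a).mp (nilradical_le_prime a.asIdeal)

end Nil

end Groth.Agent.Lib.IntBirGU96
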