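import Groth.Prelude.Def_EGA4Misc
import Mathlib.AlgebraicGeometry.Morphisms.UniversallyInjective
import Mathlib.AlgebraicGeometry.PullbackCarrier

set_option autoImplicit false
universe u

open CategoryTheory AlgebraicGeometry CategoryTheory.Limits

namespace Groth.Agent.Lib.RadPtPoints

set_option backward.isDefEq.respectTransparency.types false in
set_option backward.defeqAttrib.useBackward true in
/-- Field-valued points criterion, forward direction. -/
theorem eq_of_isRadicialAt {X Y : Scheme.{u}} (f : X ⟶ Y) (y : Y) (hf : RadPt.IsRadicialAt f y)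
    (K : Type u) [Field K] (g₁ g₂ : Spec (.of K) ⟶ X) (hg : g₁ ≫ f = g₂ ≫ f)
    (hy : (g₁ ≫ f) (IsLocalRing.closedPoint K) = y) : g₁ = g₂ := by
  obtain ⟨h_inj, hpi⟩ := hf
  obtain ⟨e, h⟩ := Scheme.SpecToEquivOfField_eq_iff.mp congr((Y.SpecToEquivOfField K) $(hg))
  apply (X.SpecToEquivOfField K).injective
  dsimp at e h
  simp only [Scheme.descResidueField_stalkClosedPointTo_comp] at e h
  have hx₁ : f (g₁ (IsLocalRing.closedPoint K)) = y := hy
  have hx₂ : f (g₂ (IsLocalRing.closedPoint K)) = y := by rw [← hy, hg]; rfl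
  have e' : g₁ (IsLocalRing.closedPoint K) = g₂ (IsLocalRing.closedPoint K) :=
    h_inj _ _ hx₁ hx₂
  rw [← f.residueFieldMap_congr'_assoc e', CommRingCat.hom_ext_iff] at h
  rw [Scheme.SpecToEquivOfField_eq_iff]
  let x := g₁ (IsLocalRing.closedPoint K)
  have hfx := hpi x hx₁
  algebraize [(f.residueFieldMap (g₁ (IsLocalRing.closedPoint K))).hom]
  refine ⟨e', CommRingCat.hom_ext ?_⟩
  exact IsPurelyInseparable.injective_comp_algebraMap
    (Y.residueField (f x)) (X.residueField x) _ h

set_option backward.isDefEq.respectTransparency.types false in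
set_option backward.defeqAttrib.useBackward true in
/-- Field-valued points criterion, backward direction. -/
theorem isRadicialAt_of_eq {X Y : Scheme.{u}} (f : X ⟶ Y) (y : Y)
    (H : ∀ (K : Type u) [Field K] (g₁ g₂ : Spec (.of K) ⟶ X), g₁ ≫ f = g₂ ≫ f →
      (g₁ ≫ f) (IsLocalRing.closedPoint K) = y → g₁ = g₂) : RadPt.IsRadicialAt f y := by
  constructor
  · intro x₁ x₂ h₁ h₂
    obtain ⟨z, hz₁, hz₂⟩ := Scheme.Pullback.exists_preimage_pullback x₁ x₂ (h₁.trans h₂.symm)
    let φ := (pullback f f).fromSpecResidueField z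
    have key := H ((pullback f f).residueField z) (φ ≫ pullback.fst f f) (φ ≫ pullback.snd f f)
      (by simp [pullback.condition]) (by
        rw [Category.assoc, Scheme.Hom.comp_apply, Scheme.Hom.comp_apply,
          Scheme.fromSpecResidueField_apply, hz₁, h₁])
    have := congr($key (IsLocalRing.closedPoint _))
    rw [Scheme.Hom.comp_apply, Scheme.Hom.comp_apply, Scheme.fromSpecResidueField_apply,
      hz₁, hz₂] at this
    exact this
  · intro x hx
    algebraize [(f.residueFieldMap x).hom]
    rw [RingHom.IsPurelyInseparable, isPurelyInseparable_iff_subsingleton_emb, subsingleton_iff]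
    intro σ₁ σ₂
    apply AlgHom.coe_ringHom_injective
    let g₁ := (X.SpecToEquivOfField _).symm ⟨_, CommRingCat.ofHom σ₁.toRingHom⟩
    let g₂ := (X.SpecToEquivOfField _).symm ⟨_, CommRingCat.ofHom σ₂.toRingHom⟩
    suffices X.SpecToEquivOfField _ g₁ = X.SpecToEquivOfField _ g₂ by
      rw [Equiv.apply_symm_apply, Equiv.apply_symm_apply] at this
      exact congr($(this).2.hom)
    congr 1
    apply H
    · simp only [g₁, g₂, Scheme.SpecToEquivOfField_symm_apply, AlgHom.toRingHom_eq_coe,
        Category.assoc, ← f.SpecMap_residueFieldMap_fromSpecResidueField x, ← Spec.map_comp_assoc]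
      congr 2
      ext a
      simp only [CommRingCat.hom_comp, RingHom.comp_apply]
      exact (AlgHom.commutes σ₁ a).trans (AlgHom.commutes σ₂ a).symm
    · simp only [g₁, Scheme.SpecToEquivOfField_symm_apply, Category.assoc, Scheme.Hom.comp_apply,
        Scheme.fromSpecResidueField_apply]
      exact hx

end Groth.Agent.Lib.RadPtPoints
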