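/-
helper96: field-valued points of a scheme through an affine open and ring homomorphisms;
`RadPt.IsRadicialAt` in terms of `HomOver` on affine charts.
-/
import Mathlib
import Groth.Agent.Lib.IntBirGU96A
import Groth.Agent.Lib.RadPtPoints

set_option autoImplicit false
set_option linter.style.haveILetI false
universe u

open CategoryTheory AlgebraicGeometry

namespace Groth.Agent.Lib.IntBirGU96

open Groth.Agent.Lib.BrnchSum98

section Points

variable {X : Scheme.{u}} {U : X.Opens} (hU : IsAffineOpen U)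

/-- The field-valued point of `X` through the affine open `U` given by a ring map. -/
noncomputable def fieldPt {K : Type u} [Field K] (h : Γ(X, U) →+* K) : Spec (.of K) ⟶ X :=
  Spec.map (CommRingCat.ofHom h) ≫ hU.fromSpec

theorem closedPoint_eq {K : Type u} [Field K] {R : Type u} [CommRing R] (h : R →+* K) :
    (Spec.map (CommRingCat.ofHom h)) (IsLocalRing.closedPoint K) =
      (⟨RingHom.ker h, RingHom.ker_isPrime h⟩ : PrimeSpectrum R) := by
  apply PrimeSpectrum.ext
  show (IsLocalRing.maximalIdeal K).comap h = RingHom.ker h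
  rw [IsLocalRing.maximalIdeal_eq_bot, RingHom.ker_eq_comap_bot]

theorem fieldPt_closedPoint {K : Type u} [Field K] (h : Γ(X, U) →+* K) :
    fieldPt hU h (IsLocalRing.closedPoint K) =
      hU.fromSpec (⟨RingHom.ker h, RingHom.ker_isPrime h⟩ : PrimeSpectrum Γ(X, U)) := by
  rw [fieldPt, Scheme.Hom.comp_apply, closedPoint_eq]

theorem fieldPt_injective {K : Type u} [Field K] {h₁ h₂ : Γ(X, U) →+* K}
    (h : fieldPt hU h₁ = fieldPt hU h₂) : h₁ = h₂ := by
  have h1 : Spec.map (CommRingCat.ofHom h₁) = Spec.map (CommRingCat.ofHom h₂) :=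
    (cancel_mono hU.fromSpec).mp h
  have h2 := Spec.map_injective h1
  exact congrArg CommRingCat.Hom.hom h2

theorem exists_fieldPt_eq {K : Type u} [Field K] (g : Spec (.of K) ⟶ X)
    (hg : g (IsLocalRing.closedPoint K) ∈ U) : ∃ h : Γ(X, U) →+* K, g = fieldPt hU h := by
  have hrange : Set.range g ⊆ Set.range hU.fromSpec := by
    rw [hU.range_fromSpec]
    rintro _ ⟨s, rfl⟩
    have : s = IsLocalRing.closedPoint K := Subsingleton.elim _ _
    rw [this]; exact hg
  let g' := IsOpenImmersion.lift hU.fromSpec g hrange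
  have hg' : g' ≫ hU.fromSpec = g := IsOpenImmersion.lift_fac _ _ _
  obtain ⟨ψ, hψ⟩ := Spec.map_surjective g'
  refine ⟨ψ.hom, ?_⟩
  rw [fieldPt, ← hg', ← hψ]
  rfl

end Points

section Radicial

variable {X Y : Scheme.{u}} (f : X ⟶ Y) {V : Y.Opens} (hV : IsAffineOpen V)
  (hU : IsAffineOpen (f ⁻¹ᵁ V))

theorem fromSpec_comp_eq :
    Spec.map (f.app V) ≫ hV.fromSpec = hU.fromSpec ≫ f := by
  rw [Scheme.Hom.app_eq_appLE]
  exact IsAffineOpen.SpecMap_appLE_fromSpec f hV hU le_rfl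

theorem fieldPt_comp {K : Type u} [Field K] (h : Γ(X, f ⁻¹ᵁ V) →+* K) :
    fieldPt hU h ≫ f = fieldPt hV (h.comp (f.app V).hom) := by
  rw [fieldPt, fieldPt, Category.assoc, ← fromSpec_comp_eq f hV hU, ← Category.assoc,
    ← Spec.map_comp]
  rfl

theorem fromSpec_ker_eq_iff {y : Y} (hy : y ∈ V) {K : Type*} [Field K] (g : Γ(Y, V) →+* K) :
    hV.fromSpec (⟨RingHom.ker g, RingHom.ker_isPrime g⟩ : PrimeSpectrum Γ(Y, V)) = y ↔
      RingHom.ker g = (hV.primeIdealOf ⟨y, hy⟩).asIdeal := by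
  constructor
  · intro h
    have h1 : hV.fromSpec (hV.primeIdealOf ⟨y, hy⟩) = y := hV.fromSpec_primeIdealOf ⟨y, hy⟩
    have h2 := hV.fromSpec.isOpenEmbedding.injective (h.trans h1.symm)
    exact congrArg PrimeSpectrum.asIdeal h2
  · intro h
    have h1 : (⟨RingHom.ker g, RingHom.ker_isPrime g⟩ : PrimeSpectrum Γ(Y, V)) =
        hV.primeIdealOf ⟨y, hy⟩ := PrimeSpectrum.ext h
    rw [h1]
    exact hV.fromSpec_primeIdealOf ⟨y, hy⟩

include hU in
theorem subsingleton_homOver_of_isRadicialAt {y : Y} (hy : y ∈ V)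
    (hrad : RadPt.IsRadicialAt f y) {Ω : Type u} [Field Ω] (g : Γ(Y, V) →+* Ω)
    (hg : RingHom.ker g = (hV.primeIdealOf ⟨y, hy⟩).asIdeal) :
    Subsingleton (HomOver (f.app V).hom g) := by
  refine ⟨fun h₁ h₂ => Subtype.ext (fieldPt_injective hU ?_)⟩
  apply Groth.Agent.Lib.RadPtPoints.eq_of_isRadicialAt f y hrad Ω
  · rw [fieldPt_comp f hV hU, fieldPt_comp f hV hU, h₁.2, h₂.2]
  · rw [fieldPt_comp f hV hU, h₁.2, fieldPt_closedPoint]
    exact (fromSpec_ker_eq_iff hV hy g).mpr hg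

include hU in
theorem isRadicialAt_of_subsingleton_homOver (hint : (f.app V).hom.IsIntegral) {y : Y}
    (hy : y ∈ V) {Ω : Type*} [Field Ω] [IsAlgClosed Ω] (g : Γ(Y, V) →+* Ω)
    (hg : RingHom.ker g = (hV.primeIdealOf ⟨y, hy⟩).asIdeal)
    (hS : Subsingleton (HomOver (f.app V).hom g)) : RadPt.IsRadicialAt f y := by
  apply Groth.Agent.Lib.RadPtPoints.isRadicialAt_of_eq
  intro K _ g₁ g₂ h12 hc
  have hg₁U : g₁ (IsLocalRing.closedPoint K) ∈ f ⁻¹ᵁ V := by
    show f (g₁ (IsLocalRing.closedPoint K)) ∈ V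
    rw [← Scheme.Hom.comp_apply, hc]; exact hy
  have hg₂U : g₂ (IsLocalRing.closedPoint K) ∈ f ⁻¹ᵁ V := by
    show f (g₂ (IsLocalRing.closedPoint K)) ∈ V
    rw [← Scheme.Hom.comp_apply, ← h12, hc]; exact hy
  obtain ⟨h₁, rfl⟩ := exists_fieldPt_eq hU g₁ hg₁U
  obtain ⟨h₂, rfl⟩ := exists_fieldPt_eq hU g₂ hg₂U
  rw [fieldPt_comp f hV hU, fieldPt_comp f hV hU] at h12
  have h12' : h₁.comp (f.app V).hom = h₂.comp (f.app V).hom := fieldPt_injective hV h12
  rw [fieldPt_comp f hV hU, fieldPt_closedPoint] at hc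
  have hker : RingHom.ker (h₁.comp (f.app V).hom) = (hV.primeIdealOf ⟨y, hy⟩).asIdeal :=
    (fromSpec_ker_eq_iff hV hy _).mp hc
  let j : K →+* AlgebraicClosure K := algebraMap K (AlgebraicClosure K)
  have hkerj : RingHom.ker g = RingHom.ker (j.comp (h₁.comp (f.app V).hom)) := by
    rw [hg, ← hker]
    ext b
    simp only [RingHom.mem_ker, RingHom.comp_apply]
    exact (map_eq_zero_iff j j.injective).symm
  have hS' : Subsingleton (HomOver (f.app V).hom (j.comp (h₁.comp (f.app V).hom))) :=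
    (subsingleton_homOver_congr (f.app V).hom hint g _ hkerj).mp hS
  have h3 := hS'.elim ⟨j.comp h₁, rfl⟩ ⟨j.comp h₂, by rw [RingHom.comp_assoc, ← h12']⟩
  have h4 : h₁ = h₂ := by
    ext c
    exact j.injective (RingHom.congr_fun (congrArg Subtype.val h3) c)
  rw [h4]

end Radicial

end Groth.Agent.Lib.IntBirGU96
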