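/-
helper96: integral morphisms which are "birational near `y`": geometric unibranchness of the
target at `y` iff radicial at `y` and geometric unibranchness of the source over `y`.
-/
import Mathlib
import Groth.Agent.Lib.IntBirGU96B
import Groth.Agent.Lib.IntBirGU96C
import Groth.Agent.Lib.IntBirGU96D

set_option autoImplicit false
set_option linter.style.haveILetI false
universe u

open CategoryTheory AlgebraicGeometry

namespace Groth.Agent.Lib.IntBirGU96

open Groth.Agent.Lib.BrnchSum98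

theorem ker_gCan {B : Type u} [CommRing B] (p : Ideal B) [p.IsPrime] :
    RingHom.ker (gCan p) = p := by
  unfold gCan
  rw [← RingHom.comap_ker,
    (RingHom.injective_iff_ker_eq_bot _).mp (algebraMap p.ResidueField _).injective,
    ← RingHom.ker_eq_comap_bot, Ideal.ker_algebraMap_residueField]

set_option maxHeartbeats 1600000 in
/-- Core statement: `x₀` is a point of `X` such that `f x₀` specializes to every generization of
`y`, `x₀` specializes to every generization of every point over `y`, and `f` induces a bijection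
of residue fields at `x₀`. -/
theorem core {X Y : Scheme.{u}} (f : X ⟶ Y) [IsIntegralHom f] (y : Y) (x₀ : X)
    (hη : ∀ z : Y, z ⤳ y → f x₀ ⤳ z)
    (hbij : Function.Bijective (f.residueFieldMap x₀).hom)
    (hx₀ : ∀ x : X, f x = y → ∀ z : X, z ⤳ x → x₀ ⤳ z) :
    CAlg2.IsGeomUnibranch (Y.presheaf.stalk y) ↔
      (RadPt.IsRadicialAt f y ∧
        ∀ x : X, f x = y → CAlg2.IsGeomUnibranch (X.presheaf.stalk x)) := by
  obtain ⟨V, hV, hyV⟩ : ∃ V : Y.Opens, IsAffineOpen V ∧ y ∈ V := by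
    obtain ⟨_, ⟨V, hV, rfl⟩, hyV, -⟩ :=
      Y.isBasis_affineOpens.exists_subset_of_mem_open (Set.mem_univ y) isOpen_univ
    exact ⟨V, hV, hyV⟩
  have hU : IsAffineOpen (f ⁻¹ᵁ V) := hV.preimage f
  have hηV : f x₀ ∈ V := (hη y specializes_rfl).mem_open V.isOpen hyV
  have hx₀U : x₀ ∈ f ⁻¹ᵁ V := hηV
  have hint : (f.app V).hom.IsIntegral := f.isIntegral_app V hV
  letI algBC : Algebra Γ(Y, V) Γ(X, f ⁻¹ᵁ V) := (f.app V).hom.toAlgebra
  haveI intBC : Algebra.IsIntegral Γ(Y, V) Γ(X, f ⁻¹ᵁ V) := ⟨hint⟩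
  letI algCK : Algebra Γ(X, f ⁻¹ᵁ V) (X.residueField x₀) :=
    (X.evaluation (f ⁻¹ᵁ V) x₀ hx₀U).hom.toAlgebra
  letI algBK : Algebra Γ(Y, V) (X.residueField x₀) :=
    ((X.evaluation (f ⁻¹ᵁ V) x₀ hx₀U).hom.comp (f.app V).hom).toAlgebra
  haveI tow : IsScalarTower Γ(Y, V) Γ(X, f ⁻¹ᵁ V) (X.residueField x₀) :=
    IsScalarTower.of_algebraMap_eq (fun _ => rfl)
  letI algBA : Algebra Γ(Y, V) (Y.presheaf.stalk y) := Y.presheaf.algebra_section_stalk ⟨y, hyV⟩
  haveI locA : IsLocalization.AtPrime (Y.presheaf.stalk y) (hV.primeIdealOf ⟨y, hyV⟩).asIdeal :=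
    hV.isLocalization_stalk ⟨y, hyV⟩
  set p : Ideal Γ(Y, V) := (hV.primeIdealOf ⟨y, hyV⟩).asIdeal with hp
  -- evaluation in `K` in terms of the residue field of `f x₀`
  have hevB : ∀ b : Γ(Y, V), algebraMap Γ(Y, V) (X.residueField x₀) b =
      (f.residueFieldMap x₀).hom ((Y.evaluation V (f x₀) hηV).hom b) := by
    intro b
    exact (Scheme.evaluation_naturality_apply f x₀ hηV b).symm
  -- `hfrac`
  have hfrac : ∀ z : X.residueField x₀, ∃ b s : Γ(Y, V),
      z = algebraMap Γ(Y, V) (X.residueField x₀) b / algebraMap Γ(Y, V) (X.residueField x₀) s := by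
    intro z
    obtain ⟨z', rfl⟩ := hbij.2 z
    obtain ⟨a, rfl⟩ := Y.residue_surjective (f x₀) z'
    letI algBη : Algebra Γ(Y, V) (Y.presheaf.stalk (f x₀)) :=
      Y.presheaf.algebra_section_stalk ⟨f x₀, hηV⟩
    haveI locη : IsLocalization.AtPrime (Y.presheaf.stalk (f x₀))
        (hV.primeIdealOf ⟨f x₀, hηV⟩).asIdeal := hV.isLocalization_stalk ⟨f x₀, hηV⟩
    obtain ⟨b, s, rfl⟩ := IsLocalization.exists_mk'_eq
      (hV.primeIdealOf ⟨f x₀, hηV⟩).asIdeal.primeCompl a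
    refine ⟨b, s.1, ?_⟩
    have hs : IsUnit (algebraMap Γ(Y, V) (Y.presheaf.stalk (f x₀)) s.1) :=
      IsLocalization.map_units _ s
    have hs' : algebraMap Γ(Y, V) (X.residueField x₀) s.1 ≠ 0 := by
      rw [hevB]
      exact ((hs.map (Y.residue (f x₀)).hom).map (f.residueFieldMap x₀).hom).ne_zero
    rw [eq_div_iff hs', hevB, hevB]
    have h1 := IsLocalization.mk'_spec (Y.presheaf.stalk (f x₀)) b s
    have h2 := congrArg (fun t => (f.residueFieldMap x₀).hom ((Y.residue (f x₀)).hom t)) h1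
    simp only [map_mul] at h2
    exact h2
  -- vanishing in `K` means vanishing at `f x₀` resp. `x₀`
  have hvanB : ∀ b : Γ(Y, V), algebraMap Γ(Y, V) (X.residueField x₀) b = 0 →
      f x₀ ∉ Y.basicOpen b := by
    intro b hb
    rw [hevB, map_eq_zero_iff _ (f.residueFieldMap x₀).hom.injective] at hb
    exact (Scheme.evaluation_eq_zero_iff_notMem_basicOpen Y (f x₀) hηV b).mp hb
  have hvanC : ∀ c : Γ(X, f ⁻¹ᵁ V), algebraMap Γ(X, f ⁻¹ᵁ V) (X.residueField x₀) c = 0 →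
      x₀ ∉ X.basicOpen c := by
    intro c hc
    exact (Scheme.evaluation_eq_zero_iff_notMem_basicOpen X x₀ hx₀U c).mp hc
  have hnilB : ∀ b : Γ(Y, V), algebraMap Γ(Y, V) (X.residueField x₀) b = 0 →
      IsNilpotent (algebraMap Γ(Y, V) (Y.presheaf.stalk y) b) := by
    intro b hb
    exact isNilpotent_germ hη hyV b (hvanB b hb)
  have hnilC : ∀ (x : X) (hx : f x = y) (hxU : x ∈ f ⁻¹ᵁ V) (c : Γ(X, f ⁻¹ᵁ V)),
      algebraMap Γ(X, f ⁻¹ᵁ V) (X.residueField x₀) c = 0 →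
      IsNilpotent (X.presheaf.germ (f ⁻¹ᵁ V) x hxU c) := by
    intro x hx hxU c hc
    exact isNilpotent_germ (hx₀ x hx) hxU c (hvanC c hc)
  have hfracC : ∀ z : X.residueField x₀, ∃ c s : Γ(X, f ⁻¹ᵁ V),
      z = algebraMap Γ(X, f ⁻¹ᵁ V) (X.residueField x₀) c /
        algebraMap Γ(X, f ⁻¹ᵁ V) (X.residueField x₀) s := by
    intro z
    obtain ⟨b, s, hz⟩ := hfrac z
    exact ⟨(f.app V).hom b, (f.app V).hom s, hz⟩
  -- points over `y` and primes over `p`
  have hfx : ∀ Q : PrimeSpectrum Γ(X, f ⁻¹ᵁ V), Q.asIdeal.comap (f.app V).hom = p →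
      f (hU.fromSpec Q) = y := by
    intro Q hQ
    have h1 : f (hU.fromSpec Q) = hV.fromSpec (Spec.map (f.app V) Q) := by
      rw [← Scheme.Hom.comp_apply, ← fromSpec_comp_eq f hV hU, Scheme.Hom.comp_apply]
    have h2 : Spec.map (f.app V) Q = hV.primeIdealOf ⟨y, hyV⟩ := PrimeSpectrum.ext hQ
    rw [h1, h2, hV.fromSpec_primeIdealOf]
  have hmemU : ∀ Q : PrimeSpectrum Γ(X, f ⁻¹ᵁ V), hU.fromSpec Q ∈ f ⁻¹ᵁ V := by
    intro Q
    have : hU.fromSpec Q ∈ Set.range hU.fromSpec := ⟨Q, rfl⟩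
    rw [hU.range_fromSpec] at this
    exact this
  -- the ring statement at a prime `Q` over `p`
  have hT1 : ∀ (Q : PrimeSpectrum Γ(X, f ⁻¹ᵁ V)), Q.asIdeal.comap (f.app V).hom = p →
      ∀ (h : Γ(X, f ⁻¹ᵁ V) →+* AlgebraicClosure p.ResidueField), RingHom.ker h = Q.asIdeal →
      (CAlg2.IsGeomUnibranch (X.presheaf.stalk (hU.fromSpec Q)) ↔
        Subsingleton (HomOver (algebraMap Γ(X, f ⁻¹ᵁ V)
          (integralClosure Γ(X, f ⁻¹ᵁ V) (X.residueField x₀))) h)) := by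
    intro Q hQ h hh
    letI algCA : Algebra Γ(X, f ⁻¹ᵁ V) (X.presheaf.stalk (hU.fromSpec Q)) :=
      X.presheaf.algebra_section_stalk ⟨hU.fromSpec Q, hmemU Q⟩
    haveI locQ : IsLocalization.AtPrime (X.presheaf.stalk (hU.fromSpec Q)) Q.asIdeal :=
      hU.isLocalization_stalk' Q (hmemU Q)
    exact isGeomUnibranch_iff_subsingleton_homOver (A := X.presheaf.stalk (hU.fromSpec Q))
      (K := X.residueField x₀) Q.asIdeal hfracC
      (fun c hc => hnilC _ (hfx Q hQ) (hmemU Q) c hc) h hh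
  have hker : ∀ q : Ideal Γ(X, f ⁻¹ᵁ V), q.IsPrime →
      q.comap (algebraMap Γ(Y, V) Γ(X, f ⁻¹ᵁ V)) = p →
      RingHom.ker (algebraMap Γ(X, f ⁻¹ᵁ V) (X.residueField x₀)) ≤ q := by
    intro q hq hqp
    let Q : PrimeSpectrum Γ(X, f ⁻¹ᵁ V) := ⟨q, hq⟩
    letI algCA : Algebra Γ(X, f ⁻¹ᵁ V) (X.presheaf.stalk (hU.fromSpec Q)) :=
      X.presheaf.algebra_section_stalk ⟨hU.fromSpec Q, hmemU Q⟩
    haveI locQ : IsLocalization.AtPrime (X.presheaf.stalk (hU.fromSpec Q)) Q.asIdeal :=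
      hU.isLocalization_stalk' Q (hmemU Q)
    exact ker_le_of_isNilpotent (A := X.presheaf.stalk (hU.fromSpec Q))
      (K := X.residueField x₀) Q.asIdeal
      (fun c hc => hnilC _ (hfx Q hqp) (hmemU Q) c hc)
  -- the algebraically closed field
  let g : Γ(Y, V) →+* AlgebraicClosure p.ResidueField := gCan p
  have hg : RingHom.ker g = p := ker_gCan p
  rw [isGeomUnibranch_iff_tower (A := Y.presheaf.stalk y) (K := X.residueField x₀) p hfrac hnilB
    hker g hg]
  refine and_congr ?_ ?_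
  · exact ⟨isRadicialAt_of_subsingleton_homOver f hV hU hint hyV g hg,
      fun h => subsingleton_homOver_of_isRadicialAt f hV hU hyV h g hg⟩
  · constructor
    · intro H x hx
      have hxU : x ∈ f ⁻¹ᵁ V := by show f x ∈ V; rw [hx]; exact hyV
      have hxr : x ∈ Set.range hU.fromSpec := by rw [hU.range_fromSpec]; exact hxU
      obtain ⟨Q, rfl⟩ := hxr
      have hQ : Q.asIdeal.comap (f.app V).hom = p := by
        have h1 : f (hU.fromSpec Q) = hV.fromSpec (Spec.map (f.app V) Q) := by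
          rw [← Scheme.Hom.comp_apply, ← fromSpec_comp_eq f hV hU, Scheme.Hom.comp_apply]
        rw [h1] at hx
        have h2 : hV.fromSpec (hV.primeIdealOf ⟨y, hyV⟩) = y := hV.fromSpec_primeIdealOf ⟨y, hyV⟩
        have h3 := hV.fromSpec.isOpenEmbedding.injective (hx.trans h2.symm)
        exact congrArg PrimeSpectrum.asIdeal h3
      obtain ⟨h, hh, hhk⟩ := exists_homOver_ker_eq (f.app V).hom hint g Q.asIdeal
        (by rw [hQ, hg])
      rw [hT1 Q hQ h hhk]
      exact H ⟨h, hh⟩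
    · intro H h
      let Q : PrimeSpectrum Γ(X, f ⁻¹ᵁ V) := ⟨RingHom.ker h.1, RingHom.ker_isPrime h.1⟩
      have hQ : Q.asIdeal.comap (f.app V).hom = p := by
        show (RingHom.ker h.1).comap (f.app V).hom = p
        rw [RingHom.comap_ker]
        have : h.1.comp (f.app V).hom = g := h.2
        rw [this, hg]
      rw [← hT1 Q hQ h.1 rfl]
      exact H _ (hfx Q hQ)

end Groth.Agent.Lib.IntBirGU96
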