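/-
helper37: integral closure in the total fraction ring of an étale algebra over a normal domain.

* `exists_tmul_one_of_isIntegral`: `S` smooth over a normal domain `R` with fraction field `K`: every element of
  `S ⊗[R] K` integral over `S` is of the form `c ⊗ 1` (from Mathlib's `toIntegralClosure_bijective_of_smooth`).
* `exists_idempotent_of_isMaximal`: idempotent cutting out a maximal ideal of a reduced artinian ring.
* `reduced_artinian`: `S ⊗[R] K` is reduced artinian for `S` étale over `R`, `K` a field.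
* `lift_surjective`, `main_abstract`: for `ψ : S → L₁`, `κ : K → L₁` generating the field `L₁`: every element of
  `L₁` integral over `R` is in the image of `ψ`, and `ker ψ` is cut out by an idempotent.
-/
import Mathlib

set_option autoImplicit false
universe u
open TensorProduct

namespace Groth.Agent.Lib.IntClosureCompositum37

/-- Lemma A: for `S` smooth over a normal domain `R` with fraction field `K`, every element of
`S ⊗[R] K` integral over `S` comes from `S`. -/
lemma exists_tmul_one_of_isIntegral {R S K : Type*} [CommRing R] [IsDomain R]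
    [IsIntegrallyClosed R] [CommRing S] [Algebra R S] [Algebra.Smooth R S] [Field K] [Algebra R K]
    [IsFractionRing R K] (y : S ⊗[R] K) (hy : IsIntegral S y) : ∃ c : S, y = c ⊗ₜ[R] (1 : K) := by
  obtain ⟨t, ht⟩ :=
    (TensorProduct.toIntegralClosure_bijective_of_smooth (R := R) (S := S) (B := K)).2 ⟨y, hy⟩
  have key : ∀ t : S ⊗[R] integralClosure R K, ∃ c : S,
      ((TensorProduct.toIntegralClosure R S K t : integralClosure S (S ⊗[R] K)) : S ⊗[R] K) =
        c ⊗ₜ[R] (1 : K) := by
    intro t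
    induction t with
    | zero => exact ⟨0, by simp⟩
    | add a b ha hb =>
      obtain ⟨c1, h1⟩ := ha
      obtain ⟨c2, h2⟩ := hb
      exact ⟨c1 + c2, by rw [map_add, Subalgebra.coe_add, h1, h2, TensorProduct.add_tmul]⟩
    | tmul s b =>
      obtain ⟨a, ha⟩ : ∃ a : R, algebraMap R K a = b :=
        IsIntegrallyClosed.algebraMap_eq_of_integral b.2
      refine ⟨a • s, ?_⟩
      have h1 : ((TensorProduct.toIntegralClosure R S K (s ⊗ₜ b) :
          integralClosure S (S ⊗[R] K)) : S ⊗[R] K) = s ⊗ₜ[R] (b : K) := by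
        simp [TensorProduct.toIntegralClosure]
      rw [h1, ← ha, Algebra.algebraMap_eq_smul_one, TensorProduct.tmul_smul,
        TensorProduct.smul_tmul']
  obtain ⟨c, hc⟩ := key t
  exact ⟨c, by rw [← hc, ht]⟩

/-- Lemma B: the idempotent cutting out a maximal ideal of a reduced artinian ring. -/
lemma exists_idempotent_of_isMaximal {E : Type*} [CommRing E] [IsArtinianRing E] [IsReduced E]
    (m : Ideal E) [hm : m.IsMaximal] :
    ∃ e : E, IsIdempotentElem e ∧ (1 - e) ∈ m ∧ ∀ z ∈ m, e * z = 0 := by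
  classical
  let M : MaximalSpectrum E := ⟨m, hm⟩
  let Φ := IsArtinianRing.equivPi E
  let e : E := Φ.symm (Pi.single M 1)
  have hΦe : Φ e = Pi.single M 1 := Φ.apply_symm_apply _
  refine ⟨e, ?_, ?_, ?_⟩
  · apply Φ.injective
    rw [map_mul, hΦe, ← Pi.single_mul, one_mul]
  · have : Φ (1 - e) M = 0 := by
      rw [map_sub, map_one, hΦe]
      simp
    rw [IsArtinianRing.equivPi_apply] at this
    exact Ideal.Quotient.eq_zero_iff_mem.mp this
  · intro z hz
    apply Φ.injective
    rw [map_mul, hΦe, map_zero]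
    ext I
    by_cases h : I = M
    · subst h
      have : Φ z M = 0 := by
        rw [IsArtinianRing.equivPi_apply]
        exact Ideal.Quotient.eq_zero_iff_mem.mpr hz
      simp [this]
    · simp [Pi.single_eq_of_ne h]

lemma reduced_artinian (R S K : Type*) [CommRing R] [CommRing S] [Algebra R S] [Algebra.Etale R S]
    [Field K] [Algebra R K] : IsReduced (S ⊗[R] K) ∧ IsArtinianRing (S ⊗[R] K) := by
  have : Algebra.Etale K (K ⊗[R] S) := inferInstance
  have : IsReduced (K ⊗[R] S) := Algebra.FormallyUnramified.isReduced_of_field K (K ⊗[R] S)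
  have : Module.Finite K (K ⊗[R] S) := Algebra.FormallyUnramified.finite_of_free K (K ⊗[R] S)
  have : IsArtinianRing (K ⊗[R] S) := IsArtinianRing.of_finite K _
  let c := Algebra.TensorProduct.comm R K S
  exact ⟨isReduced_of_injective c.symm c.symm.injective,
    (show Function.Surjective (c : K ⊗[R] S →+* S ⊗[R] K) from c.surjective).isArtinianRing⟩

lemma inv_mem_range {E L₁ : Type*} [CommRing E] [IsArtinianRing E] [Field L₁] (φ : E →+* L₁)
    (x : L₁) (hx : x ∈ φ.range) : x⁻¹ ∈ φ.range := by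
  by_cases h0 : x = 0
  · rw [h0, inv_zero]; exact zero_mem _
  obtain ⟨y, rfl⟩ := hx
  have : (RingHom.ker φ).IsPrime := RingHom.ker_isPrime φ
  have hmax : (RingHom.ker φ).IsMaximal := IsArtinianRing.isMaximal_of_isPrime _
  obtain ⟨w, i, hi, hw⟩ := hmax.exists_inv (show y ∉ RingHom.ker φ from h0)
  refine ⟨w, ?_⟩
  have h1 : φ w * φ y = 1 := by
    have := congrArg φ hw
    rwa [map_add, map_mul, (RingHom.mem_ker).mp hi, add_zero, map_one] at this
  exact eq_inv_of_mul_eq_one_left h1

lemma lift_surjective {R S K L₁ : Type*} [CommRing R] [CommRing S] [Algebra R S] [Field K]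
    [Algebra R K] [Field L₁] [Algebra R L₁] [IsArtinianRing (S ⊗[R] K)]
    (ψ : S →ₐ[R] L₁) (κ : K →ₐ[R] L₁)
    (hgen : Subfield.closure (Set.range ψ ∪ Set.range κ) = ⊤) :
    Function.Surjective (Algebra.TensorProduct.lift ψ κ (fun _ _ => Commute.all _ _)) := by
  set φ : S ⊗[R] K →ₐ[R] L₁ := Algebra.TensorProduct.lift ψ κ (fun _ _ => Commute.all _ _) with hφ
  let F : Subfield L₁ :=
    { (φ : S ⊗[R] K →+* L₁).range with
      inv_mem' := fun x hx => inv_mem_range (φ : S ⊗[R] K →+* L₁) x hx }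
  have hle : Subfield.closure (Set.range ψ ∪ Set.range κ) ≤ F := by
    rw [Subfield.closure_le]
    rintro x (⟨s, rfl⟩ | ⟨k, rfl⟩)
    · exact ⟨s ⊗ₜ 1, by simp [φ]⟩
    · exact ⟨1 ⊗ₜ k, by simp [φ]⟩
  intro x
  have hx : x ∈ F := hle (by rw [hgen]; trivial)
  obtain ⟨y, hy⟩ := hx
  exact ⟨y, hy⟩

lemma main_abstract {R S K L₁ : Type*} [CommRing R] [IsDomain R] [IsIntegrallyClosed R]
    [CommRing S] [Algebra R S] [Algebra.Etale R S]
    [Field K] [Algebra R K] [IsFractionRing R K] [Field L₁] [Algebra R L₁]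
    (ψ : S →ₐ[R] L₁) (κ : K →ₐ[R] L₁)
    (hsurj : Function.Surjective (Algebra.TensorProduct.lift ψ κ (fun _ _ => Commute.all _ _))) :
    (∀ x : L₁, IsIntegral R x → ∃ c, ψ c = x) ∧
    ∃ e₀ : S, IsIdempotentElem e₀ ∧ ψ e₀ = 1 ∧ ∀ x y, ψ x = ψ y ↔ e₀ * x = e₀ * y := by
  set φ : S ⊗[R] K →ₐ[R] L₁ := Algebra.TensorProduct.lift ψ κ (fun _ _ => Commute.all _ _) with hφ
  obtain ⟨hred, hart⟩ := reduced_artinian R S K
  have hφ1 : ∀ c : S, φ (c ⊗ₜ 1) = ψ c := fun c => by simp [φ]
  have : (RingHom.ker (φ : S ⊗[R] K →+* L₁)).IsPrime := RingHom.ker_isPrime _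
  have hmax : (RingHom.ker (φ : S ⊗[R] K →+* L₁)).IsMaximal := IsArtinianRing.isMaximal_of_isPrime _
  obtain ⟨e, he, he1, hez⟩ := exists_idempotent_of_isMaximal (RingHom.ker (φ : S ⊗[R] K →+* L₁))
  have hφe : φ e = 1 := by
    have : φ (1 - e) = 0 := he1
    rw [map_sub, map_one, sub_eq_zero] at this
    exact this.symm
  have : Algebra.Smooth R S := inferInstance
  -- integral elements of `E` over `R` come from `S`
  have hint : ∀ y : S ⊗[R] K, IsIntegral R y → ∃ c : S, y = c ⊗ₜ[R] (1 : K) := fun y hy =>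
    exists_tmul_one_of_isIntegral y hy.tower_top
  -- injectivity of `S → E`
  have hinj : Function.Injective (fun c : S => c ⊗ₜ[R] (1 : K)) :=
    Algebra.TensorProduct.includeLeft_injective (S := R) (A := S) (IsFractionRing.injective R K)
  have heint : IsIntegral R e := by
    refine ⟨Polynomial.X * (Polynomial.X - Polynomial.C 1),
      Polynomial.monic_X.mul (Polynomial.monic_X_sub_C 1), ?_⟩
    simp [mul_sub, he.eq]
  obtain ⟨e₀, he₀⟩ := hint e heint
  have he₀idem : IsIdempotentElem e₀ := by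
    apply hinj
    show (e₀ * e₀) ⊗ₜ[R] (1 : K) = e₀ ⊗ₜ 1
    have : (e₀ * e₀) ⊗ₜ[R] (1 : K) = (e₀ ⊗ₜ 1) * (e₀ ⊗ₜ 1) := by
      rw [Algebra.TensorProduct.tmul_mul_tmul, mul_one]
    rw [this, ← he₀, he.eq]
  have hψe₀ : ψ e₀ = 1 := by rw [← hφ1, ← he₀, hφe]
  refine ⟨?_, e₀, he₀idem, hψe₀, ?_⟩
  · intro x hx
    obtain ⟨y, rfl⟩ := hsurj x
    obtain ⟨p, hpm, hp⟩ := hx
    have h1 : φ (y * e) = φ y := by rw [map_mul, hφe, mul_one]
    have h2 : Polynomial.aeval (y * e) p ∈ RingHom.ker (φ : S ⊗[R] K →+* L₁) := by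
      rw [RingHom.mem_ker]
      show φ (Polynomial.aeval (y * e) p) = 0
      rw [← Polynomial.aeval_algHom_apply, h1]
      exact hp
    have h3 : e * Polynomial.aeval (y * e) p = 0 := hez _ h2
    have h4 : IsIntegral R (y * e) := by
      refine ⟨Polynomial.X * p, Polynomial.monic_X.mul hpm, ?_⟩
      rw [← Polynomial.aeval_def, map_mul, Polynomial.aeval_X, mul_assoc, h3, mul_zero]
    obtain ⟨c, hc⟩ := hint _ h4
    exact ⟨c, by rw [← hφ1, ← hc, h1]⟩
  · intro x y
    constructor
    · intro hxy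
      have h5 : (x - y) ⊗ₜ[R] (1 : K) ∈ RingHom.ker (φ : S ⊗[R] K →+* L₁) := by
        rw [RingHom.mem_ker]
        show φ _ = 0
        rw [hφ1, map_sub, hxy, sub_self]
      have h6 := hez _ h5
      apply hinj
      show (e₀ * x) ⊗ₜ[R] (1 : K) = (e₀ * y) ⊗ₜ 1
      rw [← sub_eq_zero, ← TensorProduct.sub_tmul, ← mul_sub]
      rw [he₀, Algebra.TensorProduct.tmul_mul_tmul, mul_one] at h6
      exact h6
    · intro hxy
      have := congrArg ψ hxy
      rwa [map_mul, map_mul, hψe₀, one_mul, one_mul] at this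

end Groth.Agent.Lib.IntClosureCompositum37
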