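import Groth.Agent.Lib.IntClosureNormalBC51

/-!
# EGA IV 6.14.4, general form (integral closure of `A' ⊗ B` in `A' ⊗ C`)
-/

set_option autoImplicit false
set_option linter.style.haveILetI false
set_option linter.unusedSectionVars false
universe u

open TensorProduct Polynomial

namespace Groth.Agent.Lib.IntClosureNormalBC51

section finalGeneral

variable (A A' : Type u) [CommRing A] [CommRing A'] [IsNoetherianRing A] [IsNoetherianRing A']
  [Algebra A A'] (h : EGA4.IsNormalHom A A')
  (B C : Type u) [CommRing B] [CommRing C] [Algebra A B] [Algebra A C] [Algebra B C]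
  [IsScalarTower A B C]

include h in
theorem integralClosure_baseChange_general :
    (integralClosure
          ↥(Algebra.TensorProduct.map (AlgHom.id A' A') (IsScalarTower.toAlgHom A B C)).range
          (A' ⊗[A] C) : Set (A' ⊗[A] C)) =
      Set.range (Algebra.TensorProduct.map (AlgHom.id A' A')
        ((integralClosure B C).val.restrictScalars A)) := by
  set f : A' ⊗[A] B →ₐ[A'] A' ⊗[A] C :=
    Algebra.TensorProduct.map (AlgHom.id A' A') (IsScalarTower.toAlgHom A B C) with hf
  ext z
  constructor
  · intro hz
    have hz1 : IsIntegral ↥f.range z := hz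
    obtain ⟨p, hp, hpz⟩ := hz1
    have hsurj : Function.Surjective f.rangeRestrict := f.rangeRestrict_surjective
    have hlift : p ∈ Polynomial.lifts (f.rangeRestrict : A' ⊗[A] B →+* ↥f.range) := by
      rw [Polynomial.lifts_iff_coeff_lifts]
      intro k
      obtain ⟨y, hy⟩ := hsurj (p.coeff k)
      exact ⟨y, hy⟩
    obtain ⟨p₀, hp₀map, -, hp₀⟩ := Polynomial.lifts_and_natDegree_eq_and_monic hlift hp
    have hz' : f.toRingHom.IsIntegralElem z := by
      refine ⟨p₀, hp₀, ?_⟩
      have h1 : f.toRingHom = (algebraMap ↥f.range (A' ⊗[A] C)).comp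
          (f.rangeRestrict : A' ⊗[A] B →+* ↥f.range) := by
        refine RingHom.ext (fun y => ?_)
        rfl
      rw [h1, ← Polynomial.eval₂_map, hp₀map]
      exact hpz
    obtain ⟨t, ht⟩ := general_case A A' h B C z hz'
    have ht' : Algebra.TensorProduct.map (AlgHom.id A' A') (CK A B C).val t = z := ht
    let e : ↥(CK A B C) →ₐ[A] ↥(integralClosure B C) :=
      { toFun := fun x => ⟨x.1, x.2⟩
        map_one' := rfl
        map_mul' := fun _ _ => rfl
        map_zero' := rfl
        map_add' := fun _ _ => rfl
        commutes' := fun _ => rfl }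
    refine ⟨Algebra.TensorProduct.map (AlgHom.id A' A') e t, ?_⟩
    rw [← ht']
    clear ht ht' hz' hpz
    induction t using TensorProduct.induction_on with
    | zero => simp
    | tmul x c =>
      simp only [Algebra.TensorProduct.map_tmul, AlgHom.coe_id, id_eq]
      rfl
    | add x y hx hy => simp only [map_add] at hx hy ⊢; rw [hx, hy]
  · rintro ⟨t, rfl⟩
    show IsIntegral ↥f.range _
    induction t using TensorProduct.induction_on with
    | zero => rw [map_zero]; exact isIntegral_zero
    | tmul x d =>
      rw [Algebra.TensorProduct.map_tmul]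
      have h1 : (AlgHom.id A' A') x ⊗ₜ[A] ((integralClosure B C).val.restrictScalars A) d =
          (x ⊗ₜ[A] (1 : C)) * ((1 : A') ⊗ₜ[A] (d : C)) := by
        rw [Algebra.TensorProduct.tmul_mul_tmul, mul_one, one_mul]
        rfl
      rw [h1]
      refine IsIntegral.mul ?_ ?_
      · have hmem : x ⊗ₜ[A] (1 : C) ∈ f.range := ⟨x ⊗ₜ[A] (1 : B), by simp [hf]⟩
        exact isIntegral_algebraMap (R := ↥f.range) (x := (⟨_, hmem⟩ : ↥f.range))
      · obtain ⟨q, hq, hqd⟩ := d.2
        let g : B →+* ↥f.range :=
          (f.rangeRestrict : A' ⊗[A] B →+* ↥f.range).comp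
            (Algebra.TensorProduct.includeRight : B →ₐ[A] A' ⊗[A] B).toRingHom
        refine ⟨q.map g, hq.map _, ?_⟩
        rw [Polynomial.eval₂_map]
        have h2 : (algebraMap ↥f.range (A' ⊗[A] C)).comp g =
            ((Algebra.TensorProduct.includeRight : C →ₐ[A] A' ⊗[A] C).toRingHom).comp
              (algebraMap B C) := by
          refine RingHom.ext (fun b => ?_)
          show f ((1 : A') ⊗ₜ[A] b) = (1 : A') ⊗ₜ[A] (algebraMap B C b)
          simp [hf]
        rw [h2]
        have h3 := Polynomial.hom_eval₂ q (algebraMap B C)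
          ((Algebra.TensorProduct.includeRight : C →ₐ[A] A' ⊗[A] C).toRingHom) (d : C)
        rw [hqd, map_zero] at h3
        exact h3.symm
    | add x y hx hy => rw [map_add]; exact IsIntegral.add hx hy

end finalGeneral

end Groth.Agent.Lib.IntClosureNormalBC51
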