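import Mathlib
import Groth.Agent.S1379

/-!
# A canonical integral surjective cover splitting fppf covers Zariski locally (helper6)

For a scheme `S` we glue (relative gluing over the affine Zariski site) the spectra of the integral
closures of `Γ(S, U)` in `∏_{s ∈ U} κ(s)^alg`.  The resulting `icHom S : icCover S ⟶ S` is integral and
surjective, and every fppf cover of `S` has Zariski local sections over `icCover S`.
-/

set_option autoImplicit false

universe u v

namespace Groth.Agent.Lib.IntCover6

section Part1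


open Polynomial


section ProdLoc

variable {I : Type u} (K : I → Type v) [∀ i, Field (K i)]

/-- functions on a subset `U` of the index type -/
abbrev PiOn (U : Set I) : Type (max u v) := ∀ x : U, K x.1

/-- restriction -/
def resHom {U V : Set I} (h : V ⊆ U) : PiOn K U →+* PiOn K V :=
  RingHom.pi fun x => Pi.evalRingHom (fun x : U => K x.1) (⟨x.1, h x.2⟩ : U)

@[simp] lemma resHom_apply {U V : Set I} (h : V ⊆ U) (f : PiOn K U) (x : V) :
    resHom K h f x = f ⟨x.1, h x.2⟩ := rfl

open Classical in
/-- extension by zero -/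
noncomputable def extZero (U V : Set I) (y : PiOn K V) : PiOn K U :=
  fun x => if h : x.1 ∈ V then y ⟨x.1, h⟩ else 0

lemma extZero_apply_of_mem {U V : Set I} (y : PiOn K V) (x : U) (h : x.1 ∈ V) :
    extZero K U V y x = y ⟨x.1, h⟩ := by
  simp [extZero, h]

lemma extZero_apply_of_notMem {U V : Set I} (y : PiOn K V) (x : U) (h : x.1 ∉ V) :
    extZero K U V y x = 0 := by
  simp [extZero, h]

lemma resHom_extZero {U V : Set I} (h : V ⊆ U) (y : PiOn K V) :
    resHom K h (extZero K U V y) = y := by
  funext x
  rw [resHom_apply, extZero_apply_of_mem K y (⟨x.1, h x.2⟩ : U) x.2]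

lemma isLocalizationAway_piOn {U V : Set I} (hVU : V ⊆ U) (r : PiOn K U)
    (hV : ∀ x : U, x.1 ∈ V ↔ r x ≠ 0) [Algebra (PiOn K U) (PiOn K V)]
    (halg : algebraMap (PiOn K U) (PiOn K V) = resHom K hVU) :
    IsLocalization.Away r (PiOn K V) := by
  have hunit : IsUnit (algebraMap (PiOn K U) (PiOn K V) r) := by
    rw [halg]
    refine IsUnit.of_mul_eq_one (fun x => (r ⟨x.1, hVU x.2⟩)⁻¹) ?_
    funext x
    have : r ⟨x.1, hVU x.2⟩ ≠ 0 := (hV ⟨x.1, hVU x.2⟩).1 x.2
    simp [this]
  refine IsLocalization.Away.mk r hunit (fun s => ⟨0, extZero K U V s, ?_⟩) (fun a b hab => ⟨1, ?_⟩)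
  · rw [halg, resHom_extZero]; simp
  · rw [halg] at hab
    funext x
    by_cases hx : x.1 ∈ V
    · have := congrFun hab ⟨x.1, hx⟩
      simp only [resHom_apply] at this
      simp only [pow_one, Pi.mul_apply]
      rw [this]
    · have : r x = 0 := by
        by_contra h0
        exact hx ((hV x).2 h0)
      simp [this]

end ProdLoc

end Part1

section Part2


open Polynomial


section IntClosed

variable {I : Type u} (K : I → Type v) [∀ i, Field (K i)]

/-- extension by zero preserves integrality -/
lemma isIntegral_extZero {A : Type*} [CommRing A] {U V : Set I} (hVU : V ⊆ U)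
    [Algebra A (PiOn K U)] [Algebra A (PiOn K V)]
    (halg : algebraMap A (PiOn K V) = (resHom K hVU).comp (algebraMap A (PiOn K U)))
    (y : PiOn K V) (hy : IsIntegral A y) : IsIntegral A (extZero K U V y) := by
  obtain ⟨q, hq, hqy⟩ := hy
  refine ⟨X * q, (monic_X.mul hq), ?_⟩
  rw [eval₂_mul, eval₂_X]
  funext x
  by_cases hx : x.1 ∈ V
  · have h1 := congrArg (Pi.evalRingHom (fun x : V => K x.1) ⟨x.1, hx⟩) hqy
    rw [Polynomial.hom_eval₂, halg] at h1
    have h2 : (eval₂ (algebraMap A (PiOn K U)) (extZero K U V y) q) x = 0 := by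
      have := Polynomial.hom_eval₂ q (algebraMap A (PiOn K U))
        (Pi.evalRingHom (fun x : U => K x.1) x) (extZero K U V y)
      simp only [Pi.evalRingHom_apply] at this
      rw [this, extZero_apply_of_mem K y x hx]
      exact h1
    simp [h2]
  · simp [extZero_apply_of_notMem K y x hx]

lemma isIntegrallyClosedIn_away {C : Type*} [CommRing C] {U V : Set I} (hVU : V ⊆ U)
    [Algebra C (PiOn K U)] [IsIntegrallyClosedIn C (PiOn K U)] (g : C)
    (hV : ∀ x : U, x.1 ∈ V ↔ algebraMap C (PiOn K U) g x ≠ 0)
    (Cg : Type*) [CommRing Cg] [Algebra C Cg] [IsLocalization.Away g Cg]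
    [Algebra Cg (PiOn K V)]
    (halg : (algebraMap Cg (PiOn K V)).comp (algebraMap C Cg) =
      (resHom K hVU).comp (algebraMap C (PiOn K U))) :
    IsIntegrallyClosedIn Cg (PiOn K V) := by
  let _ : Algebra C (PiOn K V) := ((resHom K hVU).comp (algebraMap C (PiOn K U))).toAlgebra
  have htower : IsScalarTower C Cg (PiOn K V) := IsScalarTower.of_algebraMap_eq' halg.symm
  have hCinj : Function.Injective (algebraMap C (PiOn K U)) :=
    IsIntegralClosure.algebraMap_injective C C (PiOn K U)
  have hgunit : IsUnit (algebraMap C Cg g) := IsLocalization.Away.algebraMap_isUnit g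
  -- key: if `c` restricts to zero on `V` then `g * c = 0`
  have hkey : ∀ c : C, algebraMap C (PiOn K V) c = 0 → g * c = 0 := by
    intro c hc
    apply hCinj
    rw [map_mul, map_zero]
    funext x
    by_cases hx : x.1 ∈ V
    · have := congrFun hc ⟨x.1, hx⟩
      simp only [RingHom.algebraMap_toAlgebra, RingHom.comp_apply, resHom_apply] at this
      simp [this]
    · have : algebraMap C (PiOn K U) g x = 0 := by
        by_contra h0
        exact hx ((hV x).2 h0)
      simp [this]
  rw [isIntegrallyClosedIn_iff]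
  constructor
  · rw [injective_iff_map_eq_zero]
    intro z hz
    obtain ⟨n, c, hc⟩ := IsLocalization.Away.surj g z
    have h1 : algebraMap C (PiOn K V) c = 0 := by
      rw [IsScalarTower.algebraMap_apply C Cg (PiOn K V), ← hc, map_mul, hz, zero_mul]
    have h2 := hkey c h1
    have h3 : algebraMap C Cg c = 0 := by
      have := congrArg (algebraMap C Cg) h2
      rw [map_mul, map_zero] at this
      exact (hgunit.mul_right_eq_zero).1 this
    rw [h3] at hc
    exact ((hgunit.pow n).mul_left_eq_zero).1 hc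
  · intro x hx
    obtain ⟨⟨m, n, rfl⟩, hm⟩ :=
      IsIntegral.exists_multiple_integral_of_isLocalization (Submonoid.powers g) x hx
    have hm' : IsIntegral C ((g ^ n) • x) := hm
    have h1 := isIntegral_extZero K hVU (A := C) rfl _ hm'
    obtain ⟨c, hc⟩ := IsIntegrallyClosedIn.isIntegral_iff.1 h1
    have hc' : algebraMap C (PiOn K V) c = (g ^ n) • x := by
      have := congrArg (resHom K hVU) hc
      rw [resHom_extZero] at this
      exact this
    have hmem : g ^ n ∈ Submonoid.powers g := ⟨n, rfl⟩
    refine ⟨IsLocalization.mk' Cg c (⟨g ^ n, hmem⟩ : Submonoid.powers g), ?_⟩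
    have hu : IsUnit (algebraMap Cg (PiOn K V) (algebraMap C Cg (g ^ n))) := by
      rw [map_pow]
      exact (hgunit.pow n).map _
    have hspec : IsLocalization.mk' Cg c (⟨g ^ n, hmem⟩ : Submonoid.powers g) *
        algebraMap C Cg (g ^ n) = algebraMap C Cg c :=
      IsLocalization.mk'_spec Cg c (⟨g ^ n, hmem⟩ : Submonoid.powers g)
    apply hu.mul_right_cancel
    rw [← map_mul, hspec, ← IsScalarTower.algebraMap_apply, hc', Algebra.smul_def,
      IsScalarTower.algebraMap_apply C Cg (PiOn K V), mul_comm]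

end IntClosed

end Part2

section Part3


open Polynomial


section AIC

/-- every monic polynomial of positive degree has a root -/
def HasRoots (C : Type*) [CommRing C] : Prop :=
  ∀ f : C[X], f.Monic → f.natDegree ≠ 0 → ∃ a, f.IsRoot a

variable {I : Type u} (K : I → Type v) [∀ i, Field (K i)] [∀ i, IsAlgClosed (K i)]

lemma hasRoots_of_isIntegrallyClosedIn {C : Type*} [CommRing C] (U : Set I)
    [Algebra C (PiOn K U)] [IsIntegrallyClosedIn C (PiOn K U)] : HasRoots C := by
  intro f hf hd
  have hex : ∀ x : U, ∃ a : K x.1,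
      eval₂ ((Pi.evalRingHom (fun x : U => K x.1) x).comp (algebraMap C (PiOn K U))) a f = 0 := by
    intro x
    have hdeg : (f.map ((Pi.evalRingHom (fun x : U => K x.1) x).comp
        (algebraMap C (PiOn K U)))).degree ≠ 0 := by
      intro h0
      have h1 := natDegree_eq_of_degree_eq_some h0
      rw [hf.natDegree_map] at h1
      exact hd h1
    obtain ⟨a, ha⟩ := IsAlgClosed.exists_root _ hdeg
    exact ⟨a, by rwa [IsRoot, eval_map] at ha⟩
  choose a ha using hex
  have h0 : eval₂ (algebraMap C (PiOn K U)) a f = 0 := by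
    funext x
    have := Polynomial.hom_eval₂ f (algebraMap C (PiOn K U))
      (Pi.evalRingHom (fun x : U => K x.1) x) a
    simp only [Pi.evalRingHom_apply] at this
    rw [this]
    exact ha x
  have hint : IsIntegral C (a : PiOn K U) := ⟨f, hf, h0⟩
  obtain ⟨c, hc⟩ := IsIntegrallyClosedIn.isIntegral_iff.1 hint
  refine ⟨c, ?_⟩
  apply IsIntegralClosure.algebraMap_injective C C (PiOn K U)
  rw [map_zero, ← Polynomial.eval₂_at_apply, hc]
  exact h0

lemma HasRoots.exists_root_sub_mem {R : Type*} [CommRing R] (h : HasRoots R)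
    {B : Type*} [CommRing B] [Algebra R B] (r : Ideal B) [r.IsPrime] (x : B) :
    ∀ (n : ℕ) (f : R[X]), f.natDegree = n → f.Monic → aeval x f ∈ r →
      ∃ a : R, f.IsRoot a ∧ x - algebraMap R B a ∈ r := by
  have hB : Nontrivial B :=
    ⟨⟨0, 1, fun h => Ideal.IsPrime.ne_top ‹_› ((Ideal.eq_top_iff_one r).2 (h ▸ r.zero_mem))⟩⟩
  have hR : Nontrivial R := RingHom.domain_nontrivial (algebraMap R B)
  intro n
  induction n with
  | zero =>
    intro f hn hf hx
    exfalso
    have : f = 1 := by
      rw [hf.natDegree_eq_zero] at hn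
      exact hn
    rw [this, map_one] at hx
    exact (Ideal.IsPrime.ne_top inferInstance) ((Ideal.eq_top_iff_one r).2 hx)
  | succ n ih =>
    intro f hn hf hx
    obtain ⟨a, ha⟩ := h f hf (by omega)
    have hfac : (X - C a) * (f /ₘ (X - C a)) = f := mul_divByMonic_eq_iff_isRoot.2 ha
    have hqm : (f /ₘ (X - C a)).Monic := by
      have := hf
      rw [← hfac] at this
      exact (monic_X_sub_C a).of_mul_monic_left this
    have hqd : (f /ₘ (X - C a)).natDegree = n := by
      have := natDegree_divByMonic f (monic_X_sub_C a)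
      rw [this, hn, natDegree_X_sub_C]
      omega
    rw [← hfac, map_mul] at hx
    rcases Ideal.IsPrime.mem_or_mem inferInstance hx with h1 | h1
    · refine ⟨a, ha, ?_⟩
      simpa using h1
    · obtain ⟨a', ha', hxa'⟩ := ih _ hqd hqm h1
      refine ⟨a', ?_, hxa'⟩
      rw [← hfac, IsRoot.def, eval_mul, ha'.eq_zero, mul_zero]

open Algebra in
theorem exists_section_of_isStandardEtale {C B : Type*} [CommRing C] [CommRing B] [Algebra C B]
    (h : HasRoots C) [IsStandardEtale C B] (r : Ideal B) [r.IsPrime] :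
    ∃ g : C, g ∉ r.comap (algebraMap C B) ∧ Nonempty (B →ₐ[C] Localization.Away g) := by
  obtain ⟨P⟩ := IsStandardEtale.nonempty_standardEtalePresentation (R := C) (S := B)
  have hx0 : aeval P.x P.f ∈ r := by
    rw [P.hasMap.1]; exact zero_mem _
  obtain ⟨a, ha, hxa⟩ := h.exists_root_sub_mem r P.x _ P.f rfl P.monic_f hx0
  refine ⟨eval a P.g, ?_, ?_⟩
  · intro hmem
    rw [Ideal.mem_comap] at hmem
    have h1 : aeval P.x P.g - algebraMap C B (eval a P.g) ∈ r := by
      have h2 : algebraMap C B (eval a P.g) = eval (algebraMap C B a) (P.g.map (algebraMap C B)) := by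
        rw [eval_map, eval₂_at_apply]
      have h3 : aeval P.x P.g = eval P.x (P.g.map (algebraMap C B)) := by
        rw [eval_map]; rfl
      rw [h2, h3]
      exact Ideal.mem_of_dvd _ (Polynomial.sub_dvd_eval_sub _ _ _) hxa
    have h4 : aeval P.x P.g ∈ r := by
      have := add_mem h1 hmem
      simpa using this
    exact (Ideal.IsPrime.ne_top inferInstance) (Ideal.eq_top_of_isUnit_mem _ h4 P.hasMap.2)
  · have hmap : P.HasMap (algebraMap C (Localization.Away (eval a P.g)) a) := by
      constructor
      · rw [aeval_algebraMap_apply, coe_aeval_eq_eval, ha.eq_zero, map_zero]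
      · rw [aeval_algebraMap_apply, coe_aeval_eq_eval]
        exact IsLocalization.Away.algebraMap_isUnit _
    exact ⟨(P.lift _ hmap).comp P.equivRing.toAlgHom⟩

open Algebra in
theorem exists_section_of_etale {C B : Type*} [CommRing C] [CommRing B] [Algebra C B]
    (h : HasRoots C) [Algebra.Etale C B] (r : Ideal B) [r.IsPrime] :
    ∃ g : C, g ∉ r.comap (algebraMap C B) ∧ Nonempty (B →ₐ[C] Localization.Away g) := by
  obtain ⟨f, hf, hstd⟩ := Algebra.IsEtaleAt.exists_isStandardEtale (R := C) r
  have hdisj : Disjoint (Submonoid.powers f : Set B) (r : Set B) :=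
    (Ideal.disjoint_powers_iff_notMem_of_isPrime _).mpr hf
  have hprime : (r.map (algebraMap B (Localization.Away f))).IsPrime :=
    IsLocalization.isPrime_of_isPrime_disjoint (.powers f) _ _ inferInstance hdisj
  have hcomap : (r.map (algebraMap B (Localization.Away f))).comap (algebraMap B _) = r :=
    IsLocalization.under_map_of_isPrime_disjoint (.powers f) _ inferInstance hdisj
  obtain ⟨g, hg, ⟨φ⟩⟩ := exists_section_of_isStandardEtale h
    (r.map (algebraMap B (Localization.Away f)))
  refine ⟨g, ?_, ⟨φ.comp (IsScalarTower.toAlgHom C B (Localization.Away f))⟩⟩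
  intro hmem
  apply hg
  rw [Ideal.mem_comap] at hmem ⊢
  rw [IsScalarTower.algebraMap_apply C B (Localization.Away f)]
  exact Ideal.mem_map_of_mem _ hmem

end AIC

end Part3

section Part4


open Polynomial


section KeyLemma

/-- lifting a ring hom to an algebraically closed field along an integral extension, through a
prime lying over the kernel -/
lemma exists_lift_of_isIntegral {R D L : Type*} [CommRing R] [CommRing D] [Field L]
    [IsAlgClosed L] [Algebra R D] [Algebra.IsIntegral R D] (φ : R →+* L) (Q : Ideal D) [Q.IsPrime]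
    (hQ : Q.comap (algebraMap R D) = RingHom.ker φ) :
    ∃ ψ : D →+* L, ψ.comp (algebraMap R D) = φ := by
  have hle : ∀ a ∈ Q.comap (algebraMap R D), φ a = 0 := fun a ha => by
    rw [hQ] at ha; exact ha
  let φ' : R ⧸ Q.comap (algebraMap R D) →+* L := Ideal.Quotient.lift _ φ hle
  have hφ'inj : Function.Injective φ' := by
    rw [injective_iff_map_eq_zero]
    intro a ha
    obtain ⟨a, rfl⟩ := Ideal.Quotient.mk_surjective a
    rw [Ideal.Quotient.eq_zero_iff_mem, hQ]
    exact ha
  let _ : Algebra (R ⧸ Q.comap (algebraMap R D)) L := φ'.toAlgebra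
  have hdomR : IsDomain (R ⧸ Q.comap (algebraMap R D)) := inferInstance
  have htf1 : Module.IsTorsionFree (R ⧸ Q.comap (algebraMap R D)) L :=
    Module.isTorsionFree_iff_algebraMap_injective.2 hφ'inj
  have hinj2 : Function.Injective (algebraMap (R ⧸ Q.comap (algebraMap R D)) (D ⧸ Q)) :=
    Ideal.algebraMap_quotient_injective
  have htf2 : Module.IsTorsionFree (R ⧸ Q.comap (algebraMap R D)) (D ⧸ Q) :=
    Module.isTorsionFree_iff_algebraMap_injective.2 hinj2
  let ψ' : (D ⧸ Q) →ₐ[R ⧸ Q.comap (algebraMap R D)] L := IsAlgClosed.lift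
  refine ⟨ψ'.toRingHom.comp (Ideal.Quotient.mk Q), ?_⟩
  ext a
  have h1 : (Ideal.Quotient.mk Q) (algebraMap R D a) =
      algebraMap (R ⧸ Q.comap (algebraMap R D)) (D ⧸ Q) (Ideal.Quotient.mk _ a) := rfl
  simp only [RingHom.comp_apply, AlgHom.toRingHom_eq_coe, RingHom.coe_coe]
  rw [h1, ψ'.commutes]
  rfl

variable {I : Type u} (K : I → Type v) [∀ i, Field (K i)] [∀ i, IsAlgClosed (K i)]

/-- **Key lemma**: a ring integrally closed in a product of algebraically closed fields is a
retract of each of its integral algebras with surjective spectrum. -/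
theorem exists_retraction {R : Type*} [CommRing R] (V : Set I) [Algebra R (PiOn K V)]
    [IsIntegrallyClosedIn R (PiOn K V)]
    (D : Type*) [CommRing D] [Algebra R D] [Algebra.IsIntegral R D]
    (hsurj : Function.Surjective (PrimeSpectrum.comap (algebraMap R D))) :
    Nonempty (D →ₐ[R] R) := by
  have hex : ∀ x : V, ∃ ψ : D →+* K x.1, ψ.comp (algebraMap R D) =
      (Pi.evalRingHom (fun x : V => K x.1) x).comp (algebraMap R (PiOn K V)) := by
    intro x
    have hker : (RingHom.ker ((Pi.evalRingHom (fun x : V => K x.1) x).comp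
        (algebraMap R (PiOn K V)))).IsPrime := RingHom.ker_isPrime _
    obtain ⟨Q, hQ⟩ := hsurj ⟨_, hker⟩
    have hQ' : Q.asIdeal.comap (algebraMap R D) = RingHom.ker
        ((Pi.evalRingHom (fun x : V => K x.1) x).comp (algebraMap R (PiOn K V))) :=
      congrArg PrimeSpectrum.asIdeal hQ
    exact exists_lift_of_isIntegral _ Q.asIdeal hQ'
  choose ψ hψ using hex
  let Ψ : D →+* PiOn K V := RingHom.pi ψ
  have hΨ : Ψ.comp (algebraMap R D) = algebraMap R (PiOn K V) := by
    ext a x
    exact RingHom.congr_fun (hψ x) a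
  let _ : Algebra D (PiOn K V) := Ψ.toAlgebra
  have : IsScalarTower R D (PiOn K V) := IsScalarTower.of_algebraMap_eq' hΨ.symm
  exact ⟨IsIntegralClosure.lift R R (PiOn K V)⟩

/-- The key lemma over a basic open: `Cg` is a retract of each integral `Cg`-algebra with
surjective spectrum. -/
theorem exists_retraction_away {C : Type*} [CommRing C] (U : Set I)
    [Algebra C (PiOn K U)] [IsIntegrallyClosedIn C (PiOn K U)] (g : C)
    (Cg : Type*) [CommRing Cg] [Algebra C Cg] [IsLocalization.Away g Cg]
    (D : Type*) [CommRing D] [Algebra Cg D] [Algebra.IsIntegral Cg D]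
    (hsurj : Function.Surjective (PrimeSpectrum.comap (algebraMap Cg D))) :
    Nonempty (D →ₐ[Cg] Cg) := by
  let V : Set I := {i | ∃ h : i ∈ U, algebraMap C (PiOn K U) g ⟨i, h⟩ ≠ 0}
  have hVU : V ⊆ U := fun i hi => hi.1
  have hV : ∀ x : U, x.1 ∈ V ↔ algebraMap C (PiOn K U) g x ≠ 0 := by
    intro x
    constructor
    · rintro ⟨h, hx⟩; exact hx
    · intro hx; exact ⟨x.2, hx⟩
  have hunit : IsUnit ((resHom K hVU).comp (algebraMap C (PiOn K U)) g) := by
    refine IsUnit.of_mul_eq_one (fun x => (algebraMap C (PiOn K U) g ⟨x.1, hVU x.2⟩)⁻¹) ?_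
    funext x
    have : algebraMap C (PiOn K U) g ⟨x.1, hVU x.2⟩ ≠ 0 := (hV ⟨x.1, hVU x.2⟩).1 x.2
    simp [this]
  let _ : Algebra Cg (PiOn K V) :=
    (IsLocalization.Away.lift (S := Cg) g hunit).toAlgebra
  have halg : (algebraMap Cg (PiOn K V)).comp (algebraMap C Cg) =
      (resHom K hVU).comp (algebraMap C (PiOn K U)) :=
    IsLocalization.Away.lift_comp g hunit
  have := isIntegrallyClosedIn_away K hVU g hV Cg halg
  exact exists_retraction K V D hsurj

end KeyLemma

end Part4

section Part5

open AlgebraicGeometry CategoryTheory Limits TopologicalSpace Opposite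


variable (S : Scheme.{u})

/-- algebraic closure of the residue field at a point -/
abbrev KK (s : S) : Type u := AlgebraicClosure (S.residueField s)

/-- the product of the `KK s` for `s ∈ U` -/
abbrev Om (U : S.Opens) : Type u := PiOn (KK S) (U : Set S)

/-- evaluation of sections -/
noncomputable def evalHom (U : S.Opens) : Γ(S, U) →+* Om S U :=
  RingHom.pi fun x =>
    (algebraMap (S.residueField x.1) (KK S x.1)).comp (S.evaluation U x.1 x.2).hom

lemma evalHom_apply (U : S.Opens) (a : Γ(S, U)) (x : (U : Set S)) :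
    evalHom S U a x = algebraMap (S.residueField x.1) (KK S x.1) (S.evaluation U x.1 x.2 a) := rfl

/-- compatibility with restrictions -/
lemma resHom_evalHom {U V : S.Opens} (h : V ≤ U) (a : Γ(S, U)) :
    resHom (KK S) (show (V : Set S) ⊆ U from h) (evalHom S U a) =
      evalHom S V (S.presheaf.map (homOfLE h).op a) := by
  funext x
  rw [resHom_apply, evalHom_apply, evalHom_apply]
  congr 1
  change S.residue x.1 (S.presheaf.germ U x.1 _ a) = S.residue x.1 (S.presheaf.germ V x.1 _ _)
  rw [TopCat.Presheaf.germ_res_apply]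

lemma resHom_comp_evalHom {U V : S.Opens} (h : V ≤ U) :
    (resHom (KK S) (show (V : Set S) ⊆ U from h)).comp (evalHom S U) =
      (evalHom S V).comp (S.presheaf.map (homOfLE h).op).hom :=
  RingHom.ext fun a => resHom_evalHom S h a

lemma isIntegral_resHom {U V : S.Opens} (h : V ≤ U) (x : Om S U)
    (hx : letI := (evalHom S U).toAlgebra; IsIntegral Γ(S, U) x) :
    letI := (evalHom S V).toAlgebra
    IsIntegral Γ(S, V) (resHom (KK S) (show (V : Set S) ⊆ U from h) x) := by
  obtain ⟨p, hp, hpx⟩ := hx
  refine ⟨p.map (S.presheaf.map (homOfLE h).op).hom, hp.map _, ?_⟩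
  rw [Polynomial.eval₂_map]
  change Polynomial.eval₂ ((evalHom S V).comp _) _ p = 0
  rw [← resHom_comp_evalHom, ← Polynomial.hom_eval₂]
  change resHom _ _ (Polynomial.eval₂ (evalHom S U) x p) = 0
  have : Polynomial.eval₂ (evalHom S U) x p = 0 := hpx
  rw [this, map_zero]

end Part5

section Part6

open AlgebraicGeometry CategoryTheory Limits TopologicalSpace Opposite


variable (S : Scheme.{u})

/-- the ring of sections of the integral cover over `U` -/
noncomputable abbrev ICRing (U : S.Opens) : Type u :=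
  letI := (evalHom S U).toAlgebra
  integralClosure Γ(S, U) (Om S U)

/-- restriction map on `ICRing` -/
noncomputable def icRes {U V : S.Opens} (h : V ≤ U) : ICRing S U →+* ICRing S V :=
  (resHom (KK S) (show (V : Set S) ⊆ U from h)).restrict _ _
    fun x hx => isIntegral_resHom S h x hx

lemma icRes_val {U V : S.Opens} (h : V ≤ U) (x : ICRing S U) :
    (icRes S h x).1 = resHom (KK S) (show (V : Set S) ⊆ U from h) x.1 := rfl

/-- the presheaf of rings -/
noncomputable def icDiagram : S.Opensᵒᵖ ⥤ CommRingCat where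
  obj U := .of (ICRing S U.unop)
  map {V U} i := CommRingCat.ofHom (icRes S i.unop.le)
  map_id U := by
    ext x
    rfl
  map_comp i j := by
    ext x
    rfl

/-- structure map -/
noncomputable def icDiagramMap : S.presheaf ⟶ icDiagram S where
  app U :=
    letI := (evalHom S U.unop).toAlgebra
    CommRingCat.ofHom (algebraMap Γ(S, U.unop) (integralClosure Γ(S, U.unop) (Om S U.unop)))
  naturality {U V} i := by
    ext x
    apply Subtype.ext
    exact (resHom_evalHom S i.unop.le x).symm

end Part6

section Part7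

open AlgebraicGeometry CategoryTheory Limits TopologicalSpace Opposite


variable (S : Scheme.{u})

lemma mem_basicOpen_iff_evalHom_ne_zero {U : S.Opens} (r : Γ(S, U)) (x : (U : Set S)) :
    x.1 ∈ ((S.basicOpen r : S.Opens) : Set S) ↔ evalHom S U r x ≠ 0 := by
  rw [evalHom_apply, ne_eq, map_eq_zero_iff _ (algebraMap (S.residueField x.1) (KK S x.1)).injective,
    ← ne_eq, Scheme.evaluation_ne_zero_iff_mem_basicOpen]
  rfl

open Scheme.AffineZariskiSite in
set_option backward.isDefEq.respectTransparency false in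
lemma coequifibered_icDiagramMap :
    ((toOpensFunctor S).op.whiskerLeft (icDiagramMap S)).Coequifibered := by
  refine coequifibered_iff_forall_isLocalizationAway.mpr fun U r ↦ ?_
  let _ : Algebra Γ(S, U.1) (Om S U.1) := (evalHom S U.1).toAlgebra
  let _ : Algebra Γ(S, S.basicOpen r) (Om S (S.basicOpen r)) :=
    (evalHom S (S.basicOpen r)).toAlgebra
  let _ : Algebra (ICRing S U.1) (ICRing S (S.basicOpen r)) :=
    (icRes S (S.basicOpen_le r)).toAlgebra
  let _ : Algebra Γ(S, U.1) Γ(S, S.basicOpen r) :=
    (S.presheaf.map (homOfLE (S.basicOpen_le r)).op).hom.toAlgebra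
  let _ : Algebra (Om S U.1) (Om S (S.basicOpen r)) :=
    (resHom (KK S) (show ((S.basicOpen r : S.Opens) : Set S) ⊆ U.1 from S.basicOpen_le r)).toAlgebra
  let _ : Algebra Γ(S, U.1) (Om S (S.basicOpen r)) :=
    ((evalHom S (S.basicOpen r)).comp (S.presheaf.map (homOfLE (S.basicOpen_le r)).op).hom).toAlgebra
  have h1 : IsLocalization.Away r Γ(S, S.basicOpen r) := U.2.isLocalization_basicOpen _
  have h2 : IsLocalization.Away (algebraMap Γ(S, U.1) (Om S U.1) r) (Om S (S.basicOpen r)) :=
    isLocalizationAway_piOn (KK S) (S.basicOpen_le r) (evalHom S U.1 r)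
      (fun x => mem_basicOpen_iff_evalHom_ne_zero S r x) rfl
  have h3 : IsScalarTower Γ(S, U.1) (Om S U.1) (Om S (S.basicOpen r)) :=
    .of_algebraMap_eq' (resHom_comp_evalHom S (S.basicOpen_le r)).symm
  have h4 : IsScalarTower Γ(S, U.1) Γ(S, S.basicOpen r) (Om S (S.basicOpen r)) :=
    .of_algebraMap_eq' rfl
  have h5 : IsScalarTower (ICRing S U.1) (ICRing S (S.basicOpen r)) (Om S (S.basicOpen r)) :=
    .of_algebraMap_eq' rfl
  have h6 : IsScalarTower Γ(S, U.1) (ICRing S U.1) (ICRing S (S.basicOpen r)) :=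
    .of_algebraMap_eq' (RingHom.ext fun a => Subtype.ext
      (resHom_evalHom S (S.basicOpen_le r) a).symm)
  change IsLocalization.Away (algebraMap Γ(S, U.1) (integralClosure Γ(S, U.1) (Om S U.1)) r)
    (integralClosure Γ(S, S.basicOpen r) (Om S (S.basicOpen r)))
  exact IsLocalization.Away.integralClosure r

end Part7

section Part8

open AlgebraicGeometry CategoryTheory Limits TopologicalSpace Opposite


variable (S : Scheme.{u})

open Scheme.AffineZariskiSite

/-- the gluing data -/
noncomputable def icGlueData := relativeGluingData (coequifibered_icDiagramMap S)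

noncomputable instance : ((icGlueData S).functor ⋙ Scheme.forget).IsLocallyDirected :=
  Scheme.Cover.RelativeGluingData.instIsLocallyDirectedI₀CompFunctorForgetOfIsThin ..

/-- the canonical integral cover of `S` -/
noncomputable def icCover : Scheme.{u} := (icGlueData S).glued

/-- the open cover of the integral cover by spectra -/
noncomputable def icOpenCover : (icCover S).OpenCover := (icGlueData S).cover

/-- the structure morphism -/
noncomputable def icHom : icCover S ⟶ S := (icGlueData S).toBase

lemma icOpenCover_X (U : S.affineOpens) :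
    (icOpenCover S).X U = Spec (.of (ICRing S U.1)) := rfl

@[reassoc]
lemma ι_icHom (U : S.affineOpens) :
    (icOpenCover S).f U ≫ icHom S =
      Spec.map ((icDiagramMap S).app (.op U.1)) ≫ U.2.fromSpec :=
  colimit.ι_desc _ _

set_option backward.isDefEq.respectTransparency.types false in
lemma icHom_preimage (U : S.affineOpens) :
    icHom S ⁻¹ᵁ U = ((icOpenCover S).f U).opensRange := by
  simpa using! (icGlueData S).toBase_preimage_eq_opensRange_ι U

set_option backward.isDefEq.respectTransparency false in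
instance : IsIntegralHom (icHom S) := by
  rw [IsZariskiLocalAtTarget.iff_of_iSup_eq_top (P := @IsIntegralHom) _
    (iSup_affineOpens_eq_top _)]
  intro U
  let e := IsOpenImmersion.isoOfRangeEq (icHom S ⁻¹ᵁ U).ι ((icOpenCover S).f U)
      (by simpa using congr($(icHom_preimage S U).1))
  rw [← MorphismProperty.cancel_left_of_respectsIso @IsIntegralHom e.inv,
    ← MorphismProperty.cancel_right_of_respectsIso @IsIntegralHom _ U.2.isoSpec.hom]
  have : ((icDiagramMap S).app (.op U)).hom.IsIntegral := by
    let := (evalHom S U).toAlgebra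
    change (algebraMap Γ(S, U) (integralClosure Γ(S, U) (Om S U))).IsIntegral
    exact algebraMap_isIntegral_iff.mpr inferInstance
  convert! IsIntegralHom.SpecMap_iff.mpr this
  rw [← cancel_mono U.2.fromSpec]
  simp [IsAffineOpen.isoSpec_hom, e, ι_icHom]

end Part8

section Part9

open AlgebraicGeometry CategoryTheory Limits TopologicalSpace Opposite


variable (S : Scheme.{u})

open Scheme.AffineZariskiSite

/-- projection of the ring of sections to a coordinate field -/
noncomputable def icProj (U : S.Opens) (x : (U : Set S)) : ICRing S U →+* KK S x.1 :=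
  (Pi.evalRingHom (fun x : (U : Set S) => KK S x.1) x).comp
    (letI := (evalHom S U).toAlgebra; (integralClosure Γ(S, U) (Om S U)).val.toRingHom)

/-- the structure map on sections, with explicit types -/
noncomputable def icα (U : S.Opens) : Γ(S, U) ⟶ CommRingCat.of (ICRing S U) :=
  (icDiagramMap S).app (.op U)

/-- inclusion of the residue field in its algebraic closure, as a morphism -/
noncomputable def kkIncl (s : S) : S.residueField s ⟶ CommRingCat.of (KK S s) :=
  CommRingCat.ofHom (algebraMap (S.residueField s) (KK S s))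

/-- projection to a coordinate, as a morphism -/
noncomputable def icProj' (U : S.Opens) (s : S) (hs : s ∈ U) :
    CommRingCat.of (ICRing S U) ⟶ CommRingCat.of (KK S s) :=
  CommRingCat.ofHom (icProj S U ⟨s, hs⟩)

lemma icProj_comp (U : S.Opens) (s : S) (hs : s ∈ U) :
    icα S U ≫ icProj' S U s hs = S.evaluation U s hs ≫ kkIncl S s :=
  rfl

lemma evaluation_fromSpec {U : S.Opens} (hU : IsAffineOpen U) (s : S) (hs : s ∈ U) :
    Spec.map (S.evaluation U s hs) ≫ hU.fromSpec = S.fromSpecResidueField s := by
  rw [Scheme.fromSpecResidueField, ← hU.fromSpecStalk_eq_fromSpecStalk hs,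
    IsAffineOpen.fromSpecStalk, ← Spec.map_comp_assoc]
  rfl

/-- the open immersions of the spectra into the integral cover, with explicit types -/
noncomputable def icι {U : S.Opens} (hU : IsAffineOpen U) :
    Spec (.of (ICRing S U)) ⟶ icCover S :=
  (icOpenCover S).f (⟨U, hU⟩ : S.affineOpens)

instance {U : S.Opens} (hU : IsAffineOpen U) : IsOpenImmersion (icι S hU) :=
  (icOpenCover S).map_prop (⟨U, hU⟩ : S.affineOpens)

@[reassoc]
lemma icι_icHom {U : S.Opens} (hU : IsAffineOpen U) :
    icι S hU ≫ icHom S = Spec.map (icα S U) ≫ hU.fromSpec :=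
  ι_icHom S ⟨U, hU⟩

lemma icHom_preimage' {U : S.Opens} (hU : IsAffineOpen U) :
    icHom S ⁻¹ᵁ U = (icι S hU).opensRange := icHom_preimage S ⟨U, hU⟩

lemma exists_icι_eq (t : icCover S) : ∃ (U : S.Opens) (hU : IsAffineOpen U)
    (q : Spec (.of (ICRing S U))), icι S hU q = t := by
  obtain ⟨U, q, hq⟩ := (icOpenCover S).exists_eq t
  exact ⟨U.1, U.2, q, hq⟩

lemma icProj_icHom {U : S.Opens} (hU : IsAffineOpen U) (s : S) (hs : s ∈ U) :
    Spec.map (icProj' S U s hs) ≫ icι S hU ≫ icHom S =
      Spec.map (kkIncl S s) ≫ S.fromSpecResidueField s := by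
  rw [icι_icHom S hU, ← Spec.map_comp_assoc, icProj_comp, Spec.map_comp_assoc,
    evaluation_fromSpec S hU s hs]

instance icHom_surjective : Surjective (icHom S) := by
  constructor
  intro s
  obtain ⟨_, ⟨U, hU : IsAffineOpen U, rfl⟩, hsU, -⟩ :=
    S.isBasis_affineOpens.exists_subset_of_mem_open (Set.mem_univ s) isOpen_univ
  let z : Spec (.of (KK S s)) := default
  refine ⟨(Spec.map (icProj' S U s hsU) ≫ icι S hU) z, ?_⟩
  have := congrArg (fun f => f z) (icProj_icHom S hU s hsU)
  simp only [Scheme.Hom.comp_apply] at this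
  rw [Scheme.Hom.comp_apply, this, Scheme.fromSpecResidueField_apply]

end Part9

section Part10

open AlgebraicGeometry CategoryTheory Limits TopologicalSpace Opposite


section Bridge

/-- the ring map of a morphism to an affine scheme on an affine open of the source -/
noncomputable def affMap {X : Scheme.{u}} {R : CommRingCat.{u}} (f : X ⟶ Spec R) (W : X.Opens) :
    R ⟶ Γ(X, W) :=
  (Scheme.ΓSpecIso R).inv ≫ f.appLE ⊤ W le_top

lemma SpecMap_affMap {X : Scheme.{u}} {R : CommRingCat.{u}} (f : X ⟶ Spec R) {W : X.Opens}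
    (hW : IsAffineOpen W) : Spec.map (affMap f W) = hW.fromSpec ≫ f := by
  rw [affMap, Spec.map_comp, ← Scheme.isoSpec_Spec_inv, ← IsAffineOpen.fromSpec_top,
    IsAffineOpen.SpecMap_appLE_fromSpec f (isAffineOpen_top _) hW le_top]

end Bridge

section Step1

/-- Step 1: étale morphisms to `Spec C`, with `C` having roots of all monic polynomials, have
Zariski local sections. -/
lemma exists_etale_section {C : Type u} [CommRing C] (hC : HasRoots C) {Y : Scheme.{u}}
    (e : Y ⟶ Spec (.of C)) [Etale e] (y : Y) :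
    ∃ (a : C) (σ : Spec (.of (Localization.Away a)) ⟶ Y), a ∉ (e y).asIdeal ∧
      σ ≫ e = Spec.map (CommRingCat.ofHom (algebraMap C (Localization.Away a))) := by
  obtain ⟨_, ⟨W, hW : IsAffineOpen W, rfl⟩, hyW, -⟩ :=
    Y.isBasis_affineOpens.exists_subset_of_mem_open (Set.mem_univ y) isOpen_univ
  have hφ : Spec.map (affMap e W) = hW.fromSpec ≫ e := SpecMap_affMap e hW
  have het : Etale (Spec.map (affMap e W)) := by
    rw [hφ]; infer_instance
  have het' : (affMap e W).hom.Etale := (HasRingHomProperty.Spec_iff (P := @Etale)).mp het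
  letI : Algebra C Γ(Y, W) := (affMap e W).hom.toAlgebra
  have hetale : Algebra.Etale C Γ(Y, W) := het'
  obtain ⟨𝔯, h𝔯⟩ : y ∈ Set.range hW.fromSpec := by rw [hW.range_fromSpec]; exact hyW
  have hprime : 𝔯.asIdeal.IsPrime := 𝔯.isPrime
  obtain ⟨a, ha, ⟨ψ⟩⟩ := exists_section_of_etale hC 𝔯.asIdeal
  refine ⟨a, Spec.map (CommRingCat.ofHom ψ.toRingHom) ≫ hW.fromSpec, ?_, ?_⟩
  · have hey : e y = (Spec.map (affMap e W)) 𝔯 := by
      rw [hφ, Scheme.Hom.comp_apply, h𝔯]
    rw [hey]
    exact ha
  · rw [Category.assoc, ← hφ, ← Spec.map_comp]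
    congr 1
    ext x
    exact ψ.commutes x

end Step1

section Step2

variable {I : Type u} (K : I → Type u) [∀ i, Field (K i)] [∀ i, IsAlgClosed (K i)]

/-- Step 2: integral surjective morphisms to a basic open of `Spec C` have sections. -/
lemma exists_section_of_integral_surjective {C : Type u} [CommRing C] (U : Set I)
    [Algebra C (PiOn K U)] [IsIntegrallyClosedIn C (PiOn K U)] (a : C)
    {Y : Scheme.{u}} (p : Y ⟶ Spec (.of (Localization.Away a))) [IsIntegralHom p]
    [Surjective p] :
    ∃ τ : Spec (.of (Localization.Away a)) ⟶ Y, τ ≫ p = 𝟙 _ := by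
  have hY : IsAffine Y := isAffine_of_isAffineHom p
  have hφ : Spec.map (affMap p ⊤) = (isAffineOpen_top Y).fromSpec ≫ p :=
    SpecMap_affMap p (isAffineOpen_top Y)
  have hint : IsIntegralHom (Spec.map (affMap p ⊤)) := by
    rw [hφ, IsAffineOpen.fromSpec_top]; infer_instance
  have hsurj : Surjective (Spec.map (affMap p ⊤)) := by
    rw [hφ, IsAffineOpen.fromSpec_top]; infer_instance
  have hint' : (affMap p ⊤).hom.IsIntegral := IsIntegralHom.SpecMap_iff.mp hint
  let _ : Algebra (Localization.Away a) Γ(Y, ⊤) := (affMap p ⊤).hom.toAlgebra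
  have hint'' : Algebra.IsIntegral (Localization.Away a) Γ(Y, ⊤) := ⟨hint'⟩
  have hsurj' : Function.Surjective
      (PrimeSpectrum.comap (algebraMap (Localization.Away a) Γ(Y, ⊤))) :=
    (Spec.map (affMap p ⊤)).surjective
  obtain ⟨ρ⟩ := exists_retraction_away K U a (Localization.Away a) Γ(Y, ⊤) hsurj'
  refine ⟨Spec.map (CommRingCat.ofHom ρ.toRingHom) ≫ (isAffineOpen_top Y).fromSpec, ?_⟩
  rw [Category.assoc, ← hφ, ← Spec.map_comp]
  have : affMap p ⊤ ≫ CommRingCat.ofHom ρ.toRingHom = 𝟙 _ := by
    ext x
    exact ρ.commutes x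
  rw [this, Spec.map_id]

end Step2

end Part10

section Part11

open AlgebraicGeometry CategoryTheory Limits TopologicalSpace Opposite


section LemmaL

variable {I : Type u} (K : I → Type u) [∀ i, Field (K i)] [∀ i, IsAlgClosed (K i)]

/-- fppf covers of `Spec C`, for `C` integrally closed in a product of algebraically closed
fields, have Zariski local sections. -/
theorem exists_local_section {C : Type u} [CommRing C] (U : Set I)
    [Algebra C (PiOn K U)] [IsIntegrallyClosedIn C (PiOn K U)]
    {X : Scheme.{u}} (g : X ⟶ Spec (.of C)) [Flat g] [LocallyOfFinitePresentation g]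
    [Surjective g] (q : Spec (.of C)) :
    ∃ (N : Scheme.{u}) (j : N ⟶ Spec (.of C)) (r : N ⟶ X),
      IsOpenImmersion j ∧ q ∈ Set.range j ∧ r ≫ g = j := by
  obtain ⟨Y, V, e, π', hee, ⟨y, hy⟩, hsurj, hfin, hflat, hfp, hloc⟩ :=
    Groth.Agent.S1379.result g q
  have hC : HasRoots C := hasRoots_of_isIntegrallyClosedIn K U
  obtain ⟨a, σ, ha, hσ⟩ := exists_etale_section hC e y
  have h1 : IsIntegralHom (pullback.snd π' σ) := inferInstance
  have h2 : Surjective (pullback.snd π' σ) := inferInstance
  obtain ⟨τ, hτ⟩ := exists_section_of_integral_surjective K U a (pullback.snd π' σ)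
  have hqa : q ∈ Set.range (Spec.map (CommRingCat.ofHom (algebraMap C (Localization.Away a)))) := by
    have := PrimeSpectrum.localization_away_comap_range (Localization.Away a) a
    change q ∈ Set.range (PrimeSpectrum.comap (algebraMap C (Localization.Away a)))
    rw [this, ← hy]
    exact ha
  obtain ⟨qa, hqa⟩ := hqa
  obtain ⟨W, r, hvW, hr⟩ := hloc ((τ ≫ pullback.fst π' σ) qa)
  replace hvW : qa ∈ (τ ≫ pullback.fst π' σ) ⁻¹ᵁ W := hvW
  refine ⟨((τ ≫ pullback.fst π' σ) ⁻¹ᵁ W : _),
    ((τ ≫ pullback.fst π' σ) ⁻¹ᵁ W).ι ≫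
      Spec.map (CommRingCat.ofHom (algebraMap C (Localization.Away a))),
    ((τ ≫ pullback.fst π' σ) ∣_ W) ≫ r, inferInstance, ⟨⟨qa, hvW⟩, hqa⟩, ?_⟩
  · rw [Category.assoc, hr, ← Category.assoc, morphismRestrict_ι]
    simp only [Category.assoc]
    rw [pullback.condition_assoc, reassoc_of% hτ, hσ]

end LemmaL

end Part11

section Part12

open AlgebraicGeometry CategoryTheory Limits TopologicalSpace Opposite


/-- **Main theorem**: an fppf cover `S' → S` acquires Zariski local sections after pulling back
along the canonical integral surjective cover of `S`. -/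
theorem exists_integral_cover {S' S : Scheme.{u}} (g : S' ⟶ S) [Flat g]
    [LocallyOfFinitePresentation g] [Surjective g] :
    ∃ (T : Scheme.{u}) (π : T ⟶ S), Surjective π ∧ IsIntegralHom π ∧
      ∀ t : ↑T, ∃ (V : T.Opens) (r : ↑V ⟶ S'), t ∈ V ∧ r ≫ g = V.ι ≫ π := by
  refine ⟨icCover S, icHom S, inferInstance, inferInstance, fun t => ?_⟩
  obtain ⟨U, hU, q, rfl⟩ := exists_icι_eq S t
  let _ : Algebra Γ(S, U) (Om S U) := (evalHom S U).toAlgebra
  have hic : IsIntegrallyClosedIn (ICRing S U) (Om S U) := inferInstance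
  obtain ⟨N, j, r, hj, ⟨n, hn⟩, hr⟩ := exists_local_section (KK S) (U : Set S)
    (pullback.snd g (icι S hU ≫ icHom S)) q
  refine ⟨(j ≫ icι S hU).opensRange,
    (j ≫ icι S hU).isoOpensRange.inv ≫ r ≫ pullback.fst g (icι S hU ≫ icHom S), ?_, ?_⟩
  · refine ⟨n, ?_⟩
    rw [Scheme.Hom.comp_apply, hn]
  · simp only [Category.assoc]
    rw [pullback.condition, reassoc_of% hr, ← Category.assoc j, Scheme.Hom.isoOpensRange_inv_comp_assoc]

end Part12

end Groth.Agent.Lib.IntCover6
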