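import Groth.Agent.Lib.KoszulEuler4
import Mathlib.LinearAlgebra.Dimension.Localization
import Mathlib.RingTheory.KrullDimension.NonZeroDivisors

/-!
# Serre's Euler characteristic of Koszul complexes, IV: the rank formula (helper25)

* `kchi_congr`: invariance of `χ(l; M)` under linear equivalences;
* `kchi_eq_finrank_mul`: over a Noetherian local domain `A` of dimension `|l|` with `V(l)` consisting
  of maximal ideals, `χ(l; M) = rank(M) χ(l; A)`.
-/

set_option autoImplicit false
universe u

open CategoryTheory Limits CochainComplex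
open Groth.Agent.Lib.EulerLES Groth.Agent.Lib.EulerD Groth.Agent.Lib.KoszulCone
  Groth.Agent.Lib.KoszulElem

namespace Groth.Agent.Lib.KoszulEuler

variable {A : Type u} [CommRing A] [IsNoetherianRing A]

lemma kchi_eq_zero_of_subsingleton (M : Type u) [AddCommGroup M] [Module A M] [Subsingleton M]
    (l : List A) : kchi M l = 0 := by
  apply kchi_eq_zero_of_disjoint
  intro p hp
  rw [Module.support_eq_empty] at hp
  exact hp.elim

lemma kchi_congr {M N : Type u} [AddCommGroup M] [Module A M] [AddCommGroup N] [Module A N]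
    [Module.Finite A N] (e : M ≃ₗ[A] N) (l : List A) (hN : Good N l) : kchi N l = kchi M l := by
  have h := kchi_add_of_exact (M'' := PUnit.{u + 1}) e.toLinearMap (0 : N →ₗ[A] PUnit.{u + 1})
    e.injective (Function.surjective_to_subsingleton _)
    ((e.exact_zero_iff_surjective _).2 e.surjective) l hN
  rw [h, kchi_eq_zero_of_subsingleton PUnit.{u + 1}, add_zero]

private lemma withBot_lt_of_succ_le' {a b : WithBot ℕ∞} {n : ℕ} (h1 : a + 1 ≤ b)
    (h2 : b = (n : WithBot ℕ∞)) : a < (n : WithBot ℕ∞) := by
  subst h2
  induction a using WithBot.recBotCoe with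
  | bot => exact WithBot.bot_lt_coe _
  | coe a =>
    have h' : (a + 1 : ℕ∞) ≤ (n : ℕ∞) := by exact_mod_cast h1
    have : a < (n : ℕ∞) := by
      refine lt_of_lt_of_le ?_ h'
      have hne : a ≠ ⊤ := by
        rintro rfl
        simp at h'
      exact ENat.lt_add_one_iff hne |>.mpr le_rfl
    exact_mod_cast this

theorem kchi_eq_finrank_mul [IsLocalRing A] [IsDomain A] (l : List A)
    (hl : ∀ a ∈ l, a ∈ IsLocalRing.maximalIdeal A) (hd : ringKrullDim A = (l.length : WithBot ℕ∞))
    (hgood : ∀ p ∈ VL l, p.asIdeal.IsMaximal)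
    (M : Type u) [AddCommGroup M] [Module A M] [hM : Module.Finite A M] :
    kchi M l = (Module.finrank A M : ℤ) * kchi A l := by
  have good : ∀ (N : Type u) [AddCommGroup N] [Module A N], Good N l :=
    fun N _ _ p _ hp => hgood p hp
  induction hM using IsNoetherianRing.induction_on_isQuotientEquivQuotientPrime with
  | subsingleton N =>
    rw [kchi_eq_zero_of_subsingleton, Module.finrank_zero_of_subsingleton]
    simp
  | quotient N p e =>
    by_cases hp : p.asIdeal = ⊥
    · have e' : A ≃ₗ[A] N :=
        ((Submodule.quotEquivOfEqBot p.asIdeal hp).symm.trans e.symm)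
      rw [kchi_congr e' l (good N), ← e'.finrank_eq, Module.finrank_self]
      simp
    · obtain ⟨a, hap, ha0⟩ := Submodule.exists_mem_ne_zero_of_ne_bot hp
      have hrk : Module.finrank A N = 0 := by
        apply Module.finrank_eq_zero_of_rank_eq_zero
        rw [rank_eq_zero_iff]
        intro y
        refine ⟨a, ha0, ?_⟩
        apply e.injective
        rw [map_smul, map_zero]
        obtain ⟨b, hb⟩ := Ideal.Quotient.mk_surjective (e y)
        rw [← hb]
        change (Ideal.Quotient.mk p.asIdeal) (a * b) = 0
        rw [Ideal.Quotient.eq_zero_iff_mem]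
        exact Ideal.mul_mem_right _ _ hap
      rw [hrk]
      simp only [Nat.cast_zero, zero_mul]
      apply kchi_eq_zero_of_supportDim_lt l hl N (good N)
      rw [Module.supportDim_eq_of_equiv e, Module.supportDim_quotient_eq_ringKrullDim]
      have h1 : ringKrullDim (A ⧸ Ideal.span {a}) + 1 ≤ ringKrullDim A :=
        ringKrullDim_quotient_succ_le_of_nonZeroDivisor (mem_nonZeroDivisors_of_ne_zero ha0)
      have h2 : ringKrullDim (A ⧸ p.asIdeal) ≤ ringKrullDim (A ⧸ Ideal.span {a}) :=
        ringKrullDim_le_of_surjective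
          (Ideal.Quotient.factor ((Ideal.span_singleton_le_iff_mem _).mpr hap))
          (Ideal.Quotient.factor_surjective _)
      exact withBot_lt_of_succ_le' ((add_le_add_left h2 1).trans h1) hd
  | exact N₁ N₂ N₃ f g hf hg hfg h₁ h₃ =>
    rw [kchi_add_of_exact f g hf hg hfg l (good N₂), h₁, h₃, ← add_mul]
    congr 1
    have h := (LinearMap.ker g).finrank_quotient_add_finrank
    rw [(g.quotKerEquivOfSurjective hg).finrank_eq, LinearMap.exact_iff.mp hfg,
      ← (LinearEquiv.ofInjective f hf).finrank_eq] at h
    rw [← h]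
    push_cast
    ring

end Groth.Agent.Lib.KoszulEuler
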