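import Groth.Agent.Lib.DiscreteDiff

/-!
# Serre's theorem: Samuel multiplicity = Koszul Euler characteristic (helper25)

`tendsto_samuel_kchi`: `A` Noetherian, `M` finite, `x_1..x_r` with `Supp M ∩ V(x)` consisting of
maximal ideals (`Good M (List.ofFn x)`): `r! · length(M/𝔞^t M)/t^r → χ(x; M)`, `𝔞 = (x)`.
-/

set_option autoImplicit false
universe u

open Filter Topology
open Groth.Agent.Lib.EulerLES Groth.Agent.Lib.KoszulEuler Groth.Agent.Lib.KoszulSamuel
  Groth.Agent.Lib.DiscreteDiff

namespace Groth.Agent.Lib.SerreMult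

variable {A : Type u} [CommRing A] [IsNoetherianRing A]

theorem tendsto_samuel_kchi_list (M : Type u) [AddCommGroup M] [Module A M] [Module.Finite A M]
    (l : List A) (h : Good M l) :
    Tendsto (fun t : ℕ => (l.length.factorial : ℝ) *
        ((Module.length A (M ⧸ (Ideal.span {b | b ∈ l} ^ t • (⊤ : Submodule A M)))).toNat : ℝ) /
          (t : ℝ) ^ l.length) atTop (𝓝 ((kchi M l : ℤ) : ℝ)) := by
  have h1 := tendsto_of_iterDiff_eventually_eq l.length (samuel (Ideal.span {b | b ∈ l}) M)
    (kchi M l) (exists_kchi_eq_iterDiff M l h)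
  refine h1.congr ?_
  intro t
  unfold samuel len
  rw [Int.toNat_natCast]
  push_cast
  rfl

theorem tendsto_samuel_kchi (M : Type u) [AddCommGroup M] [Module A M] [Module.Finite A M]
    (r : ℕ) (x : Fin r → A) (h : Good M (List.ofFn x)) :
    Tendsto (fun t : ℕ => (r.factorial : ℝ) *
        ((Module.length A (M ⧸ (Ideal.span (Set.range x) ^ t • (⊤ : Submodule A M)))).toNat : ℝ) /
          (t : ℝ) ^ r) atTop (𝓝 ((kchi M (List.ofFn x) : ℤ) : ℝ)) := by
  have h1 := tendsto_samuel_kchi_list M (List.ofFn x) h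
  have hset : ({b | b ∈ List.ofFn x} : Set A) = Set.range x := by
    ext b
    simp [List.mem_ofFn']
  rw [hset, List.length_ofFn] at h1
  exact h1

end Groth.Agent.Lib.SerreMult
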