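/-
helper7: Lib/IntMultAlg7 (ns Groth.Agent.Lib.IntMultAlg7). ALGEBRAIC CORE of the IntMult.mult cluster
(S1874, S6452, ...). A Noetherian local, P = (g_1..g_c) regular sequence, Q any ideal,
h0 : every prime containing P ⊔ Q is maximal, hdim : c ≤ dim A/Q.
* chi_symm : IntMult.chi A M N = IntMult.chi A N M (Tor symmetry, via TorBalance.tor_symm)
* kchi_of_isWeaklyRegular : χ(l; M) = length(M/(l)M) for M-regular l
* length_quotient_smul_top : length((A/Q)/I(A/Q)) = length(A/(Q ⊔ I))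
* chi_eq_kchi, tendsto_chi (Samuel limit = chi A (A/Q) (A/P)), chi_pos, supportDim_eq,
  ringKrullDim_quotient_sup_eq_zero, chi_eq_length_of_CM (A/Q CM ⇒ chi = length A/(Q ⊔ P)).
-/
import Mathlib
import Groth.Agent.Lib.KoszulTor
import Groth.Agent.Lib.SerreMult
import Groth.Agent.Lib.KoszulEuler4
import Groth.Agent.Lib.KoszulEuler5
import Groth.Agent.Lib.TorBalance
import Groth.Agent.Lib.H8CM5

set_option autoImplicit false
universe u
open CategoryTheory
attribute [local instance] HasDerivedCategory.standard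

namespace Groth.Agent.Lib.IntMultAlg7

open Groth.Agent.Lib.KoszulEuler Groth.Agent.Lib.EulerLES

variable {A : Type u} [CommRing A]

/-- symmetry of the Tor Euler characteristic. -/
theorem chi_symm (M N : Type u) [AddCommGroup M] [Module A M] [AddCommGroup N] [Module A N] :
    IntMult.chi A M N = IntMult.chi A N M := by
  unfold IntMult.chi
  refine finsum_congr fun i => ?_
  obtain ⟨e⟩ := Groth.Agent.Lib.TorBalance.tor_symm (ModuleCat.of A M) (ModuleCat.of A N) i
  have : Module.length A (DRing.Tor A i M N) = Module.length A (DRing.Tor A i N M) :=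
    e.toLinearEquiv.length_eq
  rw [this]

/-- `χ(l; M) = length (M/(l)M)` for an `M`-regular sequence. -/
theorem kchi_of_isWeaklyRegular [IsNoetherianRing A] :
    ∀ (l : List A) (M : Type u) [AddCommGroup M] [Module A M],
    RingTheory.Sequence.IsWeaklyRegular M l →
    kchi M l = len A (M ⧸ (Ideal.ofList l • (⊤ : Submodule A M)))
  | [], M, _, _, _ => by
    rw [kchi_nil]
    unfold len
    have e : (M ⧸ (Ideal.ofList ([] : List A) • (⊤ : Submodule A M))) ≃ₗ[A] M := by
      rw [Ideal.ofList_nil, Submodule.bot_smul]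
      exact Submodule.quotEquivOfEqBot _ rfl
    rw [e.length_eq]
  | x :: l, M, _, _, h => by
    rw [RingTheory.Sequence.isWeaklyRegular_cons_iff] at h
    rw [kchi_cons_of_regular M x h.1 l, kchi_of_isWeaklyRegular l (QuotSMulTop x M) h.2]
    unfold len
    rw [(Submodule.quotOfListConsSMulTopEquivQuotSMulTopInner M x l).length_eq]


section core

variable [IsNoetherianRing A] [IsLocalRing A] (P Q : Ideal A) (c : ℕ) (g : Fin c → A)

lemma ofList_ofFn : Ideal.ofList (List.ofFn g) = Ideal.span (Set.range g) := by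
  unfold Ideal.ofList
  congr 1
  ext b
  simp [List.mem_ofFn']

lemma mem_support_quotient_iff (p : PrimeSpectrum A) :
    p ∈ Module.support A (A ⧸ Q) ↔ Q ≤ p.asIdeal := by
  rw [Module.mem_support_iff_of_finite, Ideal.annihilator_quotient]

include c in
theorem good (hg : P = Ideal.span (Set.range g))
    (h0 : ∀ p : Ideal A, p.IsPrime → P ⊔ Q ≤ p → p.IsMaximal) :
    Good (A ⧸ Q) (List.ofFn g) := by
  intro p hp hpl
  rw [mem_support_quotient_iff] at hp
  refine h0 p.asIdeal p.2 (sup_le ?_ hp)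
  rw [hg, Ideal.span_le]
  rintro a ⟨j, rfl⟩
  exact hpl _ ((List.mem_ofFn' _ _).mpr ⟨j, rfl⟩)

/-- `(A/Q)/(I (A/Q)) ≅ A/(Q + I)`, on lengths. -/
theorem length_quotient_smul_top (I : Ideal A) :
    Module.length A ((A ⧸ Q) ⧸ (I • (⊤ : Submodule A (A ⧸ Q)))) =
      Module.length A (A ⧸ (Q ⊔ I)) := by
  let φ : A →ₗ[A] ((A ⧸ Q) ⧸ (I • (⊤ : Submodule A (A ⧸ Q)))) :=
    (I • (⊤ : Submodule A (A ⧸ Q))).mkQ ∘ₗ (Submodule.mkQ Q)
  have hφ : Function.Surjective φ :=
    (Submodule.mkQ_surjective _).comp (Submodule.mkQ_surjective _)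
  have hker : LinearMap.ker φ = Q ⊔ I := by
    ext a
    rw [LinearMap.mem_ker]
    change (I • (⊤ : Submodule A (A ⧸ Q))).mkQ (Ideal.Quotient.mk Q a) = 0 ↔ _
    rw [Submodule.mkQ_apply, Submodule.Quotient.mk_eq_zero, Ideal.smul_top_eq_map,
      Submodule.restrictScalars_mem]
    change Ideal.Quotient.mk Q a ∈ I.map (Ideal.Quotient.mk Q) ↔ _
    rw [Ideal.mem_quotient_iff_mem_sup, sup_comm]
  have e := φ.quotKerEquivOfSurjective hφ
  rw [← e.length_eq]
  exact (Submodule.quotEquivOfEq _ _ hker).length_eq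


include c in
theorem chi_eq_kchi (hg : P = Ideal.span (Set.range g))
    (hreg : RingTheory.Sequence.IsRegular A (List.ofFn g)) :
    IntMult.chi A (A ⧸ Q) (A ⧸ P) = kchi (A ⧸ Q) (List.ofFn g) := by
  rw [chi_symm, ← Groth.Agent.Lib.KoszulTor.chi_tor_eq_kchi (List.ofFn g)
    hreg.toIsWeaklyRegular (A ⧸ Q)]
  have : Ideal.ofList (List.ofFn g) = P := by rw [ofList_ofFn, hg]
  rw [this]

open Filter in
/-- Samuel limit = Tor multiplicity. -/
theorem tendsto_chi (hg : P = Ideal.span (Set.range g))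
    (hreg : RingTheory.Sequence.IsRegular A (List.ofFn g))
    (h0 : ∀ p : Ideal A, p.IsPrime → P ⊔ Q ≤ p → p.IsMaximal) :
    Tendsto (fun t : ℕ => (c.factorial : ℝ) *
      ((Module.length A (A ⧸ (Q ⊔ P ^ t))).toNat : ℝ) / (t : ℝ) ^ c) atTop
      (nhds (IntMult.chi A (A ⧸ Q) (A ⧸ P) : ℝ)) := by
  have h1 := Groth.Agent.Lib.SerreMult.tendsto_samuel_kchi (A ⧸ Q) c g (good P Q c g hg h0)
  rw [chi_eq_kchi P Q c g hg hreg]
  refine h1.congr fun t => ?_
  rw [length_quotient_smul_top, hg]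

lemma mem_maximalIdeal (hreg : RingTheory.Sequence.IsRegular A (List.ofFn g)) :
    ∀ a ∈ List.ofFn g, a ∈ IsLocalRing.maximalIdeal A := by
  intro a ha
  have hne : Ideal.ofList (List.ofFn g) ≠ ⊤ := by
    intro h
    apply hreg.top_ne_smul
    rw [h]
    simp
  exact IsLocalRing.le_maximalIdeal hne (Ideal.subset_span ha)

include c in
theorem supportDim_eq (hg : P = Ideal.span (Set.range g))
    (hreg : RingTheory.Sequence.IsRegular A (List.ofFn g))
    (h0 : ∀ p : Ideal A, p.IsPrime → P ⊔ Q ≤ p → p.IsMaximal)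
    (hdim : (c : WithBot ℕ∞) ≤ ringKrullDim (A ⧸ Q)) :
    Module.supportDim A (A ⧸ Q) = ((List.ofFn g).length : WithBot ℕ∞) := by
  refine le_antisymm (supportDim_le_length_of_good _ (mem_maximalIdeal c g hreg) _
    (good P Q c g hg h0)) ?_
  rw [List.length_ofFn, Module.supportDim_quotient_eq_ringKrullDim]
  exact hdim

include c in
theorem chi_pos (hg : P = Ideal.span (Set.range g))
    (hreg : RingTheory.Sequence.IsRegular A (List.ofFn g))
    (h0 : ∀ p : Ideal A, p.IsPrime → P ⊔ Q ≤ p → p.IsMaximal)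
    (hdim : (c : WithBot ℕ∞) ≤ ringKrullDim (A ⧸ Q)) :
    0 < IntMult.chi A (A ⧸ Q) (A ⧸ P) := by
  rw [chi_eq_kchi P Q c g hg hreg]
  exact kchi_pos_of_supportDim_eq _ (mem_maximalIdeal c g hreg) _ (good P Q c g hg h0)
    (supportDim_eq P Q c g hg hreg h0 hdim)


include c in
theorem ringKrullDim_quotient_sup_eq_zero (hg : P = Ideal.span (Set.range g))
    (hreg : RingTheory.Sequence.IsRegular A (List.ofFn g))
    (h0 : ∀ p : Ideal A, p.IsPrime → P ⊔ Q ≤ p → p.IsMaximal) (hQ : Q ≠ ⊤) :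
    ringKrullDim (A ⧸ (Q ⊔ P)) = 0 := by
  have hne : Q ⊔ P ≠ ⊤ := by
    have hP : P ≤ IsLocalRing.maximalIdeal A := by
      rw [hg, Ideal.span_le]
      rintro a ⟨j, rfl⟩
      exact mem_maximalIdeal c g hreg _ ((List.mem_ofFn' _ _).mpr ⟨j, rfl⟩)
    intro h
    have : Q ⊔ P ≤ IsLocalRing.maximalIdeal A := sup_le (IsLocalRing.le_maximalIdeal hQ) hP
    rw [h] at this
    exact (IsLocalRing.maximalIdeal.isMaximal A).ne_top (top_le_iff.mp this)
  have : Nontrivial (A ⧸ (Q ⊔ P)) := Ideal.Quotient.nontrivial_iff.mpr hne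
  have : Ring.KrullDimLE 0 (A ⧸ (Q ⊔ P)) := Ring.krullDimLE_zero_iff.mpr fun J prime ↦
    Ideal.isMaximal_of_isIntegral_of_isMaximal_comap _ <| by
      have hpr := prime.comap (Ideal.Quotient.mk (Q ⊔ P))
      refine h0 _ hpr ?_
      rw [sup_comm]
      exact le_trans (by simp) (Ideal.ker_le_comap _)
  exact ringKrullDimZero_iff_ringKrullDim_eq_zero.mp this


include c in
theorem chi_eq_length_of_CM (hg : P = Ideal.span (Set.range g))
    (hreg : RingTheory.Sequence.IsRegular A (List.ofFn g))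
    (h0 : ∀ p : Ideal A, p.IsPrime → P ⊔ Q ≤ p → p.IsMaximal)
    (hdim : (c : WithBot ℕ∞) ≤ ringKrullDim (A ⧸ Q))
    [LocCoh.IsCohenMacaulayLocalRing (A ⧸ Q)] :
    IntMult.chi A (A ⧸ Q) (A ⧸ P) = ((Module.length A (A ⧸ (Q ⊔ P))).toNat : ℤ) := by
  have hQ : Q ≠ ⊤ := by
    intro h
    have : Nontrivial (A ⧸ Q) := inferInstance
    rw [Ideal.Quotient.nontrivial_iff] at this
    exact this h
  set R := A ⧸ Q with hR
  set rs : List R := (List.ofFn g).map (algebraMap A R) with hrs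
  have hmem : ∀ r ∈ rs, r ∈ IsLocalRing.maximalIdeal R := by
    intro r hr
    rw [hrs, List.mem_map] at hr
    obtain ⟨a, ha, rfl⟩ := hr
    have ham := mem_maximalIdeal c g hreg a ha
    rw [IsLocalRing.mem_maximalIdeal, mem_nonunits_iff] at ham ⊢
    intro hu
    apply ham
    obtain ⟨b, hb⟩ := Ideal.Quotient.mk_surjective (((hu.unit⁻¹ : Rˣ) : R))
    have h1 : Ideal.Quotient.mk Q (a * b - 1) = 0 := by
      rw [map_sub, map_mul, hb, map_one]
      change (algebraMap A R a) * _ - 1 = 0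
      rw [IsUnit.mul_val_inv, sub_self]
    rw [Ideal.Quotient.eq_zero_iff_mem] at h1
    have h2 : a * b - 1 ∈ IsLocalRing.maximalIdeal A := IsLocalRing.le_maximalIdeal hQ h1
    by_contra hna
    have h3 : a ∈ IsLocalRing.maximalIdeal A := by
      rw [IsLocalRing.mem_maximalIdeal, mem_nonunits_iff]; exact hna
    have h4 : (1 : A) ∈ IsLocalRing.maximalIdeal A := by
      have := Ideal.sub_mem _ (Ideal.mul_mem_right b _ h3) h2
      simpa using this
    exact (IsLocalRing.maximalIdeal.isMaximal A).ne_top ((Ideal.eq_top_iff_one _).mpr h4)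
  have hdimR : ringKrullDim R = (c : WithBot ℕ∞) := by
    have := supportDim_eq P Q c g hg hreg h0 hdim
    rw [List.length_ofFn, Module.supportDim_quotient_eq_ringKrullDim] at this
    exact this
  have hq0 : ringKrullDim (R ⧸ Ideal.ofList rs) = 0 := by
    have e : (R ⧸ Ideal.ofList rs) ≃+* A ⧸ (Q ⊔ P) := by
      have h1 : Ideal.ofList rs = P.map (Ideal.Quotient.mk Q) := by
        rw [hrs, ← Ideal.map_ofList, ofList_ofFn, hg]
        rfl
      rw [h1]
      exact DoubleQuot.quotQuotEquivQuotSup Q P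
    rw [ringKrullDim_eq_of_ringEquiv e]
    exact ringKrullDim_quotient_sup_eq_zero P Q c g hg hreg h0 hQ
  have hwr : RingTheory.Sequence.IsWeaklyRegular R rs := by
    rw [Groth.Agent.Lib.H8CM.isWeaklyRegular_self_iff rs hmem, hq0, hdimR, hrs, List.length_map,
      List.length_ofFn, zero_add]
  have hwrA : RingTheory.Sequence.IsWeaklyRegular R (List.ofFn g) :=
    (RingTheory.Sequence.isWeaklyRegular_map_algebraMap_iff R R (List.ofFn g)).mp hwr
  rw [chi_eq_kchi P Q c g hg hreg, kchi_of_isWeaklyRegular _ _ hwrA]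
  unfold len
  rw [length_quotient_smul_top, ofList_ofFn, hg]

end core

end Groth.Agent.Lib.IntMultAlg7
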