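import Groth.Agent.Lib.TorNat
import Mathlib.CategoryTheory.Abelian.Projective.Dimension
import Mathlib.RingTheory.LocalRing.Module
import Mathlib.Algebra.Category.ModuleCat.ProjectiveDimension

/-!
# `Tor` and projective dimension (helper35)

* `isZero_tor_succ_X₃_right`, `isZero_tor_X₁_right`: dimension shifting in the second variable.
* `isZero_tor_of_hasProjectiveDimensionLT`: `pd M ≤ n ⟹ Tor_i(N, M) = 0` for `i > n`.
* `hasProjectiveDimensionLT_of_isZero_tor_residueField`: over a Noetherian local ring, a finite
  module `M` with `Tor_{n+1}(k, M) = 0` has `pd M ≤ n`.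
-/

set_option autoImplicit false

universe u

open CategoryTheory MonoidalCategory Limits

namespace Groth.Agent.Lib.TorPD

open Groth.Agent.Lib.TorLES Groth.Agent.Lib.TorBalance Groth.Agent.Lib.TorNat

variable {R : Type u} [CommRing R]

section shift

variable {T : ShortComplex (ModuleCat.{u} R)} (hT : T.ShortExact) (N : ModuleCat.{u} R)

include hT in
/-- `Tor_{j+1}(N, X₃) = 0` if `Tor_{j+1}(N, X₂) = 0` and `Tor_j(N, X₁) = 0`. -/
lemma isZero_tor_succ_X₃_right (j : ℕ)
    (h2 : IsZero (((Tor (ModuleCat.{u} R) (j + 1)).obj N).obj T.X₂))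
    (h1 : IsZero (((Tor (ModuleCat.{u} R) j).obj N).obj T.X₁)) :
    IsZero (((Tor (ModuleCat.{u} R) (j + 1)).obj N).obj T.X₃) := by
  obtain ⟨δ, w₁, w₂, e₁, e₂⟩ := exists_δ_right hT N j
  exact e₁.isZero_of_both_zeros (h2.eq_of_src _ _) (h1.eq_of_tgt _ _)

include hT in
/-- `Tor_j(N, X₁) = 0` if `Tor_{j+1}(N, X₃) = 0` and `Tor_j(N, X₂) = 0`. -/
lemma isZero_tor_X₁_right (j : ℕ)
    (h3 : IsZero (((Tor (ModuleCat.{u} R) (j + 1)).obj N).obj T.X₃))
    (h2 : IsZero (((Tor (ModuleCat.{u} R) j).obj N).obj T.X₂)) :
    IsZero (((Tor (ModuleCat.{u} R) j).obj N).obj T.X₁) := by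
  obtain ⟨δ, w₁, w₂, e₁, e₂⟩ := exists_δ_right hT N j
  exact e₂.isZero_of_both_zeros (h3.eq_of_src _ _) (h2.eq_of_tgt _ _)

end shift

/-- If `M` has projective dimension `≤ n`, then `Tor_i(N, M) = 0` for all `i > n`. -/
theorem isZero_tor_of_hasProjectiveDimensionLT (n : ℕ) :
    ∀ (M : ModuleCat.{u} R) [HasProjectiveDimensionLT M (n + 1)] (N : ModuleCat.{u} R) (i : ℕ),
      n < i → IsZero (((Tor (ModuleCat.{u} R) i).obj N).obj M) := by
  induction n with
  | zero =>
    intro M hM N i hi
    obtain ⟨j, rfl⟩ : ∃ j, i = j + 1 := ⟨i - 1, by omega⟩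
    have : Projective M := projective_iff_hasProjectiveDimensionLT_one.mpr hM
    have : Module.Flat R M := flat_of_projective M
    exact isZero_tor_succ_of_flat_right M j N
  | succ n ih =>
    intro M hM N i hi
    obtain ⟨j, rfl⟩ : ∃ j, i = j + 1 := ⟨i - 1, by omega⟩
    have hT := projPres_shortExact M
    have hK : HasProjectiveDimensionLT (projPres M).X₁ (n + 1) :=
      (hT.hasProjectiveDimensionLT_X₃_iff n inferInstance).mp hM
    have : Module.Flat R (projPres M).X₂ := flat_of_projective _
    exact isZero_tor_succ_X₃_right hT N j (isZero_tor_succ_of_flat_right _ j N)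
      (ih (projPres M).X₁ N j (by omega))

section localRing

variable [IsLocalRing R] [IsNoetherianRing R]

/-- The short exact sequence `0 → 𝔪 → R → k → 0`. -/
noncomputable def residueSES : ShortComplex (ModuleCat.{u} R) :=
  ShortComplex.mk (ModuleCat.ofHom (IsLocalRing.maximalIdeal R).subtype)
    (ModuleCat.ofHom (Algebra.linearMap R (IsLocalRing.ResidueField R))) (by
      ext x
      exact (IsLocalRing.residue_eq_zero_iff _).mpr x.2)

omit [IsNoetherianRing R] in
lemma residueSES_shortExact : (residueSES (R := R)).ShortExact := by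
  apply ModuleCat.shortComplex_shortExact
  · intro x
    constructor
    · intro hx
      exact ⟨⟨x, (IsLocalRing.residue_eq_zero_iff _).mp hx⟩, rfl⟩
    · rintro ⟨y, rfl⟩
      exact (IsLocalRing.residue_eq_zero_iff _).mpr y.2
  · exact Subtype.val_injective
  · exact IsLocalRing.residue_surjective (R := R)

/-- Over a Noetherian local ring, a finite module with `Tor_{n+1}(k, M) = 0` has projective
dimension at most `n`. -/
theorem hasProjectiveDimensionLT_of_isZero_tor_residueField (n : ℕ) :
    ∀ (M : Type u) [AddCommGroup M] [Module R M] [Module.Finite R M],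
      IsZero (((Tor (ModuleCat.{u} R) (n + 1)).obj
        (ModuleCat.of R (IsLocalRing.ResidueField R))).obj (ModuleCat.of R M)) →
      HasProjectiveDimensionLT (ModuleCat.of R M) (n + 1) := by
  induction n with
  | zero =>
    intro M _ _ _ h
    have hS := residueSES_shortExact (R := R)
    have : Module.Flat R (residueSES (R := R)).X₂ := by
      change Module.Flat R R
      infer_instance
    have hk : IsZero (kernel ((residueSES (R := R)).f ▷ ModuleCat.of R M)) :=
      IsZero.of_iso h (torOneIsoKernel hS (ModuleCat.of R M)).symm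
    have hm : Mono ((residueSES (R := R)).f ▷ ModuleCat.of R M) :=
      Preadditive.mono_of_kernel_zero (hk.eq_of_src _ _)
    have hinj : Function.Injective
        (LinearMap.rTensor M (IsLocalRing.maximalIdeal R).subtype) :=
      (ModuleCat.mono_iff_injective _).mp hm
    have : Module.FinitePresentation R M := Module.finitePresentation_of_finite R M
    have : Module.Free R M := Module.free_of_maximalIdeal_rTensor_injective hinj
    have : Projective (ModuleCat.of R M) :=
      (IsProjective.iff_projective (R := R) (P := M)).mp inferInstance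
    exact projective_iff_hasProjectiveDimensionLT_one.mp this
  | succ n ih =>
    intro M _ _ _ h
    obtain ⟨m, π, hπ⟩ := Module.Finite.exists_fin' R M
    let K := LinearMap.ker π
    let T : ShortComplex (ModuleCat.{u} R) :=
      ShortComplex.mk (ModuleCat.ofHom K.subtype) (ModuleCat.ofHom π) (by
        ext x
        exact x.2)
    have hT : T.ShortExact := by
      apply ModuleCat.shortComplex_shortExact
      · exact LinearMap.exact_subtype_ker_map π
      · exact Subtype.val_injective
      · exact hπ
    have hproj : Projective T.X₂ :=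
      (IsProjective.iff_projective (R := R) (P := (Fin m → R))).mp inferInstance
    have hflat : Module.Flat R T.X₂ := inferInstanceAs (Module.Flat R (Fin m → R))
    have hK : IsZero (((Tor (ModuleCat.{u} R) (n + 1)).obj
        (ModuleCat.of R (IsLocalRing.ResidueField R))).obj T.X₁) :=
      isZero_tor_X₁_right hT _ (n + 1) h (isZero_tor_succ_of_flat_right _ n _)
    have : HasProjectiveDimensionLT T.X₁ (n + 1) := ih K hK
    exact (hT.hasProjectiveDimensionLT_X₃_iff n hproj).mpr this

end localRing

end Groth.Agent.Lib.TorPD
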