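/-
helper7: Lib/TorDepth7 (ns Groth.Agent.Lib.TorDepth7). DEPTH SENSITIVITY OF TOR (Mathlib Tor on ModuleCat A):
* smulSES M x, smulSES_shortExact : 0 → M --x--> M → M/xM → 0 for M-regular x
* isZero_tor_of_isWeaklyRegular N e hpd rs M hreg hnil i (h : e < i + rs.length) : Tor_i(M,N) = 0 when
  Tor_j(-,N)=0 for j>e (e.g. pd N ≤ e), rs is M-regular and every x ∈ rs has a power in Ann M + Ann N.
  Hence Tor_i(M,N)=0 for i > pd N - depth M when M ⊗ N has finite length.
-/
import Mathlib
import Groth.Agent.Lib.TorLES
import Groth.Agent.Lib.TorLinear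
import Groth.Agent.Lib.TorPD

set_option autoImplicit false
universe u
open CategoryTheory MonoidalCategory Limits Pointwise

namespace Groth.Agent.Lib.TorDepth7

open Groth.Agent.Lib.TorLES Groth.Agent.Lib.TorBalance Groth.Agent.Lib.TorLinear

variable {A : Type u} [CommRing A]

/-- the short exact sequence `0 → M --x--> M → M/xM → 0` for an `M`-regular element `x`. -/
noncomputable def smulSES (M : Type u) [AddCommGroup M] [Module A M] (x : A) :
    ShortComplex (ModuleCat.{u} A) :=
  ShortComplex.mk (x • 𝟙 (ModuleCat.of A M))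
    (ModuleCat.ofHom (Submodule.mkQ (x • (⊤ : Submodule A M)))) (by
      ext m
      change Submodule.Quotient.mk (x • m) = 0
      rw [Submodule.Quotient.mk_eq_zero]
      exact Submodule.smul_mem_pointwise_smul m x ⊤ Submodule.mem_top)

lemma smulSES_shortExact (M : Type u) [AddCommGroup M] [Module A M] (x : A)
    (hx : IsSMulRegular M x) : (smulSES M x).ShortExact := by
  refine ModuleCat.shortComplex_shortExact _ ?_ ?_ ?_
  · intro (m : M)
    constructor
    · intro h
      have h' : (Submodule.Quotient.mk m : M ⧸ (x • (⊤ : Submodule A M))) = 0 := h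
      rw [Submodule.Quotient.mk_eq_zero, Submodule.mem_smul_pointwise_iff_exists] at h'
      obtain ⟨m', -, rfl⟩ := h'
      exact ⟨m', rfl⟩
    · rintro ⟨(m' : M), rfl⟩
      show (Submodule.Quotient.mk (x • (m' : M)) : M ⧸ (x • (⊤ : Submodule A M))) = 0
      rw [Submodule.Quotient.mk_eq_zero]
      exact Submodule.smul_mem_pointwise_smul (m' : M) x ⊤ Submodule.mem_top
  · intro (a : M) (b : M) h
    exact hx h
  · exact Submodule.mkQ_surjective (x • (⊤ : Submodule A M))

/-- **Depth sensitivity of Tor**: if `Tor_i(-, N) = 0` for `i > e` (e.g. `pd N ≤ e`), `rs` is an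
`M`-regular sequence whose members act nilpotently modulo `Ann M + Ann N`, then
`Tor_i(M, N) = 0` for `i + |rs| > e`. -/
theorem isZero_tor_of_isWeaklyRegular (N : ModuleCat.{u} A) (e : ℕ)
    (hpd : ∀ (M : ModuleCat.{u} A) (i : ℕ), e < i →
      IsZero (((Tor (ModuleCat.{u} A) i).obj M).obj N)) :
    ∀ (rs : List A) (M : Type u) [AddCommGroup M] [Module A M],
      RingTheory.Sequence.IsWeaklyRegular M rs →
      (∀ x ∈ rs, ∃ (k : ℕ) (q p : A), x ^ k = q + p ∧ (∀ m : M, q • m = 0) ∧
        (∀ n : N, p • n = 0)) →
      ∀ i : ℕ, e < i + rs.length →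
        IsZero (((Tor (ModuleCat.{u} A) i).obj (ModuleCat.of A M)).obj N)
  | [], M, _, _, _, _, i, hi => hpd _ i (by simpa using hi)
  | x :: rs, M, _, _, hreg, hnil, i, hi => by
    rw [RingTheory.Sequence.isWeaklyRegular_cons_iff] at hreg
    obtain ⟨hx, hrs⟩ := hreg
    have IH := isZero_tor_of_isWeaklyRegular N e hpd rs (QuotSMulTop x M) hrs (by
      intro y hy
      obtain ⟨k, q, p, h1, h2, h3⟩ := hnil y (List.mem_cons_of_mem _ hy)
      refine ⟨k, q, p, h1, ?_, h3⟩
      intro m
      obtain ⟨m', rfl⟩ := Submodule.mkQ_surjective _ m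
      rw [← map_smul, h2 m', map_zero]) (i + 1) (by simp only [List.length_cons] at hi; omega)
    have hS := smulSES_shortExact M x hx
    let P := ProjectiveResolution.of N
    have hex := exact₁ P hS i
    have hδ : δ P hS i = 0 := IsZero.eq_of_src (by exact IH) _ _
    have hmono : Mono (((Tor (ModuleCat.{u} A) i).map (smulSES M x).f).app N) :=
      hex.mono_g hδ
    have hmap : ((Tor (ModuleCat.{u} A) i).map (smulSES M x).f).app N =
        x • 𝟙 (((Tor (ModuleCat.{u} A) i).obj (ModuleCat.of A M)).obj N) := by
      change ((Tor (ModuleCat.{u} A) i).map (x • 𝟙 (ModuleCat.of A M))).app N = _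
      rw [tor_map_smul_app, CategoryTheory.Functor.map_id, NatTrans.id_app]
    rw [hmap] at hmono
    have hinj : Function.Injective
        (fun t : ((Tor (ModuleCat.{u} A) i).obj (ModuleCat.of A M)).obj N => x • t) := by
      have := (ModuleCat.mono_iff_injective _).mp hmono
      exact this
    obtain ⟨k, q, p, h1, h2, h3⟩ := hnil x List.mem_cons_self
    have hkill : ∀ t : ((Tor (ModuleCat.{u} A) i).obj (ModuleCat.of A M)).obj N,
        x ^ k • t = 0 := by
      intro t
      rw [h1, add_smul, smul_tor_eq_zero_of_left q (ModuleCat.of A M) N h2 i t,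
        smul_tor_eq_zero_of_right p (ModuleCat.of A M) N h3 i t, add_zero]
    have hsub : Subsingleton (((Tor (ModuleCat.{u} A) i).obj (ModuleCat.of A M)).obj N) := by
      refine ⟨fun s t => ?_⟩
      have hpow : ∀ j : ℕ, Function.Injective
          (fun t : ((Tor (ModuleCat.{u} A) i).obj (ModuleCat.of A M)).obj N => x ^ j • t) := by
        intro j
        induction j with
        | zero => intro a b h; simpa using h
        | succ j ih =>
          intro a b h
          simp only [pow_succ, mul_smul] at h
          exact hinj (ih h)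
      apply hpow k
      simp only [hkill]
    exact ModuleCat.isZero_of_subsingleton _

end Groth.Agent.Lib.TorDepth7
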