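/-
helper7: Lib/IntMultCM7 (ns Groth.Agent.Lib.IntMultCM7). SERRE's CM INTERSECTION THEOREM (algebra):
* chi_eq_length_of_isZero_tor P Q : higher Tor_i(A/Q,A/P) vanish ⇒ IntMult.chi A (A/Q) (A/P) = length A/(P⊔Q)
* isZero_tor_of_CM : A regular local, A/P, A/Q CM (prelude LocCoh CM local rings), primes over P⊔Q maximal,
  dV ≤ dim A/P, dW ≤ dim A/Q, dim A ≤ dV + dW ⇒ Tor_i(A/Q, A/P) = 0 for i > 0
  (Auslander-Buchsbaum H87AB + depth sensitivity TorDepth7)
* chi_eq_length_of_CM_CM : then chi A (A/Q) (A/P) = length A/(P ⊔ Q).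
-/
import Mathlib
import Groth.Agent.Lib.TorDepth7
import Groth.Agent.Lib.IntMultAlg7
import Groth.Agent.Lib.H87AB
import Groth.Agent.Lib.H87GlDim2
import Groth.Agent.Lib.CMFlat33
import Groth.Agent.Lib.DepthRees

set_option autoImplicit false
universe u
open CategoryTheory MonoidalCategory Limits
attribute [local instance] HasDerivedCategory.standard

namespace Groth.Agent.Lib.IntMultCM7

open Groth.Agent.Lib.TorLES Groth.Agent.Lib.TorBalance Groth.Agent.Lib

variable {A : Type u} [CommRing A]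

/-- if the higher Tor vanish, the Tor Euler characteristic is the length of the tensor product,
here for cyclic modules: `length A/(P ⊔ Q)`. -/
theorem chi_eq_length_of_isZero_tor [IsNoetherianRing A] [IsLocalRing A] (P Q : Ideal A)
    (h : ∀ i : ℕ, 0 < i → IsZero (((Tor (ModuleCat.{u} A) i).obj (ModuleCat.of A (A ⧸ Q))).obj
      (ModuleCat.of A (A ⧸ P)))) :
    IntMult.chi A (A ⧸ Q) (A ⧸ P) = ((Module.length A (A ⧸ (P ⊔ Q))).toNat : ℤ) := by
  unfold IntMult.chi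
  rw [finsum_eq_single _ 0]
  · have e1 := (torZeroIso (ModuleCat.of A (A ⧸ Q)) (ModuleCat.of A (A ⧸ P))).toLinearEquiv
    have e2 := TensorProduct.quotTensorEquivQuotSMul (A ⧸ P) Q
    have h1 : Module.length A (DRing.Tor A 0 (A ⧸ Q) (A ⧸ P)) =
        Module.length A (A ⧸ (P ⊔ Q)) := by
      rw [← Groth.Agent.Lib.IntMultAlg7.length_quotient_smul_top P Q, ← e2.length_eq]
      exact e1.length_eq
    rw [h1]
    simp
  · intro i hi
    have hz := h i (Nat.pos_of_ne_zero hi)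
    have : Subsingleton (DRing.Tor A i (A ⧸ Q) (A ⧸ P)) := ModuleCat.subsingleton_of_isZero hz
    rw [Module.length_eq_zero]
    simp


open IsLocalRing in
/-- **Serre**: over a regular local ring `A`, if `A/P` and `A/Q` are Cohen–Macaulay,
`P + Q` is primary to the maximal ideal and `dim A/P + dim A/Q ≥ dim A`, then
`Tor_i(A/Q, A/P) = 0` for `i > 0`. -/
theorem isZero_tor_of_CM [IsRegularLocalRing A] (P Q : Ideal A)
    [LocCoh.IsCohenMacaulayLocalRing (A ⧸ P)] [LocCoh.IsCohenMacaulayLocalRing (A ⧸ Q)]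
    (h0 : ∀ p : Ideal A, p.IsPrime → P ⊔ Q ≤ p → p.IsMaximal)
    (a dV dW : ℕ) (ha : ringKrullDim A = (a : WithBot ℕ∞))
    (hV : (dV : WithBot ℕ∞) ≤ ringKrullDim (A ⧸ P))
    (hW : (dW : WithBot ℕ∞) ≤ ringKrullDim (A ⧸ Q))
    (hsum : a ≤ dV + dW) (i : ℕ) (hi : 0 < i) :
    IsZero (((Tor (ModuleCat.{u} A) i).obj (ModuleCat.of A (A ⧸ Q))).obj
      (ModuleCat.of A (A ⧸ P))) := by
  have hnP : Nontrivial (A ⧸ P) := inferInstance
  have hnQ : Nontrivial (A ⧸ Q) := inferInstance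
  have hd : ringKrullDim A = ((maximalIdeal A).spanFinrank : ℕ) :=
    IsRegularLocalRing.spanFinrank_maximalIdeal.symm
  have hpd := H87GlDim2.hasProjectiveDimensionLT_of_isRegularLocalRing (A := A) _ hd
    (ModuleCat.of A (A ⧸ P))
  obtain ⟨e, -, h1, h2⟩ := H87AB.exists_projectiveDimension_eq (R := A) (A ⧸ P) _ hpd
  have hAB := H87AB.auslander_buchsbaum' (A ⧸ P) e h1 h2
  have hdepthA := H87AB.depth_self_of_isRegularLocalRing A
  -- depths of A/P, A/Q
  obtain ⟨δP, hδP⟩ := ENat.ne_top_iff_exists.mp (DepthRees.depth_ne_top (R := A) (A ⧸ P))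
  obtain ⟨δQ, hδQ⟩ := ENat.ne_top_iff_exists.mp (DepthRees.depth_ne_top (R := A) (A ⧸ Q))
  have hcmP : ringKrullDim (A ⧸ P) = ((δP : ℕ∞) : WithBot ℕ∞) := by
    have := LocCoh.IsCohenMacaulayLocalRing.supportDim_eq_depth (R := A ⧸ P)
    rw [Module.supportDim_self_eq_ringKrullDim, ← CMFlat33.depth_quotient_eq (B := A) P,
      ← hδP] at this
    exact this
  have hcmQ : ringKrullDim (A ⧸ Q) = ((δQ : ℕ∞) : WithBot ℕ∞) := by
    have := LocCoh.IsCohenMacaulayLocalRing.supportDim_eq_depth (R := A ⧸ Q)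
    rw [Module.supportDim_self_eq_ringKrullDim, ← CMFlat33.depth_quotient_eq (B := A) Q,
      ← hδQ] at this
    exact this
  have hVle : dV ≤ δP := by
    rw [hcmP] at hV
    exact_mod_cast hV
  have hWle : dW ≤ δQ := by
    rw [hcmQ] at hW
    exact_mod_cast hW
  have hae : a = e + δP := by
    rw [hAB, ← hδP, ha] at hdepthA
    exact_mod_cast hdepthA.symm
  -- regular sequence on A/Q
  obtain ⟨rs, hlen, hmem, hreg⟩ :=
    (DepthRees.natCast_le_depth_iff (R := A) (A ⧸ Q) δQ).mp (by rw [← hδQ])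
  -- Tor vanishing above e
  have hpd' : ∀ (M : ModuleCat.{u} A) (j : ℕ), e < j →
      IsZero (((Tor (ModuleCat.{u} A) j).obj M).obj (ModuleCat.of A (A ⧸ P))) :=
    fun M j hj => TorPD.isZero_tor_of_hasProjectiveDimensionLT e (ModuleCat.of A (A ⧸ P)) M j hj
  -- nilpotency
  have hnil : ∀ x ∈ rs, ∃ (k : ℕ) (q p : A), x ^ k = q + p ∧ (∀ m : A ⧸ Q, q • m = 0) ∧
      (∀ n : (ModuleCat.of A (A ⧸ P)), p • n = 0) := by
    intro x hx
    have hxm := hmem x hx
    have hrad : x ∈ (P ⊔ Q).radical := by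
      rw [Ideal.radical_eq_sInf, Submodule.mem_sInf]
      rintro J ⟨hJ, hJp⟩
      have := IsLocalRing.eq_maximalIdeal (h0 J hJp hJ)
      rw [this]
      exact hxm
    obtain ⟨k, hk⟩ := hrad
    obtain ⟨p, hp, q, hq, hpq⟩ := Submodule.mem_sup.mp hk
    refine ⟨k, q, p, by rw [← hpq, add_comm], ?_, ?_⟩
    · intro m
      obtain ⟨b, rfl⟩ := Ideal.Quotient.mk_surjective m
      change Ideal.Quotient.mk Q (q * b) = 0
      rw [Ideal.Quotient.eq_zero_iff_mem]
      exact Ideal.mul_mem_right _ _ hq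
    · intro (n : A ⧸ P)
      obtain ⟨b, rfl⟩ := Ideal.Quotient.mk_surjective n
      change Ideal.Quotient.mk P (p * b) = 0
      rw [Ideal.Quotient.eq_zero_iff_mem]
      exact Ideal.mul_mem_right _ _ hp
  exact TorDepth7.isZero_tor_of_isWeaklyRegular (ModuleCat.of A (A ⧸ P)) e hpd' rs (A ⧸ Q) hreg
    hnil i (by omega)

/-- `χ(A/Q, A/P) = length A/(P+Q)` for Cohen–Macaulay quotients of a regular local ring meeting
properly. -/
theorem chi_eq_length_of_CM_CM [IsRegularLocalRing A] (P Q : Ideal A)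
    [LocCoh.IsCohenMacaulayLocalRing (A ⧸ P)] [LocCoh.IsCohenMacaulayLocalRing (A ⧸ Q)]
    (h0 : ∀ p : Ideal A, p.IsPrime → P ⊔ Q ≤ p → p.IsMaximal)
    (a dV dW : ℕ) (ha : ringKrullDim A = (a : WithBot ℕ∞))
    (hV : (dV : WithBot ℕ∞) ≤ ringKrullDim (A ⧸ P))
    (hW : (dW : WithBot ℕ∞) ≤ ringKrullDim (A ⧸ Q))
    (hsum : a ≤ dV + dW) :
    IntMult.chi A (A ⧸ Q) (A ⧸ P) = ((Module.length A (A ⧸ (P ⊔ Q))).toNat : ℤ) :=
  chi_eq_length_of_isZero_tor P Q fun i hi =>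
    isZero_tor_of_CM P Q h0 a dV dW ha hV hW hsum i hi

end Groth.Agent.Lib.IntMultCM7
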