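/-
helper7: Lib/IntMultDim7 (ns Groth.Agent.Lib.IntMultDim7). SCHEME SIDE of the IntMult.mult cluster.
* germ_mem_ker_specMap_iff, stalkIdeal_le_ker_iff : for η ⤳ ξ,
    IntMult.stalkIdeal I ξ ≤ ker (Cyc.specMap ξ η h) ↔ η ∈ I.support
  (primes of O_{X,ξ} containing the stalk ideal ↔ generizations of ξ in the support)
* ker_specMap_self, isMaximal_of_sup_le : ξ maximal under generization in V ∩ W ⇒ every prime of
  O_{X,ξ} containing I_{V,ξ} + I_{W,ξ} is maximal
* exists_genericPoint_support (integral subscheme ⇒ support has a generic point)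
* X lft over a field K: dim_eq_td_of_closure_eq, td_mono, exists_nat_ringKrullDim_stalk,
  le_ringKrullDim_quotient : V, W integral, proper intersection, I_{V,ξ} generated by a regular
  sequence of length c ⇒ c ≤ dim O_{X,ξ}/I_{W,ξ}.
-/
import Mathlib
import Groth.Prelude.Def_IntMult
import Groth.Agent.Lib.H30DimField
import Groth.Agent.Lib.H30FlatDim
import Groth.Agent.Lib.H30LocDimTop
import Groth.Agent.Lib.H30EquidimAt
import Groth.Agent.Lib.DimDrop
import Groth.Agent.S6462

set_option autoImplicit false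
universe u
open CategoryTheory AlgebraicGeometry

namespace Groth.Agent.Lib.IntMultDim7

section stalkIdeal

variable {X : Scheme.{u}} (I : X.IdealSheafData)

/-- a section `s` over `U ∋ ξ` has germ at `ξ` in the prime of the generization `η` iff `η` is
not in the basic open of `s`. -/
theorem germ_mem_ker_specMap_iff (ξ η : X) (h : η ⤳ ξ) (U : X.Opens) (hξ : ξ ∈ U)
    (s : Γ(X, U)) :
    (X.presheaf.germ U ξ hξ).hom s ∈ RingHom.ker (Cyc.specMap ξ η h) ↔ η ∉ X.basicOpen s := by
  have hη : η ∈ U := h.mem_open U.2 hξ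
  rw [Groth.Agent.S6462.ker_specMap, Ideal.mem_comap, Scheme.mem_basicOpen _ _ _ hη,
    IsLocalRing.mem_maximalIdeal, mem_nonunits_iff]
  have : (X.presheaf.stalkSpecializes h).hom ((X.presheaf.germ U ξ hξ).hom s) =
      (X.presheaf.germ U η hη).hom s := by
    rw [← CommRingCat.comp_apply, TopCat.Presheaf.germ_stalkSpecializes]
  rw [this]

theorem stalkIdeal_le_ker_iff (ξ η : X) (h : η ⤳ ξ) :
    IntMult.stalkIdeal I ξ ≤ RingHom.ker (Cyc.specMap ξ η h) ↔ η ∈ I.support := by
  constructor
  · intro hle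
    obtain ⟨_, ⟨U, hU, rfl⟩, hξU, -⟩ :=
      (X.isBasis_affineOpens).exists_subset_of_mem_open (Set.mem_univ ξ) isOpen_univ
    have hηU : η ∈ U := h.mem_open U.2 hξU
    rw [Scheme.IdealSheafData.mem_support_iff_of_mem (U := ⟨U, hU⟩) hηU,
      Scheme.mem_zeroLocus_iff]
    intro s hs
    rw [← germ_mem_ker_specMap_iff ξ η h U hξU s]
    apply hle
    unfold IntMult.stalkIdeal
    refine Ideal.mem_iSup_of_mem (⟨U, hU⟩ : X.affineOpens) ?_
    refine Ideal.mem_iSup_of_mem hξU ?_
    exact Ideal.mem_map_of_mem _ hs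
  · intro hη
    unfold IntMult.stalkIdeal
    refine iSup_le fun U => iSup_le fun hξU => ?_
    rw [Ideal.map_le_iff_le_comap]
    intro s hs
    rw [Ideal.mem_comap, germ_mem_ker_specMap_iff ξ η h U.1 hξU s]
    have := (Scheme.IdealSheafData.mem_support_iff.mp hη) U
    rw [Scheme.mem_zeroLocus_iff] at this
    exact this s hs


theorem ker_specMap_self (ξ : X) (h : ξ ⤳ ξ) :
    RingHom.ker (Cyc.specMap ξ ξ h) = IsLocalRing.maximalIdeal (X.presheaf.stalk ξ) := by
  rw [Groth.Agent.S6462.ker_specMap]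
  have : X.presheaf.stalkSpecializes h = 𝟙 _ := TopCat.Presheaf.stalkSpecializes_refl _ _
  rw [this]
  rfl

/-- primes of the local ring at a point `ξ` of `V ∩ W` maximal under generization in `V ∩ W`
which contain both stalk ideals are maximal. -/
theorem isMaximal_of_sup_le (IV IW : X.IdealSheafData) (ξ : X)
    (hmax : ∀ ξ' : X, ξ' ∈ IV.support → ξ' ∈ IW.support → ξ' ⤳ ξ → ξ' = ξ)
    (p : Ideal (X.presheaf.stalk ξ)) (hp : p.IsPrime)
    (hle : IntMult.stalkIdeal IV ξ ⊔ IntMult.stalkIdeal IW ξ ≤ p) : p.IsMaximal := by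
  obtain ⟨η, h, hker⟩ := Groth.Agent.Lib.H30EquidimAt.exists_specializes_ker_eq ξ p
  rw [← hker] at hle
  have hV := (stalkIdeal_le_ker_iff IV ξ η h).mp (le_trans le_sup_left hle)
  have hW := (stalkIdeal_le_ker_iff IW ξ η h).mp (le_trans le_sup_right hle)
  have he := hmax η hV hW h
  subst he
  rw [← hker, ker_specMap_self]
  exact IsLocalRing.maximalIdeal.isMaximal _

end stalkIdeal

section dim

open Groth.Agent.Lib.H30DimField

variable (K : Type u) [Field K] (X : Scheme.{u}) [X.Over (Spec (CommRingCat.of K))]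
  [LocallyOfFiniteType (X ↘ Spec (CommRingCat.of K))]

omit [X.Over (Spec (CommRingCat.of K))] [LocallyOfFiniteType (X ↘ Spec (CommRingCat.of K))] in
/-- generic point of the support of an integral closed subscheme. -/
theorem exists_genericPoint_support (I : X.IdealSheafData) [IsIntegral I.subscheme] :
    ∃ η : X, closure ({η} : Set X) = (I.support : Set X) := by
  have hirr : IsIrreducible (I.support : Set X) := by
    have h1 := (IrreducibleSpace.isIrreducible_univ I.subscheme).image I.subschemeι
      I.subschemeι.continuous.continuousOn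
    rwa [Set.image_univ, Scheme.IdealSheafData.range_subschemeι] at h1
  obtain ⟨η, hη⟩ := QuasiSober.sober hirr I.support.isClosed
  exact ⟨η, hη⟩

/-- dimension of a closed subset with a generic point. -/
theorem dim_eq_td_of_closure_eq (S : Set X) (η : X) (hη : closure ({η} : Set X) = S) :
    topologicalKrullDim ↥S = (((td K X η).toNat : ℕ) : WithBot ℕ∞) := by
  haveI := jacobsonSpace K X
  subst hη
  exact Groth.Agent.Lib.H30LocDimTop.krullDim_closure (td K X)
    (isDimensionFunction_of_isDimFun (isDimFun K X))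
    (fun c hc => td_eq_zero_of_isClosed K X c hc) η

theorem td_mono {x y : X} (h : x ⤳ y) : td K X y ≤ td K X x :=
  Groth.Agent.Lib.H30LocDimTop.delta_mono (td K X)
    (isDimensionFunction_of_isDimFun (isDimFun K X)) h


omit [X.Over (Spec (CommRingCat.of K))] [LocallyOfFiniteType (X ↘ Spec (CommRingCat.of K))] in
lemma exists_nat_ringKrullDim_stalk [IsLocallyNoetherian X] (ξ : X) :
    ∃ a : ℕ, ringKrullDim (X.presheaf.stalk ξ) = (a : WithBot ℕ∞) := by
  have h1 : ringKrullDim (X.presheaf.stalk ξ) < ⊤ := ringKrullDim_lt_top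
  have h2 : 0 ≤ ringKrullDim (X.presheaf.stalk ξ) := ringKrullDim_nonneg_of_nontrivial
  generalize ringKrullDim (X.presheaf.stalk ξ) = d at h1 h2
  induction d using WithBot.recBotCoe with
  | bot => simp at h2
  | coe d =>
    induction d using ENat.recTopCoe with
    | top => simp at h1
    | coe a => exact ⟨a, rfl⟩

include K in
/-- the key dimension inequality: if `I_{V,ξ}` is generated by a regular sequence of length `c` and
`V`, `W` intersect properly, then `c ≤ dim O_{W,ξ}`. -/
theorem le_ringKrullDim_quotient [IsIntegral X] (IV IW : X.IdealSheafData)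
    [IsIntegral IV.subscheme] [IsIntegral IW.subscheme] (n r s : ℕ)
    (hn : topologicalKrullDim X = n) (hr : topologicalKrullDim ↥(IV.support : Set X) = r)
    (hs : topologicalKrullDim ↥(IW.support : Set X) = s)
    (hprop : IntMult.ProperInt (IV.support : Set X) (IW.support : Set X) n r s) (ξ : X)
    (hξV : ξ ∈ IV.support) (hξW : ξ ∈ IW.support)
    (c : ℕ) (g : Fin c → X.presheaf.stalk ξ)
    (hg : IntMult.stalkIdeal IV ξ = Ideal.span (Set.range g))
    (hreg : RingTheory.Sequence.IsRegular (X.presheaf.stalk ξ) (List.ofFn g)) :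
    (c : WithBot ℕ∞) ≤ ringKrullDim (X.presheaf.stalk ξ ⧸ IntMult.stalkIdeal IW ξ) := by
  haveI := isLocallyNoetherian K X
  obtain ⟨ηV, hηV⟩ := exists_genericPoint_support X IV
  obtain ⟨ηW, hηW⟩ := exists_genericPoint_support X IW
  have hVξ : ηV ⤳ ξ := specializes_iff_mem_closure.mpr (by rw [hηV]; exact hξV)
  have hWξ : ηW ⤳ ξ := specializes_iff_mem_closure.mpr (by rw [hηW]; exact hξW)
  have hηVmem : ηV ∈ IV.support := by
    have : ηV ∈ closure ({ηV} : Set X) := subset_closure rfl
    rw [hηV] at this; exact this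
  have hηWmem : ηW ∈ IW.support := by
    have : ηW ∈ closure ({ηW} : Set X) := subset_closure rfl
    rw [hηW] at this; exact this
  -- dimensions of V, W
  have hr' : r = (td K X ηV).toNat := by
    have := dim_eq_td_of_closure_eq K X _ ηV hηV
    rw [hr] at this
    exact_mod_cast this
  have hs' : s = (td K X ηW).toNat := by
    have := dim_eq_td_of_closure_eq K X _ ηW hηW
    rw [hs] at this
    exact_mod_cast this
  -- dimension of closure ξ
  have hz : (td K X ξ).toNat ≤ r + s - n ∧ n ≤ r + s := by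
    have hne : ((IV.support : Set X) ∩ (IW.support : Set X)).Nonempty := ⟨ξ, hξV, hξW⟩
    obtain ⟨h1, h2⟩ := hprop hne
    refine ⟨?_, h1⟩
    have h3 := dim_eq_td_of_closure_eq K X _ ξ rfl
    have hsub : closure ({ξ} : Set X) ⊆ (IV.support : Set X) ∩ (IW.support : Set X) := by
      apply closure_minimal
      · rintro _ rfl; exact ⟨hξV, hξW⟩
      · exact IV.support.isClosed.inter IW.support.isClosed
    have h4 := Groth.Agent.Lib.DimDrop.topologicalKrullDim_mono hsub
    rw [h3] at h4
    have h5 := le_trans h4 h2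
    exact_mod_cast h5
  -- dimension of A
  obtain ⟨a, ha⟩ := exists_nat_ringKrullDim_stalk X ξ
  have hna : n = a + (td K X ξ).toNat := by
    have := Groth.Agent.Lib.H30FlatDim.dim_eq_stalk_add K X ξ
    rw [hn, ha] at this
    exact_mod_cast this
  -- dim A/p_V, A/p_W
  have hdV := Groth.Agent.S6462.part2 (isDimFun K X) ξ ηV hVξ
  have hdW := Groth.Agent.S6462.part2 (isDimFun K X) ξ ηW hWξ
  have hleV : IntMult.stalkIdeal IV ξ ≤ RingHom.ker (Cyc.specMap ξ ηV hVξ) :=
    (stalkIdeal_le_ker_iff IV ξ ηV hVξ).mpr hηVmem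
  have hleW : IntMult.stalkIdeal IW ξ ≤ RingHom.ker (Cyc.specMap ξ ηW hWξ) :=
    (stalkIdeal_le_ker_iff IW ξ ηW hWξ).mpr hηWmem
  have hdV' : (((td K X ηV - td K X ξ).toNat : ℕ) : WithBot ℕ∞) ≤
      ringKrullDim (X.presheaf.stalk ξ ⧸ IntMult.stalkIdeal IV ξ) := by
    have := ringKrullDim_le_of_surjective (Ideal.Quotient.factor hleV)
      (Ideal.Quotient.factor_surjective hleV)
    unfold Cyc.LocQuot at hdV
    rw [hdV] at this
    exact this
  have hdW' : (((td K X ηW - td K X ξ).toNat : ℕ) : WithBot ℕ∞) ≤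
      ringKrullDim (X.presheaf.stalk ξ ⧸ IntMult.stalkIdeal IW ξ) := by
    have := ringKrullDim_le_of_surjective (Ideal.Quotient.factor hleW)
      (Ideal.Quotient.factor_surjective hleW)
    unfold Cyc.LocQuot at hdW
    rw [hdW] at this
    exact this
  -- regular sequence
  have hD6 := ringKrullDim_add_length_eq_ringKrullDim_of_isRegular (List.ofFn g) hreg
  have hof : Ideal.ofList (List.ofFn g) = IntMult.stalkIdeal IV ξ := by
    rw [hg]
    unfold Ideal.ofList
    congr 1
    ext b
    simp [List.mem_ofFn']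
  rw [hof, List.length_ofFn, ha] at hD6
  have hc1 : (td K X ηV - td K X ξ).toNat + c ≤ a := by
    have : (((td K X ηV - td K X ξ).toNat : ℕ) : WithBot ℕ∞) + (c : WithBot ℕ∞) ≤
        (a : WithBot ℕ∞) := by
      rw [← hD6]
      gcongr
    exact_mod_cast this
  have hzV := td_mono K X hVξ
  have hzW := td_mono K X hWξ
  have h0 := td_nonneg K X ξ
  refine le_trans ?_ hdW'
  have : c ≤ (td K X ηW - td K X ξ).toNat := by
    omega
  exact_mod_cast this

end dim

end Groth.Agent.Lib.IntMultDim7
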