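/-
helper7: Lib/IntMultDim7b (ns Groth.Agent.Lib.IntMultDim7). exists_dims: GEOMETRIC DIMENSION INEQUALITY
dim O_{V,ξ} + dim O_{W,ξ} ≥ dim O_{X,ξ} for properly intersecting integral closed subschemes V, W of an
integral X lft over a field, ξ ∈ V ∩ W (form: ∃ a dV dW : ℕ, dim O_{X,ξ} = a ∧ dV ≤ dim O_ξ/I_V ∧
dW ≤ dim O_ξ/I_W ∧ a ≤ dV + dW).
-/
import Mathlib
import Groth.Agent.Lib.IntMultDim7

set_option autoImplicit false
universe u
open CategoryTheory AlgebraicGeometry

namespace Groth.Agent.Lib.IntMultDim7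

section dim

open Groth.Agent.Lib.H30DimField

variable (K : Type u) [Field K] (X : Scheme.{u}) [X.Over (Spec (CommRingCat.of K))]
  [LocallyOfFiniteType (X ↘ Spec (CommRingCat.of K))]

include K in
/-- the geometric dimension inequality `dim O_{V,ξ} + dim O_{W,ξ} ≥ dim O_{X,ξ}` for properly
intersecting integral closed subschemes `V`, `W` at a point `ξ ∈ V ∩ W`, in the form of lower
bounds `dV ≤ dim O_{X,ξ}/I_V`, `dW ≤ dim O_{X,ξ}/I_W` with `a = dim O_{X,ξ} ≤ dV + dW`. -/
theorem exists_dims [IsIntegral X] (IV IW : X.IdealSheafData)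
    [IsIntegral IV.subscheme] [IsIntegral IW.subscheme] (n r s : ℕ)
    (hn : topologicalKrullDim X = n) (hr : topologicalKrullDim ↥(IV.support : Set X) = r)
    (hs : topologicalKrullDim ↥(IW.support : Set X) = s)
    (hprop : IntMult.ProperInt (IV.support : Set X) (IW.support : Set X) n r s) (ξ : X)
    (hξV : ξ ∈ IV.support) (hξW : ξ ∈ IW.support) :
    ∃ a dV dW : ℕ, ringKrullDim (X.presheaf.stalk ξ) = (a : WithBot ℕ∞) ∧
      (dV : WithBot ℕ∞) ≤ ringKrullDim (X.presheaf.stalk ξ ⧸ IntMult.stalkIdeal IV ξ) ∧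
      (dW : WithBot ℕ∞) ≤ ringKrullDim (X.presheaf.stalk ξ ⧸ IntMult.stalkIdeal IW ξ) ∧
      a ≤ dV + dW := by
  haveI := isLocallyNoetherian K X
  obtain ⟨ηV, hηV⟩ := exists_genericPoint_support X IV
  obtain ⟨ηW, hηW⟩ := exists_genericPoint_support X IW
  have hVξ : ηV ⤳ ξ := specializes_iff_mem_closure.mpr (by rw [hηV]; exact hξV)
  have hWξ : ηW ⤳ ξ := specializes_iff_mem_closure.mpr (by rw [hηW]; exact hξW)
  have hηVmem : ηV ∈ IV.support := by
    have : ηV ∈ closure ({ηV} : Set X) := subset_closure rfl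
    rw [hηV] at this; exact this
  have hηWmem : ηW ∈ IW.support := by
    have : ηW ∈ closure ({ηW} : Set X) := subset_closure rfl
    rw [hηW] at this; exact this
  have hr' : r = (td K X ηV).toNat := by
    have := dim_eq_td_of_closure_eq K X _ ηV hηV
    rw [hr] at this
    exact_mod_cast this
  have hs' : s = (td K X ηW).toNat := by
    have := dim_eq_td_of_closure_eq K X _ ηW hηW
    rw [hs] at this
    exact_mod_cast this
  have hz : (td K X ξ).toNat ≤ r + s - n ∧ n ≤ r + s := by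
    have hne : ((IV.support : Set X) ∩ (IW.support : Set X)).Nonempty := ⟨ξ, hξV, hξW⟩
    obtain ⟨h1, h2⟩ := hprop hne
    refine ⟨?_, h1⟩
    have h3 := dim_eq_td_of_closure_eq K X _ ξ rfl
    have hsub : closure ({ξ} : Set X) ⊆ (IV.support : Set X) ∩ (IW.support : Set X) := by
      apply closure_minimal
      · rintro _ rfl; exact ⟨hξV, hξW⟩
      · exact IV.support.isClosed.inter IW.support.isClosed
    have h4 := Groth.Agent.Lib.DimDrop.topologicalKrullDim_mono hsub
    rw [h3] at h4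
    have h5 := le_trans h4 h2
    exact_mod_cast h5
  obtain ⟨a, ha⟩ := exists_nat_ringKrullDim_stalk X ξ
  have hna : n = a + (td K X ξ).toNat := by
    have := Groth.Agent.Lib.H30FlatDim.dim_eq_stalk_add K X ξ
    rw [hn, ha] at this
    exact_mod_cast this
  have hdV := Groth.Agent.S6462.part2 (isDimFun K X) ξ ηV hVξ
  have hdW := Groth.Agent.S6462.part2 (isDimFun K X) ξ ηW hWξ
  have hleV : IntMult.stalkIdeal IV ξ ≤ RingHom.ker (Cyc.specMap ξ ηV hVξ) :=
    (stalkIdeal_le_ker_iff IV ξ ηV hVξ).mpr hηVmem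
  have hleW : IntMult.stalkIdeal IW ξ ≤ RingHom.ker (Cyc.specMap ξ ηW hWξ) :=
    (stalkIdeal_le_ker_iff IW ξ ηW hWξ).mpr hηWmem
  have hdV' : (((td K X ηV - td K X ξ).toNat : ℕ) : WithBot ℕ∞) ≤
      ringKrullDim (X.presheaf.stalk ξ ⧸ IntMult.stalkIdeal IV ξ) := by
    have := ringKrullDim_le_of_surjective (Ideal.Quotient.factor hleV)
      (Ideal.Quotient.factor_surjective hleV)
    unfold Cyc.LocQuot at hdV
    rw [hdV] at this
    exact this
  have hdW' : (((td K X ηW - td K X ξ).toNat : ℕ) : WithBot ℕ∞) ≤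
      ringKrullDim (X.presheaf.stalk ξ ⧸ IntMult.stalkIdeal IW ξ) := by
    have := ringKrullDim_le_of_surjective (Ideal.Quotient.factor hleW)
      (Ideal.Quotient.factor_surjective hleW)
    unfold Cyc.LocQuot at hdW
    rw [hdW] at this
    exact this
  have hzV := td_mono K X hVξ
  have hzW := td_mono K X hWξ
  have h0 := td_nonneg K X ξ
  refine ⟨a, (td K X ηV - td K X ξ).toNat, (td K X ηW - td K X ξ).toNat, ha, hdV', hdW', ?_⟩
  omega

end dim

end Groth.Agent.Lib.IntMultDim7
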