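import Mathlib.Algebra.MvPolynomial.Degrees
import Mathlib.Algebra.MvPolynomial.Eval
import Mathlib.Algebra.BigOperators.Fin
import Mathlib.Data.Fintype.Powerset

/-!
# Mixed differences of polynomials of small degree vanish (helper13, K3.N; Mathlib only)

`sum_powerset_eval_eq_zero`: for `P : MvPolynomial (Fin n) R` of total degree `< n`,
`Σ_{I ⊆ Fin n} (-1)^{|I|} P(1_I) = 0` (the `n`-fold mixed difference at the origin).
-/

set_option autoImplicit false
open Finset

namespace Groth.Agent.Lib.MixedDiff13

variable {R : Type*} [CommRing R] {n : ℕ}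

/-- the indicator vector of a subset -/
def ind (I : Finset (Fin n)) : Fin n → R := fun i => if i ∈ I then 1 else 0

theorem sum_powerset_monomial_eq_zero (a : Fin n →₀ ℕ) (j : Fin n) (hj : a j = 0) :
    ∑ I : Finset (Fin n), (-1 : R) ^ I.card * ∏ i, (ind I i : R) ^ a i = 0 := by
  classical
  -- the involution `I ↦ I △ {j}`
  refine Finset.sum_involution (fun I _ => symmDiff I {j}) ?_ ?_ ?_ ?_
  · intro I _
    have hprod : ∏ i, (ind (symmDiff I {j}) i : R) ^ a i = ∏ i, (ind I i : R) ^ a i := by
      apply Finset.prod_congr rfl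
      intro i _
      by_cases hij : i = j
      · subst hij; rw [hj, pow_zero, pow_zero]
      · congr 1
        unfold ind
        simp only [Finset.mem_symmDiff, Finset.mem_singleton, hij, not_false_eq_true, and_true,
          false_and, or_false]
    have hcard : (-1 : R) ^ (symmDiff I {j}).card = - (-1 : R) ^ I.card := by
      by_cases hjI : j ∈ I
      · have : symmDiff I {j} = I.erase j := by
          ext x; simp only [Finset.mem_symmDiff, Finset.mem_singleton, Finset.mem_erase]
          constructor
          · rintro (⟨h1, h2⟩ | ⟨h1, h2⟩)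
            · exact ⟨h2, h1⟩
            · exact absurd (h1 ▸ hjI) h2
          · rintro ⟨h1, h2⟩; exact Or.inl ⟨h2, h1⟩
        rw [this, Finset.card_erase_of_mem hjI]
        obtain ⟨c, hc⟩ : ∃ c, I.card = c + 1 :=
          Nat.exists_eq_succ_of_ne_zero (Finset.card_ne_zero_of_mem hjI)
        rw [hc, Nat.add_sub_cancel, pow_succ]; ring
      · have : symmDiff I {j} = insert j I := by
          ext x; simp only [Finset.mem_symmDiff, Finset.mem_singleton, Finset.mem_insert]
          constructor
          · rintro (⟨h1, _⟩ | ⟨h1, _⟩)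
            · exact Or.inr h1
            · exact Or.inl h1
          · rintro (h1 | h1)
            · exact Or.inr ⟨h1, h1 ▸ hjI⟩
            · exact Or.inl ⟨h1, fun h => hjI (h ▸ h1)⟩
        rw [this, Finset.card_insert_of_notMem hjI, pow_succ]; ring
    rw [hprod, hcard]; ring
  · intro I _ _ h
    have : j ∈ symmDiff I {j} ↔ j ∈ I := by rw [h]
    simp [Finset.mem_symmDiff] at this
  · intro I _; exact Finset.mem_univ _
  · intro I _
    simp [symmDiff_symmDiff_cancel_right]

theorem sum_powerset_eval_eq_zero (P : MvPolynomial (Fin n) R) (hP : P.totalDegree < n) :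
    ∑ I : Finset (Fin n), (-1 : R) ^ I.card * MvPolynomial.eval (ind I) P = 0 := by
  classical
  simp_rw [MvPolynomial.eval_eq', Finset.mul_sum]
  rw [Finset.sum_comm]
  apply Finset.sum_eq_zero
  intro a ha
  -- some exponent vanishes
  have hdeg : (a.sum fun _ e => e) ≤ P.totalDegree := MvPolynomial.le_totalDegree ha
  have hex : ∃ j, a j = 0 := by
    by_contra hne
    push Not at hne
    have h1 : ∀ i, 1 ≤ a i := fun i => Nat.one_le_iff_ne_zero.2 (hne i)
    have h2 : (a.sum fun _ e => e) = ∑ i, a i := Finsupp.sum_fintype a _ (fun _ => rfl)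
    have h3 : n ≤ ∑ i : Fin n, a i := by
      calc n = ∑ _i : Fin n, 1 := by simp
        _ ≤ ∑ i, a i := Finset.sum_le_sum (fun i _ => h1 i)
    omega
  obtain ⟨j, hj⟩ := hex
  have := sum_powerset_monomial_eq_zero (R := R) a j hj
  calc ∑ I : Finset (Fin n), (-1 : R) ^ I.card * (MvPolynomial.coeff a P * ∏ i, ind I i ^ a i)
      = MvPolynomial.coeff a P * ∑ I : Finset (Fin n), (-1 : R) ^ I.card * ∏ i, (ind I i : R) ^ a i := by
        rw [Finset.mul_sum]; apply Finset.sum_congr rfl; intro I _; ring
    _ = 0 := by rw [this, mul_zero]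

end Groth.Agent.Lib.MixedDiff13
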