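import Groth.Agent.Lib.IsoCls13
import Groth.Agent.Lib.MixedDiff13
import Groth.Agent.Lib.SupportTensor
import Groth.Agent.Lib.CohFinAmple
import Groth.Agent.Lib.H90InvertibleFP
import Groth.Agent.Lib.OXModRestrict
import Mathlib.Algebra.MonoidAlgebra.Lift
import Mathlib.Topology.KrullDimension

/-!
# Intersection numbers from Snapper's polynomial, in the group ring of isomorphism classes (helper13, K3.N)

`SnapperHyp` is the verbatim statement of S3230.  With `R = ℤ[Cls X]` (monoid algebra of the commutative monoid of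
isomorphism classes under `⊗`) and `lin k d : R →+ ℤ` the additive extension of the Euler characteristic:
* `intNum_eq_lin`: `FGA.intNum k X d M F = lin k d ((∏ i, (1 - [M i])) * [F])`;
* `Small X r`: the additive subgroup of `R` generated by classes of coherent modules with `dim Supp ≤ r`;
  stable under multiplication by classes of invertible modules (`Small.of_mul`, `Small.prod_mul`);
* `lin_prod_one_sub_mul_eq_zero` (from `SnapperHyp`): for invertible `L_1..L_n`, `z ∈ Small X r`, `r < n`:
  `lin ((∏ i, (1 - [L i])) * z) = 0`.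
-/

set_option autoImplicit false
universe u
open CategoryTheory CategoryTheory.Limits AlgebraicGeometry

namespace Groth.Agent.Lib.IntNumAlg13

open Groth.Agent.Lib.IsoCls13 CohB1

/-- Verbatim statement of S3230 (Snapper's theorem, nonnegative exponents). -/
def SnapperHyp : Prop :=
  ∀ (k : Type u) [Field k] (X : Scheme.{u}) [X.Over (Spec (CommRingCat.of k))]
    [IsProper (X ↘ Spec (CommRingCat.of k))] (d : ℕ) (_ : topologicalKrullDim X ≤ d)
    {n : ℕ} (L : Fin n → X.Modules) (_ : ∀ i, PicF.IsInvertible (L i)) (F : X.Modules) (_ : Coh.IsCoh F)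
    (r : ℕ) (_ : topologicalKrullDim (CohB1.support F) ≤ r),
    ∃ P : MvPolynomial (Fin n) ℚ, P.totalDegree ≤ r ∧
      ∀ m : Fin n → ℕ, (FGA.eulerCharLE k X (CohB1.tensorMod (FGA.multiTwist L m) F) d : ℚ) =
        MvPolynomial.eval (fun i => (m i : ℚ)) P

variable {X : Scheme.{u}}

/-- The group ring of the monoid of isomorphism classes. -/
abbrev R (X : Scheme.{u}) : Type (u + 1) := MonoidAlgebra ℤ (Cls X)

/-- The class of a module in the group ring. -/
noncomputable def br (M : X.Modules) : R X := MonoidAlgebra.of ℤ (Cls X) (cls M)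

theorem br_tensorMod (M N : X.Modules) : br (tensorMod M N) = br M * br N := by
  unfold br; rw [cls_tensorMod, map_mul]

theorem br_structureModule : br (Coh.structureModule X) = 1 := by
  unfold br; rw [cls_one, map_one]

theorem br_tensorPow (L : X.Modules) (n : ℕ) : br (tensorPow L n) = br L ^ n := by
  unfold br; rw [cls_tensorPow, map_pow]

theorem br_eq_of_iso {M N : X.Modules} (e : M ≅ N) : br M = br N := by
  unfold br; rw [cls_eq_of_iso e]

section lin

variable (k : Type u) [Field k] [X.Over (Spec (CommRingCat.of k))]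

/-- Additive extension of the Euler characteristic to the group ring. -/
noncomputable def lin (d : ℕ) : R X →+ ℤ := MonoidAlgebra.liftNC (AddMonoidHom.id ℤ) (chi k d)

theorem lin_of (d : ℕ) (c : Cls X) : lin k d (MonoidAlgebra.of ℤ (Cls X) c) = chi k d c := by
  unfold lin
  rw [MonoidAlgebra.of_apply, MonoidAlgebra.liftNC_single]
  simp

theorem lin_br (d : ℕ) (F : X.Modules) : lin k d (br F) = FGA.eulerCharLE k X F d :=
  lin_of k d (cls F)

theorem prod_one_sub_eq {n : ℕ} (c : Fin n → R X) :
    ∏ i, (1 - c i) = ∑ I : Finset (Fin n), (-1 : R X) ^ I.card * ∏ i ∈ I, c i := by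
  classical
  rw [Finset.prod_sub, Finset.powerset_univ]
  apply Finset.sum_congr rfl
  intro I _
  rw [Finset.prod_const_one, mul_one]

theorem intNum_eq_lin (d : ℕ) {r : ℕ} (M : Fin r → X.Modules) (F : X.Modules) :
    FGA.intNum k X d M F = lin k d ((∏ i, (1 - br (M i))) * br F) := by
  rw [intNum_eq, prod_one_sub_eq, Finset.sum_mul, map_sum]
  apply Finset.sum_congr rfl
  intro I _
  have h1 : (-1 : R X) ^ I.card * (∏ i ∈ I, br (M i)) * br F =
      ((-1 : ℤ) ^ I.card) • MonoidAlgebra.of ℤ (Cls X) ((∏ i ∈ I, cls (M i)) * cls F) := by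
    rw [map_mul, map_prod, zsmul_eq_mul]
    unfold br
    push_cast
    ring
  rw [h1, map_zsmul, lin_of, smul_eq_mul]

end lin

/-- The subgroup generated by classes of coherent modules with support of dimension `≤ r`. -/
noncomputable def Small (X : Scheme.{u}) (r : ℕ) : AddSubgroup (R X) :=
  AddSubgroup.closure {z | ∃ G : X.Modules, Coh.IsCoh G ∧
    topologicalKrullDim (CohB1.support G) ≤ r ∧ z = br G}

theorem br_mem_Small {G : X.Modules} (hG : Coh.IsCoh G) {r : ℕ}
    (hr : topologicalKrullDim (CohB1.support G) ≤ r) : br G ∈ Small X r :=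
  AddSubgroup.subset_closure ⟨G, hG, hr, rfl⟩

theorem topologicalKrullDim_mono {T : Type*} [TopologicalSpace T] {S S' : Set T} (h : S ⊆ S') :
    topologicalKrullDim S ≤ topologicalKrullDim S' :=
  (Topology.IsEmbedding.inclusion h).isInducing.topologicalKrullDim_le

theorem Small.of_mul {L : X.Modules} (hL : PicF.IsInvertible L) {r : ℕ} {z : R X}
    (hz : z ∈ Small X r) : br L * z ∈ Small X r := by
  have hLc : Coh.IsCoh L := Groth.Agent.Lib.H90Invertible.isCoh_of_isInvertible hL
  refine AddSubgroup.closure_induction (p := fun z _ => br L * z ∈ Small X r) ?_ ?_ ?_ ?_ hz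
  · rintro z ⟨G, hG, hr, rfl⟩
    rw [← br_tensorMod]
    refine br_mem_Small (Groth.Agent.Lib.CohFinAmple.isCoh_tensorMod hLc hG) ?_
    have := hLc.1; have := hG.1; have := hLc.2; have := hG.2
    rw [Groth.Agent.Lib.SupportTensor.support_tensorMod L G]
    exact (topologicalKrullDim_mono Set.inter_subset_right).trans hr
  · rw [mul_zero]; exact zero_mem _
  · intro a b _ _ ha hb
    rw [mul_add]; exact add_mem ha hb
  · intro a _ ha
    rw [mul_neg]; exact neg_mem ha

theorem Small.pow_mul {L : X.Modules} (hL : PicF.IsInvertible L) {r : ℕ} {z : R X}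
    (hz : z ∈ Small X r) (n : ℕ) : br L ^ n * z ∈ Small X r := by
  induction n with
  | zero => rw [pow_zero, one_mul]; exact hz
  | succ n ih => rw [pow_succ', mul_assoc]; exact Small.of_mul hL ih

section vanish

variable (HS : SnapperHyp.{u}) (k : Type u) [Field k] [X.Over (Spec (CommRingCat.of k))]
  [IsProper (X ↘ Spec (CommRingCat.of k))] (d : ℕ) (hd : topologicalKrullDim X ≤ d)

include HS hd in
theorem lin_prod_one_sub_mul_br_eq_zero {n : ℕ} (L : Fin n → X.Modules)
    (hL : ∀ i, PicF.IsInvertible (L i)) {G : X.Modules} (hG : Coh.IsCoh G) {r : ℕ}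
    (hr : topologicalKrullDim (CohB1.support G) ≤ r) (hrn : r < n) :
    lin k d ((∏ i, (1 - br (L i))) * br G) = 0 := by
  classical
  obtain ⟨P, hPdeg, hP⟩ := HS k X d hd L hL G hG r hr
  rw [← intNum_eq_lin, intNum_eq]
  have hcast : ((∑ I : Finset (Fin n), (-1 : ℤ) ^ I.card *
      chi k d ((∏ i ∈ I, cls (L i)) * cls G) : ℤ) : ℚ) = 0 := by
    push_cast
    rw [← Groth.Agent.Lib.MixedDiff13.sum_powerset_eval_eq_zero P (lt_of_le_of_lt hPdeg hrn)]
    apply Finset.sum_congr rfl
    intro I _
    congr 1
    -- the exponent vector of `I`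
    let m : Fin n → ℕ := fun i => if i ∈ I then 1 else 0
    have h1 : (∏ i ∈ I, cls (L i)) * cls G = cls (tensorMod (FGA.multiTwist L m) G) := by
      rw [cls_tensorMod, cls_multiTwist]
      congr 1
      rw [← Finset.prod_subset (Finset.subset_univ I)]
      · apply Finset.prod_congr rfl
        intro i hi
        simp [m, hi]
      · intro i _ hi
        simp [m, hi]
    rw [h1, chi_cls, hP m]
    have hm : (fun i => (m i : ℚ)) = Groth.Agent.Lib.MixedDiff13.ind I := by
      funext i
      simp only [m, Groth.Agent.Lib.MixedDiff13.ind]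
      split_ifs <;> simp
    rw [hm]
  exact_mod_cast hcast

include HS hd in
theorem lin_prod_one_sub_mul_eq_zero {n : ℕ} (L : Fin n → X.Modules)
    (hL : ∀ i, PicF.IsInvertible (L i)) {r : ℕ} (hrn : r < n) {z : R X} (hz : z ∈ Small X r) :
    lin k d ((∏ i, (1 - br (L i))) * z) = 0 := by
  refine AddSubgroup.closure_induction
    (p := fun z _ => lin k d ((∏ i, (1 - br (L i))) * z) = 0) ?_ ?_ ?_ ?_ hz
  · rintro z ⟨G, hG, hr, rfl⟩
    exact lin_prod_one_sub_mul_br_eq_zero HS k d hd L hL hG hr hrn
  · rw [mul_zero, map_zero]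
  · intro a b _ _ ha hb
    rw [mul_add, map_add, ha, hb, add_zero]
  · intro a _ ha
    rw [mul_neg, map_neg, ha, neg_zero]

end vanish

end Groth.Agent.Lib.IntNumAlg13
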