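import Mathlib

/-!
# helper61: ring-theoretic lemmas for `L ⊓ E'` (EGA IV 18.6-type intermediate rings)

* `inv_mem_of_artinian`: `K` finite over the artinian total fraction ring `KA` of `A`, `L` an
  `A`-subalgebra of `K` containing inverses of the non-zero-divisors of `A`; then `L` is closed under
  inverses taken in `K`.
* `exists_maximal_comap_eq`: `j : C → R` reflecting units, `R` semilocal: every maximal ideal of `C`
  is the contraction of a maximal ideal of `R` (prime avoidance).
* `isIntegral_quotient_of_local`: `A → E` local, ess. of finite type, formally unramified, `R`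
  integral over `E`, `M` maximal in `R`: then `A → R/M` is integral.
* `isMaximal_comap_of_comp_isIntegral`: contraction of a maximal ideal `M` along `j : C → R` is
  maximal when `C` receives a map from `A` with `A → R/M` integral.
-/

set_option autoImplicit false

namespace Groth.Agent.Lib.InterNormSemilocal61

open IsLocalRing

theorem inv_mem_of_artinian {A : Type*} [CommRing A] (KA : Type*) [CommRing KA] [Algebra A KA]
    [IsFractionRing A KA] {K : Type*} [CommRing K] [Algebra A K] [Algebra KA K]
    [IsScalarTower A KA K] [IsArtinianRing KA] [Module.Finite KA K]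
    (L : Subalgebra A K) (hL : ∀ s ∈ nonZeroDivisors A, ∃ y ∈ L, algebraMap A K s * y = 1)
    {x y : K} (hx : x ∈ L) (hxy : x * y = 1) : y ∈ L := by
  have hmem : ∀ k : KA, algebraMap KA K k ∈ L := by
    intro k
    obtain ⟨⟨a, s⟩, hk⟩ := IsLocalization.surj (nonZeroDivisors A) k
    obtain ⟨y, hyL, hy⟩ := hL s s.2
    have h1 : algebraMap KA K k * algebraMap A K s = algebraMap A K a := by
      rw [IsScalarTower.algebraMap_apply A KA K, IsScalarTower.algebraMap_apply A KA K a,
        ← map_mul]
      exact congrArg _ hk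
    have h2 : algebraMap KA K k = algebraMap A K a * y := by
      calc algebraMap KA K k = algebraMap KA K k * (algebraMap A K s * y) := by rw [hy, mul_one]
        _ = (algebraMap KA K k * algebraMap A K s) * y := by ring
        _ = algebraMap A K a * y := by rw [h1]
    rw [h2]
    exact L.mul_mem (L.algebraMap_mem a) hyL
  let L' : Submodule KA K :=
    { carrier := L
      add_mem' := L.add_mem
      zero_mem' := L.zero_mem
      smul_mem' := fun k l hl => by
        rw [Algebra.smul_def]; exact L.mul_mem (hmem k) hl }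
  have hxL' : ∀ l ∈ L', x * l ∈ L' := fun l hl => L.mul_mem hx hl
  let f : L' →ₗ[KA] L' := (LinearMap.mulLeft KA x).restrict hxL'
  have hinj : Function.Injective f := by
    intro l1 l2 h
    have h' : x * l1.1 = x * l2.1 := congrArg Subtype.val h
    apply Subtype.ext
    calc l1.1 = y * (x * l1.1) := by rw [← mul_assoc, mul_comm y x, hxy, one_mul]
      _ = y * (x * l2.1) := by rw [h']
      _ = l2.1 := by rw [← mul_assoc, mul_comm y x, hxy, one_mul]
  have hsurj : Function.Surjective f := IsArtinian.surjective_of_injective_endomorphism f hinj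
  obtain ⟨l, hl⟩ := hsurj ⟨1, L.one_mem⟩
  have h1 : x * l.1 = 1 := congrArg Subtype.val hl
  have h2 : y = l.1 := by
    calc y = y * (x * l.1) := by rw [h1, mul_one]
      _ = l.1 := by rw [← mul_assoc, mul_comm y x, hxy, one_mul]
  rw [h2]; exact l.2

theorem exists_maximal_comap_eq {C R : Type*} [CommRing C] [CommRing R]
    [Finite (MaximalSpectrum R)] (j : C →+* R) (hj : ∀ x : C, IsUnit (j x) → IsUnit x)
    (N : Ideal C) [hN : N.IsMaximal] : ∃ M : Ideal R, M.IsMaximal ∧ N = M.comap j := by
  classical
  have := Fintype.ofFinite (MaximalSpectrum R)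
  have hcover : ∀ x ∈ N, ∃ M : MaximalSpectrum R, j x ∈ M.asIdeal := by
    intro x hx
    have hnu : ¬ IsUnit (j x) := fun h => hN.ne_top (Ideal.eq_top_of_isUnit_mem _ hx (hj x h))
    obtain ⟨M, hM, hxM⟩ := exists_max_ideal_of_mem_nonunits hnu
    exact ⟨⟨M, hM⟩, hxM⟩
  obtain ⟨M0, _⟩ := hcover 0 N.zero_mem
  have hsub : (N : Set C) ⊆ ⋃ M ∈ (((Finset.univ : Finset (MaximalSpectrum R))) :
      Set (MaximalSpectrum R)), ((M.asIdeal.comap j : Ideal C) : Set C) := by
    intro x hx
    obtain ⟨M, hM⟩ := hcover x hx
    simp only [Set.mem_iUnion]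
    exact ⟨M, by simp, hM⟩
  obtain ⟨M, -, hNM⟩ := (Ideal.subset_union_prime (f := fun M : MaximalSpectrum R =>
    M.asIdeal.comap j) M0 M0 (fun M _ _ _ => by
      have := M.isMaximal.isPrime
      exact Ideal.comap_isPrime j M.asIdeal)).mp hsub
  refine ⟨M.asIdeal, M.isMaximal, ?_⟩
  exact hN.eq_of_le (Ideal.comap_ne_top j M.isMaximal.ne_top) hNM

theorem isIntegral_quotient_of_local {A E : Type*} [CommRing A] [IsLocalRing A] [CommRing E]
    [IsLocalRing E] [Algebra A E] [IsLocalHom (algebraMap A E)] [Algebra.EssFiniteType A E]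
    [Algebra.FormallyUnramified A E] {R : Type*} [CommRing R] (φ : E →+* R) (hφ : φ.IsIntegral)
    (M : Ideal R) [hM : M.IsMaximal] :
    ((Ideal.Quotient.mk M).comp (φ.comp (algebraMap A E))).IsIntegral := by
  let _ : Field (R ⧸ M) := Ideal.Quotient.field M
  let ψ : E →+* R ⧸ M := (Ideal.Quotient.mk M).comp φ
  have hψ : ψ.IsIntegral :=
    RingHom.IsIntegral.trans _ _ hφ
      (RingHom.isIntegral_of_surjective _ Ideal.Quotient.mk_surjective)
  have hbot : (⊥ : Ideal (R ⧸ M)).IsMaximal := Ideal.bot_isMaximal
  have hker : ((⊥ : Ideal (R ⧸ M)).comap ψ).IsMaximal :=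
    Ideal.isMaximal_comap_of_isIntegral_of_isMaximal' ψ hψ ⊥
  have hker' : (⊥ : Ideal (R ⧸ M)).comap ψ = maximalIdeal E := IsLocalRing.eq_maximalIdeal hker
  have hzero : ∀ a ∈ maximalIdeal E, ψ a = 0 := by
    intro a ha
    rw [← hker'] at ha
    exact ha
  let ψb : ResidueField E →+* R ⧸ M := Ideal.Quotient.lift (maximalIdeal E) ψ hzero
  have hcomp : ψb.comp (residue E) = ψ := Ideal.Quotient.lift_comp_mk _ _ _
  have hψb : ψb.IsIntegral := RingHom.IsIntegral.tower_top (residue E) ψb (by rw [hcomp]; exact hψ)
  have h1 : ((algebraMap (ResidueField A) (ResidueField E)).comp (residue A)).IsIntegral :=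
    RingHom.IsIntegral.trans _ _
      (RingHom.isIntegral_of_surjective _ Ideal.Quotient.mk_surjective)
      (algebraMap_isIntegral_iff.mpr inferInstance)
  have h2 : (Ideal.Quotient.mk M).comp (φ.comp (algebraMap A E)) =
      ψb.comp ((algebraMap (ResidueField A) (ResidueField E)).comp (residue A)) := by
    ext a
    simp only [RingHom.comp_apply]
    have : algebraMap (ResidueField A) (ResidueField E) (residue A a) =
        residue E (algebraMap A E a) := rfl
    rw [this]
    exact (RingHom.congr_fun hcomp (algebraMap A E a)).symm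
  rw [h2]
  exact RingHom.IsIntegral.trans _ _ h1 hψb

theorem isMaximal_comap_of_comp_isIntegral {A C R : Type*} [CommRing A] [CommRing C] [CommRing R]
    (f : A →+* C) (j : C →+* R) (M : Ideal R) [hM : M.IsMaximal]
    (h : ((Ideal.Quotient.mk M).comp (j.comp f)).IsIntegral) : (M.comap j).IsMaximal := by
  let _ : Field (R ⧸ M) := Ideal.Quotient.field M
  have hg : ((Ideal.Quotient.mk M).comp j).IsIntegral :=
    RingHom.IsIntegral.tower_top f _ (by rw [RingHom.comp_assoc]; exact h)
  have hbot : (⊥ : Ideal (R ⧸ M)).IsMaximal := Ideal.bot_isMaximal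
  have := Ideal.isMaximal_comap_of_isIntegral_of_isMaximal' _ hg ⊥
  rwa [← Ideal.comap_comap, ← RingHom.ker_eq_comap_bot, Ideal.mk_ker] at this

end Groth.Agent.Lib.InterNormSemilocal61
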