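import Groth.Agent.Lib.H72PullbackStalk
import Groth.Agent.Lib.FFDescent16
import Groth.Agent.Lib.LocFreeFP
import Groth.Agent.Lib.H87LocFreeExact
import Groth.Agent.Lib.CurveVB67A
import Groth.Agent.Lib.RpushRestrict
import Groth.Agent.Lib.H90CohRestrict
import Groth.Agent.Lib.H90InvertibleFP
import Groth.Agent.S0036

/-!
# Faithfully flat descent of invertibility along a flat surjective morphism (helper21)

* `free_finrank_one_of_isBaseChange` (algebra): `A → B` faithfully flat, `A` local, `B ⊗ N` free of rank one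
  ⇒ `N` free of rank one.
* `isFinLocFreeOfRank_one_of_pullback_iso`: `f` flat surjective, `M` finitely presented on the target and
  `f^* M` invertible ⇒ `M` is finite locally free of rank one.
* `isCoh_pushforward_of_isProper`: `f_*` preserves coherence for `f` proper over a locally Noetherian base
  (`S0036` in degree `0`).
-/

set_option autoImplicit false
set_option linter.style.haveILetI false
universe u

open CategoryTheory CategoryTheory.Limits AlgebraicGeometry Opposite TopologicalSpace
open scoped TensorProduct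

namespace Groth.Agent.Lib.InvDescend21

theorem free_finrank_one_of_isBaseChange {A B N P : Type u} [CommRing A] [IsLocalRing A] [CommRing B]
    [Nontrivial B] [Algebra A B] [Module.FaithfullyFlat A B] [AddCommGroup N] [Module A N]
    [AddCommGroup P] [Module A P] [Module B P] [IsScalarTower A B P] (τ : N →ₗ[A] P)
    (hτ : IsBaseChange B τ) [Module.Free B P] [Module.Finite B P]
    (hrk : Module.finrank B P = 1) :
    Module.Free A N ∧ Module.Finite A N ∧ Module.finrank A N = 1 := by
  have E : B ⊗[A] N ≃ₗ[B] P := hτ.equiv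
  haveI : Module.Finite B (B ⊗[A] N) := Module.Finite.equiv E.symm
  haveI : Module.Projective B (B ⊗[A] N) := Module.Projective.of_equiv E.symm
  obtain ⟨h1, h2⟩ := Groth.Agent.Lib.FFDescent16.finite_projective_of_baseChange A B N
  haveI := h1
  haveI := h2
  haveI : Module.Free A N := Module.free_of_flat_of_isLocalRing
  refine ⟨inferInstance, h1, ?_⟩
  rw [← Module.finrank_baseChange (R := B) (S := A) (M' := N), E.finrank_eq, hrk]

variable {X S : Scheme.{u}}

/-- **Descent of invertibility**: if `f` is flat and surjective, `M` is finitely presented and `f^* M` is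
invertible, then `M` is finite locally free of rank one. -/
theorem isFinLocFreeOfRank_one_of_pullback_iso (f : X ⟶ S) [Flat f] [Surjective f]
    (M : S.Modules) (hM : CohB1.IsFP M) [M.IsQuasicoherent] (L : X.Modules)
    (hL : PicF.IsInvertible L) (e : (Scheme.Modules.pullback f).obj M ≅ L) :
    FlatMod.IsFinLocFreeOfRank 1 M := by
  intro y
  obtain ⟨x, rfl⟩ := f.surjective y
  -- the stalk of `f^* M` at `x` is free of rank one
  have hL1 : FlatMod.IsFinLocFreeOfRank 1 ((Scheme.Modules.pullback f).obj M) := by
    rw [← Groth.Agent.Lib.H90Invertible.isInvertible_iff_isFinLocFreeOfRank_one]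
    exact Groth.Agent.Lib.H90Invertible.isInvertible_of_iso e.symm hL
  obtain ⟨U, hxU, ⟨eU⟩⟩ := hL1 x
  obtain ⟨hfree, hfin, hrk⟩ :=
    Groth.Agent.Lib.H87LocFreeExact.stalk_free_finite_finrank U eU ⟨x, hxU⟩
  -- base change description of the stalk
  letI : Algebra (S.presheaf.stalk (f x)) (X.presheaf.stalk x) := (f.stalkMap x).hom.toAlgebra
  letI : Module (S.presheaf.stalk (f x))
      (((Scheme.Modules.pullback f).obj M).presheaf.stalk x) :=
    Module.compHom _ (f.stalkMap x).hom
  haveI : IsScalarTower (S.presheaf.stalk (f x)) (X.presheaf.stalk x)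
      (((Scheme.Modules.pullback f).obj M).presheaf.stalk x) :=
    .of_algebraMap_smul fun _ _ => rfl
  obtain ⟨τ, hτ⟩ := Groth.Agent.Lib.H72PullbackStalk.exists_isBaseChange_stalk_pullback f M x
  haveI : Module.FaithfullyFlat (S.presheaf.stalk (f x)) (X.presheaf.stalk x) :=
    @Module.FaithfullyFlat.of_flat_of_isLocalHom _ _ _ _ _ _ _
      (Flat.stalkMap f x) (f.toLRSHom.prop x)
  obtain ⟨hN1, hN2, hN3⟩ := free_finrank_one_of_isBaseChange τ hτ hrk
  obtain ⟨n, hn⟩ := Groth.Agent.Lib.LocFreeFP.exists_locFreeAt_of_isFP_of_free M hM (f x) hN1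
  obtain ⟨V, hyV, ⟨eV⟩⟩ := hn.exists_restrict_iso
  obtain ⟨-, -, hrkV⟩ :=
    Groth.Agent.Lib.H87LocFreeExact.stalk_free_finite_finrank V eV ⟨f x, hyV⟩
  have hn1 : n = 1 := by rw [← hrkV]; exact hN3
  subst hn1
  exact ⟨V, hyV, ⟨eV⟩⟩

/-- `f_*` preserves coherence for proper `f` over a locally Noetherian base. -/
theorem isCoh_pushforward_of_isProper (f : X ⟶ S) [IsProper f] [IsLocallyNoetherian S]
    (F : X.Modules) (hF : Coh.IsCoh F) : Coh.IsCoh ((Scheme.Modules.pushforward f).obj F) := by
  haveI : HasInjectiveResolutions X.Modules :=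
    Groth.Agent.Lib.RpushRestrict.hasInjectiveResolutions X
  have h0 : Coh.IsCoh ((Coh.Rpush f 0).obj F) := Groth.Agent.S0036.result f F hF 0
  let e0 : (Coh.Rpush f 0).obj F ≅ (Coh.push f).obj F :=
    (Functor.rightDerivedZeroIsoSelf (Scheme.Modules.pushforward f)).app F
  exact Groth.Agent.Lib.H90CohRestrict.isCoh_of_iso e0 h0

end Groth.Agent.Lib.InvDescend21
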