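import Groth.Agent.Lib.H90OXModSections
import Groth.Agent.Lib.H90QCohLocalization
import Groth.Prelude.Def_Pic

/-!
# K3.E (lead), part A: invertible modules on integral schemes are torsion free

A submodule of an invertible module on an integral scheme that vanishes on a nonempty open is zero.
-/

set_option autoImplicit false
set_option linter.style.haveILetI false
universe u
open CategoryTheory CategoryTheory.Limits AlgebraicGeometry Opposite TopologicalSpace

namespace Groth.Agent.Lib.InvEngine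

open Scheme.Modules

variable {Z : Scheme.{u}}

/-- restriction of sections of a module -/
noncomputable abbrev rsM (M : Z.Modules) {V U : Z.Opens} (h : V ≤ U) : Γ(M, U) →+ Γ(M, V) :=
  (M.presheaf.map (homOfLE h).op).hom

theorem app_rsM {M N : Z.Modules} (φ : M ⟶ N) {V U : Z.Opens} (h : V ≤ U) (s : Γ(M, U)) :
    φ.app V (rsM M h s) = rsM N h (φ.app U s) :=
  congr($(φ.mapPresheaf.naturality (homOfLE h).op) s)

theorem section_eq_zero_of_mono_invertible [IsIntegral Z] {K N : Z.Modules}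
    (hN : PicF.IsInvertible N) (κ : K ⟶ N) [Mono κ] (U : Z.Opens) (hU : (U : Set Z).Nonempty)
    (hK : ∀ W : Z.Opens, W ≤ U → Subsingleton Γ(K, W)) (V : Z.Opens) (s : Γ(K, V)) : s = 0 := by
  refine TopCat.Presheaf.section_ext ⟨K.presheaf, K.isSheaf⟩ V s 0 ?_
  intro z hz
  obtain ⟨U', hzU', ⟨e⟩⟩ := hN z
  -- the open `W = V ∩ U'` as an image
  let W' : (↑U' : Scheme.{u}).Opens := U'.ι ⁻¹ᵁ V
  have hWV : U'.ι ''ᵁ W' ≤ V := by
    rintro _ ⟨y, hy, rfl⟩
    exact hy
  have hzW : z ∈ U'.ι ''ᵁ W' := ⟨⟨z, hzU'⟩, hz, rfl⟩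
  have key : rsM K hWV s = 0 := by
    apply Groth.Agent.Lib.H90OXModSections.injective_app_of_mono κ (U'.ι ''ᵁ W')
    rw [map_zero]
    -- `n` as a section of the restriction
    set n : Γ(N, U'.ι ''ᵁ W') := κ.app (U'.ι ''ᵁ W') (rsM K hWV s) with hn
    let n' : Γ(N.restrict U'.ι, W') := n
    -- the smaller open
    let W'' : (↑U' : Scheme.{u}).Opens := W' ⊓ U'.ι ⁻¹ᵁ U
    have hW'' : W'' ≤ W' := inf_le_left
    haveI : Nonempty (↑U' : Scheme.{u}) := ⟨⟨z, hzU'⟩⟩
    haveI hne : Nonempty ↥((W'' : (↑U' : Scheme.{u}).Opens) : Scheme.{u}) := by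
      obtain ⟨u, hu⟩ := hU
      obtain ⟨y, hy⟩ := (PreirreducibleSpace.isPreirreducible_univ (X := Z)) (U'.ι ''ᵁ W') U
        (U'.ι ''ᵁ W').2 U.2 ⟨z, trivial, hzW⟩ ⟨u, trivial, hu⟩
      obtain ⟨-, ⟨y', hy', rfl⟩, hyU⟩ := hy
      exact ⟨⟨y', hy', hyU⟩⟩
    have hinj := map_injective_of_isIntegral (X := (↑U' : Scheme.{u})) (homOfLE hW'')
    -- the coordinate function
    let t : Γ((↑U' : Scheme.{u}), W') := e.hom.app W' n'
    have h2 : rsM (N.restrict U'.ι) hW'' n' = 0 := by
      have hle : U'.ι ''ᵁ W'' ≤ U'.ι ''ᵁ W' := Scheme.Hom.image_mono _ hW''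
      change rsM N hle n = 0
      rw [hn, ← app_rsM]
      have hsub : U'.ι ''ᵁ W'' ≤ U := by
        rintro _ ⟨y, hy, rfl⟩
        exact hy.2
      haveI := hK _ hsub
      rw [Subsingleton.elim (rsM K hle (rsM K hWV s)) 0, map_zero]
    have ht : t = 0 := by
      apply hinj
      rw [map_zero]
      have h1 := app_rsM e.hom hW'' n'
      rw [h2, map_zero] at h1
      exact h1.symm
    have h0 : (e.hom.app W') n' = 0 := ht
    have hbij : Function.Injective (e.hom.app W') := by
      have : IsIso (e.hom.app W') := inferInstance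
      exact ((ConcreteCategory.isIso_iff_bijective (e.hom.app W')).mp this).1
    exact hbij (h0.trans (map_zero _).symm)
  have h1 := TopCat.Presheaf.germ_res_apply K.presheaf (homOfLE hWV) z hzW s
  rw [← h1]
  change K.presheaf.germ _ z hzW (rsM K hWV s) = _
  rw [key, map_zero, map_zero]

end Groth.Agent.Lib.InvEngine
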