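import Groth.Agent.Lib.H90InvertiblePullback
import Groth.Agent.Lib.H78PullSec
import Mathlib.AlgebraicGeometry.Fiber
import Groth.Prelude.Def_ega3

/-!
# Invertible modules pulled back from the base are trivial on fibres (helper21)

* `nonempty_iso_structureModule_of_unique`: an invertible module on a one-point scheme is trivial;
* `nonempty_fiberMod_iso_of_pullback`: if `L ≅ f^* M` with `M` invertible on `Y` then `L|_{X_y} ≅ O_{X_y}`.
-/

set_option autoImplicit false
set_option linter.style.haveILetI false
universe u

open CategoryTheory CategoryTheory.Limits AlgebraicGeometry Opposite TopologicalSpace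

namespace Groth.Agent.Lib.InvField21

open Groth.Agent.Lib.H90Invertible

/-- an invertible module on a one-point scheme is trivial -/
theorem nonempty_iso_structureModule_of_unique {Z : Scheme.{u}} [Unique Z]
    (P : Z.Modules) (hP : PicF.IsInvertible P) : Nonempty (P ≅ Coh.structureModule Z) := by
  obtain ⟨V, hzV, s, hs⟩ := (isInvertible_iff_exists_isGen P).mp hP default
  have hV : V = ⊤ := by
    refine top_le_iff.1 (fun w _ => ?_)
    rw [Unique.eq_default w]
    exact hzV
  subst hV
  exact nonempty_iso_structureModule_iff.2 ⟨s, hs⟩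

/-- a module pulled back from the base is trivial on every fibre -/
theorem nonempty_fiberMod_iso_of_pullback {X Y : Scheme.{u}} (f : X ⟶ Y) {L : X.Modules}
    {M : Y.Modules} (hM : PicF.IsInvertible M) (e : (Scheme.Modules.pullback f).obj M ≅ L) (y : Y) :
    Nonempty (CohIII.fiberMod f L y ≅ Coh.structureModule (f.fiber y)) := by
  obtain ⟨t⟩ := nonempty_iso_structureModule_of_unique _
    (isInvertible_pullback (Y.fromSpecResidueField y) hM)
  exact ⟨(Scheme.Modules.pullback (f.fiberι y)).mapIso e.symm ≪≫
    (Scheme.Modules.pullbackComp (f.fiberι y) f).app M ≪≫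
    (Scheme.Modules.pullbackCongr (f.fiber_fac y)).app M ≪≫
    ((Scheme.Modules.pullbackComp (f.fiberToSpecResidueField y) (Y.fromSpecResidueField y)).app M).symm ≪≫
    (Scheme.Modules.pullback (f.fiberToSpecResidueField y)).mapIso t ≪≫
    Groth.Agent.Lib.H78PullSec.unitIso (f.fiberToSpecResidueField y)⟩

end Groth.Agent.Lib.InvField21
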