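import Groth.Agent.Lib.InvFrac38
import Groth.Agent.Lib.SubfieldFG38
import Mathlib.RingTheory.HopfAlgebra.Convolution
import Mathlib.RingTheory.UniqueFactorizationDomain.GCDMonoid

/-!
# The field of invariant rational functions (helper38)

For a finitely generated reduced Hopf algebra `A` over an algebraically closed field `k` coacting on a finitely
generated domain `B`: the action of points on `FractionRing B`, the invariant field `invField`, its finite
generation, and (for `B` factorial with only scalar units) the open set `D(h)` on which all invariant rational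
functions are ratios of invariant regular functions.
-/

set_option autoImplicit false
set_option linter.unusedSectionVars false
universe u v w
open TensorProduct

noncomputable section

namespace Groth.Agent.Lib.InvField38
open Groth.Agent.Lib.Comod Groth.Agent.Lib.InvFrac38

section Inv
variable {k : Type u} [Field k] {A : Type v} [CommRing A] [HopfAlgebra k A]
  {V : Type w} [AddCommGroup V] [Module k V] [HopfRep.Comod k A V]

/-- The inverse of a point. -/
def invPt (φ : A →ₐ[k] k) : A →ₐ[k] k := φ.comp (HopfAlgebra.antipodeAlgHom k A)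

theorem invPt_mul (φ : A →ₐ[k] k) :
    (WithConv.toConv (invPt φ).toLinearMap * WithConv.toConv φ.toLinearMap : DualAlg k A) = 1 := by
  have h := LinearMap.algHom_comp_convMul_distrib φ
    (WithConv.toConv (HopfAlgebra.antipode k (A := A))) (WithConv.toConv LinearMap.id)
  rw [LinearMap.antipode_mul_id] at h
  apply WithConv.ofConv_injective
  refine Eq.trans ?_ (h.symm.trans ?_)
  · rfl
  · apply LinearMap.ext
    intro a
    simp [LinearMap.convOne_def]

theorem mul_invPt (φ : A →ₐ[k] k) :
    (WithConv.toConv φ.toLinearMap * WithConv.toConv (invPt φ).toLinearMap : DualAlg k A) = 1 := by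
  have h := LinearMap.algHom_comp_convMul_distrib φ
    (WithConv.toConv LinearMap.id) (WithConv.toConv (HopfAlgebra.antipode k (A := A)))
  rw [LinearMap.id_mul_antipode] at h
  apply WithConv.ofConv_injective
  refine Eq.trans ?_ (h.symm.trans ?_)
  · rfl
  · apply LinearMap.ext
    intro a
    simp [LinearMap.convOne_def]

theorem act_invPt_act (φ : A →ₐ[k] k) (v : V) :
    HopfRep.Comod.act k A V (invPt φ) (HopfRep.Comod.act k A V φ v) = v := by
  have h := Comod.act_mul (V := V) (WithConv.toConv (invPt φ).toLinearMap) (WithConv.toConv φ.toLinearMap) v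
  rw [invPt_mul, Comod.act_one] at h
  exact h.symm

theorem act_act_invPt (φ : A →ₐ[k] k) (v : V) :
    HopfRep.Comod.act k A V φ (HopfRep.Comod.act k A V (invPt φ) v) = v := by
  have h := Comod.act_mul (V := V) (WithConv.toConv φ.toLinearMap) (WithConv.toConv (invPt φ).toLinearMap) v
  rw [mul_invPt, Comod.act_one] at h
  exact h.symm

end Inv

section Field
variable {k : Type u} [Field k] [IsAlgClosed k] {A : Type u} [CommRing A] [HopfAlgebra k A]
  [Algebra.FiniteType k A] [IsReduced A]
  {B : Type u} [CommRing B] [IsDomain B] [Algebra k B] [HopfRep.Comod k A B] [GLin.IsCoactAlg k A B]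
  [Algebra.FiniteType k B]

/-- The action of a point, as an algebra endomorphism. -/
def actAlg (B : Type u) [CommRing B] [Algebra k B] [HopfRep.Comod k A B] [GLin.IsCoactAlg k A B]
    (φ : A →ₐ[k] k) : B →ₐ[k] B :=
  (contrAlg B φ).comp (GLin.coactAlgHom k A B)

omit [IsAlgClosed k] [Algebra.FiniteType k A] [IsReduced A] [IsDomain B] [Algebra.FiniteType k B] in
theorem actAlg_apply (φ : A →ₐ[k] k) (b : B) : actAlg B φ b = HopfRep.Comod.act k A B φ b :=
  (act_eq_contrAlg φ b).symm

theorem actAlg_injective (φ : A →ₐ[k] k) : Function.Injective (actAlg B φ) := by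
  rw [injective_iff_map_eq_zero]
  intro b hb
  by_contra hne
  rw [actAlg_apply] at hb
  exact act_ne_zero φ hne hb

/-- The action of a point on the fraction field. -/
def actK (B : Type u) [CommRing B] [IsDomain B] [Algebra k B] [HopfRep.Comod k A B] [GLin.IsCoactAlg k A B]
    [Algebra.FiniteType k B] (φ : A →ₐ[k] k) : FractionRing B →ₐ[k] FractionRing B :=
  IsFractionRing.liftAlgHom (g := (IsScalarTower.toAlgHom k B (FractionRing B)).comp (actAlg B φ))
    ((IsFractionRing.injective B (FractionRing B)).comp (actAlg_injective φ))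

theorem actK_algebraMap (φ : A →ₐ[k] k) (b : B) :
    actK B φ (algebraMap B (FractionRing B) b) =
      algebraMap B (FractionRing B) (HopfRep.Comod.act k A B φ b) := by
  rw [actK, IsFractionRing.liftAlgHom_apply, IsFractionRing.lift_algebraMap]
  simp [actAlg_apply]

/-- The field of invariant rational functions. -/
def invField (k : Type u) [Field k] [IsAlgClosed k] (A : Type u) [CommRing A] [HopfAlgebra k A]
    [Algebra.FiniteType k A] [IsReduced A]
    (B : Type u) [CommRing B] [IsDomain B] [Algebra k B] [HopfRep.Comod k A B] [GLin.IsCoactAlg k A B]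
    [Algebra.FiniteType k B] : IntermediateField k (FractionRing B) where
  carrier := {q | ∀ φ : A →ₐ[k] k, actK B φ q = q}
  mul_mem' := fun {x y} hx hy φ => by rw [map_mul, hx φ, hy φ]
  add_mem' := fun {x y} hx hy φ => by rw [map_add, hx φ, hy φ]
  algebraMap_mem' := fun c φ => by rw [AlgHom.commutes]
  inv_mem' := fun x hx φ => by rw [map_inv₀, hx φ]

theorem mem_invField {q : FractionRing B} :
    q ∈ invField k A B ↔ ∀ φ : A →ₐ[k] k, actK B φ q = q := Iff.rfl

theorem invField_fg : (invField k A B).FG := by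
  have h1 : Algebra.EssFiniteType B (FractionRing B) :=
    Algebra.EssFiniteType.of_isLocalization _ (nonZeroDivisors B)
  have h2 : Algebra.EssFiniteType k (FractionRing B) := Algebra.EssFiniteType.comp k B _
  exact IntermediateField.fg_of_essFiniteType _

/-- A fraction is invariant iff it satisfies the cross-multiplied invariance identities. -/
theorem div_mem_invField_iff (a : B) {b : B} (hb : b ≠ 0) :
    algebraMap B (FractionRing B) a / algebraMap B (FractionRing B) b ∈ invField k A B ↔
      ∀ φ : A →ₐ[k] k, HopfRep.Comod.act k A B φ a * b = a * HopfRep.Comod.act k A B φ b := by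
  have hb' : algebraMap B (FractionRing B) b ≠ 0 :=
    (map_ne_zero_iff _ (IsFractionRing.injective B (FractionRing B))).2 hb
  rw [mem_invField]
  refine forall_congr' fun φ => ?_
  have hφb : algebraMap B (FractionRing B) (HopfRep.Comod.act k A B φ b) ≠ 0 :=
    (map_ne_zero_iff _ (IsFractionRing.injective B (FractionRing B))).2 (act_ne_zero φ hb)
  rw [map_div₀, actK_algebraMap, actK_algebraMap, div_eq_div_iff hφb hb', ← map_mul, ← map_mul,
    (IsFractionRing.injective B (FractionRing B)).eq_iff]

end Field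

section Main
variable {k : Type u} [Field k] [IsAlgClosed k] {A : Type u} [CommRing A] [HopfAlgebra k A]
  [Algebra.FiniteType k A] [IsReduced A]
  {B : Type u} [CommRing B] [IsDomain B] [Algebra k B] [HopfRep.Comod k A B] [GLin.IsCoactAlg k A B]
  [Algebra.FiniteType k B] [UniqueFactorizationMonoid B]

local notation "ι" => algebraMap B (FractionRing B)

omit [IsAlgClosed k] [HopfAlgebra k A] [Algebra.FiniteType k A] [IsReduced A] [Algebra k B]
  [HopfRep.Comod k A B] [GLin.IsCoactAlg k A B] [Algebra.FiniteType k B] in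
/-- Every rational function on a factorial variety has a reduced representation. -/
theorem exists_relPrime_repr (q : FractionRing B) :
    ∃ a b : B, b ≠ 0 ∧ IsRelPrime a b ∧ q = ι a / ι b := by
  obtain ⟨a, b, hb, rfl⟩ := IsFractionRing.div_surjective (A := B) q
  have hb0 : b ≠ 0 := nonZeroDivisors.ne_zero hb
  obtain ⟨a', b', c, hrel, ha, hb'⟩ := UniqueFactorizationMonoid.exists_reduced_factors' a b hb0
  have hc : c ≠ 0 := by rintro rfl; exact hb0 (by rw [← hb', zero_mul])
  have hb'0 : b' ≠ 0 := by rintro rfl; exact hb0 (by rw [← hb', mul_zero])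
  refine ⟨a', b', hb'0, hrel, ?_⟩
  have h1 : ι c ≠ 0 := (map_ne_zero_iff _ (IsFractionRing.injective B (FractionRing B))).2 hc
  rw [← ha, ← hb', map_mul, map_mul, mul_div_mul_left _ _ h1]

/-- The denominator of a reduced invariant fraction is a semi-invariant. -/
theorem exists_smul_of_relPrime (hunits : ∀ u : Bˣ, ∃ c : k, algebraMap k B c = u)
    {a b : B} (hb : b ≠ 0) (hrel : IsRelPrime a b)
    (hinv : ∀ φ : A →ₐ[k] k, HopfRep.Comod.act k A B φ a * b = a * HopfRep.Comod.act k A B φ b)
    (φ : A →ₐ[k] k) : ∃ c : k, c ≠ 0 ∧ HopfRep.Comod.act k A B φ b = c • b := by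
  have hdvd : ∀ ψ : A →ₐ[k] k, b ∣ HopfRep.Comod.act k A B ψ b := fun ψ =>
    hrel.symm.dvd_of_dvd_mul_left ⟨HopfRep.Comod.act k A B ψ a, by rw [← hinv ψ, mul_comm]⟩
  obtain ⟨u, hu⟩ := hdvd φ
  obtain ⟨v, hv⟩ := hdvd (invPt φ)
  have h1 : b * 1 = b * (u * HopfRep.Comod.act k A B φ v) := by
    have := act_act_invPt φ b
    rw [hv, InvFrac38.act_mul, hu] at this
    rw [mul_one, ← mul_assoc]
    exact this.symm
  have h2 : u * HopfRep.Comod.act k A B φ v = 1 := (mul_left_cancel₀ hb h1).symm
  obtain ⟨c, hc⟩ := hunits ⟨u, HopfRep.Comod.act k A B φ v, h2, by rw [mul_comm]; exact h2⟩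
  have hcu : algebraMap k B c = u := hc
  refine ⟨c, ?_, ?_⟩
  · rintro rfl
    rw [map_zero] at hcu
    rw [← hcu, zero_mul] at h2
    exact zero_ne_one h2
  · rw [hu, ← hcu, Algebra.smul_def, mul_comm]

/-- The subalgebra `B[1/h]` of the fraction field. -/
def locSub (k : Type u) [Field k] {B : Type u} [CommRing B] [IsDomain B] [Algebra k B] (h : B) :
    Subalgebra k (FractionRing B) where
  carrier := {y | ∃ (x : B) (r : ℕ), y = algebraMap B (FractionRing B) x / algebraMap B (FractionRing B) h ^ r}
  mul_mem' := by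
    rintro _ _ ⟨x, r, rfl⟩ ⟨x', r', rfl⟩
    exact ⟨x * x', r + r', by rw [map_mul, pow_add, mul_div_mul_comm]⟩
  add_mem' := by
    rintro _ _ ⟨x, r, rfl⟩ ⟨x', r', rfl⟩
    by_cases hh : h = 0
    · subst hh
      rcases Nat.eq_zero_or_pos r with rfl | hr
      · rcases Nat.eq_zero_or_pos r' with rfl | hr'
        · exact ⟨x + x', 0, by simp⟩
        · exact ⟨x, 0, by simp [zero_pow hr'.ne']⟩
      · rcases Nat.eq_zero_or_pos r' with rfl | hr'
        · exact ⟨x', 0, by simp [zero_pow hr.ne']⟩
        · exact ⟨0, 0, by simp [zero_pow hr.ne', zero_pow hr'.ne']⟩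
    · have h1 : algebraMap B (FractionRing B) h ≠ 0 :=
        (map_ne_zero_iff _ (IsFractionRing.injective B (FractionRing B))).2 hh
      refine ⟨x * h ^ r' + x' * h ^ r, r + r', ?_⟩
      rw [div_add_div _ _ (pow_ne_zero _ h1) (pow_ne_zero _ h1), map_add, map_mul, map_mul, map_pow,
        map_pow, pow_add]
      ring
  algebraMap_mem' := fun c => ⟨algebraMap k B c, 0, by
    rw [pow_zero, div_one, ← IsScalarTower.algebraMap_apply]⟩

theorem mem_locSub {h : B} {y : FractionRing B} :
    y ∈ locSub k h ↔ ∃ (x : B) (r : ℕ), y = ι x / ι h ^ r := Iff.rfl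

/-- **Invariant rational functions on a factorial variety with only constant units**: there is a stable principal
open `D(h)` on which every invariant rational function is a ratio of invariant regular functions. -/
theorem exists_stable_basicOpen (hunits : ∀ u : Bˣ, ∃ c : k, algebraMap k B c = u) :
    ∃ h : B, h ≠ 0 ∧ (∀ φ : A →ₐ[k] k, ∃ (N : ℕ) (u : B), HopfRep.Comod.act k A B φ h * u = h ^ N) ∧
      ∀ a b : B, b ≠ 0 →
        (∀ φ : A →ₐ[k] k, HopfRep.Comod.act k A B φ a * b = a * HopfRep.Comod.act k A B φ b) →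
        ∃ (c d : B) (r t : ℕ), d ≠ 0 ∧
          (∀ φ : A →ₐ[k] k, HopfRep.Comod.act k A B φ c * h ^ r = c * (HopfRep.Comod.act k A B φ h) ^ r) ∧
          (∀ φ : A →ₐ[k] k, HopfRep.Comod.act k A B φ d * h ^ t = d * (HopfRep.Comod.act k A B φ h) ^ t) ∧
          a * d * h ^ r = b * c * h ^ t := by
  classical
  obtain ⟨S, hS⟩ := invField_fg (k := k) (A := A) (B := B)
  choose num den hden hrel hq using exists_relPrime_repr (B := B)
  have hSinv : ∀ q ∈ S, q ∈ invField k A B := fun q hqS => by
    rw [← hS]; exact IntermediateField.subset_adjoin _ _ hqS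
  have hsemi : ∀ q ∈ S, ∀ φ : A →ₐ[k] k, ∃ c : k, c ≠ 0 ∧
      HopfRep.Comod.act k A B φ (den q) = c • den q := by
    intro q hqS φ
    have h1 := hSinv q hqS
    rw [hq q, div_mem_invField_iff _ (hden q)] at h1
    exact exists_smul_of_relPrime hunits (hden q) (hrel q) h1 φ
  have hprod : ∀ T : Finset (FractionRing B), T ⊆ S → ∀ φ : A →ₐ[k] k, ∃ c : k, c ≠ 0 ∧
      HopfRep.Comod.act k A B φ (∏ q ∈ T, den q) = c • ∏ q ∈ T, den q := by
    intro T
    induction T using Finset.induction_on with
    | empty =>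
      intro _ φ
      refine ⟨1, one_ne_zero, ?_⟩
      rw [Finset.prod_empty, one_smul, ← actAlg_apply, map_one]
    | insert q T hqT ih =>
      intro hTS φ
      obtain ⟨c, hc, hc'⟩ := ih (fun x hx => hTS (Finset.mem_insert_of_mem hx)) φ
      obtain ⟨c₁, hc₁, hc₁'⟩ := hsemi q (hTS (Finset.mem_insert_self q T)) φ
      refine ⟨c₁ * c, mul_ne_zero hc₁ hc, ?_⟩
      rw [Finset.prod_insert hqT, InvFrac38.act_mul, hc', hc₁', smul_mul_smul_comm]
  set h : B := ∏ q ∈ S, den q with hh
  have hh0 : h ≠ 0 := Finset.prod_ne_zero_iff.2 fun q _ => hden q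
  have hιh : ι h ≠ 0 := (map_ne_zero_iff _ (IsFractionRing.injective B (FractionRing B))).2 hh0
  have hSloc : Algebra.adjoin k (S : Set (FractionRing B)) ≤ locSub k h := by
    apply Algebra.adjoin_le
    intro q hqS
    refine ⟨num q * ∏ q' ∈ S.erase q, den q', 1, ?_⟩
    have hprodq : den q * ∏ q' ∈ S.erase q, den q' = h := Finset.mul_prod_erase S den hqS
    have h1 : ι (den q) ≠ 0 :=
      (map_ne_zero_iff _ (IsFractionRing.injective B (FractionRing B))).2 (hden q)
    conv_lhs => rw [hq q]
    rw [pow_one, ← hprodq, map_mul, map_mul, div_eq_div_iff h1 (mul_ne_zero h1 ?_)]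
    · ring
    · refine (map_ne_zero_iff _ (IsFractionRing.injective B (FractionRing B))).2 ?_
      exact Finset.prod_ne_zero_iff.2 fun q _ => hden q
  have hadj_inv : ∀ y ∈ Algebra.adjoin k (S : Set (FractionRing B)), y ∈ invField k A B := by
    intro y hy
    rw [← hS]
    exact IntermediateField.algebra_adjoin_le_adjoin _ _ hy
  -- invariance of numerators
  have hinvnum : ∀ (c : B) (r : ℕ), ι c / ι h ^ r ∈ invField k A B → ∀ φ : A →ₐ[k] k,
      HopfRep.Comod.act k A B φ c * h ^ r = c * (HopfRep.Comod.act k A B φ h) ^ r := by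
    intro c r hmem φ
    have h1 := hmem φ
    have hφh : ι (HopfRep.Comod.act k A B φ h) ≠ 0 :=
      (map_ne_zero_iff _ (IsFractionRing.injective B (FractionRing B))).2 (act_ne_zero φ hh0)
    rw [map_div₀, map_pow, actK_algebraMap, actK_algebraMap,
      div_eq_div_iff (pow_ne_zero _ hφh) (pow_ne_zero _ hιh), ← map_pow, ← map_pow, ← map_mul, ← map_mul,
      (IsFractionRing.injective B (FractionRing B)).eq_iff] at h1
    exact h1
  refine ⟨h, hh0, ?_, ?_⟩
  · intro φ
    obtain ⟨c, hc, hc'⟩ := hprod S (Finset.Subset.refl S) φ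
    refine ⟨1, c⁻¹ • (1 : B), ?_⟩
    rw [hc', smul_mul_smul_comm, mul_inv_cancel₀ hc, one_smul, mul_one, pow_one]
  · intro a b hb hinv
    by_cases ha : a = 0
    · subst ha
      refine ⟨0, 1, 0, 0, one_ne_zero, ?_, ?_, ?_⟩
      · intro φ
        rw [← actAlg_apply, map_zero, zero_mul, zero_mul]
      · intro φ
        rw [← actAlg_apply, map_one, pow_zero, pow_zero]
      · simp
    have hιb : ι b ≠ 0 := (map_ne_zero_iff _ (IsFractionRing.injective B (FractionRing B))).2 hb
    have hιa : ι a ≠ 0 := (map_ne_zero_iff _ (IsFractionRing.injective B (FractionRing B))).2 ha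
    have hmem : ι a / ι b ∈ invField k A B := (div_mem_invField_iff a hb).2 hinv
    rw [← hS, IntermediateField.mem_adjoin_iff_div] at hmem
    obtain ⟨y, hy, z, hz, hyz⟩ := hmem
    obtain ⟨c, r, rfl⟩ := mem_locSub.1 (hSloc hy)
    obtain ⟨d, t, rfl⟩ := mem_locSub.1 (hSloc hz)
    have hz0 : ι d / ι h ^ t ≠ 0 := by
      intro h0
      rw [h0, div_zero] at hyz
      exact div_ne_zero hιa hιb hyz
    have hd : d ≠ 0 := by
      rintro rfl
      rw [map_zero, zero_div] at hz0
      exact hz0 rfl
    have hιd : ι d ≠ 0 := (map_ne_zero_iff _ (IsFractionRing.injective B (FractionRing B))).2 hd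
    refine ⟨c, d, r, t, hd, hinvnum c r (hadj_inv _ hy), hinvnum d t (hadj_inv _ hz), ?_⟩
    apply IsFractionRing.injective B (FractionRing B)
    rw [div_div_div_eq, div_eq_div_iff hιb (mul_ne_zero (pow_ne_zero _ hιh) hιd)] at hyz
    rw [map_mul, map_mul, map_mul, map_mul, map_pow, map_pow]
    linear_combination hyz

end Main

end Groth.Agent.Lib.InvField38
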