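import Mathlib
import Groth.Prelude.Def_W4c2brnrinvarInvFld

set_option autoImplicit false
set_option linter.unusedSectionVars false

namespace Groth.Agent.Lib.InvFldExt38

open MvPolynomial

universe u

variable {k : Type u} [Field k]

section Basic

variable {ι : Type} [Fintype ι]

/-- `σ` sends every variable to a `k`-linear combination of the variables. -/
def IsLin (σ : InvFld.Fld ι k ≃ₐ[k] InvFld.Fld ι k) : Prop :=
  ∀ i, σ (InvFld.X i) ∈ Submodule.span k (Set.range fun j : ι => (InvFld.X j : InvFld.Fld ι k))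

theorem isLin_one : IsLin (1 : InvFld.Fld ι k ≃ₐ[k] InvFld.Fld ι k) := fun i =>
  Submodule.subset_span ⟨i, rfl⟩

theorem IsLin.mul {σ τ : InvFld.Fld ι k ≃ₐ[k] InvFld.Fld ι k} (hσ : IsLin σ) (hτ : IsLin τ) :
    IsLin (σ * τ) := by
  intro i
  rw [AlgEquiv.mul_apply]
  have h := hτ i
  have hle : Submodule.span k (Set.range fun j : ι => (InvFld.X j : InvFld.Fld ι k)) ≤
      (Submodule.span k (Set.range fun j : ι => (InvFld.X j : InvFld.Fld ι k))).comap
        σ.toLinearMap := by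
    rw [Submodule.span_le]
    rintro _ ⟨j, rfl⟩
    exact hσ j
  exact hle h

/-- The coefficients of `σ (X i)`. -/
noncomputable def coef {σ : InvFld.Fld ι k ≃ₐ[k] InvFld.Fld ι k} (hσ : IsLin σ) (i : ι) : ι → k :=
  Classical.choose ((Submodule.mem_span_range_iff_exists_fun k).mp (hσ i))

theorem coef_spec {σ : InvFld.Fld ι k ≃ₐ[k] InvFld.Fld ι k} (hσ : IsLin σ) (i : ι) :
    ∑ j, coef hσ i j • (InvFld.X j : InvFld.Fld ι k) = σ (InvFld.X i) :=
  Classical.choose_spec ((Submodule.mem_span_range_iff_exists_fun k).mp (hσ i))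

/-- The linear polynomial mapping to `σ (X i)`. -/
noncomputable def pre {σ : InvFld.Fld ι k ≃ₐ[k] InvFld.Fld ι k} (hσ : IsLin σ) (i : ι) :
    MvPolynomial ι k :=
  ∑ j, C (coef hσ i j) * X j

theorem algebraMap_pre {σ : InvFld.Fld ι k ≃ₐ[k] InvFld.Fld ι k} (hσ : IsLin σ) (i : ι) :
    algebraMap (MvPolynomial ι k) (InvFld.Fld ι k) (pre hσ i) = σ (InvFld.X i) := by
  rw [← coef_spec hσ i, pre, map_sum]
  refine Finset.sum_congr rfl fun j _ => ?_
  rw [map_mul, Algebra.smul_def]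
  congr 1

theorem algebraMap_rename_pre_mem {κ : Type} {σ : InvFld.Fld ι k ≃ₐ[k] InvFld.Fld ι k}
    (hσ : IsLin σ) (f : ι → κ) (i : ι) :
    algebraMap (MvPolynomial κ k) (InvFld.Fld κ k) (rename f (pre hσ i)) ∈
      Submodule.span k (Set.range fun j : ι => (InvFld.X (f j) : InvFld.Fld κ k)) := by
  rw [pre, map_sum, map_sum]
  refine Submodule.sum_mem _ fun j _ => ?_
  rw [map_mul, rename_C, rename_X, map_mul]
  have : algebraMap (MvPolynomial κ k) (InvFld.Fld κ k) (C (coef hσ i j)) =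
      algebraMap k (InvFld.Fld κ k) (coef hσ i j) := by
    rw [← MvPolynomial.algebraMap_eq, ← IsScalarTower.algebraMap_apply]
  rw [this, ← Algebra.smul_def]
  exact Submodule.smul_mem _ _ (Submodule.subset_span ⟨j, rfl⟩)

/-- The polynomial-level endomorphism attached to a linear automorphism. -/
noncomputable def flat {σ : InvFld.Fld ι k ≃ₐ[k] InvFld.Fld ι k} (hσ : IsLin σ) :
    MvPolynomial ι k →ₐ[k] MvPolynomial ι k :=
  aeval (pre hσ)

theorem algebraMap_flat {σ : InvFld.Fld ι k ≃ₐ[k] InvFld.Fld ι k} (hσ : IsLin σ)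
    (p : MvPolynomial ι k) :
    algebraMap (MvPolynomial ι k) (InvFld.Fld ι k) (flat hσ p) = σ (algebraMap _ _ p) := by
  have : ((IsScalarTower.toAlgHom k (MvPolynomial ι k) (InvFld.Fld ι k)).comp (flat hσ)) =
      (σ : InvFld.Fld ι k →ₐ[k] InvFld.Fld ι k).comp
        (IsScalarTower.toAlgHom k (MvPolynomial ι k) (InvFld.Fld ι k)) := by
    apply MvPolynomial.algHom_ext
    intro i
    simp only [AlgHom.comp_apply, flat, aeval_X, IsScalarTower.coe_toAlgHom']
    exact algebraMap_pre hσ i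
  exact DFunLike.congr_fun this p

theorem algebraMap_injective' (κ : Type) :
    Function.Injective (algebraMap (MvPolynomial κ k) (InvFld.Fld κ k)) :=
  IsFractionRing.injective _ _

/-- An automorphism of the rational function field is determined by its values on variables. -/
theorem algEquiv_ext {σ τ : InvFld.Fld ι k ≃ₐ[k] InvFld.Fld ι k}
    (h : ∀ i, σ (InvFld.X i) = τ (InvFld.X i)) : σ = τ := by
  have h1 : ((σ : InvFld.Fld ι k →ₐ[k] InvFld.Fld ι k).comp
        (IsScalarTower.toAlgHom k (MvPolynomial ι k) (InvFld.Fld ι k))) =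
      ((τ : InvFld.Fld ι k →ₐ[k] InvFld.Fld ι k).comp
        (IsScalarTower.toAlgHom k (MvPolynomial ι k) (InvFld.Fld ι k))) := by
    apply MvPolynomial.algHom_ext
    intro i
    exact h i
  have h2 : ((σ : InvFld.Fld ι k →ₐ[k] InvFld.Fld ι k) : InvFld.Fld ι k →+* InvFld.Fld ι k) =
      ((τ : InvFld.Fld ι k →ₐ[k] InvFld.Fld ι k) : InvFld.Fld ι k →+* InvFld.Fld ι k) := by
    apply IsFractionRing.ringHom_ext (A := MvPolynomial ι k)
    intro p
    exact DFunLike.congr_fun h1 p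
  ext x
  exact DFunLike.congr_fun h2 x

end Basic


section TwoBlock

variable {ι κ : Type} [Fintype ι] [Fintype κ]

theorem pre_congr {σ τ : InvFld.Fld ι k ≃ₐ[k] InvFld.Fld ι k} (h : σ = τ) (hσ : IsLin σ)
    (hτ : IsLin τ) (i : ι) : pre hσ i = pre hτ i := by
  subst h; rfl

theorem flat_pre {σ σ' : InvFld.Fld ι k ≃ₐ[k] InvFld.Fld ι k} (hσ : IsLin σ) (hσ' : IsLin σ')
    (i : ι) : flat hσ (pre hσ' i) = pre (hσ.mul hσ') i := by
  apply algebraMap_injective' (k := k) ι
  rw [algebraMap_flat, algebraMap_pre, algebraMap_pre, AlgEquiv.mul_apply]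

theorem pre_one (i : ι) : pre (isLin_one (k := k) (ι := ι)) i = X i := by
  apply algebraMap_injective' (k := k) ι
  rw [algebraMap_pre]
  rfl

/-- The block substitution on polynomials in `ι ⊕ κ` variables. -/
noncomputable def phi {σ : InvFld.Fld ι k ≃ₐ[k] InvFld.Fld ι k} (hσ : IsLin σ)
    {τ : InvFld.Fld κ k ≃ₐ[k] InvFld.Fld κ k} (hτ : IsLin τ) :
    MvPolynomial (ι ⊕ κ) k →ₐ[k] MvPolynomial (ι ⊕ κ) k :=
  aeval (Sum.elim (fun i => rename Sum.inl (pre hσ i)) (fun j => rename Sum.inr (pre hτ j)))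

theorem phi_X_inl {σ : InvFld.Fld ι k ≃ₐ[k] InvFld.Fld ι k} (hσ : IsLin σ)
    {τ : InvFld.Fld κ k ≃ₐ[k] InvFld.Fld κ k} (hτ : IsLin τ) (i : ι) :
    phi hσ hτ (X (Sum.inl i)) = rename Sum.inl (pre hσ i) := by
  simp [phi]

theorem phi_X_inr {σ : InvFld.Fld ι k ≃ₐ[k] InvFld.Fld ι k} (hσ : IsLin σ)
    {τ : InvFld.Fld κ k ≃ₐ[k] InvFld.Fld κ k} (hτ : IsLin τ) (j : κ) :
    phi hσ hτ (X (Sum.inr j)) = rename Sum.inr (pre hτ j) := by
  simp [phi]

theorem phi_rename_inl {σ : InvFld.Fld ι k ≃ₐ[k] InvFld.Fld ι k} (hσ : IsLin σ)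
    {τ : InvFld.Fld κ k ≃ₐ[k] InvFld.Fld κ k} (hτ : IsLin τ) (p : MvPolynomial ι k) :
    phi hσ hτ (rename Sum.inl p) = rename Sum.inl (flat hσ p) := by
  have : (phi hσ hτ).comp (rename Sum.inl) = (rename Sum.inl).comp (flat hσ) := by
    apply MvPolynomial.algHom_ext
    intro i
    simp only [AlgHom.comp_apply, rename_X, phi_X_inl, flat, aeval_X]
  exact DFunLike.congr_fun this p

theorem phi_rename_inr {σ : InvFld.Fld ι k ≃ₐ[k] InvFld.Fld ι k} (hσ : IsLin σ)
    {τ : InvFld.Fld κ k ≃ₐ[k] InvFld.Fld κ k} (hτ : IsLin τ) (p : MvPolynomial κ k) :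
    phi hσ hτ (rename Sum.inr p) = rename Sum.inr (flat hτ p) := by
  have : (phi hσ hτ).comp (rename Sum.inr) = (rename Sum.inr).comp (flat hτ) := by
    apply MvPolynomial.algHom_ext
    intro i
    simp only [AlgHom.comp_apply, rename_X, phi_X_inr, flat, aeval_X]
  exact DFunLike.congr_fun this p

theorem phi_comp {σ σ' : InvFld.Fld ι k ≃ₐ[k] InvFld.Fld ι k} (hσ : IsLin σ) (hσ' : IsLin σ')
    {τ τ' : InvFld.Fld κ k ≃ₐ[k] InvFld.Fld κ k} (hτ : IsLin τ) (hτ' : IsLin τ') :
    (phi hσ hτ).comp (phi hσ' hτ') = phi (hσ.mul hσ') (hτ.mul hτ') := by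
  apply MvPolynomial.algHom_ext
  rintro (i | j)
  · rw [AlgHom.comp_apply, phi_X_inl, phi_rename_inl, flat_pre, phi_X_inl]
  · rw [AlgHom.comp_apply, phi_X_inr, phi_rename_inr, flat_pre, phi_X_inr]

theorem phi_one : phi (isLin_one (k := k) (ι := ι)) (isLin_one (k := k) (ι := κ)) =
    AlgHom.id k _ := by
  apply MvPolynomial.algHom_ext
  rintro (i | j)
  · rw [phi_X_inl, pre_one, rename_X]; rfl
  · rw [phi_X_inr, pre_one, rename_X]; rfl

theorem phi_congr {σ σ' : InvFld.Fld ι k ≃ₐ[k] InvFld.Fld ι k} (h : σ = σ') (hσ : IsLin σ)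
    (hσ' : IsLin σ') {τ τ' : InvFld.Fld κ k ≃ₐ[k] InvFld.Fld κ k} (h' : τ = τ') (hτ : IsLin τ)
    (hτ' : IsLin τ') : phi hσ hτ = phi hσ' hτ' := by
  subst h; subst h'; rfl

end TwoBlock


section Group

variable {ι κ : Type} [Fintype ι] [Fintype κ]
  (G : Subgroup (InvFld.Fld ι k ≃ₐ[k] InvFld.Fld ι k)) (hG : ∀ σ ∈ G, IsLin σ)
  (H : Subgroup (InvFld.Fld κ k ≃ₐ[k] InvFld.Fld κ k)) (hH : ∀ τ ∈ H, IsLin τ)
  (f : G →* H)

/-- Block substitution attached to `σ ∈ G`. -/
noncomputable def phiG (σ : G) : MvPolynomial (ι ⊕ κ) k →ₐ[k] MvPolynomial (ι ⊕ κ) k :=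
  phi (hG σ.1 σ.2) (hH (f σ).1 (f σ).2)

theorem phiG_mul (σ σ' : G) : phiG G hG H hH f (σ * σ') =
    (phiG G hG H hH f σ).comp (phiG G hG H hH f σ') := by
  unfold phiG
  rw [phi_comp]
  apply phi_congr
  · rfl
  · rw [map_mul]; rfl

theorem phiG_one : phiG G hG H hH f 1 = AlgHom.id k _ := by
  unfold phiG
  rw [← phi_one]
  apply phi_congr
  · rfl
  · rw [map_one]; rfl

/-- The polynomial automorphism attached to `σ ∈ G`. -/
noncomputable def phiEquiv (σ : G) : MvPolynomial (ι ⊕ κ) k ≃ₐ[k] MvPolynomial (ι ⊕ κ) k :=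
  AlgEquiv.ofAlgHom (phiG G hG H hH f σ) (phiG G hG H hH f σ⁻¹)
    (by rw [← phiG_mul, mul_inv_cancel, phiG_one])
    (by rw [← phiG_mul, inv_mul_cancel, phiG_one])

theorem phiEquiv_apply (σ : G) (p : MvPolynomial (ι ⊕ κ) k) :
    phiEquiv G hG H hH f σ p = phiG G hG H hH f σ p := rfl

/-- `σ ↦ phiEquiv σ` as a group homomorphism. -/
noncomputable def phiHom : G →* (MvPolynomial (ι ⊕ κ) k ≃ₐ[k] MvPolynomial (ι ⊕ κ) k) where
  toFun := phiEquiv G hG H hH f
  map_one' := by
    ext p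
    rw [phiEquiv_apply, phiG_one]; rfl
  map_mul' σ σ' := by
    ext p
    rw [phiEquiv_apply, phiG_mul]; rfl

/-- The extended action on the rational function field in `ι ⊕ κ` variables. -/
noncomputable def extHom : G →* (InvFld.Fld (ι ⊕ κ) k ≃ₐ[k] InvFld.Fld (ι ⊕ κ) k) :=
  (IsFractionRing.fieldEquivOfAlgEquivHom k (InvFld.Fld (ι ⊕ κ) k)).comp (phiHom G hG H hH f)

theorem extHom_algebraMap (σ : G) (p : MvPolynomial (ι ⊕ κ) k) :
    extHom G hG H hH f σ (algebraMap _ _ p) = algebraMap _ _ (phiG G hG H hH f σ p) := by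
  unfold extHom
  rw [MonoidHom.comp_apply, IsFractionRing.fieldEquivOfAlgEquivHom_apply,
    IsFractionRing.fieldEquivOfAlgEquiv_algebraMap]
  rfl

theorem extHom_X_inl (σ : G) (i : ι) :
    extHom G hG H hH f σ (InvFld.X (Sum.inl i)) =
      algebraMap (MvPolynomial (ι ⊕ κ) k) (InvFld.Fld (ι ⊕ κ) k)
        (rename Sum.inl (pre (hG σ.1 σ.2) i)) := by
  rw [InvFld.X, extHom_algebraMap, phiG, phi_X_inl]

theorem extHom_X_inr (σ : G) (j : κ) :
    extHom G hG H hH f σ (InvFld.X (Sum.inr j)) =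
      algebraMap (MvPolynomial (ι ⊕ κ) k) (InvFld.Fld (ι ⊕ κ) k)
        (rename Sum.inr (pre (hH (f σ).1 (f σ).2) j)) := by
  rw [InvFld.X, extHom_algebraMap, phiG, phi_X_inr]

end Group


section Embed

variable {ι κ : Type}

theorem toFld_comp_rename_injective (g : ι → κ) (hg : Function.Injective g) :
    Function.Injective ((IsScalarTower.toAlgHom k (MvPolynomial κ k) (InvFld.Fld κ k)).comp
      (rename g : MvPolynomial ι k →ₐ[k] MvPolynomial κ k)) := by
  intro p q h
  exact rename_injective g hg (algebraMap_injective' (k := k) κ h)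

/-- The embedding of rational function fields induced by an injection of variables. -/
noncomputable def embHom (g : ι → κ) (hg : Function.Injective g) :
    InvFld.Fld ι k →ₐ[k] InvFld.Fld κ k :=
  IsFractionRing.liftAlgHom (toFld_comp_rename_injective (k := k) g hg)

theorem embHom_algebraMap (g : ι → κ) (hg : Function.Injective g) (p : MvPolynomial ι k) :
    embHom (k := k) g hg (algebraMap _ _ p) =
      algebraMap (MvPolynomial κ k) (InvFld.Fld κ k) (rename g p) := by
  unfold embHom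
  rw [IsFractionRing.liftAlgHom_apply, IsFractionRing.lift_algebraMap]
  rfl

theorem embHom_X (g : ι → κ) (hg : Function.Injective g) (i : ι) :
    embHom (k := k) g hg (InvFld.X i) = InvFld.X (g i) := by
  rw [InvFld.X, embHom_algebraMap, rename_X]

theorem embHom_injective (g : ι → κ) (hg : Function.Injective g) :
    Function.Injective (embHom (k := k) g hg) :=
  (embHom (k := k) g hg).toRingHom.injective

/-- The rational function field is generated by the variables. -/
theorem adjoin_X_eq_top :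
    IntermediateField.adjoin k (Set.range fun i : ι => (InvFld.X i : InvFld.Fld ι k)) = ⊤ := by
  have hmem : ∀ p : MvPolynomial ι k,
      algebraMap (MvPolynomial ι k) (InvFld.Fld ι k) p ∈
        IntermediateField.adjoin k (Set.range fun i : ι => (InvFld.X i : InvFld.Fld ι k)) := by
    intro p
    induction p using MvPolynomial.induction_on with
    | C a =>
      have : algebraMap (MvPolynomial ι k) (InvFld.Fld ι k) (MvPolynomial.C a) =
          algebraMap k (InvFld.Fld ι k) a := by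
        rw [← MvPolynomial.algebraMap_eq, ← IsScalarTower.algebraMap_apply]
      rw [this]
      exact IntermediateField.algebraMap_mem _ a
    | add p q hp hq =>
      rw [map_add]; exact add_mem hp hq
    | mul_X p i hp =>
      rw [map_mul]
      exact mul_mem hp (IntermediateField.subset_adjoin k _ ⟨i, rfl⟩)
  rw [eq_top_iff]
  intro f _
  obtain ⟨p, q, _, rfl⟩ := IsFractionRing.div_surjective (A := MvPolynomial ι k) f
  exact div_mem (hmem p) (hmem q)

theorem fieldRange_embHom (g : ι → κ) (hg : Function.Injective g) :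
    (embHom (k := k) g hg).fieldRange =
      IntermediateField.adjoin k (Set.range fun i : ι => (InvFld.X (g i) : InvFld.Fld κ k)) := by
  rw [AlgHom.fieldRange_eq_map, ← adjoin_X_eq_top (k := k) (ι := ι), IntermediateField.adjoin_map]
  congr 1
  ext x
  constructor
  · rintro ⟨_, ⟨i, rfl⟩, rfl⟩
    exact ⟨i, (embHom_X g hg i).symm⟩
  · rintro ⟨i, rfl⟩
    exact ⟨_, ⟨i, rfl⟩, embHom_X g hg i⟩

end Embed


section Fixed

variable {ι κ : Type} [Fintype ι] [Fintype κ]
  (G : Subgroup (InvFld.Fld ι k ≃ₐ[k] InvFld.Fld ι k)) (hG : ∀ σ ∈ G, IsLin σ)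
  (H : Subgroup (InvFld.Fld κ k ≃ₐ[k] InvFld.Fld κ k)) (hH : ∀ τ ∈ H, IsLin τ)
  (f : G →* H)

theorem extHom_embHom_inl (σ : G) (x : InvFld.Fld ι k) :
    extHom G hG H hH f σ (embHom Sum.inl Sum.inl_injective x) =
      embHom Sum.inl Sum.inl_injective (σ.1 x) := by
  have h : ((extHom G hG H hH f σ : InvFld.Fld (ι ⊕ κ) k ≃ₐ[k] InvFld.Fld (ι ⊕ κ) k) :
        InvFld.Fld (ι ⊕ κ) k →+* InvFld.Fld (ι ⊕ κ) k).comp
        (embHom (k := k) (Sum.inl : ι → ι ⊕ κ) Sum.inl_injective : InvFld.Fld ι k →+* _) =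
      (embHom (k := k) (Sum.inl : ι → ι ⊕ κ) Sum.inl_injective : InvFld.Fld ι k →+* _).comp
        ((σ.1 : InvFld.Fld ι k ≃ₐ[k] InvFld.Fld ι k) : InvFld.Fld ι k →+* InvFld.Fld ι k) := by
    apply IsFractionRing.ringHom_ext (A := MvPolynomial ι k)
    intro p
    simp only [RingHom.comp_apply, RingHom.coe_coe]
    rw [embHom_algebraMap, extHom_algebraMap, phiG, phi_rename_inl, ← algebraMap_flat (hG σ.1 σ.2),
      embHom_algebraMap]
  exact DFunLike.congr_fun h x

theorem extHom_embHom_inr (σ : G) (y : InvFld.Fld κ k) :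
    extHom G hG H hH f σ (embHom Sum.inr Sum.inr_injective y) =
      embHom Sum.inr Sum.inr_injective ((f σ).1 y) := by
  have h : ((extHom G hG H hH f σ : InvFld.Fld (ι ⊕ κ) k ≃ₐ[k] InvFld.Fld (ι ⊕ κ) k) :
        InvFld.Fld (ι ⊕ κ) k →+* InvFld.Fld (ι ⊕ κ) k).comp
        (embHom (k := k) (Sum.inr : κ → ι ⊕ κ) Sum.inr_injective : InvFld.Fld κ k →+* _) =
      (embHom (k := k) (Sum.inr : κ → ι ⊕ κ) Sum.inr_injective : InvFld.Fld κ k →+* _).comp
        (((f σ).1 : InvFld.Fld κ k ≃ₐ[k] InvFld.Fld κ k) : InvFld.Fld κ k →+* InvFld.Fld κ k) := by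
    apply IsFractionRing.ringHom_ext (A := MvPolynomial κ k)
    intro p
    simp only [RingHom.comp_apply, RingHom.coe_coe]
    rw [embHom_algebraMap, extHom_algebraMap, phiG, phi_rename_inr,
      ← algebraMap_flat (hH (f σ).1 (f σ).2), embHom_algebraMap]
  exact DFunLike.congr_fun h y

/-- The extended group. -/
noncomputable def Gt : Subgroup (InvFld.Fld (ι ⊕ κ) k ≃ₐ[k] InvFld.Fld (ι ⊕ κ) k) :=
  (extHom G hG H hH f).range

instance finite_Gt [Finite G] : Finite (Gt G hG H hH f) := by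
  unfold Gt
  exact Set.finite_range _

theorem Gt_lin_inl : ∀ σ ∈ Gt G hG H hH f, ∀ i : ι, σ (InvFld.X (Sum.inl i)) ∈
    Submodule.span k (Set.range fun j : ι => (InvFld.X (Sum.inl j) : InvFld.Fld (ι ⊕ κ) k)) := by
  rintro _ ⟨σ, rfl⟩ i
  rw [extHom_X_inl]
  exact algebraMap_rename_pre_mem (hG σ.1 σ.2) Sum.inl i

theorem Gt_lin_inr : ∀ σ ∈ Gt G hG H hH f, ∀ j : κ, σ (InvFld.X (Sum.inr j)) ∈
    Submodule.span k (Set.range fun i : κ => (InvFld.X (Sum.inr i) : InvFld.Fld (ι ⊕ κ) k)) := by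
  rintro _ ⟨σ, rfl⟩ j
  rw [extHom_X_inr]
  exact algebraMap_rename_pre_mem (hH (f σ).1 (f σ).2) Sum.inr j

theorem Gt_faithful : ∀ σ ∈ Gt G hG H hH f,
    (∀ i : ι, σ (InvFld.X (Sum.inl i)) = InvFld.X (Sum.inl i)) → σ = 1 := by
  rintro _ ⟨σ, rfl⟩ h
  have h1 : σ.1 = 1 := by
    apply algEquiv_ext
    intro i
    apply embHom_injective (k := k) (Sum.inl : ι → ι ⊕ κ) Sum.inl_injective
    rw [← extHom_embHom_inl G hG H hH f σ, embHom_X, h i, AlgEquiv.one_apply, embHom_X]
  have h2 : σ = 1 := Subtype.ext h1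
  rw [h2, map_one]

theorem embHom_inl_mem_fixedField_iff (x : InvFld.Fld ι k) :
    embHom Sum.inl Sum.inl_injective x ∈ IntermediateField.fixedField (Gt G hG H hH f) ↔
      x ∈ IntermediateField.fixedField G := by
  rw [IntermediateField.mem_fixedField_iff, IntermediateField.mem_fixedField_iff]
  constructor
  · intro h σ hσ
    have := h _ ⟨⟨σ, hσ⟩, rfl⟩
    rw [extHom_embHom_inl] at this
    exact embHom_injective (k := k) (Sum.inl : ι → ι ⊕ κ) Sum.inl_injective this
  · rintro h _ ⟨σ, rfl⟩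
    rw [extHom_embHom_inl, h σ.1 σ.2]

theorem inf_fixedField_eq_map :
    IntermediateField.adjoin k
        (Set.range fun j : ι => (InvFld.X (Sum.inl j) : InvFld.Fld (ι ⊕ κ) k)) ⊓
      IntermediateField.fixedField (Gt G hG H hH f) =
    (IntermediateField.fixedField G).map (embHom Sum.inl Sum.inl_injective) := by
  rw [← fieldRange_embHom (k := k) (Sum.inl : ι → ι ⊕ κ) Sum.inl_injective]
  ext y
  constructor
  · rintro ⟨⟨x, rfl⟩, hy⟩
    exact ⟨x, (embHom_inl_mem_fixedField_iff G hG H hH f x).mp hy, rfl⟩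
  · rintro ⟨x, hx, rfl⟩
    exact ⟨⟨x, rfl⟩, (embHom_inl_mem_fixedField_iff G hG H hH f x).mpr hx⟩

end Fixed


section Swap

variable {ι κ : Type} [Fintype ι] [Fintype κ]
  (G : Subgroup (InvFld.Fld ι k ≃ₐ[k] InvFld.Fld ι k)) (hG : ∀ σ ∈ G, IsLin σ)
  (H : Subgroup (InvFld.Fld κ k ≃ₐ[k] InvFld.Fld κ k)) (hH : ∀ τ ∈ H, IsLin τ)
  (e : G ≃* H)

/-- Swapping the two blocks of variables. -/
noncomputable def swapEquiv (ι κ : Type) :
    InvFld.Fld (ι ⊕ κ) k ≃ₐ[k] InvFld.Fld (κ ⊕ ι) k :=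
  IsFractionRing.algEquivOfAlgEquiv (renameEquiv k (Equiv.sumComm ι κ))

theorem swapEquiv_algebraMap (p : MvPolynomial (ι ⊕ κ) k) :
    swapEquiv (k := k) ι κ (algebraMap _ _ p) =
      algebraMap (MvPolynomial (κ ⊕ ι) k) (InvFld.Fld (κ ⊕ ι) k) (rename Sum.swap p) := by
  unfold swapEquiv
  rw [IsFractionRing.algEquivOfAlgEquiv_algebraMap]
  rfl

theorem rename_swap_phiG (σ : G) (p : MvPolynomial (ι ⊕ κ) k) :
    rename Sum.swap (phiG G hG H hH e.toMonoidHom σ p) =
      phiG H hH G hG e.symm.toMonoidHom (e σ) (rename Sum.swap p) := by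
  have : (rename Sum.swap : MvPolynomial (ι ⊕ κ) k →ₐ[k] MvPolynomial (κ ⊕ ι) k).comp
        (phiG G hG H hH e.toMonoidHom σ) =
      (phiG H hH G hG e.symm.toMonoidHom (e σ)).comp (rename Sum.swap) := by
    apply MvPolynomial.algHom_ext
    rintro (i | j)
    · simp only [AlgHom.comp_apply, rename_X, Sum.swap_inl, phiG, phi_X_inl, phi_X_inr,
        rename_rename]
      have h1 : (Sum.swap ∘ Sum.inl : ι → κ ⊕ ι) = Sum.inr := rfl
      rw [h1]
      congr 1
      apply pre_congr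
      simp
    · simp only [AlgHom.comp_apply, rename_X, Sum.swap_inr, phiG, phi_X_inl, phi_X_inr,
        rename_rename]
      have h1 : (Sum.swap ∘ Sum.inr : κ → κ ⊕ ι) = Sum.inl := rfl
      rw [h1]
      rfl
  exact DFunLike.congr_fun this p

theorem swapEquiv_extHom (σ : G) (x : InvFld.Fld (ι ⊕ κ) k) :
    swapEquiv (k := k) ι κ (extHom G hG H hH e.toMonoidHom σ x) =
      extHom H hH G hG e.symm.toMonoidHom (e σ) (swapEquiv (k := k) ι κ x) := by
  have h : ((swapEquiv (k := k) ι κ : InvFld.Fld (ι ⊕ κ) k ≃ₐ[k] InvFld.Fld (κ ⊕ ι) k) :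
        InvFld.Fld (ι ⊕ κ) k →+* InvFld.Fld (κ ⊕ ι) k).comp
        ((extHom G hG H hH e.toMonoidHom σ : InvFld.Fld (ι ⊕ κ) k ≃ₐ[k] InvFld.Fld (ι ⊕ κ) k) :
          InvFld.Fld (ι ⊕ κ) k →+* InvFld.Fld (ι ⊕ κ) k) =
      ((extHom H hH G hG e.symm.toMonoidHom (e σ) :
          InvFld.Fld (κ ⊕ ι) k ≃ₐ[k] InvFld.Fld (κ ⊕ ι) k) :
          InvFld.Fld (κ ⊕ ι) k →+* InvFld.Fld (κ ⊕ ι) k).comp
        ((swapEquiv (k := k) ι κ : InvFld.Fld (ι ⊕ κ) k ≃ₐ[k] InvFld.Fld (κ ⊕ ι) k) :
          InvFld.Fld (ι ⊕ κ) k →+* InvFld.Fld (κ ⊕ ι) k) := by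
    apply IsFractionRing.ringHom_ext (A := MvPolynomial (ι ⊕ κ) k)
    intro p
    simp only [RingHom.comp_apply, RingHom.coe_coe]
    rw [extHom_algebraMap, swapEquiv_algebraMap, swapEquiv_algebraMap, extHom_algebraMap,
      rename_swap_phiG]
  exact DFunLike.congr_fun h x

theorem map_swapEquiv_fixedField :
    (IntermediateField.fixedField (Gt G hG H hH e.toMonoidHom)).map
        (swapEquiv (k := k) ι κ : InvFld.Fld (ι ⊕ κ) k →ₐ[k] InvFld.Fld (κ ⊕ ι) k) =
      IntermediateField.fixedField (Gt H hH G hG e.symm.toMonoidHom) := by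
  ext y
  constructor
  · rintro ⟨x, hx, rfl⟩
    rw [IntermediateField.mem_fixedField_iff]
    rintro _ ⟨τ, rfl⟩
    have hx' := (IntermediateField.mem_fixedField_iff _ _).mp hx _ ⟨e.symm τ, rfl⟩
    have := swapEquiv_extHom G hG H hH e (e.symm τ) x
    rw [hx', MulEquiv.apply_symm_apply] at this
    exact this.symm
  · intro hy
    refine ⟨(swapEquiv (k := k) ι κ).symm y, ?_, by simp⟩
    show (swapEquiv (k := k) ι κ).symm y ∈
      IntermediateField.fixedField (Gt G hG H hH e.toMonoidHom)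
    rw [IntermediateField.mem_fixedField_iff]
    rintro _ ⟨σ, rfl⟩
    apply (swapEquiv (k := k) ι κ).injective
    rw [swapEquiv_extHom]
    have hy' := (IntermediateField.mem_fixedField_iff _ _).mp hy _ ⟨e σ, rfl⟩
    simp only [AlgEquiv.apply_symm_apply]
    exact hy'

theorem nonempty_fixedField_equiv :
    Nonempty (IntermediateField.fixedField (Gt G hG H hH e.toMonoidHom) ≃ₐ[k]
      IntermediateField.fixedField (Gt H hH G hG e.symm.toMonoidHom)) :=
  ⟨(IntermediateField.equivMap _ _).trans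
    (IntermediateField.equivOfEq (map_swapEquiv_fixedField G hG H hH e))⟩

end Swap


section Generic

universe v w

/-- A field generated over `F` by an algebraically independent family is the rational function
field. -/
theorem nonempty_fld_algEquiv {F : Type u} {E : Type v} [Field F] [Field E] [Algebra F E] {m : ℕ}
    (t : Fin m → E) (hti : AlgebraicIndependent F t)
    (hgen : IntermediateField.adjoin F (Set.range t) = ⊤) :
    Nonempty (InvFld.Fld (Fin m) F ≃ₐ[F] E) := by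
  have hinj : Function.Injective (aeval t : MvPolynomial (Fin m) F →ₐ[F] E) := hti
  let L : InvFld.Fld (Fin m) F →ₐ[F] E := IsFractionRing.liftAlgHom hinj
  have hLX : ∀ i, L (InvFld.X i) = t i := by
    intro i
    show IsFractionRing.liftAlgHom hinj (algebraMap _ _ (X i)) = t i
    rw [IsFractionRing.liftAlgHom_apply, IsFractionRing.lift_algebraMap]
    simp
  have hsurj : Function.Surjective L := by
    rw [← AlgHom.fieldRange_eq_top, eq_top_iff, ← hgen, IntermediateField.adjoin_le_iff]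
    rintro _ ⟨i, rfl⟩
    exact ⟨InvFld.X i, hLX i⟩
  exact ⟨AlgEquiv.ofBijective L ⟨L.toRingHom.injective, hsurj⟩⟩


/-- If `Ft = F₁(t)` with `t` algebraically independent over `F₁` and `F₁` the image of `F` under
an embedding, then `Ft` is the rational function field over `F`. -/
theorem nonempty_fld_algEquiv_fixed {k : Type u} [Field k] {K : Type v} {Kt : Type w} [Field K]
    [Field Kt] [Algebra k K] [Algebra k Kt]
    (emb : K →ₐ[k] Kt) (F : IntermediateField k K) (Ft F₁ : IntermediateField k Kt)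
    (hF₁ : F₁ = F.map emb) {m : ℕ} (t : Fin m → Kt) (hti : AlgebraicIndependent F₁ t)
    (hgen : (IntermediateField.adjoin F₁ (Set.range t)).restrictScalars k = Ft) :
    Nonempty (InvFld.Fld (Fin m) F ≃ₐ[k] Ft) := by
  have hmemFt : ∀ y : Kt, y ∈ Ft ↔ y ∈ IntermediateField.adjoin F₁ (Set.range t) := by
    intro y
    rw [← hgen]; rfl
  have hF₁le : ∀ x ∈ F₁, x ∈ Ft := by
    intro x hx
    rw [hmemFt]
    exact IntermediateField.algebraMap_mem _ (⟨x, hx⟩ : F₁)
  have ht : ∀ i, t i ∈ Ft := by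
    intro i
    rw [hmemFt]
    exact IntermediateField.subset_adjoin _ _ ⟨i, rfl⟩
  have hembF₁ : ∀ x : F, emb x ∈ F₁ := by
    intro x
    rw [hF₁]
    exact ⟨x, x.2, rfl⟩
  let j : F →ₐ[k] Ft :=
    { toFun := fun x => ⟨emb x, hF₁le _ (hembF₁ x)⟩
      map_one' := by ext; simp
      map_mul' := by intro a b; ext; simp
      map_zero' := by ext; simp
      map_add' := by intro a b; ext; simp
      commutes' := by intro c; ext; simp }
  have hj : ∀ x : F, ((j x : Ft) : Kt) = emb x := fun x => rfl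
  let _ : Algebra F Ft := j.toRingHom.toAlgebra
  have halg : ∀ x : F, algebraMap F Ft x = j x := fun x => rfl
  have : IsScalarTower k F Ft := IsScalarTower.of_algebraMap_eq (fun c => (j.commutes c).symm)
  let t' : Fin m → Ft := fun i => ⟨t i, ht i⟩
  let f : F →+* F₁ :=
    { toFun := fun x => ⟨emb x, hembF₁ x⟩
      map_one' := by ext; simp
      map_mul' := by intro a b; ext; simp
      map_zero' := by ext; simp
      map_add' := by intro a b; ext; simp }
  have hf : Function.Injective f := by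
    intro a b hab
    have : emb a = emb b := congrArg Subtype.val hab
    exact Subtype.ext (emb.toRingHom.injective this)
  have hti' : AlgebraicIndependent F t' := by
    have H : AlgebraicIndependent F₁ ((Ft.val : Ft →ₐ[k] Kt) ∘ t') := hti
    refine AlgebraicIndependent.of_ringHom_of_comp_eq (f := f) (g := (Ft.val : Ft →ₐ[k] Kt)) H hf ?_
    ext x
    rfl
  have hgen' : IntermediateField.adjoin F (Set.range t') = ⊤ := by
    let S0 : Subfield Kt :=
      (IntermediateField.adjoin F (Set.range t')).toSubfield.map (algebraMap Ft Kt)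
    have hS0 : ∀ y : Kt, y ∈ S0 ↔ ∃ z ∈ IntermediateField.adjoin F (Set.range t'), (z : Kt) = y := by
      intro y
      constructor
      · rintro ⟨z, hz, rfl⟩
        exact ⟨z, hz, rfl⟩
      · rintro ⟨z, hz, rfl⟩
        exact ⟨z, hz, rfl⟩
    let S' : IntermediateField F₁ Kt := S0.toIntermediateField (by
      intro x
      rw [hS0]
      have hx : (x : Kt) ∈ F.map emb := hF₁ ▸ x.2
      obtain ⟨x₀, hx₀, hx₀'⟩ := hx
      refine ⟨algebraMap F Ft ⟨x₀, hx₀⟩, IntermediateField.algebraMap_mem _ _, ?_⟩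
      rw [halg, hj]
      exact hx₀')
    have hle : IntermediateField.adjoin F₁ (Set.range t) ≤ S' := by
      rw [IntermediateField.adjoin_le_iff]
      rintro _ ⟨i, rfl⟩
      show t i ∈ S0
      rw [hS0]
      exact ⟨t' i, IntermediateField.subset_adjoin _ _ ⟨i, rfl⟩, rfl⟩
    rw [eq_top_iff]
    intro y _
    have hy : (y : Kt) ∈ IntermediateField.adjoin F₁ (Set.range t) := (hmemFt _).mp y.2
    have hy' : (y : Kt) ∈ S0 := hle hy
    rw [hS0] at hy'
    obtain ⟨z, hz, hzy⟩ := hy'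
    have : z = y := Subtype.ext hzy
    rwa [this] at hz
  obtain ⟨e⟩ := nonempty_fld_algEquiv t' hti' hgen'
  exact ⟨e.restrictScalars k⟩


end Generic

end Groth.Agent.Lib.InvFldExt38
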