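import Groth.Agent.Lib.InvFldExt38

set_option autoImplicit false
set_option linter.unusedSectionVars false

namespace Groth.Agent.Lib.InvFldExt38

open MvPolynomial

universe u v

variable {k : Type u} [Field k]

section Perm

variable (k) (n : ℕ)

/-- Renaming of variables as a group homomorphism. -/
noncomputable def renameHom :
    Equiv.Perm (Fin n) →* (MvPolynomial (Fin n) k ≃ₐ[k] MvPolynomial (Fin n) k) where
  toFun π := renameEquiv k π
  map_one' := by
    ext p
    simp
  map_mul' a b := by
    ext p
    simp [rename_rename, Equiv.Perm.mul_def]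

/-- The permutation action on the rational function field. -/
noncomputable def permHom :
    Equiv.Perm (Fin n) →* (InvFld.Fld (Fin n) k ≃ₐ[k] InvFld.Fld (Fin n) k) :=
  (IsFractionRing.fieldEquivOfAlgEquivHom k (InvFld.Fld (Fin n) k)).comp (renameHom k n)

variable {k n}

theorem permHom_algebraMap (π : Equiv.Perm (Fin n)) (p : MvPolynomial (Fin n) k) :
    permHom k n π (algebraMap _ _ p) =
      algebraMap (MvPolynomial (Fin n) k) (InvFld.Fld (Fin n) k) (rename π p) := by
  unfold permHom
  rw [MonoidHom.comp_apply, IsFractionRing.fieldEquivOfAlgEquivHom_apply,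
    IsFractionRing.fieldEquivOfAlgEquiv_algebraMap]
  rfl

theorem permHom_X (π : Equiv.Perm (Fin n)) (i : Fin n) :
    permHom k n π (InvFld.X i) = InvFld.X (π i) := by
  rw [InvFld.X, permHom_algebraMap, rename_X]

theorem permHom_injective : Function.Injective (permHom k n) := by
  intro a b hab
  ext i
  have h1 := congrArg (fun σ : InvFld.Fld (Fin n) k ≃ₐ[k] InvFld.Fld (Fin n) k => σ (InvFld.X i)) hab
  simp only [permHom_X] at h1
  have h2 := algebraMap_injective' (k := k) (Fin n) h1
  have h3 := MvPolynomial.X_injective h2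
  rw [h3]

theorem isLin_permHom (π : Equiv.Perm (Fin n)) : IsLin (permHom k n π) := by
  intro i
  rw [permHom_X]
  exact Submodule.subset_span ⟨π i, rfl⟩

end Perm


section Sym

variable (k) (n : ℕ)

/-- The elementary symmetric functions in the rational function field. -/
noncomputable def uK (i : Fin n) : InvFld.Fld (Fin n) k :=
  algebraMap (MvPolynomial (Fin n) k) (InvFld.Fld (Fin n) k) (esymm (Fin n) k (i + 1))

theorem aeval_uK (p : MvPolynomial (Fin n) k) :
    aeval (uK k n) p =
      algebraMap (MvPolynomial (Fin n) k) (InvFld.Fld (Fin n) k)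
        ((esymmAlgHom (Fin n) k n p).val) := by
  rw [esymmAlgHom_apply]
  have : (aeval (uK k n) : MvPolynomial (Fin n) k →ₐ[k] InvFld.Fld (Fin n) k) =
      (IsScalarTower.toAlgHom k (MvPolynomial (Fin n) k) (InvFld.Fld (Fin n) k)).comp
        (aeval (fun i : Fin n => esymm (Fin n) k (i + 1))) := by
    apply MvPolynomial.algHom_ext
    intro i
    simp [uK]
  rw [this]
  rfl

theorem algebraicIndependent_uK : AlgebraicIndependent k (uK k n) := by
  intro p q h
  change aeval (uK k n) p = aeval (uK k n) q at h
  rw [aeval_uK, aeval_uK] at h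
  have h1 := algebraMap_injective' (k := k) (Fin n) h
  exact esymmAlgHom_injective k (by simp) (Subtype.ext h1)

theorem uK_mem_fixedField (i : Fin n) :
    uK k n i ∈ IntermediateField.fixedField (permHom k n).range := by
  rw [IntermediateField.mem_fixedField_iff]
  rintro _ ⟨π, rfl⟩
  rw [uK, permHom_algebraMap, rename_esymm]

theorem algebraMap_mem_of_isSymmetric (P : MvPolynomial (Fin n) k) (hP : P.IsSymmetric) :
    algebraMap (MvPolynomial (Fin n) k) (InvFld.Fld (Fin n) k) P ∈
      IntermediateField.adjoin k (Set.range (uK k n)) := by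
  obtain ⟨p₀, hp₀⟩ := esymmAlgHom_surjective k (σ := Fin n) (n := n) (by simp) ⟨P, hP⟩
  have h1 : (esymmAlgHom (Fin n) k n p₀).val = P := congrArg Subtype.val hp₀
  rw [← h1, ← aeval_uK]
  have : aeval (uK k n) p₀ ∈ Algebra.adjoin k (Set.range (uK k n)) := by
    rw [Algebra.adjoin_range_eq_range_aeval]
    exact ⟨p₀, rfl⟩
  exact IntermediateField.algebra_adjoin_le_adjoin k _ this

theorem fixedField_le_adjoin_uK :
    IntermediateField.fixedField (permHom k n).range ≤
      IntermediateField.adjoin k (Set.range (uK k n)) := by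
  classical
  intro f hf
  rw [IntermediateField.mem_fixedField_iff] at hf
  have hf' : ∀ π : Equiv.Perm (Fin n), permHom k n π f = f := fun π => hf _ ⟨π, rfl⟩
  obtain ⟨p, q, hq, rfl⟩ := IsFractionRing.div_surjective (A := MvPolynomial (Fin n) k) f
  have hq0 : q ≠ 0 := nonZeroDivisors.ne_zero hq
  set Q' : MvPolynomial (Fin n) k := ∏ π : Equiv.Perm (Fin n), rename π q with hQ'
  set P' : MvPolynomial (Fin n) k :=
    p * ∏ π ∈ Finset.univ.erase (1 : Equiv.Perm (Fin n)), rename π q with hP'
  have hQ'sym : Q'.IsSymmetric := by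
    intro τ
    rw [hQ', map_prod]
    refine Fintype.prod_equiv (Equiv.mulLeft τ) _ _ (fun π => ?_)
    simp [rename_rename, Equiv.Perm.mul_def]
  have hQ'ne : Q' ≠ 0 := by
    rw [hQ']
    exact Finset.prod_ne_zero_iff.mpr fun π _ =>
      (map_ne_zero_iff _ (rename_injective _ π.injective)).mpr hq0
  have hmulQ : Q' = q * ∏ π ∈ Finset.univ.erase (1 : Equiv.Perm (Fin n)), rename π q := by
    rw [hQ', ← Finset.mul_prod_erase Finset.univ _ (Finset.mem_univ (1 : Equiv.Perm (Fin n)))]
    simp
  have hqK : algebraMap (MvPolynomial (Fin n) k) (InvFld.Fld (Fin n) k) q ≠ 0 :=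
    (map_ne_zero_iff _ (algebraMap_injective' (k := k) (Fin n))).mpr hq0
  have hQK : algebraMap (MvPolynomial (Fin n) k) (InvFld.Fld (Fin n) k) Q' ≠ 0 :=
    (map_ne_zero_iff _ (algebraMap_injective' (k := k) (Fin n))).mpr hQ'ne
  have hPQ : algebraMap (MvPolynomial (Fin n) k) (InvFld.Fld (Fin n) k) P' =
      (algebraMap _ _ p / algebraMap _ _ q) * algebraMap _ _ Q' := by
    rw [hmulQ, hP', map_mul, map_mul]
    field_simp
  have hP'sym : P'.IsSymmetric := by
    intro τ
    apply algebraMap_injective' (k := k) (Fin n)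
    rw [← permHom_algebraMap, hPQ, map_mul, hf' τ, permHom_algebraMap, hQ'sym τ]
  have h1 := algebraMap_mem_of_isSymmetric k n P' hP'sym
  have h2 := algebraMap_mem_of_isSymmetric k n Q' hQ'sym
  have : algebraMap (MvPolynomial (Fin n) k) (InvFld.Fld (Fin n) k) p / algebraMap _ _ q =
      algebraMap _ _ P' / algebraMap _ _ Q' := by
    rw [hPQ]
    field_simp
  rw [this]
  exact div_mem h1 h2

theorem fixedField_eq_adjoin_uK :
    IntermediateField.fixedField (permHom k n).range =
      IntermediateField.adjoin k (Set.range (uK k n)) := by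
  apply le_antisymm (fixedField_le_adjoin_uK k n)
  rw [IntermediateField.adjoin_le_iff]
  rintro _ ⟨i, rfl⟩
  exact uK_mem_fixedField k n i

/-- The fixed field of the symmetric group is purely transcendental. -/
theorem exists_pure_fixedField_perm :
    ∃ u : Fin n → IntermediateField.fixedField (permHom k n).range,
      AlgebraicIndependent k u ∧ IntermediateField.adjoin k (Set.range u) = ⊤ := by
  set F := IntermediateField.fixedField (permHom k n).range with hF
  let u : Fin n → F := fun i => ⟨uK k n i, uK_mem_fixedField k n i⟩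
  refine ⟨u, ?_, ?_⟩
  · apply AlgebraicIndependent.of_comp (F.val)
    exact algebraicIndependent_uK k n
  · rw [eq_top_iff]
    intro y _
    have hy : (y : InvFld.Fld (Fin n) k) ∈ IntermediateField.adjoin k (Set.range (uK k n)) := by
      rw [← fixedField_eq_adjoin_uK]; exact y.2
    have hmap : (IntermediateField.adjoin k (Set.range u)).map F.val =
        IntermediateField.adjoin k (Set.range (uK k n)) := by
      rw [IntermediateField.adjoin_map]
      congr 1
      ext x
      constructor
      · rintro ⟨_, ⟨i, rfl⟩, rfl⟩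
        exact ⟨i, rfl⟩
      · rintro ⟨i, rfl⟩
        exact ⟨u i, ⟨i, rfl⟩, rfl⟩
    rw [← hmap] at hy
    obtain ⟨z, hz, hzy⟩ := hy
    have : z = y := Subtype.ext hzy
    rwa [this] at hz

end Sym


section Pure

/-- The rational function field over a purely transcendental extension is purely transcendental. -/
theorem exists_pure_fld {F : Type v} [Field F] [Algebra k F] {n s : ℕ} (u : Fin n → F)
    (hu : AlgebraicIndependent k u) (hgen : IntermediateField.adjoin k (Set.range u) = ⊤) :
    ∃ t : Fin (s + n) → InvFld.Fld (Fin s) F,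
      AlgebraicIndependent k t ∧ IntermediateField.adjoin k (Set.range t) = ⊤ := by
  have hX : AlgebraicIndependent F (fun j : Fin s => (InvFld.X j : InvFld.Fld (Fin s) F)) := by
    have h0 : AlgebraicIndependent F (X : Fin s → MvPolynomial (Fin s) F) :=
      MvPolynomial.algebraicIndependent_X _ _
    exact h0.map' (f := IsScalarTower.toAlgHom F (MvPolynomial (Fin s) F) (InvFld.Fld (Fin s) F))
      (algebraMap_injective' (k := F) (Fin s))
  let t₀ : Fin s ⊕ Fin n → InvFld.Fld (Fin s) F :=
    Sum.elim (fun j : Fin s => (InvFld.X j : InvFld.Fld (Fin s) F))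
      (algebraMap F (InvFld.Fld (Fin s) F) ∘ u)
  have ht₀ : AlgebraicIndependent k t₀ := hu.sumElim_comp hX
  have hgen₀ : IntermediateField.adjoin k (Set.range t₀) = ⊤ := by
    set L := IntermediateField.adjoin k (Set.range t₀) with hL
    have hF : ∀ x : F, algebraMap F (InvFld.Fld (Fin s) F) x ∈ L := by
      intro x
      have hx : x ∈ IntermediateField.adjoin k (Set.range u) := by rw [hgen]; trivial
      have h1 : (IntermediateField.adjoin k (Set.range u)).map
          (IsScalarTower.toAlgHom k F (InvFld.Fld (Fin s) F)) ≤ L := by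
        rw [IntermediateField.adjoin_map, IntermediateField.adjoin_le_iff]
        rintro _ ⟨_, ⟨i, rfl⟩, rfl⟩
        exact IntermediateField.subset_adjoin k _ ⟨Sum.inr i, rfl⟩
      exact h1 ⟨x, hx, rfl⟩
    have hmem : ∀ p : MvPolynomial (Fin s) F,
        algebraMap (MvPolynomial (Fin s) F) (InvFld.Fld (Fin s) F) p ∈ L := by
      intro p
      induction p using MvPolynomial.induction_on with
      | C a =>
        have : algebraMap (MvPolynomial (Fin s) F) (InvFld.Fld (Fin s) F) (MvPolynomial.C a) =
            algebraMap F (InvFld.Fld (Fin s) F) a := by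
          rw [← MvPolynomial.algebraMap_eq, ← IsScalarTower.algebraMap_apply]
        rw [this]
        exact hF a
      | add p q hp hq =>
        rw [map_add]; exact add_mem hp hq
      | mul_X p i hp =>
        rw [map_mul]
        exact mul_mem hp (IntermediateField.subset_adjoin k _ ⟨Sum.inl i, rfl⟩)
    rw [eq_top_iff]
    intro f _
    obtain ⟨p, q, _, rfl⟩ := IsFractionRing.div_surjective (A := MvPolynomial (Fin s) F) f
    exact div_mem (hmem p) (hmem q)
  refine ⟨t₀ ∘ finSumFinEquiv.symm, ht₀.comp _ finSumFinEquiv.symm.injective, ?_⟩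
  rw [Set.range_comp, finSumFinEquiv.symm.surjective.range_eq, Set.image_univ]
  exact hgen₀

/-- Purity transports along a `k`-isomorphism. -/
theorem exists_pure_of_algEquiv {A : Type v} {B : Type v} [Field A] [Field B] [Algebra k A]
    [Algebra k B] (E : A ≃ₐ[k] B) {N : ℕ} (t : Fin N → B) (ht : AlgebraicIndependent k t)
    (hgen : IntermediateField.adjoin k (Set.range t) = ⊤) :
    ∃ t' : Fin N → A, AlgebraicIndependent k t' ∧
      IntermediateField.adjoin k (Set.range t') = ⊤ := by
  refine ⟨E.symm ∘ t, ?_, ?_⟩
  · exact ht.map' (f := (E.symm : B →ₐ[k] A)) E.symm.injective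
  · have h1 : (IntermediateField.adjoin k (Set.range t)).map (E.symm : B →ₐ[k] A) =
        IntermediateField.adjoin k (Set.range (E.symm ∘ t)) := by
      rw [IntermediateField.adjoin_map, Set.range_comp]
      rfl
    rw [← h1, hgen, ← AlgHom.fieldRange_eq_map, AlgHom.fieldRange_eq_top]
    exact E.symm.surjective

end Pure

end Groth.Agent.Lib.InvFldExt38
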