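import Groth.Agent.Lib.Rosenlicht38
import Groth.Agent.Lib.InvFrac38
import Groth.Agent.Lib.ComodUnip41d
import Groth.Agent.Lib.AlgClosedTensor2
import Mathlib.RingTheory.HopfAlgebra.Basic
import Mathlib.RingTheory.HopfAlgebra.Convolution
import Mathlib.LinearAlgebra.TensorProduct.RightExactness
import Mathlib.RingTheory.UniqueFactorizationDomain.GCDMonoid

/-!
# Invariant fractions on a factorial variety under a connected group without characters (helper38)

`act_eq_self_of_dvd`: for a finitely generated Hopf algebra `A` which is a domain with no nontrivial group-like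
element, coacting on a finitely generated domain `B` over an algebraically closed field: if `f₀ ∣ φ·f₀` for all
points `φ` then `f₀` is fixed by all points.  (Rosenlicht's lemma + the shear map.)
-/

set_option autoImplicit false
set_option linter.unusedSectionVars false
universe u v w
open TensorProduct

noncomputable section

namespace Groth.Agent.Lib.InvFracUFD38
open Groth.Agent.Lib.Comod Groth.Agent.Lib.InvFrac38 Groth.Agent.Lib.Rosenlicht38

section Shear
variable {k : Type u} [Field k] {A : Type v} [CommRing A] [HopfAlgebra k A]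
  {B : Type w} [CommRing B] [Algebra k B] [HopfRep.Comod k A B] [GLin.IsCoactAlg k A B]

/-- The shear map `b ⊗ a ↦ ρ(b) (1 ⊗ a)`, as a linear map. -/
def shearLin (k : Type u) [Field k] (A : Type v) [CommRing A] [HopfAlgebra k A]
    (B : Type w) [CommRing B] [Algebra k B] [HopfRep.Comod k A B] : B ⊗[k] A →ₗ[k] B ⊗[k] A :=
  (LinearMap.mul' k A).lTensor B ∘ₗ (TensorProduct.assoc k B A A).toLinearMap ∘ₗ
    (HopfRep.Comod.coact (k := k) (A := A) (V := B)).rTensor A

/-- The shear map as an algebra map. -/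
def shear (k : Type u) [Field k] (A : Type v) [CommRing A] [HopfAlgebra k A]
    (B : Type w) [CommRing B] [Algebra k B] [HopfRep.Comod k A B] [GLin.IsCoactAlg k A B] :
    B ⊗[k] A →ₐ[k] B ⊗[k] A :=
  Algebra.TensorProduct.lift (GLin.coactAlgHom k A B) Algebra.TensorProduct.includeRight
    (fun _ _ => Commute.all _ _)

theorem shear_tmul_one (b : B) : shear k A B (b ⊗ₜ[k] 1) = HopfRep.Comod.coact (k := k) (A := A) b := by
  simp only [shear, Algebra.TensorProduct.lift_tmul, GLin.coactAlgHom_apply, map_one, mul_one]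

theorem mul_one_tmul (y : B ⊗[k] A) (a : A) :
    y * ((1 : B) ⊗ₜ[k] a) = (LinearMap.mul' k A).lTensor B (TensorProduct.assoc k B A A (y ⊗ₜ[k] a)) := by
  induction y using TensorProduct.induction_on with
  | zero => simp
  | add x z hx hz => simp only [add_mul, TensorProduct.add_tmul, map_add, hx, hz]
  | tmul b a' => simp

theorem shear_eq_shearLin (t : B ⊗[k] A) : shear k A B t = shearLin k A B t := by
  induction t using TensorProduct.induction_on with
  | zero => simp
  | add x z hx hz => simp only [map_add, hx, hz]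
  | tmul b a =>
    simp only [shear, Algebra.TensorProduct.lift_tmul, GLin.coactAlgHom_apply,
      Algebra.TensorProduct.includeRight_apply, shearLin, LinearMap.coe_comp, LinearEquiv.coe_coe,
      Function.comp_apply, LinearMap.rTensor_tmul]
    exact mul_one_tmul _ a

theorem mul_assoc_lTensor (t : (B ⊗[k] A) ⊗[k] A) :
    (LinearMap.mul' k A).lTensor B (TensorProduct.assoc k B A A
      ((HopfAlgebra.antipode k (A := A)).lTensor (B ⊗[k] A) t)) =
    (LinearMap.mul' k A ∘ₗ (HopfAlgebra.antipode k (A := A)).lTensor A).lTensor B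
      (TensorProduct.assoc k B A A t) := by
  induction t using TensorProduct.induction_on with
  | zero => simp
  | add x z hx hz => simp only [map_add, hx, hz]
  | tmul y a' =>
    induction y using TensorProduct.induction_on with
    | zero => simp
    | add x z hx hz => simp only [TensorProduct.add_tmul, map_add, hx, hz]
    | tmul b a => simp

theorem rTensor_lTensor_comm (x : B ⊗[k] A) :
    (HopfRep.Comod.coact (k := k) (A := A) (V := B)).rTensor A
      ((HopfAlgebra.antipode k (A := A)).lTensor B x) =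
    (HopfAlgebra.antipode k (A := A)).lTensor (B ⊗[k] A)
      ((HopfRep.Comod.coact (k := k) (A := A) (V := B)).rTensor A x) := by
  induction x using TensorProduct.induction_on with
  | zero => simp
  | add x z hx hz => simp only [map_add, hx, hz]
  | tmul b a => simp

/-- The shear map undoes the coaction twisted by the antipode. -/
theorem shear_lTensor_antipode_coact (b : B) :
    shear k A B ((HopfAlgebra.antipode k (A := A)).lTensor B (HopfRep.Comod.coact (k := k) (A := A) b)) =
      b ⊗ₜ[k] (1 : A) := by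
  rw [shear_eq_shearLin, shearLin]
  simp only [LinearMap.coe_comp, LinearEquiv.coe_coe, Function.comp_apply]
  rw [rTensor_lTensor_comm, mul_assoc_lTensor]
  have hco := LinearMap.congr_fun (HopfRep.Comod.coassoc (k := k) (A := A) (V := B)) b
  simp only [LinearMap.coe_comp, LinearEquiv.coe_coe, Function.comp_apply] at hco
  rw [hco, ← LinearMap.comp_apply, ← LinearMap.lTensor_comp, LinearMap.comp_assoc,
    HopfAlgebra.mul_antipode_lTensor_comul, LinearMap.lTensor_comp, LinearMap.comp_apply]
  have hcu := LinearMap.congr_fun (HopfRep.Comod.counit_comp (k := k) (A := A) (V := B)) b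
  simp only [LinearMap.coe_comp, Function.comp_apply, LinearMap.flip_apply, TensorProduct.mk_apply] at hcu
  rw [hcu, LinearMap.lTensor_tmul, Algebra.linearMap_apply, map_one]

end Shear

section Pointwise
variable {k : Type u} [Field k] [IsAlgClosed k] {A : Type v} [CommRing A] [Algebra k A]
  [Algebra.FiniteType k A] [IsReduced A]

/-- A tensor all of whose contractions with rational points lie in `U` lies in `U ⊗ A`. -/
theorem mem_range_of_forall_point {M : Type w} [AddCommGroup M] [Module k M] (U : Submodule k M)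
    (x : M ⊗[k] A) (h : ∀ φ : A →ₐ[k] k, contr M φ.toLinearMap x ∈ U) :
    x ∈ LinearMap.range (U.subtype.rTensor A) := by
  rw [← rTensor_mkQ, LinearMap.mem_ker]
  apply eq_zero_of_forall_contr
  intro φ
  rw [contr_rTensor, Submodule.mkQ_apply, Submodule.Quotient.mk_eq_zero]
  exact h φ

end Pointwise

section Mult
variable {k : Type u} [Field k] {A : Type v} [CommRing A] [Algebra k A]
  {B : Type w} [CommRing B] [Algebra k B]

/-- Elements of `(f₀) ⊗ A` are multiples of `f₀ ⊗ 1`. -/
theorem exists_mul_of_mem_range_span (f₀ : B) (x : B ⊗[k] A)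
    (hx : x ∈ LinearMap.range (((Ideal.span {f₀}).restrictScalars k).subtype.rTensor A)) :
    ∃ w : B ⊗[k] A, x = (f₀ ⊗ₜ[k] (1 : A)) * w := by
  obtain ⟨y, rfl⟩ := hx
  induction y using TensorProduct.induction_on with
  | zero => exact ⟨0, by simp⟩
  | add y z hy hz =>
    obtain ⟨w, hw⟩ := hy
    obtain ⟨w', hw'⟩ := hz
    exact ⟨w + w', by rw [map_add, hw, hw', mul_add]⟩
  | tmul u a =>
    obtain ⟨u, hu⟩ := u
    obtain ⟨b, rfl⟩ := Ideal.mem_span_singleton'.1 hu
    refine ⟨b ⊗ₜ[k] a, ?_⟩
    rw [LinearMap.rTensor_tmul, Algebra.TensorProduct.tmul_mul_tmul, one_mul, mul_comm f₀ b]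
    rfl

/-- Elements of `k f₀ ⊗ A` are pure tensors `f₀ ⊗ χ`. -/
theorem exists_tmul_of_mem_range_span (f₀ : B) (x : B ⊗[k] A)
    (hx : x ∈ LinearMap.range ((Submodule.span k {f₀}).subtype.rTensor A)) :
    ∃ χ : A, x = f₀ ⊗ₜ[k] χ := by
  obtain ⟨y, rfl⟩ := hx
  induction y using TensorProduct.induction_on with
  | zero => exact ⟨0, by simp⟩
  | add y z hy hz =>
    obtain ⟨w, hw⟩ := hy
    obtain ⟨w', hw'⟩ := hz
    exact ⟨w + w', by rw [map_add, hw, hw', TensorProduct.tmul_add]⟩
  | tmul u a =>
    obtain ⟨u, hu⟩ := u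
    obtain ⟨c, rfl⟩ := Submodule.mem_span_singleton.1 hu
    refine ⟨c • a, ?_⟩
    rw [LinearMap.rTensor_tmul, TensorProduct.tmul_smul]
    rfl

theorem contr_eq_evR (y : A →ₐ[k] k) (t : B ⊗[k] A) : contr B y.toLinearMap t = evR B y t := by
  induction t using TensorProduct.induction_on with
  | zero => simp
  | add x z hx hz => simp only [map_add, hx, hz]
  | tmul x z => simp [evR_tmul, Algebra.smul_def, mul_comm]

end Mult

section Main
variable {k : Type u} [Field k] [IsAlgClosed k] {A : Type u} [CommRing A] [HopfAlgebra k A]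
  [Algebra.FiniteType k A] [IsDomain A]
  {B : Type u} [CommRing B] [Algebra k B] [Algebra.FiniteType k B] [IsDomain B]
  [HopfRep.Comod k A B] [GLin.IsCoactAlg k A B]

theorem tmul_one_ne_zero {f₀ : B} (hf₀ : f₀ ≠ 0) : f₀ ⊗ₜ[k] (1 : A) ≠ 0 := by
  intro h
  have := congrArg (contr B (Bialgebra.counitAlgHom k A).toLinearMap) h
  rw [contr_tmul, map_zero] at this
  simp at this
  exact hf₀ this

/-- If `f₀ ∣ φ·f₀` for all points then `ρ f₀ = (f₀ ⊗ 1) w` for a unit `w`. -/
theorem exists_unit_of_dvd {f₀ : B} (hf₀ : f₀ ≠ 0)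
    (h : ∀ φ : A →ₐ[k] k, f₀ ∣ HopfRep.Comod.act k A B φ f₀) :
    ∃ w : (B ⊗[k] A)ˣ, HopfRep.Comod.coact (k := k) (A := A) f₀ = (f₀ ⊗ₜ[k] (1 : A)) * (w : B ⊗[k] A) := by
  have _ : IsDomain (B ⊗[k] A) := Groth.Agent.Lib.AlgClosedTensor2.isDomain_tensorProduct
  obtain ⟨w, hw⟩ := exists_mul_of_mem_range_span f₀ _
    (mem_range_of_forall_point ((Ideal.span {f₀}).restrictScalars k)
      (HopfRep.Comod.coact (k := k) (A := A) f₀) (fun φ => by
        rw [Submodule.restrictScalars_mem, Ideal.mem_span_singleton]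
        exact h φ))
  obtain ⟨w', hw'⟩ := exists_mul_of_mem_range_span f₀ _
    (mem_range_of_forall_point ((Ideal.span {f₀}).restrictScalars k)
      ((HopfAlgebra.antipode k (A := A)).lTensor B (HopfRep.Comod.coact (k := k) (A := A) f₀)) (fun φ => by
        rw [Submodule.restrictScalars_mem, Ideal.mem_span_singleton, contr_lTensor]
        exact h (φ.comp (HopfAlgebra.antipodeAlgHom k A))))
  have h1 := shear_lTensor_antipode_coact (k := k) (A := A) f₀
  rw [hw', map_mul, shear_tmul_one, hw, mul_assoc] at h1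
  have h2 : (w * shear k A B w') = 1 := by
    apply mul_left_cancel₀ (tmul_one_ne_zero (k := k) (A := A) hf₀)
    rw [h1, mul_one]
  exact ⟨⟨w, shear k A B w', h2, by rw [mul_comm]; exact h2⟩, hw⟩

/-- **Key lemma**: if the group has no nontrivial characters and `f₀ ∣ φ·f₀` for all points `φ` then `f₀` is fixed
by all points. -/
theorem act_eq_self_of_dvd (hchar : ∀ a : A, IsGroupLikeElem k a → a = 1) {f₀ : B} (hf₀ : f₀ ≠ 0)
    (h : ∀ φ : A →ₐ[k] k, f₀ ∣ HopfRep.Comod.act k A B φ f₀) (φ : A →ₐ[k] k) :
    HopfRep.Comod.act k A B φ f₀ = f₀ := by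
  obtain ⟨w, hw⟩ := exists_unit_of_dvd hf₀ h
  have hact : ∀ ψ : A →ₐ[k] k, HopfRep.Comod.act k A B ψ f₀ = f₀ * evR B ψ (w : B ⊗[k] A) := by
    intro ψ
    rw [act_eq, Comod.act_apply, hw, contr_tmul_one_mul, contr_eq_evR]
  have hε : evR B (Bialgebra.counitAlgHom k A) (w : B ⊗[k] A) = 1 := by
    have := hact (Bialgebra.counitAlgHom k A)
    rw [act_eq] at this
    have h2 : Comod.act B (Bialgebra.counitAlgHom k A).toLinearMap f₀ = f₀ := Comod.act_counit f₀
    rw [h2] at this
    exact (mul_left_cancel₀ hf₀ (by rw [mul_one]; exact this)).symm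
  have hsc : ∀ ψ : A →ₐ[k] k, HopfRep.Comod.act k A B ψ f₀ ∈ Submodule.span k {f₀} := by
    intro ψ
    obtain ⟨c, -, hc⟩ := exists_smul_eq w ψ (Bialgebra.counitAlgHom k A)
    rw [hact, hc, hε, Submodule.mem_span_singleton]
    exact ⟨c, by rw [Algebra.smul_def, Algebra.smul_def, mul_one, mul_comm]⟩
  obtain ⟨χ, hχ⟩ := exists_tmul_of_mem_range_span f₀ _
    (mem_range_of_forall_point (Submodule.span k {f₀}) (HopfRep.Comod.coact (k := k) (A := A) f₀) hsc)
  have hgl : IsGroupLikeElem k χ := isGroupLikeElem_of_coact_eq_tmul inferInstance hf₀ hχ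
  rw [hchar χ hgl] at hχ
  rw [act_eq, Comod.act_apply, hχ, contr_tmul]
  simp

end Main

end Groth.Agent.Lib.InvFracUFD38
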