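import Mathlib

/-!
# Module-level algebra for a surjection `R → A` with invertible kernel `I` (helper35)

The short exact sequences `S₁ : 0 → I → R → A → 0`, `S₂ = S₁ ⊗ D` (`D` the dual of `I`), the morphisms
`τ h : S₁ ⟶ S₂` (`x ↦ x ⊗ h`), the contraction `I ⊗ D ≅ R`, and vanishing of `Hom_R(A, R)`,
`Hom_R(A, R ⊗ D)`.
-/
set_option autoImplicit false
set_option linter.unusedSectionVars false
universe u
open CategoryTheory CategoryTheory.Limits MonoidalCategory TensorProduct

namespace Groth.Agent.Lib.InvIdealAlg35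

section General

variable {R : Type u} [CommRing R]

/-- `- ⊗ G` applied to a short exact sequence is short exact for `G` flat. -/
theorem shortExact_map_tensorRight_of_flat (S : ShortComplex (ModuleCat.{u} R)) (hS : S.ShortExact)
    (G : ModuleCat.{u} R) [Module.Flat R G] :
    (S.map ((curriedTensor (ModuleCat.{u} R)).flip.obj G)).ShortExact := by
  have hex : Function.Exact S.f.hom S.g.hom :=
    (ShortComplex.ShortExact.moduleCat_exact_iff_function_exact S).1 hS.exact
  have hinj : Function.Injective S.f.hom := (ModuleCat.mono_iff_injective S.f).1 hS.mono_f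
  have hsurj : Function.Surjective S.g.hom := (ModuleCat.epi_iff_surjective S.g).1 hS.epi_g
  refine ShortComplex.ShortExact.mk' ?_ ?_ ?_
  · rw [ShortComplex.ShortExact.moduleCat_exact_iff_function_exact]
    change Function.Exact (S.f ▷ G).hom (S.g ▷ G).hom
    rw [ModuleCat.hom_whiskerRight, ModuleCat.hom_whiskerRight]
    exact rTensor_exact G hex hsurj
  · rw [ModuleCat.mono_iff_injective]
    change Function.Injective (S.f ▷ G).hom
    rw [ModuleCat.hom_whiskerRight]
    exact Module.Flat.rTensor_preserves_injective_linearMap S.f.hom hinj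
  · rw [ModuleCat.epi_iff_surjective]
    change Function.Surjective (S.g ▷ G).hom
    rw [ModuleCat.hom_whiskerRight]
    exact LinearMap.rTensor_surjective G hsurj

end General

variable (R A : Type u) [CommRing R] [CommRing A] [Algebra R A]

/-- the kernel ideal -/
abbrev I : Ideal R := RingHom.ker (algebraMap R A)

/-- the dual of the kernel -/
abbrev Dl : Type u := Module.Dual R (I R A)

/-- `0 → I → R → A → 0` -/
noncomputable def S₁ : ShortComplex (ModuleCat.{u} R) :=
  ShortComplex.mk (ModuleCat.ofHom (Submodule.subtype (I R A)))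
    (ModuleCat.ofHom (Algebra.linearMap R A)) (by
      ext x
      exact x.2)

/-- `0 → I ⊗ D → R ⊗ D → A ⊗ D → 0` -/
noncomputable def S₂ : ShortComplex (ModuleCat.{u} R) :=
  (S₁ R A).map ((curriedTensor (ModuleCat.{u} R)).flip.obj (ModuleCat.of R (Dl R A)))

variable {R A}

lemma shortExact_S₁ (hφ : Function.Surjective (algebraMap R A)) : (S₁ R A).ShortExact := by
  refine ShortComplex.ShortExact.mk' ?_ ?_ ?_
  · rw [ShortComplex.ShortExact.moduleCat_exact_iff_function_exact]
    intro x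
    constructor
    · intro hx
      exact ⟨⟨x, hx⟩, rfl⟩
    · rintro ⟨y, rfl⟩
      exact y.2
  · rw [ModuleCat.mono_iff_injective]
    exact Subtype.val_injective
  · rw [ModuleCat.epi_iff_surjective]
    exact hφ

section Inv

variable [Module.Invertible R (I R A)]

instance : Module.Flat R (ModuleCat.of R (Dl R A)) :=
  inferInstanceAs (Module.Flat R (Module.Dual R (I R A)))

lemma shortExact_S₂ (hφ : Function.Surjective (algebraMap R A)) : (S₂ R A).ShortExact :=
  shortExact_map_tensorRight_of_flat _ (shortExact_S₁ hφ) _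

/-- the map `𝟙 ⟶ D`, `1 ↦ h` -/
noncomputable def hHat (h : Dl R A) : 𝟙_ (ModuleCat.{u} R) ⟶ ModuleCat.of R (Dl R A) :=
  ModuleCat.ofHom (LinearMap.toSpanSingleton R (Dl R A) h)

/-- `x ↦ x ⊗ h`, natural in the module -/
noncomputable def tens (h : Dl R A) (X : ModuleCat.{u} R) :
    X ⟶ X ⊗ ModuleCat.of R (Dl R A) :=
  (ρ_ X).inv ≫ (X ◁ hHat h)

lemma tens_naturality (h : Dl R A) {X Y : ModuleCat.{u} R} (f : X ⟶ Y) :
    tens h X ≫ (f ▷ ModuleCat.of R (Dl R A)) = f ≫ tens h Y := by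
  dsimp only [tens]
  rw [Category.assoc, whisker_exchange, ← Category.assoc, ← Category.assoc,
    ← MonoidalCategory.rightUnitor_inv_naturality]

/-- the morphism of short exact sequences `S₁ ⟶ S₂`, `x ↦ x ⊗ h` -/
noncomputable def τ (h : Dl R A) : S₁ R A ⟶ S₂ R A where
  τ₁ := tens h _
  τ₂ := tens h _
  τ₃ := tens h _
  comm₁₂ := tens_naturality h (S₁ R A).f
  comm₂₃ := tens_naturality h (S₁ R A).g

/-- the contraction `I ⊗ D ≅ R` -/
noncomputable def ctr : (S₂ R A).X₁ ≅ ModuleCat.of R R :=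
  (TensorProduct.comm R (I R A) (Dl R A) ≪≫ₗ Module.Invertible.linearEquiv R (I R A)).toModuleIso

lemma τ₁_ctr (h : Dl R A) : (τ h).τ₁ ≫ (ctr (R := R) (A := A)).hom = ModuleCat.ofHom h := by
  apply ModuleCat.hom_ext
  ext i
  change contractLeft R (I R A) ((TensorProduct.comm R (I R A) (Dl R A))
    ((show I R A from i) ⊗ₜ[R] ((1 : R) • h))) = h i
  rw [one_smul, TensorProduct.comm_tmul, contractLeft_apply]

omit [Module.Invertible R (I R A)] in
lemma ann_eq_zero [FaithfulSMul R (I R A)] (r : R) (hr : ∀ i : I R A, (i : R) * r = 0) : r = 0 := by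
  apply FaithfulSMul.eq_of_smul_eq_smul (M := R) (α := I R A)
  intro i
  apply Subtype.ext
  change r * (i : R) = 0 * (i : R)
  rw [zero_mul, mul_comm]
  exact hr i

lemma smul_A_eq_zero (i : I R A) (a : A) : (i : R) • a = 0 := by
  rw [Algebra.smul_def]
  have : algebraMap R A (i : R) = 0 := i.2
  rw [this, zero_mul]

/-- there are no nonzero `R`-linear maps `A → R` -/
lemma hom_A_R_eq_zero (u : ModuleCat.of R A ⟶ ModuleCat.of R R) : u = 0 := by
  apply ModuleCat.hom_ext
  ext a
  change u.hom a = 0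
  apply ann_eq_zero (R := R) (A := A)
  intro i
  have h1 : u.hom ((i : R) • a) = (i : R) • u.hom a := map_smul u.hom (i : R) a
  rw [smul_A_eq_zero, map_zero] at h1
  exact h1.symm

/-- there are no nonzero `R`-linear maps `A → D` -/
lemma hom_A_D_eq_zero (u : ModuleCat.of R A ⟶ ModuleCat.of R (Dl R A)) : u = 0 := by
  apply ModuleCat.hom_ext
  ext a j
  change (u.hom a) j = 0
  apply ann_eq_zero (R := R) (A := A)
  intro i
  have h1 : u.hom ((i : R) • a) = (i : R) • u.hom a := map_smul u.hom (i : R) a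
  rw [smul_A_eq_zero, map_zero] at h1
  have h2 : ((i : R) • u.hom a) j = (i : R) * (u.hom a) j := rfl
  rw [← h2, ← h1]
  rfl

/-- there are no nonzero `R`-linear maps `A → R ⊗ D` -/
lemma hom_A_X₂_eq_zero (u : ModuleCat.of R A ⟶ (S₂ R A).X₂) : u = 0 := by
  let u' : ModuleCat.of R A ⟶ 𝟙_ (ModuleCat.{u} R) ⊗ ModuleCat.of R (Dl R A) := u
  have h := hom_A_D_eq_zero (u' ≫ (λ_ (ModuleCat.of R (Dl R A))).hom)
  have h' : u' = (u' ≫ (λ_ (ModuleCat.of R (Dl R A))).hom) ≫
      (λ_ (ModuleCat.of R (Dl R A))).inv := by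
    rw [Category.assoc, Iso.hom_inv_id, Category.comp_id]
  have h0 : u' = 0 := by rw [h', h, zero_comp]
  exact h0

end Inv

section Restrict

variable (R A : Type u) [CommRing R] [CommRing A] [Algebra R A]

/-- the `A`-module `A ⊗_R D` -/
noncomputable abbrev N₀m : ModuleCat.{u} A := ModuleCat.of A (A ⊗[R] Dl R A)

/-- restriction of scalars along `R → A` -/
noncomputable abbrev rs : ModuleCat.{u} A ⥤ ModuleCat.{u} R :=
  ModuleCat.restrictScalars.{u} (algebraMap R A)

/-- `A|_R ≃ A` as `R`-modules -/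
noncomputable def eA : ((rs R A).obj (ModuleCat.of A A) : Type u) ≃ₗ[R] (ModuleCat.of R A : Type u) :=
  AddEquiv.toLinearEquiv
    (AddEquiv.refl A : ((rs R A).obj (ModuleCat.of A A) : Type u) ≃+ (ModuleCat.of R A : Type u))
    (fun r a => (algebraMap_smul A r (show A from a)))

/-- `A|_R ≅ A` as `R`-modules -/
noncomputable def ιA : (rs R A).obj (ModuleCat.of A A) ≅ ModuleCat.of R A :=
  (eA R A).toModuleIso

/-- `(A ⊗_R D)|_R ≃ A ⊗_R D` as `R`-modules -/
noncomputable def e₃ : ((rs R A).obj (N₀m R A) : Type u) ≃ₗ[R] ((S₂ R A).X₃ : Type u) :=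
  AddEquiv.toLinearEquiv
    (AddEquiv.refl (A ⊗[R] Dl R A) :
      ((rs R A).obj (N₀m R A) : Type u) ≃+ ((S₂ R A).X₃ : Type u))
    (fun r a => (algebraMap_smul A r (show A ⊗[R] Dl R A from a)))

/-- `(A ⊗_R D)|_R ≅ A ⊗_R D` as `R`-modules -/
noncomputable def ι₃ : (rs R A).obj (N₀m R A) ≅ (S₂ R A).X₃ :=
  (e₃ R A).toModuleIso

variable {R A} [Module.Invertible R (I R A)]

/-- `a ↦ a ⊗ h`, `A`-linear -/
noncomputable def gh (h : Dl R A) : ModuleCat.of A A ⟶ N₀m R A :=
  ModuleCat.ofHom (LinearMap.toSpanSingleton A (A ⊗[R] Dl R A) ((1 : A) ⊗ₜ[R] h))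

lemma gh_compat (h : Dl R A) :
    (ιA R A).inv ≫ (rs R A).map (gh h) ≫ (ι₃ R A).hom = (τ h).τ₃ := by
  apply ModuleCat.hom_ext
  ext a
  change (show A from a) • ((1 : A) ⊗ₜ[R] h) = (show A from a) ⊗ₜ[R] ((1 : R) • h)
  rw [one_smul, TensorProduct.smul_tmul', smul_eq_mul, mul_one]

end Restrict

section Inverse

variable {R A : Type u} [CommRing R] [CommRing A] [Algebra R A] [Module.Invertible R (I R A)]

/-- `A ⊗_R D` is an inverse of `A ⊗_R I` -/
noncomputable def e₀ : (A ⊗[R] (I R A)) ⊗[A] (A ⊗[R] Dl R A) ≃ₗ[A] A :=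
  (AlgebraTensorModule.distribBaseChange R A (I R A) (Dl R A)).symm ≪≫ₗ
    AlgebraTensorModule.congr (LinearEquiv.refl A A)
      (TensorProduct.comm R (I R A) (Dl R A) ≪≫ₗ Module.Invertible.linearEquiv R (I R A)) ≪≫ₗ
    AlgebraTensorModule.rid R A A

/-- any inverse of `A ⊗_R I` is isomorphic to `A ⊗_R D` -/
noncomputable def eN (N : Type u) [AddCommGroup N] [Module A N]
    (e : (A ⊗[R] (I R A)) ⊗[A] N ≃ₗ[A] A) : (A ⊗[R] Dl R A) ≃ₗ[A] N :=
  (Module.Invertible.rightCancelEquiv (A ⊗[R] Dl R A) e).symm ≪≫ₗ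
    LinearEquiv.rTensor N (TensorProduct.comm A (A ⊗[R] Dl R A) (A ⊗[R] (I R A)) ≪≫ₗ e₀) ≪≫ₗ
    TensorProduct.lid A N

end Inverse

end Groth.Agent.Lib.InvIdealAlg35
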