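import Groth.Agent.Lib.InvIdealD35

/-!
# `(A ⊗ D)[0] ≅ RHom_R(A, R[1])` for `A = R/I`, `I` invertible (helper35)

Vanishing of the off-degree Hom groups and the conclusion `isIso_adjunct` via the generator `A[0]`
of `D(A)`.
-/

set_option autoImplicit false
set_option linter.style.haveILetI false
set_option linter.unusedSectionVars false
universe u
open CategoryTheory CategoryTheory.Limits MonoidalCategory TensorProduct CategoryTheory.Abelian
attribute [local instance] HasDerivedCategory.standard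

namespace Groth.Agent.Lib.InvIdealCL35

open DerivedCategory DTen Groth.Agent.Lib.InvIdealAlg35 Groth.Agent.Lib.InvIdealExt35
  Groth.Agent.Lib.InvIdealD35

variable {R A : Type u} [CommRing R] [CommRing A] [Algebra R A]
  (hφ : Function.Surjective (algebraMap R A)) [Module.Invertible R (I R A)]

/-- no maps `A[0] ⟶ (A ⊗ D)[n]` for `n ≠ 0` -/
lemma subsingleton_source (n : ℤ) (hn : n ≠ 0) :
    Subsingleton ((DerivedCategory.singleFunctor (ModuleCat.{u} A) 0).obj (ModuleCat.of A A) ⟶
      (X' R A)⟦n⟧) := by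
  rcases lt_trichotomy n 0 with h | h | h
  · exact subsingleton_hom_single_of_neg _ _ n h
  · exact absurd h hn
  · obtain ⟨k, rfl⟩ : ∃ k : ℕ, n = ((k + 1 : ℕ) : ℤ) := ⟨(n - 1).toNat, by omega⟩
    haveI : Projective (ModuleCat.of A A) :=
      (IsProjective.iff_projective (ModuleCat.of A A)).1 (inferInstanceAs (Module.Projective A A))
    exact subsingleton_hom_single_of_ext _ _ (k + 1) (Ext.subsingleton_of_projective _ _ k)

include hφ in
/-- `Hom_{D(R)}(A[0], R[m]) = 0` for `m ≠ 1` -/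
lemma subsingleton_single (m : ℤ) (hm : m ≠ 1) :
    Subsingleton ((DerivedCategory.singleFunctor (ModuleCat.{u} R) 0).obj (ModuleCat.of R A) ⟶
      ((DerivedCategory.singleFunctor (ModuleCat.{u} R) 0).obj (ModuleCat.of R R))⟦m⟧) := by
  rcases lt_trichotomy m 0 with h | h | h
  · exact subsingleton_hom_single_of_neg _ _ m h
  · subst h
    exact subsingleton_hom_single_of_ext _ _ 0 subsingleton_ext_zero
  · obtain ⟨k, rfl⟩ : ∃ k : ℕ, m = ((k + 2 : ℕ) : ℤ) := ⟨(m - 2).toNat, by omega⟩
    exact subsingleton_hom_single_of_ext _ _ (k + 2) (subsingleton_ext_add_two hφ k)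

include hφ in
/-- no maps `A[0]|_R ⟶ R[1][n]` for `n ≠ 0` -/
lemma subsingleton_target (n : ℤ) (hn : n ≠ 0) :
    Subsingleton ((DRing.restrictD (algebraMap R A)).obj
      ((DerivedCategory.singleFunctor (ModuleCat.{u} A) 0).obj (ModuleCat.of A A)) ⟶
      (K₁ R)⟦n⟧) := by
  haveI := subsingleton_single hφ (1 + n) (by omega)
  let a : (DRing.restrictD (algebraMap R A)).obj
      ((DerivedCategory.singleFunctor (ModuleCat.{u} A) 0).obj (ModuleCat.of A A)) ≅
      (DerivedCategory.singleFunctor (ModuleCat.{u} R) 0).obj (ModuleCat.of R A) :=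
    (γ (R := R) (A := A)).app (ModuleCat.of A A) ≪≫
      (DerivedCategory.singleFunctor (ModuleCat.{u} R) 0).mapIso (ιA R A)
  let b : (K₁ R)⟦n⟧ ≅
      ((DerivedCategory.singleFunctor (ModuleCat.{u} R) 0).obj (ModuleCat.of R R))⟦(1 + n : ℤ)⟧ :=
    ((shiftFunctorAdd' (Dual.D R) ((1 : ℕ) : ℤ) n (1 + n) (by simp)).app _).symm
  refine ⟨fun f g => ?_⟩
  have h : a.inv ≫ f ≫ b.hom = a.inv ≫ g ≫ b.hom := Subsingleton.elim _ _
  exact (cancel_mono b.hom).1 ((cancel_epi a.inv).1 h)

/-- the adjunct `(A ⊗ D)[0] ⟶ RHom(A, R[1])` of the evaluation class is an isomorphism -/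
theorem isIso_adjunct [HasRHomRel (algebraMap R A)] :
    IsIso ((relAdj (algebraMap R A)).homEquiv _ _ (cHat hφ)) := by
  rw [Groth.Agent.S7881.result (fun _ : PUnit => Groth.Agent.Lib.GenUnit35.U A)
    Groth.Agent.Lib.GenUnit35.generates_S _]
  intro _ n
  by_cases hn : n = 0
  · subst hn
    rw [bijective_shift_zero_iff, bijective_adjunct_iff]
    exact bijective_zero hφ
  · rw [bijective_shift_adjunct_iff]
    haveI : Subsingleton (Groth.Agent.Lib.GenUnit35.U A ⟶ (X' R A)⟦n⟧) :=
      subsingleton_source (R := R) (A := A) n hn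
    haveI : Subsingleton ((DRing.restrictD (algebraMap R A)).obj (Groth.Agent.Lib.GenUnit35.U A) ⟶
        (K₁ R)⟦n⟧) := subsingleton_target hφ n hn
    exact ⟨fun _ _ _ => Subsingleton.elim _ _, fun t => ⟨0, Subsingleton.elim _ _⟩⟩

end Groth.Agent.Lib.InvIdealCL35
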