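import Groth.Agent.Lib.InvIdealExt35
import Groth.Agent.Lib.GenUnit35
import Groth.Prelude.Def_DTen4

/-!
# The evaluation class `(A ⊗ D)[0]|_R ⟶ R[1]` for `A = R/I`, `I` invertible (helper35)

Generic lemmas on testing adjuncts for bijectivity, the class `cHat`, and the degree-zero
bijectivity `Hom_{D(A)}(A, A ⊗ D) ≃ Hom_{D(R)}(A, R[1])`.
-/

set_option autoImplicit false
set_option linter.style.haveILetI false
universe u
open CategoryTheory CategoryTheory.Limits MonoidalCategory TensorProduct CategoryTheory.Abelian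
attribute [local instance] HasDerivedCategory.standard

namespace Groth.Agent.Lib.InvIdealD35

open DerivedCategory

section Generic

variable {C : Type (u + 1)} [Category.{u} C] [Abelian C]

lemma subsingleton_hom_single_of_neg (X Y : C) (m : ℤ) (hm : m < 0) :
    Subsingleton ((singleFunctor C 0).obj X ⟶ ((singleFunctor C 0).obj Y)⟦m⟧) := by
  refine subsingleton_of_forall_eq 0 (fun f => ?_)
  haveI : TStructure.t.IsGE (((singleFunctor C 0).obj Y)⟦m⟧) (-m) :=
    TStructure.t.isGE_shift ((singleFunctor C 0).obj Y) 0 m (-m) (by omega)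
  exact TStructure.t.zero f 0 (-m) (by omega)

lemma subsingleton_hom_single_of_ext [HasExt.{u} C] (X Y : C) (k : ℕ)
    (h : Subsingleton (Ext X Y k)) :
    Subsingleton ((singleFunctor C 0).obj X ⟶ ((singleFunctor C 0).obj Y)⟦(k : ℤ)⟧) :=
  (Ext.homEquiv (X := X) (Y := Y) (n := k)).symm.injective.subsingleton

end Generic

section ShiftZero

variable {D : Type*} [Category D] [HasShift D ℤ]

lemma bijective_shift_zero_iff {W X Y : D} (f : X ⟶ Y) :
    Function.Bijective (fun g : W ⟶ X⟦(0 : ℤ)⟧ => g ≫ f⟦(0 : ℤ)⟧') ↔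
      Function.Bijective (fun g : W ⟶ X => g ≫ f) := by
  have nat := (shiftFunctorZero D ℤ).hom.naturality f
  dsimp only [Functor.id_map] at nat
  let α : ∀ Z : D, (W ⟶ Z⟦(0 : ℤ)⟧) → (W ⟶ Z) := fun Z g => g ≫ (shiftFunctorZero D ℤ).hom.app Z
  have hα : ∀ Z : D, Function.Bijective (α Z) := by
    intro Z
    constructor
    · intro g g' h
      exact (cancel_mono _).1 h
    · intro t
      refine ⟨t ≫ (shiftFunctorZero D ℤ).inv.app Z, ?_⟩
      change (t ≫ _) ≫ _ = t
      rw [Category.assoc, Iso.inv_hom_id_app]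
      exact Category.comp_id t
  have hcomp : (fun g : W ⟶ X => g ≫ f) ∘ (α X) =
      (α Y) ∘ (fun g : W ⟶ X⟦(0 : ℤ)⟧ => g ≫ f⟦(0 : ℤ)⟧') := by
    funext g
    change (g ≫ _) ≫ f = (g ≫ _) ≫ _
    rw [Category.assoc, Category.assoc, nat]
  constructor
  · intro h
    have h1 : Function.Bijective ((fun g : W ⟶ X => g ≫ f) ∘ (α X)) := by
      rw [hcomp]
      exact (hα Y).comp h
    exact (Function.Bijective.of_comp_iff _ (hα X)).1 h1
  · intro h
    have h1 : Function.Bijective ((α Y) ∘ (fun g : W ⟶ X⟦(0 : ℤ)⟧ => g ≫ f⟦(0 : ℤ)⟧')) := by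
      rw [← hcomp]
      exact h.comp (hα X)
    exact (Function.Bijective.of_comp_iff' (hα Y) _).1 h1

end ShiftZero

section Adj

open DTen

variable {R A : Type u} [CommRing R] [CommRing A] {φ : R →+* A} [HasRHomRel φ]

/-- testing the shifted adjunct `(homEquiv u)⟦n⟧` on maps from `W` amounts to testing `u` on
restrictions -/
lemma bijective_shift_adjunct_iff {X W : Dual.D A} {K : Dual.D R}
    (u : (DRing.restrictD φ).obj X ⟶ K) (n : ℤ) :
    Function.Bijective (fun g : W ⟶ X⟦n⟧ => g ≫ ((relAdj φ).homEquiv _ _ u)⟦n⟧') ↔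
      Function.Bijective (fun g : W ⟶ X⟦n⟧ => (DRing.restrictD φ).map g ≫
        ((DRing.restrictD φ).commShiftIso n).hom.app X ≫ u⟦n⟧') := by
  letI := (relAdj φ).rightAdjointCommShift ℤ
  haveI := (relAdj φ).commShift_of_leftAdjoint ℤ
  have nat := ((RHomRel φ).commShiftIso n).hom.naturality u
  dsimp only [Functor.comp_map] at nat
  have key : ((relAdj φ).homEquiv _ _ u)⟦n⟧' =
      (relAdj φ).homEquiv _ _ (((DRing.restrictD φ).commShiftIso n).hom.app X ≫ u⟦n⟧') ≫
        ((RHomRel φ).commShiftIso n).hom.app K := by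
    rw [Adjunction.homEquiv_unit, Adjunction.homEquiv_unit, Functor.map_comp,
      Adjunction.shift_unit_app, Functor.map_comp, Category.assoc, Category.assoc, Category.assoc,
      Category.assoc, nat]
  -- the bijection `Hom(W, (G K)⟦n⟧) ≃ Hom(W|_R, K⟦n⟧)`
  let Ψ : (W ⟶ ((RHomRel φ).obj K)⟦n⟧) → ((DRing.restrictD φ).obj W ⟶ K⟦n⟧) := fun t =>
    ((relAdj φ).homEquiv _ _).symm (t ≫ ((RHomRel φ).commShiftIso n).inv.app K)
  have hΨ : Function.Bijective Ψ := by
    refine ((relAdj φ).homEquiv _ _).symm.bijective.comp ?_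
    constructor
    · intro t t' h
      exact (cancel_mono _).1 h
    · intro t
      refine ⟨t ≫ ((RHomRel φ).commShiftIso n).hom.app K, ?_⟩
      change (t ≫ _) ≫ _ = t
      rw [Category.assoc, Iso.hom_inv_id_app]
      exact Category.comp_id t
  have hcomp : (fun g : W ⟶ X⟦n⟧ => (DRing.restrictD φ).map g ≫
        ((DRing.restrictD φ).commShiftIso n).hom.app X ≫ u⟦n⟧') =
      Ψ ∘ (fun g : W ⟶ X⟦n⟧ => g ≫ ((relAdj φ).homEquiv _ _ u)⟦n⟧') := by
    funext g
    change _ = ((relAdj φ).homEquiv _ _).symm ((g ≫ _) ≫ _)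
    rw [key, Category.assoc, Category.assoc, Iso.hom_inv_id_app]
    erw [Category.comp_id]
    rw [Adjunction.homEquiv_naturality_left_symm, Equiv.symm_apply_apply]
  rw [hcomp]
  exact (Function.Bijective.of_comp_iff' hΨ _).symm

/-- unshifted version -/
lemma bijective_adjunct_iff {X W : Dual.D A} {K : Dual.D R}
    (u : (DRing.restrictD φ).obj X ⟶ K) :
    Function.Bijective (fun g : W ⟶ X => g ≫ (relAdj φ).homEquiv _ _ u) ↔
      Function.Bijective (fun g : W ⟶ X => (DRing.restrictD φ).map g ≫ u) := by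
  have hcomp : (fun g : W ⟶ X => (DRing.restrictD φ).map g ≫ u) =
      ((relAdj φ).homEquiv _ _).symm ∘ (fun g : W ⟶ X => g ≫ (relAdj φ).homEquiv _ _ u) := by
    funext g
    change _ = ((relAdj φ).homEquiv _ _).symm (g ≫ _)
    rw [Adjunction.homEquiv_naturality_left_symm, Equiv.symm_apply_apply]
  rw [hcomp]
  exact (Function.Bijective.of_comp_iff' ((relAdj φ).homEquiv _ _).symm.bijective _).symm

end Adj

section Concrete

open DTen Groth.Agent.Lib.InvIdealAlg35 Groth.Agent.Lib.InvIdealExt35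

variable {R A : Type u} [CommRing R] [CommRing A] [Algebra R A]
  (hφ : Function.Surjective (algebraMap R A)) [Module.Invertible R (I R A)]

/-- restriction commutes with the inclusion of modules in degree `0` -/
noncomputable abbrev γ :
    DerivedCategory.singleFunctor (ModuleCat.{u} A) 0 ⋙ DRing.restrictD (algebraMap R A) ≅
      rs R A ⋙ DerivedCategory.singleFunctor (ModuleCat.{u} R) 0 :=
  (ModuleCat.restrictScalars.{u} (algebraMap R A)).mapDerivedCategorySingleFunctor 0

/-- the target `R[1]` -/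
noncomputable abbrev K₁ (R : Type u) [CommRing R] : Dual.D R :=
  ((DerivedCategory.singleFunctor (ModuleCat.{u} R) 0).obj (ModuleCat.of R R))⟦((1 : ℕ) : ℤ)⟧

/-- the source `(A ⊗ D)[0]` -/
noncomputable abbrev X' (R A : Type u) [CommRing R] [CommRing A] [Algebra R A] : Dual.D A :=
  (DerivedCategory.singleFunctor (ModuleCat.{u} A) 0).obj (N₀m R A)

/-- the evaluation class as a morphism `(A ⊗ D)[0]|_R ⟶ R[1]` in `D(R)` -/
noncomputable def cHat : (DRing.restrictD (algebraMap R A)).obj (X' R A) ⟶ K₁ R :=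
  (γ (R := R) (A := A)).hom.app (N₀m R A) ≫
    (DerivedCategory.singleFunctor (ModuleCat.{u} R) 0).map (ι₃ R A).hom ≫ (cT hφ).hom

lemma map_comp_cHat (g₀ : ModuleCat.of A A ⟶ N₀m R A) :
    (DRing.restrictD (algebraMap R A)).map
        ((DerivedCategory.singleFunctor (ModuleCat.{u} A) 0).map g₀) ≫ cHat hφ =
      ((γ (R := R) (A := A)).hom.app (ModuleCat.of A A) ≫
        (DerivedCategory.singleFunctor (ModuleCat.{u} R) 0).map (ιA R A).hom) ≫ (Φ hφ g₀).hom := by
  have nat := (γ (R := R) (A := A)).hom.naturality g₀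
  dsimp only [Functor.comp_map] at nat
  dsimp only [cHat, Φ]
  rw [← Category.assoc, nat, Ext.comp_hom, Ext.mk₀_hom, ShiftedHom.mk₀_comp, Functor.map_comp,
    Functor.map_comp]
  simp only [Category.assoc]
  rw [← Functor.map_comp_assoc (DerivedCategory.singleFunctor (ModuleCat.{u} R) 0) (ιA R A).hom,
    Iso.hom_inv_id, CategoryTheory.Functor.map_id, Category.id_comp]

/-- the degree zero case -/
theorem bijective_zero :
    Function.Bijective (fun g : (DerivedCategory.singleFunctor (ModuleCat.{u} A) 0).obj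
        (ModuleCat.of A A) ⟶ X' R A =>
      (DRing.restrictD (algebraMap R A)).map g ≫ cHat hφ) := by
  have h1 : Function.Bijective (fun g₀ : ModuleCat.of A A ⟶ N₀m R A =>
      (DerivedCategory.singleFunctor (ModuleCat.{u} A) 0).map g₀) :=
    ⟨(DerivedCategory.singleFunctor (ModuleCat.{u} A) 0).map_injective,
      (DerivedCategory.singleFunctor (ModuleCat.{u} A) 0).map_surjective⟩
  have h2 : Function.Bijective (fun g₀ : ModuleCat.of A A ⟶ N₀m R A =>
      ((γ (R := R) (A := A)).hom.app (ModuleCat.of A A) ≫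
        (DerivedCategory.singleFunctor (ModuleCat.{u} R) 0).map (ιA R A).hom) ≫ (Φ hφ g₀).hom) := by
    have hiso : IsIso ((γ (R := R) (A := A)).hom.app (ModuleCat.of A A) ≫
        (DerivedCategory.singleFunctor (ModuleCat.{u} R) 0).map (ιA R A).hom) := inferInstance
    have hpre : Function.Bijective (fun t : (DerivedCategory.singleFunctor (ModuleCat.{u} R) 0).obj
        (ModuleCat.of R A) ⟶ K₁ R =>
        ((γ (R := R) (A := A)).hom.app (ModuleCat.of A A) ≫
          (DerivedCategory.singleFunctor (ModuleCat.{u} R) 0).map (ιA R A).hom) ≫ t) := by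
      constructor
      · intro t t' h
        exact (cancel_epi _).1 h
      · intro t
        exact ⟨inv ((γ (R := R) (A := A)).hom.app (ModuleCat.of A A) ≫
          (DerivedCategory.singleFunctor (ModuleCat.{u} R) 0).map (ιA R A).hom) ≫ t,
          IsIso.hom_inv_id_assoc _ _⟩
    exact hpre.comp ((Ext.homEquiv (X := ModuleCat.of R A) (Y := ModuleCat.of R R)
      (n := 1)).bijective.comp (Φ_bijective hφ))
  have hcomp : (fun g : (DerivedCategory.singleFunctor (ModuleCat.{u} A) 0).obj
        (ModuleCat.of A A) ⟶ X' R A => (DRing.restrictD (algebraMap R A)).map g ≫ cHat hφ) ∘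
      (fun g₀ : ModuleCat.of A A ⟶ N₀m R A =>
        (DerivedCategory.singleFunctor (ModuleCat.{u} A) 0).map g₀) =
      (fun g₀ : ModuleCat.of A A ⟶ N₀m R A =>
      ((γ (R := R) (A := A)).hom.app (ModuleCat.of A A) ≫
        (DerivedCategory.singleFunctor (ModuleCat.{u} R) 0).map (ιA R A).hom) ≫ (Φ hφ g₀).hom) := by
    funext g₀
    exact map_comp_cHat hφ g₀
  rw [← hcomp] at h2
  exact (Function.Bijective.of_comp_iff _ h1).1 h2

end Concrete

end Groth.Agent.Lib.InvIdealD35
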