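import Groth.Agent.Lib.InvIdealAlg35

/-!
# `Ext_R(A, R)` for a surjection `R → A` with invertible kernel (helper35)

`Ext⁰ = 0`, `Ext^{k+2} = 0`, and `Hom_A(A, A ⊗ D) ≅ Ext¹_R(A, R)` via pullback of the class `cT` of
`0 → R → R ⊗ D → A ⊗ D → 0`.
-/

set_option autoImplicit false
set_option linter.style.haveILetI false
universe u
open CategoryTheory CategoryTheory.Limits MonoidalCategory TensorProduct CategoryTheory.Abelian

namespace Groth.Agent.Lib.InvIdealExt35

open Groth.Agent.Lib.InvIdealAlg35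

variable {R A : Type u} [CommRing R] [CommRing A] [Algebra R A]
  (hφ : Function.Surjective (algebraMap R A)) [Module.Invertible R (I R A)]

/-- the class of `S₁` -/
noncomputable def c₁ : Ext (ModuleCat.of R A) (ModuleCat.of R (I R A)) 1 :=
  (shortExact_S₁ hφ).extClass

/-- the class of `S₂` -/
noncomputable def c₂ : Ext (S₂ R A).X₃ (S₂ R A).X₁ 1 :=
  (shortExact_S₂ hφ).extClass

/-- the class of `S₂`, pushed forward along the contraction `I ⊗ D ≅ R` -/
noncomputable def cT : Ext (S₂ R A).X₃ (ModuleCat.of R R) 1 :=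
  (c₂ hφ).comp (Ext.mk₀ (ctr (R := R) (A := A)).hom) (add_zero 1)

lemma naturality (h : Dl R A) :
    (c₁ hφ).comp (Ext.mk₀ (ModuleCat.ofHom h)) (add_zero 1) =
      (Ext.mk₀ (τ h).τ₃).comp (cT hφ) (zero_add 1) := by
  have h1 := ShortComplex.ShortExact.extClass_naturality (shortExact_S₁ hφ) (shortExact_S₂ hφ) (τ h)
  dsimp only [cT, c₁, c₂]
  rw [← Ext.comp_assoc_of_third_deg_zero, ← h1, Ext.comp_assoc_of_third_deg_zero,
    Ext.mk₀_comp_mk₀, τ₁_ctr]
  rfl

/-- every class in `Ext¹(A, R)` is the pullback of `cT` along `a ↦ a ⊗ h` for some `h` -/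
lemma surj (y : Ext (ModuleCat.of R A) (ModuleCat.of R R) 1) :
    ∃ h : Dl R A, (Ext.mk₀ (τ h).τ₃).comp (cT hφ) (zero_add 1) = y := by
  haveI : Projective (S₁ R A).X₂ :=
    (IsProjective.iff_projective (ModuleCat.of R R)).1 (inferInstanceAs (Module.Projective R R))
  have h0 : (Ext.mk₀ (S₁ R A).g).comp y (zero_add 1) = 0 := Ext.eq_zero_of_projective _
  obtain ⟨x₁, hx₁⟩ := Ext.contravariant_sequence_exact₃ (shortExact_S₁ hφ) (ModuleCat.of R R) y h0
    (n₀ := 0) rfl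
  obtain ⟨h', rfl⟩ := (Ext.mk₀_bijective _ _).2 x₁
  let h : Dl R A := h'.hom
  refine ⟨h, ?_⟩
  rw [← naturality hφ h]
  exact hx₁

/-- pulling back `cT` along a nonzero map `A → A ⊗ D` gives a nonzero class -/
lemma inj (g : ModuleCat.of R A ⟶ (S₂ R A).X₃)
    (hg : (Ext.mk₀ g).comp (cT hφ) (zero_add 1) = 0) : g = 0 := by
  have h1 : (Ext.mk₀ g).comp (c₂ hφ) (zero_add 1) = 0 := by
    have h2 : ((Ext.mk₀ g).comp (c₂ hφ) (zero_add 1)).comp
        (Ext.mk₀ (ctr (R := R) (A := A)).hom) (add_zero 1) = 0 := by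
      rw [Ext.comp_assoc_of_third_deg_zero]
      exact hg
    have h3 := congrArg (fun z => z.comp (Ext.mk₀ (ctr (R := R) (A := A)).inv) (add_zero 1)) h2
    rw [Ext.comp_assoc_of_third_deg_zero, Ext.mk₀_comp_mk₀, Iso.hom_inv_id, Ext.comp_mk₀_id,
      Ext.zero_comp] at h3
    exact h3
  obtain ⟨x₂, hx₂⟩ := Ext.covariant_sequence_exact₃ (ModuleCat.of R A) (shortExact_S₂ hφ)
    (Ext.mk₀ g) rfl h1
  obtain ⟨u, rfl⟩ := (Ext.mk₀_bijective _ _).2 x₂
  rw [hom_A_X₂_eq_zero u, Ext.mk₀_zero, Ext.zero_comp] at hx₂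
  exact (Ext.mk₀_eq_zero_iff g).1 hx₂.symm

/-- `Ext⁰_R(A, R) = 0` -/
lemma subsingleton_ext_zero : Subsingleton (Ext (ModuleCat.of R A) (ModuleCat.of R R) 0) := by
  refine subsingleton_of_forall_eq 0 (fun x => ?_)
  obtain ⟨u, rfl⟩ := (Ext.mk₀_bijective _ _).2 x
  rw [hom_A_R_eq_zero u, Ext.mk₀_zero]

include hφ in
/-- `Ext^{k+2}_R(A, R) = 0` -/
lemma subsingleton_ext_add_two (k : ℕ) :
    Subsingleton (Ext (ModuleCat.of R A) (ModuleCat.of R R) (k + 2)) := by
  refine subsingleton_of_forall_eq 0 (fun y => ?_)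
  haveI : Projective (S₁ R A).X₂ :=
    (IsProjective.iff_projective (ModuleCat.of R R)).1 (inferInstanceAs (Module.Projective R R))
  haveI : Projective (S₁ R A).X₁ :=
    (IsProjective.iff_projective (ModuleCat.of R (I R A))).1
      (inferInstanceAs (Module.Projective R (I R A)))
  have h0 : (Ext.mk₀ (S₁ R A).g).comp y (zero_add (k + 2)) = 0 :=
    Ext.eq_zero_of_projective (n := k + 1) _
  obtain ⟨x₁, hx₁⟩ := Ext.contravariant_sequence_exact₃ (shortExact_S₁ hφ) (ModuleCat.of R R) y h0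
    (n₀ := k + 1) (by omega)
  rw [← hx₁, Ext.eq_zero_of_projective (n := k) x₁]
  exact Ext.comp_zero _ _ _ _ _

/-- the comparison map `Hom_A(A, A ⊗ D) → Ext¹_R(A, R)` -/
noncomputable def Φ (g : ModuleCat.of A A ⟶ N₀m R A) : Ext (ModuleCat.of R A) (ModuleCat.of R R) 1 :=
  (Ext.mk₀ ((ιA R A).inv ≫ (rs R A).map g ≫ (ι₃ R A).hom)).comp (cT hφ) (zero_add 1)

lemma Φ_sub (g g' : ModuleCat.of A A ⟶ N₀m R A) : Φ hφ (g - g') = Φ hφ g - Φ hφ g' := by
  dsimp only [Φ]
  rw [Functor.map_sub, Preadditive.sub_comp, Preadditive.comp_sub, sub_eq_add_neg, Ext.mk₀_add,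
    Ext.mk₀_neg, Ext.add_comp, Ext.neg_comp, ← sub_eq_add_neg]

theorem Φ_bijective : Function.Bijective (Φ (R := R) (A := A) hφ) := by
  constructor
  · intro g g' hgg
    have h1 : Φ hφ (g - g') = 0 := by rw [Φ_sub, hgg, sub_self]
    have h2 := inj hφ _ h1
    have h3 : (rs R A).map (g - g') = 0 := by
      have : (rs R A).map (g - g') =
          (ιA R A).hom ≫ ((ιA R A).inv ≫ (rs R A).map (g - g') ≫ (ι₃ R A).hom) ≫ (ι₃ R A).inv := by
        simp
      rw [this, h2, zero_comp, comp_zero]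
    have h4 : g - g' = 0 := (rs R A).map_injective (by rw [h3, Functor.map_zero])
    exact sub_eq_zero.1 h4
  · intro y
    obtain ⟨h, hh⟩ := surj hφ y
    refine ⟨gh h, ?_⟩
    dsimp only [Φ]
    rw [gh_compat]
    exact hh

end Groth.Agent.Lib.InvIdealExt35
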