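import Groth.Agent.Lib.PerfModule21
import Groth.Agent.Lib.DStupid
import Groth.Agent.Lib.DSingleHom
import Groth.Agent.Lib.FlatAmp2
import Groth.Prelude.Def_DDual2

/-!
# Perfect complexes and restriction of scalars (helper21)

`Perf A : ObjectProperty (D(A))` (`∃ a b, PA (FP A) a b K`), closed under isomorphisms, extensions, shifts, retracts.
`isPerfect_restrictD`: if `B` is perfect as an `A`-module and `K ∈ D(B)` is perfect then `K|_A` is perfect.
-/

set_option autoImplicit false
universe u

open CategoryTheory CategoryTheory.Limits Pretriangulated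

attribute [local instance] HasDerivedCategory.standard

namespace Groth.Agent.Lib.PerfRestrict21

open Groth.Agent.Lib.PCohAmp Groth.Agent.Lib.DRingPerfAmp Groth.Agent.Lib.DRingPCoh21

variable (A : Type u) [CommRing A]

/-- perfect objects of `D(A)` -/
def Perf : ObjectProperty (DerivedCategory (ModuleCat.{u} A)) := fun K => ∃ a b : ℤ, PA (FP A) a b K

instance : (Perf A).IsClosedUnderIsomorphisms where
  of_iso e h := by
    obtain ⟨a, b, h⟩ := h
    exact ⟨a, b, pa_of_iso e h⟩

lemma perf_iff (K : Dual.D A) : Perf A K ↔ DRing.IsPerfect A K :=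
  (Groth.Agent.Lib.PerfModule21.isPerfect_iff_pa A K).symm

lemma perf_of_isZero {K : DerivedCategory (ModuleCat.{u} A)} (h : IsZero K) : Perf A K :=
  ⟨0, 0, Groth.Agent.Lib.FlatAmp.pa_of_isZero A 0 0 h⟩

lemma perf_cone (T : Triangle (DerivedCategory (ModuleCat.{u} A)))
    (hT : T ∈ distTriang (DerivedCategory (ModuleCat.{u} A))) (h₁ : Perf A T.obj₁)
    (h₂ : Perf A T.obj₂) : Perf A T.obj₃ := by
  obtain ⟨a₁, b₁, h₁⟩ := h₁
  obtain ⟨a₂, b₂, h₂⟩ := h₂
  exact ⟨_, _, pa_cone (fp_prod A) (fp_lift A) T hT h₁ h₂⟩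

lemma perf_shift {K : DerivedCategory (ModuleCat.{u} A)} (h : Perf A K) (n : ℤ) : Perf A (K⟦n⟧) := by
  obtain ⟨a, b, h⟩ := h
  exact ⟨_, _, pa_shift h n⟩

lemma perf_ext (T : Triangle (DerivedCategory (ModuleCat.{u} A)))
    (hT : T ∈ distTriang (DerivedCategory (ModuleCat.{u} A))) (h₁ : Perf A T.obj₁)
    (h₃ : Perf A T.obj₃) : Perf A T.obj₂ :=
  perf_cone A T.invRotate (inv_rot_of_distTriang _ hT) (perf_shift A h₃ (-1)) h₁

lemma perf_of_retract {K L : DerivedCategory (ModuleCat.{u} A)} (s : K ⟶ L) (r : L ⟶ K)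
    (hsr : s ≫ r = 𝟙 K) (h : Perf A L) : Perf A K := by
  obtain ⟨a, b, h⟩ := h
  have h' : PA (FP A) a (max a b) L := pa_mono le_rfl (le_max_right _ _) h
  exact ⟨a, max a b, pa_of_retract (P := FP A) (fp_prod A) (fp_lift A) (fp_kernel A)
    (fp_direct_factor A) (max a b - a).toNat a (max a b)
    (by have := le_max_left a b; lia) L K s r hsr h'⟩

/-- modules `X` with `X[0]` perfect -/
def PerfMod : ObjectProperty (ModuleCat.{u} A) := fun X =>
  Perf A ((DerivedCategory.singleFunctor (ModuleCat.{u} A) 0).obj X)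

instance : (PerfMod A).IsClosedUnderIsomorphisms where
  of_iso e h := (Perf A).prop_of_iso ((DerivedCategory.singleFunctor (ModuleCat.{u} A) 0).mapIso e) h

lemma perfMod_of_isZero {X : ModuleCat.{u} A} (h : IsZero X) : PerfMod A X :=
  perf_of_isZero A ((DerivedCategory.singleFunctor (ModuleCat.{u} A) 0).map_isZero h)

lemma perfMod_of_shortExact (S : ShortComplex (ModuleCat.{u} A)) (hS : S.ShortExact)
    (h₁ : PerfMod A S.X₁) (h₃ : PerfMod A S.X₃) : PerfMod A S.X₂ :=
  perf_ext A hS.singleTriangle hS.singleTriangle_distinguished h₁ h₃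

lemma perfMod_of_retract {X Y : ModuleCat.{u} A} (s : X ⟶ Y) (r : Y ⟶ X) (hsr : s ≫ r = 𝟙 X)
    (h : PerfMod A Y) : PerfMod A X :=
  perf_of_retract A ((DerivedCategory.singleFunctor (ModuleCat.{u} A) 0).map s)
    ((DerivedCategory.singleFunctor (ModuleCat.{u} A) 0).map r)
    (by rw [← Functor.map_comp, hsr, CategoryTheory.Functor.map_id]) h

lemma perf_single {X : ModuleCat.{u} A} (h : PerfMod A X) (i : ℤ) :
    Perf A ((DerivedCategory.singleFunctor (ModuleCat.{u} A) i).obj X) :=
  (Perf A).prop_of_iso ((Groth.Agent.Lib.DSplit.shiftSingleIso (-i) i (by lia)).app X)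
    (perf_shift A h (-i))

section Restrict

variable {A} {B : Type u} [CommRing B] (φ : A →+* B)

/-- `B`-modules whose restriction to `A` is perfect (in degree `0`) -/
def RP : ObjectProperty (ModuleCat.{u} B) := fun N =>
  PerfMod A ((ModuleCat.restrictScalars.{u} φ).obj N)

instance : (RP φ).IsClosedUnderIsomorphisms where
  of_iso e h := (PerfMod A).prop_of_iso ((ModuleCat.restrictScalars.{u} φ).mapIso e) h

lemma rp_of_shortExact (S : ShortComplex (ModuleCat.{u} B)) (hS : S.ShortExact)
    (h₁ : RP φ S.X₁) (h₃ : RP φ S.X₃) : RP φ S.X₂ :=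
  perfMod_of_shortExact A (S.map (ModuleCat.restrictScalars.{u} φ))
    (hS.map_of_exact (ModuleCat.restrictScalars.{u} φ)) h₁ h₃

lemma rp_of_retract {X Y : ModuleCat.{u} B} (s : X ⟶ Y) (r : Y ⟶ X) (hsr : s ≫ r = 𝟙 X)
    (h : RP φ Y) : RP φ X :=
  perfMod_of_retract A ((ModuleCat.restrictScalars.{u} φ).map s)
    ((ModuleCat.restrictScalars.{u} φ).map r)
    (by rw [← Functor.map_comp, hsr, CategoryTheory.Functor.map_id]) h

lemma rp_prod (X Y : Type u) [AddCommGroup X] [Module B X] [AddCommGroup Y] [Module B Y]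
    (hX : RP φ (ModuleCat.of B X)) (hY : RP φ (ModuleCat.of B Y)) :
    RP φ (ModuleCat.of B (X × Y)) := by
  let S : ShortComplex (ModuleCat.{u} B) :=
    ShortComplex.mk (ModuleCat.ofHom (LinearMap.inl B X Y)) (ModuleCat.ofHom (LinearMap.snd B X Y))
      (ModuleCat.hom_ext (LinearMap.ext fun x => rfl))
  have hex : Function.Exact (LinearMap.inl B X Y) (LinearMap.snd B X Y) := by
    rintro ⟨x, y⟩
    constructor
    · intro h
      exact ⟨x, by
        have : y = 0 := h
        simp [this]⟩
    · rintro ⟨x', hx'⟩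
      have := congrArg Prod.snd hx'
      simpa using this.symm
  have hS : S.ShortExact :=
    { exact := (ShortComplex.ShortExact.moduleCat_exact_iff_function_exact S).2 hex
      mono_f := (ModuleCat.mono_iff_injective _).2 LinearMap.inl_injective
      epi_g := (ModuleCat.epi_iff_surjective _).2 LinearMap.snd_surjective }
  exact rp_of_shortExact φ S hS hX hY

lemma rp_pi_fin (hB : RP φ (ModuleCat.of B B)) (n : ℕ) : RP φ (ModuleCat.of B (Fin n → B)) := by
  induction n with
  | zero =>
    exact perfMod_of_isZero A ((ModuleCat.restrictScalars.{u} φ).map_isZero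
      (ModuleCat.isZero_of_subsingleton _))
  | succ n ih =>
    exact (RP φ).prop_of_iso
      (Fin.consLinearEquiv B (fun _ : Fin (n + 1) => B)).toModuleIso (rp_prod φ B (Fin n → B) hB ih)

lemma rp_of_fp (hB : RP φ (ModuleCat.of B B)) (N : ModuleCat.{u} B) (hN : FP B N) : RP φ N := by
  obtain ⟨h1, h2⟩ := hN
  obtain ⟨n, f, hf⟩ := Module.Finite.exists_fin' B N
  obtain ⟨g, hg⟩ := Module.projective_lifting_property f LinearMap.id hf
  refine rp_of_retract φ (Y := ModuleCat.of B (Fin n → B)) (ModuleCat.ofHom g) (ModuleCat.ofHom f) ?_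
    (rp_pi_fin φ hB n)
  exact ModuleCat.hom_ext hg

end Restrict

section Main

variable {A} {B : Type u} [CommRing B] [Algebra A B]

/-- `B` with its `A`-module structure is the restriction of scalars of the `B`-module `B` -/
noncomputable def selfIso :
    ModuleCat.of A B ≅ (ModuleCat.restrictScalars.{u} (algebraMap A B)).obj (ModuleCat.of B B) := by
  let N : ModuleCat.{u} A := (ModuleCat.restrictScalars.{u} (algebraMap A B)).obj (ModuleCat.of B B)
  let l : B ≃ₗ[A] N :=
    { toFun := fun b => b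
      invFun := fun b => b
      map_add' := fun _ _ => rfl
      map_smul' := fun a b => Algebra.smul_def a b
      left_inv := fun _ => rfl
      right_inv := fun _ => rfl }
  exact (LinearEquiv.toModuleIso (X₁ := B) (X₂ := N) l)

theorem isPerfect_restrictD (hB : DRing.IsPerfectModule A B) (K : Dual.D B)
    (hK : DRing.IsPerfect B K) :
    DRing.IsPerfect A ((DRing.restrictD (algebraMap A B)).obj K) := by
  have hB' : RP (algebraMap A B) (ModuleCat.of B B) :=
    (PerfMod A).prop_of_iso selfIso ((perf_iff A _).2 hB)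
  obtain ⟨E, a, b, h1, h2, ⟨e⟩⟩ := hK
  rw [← perf_iff]
  have e' : (DRing.restrictD (algebraMap A B)).obj K ≅
      DerivedCategory.Q.obj ((DRing.restrictCx (algebraMap A B)).obj E) :=
    (DRing.restrictD (algebraMap A B)).mapIso e.symm ≪≫
      ((ModuleCat.restrictScalars.{u} (algebraMap A B)).mapDerivedCategoryFactors).app E
  refine (Perf A).prop_of_iso e'.symm ?_
  refine Groth.Agent.Lib.DStupid.stupid_devissage (Perf A) (perf_ext A)
    (fun Z hZ => perf_of_isZero A hZ) _ a b (fun i hi => ?_) (fun i => ?_)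
  · exact (ModuleCat.restrictScalars.{u} (algebraMap A B)).map_isZero (h1 i hi)
  · exact perf_single A (rp_of_fp (algebraMap A B) hB' (E.X i) (h2 i)) i

end Main

end Groth.Agent.Lib.PerfRestrict21
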