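import Groth.Agent.Lib.InvIdealCL35
import Groth.Agent.Lib.DPerfBasic
import Groth.Agent.Lib.PerfRestrict21

/-!
# `RHom_R(A, R) ≅ N[-1]` and perfectness of `A = R/I`, `I` invertible (helper35)

* `isPerfect_restrict_unit` : `A|_R` is perfect over `R`.
* `mIso` : `RHomRel(R → A)(R[0]) ≅ N[-1]` for any inverse `N` of `A ⊗_R I`.
-/

set_option autoImplicit false
set_option linter.style.haveILetI false
set_option linter.unusedSectionVars false
universe u
open CategoryTheory CategoryTheory.Limits MonoidalCategory TensorProduct CategoryTheory.Abelian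
attribute [local instance] HasDerivedCategory.standard

namespace Groth.Agent.Lib.InvIdealMain35

open DerivedCategory DTen Groth.Agent.Lib.InvIdealAlg35 Groth.Agent.Lib.InvIdealExt35
  Groth.Agent.Lib.InvIdealD35 Groth.Agent.Lib.InvIdealCL35

/-- a finite projective module is a perfect module -/
lemma isPerfectModule_of_finite_projective (R : Type u) [CommRing R] (P : Type u) [AddCommGroup P]
    [Module R P] [Module.Finite R P] [Module.Projective R P] : DRing.IsPerfectModule R P := by
  refine ⟨(HomologicalComplex.single (ModuleCat.{u} R) (ComplexShape.up ℤ) 0).obj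
    (ModuleCat.of R P), 0, 0, ?_, ?_, ⟨?_⟩⟩
  · intro i hi
    exact HomologicalComplex.isZero_single_obj_X (ComplexShape.up ℤ) 0 (ModuleCat.of R P) i
      (by omega)
  · intro i
    by_cases hi : i = 0
    · subst hi
      let e : ((HomologicalComplex.single (ModuleCat.{u} R) (ComplexShape.up ℤ) 0).obj
          (ModuleCat.of R P)).X 0 ≅ ModuleCat.of R P :=
        HomologicalComplex.singleObjXSelf (ComplexShape.up ℤ) 0 (ModuleCat.of R P)
      exact ⟨Module.Finite.equiv e.toLinearEquiv.symm,
        Module.Projective.of_equiv e.toLinearEquiv.symm⟩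
    · have h0 := HomologicalComplex.isZero_single_obj_X (ComplexShape.up ℤ) 0 (ModuleCat.of R P) i hi
      haveI : Subsingleton (((HomologicalComplex.single (ModuleCat.{u} R) (ComplexShape.up ℤ) 0).obj
          (ModuleCat.of R P)).X i) := ModuleCat.subsingleton_of_isZero h0
      exact ⟨inferInstance, inferInstance⟩
  · exact ((DerivedCategory.singleFunctorIsoCompQ (ModuleCat.{u} R) 0).app _).symm

variable {R A : Type u} [CommRing R] [CommRing A] [Algebra R A]
  (hφ : Function.Surjective (algebraMap R A)) [Module.Invertible R (I R A)]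

include hφ in
/-- `A = R/I` is a perfect `R`-module -/
lemma isPerfectModule_A : DRing.IsPerfectModule R A := by
  have hS := shortExact_S₁ (R := R) (A := A) hφ
  have h₁ : DRing.IsPerfect R hS.singleTriangle.obj₁ :=
    isPerfectModule_of_finite_projective R (I R A)
  have h₂ : DRing.IsPerfect R hS.singleTriangle.obj₂ :=
    isPerfectModule_of_finite_projective R R
  exact Groth.Agent.Lib.DPerf.isPerfect_obj₃ R _ hS.singleTriangle_distinguished h₁ h₂

include hφ in
/-- the restriction of the unit of `D(A)` is perfect over `R` -/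
lemma isPerfect_restrict_unit :
    DRing.IsPerfect R ((DRing.restrictD (algebraMap R A)).obj (DTen.unit A)) :=
  Groth.Agent.Lib.PerfRestrict21.isPerfect_restrictD (isPerfectModule_A hφ) _
    (isPerfectModule_of_finite_projective A A)

/-- `RHom_R(A, R) ≅ N[-1]` -/
noncomputable def mIso [HasRHomRel (algebraMap R A)] (N : Type u) [AddCommGroup N] [Module A N]
    (e : (A ⊗[R] (I R A)) ⊗[A] N ≃ₗ[A] A) :
    (RHomRel (algebraMap R A)).obj (DTen.unit R) ≅ (Dual.inD A N)⟦(-1 : ℤ)⟧ := by
  letI := (relAdj (algebraMap R A)).rightAdjointCommShift ℤ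
  haveI := isIso_adjunct (R := R) (A := A) hφ
  let f : X' R A ≅ (RHomRel (algebraMap R A)).obj (K₁ R) :=
    asIso ((relAdj (algebraMap R A)).homEquiv _ _ (cHat hφ))
  let c : (RHomRel (algebraMap R A)).obj (K₁ R) ≅
      ((RHomRel (algebraMap R A)).obj (DTen.unit R))⟦((1 : ℕ) : ℤ)⟧ :=
    ((RHomRel (algebraMap R A)).commShiftIso ((1 : ℕ) : ℤ)).app (DTen.unit R)
  let s : (RHomRel (algebraMap R A)).obj (DTen.unit R) ≅
      (((RHomRel (algebraMap R A)).obj (DTen.unit R))⟦((1 : ℕ) : ℤ)⟧)⟦(-1 : ℤ)⟧ :=
    ((shiftFunctorCompIsoId (Dual.D A) ((1 : ℕ) : ℤ) (-1) (by simp)).app _).symm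
  let n : X' R A ≅ Dual.inD A N :=
    (DerivedCategory.singleFunctor (ModuleCat.{u} A) 0).mapIso (eN N e).toModuleIso
  exact s ≪≫ (shiftFunctor (Dual.D A) (-1 : ℤ)).mapIso (c.symm ≪≫ f.symm ≪≫ n)

end Groth.Agent.Lib.InvIdealMain35
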