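import Groth.Agent.Lib.H78SecCoord
import Groth.Agent.Lib.QCohBiproduct

/-!
# Maps between invertible modules on integral schemes (helper54; campaign K2a)

Namespace `Groth.Agent.Lib.InvMap54`.  In a chart `(V, n, l)` (free generators `n` of `N`, `l` of `L` over `V`):
* `coef hl φ n : Γ(X, V)` with `coef_spec : coef • l = φ n`, `app_eq` (φ in coordinates),
  `app_eq_zero_of_coef_eq_zero`, `app_injective_of_coef_ne_zero` (X integral).
* `exists_gens` (common charts of two invertible modules), `eq_zero_of_coef_eq_zero` (X integral: one vanishing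
  coefficient forces `φ = 0`), **`mono_of_ne_zero`**: a nonzero map of invertible modules on an integral scheme is
  a monomorphism.  Also `rs_zero`, `subsingleton_bot`, `nonempty_inf`.
-/

set_option autoImplicit false
universe u
open CategoryTheory CategoryTheory.Limits AlgebraicGeometry Opposite TopologicalSpace
open Groth.Agent.Lib.H90Invertible Groth.Agent.Lib.StructureModule Groth.Agent.Lib.H78TensorGen
open Groth.Agent.Lib.H78SecCoord

namespace Groth.Agent.Lib.InvMap54

variable {X : Scheme.{u}} {N L : X.Modules}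

section Local

variable {V : X.Opens} {n : Γ(N, V)} {l : Γ(L, V)} (hn : IsGen N V n) (hl : IsGen L V l) (φ : N ⟶ L)

/-- the local coefficient of `φ` with respect to generators `n`, `l` over `V`: `φ n = coef • l` -/
noncomputable def coef (n : Γ(N, V)) : Γ(X, V) := coord hl le_rfl (φ.app V n)

lemma coef_spec : coef hl φ n • l = φ.app V n := by
  have := coord_spec hl le_rfl (φ.app V n)
  rwa [rs_self] at this

include hn in
lemma app_eq {W : X.Opens} (hW : W ≤ V) (t : Γ(N, W)) :
    φ.app W t = (coord hn hW t * X.presheaf.map (homOfLE hW).op (coef hl φ n)) • rs L hW l := by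
  conv_lhs => rw [← coord_spec hn hW t]
  rw [Scheme.Modules.Hom.app_smul, app_rs, ← coef_spec hl φ, mul_smul]
  congr 1
  exact L.map_smul (homOfLE hW) _ _

include hn in
lemma app_eq_zero_of_coef_eq_zero (h0 : coef hl φ n = 0) {W : X.Opens} (hW : W ≤ V) (t : Γ(N, W)) :
    φ.app W t = 0 := by
  rw [app_eq hn hl φ hW t, h0, map_zero, mul_zero, zero_smul]

lemma rs_zero (M : X.Modules) {V W : X.Opens} (h : W ≤ V) : rs M h (0 : Γ(M, V)) = 0 :=
  map_zero (M.presheaf.map (homOfLE h).op).hom

lemma subsingleton_bot (M : X.Modules) : Subsingleton Γ(M, (⊥ : X.Opens)) := by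
  refine ⟨fun s t => sec_ext M s t ?_⟩
  intro x hx
  exact absurd hx (by simp)

include hn in
lemma app_injective_of_coef_ne_zero [IsIntegral X] (h0 : coef hl φ n ≠ 0) {W : X.Opens} (hW : W ≤ V) :
    Function.Injective (φ.app W) := by
  rw [injective_iff_map_eq_zero]
  intro t ht
  by_cases hWe : W = ⊥
  · subst hWe
    exact (subsingleton_bot N).elim _ _
  · have hne : Nonempty W := by
      obtain ⟨x, hx⟩ := (Opens.ne_bot_iff_nonempty W).mp hWe
      exact ⟨⟨x, hx⟩⟩
    have hdom : IsDomain Γ(X, W) := inferInstance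
    rw [app_eq hn hl φ hW t] at ht
    have h1 : coord hn hW t * X.presheaf.map (homOfLE hW).op (coef hl φ n) = 0 := by
      apply (hl W hW).1
      change _ • rs L hW l = (0 : Γ(X, W)) • rs L hW l
      rw [ht, zero_smul]
    have h2 : X.presheaf.map (homOfLE hW).op (coef hl φ n) ≠ 0 := by
      intro h
      apply h0
      apply map_injective_of_isIntegral X (homOfLE hW)
      rw [h, map_zero]
    have h3 : coord hn hW t = 0 := (mul_eq_zero.mp h1).resolve_right h2
    rw [← coord_spec hn hW t, h3, zero_smul]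

end Local

section Global

variable [IsIntegral X] (hN : PicF.IsInvertible N) (hL : PicF.IsInvertible L) (φ : N ⟶ L)

omit [IsIntegral X] in
include hN hL in
/-- common local generators of two invertible modules -/
lemma exists_gens (x : X) : ∃ (V : X.Opens) (_ : x ∈ V) (n : Γ(N, V)) (l : Γ(L, V)),
    IsGen N V n ∧ IsGen L V l := by
  obtain ⟨V1, hx1, n1, hn1⟩ := (isInvertible_iff_exists_isGen N).1 hN x
  obtain ⟨V2, hx2, l2, hl2⟩ := (isInvertible_iff_exists_isGen L).1 hL x
  exact ⟨V1 ⊓ V2, ⟨hx1, hx2⟩, _, _, hn1.mono inf_le_left, hl2.mono inf_le_right⟩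

lemma nonempty_inf {V V' : X.Opens} (hV : (V : Set X).Nonempty) (hV' : (V' : Set X).Nonempty) :
    Nonempty (V ⊓ V' : X.Opens) := by
  obtain ⟨x, hx⟩ := nonempty_preirreducible_inter V.isOpen V'.isOpen hV hV'
  exact ⟨⟨x, hx⟩⟩

include hN hL in
/-- on an integral scheme, a map of invertible modules whose coefficient vanishes in one chart is zero -/
theorem eq_zero_of_coef_eq_zero {V : X.Opens} {n : Γ(N, V)} {l : Γ(L, V)} (hn : IsGen N V n)
    (hl : IsGen L V l) (hV : (V : Set X).Nonempty) (h0 : coef hl φ n = 0) : φ = 0 := by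
  -- all other coefficients vanish
  have key : ∀ {V' : X.Opens} {n' : Γ(N, V')} {l' : Γ(L, V')} (_ : IsGen N V' n')
      (hl' : IsGen L V' l') (_ : (V' : Set X).Nonempty), coef hl' φ n' = 0 := by
    intro V' n' l' hn' hl' hV'
    have hne : Nonempty (V ⊓ V' : X.Opens) := nonempty_inf hV hV'
    apply map_injective_of_isIntegral X (homOfLE (inf_le_right : V ⊓ V' ≤ V'))
    rw [map_zero]
    apply (hl' (V ⊓ V') inf_le_right).1
    change _ • rs L inf_le_right l' = (0 : Γ(X, V ⊓ V')) • rs L inf_le_right l'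
    rw [zero_smul]
    have h1 : X.presheaf.map (homOfLE (inf_le_right : V ⊓ V' ≤ V')).op (coef hl' φ n') •
        rs L inf_le_right l' = rs L inf_le_right (coef hl' φ n' • l') :=
      (L.map_smul (homOfLE (inf_le_right : V ⊓ V' ≤ V')) _ _).symm
    rw [h1, coef_spec, ← app_rs]
    exact app_eq_zero_of_coef_eq_zero hn hl φ h0 inf_le_left _
  apply Scheme.Modules.hom_ext
  intro U
  ext t
  change φ.app U t = 0
  apply sec_ext
  intro y hy
  obtain ⟨V', hyV', n', l', hn', hl'⟩ := exists_gens hN hL y
  refine ⟨U ⊓ V', inf_le_left, ⟨hy, hyV'⟩, ?_⟩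
  rw [← app_rs, rs_zero]
  exact app_eq_zero_of_coef_eq_zero hn' hl' φ (key hn' hl' ⟨y, hyV'⟩) inf_le_right _

include hN hL in
/-- **G1**: on an integral scheme, a nonzero map of invertible modules is a monomorphism -/
theorem mono_of_ne_zero (hφ : φ ≠ 0) : Mono φ := by
  apply Groth.Agent.Lib.QCohBiproduct.mono_of_injective_app
  intro U
  rw [injective_iff_map_eq_zero]
  intro t ht
  apply sec_ext
  intro y hy
  obtain ⟨V', hyV', n', l', hn', hl'⟩ := exists_gens hN hL y
  refine ⟨U ⊓ V', inf_le_left, ⟨hy, hyV'⟩, ?_⟩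
  have hc : coef hl' φ n' ≠ 0 := fun h0 =>
    hφ (eq_zero_of_coef_eq_zero hN hL φ hn' hl' ⟨y, hyV'⟩ h0)
  apply app_injective_of_coef_ne_zero hn' hl' φ hc inf_le_right
  rw [app_rs, ht, rs_zero, rs_zero, map_zero]

end Global

end Groth.Agent.Lib.InvMap54
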