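import Groth.Agent.Lib.H78AtlasIso
import Groth.Agent.Lib.PullInverse
import Groth.Agent.Lib.OXModTensor
import Groth.Agent.Lib.H90InvertibleFP
import Groth.Agent.Lib.H90PushStalkLocal
import Groth.Prelude.Def_FlatMod2

/-!
# Invertible modules: flatness over the base, and `M ≅ L` from `M ⊗ L⁻¹ ≅ O` (helper21)
-/

set_option autoImplicit false
set_option linter.style.haveILetI false
universe u

open CategoryTheory CategoryTheory.Limits AlgebraicGeometry Opposite

namespace Groth.Agent.Lib.InvTensor21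

open Groth.Agent.Lib.H90Invertible Groth.Agent.Lib.OXModTensor

variable {X Y : Scheme.{u}}

/-- an invertible module on `X` is flat over `Y` if `X` is -/
theorem isFlatOver_of_isInvertible (f : X ⟶ Y) [Flat f] {N : X.Modules} (hN : PicF.IsInvertible N) :
    FlatMod.IsFlatOver f N := by
  intro x
  obtain ⟨m, hm⟩ := Groth.Agent.Lib.H90PushStalkLocal.exists_stalk_bijective_of_isInvertible hN x
  letI alg : Algebra (Y.presheaf.stalk (f x)) (X.presheaf.stalk x) := (f.stalkMap x).hom.toAlgebra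
  letI m2 : Module (Y.presheaf.stalk (f x)) (N.presheaf.stalk x) := FlatMod.moduleStalkOver f N x
  have hfl : Module.Flat (Y.presheaf.stalk (f x)) (X.presheaf.stalk x) := Flat.stalkMap f x
  let E : X.presheaf.stalk x ≃ₗ[Y.presheaf.stalk (f x)] N.presheaf.stalk x :=
    { Equiv.ofBijective _ hm with
      map_add' := fun a b => add_smul a b m
      map_smul' := fun r a => by
        change (r • a) • m = ((f.stalkMap x).hom r) • (a • m)
        rw [Algebra.smul_def, mul_smul]
        rfl }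
  exact Module.Flat.of_linearEquiv E.symm

/-- if `i^*L ≅ i^*M` and `L' ⊗ L ≅ O` then `i^*(M ⊗ L') ≅ O` -/
theorem nonempty_pullback_tensor_inverse_iso {Z : Scheme.{u}} (i : Z ⟶ X) {L M L' : X.Modules}
    (hL : PicF.IsInvertible L) (hM : PicF.IsInvertible M) (hL' : PicF.IsInvertible L')
    (e₀ : CohB1.tensorMod L' L ≅ Coh.structureModule X)
    (hy : Nonempty ((Scheme.Modules.pullback i).obj L ≅ (Scheme.Modules.pullback i).obj M)) :
    Nonempty ((Scheme.Modules.pullback i).obj (CohB1.tensorMod M L') ≅ Coh.structureModule Z) := by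
  obtain ⟨e⟩ := hy
  obtain ⟨a⟩ := Groth.Agent.Lib.H78AtlasIso.nonempty_pullback_tensorMod_iso i hM hL'
  obtain ⟨b⟩ := Groth.Agent.Lib.PullInverse.nonempty_pullback_inverse i hL' hL e₀
  exact ⟨a ≪≫ tensorModIso e.symm (Iso.refl _) ≪≫ braiding _ _ ≪≫ b⟩

/-- if `(M ⊗ L')|_W ≅ O_W` and `L' ⊗ L ≅ O` then `L|_W ≅ M|_W` -/
theorem nonempty_restrict_iso_of_tensor_inverse {L M L' : X.Modules}
    (hL : PicF.IsInvertible L) (hM : PicF.IsInvertible M) (hL' : PicF.IsInvertible L')
    (e₀ : CohB1.tensorMod L' L ≅ Coh.structureModule X) (W : X.Opens)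
    (eN : Nonempty ((CohB1.tensorMod M L').restrict W.ι ≅ Coh.structureModule (↑W : Scheme.{u}))) :
    Nonempty (L.restrict W.ι ≅ M.restrict W.ι) := by
  obtain ⟨eN⟩ := eN
  have hN : PicF.IsInvertible (CohB1.tensorMod M L') :=
    Groth.Agent.Lib.H78TensorGen.isInvertible_tensorMod hM hL'
  let c : M ≅ CohB1.tensorMod (CohB1.tensorMod M L') L :=
    (rightUnitor M).symm ≪≫ tensorModIso (Iso.refl M) e₀.symm ≪≫ (associator M L' L).symm
  obtain ⟨a⟩ := Groth.Agent.Lib.H78AtlasIso.nonempty_pullback_tensorMod_iso W.ι hN hL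
  let r := Scheme.Modules.restrictFunctorIsoPullback W.ι
  let d : M.restrict W.ι ≅ L.restrict W.ι :=
    (Scheme.Modules.restrictFunctor W.ι).mapIso c ≪≫ r.app _ ≪≫ a ≪≫
      tensorModIso ((r.app _).symm ≪≫ eN) (r.app _).symm ≪≫ leftUnitor _
  exact ⟨d.symm⟩

end Groth.Agent.Lib.InvTensor21
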