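import Groth.Agent.Lib.LiftSection21
import Groth.Agent.Lib.InvTensor21
import Groth.Agent.Lib.FibreMain21
import Groth.Agent.Lib.H78PullSec2
import Groth.Agent.Lib.PullInverse

/-!
# An invertible module trivial on a fibre with `H^1(X_y, O) = 0` is trivial near the fibre (helper21)

`f : X ⟶ Y` proper and flat, `Y` locally Noetherian, `N` invertible on `X` with `N|_{X_y} ≅ O_{X_y}` and
`H^1(X_y, O_{X_y}) = 0`.  Then `N|_{f⁻¹U} ≅ O` for an open neighbourhood `U` of `y` (`exists_nhd_trivial`).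
-/

set_option autoImplicit false
set_option linter.style.haveILetI false
universe u

open CategoryTheory CategoryTheory.Limits AlgebraicGeometry Opposite CohIII

namespace Groth.Agent.Lib.InvNear21

open Groth.Agent.Lib.FibreOpen21 Groth.Agent.Lib.FibreIso21 Groth.Agent.Lib.H90Invertible
  Groth.Agent.Lib.H78SecCoord Groth.Agent.Lib.H78PullSec Groth.Agent.Lib.ReesCoh
  Groth.Agent.Lib.StructureModule Groth.Agent.Lib.H78TensorGen

variable {X Y : Scheme.{u}} (f : X ⟶ Y)

/-- cohomology is invariant under isomorphisms (subsingleton form) -/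
theorem subsingleton_HH_of_iso {Z : Scheme.{u}} {P Q : Z.Modules} (e : P ≅ Q) (n : ℕ)
    [Subsingleton (Coh.HH Z Q n)] : Subsingleton (Coh.HH Z P n) := by
  have hinj : Function.Injective (Groth.Agent.Lib.CohLES.map e.hom n) := by
    intro a b hab
    have := congrArg (Groth.Agent.Lib.CohLES.map e.inv n) hab
    rwa [← Groth.Agent.Lib.CohLES.map_comp, ← Groth.Agent.Lib.CohLES.map_comp, e.hom_inv_id,
      Groth.Agent.Lib.CohLES.map_id, Groth.Agent.Lib.CohLES.map_id] at this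
  exact hinj.subsingleton

/-- **Core**: if sections lift from the fibre at `y` (abstract lifting property of a model over an affine open `V ∋ y`)
then an invertible module which is trivial on `X_y` is trivial over `f⁻¹U` for some open `U ∋ y`. -/
theorem exists_nhd_trivial_of_liftProp [IsProper f] [IsLocallyNoetherian Y] (y : Y)
    (N : X.Modules) (hN : PicF.IsInvertible N)
    (hy : Nonempty (CohIII.fiberMod f N y ≅ Coh.structureModule (f.fiber y)))
    {V : Y.Opens} (hV : IsAffineOpen V) (hz : y ∈ V.ι ''ᵁ ⊤)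
    (L : CochainComplex (ModuleCat.{u} (AV V)) ℤ)
    (hE : letI := overV f hV
      Groth.Agent.Lib.EndEquivH44.EndEquiv (tensorAFunctor (AV V) (N.restrict (f ⁻¹ᵁ V).ι) ⋙
          HAb (f ⁻¹ᵁ V).toScheme 0)
        (TFun L ((0 : ℕ) : ℤ) ⋙ forget₂ (ModuleCat.{u} (AV V)) AddCommGrpCat.{u}))
    (hl : letI := algV y hz
      Groth.Agent.Lib.LiftSection21.LiftProp (AV V) (Y.residueField y) L (xV hV y hz)) :
    ∃ U : Y.Opens, y ∈ U ∧ U ≤ V.ι ''ᵁ ⊤ ∧ ∃ s : Γ(N, f ⁻¹ᵁ U), IsGen N (f ⁻¹ᵁ U) s := by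
  classical
  obtain ⟨ey⟩ := hy
  letI := overV f hV
  haveI := isNoetherianRing_AV (Y := Y) hV
  have hNc : Coh.IsCoh N := isCoh_of_isInvertible hN
  -- the module on `f⁻¹V`
  set j := (f ⁻¹ᵁ V).ι with hj
  set F' := N.restrict j with hF'
  have hF'c : Coh.IsCoh F' := Groth.Agent.Lib.H90CohRestrict.isCoh_restrict _ N hNc
  haveI : F'.IsQuasicoherent := hF'c.1
  have hF'inv : PicF.IsInvertible F' := isInvertible_restrict j hN
  -- the fibre square
  letI := algV y hz
  letI ovK : (f.fiber y).Over (Spec (CommRingCat.of ↑(Y.residueField y))) := CohIII.fiberOver f y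
  set g' := fiberLift f y (AV V) j (iV hV) (isPullback_V f hV) (specAlg_iV hV y hz) with hg'
  have hsq : IsPullback g' (f.fiber y ↘ Spec (CommRingCat.of ↑(Y.residueField y)))
      (↑(f ⁻¹ᵁ V) ↘ Spec (CommRingCat.of (AV V)))
      (Spec.map (CommRingCat.ofHom (algebraMap (AV V) ↑(Y.residueField y)))) :=
    isPullback_fiberLift f y (AV V) j (iV hV) (isPullback_V f hV) (specAlg_iV hV y hz)
  have hg'j : g' ≫ j = f.fiberι y :=
    fiberLift_j f y (AV V) j (iV hV) (isPullback_V f hV) (specAlg_iV hV y hz)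
  -- the pullback of `F'` to the fibre is trivial
  let isoF : (Scheme.Modules.pullback g').obj F' ≅ Coh.structureModule (f.fiber y) :=
    (Scheme.Modules.pullback g').mapIso ((Scheme.Modules.restrictFunctorIsoPullback j).app N) ≪≫
      (Scheme.Modules.pullbackComp g' j).app N ≪≫ (Scheme.Modules.pullbackCongr hg'j).app N ≪≫ ey
  let t₀ : Γ((Scheme.Modules.pullback g').obj F', g' ⁻¹ᵁ ⊤) := isoF.inv.app ⊤ (toSec ⊤ 1)
  have ht₀ : IsGen ((Scheme.Modules.pullback g').obj F') (g' ⁻¹ᵁ ⊤) t₀ :=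
    (isGen_one (X := f.fiber y) ⊤).of_iso isoF.symm
  -- lift
  obtain ⟨a, ha, s, hs⟩ := Groth.Agent.Lib.LiftSection21.exists_pb_eq_smulMod' (AV V)
    (Y.residueField y) g' F' L hE (xV hV y hz) hl hsq t₀
  -- the scalar is a unit
  have hane : algebraMap (AV V) (Y.residueField y) a ≠ 0 := by
    intro h0
    have h2 := thetaV_algebraMap hV y hz a
    rw [h0, map_zero] at h2
    exact ha ((Ideal.algebraMap_residueField_eq_zero).mp h2.symm)
  have hunit : IsUnit (algebraMap (AV V) (Y.residueField y) a) := isUnit_iff_ne_zero.mpr hane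
  have hgen : IsGen ((Scheme.Modules.pullback g').obj F') (g' ⁻¹ᵁ ⊤) (pb g' F' s) := by
    rw [hs]
    change IsGen _ _ (((f.fiber y).presheaf.map (homOfLE (le_top (a := g' ⁻¹ᵁ ⊤))).op
      (Coh.toGlobal ((f.fiber y) ↘ Spec (CommRingCat.of (Y.residueField y)))
        (algebraMap (AV V) (Y.residueField y) a)) : Γ(f.fiber y, g' ⁻¹ᵁ ⊤)) • t₀)
    exact (isGen_smul_iff ht₀ _).2 ((hunit.map _).map _)
  -- the generating locus contains the fibre
  set G := CohB1.genLocus F' (ofSection s) with hG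
  have hGtop : g' ⁻¹ᵁ G = ⊤ := by
    rw [hG, ← genLocus_pbTop g' hF'inv s]
    haveI : IsIso (ofSection (pbTop g' F' s)) := isIso_ofSection_of_isGen hgen
    exact Groth.Agent.Lib.PullInverse.genLocus_eq_top_of_isIso _
  have hfib : ∀ x : X, f x = y → x ∈ j ''ᵁ G := by
    intro x hx
    have hx' : x ∈ Set.range (f.fiberι y) := by
      rw [Scheme.Hom.range_fiberι]
      exact hx
    obtain ⟨w, rfl⟩ := hx'
    have hw : g' w ∈ G := by
      have : w ∈ g' ⁻¹ᵁ G := by rw [hGtop]; trivial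
      exact this
    refine ⟨g' w, hw, ?_⟩
    rw [← hg'j]
    rfl
  -- the neighbourhood
  have hcl : IsClosed (f '' ((j ''ᵁ G : X.Opens) : Set X)ᶜ) :=
    f.isClosedMap _ (j ''ᵁ G).isOpen.isClosed_compl
  let U₀ : Y.Opens := ⟨(f '' ((j ''ᵁ G : X.Opens) : Set X)ᶜ)ᶜ, hcl.isOpen_compl⟩
  have hyU : y ∈ U₀ := by
    rintro ⟨x, hx, hxy⟩
    exact hx (hfib x hxy)
  have hUG : f ⁻¹ᵁ (U₀ ⊓ V.ι ''ᵁ ⊤) ≤ j ''ᵁ G := by
    intro x hx
    by_contra hxG
    exact hx.1 ⟨x, hxG, rfl⟩
  refine ⟨U₀ ⊓ V.ι ''ᵁ ⊤, ⟨hyU, hz⟩, inf_le_right, ?_⟩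
  -- the generator
  have hg1 : IsGen F' G (rs F' le_top s) := by
    have := isGen_genLocus (ofSection s)
    rwa [sec_ofSection] at this
  have hg2 : IsGen N (j ''ᵁ G) (rs F' le_top s : Γ(F', G)) := (isGen_restrict_iff j N G _).mp hg1
  exact ⟨_, hg2.mono hUG⟩

/-- **Trivial on the fibre ⇒ trivial near the fibre**, when `H^1(X_y, O_{X_y}) = 0`. -/
theorem exists_nhd_trivial [IsProper f] [Flat f] [IsLocallyNoetherian Y] (y : Y)
    (h1 : Subsingleton (Coh.HH (f.fiber y) (Coh.structureModule (f.fiber y)) 1))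
    (N : X.Modules) (hN : PicF.IsInvertible N)
    (hy : Nonempty (CohIII.fiberMod f N y ≅ Coh.structureModule (f.fiber y))) :
    ∃ U : Y.Opens, y ∈ U ∧
      Nonempty (N.restrict (f ⁻¹ᵁ U).ι ≅ Coh.structureModule (↑(f ⁻¹ᵁ U) : Scheme.{u})) := by
  obtain ⟨ey⟩ := hy
  obtain ⟨V, hV, hz⟩ := Groth.Agent.Lib.FibreMain21.exists_affine_nbhd y
  letI := overV f hV
  haveI := isNoetherianRing_AV (Y := Y) hV
  have hNc : Coh.IsCoh N := isCoh_of_isInvertible hN
  have hNfl : FlatMod.IsFlatOver f N := Groth.Agent.Lib.InvTensor21.isFlatOver_of_isInvertible f hN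
  obtain ⟨L, h1L, -, h3L, -, h5L⟩ := exists_model_V f N hNc hNfl hV
  -- vanishing of `T^1` at `y`
  haveI : Subsingleton (CohIII.fiberH f N y 1) := subsingleton_HH_of_iso ey 1
  have hvan : IsZero ((TFun L 1).obj
      (ModuleCat.of (AV V) (xV hV y hz).asIdeal.ResidueField)) := by
    have := ((h5L y hz 1).2).mp inferInstance
    simpa using this
  have hP : ∀ i, Module.Flat (AV V) (L.X i) := fun i => by
    haveI := (h1L i).2
    infer_instance
  letI := algV y hz
  have hl := Groth.Agent.Lib.LiftSection21.liftProp_of_isZero (AV V) (Y.residueField y) L hP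
    (fun i => (h1L i).1) (xV hV y hz) (thetaV hV y hz) (thetaV_algebraMap hV y hz) hvan
  obtain ⟨U, hyU, -, s, hs⟩ := exists_nhd_trivial_of_liftProp f y N hN ⟨ey⟩ hV hz L (h3L 0) hl
  exact ⟨U, hyU, (nonempty_restrict_ι_iso_iff N (f ⁻¹ᵁ U)).2 ⟨s, hs⟩⟩

end Groth.Agent.Lib.InvNear21
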