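import Groth.Agent.Lib.TensorCxZ35
import Mathlib.Algebra.Category.ModuleCat.Biproducts
import Mathlib.Algebra.Module.Projective
import Mathlib.RingTheory.Flat.Basic
import Mathlib.RingTheory.Finiteness.Prod

/-!
# The terms of a tensor product of cochain complexes of modules

For `K L : CochainComplex (ModuleCat R) ℤ`, an integer `n` and a finite set `s` of integers such that
`K.X i ⊗ L.X (n - i)` vanishes for `i ∉ s`: `tensorXIso K L n s hs : (K ⊗ L).X n ≅ ⨁_{i ∈ s} K.X i ⊗ L.X (n - i)`.
Consequences: vanishing, finiteness, projectivity, freeness, flatness of the terms of `K ⊗ L`.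
-/

set_option autoImplicit false
universe u

open CategoryTheory CategoryTheory.Limits Category MonoidalCategory HomologicalComplex

namespace Groth.Agent.Lib.TensorCxTerms

open Groth.Agent.Lib.TensorCxZ35

variable {R : Type u} [CommRing R] (K L : CochainComplex (ModuleCat.{u} R) ℤ)

lemma isZero_tensor_left {M : ModuleCat.{u} R} (N : ModuleCat.{u} R) (h : IsZero M) :
    IsZero (M ⊗ N) := by
  rw [IsZero.iff_id_eq_zero, ← id_whiskerRight, h.eq_of_src (𝟙 M) 0,
    MonoidalPreadditive.zero_whiskerRight]

lemma isZero_tensor_right (M : ModuleCat.{u} R) {N : ModuleCat.{u} R} (h : IsZero N) :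
    IsZero (M ⊗ N) := by
  rw [IsZero.iff_id_eq_zero, ← whiskerLeft_id, h.eq_of_src (𝟙 N) 0,
    MonoidalPreadditive.whiskerLeft_zero]

/-- the terms of the tensor product as a finite biproduct -/
noncomputable def tensorXIso (n : ℤ) (s : Finset ℤ)
    (hs : ∀ i : ℤ, i ∉ s → IsZero (K.X i ⊗ L.X (n - i))) :
    (tensorObj K L).X n ≅ ⨁ (fun i : s => K.X i ⊗ L.X (n - i)) where
  hom := biproduct.lift (fun i : s => pr K L i (n - i) n (by omega))
  inv := biproduct.desc (fun i : s => ι K L i (n - i) n (by omega))
  hom_inv_id := by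
    apply mapBifunctor.hom_ext
    intro i j h
    have h' : i + j = n := h
    obtain rfl : j = n - i := by omega
    by_cases hi : i ∈ s
    · have h1 : ιMapBifunctor K L (curriedTensor (ModuleCat.{u} R)) (ComplexShape.up ℤ) i (n - i) n h ≫
          biproduct.lift (fun i : s => pr K L i (n - i) n (by omega)) =
          biproduct.ι (fun i : s => K.X i ⊗ L.X (n - i)) ⟨i, hi⟩ := by
        apply biproduct.hom_ext
        intro i'
        rw [assoc, biproduct.lift_π]
        by_cases hii : i' = ⟨i, hi⟩
        · subst hii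
          rw [biproduct.ι_π_self]
          exact ι_pr_self K L i (n - i) n h
        · rw [biproduct.ι_π_ne _ (Ne.symm hii)]
          refine ι_pr_ne K L i' (n - i') i (n - i) n (by omega) h (fun hh => hii ?_)
          exact Subtype.ext hh.1.symm
      rw [reassoc_of% h1, biproduct.ι_desc, comp_id]
    · exact (hs i hi).eq_of_src _ _
  inv_hom_id := by
    apply biproduct.hom_ext'
    intro i
    apply biproduct.hom_ext
    intro i'
    simp only [assoc, biproduct.ι_desc_assoc, biproduct.lift_π, comp_id]
    by_cases hii : i = i'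
    · subst hii
      rw [biproduct.ι_π_self]
      exact ι_pr_self K L i (n - i) n (by omega)
    · rw [biproduct.ι_π_ne _ hii]
      refine ι_pr_ne K L i' (n - i') i (n - i) n (by omega) (by omega) (fun hh => hii ?_)
      exact Subtype.ext hh.1

lemma isZero_tensorObj_X (n : ℤ) (h : ∀ i : ℤ, IsZero (K.X i ⊗ L.X (n - i))) :
    IsZero ((tensorObj K L).X n) := by
  refine IsZero.of_iso ?_ (tensorXIso K L n ∅ (fun i _ => h i))
  rw [IsZero.iff_id_eq_zero]
  apply biproduct.hom_ext
  rintro ⟨i, hi⟩
  simp at hi

/-- a property of modules which is stable under finite products and isomorphisms passes to the terms of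
the tensor product -/
lemma prop_tensorObj_X (P : ObjectProperty (ModuleCat.{u} R)) [P.IsClosedUnderIsomorphisms]
    (hpi : ∀ (J : Type) [Finite J] (f : J → ModuleCat.{u} R), (∀ j, P (f j)) →
      P (ModuleCat.of R (∀ j, f j)))
    (n : ℤ) (s : Finset ℤ) (hs : ∀ i : ℤ, i ∉ s → IsZero (K.X i ⊗ L.X (n - i)))
    (h : ∀ i : ℤ, i ∈ s → P (K.X i ⊗ L.X (n - i))) : P ((tensorObj K L).X n) :=
  P.prop_of_iso (tensorXIso K L n s hs ≪≫
    ModuleCat.biproductIsoPi (fun i : s => K.X i ⊗ L.X (n - i))).symm
    (hpi s _ (fun i => h i i.2))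

end Groth.Agent.Lib.TensorCxTerms
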