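import Groth.Agent.Lib.LTensorCxKProj
import Groth.Agent.Lib.TensorCxTerms
import Groth.Agent.S3522
import Mathlib.Data.Int.Interval

/-!
# `K ⊗^L L` for `K` and `L` represented by bounded above complexes of projective modules

`nonempty_ltc_iso`: if `K ≅ Q P` with `P` a bounded above complex of projective modules and `Q L ≅ Q P'` with `P'`
K-projective, then `(DRing.LTensorCx A L).obj K ≅ Q (P ⊗ P')`.  Also the terms of `P ⊗ P'`
(`vanishesAbove_tensorObj`, `vanishesOutside_tensorObj`, `termwiseFiniteFree_tensorObj`,
`termwiseFiniteProjective_tensorObj`).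
-/

set_option autoImplicit false
universe u

open CategoryTheory CategoryTheory.Limits Category MonoidalCategory HomologicalComplex

attribute [local instance] HasDerivedCategory.standard

namespace Groth.Agent.Lib.LTensorCxBdd

open DerivedCategory Groth.Agent.Lib.TensorCxTerms

variable {A : Type u} [CommRing A]

lemma isKProjective_of_vanishesAbove {P : DRing.Cx A} {b : ℤ} (hPb : DRing.VanishesAbove P b)
    (hP : ∀ i, Module.Projective A (P.X i)) : P.IsKProjective := by
  have : P.IsStrictlyLE b := by
    rw [CochainComplex.isStrictlyLE_iff]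
    exact hPb
  have : ∀ n : ℤ, Projective (P.X n) := fun n => by
    have := hP n
    exact ModuleCat.projective_of_categoryTheory_projective (P.X n)
  exact CochainComplex.isKProjective_of_projective P b

theorem nonempty_ltc_iso (L : DRing.Cx A) [DRing.HasLTensorCx A L] (K : Dual.D A)
    (P P' : DRing.Cx A) (b : ℤ) (hPb : DRing.VanishesAbove P b)
    (hP : ∀ i, Module.Projective A (P.X i)) (e : DRing.toD P ≅ K) [P'.IsKProjective]
    (e' : DRing.toD P' ≅ DRing.toD L) :
    Nonempty ((DRing.LTensorCx A L).obj K ≅ DRing.toD (HomologicalComplex.tensorObj P P')) := by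
  have := isKProjective_of_vanishesAbove hPb hP
  obtain ⟨g, hg⟩ := Groth.Agent.Lib.DCopower.exists_Q_map_eq P' L e'.hom
  have : IsIso (Q.map g) := by rw [hg]; infer_instance
  have : QuasiIso g := (DerivedCategory.isIso_Q_map_iff_quasiIso (φ := g)).1 this
  have hq : QuasiIso (HomologicalComplex.tensorHom (𝟙 P) g) :=
    Groth.Agent.S3522.quasiIso_tensor_left P P' L g (fun i => by
      have := hP i
      infer_instance) b hPb
  have : IsIso (Q.map (HomologicalComplex.tensorHom (𝟙 P) g)) := by
    rw [DerivedCategory.isIso_Q_map_iff_quasiIso]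
    exact hq
  exact ⟨(DRing.LTensorCx A L).mapIso e.symm ≪≫ Groth.Agent.Lib.LTensorCxKProj.ltcIso A L P ≪≫
    (asIso (Q.map (HomologicalComplex.tensorHom (𝟙 P) g))).symm⟩

section Terms

variable (P P' : DRing.Cx A)

lemma vanishesAbove_tensorObj {b b' : ℤ} (h : DRing.VanishesAbove P b)
    (h' : DRing.VanishesAbove P' b') : DRing.VanishesAbove (HomologicalComplex.tensorObj P P') (b + b') := by
  intro n hn
  refine isZero_tensorObj_X P P' n (fun i => ?_)
  by_cases hi : b < i
  · exact isZero_tensor_left _ (h i hi)
  · exact isZero_tensor_right _ (h' (n - i) (by lia))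

lemma vanishesOutside_tensorObj {a b a' b' : ℤ} (h : DRing.VanishesOutside P a b)
    (h' : DRing.VanishesOutside P' a' b') :
    DRing.VanishesOutside (HomologicalComplex.tensorObj P P') (a + a') (b + b') := by
  intro n hn
  refine isZero_tensorObj_X P P' n (fun i => ?_)
  by_cases hi : i < a ∨ b < i
  · exact isZero_tensor_left _ (h i hi)
  · exact isZero_tensor_right _ (h' (n - i) (by lia))

/-- finitely generated projective modules -/
abbrev FP : ObjectProperty (ModuleCat.{u} A) := fun M => Module.Finite A M ∧ Module.Projective A M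

/-- finite free modules -/
abbrev FF : ObjectProperty (ModuleCat.{u} A) := fun M => Module.Finite A M ∧ Module.Free A M

instance : (FP (A := A)).IsClosedUnderIsomorphisms where
  of_iso {X Y} e h := by
    have := h.1
    have := h.2
    exact ⟨Module.Finite.equiv e.toLinearEquiv, Module.Projective.of_equiv e.toLinearEquiv⟩

instance : (FF (A := A)).IsClosedUnderIsomorphisms where
  of_iso {X Y} e h := by
    have := h.1
    have := h.2
    exact ⟨Module.Finite.equiv e.toLinearEquiv, Module.Free.of_equiv e.toLinearEquiv⟩

lemma fp_tensor {M N : ModuleCat.{u} A} (hM : FP M) (hN : FP N) : FP (M ⊗ N) := by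
  have := hM.1
  have := hM.2
  have := hN.1
  have := hN.2
  exact ⟨inferInstanceAs (Module.Finite A (TensorProduct A M N)),
    inferInstanceAs (Module.Projective A (TensorProduct A M N))⟩

lemma ff_tensor {M N : ModuleCat.{u} A} (hM : FF M) (hN : FF N) : FF (M ⊗ N) := by
  have := hM.1
  have := hM.2
  have := hN.1
  have := hN.2
  exact ⟨inferInstanceAs (Module.Finite A (TensorProduct A M N)),
    inferInstanceAs (Module.Free A (TensorProduct A M N))⟩

lemma fp_pi (J : Type) [Finite J] (f : J → ModuleCat.{u} A) (h : ∀ j, FP (f j)) :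
    FP (ModuleCat.of A (∀ j, f j)) := by
  have := fun j => (h j).1
  have := fun j => (h j).2
  have := Fintype.ofFinite J
  refine ⟨inferInstanceAs (Module.Finite A (∀ j, f j)), ?_⟩
  classical
  exact Module.Projective.of_equiv (DFinsupp.linearEquivFunOnFintype (R := A) (M := fun j => f j))

lemma ff_pi (J : Type) [Finite J] (f : J → ModuleCat.{u} A) (h : ∀ j, FF (f j)) :
    FF (ModuleCat.of A (∀ j, f j)) := by
  have := fun j => (h j).1
  have := fun j => (h j).2
  exact ⟨inferInstanceAs (Module.Finite A (∀ j, f j)),
    inferInstanceAs (Module.Free A (∀ j, f j))⟩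

lemma termwiseFiniteProjective_tensorObj {a b : ℤ} (h : DRing.VanishesOutside P a b)
    (hP : DRing.TermwiseFiniteProjective P) (hP' : DRing.TermwiseFiniteProjective P') :
    DRing.TermwiseFiniteProjective (HomologicalComplex.tensorObj P P') := fun n =>
  prop_tensorObj_X P P' FP fp_pi n (Finset.Icc a b)
    (fun i hi => isZero_tensor_left _ (h i (by
      rw [Finset.mem_Icc] at hi
      lia)))
    (fun i _ => fp_tensor (hP i) (hP' (n - i)))

lemma termwiseFiniteFree_tensorObj {b b' : ℤ} (h : DRing.VanishesAbove P b)
    (h' : DRing.VanishesAbove P' b')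
    (hP : DRing.TermwiseFiniteFree P) (hP' : DRing.TermwiseFiniteFree P') :
    DRing.TermwiseFiniteFree (HomologicalComplex.tensorObj P P') := fun n =>
  prop_tensorObj_X P P' FF ff_pi n (Finset.Icc (n - b') b)
    (fun i hi => by
      rw [Finset.mem_Icc] at hi
      by_cases hib : b < i
      · exact isZero_tensor_left _ (h i hib)
      · exact isZero_tensor_right _ (h' (n - i) (by lia)))
    (fun i _ => ff_tensor (hP i) (hP' (n - i)))

end Terms

end Groth.Agent.Lib.LTensorCxBdd
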