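import Groth.Agent.Lib.KunnethTop25
import Groth.Agent.Lib.CplTensorMod25
import Groth.Agent.Lib.LTensorCxBdd
import Groth.Agent.Lib.ProjResolution
import Groth.Agent.Lib.DCopower
import Mathlib.RingTheory.PicardGroup
import Mathlib.Algebra.Homology.BifunctorShift
import Mathlib.Algebra.Homology.DerivedCategory.FullyFaithful

/-!
# Invertible objects of `D(A)` for a local ring `A` (helper25)

If `P`, `F` are bounded above complexes of projective modules over a local ring with finite cohomology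
and `P ⊗ F ≅ A[0]` in `D(A)`, then `P ≅ A[n]` and `F ≅ A[-n]` in `D(A)`.
-/

set_option autoImplicit false
set_option linter.unusedSectionVars false
set_option linter.style.haveILetI false
universe u

open CategoryTheory Category Limits MonoidalCategory CochainComplex TensorProduct

attribute [local instance] HasDerivedCategory.standard

namespace Groth.Agent.Lib.InvObjLocal25

open Groth.Agent.Lib.HomTensor25 Groth.Agent.Lib.ModCxElem25 Groth.Agent.Lib.KunnethTop25
open DerivedCategory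

section Algebra

variable {A : Type u} [CommRing A] [IsLocalRing A]

lemma nontrivial_tensor (M N : Type u) [AddCommGroup M] [Module A M] [AddCommGroup N] [Module A N]
    [Module.Finite A M] [Module.Finite A N] [Nontrivial M] [Nontrivial N] :
    Nontrivial (M ⊗[A] N) := by
  let k := IsLocalRing.ResidueField A
  have h1 : Nontrivial (k ⊗[A] M) := by
    rw [← not_subsingleton_iff_nontrivial, IsLocalRing.subsingleton_tensorProduct]
    exact not_subsingleton M
  have h2 : Nontrivial (k ⊗[A] N) := by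
    rw [← not_subsingleton_iff_nontrivial, IsLocalRing.subsingleton_tensorProduct]
    exact not_subsingleton N
  have h3 : Nontrivial ((k ⊗[A] M) ⊗[k] (k ⊗[A] N)) := inferInstance
  have h4 : Nontrivial (k ⊗[A] (M ⊗[A] N)) :=
    (TensorProduct.AlgebraTensorModule.distribBaseChange A k M N).toEquiv.nontrivial
  rw [← not_subsingleton_iff_nontrivial]
  intro h
  have := (IsLocalRing.subsingleton_tensorProduct (R := A) (M := M ⊗[A] N)).mpr h
  exact not_subsingleton _ this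

lemma linearEquiv_of_tensor_equiv (M N : Type u) [AddCommGroup M] [Module A M] [AddCommGroup N]
    [Module A N] (e : M ⊗[A] N ≃ₗ[A] A) : Nonempty (M ≃ₗ[A] A) := by
  have := Module.Invertible.left e
  exact Module.Invertible.free_iff_linearEquiv.mp inferInstance

end Algebra

variable {A : Type u} [CommRing A]

/-- Künneth in the top degree, general indexing -/
theorem nonempty_homology_equiv' (P F : DRing.Cx A) (a e n : ℤ) (hn : a + e = n)
    (hP : ∀ p : ℤ, a < p → IsZero (P.X p)) (hF : ∀ q : ℤ, e < q → IsZero (F.X q)) :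
    Nonempty ((T P F).homology n ≃ₗ[A] (P.homology a ⊗[A] F.homology e)) := by
  obtain ⟨a₀, rfl⟩ : ∃ a₀, a = a₀ + 1 := ⟨a - 1, by omega⟩
  obtain ⟨e₀, rfl⟩ : ∃ e₀, e = e₀ + 1 := ⟨e - 1, by omega⟩
  obtain rfl : n = a₀ + e₀ + 1 + 1 := by omega
  exact nonempty_homology_equiv P F a₀ e₀ hP hF

/-- the complex `A[-a]` -/
noncomputable abbrev Sg (a : ℤ) : DRing.Cx A :=
  (HomologicalComplex.single (ModuleCat.{u} A) (ComplexShape.up ℤ) a).obj (ModuleCat.of A A)

/-- chain level retraction onto a free top cohomology module of rank one -/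
lemma exists_retract (K : DRing.Cx A) (a : ℤ) (hK : IsZero (K.X (a + 1)))
    (ρ : K.homology a ≃ₗ[A] A) :
    ∃ (s : Sg a ⟶ K) (r : K ⟶ Sg (A := A) a), s ≫ r = 𝟙 _ := by
  obtain ⟨x, hx⟩ := topProj_surjective K a hK (ρ.symm 1)
  let φs : ModuleCat.of A A ⟶ K.X a := ModuleCat.ofHom (LinearMap.toSpanSingleton A _ x)
  let φr : K.X a ⟶ ModuleCat.of A A := ModuleCat.ofHom (ρ.toLinearMap ∘ₗ topProj K a hK)
  have h1 : ∀ k : ℤ, (ComplexShape.up ℤ).Rel a k → φs ≫ K.d a k = 0 := by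
    intro k hk
    obtain rfl : a + 1 = k := hk
    exact hK.eq_of_tgt _ _
  have h2 : ∀ i : ℤ, (ComplexShape.up ℤ).Rel i a → K.d i a ≫ φr = 0 := by
    intro i hi
    have hi' : i + 1 = a := hi
    ext y
    change ρ (topProj K a hK ((K.d i a).hom y)) = 0
    rw [exact_topProj K a hK i hi' |>.apply_apply_eq_zero, map_zero]
  have h3 : φs ≫ φr = 𝟙 _ := by
    ext
    change ρ (topProj K a hK ((1 : A) • x)) = 1
    rw [one_smul, hx, LinearEquiv.apply_symm_apply]
  refine ⟨HomologicalComplex.mkHomFromSingle φs h1, HomologicalComplex.mkHomToSingle φr h2, ?_⟩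
  apply HomologicalComplex.from_single_hom_ext
  rw [HomologicalComplex.comp_f, HomologicalComplex.mkHomFromSingle_f,
    HomologicalComplex.mkHomToSingle_f, assoc, reassoc_of% h3, Iso.hom_inv_id,
    HomologicalComplex.id_f]

/-- `P ⊗ A[-i] ≅ P[-i]` (as in helper54's `TensorTorAmp54`) -/
noncomputable def tensorSgIso (P : DRing.Cx A) (i : ℤ) : P ⊗ Sg (A := A) i ≅ P⟦-i⟧ :=
  whiskerLeftIso P (((CochainComplex.singleFunctors (ModuleCat.{u} A)).shiftIso (-i) i 0
      (by simp)).app (ModuleCat.of A A)).symm ≪≫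
    CochainComplex.mapBifunctorShift₂Iso P (𝟙_ (DRing.Cx A)) (curriedTensor (ModuleCat.{u} A)) (-i) ≪≫
    (CategoryTheory.shiftFunctor (DRing.Cx A) (-i)).mapIso (ρ_ P)

section DLemmas

lemma isZero_of_retract {C : Type*} [Category C] [HasZeroMorphisms C] {X Y : C} (i : X ⟶ Y)
    (r : Y ⟶ X) (h : i ≫ r = 𝟙 X) (hY : IsZero Y) : IsZero X := by
  rw [IsZero.iff_id_eq_zero, ← h, hY.eq_of_tgt i 0, zero_comp]

lemma isGE_isLE_of_retract {Y W : Dual.D A} (i : Y ⟶ W) (r : W ⟶ Y) (h : i ≫ r = 𝟙 Y) (n : ℤ)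
    [W.IsGE n] [W.IsLE n] : Y.IsGE n ∧ Y.IsLE n := by
  constructor
  · rw [DerivedCategory.isGE_iff]
    intro j hj
    refine isZero_of_retract ((homologyFunctor _ j).map i) ((homologyFunctor _ j).map r) ?_
      (DerivedCategory.isZero_of_isGE W n j hj)
    rw [← CategoryTheory.Functor.map_comp, h, CategoryTheory.Functor.map_id]
  · rw [DerivedCategory.isLE_iff]
    intro j hj
    refine isZero_of_retract ((homologyFunctor _ j).map i) ((homologyFunctor _ j).map r) ?_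
      (DerivedCategory.isZero_of_isLE W n j hj)
    rw [← CategoryTheory.Functor.map_comp, h, CategoryTheory.Functor.map_id]

lemma isGE_isLE_of_shift_iso (X : DRing.Cx A) (k m : ℤ) (hkm : k = m) (Y : Dual.D A)
    (e : Y ≅ Q.obj (X⟦k⟧)) [Y.IsGE 0] [Y.IsLE 0] : (Q.obj X).IsGE m ∧ (Q.obj X).IsLE m := by
  subst hkm
  let e' : Y ≅ (Q.obj X)⟦k⟧ := e ≪≫ (Q.commShiftIso k).app X
  haveI : ((Q.obj X)⟦k⟧).IsGE 0 := TStructure.t.isGE_of_iso e' 0
  haveI : ((Q.obj X)⟦k⟧).IsLE 0 := TStructure.t.isLE_of_iso e' 0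
  exact ⟨TStructure.t.isGE_of_shift (Q.obj X) k k 0 (by omega),
    TStructure.t.isLE_of_shift (Q.obj X) k k 0 (by omega)⟩

lemma nonempty_iso_shift_of_conc (X : Dual.D A) (m n : ℤ) (h : n + m = 0) [X.IsGE m] [X.IsLE m]
    (e : Dual.HD A X m ≃ₗ[A] A) : Nonempty (X ≅ (Dual.inD A A)⟦n⟧) := by
  obtain ⟨Y, ⟨i⟩⟩ := DerivedCategory.exists_iso_singleFunctor_obj_of_isGE_of_isLE X m
  let j : Y ≅ ModuleCat.of A A :=
    ((DerivedCategory.singleFunctorCompHomologyFunctorIso (ModuleCat.{u} A) m).app Y).symm ≪≫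
      (homologyFunctor _ m).mapIso i.symm ≪≫ e.toModuleIso
  exact ⟨i ≪≫ (DerivedCategory.singleFunctor _ m).mapIso j ≪≫
    (((DerivedCategory.singleFunctors (ModuleCat.{u} A)).shiftIso n m 0 h).app
      (ModuleCat.of A A)).symm⟩

lemma nontrivial_HD_inD [Nontrivial A] : Nontrivial (Dual.HD A (Dual.inD A A) 0) :=
  ((DerivedCategory.singleFunctorCompHomologyFunctorIso (ModuleCat.{u} A) 0).app
    (ModuleCat.of A A)).toLinearEquiv.toEquiv.nontrivial

/-- tensor products of quasi-isomorphic K-projective, K-flat complexes -/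
lemma nonempty_Q_tensor_iso (P' P X' X : DRing.Cx A) [P'.IsKProjective] [X'.IsKProjective]
    (hP : Groth.Agent.Lib.KFlat35.IsKFlat P) (hX' : Groth.Agent.Lib.KFlat35.IsKFlat X')
    (eP : Q.obj P' ≅ Q.obj P) (eX : Q.obj X' ≅ Q.obj X) :
    Nonempty (Q.obj (T P' X') ≅ Q.obj (T P X)) := by
  obtain ⟨φ, hφ⟩ := Groth.Agent.Lib.DCopower.exists_Q_map_eq P' P eP.hom
  obtain ⟨ψ, hψ⟩ := Groth.Agent.Lib.DCopower.exists_Q_map_eq X' X eX.hom
  haveI : QuasiIso φ := by
    rw [← DerivedCategory.isIso_Q_map_iff_quasiIso, hφ]; infer_instance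
  haveI : QuasiIso ψ := by
    rw [← DerivedCategory.isIso_Q_map_iff_quasiIso, hψ]; infer_instance
  haveI h1 : QuasiIso (φ ▷ X') := Groth.Agent.Lib.KFlat35.quasiIso_tensorHom_right hX' φ
  haveI h2 : QuasiIso (P ◁ ψ) := Groth.Agent.Lib.CplTensor25.quasiIso_whiskerLeft_of_isKFlat' hP ψ
  haveI : IsIso (Q.map (φ ▷ X')) := by
    rw [DerivedCategory.isIso_Q_map_iff_quasiIso]; infer_instance
  haveI : IsIso (Q.map (P ◁ ψ)) := by
    rw [DerivedCategory.isIso_Q_map_iff_quasiIso]; infer_instance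
  exact ⟨asIso (Q.map (φ ▷ X')) ≪≫ asIso (Q.map (P ◁ ψ))⟩

end DLemmas

section Main

variable [IsLocalRing A]

/-- `H^i(Q K) ≃ H^i(K)` -/
noncomputable def hdEquiv (K : DRing.Cx A) (i : ℤ) : Dual.HD A (Q.obj K) i ≃ₗ[A] K.homology i :=
  ((DerivedCategory.homologyFunctorFactors (ModuleCat.{u} A) i).app K).toLinearEquiv

/-- `H^i` of isomorphic objects -/
noncomputable def hdCongr {X Y : Dual.D A} (e : X ≅ Y) (i : ℤ) : Dual.HD A X i ≃ₗ[A] Dual.HD A Y i :=
  ((homologyFunctor (ModuleCat.{u} A) i).mapIso e).toLinearEquiv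

noncomputable def hdInD : Dual.HD A (Dual.inD A A) 0 ≃ₗ[A] A :=
  ((DerivedCategory.singleFunctorCompHomologyFunctorIso (ModuleCat.{u} A) 0).app
    (ModuleCat.of A A)).toLinearEquiv

lemma exists_top (K : DRing.Cx A) (b : ℤ) (hb : DRing.VanishesAbove K b)
    (hne : ∃ i, Nontrivial (Dual.HD A (Q.obj K) i)) :
    ∃ a : ℤ, Nontrivial (Dual.HD A (Q.obj K) a) ∧
      ∀ i : ℤ, a < i → Subsingleton (Dual.HD A (Q.obj K) i) := by
  have hbd : ∃ b : ℤ, ∀ z : ℤ, Nontrivial (Dual.HD A (Q.obj K) z) → z ≤ b := by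
    refine ⟨b, fun z hz => ?_⟩
    by_contra hlt
    push Not at hlt
    haveI : (Q.obj K).IsLE b := Groth.Agent.Lib.CplTensor25.isLE_of_iso_Q' K (Iso.refl _) b hb
    have := Groth.Agent.Lib.ProjResolution.subsingleton_of_isLE A (Q.obj K) b z hlt
    exact not_subsingleton _ this
  obtain ⟨a, ha, ha'⟩ := Int.exists_greatest_of_bdd hbd hne
  refine ⟨a, ha, fun i hi => ?_⟩
  by_contra hns
  rw [not_subsingleton_iff_nontrivial] at hns
  have := ha' i hns
  omega

lemma acyclic_of_forall_subsingleton (K : DRing.Cx A)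
    (h : ∀ i, Subsingleton (Dual.HD A (Q.obj K) i)) : K.Acyclic := by
  intro i
  rw [HomologicalComplex.exactAt_iff_isZero_homology]
  have := h i
  haveI : Subsingleton (K.homology i) := (hdEquiv K i).symm.toEquiv.subsingleton
  exact ModuleCat.isZero_of_subsingleton _

lemma not_acyclic_of_iso (K : DRing.Cx A) (e : Q.obj K ≅ Dual.inD A A) : ¬ K.Acyclic := by
  intro hac
  have h0 : IsZero (K.homology 0) := (hac 0).isZero_homology
  haveI : Subsingleton (K.homology 0) := ModuleCat.subsingleton_of_isZero h0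
  haveI : Subsingleton A := (hdInD.symm ≪≫ₗ (hdCongr e 0).symm ≪≫ₗ hdEquiv K 0).toEquiv.subsingleton
  exact not_subsingleton A inferInstance

theorem chain_main (P₀ F₀ : DRing.Cx A) (bP bF : ℤ) (hP₀b : DRing.VanishesAbove P₀ bP)
    (hP₀p : ∀ i, Module.Projective A (P₀.X i)) (hF₀b : DRing.VanishesAbove F₀ bF)
    (hF₀p : ∀ i, Module.Projective A (F₀.X i))
    (hPfin : ∀ i : ℤ, Module.Finite A (Dual.HD A (Q.obj P₀) i))
    (hFfin : ∀ i : ℤ, Module.Finite A (Dual.HD A (Q.obj F₀) i))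
    (e₀ : Q.obj (T P₀ F₀) ≅ Dual.inD A A) :
    ∃ n : ℤ, Nonempty (Q.obj P₀ ≅ (Dual.inD A A)⟦n⟧) ∧
      Nonempty (Q.obj F₀ ≅ (Dual.inD A A)⟦-n⟧) := by
  have hP₀fl : Groth.Agent.Lib.KFlat35.IsKFlat P₀ :=
    isKFlat_of_flat P₀ (fun i => by haveI := hP₀p i; infer_instance) bP hP₀b
  have hF₀fl : Groth.Agent.Lib.KFlat35.IsKFlat F₀ :=
    isKFlat_of_flat F₀ (fun i => by haveI := hF₀p i; infer_instance) bF hF₀b
  have hnac := not_acyclic_of_iso (T P₀ F₀) e₀
  -- nonvanishing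
  have hPne : ∃ i, Nontrivial (Dual.HD A (Q.obj P₀) i) := by
    by_contra hcon
    push Not at hcon
    exact hnac (hF₀fl P₀ (acyclic_of_forall_subsingleton P₀
      hcon))
  have hFne : ∃ i, Nontrivial (Dual.HD A (Q.obj F₀) i) := by
    by_contra hcon
    push Not at hcon
    exact hnac (Groth.Agent.Lib.TensorCxZ35.acyclic_tensorObj_of_flat P₀ F₀
      (fun i => by haveI := hP₀p i; infer_instance) bP hP₀b (acyclic_of_forall_subsingleton F₀
      hcon))
  obtain ⟨a, ha, ha'⟩ := exists_top P₀ bP hP₀b hPne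
  obtain ⟨e, he, he'⟩ := exists_top F₀ bF hF₀b hFne
  obtain ⟨P, hPb, hPp, ⟨eP⟩⟩ :=
    Groth.Agent.Lib.ProjResolution.exists_projective_rep A (Q.obj P₀) a ha'
  obtain ⟨F, hFb, hFp, ⟨eF⟩⟩ :=
    Groth.Agent.Lib.ProjResolution.exists_projective_rep A (Q.obj F₀) e he'
  haveI : P.IsKProjective := Groth.Agent.Lib.LTensorCxBdd.isKProjective_of_vanishesAbove hPb hPp
  haveI : F.IsKProjective := Groth.Agent.Lib.LTensorCxBdd.isKProjective_of_vanishesAbove hFb hFp
  have hFfl : Groth.Agent.Lib.KFlat35.IsKFlat F :=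
    isKFlat_of_flat F (fun i => by haveI := hFp i; infer_instance) e hFb
  let e₁ : Q.obj (T P F) ≅ Dual.inD A A :=
    (nonempty_Q_tensor_iso P P₀ F F₀ hP₀fl hFfl eP eF).some ≪≫ e₀
  -- Künneth
  let uP : P.homology a ≃ₗ[A] Dual.HD A (Q.obj P₀) a := (hdEquiv P a).symm ≪≫ₗ hdCongr eP a
  let uF : F.homology e ≃ₗ[A] Dual.HD A (Q.obj F₀) e := (hdEquiv F e).symm ≪≫ₗ hdCongr eF e
  haveI := hPfin a
  haveI := hFfin e
  haveI : Module.Finite A (P.homology a) := Module.Finite.equiv uP.symm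
  haveI : Module.Finite A (F.homology e) := Module.Finite.equiv uF.symm
  haveI : Nontrivial (P.homology a) := uP.toEquiv.nontrivial
  haveI : Nontrivial (F.homology e) := uF.toEquiv.nontrivial
  haveI := nontrivial_tensor (A := A) (P.homology a) (F.homology e)
  have hae : a + e = 0 := by
    obtain ⟨κ⟩ := nonempty_homology_equiv' P F a e (a + e) rfl hPb hFb
    have hTne : Nontrivial (Dual.HD A (Dual.inD A A) (a + e)) :=
      ((hdCongr e₁ (a + e)).symm ≪≫ₗ hdEquiv (T P F) (a + e) ≪≫ₗ κ).toEquiv.nontrivial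
    by_contra hne
    rcases lt_or_gt_of_ne hne with hlt | hgt
    · have := ModuleCat.subsingleton_of_isZero
        (DerivedCategory.isZero_of_isGE (Dual.inD A A) 0 (a + e) hlt)
      exact not_subsingleton _ this
    · have := ModuleCat.subsingleton_of_isZero
        (DerivedCategory.isZero_of_isLE (Dual.inD A A) 0 (a + e) hgt)
      exact not_subsingleton _ this
  obtain ⟨κ⟩ := nonempty_homology_equiv' P F a e 0 hae hPb hFb
  let w : (P.homology a ⊗[A] F.homology e) ≃ₗ[A] A :=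
    κ.symm ≪≫ₗ (hdEquiv (T P F) 0).symm ≪≫ₗ hdCongr e₁ 0 ≪≫ₗ hdInD
  obtain ⟨ρP⟩ := linearEquiv_of_tensor_equiv _ _ w
  obtain ⟨ρF⟩ := linearEquiv_of_tensor_equiv _ _ (TensorProduct.comm A _ _ ≪≫ₗ w)
  obtain ⟨s, r, hsr⟩ := exists_retract P a (hPb (a + 1) (by omega)) ρP
  obtain ⟨t, r', htr⟩ := exists_retract F e (hFb (e + 1) (by omega)) ρF
  -- `F` is concentrated in degree `e`
  have hF1 : (Q.map (s ▷ F) ≫ e₁.hom) ≫ (e₁.inv ≫ Q.map (r ▷ F)) = 𝟙 _ := by
    rw [assoc, Iso.hom_inv_id_assoc, ← CategoryTheory.Functor.map_comp, ← comp_whiskerRight, hsr,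
      id_whiskerRight, CategoryTheory.Functor.map_id]
  obtain ⟨hYge, hYle⟩ := isGE_isLE_of_retract _ _ hF1 0
  obtain ⟨hFge, hFle⟩ := isGE_isLE_of_shift_iso F (-a) e (by omega) _
    (Q.mapIso (tensorBraid (Sg a) F ≪≫ tensorSgIso F a))
  obtain ⟨iF⟩ := nonempty_iso_shift_of_conc (Q.obj F) e (-e) (by omega) (hdEquiv F e ≪≫ₗ ρF)
  -- `P` is concentrated in degree `a`
  have hP1 : (Q.map (P ◁ t) ≫ e₁.hom) ≫ (e₁.inv ≫ Q.map (P ◁ r')) = 𝟙 _ := by
    rw [assoc, Iso.hom_inv_id_assoc, ← CategoryTheory.Functor.map_comp,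
      ← MonoidalCategory.whiskerLeft_comp, htr, MonoidalCategory.whiskerLeft_id,
      CategoryTheory.Functor.map_id]
  obtain ⟨hZge, hZle⟩ := isGE_isLE_of_retract _ _ hP1 0
  obtain ⟨hPge, hPle⟩ := isGE_isLE_of_shift_iso P (-e) a (by omega) _
    (Q.mapIso (tensorSgIso P e))
  obtain ⟨iP⟩ := nonempty_iso_shift_of_conc (Q.obj P) a e (by omega) (hdEquiv P a ≪≫ₗ ρP)
  exact ⟨e, ⟨eP.symm ≪≫ iP⟩, ⟨eF.symm ≪≫ iF⟩⟩

end Main

end Groth.Agent.Lib.InvObjLocal25
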