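import Groth.Agent.Lib.H78PullSec
import Groth.Agent.Lib.H90OXModLocal
import Groth.Agent.Lib.H90InvertiblePullback

/-!
# Pushforward of a fibrewise trivial invertible module (formal part, helper21)

`f : X ⟶ Y`, `N` an `O_X`-module.  Suppose every `y ∈ Y` has an open neighbourhood `U` such that `N` has a free
generator over `f⁻¹U` and `O_Y(W) → O_X(f⁻¹W)` is bijective for all `W ≤ U`.  Then `f_* N` is invertible and the
counit `f^* f_* N ⟶ N` is an isomorphism.
-/

set_option autoImplicit false
set_option linter.style.haveILetI false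
universe u

open CategoryTheory CategoryTheory.Limits AlgebraicGeometry Opposite TopologicalSpace

namespace Groth.Agent.Lib.InvPush21

open Groth.Agent.Lib.H90Invertible Groth.Agent.Lib.H78SecCoord Groth.Agent.Lib.H78PullSec
  Groth.Agent.Lib.H78TensorGen

variable {X Y : Scheme.{u}} (f : X ⟶ Y) (N : X.Modules)

/-- a generator of `N` over `f⁻¹U` is a generator of `f_* N` over `U` when `O_Y → f_* O_X` is bijective over `U` -/
theorem isGen_push {U : Y.Opens} (s : Γ(N, f ⁻¹ᵁ U)) (hs : IsGen N (f ⁻¹ᵁ U) s)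
    (hO : ∀ W : Y.Opens, W ≤ U → Function.Bijective (f.app W)) :
    IsGen ((Scheme.Modules.pushforward f).obj N) U (toPush f N U s) := by
  intro W hW
  have h1 := hs (f ⁻¹ᵁ W) (f.preimage_mono hW)
  have h2 := hO W hW
  exact h1.comp h2

/-- `f_* N` is invertible -/
theorem isInvertible_pushforward
    (h : ∀ y : Y, ∃ U : Y.Opens, y ∈ U ∧ (∃ s : Γ(N, f ⁻¹ᵁ U), IsGen N (f ⁻¹ᵁ U) s) ∧
      ∀ W : Y.Opens, W ≤ U → Function.Bijective (f.app W)) :
    PicF.IsInvertible ((Scheme.Modules.pushforward f).obj N) := by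
  rw [isInvertible_iff_exists_isGen]
  intro y
  obtain ⟨U, hyU, ⟨s, hs⟩, hO⟩ := h y
  exact ⟨U, hyU, _, isGen_push f N s hs hO⟩

/-- the triangle identity on sections: the counit sends the pullback of a section of `f_* N` to that section -/
theorem counit_app_pb {U : Y.Opens} (σ : Γ((Scheme.Modules.pushforward f).obj N, U)) :
    ((Scheme.Modules.pullbackPushforwardAdjunction f).counit.app N).app (f ⁻¹ᵁ U)
      (pb f ((Scheme.Modules.pushforward f).obj N) σ) = ofPush f N U σ := by
  have h := (Scheme.Modules.pullbackPushforwardAdjunction f).right_triangle_components N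
  have h2 := congrArg (fun ψ => Scheme.Modules.Hom.app ψ U σ) h
  exact h2

/-- the counit `f^* f_* N ⟶ N` is an isomorphism -/
theorem isIso_counit
    (h : ∀ y : Y, ∃ U : Y.Opens, y ∈ U ∧ (∃ s : Γ(N, f ⁻¹ᵁ U), IsGen N (f ⁻¹ᵁ U) s) ∧
      ∀ W : Y.Opens, W ≤ U → Function.Bijective (f.app W)) :
    IsIso ((Scheme.Modules.pullbackPushforwardAdjunction f).counit.app N) := by
  choose U hyU hgen hO using h
  have hcov : ⨆ y, f ⁻¹ᵁ U y = ⊤ :=
    top_le_iff.1 (fun x _ => Opens.mem_iSup.2 ⟨f x, hyU (f x)⟩)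
  refine Groth.Agent.Lib.H90OXModLocal.isIso_of_small hcov _ (fun W ⟨y, hW⟩ => ?_)
  obtain ⟨s, hs⟩ := hgen y
  set ε := (Scheme.Modules.pullbackPushforwardAdjunction f).counit.app N with hε
  -- the generator of `f^* f_* N` over `f⁻¹U`
  have hσ : IsGen ((Scheme.Modules.pushforward f).obj N) (U y) (toPush f N (U y) s) :=
    isGen_push f N s hs (hO y)
  have hp := isGen_pb f hσ
  have hεp : ε.app (f ⁻¹ᵁ U y) (pb f _ (toPush f N (U y) s)) = s := counit_app_pb f N _
  rw [ConcreteCategory.isIso_iff_bijective]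
  have b1 := hp W hW
  have b2 := hs W hW
  have hcomp : (fun a : Γ(X, W) => a • N.presheaf.map (homOfLE hW).op s) =
      (ε.app W) ∘ (fun a : Γ(X, W) =>
        a • ((Scheme.Modules.pullback f).obj ((Scheme.Modules.pushforward f).obj N)).presheaf.map
          (homOfLE hW).op (pb f _ (toPush f N (U y) s))) := by
    funext a
    change _ = ε.app W (a • _)
    rw [Scheme.Modules.Hom.app_smul]
    congr 1
    have h3 : ε.app W (rs _ hW (pb f _ (toPush f N (U y) s))) = rs N hW s := by
      rw [app_rs ε hW, hεp]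
      rfl
    exact h3.symm
  rw [hcomp] at b2
  exact (Function.Bijective.of_comp_iff _ b1).1 b2

end Groth.Agent.Lib.InvPush21
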