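/-
# Sections of `P^n_R` over `Spec R` ↔ invertible quotients of `R^{n+1}` (helper3)

* `projective_of_bijective_algebraMap`, `rankAtStalk_of_bijective_algebraMap`: transfer along a bijective `algebraMap R A`;
* `sections_of_isInvertible`: on an affine scheme `Γ(L, ⊤)` of an invertible `L` is f.p. projective of rank one;
* `span_eq_top_of_generatedBy` / `generatedBy_of_span_eq_top`: on an affine scheme, stalkwise generation by global
  sections ↔ generation of the module of global sections;
* `inv_smul_eq`, `mem_secKernel_iff`: the `R`-module structure in `ProjUP.secKernel` is Mathlib's `Module R Γ(M, U)`;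
* `forward`, `backward`: the two directions of EGA II 4.2.4 for `E = O^{n+1}` over `Spec R`.
-/
import Groth.Agent.Lib.SecKernelH3
import Groth.Agent.Lib.SemilocalFree
import Groth.Agent.Lib.TildeLocFree
import Groth.Agent.S3572

set_option autoImplicit false
set_option linter.style.haveILetI false
universe u
open CategoryTheory AlgebraicGeometry TopologicalSpace Opposite Module
open Groth.Agent.Lib.H90Invertible Groth.Agent.Lib.H78TensorGen Groth.Agent.Lib.H78SecCoord
open Groth.Agent.Lib.H78Atlas Groth.Agent.Lib.PullSecH3 Groth.Agent.Lib.QCohStalk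
open Groth.Agent.Lib.GenCoverH3

namespace Groth.Agent.Lib.InvQuotH3

section Algebra

variable {R A M : Type*} [CommRing R] [CommRing A] [Algebra R A] [AddCommGroup M] [Module R M] [Module A M]
  [IsScalarTower R A M]

theorem projective_of_bijective_algebraMap (hb : Function.Bijective (algebraMap R A))
    [Module.Projective A M] : Module.Projective R M := by
  let e : R ≃+* A := RingEquiv.ofBijective (algebraMap R A) hb
  letI : RingHomInvPair (e.symm : A →+* R) (e : R →+* A) := RingHomInvPair.of_ringEquiv e.symm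
  letI : RingHomInvPair (e : R →+* A) (e.symm : A →+* R) := RingHomInvPair.of_ringEquiv e
  let f : M ≃ₛₗ[(e.symm : A →+* R)] M :=
    { AddEquiv.refl M with
      map_smul' := fun a m => by
        change a • m = (e.symm a) • m
        rw [← algebraMap_smul A (e.symm a) m]
        congr 1
        exact (e.apply_symm_apply a).symm }
  exact Module.Projective.of_equiv f

theorem isBaseChange_id_of_bijective_algebraMap (hb : Function.Bijective (algebraMap R A)) :
    IsBaseChange A (LinearMap.id : M →ₗ[R] M) := by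
  have : IsLocalization (⊥ : Submonoid R) A := by
    have : IsLocalization (⊥ : Submonoid R) R := IsLocalization.self (by
      intro x hx
      rw [Submonoid.mem_bot] at hx
      subst hx
      exact isUnit_one)
    exact IsLocalization.isLocalization_of_algEquiv _
      (AlgEquiv.ofBijective (Algebra.ofId R A) hb)
  have := isLocalizedModule_id (⊥ : Submonoid R) M A
  exact IsLocalizedModule.isBaseChange (⊥ : Submonoid R) A (LinearMap.id : M →ₗ[R] M)

theorem rankAtStalk_of_bijective_algebraMap (hb : Function.Bijective (algebraMap R A))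
    [Module.Flat R M] [Module.Finite R M] (p : PrimeSpectrum A) :
    rankAtStalk (R := A) M p = rankAtStalk (R := R) M (p.comap (algebraMap R A)) :=
  rankAtStalk_isBaseChange (isBaseChange_id_of_bijective_algebraMap (M := M) hb) p

end Algebra

section Sections

variable {Y : Scheme.{u}} {L : Y.Modules}

/-- global sections of an invertible module on an affine scheme: finitely presented, projective, of rank one -/
theorem sections_of_isInvertible (hY : IsAffineOpen (⊤ : Y.Opens)) (hL : PicF.IsInvertible L) :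
    Module.FinitePresentation Γ(Y, ⊤) Γ(L, ⊤) ∧ Module.Projective Γ(Y, ⊤) Γ(L, ⊤) ∧
      ∀ p : PrimeSpectrum Γ(Y, ⊤), rankAtStalk (R := Γ(Y, ⊤)) Γ(L, ⊤) p = 1 := by
  have hE' : FlatMod.IsFinLocFree L := isFinLocFree_of_isInvertible hL
  haveI : SheafOfModules.IsFinitePresentation (R := Y.ringCatSheaf) L :=
    isFinitePresentation_of_isFinLocFree hE'
  haveI : L.IsQuasicoherent := isQuasicoherent_of_isFinLocFree hE'
  have hfp : Module.FinitePresentation Γ(Y, ⊤) Γ(L, ⊤) :=
    Groth.Agent.Lib.H90OXModFP.finitePresentation_sections L hY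
  have hflat : Module.Flat Γ(Y, ⊤) Γ(L, ⊤) :=
    Groth.Agent.Lib.QCohFlat.flat_sections_of_flat_stalks L hY fun x => by
      have := Groth.Agent.Lib.LocFreeFP.free_stalk_of_isFinLocFree hE' x.1
      infer_instance
  refine ⟨hfp, Module.Flat.projective_of_finitePresentation, fun p => ?_⟩
  let p' : Spec Γ(Y, ⊤) := p
  let z : (⊤ : Y.Opens) := hY.isoSpec.inv p'
  have hz : hY.primeIdealOf z = p := by
    have h1 : hY.isoSpec.hom (hY.isoSpec.inv p') = p' := by
      rw [← Scheme.Hom.comp_apply, Iso.inv_hom_id]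
      rfl
    exact h1
  rw [← hz, Groth.Agent.Lib.SemilocalFree.rankAtStalk_sections_eq L hY z]
  obtain ⟨U, hzU, ⟨e⟩⟩ := (isInvertible_iff_isFinLocFreeOfRank_one L).1 hL z.1
  exact Groth.Agent.Lib.SemilocalFree.finrank_stalk_eq_of_restrict_iso U e ⟨z.1, hzU⟩

/-- on an affine scheme, sections generating an invertible module (stalkwise) generate its global sections -/
theorem span_eq_top_of_generatedBy (hY : IsAffineOpen (⊤ : Y.Opens)) (hL : PicF.IsInvertible L)
    {ι : Type*} (t : ι → Γ(L, ⊤)) (ht : ProjUP.GeneratedBy L t) :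
    Submodule.span Γ(Y, ⊤) (Set.range t) = ⊤ := by
  haveI : L.IsQuasicoherent := isQCoh_of_isInvertible hL
  rw [eq_top_iff]
  intro m _
  set N := Submodule.span Γ(Y, ⊤) (Set.range t) with hN
  let I : Ideal Γ(Y, ⊤) := N.colon {m}
  suffices h : I = ⊤ by
    have h1 : (1 : Γ(Y, ⊤)) ∈ I := by rw [h]; trivial
    have h2 := Submodule.mem_colon_singleton.1 h1
    rwa [one_smul] at h2
  by_contra hI
  obtain ⟨𝔪, h𝔪, hle⟩ := Ideal.exists_le_maximal I hI
  let p' : Spec Γ(Y, ⊤) := ⟨𝔪, h𝔪.isPrime⟩
  let z : (⊤ : Y.Opens) := hY.isoSpec.inv p'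
  have hz : hY.primeIdealOf z = p' := by
    have h1 : hY.isoSpec.hom (hY.isoSpec.inv p') = p' := by
      rw [← Scheme.Hom.comp_apply, Iso.inv_hom_id]
      rfl
    exact h1
  have hcov := iSup_U_eq_top t hL ht
  obtain ⟨i, hi⟩ : ∃ i, z.1 ∈ U t i := by
    have hx' : z.1 ∈ ⨆ k, U t k := by rw [hcov]; trivial
    exact Opens.mem_iSup.1 hx'
  obtain ⟨g, hg, hzg⟩ := hY.exists_basicOpen_le (⟨z.1, hi⟩ : U t i) trivial
  have hg𝔪 : g ∉ 𝔪 := by
    have := (Groth.Agent.Lib.SemilocalFree.mem_basicOpen_iff_notMem_primeIdealOf hY z g).1 hzg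
    rw [hz] at this
    exact this
  have hloc := hY.isLocalization_basicOpen g
  have hpow : ∃ k, g ^ k ∈ I := by
    set a := coord (isGen_U t i) hg (rs L le_top m) with ha
    have hspec : a • rs L hg (rs L le_top (t i)) = rs L le_top m := coord_spec (isGen_U t i) hg _
    rw [rs_rs] at hspec
    obtain ⟨k, b, hb⟩ := IsLocalization.Away.surj g a
    have hb' : a * (rf (le_top : Y.basicOpen g ≤ ⊤) g) ^ k = rf le_top b := hb
    have hσ : res L (Y.basicOpen_le g) (g ^ k • m - b • t i) = 0 := by
      change rs L _ (g ^ k • m - b • t i) = 0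
      have h1 : rs L (Y.basicOpen_le g) (g ^ k • m - b • t i) =
          rs L (Y.basicOpen_le g) (g ^ k • m) - rs L (Y.basicOpen_le g) (b • t i) :=
        map_sub (L.presheaf.map (homOfLE (Y.basicOpen_le g)).op).hom _ _
      rw [h1, rs_smul, rs_smul, ← hspec, ← mul_smul, Groth.Agent.Lib.SecKernelH3.rf_pow]
      have h2 : rf (Y.basicOpen_le g) b = a * (rf (le_top : Y.basicOpen g ≤ ⊤) g) ^ k := hb'.symm
      rw [h2, mul_comm, sub_self]
    obtain ⟨k', hk'⟩ := exists_pow_smul_eq_zero L hY g _ hσ
    refine ⟨k' + k, Submodule.mem_colon_singleton.2 ?_⟩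
    have h3 : g ^ (k' + k) • m = (g ^ k' * b) • t i := by
      rw [smul_sub, sub_eq_zero] at hk'
      rw [pow_add, mul_smul, mul_smul]
      exact hk'
    rw [h3]
    exact Submodule.smul_mem _ _ (Submodule.subset_span ⟨i, rfl⟩)
  obtain ⟨k, hk⟩ := hpow
  exact hg𝔪 (h𝔪.isPrime.mem_of_pow_mem k (hle hk))

/-- on an affine scheme, global sections spanning the module of global sections of a quasi-coherent module generate
it stalkwise -/
theorem generatedBy_of_span_eq_top (hY : IsAffineOpen (⊤ : Y.Opens)) [L.IsQuasicoherent]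
    {ι : Type*} (t : ι → Γ(L, ⊤)) (ht : Submodule.span Γ(Y, ⊤) (Set.range t) = ⊤) :
    ProjUP.GeneratedBy L t := by
  intro x
  rw [eq_top_iff]
  intro ξ _
  set S := Submodule.span (Y.presheaf.stalk x)
    (Set.range fun i => (L.presheaf.germ ⊤ x trivial).hom (t i)) with hS
  -- germs of global sections lie in `S`
  have hglob : ∀ m' : Γ(L, ⊤), (L.presheaf.germ ⊤ x trivial).hom m' ∈ S := by
    intro m'
    have hm' : m' ∈ Submodule.span Γ(Y, ⊤) (Set.range t) := by rw [ht]; trivial
    induction hm' using Submodule.span_induction with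
    | mem y hy =>
      obtain ⟨i, rfl⟩ := hy
      exact Submodule.subset_span ⟨i, rfl⟩
    | zero =>
      rw [map_zero]
      exact Submodule.zero_mem _
    | add y y' _ _ hy hy' =>
      rw [map_add]
      exact Submodule.add_mem _ hy hy'
    | smul a y _ hy =>
      have := germ_smul L ⊤ x trivial a y
      rw [this]
      exact Submodule.smul_mem _ _ hy
  obtain ⟨W, hxW, m, rfl⟩ := TopCat.Presheaf.exists_germ_eq L.presheaf ξ
  obtain ⟨g, hg, hxg⟩ := hY.exists_basicOpen_le (⟨x, hxW⟩ : W) trivial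
  have hxg' : x ∈ Y.basicOpen g := hxg
  obtain ⟨k, m', hm'⟩ := exists_pow_smul_eq_res L hY g (res L hg m)
  have h1 := congrArg (L.presheaf.germ (Y.basicOpen g) x hxg').hom hm'
  have h2 := germ_smul L (Y.basicOpen g) x hxg' ((resO Y (Y.basicOpen_le g) g) ^ k) (res L hg m)
  have h3 : (L.presheaf.germ (Y.basicOpen g) x hxg').hom (res L hg m) =
      (L.presheaf.germ W x hxW).hom m := germ_res L hg x hxg' m
  have h4 : (L.presheaf.germ (Y.basicOpen g) x hxg').hom (res L (Y.basicOpen_le g) m') =
      (L.presheaf.germ ⊤ x trivial).hom m' := germ_res L (Y.basicOpen_le g) x hxg' m'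
  have hu : IsUnit (Y.presheaf.germ (Y.basicOpen g) x hxg' ((resO Y (Y.basicOpen_le g) g) ^ k)) := by
    rw [map_pow]
    refine IsUnit.pow _ ?_
    exact (RingedSpace.isUnit_res_basicOpen _ g).map _
  obtain ⟨v, hv⟩ := hu
  have h5 : (L.presheaf.germ W x hxW).hom m =
      (↑v⁻¹ : Y.presheaf.stalk x) • (L.presheaf.germ ⊤ x trivial).hom m' := by
    rw [← h4, ← h1, h2, h3, ← hv, smul_smul, Units.inv_mul, one_smul]
  rw [h5]
  exact Submodule.smul_mem _ _ (hglob m')

end Sections

section SpecR

variable {R : CommRingCat.{u}}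

theorem inv_smul_eq (N : (Spec R).Modules) (r : R) (x : Γ(N, ⊤)) :
    (Scheme.ΓSpecIso R).inv.hom r • x = r • x := by
  rw [Scheme.Modules.smul_Spec_def]
  congr 1


end SpecR

section Forward

variable (n : ℕ) (R : CommRingCat.{u})

local notation "𝒜" => CohB1.polyGrading n R
local notation "O1" => Twist.twist (CohB1.polyGrading n R) 1

theorem mem_secKernel_iff (s : Spec R ⟶ Proj (CohB1.polyGrading n R)) (c : Fin (n + 1) → R) :
    c ∈ ProjUP.secKernel n R s ↔
      ∑ k, c k • ProjUP.pullSec s O1 (ProjUP.coord n R k) = 0 := by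
  letI : Module R (ProjUP.Γm ((Scheme.Modules.pullback s).obj (Twist.twistProjSpace n R 1))) :=
    Module.compHom _ (Scheme.ΓSpecIso R).inv.hom
  change c ∈ LinearMap.ker (Fintype.linearCombination R
    (fun i => ProjUP.pullSec s (Twist.twistProjSpace n R 1) (ProjUP.coord n R i))) ↔ _
  rw [LinearMap.mem_ker, Fintype.linearCombination_apply]
  refine Iff.of_eq (congrArg (· = 0) (Finset.sum_congr rfl (fun k _ => ?_)))
  exact inv_smul_eq _ (c k) _

/-- **(⇒)**: for a section `s` of `P^n_R`, the quotient `R^{n+1}/F(s)` is projective of rank one -/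
theorem forward (s : Spec R ⟶ Proj (CohB1.polyGrading n R)) :
    Module.Projective R ((Fin (n + 1) → R) ⧸ ProjUP.secKernel n R s) ∧
      ∀ p : PrimeSpectrum R,
        rankAtStalk (R := R) ((Fin (n + 1) → R) ⧸ ProjUP.secKernel n R s) p = 1 := by
  set L := (Scheme.Modules.pullback s).obj O1 with hLdef
  let t : Fin (n + 1) → Γ(L, ⊤) := fun k => ProjUP.pullSec s O1 (ProjUP.coord n R k)
  have hL : PicF.IsInvertible L := Groth.Agent.Lib.SecKernelH3.isInvertible_pullback_O1 n R s
  have ht : ProjUP.GeneratedBy L t := Groth.Agent.Lib.SecKernelH3.generatedBy_pullSec n R s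
  have hY : IsAffineOpen (⊤ : (Spec R).Opens) := isAffineOpen_top _
  obtain ⟨hfp, hproj, hrank⟩ := sections_of_isInvertible hY hL
  have hb := Groth.Agent.Lib.H90OXModTilde.bijective_algebraMap_ΓSpec (R := R)
  have hprojR : Module.Projective R Γ(L, ⊤) := projective_of_bijective_algebraMap hb
  have hfinRA : Module.Finite R Γ(Spec R, ⊤) := Module.Finite.of_surjective (Algebra.linearMap R _) hb.2
  have hfinR : Module.Finite R Γ(L, ⊤) := Module.Finite.trans Γ(Spec R, ⊤) Γ(L, ⊤)
  have hrankR : ∀ q : PrimeSpectrum R, rankAtStalk (R := R) Γ(L, ⊤) q = 1 := by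
    intro q
    let e : R ≃+* Γ(Spec R, ⊤) := RingEquiv.ofBijective (algebraMap R Γ(Spec R, ⊤)) hb
    let p : PrimeSpectrum Γ(Spec R, ⊤) := q.comap (e.symm : Γ(Spec R, ⊤) →+* R)
    have hp : p.comap (algebraMap R Γ(Spec R, ⊤)) = q := by
      ext x
      change e.symm (algebraMap R Γ(Spec R, ⊤) x) ∈ q.asIdeal ↔ _
      rw [show algebraMap R Γ(Spec R, ⊤) x = e x from rfl, e.symm_apply_apply]
    rw [← hp, ← rankAtStalk_of_bijective_algebraMap hb p]
    exact hrank p
  -- the surjection `R^{n+1} → Γ(L, ⊤)`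
  let π : (Fin (n + 1) → R) →ₗ[R] Γ(L, ⊤) := Fintype.linearCombination R t
  have hker : LinearMap.ker π = ProjUP.secKernel n R s := by
    ext c
    rw [mem_secKernel_iff, LinearMap.mem_ker, Fintype.linearCombination_apply]
  have hsurj : Function.Surjective π := by
    rw [← LinearMap.range_eq_top, Fintype.range_linearCombination,
      ← Submodule.restrictScalars_span R Γ(Spec R, ⊤) hb.2, span_eq_top_of_generatedBy hY hL t ht]
    rfl
  rw [← hker]
  let eq := LinearMap.quotKerEquivOfSurjective π hsurj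
  exact ⟨Module.Projective.of_equiv' eq.symm, fun p => by rw [rankAtStalk_eq_of_equiv eq]; exact hrankR p⟩

end Forward

section Backward

variable (n : ℕ) (R : CommRingCat.{u}) (F : Submodule R (Fin (n + 1) → R))

/-- **(⇐)**: if `R^{n+1}/F` is projective of rank one, `F` is the relation module of a section of `P^n_R` -/
theorem backward [hproj : Module.Projective R ((Fin (n + 1) → R) ⧸ F)]
    (hrank : ∀ p : PrimeSpectrum R, rankAtStalk (R := R) ((Fin (n + 1) → R) ⧸ F) p = 1) :
    ∃ s : Spec R ⟶ Proj (CohB1.polyGrading n R),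
      s ≫ (CohB1.ProjSpace.toSpec n R : Proj (CohB1.polyGrading n R) ⟶ _) = 𝟙 _ ∧
        ProjUP.secKernel n R s = F := by
  let Qm : ModuleCat.{u} R := ModuleCat.of R ((Fin (n + 1) → R) ⧸ F)
  set L : (Spec R).Modules := tilde Qm with hLdef
  have hY : IsAffineOpen (⊤ : (Spec R).Opens) := isAffineOpen_top _
  have hb := Groth.Agent.Lib.H90OXModTilde.bijective_algebraMap_ΓSpec (R := R)
  have hflf : FlatMod.IsFinLocFree L :=
    (Groth.Agent.Lib.TildeLocFree.isFinLocFree_tilde_iff Qm).2 ⟨inferInstance, hproj⟩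
  let eTop : ((Fin (n + 1) → R) ⧸ F) ≃ₗ[R] Γ(L, ⊤) := (tilde.isoTop Qm).toLinearEquiv
  have hflatR : Module.Flat R Γ(L, ⊤) := Module.Flat.of_linearEquiv eTop.symm
  have hfinR : Module.Finite R Γ(L, ⊤) := Module.Finite.equiv eTop
  have hL : PicF.IsInvertible L := by
    rw [isInvertible_iff_isFinLocFreeOfRank_one]
    intro x
    obtain ⟨U, n', hxU, ⟨e⟩⟩ := hflf x
    have h1 := Groth.Agent.Lib.SemilocalFree.finrank_stalk_eq_of_restrict_iso U e ⟨x, hxU⟩
    have h2 := Groth.Agent.Lib.SemilocalFree.rankAtStalk_sections_eq L hY ⟨x, trivial⟩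
    have h3 := rankAtStalk_of_bijective_algebraMap (M := Γ(L, ⊤)) hb (hY.primeIdealOf ⟨x, trivial⟩)
    have h4 := congrFun (rankAtStalk_eq_of_equiv eTop)
      ((hY.primeIdealOf ⟨x, trivial⟩).comap (algebraMap R Γ(Spec R, ⊤)))
    have h5 : n' = 1 := by
      rw [← h1, ← h2, h3, ← h4]
      exact hrank _
    subst h5
    exact ⟨U, hxU, ⟨e⟩⟩
  -- the generating sections
  let σ : Fin (n + 1) → Γ(L, ⊤) := fun k => eTop (Submodule.Quotient.mk (Pi.single k 1))
  have hπ : Fintype.linearCombination R σ = eTop.toLinearMap ∘ₗ F.mkQ := by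
    refine LinearMap.pi_ext (fun i x => ?_)
    rw [Fintype.linearCombination_apply_single]
    change x • eTop (Submodule.Quotient.mk (Pi.single i 1)) = eTop (Submodule.Quotient.mk (Pi.single i x))
    rw [← eTop.map_smul, ← Submodule.Quotient.mk_smul, ← Pi.single_smul, smul_eq_mul, mul_one]
  have hspanR : Submodule.span R (Set.range σ) = ⊤ := by
    rw [← Fintype.range_linearCombination, hπ, LinearMap.range_eq_top]
    exact eTop.surjective.comp (Submodule.mkQ_surjective F)
  have hspanA : Submodule.span Γ(Spec R, ⊤) (Set.range σ) = ⊤ := by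
    rw [← Submodule.restrictScalars_span R Γ(Spec R, ⊤) hb.2] at hspanR
    exact (Submodule.restrictScalars_eq_top_iff R Γ(Spec R, ⊤) Γ(L, ⊤)).1 hspanR
  have hσ : ProjUP.GeneratedBy L σ := generatedBy_of_span_eq_top hY σ hspanA
  obtain ⟨r, hr, τ, hτ⟩ : ∃ (r : Spec R ⟶ Proj (CohB1.polyGrading n R))
      (_ : r ≫ (CohB1.ProjSpace.toSpec n R : Proj (CohB1.polyGrading n R) ⟶ _) = 𝟙 _)
      (τ : (Scheme.Modules.pullback r).obj (Twist.twist (CohB1.polyGrading n R) 1) ≅ L),
      ∀ i, τ.hom.app ⊤ (ProjUP.pullSec r (Twist.twist (CohB1.polyGrading n R) 1) (ProjUP.coord n R i)) = σ i :=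
    Groth.Agent.S3572.result (R := R) n (𝟙 (Spec R)) L hL σ hσ
  refine ⟨r, hr, ?_⟩
  ext c
  rw [mem_secKernel_iff n R r c]
  have hbij := ConcreteCategory.bijective_of_isIso (τ.hom.app ⊤)
  have happ : (τ.hom.app ⊤) (∑ k, c k • ProjUP.pullSec r (Twist.twist (CohB1.polyGrading n R) 1)
      (ProjUP.coord n R k)) = Fintype.linearCombination R σ c := by
    rw [map_sum, Fintype.linearCombination_apply]
    refine Finset.sum_congr rfl (fun k _ => ?_)
    rw [← inv_smul_eq, Scheme.Modules.Hom.app_smul, inv_smul_eq]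
    congr 1
    exact hτ k
  constructor
  · intro h
    rw [h, map_zero, hπ] at happ
    have h1 : eTop (Submodule.Quotient.mk c) = 0 := happ.symm
    rw [LinearEquiv.map_eq_zero_iff] at h1
    exact (Submodule.Quotient.mk_eq_zero F).1 h1
  · intro h
    apply hbij.1
    rw [happ, hπ, map_zero]
    change eTop (Submodule.Quotient.mk c) = 0
    rw [(Submodule.Quotient.mk_eq_zero F).2 h, map_zero]

end Backward

end Groth.Agent.Lib.InvQuotH3
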