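import Groth.Agent.Lib.BaseChangeCohH44
import Groth.Agent.Lib.H4TwistGamma
import Groth.Agent.Lib.ModPullback
import Groth.Prelude.Def_ega3

/-!
# `H^0` of the structure sheaf of a fibre (helper21)

`CohIII.fiberH f O_X y 0 ≃ₗ[κ(y)] Γ(X_y, O)`; in particular `fiberRank f O_X 0 y = 1` when
`κ(y) → Γ(X_y, O)` is bijective.
-/

set_option autoImplicit false
set_option linter.style.haveILetI false
universe u

open CategoryTheory CategoryTheory.Limits AlgebraicGeometry Opposite CohIII

namespace Groth.Agent.Lib.SteinFibre21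

variable {X Y : Scheme.{u}} (f : X ⟶ Y) (y : Y)

/-- `H^0(X_y, (O_X)_y) ≃ₗ[κ(y)] Γ(X_y, O)` -/
noncomputable def fiberH0Equiv :
    CohIII.fiberH f (Coh.structureModule X) y 0 ≃ₗ[Y.residueField y] Γ(f.fiber y, ⊤) := by
  letI : (f.fiber y).Over (Spec (CommRingCat.of ↑(Y.residueField y))) := CohIII.fiberOver f y
  let e1 : CohIII.fiberH f (Coh.structureModule X) y 0 ≃ₗ[Y.residueField y]
      Coh.HH (f.fiber y) (Coh.structureModule (f.fiber y)) 0 :=
    Groth.Agent.Lib.BaseChangeCohH44.HHlinEquiv (Y.residueField y)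
      (Groth.Agent.Lib.ModPullback.pullbackUnitIso (f.fiberι y)).symm 0
  let e2 : Coh.HH (f.fiber y) (Coh.structureModule (f.fiber y)) 0 ≃+ Γ(f.fiber y, ⊤) :=
    Groth.Agent.Lib.H4Twist.h0Equiv (Coh.structureModule (f.fiber y))
  exact
    { toFun := fun x => e2 (e1 x)
      invFun := fun s => e1.symm (e2.symm s)
      left_inv := fun x => by simp
      right_inv := fun s => by simp
      map_add' := fun x x' => by rw [map_add, map_add]
      map_smul' := fun c x => by
        rw [map_smul]
        have h := Groth.Agent.Lib.H4Twist.h0Equiv_smul (Coh.structureModule (f.fiber y))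
          (Coh.toGlobal (f.fiberToSpecResidueField y) c) (e1 x)
        exact h }

theorem fiberRank_structure_eq_one
    (hy : Function.Bijective (algebraMap (Y.residueField y) Γ(f.fiber y, ⊤))) :
    CohIII.fiberRank f (Coh.structureModule X) 0 y = 1 := by
  unfold CohIII.fiberRank
  rw [(fiberH0Equiv f y).finrank_eq]
  have e : Y.residueField y ≃ₗ[Y.residueField y] Γ(f.fiber y, ⊤) :=
    LinearEquiv.ofBijective (Algebra.linearMap (Y.residueField y) Γ(f.fiber y, ⊤)) hy
  rw [← e.finrank_eq, Module.finrank_self]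

end Groth.Agent.Lib.SteinFibre21
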