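import Groth.Agent.Lib.RankOneExact21
import Groth.Agent.Lib.FibreAlg21
import Groth.Agent.Lib.DRankBC

/-!
# Rank one exactness at a prime (helper21)

`A` Noetherian, `L` a complex of finite flat `A`-modules with `T^{-1}_L = 0`, `x` a prime with
`dRank L 0 x = 1`, and `s ∈ T^0_L(A)` whose annihilator vanishes in `A_x`.  Then `T^0_L(A)_x ≃ A_x`.
-/

set_option autoImplicit false
set_option linter.style.haveILetI false
universe u

open CategoryTheory CategoryTheory.Limits CohIII TensorProduct

namespace Groth.Agent.Lib.RankOneLoc21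

open Groth.Agent.Lib.FibreAlg21 Groth.Agent.Lib.TFunBaseChange Groth.Agent.Lib.TFunBC
  Groth.Agent.Lib.TFun Groth.Agent.Lib.TFunCompare

variable {A : Type u} [CommRing A] (L : CochainComplex (ModuleCat.{u} A) ℤ)
  (hP : ∀ i, Module.Flat A (L.X i))

omit hP in
/-- flat base change: `T^i_L(A)_x ≃ T^i_{L_x}(A_x)`, linearly over `A_x` -/
theorem nonempty_localizedModule_linearEquiv (x : PrimeSpectrum A) (i : ℤ) :
    Nonempty (LocalizedModule x.asIdeal.primeCompl (NN L i) ≃ₗ[Localization.AtPrime x.asIdeal]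
      (TFun (bcCx (algebraMap A (Localization.AtPrime x.asIdeal)) L) i).obj
        (ModuleCat.of (Localization.AtPrime x.asIdeal) (Localization.AtPrime x.asIdeal))) := by
  set R := Localization.AtPrime x.asIdeal with hR
  set T' : Type u := ↑((TFun (bcCx (algebraMap A R) L) i).obj (ModuleCat.of R R)) with hT'
  letI mA : Module A T' := Module.compHom T' (algebraMap A R)
  haveI : IsScalarTower A R T' := IsScalarTower.of_algebraMap_smul (fun a t => rfl)
  haveI : Module.Flat A (ModuleCat.of A R) := inferInstanceAs (Module.Flat A R)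
  let e1 : LocalizedModule x.asIdeal.primeCompl (NN L i) ≃ₗ[A] R ⊗[A] NN L i :=
    (LocalizedModule.equivTensorProduct x.asIdeal.primeCompl (NN L i)).restrictScalars A
  let e2 : R ⊗[A] NN L i ≃ₗ[A] NN L i ⊗[A] R := TensorProduct.comm A R (NN L i)
  let e3 : NN L i ⊗[A] R ≃ₗ[A] (TFun L i).obj (ModuleCat.of A R) :=
    LinearEquiv.ofBijective (EW.tM (TFun L i) (ModuleCat.of A R))
      (tM_bijective_of_flat L i (ModuleCat.of A R))
  let e4 : (TFun L i).obj (ModuleCat.of A R) ≃ₗ[A]
      (TFun L i).obj ((RB (A := A) R).obj (ModuleCat.of R R)) :=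
    ((TFun L i).mapIso (rbIso R R).symm).toLinearEquiv
  let e5 : (TFun L i).obj ((RB (A := A) R).obj (ModuleCat.of R R)) ≃ₗ[A]
      (RB (A := A) R).obj ((TFun (bcCx (algebraMap A R) L) i).obj (ModuleCat.of R R)) :=
    (compareIso R L i (ModuleCat.of R R)).symm.toLinearEquiv
  let e6 : (RB (A := A) R).obj ((TFun (bcCx (algebraMap A R) L) i).obj (ModuleCat.of R R)) ≃ₗ[A] T' :=
    (rbIso R T').toLinearEquiv
  let ΛA : LocalizedModule x.asIdeal.primeCompl (NN L i) ≃ₗ[A] T' :=
    e1 ≪≫ₗ e2 ≪≫ₗ e3 ≪≫ₗ e4 ≪≫ₗ e5 ≪≫ₗ e6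
  exact ⟨LinearEquiv.extendScalarsOfIsLocalization x.asIdeal.primeCompl R ΛA⟩

variable (hfin : ∀ i, Module.Finite A (L.X i))

include hP hfin in
/-- **Rank one exactness at a prime.** -/
theorem nonempty_localizedModule_equiv_self (x : PrimeSpectrum A)
    (hneg : ∀ M : ModuleCat.{u} A, IsZero ((TFun L (-1)).obj M)) (hd : dRank L 0 x = 1)
    (s : NN L 0)
    (hs : ∀ a : A, (∃ t ∈ x.asIdeal.primeCompl, t • a • s = 0) →
      ∃ t' ∈ x.asIdeal.primeCompl, t' * a = 0) :
    Nonempty (LocalizedModule x.asIdeal.primeCompl (NN L 0) ≃ₗ[Localization.AtPrime x.asIdeal]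
      Localization.AtPrime x.asIdeal) := by
  set R := Localization.AtPrime x.asIdeal with hR
  set L' := bcCx (algebraMap A R) L with hL'
  have hP' : ∀ j, Module.Flat R (L'.X j) := flat_bcCx_X R L hP
  have hfin' : ∀ j, Module.Finite R (L'.X j) := by
    intro j
    haveI := hfin j
    exact Module.Finite.equiv
      (Groth.Agent.Lib.TildePullback.extendScalarsEquiv A R (L.X j)).symm
  -- `T^{-1}` of the localized complex vanishes
  have hneg' : ∀ M : ModuleCat.{u} R, IsZero ((TFun L' (-1)).obj M) := by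
    intro M
    rw [← isZero_RB_iff (A := A)]
    exact IsZero.of_iso (hneg _) (compareIso R L (-1) M)
  have hepi : (TFun L' (-1)).PreservesEpimorphisms := preservesEpi_of_isZero_obj _ hneg'
  have hflat0 : Module.Flat R (Copc L' 0) :=
    (preservesEpi_iff L' hP' (-1) 0 (by simp)).mp hepi
  haveI := hflat0
  haveI : Module.Finite R (L'.X 0) := hfin' 0
  have h1 : Module.Finite R (Copc L' 0) := inferInstance
  haveI := h1
  have h2 : Module.Projective R (Copc L' 0) := by
    haveI : Module.Free R (Copc L' 0) := Module.free_of_flat_of_isLocalRing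
    infer_instance
  have hnext : (ComplexShape.up ℤ).next 0 = 1 := by simp
  have h3 : Module.Finite R (L'.X ((ComplexShape.up ℤ).next 0)) := hfin' _
  have h4 : Module.Projective R (L'.X ((ComplexShape.up ℤ).next 0)) := by
    haveI := h3
    haveI := hP' ((ComplexShape.up ℤ).next 0)
    haveI : Module.Free R (L'.X ((ComplexShape.up ℤ).next 0)) := Module.free_of_flat_of_isLocalRing
    infer_instance
  -- the rank at the closed point
  have hrk : Module.finrank (IsLocalRing.ResidueField R)
      ((bcCx (algebraMap R (IsLocalRing.ResidueField R)) L').homology 0) = 1 := by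
    have h := Groth.Agent.Lib.DRankBC.finrank_homology_bcCx_comp L (algebraMap A R)
      (algebraMap R (IsLocalRing.ResidueField R)) 0
    rw [h]
    exact hd
  -- the element
  obtain ⟨Λ⟩ := nonempty_localizedModule_linearEquiv L x 0
  let u := Λ (LocalizedModule.mk s 1)
  have hu : ∀ r : R, r • u = 0 → r = 0 := by
    intro r hr
    have h5 : r • LocalizedModule.mk s (1 : x.asIdeal.primeCompl) = 0 := by
      apply Λ.injective
      rw [map_smul, map_zero]
      exact hr
    obtain ⟨a, t, rfl⟩ := IsLocalization.exists_mk'_eq x.asIdeal.primeCompl r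
    rw [← Localization.mk_eq_mk', LocalizedModule.mk_smul_mk, mul_one] at h5
    rw [← LocalizedModule.zero_mk (1 : x.asIdeal.primeCompl), LocalizedModule.mk_eq] at h5
    obtain ⟨w, hw⟩ := h5
    rw [smul_zero, smul_zero, one_smul] at hw
    obtain ⟨t', ht', h6⟩ := hs a ⟨w, w.2, hw⟩
    rw [IsLocalization.mk'_eq_zero_iff]
    exact ⟨⟨t', ht'⟩, h6⟩
  obtain ⟨-, ⟨e⟩⟩ := Groth.Agent.Lib.RankOneExact21.preservesEpi_and_equiv L' 0 h1 h2 h3 h4 hrk u hu
  exact ⟨Λ.trans e⟩

end Groth.Agent.Lib.RankOneLoc21
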