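import Groth.Agent.Lib.GammaRetract
import Groth.Agent.Lib.FinLocFree
import Groth.Agent.Lib.PerfectLocal

/-!
# `f_* O_X` free of rank one on `U` ⇒ `O_Y(V) ≅ O_X(f⁻¹V)` for all `V ≤ U` (helper21)
-/

set_option autoImplicit false
set_option linter.style.haveILetI false
universe u

open CategoryTheory CategoryTheory.Limits AlgebraicGeometry Opposite

namespace Groth.Agent.Lib.SteinIso21

/-- a ring map `R → B` making `B` a free `R`-module of rank one is bijective -/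
theorem bijective_of_linearEquiv_self {R B : Type*} [CommRing R] [CommRing B] (φ : R →+* B)
    [Module R B] (hsm : ∀ (r : R) (b : B), r • b = φ r * b) (e : B ≃ₗ[R] R) :
    Function.Bijective φ := by
  set g : B := e.symm 1 with hg
  have hgen : ∀ b : B, b = φ (e b) * g := by
    intro b
    rw [← hsm, hg, ← map_smul, smul_eq_mul, mul_one, LinearEquiv.symm_apply_apply]
  have h1 : φ (e 1) * g = 1 := (hgen 1).symm
  constructor
  · rw [injective_iff_map_eq_zero]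
    intro r hr
    have h2 : r • g = 0 := by rw [hsm, hr, zero_mul]
    have h3 : e (r • g) = 0 := by rw [h2, map_zero]
    rw [map_smul, hg, LinearEquiv.apply_symm_apply, smul_eq_mul, mul_one] at h3
    exact h3
  · intro b
    refine ⟨e (b * g), ?_⟩
    have h4 := hgen (b * g)
    calc φ (e (b * g)) = φ (e (b * g)) * (φ (e 1) * g) := by rw [h1, mul_one]
      _ = (φ (e (b * g)) * g) * φ (e 1) := by ring
      _ = (b * g) * φ (e 1) := by rw [← h4]
      _ = b * (φ (e 1) * g) := by ring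
      _ = b := by rw [h1, mul_one]

open Groth.Agent.Lib.GammaRetract Groth.Agent.Lib.FinLocFree Groth.Agent.Lib.PerfectLocal

variable {X Y : Scheme.{u}} (f : X ⟶ Y)

/-- `Γ(X, f⁻¹W)` as a module over `Γ(↑V', ⊤)`, `W = V'` seen in `Y` -/
noncomputable abbrev moduleB (V' : Y.Opens) :
    Module Γ(V'.toScheme, ⊤) Γ(X, f ⁻¹ᵁ (V'.ι ''ᵁ ⊤)) :=
  inferInstanceAs (Module Γ(V'.toScheme, ⊤)
    ((Γfun V'.toScheme).obj (((Coh.push f).obj (Coh.structureModule X)).restrict V'.ι)))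

theorem moduleB_smul (V' : Y.Opens) (r : Γ(V'.toScheme, ⊤)) (b : Γ(X, f ⁻¹ᵁ (V'.ι ''ᵁ ⊤))) :
    letI := moduleB f V'
    r • b = (f.app (V'.ι ''ᵁ ⊤)).hom r * b := by
  letI := moduleB f V'
  have h1 : r • b = (show Γ(X, f ⁻¹ᵁ (V'.ι ''ᵁ ⊤)) from
      (((V'.ι.appIso ⊤).inv.hom r) •
        (show Γ((Coh.push f).obj (Coh.structureModule X), V'.ι ''ᵁ ⊤) from b) :
          Γ((Coh.push f).obj (Coh.structureModule X), V'.ι ''ᵁ ⊤))) := rfl
  rw [h1, Scheme.Opens.ι_appIso]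
  rfl

/-- if `f_* O_X` restricted to `V'` is free of rank one then `O_Y(V') → O_X(f⁻¹V')` is bijective -/
theorem bijective_app_of_restrict_iso (V' : Y.Opens)
    (ι2 : ((Coh.push f).obj (Coh.structureModule X)).restrict V'.ι ≅ FlatMod.freeMod V' 1) :
    Function.Bijective (f.app (V'.ι ''ᵁ ⊤)).hom := by
  letI := moduleB f V'
  let E : (Γfun V'.toScheme).obj
      (((Coh.push f).obj (Coh.structureModule X)).restrict V'.ι) ≃ₗ[Γ(V'.toScheme, ⊤)]
      (Γfun V'.toScheme).obj (FlatMod.freeMod V' 1) :=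
    ((Γfun V'.toScheme).mapIso ι2).toLinearEquiv
  let e2 : (Γfun V'.toScheme).obj (FlatMod.freeMod V' 1) ≃ₗ[Γ(V'.toScheme, ⊤)]
      Γ(V'.toScheme, ⊤) :=
    (basisΓ V'.toScheme 1).equivFun ≪≫ₗ
      LinearEquiv.funUnique (Fin 1) Γ(V'.toScheme, ⊤) Γ(V'.toScheme, ⊤)
  let e : Γ(X, f ⁻¹ᵁ (V'.ι ''ᵁ ⊤)) ≃ₗ[Γ(V'.toScheme, ⊤)] Γ(V'.toScheme, ⊤) := E.trans e2
  exact bijective_of_linearEquiv_self (R := Γ(V'.toScheme, ⊤)) (B := Γ(X, f ⁻¹ᵁ (V'.ι ''ᵁ ⊤)))
    (f.app (V'.ι ''ᵁ ⊤)).hom (moduleB_smul f V') e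

/-- if `f_* O_X` restricted to `U` is free of rank one then `O_Y(V') → O_X(f⁻¹V')` is an isomorphism
for every `V' ≤ U` -/
theorem isIso_app_of_restrict_iso (U : Y.Opens)
    (ι1 : ((Coh.push f).obj (Coh.structureModule X)).restrict U.ι ≅ FlatMod.freeMod U 1)
    (V' : Y.Opens) (hV' : V' ≤ U) : IsIso (f.app V') := by
  let M := (Coh.push f).obj (Coh.structureModule X)
  let j : V'.toScheme ⟶ U.toScheme := Y.homOfLE hV'
  have hj : j ≫ U.ι = V'.ι := Y.homOfLE_ι hV'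
  let ι2 : M.restrict V'.ι ≅ FlatMod.freeMod V' 1 :=
    ((restrictFactorIso j U.ι V'.ι hj).symm.app M) ≪≫
      (Scheme.Modules.restrictFunctor j).mapIso ι1 ≪≫ restrictFreeModIso j 1
  have hb := bijective_app_of_restrict_iso f V' ι2
  have key : ∀ W : Y.Opens, W = V' → Function.Bijective (f.app W).hom → IsIso (f.app V') := by
    rintro W rfl h
    exact (ConcreteCategory.isIso_iff_bijective _).mpr h
  exact key _ V'.ι_image_top hb

end Groth.Agent.Lib.SteinIso21
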