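import Groth.Agent.Lib.SteinPkg21
import Groth.Agent.Lib.H4TwistGamma

/-!
# K2c: the unit section is a faithful element of `T^0_L(A)` at points of the image (helper21)
-/

set_option autoImplicit false
set_option linter.style.haveILetI false
universe u

open CategoryTheory CategoryTheory.Limits AlgebraicGeometry Opposite CohIII

namespace Groth.Agent.Lib.SteinSection21

open Groth.Agent.Lib.FibreOpen21 Groth.Agent.Lib.FibreStalk21 Groth.Agent.Lib.FibreAlg21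
  Groth.Agent.Lib.FibreGeo21

variable {X Y : Scheme.{u}} (f : X ⟶ Y) {V : Y.Opens}

theorem toGlobal_overV (hV : IsAffineOpen V) (b : AV V) :
    letI := overV f hV
    Coh.toGlobal ((f ⁻¹ᵁ V).toScheme ↘ Spec (CommRingCat.of (AV V))) b =
      ((f ∣_ V).appTop).hom b := by
  letI := overV f hV
  haveI : IsAffine V.toScheme := hV
  unfold Coh.toGlobal
  change ((f ∣_ V ≫ V.toScheme.isoSpec.hom).appTop).hom
    ((Scheme.ΓSpecIso (CommRingCat.of (AV V))).inv.hom b) = _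
  rw [Scheme.Hom.comp_appTop]
  have h : V.toScheme.isoSpec.hom.appTop = (Scheme.ΓSpecIso Γ(V.toScheme, ⊤)).hom := by
    rw [Scheme.isoSpec_hom, Scheme.toSpecΓ_appTop]
  rw [h]
  change ((f ∣_ V).appTop).hom (((Scheme.ΓSpecIso Γ(V.toScheme, ⊤)).inv ≫
    (Scheme.ΓSpecIso Γ(V.toScheme, ⊤)).hom).hom b) = _
  rw [Iso.inv_hom_id]
  rfl

/-- a function on `V` vanishing on `f⁻¹V` vanishes in the local ring of every point of the image (`f` flat) -/
theorem exists_mul_eq_zero [Flat f] (hV : IsAffineOpen V) (ξ : X) (hξ : f ξ ∈ V.ι ''ᵁ ⊤) (b : AV V)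
    (hb : letI := overV f hV
      Coh.toGlobal ((f ⁻¹ᵁ V).toScheme ↘ Spec (CommRingCat.of (AV V))) b = 0) :
    ∃ t ∈ (xV hV (f ξ) hξ).asIdeal.primeCompl, t * b = 0 := by
  rw [toGlobal_overV, morphismRestrict_appTop] at hb
  let b' : Γ(Y, V.ι ''ᵁ ⊤) := b
  have hb' : X.presheaf.germ (f ⁻¹ᵁ (V.ι ''ᵁ ⊤)) ξ hξ ((f.app (V.ι ''ᵁ ⊤)).hom b') = 0 := by
    have hmem : ξ ∈ (f ⁻¹ᵁ V).ι ''ᵁ ((f ∣_ V) ⁻¹ᵁ ⊤) := by
      rw [image_morphismRestrict_preimage f V ⊤]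
      exact hξ
    have h1 := X.presheaf.germ_res_apply (eqToHom (image_morphismRestrict_preimage f V ⊤)) ξ hmem
      ((f.app (V.ι ''ᵁ ⊤)).hom b')
    rw [← h1]
    have h2 : (X.presheaf.map (eqToHom (image_morphismRestrict_preimage f V ⊤)).op).hom
        ((f.app (V.ι ''ᵁ ⊤)).hom b') = 0 := hb
    rw [h2, map_zero]
  rw [← Scheme.Hom.germ_stalkMap_apply] at hb'
  have hinj : Function.Injective (f.stalkMap ξ).hom := by
    algebraize [(f.stalkMap ξ).hom]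
    have : Module.FaithfullyFlat (Y.presheaf.stalk (f ξ)) (X.presheaf.stalk ξ) :=
      @Module.FaithfullyFlat.of_flat_of_isLocalHom _ _ _ _ _ _ _
        (Flat.stalkMap f ξ) (f.toLRSHom.prop ξ)
    exact ‹RingHom.FaithfullyFlat _›.injective
  have h0 : Y.presheaf.germ (V.ι ''ᵁ ⊤) (f ξ) hξ b' = 0 := by
    apply hinj
    rw [map_zero]
    exact hb'
  letI : Algebra (AV V) (Y.presheaf.stalk (f ξ)) :=
    Y.presheaf.algebra_section_stalk (U := V.ι ''ᵁ ⊤) ⟨f ξ, hξ⟩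
  haveI : IsLocalization.AtPrime (Y.presheaf.stalk (f ξ)) (xV hV (f ξ) hξ).asIdeal :=
    (isAffineOpen_W hV).isLocalization_stalk ⟨f ξ, hξ⟩
  have h3 : algebraMap (AV V) (Y.presheaf.stalk (f ξ)) b = 0 := h0
  obtain ⟨t, ht⟩ := (IsLocalization.map_eq_zero_iff (xV hV (f ξ) hξ).asIdeal.primeCompl
    (Y.presheaf.stalk (f ξ)) b).mp h3
  exact ⟨t.1, t.2, ht⟩

/-- the image of the unit section in `T^0_L(A)` has zero annihilator in `A_x`, for `x` in the image of `f` -/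
theorem exists_faithful_section [Flat f] (hV : IsAffineOpen V)
    (L : CochainComplex (ModuleCat.{u} (AV V)) ℤ)
    (e : letI := overV f hV
      Coh.HH (f ⁻¹ᵁ V).toScheme ((Coh.structureModule X).restrict (f ⁻¹ᵁ V).ι) 0 ≃ₗ[AV V]
        NN L (0 : ℤ))
    (ξ : X) (hξ : f ξ ∈ V.ι ''ᵁ ⊤) :
    ∃ s : NN L (0 : ℤ), ∀ a : AV V,
      (∃ t ∈ (xV hV (f ξ) hξ).asIdeal.primeCompl, t • a • s = 0) →
        ∃ t' ∈ (xV hV (f ξ) hξ).asIdeal.primeCompl, t' * a = 0 := by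
  letI := overV f hV
  let σ := Groth.Agent.Lib.BaseChangeCohH44.HHlinEquiv (AV V)
    (Scheme.Modules.restrictUnitIso (f ⁻¹ᵁ V).ι) 0
  let h0 := Groth.Agent.Lib.H4Twist.h0Equiv (Coh.structureModule (f ⁻¹ᵁ V).toScheme)
  let one : Γ(Coh.structureModule (f ⁻¹ᵁ V).toScheme, ⊤) := (1 : Γ((f ⁻¹ᵁ V).toScheme, ⊤))
  refine ⟨e (σ.symm (h0.symm one)), fun a ⟨t, ht, hta⟩ => ?_⟩
  have h1 : (t * a) • h0.symm one = 0 := by
    apply σ.symm.injective
    apply e.injective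
    rw [map_zero, map_zero, map_smul, map_smul, mul_smul]
    exact hta
  have h2 := Groth.Agent.Lib.H4Twist.h0Equiv_symm_smul_over
    (Coh.structureModule (f ⁻¹ᵁ V).toScheme) (R := AV V) (t * a) one
  rw [h1] at h2
  have h3 : (show Γ((f ⁻¹ᵁ V).toScheme, ⊤) from
      Coh.toGlobal ((f ⁻¹ᵁ V).toScheme ↘ Spec (CommRingCat.of (AV V))) (t * a)) • one = 0 := by
    apply h0.symm.injective
    rw [map_zero]
    exact h2
  have h4 : Coh.toGlobal ((f ⁻¹ᵁ V).toScheme ↘ Spec (CommRingCat.of (AV V))) (t * a) = 0 := by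
    have h6 : (show Γ((f ⁻¹ᵁ V).toScheme, ⊤) from
        Coh.toGlobal ((f ⁻¹ᵁ V).toScheme ↘ Spec (CommRingCat.of (AV V))) (t * a)) *
        (1 : Γ((f ⁻¹ᵁ V).toScheme, ⊤)) = 0 := h3
    rw [mul_one] at h6
    exact h6
  obtain ⟨t'', ht'', h5⟩ := exists_mul_eq_zero f hV ξ hξ (t * a) h4
  refine ⟨t'' * t, (xV hV (f ξ) hξ).asIdeal.primeCompl.mul_mem ht'' ht, ?_⟩
  rw [mul_assoc]
  exact h5

end Groth.Agent.Lib.SteinSection21
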