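import Groth.Agent.Lib.InvNear21
import Groth.Agent.Lib.SteinFibre21
import Groth.Agent.Lib.TFunRank3
import Groth.Agent.S2393

/-!
# Fibrewise trivial invertible modules when `h^0(X_y, O) = 1` over a reduced base (helper21)

`f : X ⟶ Y` proper flat, `Y` locally Noetherian and reduced, `dim_{κ(y)} Γ(X_y, O) = 1` for all `y`, `N` invertible
and trivial on every fibre.  Then every `y` has an open neighbourhood `U` such that `N` has a free generator over `f⁻¹U`
and `O_Y(W) → O_X(f⁻¹W)` is bijective for `W ≤ U` (`exists_nhd_gen_of_rank`).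
-/

set_option autoImplicit false
set_option linter.style.haveILetI false
universe u

open CategoryTheory CategoryTheory.Limits AlgebraicGeometry Opposite CohIII

namespace Groth.Agent.Lib.InvRank21

open Groth.Agent.Lib.FibreOpen21 Groth.Agent.Lib.H90Invertible Groth.Agent.Lib.FibreMain21

variable {X Y : Scheme.{u}} (f : X ⟶ Y)

/-- `H^0(X_y, N_y) ≃ₗ[κ(y)] Γ(X_y, O)` when `N_y ≅ O_{X_y}` -/
noncomputable def fiberH0EquivOfIso (y : Y) (N : X.Modules)
    (ey : CohIII.fiberMod f N y ≅ Coh.structureModule (f.fiber y)) :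
    CohIII.fiberH f N y 0 ≃ₗ[Y.residueField y] Γ(f.fiber y, ⊤) := by
  letI : (f.fiber y).Over (Spec (CommRingCat.of ↑(Y.residueField y))) := CohIII.fiberOver f y
  let e1 : CohIII.fiberH f N y 0 ≃ₗ[Y.residueField y]
      Coh.HH (f.fiber y) (Coh.structureModule (f.fiber y)) 0 :=
    Groth.Agent.Lib.BaseChangeCohH44.HHlinEquiv (Y.residueField y) ey 0
  let e2 : Coh.HH (f.fiber y) (Coh.structureModule (f.fiber y)) 0 ≃+ Γ(f.fiber y, ⊤) :=
    Groth.Agent.Lib.H4Twist.h0Equiv (Coh.structureModule (f.fiber y))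
  exact
    { toFun := fun x => e2 (e1 x)
      invFun := fun s => e1.symm (e2.symm s)
      left_inv := fun x => by simp
      right_inv := fun s => by simp
      map_add' := fun x x' => by rw [map_add, map_add]
      map_smul' := fun c x => by
        rw [map_smul]
        have h := Groth.Agent.Lib.H4Twist.h0Equiv_smul (Coh.structureModule (f.fiber y))
          (Coh.toGlobal (f.fiberToSpecResidueField y) c) (e1 x)
        exact h }

theorem fiberRank_eq_finrank (y : Y) (N : X.Modules)
    (ey : CohIII.fiberMod f N y ≅ Coh.structureModule (f.fiber y)) :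
    CohIII.fiberRank f N 0 y = Module.finrank (Y.residueField y) Γ(f.fiber y, ⊤) := by
  unfold CohIII.fiberRank
  exact (fiberH0EquivOfIso f y N ey).finrank_eq

/-- `κ(y) → Γ(X_y, O)` is bijective if the target is one-dimensional -/
theorem bijective_algebraMap_of_finrank (y : Y)
    (h0 : Module.finrank (Y.residueField y) Γ(f.fiber y, ⊤) = 1) :
    Function.Bijective (algebraMap (Y.residueField y) Γ(f.fiber y, ⊤)) := by
  haveI : Module.Finite (Y.residueField y) Γ(f.fiber y, ⊤) :=
    Module.finite_of_finrank_pos (by rw [h0]; exact Nat.one_pos)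
  haveI : Nontrivial Γ(f.fiber y, ⊤) :=
    Module.nontrivial_of_finrank_pos (R := Y.residueField y) (by rw [h0]; exact Nat.one_pos)
  have hinj : Function.Injective (algebraMap (Y.residueField y) Γ(f.fiber y, ⊤)) :=
    (algebraMap (Y.residueField y) Γ(f.fiber y, ⊤)).injective
  refine ⟨hinj, ?_⟩
  have h1 : Function.Injective (Algebra.linearMap (Y.residueField y) Γ(f.fiber y, ⊤)) := hinj
  have h2 := (LinearMap.injective_iff_surjective_of_finrank_eq_finrank
    (f := Algebra.linearMap (Y.residueField y) Γ(f.fiber y, ⊤))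
    (by rw [h0, Module.finrank_self])).mp h1
  exact h2

/-- every element of `κ(y)` is a fraction of elements of `A = Γ(V, O)` with denominator outside the prime of `y` -/
theorem exists_fraction {V : Y.Opens} (hV : IsAffineOpen V) (y : Y) (hz : y ∈ V.ι ''ᵁ ⊤)
    (k : Y.residueField y) :
    letI := algV y hz
    ∃ b c : AV V, c ∉ (xV hV y hz).asIdeal ∧
      algebraMap (AV V) (Y.residueField y) c * k = algebraMap (AV V) (Y.residueField y) b := by
  letI := algV y hz
  obtain ⟨r, hr⟩ := IsLocalRing.residue_surjective (thetaV hV y hz k)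
  obtain ⟨b, c, rfl⟩ := IsLocalization.exists_mk'_eq (xV hV y hz).asIdeal.primeCompl r
  refine ⟨b, c, c.2, ?_⟩
  apply (thetaV hV y hz).injective
  rw [map_mul, thetaV_algebraMap, thetaV_algebraMap, ← hr]
  change IsLocalRing.residue _ (algebraMap (AV V) (Localization.AtPrime (xV hV y hz).asIdeal) c) *
    IsLocalRing.residue _ (IsLocalization.mk' _ b c) =
    IsLocalRing.residue _ (algebraMap (AV V) (Localization.AtPrime (xV hV y hz).asIdeal) b)
  rw [← map_mul, IsLocalization.mk'_spec']

/-- **Local generators**: over a reduced base with `h^0(X_y, O) = 1`, a fibrewise trivial invertible module has a free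
generator over `f⁻¹U` for small `U`, and `O_Y = f_* O_X` over `U`. -/
theorem exists_nhd_gen_of_rank [IsProper f] [Flat f] [IsLocallyNoetherian Y] [IsReduced Y]
    (h0 : ∀ y : Y, Module.finrank (Y.residueField y) Γ(f.fiber y, ⊤) = 1)
    (N : X.Modules) (hN : PicF.IsInvertible N)
    (hy : ∀ y : Y, Nonempty (CohIII.fiberMod f N y ≅ Coh.structureModule (f.fiber y))) (y : Y) :
    ∃ U : Y.Opens, y ∈ U ∧ (∃ s : Γ(N, f ⁻¹ᵁ U), IsGen N (f ⁻¹ᵁ U) s) ∧
      ∀ W : Y.Opens, W ≤ U → Function.Bijective (f.app W) := by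
  obtain ⟨V, hV, hz⟩ := exists_affine_nbhd y
  letI := overV f hV
  haveI := isNoetherianRing_AV (Y := Y) hV
  haveI : IsReduced (AV V) := inferInstanceAs (IsReduced Γ(Y, V.ι ''ᵁ ⊤))
  have hNc : Coh.IsCoh N := isCoh_of_isInvertible hN
  have hNfl : FlatMod.IsFlatOver f N := Groth.Agent.Lib.InvTensor21.isFlatOver_of_isInvertible f hN
  obtain ⟨L, h1L, -, h3L, -, h5L⟩ := exists_model_V f N hNc hNfl hV
  have hP : ∀ i, Module.Flat (AV V) (L.X i) := fun i => by
    haveI := (h1L i).2
    infer_instance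
  -- the rank function is constant
  have hd : IsLocallyConstant (dRank L ((0 : ℕ) : ℤ)) := by
    have h2 : dRank L ((0 : ℕ) : ℤ) = fun _ => 1 := by
      funext x
      have h3 := (h5L _ (fromSpec_mem hV x) 0).1
      rw [xV_fromSpec hV x] at h3
      rw [← h3]
      obtain ⟨e⟩ := hy ((isAffineOpen_W hV).fromSpec x)
      rw [fiberRank_eq_finrank f _ N e]
      exact h0 _
    rw [h2]
    exact IsLocallyConstant.const 1
  obtain ⟨-, he⟩ := Groth.Agent.Lib.TFunRank.exact_of_isLocallyConstant_dRank L hP (fun i => (h1L i).1)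
    ((0 : ℕ) : ℤ) (((0 : ℕ) : ℤ) + 1) (by simp) hd
  letI := algV y hz
  have hl := Groth.Agent.Lib.LiftSection21.liftProp_of_preservesEpi (AV V) (Y.residueField y) L hP he
    (xV hV y hz) (exists_fraction hV y hz)
  obtain ⟨U₁, hyU₁, -, s, hs⟩ :=
    Groth.Agent.Lib.InvNear21.exists_nhd_trivial_of_liftProp f y N hN (hy y) hV hz L (h3L 0) hl
  obtain ⟨U₂, hyU₂, hU₂⟩ := Groth.Agent.S2393.result f y (bijective_algebraMap_of_finrank f y (h0 y))
  refine ⟨U₁ ⊓ U₂, ⟨hyU₁, hyU₂⟩, ⟨_, hs.mono (f.preimage_mono inf_le_left)⟩, fun W hW => ?_⟩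
  haveI := hU₂ W (hW.trans inf_le_right)
  exact (ConcreteCategory.isIso_iff_bijective (f.app W)).mp inferInstance

end Groth.Agent.Lib.InvRank21
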