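import Mathlib

namespace Groth.Agent.Lib.InvSysInj97

open CategoryTheory CategoryTheory.Limits Opposite

universe v u

variable {A : Type u} [Category.{v} A] [Abelian A]

/-- the inverse system `m ↦ ∏_{n ≤ m} J n` with projections as transition maps. -/
noncomputable def prodSys (J : ℕ → A) : ℕᵒᵖ ⥤ A where
  obj m := ∏ᶜ fun n : Fin (m.unop + 1) => J n
  map {m m'} φ := Pi.lift fun n : Fin (m'.unop + 1) =>
    Pi.π (fun n : Fin (m.unop + 1) => J n) (Fin.castLE (Nat.succ_le_succ (leOfHom φ.unop)) n)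
  map_id := by
    intro m
    apply Pi.hom_ext
    intro n
    simp
  map_comp := by
    intro a b c φ ψ
    apply Pi.hom_ext
    intro n
    simp
    rfl

noncomputable def proj (J : ℕ → A) (m : ℕᵒᵖ) (n : Fin (m.unop + 1)) :
    (prodSys J).obj m ⟶ J n := Pi.π (fun n : Fin (m.unop + 1) => J n) n

noncomputable def lift (J : ℕ → A) (m : ℕᵒᵖ) {X : A} (φ : ∀ n : Fin (m.unop + 1), X ⟶ J n) :
    X ⟶ (prodSys J).obj m := Pi.lift φ

@[reassoc (attr := simp)]
lemma lift_proj (J : ℕ → A) (m : ℕᵒᵖ) {X : A} (φ : ∀ n : Fin (m.unop + 1), X ⟶ J n)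
    (n : Fin (m.unop + 1)) : lift J m φ ≫ proj J m n = φ n :=
  Pi.lift_π φ n

lemma proj_hom_ext (J : ℕ → A) (m : ℕᵒᵖ) {X : A} {a b : X ⟶ (prodSys J).obj m}
    (h : ∀ n, a ≫ proj J m n = b ≫ proj J m n) : a = b :=
  Pi.hom_ext _ _ h

@[reassoc]
lemma map_proj (J : ℕ → A) {m m' : ℕᵒᵖ} (φ : m ⟶ m') (n : Fin (m'.unop + 1)) :
    (prodSys J).map φ ≫ proj J m' n =
      proj J m (Fin.castLE (Nat.succ_le_succ (leOfHom φ.unop)) n) := by
  simp [prodSys, proj]

lemma hom_eq {m m' : ℕᵒᵖ} (φ ψ : m ⟶ m') : φ = ψ := Subsingleton.elim _ _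

/-- the canonical map `m ⟶ op n` for `n ≤ m`. -/
def le' (m : ℕᵒᵖ) (n : Fin (m.unop + 1)) : m ⟶ op (n : ℕ) :=
  (homOfLE (Nat.lt_succ_iff.mp n.2)).op

/-- a natural transformation into `prodSys J` from compatible components. -/
noncomputable def mkHom (J : ℕ → A) (H : ℕᵒᵖ ⥤ A) (hn : ∀ n : ℕ, H.obj (op n) ⟶ J n) :
    H ⟶ prodSys J where
  app m := lift J m fun n => H.map (le' m n) ≫ hn n
  naturality := by
    intro m m' φ
    apply proj_hom_ext
    intro n
    rw [Category.assoc, Category.assoc, map_proj, lift_proj, lift_proj, ← Category.assoc,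
      ← H.map_comp]
    have : φ ≫ le' m' n = le' m (Fin.castLE (Nat.succ_le_succ (leOfHom φ.unop)) n) :=
      hom_eq _ _
    rw [this]
    rfl

lemma mkHom_app_proj (J : ℕ → A) (H : ℕᵒᵖ ⥤ A) (hn : ∀ n : ℕ, H.obj (op n) ⟶ J n)
    (m : ℕᵒᵖ) (n : Fin (m.unop + 1)) :
    (mkHom J H hn).app m ≫ proj J m n = H.map (le' m n) ≫ hn n := by
  simp [mkHom]

/-- `prodSys J` is injective when all `J n` are. -/
theorem prodSys_injective (J : ℕ → A) [∀ n, Injective (J n)] : Injective (prodSys J) := by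
  refine ⟨fun {G H} g f _ => ?_⟩
  have hmono : ∀ n : ℕ, Mono (f.app (op n)) := fun n =>
    (NatTrans.mono_iff_mono_app f).mp inferInstance (op n)
  let gn : ∀ n : ℕ, G.obj (op n) ⟶ J n := fun n =>
    g.app (op n) ≫ proj J (op n) ⟨n, Nat.lt_succ_self n⟩
  let hn : ∀ n : ℕ, H.obj (op n) ⟶ J n := fun n => Injective.factorThru (gn n) (f.app (op n))
  have hhn : ∀ n : ℕ, f.app (op n) ≫ hn n = gn n := fun n => Injective.comp_factorThru _ _
  refine ⟨mkHom J H hn, ?_⟩
  ext m
  apply proj_hom_ext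
  intro n
  rw [NatTrans.comp_app, Category.assoc, mkHom_app_proj, ← Category.assoc, ← f.naturality,
    Category.assoc, hhn]
  simp only [gn]
  rw [← Category.assoc, g.naturality, Category.assoc, map_proj]
  rfl

theorem enoughInjectives_invSys [EnoughInjectives A] : EnoughInjectives (ℕᵒᵖ ⥤ A) := by
  refine ⟨fun F => ⟨?_⟩⟩
  let J : ℕ → A := fun n => Injective.under (F.obj (op n))
  have hJ : ∀ n, Injective (J n) := fun n => inferInstance
  let ι : F ⟶ prodSys J := mkHom J F fun n => Injective.ι (F.obj (op n))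
  refine { J := prodSys J, injective := prodSys_injective J, f := ι, mono := ?_ }
  have : ∀ m, Mono (ι.app m) := by
    intro m
    have h1 : ι.app m ≫ proj J m ⟨m.unop, Nat.lt_succ_self _⟩ = Injective.ι (F.obj m) := by
      rw [mkHom_app_proj]
      have : le' m ⟨m.unop, Nat.lt_succ_self _⟩ = 𝟙 m := hom_eq _ _
      rw [this, F.map_id, Category.id_comp]
    have : Mono (ι.app m ≫ proj J m ⟨m.unop, Nat.lt_succ_self _⟩) := by
      rw [h1]; infer_instance
    exact mono_of_mono (ι.app m) (proj J m ⟨m.unop, Nat.lt_succ_self _⟩)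
  exact NatTrans.mono_of_mono_app ι


instance (c : ℕᵒᵖ) : (evaluationLeftAdjoint A c).PreservesMonomorphisms := by
  refine ⟨fun {X Y} f hf => ?_⟩
  have : ∀ t, Mono (((evaluationLeftAdjoint A c).map f).app t) := by
    intro t
    have h1 : ((evaluationLeftAdjoint A c).map f).app t = Limits.Sigma.map (fun _ : c ⟶ t => f) := by
      change (Limits.Sigma.desc fun h : c ⟶ t => f ≫ Sigma.ι (fun _ : c ⟶ t => Y) h) = _
      apply Limits.Sigma.hom_ext
      intro h
      rw [Limits.Sigma.ι_map, Limits.Sigma.ι_desc]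
    rw [h1]
    have : Finite (c ⟶ t) := Finite.of_subsingleton
    have : HasFiniteBiproducts A := Abelian.hasFiniteBiproducts
    have : HasBiproductsOfShape (c ⟶ t) A := hasBiproductsOfShape_finite A
    exact Limits.Sigma.map_mono _
  exact NatTrans.mono_of_mono_app _

theorem enoughInjectives_of_invSys [EnoughInjectives (ℕᵒᵖ ⥤ A)] : EnoughInjectives A := by
  refine ⟨fun X => ⟨?_⟩⟩
  let F : ℕᵒᵖ ⥤ A := (Functor.const ℕᵒᵖ).obj X
  have hinj : Injective (((evaluation ℕᵒᵖ A).obj (op 0)).obj (Injective.under F)) :=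
    Injective.injective_of_adjoint (evaluationAdjunctionRight A (op 0)) (Injective.under F)
  exact { J := (Injective.under F).obj (op 0), injective := hinj, f := (Injective.ι F).app (op 0),
          mono := (NatTrans.mono_iff_mono_app (Injective.ι F)).mp inferInstance _ }

theorem main : EnoughInjectives (ℕᵒᵖ ⥤ A) ↔ EnoughInjectives A :=
  ⟨fun _ => enoughInjectives_of_invSys, fun _ => enoughInjectives_invSys⟩

end Groth.Agent.Lib.InvSysInj97
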