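import Groth.Agent.Lib.H29DualShift
import Groth.Agent.Lib.H29DualIso
import Groth.Agent.Lib.FlatBaseChangeD
import Groth.Prelude.Def_DDual2
import Mathlib.RingTheory.PicardGroup
import Mathlib.RingTheory.Flat.CategoryTheory

set_option autoImplicit false
universe u
open CategoryTheory CategoryTheory.Limits Category DerivedCategory MonoidalCategory

namespace Groth.Agent.Lib.InvTwist92

attribute [local instance] HasDerivedCategory.standard

section General

variable {C : Type (u+1)} [Category.{u} C] [Abelian C]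
  (F G : C ⥤ C) [F.Additive] [PreservesFiniteLimits F] [PreservesFiniteColimits F]
  [G.Additive] [PreservesFiniteLimits G] [PreservesFiniteColimits G]

/-- composition of `mapHomologicalComplex` -/
noncomputable def mapHCCompIso :
    F.mapHomologicalComplex (ComplexShape.up ℤ) ⋙ G.mapHomologicalComplex (ComplexShape.up ℤ) ≅
      (F ⋙ G).mapHomologicalComplex (ComplexShape.up ℤ) :=
  NatIso.ofComponents (fun K => HomologicalComplex.Hom.isoOfComponents (fun i => Iso.refl _)
    (by intro i j _; exact (Category.id_comp _).trans (Category.comp_id _).symm))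
    (by
      intro K L f
      ext i
      exact (Category.comp_id _).trans (Category.id_comp _).symm)

/-- if `F ⋙ G ≅ 𝟭` then the same holds for the induced functors on derived categories. -/
noncomputable def mapDerivedCompIdIso (e : F ⋙ G ≅ 𝟭 C) :
    F.mapDerivedCategory ⋙ G.mapDerivedCategory ≅ 𝟭 (DerivedCategory C) :=
  Localization.liftNatIso DerivedCategory.Q
    (HomologicalComplex.quasiIso C (ComplexShape.up ℤ))
    (DerivedCategory.Q ⋙ F.mapDerivedCategory ⋙ G.mapDerivedCategory)
    (DerivedCategory.Q ⋙ 𝟭 _) _ _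
    ((Functor.associator _ _ _).symm ≪≫
      Functor.isoWhiskerRight F.mapDerivedCategoryFactors _ ≪≫
      Functor.associator _ _ _ ≪≫
      Functor.isoWhiskerLeft _ G.mapDerivedCategoryFactors ≪≫
      (Functor.associator _ _ _).symm ≪≫
      Functor.isoWhiskerRight (mapHCCompIso F G ≪≫
        NatIso.mapHomologicalComplex e (ComplexShape.up ℤ) ≪≫
        Functor.mapHomologicalComplexIdIso C (ComplexShape.up ℤ)) DerivedCategory.Q ≪≫
      Functor.leftUnitor _ ≪≫ (Functor.rightUnitor _).symm)

/-- transporting subsingleton-ness of hom sets along a faithful functor -/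
lemma subsingleton_hom_of_faithful {D₁ D₂ : Type*} [Category D₁] [Category D₂] (T : D₁ ⥤ D₂)
    [T.Faithful] {X Y : D₁} {X' Y' : D₂} (eX : T.obj X ≅ X') (eY : T.obj Y ≅ Y')
    [Subsingleton (X' ⟶ Y')] : Subsingleton (X ⟶ Y) := by
  refine ⟨fun f g => T.map_injective ?_⟩
  have h : eX.inv ≫ T.map f ≫ eY.hom = eX.inv ≫ T.map g ≫ eY.hom := Subsingleton.elim _ _
  simpa using h

end General

section Twist

variable (A : Type u) [CommRing A]

/-- the exact functor on `D(A)` induced by tensoring with a flat module -/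
noncomputable abbrev TD (P : ModuleCat.{u} A) [Module.Flat A P] : Dual.D A ⥤ Dual.D A :=
  (tensorRight P).mapDerivedCategory

/-- `Qh ⋙ TD P ≅ tensorKh P` -/
noncomputable def facIso (P : ModuleCat.{u} A) [Module.Flat A P] :
    Qh ⋙ TD A P ≅ DRing.tensorKh A P :=
  (tensorRight P).mapDerivedCategoryFactorsh

instance (P : ModuleCat.{u} A) [Module.Flat A P] :
    (TD A P).IsLeftDerivedFunctor (facIso A P).hom
      (HomotopyCategory.quasiIso (ModuleCat.{u} A) (ComplexShape.up ℤ)) :=
  Functor.isLeftDerivedFunctor_of_inverts _ _ _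

/-- **The derived tensor product with a flat module is the exact tensor functor.** -/
noncomputable def ltensorIso (P : ModuleCat.{u} A) [Module.Flat A P] [DRing.HasLTensor A P] :
    DRing.LTensor A P ≅ TD A P :=
  Functor.leftDerivedUnique _ _
    ((DRing.tensorKh A P).totalLeftDerivedCounit Qh
      (HomotopyCategory.quasiIso (ModuleCat.{u} A) (ComplexShape.up ℤ)))
    (facIso A P).hom (HomotopyCategory.quasiIso (ModuleCat.{u} A) (ComplexShape.up ℤ))

variable (P P' : ModuleCat.{u} A) [Module.Flat A P] [Module.Flat A P']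

/-- `(- ⊗ P) ⊗ P' ≅ id` when `P ⊗ P' ≅ A`. -/
noncomputable def tensorCompIso (e : P ⊗ P' ≅ 𝟙_ (ModuleCat.{u} A)) :
    tensorRight P ⋙ tensorRight P' ≅ 𝟭 (ModuleCat.{u} A) :=
  (tensorRightTensor P P').symm ≪≫ (tensoringRight _).mapIso e ≪≫ rightUnitorNatIso _

/-- `TD P ⋙ TD P' ≅ id` when `P ⊗ P' ≅ A`. -/
noncomputable def TDCompIso (e : P ⊗ P' ≅ 𝟙_ (ModuleCat.{u} A)) :
    TD A P ⋙ TD A P' ≅ 𝟭 (Dual.D A) :=
  mapDerivedCompIdIso _ _ (tensorCompIso A P P' e)

/-- the equivalence `- ⊗ P` of `D(A)` for invertible `P`. -/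
noncomputable def TDEquiv (e : P ⊗ P' ≅ 𝟙_ (ModuleCat.{u} A)) : Dual.D A ≌ Dual.D A :=
  CategoryTheory.Equivalence.mk (TD A P) (TD A P') (TDCompIso A P P' e).symm
    (TDCompIso A P' P ((β_ P' P) ≪≫ e))

theorem isEquivalence_TD (e : P ⊗ P' ≅ 𝟙_ (ModuleCat.{u} A)) : (TD A P).IsEquivalence :=
  (TDEquiv A P P' e).isEquivalence_functor

include P' in
/-- twisting a dualizing complex by an invertible module gives a dualizing complex. -/
theorem isDualizing_TD (e : P ⊗ P' ≅ 𝟙_ (ModuleCat.{u} A)) [Module.Finite A P]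
    (ω : Dual.D A) (hω : Dual.IsDualizing A ω) : Dual.IsDualizing A ((TD A P).obj ω) := by
  haveI := isEquivalence_TD A P P' e
  haveI := isEquivalence_TD A P' P ((β_ P' P) ≪≫ e)
  obtain ⟨a, b, hab⟩ := hω.finite_injective_dimension
  refine ⟨hω.isNoetherianRing, ⟨a, b, ?_⟩, ?_, ?_, ?_⟩
  · intro M _ _ i hi
    haveI := hab ((tensorRight P').obj (ModuleCat.of A M)) i hi
    let eX : (TD A P').obj (Dual.inD A M) ≅
        Dual.inD A ((tensorRight P').obj (ModuleCat.of A M)) :=
      ((tensorRight P').mapDerivedCategorySingleFunctor 0).app (ModuleCat.of A M)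
    let eY : (TD A P').obj (((TD A P).obj ω)⟦i⟧) ≅ ω⟦i⟧ :=
      ((TD A P').commShiftIso i).app _ ≪≫
        (shiftFunctor (Dual.D A) i).mapIso ((TDCompIso A P P' e).app ω)
    exact subsingleton_hom_of_faithful (TD A P') eX eY
  · intro i
    haveI := hω.finite_cohomology i
    let σ : (homologyFunctor (ModuleCat.{u} A) i).obj ((TD A P).obj ω) ≅
        (tensorRight P).obj ((homologyFunctor (ModuleCat.{u} A) i).obj ω) :=
      (Groth.Agent.Lib.FlatBaseChangeD.mapDerivedCategoryHomologyIso (tensorRight P) i).app ω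
    haveI : Module.Finite A ((tensorRight P).obj ((homologyFunctor (ModuleCat.{u} A) i).obj ω)) :=
      inferInstanceAs (Module.Finite A
        (TensorProduct A ((homologyFunctor (ModuleCat.{u} A) i).obj ω) P))
    exact Module.Finite.equiv σ.symm.toLinearEquiv
  · have h1 : ∀ a : A, a • 𝟙 ((TD A P).obj ω) = (TD A P).map (a • 𝟙 ω) := by
      intro a
      rw [Functor.map_smul, CategoryTheory.Functor.map_id]
    constructor
    · intro a a' haa
      replace haa : a • 𝟙 ((TD A P).obj ω) = a' • 𝟙 ((TD A P).obj ω) := haa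
      rw [h1, h1] at haa
      exact hω.toEnd_bijective.1 ((TD A P).map_injective haa)
    · intro g
      obtain ⟨f, rfl⟩ := (TD A P).map_surjective g
      obtain ⟨a, rfl⟩ := hω.toEnd_bijective.2 f
      exact ⟨a, h1 a⟩
  · intro i hi
    haveI := hω.ext_self_subsingleton i hi
    let eX : (TD A P').obj ((TD A P).obj ω) ≅ ω := (TDCompIso A P P' e).app ω
    let eY : (TD A P').obj (((TD A P).obj ω)⟦i⟧) ≅ ω⟦i⟧ :=
      ((TD A P').commShiftIso i).app _ ≪≫
        (shiftFunctor (Dual.D A) i).mapIso ((TDCompIso A P P' e).app ω)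
    exact subsingleton_hom_of_faithful (TD A P') eX eY

end Twist

end Groth.Agent.Lib.InvTwist92
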