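import Groth.Agent.Lib.InvTwist92
import Groth.Agent.Lib.H29HomFree

set_option autoImplicit false
universe u
open CategoryTheory CategoryTheory.Limits Category DerivedCategory MonoidalCategory

namespace Groth.Agent.Lib.InvTwistUniq92

attribute [local instance] HasDerivedCategory.standard

section FF

variable {𝒜 ℬ : Type*} [Category 𝒜] [Category ℬ] [Preadditive 𝒜] [Preadditive ℬ]
  (Ψ : 𝒜 ⥤ ℬ) [Ψ.Additive]

/-- `Ψ` is bijective on `Hom(X, Y)` -/
def FFOn (X Y : 𝒜) : Prop := Function.Bijective (Ψ.map : (X ⟶ Y) → (Ψ.obj X ⟶ Ψ.obj Y))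

variable {Ψ}

/-- full faithfulness passes to "finite sums of retracts" in the first variable. -/
lemma FFOn.of_sum_left {Z X Y : 𝒜} {ι : Type*} [Fintype ι] (i : ι → (Z ⟶ X)) (p : ι → (X ⟶ Z))
    (h : ∑ j, p j ≫ i j = 𝟙 X) (hZ : FFOn Ψ Z Y) : FFOn Ψ X Y := by
  constructor
  · intro g g' hgg
    have hj : ∀ j, i j ≫ g = i j ≫ g' := by
      intro j
      apply hZ.1
      simp only [Functor.map_comp]
      rw [show Ψ.map g = Ψ.map g' from hgg]
    calc g = (∑ j, p j ≫ i j) ≫ g := by rw [h, id_comp]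
      _ = ∑ j, p j ≫ i j ≫ g := by rw [Preadditive.sum_comp]; simp
      _ = ∑ j, p j ≫ i j ≫ g' := by simp only [hj]
      _ = (∑ j, p j ≫ i j) ≫ g' := by rw [Preadditive.sum_comp]; simp
      _ = g' := by rw [h, id_comp]
  · intro f
    choose g hg using fun j => hZ.2 (Ψ.map (i j) ≫ f)
    refine ⟨∑ j, p j ≫ g j, ?_⟩
    rw [Functor.map_sum]
    simp only [Functor.map_comp, hg]
    calc ∑ j, Ψ.map (p j) ≫ Ψ.map (i j) ≫ f = (∑ j, Ψ.map (p j ≫ i j)) ≫ f := by
          rw [Preadditive.sum_comp]; simp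
      _ = f := by rw [← Functor.map_sum, h, CategoryTheory.Functor.map_id, id_comp]

/-- full faithfulness passes to "finite sums of retracts" in the second variable. -/
lemma FFOn.of_sum_right {Z X Y : 𝒜} {ι : Type*} [Fintype ι] (i : ι → (Z ⟶ Y)) (p : ι → (Y ⟶ Z))
    (h : ∑ j, p j ≫ i j = 𝟙 Y) (hZ : FFOn Ψ X Z) : FFOn Ψ X Y := by
  constructor
  · intro g g' hgg
    have hj : ∀ j, g ≫ p j = g' ≫ p j := by
      intro j
      apply hZ.1
      simp only [Functor.map_comp]
      rw [show Ψ.map g = Ψ.map g' from hgg]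
    calc g = g ≫ (∑ j, p j ≫ i j) := by rw [h, comp_id]
      _ = ∑ j, (g ≫ p j) ≫ i j := by rw [Preadditive.comp_sum]; simp
      _ = ∑ j, (g' ≫ p j) ≫ i j := by simp only [hj]
      _ = g' ≫ (∑ j, p j ≫ i j) := by rw [Preadditive.comp_sum]; simp
      _ = g' := by rw [h, comp_id]
  · intro f
    choose g hg using fun j => hZ.2 (f ≫ Ψ.map (p j))
    refine ⟨∑ j, g j ≫ i j, ?_⟩
    rw [Functor.map_sum]
    simp only [Functor.map_comp, hg]
    calc ∑ j, (f ≫ Ψ.map (p j)) ≫ Ψ.map (i j) = f ≫ (∑ j, Ψ.map (p j ≫ i j)) := by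
          rw [Preadditive.comp_sum]; simp
      _ = f := by rw [← Functor.map_sum, h, CategoryTheory.Functor.map_id, comp_id]

/-- if `Ψ` is fully faithful on all the hom sets between `X` and `Y`, an isomorphism
`Ψ X ≅ Ψ Y` comes from an isomorphism `X ≅ Y`. -/
lemma nonempty_iso_of_FFOn {X Y : 𝒜} (hXY : FFOn Ψ X Y) (hYX : FFOn Ψ Y X) (hXX : FFOn Ψ X X)
    (hYY : FFOn Ψ Y Y) (e : Ψ.obj X ≅ Ψ.obj Y) : Nonempty (X ≅ Y) := by
  obtain ⟨g, hg⟩ := hXY.2 e.hom
  obtain ⟨g', hg'⟩ := hYX.2 e.inv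
  refine ⟨⟨g, g', hXX.1 ?_, hYY.1 ?_⟩⟩
  · simp only [Functor.map_comp, hg, hg', Iso.hom_inv_id, CategoryTheory.Functor.map_id]
  · simp only [Functor.map_comp, hg, hg', Iso.inv_hom_id, CategoryTheory.Functor.map_id]

end FF

section Psi

variable (A : Type u) [CommRing A] (K : CochainComplex (ModuleCat.{u} A) ℤ)

/-- `L ↦ K ⊗ L` (termwise), as a functor to complexes -/
noncomputable def Phi : ModuleCat.{u} A ⥤ CochainComplex (ModuleCat.{u} A) ℤ where
  obj L := ((tensorRight L).mapHomologicalComplex (ComplexShape.up ℤ)).obj K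
  map {L L'} g :=
    { f := fun i => K.X i ◁ g
      comm' := by
        intro i j _
        exact whisker_exchange (K.d i j) g }
  map_id := by
    intro L
    refine HomologicalComplex.hom_ext _ _ (fun i => ?_)
    exact MonoidalCategory.whiskerLeft_id (K.X i) L
  map_comp := by
    intro L L' L'' g g'
    refine HomologicalComplex.hom_ext _ _ (fun i => ?_)
    exact MonoidalCategory.whiskerLeft_comp (K.X i) g g'

instance : (Phi A K).Additive where
  map_add := by
    intro L L' g g'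
    refine HomologicalComplex.hom_ext _ _ (fun i => ?_)
    exact MonoidalPreadditive.whiskerLeft_add (X := K.X i) g g'

/-- `L ↦ K ⊗ L` as a functor to `D(A)` -/
noncomputable def Psi : ModuleCat.{u} A ⥤ Dual.D A := Phi A K ⋙ Q

instance : (Psi A K).Additive := by
  unfold Psi
  infer_instance

lemma Phi_map_smul (L : ModuleCat.{u} A) (a : A) :
    (Phi A K).map (a • 𝟙 L) = a • 𝟙 ((Phi A K).obj L) := by
  refine HomologicalComplex.hom_ext _ _ (fun i => ?_)
  change K.X i ◁ (a • 𝟙 L) = a • 𝟙 _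
  rw [MonoidalLinear.whiskerLeft_smul, MonoidalCategory.whiskerLeft_id]
  rfl

lemma Psi_map_smul (L : ModuleCat.{u} A) (a : A) :
    (Psi A K).map (a • 𝟙 L) = a • 𝟙 ((Psi A K).obj L) := by
  change Q.map ((Phi A K).map (a • 𝟙 L)) = _
  rw [Phi_map_smul, Functor.map_smul, CategoryTheory.Functor.map_id]
  rfl

/-- `K ⊗ A ≅ K` -/
noncomputable def PsiUnitIso : (Psi A K).obj (𝟙_ (ModuleCat.{u} A)) ≅ Q.obj K :=
  Q.mapIso (((NatIso.mapHomologicalComplex (rightUnitorNatIso (ModuleCat.{u} A))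
    (ComplexShape.up ℤ)).app K) ≪≫
      (Functor.mapHomologicalComplexIdIso (ModuleCat.{u} A) (ComplexShape.up ℤ)).app K)

/-- conjugating scalars by an isomorphism -/
lemma smul_id_conj {X Y : Dual.D A} (e : X ≅ Y) (a : A) :
    a • 𝟙 X = e.hom ≫ (a • 𝟙 Y) ≫ e.inv := by
  rw [Linear.smul_comp, Linear.comp_smul, id_comp, Iso.hom_inv_id]

variable {A K}

lemma bijective_smul_id_of_iso {X Y : Dual.D A} (e : X ≅ Y)
    (h : Function.Bijective (fun a : A => a • 𝟙 Y)) :
    Function.Bijective (fun a : A => a • 𝟙 X) := by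
  constructor
  · intro a a' haa
    apply h.1
    change a • 𝟙 Y = a' • 𝟙 Y
    rw [smul_id_conj A e.symm a, smul_id_conj A e.symm a']
    replace haa : a • 𝟙 X = a' • 𝟙 X := haa
    rw [haa]
  · intro f
    obtain ⟨a, ha⟩ := h.2 (e.inv ≫ f ≫ e.hom)
    refine ⟨a, ?_⟩
    change a • 𝟙 X = f
    replace ha : a • 𝟙 Y = e.inv ≫ f ≫ e.hom := ha
    rw [smul_id_conj A e a, ha]
    simp

lemma hom_unit_eq (g : 𝟙_ (ModuleCat.{u} A) ⟶ 𝟙_ (ModuleCat.{u} A)) :
    g = (g.hom (1 : A)) • 𝟙 (𝟙_ (ModuleCat.{u} A)) := by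
  ext
  simp

/-- `Ψ` is fully faithful on the unit object when `A → End(Q K)` is bijective. -/
lemma FFOn_unit (hK : Function.Bijective (fun a : A => a • 𝟙 (Q.obj K))) :
    FFOn (Psi A K) (𝟙_ (ModuleCat.{u} A)) (𝟙_ (ModuleCat.{u} A)) := by
  have hU := bijective_smul_id_of_iso (PsiUnitIso A K) hK
  constructor
  · intro g g' hgg
    rw [hom_unit_eq g, hom_unit_eq g'] at hgg ⊢
    rw [Psi_map_smul, Psi_map_smul] at hgg
    rw [hU.1 hgg]
  · intro f
    obtain ⟨a, ha⟩ := hU.2 f
    exact ⟨a • 𝟙 _, (Psi_map_smul A K _ a).trans ha⟩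

/-- a finite projective module is a "finite sum of retracts" of the unit object -/
lemma exists_family (L : ModuleCat.{u} A) [Module.Finite A L] [Module.Projective A L] :
    ∃ (n : ℕ) (i : Fin n → (𝟙_ (ModuleCat.{u} A) ⟶ L)) (p : Fin n → (L ⟶ 𝟙_ (ModuleCat.{u} A))),
      ∑ j, p j ≫ i j = 𝟙 L := by
  obtain ⟨n, f, g, -, -, hfg⟩ := Module.Finite.exists_comp_eq_id_of_projective A L
  refine ⟨n, fun j => ModuleCat.ofHom (f ∘ₗ LinearMap.single A (fun _ => A) j),
    fun j => ModuleCat.ofHom (LinearMap.proj j ∘ₗ g), ?_⟩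
  ext x
  have h1 : f (g x) = x := LinearMap.congr_fun hfg x
  have h2 : ∑ j, Pi.single j (g x j) = g x := Finset.univ_sum_single (g x)
  simp only [ModuleCat.hom_sum, ModuleCat.hom_comp, ModuleCat.hom_ofHom, LinearMap.sum_apply,
    LinearMap.comp_apply, LinearMap.proj_apply, LinearMap.single_apply, ModuleCat.hom_id,
    LinearMap.id_apply]
  rw [← map_sum, h2, h1]

/-- `Ψ` is fully faithful on finite projective modules when `A → End(Q K)` is bijective. -/
lemma FFOn_of_projective (hK : Function.Bijective (fun a : A => a • 𝟙 (Q.obj K)))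
    (L L' : ModuleCat.{u} A) [Module.Finite A L] [Module.Projective A L]
    [Module.Finite A L'] [Module.Projective A L'] : FFOn (Psi A K) L L' := by
  obtain ⟨n, i, p, h⟩ := exists_family L
  obtain ⟨n', i', p', h'⟩ := exists_family L'
  exact FFOn.of_sum_left i p h (FFOn.of_sum_right i' p' h' (FFOn_unit hK))

/-- an isomorphism `K ⊗ L ≅ K ⊗ L'` in `D(A)` with `L, L'` finite projective comes from an
isomorphism `L ≅ L'`, when `A → End(Q K)` is bijective. -/
theorem nonempty_iso_of_Psi_iso (hK : Function.Bijective (fun a : A => a • 𝟙 (Q.obj K)))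
    (L L' : ModuleCat.{u} A) [Module.Finite A L] [Module.Projective A L]
    [Module.Finite A L'] [Module.Projective A L']
    (e : (Psi A K).obj L ≅ (Psi A K).obj L') : Nonempty (L ≅ L') :=
  nonempty_iso_of_FFOn (FFOn_of_projective hK L L') (FFOn_of_projective hK L' L)
    (FFOn_of_projective hK L L) (FFOn_of_projective hK L' L') e

end Psi

section Shift

open Groth.Agent.Lib.InvTwist92

variable (A : Type u) [CommRing A]

/-- `T_P (Q K) ≅ Q (K ⊗ P)` -/
noncomputable def TDPsiIso (P : ModuleCat.{u} A) [Module.Flat A P]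
    (K : CochainComplex (ModuleCat.{u} A) ℤ) :
    (TD A P).obj (Q.obj K) ≅ (Psi A K).obj P :=
  (tensorRight P).mapDerivedCategoryFactors.app K

/-- cohomology of `T_P ω` vanishes where that of `ω` does -/
lemma subsingleton_HD_TD (P : ModuleCat.{u} A) [Module.Flat A P] (ω : Dual.D A) (i : ℤ)
    (h : Subsingleton (Dual.HD A ω i)) : Subsingleton (Dual.HD A ((TD A P).obj ω) i) := by
  let σ : (homologyFunctor (ModuleCat.{u} A) i).obj ((TD A P).obj ω) ≅
      (tensorRight P).obj ((homologyFunctor (ModuleCat.{u} A) i).obj ω) :=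
    (Groth.Agent.Lib.FlatBaseChangeD.mapDerivedCategoryHomologyIso (tensorRight P) i).app ω
  haveI : Subsingleton ((tensorRight P).obj ((homologyFunctor (ModuleCat.{u} A) i).obj ω)) :=
    inferInstanceAs (Subsingleton
      (TensorProduct A ((homologyFunctor (ModuleCat.{u} A) i).obj ω) P))
  exact σ.toLinearEquiv.toEquiv.subsingleton

lemma subsingleton_HD_TD_iff (P P' : ModuleCat.{u} A) [Module.Flat A P] [Module.Flat A P']
    (e : P ⊗ P' ≅ 𝟙_ (ModuleCat.{u} A)) (ω : Dual.D A) (i : ℤ) :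
    Subsingleton (Dual.HD A ((TD A P).obj ω) i) ↔ Subsingleton (Dual.HD A ω i) := by
  refine ⟨fun h => ?_, subsingleton_HD_TD A P ω i⟩
  haveI h2 : Subsingleton (Dual.HD A ((TD A P').obj ((TD A P).obj ω)) i) :=
    subsingleton_HD_TD A P' _ i h
  let τ : (homologyFunctor (ModuleCat.{u} A) i).obj ((TD A P').obj ((TD A P).obj ω)) ≅
      (homologyFunctor (ModuleCat.{u} A) i).obj ω :=
    (homologyFunctor (ModuleCat.{u} A) i).mapIso ((TDCompIso A P P' e).app ω)
  exact τ.symm.toLinearEquiv.toEquiv.subsingleton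

lemma subsingleton_HD_shift_iff (ω : Dual.D A) (n i : ℤ) :
    Subsingleton (Dual.HD A (ω⟦n⟧) i) ↔ Subsingleton (Dual.HD A ω (n + i)) := by
  let σ : (homologyFunctor (ModuleCat.{u} A) i).obj (ω⟦n⟧) ≅
      (homologyFunctor (ModuleCat.{u} A) (n + i)).obj ω :=
    ((homologyFunctor (ModuleCat.{u} A) 0).shiftIso n i (n + i) rfl).app ω
  exact ⟨fun h => σ.symm.toLinearEquiv.toEquiv.subsingleton,
    fun h => σ.toLinearEquiv.toEquiv.subsingleton⟩

/-- combinatorial core: a nonempty bounded set of integers invariant under a translation forces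
the translation to be trivial. -/
lemma eq_of_translation_invariant (S : Set ℤ) (a b : ℤ) (hS : ∀ j ∈ S, a ≤ j ∧ j ≤ b)
    (hne : S.Nonempty) (n n' : ℤ) (h : ∀ i : ℤ, n + i ∈ S ↔ n' + i ∈ S) : n = n' := by
  by_contra hnn
  obtain ⟨j0, hj0⟩ := hne
  have hstep : ∀ j, j ∈ S ↔ j + (n' - n) ∈ S := by
    intro j
    have := h (j - n)
    rw [show n + (j - n) = j by ring, show n' + (j - n) = j + (n' - n) by ring] at this
    exact this
  have hfwd : ∀ k : ℕ, j0 + k * (n' - n) ∈ S := by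
    intro k
    induction k with
    | zero => simpa using hj0
    | succ k ih =>
      have := (hstep _).1 ih
      rw [show j0 + ((k + 1 : ℕ) : ℤ) * (n' - n) = j0 + k * (n' - n) + (n' - n) by push_cast; ring]
      exact this
  have hbwd : ∀ k : ℕ, j0 - k * (n' - n) ∈ S := by
    intro k
    induction k with
    | zero => simpa using hj0
    | succ k ih =>
      apply (hstep _).2
      rw [show j0 - ((k + 1 : ℕ) : ℤ) * (n' - n) + (n' - n) = j0 - k * (n' - n) by push_cast; ring]
      exact ih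
  have hab := hS j0 hj0
  rcases lt_or_gt_of_ne hnn with hlt | hgt
  · -- n < n'
    have h1 := hS _ (hfwd (b - a + 1).toNat)
    have h2 : ((b - a + 1).toNat : ℤ) = b - a + 1 := Int.toNat_of_nonneg (by omega)
    rw [h2] at h1
    nlinarith [h1.2, hab.1]
  · have h1 := hS _ (hbwd (b - a + 1).toNat)
    have h2 : ((b - a + 1).toNat : ℤ) = b - a + 1 := Int.toNat_of_nonneg (by omega)
    rw [h2] at h1
    nlinarith [h1.2, hab.1]

/-- the dual of an invertible module is an inverse for the tensor product -/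
noncomputable def invIso (P : ModuleCat.{u} A) [Module.Invertible A P] :
    P ⊗ ModuleCat.of A (Module.Dual A P) ≅ 𝟙_ (ModuleCat.{u} A) :=
  ((TensorProduct.comm A P (Module.Dual A P)).trans
    (Module.Invertible.linearEquiv A P)).toModuleIso

/-- **Uniqueness of twist and shift** for dualizing complexes (exact tensor functor form). -/
theorem twist_shift_unique [Nontrivial A] (ω : Dual.D A) (hω : Dual.IsDualizing A ω)
    (P P' : ModuleCat.{u} A) [Module.Invertible A P] [Module.Invertible A P'] (n n' : ℤ)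
    (h : ((TD A P).obj ω)⟦n⟧ ≅ ((TD A P').obj ω)⟦n'⟧) : n = n' ∧ Nonempty (P ≅ P') := by
  haveI : Module.Flat A (ModuleCat.of A (Module.Dual A P)) :=
    inferInstanceAs (Module.Flat A (Module.Dual A P))
  haveI : Module.Flat A (ModuleCat.of A (Module.Dual A P')) :=
    inferInstanceAs (Module.Flat A (Module.Dual A P'))
  let S : Set ℤ := {j | ¬ Subsingleton (Dual.HD A ω j)}
  obtain ⟨a, b, hab⟩ := hω.finite_injective_dimension
  have hS : ∀ j ∈ S, a ≤ j ∧ j ≤ b := by
    intro j hj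
    by_contra hcon
    apply hj
    have h1 : j < a ∨ b < j := by omega
    haveI := hab A j h1
    obtain ⟨ε⟩ := Groth.Agent.Lib.H29HomFree.nonempty_equiv A ω j
    exact ε.symm.subsingleton
  have hne : S.Nonempty := by
    by_contra hcon
    rw [Set.not_nonempty_iff_eq_empty] at hcon
    have hall : ∀ j : ℤ, Subsingleton (Dual.HD A ω j) := by
      intro j
      by_contra hj
      have : j ∈ S := hj
      rw [hcon] at this
      exact this
    have hz : IsZero ω := by
      have : IsIso (0 : ω ⟶ ω) := by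
        rw [DerivedCategory.isIso_iff]
        intro q
        haveI := hall q
        have hq : IsZero ((homologyFunctor (ModuleCat.{u} A) q).obj ω) :=
          ModuleCat.isZero_of_subsingleton _
        exact ⟨⟨0, hq.eq_of_src _ _, hq.eq_of_src _ _⟩⟩
      rw [IsZero.iff_id_eq_zero]
      calc 𝟙 ω = (0 : ω ⟶ ω) ≫ inv 0 := (IsIso.hom_inv_id _).symm
        _ = 0 := zero_comp
    have h01 : (1 : A) = 0 := by
      apply hω.toEnd_bijective.1
      change (1 : A) • 𝟙 ω = (0 : A) • 𝟙 ω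
      exact hz.eq_of_src _ _
    exact one_ne_zero h01
  have htr : ∀ i : ℤ, n + i ∈ S ↔ n' + i ∈ S := by
    intro i
    change ¬ Subsingleton (Dual.HD A ω (n + i)) ↔ ¬ Subsingleton (Dual.HD A ω (n' + i))
    rw [not_iff_not, ← subsingleton_HD_TD_iff A P _ (invIso A P) ω (n + i),
      ← subsingleton_HD_TD_iff A P' _ (invIso A P') ω (n' + i),
      ← subsingleton_HD_shift_iff, ← subsingleton_HD_shift_iff]
    let τ := (homologyFunctor (ModuleCat.{u} A) i).mapIso h
    exact ⟨fun _ => τ.symm.toLinearEquiv.toEquiv.subsingleton,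
      fun _ => τ.toLinearEquiv.toEquiv.subsingleton⟩
  have hnn : n = n' := eq_of_translation_invariant S a b hS hne n n' htr
  refine ⟨hnn, ?_⟩
  subst hnn
  let φ : (TD A P).obj ω ≅ (TD A P').obj ω := (shiftFunctor (Dual.D A) n).preimageIso h
  let K := Q.objPreimage ω
  let eK : Q.obj K ≅ ω := Q.objObjPreimageIso ω
  have hK : Function.Bijective (fun a : A => a • 𝟙 (Q.obj K)) :=
    bijective_smul_id_of_iso eK hω.toEnd_bijective
  let ψ : (Psi A K).obj P ≅ (Psi A K).obj P' :=
    (TDPsiIso A P K).symm ≪≫ (TD A P).mapIso eK ≪≫ φ ≪≫ (TD A P').mapIso eK.symm ≪≫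
      TDPsiIso A P' K
  exact nonempty_iso_of_Psi_iso hK P P' ψ

end Shift

end Groth.Agent.Lib.InvTwistUniq92
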