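import Mathlib

/-!
# Tensor powers of invertible modules `N` with `Nⁿ ≃ Rⁿ`

If `N` is an invertible `R`-module and `ψ : Nⁿ ≃ Rⁿ`, then `⨂ⁿ N ≃ R`, via the determinant
`x₁ ⊗ ⋯ ⊗ xₙ ↦ det [ψ(ιⱼ xⱼ)]`.  Surjectivity is proved without localisation through a dual
determinant and the identity `det Y · det X = ∏ⱼ yⱼ(xⱼ)`.
-/

namespace Groth.Agent.Lib.InvertiblePow

open TensorProduct PiTensorProduct Matrix

universe u v
variable {R : Type u} [CommRing R] (N : Type v) [AddCommGroup N] [Module R N]

section Inv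
variable [Module.Invertible R N]

lemma invertible_tensorPower (n : ℕ) : Module.Invertible R (⨂[R]^n N) := by
  induction n with
  | zero => exact Module.Invertible.congr (PiTensorProduct.isEmptyEquiv (Fin 0)).symm
  | succ n ih =>
    have h1 : Module.Invertible R (⨂[R]^1 N) :=
      Module.Invertible.congr (PiTensorProduct.subsingletonEquiv (0 : Fin 1)).symm
    exact Module.Invertible.congr (TensorPower.mulEquiv (R := R) (M := N) (n := n) (m := 1))

lemma mk_tensorPower (n : ℕ) :
    have := invertible_tensorPower (R := R) N n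
    CommRing.Pic.mk R (⨂[R]^n N) = CommRing.Pic.mk R N ^ n := by
  induction n with
  | zero =>
    have := invertible_tensorPower (R := R) N 0
    rw [pow_zero, CommRing.Pic.mk_eq_one_iff]
    exact ⟨PiTensorProduct.isEmptyEquiv (Fin 0)⟩
  | succ n ih =>
    have := invertible_tensorPower (R := R) N n
    have := invertible_tensorPower (R := R) N 1
    have := invertible_tensorPower (R := R) N (n + 1)
    rw [pow_succ, ← ih]
    have h1 : CommRing.Pic.mk R (⨂[R]^1 N) = CommRing.Pic.mk R N :=
      CommRing.Pic.mk_eq_mk_iff.2 ⟨PiTensorProduct.subsingletonEquiv (0 : Fin 1)⟩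
    rw [← h1, ← CommRing.Pic.mk_tensor]
    exact CommRing.Pic.mk_eq_mk_iff.2
      ⟨(TensorPower.mulEquiv (R := R) (M := N) (n := n) (m := 1)).symm⟩

end Inv

section Det
variable {N} {n : ℕ} (ψ : (Fin n → N) ≃ₗ[R] (Fin n → R))

/-- the matrix with rows `ψ(ιⱼ xⱼ)` -/
def rowMat (x : Fin n → N) : Matrix (Fin n) (Fin n) R :=
  Matrix.of fun j i => ψ (Pi.single j (x j)) i

/-- the multilinear determinant -/
noncomputable def detMulti : MultilinearMap R (fun _ : Fin n => N) R :=
  (Matrix.detRowAlternating (R := R) (n := Fin n)).toMultilinearMap.compLinearMap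
    (fun j => ψ.toLinearMap ∘ₗ LinearMap.single R (fun _ : Fin n => N) j)

lemma detMulti_apply (x : Fin n → N) : detMulti ψ x = (rowMat ψ x).det := rfl

/-- the determinant as a linear map on the tensor power -/
noncomputable def detLin : (⨂[R]^n N) →ₗ[R] R := PiTensorProduct.lift (detMulti ψ)

/-- the dual matrix -/
def dualMat (y : Fin n → Module.Dual R N) : Matrix (Fin n) (Fin n) R :=
  Matrix.of fun j i => y j (ψ.symm (Pi.single i 1) j)

lemma dualMat_mul_rowMat_transpose (x : Fin n → N) (y : Fin n → Module.Dual R N) :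
    dualMat ψ y * (rowMat ψ x)ᵀ = Matrix.diagonal (fun j => y j (x j)) := by
  ext j k
  simp only [Matrix.mul_apply, dualMat, rowMat, Matrix.transpose_apply, Matrix.of_apply]
  set c : Fin n → R := ψ (Pi.single k (x k)) with hc
  have h1 : ψ.symm c = ∑ i, c i • ψ.symm (Pi.single i 1) := by
    conv_lhs => rw [pi_eq_sum_univ' c]
    simp [map_sum]
  have h2 : y j ((ψ.symm c) j) = ∑ i, (y j) ((ψ.symm (Pi.single i 1)) j) * c i := by
    rw [h1]
    simp [Finset.sum_apply, map_sum, mul_comm]
  rw [← h2, hc, LinearEquiv.symm_apply_apply]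
  by_cases hjk : j = k
  · subst hjk
    simp
  · simp [Matrix.diagonal_apply_ne _ hjk, Pi.single_apply, hjk]

lemma det_dualMat_mul (x : Fin n → N) (y : Fin n → Module.Dual R N) :
    (dualMat ψ y).det * detMulti ψ x = ∏ j, y j (x j) := by
  rw [detMulti_apply, ← Matrix.det_transpose (rowMat ψ x), ← Matrix.det_mul,
    dualMat_mul_rowMat_transpose, Matrix.det_diagonal]

lemma detLin_surjective [Module.Invertible R N] : Function.Surjective (detLin ψ) := by
  obtain ⟨t, ht⟩ := (Module.Invertible.bijective (R := R) (M := N)).surjective 1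
  obtain ⟨S, hS⟩ := TensorProduct.exists_finset t
  have h1 : ∑ p ∈ S, p.1 p.2 = (1 : R) := by
    rw [← ht, hS, map_sum]
    simp [contractLeft_apply]
  have h2 : (1 : R) = ∑ κ ∈ Fintype.piFinset (fun _ : Fin n => S), ∏ j, (κ j).1 ((κ j).2) := by
    rw [← Finset.prod_univ_sum (fun _ : Fin n => S) (fun _ p => p.1 p.2)]
    simp [h1]
  have h3 : detLin ψ (∑ κ ∈ Fintype.piFinset (fun _ : Fin n => S),
      (dualMat ψ (fun j => (κ j).1)).det • PiTensorProduct.tprod R (fun j => (κ j).2)) = 1 := by
    rw [map_sum, h2]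
    refine Finset.sum_congr rfl fun κ _ => ?_
    rw [map_smul, detLin, PiTensorProduct.lift.tprod, smul_eq_mul, det_dualMat_mul]
  intro c
  exact ⟨c • _, by rw [map_smul, h3, smul_eq_mul, mul_one]⟩

include ψ in
theorem nonempty_tensorPower_equiv [Module.Invertible R N] :
    Nonempty ((⨂[R]^n N) ≃ₗ[R] R) := by
  have := invertible_tensorPower (R := R) N n
  exact ⟨LinearEquiv.ofBijective (detLin ψ)
    (Module.Invertible.bijective_of_surjective (detLin_surjective ψ))⟩

include ψ in
theorem pic_pow_eq_one [Module.Invertible R N] : CommRing.Pic.mk R N ^ n = 1 := by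
  have := invertible_tensorPower (R := R) N n
  rw [← mk_tensorPower, CommRing.Pic.mk_eq_one_iff]
  exact nonempty_tensorPower_equiv ψ

end Det

end Groth.Agent.Lib.InvertiblePow
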