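import Mathlib

/-!
# Irreducible components of an open subspace

`finite_irreducibleComponents_of_isOpen`: if only finitely many irreducible components of `X` meet
the open subset `W`, then `W` has finitely many irreducible components.
-/

set_option autoImplicit false

open TopologicalSpace Topology

namespace Groth.Agent.Lib.IrredOpen

variable {X : Type*} [TopologicalSpace X]

/-- The closure in `X` of an irreducible component of an open subspace `W` is an irreducible
component of `X` meeting `W`. -/
theorem closure_image_mem_irreducibleComponents {W : Set X} (hW : IsOpen W) (C : Set W)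
    (hC : C ∈ irreducibleComponents W) :
    closure (Subtype.val '' C) ∈ irreducibleComponents X ∧
      (closure (Subtype.val '' C) ∩ W).Nonempty := by
  have hemb : IsOpenEmbedding (Subtype.val : W → X) := hW.isOpenEmbedding_subtypeVal
  have hCirr : IsIrreducible C := hC.1
  have hD : IsIrreducible (closure (Subtype.val '' C : Set X)) :=
    (hCirr.image _ continuous_subtype_val.continuousOn).closure
  obtain ⟨c, hc⟩ := hCirr.nonempty
  refine ⟨⟨hD, ?_⟩, ⟨c.1, subset_closure ⟨c, hc, rfl⟩, c.2⟩⟩
  intro Z' hZ' hle
  -- `Z' ∩ W` is irreducible in `W` and contains `C`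
  have hT : IsIrreducible (Subtype.val ⁻¹' Z' : Set W) :=
    ⟨⟨c, hle (subset_closure ⟨c, hc, rfl⟩)⟩, hZ'.isPreirreducible.preimage hemb⟩
  have hCT : C ⊆ Subtype.val ⁻¹' Z' := fun y hy => hle (subset_closure ⟨y, hy, rfl⟩)
  have hTC : (Subtype.val ⁻¹' Z' : Set W) ⊆ C := hC.2 hT hCT
  have hZW : (Z' ∩ W).Nonempty := ⟨c.1, hle (subset_closure ⟨c, hc, rfl⟩), c.2⟩
  have h1 : Z' ⊆ closure (Z' ∩ W) :=
    subset_closure_inter_of_isPreirreducible_of_isOpen hZ'.isPreirreducible hW hZW
  refine h1.trans (closure_mono ?_)
  rintro z ⟨hzZ', hzW⟩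
  exact ⟨⟨z, hzW⟩, hTC hzZ', rfl⟩

theorem finite_irreducibleComponents_of_isOpen {W : Set X} (hW : IsOpen W)
    (hfin : {Z : Set X | Z ∈ irreducibleComponents X ∧ (Z ∩ W).Nonempty}.Finite) :
    (irreducibleComponents W).Finite := by
  refine Set.Finite.of_injOn (f := fun C : Set W => closure (Subtype.val '' C : Set X))
    (fun C hC => closure_image_mem_irreducibleComponents hW C hC) ?_ hfin
  intro C₁ hC₁ C₂ hC₂ h
  have key : ∀ C ∈ irreducibleComponents W,
      C = Subtype.val ⁻¹' closure (Subtype.val '' C : Set X) := by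
    intro C hC
    have hcl : IsClosed C := isClosed_of_mem_irreducibleComponents C hC
    rw [← Topology.IsInducing.subtypeVal.closure_eq_preimage_closure_image, hcl.closure_eq]
  rw [key C₁ hC₁, key C₂ hC₂]
  exact congrArg _ h

end Groth.Agent.Lib.IrredOpen
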