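import Mathlib
import Groth.Prelude.Def_SGA1
import Groth.Agent.Lib.H8IsQuotBasis

/-!
# Checking the quotient conditions on an affine chart (helper37)

`chart_H`: if `V ⊆ Y` and `p ⁻¹ V ⊆ X` are the images of open immersions `Spec R ⟶ Y`,
`Spec S ⟶ X`, compatible with `p` via `θ : R ⟶ S` and with the group action via `τ g : S ⟶ S`,
then injectivity of `θ` and `S^G ⊆ θ(R)` give the two sectionwise quotient conditions over `V`.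
-/

set_option autoImplicit false
universe u

open CategoryTheory AlgebraicGeometry Opposite TopologicalSpace

namespace Groth.Agent.Lib.IsQuotChart37

open Groth.Agent.Lib.H8IsQuotBasis

variable {X Y : Scheme.{u}} {G : Type u} [Group G]

lemma isIso_appLE_top {X : Scheme.{u}} {S : CommRingCat.{u}} (j : Spec S ⟶ X) [IsOpenImmersion j]
    (U : X.Opens) (hj : j.opensRange = U) (e : (⊤ : (Spec S).Opens) ≤ j ⁻¹ᵁ U) :
    IsIso (j.appLE U ⊤ e) := by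
  haveI := Scheme.Hom.isIso_app j U hj.ge
  have hjU : j ⁻¹ᵁ U = ⊤ := by
    rw [← hj]
    exact Scheme.Hom.preimage_opensRange j
  have h1 : homOfLE e = eqToHom hjU.symm := Subsingleton.elim _ _
  show IsIso (j.app U ≫ (Spec S).presheaf.map (homOfLE e).op)
  rw [h1]
  infer_instance

lemma appLE_top_ΓSpecIso {R S : CommRingCat.{u}} (θ : R ⟶ S) :
    (Spec.map θ).appLE ⊤ ⊤ le_top ≫ (Scheme.ΓSpecIso S).hom = (Scheme.ΓSpecIso R).hom ≫ θ := by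
  have h : (Spec.map θ).appLE ⊤ ⊤ le_top = (Spec.map θ).appTop :=
    Scheme.Hom.appLE_eq_app (f := Spec.map θ) (U := ⊤)
  rw [h]
  exact Scheme.ΓSpecIso_naturality θ

theorem chart_H (ρ : G →* Aut X) (p : X ⟶ Y) (hinv : ∀ g : G, (ρ g).hom ≫ p = p) (V : Y.Opens)
    {R S : CommRingCat.{u}} (j : Spec S ⟶ X) [IsOpenImmersion j] (k : Spec R ⟶ Y)
    [IsOpenImmersion k] (hj : j.opensRange = p ⁻¹ᵁ V) (hk : k.opensRange = V)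
    (θ : R ⟶ S) (hθ : j ≫ p = Spec.map θ ≫ k)
    (τ : G → (S ⟶ S)) (hτ : ∀ g, j ≫ (ρ g).hom = Spec.map (τ g) ≫ j)
    (hinj : Function.Injective θ.hom)
    (hfix : ∀ s : S, (∀ g, (τ g).hom s = s) → s ∈ Set.range θ.hom) :
    Function.Injective (p.app V).hom ∧
      ∀ a : Γ(X, p ⁻¹ᵁ V), IsInvSec ρ p hinv V a → a ∈ Set.range (p.app V).hom := by
  have hjU : j ⁻¹ᵁ (p ⁻¹ᵁ V) = ⊤ := by
    rw [← hj]
    exact Scheme.Hom.preimage_opensRange j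
  have hkV : k ⁻¹ᵁ V = ⊤ := by
    have := Scheme.Hom.preimage_opensRange k
    rwa [hk] at this
  have eJ : (⊤ : (Spec S).Opens) ≤ j ⁻¹ᵁ (p ⁻¹ᵁ V) := hjU.ge
  have eK : (⊤ : (Spec R).Opens) ≤ k ⁻¹ᵁ V := hkV.ge
  haveI : IsIso (j.appLE (p ⁻¹ᵁ V) ⊤ eJ) := isIso_appLE_top j _ hj eJ
  haveI : IsIso (k.appLE V ⊤ eK) := isIso_appLE_top k _ hk eK
  let Φ : Γ(X, p ⁻¹ᵁ V) ⟶ S := j.appLE (p ⁻¹ᵁ V) ⊤ eJ ≫ (Scheme.ΓSpecIso S).hom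
  let Ψ : Γ(Y, V) ⟶ R := k.appLE V ⊤ eK ≫ (Scheme.ΓSpecIso R).hom
  have hΦ : Function.Bijective Φ.hom := ConcreteCategory.bijective_of_isIso Φ
  have hΨ : Function.Bijective Ψ.hom := ConcreteCategory.bijective_of_isIso Ψ
  have F1 : p.app V ≫ Φ = Ψ ≫ θ := by
    have e1 : p.app V ≫ j.appLE (p ⁻¹ᵁ V) ⊤ eJ =
        k.appLE V ⊤ eK ≫ (Spec.map θ).appLE ⊤ ⊤ le_top := by
      rw [Scheme.Hom.app_eq_appLE, Scheme.Hom.appLE_comp_appLE, Scheme.Hom.appLE_comp_appLE,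
        appLE_congr_hom hθ]
    show p.app V ≫ j.appLE (p ⁻¹ᵁ V) ⊤ eJ ≫ _ = (k.appLE V ⊤ eK ≫ _) ≫ θ
    rw [← Category.assoc, e1, Category.assoc, appLE_top_ΓSpecIso θ, Category.assoc]
  have F2 : ∀ g : G, (ρ g).hom.appLE (p ⁻¹ᵁ V) (p ⁻¹ᵁ V)
      (SGA1.preimage_le_of_inv ρ p hinv g V) ≫ Φ = Φ ≫ τ g := by
    intro g
    have e1 : (ρ g).hom.appLE (p ⁻¹ᵁ V) (p ⁻¹ᵁ V) (SGA1.preimage_le_of_inv ρ p hinv g V) ≫
        j.appLE (p ⁻¹ᵁ V) ⊤ eJ =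
        j.appLE (p ⁻¹ᵁ V) ⊤ eJ ≫ (Spec.map (τ g)).appLE ⊤ ⊤ le_top := by
      rw [Scheme.Hom.appLE_comp_appLE, Scheme.Hom.appLE_comp_appLE, appLE_congr_hom (hτ g)]
    show _ ≫ j.appLE (p ⁻¹ᵁ V) ⊤ eJ ≫ _ = (j.appLE (p ⁻¹ᵁ V) ⊤ eJ ≫ _) ≫ τ g
    rw [← Category.assoc, e1, Category.assoc, appLE_top_ΓSpecIso (τ g), Category.assoc]
  have F1b : ∀ b : Γ(Y, V), Φ.hom ((p.app V).hom b) = θ.hom (Ψ.hom b) :=
    fun b => congrArg (fun φ : Γ(Y, V) ⟶ S => φ.hom b) F1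
  refine ⟨?_, ?_⟩
  · intro b b' hbb'
    have h1 := congrArg Φ.hom hbb'
    rw [F1b, F1b] at h1
    exact hΨ.1 (hinj h1)
  · intro a ha
    have hs : ∀ g : G, (τ g).hom (Φ.hom a) = Φ.hom a := by
      intro g
      have h2 : Φ.hom (((ρ g).hom.appLE (p ⁻¹ᵁ V) (p ⁻¹ᵁ V)
          (SGA1.preimage_le_of_inv ρ p hinv g V)).hom a) = (τ g).hom (Φ.hom a) :=
        congrArg (fun φ : Γ(X, p ⁻¹ᵁ V) ⟶ S => φ.hom a) (F2 g)
      rw [ha g] at h2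
      exact h2.symm
    obtain ⟨r, hr⟩ := hfix (Φ.hom a) hs
    obtain ⟨b, hb⟩ := hΨ.2 r
    refine ⟨b, hΦ.1 ?_⟩
    rw [F1b, hb, hr]

end Groth.Agent.Lib.IsQuotChart37
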