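import Mathlib
import Groth.Prelude.Def_SGA1
import Groth.Agent.Lib.H8IsQuotBasis

/-!
# Composition of quotients by finite groups (helper37)

`isQuot_comp`: if `π₁ : W ⟶ M` is a quotient of `W` by `G` (acting through `θ (g, 1)`),
`π₂ : M ⟶ T` is a quotient of `M` by `H` (acting through `σ'`) and the action of `θ (1, h)` on `W`
lies over `σ' h`, then `π₁ ≫ π₂` is a quotient of `W` by `G × H`.
-/

set_option autoImplicit false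
universe u

open CategoryTheory AlgebraicGeometry Opposite TopologicalSpace

namespace Groth.Agent.Lib.IsQuotComp37

open Groth.Agent.Lib.H8IsQuotBasis

theorem isQuot_comp {W M T : Scheme.{u}} {G H : Type u} [Group G] [Group H]
    (θ : G × H →* Aut W) (π₁ : W ⟶ M) (π₂ : M ⟶ T) (σ' : H →* Aut M)
    (h1 : SGA1.IsQuot (θ.comp (MonoidHom.inl G H)) π₁) (h2 : SGA1.IsQuot σ' π₂)
    (hc : ∀ h : H, (θ (1, h)).hom ≫ π₁ = π₁ ≫ (σ' h).hom) :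
    SGA1.IsQuot θ (π₁ ≫ π₂) := by
  have hinv : ∀ gh : G × H, (θ gh).hom ≫ π₁ ≫ π₂ = π₁ ≫ π₂ := by
    rintro ⟨g, h⟩
    have e : ((g, h) : G × H) = (g, 1) * (1, h) := by simp
    have e1 : (θ (g, 1)).hom ≫ π₁ = π₁ := h1.inv g
    have e2 : (θ (g, h)).hom = (θ (1, h)).hom ≫ (θ (g, 1)).hom := by
      rw [e, map_mul]
      rfl
    rw [e2, Category.assoc, reassoc_of% e1, reassoc_of% (hc h), h2.inv h]
  haveI := h1.affine
  haveI := h2.affine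
  refine ⟨inferInstance, hinv, ?_, ?_⟩
  · intro U
    have e3 : (π₁ ≫ π₂).app U = π₂.app U ≫ π₁.app (π₂ ⁻¹ᵁ U) := Scheme.Hom.comp_app π₁ π₂ U
    rw [e3]
    exact (h1.injective (π₂ ⁻¹ᵁ U)).comp (h2.injective U)
  · intro U s
    constructor
    · rintro ⟨b, rfl⟩
      exact isInvSec_app hinv U b
    · intro hs
      obtain ⟨t, rfl⟩ := (h1.range_iff (π₂ ⁻¹ᵁ U) s).mpr (fun g => hs (g, 1))
      have ht : ∀ h : H, ((σ' h).hom.appLE (π₂ ⁻¹ᵁ U) (π₂ ⁻¹ᵁ U)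
          (SGA1.preimage_le_of_inv σ' π₂ h2.inv h U)).hom t = t := by
        intro h
        apply h1.injective (π₂ ⁻¹ᵁ U)
        have e4 : (σ' h).hom.appLE (π₂ ⁻¹ᵁ U) (π₂ ⁻¹ᵁ U)
            (SGA1.preimage_le_of_inv σ' π₂ h2.inv h U) ≫ π₁.app (π₂ ⁻¹ᵁ U) =
            π₁.app (π₂ ⁻¹ᵁ U) ≫ (θ (1, h)).hom.appLE (π₁ ⁻¹ᵁ (π₂ ⁻¹ᵁ U)) (π₁ ⁻¹ᵁ (π₂ ⁻¹ᵁ U))
              (SGA1.preimage_le_of_inv θ (π₁ ≫ π₂) hinv (1, h) U) := by
          rw [Scheme.Hom.app_eq_appLE, Scheme.Hom.appLE_comp_appLE, Scheme.Hom.appLE_comp_appLE,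
            appLE_congr_hom (hc h)]
        have e5 := congrArg (fun φ : Γ(M, π₂ ⁻¹ᵁ U) ⟶ Γ(W, π₁ ⁻¹ᵁ (π₂ ⁻¹ᵁ U)) => φ.hom t) e4
        exact e5.trans (hs (1, h))
      obtain ⟨b, rfl⟩ := (h2.range_iff U t).mpr ht
      refine ⟨b, ?_⟩
      exact congrArg (fun φ : Γ(T, U) ⟶ Γ(W, π₁ ⁻¹ᵁ (π₂ ⁻¹ᵁ U)) => φ.hom b)
        (Scheme.Hom.comp_app π₁ π₂ U)

end Groth.Agent.Lib.IsQuotComp37
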