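import Mathlib
import Groth.Prelude.Def_SGA1
import Groth.Agent.Lib.H8IsQuotBasis

/-!
# Quotient of a disjoint union of translates (helper37)

If `p : X ⟶ Z` is a quotient of `X` by `G`, `H ≤ G` and `Y ⊆ X` is an `H`-stable open such that
`X` is the disjoint union of the translates of `Y` over `G / H`, then `Y ⟶ X ⟶ Z` is a quotient of
`Y` by `H` (`isQuot_of_coset`).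
-/

set_option autoImplicit false
universe u

open CategoryTheory AlgebraicGeometry Opposite TopologicalSpace

namespace Groth.Agent.Lib.IsQuotCoset37

open Groth.Agent.Lib.H8IsQuotBasis

lemma id_appLE' {X : Scheme.{u}} (U : X.Opens) (e : U ≤ (𝟙 X : X ⟶ X) ⁻¹ᵁ U) :
    (𝟙 X : X ⟶ X).appLE U U e = 𝟙 _ := by
  rw [Scheme.Hom.appLE]
  show 𝟙 _ ≫ X.presheaf.map (homOfLE e).op = 𝟙 _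
  rw [Category.id_comp]
  exact (congrArg X.presheaf.map (Subsingleton.elim _ _)).trans (X.presheaf.map_id _)

section

variable {X Z : Scheme.{u}} {G : Type u} [Group G] (ρ : G →* Aut X)

lemma hom_mul (a b : G) : (ρ (a * b)).hom = (ρ b).hom ≫ (ρ a).hom := by
  rw [map_mul]
  rfl

lemma hom_one : (ρ 1).hom = 𝟙 X := by
  rw [map_one]
  rfl

lemma apply_mul (a b : G) (x : X) : (ρ (a * b)).hom x = (ρ a).hom ((ρ b).hom x) := by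
  rw [hom_mul]
  rfl

lemma apply_one (x : X) : (ρ 1).hom x = x := by
  rw [hom_one]
  rfl

variable (p : X ⟶ Z) (hP : SGA1.IsQuot ρ p) (H : Subgroup G) (Y : X.Opens)
  (hcov : ∀ x : X, ∃ g : G, x ∈ (ρ g).hom.base '' (Y : Set X))
  (hdisj : ∀ g : G, g ∉ H → Disjoint ((ρ g).hom.base '' (Y : Set X)) (Y : Set X))
  (ρY : H →* Aut (Y : Scheme.{u}))
  (hρY : ∀ h : H, (ρY h).hom ≫ Y.ι = Y.ι ≫ (ρ (h : G)).hom)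

include hρY in
lemma stable (h : H) (y : X) (hy : y ∈ Y) : (ρ (h : G)).hom y ∈ Y := by
  have e := congrArg (fun f : (Y : Scheme.{u}) ⟶ X => f ⟨y, hy⟩) (hρY h)
  have e' : (Y.ι ((ρY h).hom ⟨y, hy⟩) : X) = (ρ (h : G)).hom y := e
  rw [← e']
  exact ((ρY h).hom ⟨y, hy⟩).2

include hdisj in
lemma mem_of_mem (g : G) (y : X) (hy : y ∈ Y) (hgy : (ρ g).hom y ∈ Y) : g ∈ H := by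
  by_contra hg
  exact Set.disjoint_left.mp (hdisj g hg) ⟨y, hy, rfl⟩ hgy

include hcov in
lemma exists_translate (x : X) : ∃ g : G, (ρ g).hom x ∈ Y := by
  obtain ⟨g, y, hy, rfl⟩ := hcov x
  refine ⟨g⁻¹, ?_⟩
  have : (ρ g⁻¹).hom ((ρ g).hom y) = y := by
    rw [← apply_mul, inv_mul_cancel, apply_one]
  rw [this]
  exact hy

include hcov hdisj hρY in
lemma isClosed_Y : IsClosed (Y : Set X) := by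
  rw [← isOpen_compl_iff, isOpen_iff_forall_mem_open]
  intro x hx
  obtain ⟨g, hg⟩ := exists_translate ρ Y hcov x
  refine ⟨((ρ g).hom ⁻¹ᵁ Y : X.Opens), ?_, ((ρ g).hom ⁻¹ᵁ Y).2, hg⟩
  intro y hy hyY
  have hgH : g ∈ H := mem_of_mem ρ H Y hdisj g y hyY hy
  apply hx
  have h1 := stable ρ H Y ρY hρY ⟨g⁻¹, H.inv_mem hgH⟩ _ hg
  have h2 : (ρ g⁻¹).hom ((ρ g).hom x) = x := by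
    rw [← apply_mul, inv_mul_cancel, apply_one]
  rw [h2] at h1
  exact h1

include hP hρY in
lemma inv_comp (h : H) : (ρY h).hom ≫ Y.ι ≫ p = Y.ι ≫ p := by
  rw [reassoc_of% (hρY h), hP.inv]

/-- the action of `ρY h` on sections is that of `ρ h` -/
lemma appLE_ρY (h : H) (V' : (Y : Scheme.{u}).Opens) (e : V' ≤ (ρY h).hom ⁻¹ᵁ V')
    (e' : Y.ι ''ᵁ V' ≤ (ρ (h : G)).hom ⁻¹ᵁ (Y.ι ''ᵁ V')) (hρYh : (ρY h).hom ≫ Y.ι = Y.ι ≫ (ρ (h : G)).hom) :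
    (ρY h).hom.appLE V' V' e = (ρ (h : G)).hom.appLE (Y.ι ''ᵁ V') (Y.ι ''ᵁ V') e' := by
  have hle : V' ≤ Y.ι ⁻¹ᵁ (Y.ι ''ᵁ V') := (Y.ι.preimage_image_eq V').ge
  have h0 : Y.ι.appLE (Y.ι ''ᵁ V') V' hle = 𝟙 _ := by
    rw [Scheme.Opens.ι_appLE]
    exact (congrArg X.presheaf.map (Subsingleton.elim _ _)).trans (X.presheaf.map_id _)
  have h1 : Y.ι.appLE (Y.ι ''ᵁ V') V' hle ≫ (ρY h).hom.appLE V' V' e =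
      (ρ (h : G)).hom.appLE (Y.ι ''ᵁ V') (Y.ι ''ᵁ V') e' ≫ Y.ι.appLE (Y.ι ''ᵁ V') V' hle := by
    rw [Scheme.Hom.appLE_comp_appLE, Scheme.Hom.appLE_comp_appLE, appLE_congr_hom hρYh]
  rw [h0] at h1
  exact (Category.id_comp _).symm.trans (h1.trans (Category.comp_id _))

include hP hcov hdisj hρY in
theorem sections_coset (hinv : ∀ h : H, (ρY h).hom ≫ Y.ι ≫ p = Y.ι ≫ p) (V : Z.Opens) :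
    Function.Injective ((Y.ι ≫ p).app V).hom ∧
      ∀ s : Γ(Y, (Y.ι ≫ p) ⁻¹ᵁ V), IsInvSec ρY (Y.ι ≫ p) hinv V s →
        s ∈ Set.range ((Y.ι ≫ p).app V).hom := by
  have hW : ∀ g : G, p ⁻¹ᵁ V ≤ (ρ g).hom ⁻¹ᵁ (p ⁻¹ᵁ V) :=
    fun g => SGA1.preimage_le_of_inv ρ p hP.inv g V
  have hOW : Y.ι ''ᵁ (Y.ι ⁻¹ᵁ (p ⁻¹ᵁ V)) ≤ p ⁻¹ᵁ V := Y.ι.image_preimage_le (p ⁻¹ᵁ V)
  have hOY : Y.ι ''ᵁ (Y.ι ⁻¹ᵁ (p ⁻¹ᵁ V)) ≤ Y := Y.ι_image_le _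
  have hmemO : ∀ x : X, x ∈ Y → x ∈ p ⁻¹ᵁ V → x ∈ Y.ι ''ᵁ (Y.ι ⁻¹ᵁ (p ⁻¹ᵁ V)) := by
    intro x hxY hxW
    exact ⟨⟨x, hxY⟩, hxW, rfl⟩
  have happ : ∀ b : Γ(Z, V), ((Y.ι ≫ p).app V).hom b =
      (X.presheaf.map (homOfLE hOW).op).hom ((p.app V).hom b) := by
    intro b
    have e : (Y.ι ≫ p).app V = p.app V ≫ Y.ι.app (p ⁻¹ᵁ V) := Scheme.Hom.comp_app Y.ι p V
    exact congrArg (fun φ : Γ(Z, V) ⟶ Γ(X, Y.ι ''ᵁ (Y.ι ⁻¹ᵁ (p ⁻¹ᵁ V))) => φ.hom b) e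
  have hOgW : ∀ g : G, (ρ g).hom ⁻¹ᵁ (Y.ι ''ᵁ (Y.ι ⁻¹ᵁ (p ⁻¹ᵁ V))) ≤ p ⁻¹ᵁ V := by
    intro g x hx
    have h1 : (ρ g).hom x ∈ p ⁻¹ᵁ V := hOW hx
    have h2 : ((ρ g).hom ≫ p) x ∈ V := h1
    rw [hP.inv g] at h2
    exact h2
  have hcover : p ⁻¹ᵁ V ≤ ⨆ g : G, (ρ g).hom ⁻¹ᵁ (Y.ι ''ᵁ (Y.ι ⁻¹ᵁ (p ⁻¹ᵁ V))) := by
    intro x hx
    obtain ⟨g, hg⟩ := exists_translate ρ Y hcov x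
    exact Opens.mem_iSup.mpr ⟨g, hmemO _ hg (hW g hx)⟩
  have he' : ∀ h : H, Y.ι ''ᵁ (Y.ι ⁻¹ᵁ (p ⁻¹ᵁ V)) ≤
      (ρ (h : G)).hom ⁻¹ᵁ (Y.ι ''ᵁ (Y.ι ⁻¹ᵁ (p ⁻¹ᵁ V))) := by
    intro h x hx
    exact hmemO _ (stable ρ H Y ρY hρY h x (hOY hx)) (hW h (hOW hx))
  have hres : ∀ (g : G) (s : Γ(X, p ⁻¹ᵁ V)),
      ((ρ g).hom.appLE (p ⁻¹ᵁ V) (p ⁻¹ᵁ V) (hW g)).hom s = s →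
      (X.presheaf.map (homOfLE (hOgW g)).op).hom s =
        ((ρ g).hom.appLE (Y.ι ''ᵁ (Y.ι ⁻¹ᵁ (p ⁻¹ᵁ V)))
          ((ρ g).hom ⁻¹ᵁ (Y.ι ''ᵁ (Y.ι ⁻¹ᵁ (p ⁻¹ᵁ V)))) le_rfl).hom
          ((X.presheaf.map (homOfLE hOW).op).hom s) := by
    intro g s hs
    have e1 : (ρ g).hom.appLE (p ⁻¹ᵁ V) (p ⁻¹ᵁ V) (hW g) ≫
        X.presheaf.map (homOfLE (hOgW g)).op =
        X.presheaf.map (homOfLE hOW).op ≫ (ρ g).hom.appLE (Y.ι ''ᵁ (Y.ι ⁻¹ᵁ (p ⁻¹ᵁ V)))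
          ((ρ g).hom ⁻¹ᵁ (Y.ι ''ᵁ (Y.ι ⁻¹ᵁ (p ⁻¹ᵁ V)))) le_rfl := by
      rw [Scheme.Hom.appLE_map, Scheme.Hom.map_appLE]
    have e2 : (X.presheaf.map (homOfLE (hOgW g)).op).hom
        (((ρ g).hom.appLE (p ⁻¹ᵁ V) (p ⁻¹ᵁ V) (hW g)).hom s) =
        ((ρ g).hom.appLE (Y.ι ''ᵁ (Y.ι ⁻¹ᵁ (p ⁻¹ᵁ V)))
          ((ρ g).hom ⁻¹ᵁ (Y.ι ''ᵁ (Y.ι ⁻¹ᵁ (p ⁻¹ᵁ V)))) le_rfl).hom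
          ((X.presheaf.map (homOfLE hOW).op).hom s) :=
      congrArg (fun φ : Γ(X, p ⁻¹ᵁ V) ⟶
        Γ(X, (ρ g).hom ⁻¹ᵁ (Y.ι ''ᵁ (Y.ι ⁻¹ᵁ (p ⁻¹ᵁ V)))) => φ.hom s) e1
    rw [hs] at e2
    exact e2
  refine ⟨?_, ?_⟩
  · intro b b' hbb'
    rw [happ, happ] at hbb'
    apply hP.injective V
    refine X.sheaf.eq_of_locally_eq'
      (fun g : G => (ρ g).hom ⁻¹ᵁ (Y.ι ''ᵁ (Y.ι ⁻¹ᵁ (p ⁻¹ᵁ V)))) (p ⁻¹ᵁ V)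
      (fun g => homOfLE (hOgW g)) hcover _ _ ?_
    intro g
    have i1 := hres g _ (isInvSec_app hP.inv V b g)
    have i2 := hres g _ (isInvSec_app hP.inv V b' g)
    exact i1.trans ((congrArg _ hbb').trans i2.symm)
  · intro t ht
    have ht' : ∀ h : H, ((ρ (h : G)).hom.appLE (Y.ι ''ᵁ (Y.ι ⁻¹ᵁ (p ⁻¹ᵁ V)))
        (Y.ι ''ᵁ (Y.ι ⁻¹ᵁ (p ⁻¹ᵁ V))) (he' h)).hom t = t := by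
      intro h
      have h1 := ht h
      have h2 := appLE_ρY ρ H Y ρY h (Y.ι ⁻¹ᵁ (p ⁻¹ᵁ V))
        (SGA1.preimage_le_of_inv ρY (Y.ι ≫ p) hinv h V) (he' h) (hρY h)
      exact (congrArg (fun φ : Γ(X, Y.ι ''ᵁ (Y.ι ⁻¹ᵁ (p ⁻¹ᵁ V))) ⟶
        Γ(X, Y.ι ''ᵁ (Y.ι ⁻¹ᵁ (p ⁻¹ᵁ V))) => φ.hom t) h2).symm.trans h1
    let sf : ∀ g : G, Γ(X, (ρ g).hom ⁻¹ᵁ (Y.ι ''ᵁ (Y.ι ⁻¹ᵁ (p ⁻¹ᵁ V)))) := fun g =>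
      ((ρ g).hom.appLE (Y.ι ''ᵁ (Y.ι ⁻¹ᵁ (p ⁻¹ᵁ V)))
        ((ρ g).hom ⁻¹ᵁ (Y.ι ''ᵁ (Y.ι ⁻¹ᵁ (p ⁻¹ᵁ V)))) le_rfl).hom t
    have hcompat : TopCat.Presheaf.IsCompatible X.presheaf
        (fun g : G => (ρ g).hom ⁻¹ᵁ (Y.ι ''ᵁ (Y.ι ⁻¹ᵁ (p ⁻¹ᵁ V)))) sf := by
      intro g g'
      have l1 : (X.presheaf.map (Opens.infLELeft
          ((ρ g).hom ⁻¹ᵁ (Y.ι ''ᵁ (Y.ι ⁻¹ᵁ (p ⁻¹ᵁ V))))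
          ((ρ g').hom ⁻¹ᵁ (Y.ι ''ᵁ (Y.ι ⁻¹ᵁ (p ⁻¹ᵁ V))))).op).hom (sf g) =
          ((ρ g).hom.appLE (Y.ι ''ᵁ (Y.ι ⁻¹ᵁ (p ⁻¹ᵁ V)))
            ((ρ g).hom ⁻¹ᵁ (Y.ι ''ᵁ (Y.ι ⁻¹ᵁ (p ⁻¹ᵁ V))) ⊓
              (ρ g').hom ⁻¹ᵁ (Y.ι ''ᵁ (Y.ι ⁻¹ᵁ (p ⁻¹ᵁ V)))) inf_le_left).hom t :=
        congrArg (fun φ : Γ(X, Y.ι ''ᵁ (Y.ι ⁻¹ᵁ (p ⁻¹ᵁ V))) ⟶
          Γ(X, (ρ g).hom ⁻¹ᵁ (Y.ι ''ᵁ (Y.ι ⁻¹ᵁ (p ⁻¹ᵁ V))) ⊓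
              (ρ g').hom ⁻¹ᵁ (Y.ι ''ᵁ (Y.ι ⁻¹ᵁ (p ⁻¹ᵁ V)))) => φ.hom t)
          (Scheme.Hom.appLE_map (ρ g).hom le_rfl (Opens.infLELeft _ _).op)
      have l2 : (X.presheaf.map (Opens.infLERight
          ((ρ g).hom ⁻¹ᵁ (Y.ι ''ᵁ (Y.ι ⁻¹ᵁ (p ⁻¹ᵁ V))))
          ((ρ g').hom ⁻¹ᵁ (Y.ι ''ᵁ (Y.ι ⁻¹ᵁ (p ⁻¹ᵁ V))))).op).hom (sf g') =
          ((ρ g').hom.appLE (Y.ι ''ᵁ (Y.ι ⁻¹ᵁ (p ⁻¹ᵁ V)))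
            ((ρ g).hom ⁻¹ᵁ (Y.ι ''ᵁ (Y.ι ⁻¹ᵁ (p ⁻¹ᵁ V))) ⊓
              (ρ g').hom ⁻¹ᵁ (Y.ι ''ᵁ (Y.ι ⁻¹ᵁ (p ⁻¹ᵁ V)))) inf_le_right).hom t :=
        congrArg (fun φ : Γ(X, Y.ι ''ᵁ (Y.ι ⁻¹ᵁ (p ⁻¹ᵁ V))) ⟶
          Γ(X, (ρ g).hom ⁻¹ᵁ (Y.ι ''ᵁ (Y.ι ⁻¹ᵁ (p ⁻¹ᵁ V))) ⊓
              (ρ g').hom ⁻¹ᵁ (Y.ι ''ᵁ (Y.ι ⁻¹ᵁ (p ⁻¹ᵁ V)))) => φ.hom t)
          (Scheme.Hom.appLE_map (ρ g').hom le_rfl (Opens.infLERight _ _).op)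
      refine l1.trans (Eq.trans ?_ l2.symm)
      by_cases hh : g' * g⁻¹ ∈ H
      · have e3 : (ρ g').hom = (ρ g).hom ≫ (ρ (g' * g⁻¹)).hom := by
          rw [← hom_mul, inv_mul_cancel_right]
        have e4 : (ρ g').hom.appLE (Y.ι ''ᵁ (Y.ι ⁻¹ᵁ (p ⁻¹ᵁ V)))
            ((ρ g).hom ⁻¹ᵁ (Y.ι ''ᵁ (Y.ι ⁻¹ᵁ (p ⁻¹ᵁ V))) ⊓
              (ρ g').hom ⁻¹ᵁ (Y.ι ''ᵁ (Y.ι ⁻¹ᵁ (p ⁻¹ᵁ V)))) inf_le_right =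
            (ρ (g' * g⁻¹)).hom.appLE (Y.ι ''ᵁ (Y.ι ⁻¹ᵁ (p ⁻¹ᵁ V)))
              (Y.ι ''ᵁ (Y.ι ⁻¹ᵁ (p ⁻¹ᵁ V))) (he' ⟨_, hh⟩) ≫
            (ρ g).hom.appLE (Y.ι ''ᵁ (Y.ι ⁻¹ᵁ (p ⁻¹ᵁ V)))
              ((ρ g).hom ⁻¹ᵁ (Y.ι ''ᵁ (Y.ι ⁻¹ᵁ (p ⁻¹ᵁ V))) ⊓
                (ρ g').hom ⁻¹ᵁ (Y.ι ''ᵁ (Y.ι ⁻¹ᵁ (p ⁻¹ᵁ V)))) inf_le_left := by
          rw [Scheme.Hom.appLE_comp_appLE, appLE_congr_hom e3]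
        have e5 := congrArg (fun φ : Γ(X, Y.ι ''ᵁ (Y.ι ⁻¹ᵁ (p ⁻¹ᵁ V))) ⟶
          Γ(X, (ρ g).hom ⁻¹ᵁ (Y.ι ''ᵁ (Y.ι ⁻¹ᵁ (p ⁻¹ᵁ V))) ⊓
              (ρ g').hom ⁻¹ᵁ (Y.ι ''ᵁ (Y.ι ⁻¹ᵁ (p ⁻¹ᵁ V)))) => φ.hom t) e4
        refine Eq.trans ?_ e5.symm
        exact (congrArg ((ρ g).hom.appLE (Y.ι ''ᵁ (Y.ι ⁻¹ᵁ (p ⁻¹ᵁ V)))
              ((ρ g).hom ⁻¹ᵁ (Y.ι ''ᵁ (Y.ι ⁻¹ᵁ (p ⁻¹ᵁ V))) ⊓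
                (ρ g').hom ⁻¹ᵁ (Y.ι ''ᵁ (Y.ι ⁻¹ᵁ (p ⁻¹ᵁ V)))) inf_le_left).hom
          (ht' ⟨_, hh⟩)).symm
      · refine X.sheaf.eq_of_locally_eq' (fun i : PEmpty.{1} => i.elim) _ (fun i => i.elim) ?_ _ _
          (fun i => i.elim)
        intro x hx
        exfalso
        apply hh
        have hx1 : (ρ g).hom x ∈ Y.ι ''ᵁ (Y.ι ⁻¹ᵁ (p ⁻¹ᵁ V)) := hx.1
        have hx2 : (ρ g').hom x ∈ Y.ι ''ᵁ (Y.ι ⁻¹ᵁ (p ⁻¹ᵁ V)) := hx.2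
        refine mem_of_mem ρ H Y hdisj (g' * g⁻¹) ((ρ g).hom x) (hOY hx1) ?_
        rw [← apply_mul, inv_mul_cancel_right]
        exact hOY hx2
    obtain ⟨s, hs, -⟩ := X.sheaf.existsUnique_gluing'
      (fun g : G => (ρ g).hom ⁻¹ᵁ (Y.ι ''ᵁ (Y.ι ⁻¹ᵁ (p ⁻¹ᵁ V)))) (p ⁻¹ᵁ V)
      (fun g => homOfLE (hOgW g)) hcover sf hcompat
    have hs' : ∀ g : G, (X.presheaf.map (homOfLE (hOgW g)).op).hom s = sf g := hs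
    have hsG : ∀ g₀ : G, ((ρ g₀).hom.appLE (p ⁻¹ᵁ V) (p ⁻¹ᵁ V) (hW g₀)).hom s = s := by
      intro g₀
      refine X.sheaf.eq_of_locally_eq'
        (fun g : G => (ρ g).hom ⁻¹ᵁ (Y.ι ''ᵁ (Y.ι ⁻¹ᵁ (p ⁻¹ᵁ V)))) (p ⁻¹ᵁ V)
        (fun g => homOfLE (hOgW g)) hcover _ _ ?_
      intro g
      have k1 : (X.presheaf.map (homOfLE (hOgW g)).op).hom
          (((ρ g₀).hom.appLE (p ⁻¹ᵁ V) (p ⁻¹ᵁ V) (hW g₀)).hom s) =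
          ((ρ g₀).hom.appLE (p ⁻¹ᵁ V) ((ρ g).hom ⁻¹ᵁ (Y.ι ''ᵁ (Y.ι ⁻¹ᵁ (p ⁻¹ᵁ V))))
            ((hOgW g).trans (hW g₀))).hom s :=
        congrArg (fun φ : Γ(X, p ⁻¹ᵁ V) ⟶
          Γ(X, (ρ g).hom ⁻¹ᵁ (Y.ι ''ᵁ (Y.ι ⁻¹ᵁ (p ⁻¹ᵁ V)))) => φ.hom s)
          (Scheme.Hom.appLE_map (ρ g₀).hom (hW g₀) (homOfLE (hOgW g)).op)
      have hle : (ρ g).hom ⁻¹ᵁ (Y.ι ''ᵁ (Y.ι ⁻¹ᵁ (p ⁻¹ᵁ V))) ≤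
          (ρ g₀).hom ⁻¹ᵁ ((ρ (g * g₀⁻¹)).hom ⁻¹ᵁ (Y.ι ''ᵁ (Y.ι ⁻¹ᵁ (p ⁻¹ᵁ V)))) := by
        intro x hx
        show (ρ (g * g₀⁻¹)).hom ((ρ g₀).hom x) ∈ Y.ι ''ᵁ (Y.ι ⁻¹ᵁ (p ⁻¹ᵁ V))
        rw [← apply_mul, inv_mul_cancel_right]
        exact hx
      have k2 : ((ρ g₀).hom.appLE (p ⁻¹ᵁ V) ((ρ g).hom ⁻¹ᵁ (Y.ι ''ᵁ (Y.ι ⁻¹ᵁ (p ⁻¹ᵁ V))))
            ((hOgW g).trans (hW g₀))).hom s =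
          ((ρ g₀).hom.appLE ((ρ (g * g₀⁻¹)).hom ⁻¹ᵁ (Y.ι ''ᵁ (Y.ι ⁻¹ᵁ (p ⁻¹ᵁ V))))
            ((ρ g).hom ⁻¹ᵁ (Y.ι ''ᵁ (Y.ι ⁻¹ᵁ (p ⁻¹ᵁ V)))) hle).hom
            ((X.presheaf.map (homOfLE (hOgW (g * g₀⁻¹))).op).hom s) :=
        (congrArg (fun φ : Γ(X, p ⁻¹ᵁ V) ⟶
          Γ(X, (ρ g).hom ⁻¹ᵁ (Y.ι ''ᵁ (Y.ι ⁻¹ᵁ (p ⁻¹ᵁ V)))) => φ.hom s)
          (Scheme.Hom.map_appLE (ρ g₀).hom hle (homOfLE (hOgW (g * g₀⁻¹))).op)).symm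
      have k3 : ((ρ g₀).hom.appLE ((ρ (g * g₀⁻¹)).hom ⁻¹ᵁ (Y.ι ''ᵁ (Y.ι ⁻¹ᵁ (p ⁻¹ᵁ V))))
            ((ρ g).hom ⁻¹ᵁ (Y.ι ''ᵁ (Y.ι ⁻¹ᵁ (p ⁻¹ᵁ V)))) hle).hom (sf (g * g₀⁻¹)) = sf g := by
        have e6 : (ρ g₀).hom ≫ (ρ (g * g₀⁻¹)).hom = (ρ g).hom := by
          rw [← hom_mul, inv_mul_cancel_right]
        have e5 : (ρ (g * g₀⁻¹)).hom.appLE (Y.ι ''ᵁ (Y.ι ⁻¹ᵁ (p ⁻¹ᵁ V)))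
            ((ρ (g * g₀⁻¹)).hom ⁻¹ᵁ (Y.ι ''ᵁ (Y.ι ⁻¹ᵁ (p ⁻¹ᵁ V)))) le_rfl ≫
            (ρ g₀).hom.appLE ((ρ (g * g₀⁻¹)).hom ⁻¹ᵁ (Y.ι ''ᵁ (Y.ι ⁻¹ᵁ (p ⁻¹ᵁ V))))
              ((ρ g).hom ⁻¹ᵁ (Y.ι ''ᵁ (Y.ι ⁻¹ᵁ (p ⁻¹ᵁ V)))) hle =
            (ρ g).hom.appLE (Y.ι ''ᵁ (Y.ι ⁻¹ᵁ (p ⁻¹ᵁ V)))
              ((ρ g).hom ⁻¹ᵁ (Y.ι ''ᵁ (Y.ι ⁻¹ᵁ (p ⁻¹ᵁ V)))) le_rfl := by
          rw [Scheme.Hom.appLE_comp_appLE, appLE_congr_hom e6]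
        exact congrArg (fun φ : Γ(X, Y.ι ''ᵁ (Y.ι ⁻¹ᵁ (p ⁻¹ᵁ V))) ⟶
          Γ(X, (ρ g).hom ⁻¹ᵁ (Y.ι ''ᵁ (Y.ι ⁻¹ᵁ (p ⁻¹ᵁ V)))) => φ.hom t) e5
      exact k1.trans (k2.trans ((congrArg _ (hs' (g * g₀⁻¹))).trans (k3.trans (hs' g).symm)))
    obtain ⟨b, hb⟩ := (hP.range_iff V s).mpr hsG
    refine ⟨b, ?_⟩
    rw [happ, hb]
    have hO1 : Y.ι ''ᵁ (Y.ι ⁻¹ᵁ (p ⁻¹ᵁ V)) ≤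
        (ρ 1).hom ⁻¹ᵁ (Y.ι ''ᵁ (Y.ι ⁻¹ᵁ (p ⁻¹ᵁ V))) := by
      intro x hx
      show (ρ 1).hom x ∈ Y.ι ''ᵁ (Y.ι ⁻¹ᵁ (p ⁻¹ᵁ V))
      rw [apply_one]
      exact hx
    have m1 : (X.presheaf.map (homOfLE hOW).op).hom s =
        (X.presheaf.map (homOfLE hO1).op).hom ((X.presheaf.map (homOfLE (hOgW 1)).op).hom s) := by
      have : X.presheaf.map (homOfLE hOW).op =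
          X.presheaf.map (homOfLE (hOgW 1)).op ≫ X.presheaf.map (homOfLE hO1).op := by
        rw [← Functor.map_comp]
        rfl
      exact congrArg (fun φ : Γ(X, p ⁻¹ᵁ V) ⟶ Γ(X, Y.ι ''ᵁ (Y.ι ⁻¹ᵁ (p ⁻¹ᵁ V))) => φ.hom s) this
    rw [m1, hs' 1]
    have m2 : (ρ 1).hom.appLE (Y.ι ''ᵁ (Y.ι ⁻¹ᵁ (p ⁻¹ᵁ V)))
        ((ρ 1).hom ⁻¹ᵁ (Y.ι ''ᵁ (Y.ι ⁻¹ᵁ (p ⁻¹ᵁ V)))) le_rfl ≫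
        X.presheaf.map (homOfLE hO1).op = 𝟙 _ := by
      rw [Scheme.Hom.appLE_map, appLE_congr_hom (hom_one ρ)]
      exact id_appLE' _ _
    exact congrArg (fun φ : Γ(X, Y.ι ''ᵁ (Y.ι ⁻¹ᵁ (p ⁻¹ᵁ V))) ⟶
      Γ(X, Y.ι ''ᵁ (Y.ι ⁻¹ᵁ (p ⁻¹ᵁ V))) => φ.hom t) m2

include hP hcov hdisj hρY in
/-- `Y ⟶ X ⟶ X/G` is a quotient of `Y` by `H` when `X` is the disjoint union of the translates of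
`Y` over `G / H`. -/
theorem isQuot_of_coset : SGA1.IsQuot ρY (Y.ι ≫ p) := by
  have hYcl := isClosed_Y ρ H Y hcov hdisj ρY hρY
  haveI : IsClosedImmersion Y.ι :=
    IsClosedImmersion.of_isPreimmersion _ (by rw [Scheme.Opens.range_ι]; exact hYcl)
  haveI := hP.affine
  have hinv : ∀ h : H, (ρY h).hom ≫ Y.ι ≫ p = Y.ι ≫ p := inv_comp ρ p hP H Y ρY hρY
  refine ⟨inferInstance, hinv,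
    fun V => (sections_coset ρ p hP H Y hcov hdisj ρY hρY hinv V).1, fun V s => ⟨?_,
      (sections_coset ρ p hP H Y hcov hdisj ρY hρY hinv V).2 s⟩⟩
  rintro ⟨b, rfl⟩
  exact isInvSec_app hinv V b

end

end Groth.Agent.Lib.IsQuotCoset37
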