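import Mathlib
import Groth.Prelude.Def_SGA1
import Groth.Agent.Lib.H8IsQuotBasis
import Groth.Agent.Lib.IsQuotLocal37

/-!
# Quotients by finite groups commute with flat base change (helper37)

* `flat_invariants`: ring level, invariants of finitely many algebra endomorphisms commute with
  flat base change;
* `isQuot_baseChange_of_flat`: if `p : X ⟶ Y` is a quotient of `X` by `G`, `qY : Y' ⟶ Y` is flat
  and `X' = X ×_Y Y'` carries a compatible action, then `X' ⟶ Y'` is a quotient of `X'` by `G`.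
-/

set_option autoImplicit false
universe u

open CategoryTheory CategoryTheory.Limits AlgebraicGeometry Opposite TopologicalSpace

namespace Groth.Agent.Lib.IsQuotFlat37

open Groth.Agent.Lib.H8IsQuotBasis Groth.Agent.Lib.IsQuotLocal37

section flat
open TensorProduct

variable {B A B' A' : Type*} [CommRing B] [CommRing A] [CommRing B'] [CommRing A']
  [Algebra B A] [Algebra B B'] [Algebra B' A'] [Algebra A A'] [Algebra B A']
  [IsScalarTower B B' A'] [IsScalarTower B A A']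

theorem flat_invariants [Algebra.IsPushout B B' A A'] [Module.Flat B B']
    {ι : Type*} [Finite ι] (θ : ι → A →ₐ[B] A) (θ' : ι → A' →ₐ[B'] A')
    (hθ' : ∀ i a, θ' i (algebraMap A A' a) = algebraMap A A' (θ i a))
    (hinj : Function.Injective (algebraMap B A))
    (hinv : ∀ a : A, (∀ i, θ i a = a) → a ∈ Set.range (algebraMap B A)) :
    Function.Injective (algebraMap B' A') ∧
      ∀ a' : A', (∀ i, θ' i a' = a') → a' ∈ Set.range (algebraMap B' A') := by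
  classical
  cases nonempty_fintype ι
  have hbc : IsBaseChange B' (IsScalarTower.toAlgHom B A A').toLinearMap :=
    Algebra.IsPushout.out
  let e : B' ⊗[B] A ≃ₗ[B'] A' := hbc.equiv
  have he : ∀ (b' : B') (a : A), e (b' ⊗ₜ a) = b' • algebraMap A A' a :=
    fun b' a => hbc.equiv_tmul b' a
  let ψl : B →ₗ[B] A := Algebra.linearMap B A
  let δ : A →ₗ[B] (ι → A) := LinearMap.pi (fun i => (θ i).toLinearMap - LinearMap.id)
  have hex : Function.Exact ψl δ := by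
    intro a
    constructor
    · intro h
      apply hinv
      intro i
      have := congrFun h i
      simpa [δ, sub_eq_zero] using this
    · rintro ⟨b, rfl⟩
      ext i
      simp [δ, ψl]
  have hex' : Function.Exact (ψl.lTensor B') (δ.lTensor B') :=
    Module.Flat.lTensor_exact B' hex
  have hinj' : Function.Injective (ψl.lTensor B') :=
    Module.Flat.lTensor_preserves_injective_linearMap ψl hinj
  have halg : ∀ b' : B', algebraMap B' A' b' = e ((ψl.lTensor B') (b' ⊗ₜ (1 : B))) := by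
    intro b'
    simp [ψl, he, Algebra.algebraMap_eq_smul_one]
  refine ⟨?_, ?_⟩
  · intro x y hxy
    rw [halg, halg] at hxy
    have h1 := hinj' (e.injective hxy)
    have := congrArg (TensorProduct.rid B B') h1
    simpa using this
  · intro a' ha'
    set t := e.symm a' with ht
    have hcomp : ∀ i, ((θ i).toLinearMap.lTensor B') t = t := by
      intro i
      apply e.injective
      have h2 : ∀ s : B' ⊗[B] A, e (((θ i).toLinearMap.lTensor B') s) = θ' i (e s) := by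
        intro s
        induction s using TensorProduct.induction_on with
        | zero => simp
        | tmul b' a => simp [he, hθ']
        | add x y hx hy => simp [hx, hy]
      rw [h2, ht, LinearEquiv.apply_symm_apply, ha']
    have hδ : (δ.lTensor B') t = 0 := by
      apply (TensorProduct.piRight B B' B' (fun _ : ι => A)).injective
      rw [map_zero]
      ext i
      have h3 : ∀ s : B' ⊗[B] A,
          (TensorProduct.piRight B B' B' (fun _ : ι => A)) ((δ.lTensor B') s) i =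
            ((θ i).toLinearMap.lTensor B') s - s := by
        intro s
        induction s using TensorProduct.induction_on with
        | zero => simp
        | tmul b' a => simp [δ, TensorProduct.tmul_sub]
        | add x y hx hy =>
          simp only [map_add, Pi.add_apply, hx, hy]
          abel
      rw [h3, hcomp i, sub_self]
      rfl
    obtain ⟨s, hs⟩ := (hex' t).mp hδ
    refine ⟨TensorProduct.rid B B' s, ?_⟩
    rw [halg]
    have h4 : (TensorProduct.rid B B' s) ⊗ₜ[B] (1 : B) = s := by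
      rw [← TensorProduct.rid_symm_apply]
      exact (TensorProduct.rid B B').symm_apply_apply s
    rw [h4, hs, ht, LinearEquiv.apply_symm_apply]

end flat

section scheme

variable {X Y X' Y' : Scheme.{u}} {G : Type u} [Group G]

theorem local_flat [Finite G] (ρ : G →* Aut X) (p : X ⟶ Y) (hp : SGA1.IsQuot ρ p)
    (qY : Y' ⟶ Y) [Flat qY] (pX : X' ⟶ X) (p' : X' ⟶ Y') (hX : IsPullback pX p' p qY)
    (ρ' : G →* Aut X') (hρ₁ : ∀ g : G, (ρ' g).hom ≫ pX = pX ≫ (ρ g).hom)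
    (hρ₂ : ∀ g : G, (ρ' g).hom ≫ p' = p')
    (V : Y.Opens) (hV : IsAffineOpen V) (V' : Y'.Opens) (hV' : IsAffineOpen V')
    (hle : V' ≤ qY ⁻¹ᵁ V) :
    Function.Injective (p'.app V').hom ∧
      ∀ a : Γ(X', p' ⁻¹ᵁ V'), IsInvSec ρ' p' hρ₂ V' a → a ∈ Set.range (p'.app V').hom := by
  haveI := hp.affine
  have hUX : IsAffineOpen (p ⁻¹ᵁ V) := hV.preimage p
  have hle2 : p' ⁻¹ᵁ V' ≤ pX ⁻¹ᵁ (p ⁻¹ᵁ V) := by
    rw [← Scheme.Hom.comp_preimage, hX.w, Scheme.Hom.comp_preimage]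
    exact fun x hx => hle hx
  have hUY : p' ⁻¹ᵁ V' = pX ⁻¹ᵁ (p ⁻¹ᵁ V) ⊓ p' ⁻¹ᵁ V' := (inf_eq_right.mpr hle2).symm
  have hiso := isIso_pushoutSection_of_isAffineOpen hX hle le_rfl hUY hV hV' hUX
  have hpo : IsPushout (p.app V) (qY.appLE V V' hle)
      (pX.appLE (p ⁻¹ᵁ V) (p' ⁻¹ᵁ V') hle2) (p'.app V') := by
    have := (isIso_pushoutSection_iff hX hle le_rfl hUY).mp hiso
    simp only [Scheme.Hom.appLE_eq_app] at this
    exact this
  letI : Algebra Γ(Y, V) Γ(X, p ⁻¹ᵁ V) := (p.app V).hom.toAlgebra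
  letI : Algebra Γ(Y, V) Γ(Y', V') := (qY.appLE V V' hle).hom.toAlgebra
  letI : Algebra Γ(Y', V') Γ(X', p' ⁻¹ᵁ V') := (p'.app V').hom.toAlgebra
  letI : Algebra Γ(X, p ⁻¹ᵁ V) Γ(X', p' ⁻¹ᵁ V') :=
    (pX.appLE (p ⁻¹ᵁ V) (p' ⁻¹ᵁ V') hle2).hom.toAlgebra
  letI : Algebra Γ(Y, V) Γ(X', p' ⁻¹ᵁ V') := (qY.appLE V V' hle ≫ p'.app V').hom.toAlgebra
  haveI : IsScalarTower Γ(Y, V) Γ(Y', V') Γ(X', p' ⁻¹ᵁ V') := .of_algebraMap_eq' rfl
  haveI : IsScalarTower Γ(Y, V) Γ(X, p ⁻¹ᵁ V) Γ(X', p' ⁻¹ᵁ V') :=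
    .of_algebraMap_eq' (congrArg CommRingCat.Hom.hom hpo.w.symm)
  haveI : Algebra.IsPushout Γ(Y, V) Γ(Y', V') Γ(X, p ⁻¹ᵁ V) Γ(X', p' ⁻¹ᵁ V') :=
    CommRingCat.isPushout_iff_isPushout.mp hpo.flip
  haveI : Module.Flat Γ(Y, V) Γ(Y', V') := qY.flat_appLE hV hV' hle
  let θ : G → Γ(X, p ⁻¹ᵁ V) →ₐ[Γ(Y, V)] Γ(X, p ⁻¹ᵁ V) := fun g =>
    { toRingHom := ((ρ g).hom.appLE (p ⁻¹ᵁ V) (p ⁻¹ᵁ V)
        (SGA1.preimage_le_of_inv ρ p hp.inv g V)).hom
      commutes' := fun b => isInvSec_app hp.inv V b g }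
  let θ' : G → Γ(X', p' ⁻¹ᵁ V') →ₐ[Γ(Y', V')] Γ(X', p' ⁻¹ᵁ V') := fun g =>
    { toRingHom := ((ρ' g).hom.appLE (p' ⁻¹ᵁ V') (p' ⁻¹ᵁ V')
        (SGA1.preimage_le_of_inv ρ' p' hρ₂ g V')).hom
      commutes' := fun b => isInvSec_app hρ₂ V' b g }
  have hθ' : ∀ g a, θ' g (algebraMap Γ(X, p ⁻¹ᵁ V) Γ(X', p' ⁻¹ᵁ V') a) =
      algebraMap Γ(X, p ⁻¹ᵁ V) Γ(X', p' ⁻¹ᵁ V') (θ g a) := by
    intro g a
    have e1 : pX.appLE (p ⁻¹ᵁ V) (p' ⁻¹ᵁ V') hle2 ≫
        (ρ' g).hom.appLE (p' ⁻¹ᵁ V') (p' ⁻¹ᵁ V') (SGA1.preimage_le_of_inv ρ' p' hρ₂ g V') =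
        (ρ g).hom.appLE (p ⁻¹ᵁ V) (p ⁻¹ᵁ V) (SGA1.preimage_le_of_inv ρ p hp.inv g V) ≫
          pX.appLE (p ⁻¹ᵁ V) (p' ⁻¹ᵁ V') hle2 := by
      rw [Scheme.Hom.appLE_comp_appLE, Scheme.Hom.appLE_comp_appLE, appLE_congr_hom (hρ₁ g)]
    exact congrArg (fun φ : Γ(X, p ⁻¹ᵁ V) ⟶ Γ(X', p' ⁻¹ᵁ V') => φ.hom a) e1
  have key := flat_invariants (B := Γ(Y, V)) (A := Γ(X, p ⁻¹ᵁ V)) (B' := Γ(Y', V'))
    (A' := Γ(X', p' ⁻¹ᵁ V')) θ θ' hθ' (hp.injective V)
    (fun a ha => (hp.range_iff V a).mpr ha)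
  exact ⟨key.1, fun a ha => key.2 a ha⟩

/-- Quotients by finite groups commute with flat base change. -/
theorem isQuot_baseChange_of_flat [Finite G] (ρ : G →* Aut X) (p : X ⟶ Y)
    (hp : SGA1.IsQuot ρ p) (qY : Y' ⟶ Y) [Flat qY] (pX : X' ⟶ X) (p' : X' ⟶ Y')
    (hX : IsPullback pX p' p qY) (ρ' : G →* Aut X')
    (hρ₁ : ∀ g : G, (ρ' g).hom ≫ pX = pX ≫ (ρ g).hom)
    (hρ₂ : ∀ g : G, (ρ' g).hom ≫ p' = p') : SGA1.IsQuot ρ' p' := by
  haveI := hp.affine
  haveI : IsAffineHom p' := MorphismProperty.of_isPullback (P := @IsAffineHom) hX hp.affine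
  refine isQuot_of_affine_cover ρ' p' hρ₂
    {V' | IsAffineOpen V' ∧ ∃ V : Y.Opens, IsAffineOpen V ∧ V' ≤ qY ⁻¹ᵁ V} ?_ ?_ ?_ ?_
  · rintro V' ⟨hV', -⟩
    exact hV'
  · intro y'
    obtain ⟨V, hV, hyV, -⟩ := Opens.isBasis_iff_nbhd.mp Y.isBasis_affineOpens
      (show qY y' ∈ (⊤ : Y.Opens) from trivial)
    obtain ⟨V', hV', hyV', hle⟩ := Opens.isBasis_iff_nbhd.mp Y'.isBasis_affineOpens
      (show y' ∈ qY ⁻¹ᵁ V from hyV)
    exact ⟨V', ⟨hV', V, hV, hle⟩, hyV'⟩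
  · rintro V' ⟨hV', V, hV, hle⟩
    exact (local_flat ρ p hp qY pX p' hX ρ' hρ₁ hρ₂ V hV V' hV' hle).1
  · rintro V' ⟨hV', V, hV, hle⟩
    exact (local_flat ρ p hp qY pX p' hX ρ' hρ₁ hρ₂ V hV V' hV' hle).2

end scheme

end Groth.Agent.Lib.IsQuotFlat37
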