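import Groth.Agent.Lib.IsoNatPts
import Groth.Agent.Lib.AlgStOpenSub

/-!
# Open subfunctors of the presheaf of isomorphism classes give open substacks (helper36)

ns `Groth.Agent.Lib.IsoNatOpen`

* `isOpenSubstack_of_open_subfunctor` (= S15492).
-/

set_option autoImplicit false
set_option linter.style.haveILetI false
set_option backward.isDefEq.respectTransparency false
set_option backward.isDefEq.respectTransparency.types false

namespace Groth.Agent.Lib.IsoNatOpen

open CategoryTheory CategoryTheory.Limits AlgebraicGeometry Opposite AlgSt IsoNat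
  Groth.Agent.Lib.FibGrpd Groth.Agent.Lib.FibYoneda Groth.Agent.Lib.AlgStPtsMain
  Groth.Agent.Lib.H78AlgStPoints Groth.Agent.Lib.AlgStOpenSub Groth.Agent.Lib.IsoNatPts

universe u

variable {S : Scheme.{u}} {𝒴 : AlgSt.Cat S}

section

variable (W : ∀ T : Over S, Set (IsoCl 𝒴 T))

/-- The predicate on objects of a subfunctor of the presheaf of isomorphism classes. -/
def subPred : 𝒴.obj → Prop :=
  fun η => cls (⟨η, rfl⟩ : 𝒴.p.Fiber (𝒴.p.obj η)) ∈ W (𝒴.p.obj η)

theorem subPred_iff {T : Over S} (x : 𝒴.p.Fiber T) : subPred W x.1 ↔ cls x ∈ W T := by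
  obtain ⟨η, rfl⟩ := x
  exact Iff.rfl

variable
  (hWpull : ∀ (T' T : Over S) (g : T' ⟶ T) (x' : 𝒴.p.Fiber T') (x : 𝒴.p.Fiber T) (a : x'.1 ⟶ x.1),
      𝒴.p.IsHomLift g a → cls x ∈ W T → cls x' ∈ W T')

include hWpull in
theorem pbStable_subPred : PbStable (subPred W) := fun y' y φ hy =>
  hWpull (𝒴.p.obj y') (𝒴.p.obj y) (𝒴.p.map φ) ⟨y', rfl⟩ ⟨y, rfl⟩ φ inferInstance hy

variable {T : Over S} (x : 𝒴.p.Fiber T) (V : T.left.Opens)
  (hV : ∀ (T' : Over S) (g : T' ⟶ T) (x' : 𝒴.p.Fiber T') (a : x'.1 ⟶ x.1), 𝒴.p.IsHomLift g a →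
        (cls x' ∈ W T' ↔ ∃ g' : T'.left ⟶ ↑V, g' ≫ V.ι = g.left))

include hWpull hV in
/-- A field point over `x` lying in the image of the subcategory maps into `V`. -/
theorem mem_of_mk_mem [FibCat.IsFibGrpd 𝒴.p] (q : FPt 𝒴) (c : q.obj ⟶ x.1)
    (g : Over.mk q.str ⟶ T) (hg : 𝒴.p.IsHomLift g c)
    (hq : Points.mk q ∈ Set.range (Points.map (subIncl 𝒴 (subPred W))))
    (t : ↥T.left) (ht : ∀ s : ↥(Spec (CommRingCat.of q.K)), g.left s = t) : t ∈ V := by
  rw [range_subIncl] at hq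
  obtain ⟨p, hp, hpq⟩ := hq
  obtain ⟨r, a, d, -⟩ := (mk_eq_mk_iff inferInstance).1 hpq
  have hr : subPred W r.obj := pbStable_subPred W hWpull a hp
  let gd : Over.mk r.str ⟶ Over.mk q.str := eqToHom r.lies.symm ≫ 𝒴.p.map d ≫ eqToHom q.lies
  haveI hgd : 𝒴.p.IsHomLift gd d := IsHomLift.of_fac 𝒴.p gd d r.lies q.lies rfl
  haveI := hg
  have hdc : 𝒴.p.IsHomLift (gd ≫ g) (d ≫ c) := inferInstance
  have h1 : cls (⟨r.obj, r.lies⟩ : 𝒴.p.Fiber (Over.mk r.str)) ∈ W _ :=
    (subPred_iff W ⟨r.obj, r.lies⟩).1 hr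
  obtain ⟨g', hg'⟩ := (hV _ (gd ≫ g) ⟨r.obj, r.lies⟩ (d ≫ c) hdc).1 h1
  obtain ⟨s'⟩ : Nonempty ↥(Spec (CommRingCat.of r.K)) := inferInstance
  have h2 : g.left (gd.left s') = V.ι (g' s') := by
    have := congrArg (fun m : (Over.mk r.str).left ⟶ T.left => m s') hg'
    simpa using this.symm
  have h3 : t = V.ι (g' s') := (ht (gd.left s')).symm.trans h2
  rw [h3]
  exact (g' s').2

include hV in
/-- A field point over `x` mapping into `V` satisfies the predicate. -/
theorem subPred_of_mem (q : FPt 𝒴) (c : q.obj ⟶ x.1)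
    (g : Over.mk q.str ⟶ T) (hg : 𝒴.p.IsHomLift g c)
    (t : ↥T.left) (ht : ∀ s : ↥(Spec (CommRingCat.of q.K)), g.left s = t) (htV : t ∈ V) :
    subPred W q.obj := by
  have hr : Set.range g.left ⊆ Set.range V.ι := by
    rintro _ ⟨s, rfl⟩
    rw [Scheme.Opens.range_ι]
    have h4 : g.left s = t := ht s
    rw [h4]
    exact htV
  refine (subPred_iff W ⟨q.obj, q.lies⟩).2 ((hV _ g ⟨q.obj, q.lies⟩ c hg).2 ?_)
  exact ⟨IsOpenImmersion.lift V.ι g.left hr, IsOpenImmersion.lift_fac _ _ _⟩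

end

/-- = S15492: an open subfunctor of the presheaf of isomorphism classes of an algebraic stack gives
an open substack. -/
theorem isOpenSubstack_of_open_subfunctor (h𝒴 : IsAlgStack Scheme.fppfPrecoverage 𝒴)
    (W : ∀ T : Over S, Set (IsoCl 𝒴 T))
    (hWpull : ∀ (T' T : Over S) (g : T' ⟶ T) (x' : 𝒴.p.Fiber T') (x : 𝒴.p.Fiber T) (a : x'.1 ⟶ x.1),
      𝒴.p.IsHomLift g a → cls x ∈ W T → cls x' ∈ W T')
    (hWopen : ∀ (T : Over S) (x : 𝒴.p.Fiber T), ∃ V : T.left.Opens,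
      ∀ (T' : Over S) (g : T' ⟶ T) (x' : 𝒴.p.Fiber T') (a : x'.1 ⟶ x.1), 𝒴.p.IsHomLift g a →
        (cls x' ∈ W T' ↔ ∃ g' : T'.left ⟶ ↑V, g' ≫ V.ι = g.left)) :
    IsOpenSubstack 𝒴 (subPred W) Scheme.fppfPrecoverage := by
  haveI := h𝒴.isStack.1
  set TW : Set (Points 𝒴) := Set.range (Points.map (subIncl 𝒴 (subPred W))) with hTW
  have hpb := pbStable_subPred W hWpull
  -- `TW` is open
  have hopen : IsOpen TW := by
    rw [Points.isOpen_iff]
    intro U x _
    obtain ⟨V, hV⟩ := hWopen U ⟨x.obj (overTop U), x.w_obj _⟩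
    have : Points.ofChart x ⁻¹' TW = (V : Set ↥U.left) := by
      ext t
      let j : Over.mk (U.left.fromSpecResidueField t ≫ U.hom) ⟶ U :=
        Over.homMk (U.left.fromSpecResidueField t) rfl
      let q : FPt 𝒴 :=
        { K := ↥(U.left.residueField t)
          str := U.left.fromSpecResidueField t ≫ U.hom
          obj := x.obj (Over.mk j)
          lies := x.w_obj _ }
      have hj : 𝒴.p.IsHomLift j (x.map (toOverTop U (Over.mk j))) :=
        map_toOverTop_isHomLift x (Over.mk j)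
      have hjs : ∀ s : ↥(Spec (CommRingCat.of q.K)), j.left s = t := fun s =>
        Scheme.fromSpecResidueField_apply t s
      constructor
      · intro ht
        exact mem_of_mk_mem W hWpull ⟨x.obj (overTop U), x.w_obj _⟩ V hV q
          (x.map (toOverTop U (Over.mk j))) j hj ht t hjs
      · intro ht
        have hq : subPred W q.obj := subPred_of_mem W ⟨x.obj (overTop U), x.w_obj _⟩ V hV q
          (x.map (toOverTop U (Over.mk j))) j hj t hjs ht
        exact mk_mem_range_subIncl hq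
    rw [this]
    exact V.2
  -- the predicate is `ptsIn TW`
  have hQ : subPred W = ptsIn TW := by
    funext η
    apply propext
    constructor
    · exact ptsIn_range_of hpb
    · intro hη
      obtain ⟨V, hV⟩ := hWopen (𝒴.p.obj η) ⟨η, rfl⟩
      have hVtop : ∀ t : ↥(𝒴.p.obj η).left, t ∈ V := by
        intro t
        let j : Over.mk ((𝒴.p.obj η).left.fromSpecResidueField t ≫ (𝒴.p.obj η).hom) ⟶ 𝒴.p.obj η :=
          Over.homMk ((𝒴.p.obj η).left.fromSpecResidueField t) rfl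
        obtain ⟨ηt, c, hc⟩ := FibCat.IsFibGrpd.exists_lift (p := 𝒴.p) (x := η) j
        let q : FPt 𝒴 :=
          { K := ↥((𝒴.p.obj η).left.residueField t)
            str := (𝒴.p.obj η).left.fromSpecResidueField t ≫ (𝒴.p.obj η).hom
            obj := ηt
            lies := IsHomLift.domain_eq 𝒴.p j c }
        exact mem_of_mk_mem W hWpull ⟨η, rfl⟩ V hV q c j hc (hη q ⟨c⟩) t
          (fun s => Scheme.fromSpecResidueField_apply t s)
      have hr : Set.range (𝟙 (𝒴.p.obj η).left : (𝒴.p.obj η).left ⟶ (𝒴.p.obj η).left) ⊆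
          Set.range V.ι := by
        rintro _ ⟨t, rfl⟩
        rw [Scheme.Opens.range_ι]
        exact hVtop _
      refine (hV (𝒴.p.obj η) (𝟙 _) ⟨η, rfl⟩ (𝟙 η) inferInstance).2
        ⟨IsOpenImmersion.lift V.ι (𝟙 _) hr, ?_⟩
      rw [IsOpenImmersion.lift_fac]
      rfl
  rw [hQ]
  exact isOpenSubstack_ptsIn h𝒴 hopen

end Groth.Agent.Lib.IsoNatOpen
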