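import Groth.Prelude.Def_W4c2isonaturalstkIso
import Groth.Agent.Lib.AlgStPtsQC
import Groth.Agent.Lib.FibYoneda
import Groth.Agent.Lib.H78AlgStPoints

/-!
# The space of points is determined by the presheaf of isomorphism classes (helper36)

ns `Groth.Agent.Lib.IsoNatPts`

For categories fibred in groupoids `𝒳`, `𝒴` over `(Sch/S)` and `φ : IsoNat.FIso 𝒳 𝒴`:

* `cls_eq_of_homLift` : pullbacks of isomorphic objects are isomorphic (in the fibre).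
* `fisoSymm φ : FIso 𝒴 𝒳`.
* `ptsMap φ : Points 𝒳 → Points 𝒴`, `ptsMap_ofChart` (compatibility with charts whose classes
  correspond), `exists_chart_of_cls` (2-Yoneda), `continuous_ptsMap`, `ptsHomeo` (for algebraic
  stacks), `ptsMap_map` (compatibility with `FIsoSq`).
-/

set_option autoImplicit false
set_option linter.style.haveILetI false
set_option backward.isDefEq.respectTransparency false
set_option backward.isDefEq.respectTransparency.types false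

namespace Groth.Agent.Lib.IsoNatPts

open CategoryTheory CategoryTheory.Limits AlgebraicGeometry Opposite AlgSt IsoNat
  Groth.Agent.Lib.FibGrpd Groth.Agent.Lib.FibYoneda Groth.Agent.Lib.AlgStPtsMain
  Groth.Agent.Lib.H78AlgStPoints

universe u

noncomputable section

variable {S : Scheme.{u}} {𝒳 𝒴 : AlgSt.Cat S}

/-! ### Isomorphism classes in fibres -/

theorem cls_eq_iff {T : Over S} (x y : 𝒳.p.Fiber T) : cls x = cls y ↔ Nonempty (x ≅ y) :=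
  Quotient.eq (r := isIsomorphicSetoid (𝒳.p.Fiber T))

theorem exists_rep_cls {T : Over S} (c : IsoCl 𝒳 T) : ∃ x : 𝒳.p.Fiber T, cls x = c :=
  Quotient.exists_rep c

/-- Lifts of morphisms of the base to objects of a fibre. -/
theorem exists_lift_fiber [FibCat.IsFibGrpd 𝒳.p] {T' T : Over S} (g : T' ⟶ T)
    (x : 𝒳.p.Fiber T) : ∃ (x' : 𝒳.p.Fiber T') (a : x'.1 ⟶ x.1), 𝒳.p.IsHomLift g a := by
  obtain ⟨x0, rfl⟩ := x
  obtain ⟨x', a, ha⟩ := FibCat.IsFibGrpd.exists_lift (p := 𝒳.p) (x := x0) g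
  exact ⟨⟨x', IsHomLift.domain_eq 𝒳.p g a⟩, a, ha⟩

/-- In a category fibred in groupoids, pullbacks of isomorphic objects along the same morphism are
isomorphic. -/
theorem cls_eq_of_homLift [FibCat.IsFibGrpd 𝒴.p] {T' T : Over S} (g : T' ⟶ T)
    {y' y₂' : 𝒴.p.Fiber T'} {y y₂ : 𝒴.p.Fiber T} (b : y'.1 ⟶ y.1) (b₂ : y₂'.1 ⟶ y₂.1)
    (hb : 𝒴.p.IsHomLift g b) (hb₂ : 𝒴.p.IsHomLift g b₂) (h : cls y = cls y₂) :
    cls y' = cls y₂' := by
  obtain ⟨e⟩ := (cls_eq_iff y y₂).1 h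
  haveI := hb
  haveI := hb₂
  haveI : 𝒴.p.IsHomLift (𝟙 T) e.hom.1 := e.hom.2
  haveI : 𝒴.p.IsStronglyCartesian g b₂ := isStronglyCartesian_of_isHomLift 𝒴.p g b₂
  haveI : 𝒴.p.IsHomLift g (b ≫ e.hom.1) := by
    have : 𝒴.p.IsHomLift (g ≫ 𝟙 T) (b ≫ e.hom.1) := inferInstance
    rwa [Category.comp_id] at this
  let χ : y'.1 ⟶ y₂'.1 := Functor.IsStronglyCartesian.map 𝒴.p g b₂ (g := 𝟙 T') (f' := g)
    (Category.id_comp g).symm (b ≫ e.hom.1)
  haveI hχ : 𝒴.p.IsHomLift (𝟙 T') χ := Functor.IsStronglyCartesian.map_isHomLift ..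
  haveI := isGroupoid_fiber 𝒴.p T'
  exact (cls_eq_iff y' y₂').2 ⟨asIso (⟨χ, hχ⟩ : y' ⟶ y₂')⟩

/-! ### The inverse of an isomorphism of presheaves of isomorphism classes -/

/-- The inverse of an `FIso` between categories fibred in groupoids. -/
def fisoSymm [FibCat.IsFibGrpd 𝒳.p] [FibCat.IsFibGrpd 𝒴.p] (φ : FIso 𝒳 𝒴) : FIso 𝒴 𝒳 where
  toEquiv T := (φ.toEquiv T).symm
  natural := by
    intro T' T g y' y b hb
    obtain ⟨x, hx⟩ := exists_rep_cls ((φ.toEquiv T).symm (cls y))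
    obtain ⟨x', a, ha⟩ := exists_lift_fiber g x
    obtain ⟨y₂', y₂, b₂, hb₂, h1, h2⟩ := φ.natural g x' x a ha
    have h3 : cls y = cls y₂ := by
      rw [← h2, hx, Equiv.apply_symm_apply]
    have h4 : cls y' = cls y₂' := cls_eq_of_homLift g b b₂ hb hb₂ h3
    refine ⟨x', x, a, ha, ?_, hx.symm⟩
    rw [h4, ← h1, Equiv.symm_apply_apply]

@[simp] theorem fisoSymm_toEquiv [FibCat.IsFibGrpd 𝒳.p] [FibCat.IsFibGrpd 𝒴.p] (φ : FIso 𝒳 𝒴)
    (T : Over S) : (fisoSymm φ).toEquiv T = (φ.toEquiv T).symm := rfl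

/-! ### The induced map on points -/

/-- The field-valued point of an object of the fibre over the spectrum of a field. -/
def fptOf {K : Type u} [Field K] (str : Spec (CommRingCat.of K) ⟶ S)
    (y : 𝒴.p.Fiber (Over.mk str)) : FPt 𝒴 :=
  { K := K, str := str, obj := y.1, lies := y.2 }

/-- The point of an isomorphism class over the spectrum of a field. -/
def clsPt {K : Type u} [Field K] (str : Spec (CommRingCat.of K) ⟶ S) :
    IsoCl 𝒴 (Over.mk str) → Points 𝒴 :=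
  Quotient.lift (fun y => Points.mk (fptOf str y)) (by
    rintro y y' ⟨e⟩
    exact Points.sound ⟨fptOf str y, 𝟙 _, e.hom.1, trivial⟩)

@[simp] theorem clsPt_cls {K : Type u} [Field K] (str : Spec (CommRingCat.of K) ⟶ S)
    (y : 𝒴.p.Fiber (Over.mk str)) : clsPt str (cls y) = Points.mk (fptOf str y) := rfl

/-- The isomorphism class of a field-valued point. -/
def fptCls (p : FPt 𝒳) : IsoCl 𝒳 (Over.mk p.str) := cls ⟨p.obj, p.lies⟩

theorem clsPt_fptCls (p : FPt 𝒳) : clsPt p.str (fptCls p) = Points.mk p := rfl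

/-- The map on field-valued points induced by an `FIso`. -/
def ptsFun (φ : FIso 𝒳 𝒴) (p : FPt 𝒳) : Points 𝒴 := clsPt p.str (φ.toEquiv _ (fptCls p))

theorem ptsFun_eq_of_hom (φ : FIso 𝒳 𝒴) {r p : FPt 𝒳} (a : r.obj ⟶ p.obj) :
    ptsFun φ r = ptsFun φ p := by
  let g : Over.mk r.str ⟶ Over.mk p.str := eqToHom r.lies.symm ≫ 𝒳.p.map a ≫ eqToHom p.lies
  have hg : 𝒳.p.IsHomLift g a := IsHomLift.of_fac 𝒳.p g a r.lies p.lies rfl
  obtain ⟨y', y, b, hb, h1, h2⟩ := φ.natural g ⟨r.obj, r.lies⟩ ⟨p.obj, p.lies⟩ a hg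
  have e1 : ptsFun φ r = Points.mk (fptOf r.str y') := by
    show clsPt r.str (φ.toEquiv _ (cls ⟨r.obj, r.lies⟩)) = _
    rw [h1]; rfl
  have e2 : ptsFun φ p = Points.mk (fptOf p.str y) := by
    show clsPt p.str (φ.toEquiv _ (cls ⟨p.obj, p.lies⟩)) = _
    rw [h2]; rfl
  rw [e1, e2]
  exact Points.sound ⟨fptOf r.str y', 𝟙 _, b, trivial⟩

/-- The map `|𝒳| → |𝒴|` induced by an isomorphism of presheaves of isomorphism classes. -/
def ptsMap (φ : FIso 𝒳 𝒴) : Points 𝒳 → Points 𝒴 :=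
  Quot.lift (ptsFun φ) (by
    rintro p q ⟨r, a, b, -⟩
    exact (ptsFun_eq_of_hom φ a).symm.trans (ptsFun_eq_of_hom φ b))

theorem ptsMap_mk (φ : FIso 𝒳 𝒴) (p : FPt 𝒳) :
    ptsMap φ (Points.mk p) = clsPt p.str (φ.toEquiv _ (fptCls p)) := rfl

theorem ptsMap_mk_of_cls (φ : FIso 𝒳 𝒴) (p : FPt 𝒳) (y : 𝒴.p.Fiber (Over.mk p.str))
    (h : φ.toEquiv _ (fptCls p) = cls y) : ptsMap φ (Points.mk p) = Points.mk (fptOf p.str y) := by
  rw [ptsMap_mk, h]; rfl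

theorem ptsMap_symm_ptsMap [FibCat.IsFibGrpd 𝒳.p] [FibCat.IsFibGrpd 𝒴.p] (φ : FIso 𝒳 𝒴)
    (ξ : Points 𝒳) : ptsMap (fisoSymm φ) (ptsMap φ ξ) = ξ := by
  obtain ⟨p, rfl⟩ := Points.mk_surjective ξ
  obtain ⟨y, hy⟩ := exists_rep_cls (φ.toEquiv _ (fptCls p))
  rw [ptsMap_mk_of_cls φ p y hy.symm]
  have h2 : (fisoSymm φ).toEquiv _ (fptCls (fptOf p.str y)) = cls ⟨p.obj, p.lies⟩ := by
    show (φ.toEquiv _).symm (cls y) = _
    rw [hy, Equiv.symm_apply_apply]; rfl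
  rw [ptsMap_mk_of_cls (fisoSymm φ) (fptOf p.str y) ⟨p.obj, p.lies⟩ h2]
  rfl

theorem fisoSymm_fisoSymm_toEquiv [FibCat.IsFibGrpd 𝒳.p] [FibCat.IsFibGrpd 𝒴.p] (φ : FIso 𝒳 𝒴)
    (T : Over S) : (fisoSymm (fisoSymm φ)).toEquiv T = φ.toEquiv T := by
  ext c; rfl

theorem ptsMap_congr (φ ψ : FIso 𝒳 𝒴) (h : ∀ T, φ.toEquiv T = ψ.toEquiv T) :
    ptsMap φ = ptsMap ψ := by
  funext ξ
  obtain ⟨p, rfl⟩ := Points.mk_surjective ξ
  rw [ptsMap_mk, ptsMap_mk, h]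

theorem ptsMap_ptsMap_symm [FibCat.IsFibGrpd 𝒳.p] [FibCat.IsFibGrpd 𝒴.p] (φ : FIso 𝒳 𝒴)
    (η : Points 𝒴) : ptsMap φ (ptsMap (fisoSymm φ) η) = η := by
  have h := ptsMap_symm_ptsMap (fisoSymm φ) η
  rwa [ptsMap_congr (fisoSymm (fisoSymm φ)) φ (fisoSymm_fisoSymm_toEquiv φ)] at h

/-! ### Charts -/

/-- 2-Yoneda: every isomorphism class over `U` is the class of a chart `(Sch/U) ⟶ 𝒴`. -/
theorem exists_chart_of_cls [FibCat.IsFibGrpd 𝒴.p] {U : Over S} (c : IsoCl 𝒴 U) :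
    ∃ y : FibCat.overCat U ⥤ᵇ 𝒴, objCls y = c := by
  obtain ⟨y₀, rfl⟩ := exists_rep_cls c
  haveI := isFibered 𝒴.p
  exact ⟨pbFunctor y₀, (cls_eq_iff _ _).2 ⟨pbFunctorEvalIso y₀⟩⟩

/-- Compatibility of `ptsMap` with charts whose isomorphism classes correspond. -/
theorem ptsMap_ofChart [FibCat.IsFibGrpd 𝒴.p] (φ : FIso 𝒳 𝒴) {U : Over S}
    (x : FibCat.overCat U ⥤ᵇ 𝒳) (y : FibCat.overCat U ⥤ᵇ 𝒴)
    (h : φ.toEquiv U (objCls x) = objCls y) (t : ↥U.left) :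
    ptsMap φ (Points.ofChart x t) = Points.ofChart y t := by
  let j : Over.mk (U.left.fromSpecResidueField t ≫ U.hom) ⟶ U :=
    Over.homMk (U.left.fromSpecResidueField t) rfl
  let a : x.obj (Over.mk j) ⟶ x.obj (overTop U) := x.map (toOverTop U (Over.mk j))
  have ha : 𝒳.p.IsHomLift j a := map_toOverTop_isHomLift x (Over.mk j)
  obtain ⟨y', y₀, b, hb, h1, h2⟩ := φ.natural j ⟨x.obj (Over.mk j), x.w_obj _⟩
    ⟨x.obj (overTop U), x.w_obj _⟩ a ha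
  have h3 : cls y₀ = cls ⟨y.obj (overTop U), y.w_obj _⟩ := by
    rw [← h2]; exact h
  have hb₂ : 𝒴.p.IsHomLift j (y.map (toOverTop U (Over.mk j))) :=
    map_toOverTop_isHomLift y (Over.mk j)
  have h4 : cls y' = cls (⟨y.obj (Over.mk j), y.w_obj _⟩ : 𝒴.p.Fiber _) :=
    cls_eq_of_homLift j b (y.map (toOverTop U (Over.mk j))) hb hb₂ h3
  show clsPt _ (φ.toEquiv _ (cls ⟨x.obj (Over.mk j), x.w_obj _⟩)) = _
  rw [h1, h4]
  rfl

/-- `ptsMap φ` is continuous when the target is an algebraic stack. -/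
theorem continuous_ptsMap [FibCat.IsFibGrpd 𝒴.p] (hat : HasAtlas (AlgSp.LocP @Smooth) 𝒴)
    (φ : FIso 𝒳 𝒴) : Continuous (ptsMap φ) := by
  refine continuous_def.2 fun W hW => ?_
  rw [Points.isOpen_iff]
  intro U x _
  obtain ⟨y, hy⟩ := exists_chart_of_cls (φ.toEquiv U (objCls x))
  have : Points.ofChart x ⁻¹' (ptsMap φ ⁻¹' W) = Points.ofChart y ⁻¹' W := by
    ext t
    simp only [Set.mem_preimage]
    rw [ptsMap_ofChart φ x y hy.symm t]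
  rw [this]
  exact (continuous_ofChart hat y).isOpen_preimage W hW

/-- The homeomorphism `|𝒳| ≃ |𝒴|` induced by an isomorphism of presheaves of isomorphism
classes. -/
def ptsHomeo [FibCat.IsFibGrpd 𝒳.p] [FibCat.IsFibGrpd 𝒴.p]
    (hat𝒳 : HasAtlas (AlgSp.LocP @Smooth) 𝒳) (hat𝒴 : HasAtlas (AlgSp.LocP @Smooth) 𝒴)
    (φ : FIso 𝒳 𝒴) : Points 𝒳 ≃ₜ Points 𝒴 where
  toFun := ptsMap φ
  invFun := ptsMap (fisoSymm φ)
  left_inv := ptsMap_symm_ptsMap φ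
  right_inv := ptsMap_ptsMap_symm φ
  continuous_toFun := continuous_ptsMap hat𝒴 φ
  continuous_invFun := continuous_ptsMap hat𝒳 (fisoSymm φ)

@[simp] theorem ptsHomeo_apply [FibCat.IsFibGrpd 𝒳.p] [FibCat.IsFibGrpd 𝒴.p]
    (hat𝒳 : HasAtlas (AlgSp.LocP @Smooth) 𝒳) (hat𝒴 : HasAtlas (AlgSp.LocP @Smooth) 𝒴)
    (φ : FIso 𝒳 𝒴) (ξ : Points 𝒳) : ptsHomeo hat𝒳 hat𝒴 φ ξ = ptsMap φ ξ := rfl

/-! ### Compatibility with functors -/

variable {𝒳' 𝒴' : AlgSt.Cat S}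

theorem fptCls_map (f : 𝒳 ⥤ᵇ 𝒴) (p : FPt 𝒳) :
    fptCls (p.map f) = mapCls f (Over.mk p.str) (fptCls p) := rfl

theorem clsPt_mapCls {K : Type u} [Field K] (str : Spec (CommRingCat.of K) ⟶ S) (f : 𝒳 ⥤ᵇ 𝒴)
    (c : IsoCl 𝒳 (Over.mk str)) : clsPt str (mapCls f (Over.mk str) c) = Points.map f (clsPt str c) := by
  obtain ⟨x, rfl⟩ := exists_rep_cls c
  rfl

/-- The maps on points induced by an `FIsoSq` commute with the maps on points of the functors. -/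
theorem ptsMap_map (f : 𝒳 ⥤ᵇ 𝒴) (f' : 𝒳' ⥤ᵇ 𝒴') (φ : FIsoSq f f') (ξ : Points 𝒳) :
    ptsMap φ.tgt (Points.map f ξ) = Points.map f' (ptsMap φ.src ξ) := by
  obtain ⟨p, rfl⟩ := Points.mk_surjective ξ
  show clsPt p.str (φ.tgt.toEquiv _ (fptCls (p.map f))) = _
  rw [fptCls_map, φ.comm, clsPt_mapCls]
  rfl

end

end Groth.Agent.Lib.IsoNatPts
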