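import Groth.Prelude.Def_Isoc

set_option autoImplicit false
set_option linter.unusedSectionVars false

namespace Groth.Agent.Lib.Isoc76

open Isoc

universe u v

section scalars

variable {p : ℕ} [Fact p.Prime] {k : Type u} [Field k] [CharP k p] [PerfectRing k p]

local notation "𝕎" => WittVector p k
local notation "𝕃" => FractionRing (WittVector p k)

theorem pL_ne_zero : (p : 𝕃) ≠ 0 := WittVector.FractionRing.p_nonzero p k

theorem pL_eq : (p : 𝕃) = algebraMap 𝕎 𝕃 (p : 𝕎) := (map_natCast (algebraMap 𝕎 𝕃) p).symm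

theorem p_not_isUnit : ¬ IsUnit (p : 𝕎) := (WittVector.irreducible p).not_isUnit

theorem algebraMap_injective : Function.Injective (algebraMap 𝕎 𝕃) :=
  IsFractionRing.injective 𝕎 𝕃

/-- Every element of the fraction field becomes integral after multiplying by a power of `p`. -/
theorem exists_pow_mul_eq_algebraMap (c : 𝕃) :
    ∃ (n : ℕ) (w : 𝕎), (p : 𝕃) ^ n * c = algebraMap 𝕎 𝕃 w := by
  obtain ⟨a, b, hb, rfl⟩ := IsFractionRing.div_surjective (A := 𝕎) c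
  have hb0 : b ≠ 0 := nonZeroDivisors.ne_zero hb
  obtain ⟨m, u, hu⟩ := WittVector.exists_eq_pow_p_mul' b hb0
  refine ⟨m, a * ((u⁻¹ : 𝕎ˣ) : 𝕎), ?_⟩
  have hu' : algebraMap 𝕎 𝕃 b = (p : 𝕃) ^ m * algebraMap 𝕎 𝕃 (u : 𝕎) := by
    rw [hu, map_mul, map_pow, pL_eq]
  have huL : algebraMap 𝕎 𝕃 (u : 𝕎) * algebraMap 𝕎 𝕃 ((u⁻¹ : 𝕎ˣ) : 𝕎) = 1 := by
    rw [← map_mul, Units.mul_inv, map_one]
  have h1 : algebraMap 𝕎 𝕃 (u : 𝕎) ≠ 0 := left_ne_zero_of_mul_eq_one huL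
  have hp : (p : 𝕃) ^ m ≠ 0 := pow_ne_zero _ pL_ne_zero
  rw [hu', map_mul]
  field_simp
  linear_combination (-(algebraMap 𝕎 𝕃 a)) * huL

/-- `c ∈ p^n W` inside the fraction field. -/
def InPW (n : ℤ) (c : 𝕃) : Prop := ∃ w : 𝕎, c = (p : 𝕃) ^ n * algebraMap 𝕎 𝕃 w

theorem inPW_zero (n : ℤ) : InPW (p := p) (k := k) n 0 := ⟨0, by rw [map_zero, mul_zero]⟩

theorem InPW.add {n : ℤ} {c c' : 𝕃} (h : InPW n c) (h' : InPW n c') : InPW n (c + c') := by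
  obtain ⟨w, rfl⟩ := h
  obtain ⟨w', rfl⟩ := h'
  exact ⟨w + w', by rw [map_add, mul_add]⟩

theorem InPW.neg {n : ℤ} {c : 𝕃} (h : InPW n c) : InPW n (-c) := by
  obtain ⟨w, rfl⟩ := h
  exact ⟨-w, by rw [map_neg, mul_neg]⟩

theorem InPW.mul {n m : ℤ} {c c' : 𝕃} (h : InPW n c) (h' : InPW m c') :
    InPW (n + m) (c * c') := by
  obtain ⟨w, rfl⟩ := h
  obtain ⟨w', rfl⟩ := h'
  refine ⟨w * w', ?_⟩
  rw [map_mul, zpow_add₀ pL_ne_zero]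
  ring

theorem InPW.sum {ι : Type*} {s : Finset ι} {n : ℤ} {f : ι → 𝕃} (h : ∀ i ∈ s, InPW n (f i)) :
    InPW n (∑ i ∈ s, f i) := by
  classical
  induction s using Finset.induction_on with
  | empty => rw [Finset.sum_empty]; exact inPW_zero n
  | insert a s ha ih =>
    rw [Finset.sum_insert ha]
    exact (h a (Finset.mem_insert_self a s)).add
      (ih (fun i hi => h i (Finset.mem_insert_of_mem hi)))

theorem inPW_algebraMap (w : 𝕎) : InPW 0 (algebraMap 𝕎 𝕃 w) := ⟨w, by rw [zpow_zero, one_mul]⟩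

theorem inPW_pow (n : ℤ) : InPW n ((p : 𝕃) ^ n) := ⟨1, by rw [map_one, mul_one]⟩

theorem InPW.mono {n m : ℤ} {c : 𝕃} (h : InPW n c) (hmn : m ≤ n) : InPW m c := by
  obtain ⟨w, rfl⟩ := h
  obtain ⟨j, hj⟩ := Int.le.dest hmn
  refine ⟨(p : 𝕎) ^ j * w, ?_⟩
  rw [map_mul, map_pow, ← pL_eq, ← hj, zpow_add₀ pL_ne_zero, zpow_natCast]
  ring

theorem inPW_iff_mul {n : ℤ} {c : 𝕃} : InPW n c ↔ InPW 0 ((p : 𝕃) ^ (-n) * c) := by
  constructor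
  · rintro ⟨w, rfl⟩
    refine ⟨w, ?_⟩
    rw [zpow_zero, one_mul, ← mul_assoc, ← zpow_add₀ pL_ne_zero, neg_add_cancel, zpow_zero, one_mul]
  · rintro ⟨w, hw⟩
    refine ⟨w, ?_⟩
    rw [zpow_zero, one_mul] at hw
    rw [← hw, ← mul_assoc, ← zpow_add₀ pL_ne_zero, add_neg_cancel, zpow_zero, one_mul]

/-- A unit of `W` times a positive power of `p` is not a unit. -/
theorem not_inPW_one_of_unit (u : 𝕎ˣ) : ¬ InPW 1 (algebraMap 𝕎 𝕃 (u : 𝕎)) := by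
  rintro ⟨w, hw⟩
  rw [zpow_one, pL_eq, ← map_mul] at hw
  have := algebraMap_injective hw
  have hu : IsUnit ((p : 𝕎) * w) := by rw [← this]; exact u.isUnit
  exact p_not_isUnit (isUnit_of_mul_isUnit_left hu)

theorem isOrdP_inPW {c : 𝕃} {r : ℤ} (h : IsOrdP c r) : InPW r c := by
  obtain ⟨u, rfl⟩ := h
  exact ⟨u, rfl⟩

theorem isOrdP_ne_zero {c : 𝕃} {r : ℤ} (h : IsOrdP c r) : c ≠ 0 := by
  obtain ⟨u, rfl⟩ := h
  refine mul_ne_zero (zpow_ne_zero _ pL_ne_zero) ?_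
  intro h0
  have : (u : 𝕎) = 0 := algebraMap_injective (by rw [h0, map_zero])
  exact u.ne_zero this

/-- If `c` has order `r` and lies in `p^n W` then `n ≤ r`. -/
theorem isOrdP_le_of_inPW {c : 𝕃} {r n : ℤ} (h : IsOrdP c r) (hn : InPW n c) : n ≤ r := by
  by_contra hlt
  push Not at hlt
  obtain ⟨u, rfl⟩ := h
  have h1 : InPW (r + 1) ((p : 𝕃) ^ r * algebraMap 𝕎 𝕃 (u : 𝕎)) := hn.mono (by omega)
  have h2 : InPW 1 (algebraMap 𝕎 𝕃 (u : 𝕎)) := by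
    obtain ⟨w, hw⟩ := h1
    refine ⟨w, ?_⟩
    rw [zpow_add₀ pL_ne_zero, mul_assoc] at hw
    exact mul_left_cancel₀ (zpow_ne_zero r pL_ne_zero) hw
  exact not_inPW_one_of_unit u h2

theorem isOrdP_unique {c : 𝕃} {r r' : ℤ} (h : IsOrdP c r) (h' : IsOrdP c r') : r = r' :=
  le_antisymm (isOrdP_le_of_inPW h' (isOrdP_inPW h)) (isOrdP_le_of_inPW h (isOrdP_inPW h'))

theorem isOrdP_of_unit (u : 𝕎ˣ) (r : ℤ) :
    IsOrdP ((p : 𝕃) ^ r * algebraMap 𝕎 𝕃 (u : 𝕎)) r := ⟨u, rfl⟩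

theorem isOrdP_mul {c c' : 𝕃} {r r' : ℤ} (h : IsOrdP c r) (h' : IsOrdP c' r') :
    IsOrdP (c * c') (r + r') := by
  obtain ⟨u, rfl⟩ := h
  obtain ⟨u', rfl⟩ := h'
  refine ⟨u * u', ?_⟩
  rw [Units.val_mul, map_mul, zpow_add₀ pL_ne_zero]
  ring

theorem isOrdP_one : IsOrdP (p := p) (k := k) (1 : 𝕃) 0 :=
  ⟨1, by rw [zpow_zero, Units.val_one, map_one, mul_one]⟩

theorem isOrdP_zpow (r : ℤ) : IsOrdP (p := p) (k := k) ((p : 𝕃) ^ r) r :=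
  ⟨1, by rw [Units.val_one, map_one, mul_one]⟩

theorem isOrdP_inv {c : 𝕃} {r : ℤ} (h : IsOrdP c r) : IsOrdP c⁻¹ (-r) := by
  obtain ⟨u, rfl⟩ := h
  refine ⟨u⁻¹, ?_⟩
  have huL : algebraMap 𝕎 𝕃 (u : 𝕎) * algebraMap 𝕎 𝕃 ((u⁻¹ : 𝕎ˣ) : 𝕎) = 1 := by
    rw [← map_mul, Units.mul_inv, map_one]
  rw [mul_inv, zpow_neg, eq_comm]
  congr 1
  exact (eq_inv_of_mul_eq_one_right huL)

theorem isOrdP_pow {c : 𝕃} {r : ℤ} (h : IsOrdP c r) (n : ℕ) : IsOrdP (c ^ n) (n * r) := by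
  induction n with
  | zero => rw [pow_zero, Nat.cast_zero, zero_mul]; exact isOrdP_one
  | succ n ih =>
    rw [pow_succ, Nat.cast_succ, add_mul, one_mul]
    exact isOrdP_mul ih h

theorem exists_isOrdP_algebraMap {w : 𝕎} (hw : w ≠ 0) : ∃ m : ℕ, IsOrdP (algebraMap 𝕎 𝕃 w) m := by
  obtain ⟨m, u, hu⟩ := WittVector.exists_eq_pow_p_mul' w hw
  refine ⟨m, u, ?_⟩
  rw [hu, map_mul, map_pow, pL_eq, zpow_natCast]

theorem exists_isOrdP {c : 𝕃} (hc : c ≠ 0) : ∃ r : ℤ, IsOrdP c r := by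
  obtain ⟨a, b, hb, rfl⟩ := IsFractionRing.div_surjective (A := 𝕎) c
  have hb0 : b ≠ 0 := nonZeroDivisors.ne_zero hb
  have ha0 : a ≠ 0 := by
    rintro rfl
    rw [map_zero, zero_div] at hc
    exact hc rfl
  obtain ⟨m, hm⟩ := exists_isOrdP_algebraMap (p := p) (k := k) ha0
  obtain ⟨n, hn⟩ := exists_isOrdP_algebraMap (p := p) (k := k) hb0
  exact ⟨m + -n, by rw [div_eq_mul_inv]; exact isOrdP_mul hm (isOrdP_inv hn)⟩

/-- If `c ∈ W` has order `0` then it is (the image of) a unit. -/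
theorem isOrdP_exists_unit_of_zero {c : 𝕃} (h : IsOrdP c 0) :
    ∃ u : 𝕎ˣ, c = algebraMap 𝕎 𝕃 (u : 𝕎) := by
  obtain ⟨u, hu⟩ := h
  exact ⟨u, by rw [hu, zpow_zero, one_mul]⟩

end scalars

section twist

variable {p : ℕ} [Fact p.Prime] {k : Type u} [Field k] [CharP k p] [PerfectRing k p]

local notation "𝕎" => WittVector p k
local notation "𝕃" => FractionRing (WittVector p k)

/-- A twist of the fraction field that restricts to an automorphism of `W`. -/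
def GoodTwist (τ : 𝕃 →+* 𝕃) : Prop :=
  ∃ e : 𝕎 ≃+* 𝕎, ∀ w, τ (algebraMap 𝕎 𝕃 w) = algebraMap 𝕎 𝕃 (e w)

theorem goodTwist_frob (a : ℤ) : GoodTwist (frob p k a) :=
  ⟨WittVector.frobeniusEquiv p k ^ a, frob_algebraMap p k a⟩

theorem goodTwist_id : GoodTwist (RingHom.id 𝕃) := ⟨RingEquiv.refl _, fun _ => rfl⟩

theorem GoodTwist.comp {τ τ' : 𝕃 →+* 𝕃} (h : GoodTwist τ) (h' : GoodTwist τ') :
    GoodTwist (τ.comp τ') := by
  obtain ⟨e, he⟩ := h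
  obtain ⟨e', he'⟩ := h'
  exact ⟨e'.trans e, fun w => by rw [RingHom.comp_apply, he', he]; rfl⟩

theorem GoodTwist.pow {τ : 𝕃 →+* 𝕃} (h : GoodTwist τ) (n : ℕ) : GoodTwist (τ ^ n) := by
  induction n with
  | zero => rw [pow_zero]; exact goodTwist_id
  | succ n ih => rw [pow_succ]; exact ih.comp h

theorem GoodTwist.map_p {τ : 𝕃 →+* 𝕃} (_h : GoodTwist τ) : τ (p : 𝕃) = (p : 𝕃) :=
  map_natCast τ p

theorem GoodTwist.map_zpow {τ : 𝕃 →+* 𝕃} (h : GoodTwist τ) (r : ℤ) :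
    τ ((p : 𝕃) ^ r) = (p : 𝕃) ^ r := by
  rw [map_zpow₀, h.map_p]

theorem GoodTwist.inPW {τ : 𝕃 →+* 𝕃} (h : GoodTwist τ) {n : ℤ} {c : 𝕃} (hc : InPW n c) :
    InPW n (τ c) := by
  obtain ⟨e, he⟩ := h
  obtain ⟨w, rfl⟩ := hc
  exact ⟨e w, by rw [map_mul, map_zpow₀, map_natCast, he]⟩

theorem GoodTwist.isOrdP {τ : 𝕃 →+* 𝕃} (h : GoodTwist τ) {r : ℤ} {c : 𝕃} (hc : IsOrdP c r) :
    IsOrdP (τ c) r := by
  obtain ⟨e, he⟩ := h
  obtain ⟨u, rfl⟩ := hc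
  refine ⟨Units.map e.toRingHom.toMonoidHom u, ?_⟩
  rw [map_mul, map_zpow₀, map_natCast, he]
  rfl

/-- A good twist is surjective on `W`. -/
theorem GoodTwist.exists_preimage_algebraMap {τ : 𝕃 →+* 𝕃} (h : GoodTwist τ) (w : 𝕎) :
    ∃ w' : 𝕎, τ (algebraMap 𝕎 𝕃 w') = algebraMap 𝕎 𝕃 w := by
  obtain ⟨e, he⟩ := h
  exact ⟨e.symm w, by rw [he, e.apply_symm_apply]⟩

theorem GoodTwist.exists_preimage_of_inPW {τ : 𝕃 →+* 𝕃} (h : GoodTwist τ) {n : ℤ} {c : 𝕃}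
    (hc : InPW n c) : ∃ c' : 𝕃, InPW n c' ∧ τ c' = c := by
  obtain ⟨w, rfl⟩ := hc
  obtain ⟨w', hw'⟩ := h.exists_preimage_algebraMap w
  exact ⟨(p : 𝕃) ^ n * algebraMap 𝕎 𝕃 w', ⟨w', rfl⟩, by rw [map_mul, h.map_zpow, hw']⟩

theorem GoodTwist.surjective {τ : 𝕃 →+* 𝕃} (h : GoodTwist τ) : Function.Surjective τ := by
  intro c
  obtain ⟨n, w, hw⟩ := exists_pow_mul_eq_algebraMap c
  obtain ⟨w', hw'⟩ := h.exists_preimage_algebraMap w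
  refine ⟨((p : 𝕃) ^ n)⁻¹ * algebraMap 𝕎 𝕃 w', ?_⟩
  have hp : (p : 𝕃) ^ n ≠ 0 := pow_ne_zero _ pL_ne_zero
  rw [map_mul, map_inv₀, map_pow, h.map_p, hw', ← hw, ← mul_assoc, inv_mul_cancel₀ hp, one_mul]

theorem GoodTwist.bijective {τ : 𝕃 →+* 𝕃} (h : GoodTwist τ) : Function.Bijective τ :=
  ⟨τ.injective, h.surjective⟩

end twist

end Groth.Agent.Lib.Isoc76
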