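import Groth.Agent.Lib.Isoc76A

set_option autoImplicit false
set_option linter.unusedSectionVars false

namespace Groth.Agent.Lib.Isoc76

open Isoc
open scoped Pointwise

universe u v

section ppow

variable {p : ℕ} [Fact p.Prime] {k : Type u} [Field k] [CharP k p] [PerfectRing k p]

local notation "𝕎" => WittVector p k
local notation "𝕃" => FractionRing (WittVector p k)

variable {N : Type v} [AddCommGroup N] [Module (WittVector p k) N]
  [Module (FractionRing (WittVector p k)) N]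
  [IsScalarTower (WittVector p k) (FractionRing (WittVector p k)) N]

theorem mem_pPow_iff {r : ℤ} {M : Submodule 𝕎 N} {x : N} :
    x ∈ pPow r M ↔ ((p : 𝕃) ^ (-r)) • x ∈ M := by
  unfold pPow
  rw [Submodule.mem_smul_pointwise_iff_exists]
  constructor
  · rintro ⟨s, hs, rfl⟩
    rw [smul_smul, ← zpow_add₀ pL_ne_zero, neg_add_cancel, zpow_zero, one_smul]
    exact hs
  · intro h
    refine ⟨_, h, ?_⟩
    rw [smul_smul, ← zpow_add₀ pL_ne_zero, add_neg_cancel, zpow_zero, one_smul]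

theorem smul_mem_pPow {r : ℤ} {M : Submodule 𝕎 N} {x : N} (hx : x ∈ M) :
    ((p : 𝕃) ^ r) • x ∈ pPow r M := by
  rw [mem_pPow_iff, smul_smul, ← zpow_add₀ pL_ne_zero, neg_add_cancel, zpow_zero, one_smul]
  exact hx

theorem pPow_zero (M : Submodule 𝕎 N) : pPow 0 M = M := by
  ext x
  rw [mem_pPow_iff, neg_zero, zpow_zero, one_smul]

theorem pPow_pPow (r s : ℤ) (M : Submodule 𝕎 N) : pPow r (pPow s M) = pPow (r + s) M := by
  ext x
  rw [mem_pPow_iff, mem_pPow_iff, mem_pPow_iff, smul_smul, ← zpow_add₀ pL_ne_zero, neg_add_rev]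

theorem pPow_mono {r : ℤ} {M M' : Submodule 𝕎 N} (h : M ≤ M') : pPow r M ≤ pPow r M' := by
  intro x hx
  rw [mem_pPow_iff] at hx ⊢
  exact h hx

theorem pow_smul_mem {M : Submodule 𝕎 N} {x : N} (hx : x ∈ M) (n : ℕ) :
    ((p : 𝕃) ^ n) • x ∈ M := by
  rw [pL_eq, ← map_pow, algebraMap_smul]
  exact M.smul_mem _ hx

theorem zpow_smul_mem {M : Submodule 𝕎 N} {x : N} (hx : x ∈ M) {j : ℤ} (hj : 0 ≤ j) :
    ((p : 𝕃) ^ j) • x ∈ M := by
  obtain ⟨n, rfl⟩ := Int.eq_ofNat_of_zero_le hj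
  rw [zpow_natCast]
  exact pow_smul_mem hx n

theorem inPW_smul_mem {M : Submodule 𝕎 N} {x : N} (hx : x ∈ M) {c : 𝕃} (hc : InPW 0 c) :
    c • x ∈ M := by
  obtain ⟨w, rfl⟩ := hc
  rw [zpow_zero, one_mul, algebraMap_smul]
  exact M.smul_mem _ hx

theorem pPow_anti {r r' : ℤ} (h : r ≤ r') (M : Submodule 𝕎 N) : pPow r' M ≤ pPow r M := by
  intro x hx
  rw [mem_pPow_iff] at hx ⊢
  have := zpow_smul_mem hx (sub_nonneg.mpr h)
  rwa [smul_smul, ← zpow_add₀ pL_ne_zero, show r' - r + -r' = -r by ring] at this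

theorem le_pPow_iff {r : ℤ} {M M' : Submodule 𝕎 N} : M' ≤ pPow r M ↔ pPow (-r) M' ≤ M := by
  constructor
  · intro h x hx
    rw [mem_pPow_iff, neg_neg] at hx
    have := h hx
    rwa [mem_pPow_iff, smul_smul, ← zpow_add₀ pL_ne_zero, neg_add_cancel, zpow_zero,
      one_smul] at this
  · intro h x hx
    rw [mem_pPow_iff]
    apply h
    rw [mem_pPow_iff, neg_neg, smul_smul, ← zpow_add₀ pL_ne_zero, add_neg_cancel, zpow_zero,
      one_smul]
    exact hx

theorem pPow_le_pPow_iff {r : ℤ} {M M' : Submodule 𝕎 N} : pPow r M' ≤ pPow r M ↔ M' ≤ M := by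
  rw [le_pPow_iff, pPow_pPow, neg_add_cancel, pPow_zero]

theorem pPow_sup (r : ℤ) (M M' : Submodule 𝕎 N) : pPow r (M ⊔ M') = pPow r M ⊔ pPow r M' :=
  Submodule.smul_sup' _ _ _

theorem pPow_injective (r : ℤ) {M M' : Submodule 𝕎 N} (h : pPow r M = pPow r M') : M = M' :=
  le_antisymm (pPow_le_pPow_iff.mp h.le) (pPow_le_pPow_iff.mp h.ge)

theorem isLattice_pPow (r : ℤ) (M : Submodule 𝕎 N) [hM : M.IsLattice 𝕃] :
    (pPow r M).IsLattice 𝕃 :=
  Submodule.IsLattice.smul 𝕃 M (Units.mk0 ((p : 𝕃) ^ r) (zpow_ne_zero r pL_ne_zero))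

end ppow

section latimg

variable {p : ℕ} [Fact p.Prime] {k : Type u} [Field k] [CharP k p] [PerfectRing k p]
variable {N : Type v} [AddCommGroup N] [Module (WittVector p k) N]
  [Module (FractionRing (WittVector p k)) N]
  [IsScalarTower (WittVector p k) (FractionRing (WittVector p k)) N]

local notation "𝕎" => WittVector p k
local notation "𝕃" => FractionRing (WittVector p k)

variable {τ : FractionRing (WittVector p k) →+* FractionRing (WittVector p k)}

theorem iterate_smul (F : N →ₛₗ[τ] N) (s : ℕ) (c : 𝕃) (x : N) :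
    (⇑F)^[s] (c • x) = (τ ^ s) c • (⇑F)^[s] x :=
  (iter F s).map_smulₛₗ c x

theorem iterate_add (F : N →ₛₗ[τ] N) (s : ℕ) (x y : N) :
    (⇑F)^[s] (x + y) = (⇑F)^[s] x + (⇑F)^[s] y :=
  (iter F s).map_add x y

theorem iterate_zero (F : N →ₛₗ[τ] N) (s : ℕ) : (⇑F)^[s] (0 : N) = 0 :=
  (iter F s).map_zero

theorem iterate_zpow_smul (hτ : GoodTwist τ) (F : N →ₛₗ[τ] N) (s : ℕ) (r : ℤ) (x : N) :
    (⇑F)^[s] (((p : 𝕃) ^ r) • x) = ((p : 𝕃) ^ r) • (⇑F)^[s] x := by
  rw [iterate_smul, (hτ.pow s).map_zpow]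

theorem mem_latImg_iff (hτ : GoodTwist τ) (F : N →ₛₗ[τ] N) (s : ℕ) (M : Submodule 𝕎 N) (y : N) :
    y ∈ latImg F s M ↔ ∃ x ∈ M, (⇑F)^[s] x = y := by
  constructor
  · intro hy
    unfold latImg at hy
    induction hy using Submodule.span_induction with
    | mem y hy => exact hy
    | zero => exact ⟨0, M.zero_mem, iterate_zero F s⟩
    | add y y' _ _ h h' =>
      obtain ⟨x, hx, rfl⟩ := h
      obtain ⟨x', hx', rfl⟩ := h'
      exact ⟨x + x', M.add_mem hx hx', iterate_add F s x x'⟩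
    | smul w y _ h =>
      obtain ⟨x, hx, rfl⟩ := h
      obtain ⟨w', hw'⟩ := (hτ.pow s).exists_preimage_algebraMap w
      refine ⟨w' • x, M.smul_mem _ hx, ?_⟩
      rw [← algebraMap_smul 𝕃 w' x, iterate_smul, hw', algebraMap_smul]
  · rintro ⟨x, hx, rfl⟩
    exact Submodule.subset_span ⟨x, hx, rfl⟩

theorem iterate_mem_latImg (F : N →ₛₗ[τ] N) (s : ℕ) {M : Submodule 𝕎 N} {x : N} (hx : x ∈ M) :
    (⇑F)^[s] x ∈ latImg F s M :=
  Submodule.subset_span ⟨x, hx, rfl⟩

theorem latImg_le_iff (F : N →ₛₗ[τ] N) (s : ℕ) (M M' : Submodule 𝕎 N) :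
    latImg F s M ≤ M' ↔ ∀ x ∈ M, (⇑F)^[s] x ∈ M' := by
  unfold latImg
  rw [Submodule.span_le]
  constructor
  · intro h x hx
    exact h ⟨x, hx, rfl⟩
  · rintro h _ ⟨x, hx, rfl⟩
    exact h x hx

theorem latImg_zero (F : N →ₛₗ[τ] N) (M : Submodule 𝕎 N) : latImg F 0 M = M := by
  unfold latImg
  rw [Function.iterate_zero, Set.image_id, Submodule.span_eq]

theorem latImg_mono (F : N →ₛₗ[τ] N) (s : ℕ) {M M' : Submodule 𝕎 N} (h : M ≤ M') :
    latImg F s M ≤ latImg F s M' :=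
  Submodule.span_mono (Set.image_mono h)

theorem latImg_latImg (hτ : GoodTwist τ) (F : N →ₛₗ[τ] N) (s t : ℕ) (M : Submodule 𝕎 N) :
    latImg F s (latImg F t M) = latImg F (s + t) M := by
  ext y
  rw [mem_latImg_iff hτ, mem_latImg_iff hτ]
  constructor
  · rintro ⟨x, hx, rfl⟩
    obtain ⟨z, hz, rfl⟩ := (mem_latImg_iff hτ F t M x).mp hx
    exact ⟨z, hz, Function.iterate_add_apply _ s t z⟩
  · rintro ⟨z, hz, rfl⟩
    exact ⟨_, iterate_mem_latImg F t hz, (Function.iterate_add_apply _ s t z).symm⟩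

theorem latImg_pPow (hτ : GoodTwist τ) (F : N →ₛₗ[τ] N) (s : ℕ) (r : ℤ) (M : Submodule 𝕎 N) :
    latImg F s (pPow r M) = pPow r (latImg F s M) := by
  ext y
  rw [mem_latImg_iff hτ, mem_pPow_iff, mem_latImg_iff hτ]
  constructor
  · rintro ⟨x, hx, rfl⟩
    rw [mem_pPow_iff] at hx
    exact ⟨_, hx, iterate_zpow_smul hτ F s (-r) x⟩
  · rintro ⟨x, hx, hxy⟩
    refine ⟨((p : 𝕃) ^ r) • x, smul_mem_pPow hx, ?_⟩
    rw [iterate_zpow_smul hτ, hxy, smul_smul, ← zpow_add₀ pL_ne_zero, add_neg_cancel, zpow_zero,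
      one_smul]

theorem latImg_sup (F : N →ₛₗ[τ] N) (s : ℕ) (M M' : Submodule 𝕎 N) :
    latImg F s (M ⊔ M') = latImg F s M ⊔ latImg F s M' := by
  apply le_antisymm
  · rw [latImg_le_iff]
    intro x hx
    obtain ⟨y, hy, z, hz, rfl⟩ := Submodule.mem_sup.mp hx
    rw [iterate_add]
    exact Submodule.add_mem_sup (iterate_mem_latImg F s hy) (iterate_mem_latImg F s hz)
  · exact sup_le (latImg_mono F s le_sup_left) (latImg_mono F s le_sup_right)

theorem latImg_bot (F : N →ₛₗ[τ] N) (s : ℕ) : latImg F s (⊥ : Submodule 𝕎 N) = ⊥ := by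
  rw [eq_bot_iff, latImg_le_iff]
  intro x hx
  rw [(Submodule.mem_bot 𝕎).mp hx, iterate_zero]
  exact Submodule.zero_mem _

end latimg

section lattice

variable {p : ℕ} [Fact p.Prime] {k : Type u} [Field k] [CharP k p] [PerfectRing k p]
variable {N : Type v} [AddCommGroup N] [Module (WittVector p k) N]
  [Module (FractionRing (WittVector p k)) N]
  [IsScalarTower (WittVector p k) (FractionRing (WittVector p k)) N]

local notation "𝕎" => WittVector p k
local notation "𝕃" => FractionRing (WittVector p k)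

variable {τ : FractionRing (WittVector p k) →+* FractionRing (WittVector p k)}

/-- Every vector is moved into a lattice by a power of `p`. -/
theorem exists_pow_smul_mem (M : Submodule 𝕎 N) (hM : M.IsLattice 𝕃) (x : N) :
    ∃ n : ℕ, ((p : 𝕃) ^ n) • x ∈ M := by
  have hx : x ∈ Submodule.span 𝕃 (M : Set N) := by
    rw [hM.span_eq_top]; exact Submodule.mem_top
  induction hx using Submodule.span_induction with
  | mem y hy => exact ⟨0, by rw [pow_zero, one_smul]; exact hy⟩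
  | zero => exact ⟨0, by rw [smul_zero]; exact M.zero_mem⟩
  | add y y' _ _ h h' =>
    obtain ⟨n, hn⟩ := h
    obtain ⟨n', hn'⟩ := h'
    refine ⟨n + n', ?_⟩
    rw [smul_add]
    refine M.add_mem ?_ ?_
    · rw [pow_add, mul_comm, mul_smul]; exact pow_smul_mem hn n'
    · rw [pow_add, mul_smul]; exact pow_smul_mem hn' n
  | smul c y _ h =>
    obtain ⟨n, hn⟩ := h
    obtain ⟨m, w, hw⟩ := exists_pow_mul_eq_algebraMap c
    refine ⟨m + n, ?_⟩
    rw [smul_smul, pow_add, mul_assoc, mul_comm ((p : 𝕃) ^ n), ← mul_assoc, hw, ← smul_smul,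
      algebraMap_smul]
    exact M.smul_mem _ hn

/-- A finitely generated submodule is contained in `p^(-n) M` for a lattice `M`. -/
theorem exists_le_pPow_neg (M' M : Submodule 𝕎 N) (hM' : M'.FG) (hM : M.IsLattice 𝕃) :
    ∃ n : ℕ, M' ≤ pPow (-(n : ℤ)) M := by
  classical
  obtain ⟨S, rfl⟩ := hM'
  induction S using Finset.induction_on with
  | empty =>
    exact ⟨0, by rw [Finset.coe_empty, Submodule.span_empty]; exact bot_le⟩
  | insert a S _ ih =>
    obtain ⟨n, hn⟩ := ih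
    obtain ⟨m, hm⟩ := exists_pow_smul_mem M hM a
    refine ⟨m + n, ?_⟩
    rw [Finset.coe_insert, Submodule.span_insert]
    refine sup_le ?_ ?_
    · rw [Submodule.span_singleton_le_iff_mem, mem_pPow_iff, neg_neg, Nat.cast_add,
        zpow_add₀ pL_ne_zero, mul_comm, mul_smul, zpow_natCast, zpow_natCast]
      exact pow_smul_mem hm n
    · refine hn.trans (pPow_anti ?_ M)
      push_cast
      omega

theorem exists_pPow_le (M' M : Submodule 𝕎 N) (hM' : M'.FG) (hM : M.IsLattice 𝕃) :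
    ∃ n : ℕ, pPow (n : ℤ) M' ≤ M := by
  obtain ⟨n, hn⟩ := exists_le_pPow_neg M' M hM' hM
  refine ⟨n, ?_⟩
  rw [le_pPow_iff, neg_neg] at hn
  exact hn

/-- A lattice has a basis that is also a basis of the ambient space, and membership in
the lattice is integrality of the coordinates. -/
theorem exists_basis (M : Submodule 𝕎 N) (hM : M.IsLattice 𝕃) :
    ∃ (n : ℕ) (b : Module.Basis (Fin n) 𝕃 N), ∀ x : N, x ∈ M ↔ ∀ i, InPW 0 (b.repr x i) := by
  classical
  have := hM
  let b₀ := Module.Free.chooseBasis 𝕎 M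
  let e := Fintype.equivFin (Module.Free.ChooseBasisIndex 𝕎 M)
  let b₁ := b₀.reindex e
  let b := b₁.extendOfIsLattice 𝕃
  have hb : ∀ i, b i = (b₁ i : N) := fun i => Module.Basis.extendOfIsLattice_apply 𝕃 b₁ i
  refine ⟨_, b, fun x => ⟨fun hx i => ?_, fun h => ?_⟩⟩
  · have h1 : x = ∑ j, (algebraMap 𝕎 𝕃 (b₁.repr ⟨x, hx⟩ j)) • b j := by
      have h2 := congrArg (Subtype.val) (b₁.sum_repr ⟨x, hx⟩)
      rw [Submodule.coe_sum] at h2
      have h2' : x = ∑ i, (((b₁.repr ⟨x, hx⟩) i • b₁ i : M) : N) := h2.symm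
      refine h2'.trans ?_
      refine Finset.sum_congr rfl (fun j _ => ?_)
      rw [algebraMap_smul, hb, Submodule.coe_smul]
    have h3 : b.repr x i = algebraMap 𝕎 𝕃 (b₁.repr ⟨x, hx⟩ i) := by
      conv_lhs => rw [h1]
      rw [b.repr_sum_self]
    rw [h3]
    exact inPW_algebraMap _
  · rw [← b.sum_repr x]
    refine Submodule.sum_mem _ (fun i _ => ?_)
    rw [hb]
    exact inPW_smul_mem (b₁ i).2 (h i)

theorem mem_pPow_iff_repr {n : ℕ} {M : Submodule 𝕎 N} {b : Module.Basis (Fin n) 𝕃 N}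
    (hb : ∀ x : N, x ∈ M ↔ ∀ i, InPW 0 (b.repr x i)) (r : ℤ) (x : N) :
    x ∈ pPow r M ↔ ∀ i, InPW r (b.repr x i) := by
  rw [mem_pPow_iff, hb]
  refine forall_congr' (fun i => ?_)
  rw [map_smul, Finsupp.smul_apply, smul_eq_mul, ← inPW_iff_mul]

/-- Separation: a non-zero vector is not in `p^r M` for large `r`. -/
theorem exists_not_mem_pPow (M : Submodule 𝕎 N) (hM : M.IsLattice 𝕃) {x : N} (hx : x ≠ 0) :
    ∃ r : ℤ, ∀ r' : ℤ, r ≤ r' → x ∉ pPow r' M := by
  obtain ⟨n, b, hb⟩ := exists_basis M hM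
  have hne : b.repr x ≠ 0 := fun h => hx (b.repr.map_eq_zero_iff.mp h)
  obtain ⟨i, hi⟩ := Finsupp.ne_iff.mp hne
  rw [Finsupp.zero_apply] at hi
  obtain ⟨e, he⟩ := exists_isOrdP hi
  refine ⟨e + 1, fun r' hr' hmem => ?_⟩
  have := isOrdP_le_of_inPW he ((mem_pPow_iff_repr hb r' x).mp hmem i)
  omega

theorem iInf_pPow_eq_bot (M : Submodule 𝕎 N) (hM : M.IsLattice 𝕃) {x : N}
    (hx : ∀ r : ℤ, x ∈ pPow r M) : x = 0 := by
  by_contra h0
  obtain ⟨r, hr⟩ := exists_not_mem_pPow M hM h0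
  exact hr r le_rfl (hx r)

theorem iterate_bijective (F : N →ₛₗ[τ] N) (hF : Function.Bijective F) (s : ℕ) :
    Function.Bijective ((⇑F)^[s]) := hF.iterate s

theorem isLattice_latImg (hτ : GoodTwist τ) (F : N →ₛₗ[τ] N) (hF : Function.Bijective F) (s : ℕ)
    (M : Submodule 𝕎 N) (hM : M.IsLattice 𝕃) : (latImg F s M).IsLattice 𝕃 := by
  classical
  constructor
  · obtain ⟨S, hS⟩ := hM.fg
    have h1 : latImg F s M = Submodule.span 𝕎 ((⇑F)^[s] '' (S : Set N)) := by
      apply le_antisymm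
      · rw [latImg_le_iff]
        intro x hx
        rw [← hS] at hx
        induction hx using Submodule.span_induction with
        | mem y hy => exact Submodule.subset_span ⟨y, hy, rfl⟩
        | zero => rw [iterate_zero]; exact Submodule.zero_mem _
        | add y y' _ _ h h' => rw [iterate_add]; exact Submodule.add_mem _ h h'
        | smul w y _ h =>
          obtain ⟨e, he⟩ := hτ.pow s
          rw [← algebraMap_smul 𝕃 w y, iterate_smul, he, algebraMap_smul]
          exact Submodule.smul_mem _ _ h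
      · refine Submodule.span_mono (Set.image_mono ?_)
        rw [← hS]
        exact Submodule.subset_span
    rw [h1]
    exact Submodule.fg_span ((Finset.finite_toSet S).image _)
  · rw [eq_top_iff]
    intro y _
    obtain ⟨x, rfl⟩ := (iterate_bijective F hF s).2 y
    have hx : x ∈ Submodule.span 𝕃 (M : Set N) := by
      rw [hM.span_eq_top]; exact Submodule.mem_top
    induction hx using Submodule.span_induction with
    | mem y hy => exact Submodule.subset_span (iterate_mem_latImg F s hy)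
    | zero => rw [iterate_zero]; exact Submodule.zero_mem _
    | add y y' _ _ h h' =>
      rw [iterate_add]
      exact Submodule.add_mem _ (h Submodule.mem_top) (h' Submodule.mem_top)
    | smul c y _ h =>
      rw [iterate_smul]
      exact Submodule.smul_mem _ _ (h Submodule.mem_top)

theorem exists_ne_zero_mem [Nontrivial N] (M : Submodule 𝕎 N) (hM : M.IsLattice 𝕃) :
    ∃ x ∈ M, x ≠ 0 := by
  by_contra h
  push Not at h
  have h1 : Submodule.span 𝕃 (M : Set N) = ⊥ := by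
    rw [Submodule.span_eq_bot]
    exact fun x hx => h x hx
  rw [hM.span_eq_top] at h1
  exact top_ne_bot h1

theorem le_of_pPow_le_pPow [Nontrivial N] (M : Submodule 𝕎 N) (hM : M.IsLattice 𝕃) {r r' : ℤ}
    (h : pPow r M ≤ pPow r' M) : r' ≤ r := by
  by_contra hlt
  push Not at hlt
  have h1 : M ≤ pPow 1 M := by
    have h2 : pPow r M ≤ pPow r (pPow (r' - r) M) := by
      rw [pPow_pPow, add_sub_cancel]; exact h
    exact (pPow_le_pPow_iff.mp h2).trans (pPow_anti (by omega) M)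
  have h3 : ∀ n : ℕ, M ≤ pPow (n : ℤ) M := by
    intro n
    induction n with
    | zero => rw [Nat.cast_zero, pPow_zero]
    | succ n ih =>
      refine ih.trans ?_
      rw [Nat.cast_succ, ← pPow_pPow]
      exact pPow_mono h1
  obtain ⟨x, hx, hx0⟩ := exists_ne_zero_mem M hM
  apply hx0
  apply iInf_pPow_eq_bot M hM
  intro j
  exact pPow_anti (Int.le_natAbs (a := j) |>.trans (by exact le_rfl)) M (h3 j.natAbs hx)

theorem exists_isOrd [Nontrivial N] (hτ : GoodTwist τ) (F : N →ₛₗ[τ] N)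
    (hF : Function.Bijective F) (M : Submodule 𝕎 N) (hM : M.IsLattice 𝕃) (s : ℕ) :
    ∃ r : ℤ, IsOrd M F s r := by
  have hlat := isLattice_latImg hτ F hF s M hM
  obtain ⟨x, hx, hx0⟩ := exists_ne_zero_mem M hM
  have hFx0 : (⇑F)^[s] x ≠ 0 := by
    intro h
    apply hx0
    apply (iterate_bijective F hF s).1
    rw [h, iterate_zero]
  obtain ⟨r₀, hr₀⟩ := exists_not_mem_pPow M hM hFx0
  obtain ⟨n, hn⟩ := exists_le_pPow_neg (latImg F s M) M hlat.fg hM
  obtain ⟨ub, hub, hmax⟩ := Int.exists_greatest_of_bdd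
    (P := fun z => latImg F s M ≤ pPow z M)
    ⟨r₀, fun z hz => by
      by_contra hlt
      push Not at hlt
      exact hr₀ z hlt.le (hz (iterate_mem_latImg F s hx))⟩ ⟨_, hn⟩
  refine ⟨ub, hub, fun h => ?_⟩
  have := hmax _ h
  omega

theorem isOrd_le {M : Submodule 𝕎 N} {F : N →ₛₗ[τ] N} {s : ℕ} {r r' : ℤ} (h : IsOrd M F s r)
    (h' : latImg F s M ≤ pPow r' M) : r' ≤ r := by
  by_contra hlt
  push Not at hlt
  exact h.2 (h'.trans (pPow_anti (by omega) M))

theorem isOrd_unique {M : Submodule 𝕎 N} {F : N →ₛₗ[τ] N} {s : ℕ} {r r' : ℤ} (h : IsOrd M F s r)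
    (h' : IsOrd M F s r') : r = r' :=
  le_antisymm (isOrd_le h' h.1) (isOrd_le h h'.1)

end lattice

end Groth.Agent.Lib.Isoc76
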