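import Groth.Agent.Lib.Isoc76B
import Mathlib.Analysis.SpecificLimits.Basic
import Mathlib.Analysis.Subadditive

set_option autoImplicit false
set_option linter.unusedSectionVars false

namespace Groth.Agent.Lib.Isoc76

open Isoc Filter Topology
open scoped Pointwise

universe u v

section ord

variable {p : ℕ} [Fact p.Prime] {k : Type u} [Field k] [CharP k p] [PerfectRing k p]
variable {N : Type v} [AddCommGroup N] [Module (WittVector p k) N]
  [Module (FractionRing (WittVector p k)) N]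
  [IsScalarTower (WittVector p k) (FractionRing (WittVector p k)) N]

local notation "𝕎" => WittVector p k
local notation "𝕃" => FractionRing (WittVector p k)

variable {τ : FractionRing (WittVector p k) →+* FractionRing (WittVector p k)}

/-- Orders with respect to commensurable lattices differ by a bounded amount. -/
theorem isOrd_compare (hτ : GoodTwist τ) (F : N →ₛₗ[τ] N) {M₁ M₂ : Submodule 𝕎 N} {c₁ c₂ : ℤ}
    (h₁ : pPow c₁ M₁ ≤ M₂) (h₂ : pPow c₂ M₂ ≤ M₁) {n : ℕ} {r₁ r₂ : ℤ}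
    (ho₁ : IsOrd M₁ F n r₁) (ho₂ : IsOrd M₂ F n r₂) : r₁ - (c₁ + c₂) ≤ r₂ := by
  apply isOrd_le ho₂
  have h3 : latImg F n (pPow c₂ M₂) ≤ pPow r₁ M₁ := (latImg_mono F n h₂).trans ho₁.1
  rw [latImg_pPow hτ] at h3
  have h4 : M₁ ≤ pPow (-c₁) M₂ := by rw [le_pPow_iff, neg_neg]; exact h₁
  have h5 : pPow c₂ (latImg F n M₂) ≤ pPow (r₁ + -c₁) M₂ := by
    rw [← pPow_pPow]; exact h3.trans (pPow_mono h4)
  have h6 : pPow c₂ (latImg F n M₂) ≤ pPow c₂ (pPow (r₁ - (c₁ + c₂)) M₂) := by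
    rw [pPow_pPow]
    convert h5 using 2
    ring
  exact pPow_le_pPow_iff.mp h6

theorem tendsto_of_bounded_diff {o₁ o₂ : ℕ → ℤ} {c : ℤ} {lam : ℝ}
    (h : ∀ n : ℕ, 1 ≤ n → o₁ n - c ≤ o₂ n ∧ o₂ n - c ≤ o₁ n)
    (h₁ : Tendsto (fun n : ℕ => (o₁ n : ℝ) / n) atTop (𝓝 lam)) :
    Tendsto (fun n : ℕ => (o₂ n : ℝ) / n) atTop (𝓝 lam) := by
  have hc : Tendsto (fun n : ℕ => (c : ℝ) / n) atTop (𝓝 0) :=
    tendsto_const_div_atTop_nhds_zero_nat _
  have hlow : Tendsto (fun n : ℕ => (o₁ n : ℝ) / n - (c : ℝ) / n) atTop (𝓝 lam) := by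
    simpa using h₁.sub hc
  have hup : Tendsto (fun n : ℕ => (o₁ n : ℝ) / n + (c : ℝ) / n) atTop (𝓝 lam) := by
    simpa using h₁.add hc
  refine tendsto_of_tendsto_of_tendsto_of_le_of_le' hlow hup ?_ ?_
  · filter_upwards [eventually_ge_atTop 1] with n hn
    have hn0 : (0 : ℝ) < n := by exact_mod_cast hn
    rw [← sub_div]
    apply div_le_div_of_nonneg_right _ hn0.le
    have := (h n hn).1
    exact_mod_cast this
  · filter_upwards [eventually_ge_atTop 1] with n hn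
    have hn0 : (0 : ℝ) < n := by exact_mod_cast hn
    rw [← add_div]
    apply div_le_div_of_nonneg_right _ hn0.le
    have := (h n hn).2
    have h' : o₂ n ≤ o₁ n + c := by omega
    exact_mod_cast h'

/-- The limit defining the first slope does not depend on the lattice. -/
theorem lim_unique_of_lattices (hτ : GoodTwist τ) (F : N →ₛₗ[τ] N)
    (M₁ M₂ : Submodule 𝕎 N) (hM₁ : M₁.IsLattice 𝕃) (hM₂ : M₂.IsLattice 𝕃)
    (o₁ o₂ : ℕ → ℤ) (ho₁ : ∀ n : ℕ, 1 ≤ n → IsOrd M₁ F n (o₁ n))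
    (ho₂ : ∀ n : ℕ, 1 ≤ n → IsOrd M₂ F n (o₂ n)) (lam₁ lam₂ : ℝ)
    (h₁ : Tendsto (fun n : ℕ => (o₁ n : ℝ) / n) atTop (𝓝 lam₁))
    (h₂ : Tendsto (fun n : ℕ => (o₂ n : ℝ) / n) atTop (𝓝 lam₂)) : lam₁ = lam₂ := by
  obtain ⟨c₁, hc₁⟩ := exists_pPow_le M₁ M₂ hM₁.fg hM₂
  obtain ⟨c₂, hc₂⟩ := exists_pPow_le M₂ M₁ hM₂.fg hM₁
  have h : ∀ n : ℕ, 1 ≤ n → o₁ n - ((c₁ : ℤ) + c₂) ≤ o₂ n ∧ o₂ n - ((c₁ : ℤ) + c₂) ≤ o₁ n := by
    intro n hn
    refine ⟨isOrd_compare hτ F hc₁ hc₂ (ho₁ n hn) (ho₂ n hn), ?_⟩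
    have := isOrd_compare hτ F hc₂ hc₁ (ho₂ n hn) (ho₁ n hn)
    omega
  exact tendsto_nhds_unique (tendsto_of_bounded_diff h h₁) h₂

theorem latImg_le_pPow_add (hτ : GoodTwist τ) (F : N →ₛₗ[τ] N) {M : Submodule 𝕎 N} {m n : ℕ}
    {a b : ℤ} (hm : latImg F m M ≤ pPow a M) (hn : latImg F n M ≤ pPow b M) :
    latImg F (m + n) M ≤ pPow (a + b) M := by
  rw [← latImg_latImg hτ]
  refine (latImg_mono F m hn).trans ?_
  rw [latImg_pPow hτ, add_comm a b, ← pPow_pPow]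
  exact pPow_mono hm

theorem latImg_le_pPow_mul (hτ : GoodTwist τ) (F : N →ₛₗ[τ] N) {M : Submodule 𝕎 N} {s : ℕ}
    {r : ℤ} (h : latImg F s M ≤ pPow r M) (n : ℕ) : latImg F (n * s) M ≤ pPow (n * r) M := by
  induction n with
  | zero => rw [Nat.zero_mul, Nat.cast_zero, zero_mul, latImg_zero, pPow_zero]
  | succ n ih =>
    rw [Nat.succ_mul, Nat.cast_succ, add_mul, one_mul]
    exact latImg_le_pPow_add hτ F ih h

theorem pPow_add_le_latImg (hτ : GoodTwist τ) (F : N →ₛₗ[τ] N) {M : Submodule 𝕎 N} {m n : ℕ}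
    {a b : ℤ} (hm : pPow a M ≤ latImg F m M) (hn : pPow b M ≤ latImg F n M) :
    pPow (a + b) M ≤ latImg F (m + n) M := by
  rw [← latImg_latImg hτ]
  refine le_trans ?_ (latImg_mono F m hn)
  rw [latImg_pPow hτ, add_comm a b, ← pPow_pPow]
  exact pPow_mono hm

theorem pPow_mul_le_latImg (hτ : GoodTwist τ) (F : N →ₛₗ[τ] N) {M : Submodule 𝕎 N} {s : ℕ}
    {r : ℤ} (h : pPow r M ≤ latImg F s M) (n : ℕ) : pPow (n * r) M ≤ latImg F (n * s) M := by
  induction n with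
  | zero => rw [Nat.zero_mul, Nat.cast_zero, zero_mul, latImg_zero, pPow_zero]
  | succ n ih =>
    rw [Nat.succ_mul, Nat.cast_succ, add_mul, one_mul]
    exact pPow_add_le_latImg hτ F ih h

theorem isOrd_superadditive (hτ : GoodTwist τ) (F : N →ₛₗ[τ] N) {M : Submodule 𝕎 N} {m n : ℕ}
    {a b c : ℤ} (hm : IsOrd M F m a) (hn : IsOrd M F n b) (hmn : IsOrd M F (m + n) c) :
    a + b ≤ c :=
  isOrd_le hmn (latImg_le_pPow_add hτ F hm.1 hn.1)

theorem exists_ord_tendsto [Nontrivial N] (hτ : GoodTwist τ) (F : N →ₛₗ[τ] N)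
    (hF : Function.Bijective F) (M : Submodule 𝕎 N) (hM : M.IsLattice 𝕃) :
    ∃ o : ℕ → ℤ, (∀ n : ℕ, IsOrd M F n (o n)) ∧
      ∃ lam : ℝ, Tendsto (fun n : ℕ => (o n : ℝ) / n) atTop (𝓝 lam) := by
  choose o ho using fun n => exists_isOrd hτ F hF M hM n
  refine ⟨o, ho, ?_⟩
  obtain ⟨c, hc⟩ := exists_pPow_le M (latImg F 1 M) hM.fg (isLattice_latImg hτ F hF 1 M hM)
  have hbound : ∀ n : ℕ, o n ≤ n * c := by
    intro n
    have h1 := pPow_mul_le_latImg hτ F hc n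
    rw [Nat.mul_one] at h1
    exact le_of_pPow_le_pPow M hM (h1.trans (ho n).1)
  have hsub : Subadditive (fun n => -(o n : ℝ)) := by
    intro m n
    have := isOrd_superadditive hτ F (ho m) (ho n) (ho (m + n))
    have h' : ((o m : ℝ) + (o n : ℝ)) ≤ (o (m + n) : ℝ) := by exact_mod_cast this
    linarith
  have hbdd : BddBelow (Set.range fun n : ℕ => -(o n : ℝ) / n) := by
    refine ⟨-(c : ℝ), ?_⟩
    rintro _ ⟨n, rfl⟩
    rcases Nat.eq_zero_or_pos n with rfl | hn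
    · simp
    · have hn0 : (0 : ℝ) < n := by exact_mod_cast hn
      rw [le_div_iff₀ hn0]
      have := hbound n
      have h' : (o n : ℝ) ≤ (n : ℝ) * (c : ℝ) := by exact_mod_cast this
      linarith
  refine ⟨-hsub.lim, ?_⟩
  have := (hsub.tendsto_lim hbdd).neg
  refine this.congr (fun n => ?_)
  rw [neg_div, neg_neg]

theorem iterate_smul_iter (hτ : GoodTwist τ) (F : N →ₛₗ[τ] N) (m : ℤ) (n j : ℕ) (x : N) :
    (⇑(((p : 𝕃) ^ m) • iter F n))^[j] x = ((p : 𝕃) ^ (m * j)) • (⇑F)^[n * j] x := by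
  induction j with
  | zero => simp
  | succ j ih =>
    rw [Function.iterate_succ_apply', ih, LinearMap.smul_apply, iter_apply,
      iterate_zpow_smul hτ, smul_smul, ← zpow_add₀ pL_ne_zero, ← Function.iterate_add_apply,
      Nat.mul_succ, Nat.cast_succ, mul_add, mul_one, add_comm (m * (j : ℤ)) m, add_comm n (n * j)]

theorem latImg_smul_iter (hτ : GoodTwist τ) (F : N →ₛₗ[τ] N) (m : ℤ) (n j : ℕ)
    (M : Submodule 𝕎 N) :
    latImg (((p : 𝕃) ^ m) • iter F n) j M = pPow (m * j) (latImg F (n * j) M) := by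
  ext y
  rw [mem_latImg_iff (hτ.pow n), mem_pPow_iff, mem_latImg_iff hτ]
  constructor
  · rintro ⟨x, hx, rfl⟩
    refine ⟨x, hx, ?_⟩
    rw [iterate_smul_iter hτ, smul_smul, ← zpow_add₀ pL_ne_zero, neg_add_cancel, zpow_zero,
      one_smul]
  · rintro ⟨x, hx, hxy⟩
    refine ⟨x, hx, ?_⟩
    rw [iterate_smul_iter hτ, hxy, smul_smul, ← zpow_add₀ pL_ne_zero, add_neg_cancel, zpow_zero,
      one_smul]

theorem isOrd_smul_iter (hτ : GoodTwist τ) (F : N →ₛₗ[τ] N) (m : ℤ) (n j : ℕ)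
    {M : Submodule 𝕎 N} {r : ℤ} (h : IsOrd M F (n * j) r) :
    IsOrd M (((p : 𝕃) ^ m) • iter F n) j (m * j + r) := by
  unfold IsOrd
  rw [latImg_smul_iter hτ, ← pPow_pPow, add_assoc, ← pPow_pPow, pPow_le_pPow_iff,
    pPow_le_pPow_iff]
  exact h

theorem isOrd_zero [Nontrivial N] (F : N →ₛₗ[τ] N) (M : Submodule 𝕎 N) (hM : M.IsLattice 𝕃) :
    IsOrd M F 0 0 := by
  refine ⟨by rw [latImg_zero, pPow_zero], fun h => ?_⟩
  rw [latImg_zero] at h
  have h' : pPow 0 M ≤ pPow (0 + 1) M := by rw [pPow_zero]; exact h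
  have := le_of_pPow_le_pPow M hM h'
  omega

theorem nontrivial_of_isOrd {M : Submodule 𝕎 N} {F : N →ₛₗ[τ] N} {s : ℕ} {r : ℤ}
    (h : IsOrd M F s r) : Nontrivial N := by
  by_contra hN
  rw [not_nontrivial_iff_subsingleton] at hN
  apply h.2
  intro x _
  rw [Subsingleton.elim x 0]
  exact Submodule.zero_mem _

theorem isFirstSlope_smul_iter (hτ : GoodTwist τ) (F : N →ₛₗ[τ] N) {lam : ℝ}
    (h : IsFirstSlope F lam) (m : ℤ) (n : ℕ) :
    IsFirstSlope (((p : 𝕃) ^ m) • iter F n) (n * lam + m) := by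
  obtain ⟨M, hM, o, ho, hlim⟩ := h
  have : Nontrivial N := nontrivial_of_isOrd (ho 1 le_rfl)
  let o' : ℕ → ℤ := fun i => if i = 0 then 0 else o i
  have ho' : ∀ i, IsOrd M F i (o' i) := by
    intro i
    by_cases hi : i = 0
    · simp only [o', hi, if_true]; exact isOrd_zero F M hM
    · simp only [o', hi, if_false]; exact ho i (Nat.one_le_iff_ne_zero.mpr hi)
  refine ⟨M, hM, fun j => m * j + o' (n * j), fun j _ => isOrd_smul_iter hτ F m n j (ho' _), ?_⟩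
  rcases Nat.eq_zero_or_pos n with rfl | hn
  · have : (fun j : ℕ => ((m * (j : ℤ) + o' (0 * j) : ℤ) : ℝ) / j) =ᶠ[atTop] fun _ => (m : ℝ) := by
      filter_upwards [eventually_ge_atTop 1] with j hj
      have hj0 : (j : ℝ) ≠ 0 := by
        have : (0 : ℝ) < j := by exact_mod_cast hj
        exact this.ne'
      simp only [o', Nat.zero_mul, if_true, add_zero]
      push_cast
      field_simp
    rw [Nat.cast_zero, zero_mul, zero_add]
    exact (tendsto_const_nhds).congr' this.symm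
  · have hφ : Tendsto (fun j : ℕ => n * j) atTop atTop :=
      tendsto_atTop_mono (fun j => Nat.le_mul_of_pos_left j hn) tendsto_id
    have h1 := hlim.comp hφ
    have h2 : Tendsto (fun j : ℕ => (m : ℝ) + n * ((o (n * j) : ℝ) / ((n * j : ℕ) : ℝ))) atTop
        (𝓝 ((m : ℝ) + n * lam)) := (h1.const_mul (n : ℝ)).const_add (m : ℝ)
    rw [add_comm]
    refine h2.congr' ?_
    filter_upwards [eventually_ge_atTop 1] with j hj
    have hj0 : (j : ℝ) ≠ 0 := by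
      have : (0 : ℝ) < j := by exact_mod_cast hj
      exact this.ne'
    have hn0 : (n : ℝ) ≠ 0 := by
      have : (0 : ℝ) < n := by exact_mod_cast hn
      exact this.ne'
    have hnj : n * j ≠ 0 := Nat.mul_ne_zero hn.ne' (by omega)
    simp only [o', hnj, if_false]
    push_cast
    field_simp

end ord

end Groth.Agent.Lib.Isoc76
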