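import Groth.Agent.Lib.Isoc76C
import Mathlib.LinearAlgebra.Dimension.Finite
import Mathlib.RingTheory.Finiteness.Basic

set_option autoImplicit false
set_option linter.unusedSectionVars false

namespace Groth.Agent.Lib.Isoc76

open Isoc Filter Topology
open scoped Pointwise

universe u v

section effective

variable {p : ℕ} [Fact p.Prime] {k : Type u} [Field k] [CharP k p] [PerfectRing k p]
variable {N : Type v} [AddCommGroup N] [Module (WittVector p k) N]
  [Module (FractionRing (WittVector p k)) N]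
  [IsScalarTower (WittVector p k) (FractionRing (WittVector p k)) N]

local notation "𝕎" => WittVector p k
local notation "𝕃" => FractionRing (WittVector p k)

variable {τ : FractionRing (WittVector p k) →+* FractionRing (WittVector p k)}

theorem inPW_one_of_not_isOrdP_zero {c : 𝕃} (h0 : InPW 0 c) (h : ¬ IsOrdP c 0) : InPW 1 c := by
  by_cases hc : c = 0
  · rw [hc]; exact inPW_zero 1
  · obtain ⟨r, hr⟩ := exists_isOrdP hc
    have h1 : 0 ≤ r := isOrdP_le_of_inPW hr h0
    have h2 : r ≠ 0 := fun h' => h (h' ▸ hr)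
    exact (isOrdP_inPW hr).mono (by omega)

/-- Normalisation of a family of scalars that is not identically zero on a finite set. -/
theorem exists_normalize (c₀ : ℕ → 𝕃) (S : Finset ℕ) (hS : ∃ j ∈ S, c₀ j ≠ 0) :
    ∃ e : ℤ, (∀ j ∈ S, InPW 0 ((p : 𝕃) ^ (-e) * c₀ j)) ∧
      ∃ j ∈ S, IsOrdP ((p : 𝕃) ^ (-e) * c₀ j) 0 := by
  classical
  let r : ℕ → ℤ := fun j => if hc : c₀ j ≠ 0 then Classical.choose (exists_isOrdP hc) else 0
  have hr : ∀ j, c₀ j ≠ 0 → IsOrdP (c₀ j) (r j) := by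
    intro j hc
    simp only [r, hc, ne_eq, not_false_eq_true, dif_pos]
    exact Classical.choose_spec (exists_isOrdP hc)
  let T := S.filter (fun j => c₀ j ≠ 0)
  have hT : T.Nonempty := by
    obtain ⟨j, hj, hc⟩ := hS
    exact ⟨j, Finset.mem_filter.mpr ⟨hj, hc⟩⟩
  obtain ⟨j₁, hj₁, hmin⟩ := Finset.exists_min_image T r hT
  have hj₁' := Finset.mem_filter.mp hj₁
  refine ⟨r j₁, fun j hj => ?_, j₁, hj₁'.1, ?_⟩
  · by_cases hc : c₀ j = 0
    · rw [hc, mul_zero]; exact inPW_zero 0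
    · rw [← inPW_iff_mul]
      exact (isOrdP_inPW (hr j hc)).mono (hmin j (Finset.mem_filter.mpr ⟨hj, hc⟩))
  · have := isOrdP_mul (isOrdP_zpow (p := p) (k := k) (-(r j₁))) (hr j₁ hj₁'.2)
    rwa [neg_add_cancel] at this

/-- A normalised linear relation among `x, F x, …, F^h x`. -/
theorem exists_normalized_relation [Module.Finite 𝕃 N] (F : N →ₛₗ[τ] N) (h : ℕ)
    (hh : Module.finrank 𝕃 N = h) (x : N) :
    ∃ c : ℕ → 𝕃, (∑ j ∈ Finset.range (h + 1), c j • (⇑F)^[j] x = 0) ∧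
      (∀ j ∈ Finset.range (h + 1), InPW 0 (c j)) ∧
      ∃ j ∈ Finset.range (h + 1), IsOrdP (c j) 0 := by
  classical
  have hdep : ¬ LinearIndependent 𝕃 (fun j : Fin (h + 1) => (⇑F)^[(j : ℕ)] x) := by
    intro hli
    have := hli.fintype_card_le_finrank
    rw [Fintype.card_fin, hh] at this
    omega
  rw [Fintype.not_linearIndependent_iff] at hdep
  obtain ⟨g, hg, i₀, hi₀⟩ := hdep
  let c₀ : ℕ → 𝕃 := fun j => if hj : j < h + 1 then g ⟨j, hj⟩ else 0
  have hc₀ : ∀ i : Fin (h + 1), c₀ i = g i := by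
    intro i
    simp only [c₀, i.2, dif_pos]
  have hrel : ∑ j ∈ Finset.range (h + 1), c₀ j • (⇑F)^[j] x = 0 := by
    rw [Finset.sum_range (fun j => c₀ j • (⇑F)^[j] x), ← hg]
    exact Finset.sum_congr rfl (fun i _ => by rw [hc₀])
  obtain ⟨e, he1, he2⟩ := exists_normalize c₀ (Finset.range (h + 1))
    ⟨i₀, Finset.mem_range.mpr i₀.2, by rw [hc₀]; exact hi₀⟩
  refine ⟨fun j => (p : 𝕃) ^ (-e) * c₀ j, ?_, he1, he2⟩
  have : ∑ j ∈ Finset.range (h + 1), ((p : 𝕃) ^ (-e) * c₀ j) • (⇑F)^[j] x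
      = ((p : 𝕃) ^ (-e)) • ∑ j ∈ Finset.range (h + 1), c₀ j • (⇑F)^[j] x := by
    rw [Finset.smul_sum]
    exact Finset.sum_congr rfl (fun j _ => mul_smul _ _ _)
  rw [this, hrel, smul_zero]

/-- `M + F M + ⋯ + F^n M`. -/
noncomputable def sumImg (F : N →ₛₗ[τ] N) (n : ℕ) (M : Submodule 𝕎 N) : Submodule 𝕎 N :=
  (Finset.range (n + 1)).sup (fun j => latImg F j M)

theorem latImg_le_sumImg (F : N →ₛₗ[τ] N) {n j : ℕ} (hj : j ≤ n) (M : Submodule 𝕎 N) :
    latImg F j M ≤ sumImg F n M :=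
  Finset.le_sup (f := fun j => latImg F j M) (Finset.mem_range.mpr (by omega))

theorem isLattice_sumImg (hτ : GoodTwist τ) (F : N →ₛₗ[τ] N) (hF : Function.Bijective F) (n : ℕ)
    (M : Submodule 𝕎 N) (hM : M.IsLattice 𝕃) : (sumImg F n M).IsLattice 𝕃 := by
  have := hM
  refine Submodule.IsLattice.of_le_of_isLattice_of_fg 𝕃 (M := M) ?_ ?_
  · have := latImg_le_sumImg F (Nat.zero_le n) M
    rwa [latImg_zero] at this
  · exact Submodule.fg_finset_sup _ _ (fun j _ => (isLattice_latImg hτ F hF j M hM).fg)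

theorem latImg_finset_sup {ι : Type*} (F : N →ₛₗ[τ] N) (s : ℕ) (T : Finset ι)
    (f : ι → Submodule 𝕎 N) : latImg F s (T.sup f) = T.sup (fun i => latImg F s (f i)) := by
  classical
  induction T using Finset.induction_on with
  | empty => rw [Finset.sup_empty, Finset.sup_empty, latImg_bot]
  | insert a T _ ih => rw [Finset.sup_insert, Finset.sup_insert, latImg_sup, ih]

theorem latImg_succ_le_sumImg [Module.Finite 𝕃 N] (hτ : GoodTwist τ) (F : N →ₛₗ[τ] N) (h : ℕ)
    (hh : Module.finrank 𝕃 N = h) (M : Submodule 𝕎 N)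
    (hFM : latImg F (h + 1) M ≤ pPow (-1) M) : latImg F (h + 1) M ≤ sumImg F h M := by
  classical
  rw [latImg_le_iff]
  intro x hx
  obtain ⟨c, hrel, hc0, j₁, hj₁, hu⟩ := exists_normalized_relation F h hh x
  let U := (Finset.range (h + 1)).filter (fun j => IsOrdP (c j) 0)
  have hU : U.Nonempty := ⟨j₁, Finset.mem_filter.mpr ⟨hj₁, hu⟩⟩
  let j₀ := U.max' hU
  have hj₀U : j₀ ∈ U := Finset.max'_mem U hU
  have hj₀ := Finset.mem_filter.mp hj₀U
  have hj₀h : j₀ ≤ h := by have := Finset.mem_range.mp hj₀.1; omega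
  have hmax : ∀ j ∈ U, j ≤ j₀ := fun j hj => Finset.le_max' U j hj
  set t := h + 1 - j₀ with ht
  have htj : t + j₀ = h + 1 := by omega
  set y := (⇑F)^[h + 1] x with hy
  have hpy : ((p : 𝕃) ^ (1 : ℤ)) • y ∈ M := by
    have := hFM (iterate_mem_latImg F (h + 1) hx)
    rwa [mem_pPow_iff, neg_neg] at this
  -- apply `F^t` to the relation
  have hrel2 : ∑ j ∈ Finset.range (h + 1), ((τ ^ t) (c j)) • (⇑F)^[t + j] x = 0 := by
    have := congrArg (⇑F)^[t] hrel
    rw [iterate_zero, ← iter_apply, map_sum] at this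
    rw [← this]
    refine Finset.sum_congr rfl (fun j _ => ?_)
    rw [LinearMap.map_smulₛₗ, iter_apply, ← Function.iterate_add_apply]
  rw [← Finset.add_sum_erase _ _ hj₀.1, htj] at hrel2
  have hterm : ∀ j ∈ (Finset.range (h + 1)).erase j₀,
      ((τ ^ t) (c j)) • (⇑F)^[t + j] x ∈ sumImg F h M := by
    intro j hj
    obtain ⟨hne, hjr⟩ := Finset.mem_erase.mp hj
    have hjh : j ≤ h := by have := Finset.mem_range.mp hjr; omega
    rcases lt_or_gt_of_ne hne with hlt | hgt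
    · -- `j < j₀`
      apply inPW_smul_mem _ ((hτ.pow t).inPW (hc0 j hjr))
      exact latImg_le_sumImg F (by omega) M (iterate_mem_latImg F (t + j) hx)
    · -- `j > j₀`
      have hnotU : ¬ IsOrdP (c j) 0 := fun hO =>
        absurd (hmax j (Finset.mem_filter.mpr ⟨hjr, hO⟩)) (by omega)
      obtain ⟨w, hw⟩ := (hτ.pow t).inPW (inPW_one_of_not_isOrdP_zero (hc0 j hjr) hnotU)
      have hsplit : t + j = (j - j₀) + (h + 1) := by omega
      rw [hw, hsplit, Function.iterate_add_apply, ← hy, mul_comm, mul_smul,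
        ← iterate_zpow_smul hτ, algebraMap_smul]
      apply Submodule.smul_mem
      exact latImg_le_sumImg F (by omega) M (iterate_mem_latImg F (j - j₀) hpy)
  have hsum := Submodule.sum_mem _ hterm
  have h1 : ((τ ^ t) (c j₀)) • y ∈ sumImg F h M := by
    rw [eq_neg_of_add_eq_zero_left hrel2]
    exact Submodule.neg_mem _ hsum
  obtain ⟨u, hu'⟩ := isOrdP_exists_unit_of_zero ((hτ.pow t).isOrdP hj₀.2)
  rw [hu', algebraMap_smul] at h1
  have := Submodule.smul_mem (sumImg F h M) ((u⁻¹ : 𝕎ˣ) : 𝕎) h1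
  rwa [smul_smul, Units.inv_mul, one_smul] at this

theorem isEffective_of_latImg_succ_le [Module.Finite 𝕃 N] (hτ : GoodTwist τ) (F : N →ₛₗ[τ] N)
    (hF : Function.Bijective F) (h : ℕ) (hh : Module.finrank 𝕃 N = h) (M : Submodule 𝕎 N)
    (hM : M.IsLattice 𝕃) (hFM : latImg F (h + 1) M ≤ pPow (-1) M) : IsEffective F := by
  refine ⟨sumImg F h M, isLattice_sumImg hτ F hF h M hM, ?_⟩
  unfold sumImg
  rw [latImg_finset_sup]
  refine Finset.sup_le (fun j hj => ?_)
  rw [latImg_latImg hτ]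
  have hjh : j ≤ h := by have := Finset.mem_range.mp hj; omega
  rcases Nat.lt_or_ge j h with hlt | hge
  · exact latImg_le_sumImg F (by omega) M
  · have : j = h := le_antisymm hjh hge
    rw [this, add_comm]
    exact latImg_succ_le_sumImg hτ F h hh M hFM

end effective

end Groth.Agent.Lib.Isoc76
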