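import Groth.Agent.Lib.Isoc76D

set_option autoImplicit false
set_option linter.unusedSectionVars false

namespace Groth.Agent.Lib.Isoc76

open Isoc Filter Topology
open scoped Pointwise

universe u v

section effective2

variable {p : ℕ} [Fact p.Prime] {k : Type u} [Field k] [CharP k p] [PerfectRing k p]
variable {N : Type v} [AddCommGroup N] [Module (WittVector p k) N]
  [Module (FractionRing (WittVector p k)) N]
  [IsScalarTower (WittVector p k) (FractionRing (WittVector p k)) N]

local notation "𝕎" => WittVector p k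
local notation "𝕃" => FractionRing (WittVector p k)

variable {τ : FractionRing (WittVector p k) →+* FractionRing (WittVector p k)}

/-- If `G^(n(h+1)) M ⊆ p^(-n) M` then `G^(h+1) M' ⊆ p^(-1) M'` for a suitable lattice `M'`. -/
theorem exists_lattice_of_latImg_mul_le (hτ : GoodTwist τ) (G : N →ₛₗ[τ] N)
    (hG : Function.Bijective G) (h n : ℕ) (hn : 1 ≤ n) (M : Submodule 𝕎 N) (hM : M.IsLattice 𝕃)
    (hGM : latImg G (n * (h + 1)) M ≤ pPow (-(n : ℤ)) M) :
    ∃ M' : Submodule 𝕎 N, M'.IsLattice 𝕃 ∧ latImg G (h + 1) M' ≤ pPow (-1) M' := by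
  set t := n * (h + 1) with ht
  have ht1 : h + 1 ≤ t := by rw [ht]; exact Nat.le_mul_of_pos_left _ hn
  let f : ℕ → Submodule 𝕎 N := fun i => pPow ((i / (h + 1) : ℕ) : ℤ) (latImg G i M)
  refine ⟨(Finset.range t).sup f, ?_, ?_⟩
  · have := hM
    refine Submodule.IsLattice.of_le_of_isLattice_of_fg 𝕃 (M := M) ?_ ?_
    · have h0 : f 0 ≤ (Finset.range t).sup f :=
        Finset.le_sup (f := f) (Finset.mem_range.mpr (by omega))
      simp only [f, Nat.zero_div, Nat.cast_zero, pPow_zero, latImg_zero] at h0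
      exact h0
    · exact Submodule.fg_finset_sup _ _ (fun i _ =>
        (isLattice_pPow _ _ (hM := isLattice_latImg hτ G hG i M hM)).fg)
  · rw [latImg_finset_sup]
    refine Finset.sup_le (fun i hi => ?_)
    have hit : i < t := Finset.mem_range.mp hi
    simp only [f]
    rw [latImg_pPow hτ, latImg_latImg hτ]
    rcases Nat.lt_or_ge (i + (h + 1)) t with hlt | hge
    · -- the shifted index is still in range
      have hdiv : (i + (h + 1)) / (h + 1) = i / (h + 1) + 1 := Nat.add_div_right i (Nat.succ_pos h)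
      have hle : f (i + (h + 1)) ≤ (Finset.range t).sup f :=
        Finset.le_sup (f := f) (Finset.mem_range.mpr hlt)
      have h2 := pPow_mono (r := -1) hle
      refine le_trans ?_ h2
      simp only [f]
      rw [pPow_pPow, hdiv, add_comm (h + 1) i]
      have hcast : (-1 : ℤ) + ((i / (h + 1) + 1 : ℕ) : ℤ) = ((i / (h + 1) : ℕ) : ℤ) := by
        rw [Nat.cast_add, Nat.cast_one]; ring
      rw [hcast]
    · -- wrap around using the hypothesis
      set i' := i + (h + 1) - t with hi'
      have hi't : i' < h + 1 := by omega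
      have hsplit : h + 1 + i = i' + t := by omega
      have hdivi : i / (h + 1) = n - 1 := by
        have h1 : (n - 1) * (h + 1) ≤ i := by
          have : (n - 1) * (h + 1) = t - (h + 1) := by
            rw [ht, Nat.sub_mul, one_mul]
          omega
        have h2 : i < (n - 1 + 1) * (h + 1) := by
          rw [Nat.sub_add_cancel hn]; exact hit
        exact Nat.div_eq_of_lt_le h1 h2
      have hdivi' : i' / (h + 1) = 0 := Nat.div_eq_of_lt hi't
      have hle : f i' ≤ (Finset.range t).sup f :=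
        Finset.le_sup (f := f) (Finset.mem_range.mpr (by omega))
      have h2 := pPow_mono (r := -1) hle
      refine le_trans ?_ h2
      simp only [f]
      rw [hdivi', Nat.cast_zero, pPow_zero, hdivi, hsplit, ← latImg_latImg hτ]
      refine (pPow_mono (latImg_mono G i' hGM)).trans ?_
      rw [latImg_pPow hτ, pPow_pPow]
      apply le_of_eq
      congr 1
      rw [Nat.cast_sub hn, Nat.cast_one]
      ring

theorem isEffective_of_isFirstSlope_nonneg [Module.Finite 𝕃 N] (hτ : GoodTwist τ)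
    (G : N →ₛₗ[τ] N) (hG : Function.Bijective G) {lam : ℝ} (hlam : IsFirstSlope G lam)
    (h0 : 0 ≤ lam) : IsEffective G := by
  obtain ⟨M, hM, o, ho, hlim⟩ := hlam
  set h := Module.finrank 𝕃 N with hh
  have hneg : -(1 : ℝ) / (h + 1) < lam := by
    have : (0 : ℝ) < (h : ℝ) + 1 := by positivity
    have : -(1 : ℝ) / (h + 1) < 0 := by
      apply div_neg_of_neg_of_pos <;> linarith
    linarith
  have hev := hlim.eventually (lt_mem_nhds hneg)
  obtain ⟨m₀, hm₀⟩ := hev.exists_forall_of_atTop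
  set n := max m₀ 1 with hn
  have hn1 : 1 ≤ n := le_max_right _ _
  have hnm : m₀ ≤ n * (h + 1) :=
    (le_max_left m₀ 1).trans (Nat.le_mul_of_pos_right _ (Nat.succ_pos h))
  have hpos : 1 ≤ n * (h + 1) := Nat.mul_pos hn1 (Nat.succ_pos h)
  have h1 := hm₀ _ hnm
  have hord := ho _ hpos
  have h2 : -(n : ℤ) ≤ o (n * (h + 1)) := by
    have hpos' : (0 : ℝ) < ((n * (h + 1) : ℕ) : ℝ) := by exact_mod_cast hpos
    rw [lt_div_iff₀ hpos'] at h1
    have h3 : -(n : ℝ) < (o (n * (h + 1)) : ℝ) := by
      have : -(1 : ℝ) / (h + 1) * ((n * (h + 1) : ℕ) : ℝ) = -(n : ℝ) := by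
        push_cast
        field_simp
      rw [this] at h1
      exact h1
    have h4 : -(n : ℤ) < o (n * (h + 1)) := by exact_mod_cast h3
    exact h4.le
  obtain ⟨M', hM', hGM'⟩ := exists_lattice_of_latImg_mul_le hτ G hG h n hn1 M hM
    (hord.1.trans (pPow_anti h2 M))
  exact isEffective_of_latImg_succ_le hτ G hG h hh.symm M' hM' hGM'

theorem bijective_smul_iter (F : N →ₛₗ[τ] N) (hF : Function.Bijective F) (m : ℤ) (n : ℕ) :
    Function.Bijective (((p : 𝕃) ^ m) • iter F n) := by
  have hp : (p : 𝕃) ^ m ≠ 0 := zpow_ne_zero m pL_ne_zero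
  have h1 : ⇑(((p : 𝕃) ^ m) • iter F n) = (fun x : N => ((p : 𝕃) ^ m) • x) ∘ (⇑F)^[n] := by
    funext x
    rfl
  rw [h1]
  refine Function.Bijective.comp ?_ (hF.iterate n)
  constructor
  · intro x y hxy
    exact smul_right_injective N hp hxy
  · intro y
    exact ⟨((p : 𝕃) ^ m)⁻¹ • y, by simp [smul_smul, mul_inv_cancel₀ hp]⟩

theorem exists_lattice_latImg_le_pPow [Module.Finite 𝕃 N] (hτ : GoodTwist τ) (F : N →ₛₗ[τ] N)
    (hF : Function.Bijective F) {lam : ℝ} (hlam : IsFirstSlope F lam) (r : ℤ) (s : ℕ)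
    (hs : 0 < s) (hrs : (r : ℝ) / s ≤ lam) :
    ∃ M : Submodule 𝕎 N, M.IsLattice 𝕃 ∧ latImg F s M ≤ pPow r M := by
  have hslope := isFirstSlope_smul_iter hτ F hlam (-r) s
  have hs0 : (0 : ℝ) < s := by exact_mod_cast hs
  have h0 : (0 : ℝ) ≤ s * lam + ((-r : ℤ) : ℝ) := by
    rw [div_le_iff₀ hs0] at hrs
    push_cast
    linarith
  obtain ⟨M, hM, hGM⟩ := isEffective_of_isFirstSlope_nonneg (hτ.pow s) _
    (bijective_smul_iter F hF (-r) s) hslope h0
  refine ⟨M, hM, ?_⟩
  rw [latImg_smul_iter hτ, Nat.cast_one, mul_one, mul_one] at hGM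
  rw [le_pPow_iff]
  exact hGM

end effective2

end Groth.Agent.Lib.Isoc76
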