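import Groth.Agent.Lib.Isoc76E
import Mathlib.LinearAlgebra.Matrix.Basis
import Mathlib.LinearAlgebra.Matrix.Determinant.Basic
import Mathlib.LinearAlgebra.Matrix.NonsingularInverse

set_option autoImplicit false
set_option linter.unusedSectionVars false

namespace Groth.Agent.Lib.Isoc76

open Isoc Filter Topology Matrix
open scoped Pointwise

universe u v

section det

variable {p : ℕ} [Fact p.Prime] {k : Type u} [Field k] [CharP k p] [PerfectRing k p]
variable {N : Type v} [AddCommGroup N] [Module (WittVector p k) N]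
  [Module (FractionRing (WittVector p k)) N]
  [IsScalarTower (WittVector p k) (FractionRing (WittVector p k)) N]

local notation "𝕎" => WittVector p k
local notation "𝕃" => FractionRing (WittVector p k)

variable {τ τ' : FractionRing (WittVector p k) →+* FractionRing (WittVector p k)}
variable {n : ℕ}

/-- The matrix of a self-map in a basis (columns are the coordinates of the images). -/
noncomputable def matOf (b : Module.Basis (Fin n) 𝕃 N) (f : N → N) : Matrix (Fin n) (Fin n) 𝕃 :=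
  Matrix.of fun i j => b.repr (f (b j)) i

theorem matOf_apply (b : Module.Basis (Fin n) 𝕃 N) (f : N → N) (i j : Fin n) :
    matOf b f i j = b.repr (f (b j)) i := rfl

theorem detCoeff_eq (b : Module.Basis (Fin n) 𝕃 N) (F : N →ₛₗ[τ] N) :
    detCoeff b F = (matOf b F).det := rfl

/-- Coordinates of the image of a vector under a semilinear map. -/
theorem repr_apply_semilinear (b : Module.Basis (Fin n) 𝕃 N) (F : N →ₛₗ[τ] N) (x : N)
    (i : Fin n) : b.repr (F x) i = ∑ j, matOf b F i j * τ (b.repr x j) := by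
  conv_lhs => rw [← b.sum_repr x]
  rw [map_sum, map_sum, Finsupp.coe_finsetSum, Finset.sum_apply]
  refine Finset.sum_congr rfl (fun j _ => ?_)
  rw [LinearMap.map_smulₛₗ, map_smul, Finsupp.smul_apply, smul_eq_mul, matOf_apply, mul_comm]

theorem matOf_comp (b : Module.Basis (Fin n) 𝕃 N) (F : N →ₛₗ[τ] N) (G : N →ₛₗ[τ'] N) :
    matOf b (⇑G ∘ ⇑F) = matOf b G * (matOf b F).map τ' := by
  ext i j
  rw [matOf_apply, Function.comp_apply, repr_apply_semilinear, Matrix.mul_apply]
  rfl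

theorem det_matOf_comp (b : Module.Basis (Fin n) 𝕃 N) (F : N →ₛₗ[τ] N) (G : N →ₛₗ[τ'] N) :
    (matOf b (⇑G ∘ ⇑F)).det = (matOf b G).det * τ' (matOf b F).det := by
  rw [matOf_comp, Matrix.det_mul, RingHom.map_det, RingHom.mapMatrix_apply]

theorem matOf_iterate_succ (b : Module.Basis (Fin n) 𝕃 N) (F : N →ₛₗ[τ] N) (s : ℕ) :
    (matOf b ((⇑F)^[s + 1])).det = (matOf b F).det * τ (matOf b ((⇑F)^[s])).det := by
  have h1 : (⇑F)^[s + 1] = ⇑F ∘ ⇑(iter F s) := by
    rw [coe_iter, Function.iterate_succ']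
  rw [h1, det_matOf_comp, coe_iter]

theorem isOrdP_det_matOf_iterate (hτ : GoodTwist τ) (b : Module.Basis (Fin n) 𝕃 N)
    (F : N →ₛₗ[τ] N) {d : ℤ} (hd : IsOrdP (matOf b F).det d) (s : ℕ) :
    IsOrdP (matOf b ((⇑F)^[s])).det (s * d) := by
  induction s with
  | zero =>
    have h1 : matOf b ((⇑F)^[0]) = 1 := by
      ext i j
      rw [matOf_apply, Function.iterate_zero, id, b.repr_self, Matrix.one_apply,
        Finsupp.single_apply]
      simp only [eq_comm]
    rw [h1, Matrix.det_one, Nat.cast_zero, zero_mul]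
    exact isOrdP_one
  | succ s ih =>
    rw [matOf_iterate_succ, Nat.cast_succ, add_mul, one_mul, add_comm]
    exact isOrdP_mul hd (hτ.isOrdP ih)

/-- Change of basis for the matrix of a semilinear map. -/
theorem toMatrix_mul_matOf (b b' : Module.Basis (Fin n) 𝕃 N) (F : N →ₛₗ[τ] N) :
    b.toMatrix b' * matOf b' F = matOf b F * (b.toMatrix b').map τ := by
  ext i j
  rw [Matrix.mul_apply, Matrix.mul_apply]
  have h1 : ∑ l, b.toMatrix b' i l * matOf b' F l j = b.repr (F (b' j)) i := by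
    conv_rhs => rw [← b'.sum_repr (F (b' j))]
    rw [map_sum, Finsupp.coe_finsetSum, Finset.sum_apply]
    refine Finset.sum_congr rfl (fun l _ => ?_)
    rw [map_smul, Finsupp.smul_apply, smul_eq_mul, matOf_apply, Module.Basis.toMatrix_apply,
      mul_comm]
  rw [h1, repr_apply_semilinear]
  rfl

theorem det_toMatrix_ne_zero (b b' : Module.Basis (Fin n) 𝕃 N) : (b.toMatrix b').det ≠ 0 := by
  intro h
  have := congrArg Matrix.det (Module.Basis.toMatrix_mul_toMatrix_flip b b')
  rw [Matrix.det_mul, h, zero_mul, Matrix.det_one] at this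
  exact zero_ne_one this

theorem isOrdP_det_matOf_basis_change (hτ : GoodTwist τ) (b b' : Module.Basis (Fin n) 𝕃 N)
    (F : N →ₛₗ[τ] N) {d : ℤ} (hd : IsOrdP (matOf b F).det d) : IsOrdP (matOf b' F).det d := by
  have h1 := congrArg Matrix.det (toMatrix_mul_matOf b b' F)
  rw [Matrix.det_mul, Matrix.det_mul, ← RingHom.mapMatrix_apply, ← RingHom.map_det] at h1
  have hP := det_toMatrix_ne_zero b b'
  obtain ⟨e, he⟩ := exists_isOrdP hP
  have h2 : (matOf b' F).det = (b.toMatrix b').det⁻¹ * ((matOf b F).det * τ (b.toMatrix b').det) := by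
    rw [← h1, ← mul_assoc, inv_mul_cancel₀ hP, one_mul]
  rw [h2]
  have := isOrdP_mul (isOrdP_inv he) (isOrdP_mul hd (hτ.isOrdP he))
  rwa [show -e + (d + e) = d by ring] at this

theorem exists_basis_fin [Module.Finite 𝕃 N] (M : Submodule 𝕎 N) (hM : M.IsLattice 𝕃) (h : ℕ)
    (hh : Module.finrank 𝕃 N = h) :
    ∃ b : Module.Basis (Fin h) 𝕃 N, ∀ x : N, x ∈ M ↔ ∀ i, InPW 0 (b.repr x i) := by
  obtain ⟨m, b, hb⟩ := exists_basis M hM
  have hm : m = h := by
    rw [← hh, Module.finrank_eq_card_basis b, Fintype.card_fin]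
  subst hm
  exact ⟨b, hb⟩

theorem basis_mem_of_repr {M : Submodule 𝕎 N} {b : Module.Basis (Fin n) 𝕃 N}
    (hb : ∀ x : N, x ∈ M ↔ ∀ i, InPW 0 (b.repr x i)) (j : Fin n) : b j ∈ M := by
  rw [hb]
  intro i
  rw [b.repr_self, Finsupp.single_apply]
  split_ifs
  · exact ⟨1, by rw [zpow_zero, map_one, mul_one]⟩
  · exact inPW_zero 0

theorem inPW_matOf {M : Submodule 𝕎 N} {b : Module.Basis (Fin n) 𝕃 N}
    (hb : ∀ x : N, x ∈ M ↔ ∀ i, InPW 0 (b.repr x i)) (f : N → N) (r : ℤ)
    (h : ∀ x ∈ M, f x ∈ pPow r M) (i j : Fin n) : InPW r (matOf b f i j) :=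
  (mem_pPow_iff_repr hb r _).mp (h _ (basis_mem_of_repr hb j)) i

theorem inPW_det (A : Matrix (Fin n) (Fin n) 𝕃) (r : ℤ) (h : ∀ i j, InPW r (A i j)) :
    InPW (n * r) A.det := by
  choose w hw using h
  have hA : A = ((p : 𝕃) ^ r) • (Matrix.of w).map (algebraMap 𝕎 𝕃) := by
    ext i j
    rw [Matrix.smul_apply, Matrix.map_apply, Matrix.of_apply, smul_eq_mul]
    exact hw i j
  refine ⟨(Matrix.of w).det, ?_⟩
  rw [hA, Matrix.det_smul, Fintype.card_fin, ← RingHom.mapMatrix_apply, ← RingHom.map_det,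
    ← zpow_natCast, ← zpow_mul, mul_comm r]

/-- If `F^s M ⊆ p^r M` then `h r ≤ s d`. -/
theorem mul_le_mul_of_latImg_le [Module.Finite 𝕃 N] (hτ : GoodTwist τ) (F : N →ₛₗ[τ] N)
    (b : Module.Basis (Fin n) 𝕃 N) {d : ℤ} (hd : IsOrdP (detCoeff b F) d)
    (M : Submodule 𝕎 N) (hM : M.IsLattice 𝕃) {s : ℕ} {r : ℤ} (h : latImg F s M ≤ pPow r M) :
    r * n ≤ s * d := by
  have hn : Module.finrank 𝕃 N = n := by
    rw [Module.finrank_eq_card_basis b, Fintype.card_fin]
  obtain ⟨b', hb'⟩ := exists_basis_fin M hM n hn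
  have h1 := isOrdP_det_matOf_iterate hτ b' F
    (isOrdP_det_matOf_basis_change hτ b b' F hd) s
  have h2 := inPW_det _ r (inPW_matOf hb' ((⇑F)^[s]) r ((latImg_le_iff F s M _).mp h))
  have := isOrdP_le_of_inPW h1 h2
  rw [mul_comm]
  exact this

end det

end Groth.Agent.Lib.Isoc76
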