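import Groth.Agent.Lib.Isoc76Z
import Mathlib.FieldTheory.IsAlgClosed.Basic
import Mathlib.Algebra.Polynomial.Splits

set_option autoImplicit false
set_option linter.unusedSectionVars false

/-!
# Isocrystals over a finite field: Newton slopes from the characteristic polynomial of `F^m`
(helper76)
-/

namespace Groth.Agent.Lib.Isoc76

open Isoc Filter Topology Matrix Polynomial
open scoped Pointwise

universe u v w

theorem countP_bind_finset {ι α : Type*} (q : α → Prop) [DecidablePred q] (s : Finset ι)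
    (f : ι → Multiset α) :
    Multiset.countP q (s.val.bind f) = ∑ i ∈ s, Multiset.countP q (f i) := by
  classical
  induction s using Finset.induction_on with
  | empty => simp
  | insert a s ha ih =>
    rw [Finset.insert_val_of_notMem ha, Multiset.cons_bind, Multiset.countP_add, ih,
      Finset.sum_insert ha]

section fin

variable {p : ℕ} [Fact p.Prime] {k : Type u} [Field k] [CharP k p] [PerfectRing k p]
variable {N : Type v} [AddCommGroup N] [Module (WittVector p k) N]
  [Module (FractionRing (WittVector p k)) N]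
  [IsScalarTower (WittVector p k) (FractionRing (WittVector p k)) N]

local notation "𝕎" => WittVector p k
local notation "𝕃" => FractionRing (WittVector p k)

variable {Ω : Type w} [Field Ω] [IsAlgClosed Ω] [Algebra (WittVector p k) Ω]
  [Algebra (FractionRing (WittVector p k)) Ω]
  [IsScalarTower (WittVector p k) (FractionRing (WittVector p k)) Ω]

/-- Characteristic polynomial of an endomorphism preserving an internal direct sum
decomposition. -/
theorem charpoly_eq_prod_of_isInternal [Module.Finite 𝕃 N] (π : N →ₗ[𝕃] N)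
    {ι : Type*} [Fintype ι] [LinearOrder ι] (A : ι → Submodule 𝕃 N)
    (hA : DirectSum.IsInternal A) (hst : ∀ i, ∀ x ∈ A i, π x ∈ A i) (d : ι → ℕ)
    (b : ∀ i, Module.Basis (Fin (d i)) 𝕃 (A i)) :
    π.charpoly = ∏ i, (LinearMap.toMatrix (b i) (b i) (π.restrict (hst i))).charpoly := by
  classical
  let B := hA.collectedBasis b
  let T := LinearMap.toMatrix B B π
  have hBcoe : ∀ j c, B ⟨j, c⟩ = (b j c : N) := by
    intro j c
    rw [DirectSum.IsInternal.collectedBasis_coe]
  have hmem : ∀ j c, π (B ⟨j, c⟩) ∈ A j := by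
    intro j c
    rw [hBcoe]
    exact hst j _ (b j c).2
  have hT_diag : ∀ i a c, T ⟨i, a⟩ ⟨i, c⟩
      = LinearMap.toMatrix (b i) (b i) (π.restrict (hst i)) a c := by
    intro i a c
    show (LinearMap.toMatrix B B π) ⟨i, a⟩ ⟨i, c⟩ = _
    rw [LinearMap.toMatrix_apply, LinearMap.toMatrix_apply,
      DirectSum.IsInternal.collectedBasis_repr_of_mem hA b (hmem i c)]
    congr 2
    apply Subtype.ext
    exact congrArg π (hBcoe i c)
  have hT_off : ∀ i j a c, j ≠ i → T ⟨i, a⟩ ⟨j, c⟩ = 0 := by
    intro i j a c hij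
    show (LinearMap.toMatrix B B π) ⟨i, a⟩ ⟨j, c⟩ = _
    rw [LinearMap.toMatrix_apply]
    exact DirectSum.IsInternal.collectedBasis_repr_of_mem_ne hA b hij (hmem j c)
  have hBT : T.BlockTriangular Sigma.fst := by
    rintro ⟨i, a⟩ ⟨j, c⟩ hlt
    exact hT_off i j a c (ne_of_lt hlt)
  rw [← LinearMap.charpoly_toMatrix π B, hBT.charpoly]
  have hblock : ∀ i, (T.toSquareBlock Sigma.fst i).charpoly
      = (LinearMap.toMatrix (b i) (b i) (π.restrict (hst i))).charpoly := by
    intro i
    rw [← Matrix.charpoly_reindex (Equiv.sigmaSubtype i) (T.toSquareBlock Sigma.fst i)]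
    congr 1
    ext a c
    exact hT_diag i a c
  rw [Finset.prod_subset (Finset.subset_univ _)]
  · exact Finset.prod_congr rfl (fun i _ => hblock i)
  · intro i _ hi
    have : IsEmpty {x : Σ i, Fin (d i) // x.1 = i} :=
      ⟨fun x => hi (Finset.mem_image.mpr ⟨x.1, Finset.mem_univ _, x.2⟩)⟩
    exact Matrix.charpoly_isEmpty

/-- **Newton slopes over a finite field**: the multiplicity of `μ` is the number of roots `α`
of the characteristic polynomial of `π = F^m` with `ord α = μ m`. -/
theorem newtonMult_eq_countP [Module.Finite 𝕃 N] (a : ℤ) (F : N →ₛₗ[frob p k a] N)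
    (hF : Function.Bijective F) (m : ℕ) (hm0 : 0 < m)
    (π : N →ₗ[𝕃] N) (hπ : ∀ x, π x = (⇑F)^[m] x) (μ : ℚ)
    [hdec : DecidablePred (SlopeCond 𝕎 (algebraMap 𝕃 Ω (p : 𝕃)) m μ)] :
    newtonMult F μ = Multiset.countP (SlopeCond 𝕎 (algebraMap 𝕃 Ω (p : 𝕃)) m μ)
      ((π.charpoly.map (algebraMap 𝕃 Ω)).roots) := by
  classical
  have hτ := goodTwist_frob (p := p) (k := k) a
  have hP : algebraMap 𝕃 Ω (p : 𝕃) ≠ 0 := by
    rw [Ne, map_eq_zero]; exact pL_ne_zero
  have hint := isInternal_slopePart hτ F hF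
  have hfin : {ν : ℚ | slopePart F ν ≠ ⊥}.Finite :=
    WellFoundedGT.finite_ne_bot_of_iSupIndep hint.submodule_iSupIndep
  let _ : Fintype {ν : ℚ // slopePart F ν ≠ ⊥} := hfin.fintype
  have hint' : DirectSum.IsInternal (fun i : {ν : ℚ // slopePart F ν ≠ ⊥} => slopePart F i) :=
    DirectSum.isInternal_ne_bot_iff.mpr hint
  have hst : ∀ i : {ν : ℚ // slopePart F ν ≠ ⊥}, ∀ x ∈ slopePart F i, F x ∈ slopePart F i :=
    fun i => (slopePart_stable_isIsoclinicOn hτ F i).1
  have hπst : ∀ i : {ν : ℚ // slopePart F ν ≠ ⊥}, ∀ x ∈ slopePart F i, π x ∈ slopePart F i := by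
    intro i x hx
    rw [hπ]
    exact iterate_mem_of_stable F _ (hst i) m hx
  -- lattice data on each slope part
  have hdata : ∀ i : {ν : ℚ // slopePart F ν ≠ ⊥}, ∃ (M' : Submodule 𝕎 (slopePart F i))
      (b : Module.Basis (Fin (Module.finrank 𝕃 (slopePart F i))) 𝕃 (slopePart F i))
      (r : ℤ) (s : ℕ), Adapted b M' ∧ 0 < s ∧ (r : ℚ) / s = (i : ℚ) ∧
        latImg (F.restrict (hst i)) s M' = pPow r M' := by
    intro i
    obtain ⟨M', hM', r, s, hs, hrs, heq⟩ :=
      (isIsoclinic_restrict_iff F _ (hst i) i).mpr (slopePart_stable_isIsoclinicOn hτ F i).2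
    obtain ⟨b, hb⟩ := exists_basis_fin M' hM' _ rfl
    exact ⟨M', b, r, s, hb, hs, hrs, heq⟩
  choose M' b r s hb hs hrs heq using hdata
  have hπi : ∀ (i : {ν : ℚ // slopePart F ν ≠ ⊥}) (x : slopePart F i),
      (π.restrict (hπst i)) x = (⇑(F.restrict (hst i)))^[m] x := by
    intro i x
    apply Subtype.ext
    rw [LinearMap.coe_restrict_apply, hπ, iterate_restrict]
  -- the characteristic polynomial
  have hchar := charpoly_eq_prod_of_isInternal π _ hint' hπst _ b
  set Q : {ν : ℚ // slopePart F ν ≠ ⊥} → 𝕃[X] := fun i =>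
    (LinearMap.toMatrix (b i) (b i) (π.restrict (hπst i))).charpoly with hQ
  have hQmonic : ∀ i, (Q i).Monic := fun i => Matrix.charpoly_monic _
  have hmap : π.charpoly.map (algebraMap 𝕃 Ω) = ∏ i, (Q i).map (algebraMap 𝕃 Ω) := by
    rw [hchar, Polynomial.map_prod]
  have hne : (∏ i, (Q i).map (algebraMap 𝕃 Ω)) ≠ 0 := by
    rw [Finset.prod_ne_zero_iff]
    intro i _
    exact ((hQmonic i).map _).ne_zero
  rw [hmap, Polynomial.roots_prod _ _ hne, countP_bind_finset]
  -- each block
  have hblock : ∀ i : {ν : ℚ // slopePart F ν ≠ ⊥},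
      Multiset.countP (SlopeCond 𝕎 (algebraMap 𝕃 Ω (p : 𝕃)) m μ)
        ((Q i).map (algebraMap 𝕃 Ω)).roots
      = if (i : ℚ) = μ then Module.finrank 𝕃 (slopePart F i) else 0 := by
    intro i
    have hroot : ∀ α ∈ ((Q i).map (algebraMap 𝕃 Ω)).roots,
        SlopeCond 𝕎 (algebraMap 𝕃 Ω (p : 𝕃)) m (i : ℚ) α ∧ α ≠ 0 := by
      intro α hα
      exact slopeCond_of_isRoot hτ (F.restrict (hst i)) (M' i) (b i) (hb i) (hs i) (hrs i)
        (heq i) m (π.restrict (hπst i)) (hπi i) α (Polynomial.isRoot_of_mem_roots hα)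
    split_ifs with hiμ
    · have hcard : Multiset.card ((Q i).map (algebraMap 𝕃 Ω)).roots
          = Module.finrank 𝕃 (slopePart F i) := by
        rw [← (IsAlgClosed.splits ((Q i).map (algebraMap 𝕃 Ω))).natDegree_eq_card_roots,
          Polynomial.natDegree_map, hQ, Matrix.charpoly_natDegree_eq_dim, Fintype.card_fin]
      rw [← hcard, Multiset.countP_eq_card]
      intro α hα
      rw [← hiμ]
      exact (hroot α hα).1
    · rw [Multiset.countP_eq_zero]
      intro α hα hcond
      exact slopeCond_exclusive hP (not_isIntegral_p_inv (p := p) (k := k) (Ω := Ω)) hm0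
        (Ne.symm hiμ) (hroot α hα).2 hcond (hroot α hα).1
  rw [Finset.sum_congr rfl (fun i _ => hblock i)]
  by_cases hμ : slopePart F μ ≠ ⊥
  · rw [Finset.sum_eq_single (⟨μ, hμ⟩ : {ν : ℚ // slopePart F ν ≠ ⊥})]
    · rw [if_pos rfl]
      rfl
    · intro i _ hi
      rw [if_neg]
      intro h
      exact hi (Subtype.ext h)
    · intro h
      exact absurd (Finset.mem_univ _) h
  · rw [not_not] at hμ
    rw [Finset.sum_eq_zero]
    · unfold newtonMult
      rw [hμ, finrank_bot]
    · intro i _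
      rw [if_neg]
      intro h
      apply i.2
      rw [h]
      exact hμ

end fin

end Groth.Agent.Lib.Isoc76
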