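import Groth.Agent.Lib.Isoc76F

set_option autoImplicit false
set_option linter.unusedSectionVars false

namespace Groth.Agent.Lib.Isoc76

open Isoc Filter Topology Matrix
open scoped Pointwise

universe u v

section isoclinic

variable {p : ℕ} [Fact p.Prime] {k : Type u} [Field k] [CharP k p] [PerfectRing k p]
variable {N : Type v} [AddCommGroup N] [Module (WittVector p k) N]
  [Module (FractionRing (WittVector p k)) N]
  [IsScalarTower (WittVector p k) (FractionRing (WittVector p k)) N]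

local notation "𝕎" => WittVector p k
local notation "𝕃" => FractionRing (WittVector p k)

variable {τ : FractionRing (WittVector p k) →+* FractionRing (WittVector p k)}
variable {n : ℕ}

theorem latImg_mul_eq_pPow (hτ : GoodTwist τ) (F : N →ₛₗ[τ] N) {M : Submodule 𝕎 N} {s : ℕ}
    {r : ℤ} (h : latImg F s M = pPow r M) (j : ℕ) : latImg F (j * s) M = pPow (j * r) M :=
  le_antisymm (latImg_le_pPow_mul hτ F h.le j) (pPow_mul_le_latImg hτ F h.ge j)

theorem isOrd_of_latImg_eq [Nontrivial N] (F : N →ₛₗ[τ] N) {M : Submodule 𝕎 N}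
    (hM : M.IsLattice 𝕃) {s : ℕ} {r : ℤ} (h : latImg F s M = pPow r M) : IsOrd M F s r := by
  refine ⟨h.le, fun h' => ?_⟩
  rw [h] at h'
  have := le_of_pPow_le_pPow M hM h'
  omega

/-- If `F^s M = p^r M` then the first slope is `r / s`. -/
theorem isFirstSlope_of_latImg_eq [Nontrivial N] (hτ : GoodTwist τ) (F : N →ₛₗ[τ] N)
    (hF : Function.Bijective F) (M : Submodule 𝕎 N) (hM : M.IsLattice 𝕃) {s : ℕ} (hs : 0 < s)
    {r : ℤ} (h : latImg F s M = pPow r M) : IsFirstSlope F ((r : ℝ) / s) := by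
  obtain ⟨o, ho, lam, hlim⟩ := exists_ord_tendsto hτ F hF M hM
  have hos : ∀ j : ℕ, o (j * s) = j * r := fun j =>
    isOrd_unique (ho (j * s)) (isOrd_of_latImg_eq F hM (latImg_mul_eq_pPow hτ F h j))
  have hφ : Tendsto (fun j : ℕ => j * s) atTop atTop :=
    tendsto_atTop_mono (fun j => Nat.le_mul_of_pos_right j hs) tendsto_id
  have h1 := hlim.comp hφ
  have h2 : (fun j : ℕ => ((o (j * s) : ℤ) : ℝ) / ((j * s : ℕ) : ℝ)) =ᶠ[atTop]
      fun _ => (r : ℝ) / s := by
    filter_upwards [eventually_ge_atTop 1] with j hj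
    have hj0 : (j : ℝ) ≠ 0 := by
      have : (0 : ℝ) < j := by exact_mod_cast hj
      exact this.ne'
    have hs0 : (s : ℝ) ≠ 0 := by
      have : (0 : ℝ) < s := by exact_mod_cast hs
      exact this.ne'
    rw [hos]
    push_cast
    field_simp
  have h3 : lam = (r : ℝ) / s :=
    tendsto_nhds_unique h1 ((tendsto_const_nhds).congr' h2.symm)
  rw [← h3]
  exact ⟨M, hM, o, fun j _ => ho j, hlim⟩

/-- If `F^s M = p^r M` then `r h = s d`. -/
theorem mul_eq_mul_of_latImg_eq [Module.Finite 𝕃 N] (hτ : GoodTwist τ) (F : N →ₛₗ[τ] N)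
    (b : Module.Basis (Fin n) 𝕃 N) {d : ℤ} (hd : IsOrdP (detCoeff b F) d)
    (M : Submodule 𝕎 N) (hM : M.IsLattice 𝕃) {s : ℕ} {r : ℤ} (h : latImg F s M = pPow r M) :
    r * n = s * d := by
  apply le_antisymm (mul_le_mul_of_latImg_le hτ F b hd M hM h.le)
  have hn : Module.finrank 𝕃 N = n := by
    rw [Module.finrank_eq_card_basis b, Fintype.card_fin]
  obtain ⟨b', hb'⟩ := exists_basis_fin M hM n hn
  have h1 := isOrdP_det_matOf_iterate hτ b' F
    (isOrdP_det_matOf_basis_change hτ b b' F hd) s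
  -- preimages of `p^r b'_j`
  have hex : ∀ j : Fin n, ∃ x ∈ M, (⇑F)^[s] x = ((p : 𝕃) ^ r) • b' j := by
    intro j
    have : ((p : 𝕃) ^ r) • b' j ∈ latImg F s M := by
      rw [h]; exact smul_mem_pPow (basis_mem_of_repr hb' j)
    exact (mem_latImg_iff hτ F s M _).mp this
  choose x hxM hx using hex
  let X : Matrix (Fin n) (Fin n) 𝕃 := Matrix.of fun i j => b'.repr (x j) i
  have hXW : ∀ i j, InPW 0 (X i j) := fun i j => (hb' (x j)).mp (hxM j) i
  have hprod : matOf b' ((⇑F)^[s]) * X.map (τ ^ s) = ((p : 𝕃) ^ r) • (1 : Matrix (Fin n) (Fin n) 𝕃) := by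
    ext i j
    rw [Matrix.mul_apply, Matrix.smul_apply, Matrix.one_apply, smul_eq_mul]
    have h2 := repr_apply_semilinear b' (iter F s) (x j) i
    rw [iter_apply, hx j, map_smul, Finsupp.smul_apply, b'.repr_self, Finsupp.single_apply,
      smul_eq_mul] at h2
    rw [coe_iter] at h2
    rw [show (∑ l, matOf b' (⇑F)^[s] i l * (X.map (τ ^ s)) l j)
      = ∑ l, matOf b' (⇑F)^[s] i l * (τ ^ s) ((b'.repr (x j)) l) from rfl, ← h2]
    simp only [eq_comm]
  have hdet := congrArg Matrix.det hprod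
  rw [Matrix.det_mul, ← RingHom.mapMatrix_apply, ← RingHom.map_det, Matrix.det_smul,
    Matrix.det_one, mul_one, Fintype.card_fin] at hdet
  have hX0 : X.det ≠ 0 := by
    intro h0
    rw [h0, map_zero, mul_zero] at hdet
    exact pow_ne_zero n (zpow_ne_zero r pL_ne_zero) hdet.symm
  obtain ⟨e, he⟩ := exists_isOrdP hX0
  have he0 : 0 ≤ e := by
    have := isOrdP_le_of_inPW he (inPW_det X 0 hXW)
    rwa [mul_zero] at this
  have h3 := isOrdP_mul h1 ((hτ.pow s).isOrdP he)
  rw [hdet] at h3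
  have h4 := isOrdP_unique h3 (isOrdP_pow (isOrdP_zpow (p := p) (k := k) r) n)
  rw [mul_comm r]
  omega

end isoclinic

end Groth.Agent.Lib.Isoc76
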