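import Groth.Agent.Lib.Isoc76G
import Mathlib.NumberTheory.DiophantineApproximation.Basic

set_option autoImplicit false
set_option linter.unusedSectionVars false

namespace Groth.Agent.Lib.Isoc76

open Isoc Filter Topology Matrix
open scoped Pointwise

universe u v

section nilpotent

variable {p : ℕ} [Fact p.Prime] {k : Type u} [Field k] [CharP k p] [PerfectRing k p]
variable {N : Type v} [AddCommGroup N] [Module (WittVector p k) N]
  [Module (FractionRing (WittVector p k)) N]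
  [IsScalarTower (WittVector p k) (FractionRing (WittVector p k)) N]

local notation "𝕎" => WittVector p k
local notation "𝕃" => FractionRing (WittVector p k)

variable {τ : FractionRing (WittVector p k) →+* FractionRing (WittVector p k)}

theorem latImg_le_of_stable (hτ : GoodTwist τ) (G : N →ₛₗ[τ] N) {M : Submodule 𝕎 N}
    (hG : latImg G 1 M ≤ M) (j : ℕ) : latImg G j M ≤ M := by
  induction j with
  | zero => rw [latImg_zero]
  | succ j ih =>
    rw [← latImg_latImg hτ]
    exact (latImg_mono G j hG).trans ih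

theorem latImg_anti_of_stable (hτ : GoodTwist τ) (G : N →ₛₗ[τ] N) {M : Submodule 𝕎 N}
    (hG : latImg G 1 M ≤ M) {i j : ℕ} (hij : i ≤ j) : latImg G j M ≤ latImg G i M := by
  obtain ⟨l, rfl⟩ := Nat.exists_eq_add_of_le hij
  rw [← latImg_latImg hτ]
  exact latImg_mono G i (latImg_le_of_stable hτ G hG l)

/-- A stable lattice on which some power of `G` is divisible by `p`: already the `h`-th power
is, `h` being the dimension. -/
theorem latImg_le_pPow_one_of_nilpotent [Module.Finite 𝕃 N] (hτ : GoodTwist τ) (G : N →ₛₗ[τ] N)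
    (h : ℕ) (hh : Module.finrank 𝕃 N = h) (M : Submodule 𝕎 N) (hGM : latImg G 1 M ≤ M)
    (n : ℕ) (hn : latImg G n M ≤ pPow 1 M) : latImg G h M ≤ pPow 1 M := by
  classical
  rw [latImg_le_iff]
  intro x hx
  obtain ⟨c, hrel, hc0, j₁, hj₁, hu⟩ := exists_normalized_relation G h hh x
  let U := (Finset.range (h + 1)).filter (fun j => IsOrdP (c j) 0)
  have hU : U.Nonempty := ⟨j₁, Finset.mem_filter.mpr ⟨hj₁, hu⟩⟩
  let j₀ := U.min' hU
  have hj₀U : j₀ ∈ U := Finset.min'_mem U hU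
  have hj₀ := Finset.mem_filter.mp hj₀U
  have hj₀h : j₀ ≤ h := by have := Finset.mem_range.mp hj₀.1; omega
  have hmin : ∀ j ∈ U, j₀ ≤ j := fun j hj => Finset.min'_le U j hj
  set y := (⇑G)^[j₀] x with hy
  have hyM : y ∈ M := latImg_le_of_stable hτ G hGM j₀ (iterate_mem_latImg G j₀ hx)
  have hpM : pPow 1 M ≤ M := by
    have := pPow_anti (show (0 : ℤ) ≤ 1 by omega) M
    rwa [pPow_zero] at this
  -- the key relation
  rw [← Finset.add_sum_erase _ _ hj₀.1] at hrel
  obtain ⟨u, hu'⟩ := isOrdP_exists_unit_of_zero hj₀.2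
  have hkey : ∀ m : ℕ, y ∈ pPow 1 M ⊔ latImg G m M := by
    intro m
    induction m with
    | zero => rw [latImg_zero]; exact le_sup_right (a := pPow 1 M) hyM
    | succ m ih =>
      have hterm : ∀ j ∈ (Finset.range (h + 1)).erase j₀,
          c j • (⇑G)^[j] x ∈ pPow 1 M ⊔ latImg G (m + 1) M := by
        intro j hj
        obtain ⟨hne, hjr⟩ := Finset.mem_erase.mp hj
        rcases lt_or_gt_of_ne hne with hlt | hgt
        · -- `j < j₀`: the coefficient is divisible by `p`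
          have hnotU : ¬ IsOrdP (c j) 0 := fun hO =>
            absurd (hmin j (Finset.mem_filter.mpr ⟨hjr, hO⟩)) (by omega)
          obtain ⟨w, hw⟩ := inPW_one_of_not_isOrdP_zero (hc0 j hjr) hnotU
          apply le_sup_left (b := latImg G (m + 1) M)
          rw [hw, mul_comm, mul_smul, algebraMap_smul]
          apply Submodule.smul_mem
          exact smul_mem_pPow (latImg_le_of_stable hτ G hGM j (iterate_mem_latImg G j hx))
        · -- `j > j₀`
          have hsplit : j = (j - j₀) + j₀ := by omega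
          have h1 : (⇑G)^[j] x = (⇑G)^[j - j₀] y := by
            rw [hy, ← Function.iterate_add_apply, ← hsplit]
          rw [h1]
          apply inPW_smul_mem _ (hc0 j hjr)
          have h2 : (⇑G)^[j - j₀] y ∈ latImg G (j - j₀) (pPow 1 M ⊔ latImg G m M) :=
            iterate_mem_latImg G _ ih
          rw [latImg_sup, latImg_pPow hτ, latImg_latImg hτ] at h2
          refine (sup_le_sup (pPow_mono (latImg_le_of_stable hτ G hGM _)) ?_) h2
          exact latImg_anti_of_stable hτ G hGM (by omega)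
      have hsum := Submodule.sum_mem _ hterm
      have h1 : c j₀ • y ∈ pPow 1 M ⊔ latImg G (m + 1) M := by
        rw [eq_neg_of_add_eq_zero_left hrel]
        exact Submodule.neg_mem _ hsum
      rw [hu', algebraMap_smul] at h1
      have := Submodule.smul_mem (pPow 1 M ⊔ latImg G (m + 1) M) ((u⁻¹ : 𝕎ˣ) : 𝕎) h1
      rwa [smul_smul, Units.inv_mul, one_smul] at this
  have hy1 : y ∈ pPow 1 M := by
    have := hkey n
    rwa [sup_eq_left.mpr hn] at this
  have hsplit : h = (h - j₀) + j₀ := by omega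
  rw [hsplit, Function.iterate_add_apply, ← hy]
  have h3 : (⇑G)^[h - j₀] y ∈ latImg G (h - j₀) (pPow 1 M) := iterate_mem_latImg G _ hy1
  rw [latImg_pPow hτ] at h3
  exact pPow_mono (latImg_le_of_stable hτ G hGM _) h3

theorem le_lim_of_subseq {o : ℕ → ℤ} {lam c : ℝ}
    (hlim : Tendsto (fun n : ℕ => (o n : ℝ) / n) atTop (𝓝 lam)) (t : ℕ) (ht : 0 < t)
    (h : ∀ j : ℕ, 1 ≤ j → c ≤ (o (j * t) : ℝ) / ((j * t : ℕ) : ℝ)) : c ≤ lam := by
  have hφ : Tendsto (fun j : ℕ => j * t) atTop atTop :=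
    tendsto_atTop_mono (fun j => Nat.le_mul_of_pos_right j ht) tendsto_id
  exact ge_of_tendsto (hlim.comp hφ) ((eventually_ge_atTop 1).mono h)

/-- If `G^t M ⊆ p^e M` then the limit of `ord_M(G^n)/n` is at least `e / t`. -/
theorem div_le_lim_of_latImg_le (hτ : GoodTwist τ) (G : N →ₛₗ[τ] N) {M : Submodule 𝕎 N}
    {o : ℕ → ℤ} (ho : ∀ n, IsOrd M G n (o n)) {lam : ℝ}
    (hlim : Tendsto (fun n : ℕ => (o n : ℝ) / n) atTop (𝓝 lam)) {t : ℕ} (ht : 0 < t) {e : ℤ}
    (h : latImg G t M ≤ pPow e M) : (e : ℝ) / t ≤ lam := by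
  apply le_lim_of_subseq hlim t ht
  intro j hj
  have h1 : (j : ℤ) * e ≤ o (j * t) := isOrd_le (ho (j * t)) (latImg_le_pPow_mul hτ G h j)
  have hj0 : (0 : ℝ) < j := by exact_mod_cast hj
  have ht0 : (0 : ℝ) < t := by exact_mod_cast ht
  have h2 : ((j : ℝ) * e) ≤ (o (j * t) : ℝ) := by exact_mod_cast h1
  rw [div_le_div_iff₀ ht0 (by positivity)]
  push_cast
  nlinarith

theorem exists_firstSlope_eq_div [Module.Finite 𝕃 N] (hτ : GoodTwist τ) (F : N →ₛₗ[τ] N)
    (hF : Function.Bijective F) {h : ℕ} (b : Module.Basis (Fin h) 𝕃 N) {d : ℤ}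
    (hd : IsOrdP (detCoeff b F) d) {lam : ℝ} (hlam : IsFirstSlope F lam) :
    ∃ (r : ℤ) (s : ℕ) (M : Submodule 𝕎 N), 0 < s ∧ s ≤ h ∧ lam = (r : ℝ) / s ∧
      M.IsLattice 𝕃 ∧ IsOrd M F s r ∧ r * h ≤ s * d := by
  have hN : Nontrivial N := by
    obtain ⟨M, _, o, ho, _⟩ := hlam
    exact nontrivial_of_isOrd (ho 1 le_rfl)
  have hh : Module.finrank 𝕃 N = h := by
    rw [Module.finrank_eq_card_basis b, Fintype.card_fin]
  have hpos : 0 < h := by rw [← hh]; exact Module.finrank_pos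
  obtain ⟨r, k', hk0, hkh, habs⟩ := Real.exists_int_int_abs_mul_sub_le lam hpos
  obtain ⟨s, rfl⟩ := Int.eq_ofNat_of_zero_le hk0.le
  have hs : 0 < s := by exact_mod_cast hk0
  have hsh : s ≤ h := by exact_mod_cast hkh
  have hs0 : (0 : ℝ) < s := by exact_mod_cast hs
  have hh0 : (0 : ℝ) < (h : ℝ) + 1 := by positivity
  -- the twisted iterate
  have hτs := hτ.pow s
  set G := ((p : 𝕃) ^ (-r)) • iter F s with hG
  have hGbij : Function.Bijective G := bijective_smul_iter F hF (-r) s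
  have hGslope : IsFirstSlope G (s * lam + ((-r : ℤ) : ℝ)) := isFirstSlope_smul_iter hτ F hlam (-r) s
  set μ : ℝ := s * lam + ((-r : ℤ) : ℝ) with hμ
  have hμabs : |μ| ≤ 1 / ((h : ℝ) + 1) := by
    have : μ = ((s : ℤ) : ℝ) * lam - r := by rw [hμ]; push_cast; ring
    rw [this]; exact habs
  -- step 1: a stable lattice
  have hlow : ((-1 : ℤ) : ℝ) / ((h + 1 : ℕ) : ℝ) ≤ μ := by
    have := (abs_le.mp hμabs).1
    push_cast
    rw [neg_div]
    exact this
  obtain ⟨M₁, hM₁, hGM₁⟩ := exists_lattice_latImg_le_pPow hτs G hGbij hGslope (-1) (h + 1)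
    (Nat.succ_pos h) hlow
  obtain ⟨M₂, hM₂, hGM₂⟩ := isEffective_of_latImg_succ_le hτs G hGbij h hh M₁ hM₁ hGM₁
  obtain ⟨o₂, ho₂, lam₂, hlim₂⟩ := exists_ord_tendsto hτs G hGbij M₂ hM₂
  have hlam₂ : lam₂ = μ := by
    obtain ⟨M₀, hM₀, o₀, ho₀, hlim₀⟩ := hGslope
    exact lim_unique_of_lattices hτs G M₂ M₀ hM₂ hM₀ o₂ o₀ (fun n _ => ho₂ n) ho₀ lam₂ μ
      hlim₂ hlim₀
  rw [hlam₂] at hlim₂
  -- step 2: `μ ≥ 0`
  have hμ0 : 0 ≤ μ := by
    have h1 : latImg G 1 M₂ ≤ pPow 0 M₂ := by rw [pPow_zero]; exact hGM₂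
    have := div_le_lim_of_latImg_le hτs G ho₂ hlim₂ Nat.one_pos h1
    simpa using this
  -- step 3: `μ = 0`
  have hμeq : μ = 0 := by
    by_contra hne
    have hμpos : 0 < μ := lt_of_le_of_ne hμ0 (Ne.symm hne)
    have hev := hlim₂.eventually (lt_mem_nhds hμpos)
    obtain ⟨n₀, hn₀⟩ := hev.exists_forall_of_atTop
    set n := max n₀ 1 with hn
    have hn1 : 1 ≤ n := le_max_right _ _
    have h1 := hn₀ n (le_max_left _ _)
    have hn0 : (0 : ℝ) < n := by exact_mod_cast hn1
    have h2 : (0 : ℝ) < (o₂ n : ℝ) := by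
      have := (div_pos_iff_of_pos_right hn0).mp h1
      exact this
    have h3 : 1 ≤ o₂ n := by
      have : 0 < o₂ n := by exact_mod_cast h2
      omega
    have h4 : latImg G n M₂ ≤ pPow 1 M₂ := (ho₂ n).1.trans (pPow_anti h3 M₂)
    have h5 := latImg_le_pPow_one_of_nilpotent hτs G h hh M₂ hGM₂ n h4
    have h6 := div_le_lim_of_latImg_le hτs G ho₂ hlim₂ hpos h5
    have h7 := (abs_le.mp hμabs).2
    have hhr : (0 : ℝ) < h := by exact_mod_cast hpos
    have : (1 : ℝ) / ((h : ℝ) + 1) < ((1 : ℤ) : ℝ) / h := by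
      push_cast
      exact one_div_lt_one_div_of_lt hhr (by linarith)
    linarith
  -- conclusions
  have hlamrs : lam = (r : ℝ) / s := by
    rw [hμ] at hμeq
    push_cast at hμeq
    field_simp
    linarith
  have hFM₂ : latImg F s M₂ ≤ pPow r M₂ := by
    have := hGM₂
    rw [hG, latImg_smul_iter hτ, Nat.cast_one, mul_one, mul_one] at this
    rw [le_pPow_iff]
    exact this
  refine ⟨r, s, M₂, hs, hsh, hlamrs, hM₂, ⟨hFM₂, fun hcontra => ?_⟩,
    mul_le_mul_of_latImg_le hτ F b hd M₂ hM₂ hFM₂⟩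
  -- otherwise `G M₂ ⊆ p M₂` and the slope of `G` would be at least one
  have h1 : latImg G 1 M₂ ≤ pPow 1 M₂ := by
    rw [hG, latImg_smul_iter hτ, Nat.cast_one, mul_one, mul_one]
    have := pPow_mono (r := -r) hcontra
    rwa [pPow_pPow, show -r + (r + 1) = 1 by ring] at this
  have h2 := div_le_lim_of_latImg_le hτs G ho₂ hlim₂ Nat.one_pos h1
  rw [hμeq] at h2
  norm_num at h2

end nilpotent

end Groth.Agent.Lib.Isoc76
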