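import Groth.Agent.Lib.Isoc76H

set_option autoImplicit false
set_option linter.unusedSectionVars false

/-!
# Isocrystals, part I: equality `F^s M = p^r M` from the determinant (helper76)

If `F^s M ⊆ p^r M` and `r h = s d` (with `h` the height and `d = orddet F`) then `F^s M = p^r M`.
-/

namespace Groth.Agent.Lib.Isoc76

open Isoc Filter Topology Matrix
open scoped Pointwise

universe u v

section eq

variable {p : ℕ} [Fact p.Prime] {k : Type u} [Field k] [CharP k p] [PerfectRing k p]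
variable {N : Type v} [AddCommGroup N] [Module (WittVector p k) N]
  [Module (FractionRing (WittVector p k)) N]
  [IsScalarTower (WittVector p k) (FractionRing (WittVector p k)) N]

local notation "𝕎" => WittVector p k
local notation "𝕃" => FractionRing (WittVector p k)

variable {τ : FractionRing (WittVector p k) →+* FractionRing (WittVector p k)}
variable {n : ℕ}

/-- If `F^s M ⊆ p^r M` and `r h = s d` then `F^s M = p^r M`. -/
theorem latImg_eq_of_le_of_mul_eq [Module.Finite 𝕃 N] (hτ : GoodTwist τ) (F : N →ₛₗ[τ] N)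
    (b : Module.Basis (Fin n) 𝕃 N) {d : ℤ} (hd : IsOrdP (detCoeff b F) d)
    (M : Submodule 𝕎 N) (hM : M.IsLattice 𝕃) {s : ℕ} {r : ℤ} (h : latImg F s M ≤ pPow r M)
    (hrs : r * n = s * d) : latImg F s M = pPow r M := by
  refine le_antisymm h ?_
  have hn : Module.finrank 𝕃 N = n := by
    rw [Module.finrank_eq_card_basis b, Fintype.card_fin]
  obtain ⟨b', hb'⟩ := exists_basis_fin M hM n hn
  have h1 := isOrdP_det_matOf_iterate hτ b' F
    (isOrdP_det_matOf_basis_change hτ b b' F hd) s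
  have hA := inPW_matOf hb' ((⇑F)^[s]) r ((latImg_le_iff F s M _).mp h)
  choose w hw using hA
  set A := matOf b' ((⇑F)^[s]) with hAdef
  have hAeq : A = ((p : 𝕃) ^ r) • (Matrix.of w).map (algebraMap 𝕎 𝕃) := by
    ext i j
    rw [Matrix.smul_apply, Matrix.map_apply, Matrix.of_apply, smul_eq_mul]
    exact hw i j
  have hdet : A.det = (p : 𝕃) ^ ((n : ℤ) * r) * algebraMap 𝕎 𝕃 (Matrix.of w).det := by
    rw [hAeq, Matrix.det_smul, Fintype.card_fin, ← RingHom.mapMatrix_apply, ← RingHom.map_det,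
      ← zpow_natCast, ← zpow_mul, mul_comm r]
  -- `det (of w)` is a unit of `W`
  have hunit : IsUnit (Matrix.of w).det := by
    have h2 : IsOrdP (algebraMap 𝕎 𝕃 (Matrix.of w).det) 0 := by
      have h3 : algebraMap 𝕎 𝕃 (Matrix.of w).det = (p : 𝕃) ^ (-((n : ℤ) * r)) * A.det := by
        rw [hdet, ← mul_assoc, ← zpow_add₀ pL_ne_zero, neg_add_cancel, zpow_zero, one_mul]
      rw [h3]
      have h4 : IsOrdP ((p : 𝕃) ^ (-((n : ℤ) * r))) (-((n : ℤ) * r)) :=
        ⟨1, by rw [Units.val_one, map_one, mul_one]⟩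
      have h5 := isOrdP_mul h4 h1
      have h6 : -((n : ℤ) * r) + (s : ℤ) * d = 0 := by rw [← hrs]; ring
      rwa [h6] at h5
    obtain ⟨u, hu⟩ := isOrdP_exists_unit_of_zero h2
    have := IsFractionRing.injective 𝕎 𝕃 hu
    rw [this]
    exact u.isUnit
  set W₀ : Matrix (Fin n) (Fin n) 𝕎 := Matrix.of w with hW₀
  have hinv : W₀ * W₀⁻¹ = 1 := Matrix.mul_nonsing_inv W₀ hunit
  -- now solve
  intro y hy
  rw [mem_pPow_iff_repr hb'] at hy
  choose γ hγ using hy
  set z : Fin n → 𝕎 := W₀⁻¹.mulVec γ with hz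
  have hτs := hτ.pow s
  have hpre : ∀ j, ∃ c : 𝕃, InPW 0 c ∧ (τ ^ s) c = algebraMap 𝕎 𝕃 (z j) := fun j =>
    hτs.exists_preimage_of_inPW (n := 0) ⟨z j, by rw [zpow_zero, one_mul]⟩
  choose x' hx'0 hx' using hpre
  set x : N := ∑ j, x' j • b' j with hx
  have hxrepr : ∀ j, b'.repr x j = x' j := by
    intro j
    rw [hx, map_sum, Finsupp.coe_finsetSum, Finset.sum_apply]
    rw [Finset.sum_eq_single j]
    · rw [map_smul, Finsupp.smul_apply, b'.repr_self, Finsupp.single_eq_same, smul_eq_mul, mul_one]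
    · intro i _ hij
      rw [map_smul, Finsupp.smul_apply, b'.repr_self, Finsupp.single_apply, if_neg hij, smul_zero]
    · intro hj; exact absurd (Finset.mem_univ j) hj
  have hxM : x ∈ M := by
    rw [hb']
    intro j
    rw [hxrepr]
    exact hx'0 j
  rw [mem_latImg_iff hτ]
  refine ⟨x, hxM, ?_⟩
  apply b'.repr.injective
  ext i
  have h7 := repr_apply_semilinear b' (iter F s) x i
  rw [coe_iter] at h7
  rw [h7, hγ i]
  have h8 : ∀ j, matOf b' (⇑F)^[s] i j * (τ ^ s) (b'.repr x j)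
      = (p : 𝕃) ^ r * algebraMap 𝕎 𝕃 (W₀ i j * z j) := by
    intro j
    rw [hxrepr, hx', ← hAdef, hw i j, map_mul, mul_assoc]
    rfl
  rw [Finset.sum_congr rfl (fun j _ => h8 j), ← Finset.mul_sum, ← map_sum]
  congr 2
  have h9 : ∑ j, W₀ i j * z j = (W₀.mulVec z) i := rfl
  rw [h9, hz, Matrix.mulVec_mulVec, hinv, Matrix.one_mulVec]

end eq

end Groth.Agent.Lib.Isoc76
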