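import Groth.Agent.Lib.Isoc76I

set_option autoImplicit false
set_option linter.unusedSectionVars false

/-!
# Isocrystals, part J: sub-isocrystals (helper76)

Transport of lattices between an `F`-stable `L`-subspace `P` of `N` and `N`; the ambient
characterisation `IsIsoclinicOn` of "`(P, F|P)` is isoclinic of slope `μ`"; sub-isocrystals of an
isoclinic isocrystal are isoclinic; finite sums of isoclinic subspaces of the same slope.
-/

namespace Groth.Agent.Lib.Isoc76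

open Isoc Filter Topology Matrix
open scoped Pointwise

universe u v

section sub

variable {p : ℕ} [Fact p.Prime] {k : Type u} [Field k] [CharP k p] [PerfectRing k p]
variable {N : Type v} [AddCommGroup N] [Module (WittVector p k) N]
  [Module (FractionRing (WittVector p k)) N]
  [IsScalarTower (WittVector p k) (FractionRing (WittVector p k)) N]

local notation "𝕎" => WittVector p k
local notation "𝕃" => FractionRing (WittVector p k)

variable {τ : FractionRing (WittVector p k) →+* FractionRing (WittVector p k)}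

/-- The inclusion of an `L`-subspace, as a `W`-linear map. -/
noncomputable def subIncl (P : Submodule 𝕃 N) : ↥P →ₗ[𝕎] N := P.subtype.restrictScalars 𝕎

theorem subIncl_apply (P : Submodule 𝕃 N) (x : P) : subIncl P x = (x : N) := rfl

theorem subIncl_injective (P : Submodule 𝕃 N) : Function.Injective (subIncl P) :=
  Subtype.val_injective

theorem iterate_restrict (F : N →ₛₗ[τ] N) (P : Submodule 𝕃 N) (hP : ∀ x ∈ P, F x ∈ P) (s : ℕ)
    (x : P) : (((⇑(F.restrict hP))^[s] x : P) : N) = (⇑F)^[s] (x : N) := by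
  induction s generalizing x with
  | zero => rfl
  | succ s ih =>
    rw [Function.iterate_succ_apply, ih, Function.iterate_succ_apply]
    rfl

theorem iterate_mem_of_stable (F : N →ₛₗ[τ] N) (P : Submodule 𝕃 N) (hP : ∀ x ∈ P, F x ∈ P)
    (s : ℕ) {x : N} (hx : x ∈ P) : (⇑F)^[s] x ∈ P := by
  have := iterate_restrict F P hP s ⟨x, hx⟩
  rw [← this]
  exact Subtype.coe_prop _

theorem map_latImg_restrict (F : N →ₛₗ[τ] N) (P : Submodule 𝕃 N) (hP : ∀ x ∈ P, F x ∈ P)
    (s : ℕ) (M' : Submodule 𝕎 P) :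
    (latImg (F.restrict hP) s M').map (subIncl P) = latImg F s (M'.map (subIncl P)) := by
  unfold latImg
  rw [Submodule.map_span]
  congr 1
  ext y
  simp only [Set.mem_image, SetLike.mem_coe, Submodule.mem_map]
  constructor
  · rintro ⟨_, ⟨x, hx, rfl⟩, rfl⟩
    exact ⟨subIncl P x, ⟨x, hx, rfl⟩, (iterate_restrict F P hP s x).symm⟩
  · rintro ⟨_, ⟨x, hx, rfl⟩, rfl⟩
    exact ⟨_, ⟨x, hx, rfl⟩, iterate_restrict F P hP s x⟩

theorem map_pPow_subIncl (P : Submodule 𝕃 N) (r : ℤ) (M' : Submodule 𝕎 P) :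
    (pPow r M').map (subIncl P) = pPow r (M'.map (subIncl P)) := by
  ext y
  rw [Submodule.mem_map, mem_pPow_iff, Submodule.mem_map]
  constructor
  · rintro ⟨x, hx, rfl⟩
    rw [mem_pPow_iff] at hx
    exact ⟨_, hx, rfl⟩
  · rintro ⟨z, hz, hzy⟩
    refine ⟨((p : 𝕃) ^ r) • z, ?_, ?_⟩
    · rw [mem_pPow_iff, smul_smul, ← zpow_add₀ pL_ne_zero, neg_add_cancel, zpow_zero, one_smul]
      exact hz
    · rw [subIncl_apply, Submodule.coe_smul, ← subIncl_apply, hzy, smul_smul,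
        ← zpow_add₀ pL_ne_zero, add_neg_cancel, zpow_zero, one_smul]

theorem isLattice_iff_map (P : Submodule 𝕃 N) (M' : Submodule 𝕎 P) :
    M'.IsLattice 𝕃 ↔ (M'.map (subIncl P)).FG ∧
      Submodule.span 𝕃 ((M'.map (subIncl P) : Submodule 𝕎 N) : Set N) = P := by
  have hspan : Submodule.span 𝕃 ((M'.map (subIncl P) : Submodule 𝕎 N) : Set N)
      = (Submodule.span 𝕃 (M' : Set P)).map P.subtype := by
    rw [Submodule.map_span]
    rfl
  constructor
  · intro h
    refine ⟨h.fg.map _, ?_⟩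
    rw [hspan, h.span_eq_top, Submodule.map_subtype_top]
  · rintro ⟨h1, h2⟩
    refine ⟨Submodule.fg_of_fg_map_injective _ (subIncl_injective P) h1, ?_⟩
    rw [hspan] at h2
    apply Submodule.map_injective_of_injective (f := P.subtype) P.injective_subtype
    rw [h2, Submodule.map_subtype_top]

/-- Ambient form of "`(P, F|P)` is isoclinic of slope `μ`". -/
def IsIsoclinicOn (F : N →ₛₗ[τ] N) (P : Submodule 𝕃 N) (μ : ℚ) : Prop :=
  ∃ M : Submodule 𝕎 N, M.FG ∧ Submodule.span 𝕃 (M : Set N) = P ∧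
    ∃ (r : ℤ) (s : ℕ), 0 < s ∧ (r : ℚ) / s = μ ∧ latImg F s M = pPow r M

theorem isIsoclinic_restrict_iff (F : N →ₛₗ[τ] N) (P : Submodule 𝕃 N)
    (hP : ∀ x ∈ P, F x ∈ P) (μ : ℚ) :
    IsIsoclinic (F.restrict hP) μ ↔ IsIsoclinicOn F P μ := by
  constructor
  · rintro ⟨M', hM', r, s, hs, hrs, heq⟩
    obtain ⟨h1, h2⟩ := (isLattice_iff_map P M').mp hM'
    refine ⟨M'.map (subIncl P), h1, h2, r, s, hs, hrs, ?_⟩
    rw [← map_latImg_restrict F P hP, heq, map_pPow_subIncl]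
  · rintro ⟨M, h1, h2, r, s, hs, hrs, heq⟩
    have hMP : ∀ x ∈ M, x ∈ P := by
      intro x hx
      rw [← h2]
      exact Submodule.subset_span hx
    have hmap : (M.comap (subIncl P)).map (subIncl P) = M := by
      apply le_antisymm (Submodule.map_comap_le _ _)
      intro x hx
      exact ⟨⟨x, hMP x hx⟩, hx, rfl⟩
    refine ⟨M.comap (subIncl P), (isLattice_iff_map P _).mpr ⟨by rw [hmap]; exact h1,
      by rw [hmap]; exact h2⟩, r, s, hs, hrs, ?_⟩
    apply Submodule.map_injective_of_injective (subIncl_injective P)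
    rw [map_latImg_restrict, map_pPow_subIncl, hmap, heq]

/-- The whole space: `IsIsoclinicOn F ⊤ μ` is `IsIsoclinic F μ`. -/
theorem isIsoclinicOn_top_iff (F : N →ₛₗ[τ] N) (μ : ℚ) :
    IsIsoclinicOn F ⊤ μ ↔ IsIsoclinic F μ := by
  constructor
  · rintro ⟨M, h1, h2, r, s, hs, hrs, heq⟩
    exact ⟨M, ⟨h1, h2⟩, r, s, hs, hrs, heq⟩
  · rintro ⟨M, hM, r, s, hs, hrs, heq⟩
    exact ⟨M, hM.fg, hM.span_eq_top, r, s, hs, hrs, heq⟩

/-- An injective semilinear endomorphism (for a good twist) of a finite-dimensional space maps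
every stable subspace onto itself. -/
theorem exists_preimage_of_stable [Module.Finite 𝕃 N] (hτ : GoodTwist τ) (G : N →ₛₗ[τ] N)
    (hG : Function.Injective G) (P : Submodule 𝕃 N) (hP : ∀ x ∈ P, G x ∈ P) {y : N}
    (hy : y ∈ P) : ∃ x ∈ P, G x = y := by
  classical
  set b := Module.finBasis 𝕃 P with hb
  set G' := G.restrict hP with hG'
  have hG'inj : ∀ m : P, G' m = 0 → m = 0 := by
    intro m hm
    have h1 : G (m : N) = 0 := congrArg (Subtype.val) hm
    have h2 : (m : N) = 0 := hG (by rw [h1, map_zero])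
    exact Subtype.ext h2
  have hli : LinearIndependent 𝕃 (⇑G'.toAddMonoidHom ∘ ⇑b) :=
    LinearIndependent.map_of_surjective_injective b.linearIndependent τ G'.toAddMonoidHom
      hτ.surjective hG'inj (fun r m => G'.map_smulₛₗ r m)
  have hspan := hli.span_eq_top_of_card_eq_finrank' (by rw [Fintype.card_fin])
  have hy' : (⟨y, hy⟩ : P) ∈ Submodule.span 𝕃 (Set.range (⇑G'.toAddMonoidHom ∘ ⇑b)) := by
    rw [hspan]; exact Submodule.mem_top
  obtain ⟨c, hc⟩ := (Submodule.mem_span_range_iff_exists_fun 𝕃).mp hy'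
  choose c' hc' using fun i => hτ.surjective (c i)
  refine ⟨((∑ i, c' i • b i : P) : N), Subtype.coe_prop _, ?_⟩
  have h3 : G' (∑ i, c' i • b i) = ⟨y, hy⟩ := by
    rw [map_sum, ← hc]
    refine Finset.sum_congr rfl (fun i _ => ?_)
    rw [LinearMap.map_smulₛₗ, hc']
    rfl
  exact congrArg Subtype.val h3

theorem exists_preimage_iterate_of_stable [Module.Finite 𝕃 N] (hτ : GoodTwist τ)
    (F : N →ₛₗ[τ] N) (hF : Function.Injective F) (P : Submodule 𝕃 N) (hP : ∀ x ∈ P, F x ∈ P)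
    (s : ℕ) {y : N} (hy : y ∈ P) : ∃ x ∈ P, (⇑F)^[s] x = y := by
  have := exists_preimage_of_stable (hτ.pow s) (iter F s) (hF.iterate s) P
    (fun x hx => iterate_mem_of_stable F P hP s hx) hy
  exact this

/-- Sub-isocrystals of an isoclinic isocrystal are isoclinic of the same slope (ambient form). -/
theorem isIsoclinicOn_of_stable [Module.Finite 𝕃 N] (hτ : GoodTwist τ) (F : N →ₛₗ[τ] N)
    (hF : Function.Injective F) {μ : ℚ} (hμ : IsIsoclinic F μ) (P : Submodule 𝕃 N)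
    (hP : ∀ x ∈ P, F x ∈ P) : IsIsoclinicOn F P μ := by
  obtain ⟨M, hM, r, s, hs, hrs, heq⟩ := hμ
  have hp0 : ∀ m : ℤ, (p : 𝕃) ^ m ≠ 0 := fun m => zpow_ne_zero m pL_ne_zero
  refine ⟨M ⊓ P.restrictScalars 𝕎, ?_, ?_, r, s, hs, hrs, ?_⟩
  · have hnoeth : IsNoetherian 𝕎 M := isNoetherian_of_fg_of_noetherian M hM.fg
    exact isNoetherian_submodule.mp hnoeth _ inf_le_left
  · apply le_antisymm
    · rw [Submodule.span_le]
      intro x hx
      exact hx.2
    · intro x hx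
      obtain ⟨n, hn⟩ := exists_pow_smul_mem M hM x
      have h1 : ((p : 𝕃) ^ n) • x ∈ Submodule.span 𝕃 ((M ⊓ P.restrictScalars 𝕎 :
          Submodule 𝕎 N) : Set N) :=
        Submodule.subset_span ⟨hn, P.smul_mem _ hx⟩
      have h2 := Submodule.smul_mem _ (((p : 𝕃) ^ n)⁻¹) h1
      rwa [smul_smul, inv_mul_cancel₀ (pow_ne_zero n pL_ne_zero), one_smul] at h2
  · ext y
    rw [mem_latImg_iff hτ, mem_pPow_iff]
    constructor
    · rintro ⟨x, ⟨hxM, hxP⟩, rfl⟩
      have h1 : ((p : 𝕃) ^ (-r)) • (⇑F)^[s] x ∈ M := by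
        rw [← mem_pPow_iff, ← heq]
        exact iterate_mem_latImg F s hxM
      exact ⟨h1, P.smul_mem _ (iterate_mem_of_stable F P hP s hxP)⟩
    · rintro ⟨hyM, hyP⟩
      have hyP' : y ∈ P := by
        have := P.smul_mem ((p : 𝕃) ^ r) hyP
        rwa [smul_smul, ← zpow_add₀ pL_ne_zero, add_neg_cancel, zpow_zero, one_smul] at this
      have hy1 : y ∈ latImg F s M := by
        rw [heq, mem_pPow_iff]
        exact hyM
      obtain ⟨x, hxM, hxy⟩ := (mem_latImg_iff hτ F s M y).mp hy1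
      obtain ⟨x', hx'P, hx'y⟩ := exists_preimage_iterate_of_stable hτ F hF P hP s hyP'
      have : x = x' := hF.iterate s (hxy.trans hx'y.symm)
      subst this
      exact ⟨x, ⟨hxM, hx'P⟩, hxy⟩

theorem isIsoclinicOn_bot (F : N →ₛₗ[τ] N) (μ : ℚ) : IsIsoclinicOn F ⊥ μ := by
  refine ⟨⊥, Submodule.fg_bot, ?_, μ.num, μ.den, μ.den_pos, ?_, ?_⟩
  · rw [Submodule.bot_coe, Submodule.span_zero_singleton]
  · exact_mod_cast Rat.num_div_den μ
  · rw [latImg_bot]
    symm
    rw [eq_bot_iff]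
    intro x hx
    rw [mem_pPow_iff, Submodule.mem_bot, smul_eq_zero] at hx
    rcases hx with h | h
    · exact absurd h (zpow_ne_zero _ pL_ne_zero)
    · rw [h]; exact Submodule.zero_mem _

theorem IsIsoclinicOn.sup (hτ : GoodTwist τ) {F : N →ₛₗ[τ] N} {P₁ P₂ : Submodule 𝕃 N} {μ : ℚ}
    (h₁ : IsIsoclinicOn F P₁ μ) (h₂ : IsIsoclinicOn F P₂ μ) : IsIsoclinicOn F (P₁ ⊔ P₂) μ := by
  obtain ⟨M₁, hfg₁, hsp₁, r₁, s₁, hs₁, hrs₁, heq₁⟩ := h₁
  obtain ⟨M₂, hfg₂, hsp₂, r₂, s₂, hs₂, hrs₂, heq₂⟩ := h₂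
  have hs₁' : (s₁ : ℚ) ≠ 0 := by exact_mod_cast hs₁.ne'
  have hs₂' : (s₂ : ℚ) ≠ 0 := by exact_mod_cast hs₂.ne'
  have hr : (s₂ : ℤ) * r₁ = (s₁ : ℤ) * r₂ := by
    have h1 : (r₁ : ℚ) = μ * s₁ := by rw [← hrs₁]; field_simp
    have h2 : (r₂ : ℚ) = μ * s₂ := by rw [← hrs₂]; field_simp
    have : ((s₂ : ℤ) * r₁ : ℚ) = ((s₁ : ℤ) * r₂ : ℚ) := by
      rw [h1, h2]; push_cast; ring
    exact_mod_cast this
  have e₁ := latImg_mul_eq_pPow hτ F heq₁ s₂
  have e₂ := latImg_mul_eq_pPow hτ F heq₂ s₁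
  refine ⟨M₁ ⊔ M₂, hfg₁.sup hfg₂, ?_, (s₂ : ℤ) * r₁, s₂ * s₁, Nat.mul_pos hs₂ hs₁, ?_, ?_⟩
  · apply le_antisymm
    · rw [Submodule.span_le]
      intro x hx
      obtain ⟨a, ha, b, hb, rfl⟩ := Submodule.mem_sup.mp hx
      exact Submodule.add_mem _ (Submodule.mem_sup_left (hsp₁ ▸ Submodule.subset_span ha))
        (Submodule.mem_sup_right (hsp₂ ▸ Submodule.subset_span hb))
    · rw [← hsp₁, ← hsp₂]
      exact sup_le (Submodule.span_mono (fun x hx => Submodule.mem_sup_left hx))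
        (Submodule.span_mono (fun x hx => Submodule.mem_sup_right hx))
  · rw [← hrs₁]; push_cast; field_simp
  · rw [latImg_sup, pPow_sup, e₁]
    congr 1
    rw [mul_comm s₂ s₁, e₂, hr]

end sub

end Groth.Agent.Lib.Isoc76
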