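import Groth.Agent.Lib.Isoc76J
import Mathlib.Order.CompactlyGenerated.Basic
import Mathlib.RingTheory.Noetherian.Basic

set_option autoImplicit false
set_option linter.unusedSectionVars false

/-!
# Isocrystals, part K: the slope part is isoclinic (helper76)
-/

namespace Groth.Agent.Lib.Isoc76

open Isoc Filter Topology Matrix
open scoped Pointwise

universe u v

section slopePart

variable {p : ℕ} [Fact p.Prime] {k : Type u} [Field k] [CharP k p] [PerfectRing k p]
variable {N : Type v} [AddCommGroup N] [Module (WittVector p k) N]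
  [Module (FractionRing (WittVector p k)) N]
  [IsScalarTower (WittVector p k) (FractionRing (WittVector p k)) N]

local notation "𝕎" => WittVector p k
local notation "𝕃" => FractionRing (WittVector p k)

variable {τ : FractionRing (WittVector p k) →+* FractionRing (WittVector p k)}

theorem finset_sup_stable_isIsoclinicOn (hτ : GoodTwist τ) (F : N →ₛₗ[τ] N) (μ : ℚ)
    (t : Finset (Submodule 𝕃 N))
    (ht : ∀ P ∈ t, (∀ x ∈ P, F x ∈ P) ∧ IsIsoclinicOn F P μ) :
    (∀ x ∈ t.sup id, F x ∈ t.sup id) ∧ IsIsoclinicOn F (t.sup id) μ := by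
  classical
  induction t using Finset.induction_on with
  | empty =>
    refine ⟨fun x hx => ?_, ?_⟩
    · rw [Finset.sup_empty] at hx ⊢
      rw [(Submodule.mem_bot 𝕃).mp hx, map_zero]
      exact Submodule.zero_mem _
    · rw [Finset.sup_empty]
      exact isIsoclinicOn_bot F μ
  | insert P t hPt ih =>
    obtain ⟨ih1, ih2⟩ := ih (fun Q hQ => ht Q (Finset.mem_insert_of_mem hQ))
    obtain ⟨hP1, hP2⟩ := ht P (Finset.mem_insert_self P t)
    rw [Finset.sup_insert, id]
    refine ⟨fun x hx => ?_, hP2.sup hτ ih2⟩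
    obtain ⟨a, ha, b, hb, rfl⟩ := Submodule.mem_sup.mp hx
    rw [map_add]
    exact Submodule.add_mem _ (Submodule.mem_sup_left (hP1 a ha))
      (Submodule.mem_sup_right (ih1 b hb))

/-- The slope-`μ` part is `F`-stable and isoclinic of slope `μ`. -/
theorem slopePart_isIsoclinic [Module.Finite 𝕃 N] (hτ : GoodTwist τ) (F : N →ₛₗ[τ] N) (μ : ℚ) :
    ∃ hP : ∀ x ∈ slopePart F μ, F x ∈ slopePart F μ, IsIsoclinic (F.restrict hP) μ := by
  have hfc := CompleteLattice.WellFoundedGT.isSupFiniteCompact (Submodule 𝕃 N)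
  obtain ⟨t, ht, hsup⟩ := hfc
    {P : Submodule 𝕃 N | ∃ hP : ∀ x ∈ P, F x ∈ P, IsIsoclinic (F.restrict hP) μ}
  have key : ∀ Q : Submodule 𝕃 N, Q = t.sup id →
      ∃ hP : ∀ x ∈ Q, F x ∈ Q, IsIsoclinic (F.restrict hP) μ := by
    rintro Q rfl
    have := finset_sup_stable_isIsoclinicOn hτ F μ t (fun P hP => by
      obtain ⟨hP1, hP2⟩ := ht hP
      exact ⟨hP1, (isIsoclinic_restrict_iff F P hP1 μ).mp hP2⟩)
    exact ⟨this.1, (isIsoclinic_restrict_iff F _ this.1 μ).mpr this.2⟩
  exact key _ hsup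

end slopePart

end Groth.Agent.Lib.Isoc76
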