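import Groth.Agent.Lib.Isoc76K

set_option autoImplicit false
set_option linter.unusedSectionVars false

/-!
# Isocrystals, part L: quotient isocrystals (helper76)
-/

namespace Groth.Agent.Lib.Isoc76

open Isoc Filter Topology Matrix
open scoped Pointwise

universe u v

section quot

variable {p : ℕ} [Fact p.Prime] {k : Type u} [Field k] [CharP k p] [PerfectRing k p]
variable {N : Type v} [AddCommGroup N] [Module (WittVector p k) N]
  [Module (FractionRing (WittVector p k)) N]
  [IsScalarTower (WittVector p k) (FractionRing (WittVector p k)) N]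

local notation "𝕎" => WittVector p k
local notation "𝕃" => FractionRing (WittVector p k)

variable {τ : FractionRing (WittVector p k) →+* FractionRing (WittVector p k)}

/-- The projection onto the quotient by an `L`-subspace, as a `W`-linear map. -/
noncomputable def quotProj (P : Submodule 𝕃 N) : N →ₗ[𝕎] N ⧸ P := P.mkQ.restrictScalars 𝕎

theorem quotProj_apply (P : Submodule 𝕃 N) (x : N) : quotProj P x = P.mkQ x := rfl

theorem quotProj_smul (P : Submodule 𝕃 N) (c : 𝕃) (x : N) :
    quotProj P (c • x) = c • quotProj P x := P.mkQ.map_smul c x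

theorem iterate_mapQ (F : N →ₛₗ[τ] N) (P : Submodule 𝕃 N) (hP : P ≤ P.comap F) (s : ℕ) (x : N) :
    (⇑(P.mapQ P F hP))^[s] (quotProj P x) = quotProj P ((⇑F)^[s] x) := by
  induction s with
  | zero => rfl
  | succ s ih =>
    rw [Function.iterate_succ_apply', ih, Function.iterate_succ_apply']
    rfl

theorem latImg_mapQ (F : N →ₛₗ[τ] N) (P : Submodule 𝕃 N) (hP : P ≤ P.comap F) (s : ℕ)
    (M : Submodule 𝕎 N) :
    latImg (P.mapQ P F hP) s (M.map (quotProj P)) = (latImg F s M).map (quotProj P) := by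
  unfold latImg
  rw [Submodule.map_span]
  congr 1
  ext y
  simp only [Set.mem_image, SetLike.mem_coe, Submodule.mem_map]
  constructor
  · rintro ⟨_, ⟨x, hx, rfl⟩, rfl⟩
    exact ⟨_, ⟨x, hx, rfl⟩, (iterate_mapQ F P hP s x).symm⟩
  · rintro ⟨_, ⟨x, hx, rfl⟩, rfl⟩
    exact ⟨_, ⟨x, hx, rfl⟩, iterate_mapQ F P hP s x⟩

theorem pPow_map_quotProj (P : Submodule 𝕃 N) (r : ℤ) (M : Submodule 𝕎 N) :
    pPow r (M.map (quotProj P)) = (pPow r M).map (quotProj P) := by
  ext y
  rw [mem_pPow_iff, Submodule.mem_map, Submodule.mem_map]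
  constructor
  · rintro ⟨x, hx, hxy⟩
    refine ⟨((p : 𝕃) ^ r) • x, ?_, ?_⟩
    · rw [mem_pPow_iff, smul_smul, ← zpow_add₀ pL_ne_zero, neg_add_cancel, zpow_zero, one_smul]
      exact hx
    · rw [quotProj_smul, hxy, smul_smul, ← zpow_add₀ pL_ne_zero, add_neg_cancel, zpow_zero,
        one_smul]
  · rintro ⟨x, hx, rfl⟩
    rw [mem_pPow_iff] at hx
    exact ⟨_, hx, quotProj_smul P _ x⟩

theorem isLattice_map_quotProj (P : Submodule 𝕃 N) (M : Submodule 𝕎 N) (hM : M.IsLattice 𝕃) :
    (M.map (quotProj P)).IsLattice 𝕃 := by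
  refine ⟨hM.fg.map _, ?_⟩
  have hspan : Submodule.span 𝕃 ((M.map (quotProj P) : Submodule 𝕎 (N ⧸ P)) : Set (N ⧸ P))
      = (Submodule.span 𝕃 (M : Set N)).map P.mkQ := by
    rw [Submodule.map_span]
    rfl
  rw [hspan, hM.span_eq_top, Submodule.map_top, Submodule.range_mkQ]

/-- Quotients of an isoclinic isocrystal are isoclinic of the same slope. -/
theorem isIsoclinic_mapQ (F : N →ₛₗ[τ] N) {μ : ℚ} (hμ : IsIsoclinic F μ) (P : Submodule 𝕃 N)
    (hP : P ≤ P.comap F) : IsIsoclinic (P.mapQ P F hP) μ := by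
  obtain ⟨M, hM, r, s, hs, hrs, heq⟩ := hμ
  exact ⟨M.map (quotProj P), isLattice_map_quotProj P M hM, r, s, hs, hrs, by
    rw [latImg_mapQ, heq, pPow_map_quotProj]⟩

end quot

end Groth.Agent.Lib.Isoc76
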