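import Groth.Agent.Lib.Isoc76L

set_option autoImplicit false
set_option linter.unusedSectionVars false

/-!
# Isocrystals, part M: no morphisms between isoclinic isocrystals of different slopes (helper76)
-/

namespace Groth.Agent.Lib.Isoc76

open Isoc Filter Topology Matrix
open scoped Pointwise

universe u v w

section hom

variable {p : ℕ} [Fact p.Prime] {k : Type u} [Field k] [CharP k p] [PerfectRing k p]
variable {N₁ : Type v} [AddCommGroup N₁] [Module (WittVector p k) N₁]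
  [Module (FractionRing (WittVector p k)) N₁]
  [IsScalarTower (WittVector p k) (FractionRing (WittVector p k)) N₁]
variable {N₂ : Type w} [AddCommGroup N₂] [Module (WittVector p k) N₂]
  [Module (FractionRing (WittVector p k)) N₂]
  [IsScalarTower (WittVector p k) (FractionRing (WittVector p k)) N₂]

local notation "𝕎" => WittVector p k
local notation "𝕃" => FractionRing (WittVector p k)

variable {τ : FractionRing (WittVector p k) →+* FractionRing (WittVector p k)}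

theorem iterate_comm_of_comm (F₁ : N₁ →ₛₗ[τ] N₁) (F₂ : N₂ →ₛₗ[τ] N₂) (f : N₁ →ₗ[𝕃] N₂)
    (hf : ∀ x : N₁, f (F₁ x) = F₂ (f x)) (n : ℕ) (x : N₁) :
    f ((⇑F₁)^[n] x) = (⇑F₂)^[n] (f x) :=
  (Function.Semiconj.iterate_right (f := ⇑f) (ga := ⇑F₁) (gb := ⇑F₂) hf n) x

/-- Core: `F₁^S M₁ = p^{R₁} M₁`, `F₂^S M₂ = p^{R₂} M₂`, `R₁ ≠ R₂` ⇒ every morphism is zero. -/
theorem hom_eq_zero_of_latImg_eq (hτ : GoodTwist τ) (F₁ : N₁ →ₛₗ[τ] N₁) (F₂ : N₂ →ₛₗ[τ] N₂)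
    (hF₂ : Function.Injective F₂)
    (M₁ : Submodule 𝕎 N₁) (hM₁ : M₁.IsLattice 𝕃) (M₂ : Submodule 𝕎 N₂) (hM₂ : M₂.IsLattice 𝕃)
    (S : ℕ) (R₁ R₂ : ℤ) (E₁ : latImg F₁ S M₁ = pPow R₁ M₁) (E₂ : latImg F₂ S M₂ = pPow R₂ M₂)
    (hne : R₁ ≠ R₂) (f : N₁ →ₗ[𝕃] N₂) (hf : ∀ x : N₁, f (F₁ x) = F₂ (f x)) : f = 0 := by
  obtain ⟨c, hc⟩ := exists_le_pPow_neg (M₁.map (f.restrictScalars 𝕎)) M₂ (hM₁.fg.map _) hM₂
  have hfc : ∀ x ∈ M₁, f x ∈ pPow (-(c : ℤ)) M₂ := fun x hx => hc ⟨x, hx, rfl⟩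
  have hp0 : ∀ m : ℤ, (p : 𝕃) ^ m ≠ 0 := fun m => zpow_ne_zero m pL_ne_zero
  -- the key claim
  have key : ∀ x ∈ M₁, ∀ j : ℕ, f x ∈ pPow ((j : ℤ) * |R₂ - R₁| - c) M₂ := by
    intro x hx j
    have e₁ := latImg_mul_eq_pPow hτ F₁ E₁ j
    have e₂ := latImg_mul_eq_pPow hτ F₂ E₂ j
    rcases lt_or_gt_of_ne hne with hlt | hgt
    · -- `R₁ < R₂`
      have habs : |R₂ - R₁| = R₂ - R₁ := abs_of_pos (sub_pos.mpr hlt)
      have h1 : ((p : 𝕃) ^ ((j : ℤ) * R₁)) • x ∈ latImg F₁ (j * S) M₁ := by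
        rw [e₁]; exact smul_mem_pPow hx
      obtain ⟨xj, hxj, hxjeq⟩ := (mem_latImg_iff hτ F₁ (j * S) M₁ _).mp h1
      have h2 : ((p : 𝕃) ^ ((j : ℤ) * R₁)) • f x = (⇑F₂)^[j * S] (f xj) := by
        rw [← iterate_comm_of_comm F₁ F₂ f hf, hxjeq, map_smul]
      have h3 : (⇑F₂)^[j * S] (f xj) ∈ pPow (-(c : ℤ) + (j : ℤ) * R₂) M₂ := by
        have := iterate_mem_latImg F₂ (j * S) (hfc xj hxj)
        rwa [latImg_pPow hτ, e₂, pPow_pPow] at this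
      rw [← h2, mem_pPow_iff, smul_smul, ← zpow_add₀ pL_ne_zero] at h3
      rw [mem_pPow_iff, habs]
      have : -(-(c : ℤ) + (j : ℤ) * R₂) + (j : ℤ) * R₁ = -((j : ℤ) * (R₂ - R₁) - c) := by ring
      rwa [this] at h3
    · -- `R₂ < R₁`
      have habs : |R₂ - R₁| = R₁ - R₂ := by
        rw [abs_of_neg (sub_neg.mpr hgt)]; ring
      have h1 : (⇑F₁)^[j * S] x ∈ pPow ((j : ℤ) * R₁) M₁ := by
        rw [← e₁]; exact iterate_mem_latImg F₁ (j * S) hx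
      rw [mem_pPow_iff] at h1
      have h2 := hfc _ h1
      rw [map_smul, iterate_comm_of_comm F₁ F₂ f hf, ← mem_pPow_iff, pPow_pPow] at h2
      have h3 : pPow ((j : ℤ) * R₁ + -(c : ℤ)) M₂
          = latImg F₂ (j * S) (pPow ((j : ℤ) * |R₂ - R₁| - c) M₂) := by
        rw [latImg_pPow hτ, e₂, pPow_pPow, habs]
        congr 1
        ring
      rw [h3] at h2
      obtain ⟨z, hz, hzeq⟩ := (mem_latImg_iff hτ F₂ (j * S) _ _).mp h2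
      have : z = f x := hF₂.iterate (j * S) hzeq
      rw [← this]
      exact hz
  have hpos : 1 ≤ |R₂ - R₁| := by
    have : 0 < |R₂ - R₁| := abs_pos.mpr (sub_ne_zero.mpr (Ne.symm hne))
    omega
  have hzero : ∀ x ∈ M₁, f x = 0 := by
    intro x hx
    apply iInf_pPow_eq_bot M₂ hM₂
    intro t
    have h1 := key x hx (t + c).toNat
    refine pPow_anti ?_ M₂ h1
    have h2 : t + c ≤ ((t + c).toNat : ℤ) := Int.self_le_toNat _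
    have h3 : (0 : ℤ) ≤ ((t + c).toNat : ℤ) := Int.natCast_nonneg _
    nlinarith
  refine LinearMap.ext (fun x => ?_)
  obtain ⟨n, hn⟩ := exists_pow_smul_mem M₁ hM₁ x
  have h1 := hzero _ hn
  rw [map_smul, smul_eq_zero] at h1
  rcases h1 with h1 | h1
  · exact absurd h1 (pow_ne_zero n pL_ne_zero)
  · rw [h1]; rfl

/-- No non-zero morphisms between isoclinic isocrystals of different slopes. -/
theorem hom_eq_zero_of_isIsoclinic (hτ : GoodTwist τ) (F₁ : N₁ →ₛₗ[τ] N₁) (F₂ : N₂ →ₛₗ[τ] N₂)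
    (hF₂ : Function.Injective F₂) {μ₁ μ₂ : ℚ} (hμ₁ : IsIsoclinic F₁ μ₁) (hμ₂ : IsIsoclinic F₂ μ₂)
    (hne : μ₁ ≠ μ₂) (f : N₁ →ₗ[𝕃] N₂) (hf : ∀ x : N₁, f (F₁ x) = F₂ (f x)) : f = 0 := by
  obtain ⟨M₁, hM₁, r₁, s₁, hs₁, hrs₁, heq₁⟩ := hμ₁
  obtain ⟨M₂, hM₂, r₂, s₂, hs₂, hrs₂, heq₂⟩ := hμ₂
  have e₁ := latImg_mul_eq_pPow hτ F₁ heq₁ s₂
  have e₂ := latImg_mul_eq_pPow hτ F₂ heq₂ s₁
  rw [mul_comm s₁ s₂] at e₂
  refine hom_eq_zero_of_latImg_eq hτ F₁ F₂ hF₂ M₁ hM₁ M₂ hM₂ (s₂ * s₁) _ _ e₁ e₂ ?_ f hf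
  intro h
  apply hne
  have hs₁' : (s₁ : ℚ) ≠ 0 := by exact_mod_cast hs₁.ne'
  have hs₂' : (s₂ : ℚ) ≠ 0 := by exact_mod_cast hs₂.ne'
  have h' : ((s₂ : ℤ) * r₁ : ℚ) = ((s₁ : ℤ) * r₂ : ℚ) := by exact_mod_cast h
  rw [← hrs₁, ← hrs₂, div_eq_div_iff hs₁' hs₂']
  push_cast at h'
  linarith

end hom

end Groth.Agent.Lib.Isoc76
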