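import Groth.Agent.Lib.Isoc76M
import Mathlib.LinearAlgebra.Matrix.ToLinearEquiv
import Mathlib.Logic.Equiv.Fin.Rotate

set_option autoImplicit false
set_option linter.unusedSectionVars false

/-!
# Isocrystals, part N: spans, determinant non-vanishing, the standard isocrystal (helper76)
-/

namespace Groth.Agent.Lib.Isoc76

open Isoc Filter Topology Matrix
open scoped Pointwise

universe u v

section general

variable {p : ℕ} [Fact p.Prime] {k : Type u} [Field k] [CharP k p] [PerfectRing k p]
variable {N : Type v} [AddCommGroup N] [Module (WittVector p k) N]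
  [Module (FractionRing (WittVector p k)) N]
  [IsScalarTower (WittVector p k) (FractionRing (WittVector p k)) N]

local notation "𝕎" => WittVector p k
local notation "𝕃" => FractionRing (WittVector p k)

variable {τ : FractionRing (WittVector p k) →+* FractionRing (WittVector p k)}
variable {n : ℕ}

theorem latImg_span (hτ : GoodTwist τ) (F : N →ₛₗ[τ] N) (s : ℕ) (S : Set N) :
    latImg F s (Submodule.span 𝕎 S) = Submodule.span 𝕎 ((⇑F)^[s] '' S) := by
  apply le_antisymm
  · rw [latImg_le_iff]
    intro x hx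
    induction hx using Submodule.span_induction with
    | mem y hy => exact Submodule.subset_span ⟨y, hy, rfl⟩
    | zero => rw [iterate_zero]; exact Submodule.zero_mem _
    | add y z _ _ hy hz => rw [iterate_add]; exact Submodule.add_mem _ hy hz
    | smul w y _ hy =>
      obtain ⟨e, he⟩ := hτ.pow s
      rw [← algebraMap_smul 𝕃 w y, iterate_smul, he, algebraMap_smul]
      exact Submodule.smul_mem _ _ hy
  · exact Submodule.span_mono (Set.image_mono Submodule.subset_span)

theorem pPow_span (r : ℤ) (S : Set N) :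
    pPow r (Submodule.span 𝕎 S) = Submodule.span 𝕎 ((fun x => ((p : 𝕃) ^ r) • x) '' S) := by
  unfold pPow
  rw [Submodule.smul_span]
  rfl

/-- The matrix of an injective semilinear endomorphism (good twist) has non-zero determinant. -/
theorem det_matOf_ne_zero (hτ : GoodTwist τ) (b : Module.Basis (Fin n) 𝕃 N) (F : N →ₛₗ[τ] N)
    (hF : Function.Injective F) : (matOf b F).det ≠ 0 := by
  intro h0
  obtain ⟨v, hv, hAv⟩ := Matrix.exists_mulVec_eq_zero_iff.mpr h0
  choose v' hv' using fun j => hτ.surjective (v j)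
  set x : N := ∑ j, v' j • b j with hx
  have hxrepr : ∀ j, b.repr x j = v' j := by
    intro j
    rw [hx, map_sum, Finsupp.coe_finsetSum, Finset.sum_apply]
    rw [Finset.sum_eq_single j]
    · rw [map_smul, Finsupp.smul_apply, b.repr_self, Finsupp.single_eq_same, smul_eq_mul, mul_one]
    · intro i _ hij
      rw [map_smul, Finsupp.smul_apply, b.repr_self, Finsupp.single_apply, if_neg hij, smul_zero]
    · intro hj; exact absurd (Finset.mem_univ j) hj
  have hFx : F x = 0 := by
    apply b.repr.injective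
    ext i
    rw [repr_apply_semilinear, map_zero, Finsupp.zero_apply]
    have := congrFun hAv i
    rw [Matrix.mulVec, dotProduct, Pi.zero_apply] at this
    rw [← this]
    refine Finset.sum_congr rfl (fun j _ => ?_)
    rw [hxrepr, hv']
  have hx0 : x = 0 := hF (by rw [hFx, map_zero])
  apply hv
  funext j
  rw [← hv' j, ← hxrepr j, hx0, map_zero, Finsupp.zero_apply, map_zero, Pi.zero_apply]

theorem exists_isOrdP_detCoeff (hτ : GoodTwist τ) (b : Module.Basis (Fin n) 𝕃 N)
    (F : N →ₛₗ[τ] N) (hF : Function.Injective F) : ∃ d : ℤ, IsOrdP (detCoeff b F) d :=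
  exists_isOrdP (det_matOf_ne_zero hτ b F hF)

end general

section std

variable {p : ℕ} [Fact p.Prime] {k : Type u} [Field k] [CharP k p] [PerfectRing k p]

local notation "𝕎" => WittVector p k
local notation "𝕃" => FractionRing (WittVector p k)

variable {τ : FractionRing (WittVector p k) →+* FractionRing (WittVector p k)}

theorem stdIsoc_injective (τ : 𝕃 →+* 𝕃) (d : ℤ) (h : ℕ) :
    Function.Injective (stdIsoc τ d h) := by
  rw [injective_iff_map_eq_zero]
  intro x hx
  funext i
  have h1 := congrFun hx (finRotate h i)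
  rw [stdIsoc_apply, Equiv.symm_apply_apply, Pi.zero_apply, mul_eq_zero] at h1
  rcases h1 with h1 | h1
  · exfalso
    split_ifs at h1
    · exact zpow_ne_zero d pL_ne_zero h1
    · exact one_ne_zero h1
  · exact (map_eq_zero τ).mp h1

theorem stdIsoc_single (τ : 𝕃 →+* 𝕃) (d : ℤ) (h : ℕ) (j : Fin h) :
    stdIsoc τ d h (Pi.single j 1)
      = (if (finRotate h j).val = 0 then (p : 𝕃) ^ d else 1) • Pi.single (finRotate h j) 1 := by
  funext i
  rw [stdIsoc_apply, Pi.smul_apply, smul_eq_mul]
  by_cases hi : i = finRotate h j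
  · subst hi
    rw [Equiv.symm_apply_apply, Pi.single_eq_same, Pi.single_eq_same, map_one]
  · have h1 : (finRotate h).symm i ≠ j := by
      intro h2
      apply hi
      rw [← h2, Equiv.apply_symm_apply]
    rw [Pi.single_eq_of_ne h1, Pi.single_eq_of_ne hi, map_zero, mul_zero, mul_zero]

theorem iterate_stdIsoc_single_zero (τ : 𝕃 →+* 𝕃) (d : ℤ) (m : ℕ) (n : ℕ) (hn : n < m + 1) :
    (⇑(stdIsoc τ d (m + 1)))^[n] (Pi.single 0 1) = Pi.single ⟨n, hn⟩ 1 := by
  induction n with
  | zero => rfl
  | succ n ih =>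
    have hn' : n < m := Nat.lt_of_succ_lt_succ hn
    rw [Function.iterate_succ_apply', ih (Nat.lt_of_succ_lt hn), stdIsoc_single,
      finRotate_of_lt hn', if_neg (Nat.succ_ne_zero n), one_smul]

theorem iterate_stdIsoc_single_zero_top (τ : 𝕃 →+* 𝕃) (d : ℤ) (m : ℕ) :
    (⇑(stdIsoc τ d (m + 1)))^[m + 1] (Pi.single 0 1)
      = ((p : 𝕃) ^ d) • (Pi.single 0 1 : Fin (m + 1) → 𝕃) := by
  rw [Function.iterate_succ_apply', iterate_stdIsoc_single_zero τ d m m (Nat.lt_succ_self m),
    stdIsoc_single]
  have : finRotate (m + 1) ⟨m, Nat.lt_succ_self m⟩ = 0 := finRotate_last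
  rw [this]
  simp

theorem iterate_stdIsoc_single (hτ : GoodTwist τ) (d : ℤ) (h : ℕ) (i : Fin h) :
    (⇑(stdIsoc τ d h))^[h] (Pi.single i 1) = ((p : 𝕃) ^ d) • (Pi.single i 1 : Fin h → 𝕃) := by
  obtain ⟨m, rfl⟩ : ∃ m, h = m + 1 := Nat.exists_eq_succ_of_ne_zero (Fin.pos i).ne'
  have h1 := iterate_stdIsoc_single_zero τ d m i.val i.isLt
  rw [Fin.eta] at h1
  have h2 : ∀ (f : (Fin (m + 1) → 𝕃) → (Fin (m + 1) → 𝕃)) (a b : ℕ) (x : Fin (m + 1) → 𝕃),
      f^[a] (f^[b] x) = f^[b] (f^[a] x) := fun f a b x => by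
    rw [← Function.iterate_add_apply, ← Function.iterate_add_apply, add_comm a b]
  rw [← h1, h2, iterate_stdIsoc_single_zero_top, iterate_smul, (hτ.pow _).map_zpow]

/-- The standard lattice `W^h` of `L^h`. -/
noncomputable def stdLattice (p : ℕ) [Fact p.Prime] (k : Type u) [Field k] [CharP k p]
    [PerfectRing k p] (h : ℕ) :
    Submodule (WittVector p k) (Fin h → FractionRing (WittVector p k)) :=
  Submodule.span (WittVector p k)
    (Set.range (fun i : Fin h => (Pi.single i 1 : Fin h → FractionRing (WittVector p k))))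

theorem isLattice_stdLattice (h : ℕ) : (stdLattice p k h).IsLattice 𝕃 := by
  refine ⟨Submodule.fg_span (Set.finite_range _), ?_⟩
  unfold stdLattice
  rw [Submodule.span_span_of_tower]
  have := (Pi.basisFun 𝕃 (Fin h)).span_eq
  rw [← this]
  congr 2
  funext i
  rw [Pi.basisFun_apply]

theorem latImg_stdIsoc (hτ : GoodTwist τ) (d : ℤ) (h : ℕ) :
    latImg (stdIsoc τ d h) h (stdLattice p k h) = pPow d (stdLattice p k h) := by
  unfold stdLattice
  rw [latImg_span hτ, pPow_span]
  congr 1
  apply Set.image_congr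
  rintro _ ⟨i, rfl⟩
  exact iterate_stdIsoc_single hτ d h i

/-- The standard isocrystal `N_{d/h}` is isoclinic of slope `d/h`. -/
theorem isIsoclinic_stdIsoc (hτ : GoodTwist τ) (d : ℤ) (h : ℕ) (hh : 0 < h) :
    IsIsoclinic (stdIsoc τ d h) ((d : ℚ) / h) :=
  ⟨stdLattice p k h, isLattice_stdLattice h, d, h, hh, rfl, latImg_stdIsoc hτ d h⟩

end std

end Groth.Agent.Lib.Isoc76
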