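import Groth.Agent.Lib.Isoc76N

set_option autoImplicit false
set_option linter.unusedSectionVars false

/-!
# Isocrystals, part O: the standard isocrystal is simple (helper76)
-/

namespace Groth.Agent.Lib.Isoc76

open Isoc Filter Topology Matrix
open scoped Pointwise

universe u v

section general

variable {p : ℕ} [Fact p.Prime] {k : Type u} [Field k] [CharP k p] [PerfectRing k p]
variable {N : Type v} [AddCommGroup N] [Module (WittVector p k) N]
  [Module (FractionRing (WittVector p k)) N]
  [IsScalarTower (WittVector p k) (FractionRing (WittVector p k)) N]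

local notation "𝕎" => WittVector p k
local notation "𝕃" => FractionRing (WittVector p k)

variable {τ : FractionRing (WittVector p k) →+* FractionRing (WittVector p k)}

theorem restrict_injective (F : N →ₛₗ[τ] N) (hF : Function.Injective F) (P : Submodule 𝕃 N)
    (hP : ∀ x ∈ P, F x ∈ P) : Function.Injective (F.restrict hP) := by
  intro x y hxy
  have h1 : F (x : N) = F (y : N) := congrArg Subtype.val hxy
  exact Subtype.ext (hF h1)

/-- For an `F`-stable subspace `P` of an isocrystal which is isoclinic of slope `d/h`, the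
dimension `h'` of `P` and `d' = orddet (F|P)` satisfy `d' h = d h'`. -/
theorem exists_ord_det_restrict [Module.Finite 𝕃 N] (hτ : GoodTwist τ) (F : N →ₛₗ[τ] N)
    (hF : Function.Injective F) {d : ℤ} {h : ℕ} (hh : 0 < h)
    (hiso : IsIsoclinic F ((d : ℚ) / h)) (P : Submodule 𝕃 N)
    (hP : ∀ x ∈ P, F x ∈ P) :
    ∃ d' : ℤ, IsOrdP (detCoeff (Module.finBasis 𝕃 P) (F.restrict hP)) d' ∧
      d' * h = d * (Module.finrank 𝕃 P : ℕ) := by
  have hon := isIsoclinicOn_of_stable hτ F hF hiso P hP
  obtain ⟨M', hM', r, s, hs, hrs, heq⟩ := (isIsoclinic_restrict_iff F P hP _).mpr hon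
  obtain ⟨d', hd'⟩ := exists_isOrdP_detCoeff hτ (Module.finBasis 𝕃 P) (F.restrict hP)
    (restrict_injective F hF P hP)
  refine ⟨d', hd', ?_⟩
  have e1 := mul_eq_mul_of_latImg_eq hτ (F.restrict hP) (Module.finBasis 𝕃 P) hd' M' hM' heq
  have hs' : (s : ℚ) ≠ 0 := by exact_mod_cast hs.ne'
  have hh' : (h : ℚ) ≠ 0 := by exact_mod_cast hh.ne'
  have e2 : r * h = d * s := by
    have := (div_eq_div_iff hs' hh').mp hrs
    exact_mod_cast this
  have hs0 : (s : ℤ) ≠ 0 := by exact_mod_cast hs.ne'
  apply mul_left_cancel₀ hs0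
  calc (s : ℤ) * (d' * h) = (s * d') * h := by ring
    _ = (r * (Module.finrank 𝕃 P : ℕ)) * h := by rw [e1]
    _ = (r * h) * (Module.finrank 𝕃 P : ℕ) := by ring
    _ = (d * s) * (Module.finrank 𝕃 P : ℕ) := by rw [e2]
    _ = (s : ℤ) * (d * (Module.finrank 𝕃 P : ℕ)) := by ring

end general

section std

variable {p : ℕ} [Fact p.Prime] {k : Type u} [Field k] [CharP k p] [PerfectRing k p]

local notation "𝕎" => WittVector p k
local notation "𝕃" => FractionRing (WittVector p k)

variable {τ : FractionRing (WittVector p k) →+* FractionRing (WittVector p k)}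

/-- The standard isocrystal `N_{d/h}` with `gcd(d, h) = 1` is simple. -/
theorem eq_bot_or_eq_top_of_stable_stdIsoc (hτ : GoodTwist τ) (d : ℤ) (h : ℕ) (hh : 0 < h)
    (hdh : Int.gcd d h = 1) (P : Submodule 𝕃 (Fin h → 𝕃))
    (hP : ∀ x ∈ P, stdIsoc τ d h x ∈ P) : P = ⊥ ∨ P = ⊤ := by
  obtain ⟨d', _, e⟩ := exists_ord_det_restrict hτ (stdIsoc τ d h) (stdIsoc_injective τ d h) hh
    (isIsoclinic_stdIsoc hτ d h hh) P hP
  set h' := Module.finrank 𝕃 P with hh'
  have hdvd : (h : ℤ) ∣ (h' : ℤ) := by
    have h1 : (h : ℤ) ∣ d * (h' : ℤ) := ⟨d', by rw [← e]; ring⟩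
    exact Int.dvd_of_dvd_mul_right_of_gcd_one h1 (by rw [Int.gcd_comm]; exact hdh)
  have hdvd' : h ∣ h' := Int.natCast_dvd_natCast.mp hdvd
  have hle : h' ≤ h := by
    have := Submodule.finrank_le P
    rwa [Module.finrank_fin_fun] at this
  obtain ⟨c, hc⟩ := hdvd'
  rcases Nat.eq_zero_or_pos c with hc0 | hc0
  · left
    rw [hc0, mul_zero] at hc
    exact Submodule.finrank_eq_zero.mp hc
  · right
    have : h ≤ h' := by rw [hc]; exact Nat.le_mul_of_pos_right h hc0
    have heq : h' = h := le_antisymm hle this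
    apply Submodule.eq_top_of_finrank_eq
    rw [Module.finrank_fin_fun]
    exact heq

end std

end Groth.Agent.Lib.Isoc76
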