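import Groth.Agent.Lib.Isoc76O
import Mathlib.FieldTheory.Finite.Basic
import Mathlib.Algebra.CharP.Algebra

set_option autoImplicit false
set_option linter.unusedSectionVars false

/-!
# Isocrystals, part P: characteristic zero, Frobenius of finite order over a finite field, and the
non-semisimple example (helper76)
-/

namespace Groth.Agent.Lib.Isoc76

open Isoc Filter Topology Matrix
open scoped Pointwise

universe u v

section charzero

variable {p : ℕ} [Fact p.Prime] {k : Type u} [Field k] [CharP k p] [PerfectRing k p]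

local notation "𝕎" => WittVector p k
local notation "𝕃" => FractionRing (WittVector p k)

theorem charZero_witt : CharZero (WittVector p k) := by
  obtain ⟨c, hc⟩ := CharP.exists (WittVector p k)
  rcases CharP.char_is_prime_or_zero (WittVector p k) c with hprime | h0
  · exfalso
    have h1 : ((c : ℕ) : WittVector p k) = 0 := CharP.cast_eq_zero (WittVector p k) c
    have h2 : ((c : ℕ) : k) = 0 := by
      have := congrArg (WittVector.constantCoeff (p := p) (R := k)) h1
      rwa [map_natCast, map_zero] at this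
    have h3 : p ∣ c := (CharP.cast_eq_zero_iff k p c).mp h2
    have h4 : p = c := (Nat.prime_dvd_prime_iff_eq Fact.out hprime).mp h3
    subst h4
    exact WittVector.p_nonzero p k h1
  · subst h0
    exact CharP.charP_to_charZero (WittVector p k)

theorem charZero_fractionRing_witt : CharZero (FractionRing (WittVector p k)) := by
  have := charZero_witt (p := p) (k := k)
  infer_instance

/-- Over a finite field with `x^(p^m) = x`, the `m`-th power of `σ` is the identity on `L`. -/
theorem frob_one_pow_eq_id (m : ℕ) (hm : ∀ x : k, x ^ p ^ m = x) (c : 𝕃) :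
    ((frob p k 1) ^ m) c = c := by
  have hW : ∀ w : 𝕎, ((frob p k 1) ^ m) (algebraMap 𝕎 𝕃 w) = algebraMap 𝕎 𝕃 w := by
    intro w
    have h1 : ∀ n : ℕ, ((frob p k 1) ^ n) (algebraMap 𝕎 𝕃 w)
        = algebraMap 𝕎 𝕃 ((WittVector.frobenius)^[n] w) := by
      intro n
      induction n with
      | zero => rfl
      | succ n ih =>
        rw [pow_succ', RingHom.mul_def, RingHom.comp_apply, ih, frob_algebraMap,
          Function.iterate_succ_apply', zpow_one]
        rfl
    rw [h1 m]
    congr 1
    ext i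
    rw [WittVector.iterate_frobenius_coeff, hm]
  obtain ⟨a, b, hb, rfl⟩ := IsFractionRing.div_surjective (A := 𝕎) c
  rw [map_div₀, hW, hW]

end charzero

section example2

variable {p : ℕ} [Fact p.Prime] {k : Type u} [Field k] [CharP k p] [PerfectRing k p]

local notation "𝕎" => WittVector p k
local notation "𝕃" => FractionRing (WittVector p k)

/-- Over a finite field there is no `c ∈ L` with `c = σ(c) + 1`. -/
theorem not_exists_eq_frob_add_one [Finite k] (c : 𝕃) : c ≠ frob p k 1 c + 1 := by
  intro hc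
  let _ := Fintype.ofFinite k
  obtain ⟨n, _, hn⟩ := FiniteField.card k p
  have hm : ∀ x : k, x ^ p ^ (n : ℕ) = x := fun x => by
    rw [← hn]; exact FiniteField.pow_card x
  have hid := frob_one_pow_eq_id (n : ℕ) hm
  have h1 : ∀ j : ℕ, c = ((frob p k 1) ^ j) c + j := by
    intro j
    induction j with
    | zero => rw [pow_zero, Nat.cast_zero, add_zero]; rfl
    | succ j ih =>
      have h2 : frob p k 1 c = ((frob p k 1) ^ (j + 1)) c + j := by
        conv_lhs => rw [ih]
        rw [map_add, map_natCast, pow_succ', RingHom.mul_def, RingHom.comp_apply]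
      calc c = frob p k 1 c + 1 := hc
        _ = ((frob p k 1) ^ (j + 1)) c + ((j + 1 : ℕ) : 𝕃) := by
          rw [h2]; push_cast; ring
  have h3 := h1 (n : ℕ)
  rw [hid] at h3
  have := charZero_fractionRing_witt (p := p) (k := k)
  have h4 : ((n : ℕ) : 𝕃) = 0 := by
    have : c + 0 = c + ((n : ℕ) : 𝕃) := by rw [add_zero]; exact h3
    exact (add_left_cancel this).symm
  have h5 : (n : ℕ) = 0 := by exact_mod_cast h4
  exact n.pos.ne' h5

/-- The isocrystal `(L², U)` with `U e₀ = e₀`, `U e₁ = e₀ + e₁` over a finite field: `L e₀` has no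
`U`-stable complement. -/
theorem not_isCompl_of_unipotent [Finite k]
    (U : (Fin 2 → 𝕃) →ₛₗ[frob p k 1] (Fin 2 → 𝕃))
    (hU0 : U (Pi.single 0 1) = Pi.single 0 1)
    (hU1 : U (Pi.single 1 1) = Pi.single 0 1 + Pi.single 1 1)
    (Q : Submodule 𝕃 (Fin 2 → 𝕃)) (hQ : ∀ x ∈ Q, U x ∈ Q) :
    ¬ IsCompl (Submodule.span 𝕃 {(Pi.single 0 1 : Fin 2 → 𝕃)}) Q := by
  intro hcompl
  set e₀ : Fin 2 → 𝕃 := Pi.single 0 1 with he₀
  set e₁ : Fin 2 → 𝕃 := Pi.single 1 1 with he₁
  have htop : e₁ ∈ Submodule.span 𝕃 {e₀} ⊔ Q := by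
    rw [hcompl.sup_eq_top]; exact Submodule.mem_top
  obtain ⟨y, hy, v, hv, hyv⟩ := Submodule.mem_sup.mp htop
  obtain ⟨a, rfl⟩ := Submodule.mem_span_singleton.mp hy
  -- `v = e₁ - a e₀`
  have hv' : v = (-a) • e₀ + (1 : 𝕃) • e₁ := by
    rw [neg_smul, one_smul, ← sub_eq_neg_add]
    exact eq_sub_of_add_eq' hyv
  have hUv : U v = (frob p k 1 (-a) + 1) • e₀ + (1 : 𝕃) • e₁ := by
    rw [hv', map_add, LinearMap.map_smulₛₗ, LinearMap.map_smulₛₗ, hU0, hU1, map_one,
      add_smul, one_smul, one_smul, one_smul, add_assoc]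
  have hdiff : U v - v = (frob p k 1 (-a) + 1 - (-a)) • e₀ := by
    rw [hUv, hv', add_sub_add_right_eq_sub, ← sub_smul]
  have hmem : U v - v ∈ Submodule.span 𝕃 {e₀} ⊓ Q :=
    ⟨by rw [hdiff]; exact Submodule.smul_mem _ _ (Submodule.mem_span_singleton_self _),
      Q.sub_mem (hQ v hv) hv⟩
  rw [hcompl.inf_eq_bot, Submodule.mem_bot, hdiff, smul_eq_zero] at hmem
  rcases hmem with h | h
  · apply not_exists_eq_frob_add_one (-a)
    linear_combination -h
  · have := congrFun h 0
    rw [he₀, Pi.single_eq_same, Pi.zero_apply] at this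
    exact one_ne_zero this

end example2

end Groth.Agent.Lib.Isoc76
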