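import Groth.Agent.Lib.Isoc76P

set_option autoImplicit false
set_option linter.unusedSectionVars false

/-!
# Isocrystals, part Q: relative order of lattices and the descending chain condition (helper76)

For lattices `K₁ ≤ K₂` with adapted bases the determinant of the change of basis matrix has a
non-negative order, which vanishes only if `K₁ = K₂`.  Consequence: a decreasing sequence of
lattices that is bounded below by a lattice is eventually constant.
-/

namespace Groth.Agent.Lib.Isoc76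

open Isoc Filter Topology Matrix
open scoped Pointwise

universe u v

section colen

variable {p : ℕ} [Fact p.Prime] {k : Type u} [Field k] [CharP k p] [PerfectRing k p]
variable {N : Type v} [AddCommGroup N] [Module (WittVector p k) N]
  [Module (FractionRing (WittVector p k)) N]
  [IsScalarTower (WittVector p k) (FractionRing (WittVector p k)) N]

local notation "𝕎" => WittVector p k
local notation "𝕃" => FractionRing (WittVector p k)

variable {n : ℕ}

/-- The basis `b` of `N` is adapted to the `W`-submodule `K`. -/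
def Adapted (b : Module.Basis (Fin n) 𝕃 N) (K : Submodule 𝕎 N) : Prop :=
  ∀ x : N, x ∈ K ↔ ∀ i, InPW 0 (b.repr x i)

theorem inPW_toMatrix {b₁ b₂ : Module.Basis (Fin n) 𝕃 N} {K₁ K₂ : Submodule 𝕎 N}
    (h₁ : Adapted b₁ K₁) (h₂ : Adapted b₂ K₂) (hle : K₁ ≤ K₂) (i j : Fin n) :
    InPW 0 (b₂.toMatrix b₁ i j) := by
  rw [Module.Basis.toMatrix_apply]
  exact (h₂ _).mp (hle (basis_mem_of_repr h₁ j)) i

theorem exists_relOrd {b₁ b₂ : Module.Basis (Fin n) 𝕃 N} {K₁ K₂ : Submodule 𝕎 N}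
    (h₁ : Adapted b₁ K₁) (h₂ : Adapted b₂ K₂) (hle : K₁ ≤ K₂) :
    ∃ v : ℤ, 0 ≤ v ∧ IsOrdP (b₂.toMatrix b₁).det v := by
  obtain ⟨v, hv⟩ := exists_isOrdP (det_toMatrix_ne_zero b₂ b₁)
  refine ⟨v, ?_, hv⟩
  have := inPW_det _ 0 (inPW_toMatrix h₁ h₂ hle)
  rw [mul_zero] at this
  exact isOrdP_le_of_inPW hv this

theorem le_of_relOrd_zero {b₁ b₂ : Module.Basis (Fin n) 𝕃 N} {K₁ K₂ : Submodule 𝕎 N}
    (h₁ : Adapted b₁ K₁) (h₂ : Adapted b₂ K₂) (hle : K₁ ≤ K₂)
    (hv : IsOrdP (b₂.toMatrix b₁).det 0) : K₂ ≤ K₁ := by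
  have hT := inPW_toMatrix h₁ h₂ hle
  choose w hw using hT
  set T := b₂.toMatrix b₁ with hTdef
  set T₀ : Matrix (Fin n) (Fin n) 𝕎 := Matrix.of w with hT₀
  have hTeq : T = T₀.map (algebraMap 𝕎 𝕃) := by
    ext i j
    have := hw i j
    rw [zpow_zero, one_mul] at this
    exact this
  have hdet : T.det = algebraMap 𝕎 𝕃 T₀.det := by
    rw [hTeq, ← RingHom.mapMatrix_apply, ← RingHom.map_det]
  have hunit : IsUnit T₀.det := by
    obtain ⟨u, hu⟩ := isOrdP_exists_unit_of_zero hv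
    rw [hdet] at hu
    rw [IsFractionRing.injective 𝕎 𝕃 hu]
    exact u.isUnit
  have hinv : T₀ * T₀⁻¹ = 1 := Matrix.mul_nonsing_inv T₀ hunit
  set S := (T₀⁻¹).map (algebraMap 𝕎 𝕃) with hS
  have hTS : T * S = 1 := by
    rw [hTeq, hS, ← RingHom.mapMatrix_apply, ← RingHom.mapMatrix_apply, ← map_mul, hinv, map_one]
  have hflip : b₁.toMatrix b₂ * T = 1 := Module.Basis.toMatrix_mul_toMatrix_flip b₁ b₂
  have hSeq : b₁.toMatrix b₂ = S := by
    calc b₁.toMatrix b₂ = b₁.toMatrix b₂ * (T * S) := by rw [hTS, mul_one]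
      _ = (b₁.toMatrix b₂ * T) * S := by rw [mul_assoc]
      _ = S := by rw [hflip, one_mul]
  -- hence `b₂ j ∈ K₁`
  have hb₂ : ∀ j, b₂ j ∈ K₁ := by
    intro j
    rw [h₁]
    intro i
    have : b₁.repr (b₂ j) i = S i j := by
      rw [← hSeq, Module.Basis.toMatrix_apply]
    rw [this, hS, Matrix.map_apply]
    exact inPW_algebraMap _
  intro x hx
  rw [← b₂.sum_repr x]
  refine Submodule.sum_mem _ (fun i _ => ?_)
  exact inPW_smul_mem (hb₂ i) ((h₂ x).mp hx i)

theorem relOrd_mul {b₁ b₂ b₃ : Module.Basis (Fin n) 𝕃 N} {v₁₂ v₂₃ v₁₃ : ℤ}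
    (h₁₂ : IsOrdP (b₂.toMatrix b₁).det v₁₂) (h₂₃ : IsOrdP (b₃.toMatrix b₂).det v₂₃)
    (h₁₃ : IsOrdP (b₃.toMatrix b₁).det v₁₃) : v₁₃ = v₂₃ + v₁₂ := by
  have h := Module.Basis.toMatrix_mul_toMatrix b₃ b₂ b₁
  have hdet : (b₃.toMatrix b₁).det = (b₃.toMatrix b₂).det * (b₂.toMatrix b₁).det := by
    rw [← Matrix.det_mul, h]
  rw [hdet] at h₁₃
  exact isOrdP_unique h₁₃ (isOrdP_mul h₂₃ h₁₂)

/-- A non-decreasing sequence of integers bounded above is eventually constant. -/
theorem int_monotone_stabilizes (a : ℕ → ℤ) (V : ℤ) (hmono : ∀ m, a m ≤ a (m + 1))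
    (hV : ∀ m, a m ≤ V) : ∃ n₀, ∀ m, n₀ ≤ m → a m = a n₀ := by
  classical
  have hmono' : Monotone a := monotone_nat_of_le_succ hmono
  let b : ℕ → ℕ := fun m => (V - a m).toNat
  have hb : ∀ m, (b m : ℤ) = V - a m := fun m => Int.toNat_of_nonneg (sub_nonneg.mpr (hV m))
  have hne : (Set.range b).Nonempty := ⟨b 0, 0, rfl⟩
  obtain ⟨n₀, hn₀⟩ := Nat.sInf_mem hne
  refine ⟨n₀, fun m hm => ?_⟩
  have h1 : b n₀ ≤ b m := by rw [hn₀]; exact Nat.sInf_le ⟨m, rfl⟩
  have h2 : a n₀ ≤ a m := hmono' hm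
  have h3 : (b n₀ : ℤ) ≤ b m := by exact_mod_cast h1
  rw [hb, hb] at h3
  omega

/-- DCC: a decreasing sequence of lattices bounded below by a lattice is eventually constant. -/
theorem antitone_stabilizes [Module.Finite 𝕃 N] (K : ℕ → Submodule 𝕎 N)
    (hK : ∀ m, (K m).IsLattice 𝕃) (hanti : ∀ m, K (m + 1) ≤ K m) (K' : Submodule 𝕎 N)
    (hK' : K'.IsLattice 𝕃) (hle : ∀ m, K' ≤ K m) : ∃ n₀, ∀ m, n₀ ≤ m → K m = K n₀ := by
  classical
  set h := Module.finrank 𝕃 N with hh
  choose b hb using fun m => exists_basis_fin (K m) (hK m) h rfl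
  obtain ⟨b', hb'⟩ := exists_basis_fin K' hK' h rfl
  have hanti' : Antitone K := antitone_nat_of_succ_le hanti
  -- `a m` = relative order of `K m` in `K 0`
  choose a ha0 ha using fun m => exists_relOrd (hb m) (hb 0) (hanti' (Nat.zero_le m))
  choose c hc0 hc using fun m => exists_relOrd (hb (m + 1)) (hb m) (hanti m)
  choose e he0 he using fun m => exists_relOrd hb' (hb m) (hle m)
  have hstep : ∀ m, a (m + 1) = a m + c m := by
    intro m
    have := relOrd_mul (hc m) (ha m) (ha (m + 1))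
    omega
  have hbound : ∀ m, a m ≤ e 0 := by
    intro m
    have := relOrd_mul (he m) (ha m) (he 0)
    have := he0 m
    omega
  obtain ⟨n₀, hn₀⟩ := int_monotone_stabilizes a (e 0)
    (fun m => by rw [hstep]; have := hc0 m; omega) hbound
  have hconst : ∀ m, n₀ ≤ m → K (m + 1) = K m := by
    intro m hm
    apply le_antisymm (hanti m)
    have h1 : c m = 0 := by
      have := hstep m
      rw [hn₀ m hm, hn₀ (m + 1) (by omega)] at this
      omega
    have h2 := hc m
    rw [h1] at h2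
    exact le_of_relOrd_zero (hb (m + 1)) (hb m) (hanti m) h2
  refine ⟨n₀, ?_⟩
  intro m hm
  induction m, hm using Nat.le_induction with
  | base => rfl
  | succ m hm ih => rw [hconst m hm, ih]

end colen

end Groth.Agent.Lib.Isoc76
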