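import Groth.Agent.Lib.Isoc76Q
import Mathlib.RingTheory.WittVector.Complete

set_option autoImplicit false
set_option linter.unusedSectionVars false

/-!
# Isocrystals, part R: lattices are `p`-adically complete (helper76)
-/

namespace Groth.Agent.Lib.Isoc76

open Isoc Filter Topology Matrix
open scoped Pointwise

universe u v

section complete

variable {p : ℕ} [Fact p.Prime] {k : Type u} [Field k] [CharP k p] [PerfectRing k p]
variable {N : Type v} [AddCommGroup N] [Module (WittVector p k) N]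
  [Module (FractionRing (WittVector p k)) N]
  [IsScalarTower (WittVector p k) (FractionRing (WittVector p k)) N]

local notation "𝕎" => WittVector p k
local notation "𝕃" => FractionRing (WittVector p k)

/-- `W(k)` is `p`-adically precomplete, in elementary form. -/
theorem witt_exists_limit (f : ℕ → 𝕎) (hf : ∀ j, (p : 𝕎) ^ j ∣ f (j + 1) - f j) :
    ∃ L : 𝕎, ∀ j, (p : 𝕎) ^ j ∣ L - f j := by
  have hmn : ∀ m n, m ≤ n → (p : 𝕎) ^ m ∣ f n - f m := by
    intro m n hmn
    induction n, hmn using Nat.le_induction with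
    | base => rw [sub_self]; exact dvd_zero _
    | succ n hmn ih =>
      have h1 : f (n + 1) - f m = (f (n + 1) - f n) + (f n - f m) := by ring
      rw [h1]
      exact dvd_add ((pow_dvd_pow _ hmn).trans (hf n)) ih
  have hprec := (WittVector.isAdicCompleteIdealSpanP (p := p) (k := k)).toIsPrecomplete
  obtain ⟨L, hL⟩ := hprec.prec' f (by
    intro m n hmn'
    rw [SModEq.sub_mem, smul_eq_mul, Ideal.mul_top, Ideal.span_singleton_pow,
      Ideal.mem_span_singleton]
    have := hmn m n hmn'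
    rw [← neg_sub]
    exact (dvd_neg).mpr this)
  refine ⟨L, fun j => ?_⟩
  have := hL j
  rw [SModEq.sub_mem, smul_eq_mul, Ideal.mul_top, Ideal.span_singleton_pow,
    Ideal.mem_span_singleton] at this
  rw [← neg_sub]
  exact (dvd_neg).mpr this

/-- Lattices are `p`-adically complete: Cauchy sequences converge. -/
theorem exists_limit_of_cauchy [Module.Finite 𝕃 N] (M : Submodule 𝕎 N) (hM : M.IsLattice 𝕃)
    (x : ℕ → N) (hx : ∀ j, x j ∈ M) (hc : ∀ j : ℕ, x (j + 1) - x j ∈ pPow (j : ℤ) M) :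
    ∃ y ∈ M, ∀ j : ℕ, y - x j ∈ pPow (j : ℤ) M := by
  obtain ⟨b, hb⟩ := exists_basis_fin M hM _ rfl
  have h0 : ∀ j i, ∃ w : 𝕎, b.repr (x j) i = algebraMap 𝕎 𝕃 w := by
    intro j i
    obtain ⟨w, hw⟩ := (hb (x j)).mp (hx j) i
    exact ⟨w, by rw [hw, zpow_zero, one_mul]⟩
  choose w hw using h0
  have hcauchy : ∀ i j, (p : 𝕎) ^ j ∣ w (j + 1) i - w j i := by
    intro i j
    obtain ⟨w', hw'⟩ := (mem_pPow_iff_repr hb (j : ℤ) _).mp (hc j) i
    rw [map_sub, Finsupp.sub_apply, hw, hw, ← map_sub, zpow_natCast, pL_eq, ← map_pow,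
      ← map_mul] at hw'
    exact ⟨w', IsFractionRing.injective 𝕎 𝕃 hw'⟩
  choose L hL using fun i => witt_exists_limit (fun j => w j i) (hcauchy i)
  set y : N := ∑ i, (algebraMap 𝕎 𝕃 (L i)) • b i with hy
  have hyrepr : ∀ i, b.repr y i = algebraMap 𝕎 𝕃 (L i) := by
    intro i
    rw [hy, b.repr_sum_self]
  refine ⟨y, ?_, fun j => ?_⟩
  · rw [hb]
    intro i
    rw [hyrepr]
    exact inPW_algebraMap _
  · rw [mem_pPow_iff_repr hb]
    intro i
    obtain ⟨c, hc'⟩ := hL i j
    refine ⟨c, ?_⟩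
    rw [map_sub, Finsupp.sub_apply, hyrepr, hw, ← map_sub, hc', map_mul, map_pow, zpow_natCast,
      pL_eq]

end complete

end Groth.Agent.Lib.Isoc76
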