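import Groth.Agent.Lib.Isoc76R

set_option autoImplicit false
set_option linter.unusedSectionVars false

/-!
# Isocrystals, part S: Fitting decomposition of a lattice with a semilinear endomorphism (helper76)

`G` bijective semilinear on `N`, `M` a lattice with `G M ⊆ M`.  Every `x ∈ M` is `u + v` with
`u ∈ ⋂ G^n M` and `G^n v → 0`.
-/

namespace Groth.Agent.Lib.Isoc76

open Isoc Filter Topology Matrix
open scoped Pointwise

universe u v

section fitting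

variable {p : ℕ} [Fact p.Prime] {k : Type u} [Field k] [CharP k p] [PerfectRing k p]
variable {N : Type v} [AddCommGroup N] [Module (WittVector p k) N]
  [Module (FractionRing (WittVector p k)) N]
  [IsScalarTower (WittVector p k) (FractionRing (WittVector p k)) N]

local notation "𝕎" => WittVector p k
local notation "𝕃" => FractionRing (WittVector p k)

variable {τ : FractionRing (WittVector p k) →+* FractionRing (WittVector p k)}

/-- `G^n M + p^j M`. -/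
noncomputable def KK (G : N →ₛₗ[τ] N) (M : Submodule 𝕎 N) (j n : ℕ) : Submodule 𝕎 N :=
  latImg G n M ⊔ pPow (j : ℤ) M

/-- The stable value of `G^n M + p^j M`. -/
noncomputable def II (G : N →ₛₗ[τ] N) (M : Submodule 𝕎 N) (j : ℕ) : Submodule 𝕎 N := ⨅ n, KK G M j n

/-- The unit-root part `⋂ G^n M` of the lattice. -/
noncomputable def unitLat (G : N →ₛₗ[τ] N) (M : Submodule 𝕎 N) : Submodule 𝕎 N := ⨅ n, latImg G n M

theorem pPow_natCast_le (j : ℕ) (K : Submodule 𝕎 N) : pPow (j : ℤ) K ≤ K := by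
  have := pPow_anti (Int.natCast_nonneg j) K
  rwa [pPow_zero] at this

theorem latImg_pPow_le (hτ : GoodTwist τ) (G : N →ₛₗ[τ] N) {M : Submodule 𝕎 N}
    (hGM : latImg G 1 M ≤ M) (n : ℕ) (j : ℤ) : latImg G n (pPow j M) ≤ pPow j M := by
  rw [latImg_pPow hτ]
  exact pPow_mono (latImg_le_of_stable hτ G hGM n)

theorem iterate_mem_pPow_of_stable (hτ : GoodTwist τ) (G : N →ₛₗ[τ] N) {M : Submodule 𝕎 N}
    (hGM : latImg G 1 M ≤ M) (n : ℕ) {j : ℤ} {y : N} (hy : y ∈ pPow j M) :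
    (⇑G)^[n] y ∈ pPow j M :=
  latImg_pPow_le hτ G hGM n j (iterate_mem_latImg G n hy)

theorem KK_anti (hτ : GoodTwist τ) (G : N →ₛₗ[τ] N) {M : Submodule 𝕎 N}
    (hGM : latImg G 1 M ≤ M) (j : ℕ) {n n' : ℕ} (h : n ≤ n') : KK G M j n' ≤ KK G M j n :=
  sup_le_sup_right (latImg_anti_of_stable hτ G hGM h) _

variable [Module.Finite (FractionRing (WittVector p k)) N]

theorem KK_isLattice (hτ : GoodTwist τ) (G : N →ₛₗ[τ] N) (hG : Function.Bijective G)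
    (M : Submodule 𝕎 N) (hM : M.IsLattice 𝕃) (j n : ℕ) : (KK G M j n).IsLattice 𝕃 := by
  have h1 : (pPow (j : ℤ) M).IsLattice 𝕃 := isLattice_pPow (j : ℤ) M
  have h2 := isLattice_latImg hτ G hG n M hM
  exact Submodule.IsLattice.of_le_of_isLattice_of_fg 𝕃
    (le_sup_right : pPow (j : ℤ) M ≤ KK G M j n) (h2.fg.sup h1.fg)

theorem exists_KK_eq_II (hτ : GoodTwist τ) (G : N →ₛₗ[τ] N) (hG : Function.Bijective G)
    (M : Submodule 𝕎 N) (hM : M.IsLattice 𝕃) (hGM : latImg G 1 M ≤ M) (j : ℕ) :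
    ∃ n₀, ∀ m, n₀ ≤ m → KK G M j m = II G M j := by
  have h1 : (pPow (j : ℤ) M).IsLattice 𝕃 := isLattice_pPow (j : ℤ) M
  obtain ⟨n₀, hn₀⟩ := antitone_stabilizes (KK G M j) (KK_isLattice hτ G hG M hM j)
    (fun m => KK_anti hτ G hGM j (Nat.le_succ m)) (pPow (j : ℤ) M) h1 (fun m => le_sup_right)
  have hII : II G M j = KK G M j n₀ := by
    apply le_antisymm (iInf_le _ n₀)
    refine le_iInf (fun n => ?_)
    rcases le_total n n₀ with h | h
    · exact KK_anti hτ G hGM j h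
    · rw [hn₀ n h]
  exact ⟨n₀, fun m hm => by rw [hII, hn₀ m hm]⟩

theorem pPow_le_II (G : N →ₛₗ[τ] N) (M : Submodule 𝕎 N) (j : ℕ) :
    pPow (j : ℤ) M ≤ II G M j :=
  le_iInf (fun _ => le_sup_right)

theorem II_le (G : N →ₛₗ[τ] N) (M : Submodule 𝕎 N) (j : ℕ) : II G M j ≤ M := by
  refine (iInf_le _ 0).trans ?_
  unfold KK
  rw [latImg_zero]
  exact sup_le le_rfl (pPow_natCast_le j M)

/-- F2: `G^m I_j + p^j M = I_j`. -/
theorem latImg_II_sup (hτ : GoodTwist τ) (G : N →ₛₗ[τ] N) (hG : Function.Bijective G)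
    (M : Submodule 𝕎 N) (hM : M.IsLattice 𝕃) (hGM : latImg G 1 M ≤ M) (j m : ℕ) :
    latImg G m (II G M j) ⊔ pPow (j : ℤ) M = II G M j := by
  obtain ⟨n₀, hn₀⟩ := exists_KK_eq_II hτ G hG M hM hGM j
  have h1 := hn₀ n₀ le_rfl
  have h2 := hn₀ (m + n₀) (Nat.le_add_left _ _)
  conv_lhs => rw [← h1]
  unfold KK at h2 ⊢
  rw [latImg_sup, latImg_latImg hτ, latImg_pPow hτ, sup_assoc,
    sup_eq_right.mpr (pPow_mono (latImg_le_of_stable hτ G hGM m)), h2]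

/-- F3: `I_{j+1} + p^j M = I_j`. -/
theorem II_succ_sup (hτ : GoodTwist τ) (G : N →ₛₗ[τ] N) (hG : Function.Bijective G)
    (M : Submodule 𝕎 N) (hM : M.IsLattice 𝕃) (hGM : latImg G 1 M ≤ M) (j : ℕ) :
    II G M (j + 1) ⊔ pPow (j : ℤ) M = II G M j := by
  obtain ⟨n₀, hn₀⟩ := exists_KK_eq_II hτ G hG M hM hGM j
  obtain ⟨n₁, hn₁⟩ := exists_KK_eq_II hτ G hG M hM hGM (j + 1)
  rw [← hn₀ (max n₀ n₁) (le_max_left _ _), ← hn₁ (max n₀ n₁) (le_max_right _ _)]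
  unfold KK
  have h3 : pPow ((j + 1 : ℕ) : ℤ) M ⊔ pPow (j : ℤ) M = pPow (j : ℤ) M :=
    sup_eq_right.mpr (pPow_anti (by push_cast; omega) M)
  rw [sup_assoc, h3]

/-- F4: `⋂ I_j = ⋂ G^n M`. -/
theorem iInf_II (hτ : GoodTwist τ) (G : N →ₛₗ[τ] N) (hG : Function.Bijective G)
    (M : Submodule 𝕎 N) (hM : M.IsLattice 𝕃) :
    ⨅ j, II G M j = unitLat G M := by
  apply le_antisymm
  · refine le_iInf (fun n => ?_)
    obtain ⟨c, hc⟩ := exists_pPow_le M (latImg G n M) hM.fg (isLattice_latImg hτ G hG n M hM)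
    refine (iInf_le _ c).trans ((iInf_le _ n).trans ?_)
    unfold KK
    exact sup_le le_rfl hc
  · exact le_iInf (fun j => le_iInf (fun n => (iInf_le _ n).trans le_sup_left))

/-- F5: `p^j I_1 ⊆ I_{j+1}`. -/
theorem pPow_II_one_le (hτ : GoodTwist τ) (G : N →ₛₗ[τ] N) (hG : Function.Bijective G)
    (M : Submodule 𝕎 N) (hM : M.IsLattice 𝕃) (hGM : latImg G 1 M ≤ M) (j : ℕ) :
    pPow (j : ℤ) (II G M 1) ≤ II G M (j + 1) := by
  obtain ⟨n₀, hn₀⟩ := exists_KK_eq_II hτ G hG M hM hGM 1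
  obtain ⟨n₁, hn₁⟩ := exists_KK_eq_II hτ G hG M hM hGM (j + 1)
  rw [← hn₀ (max n₀ n₁) (le_max_left _ _), ← hn₁ (max n₀ n₁) (le_max_right _ _)]
  unfold KK
  rw [pPow_sup, pPow_pPow]
  refine sup_le_sup (pPow_natCast_le j _) ?_
  push_cast
  exact le_rfl

/-- F6: iterates of an element of `p^j M` eventually lie in `p^j I_1`. -/
theorem exists_iterate_mem_pPow_II_one (hτ : GoodTwist τ) (G : N →ₛₗ[τ] N)
    (hG : Function.Bijective G) (M : Submodule 𝕎 N) (hM : M.IsLattice 𝕃)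
    (hGM : latImg G 1 M ≤ M) (j : ℕ) :
    ∃ n₁, ∀ m, n₁ ≤ m → ∀ y ∈ pPow (j : ℤ) M, (⇑G)^[m] y ∈ pPow (j : ℤ) (II G M 1) := by
  obtain ⟨n₀, hn₀⟩ := exists_KK_eq_II hτ G hG M hM hGM 1
  refine ⟨n₀, fun m hm y hy => ?_⟩
  have h1 : (⇑G)^[m] y ∈ latImg G m (pPow (j : ℤ) M) := iterate_mem_latImg G m hy
  rw [latImg_pPow hτ] at h1
  rw [← hn₀ m hm]
  exact pPow_mono le_sup_left h1

/-- The successive approximation step. -/
theorem fitting_step (hτ : GoodTwist τ) (G : N →ₛₗ[τ] N) (hG : Function.Bijective G)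
    (M : Submodule 𝕎 N) (hM : M.IsLattice 𝕃) (hGM : latImg G 1 M ≤ M) (x : N) (j : ℕ)
    (u : N) (hu : u ∈ II G M j) (hn : ∃ n, (⇑G)^[n] (x - u) ∈ pPow (j : ℤ) M) :
    ∃ u' : N, (u' ∈ II G M (j + 1) ∧ ∃ n, (⇑G)^[n] (x - u') ∈ pPow ((j + 1 : ℕ) : ℤ) M) ∧
      u' - u ∈ pPow (j : ℤ) M := by
  obtain ⟨n, hn⟩ := hn
  rw [← II_succ_sup hτ G hG M hM hGM j] at hu
  obtain ⟨u₁, hu₁, q, hq, rfl⟩ := Submodule.mem_sup.mp hu
  -- `e = x - u₁`
  have he : (⇑G)^[n] (x - u₁) ∈ pPow (j : ℤ) M := by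
    have h1 : x - u₁ = (x - (u₁ + q)) + q := by abel
    rw [h1, iterate_add]
    exact Submodule.add_mem _ hn (iterate_mem_pPow_of_stable hτ G hGM n hq)
  obtain ⟨n₁, hn₁⟩ := exists_iterate_mem_pPow_II_one hτ G hG M hM hGM j
  have hy' := hn₁ n₁ le_rfl _ he
  -- decompose using F2 for `j = 1`
  have hF2 := latImg_II_sup hτ G hG M hM hGM 1 (n₁ + n)
  have hdec : pPow (j : ℤ) (II G M 1)
      = latImg G (n₁ + n) (pPow (j : ℤ) (II G M 1)) ⊔ pPow ((j + 1 : ℕ) : ℤ) M := by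
    conv_lhs => rw [← hF2]
    rw [pPow_sup, pPow_pPow, latImg_pPow hτ]
    push_cast
    rfl
  rw [hdec] at hy'
  obtain ⟨z, hz, q', hq', hzq⟩ := Submodule.mem_sup.mp hy'
  obtain ⟨w, hw, rfl⟩ := (mem_latImg_iff hτ G (n₁ + n) _ z).mp hz
  have hwII : w ∈ II G M (j + 1) := pPow_II_one_le hτ G hG M hM hGM j hw
  have hwM : w ∈ pPow (j : ℤ) M := pPow_mono (II_le G M 1) hw
  refine ⟨u₁ + w, ⟨Submodule.add_mem _ hu₁ hwII, n₁ + n, ?_⟩, ?_⟩
  · have h1 : x - (u₁ + w) = (x - u₁) - w := by abel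
    have h2 : (⇑G)^[n₁ + n] (x - u₁) = (⇑G)^[n₁] ((⇑G)^[n] (x - u₁)) :=
      Function.iterate_add_apply _ _ _ _
    have h3 : (⇑G)^[n₁ + n] ((x - u₁) - w) = (⇑G)^[n₁ + n] (x - u₁) - (⇑G)^[n₁ + n] w :=
      (iter G (n₁ + n)).map_sub _ _
    rw [h1, h3, h2, ← hzq, add_sub_cancel_left]
    exact hq'
  · have h1 : u₁ + w - (u₁ + q) = w - q := by abel
    rw [h1]
    exact Submodule.sub_mem _ hwM hq

/-- The approximating sequence. -/
theorem exists_fitting_seq (hτ : GoodTwist τ) (G : N →ₛₗ[τ] N) (hG : Function.Bijective G)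
    (M : Submodule 𝕎 N) (hM : M.IsLattice 𝕃) (hGM : latImg G 1 M ≤ M) (x : N) (hx : x ∈ M) :
    ∃ u : ℕ → N, (∀ j, u j ∈ II G M j) ∧
      (∀ j : ℕ, ∃ n, (⇑G)^[n] (x - u j) ∈ pPow (j : ℤ) M) ∧
      ∀ j : ℕ, u (j + 1) - u j ∈ pPow (j : ℤ) M := by
  classical
  let P : ℕ → N → Prop := fun j u =>
    u ∈ II G M j ∧ ∃ n, (⇑G)^[n] (x - u) ∈ pPow (j : ℤ) M
  have base : P 0 0 := by
    refine ⟨Submodule.zero_mem _, 0, ?_⟩
    rw [sub_zero, Nat.cast_zero, pPow_zero]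
    exact hx
  have step : ∀ j (u : {u : N // P j u}), ∃ u' : N, P (j + 1) u' ∧ u' - u.1 ∈ pPow (j : ℤ) M :=
    fun j u => fitting_step hτ G hG M hM hGM x j u.1 u.2.1 u.2.2
  let f : (j : ℕ) → {u : N // P j u} := fun j =>
    Nat.rec (motive := fun j => {u : N // P j u}) ⟨0, base⟩
      (fun j ih => ⟨Classical.choose (step j ih), (Classical.choose_spec (step j ih)).1⟩) j
  refine ⟨fun j => (f j).1, fun j => (f j).2.1, fun j => (f j).2.2, fun j => ?_⟩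
  exact (Classical.choose_spec (step j (f j))).2

/-- **Fitting decomposition**: every `x ∈ M` is the sum of an element of `⋂ G^n M` and a
topologically `G`-nilpotent element. -/
theorem exists_fitting (hτ : GoodTwist τ) (G : N →ₛₗ[τ] N) (hG : Function.Bijective G)
    (M : Submodule 𝕎 N) (hM : M.IsLattice 𝕃) (hGM : latImg G 1 M ≤ M) (x : N) (hx : x ∈ M) :
    ∃ u ∈ unitLat G M, ∀ j : ℕ, ∃ n, (⇑G)^[n] (x - u) ∈ pPow (j : ℤ) M := by
  obtain ⟨u, hu1, hu2, hu3⟩ := exists_fitting_seq hτ G hG M hM hGM x hx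
  obtain ⟨y, hyM, hy⟩ := exists_limit_of_cauchy M hM u (fun j => II_le G M j (hu1 j)) hu3
  have hyII : ∀ j, y ∈ II G M j := by
    intro j
    have h1 : y = u j + (y - u j) := by abel
    rw [h1]
    exact Submodule.add_mem _ (hu1 j) (pPow_le_II G M j (hy j))
  refine ⟨y, ?_, fun j => ?_⟩
  · rw [← iInf_II hτ G hG M hM]
    exact (Submodule.mem_iInf _).mpr hyII
  · obtain ⟨n, hn⟩ := hu2 j
    refine ⟨n, ?_⟩
    have h1 : x - y = (x - u j) - (y - u j) := by abel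
    have h2 : (⇑G)^[n] ((x - u j) - (y - u j)) = (⇑G)^[n] (x - u j) - (⇑G)^[n] (y - u j) :=
      (iter G n).map_sub _ _
    rw [h1, h2]
    exact Submodule.sub_mem _ hn (iterate_mem_pPow_of_stable hτ G hGM n (hy j))

end fitting

end Groth.Agent.Lib.Isoc76
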