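import Groth.Agent.Lib.Isoc76S

set_option autoImplicit false
set_option linter.unusedSectionVars false

/-!
# Isocrystals, part T: unit-root and nilpotent subspaces (helper76)
-/

namespace Groth.Agent.Lib.Isoc76

open Isoc Filter Topology Matrix
open scoped Pointwise

universe u v

section spaces

variable {p : ℕ} [Fact p.Prime] {k : Type u} [Field k] [CharP k p] [PerfectRing k p]
variable {N : Type v} [AddCommGroup N] [Module (WittVector p k) N]
  [Module (FractionRing (WittVector p k)) N]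
  [IsScalarTower (WittVector p k) (FractionRing (WittVector p k)) N]

local notation "𝕎" => WittVector p k
local notation "𝕃" => FractionRing (WittVector p k)

variable {τ τ' : FractionRing (WittVector p k) →+* FractionRing (WittVector p k)}

theorem exists_isLattice [Module.Finite 𝕃 N] : ∃ M : Submodule 𝕎 N, M.IsLattice 𝕃 := by
  let b := Module.finBasis 𝕃 N
  refine ⟨Submodule.span 𝕎 (Set.range b), Submodule.fg_span (Set.finite_range _), ?_⟩
  rw [Submodule.span_span_of_tower, b.span_eq]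

theorem exists_isFirstSlope [Module.Finite 𝕃 N] [Nontrivial N] (hτ : GoodTwist τ)
    (F : N →ₛₗ[τ] N) (hF : Function.Bijective F) : ∃ lam : ℝ, IsFirstSlope F lam := by
  obtain ⟨M, hM⟩ := exists_isLattice (p := p) (k := k) (N := N)
  obtain ⟨o, ho, lam, hlim⟩ := exists_ord_tendsto hτ F hF M hM
  exact ⟨lam, M, hM, o, fun n _ => ho n, hlim⟩

theorem inPW_smul_mem_pPow {e j : ℤ} {c : 𝕃} {y : N} {M : Submodule 𝕎 N} (hc : InPW e c)
    (hy : y ∈ pPow j M) : c • y ∈ pPow (e + j) M := by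
  obtain ⟨w, rfl⟩ := hc
  rw [mul_smul, ← pPow_pPow]
  apply smul_mem_pPow
  rw [algebraMap_smul]
  exact Submodule.smul_mem _ _ hy

/-- In the `L`-span of a `W`-submodule, every element has a `p`-power multiple in it. -/
theorem exists_pow_smul_mem_of_mem_span (K : Submodule 𝕎 N) {x : N}
    (hx : x ∈ Submodule.span 𝕃 (K : Set N)) : ∃ n : ℕ, ((p : 𝕃) ^ n) • x ∈ K := by
  induction hx using Submodule.span_induction with
  | mem y hy => exact ⟨0, by rw [pow_zero, one_smul]; exact hy⟩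
  | zero => exact ⟨0, by rw [smul_zero]; exact K.zero_mem⟩
  | add y z _ _ hy hz =>
    obtain ⟨m, hm⟩ := hy
    obtain ⟨n, hn⟩ := hz
    refine ⟨m + n, ?_⟩
    rw [smul_add]
    refine K.add_mem ?_ ?_
    · rw [add_comm, pow_add, mul_smul]
      exact pow_smul_mem hm n
    · rw [pow_add, mul_smul]
      exact pow_smul_mem hn m
  | smul c y _ hy =>
    obtain ⟨m, hm⟩ := hy
    obtain ⟨n, w, hw⟩ := exists_pow_mul_eq_algebraMap c
    refine ⟨n + m, ?_⟩
    rw [pow_add, smul_smul, mul_assoc, mul_comm ((p : 𝕃) ^ m) c, ← mul_assoc, hw, mul_smul,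
      algebraMap_smul]
    exact K.smul_mem _ hm

/-- The topologically `G`-nilpotent vectors. -/
noncomputable def nilSpace (G : N →ₛₗ[τ'] N) (hτ' : GoodTwist τ') (M : Submodule 𝕎 N) :
    Submodule 𝕃 N where
  carrier := {x | ∀ j : ℕ, ∃ n, ∀ m, n ≤ m → (⇑G)^[m] x ∈ pPow (j : ℤ) M}
  zero_mem' := fun j => ⟨0, fun m _ => by rw [iterate_zero]; exact Submodule.zero_mem _⟩
  add_mem' := by
    intro x y hx hy j
    obtain ⟨n₁, h₁⟩ := hx j
    obtain ⟨n₂, h₂⟩ := hy j
    refine ⟨max n₁ n₂, fun m hm => ?_⟩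
    rw [iterate_add]
    exact Submodule.add_mem _ (h₁ m (le_of_max_le_left hm)) (h₂ m (le_of_max_le_right hm))
  smul_mem' := by
    intro c x hx j
    by_cases hc : c = 0
    · exact ⟨0, fun m _ => by rw [hc, zero_smul, iterate_zero]; exact Submodule.zero_mem _⟩
    obtain ⟨e, he⟩ := exists_isOrdP hc
    obtain ⟨n, hn⟩ := hx ((j : ℤ) - e).toNat
    refine ⟨n, fun m hm => ?_⟩
    rw [iterate_smul]
    have h1 := inPW_smul_mem_pPow ((hτ'.pow m).inPW (isOrdP_inPW he)) (hn m hm)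
    refine pPow_anti ?_ M h1
    have := Int.self_le_toNat ((j : ℤ) - e)
    omega

theorem mem_nilSpace_iff (G : N →ₛₗ[τ'] N) (hτ' : GoodTwist τ') (M : Submodule 𝕎 N) (x : N) :
    x ∈ nilSpace G hτ' M ↔ ∀ j : ℕ, ∃ n, ∀ m, n ≤ m → (⇑G)^[m] x ∈ pPow (j : ℤ) M := Iff.rfl

theorem mem_nilSpace_of_exists (G : N →ₛₗ[τ'] N) (hτ' : GoodTwist τ') {M : Submodule 𝕎 N}
    (hGM : latImg G 1 M ≤ M) {x : N} (hx : ∀ j : ℕ, ∃ n, (⇑G)^[n] x ∈ pPow (j : ℤ) M) :
    x ∈ nilSpace G hτ' M := by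
  intro j
  obtain ⟨n, hn⟩ := hx j
  refine ⟨n, fun m hm => ?_⟩
  obtain ⟨l, rfl⟩ := Nat.exists_eq_add_of_le hm
  rw [add_comm, Function.iterate_add_apply]
  exact iterate_mem_pPow_of_stable hτ' G hGM l hn

/-- The unit-root subspace. -/
noncomputable def unitSpace (G : N →ₛₗ[τ'] N) (M : Submodule 𝕎 N) : Submodule 𝕃 N :=
  Submodule.span 𝕃 (unitLat G M : Set N)

/-- `N = N^u + N^n`. -/
theorem unitSpace_sup_nilSpace [Module.Finite 𝕃 N] (hτ' : GoodTwist τ') (G : N →ₛₗ[τ'] N)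
    (hG : Function.Bijective G) (M : Submodule 𝕎 N) (hM : M.IsLattice 𝕃)
    (hGM : latImg G 1 M ≤ M) : unitSpace G M ⊔ nilSpace G hτ' M = ⊤ := by
  rw [eq_top_iff]
  intro x _
  obtain ⟨c, hc⟩ := exists_pow_smul_mem M hM x
  obtain ⟨u, hu, hv⟩ := exists_fitting hτ' G hG M hM hGM _ hc
  have hv' := mem_nilSpace_of_exists G hτ' hGM hv
  have hp : ((p : 𝕃) ^ c) ≠ 0 := pow_ne_zero c pL_ne_zero
  have hx : x = ((p : 𝕃) ^ c)⁻¹ • u + ((p : 𝕃) ^ c)⁻¹ • (((p : 𝕃) ^ c) • x - u) := by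
    rw [← smul_add, add_sub_cancel, smul_smul, inv_mul_cancel₀ hp, one_smul]
  rw [hx]
  exact Submodule.add_mem _
    (Submodule.mem_sup_left (Submodule.smul_mem _ _ (Submodule.subset_span hu)))
    (Submodule.mem_sup_right (Submodule.smul_mem _ _ hv'))

/-- `G` maps `⋂ G^n M` onto itself. -/
theorem latImg_unitLat (hτ' : GoodTwist τ') (G : N →ₛₗ[τ'] N) (hG : Function.Injective G)
    (M : Submodule 𝕎 N) (hGM : latImg G 1 M ≤ M) :
    latImg G 1 (unitLat G M) = unitLat G M := by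
  apply le_antisymm
  · rw [latImg_le_iff]
    intro x hx
    unfold unitLat at hx ⊢
    rw [Submodule.mem_iInf] at hx ⊢
    intro n
    rcases n with _ | n
    · rw [latImg_zero]
      have h0 := hx 0
      rw [latImg_zero] at h0
      exact hGM (iterate_mem_latImg G 1 h0)
    · have := iterate_mem_latImg G 1 (hx n)
      rwa [latImg_latImg hτ', add_comm] at this
  · intro y hy
    unfold unitLat at hy
    rw [Submodule.mem_iInf] at hy
    obtain ⟨x, _, hxy⟩ := (mem_latImg_iff hτ' G 1 M y).mp (hy 1)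
    rw [mem_latImg_iff hτ']
    refine ⟨x, ?_, hxy⟩
    unfold unitLat
    rw [Submodule.mem_iInf]
    intro n
    obtain ⟨z, hz, hzy⟩ := (mem_latImg_iff hτ' G (n + 1) M y).mp (hy (n + 1))
    rw [Function.iterate_succ_apply'] at hzy
    have : (⇑G)^[n] z = x := hG (hzy.trans hxy.symm)
    rw [← this]
    exact iterate_mem_latImg G n hz

theorem unitLat_le (G : N →ₛₗ[τ'] N) (M : Submodule 𝕎 N) : unitLat G M ≤ M := by
  refine (iInf_le _ 0).trans ?_
  rw [latImg_zero]

/-- If no power of `G` maps `M` into `p M` then the nilpotent subspace is proper. -/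
theorem nilSpace_ne_top (hτ' : GoodTwist τ') (G : N →ₛₗ[τ'] N) (M : Submodule 𝕎 N)
    (hM : M.IsLattice 𝕃) (hGM : latImg G 1 M ≤ M)
    (hnil : ∀ n, ¬ latImg G n M ≤ pPow 1 M) : nilSpace G hτ' M ≠ ⊤ := by
  classical
  intro htop
  obtain ⟨S, hS⟩ := hM.fg
  have h1 : ∀ x ∈ S, ∃ n, ∀ m, n ≤ m → (⇑G)^[m] x ∈ pPow ((1 : ℕ) : ℤ) M := by
    intro x _
    have hx : x ∈ nilSpace G hτ' M := by rw [htop]; exact Submodule.mem_top
    exact hx 1
  choose! n hn using h1
  apply hnil (S.sup n)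
  rw [← hS, latImg_span hτ', Submodule.span_le]
  rintro _ ⟨x, hx, rfl⟩
  have := hn x hx (S.sup n) (Finset.le_sup hx)
  rw [hS]
  exact_mod_cast this

end spaces

end Groth.Agent.Lib.Isoc76
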