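import Groth.Agent.Lib.Isoc76T

set_option autoImplicit false
set_option linter.unusedSectionVars false

/-!
# Isocrystals, part U: the slope parts span (helper76)
-/

namespace Groth.Agent.Lib.Isoc76

open Isoc Filter Topology Matrix
open scoped Pointwise

universe u v

section span

variable {p : ℕ} [Fact p.Prime] {k : Type u} [Field k] [CharP k p] [PerfectRing k p]
variable {N : Type v} [AddCommGroup N] [Module (WittVector p k) N]
  [Module (FractionRing (WittVector p k)) N]
  [IsScalarTower (WittVector p k) (FractionRing (WittVector p k)) N]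

local notation "𝕎" => WittVector p k
local notation "𝕃" => FractionRing (WittVector p k)

variable {τ τ' : FractionRing (WittVector p k) →+* FractionRing (WittVector p k)}

/-- If `G` has first slope `0` then no power of `G` maps a lattice `M` into `p M`. -/
theorem not_latImg_le_pPow_one_of_slope_zero (hτ' : GoodTwist τ') (G : N →ₛₗ[τ'] N)
    (hG : Function.Bijective G) (hslope : IsFirstSlope G 0) (M : Submodule 𝕎 N)
    (hM : M.IsLattice 𝕃) (n : ℕ) : ¬ latImg G n M ≤ pPow 1 M := by
  intro hle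
  obtain ⟨M₀, hM₀, o₀, ho₀, hlim₀⟩ := hslope
  have hN : Nontrivial N := nontrivial_of_isOrd (ho₀ 1 le_rfl)
  obtain ⟨o, ho, lam, hlim⟩ := exists_ord_tendsto hτ' G hG M hM
  have hlam : lam = 0 :=
    lim_unique_of_lattices hτ' G M M₀ hM hM₀ o o₀ (fun n _ => ho n) ho₀ lam 0 hlim hlim₀
  rw [hlam] at hlim
  rcases Nat.eq_zero_or_pos n with h0 | hpos
  · subst h0
    rw [latImg_zero] at hle
    have h' : pPow 0 M ≤ pPow (0 + 1) M := by rw [pPow_zero]; exact hle
    have := le_of_pPow_le_pPow M hM h'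
    omega
  · have h2 := div_le_lim_of_latImg_le hτ' G ho hlim hpos hle
    have hn0 : (0 : ℝ) < n := by exact_mod_cast hpos
    have : (0 : ℝ) < ((1 : ℤ) : ℝ) / n := by
      rw [Int.cast_one]; positivity
    linarith

/-- `F`-stability of the nilpotent subspace of a `G` commuting with `F`. -/
theorem nilSpace_stable (hτ : GoodTwist τ) (hτ' : GoodTwist τ') (F : N →ₛₗ[τ] N)
    (G : N →ₛₗ[τ'] N) (hcomm : ∀ x, F (G x) = G (F x)) (M : Submodule 𝕎 N) (c : ℕ)
    (hc : latImg F 1 M ≤ pPow (-(c : ℤ)) M) :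
    ∀ x ∈ nilSpace G hτ' M, F x ∈ nilSpace G hτ' M := by
  intro x hx j
  obtain ⟨n, hn⟩ := hx (j + c)
  refine ⟨n, fun m hm => ?_⟩
  have h1 : (⇑G)^[m] (F x) = F ((⇑G)^[m] x) :=
    ((Function.Semiconj.iterate_right (f := ⇑F) (ga := ⇑G) (gb := ⇑G) hcomm m) x).symm
  rw [h1]
  have h2 : F ((⇑G)^[m] x) ∈ latImg F 1 (pPow ((j + c : ℕ) : ℤ) M) :=
    iterate_mem_latImg F 1 (hn m hm)
  rw [latImg_pPow hτ] at h2
  have h3 := pPow_mono (r := ((j + c : ℕ) : ℤ)) hc h2
  rw [pPow_pPow] at h3
  have : ((j + c : ℕ) : ℤ) + -(c : ℤ) = (j : ℤ) := by push_cast; ring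
  rwa [this] at h3

/-- `F`-stability of the unit-root subspace of a `G` commuting with `F`. -/
theorem unitSpace_stable (hτ : GoodTwist τ) (hτ' : GoodTwist τ') (F : N →ₛₗ[τ] N)
    (G : N →ₛₗ[τ'] N) (hcomm : ∀ x, F (G x) = G (F x)) (M : Submodule 𝕎 N) (c : ℕ)
    (hc : latImg F 1 M ≤ pPow (-(c : ℤ)) M) :
    ∀ x ∈ unitSpace G M, F x ∈ unitSpace G M := by
  have hp : ((p : 𝕃) ^ c) ≠ 0 := pow_ne_zero c pL_ne_zero
  have key : ∀ x ∈ unitLat G M, ((p : 𝕃) ^ c) • F x ∈ unitLat G M := by
    intro x hx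
    unfold unitLat at hx ⊢
    rw [Submodule.mem_iInf] at hx ⊢
    intro n
    obtain ⟨y, hy, rfl⟩ := (mem_latImg_iff hτ' G n M x).mp (hx n)
    have h1 : F ((⇑G)^[n] y) = (⇑G)^[n] (F y) :=
      ((Function.Semiconj.iterate_right (f := ⇑F) (ga := ⇑G) (gb := ⇑G) hcomm n) y)
    have h2 : ((p : 𝕃) ^ c) • (⇑G)^[n] (F y) = (⇑G)^[n] (((p : 𝕃) ^ c) • F y) := by
      rw [iterate_smul, map_pow, (hτ'.pow n).map_p]
    rw [h1, h2]
    apply iterate_mem_latImg
    have h3 : F y ∈ pPow (-(c : ℤ)) M := hc (iterate_mem_latImg F 1 hy)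
    rw [mem_pPow_iff, neg_neg, zpow_natCast] at h3
    exact h3
  intro x hx
  unfold unitSpace at hx ⊢
  induction hx using Submodule.span_induction with
  | mem y hy =>
    have h1 := Submodule.smul_mem (Submodule.span 𝕃 (unitLat G M : Set N)) (((p : 𝕃) ^ c)⁻¹)
      (Submodule.subset_span (key y hy))
    rwa [smul_smul, inv_mul_cancel₀ hp, one_smul] at h1
  | zero => rw [map_zero]; exact Submodule.zero_mem _
  | add y z _ _ hy hz => rw [map_add]; exact Submodule.add_mem _ hy hz
  | smul a y _ hy => rw [LinearMap.map_smulₛₗ]; exact Submodule.smul_mem _ _ hy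

/-- Transport of the slope part of a sub-isocrystal. -/
theorem map_slopePart_restrict_le (F : N →ₛₗ[τ] N) (P : Submodule 𝕃 N)
    (hP : ∀ x ∈ P, F x ∈ P) (μ : ℚ) :
    (slopePart (F.restrict hP) μ).map P.subtype ≤ slopePart F μ := by
  rw [Submodule.map_le_iff_le_comap]
  unfold slopePart
  apply sSup_le
  rintro Q ⟨hQ, hQiso⟩
  rw [← Submodule.map_le_iff_le_comap]
  apply le_sSup
  have hQ' : ∀ x ∈ Q.map P.subtype, F x ∈ Q.map P.subtype := by
    rintro _ ⟨x, hx, rfl⟩
    exact ⟨(F.restrict hP) x, hQ x hx, rfl⟩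
  refine ⟨hQ', (isIsoclinic_restrict_iff F _ hQ' μ).mpr ?_⟩
  obtain ⟨M', hfg, hspan, r, s, hs, hrs, heq⟩ :=
    (isIsoclinic_restrict_iff (F.restrict hP) Q hQ μ).mp hQiso
  refine ⟨M'.map (subIncl P), hfg.map _, ?_, r, s, hs, hrs, ?_⟩
  · have h1 : Submodule.span 𝕃 ((M'.map (subIncl P) : Submodule 𝕎 N) : Set N)
        = (Submodule.span 𝕃 (M' : Set P)).map P.subtype := by
      rw [Submodule.map_span]
      rfl
    rw [h1, hspan]
  · rw [← map_latImg_restrict F P hP, heq, map_pPow_subIncl]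

end span

section main

variable {p : ℕ} [Fact p.Prime] {k : Type u} [Field k] [CharP k p] [PerfectRing k p]

local notation "𝕎" => WittVector p k
local notation "𝕃" => FractionRing (WittVector p k)

variable {τ : FractionRing (WittVector p k) →+* FractionRing (WittVector p k)}

/-- One step: a non-zero isocrystal is the sum of an isoclinic `F`-stable subspace and a proper
`F`-stable subspace. -/
theorem exists_stable_decomposition {N : Type v} [AddCommGroup N] [Module (WittVector p k) N]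
    [Module (FractionRing (WittVector p k)) N]
    [IsScalarTower (WittVector p k) (FractionRing (WittVector p k)) N]
    [Module.Finite (FractionRing (WittVector p k)) N] [Nontrivial N]
    (hτ : GoodTwist τ) (F : N →ₛₗ[τ] N) (hF : Function.Bijective F) :
    ∃ (U P : Submodule 𝕃 N) (μ : ℚ), (∀ x ∈ U, F x ∈ U) ∧ (∀ x ∈ P, F x ∈ P) ∧
      IsIsoclinicOn F U μ ∧ U ⊔ P = ⊤ ∧ P ≠ ⊤ := by
  obtain ⟨lam, hlam⟩ := exists_isFirstSlope hτ F hF
  obtain ⟨d, hd⟩ := exists_isOrdP_detCoeff hτ (Module.finBasis 𝕃 N) F hF.injective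
  obtain ⟨r, s, M, hs, _, hlamrs, hM, hord, _⟩ :=
    exists_firstSlope_eq_div hτ F hF (Module.finBasis 𝕃 N) hd hlam
  have hτ' := hτ.pow s
  set G : N →ₛₗ[τ ^ s] N := ((p : 𝕃) ^ (-r)) • iter F s with hGdef
  have hGbij : Function.Bijective G := bijective_smul_iter F hF (-r) s
  have hGM : latImg G 1 M ≤ M := by
    rw [hGdef, latImg_smul_iter hτ, Nat.cast_one, mul_one, mul_one, ← le_pPow_iff]
    exact hord.1
  have hslope : IsFirstSlope G 0 := by
    have := isFirstSlope_smul_iter hτ F hlam (-r) s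
    have h0 : (s : ℝ) * lam + ((-r : ℤ) : ℝ) = 0 := by
      have hs0 : (s : ℝ) ≠ 0 := by exact_mod_cast hs.ne'
      rw [hlamrs]
      push_cast
      field_simp
      ring
    rwa [h0] at this
  have hnil := not_latImg_le_pPow_one_of_slope_zero hτ' G hGbij hslope M hM
  have hcomm : ∀ x, F (G x) = G (F x) := by
    intro x
    rw [hGdef, LinearMap.smul_apply, LinearMap.smul_apply, LinearMap.map_smulₛₗ, map_zpow₀,
      hτ.map_p, iter_apply, iter_apply, ← Function.iterate_succ_apply' (⇑F) s x,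
      Function.iterate_succ_apply]
  obtain ⟨c, hc⟩ := exists_le_pPow_neg (latImg F 1 M) M (isLattice_latImg hτ F hF 1 M hM).fg hM
  refine ⟨unitSpace G M, nilSpace G hτ' M, (r : ℚ) / s,
    unitSpace_stable hτ hτ' F G hcomm M c hc, nilSpace_stable hτ hτ' F G hcomm M c hc, ?_,
    unitSpace_sup_nilSpace hτ' G hGbij M hM hGM, nilSpace_ne_top hτ' G M hM hGM hnil⟩
  have hnoeth : IsNoetherian 𝕎 M := isNoetherian_of_fg_of_noetherian M hM.fg
  refine ⟨unitLat G M, isNoetherian_submodule.mp hnoeth _ (unitLat_le G M), rfl, r, s, hs, rfl, ?_⟩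
  have h1 := latImg_unitLat hτ' G hGbij.injective M hGM
  rw [hGdef, latImg_smul_iter hτ, Nat.cast_one, mul_one, mul_one] at h1
  have h2 := congrArg (pPow r) h1
  rwa [pPow_pPow, add_neg_cancel, pPow_zero] at h2

/-- **The slope parts span**: `⨆ μ, N_μ = N`. -/
theorem iSup_slopePart_eq_top (hτ : GoodTwist τ) :
    ∀ (n : ℕ) (N : Type v) [AddCommGroup N] [Module (WittVector p k) N]
      [Module (FractionRing (WittVector p k)) N]
      [IsScalarTower (WittVector p k) (FractionRing (WittVector p k)) N]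
      [Module.Finite (FractionRing (WittVector p k)) N] (F : N →ₛₗ[τ] N),
      Function.Bijective F → Module.finrank (FractionRing (WittVector p k)) N = n →
      ⨆ μ : ℚ, slopePart F μ = ⊤ := by
  intro n
  induction n using Nat.strong_induction_on with
  | _ n ih =>
    intro N _ _ _ _ _ F hF hn
    rcases subsingleton_or_nontrivial N with hsub | hnt
    · exact Subsingleton.elim _ _
    · obtain ⟨U, P, μ, hU, hP, hUiso, hsup, hPtop⟩ := exists_stable_decomposition hτ F hF
      have hlt : Module.finrank 𝕃 P < n := by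
        rw [← hn]
        exact Submodule.finrank_lt hPtop
      have hFP : Function.Bijective (F.restrict hP) := by
        refine ⟨restrict_injective F hF.injective P hP, fun y => ?_⟩
        obtain ⟨x, hx, hxy⟩ := exists_preimage_of_stable hτ F hF.injective P hP y.2
        exact ⟨⟨x, hx⟩, Subtype.ext hxy⟩
      have hIH := ih _ hlt P (F.restrict hP) hFP rfl
      have hU' : U ≤ slopePart F μ := by
        apply le_sSup
        exact ⟨hU, (isIsoclinic_restrict_iff F U hU μ).mpr hUiso⟩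
      have hP' : P ≤ ⨆ μ : ℚ, slopePart F μ := by
        have h1 : P = (⊤ : Submodule 𝕃 P).map P.subtype := (Submodule.map_subtype_top P).symm
        rw [h1, ← hIH, Submodule.map_iSup]
        exact iSup_mono (fun ν => map_slopePart_restrict_le F P hP ν)
      rw [eq_top_iff, ← hsup]
      exact sup_le (hU'.trans (le_iSup (fun ν => slopePart F ν) μ)) hP'

end main

end Groth.Agent.Lib.Isoc76
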