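import Groth.Agent.Lib.Isoc76U
import Mathlib.LinearAlgebra.Projection
import Mathlib.LinearAlgebra.Basis.VectorSpace
import Mathlib.Algebra.DirectSum.Module

set_option autoImplicit false
set_option linter.unusedSectionVars false

/-!
# Isocrystals, part V: independence of the slope parts and the slope decomposition (helper76)
-/

namespace Groth.Agent.Lib.Isoc76

open Isoc Filter Topology Matrix
open scoped Pointwise

universe u v

section indep

variable {p : ℕ} [Fact p.Prime] {k : Type u} [Field k] [CharP k p] [PerfectRing k p]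
variable {N : Type v} [AddCommGroup N] [Module (WittVector p k) N]
  [Module (FractionRing (WittVector p k)) N]
  [IsScalarTower (WittVector p k) (FractionRing (WittVector p k)) N]

local notation "𝕎" => WittVector p k
local notation "𝕃" => FractionRing (WittVector p k)

variable {τ : FractionRing (WittVector p k) →+* FractionRing (WittVector p k)}

/-- Transport of `IsIsoclinicOn` from a sub-isocrystal to the ambient space. -/
theorem isIsoclinicOn_map_subtype (F : N →ₛₗ[τ] N) (P : Submodule 𝕃 N)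
    (hP : ∀ x ∈ P, F x ∈ P) {Q : Submodule 𝕃 P} {μ : ℚ}
    (h : IsIsoclinicOn (F.restrict hP) Q μ) : IsIsoclinicOn F (Q.map P.subtype) μ := by
  obtain ⟨M', hfg, hspan, r, s, hs, hrs, heq⟩ := h
  refine ⟨M'.map (subIncl P), hfg.map _, ?_, r, s, hs, hrs, ?_⟩
  · have h1 : Submodule.span 𝕃 ((M'.map (subIncl P) : Submodule 𝕎 N) : Set N)
        = (Submodule.span 𝕃 (M' : Set P)).map P.subtype := by
      rw [Submodule.map_span]
      rfl
    rw [h1, hspan]
  · rw [← map_latImg_restrict F P hP, heq, map_pPow_subIncl]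

/-- Relative version of `isIsoclinicOn_of_stable`. -/
theorem IsIsoclinicOn.of_le [Module.Finite 𝕃 N] (hτ : GoodTwist τ) {F : N →ₛₗ[τ] N}
    (hF : Function.Injective F) {P Q : Submodule 𝕃 N} {μ : ℚ} (hP : ∀ x ∈ P, F x ∈ P)
    (hPiso : IsIsoclinicOn F P μ) (hQ : ∀ x ∈ Q, F x ∈ Q) (hQP : Q ≤ P) :
    IsIsoclinicOn F Q μ := by
  have h1 : IsIsoclinic (F.restrict hP) μ := (isIsoclinic_restrict_iff F P hP μ).mpr hPiso
  have hQ' : ∀ x ∈ Q.comap P.subtype, (F.restrict hP) x ∈ Q.comap P.subtype :=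
    fun x hx => hQ _ hx
  have h2 := isIsoclinicOn_of_stable hτ (F.restrict hP) (restrict_injective F hF P hP) h1
    (Q.comap P.subtype) hQ'
  have h3 := isIsoclinicOn_map_subtype F P hP h2
  have h4 : (Q.comap P.subtype).map P.subtype = Q := by
    rw [Submodule.map_comap_subtype]
    exact inf_eq_right.mpr hQP
  rwa [h4] at h3

/-- The key step: an isoclinic `Q` of slope `μ` inside `A ⊕ B`, with `A` isoclinic of slope
`ν ≠ μ`, lies in `B`. -/
theorem le_of_le_sup_of_isIsoclinicOn [Module.Finite 𝕃 N] (hτ : GoodTwist τ) (F : N →ₛₗ[τ] N)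
    (hF : Function.Injective F) {A B Q : Submodule 𝕃 N} {μ ν : ℚ} (hμν : μ ≠ ν)
    (hA : ∀ x ∈ A, F x ∈ A) (hB : ∀ x ∈ B, F x ∈ B) (hQ : ∀ x ∈ Q, F x ∈ Q)
    (hAiso : IsIsoclinicOn F A ν) (hQiso : IsIsoclinicOn F Q μ) (hAB : Disjoint A B)
    (hQAB : Q ≤ A ⊔ B) : Q ≤ B := by
  obtain ⟨C, hC⟩ := Submodule.exists_isCompl (A ⊔ B)
  have hcompl : IsCompl A (B ⊔ C) := by
    constructor
    · rw [Submodule.disjoint_def]
      intro x hxA hxBC
      obtain ⟨b, hb, c, hc, rfl⟩ := Submodule.mem_sup.mp hxBC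
      have hc' : c ∈ A ⊔ B := by
        have : c = (b + c) - b := by abel
        rw [this]
        exact Submodule.sub_mem _ (Submodule.mem_sup_left hxA) (Submodule.mem_sup_right hb)
      have hc0 : c = 0 := (Submodule.disjoint_def.mp hC.disjoint) c hc' hc
      rw [hc0, add_zero] at hxA ⊢
      exact (Submodule.disjoint_def.mp hAB) b hxA hb
    · rw [codisjoint_iff, ← sup_assoc]
      exact hC.sup_eq_top
  set π := A.projectionOnto (B ⊔ C) hcompl with hπ
  set f : Q →ₗ[𝕃] A := π ∘ₗ Q.subtype with hf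
  have hdecomp : ∀ x ∈ Q, ∃ a ∈ A, ∃ b ∈ B, a + b = x := fun x hx =>
    Submodule.mem_sup.mp (hQAB hx)
  have hπab : ∀ a (ha : a ∈ A), ∀ b ∈ B, π (a + b) = ⟨a, ha⟩ := by
    intro a ha b hb
    rw [map_add, Submodule.projectionOnto_apply_of_mem_left hcompl ha,
      Submodule.projectionOnto_apply_of_mem_right hcompl (Submodule.mem_sup_left hb), add_zero]
  have hequiv : ∀ x : Q, f ((F.restrict hQ) x) = (F.restrict hA) (f x) := by
    intro x
    obtain ⟨a, ha, b, hb, hab⟩ := hdecomp x.1 x.2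
    have h1 : f x = ⟨a, ha⟩ := by
      rw [hf, LinearMap.comp_apply, Submodule.subtype_apply, ← hab]
      exact hπab a ha b hb
    have h2 : f ((F.restrict hQ) x) = ⟨F a, hA a ha⟩ := by
      rw [hf, LinearMap.comp_apply, Submodule.subtype_apply, LinearMap.coe_restrict_apply, ← hab,
        map_add]
      exact hπab (F a) (hA a ha) (F b) (hB b hb)
    rw [h1, h2]
    rfl
  have hf0 : f = 0 :=
    hom_eq_zero_of_isIsoclinic hτ (F.restrict hQ) (F.restrict hA) (restrict_injective F hF A hA)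
      ((isIsoclinic_restrict_iff F Q hQ μ).mpr hQiso)
      ((isIsoclinic_restrict_iff F A hA ν).mpr hAiso) hμν f hequiv
  intro x hx
  obtain ⟨a, ha, b, hb, hab⟩ := hdecomp x hx
  have h1 : f ⟨x, hx⟩ = ⟨a, ha⟩ := by
    rw [hf, LinearMap.comp_apply, Submodule.subtype_apply]
    show π x = _
    rw [← hab]
    exact hπab a ha b hb
  rw [hf0, LinearMap.zero_apply] at h1
  have ha0 : a = 0 := (congrArg Subtype.val h1).symm
  rw [← hab, ha0, zero_add]
  exact hb

/-- The slope parts are `F`-stable and isoclinic (ambient form). -/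
theorem slopePart_stable_isIsoclinicOn [Module.Finite 𝕃 N] (hτ : GoodTwist τ) (F : N →ₛₗ[τ] N)
    (μ : ℚ) : (∀ x ∈ slopePart F μ, F x ∈ slopePart F μ) ∧ IsIsoclinicOn F (slopePart F μ) μ := by
  obtain ⟨hP, hiso⟩ := slopePart_isIsoclinic hτ F μ
  exact ⟨hP, (isIsoclinic_restrict_iff F _ hP μ).mp hiso⟩

theorem finset_sup_stable (F : N →ₛₗ[τ] N) (f : ℚ → Submodule 𝕃 N)
    (hf : ∀ μ, ∀ x ∈ f μ, F x ∈ f μ) (S : Finset ℚ) : ∀ x ∈ S.sup f, F x ∈ S.sup f := by
  classical
  induction S using Finset.induction_on with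
  | empty =>
    intro x hx
    rw [Finset.sup_empty] at hx ⊢
    rw [(Submodule.mem_bot 𝕃).mp hx, map_zero]
    exact Submodule.zero_mem _
  | insert ν S _ ih =>
    intro x hx
    rw [Finset.sup_insert] at hx ⊢
    obtain ⟨a, ha, b, hb, rfl⟩ := Submodule.mem_sup.mp hx
    rw [map_add]
    exact Submodule.add_mem _ (Submodule.mem_sup_left (hf ν a ha))
      (Submodule.mem_sup_right (ih b hb))

/-- The slope parts of distinct slopes are independent (finite form). -/
theorem disjoint_slopePart_finset_sup [Module.Finite 𝕃 N] (hτ : GoodTwist τ) (F : N →ₛₗ[τ] N)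
    (hF : Function.Injective F) (S : Finset ℚ) :
    ∀ μ, μ ∉ S → Disjoint (slopePart F μ) (S.sup (slopePart F)) := by
  classical
  have hst := fun μ => (slopePart_stable_isIsoclinicOn hτ F μ).1
  have hiso := fun μ => (slopePart_stable_isIsoclinicOn hτ F μ).2
  induction S using Finset.induction_on with
  | empty =>
    intro μ _
    rw [Finset.sup_empty]
    exact disjoint_bot_right
  | insert ν S hν ih =>
    intro μ hμ
    rw [Finset.mem_insert, not_or] at hμ
    rw [Finset.sup_insert, disjoint_iff, eq_bot_iff]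
    set Q := slopePart F μ ⊓ (slopePart F ν ⊔ S.sup (slopePart F)) with hQdef
    have hB := finset_sup_stable F (slopePart F) hst S
    have hQ : ∀ x ∈ Q, F x ∈ Q := by
      rintro x ⟨hx1, hx2⟩
      refine ⟨hst μ x hx1, ?_⟩
      obtain ⟨a, ha, b, hb, rfl⟩ := Submodule.mem_sup.mp hx2
      rw [map_add]
      exact Submodule.add_mem _ (Submodule.mem_sup_left (hst ν a ha))
        (Submodule.mem_sup_right (hB b hb))
    have hQiso : IsIsoclinicOn F Q μ := (hiso μ).of_le hτ hF (hst μ) hQ inf_le_left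
    have hle : Q ≤ S.sup (slopePart F) :=
      le_of_le_sup_of_isIsoclinicOn hτ F hF hμ.1 (hst ν) hB hQ (hiso ν) hQiso (ih ν hν)
        inf_le_right
    exact (le_inf inf_le_left hle).trans (ih μ hμ.2).le_bot

theorem iSupIndep_slopePart [Module.Finite 𝕃 N] (hτ : GoodTwist τ) (F : N →ₛₗ[τ] N)
    (hF : Function.Injective F) : iSupIndep (fun μ : ℚ => slopePart F μ) := by
  rw [iSupIndep_iff_supIndep]
  intro s t _ μ _ hμt
  exact disjoint_slopePart_finset_sup hτ F hF t μ hμt

/-- **The slope decomposition** `N = ⨁_μ N_μ`. -/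
theorem isInternal_slopePart [Module.Finite 𝕃 N] (hτ : GoodTwist τ) (F : N →ₛₗ[τ] N)
    (hF : Function.Bijective F) : DirectSum.IsInternal (fun μ : ℚ => slopePart F μ) :=
  DirectSum.isInternal_submodule_of_iSupIndep_of_iSup_eq_top (iSupIndep_slopePart hτ F hF.injective)
    (iSup_slopePart_eq_top hτ _ N F hF rfl)

end indep

end Groth.Agent.Lib.Isoc76
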