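import Groth.Agent.Lib.Isoc76V
import Mathlib.LinearAlgebra.Matrix.Block
import Mathlib.Algebra.BigOperators.Finprod

set_option autoImplicit false
set_option linter.unusedSectionVars false

/-!
# Isocrystals, part W: the determinant order is the sum of the slopes (helper76)
-/

namespace Groth.Agent.Lib.Isoc76

open Isoc Filter Topology Matrix
open scoped Pointwise

universe u v

section detsum

variable {p : ℕ} [Fact p.Prime] {k : Type u} [Field k] [CharP k p] [PerfectRing k p]
variable {N : Type v} [AddCommGroup N] [Module (WittVector p k) N]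
  [Module (FractionRing (WittVector p k)) N]
  [IsScalarTower (WittVector p k) (FractionRing (WittVector p k)) N]

local notation "𝕎" => WittVector p k
local notation "𝕃" => FractionRing (WittVector p k)

variable {τ : FractionRing (WittVector p k) →+* FractionRing (WittVector p k)}

theorem isOrdP_prod {ι : Type*} (s : Finset ι) (c : ι → 𝕃) (e : ι → ℤ)
    (h : ∀ i ∈ s, IsOrdP (c i) (e i)) : IsOrdP (∏ i ∈ s, c i) (∑ i ∈ s, e i) := by
  classical
  induction s using Finset.induction_on with
  | empty =>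
    rw [Finset.prod_empty, Finset.sum_empty]
    exact isOrdP_one
  | insert a s ha ih =>
    rw [Finset.prod_insert ha, Finset.sum_insert ha]
    exact isOrdP_mul (h a (Finset.mem_insert_self a s))
      (ih (fun i hi => h i (Finset.mem_insert_of_mem hi)))

/-- Additivity of `orddet` over an `F`-stable internal direct sum decomposition. -/
theorem isOrdP_det_of_isInternal [Module.Finite 𝕃 N] (hτ : GoodTwist τ) (F : N →ₛₗ[τ] N)
    {ι : Type*} [Fintype ι] [LinearOrder ι] (A : ι → Submodule 𝕃 N)
    (hA : DirectSum.IsInternal A) (hst : ∀ i, ∀ x ∈ A i, F x ∈ A i) (e : ι → ℤ)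
    (he : ∀ i, IsOrdP (detCoeff (Module.finBasis 𝕃 (A i)) (F.restrict (hst i))) (e i))
    {h : ℕ} (b : Module.Basis (Fin h) 𝕃 N) : IsOrdP (detCoeff b F) (∑ i, e i) := by
  classical
  let v := fun i => Module.finBasis 𝕃 (A i)
  let B := hA.collectedBasis v
  let T : Matrix (Σ i, Fin (Module.finrank 𝕃 (A i))) (Σ i, Fin (Module.finrank 𝕃 (A i))) 𝕃 :=
    Matrix.of fun x y => B.repr (F (B y)) x
  have hBcoe : ∀ j c, B ⟨j, c⟩ = (v j c : N) := by
    intro j c
    rw [DirectSum.IsInternal.collectedBasis_coe]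
  have hmem : ∀ j c, F (B ⟨j, c⟩) ∈ A j := by
    intro j c
    rw [hBcoe]
    exact hst j _ (v j c).2
  have hT_diag : ∀ i a c, T ⟨i, a⟩ ⟨i, c⟩ = matOf (v i) (F.restrict (hst i)) a c := by
    intro i a c
    show B.repr (F (B ⟨i, c⟩)) ⟨i, a⟩ = _
    rw [DirectSum.IsInternal.collectedBasis_repr_of_mem hA v (hmem i c), matOf_apply]
    congr 2
    apply Subtype.ext
    exact congrArg F (hBcoe i c)
  have hT_off : ∀ i j a c, j ≠ i → T ⟨i, a⟩ ⟨j, c⟩ = 0 := by
    intro i j a c hij
    show B.repr (F (B ⟨j, c⟩)) ⟨i, a⟩ = _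
    exact DirectSum.IsInternal.collectedBasis_repr_of_mem_ne hA v hij (hmem j c)
  have hBT : T.BlockTriangular Sigma.fst := by
    rintro ⟨i, a⟩ ⟨j, c⟩ hlt
    exact hT_off i j a c (ne_of_lt hlt)
  have hdet : T.det = ∏ i, (matOf (v i) (F.restrict (hst i))).det := by
    rw [hBT.det_fintype]
    refine Finset.prod_congr rfl (fun i _ => ?_)
    rw [← Matrix.det_submatrix_equiv_self (Equiv.sigmaSubtype i).symm]
    congr 1
    ext a c
    exact hT_diag i a c
  have hcard : Fintype.card (Σ i, Fin (Module.finrank 𝕃 (A i))) = h := by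
    rw [← Module.finrank_eq_card_basis B, Module.finrank_eq_card_basis b, Fintype.card_fin]
  let ε : (Σ i, Fin (Module.finrank 𝕃 (A i))) ≃ Fin h := Fintype.equivFinOfCardEq hcard
  let B' := B.reindex ε
  have hB' : matOf B' F = T.submatrix ε.symm ε.symm := by
    ext i j
    rw [matOf_apply, Module.Basis.repr_reindex_apply, Module.Basis.reindex_apply]
    rfl
  have hdet' : (matOf B' F).det = T.det := by
    rw [hB', Matrix.det_submatrix_equiv_self]
  have h1 : IsOrdP (matOf B' F).det (∑ i, e i) := by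
    rw [hdet', hdet]
    exact isOrdP_prod Finset.univ _ _ (fun i _ => he i)
  exact isOrdP_det_matOf_basis_change hτ B' b F h1

/-- The sum of the Newton slopes with multiplicities is `orddet F`. -/
theorem finsum_mul_newtonMult [Module.Finite 𝕃 N] (hτ : GoodTwist τ) (F : N →ₛₗ[τ] N)
    (hF : Function.Bijective F) {h : ℕ} (b : Module.Basis (Fin h) 𝕃 N) {d : ℤ}
    (hd : IsOrdP (detCoeff b F) d) : ∑ᶠ μ : ℚ, μ * (newtonMult F μ : ℚ) = d := by
  classical
  have hint := isInternal_slopePart hτ F hF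
  have hfin : {μ : ℚ | slopePart F μ ≠ ⊥}.Finite :=
    WellFoundedGT.finite_ne_bot_of_iSupIndep hint.submodule_iSupIndep
  let _ : Fintype {μ : ℚ // slopePart F μ ≠ ⊥} := hfin.fintype
  have hint' : DirectSum.IsInternal (fun i : {μ : ℚ // slopePart F μ ≠ ⊥} => slopePart F i) :=
    DirectSum.isInternal_ne_bot_iff.mpr hint
  have hst : ∀ i : {μ : ℚ // slopePart F μ ≠ ⊥}, ∀ x ∈ slopePart F i, F x ∈ slopePart F i :=
    fun i => (slopePart_stable_isIsoclinicOn hτ F i).1
  have hex : ∀ i : {μ : ℚ // slopePart F μ ≠ ⊥}, ∃ e : ℤ,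
      IsOrdP (detCoeff (Module.finBasis 𝕃 (slopePart F i)) (F.restrict (hst i))) e ∧
      (e : ℚ) = (i : ℚ) * (newtonMult F i : ℚ) := by
    intro i
    obtain ⟨e, he⟩ := exists_isOrdP_detCoeff hτ (Module.finBasis 𝕃 (slopePart F i))
      (F.restrict (hst i)) (restrict_injective F hF.injective _ (hst i))
    refine ⟨e, he, ?_⟩
    obtain ⟨M', hM', r, s, hs, hrs, heq⟩ :=
      (isIsoclinic_restrict_iff F _ (hst i) i).mpr (slopePart_stable_isIsoclinicOn hτ F i).2
    have h1 := mul_eq_mul_of_latImg_eq hτ (F.restrict (hst i))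
      (Module.finBasis 𝕃 (slopePart F i)) he M' hM' heq
    have hs' : (s : ℚ) ≠ 0 := by exact_mod_cast hs.ne'
    have h2 : ((r : ℚ)) * (Module.finrank 𝕃 (slopePart F i) : ℚ) = (s : ℚ) * e := by
      exact_mod_cast h1
    have h3 : (e : ℚ) = (r : ℚ) / s * (Module.finrank 𝕃 (slopePart F i) : ℚ) := by
      field_simp
      linarith
    unfold newtonMult
    rw [h3, hrs]
  choose e he he' using hex
  have hsum := isOrdP_det_of_isInternal hτ F _ hint' hst e he b
  have hd_eq : d = ∑ i, e i := isOrdP_unique hd hsum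
  have hsupp : Function.support (fun μ : ℚ => μ * (newtonMult F μ : ℚ)) ⊆ hfin.toFinset := by
    intro μ hμ
    rw [Function.mem_support] at hμ
    rw [Set.Finite.coe_toFinset, Set.mem_ofPred_eq]
    intro hbot
    apply hμ
    unfold newtonMult
    rw [hbot, finrank_bot, Nat.cast_zero, mul_zero]
  rw [finsum_eq_sum_of_support_subset _ hsupp,
    Finset.sum_subtype hfin.toFinset (fun x => by rw [Set.Finite.mem_toFinset]), hd_eq]
  push_cast
  exact Finset.sum_congr rfl (fun i _ => (he' i).symm)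

end detsum

end Groth.Agent.Lib.Isoc76
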