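import Groth.Agent.Lib.Isoc76W
import Mathlib.LinearAlgebra.Matrix.Charpoly.Eigs
import Mathlib.LinearAlgebra.Matrix.Charpoly.Basic
import Mathlib.RingTheory.IntegralClosure.IsIntegralClosure.Basic

set_option autoImplicit false
set_option linter.unusedSectionVars false

/-!
# Isocrystals, part X: eigenvalues of integral matrices; Frobenius of finite order (helper76)
-/

namespace Groth.Agent.Lib.Isoc76

open Isoc Filter Topology Matrix Polynomial
open scoped Pointwise

universe u v

section matrix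

variable {R Ω : Type*} [CommRing R] [Field Ω] [Algebra R Ω]
variable {n : Type*} [Fintype n] [DecidableEq n]

/-- A root of the characteristic polynomial has an eigenvector. -/
theorem exists_eigenvector_of_isRoot (A : Matrix n n Ω) (α : Ω) (h : A.charpoly.IsRoot α) :
    ∃ v : n → Ω, v ≠ 0 ∧ A.mulVec v = α • v := by
  rw [Polynomial.IsRoot, Matrix.eval_charpoly] at h
  obtain ⟨v, hv, hAv⟩ := Matrix.exists_mulVec_eq_zero_iff.mpr h
  refine ⟨v, hv, ?_⟩
  rw [Matrix.sub_mulVec, sub_eq_zero] at hAv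
  rw [← hAv]
  ext i
  simp [Matrix.scalar_apply, Matrix.mulVec_diagonal]

theorem isRoot_of_eigenvector (A : Matrix n n Ω) (α : Ω) (v : n → Ω) (hv : v ≠ 0)
    (h : A.mulVec v = α • v) : A.charpoly.IsRoot α := by
  rw [Polynomial.IsRoot, Matrix.eval_charpoly]
  apply Matrix.exists_mulVec_eq_zero_iff.mp
  refine ⟨v, hv, ?_⟩
  rw [Matrix.sub_mulVec, h, sub_eq_zero]
  ext i
  simp [Matrix.scalar_apply, Matrix.mulVec_diagonal]

theorem isIntegral_of_eigenvector (Γ : Matrix n n R) (v : n → Ω) (hv : v ≠ 0) (β : Ω)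
    (h : (Γ.map (algebraMap R Ω)).mulVec v = β • v) : IsIntegral R β := by
  have h1 := isRoot_of_eigenvector _ β v hv h
  rw [Matrix.charpoly_map, Polynomial.IsRoot, Polynomial.eval_map] at h1
  exact ⟨Γ.charpoly, Γ.charpoly_monic, h1⟩

theorem isIntegral_inv_of_eigenvector (Γ Γ' : Matrix n n R) (hΓ : Γ' * Γ = 1) (v : n → Ω)
    (hv : v ≠ 0) (β : Ω) (h : (Γ.map (algebraMap R Ω)).mulVec v = β • v) :
    IsIntegral R β⁻¹ ∧ β ≠ 0 := by
  have h1 : (Γ'.map (algebraMap R Ω)).mulVec ((Γ.map (algebraMap R Ω)).mulVec v) = v := by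
    rw [Matrix.mulVec_mulVec, ← RingHom.mapMatrix_apply, ← RingHom.mapMatrix_apply, ← map_mul, hΓ,
      map_one, Matrix.one_mulVec]
  rw [h, Matrix.mulVec_smul] at h1
  have hβ : β ≠ 0 := by
    intro h0
    rw [h0, zero_smul] at h1
    exact hv h1.symm
  have h2 : (Γ'.map (algebraMap R Ω)).mulVec v = β⁻¹ • v := by
    conv_rhs => rw [← h1]
    rw [smul_smul, inv_mul_cancel₀ hβ, one_smul]
  exact ⟨isIntegral_of_eigenvector Γ' v hv β⁻¹ h2, hβ⟩

theorem pow_mulVec_of_eigenvector (A : Matrix n n Ω) (α : Ω) (v : n → Ω)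
    (h : A.mulVec v = α • v) (s : ℕ) : (A ^ s).mulVec v = (α ^ s) • v := by
  induction s with
  | zero => rw [pow_zero, pow_zero, Matrix.one_mulVec, one_smul]
  | succ s ih =>
    rw [pow_succ, ← Matrix.mulVec_mulVec, h, Matrix.mulVec_smul, ih, smul_smul, pow_succ,
      mul_comm]

end matrix

section transfer

variable {R K Ω : Type*} [CommRing R] [Field K] [Field Ω] [Algebra R K] [Algebra R Ω]
  [Algebra K Ω] [IsScalarTower R K Ω]
variable {n : Type*} [Fintype n] [DecidableEq n]

/-- If `c • P^s` is an invertible `R`-matrix, then for every root `α` of the characteristic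
polynomial of `P` (in `Ω`), `c α^s` and its inverse are integral over `R`. -/
theorem isIntegral_of_isRoot_of_smul_pow_eq (P : Matrix n n K) (s : ℕ) (c : K)
    (Γ Γ' : Matrix n n R) (hΓ : Γ' * Γ = 1) (hP : c • P ^ s = Γ.map (algebraMap R K)) (α : Ω)
    (hα : (P.charpoly.map (algebraMap K Ω)).IsRoot α) :
    IsIntegral R (algebraMap K Ω c * α ^ s) ∧ IsIntegral R (algebraMap K Ω c * α ^ s)⁻¹ ∧
      algebraMap K Ω c * α ^ s ≠ 0 := by
  rw [← Matrix.charpoly_map] at hα
  obtain ⟨v, hv, hPv⟩ := exists_eigenvector_of_isRoot _ α hα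
  have h1 := pow_mulVec_of_eigenvector _ α v hPv s
  have h2 : (Γ.map (algebraMap R Ω)).mulVec v = (algebraMap K Ω c * α ^ s) • v := by
    have h3 : Γ.map (algebraMap R Ω) = (algebraMap K Ω c) • (P.map (algebraMap K Ω)) ^ s := by
      have h4 : Γ.map (algebraMap R Ω) = (Γ.map (algebraMap R K)).map (algebraMap K Ω) := by
        rw [Matrix.map_map]
        congr 1
        funext x
        exact IsScalarTower.algebraMap_apply R K Ω x
      rw [h4, ← hP]
      ext i j
      rw [Matrix.map_apply, Matrix.smul_apply, Matrix.smul_apply, smul_eq_mul, smul_eq_mul, map_mul]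
      congr 1
      have h5 : (P ^ s).map (algebraMap K Ω) = (P.map (algebraMap K Ω)) ^ s := by
        rw [← RingHom.mapMatrix_apply, map_pow, RingHom.mapMatrix_apply]
      rw [← h5, Matrix.map_apply]
    rw [h3, Matrix.smul_mulVec, h1, smul_smul]
  exact ⟨isIntegral_of_eigenvector Γ v hv _ h2, isIntegral_inv_of_eigenvector Γ Γ' hΓ v hv _ h2⟩

end transfer

end Groth.Agent.Lib.Isoc76
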