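import Groth.Agent.Lib.Isoc76X
import Mathlib.LinearAlgebra.Matrix.ToLin
import Mathlib.LinearAlgebra.Charpoly.ToMatrix
import Mathlib.RingTheory.IntegralClosure.IntegrallyClosed

set_option autoImplicit false
set_option linter.unusedSectionVars false

/-!
# Isocrystals, part Y: finite fields — Frobenius has finite order; matrices of lattice
automorphisms (helper76)
-/

namespace Groth.Agent.Lib.Isoc76

open Isoc Filter Topology Matrix Polynomial
open scoped Pointwise

universe u v

section frobfinite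

variable {p : ℕ} [Fact p.Prime] {k : Type u} [Field k] [CharP k p] [PerfectRing k p]

local notation "𝕎" => WittVector p k
local notation "𝕃" => FractionRing (WittVector p k)

theorem frobeniusEquiv_pow_apply (n : ℕ) (w : 𝕎) :
    ((WittVector.frobeniusEquiv p k) ^ n) w = (WittVector.frobenius)^[n] w := by
  induction n with
  | zero => rfl
  | succ n ih =>
    rw [pow_succ', RingAut.mul_apply, ih, Function.iterate_succ_apply']
    rfl

theorem frobeniusEquiv_pow_eq_one (m : ℕ) (hm : ∀ x : k, x ^ p ^ m = x) :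
    (WittVector.frobeniusEquiv p k) ^ m = 1 := by
  ext w i
  rw [frobeniusEquiv_pow_apply, WittVector.iterate_frobenius_coeff, hm]
  rfl

/-- Over a finite field with `p^m` elements, `(σ^a)^m` is the identity of `L`. -/
theorem frob_pow_eq_id (a : ℤ) (m : ℕ) (hm : ∀ x : k, x ^ p ^ m = x) (c : 𝕃) :
    ((frob p k a) ^ m) c = c := by
  have hE := frobeniusEquiv_pow_eq_one (p := p) (k := k) m hm
  have h1 : ((WittVector.frobeniusEquiv p k) ^ a) ^ m = 1 := by
    rw [← zpow_natCast, ← zpow_mul, mul_comm, zpow_mul, zpow_natCast, hE, one_zpow]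
  have hW : ∀ (n : ℕ) (w : 𝕎), ((frob p k a) ^ n) (algebraMap 𝕎 𝕃 w)
      = algebraMap 𝕎 𝕃 ((((WittVector.frobeniusEquiv p k) ^ a) ^ n) w) := by
    intro n w
    induction n with
    | zero => rfl
    | succ n ih =>
      rw [pow_succ', RingHom.mul_def, RingHom.comp_apply, ih, frob_algebraMap, pow_succ',
        RingAut.mul_apply]
  obtain ⟨x, y, hy, rfl⟩ := IsFractionRing.div_surjective (A := 𝕎) c
  rw [map_div₀, hW, hW, h1]
  rfl

end frobfinite

section latmat

variable {p : ℕ} [Fact p.Prime] {k : Type u} [Field k] [CharP k p] [PerfectRing k p]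
variable {N : Type v} [AddCommGroup N] [Module (WittVector p k) N]
  [Module (FractionRing (WittVector p k)) N]
  [IsScalarTower (WittVector p k) (FractionRing (WittVector p k)) N]

local notation "𝕎" => WittVector p k
local notation "𝕃" => FractionRing (WittVector p k)

variable {n : ℕ}

/-- The matrix (in an adapted basis) of a linear map inducing a bijection of a lattice is an
invertible matrix over `W`. -/
theorem exists_matrix_of_lattice_aut (b : Module.Basis (Fin n) 𝕃 N) (M : Submodule 𝕎 N)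
    (hb : Adapted b M) (g : N →ₗ[𝕃] N) (hg₁ : ∀ x ∈ M, g x ∈ M)
    (hg₂ : ∀ y ∈ M, ∃ x ∈ M, g x = y) :
    ∃ Γ Γ' : Matrix (Fin n) (Fin n) 𝕎, Γ' * Γ = 1 ∧
      LinearMap.toMatrix b b g = Γ.map (algebraMap 𝕎 𝕃) := by
  have h1 : ∀ i j, ∃ w : 𝕎, b.repr (g (b j)) i = algebraMap 𝕎 𝕃 w := by
    intro i j
    obtain ⟨w, hw⟩ := (hb _).mp (hg₁ _ (basis_mem_of_repr hb j)) i
    exact ⟨w, by rw [hw, zpow_zero, one_mul]⟩
  choose Γ hΓ using h1
  choose x hxM hx using fun j => hg₂ (b j) (basis_mem_of_repr hb j)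
  have h2 : ∀ i j, ∃ w : 𝕎, b.repr (x j) i = algebraMap 𝕎 𝕃 w := by
    intro i j
    obtain ⟨w, hw⟩ := (hb _).mp (hxM j) i
    exact ⟨w, by rw [hw, zpow_zero, one_mul]⟩
  choose Γ' hΓ' using h2
  have hmat : LinearMap.toMatrix b b g = (Matrix.of Γ).map (algebraMap 𝕎 𝕃) := by
    ext i j
    rw [LinearMap.toMatrix_apply, Matrix.map_apply, Matrix.of_apply, hΓ]
  refine ⟨Matrix.of Γ, Matrix.of Γ', ?_, hmat⟩
  rw [mul_eq_one_comm]
  have hinj : Function.Injective ((algebraMap 𝕎 𝕃).mapMatrix : Matrix (Fin n) (Fin n) 𝕎 →+* _) :=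
    Matrix.map_injective (IsFractionRing.injective 𝕎 𝕃)
  apply hinj
  rw [map_mul, map_one, RingHom.mapMatrix_apply, RingHom.mapMatrix_apply, ← hmat]
  ext i j
  have h3 : ((LinearMap.toMatrix b b g) * (Matrix.of Γ').map (algebraMap 𝕎 𝕃)) i j
      = ((LinearMap.toMatrix b b g).mulVec (b.repr (x j))) i := by
    rw [Matrix.mul_apply, Matrix.mulVec, dotProduct]
    refine Finset.sum_congr rfl (fun l _ => ?_)
    rw [Matrix.map_apply, Matrix.of_apply, hΓ']
  rw [h3, LinearMap.toMatrix_mulVec_repr, hx, b.repr_self, Finsupp.single_apply, Matrix.one_apply]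
  simp only [eq_comm]

end latmat

end Groth.Agent.Lib.Isoc76
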