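import Groth.Agent.Lib.Isoc76Y
import Mathlib.RingTheory.Polynomial.RationalRoot

set_option autoImplicit false
set_option linter.unusedSectionVars false

/-!
# Isocrystals, part Z: eigenvalues of `π = F^m` on an isoclinic isocrystal over a finite field
(helper76)
-/

namespace Groth.Agent.Lib.Isoc76

open Isoc Filter Topology Matrix Polynomial
open scoped Pointwise

universe u v w

section arith

variable {R Ω : Type*} [CommRing R] [Field Ω] [Algebra R Ω]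

/-- The "unit" condition on `α` for the slope `μ`. -/
def SlopeCond (R : Type*) [CommRing R] {Ω : Type*} [Field Ω] [Algebra R Ω] (P : Ω) (m : ℕ)
    (μ : ℚ) (α : Ω) : Prop :=
  IsIntegral R (α ^ μ.den * P ^ (-(μ.num * (m : ℤ)))) ∧
    IsIntegral R (α ^ μ.den * P ^ (-(μ.num * (m : ℤ))))⁻¹

theorem exists_mul_of_div_eq {ν : ℚ} {r : ℤ} {s : ℕ} (hs : 0 < s) (hrs : (r : ℚ) / s = ν) :
    ∃ t : ℕ, 0 < t ∧ s = ν.den * t ∧ r = ν.num * t := by
  have hs' : (s : ℚ) ≠ 0 := by exact_mod_cast hs.ne'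
  have hden : (ν.den : ℚ) ≠ 0 := by exact_mod_cast ν.den_pos.ne'
  have h1 : r * (ν.den : ℤ) = ν.num * (s : ℤ) := by
    have h2 : (r : ℚ) / s = (ν.num : ℚ) / ν.den := by rw [hrs, Rat.num_div_den]
    rw [div_eq_div_iff hs' hden] at h2
    exact_mod_cast h2
  have hcop : IsCoprime (ν.den : ℤ) ν.num := by
    have := ν.reduced
    rw [Nat.Coprime] at this
    exact (Int.isCoprime_iff_gcd_eq_one.mpr (by
      rw [Int.gcd_comm]; simpa [Int.gcd] using this))
  have hdvd : (ν.den : ℤ) ∣ (s : ℤ) := by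
    have : (ν.den : ℤ) ∣ ν.num * s := ⟨r, by rw [← h1]; ring⟩
    exact hcop.dvd_of_dvd_mul_left this
  obtain ⟨t, ht⟩ := Int.natCast_dvd_natCast.mp hdvd
  have ht0 : 0 < t := by
    rcases Nat.eq_zero_or_pos t with h | h
    · rw [h, mul_zero] at ht; omega
    · exact h
  refine ⟨t, ht0, ht, ?_⟩
  have hden' : (ν.den : ℤ) ≠ 0 := by exact_mod_cast ν.den_pos.ne'
  apply mul_right_cancel₀ hden'
  rw [h1, ht]
  push_cast
  ring

/-- From integrality of `p^{-mr} α^s` to the slope condition. -/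
theorem slopeCond_of_isIntegral {P : Ω} (hP : P ≠ 0) {m : ℕ} {ν : ℚ} {r : ℤ} {s : ℕ}
    (hs : 0 < s) (hrs : (r : ℚ) / s = ν) {α : Ω}
    (h1 : IsIntegral R (P ^ (-((m : ℤ) * r)) * α ^ s))
    (h2 : IsIntegral R (P ^ (-((m : ℤ) * r)) * α ^ s)⁻¹) : SlopeCond R P m ν α := by
  obtain ⟨t, ht0, hst, hrt⟩ := exists_mul_of_div_eq hs hrs
  have hpow : (α ^ ν.den * P ^ (-(ν.num * (m : ℤ)))) ^ t = P ^ (-((m : ℤ) * r)) * α ^ s := by
    rw [mul_pow, ← pow_mul, ← hst, ← zpow_natCast (P ^ (-(ν.num * (m : ℤ)))) t, ← zpow_mul,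
      mul_comm]
    congr 2
    rw [hrt]
    ring
  constructor
  · apply IsIntegral.of_pow ht0
    rw [hpow]
    exact h1
  · apply IsIntegral.of_pow ht0
    rw [inv_pow, hpow]
    exact h2

/-- The slope conditions for two different slopes exclude each other (for `α ≠ 0`), provided
`P⁻¹` is not integral. -/
theorem slopeCond_exclusive {P : Ω} (hP : P ≠ 0) (hPint : ¬ IsIntegral R P⁻¹) {m : ℕ}
    (hm : 0 < m) {μ ν : ℚ} (hμν : μ ≠ ν) {α : Ω} (hα : α ≠ 0) (hμ : SlopeCond R P m μ α)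
    (hν : SlopeCond R P m ν α) : False := by
  set γμ := α ^ μ.den * P ^ (-(μ.num * (m : ℤ))) with hγμ
  set γν := α ^ ν.den * P ^ (-(ν.num * (m : ℤ))) with hγν
  set E : ℤ := (m : ℤ) * (ν.num * μ.den - μ.num * ν.den) with hE
  have hE0 : E ≠ 0 := by
    have hm' : (m : ℤ) ≠ 0 := by exact_mod_cast hm.ne'
    refine mul_ne_zero hm' ?_
    intro h
    apply hμν
    rw [Rat.eq_iff_mul_eq_mul]
    linarith
  have hδ : γμ ^ ν.den * (γν⁻¹) ^ μ.den = P ^ E := by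
    rw [hγμ, hγν, mul_pow, mul_inv, mul_pow, ← pow_mul, inv_pow, ← pow_mul, inv_pow,
      ← zpow_natCast (P ^ (-(μ.num * (m : ℤ)))) ν.den, ← zpow_mul,
      ← zpow_natCast (P ^ (-(ν.num * (m : ℤ)))) μ.den, ← zpow_mul, ← zpow_neg]
    have hα' : α ^ (μ.den * ν.den) ≠ 0 := pow_ne_zero _ hα
    rw [mul_comm ν.den μ.den]
    have : α ^ (μ.den * ν.den) * P ^ (-(μ.num * (m : ℤ)) * (ν.den : ℤ)) *
        ((α ^ (μ.den * ν.den))⁻¹ * P ^ (-(-(ν.num * (m : ℤ)) * (μ.den : ℤ))))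
        = P ^ (-(μ.num * (m : ℤ)) * (ν.den : ℤ)) * P ^ (-(-(ν.num * (m : ℤ)) * (μ.den : ℤ))) := by
      field_simp
    rw [this, ← zpow_add₀ hP]
    congr 1
    rw [hE]
    ring
  have hμ1 : IsIntegral R γμ := hμ.1
  have hμ2 : IsIntegral R γμ⁻¹ := hμ.2
  have hν1 : IsIntegral R γν := hν.1
  have hν2 : IsIntegral R γν⁻¹ := hν.2
  clear_value γμ γν
  have hδ' : (γμ⁻¹) ^ ν.den * γν ^ μ.den = P ^ (-E) := by
    have h4 : (γμ⁻¹) ^ ν.den * γν ^ μ.den = (γμ ^ ν.den * (γν⁻¹) ^ μ.den)⁻¹ := by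
      simp only [mul_inv, inv_pow, inv_inv]
    rw [h4, hδ, zpow_neg]
  have hint1 : IsIntegral R (P ^ E) := by
    rw [← hδ]
    exact (hμ1.pow _).mul (hν2.pow _)
  have hint2 : IsIntegral R (P ^ (-E)) := by
    rw [← hδ']
    exact (hμ2.pow _).mul (hν1.pow _)
  have key : ∀ e : ℤ, 0 < e → IsIntegral R (P ^ (-e)) → False := by
    intro e he hint
    apply hPint
    obtain ⟨j, rfl⟩ := Int.eq_ofNat_of_zero_le he.le
    have hj : 0 < j := by exact_mod_cast he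
    apply IsIntegral.of_pow hj
    rw [inv_pow, ← zpow_natCast, ← zpow_neg]
    exact hint
  rcases lt_or_gt_of_ne hE0 with hneg | hpos
  · exact key (-E) (by omega) (by rw [neg_neg]; exact hint1)
  · exact key E hpos hint2

end arith

section block

variable {p : ℕ} [Fact p.Prime] {k : Type u} [Field k] [CharP k p] [PerfectRing k p]
variable {N : Type v} [AddCommGroup N] [Module (WittVector p k) N]
  [Module (FractionRing (WittVector p k)) N]
  [IsScalarTower (WittVector p k) (FractionRing (WittVector p k)) N]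

local notation "𝕎" => WittVector p k
local notation "𝕃" => FractionRing (WittVector p k)

variable {τ : FractionRing (WittVector p k) →+* FractionRing (WittVector p k)}
variable {Ω : Type w} [Field Ω] [Algebra (WittVector p k) Ω]
  [Algebra (FractionRing (WittVector p k)) Ω]
  [IsScalarTower (WittVector p k) (FractionRing (WittVector p k)) Ω]
variable {n : ℕ}

/-- `p⁻¹` is not integral over `W` (in any field extension of `L`). -/
theorem not_isIntegral_p_inv :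
    ¬ IsIntegral 𝕎 (algebraMap 𝕃 Ω (p : 𝕃))⁻¹ := by
  intro h
  rw [← map_inv₀, isIntegral_algebraMap_iff (algebraMap 𝕃 Ω).injective] at h
  obtain ⟨y, hy⟩ := IsIntegrallyClosed.isIntegral_iff.mp h
  apply p_not_isUnit (p := p) (k := k)
  refine ⟨⟨(p : 𝕎), y, ?_, ?_⟩, rfl⟩
  · apply IsFractionRing.injective 𝕎 𝕃
    rw [map_mul, hy, map_one, ← pL_eq, mul_inv_cancel₀ pL_ne_zero]
  · apply IsFractionRing.injective 𝕎 𝕃
    rw [map_mul, hy, map_one, ← pL_eq, inv_mul_cancel₀ pL_ne_zero]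

/-- Roots of the characteristic polynomial of `π = F^m` on an isoclinic isocrystal of slope `ν`
satisfy the slope condition for `ν`, and are non-zero. -/
theorem slopeCond_of_isRoot (hτ : GoodTwist τ) (F : N →ₛₗ[τ] N) (M : Submodule 𝕎 N)
    (b : Module.Basis (Fin n) 𝕃 N) (hb : Adapted b M) {ν : ℚ} {r : ℤ} {s : ℕ} (hs : 0 < s)
    (hrs : (r : ℚ) / s = ν) (heq : latImg F s M = pPow r M) (m : ℕ) (π : N →ₗ[𝕃] N)
    (hπ : ∀ x, π x = (⇑F)^[m] x) (α : Ω)
    (hα : ((LinearMap.toMatrix b b π).charpoly.map (algebraMap 𝕃 Ω)).IsRoot α) :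
    SlopeCond 𝕎 (algebraMap 𝕃 Ω (p : 𝕃)) m ν α ∧ α ≠ 0 := by
  have hP : algebraMap 𝕃 Ω (p : 𝕃) ≠ 0 := by
    rw [Ne, map_eq_zero]; exact pL_ne_zero
  have E := latImg_mul_eq_pPow hτ F heq m
  set c : 𝕃 := (p : 𝕃) ^ (-((m : ℤ) * r)) with hc
  set g : N →ₗ[𝕃] N := c • π ^ s with hg
  have hgx : ∀ x, g x = c • (⇑F)^[m * s] x := by
    intro x
    rw [hg, LinearMap.smul_apply, Module.End.pow_apply]
    congr 1
    have : (⇑π) = (⇑F)^[m] := funext hπ
    rw [this, ← Function.iterate_mul]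
  have hg₁ : ∀ x ∈ M, g x ∈ M := by
    intro x hx
    rw [hgx, ← mem_pPow_iff, ← E]
    exact iterate_mem_latImg F (m * s) hx
  have hg₂ : ∀ y ∈ M, ∃ x ∈ M, g x = y := by
    intro y hy
    have h1 : ((p : 𝕃) ^ ((m : ℤ) * r)) • y ∈ latImg F (m * s) M := by
      rw [E]; exact smul_mem_pPow hy
    obtain ⟨x, hx, hxy⟩ := (mem_latImg_iff hτ F (m * s) M _).mp h1
    refine ⟨x, hx, ?_⟩
    rw [hgx, hxy, hc, smul_smul, ← zpow_add₀ pL_ne_zero, neg_add_cancel, zpow_zero, one_smul]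
  obtain ⟨Γ, Γ', hΓ, hmat⟩ := exists_matrix_of_lattice_aut b M hb g hg₁ hg₂
  have hmat' : c • (LinearMap.toMatrix b b π) ^ s = Γ.map (algebraMap 𝕎 𝕃) := by
    rw [← hmat, hg, map_smul, LinearMap.toMatrix_pow]
  obtain ⟨h1, h2, h3⟩ := isIntegral_of_isRoot_of_smul_pow_eq (LinearMap.toMatrix b b π) s c Γ Γ'
    hΓ hmat' α hα
  have hcΩ : algebraMap 𝕃 Ω c = (algebraMap 𝕃 Ω (p : 𝕃)) ^ (-((m : ℤ) * r)) := by
    rw [hc, map_zpow₀]
  rw [hcΩ] at h1 h2 h3
  refine ⟨slopeCond_of_isIntegral hP hs hrs h1 h2, ?_⟩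
  intro h0
  apply h3
  rw [h0, zero_pow hs.ne', mul_zero]

end block

end Groth.Agent.Lib.Isoc76
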