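import Mathlib

/-!
# Isolated points in (locally) Noetherian sober spaces

A closed point with no proper generization in a Noetherian quasi-sober space is isolated.
-/

universe u

namespace Groth.Agent.Lib.IsolatedPoint

open TopologicalSpace

/-- In a Noetherian quasi-sober space, a closed point without proper generizations is open. -/
lemma isOpen_singleton_of_noetherianSpace {T : Type*} [TopologicalSpace T] [NoetherianSpace T]
    [QuasiSober T] (z : T) (hcl : IsClosed ({z} : Set T)) (hgen : ∀ y : T, y ⤳ z → y = z) :
    IsOpen ({z} : Set T) := by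
  have hfin : (irreducibleComponents T).Finite := NoetherianSpace.finite_irreducibleComponents
  let 𝒞 : Set (Set T) := {C ∈ irreducibleComponents T | z ∉ C}
  have h𝒞fin : 𝒞.Finite := hfin.subset (fun C hC => hC.1)
  have hclosed : IsClosed (⋃₀ 𝒞) := by
    rw [Set.sUnion_eq_biUnion]
    exact h𝒞fin.isClosed_biUnion (fun C hC => isClosed_of_mem_irreducibleComponents C hC.1)
  have heq : ({z} : Set T) = (⋃₀ 𝒞)ᶜ := by
    ext y
    simp only [Set.mem_singleton_iff, Set.mem_compl_iff, Set.mem_sUnion, not_exists, not_and]
    constructor
    · rintro rfl C hC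
      exact hC.2
    · intro hy
      have hC := irreducibleComponent_mem_irreducibleComponents y
      have hyC : y ∈ irreducibleComponent y := mem_irreducibleComponent
      have hzC : z ∈ irreducibleComponent y := by
        by_contra hz
        exact hy _ ⟨hC, hz⟩ hyC
      have hCc : IsClosed (irreducibleComponent y) := isClosed_irreducibleComponent
      obtain ⟨η, hη⟩ : ∃ η : T, closure ({η} : Set T) = irreducibleComponent y :=
        ⟨hC.1.genericPoint, hC.1.closure_genericPoint hCc⟩
      have h1 : η ⤳ z := by
        rw [specializes_iff_mem_closure, hη]; exact hzC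
      have h2 : η = z := hgen η h1
      rw [h2, hcl.closure_eq] at hη
      rw [← hη] at hyC
      exact hyC
  rw [heq]
  exact hclosed.isOpen_compl

/-- Local version: it suffices that `z` has an open neighbourhood which is Noetherian
and quasi-sober. -/
lemma isOpen_singleton_of_locally {T : Type*} [TopologicalSpace T] (z : T) (U : Opens T)
    (hz : z ∈ U) [NoetherianSpace U] [QuasiSober U]
    (hcl : IsClosed ({z} : Set T)) (hgen : ∀ y : T, y ⤳ z → y = z) :
    IsOpen ({z} : Set T) := by
  have h1 : IsOpen ({⟨z, hz⟩} : Set U) := by
    apply isOpen_singleton_of_noetherianSpace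
    · have : ({⟨z, hz⟩} : Set U) = Subtype.val ⁻¹' ({z} : Set T) := by
        ext ⟨y, hy⟩; simp
      rw [this]
      exact hcl.preimage continuous_subtype_val
    · rintro ⟨y, hy⟩ h
      rw [subtype_specializes_iff] at h
      exact Subtype.ext (hgen y h)
  have h2 := U.isOpen.isOpenEmbedding_subtypeVal.isOpenMap _ h1
  simpa using h2

end Groth.Agent.Lib.IsolatedPoint
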