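import Mathlib
import Groth.Agent.Lib.AlgSpQFAt
import Groth.Agent.Lib.ResTrdeg91

/-!
# helper46: a point without proper generizations whose residue field extension is algebraic is isolated in its fibre

* `isOpen_singleton_of_isClosed_of_forall_specializes`: in a Noetherian quasi-sober space, a closed point without proper
  generizations is open.
* `isolatedInFibre_of_resTrdeg_eq_zero`: `h` locally of finite type, `u` without proper generizations,
  `trdeg κ(u)/κ(h u) = 0` ⇒ `u` is isolated in its fibre.
* `resTrdeg_eq_zero_of_isolatedInFibre`: the converse (no condition on generizations).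
-/

set_option autoImplicit false
universe u
open CategoryTheory CategoryTheory.Limits AlgebraicGeometry Topology TopologicalSpace

namespace Groth.Agent.Lib.IsolatedTrdeg46

open Groth.Agent.Lib.AlgSpQFAt

/-- In a Noetherian quasi-sober space, a closed point without proper generizations is open. -/
theorem isOpen_singleton_of_isClosed_of_forall_specializes {α : Type*} [TopologicalSpace α]
    [NoetherianSpace α] [QuasiSober α] (t : α) (hcl : IsClosed ({t} : Set α))
    (hgen : ∀ t' : α, t' ⤳ t → t' = t) : IsOpen ({t} : Set α) := by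
  have hfin : (irreducibleComponents α).Finite := NoetherianSpace.finite_irreducibleComponents
  set 𝒞 : Set (Set α) := {C ∈ irreducibleComponents α | t ∉ C} with h𝒞
  have h𝒞fin : 𝒞.Finite := hfin.subset fun C hC => hC.1
  have hF : IsClosed (⋃₀ 𝒞) := by
    rw [Set.sUnion_eq_biUnion]
    exact h𝒞fin.isClosed_biUnion fun C hC => isClosed_of_mem_irreducibleComponents C hC.1
  have heq : ({t} : Set α) = (⋃₀ 𝒞)ᶜ := by
    ext w
    simp only [Set.mem_singleton_iff, Set.mem_compl_iff]
    constructor
    · rintro rfl ⟨C, hC, hwC⟩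
      exact hC.2 hwC
    · intro hw
      have : w ∈ ⋃₀ irreducibleComponents α := by rw [sUnion_irreducibleComponents]; trivial
      obtain ⟨C, hC, hwC⟩ := this
      have htC : t ∈ C := by
        by_contra htC
        exact hw ⟨C, ⟨hC, htC⟩, hwC⟩
      obtain ⟨η, hη⟩ := QuasiSober.sober hC.1 (isClosed_of_mem_irreducibleComponents C hC)
      have hηt : η ⤳ t := by
        rw [specializes_iff_mem_closure, hη.def]; exact htC
      have : η = t := hgen η hηt
      rw [this] at hη
      have hCt : C = {t} := by rw [← hη.def, hcl.closure_eq]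
      rw [hCt] at hwC
      exact hwC
  rw [heq]
  exact hF.isOpen_compl

/-- A point without proper generizations in its fibre whose residue field is algebraic over the residue field of its
image is isolated in its fibre (for a morphism locally of finite type). -/
theorem isolatedInFibre_of_resTrdeg_eq_zero' {U V : Scheme.{u}} (h : U ⟶ V) [LocallyOfFiniteType h]
    (u : ↥U) (hgen : ∀ u' : ↥U, u' ⤳ u → h u' = h u → u' = u) (htr : Dual3.resTrdeg h u = 0) :
    IsolatedInFibre h u := by
  rw [← quasiFiniteAt_iff_isolatedInFibre, Scheme.Hom.quasiFiniteAt_iff_isOpen_singleton_asFiber]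
  have hft : LocallyOfFiniteType (h.fiberToSpecResidueField (h u)) :=
    show LocallyOfFiniteType (pullback.snd _ _) from inferInstance
  have hLN : IsLocallyNoetherian (h.fiber (h u)) :=
    LocallyOfFiniteType.isLocallyNoetherian (h.fiberToSpecResidueField (h u))
  obtain ⟨O, hO, hzO⟩ : ∃ O : (h.fiber (h u)).Opens, IsAffineOpen O ∧ h.asFiber u ∈ O := by
    obtain ⟨O, hO, hzO, -⟩ := (Opens.isBasis_iff_nbhd.1 (h.fiber (h u)).isBasis_affineOpens)
      (show h.asFiber u ∈ (⊤ : (h.fiber (h u)).Opens) from trivial)
    exact ⟨O, hO, hzO⟩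
  have hgenZ : ∀ z' : ↥(h.fiber (h u)), z' ⤳ h.asFiber u → z' = h.asFiber u := by
    intro z' hz'
    have h1 : (h.fiberι (h u)) z' ⤳ (h.fiberι (h u)) (h.asFiber u) :=
      hz'.map (h.fiberι (h u)).continuous
    rw [h.fiberι_asFiber] at h1
    have h2 : h ((h.fiberι (h u)) z') = h u := by
      have : (h.fiberι (h u)) z' ∈ Set.range (h.fiberι (h u)) := ⟨z', rfl⟩
      rw [h.range_fiberι] at this
      exact this
    apply (h.fiberι (h u)).isEmbedding.injective
    rw [hgen _ h1 h2, h.fiberι_asFiber]
  -- the residue field extension is integral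
  have hint : IsIntegralHom (Spec.map (h.residueFieldMap u)) := by
    rw [IsIntegralHom.SpecMap_iff]
    letI := (h.residueFieldMap u).hom.toAlgebra
    have halg : Algebra.IsAlgebraic (V.residueField (h u)) (U.residueField u) :=
      _root_.trdeg_eq_zero_iff.1 htr
    have : Algebra.IsIntegral (V.residueField (h u)) (U.residueField u) := inferInstance
    exact fun x => Algebra.IsIntegral.isIntegral (R := V.residueField (h u)) x
  have : IsAffine (O : Scheme.{u}) := hO
  have hrange : Set.range (h.asFiberHom u) ⊆ Set.range O.ι := by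
    rw [h.range_asFiberHom, Scheme.Opens.range_ι]
    exact Set.singleton_subset_iff.2 hzO
  let ℓ : Spec (U.residueField u) ⟶ (O : Scheme.{u}) := IsOpenImmersion.lift O.ι (h.asFiberHom u) hrange
  have hℓ : ℓ ≫ O.ι = h.asFiberHom u := IsOpenImmersion.lift_fac _ _ _
  have hcomp : ℓ ≫ (O.ι ≫ h.fiberToSpecResidueField (h u)) = Spec.map (h.residueFieldMap u) := by
    rw [← Category.assoc, hℓ, h.asFiberHom_fiberToSpecResidueField]
  have hint2 : IsIntegralHom (ℓ ≫ (O.ι ≫ h.fiberToSpecResidueField (h u))) := hcomp ▸ hint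
  have hℓint : IsIntegralHom ℓ := IsIntegralHom.of_comp ℓ (O.ι ≫ h.fiberToSpecResidueField (h u))
  have hℓrange : Set.range ℓ = {(⟨h.asFiber u, hzO⟩ : ↥O)} := by
    ext w
    simp only [Set.mem_range, Set.mem_singleton_iff]
    constructor
    · rintro ⟨s, rfl⟩
      apply Subtype.ext
      have : O.ι (ℓ s) = h.asFiberHom u s := by rw [← Scheme.Hom.comp_apply, hℓ]
      rw [h.asFiberHom_apply] at this
      exact this
    · rintro rfl
      refine ⟨IsLocalRing.closedPoint _, ?_⟩
      apply Subtype.ext
      have : O.ι (ℓ (IsLocalRing.closedPoint _)) = h.asFiberHom u (IsLocalRing.closedPoint _) := by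
        rw [← Scheme.Hom.comp_apply, hℓ]
      rw [h.asFiberHom_apply] at this
      exact this
  have hclO : IsClosed ({(⟨h.asFiber u, hzO⟩ : ↥O)} : Set ↥O) := by
    have h1 := ℓ.isClosedMap.isClosed_range
    rw [hℓrange] at h1
    exact h1
  have hLNO : IsLocallyNoetherian (O : Scheme.{u}) := inferInstance
  have hNO : IsNoetherian (O : Scheme.{u}) := ⟨⟩
  have hNS : NoetherianSpace ↥(O : Scheme.{u}) := inferInstance
  have hgenO : ∀ t' : ↥O, t' ⤳ (⟨h.asFiber u, hzO⟩ : ↥O) → t' = ⟨h.asFiber u, hzO⟩ := by
    intro t' ht'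
    exact Subtype.ext (hgenZ t'.1 ((subtype_specializes_iff _ _).1 ht'))
  have hopenO : IsOpen ({(⟨h.asFiber u, hzO⟩ : ↥O)} : Set ↥O) :=
    isOpen_singleton_of_isClosed_of_forall_specializes (α := ↥(O : Scheme.{u})) _ hclO hgenO
  have := O.isOpen.isOpenEmbedding_subtypeVal.isOpenMap _ hopenO
  simpa using this

/-- A point without proper generizations whose residue field is algebraic over the residue field of its image is
isolated in its fibre (for a morphism locally of finite type). -/
theorem isolatedInFibre_of_resTrdeg_eq_zero {U V : Scheme.{u}} (h : U ⟶ V) [LocallyOfFiniteType h]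
    (u : ↥U) (hgen : ∀ u' : ↥U, u' ⤳ u → u' = u) (htr : Dual3.resTrdeg h u = 0) :
    IsolatedInFibre h u :=
  isolatedInFibre_of_resTrdeg_eq_zero' h u (fun u' hu' _ => hgen u' hu') htr

/-- The residue field extension at a point isolated in its fibre is algebraic. -/
theorem resTrdeg_eq_zero_of_isolatedInFibre {U V : Scheme.{u}} (h : U ⟶ V) [LocallyOfFiniteType h]
    (u : ↥U) (hiso : IsolatedInFibre h u) : Dual3.resTrdeg h u = 0 := by
  obtain ⟨W, huW, hqf, -⟩ := (qfPred_iff h u).2 hiso
  have h1 := Groth.Agent.Lib.ResTrdeg91.resTrdeg_eq_zero_of_locallyQuasiFinite (W.ι ≫ h) ⟨u, huW⟩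
  rwa [Groth.Agent.Lib.ResTrdeg91.resTrdeg_etale_comp] at h1

end Groth.Agent.Lib.IsolatedTrdeg46
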