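/-
helper97: transport of chains of subobjects along a monomorphism (`Subobject.map`) and along an epimorphism
(`Subobject.pullback`) in an abelian category: strict monotonicity and isomorphisms of the factors.
-/
import Groth.Agent.Lib.StabAbs67A
import Mathlib

set_option autoImplicit false
set_option maxHeartbeats 400000

universe v u

namespace Groth.Agent.Lib.JHSub97

open CategoryTheory CategoryTheory.Limits Groth.Agent.Lib.StabAbs67

variable {C : Type u} [Category.{v} C] [Abelian C]

section MapMono

variable {G E : C} (ι : G ⟶ E) [Mono ι]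

theorem map_eq_mk (x : Subobject G) : (Subobject.map ι).obj x = Subobject.mk (x.arrow ≫ ι) := by
  conv_lhs => rw [← Subobject.mk_arrow x]
  exact Subobject.map_mk x.arrow ι

/-- the underlying object of the image of `x` under `Subobject.map ι` is that of `x` -/
noncomputable def mapObjIso (x : Subobject G) : ((Subobject.map ι).obj x : C) ≅ (x : C) :=
  Subobject.isoOfEqMk _ (x.arrow ≫ ι) (map_eq_mk ι x)

theorem mapObjIso_hom_arrow (x : Subobject G) :
    (mapObjIso ι x).hom ≫ x.arrow ≫ ι = ((Subobject.map ι).obj x).arrow := by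
  simp [mapObjIso, Subobject.isoOfEqMk]

theorem strictMono_map : StrictMono (Subobject.map ι).obj :=
  (Subobject.map ι).monotone.strictMono_of_injective (Subobject.map_obj_injective ι)

theorem nonempty_factor_map_iso {x y : Subobject G} (h : x ≤ y)
    (h' : (Subobject.map ι).obj x ≤ (Subobject.map ι).obj y) :
    Nonempty (cokernel (Subobject.ofLE _ _ h') ≅ cokernel (Subobject.ofLE x y h)) := by
  refine ⟨cokernel.mapIso _ _ (mapObjIso ι x) (mapObjIso ι y) ?_⟩
  rw [← cancel_mono (y.arrow ≫ ι), Category.assoc, mapObjIso_hom_arrow, Subobject.ofLE_arrow,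
    Category.assoc, Subobject.ofLE_arrow_assoc, mapObjIso_hom_arrow]

end MapMono

section PullbackEpi

variable {E Q : C} (π : E ⟶ Q) [Epi π]

instance epi_pullbackπ (y : Subobject Q) : Epi (Subobject.pullbackπ π y) := by
  have h := Subobject.isPullback π y
  exact Abelian.epi_fst_of_isLimit y.arrow π h.isLimit

theorem pullbackπ_ofLE {x y : Subobject Q} (h : x ≤ y)
    (h' : (Subobject.pullback π).obj x ≤ (Subobject.pullback π).obj y) :
    Subobject.ofLE _ _ h' ≫ Subobject.pullbackπ π y = Subobject.pullbackπ π x ≫ Subobject.ofLE x y h := by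
  rw [← cancel_mono y.arrow, Category.assoc, Category.assoc, Subobject.ofLE_arrow,
    (Subobject.isPullback π y).w, Subobject.ofLE_arrow_assoc, (Subobject.isPullback π x).w]

/-- `0 → π⁻¹x → π⁻¹y → y/x → 0` is short exact -/
theorem shortExact_pullback {x y : Subobject Q} (h : x ≤ y)
    (h' : (Subobject.pullback π).obj x ≤ (Subobject.pullback π).obj y) :
    (ShortComplex.mk (Subobject.ofLE _ _ h')
      (Subobject.pullbackπ π y ≫ cokernel.π (Subobject.ofLE x y h)) (by
        rw [← Category.assoc, pullbackπ_ofLE π h h', Category.assoc, cokernel.condition,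
          comp_zero])).ShortExact := by
  set S := ShortComplex.mk (Subobject.ofLE _ _ h')
      (Subobject.pullbackπ π y ≫ cokernel.π (Subobject.ofLE x y h)) (by
        rw [← Category.assoc, pullbackπ_ofLE π h h', Category.assoc, cokernel.condition,
          comp_zero]) with hS
  have : Mono S.f := by
    change Mono (Subobject.ofLE _ _ h'); infer_instance
  have : Epi S.g := by
    change Epi (Subobject.pullbackπ π y ≫ cokernel.π (Subobject.ofLE x y h)); infer_instance
  refine ShortComplex.ShortExact.mk' ?_ inferInstance inferInstance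
  refine ShortComplex.exact_of_f_is_kernel _ ?_
  have key : ∀ {T : C} (t : T ⟶ ((Subobject.pullback π).obj y : C)),
      t ≫ Subobject.pullbackπ π y ≫ cokernel.π (Subobject.ofLE x y h) = 0 →
      ∃ l : T ⟶ ((Subobject.pullback π).obj x : C), l ≫ Subobject.ofLE _ _ h' = t := by
    intro T t ht
    have h1 : (t ≫ Subobject.pullbackπ π y) ≫ cokernel.π (Subobject.ofLE x y h) = 0 := by
      rw [Category.assoc]; exact ht
    obtain ⟨l, hl⟩ := exists_lift_of_comp_cokernel_π (Subobject.ofLE x y h) _ h1
    have hw : l ≫ x.arrow = (t ≫ ((Subobject.pullback π).obj y).arrow) ≫ π := by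
      rw [Category.assoc, ← (Subobject.isPullback π y).w, ← Category.assoc, ← hl, Category.assoc,
        Subobject.ofLE_arrow]
    refine ⟨(Subobject.isPullback π x).lift l (t ≫ ((Subobject.pullback π).obj y).arrow) hw, ?_⟩
    rw [← cancel_mono ((Subobject.pullback π).obj y).arrow, Category.assoc, Subobject.ofLE_arrow,
      IsPullback.lift_snd]
  refine KernelFork.IsLimit.ofι _ _ (fun {T} t ht => (key t ht).choose)
    (fun {T} t ht => (key t ht).choose_spec)
    (fun {T} t ht m hm => by
      rw [← cancel_mono (Subobject.ofLE _ _ h')]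
      exact hm.trans (key t ht).choose_spec.symm)

theorem nonempty_factor_pullback_iso {x y : Subobject Q} (h : x ≤ y)
    (h' : (Subobject.pullback π).obj x ≤ (Subobject.pullback π).obj y) :
    Nonempty (cokernel (Subobject.ofLE _ _ h') ≅ cokernel (Subobject.ofLE x y h)) := by
  have hS := shortExact_pullback π h h'
  exact ⟨IsColimit.coconePointUniqueUpToIso (colimit.isColimit _) hS.gIsCokernel⟩

theorem strictMono_pullback : StrictMono (Subobject.pullback π).obj := by
  intro x y hxy
  have hle : (Subobject.pullback π).obj x ≤ (Subobject.pullback π).obj y :=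
    (Subobject.pullback π).monotone hxy.le
  refine lt_of_le_of_ne hle fun heq => ?_
  obtain ⟨e⟩ := nonempty_factor_pullback_iso π hxy.le hle
  have hz : IsZero (cokernel (Subobject.ofLE _ _ hle)) := by
    have : IsIso (Subobject.ofLE _ _ hle) := by
      have h2 : (Subobject.pullback π).obj y ≤ (Subobject.pullback π).obj x := heq.ge
      refine ⟨⟨Subobject.ofLE _ _ h2, ?_, ?_⟩⟩ <;> simp
    exact isZero_cokernel_of_epi _
  exact not_isZero_cokernel_ofLE hxy (hz.of_iso e.symm)

end PullbackEpi

end Groth.Agent.Lib.JHSub97
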