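/-
helper97: under helper67's abstract axioms `Ax`: (semi)stability is invariant under isomorphism; a coherent subobject of a
semistable object with the same reduced polynomial is semistable, and so is the quotient.
-/
import Groth.Agent.Lib.StabAbs67E
import Groth.Agent.Lib.JHSub97a

set_option autoImplicit false
set_option maxHeartbeats 400000

universe v u

namespace Groth.Agent.Lib.JHSub97

open CategoryTheory CategoryTheory.Limits Polynomial StabCat Filter
open Groth.Agent.Lib.StabLat67 Groth.Agent.Lib.StabAbs67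

variable {C : Type u} [Category.{v} C] [Abelian C] {d : ℕ} (A : Ax C d)

theorem isPure_of_iso {E E' : C} (e : E ≅ E') (h : A.IsPure E) : A.IsPure E' := by
  intro F ι hι hF hF0
  exact h F (ι ≫ e.inv) (mono_comp _ _) hF hF0

theorem isSS_of_iso {E E' : C} (e : E ≅ E') (h : IsSS A.coh A.HP d E) : IsSS A.coh A.HP d E' := by
  intro F ι hι hF hF0 hni pF pE hpF hpE
  refine h F (ι ≫ e.inv) (mono_comp _ _) hF hF0 ?_ pF pE hpF (A.hp_iso e.symm hpE)
  intro hiso
  apply hni
  have : ι = (ι ≫ e.inv) ≫ e.hom := by simp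
  rw [this]; infer_instance

theorem isSt_of_iso {E E' : C} (e : E ≅ E') (h : IsSt A.coh A.HP d E) : IsSt A.coh A.HP d E' := by
  intro F ι hι hF hF0 hni pF pE hpF hpE
  refine h F (ι ≫ e.inv) (mono_comp _ _) hF hF0 ?_ pF pE hpF (A.hp_iso e.symm hpE)
  intro hiso
  apply hni
  have : ι = (ι ≫ e.inv) ≫ e.hom := by simp
  rw [this]; infer_instance

theorem isSemistable_of_iso {E E' : C} (e : E ≅ E') (h : A.IsSemistable E) : A.IsSemistable E' :=
  ⟨A.coh_iso e h.1, fun hz => h.2.1 (hz.of_iso e), isPure_of_iso A e h.2.2.1, isSS_of_iso A e h.2.2.2⟩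

theorem isStable_of_iso {E E' : C} (e : E ≅ E') (h : A.IsStable E) : A.IsStable E' :=
  ⟨A.coh_iso e h.1, fun hz => h.2.1 (hz.of_iso e), isPure_of_iso A e h.2.2.1, isSt_of_iso A e h.2.2.2⟩

/-- a nonzero coherent subobject with the reduced polynomial of a semistable object is semistable -/
theorem isSemistable_sub {E G : C} (hss : A.IsSemistable E) (ι : G ⟶ E) [Mono ι] (hG : A.coh G)
    (hG0 : ¬ IsZero G) {pG pE : ℚ[X]} (hpG : A.HP G pG) (hpE : A.HP E pE) (hred : RedEq d pG pE) :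
    A.IsSemistable G := by
  obtain ⟨hE, hE0, hpure, hSS⟩ := hss
  have hd : A.dle E := A.dle_of_isPure hE hE0 hpure
  have hGd : A.dle G := A.dle_of_mono ι inferInstance hd
  have hpureG : A.IsPure G := fun F ι' hι' hF hF0 => hpure F (ι' ≫ ι) (mono_comp _ _) hF hF0
  have hαE : 0 < alpha d pE := (A.deq_iff hE hd hpE).mp (hpure E (𝟙 E) inferInstance hE hE0)
  have hαG : 0 < alpha d pG := (A.deq_iff hG hGd hpG).mp (hpureG G (𝟙 G) inferInstance hG hG0)
  refine ⟨hG, hG0, hpureG, ?_⟩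
  intro F ι' hι' hF hF0 hni pF pG' hpF hpG'
  rw [A.hp_unique hpG' hpG]
  have hFd : A.dle F := A.dle_of_mono ι' hι' hGd
  have hαF : 0 < alpha d pF := (A.deq_iff hF hFd hpF).mp (hpureG F ι' hι' hF hF0)
  have h1 : RedLE d pF pE := by
    refine hSS F (ι' ≫ ι) (mono_comp _ _) hF hF0 ?_ pF pE hpF hpE
    intro hiso
    have : Epi ι := epi_of_epi ι' ι
    have : IsIso ι := isIso_of_mono_of_epi ι
    exact hni (IsIso.of_isIso_comp_right ι' ι)
  exact redLE_trans hαF.le hαE hαG.le h1 (redGE_of_redEq hred)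

theorem redLE_sub_sub {P Pg PT : ℚ[X]} (hT : 0 < alpha d PT) (hba : alpha d Pg ≤ alpha d PT)
    (h1 : RedLE d P PT) (h2 : RedEq d Pg PT) : RedLE d (P - Pg) (PT - Pg) := by
  rw [redLE_iff] at h1 ⊢
  rw [redEq_iff] at h2
  filter_upwards [h1, h2] with m e1 e2
  rw [alpha_sub, alpha_sub, eval_sub, eval_sub]
  have hab : 0 ≤ alpha d PT - alpha d Pg := sub_nonneg.mpr hba
  have key : alpha d PT * ((alpha d PT - alpha d Pg) * (P.eval (m : ℚ) - Pg.eval (m : ℚ))) ≤
      alpha d PT * ((alpha d P - alpha d Pg) * (PT.eval (m : ℚ) - Pg.eval (m : ℚ))) := by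
    have e3 := mul_le_mul_of_nonneg_left e1 hab
    have lhs : alpha d PT * ((alpha d PT - alpha d Pg) * (P.eval (m : ℚ) - Pg.eval (m : ℚ))) =
        (alpha d PT - alpha d Pg) * (alpha d PT * P.eval (m : ℚ)) -
          (alpha d PT - alpha d Pg) * (alpha d PT * Pg.eval (m : ℚ)) := by ring
    have rhs : alpha d PT * ((alpha d P - alpha d Pg) * (PT.eval (m : ℚ) - Pg.eval (m : ℚ))) =
        (alpha d PT - alpha d Pg) * (alpha d P * PT.eval (m : ℚ)) -
          (alpha d PT - alpha d Pg) * (alpha d PT * Pg.eval (m : ℚ)) +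
          (alpha d P - alpha d PT) * (alpha d Pg * PT.eval (m : ℚ) - alpha d PT * Pg.eval (m : ℚ)) := by
      ring
    rw [lhs, rhs, ← e2, sub_self, mul_zero, add_zero]
    linarith
  exact le_of_mul_le_mul_left key hT

/-- the quotient of a semistable object by a proper coherent subobject with the same reduced polynomial is
semistable with the same reduced polynomial -/
theorem isSemistable_quot {E G : C} (hss : A.IsSemistable E) (ι : G ⟶ E) [Mono ι] (hG : A.coh G)
    (hni : ¬ IsIso ι) {pG pE : ℚ[X]} (hpG : A.HP G pG) (hpE : A.HP E pE) (hred : RedEq d pG pE) :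
    A.IsSemistable (cokernel ι) ∧ A.HP (cokernel ι) (pE - pG) ∧ RedEq d (pE - pG) pE := by
  obtain ⟨hE, hE0, hpure, hSS⟩ := hss
  have hd : A.dle E := A.dle_of_isPure hE hE0 hpure
  have hssL := A.isSSLat_of_isSS hE hd hpure hSS
  let g : A.Lam hE := ⟨Subobject.mk ι, A.coh_iso (Subobject.underlyingIso ι).symm hG⟩
  have hPg : A.Pv hE hd g = pG := A.Pv_eq hE hd g (A.hp_iso (Subobject.underlyingIso ι).symm hpG)
  have hPT : A.Pv hE hd ⊤ = pE := A.hp_unique (A.hp_top hE hd) hpE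
  have hlt : g < ⊤ := by
    refine lt_of_le_of_ne le_top fun h => hni ?_
    have h1 : Subobject.mk ι = ⊤ := congrArg Subtype.val h
    exact (Subobject.isIso_iff_mk_eq_top ι).mpr h1
  have hgeq : g = ⊥ ∨ RedEq d ((A.val hE hd hpure).P g) ((A.val hE hd hpure).P ⊤) := by
    right; rw [Ax.val_P, Ax.val_P, hPg, hPT]; exact hred
  have hQc : A.coh (cokernel ι) := A.coh_cokernel ι hG hE
  have hQd : A.dle (cokernel ι) := A.dle_of_epi (cokernel.π ι) inferInstance hd
  have hpQ : A.HP (cokernel ι) (pE - pG) :=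
    A.hp_sub_left _ (shortExact_of_mono ι) hG hE hQc hQd hpG hpE
  have hredQ : RedEq d (pE - pG) pE := by
    have := hssL.top_eq hgeq
    rwa [Ax.val_P, Ax.val_P, hPg, hPT] at this
  -- the factor `⊤/g`
  let e : cokernel (Subobject.ofLE g.1 (⊤ : A.Lam hE).1 hlt.le) ≅ cokernel ι :=
    cokernel.mapIso _ _ (Subobject.underlyingIso ι) (asIso (⊤ : Subobject E).arrow) (by
      rw [Subobject.underlyingIso_hom_comp_eq_mk, asIso_hom]
      exact Subobject.ofLE_arrow _)
  have hpureQ' : A.IsPure (cokernel (Subobject.ofLE g.1 (⊤ : A.Lam hE).1 hlt.le)) := by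
    refine (A.isPure_factor_iff hE hd hpure hlt).mpr fun G' h1 _ => ?_
    have := hssL.pure_above hgeq h1
    rwa [Ax.val_P, Ax.val_P] at this
  have hαT : 0 < alpha d (A.Pv hE hd ⊤) := by
    rw [hPT]; exact (A.deq_iff hE hd hpE).mp (hpure E (𝟙 E) inferInstance hE hE0)
  have hSSQ' : IsSS A.coh A.HP d (cokernel (Subobject.ofLE g.1 (⊤ : A.Lam hE).1 hlt.le)) := by
    refine (A.isSS_factor_iff hE hd hpure hlt).mpr fun G' h1 _ => ?_
    have hG'0 : G' ≠ ⊥ := (bot_le.trans_lt h1).ne'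
    have h3 := hssL G' hG'0
    rw [Ax.val_P, Ax.val_P] at h3
    have h4 : RedEq d (A.Pv hE hd g) (A.Pv hE hd ⊤) := by rw [hPg, hPT]; exact hred
    have h5 : alpha d (A.Pv hE hd g) ≤ alpha d (A.Pv hE hd ⊤) := by
      have := (A.val hE hd hpure).a_mono (le_top : g ≤ ⊤)
      rwa [Ax.val_P, Ax.val_P] at this
    exact redLE_sub_sub hαT h5 h3 h4
  have hQ0 : ¬ IsZero (cokernel ι) := fun hz => hni (isIso_of_isZero_cokernel ι hz)
  refine ⟨⟨hQc, hQ0, isPure_of_iso A e hpureQ', isSS_of_iso A e hSSQ'⟩, hpQ, hredQ⟩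

end Groth.Agent.Lib.JHSub97
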