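/-
helper97: concatenation of a filtration of a subobject `G ⊆ E` and a filtration of the quotient `E/G` to a filtration of `E`,
with isomorphic factors.
-/
import Groth.Agent.Lib.JHSub97b

set_option autoImplicit false
set_option maxHeartbeats 400000

universe v u

namespace Groth.Agent.Lib.JHSub97

open CategoryTheory CategoryTheory.Limits Polynomial StabCat Filter
open Groth.Agent.Lib.StabLat67 Groth.Agent.Lib.StabAbs67

variable {C : Type u} [Category.{v} C] [Abelian C]

theorem nonempty_factor_iso_of_eq {E : C} (s : LTSeries (Subobject E)) (i : Fin s.length)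
    {a b : Subobject E} (ha : s i.castSucc = a) (hb : s i.succ = b) (hab : a ≤ b) :
    Nonempty (factor s i ≅ cokernel (Subobject.ofLE a b hab)) := by
  subst ha hb; exact ⟨Iso.refl _⟩

section Concat

variable {E G : C} (ι : G ⟶ E) [Mono ι]

theorem pullback_cokernel_bot : (Subobject.pullback (cokernel.π ι)).obj ⊥ = Subobject.mk ι := by
  apply le_antisymm
  · have h0 : ((Subobject.pullback (cokernel.π ι)).obj ⊥).arrow ≫ cokernel.π ι = 0 := by
      rw [← (Subobject.isPullback (cokernel.π ι) ⊥).w, Subobject.bot_arrow, Limits.comp_zero]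
    obtain ⟨l, hl⟩ := exists_lift_of_comp_cokernel_π ι _ h0
    exact Subobject.le_mk_of_comm l hl
  · refine Subobject.mk_le_of_comm ((Subobject.isPullback (cokernel.π ι) ⊥).lift 0 ι (by simp)) ?_
    exact IsPullback.lift_snd _ _ _ _

variable (sG : LTSeries (Subobject G)) (sQ : LTSeries (Subobject (cokernel ι)))
  (hGl : sG.last = ⊤) (hQh : sQ.head = ⊥)

/-- the image of the filtration of `G` -/
noncomputable def pS : LTSeries (Subobject E) := sG.map _ (strictMono_map ι)

/-- the preimage of the filtration of `E/G` -/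
noncomputable def qS : LTSeries (Subobject E) := sQ.map _ (strictMono_pullback (cokernel.π ι))

include hGl hQh in
theorem pS_last_eq_qS_head : (pS ι sG).last = (qS ι sQ).head := by
  unfold pS qS
  rw [LTSeries.last_map, LTSeries.head_map, hGl, hQh, Subobject.map_top, pullback_cokernel_bot]

/-- the concatenated filtration of `E` -/
noncomputable def concat : LTSeries (Subobject E) :=
  RelSeries.smash (pS ι sG) (qS ι sQ) (pS_last_eq_qS_head ι sG sQ hGl hQh)

theorem concat_head (hGh : sG.head = ⊥) : (concat ι sG sQ hGl hQh).head = ⊥ := by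
  unfold concat
  rw [RelSeries.head_smash]
  unfold pS
  rw [LTSeries.head_map, hGh, Subobject.map_bot]

theorem concat_last (hQl : sQ.last = ⊤) : (concat ι sG sQ hGl hQh).last = ⊤ := by
  unfold concat
  rw [RelSeries.last_smash]
  unfold qS
  rw [LTSeries.last_map, hQl, Subobject.pullback_top]

theorem concat_factor_left (j : Fin sG.length) :
    Nonempty (factor (concat ι sG sQ hGl hQh) (Fin.castAdd sQ.length j) ≅ factor sG j) := by
  have h1 : (concat ι sG sQ hGl hQh) (Fin.castAdd sQ.length j).castSucc =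
      (Subobject.map ι).obj (sG j.castSucc) :=
    RelSeries.smash_castAdd (p := pS ι sG) (q := qS ι sQ) (pS_last_eq_qS_head ι sG sQ hGl hQh) j
  have h2 : (concat ι sG sQ hGl hQh) (Fin.castAdd sQ.length j).succ =
      (Subobject.map ι).obj (sG j.succ) :=
    RelSeries.smash_succ_castAdd (p := pS ι sG) (q := qS ι sQ) (pS_last_eq_qS_head ι sG sQ hGl hQh) j
  have hle : (Subobject.map ι).obj (sG j.castSucc) ≤ (Subobject.map ι).obj (sG j.succ) :=
    (Subobject.map ι).monotone (le_of_lt (sG.step j))
  obtain ⟨e1⟩ := nonempty_factor_iso_of_eq (concat ι sG sQ hGl hQh) (Fin.castAdd sQ.length j) h1 h2 hle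
  obtain ⟨e2⟩ := nonempty_factor_map_iso ι (le_of_lt (sG.step j)) hle
  exact ⟨e1 ≪≫ e2⟩

theorem concat_factor_right (j : Fin sQ.length) :
    Nonempty (factor (concat ι sG sQ hGl hQh) (Fin.natAdd sG.length j) ≅ factor sQ j) := by
  have h1 : (concat ι sG sQ hGl hQh) (Fin.natAdd sG.length j).castSucc =
      (Subobject.pullback (cokernel.π ι)).obj (sQ j.castSucc) :=
    RelSeries.smash_natAdd (p := pS ι sG) (q := qS ι sQ) (pS_last_eq_qS_head ι sG sQ hGl hQh) j
  have h2 : (concat ι sG sQ hGl hQh) (Fin.natAdd sG.length j).succ =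
      (Subobject.pullback (cokernel.π ι)).obj (sQ j.succ) :=
    RelSeries.smash_succ_natAdd (p := pS ι sG) (q := qS ι sQ) (pS_last_eq_qS_head ι sG sQ hGl hQh) j
  have hle : (Subobject.pullback (cokernel.π ι)).obj (sQ j.castSucc) ≤
      (Subobject.pullback (cokernel.π ι)).obj (sQ j.succ) :=
    (Subobject.pullback (cokernel.π ι)).monotone (le_of_lt (sQ.step j))
  obtain ⟨e1⟩ := nonempty_factor_iso_of_eq (concat ι sG sQ hGl hQh) (Fin.natAdd sG.length j) h1 h2 hle
  obtain ⟨e2⟩ := nonempty_factor_pullback_iso (cokernel.π ι) (le_of_lt (sQ.step j)) hle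
  exact ⟨e1 ≪≫ e2⟩

theorem concat_factor_cases (i : Fin (concat ι sG sQ hGl hQh).length) :
    (∃ j : Fin sG.length, Nonempty (factor (concat ι sG sQ hGl hQh) i ≅ factor sG j)) ∨
      (∃ j : Fin sQ.length, Nonempty (factor (concat ι sG sQ hGl hQh) i ≅ factor sQ j)) := by
  refine Fin.addCases (motive := fun i : Fin (sG.length + sQ.length) =>
    (∃ j : Fin sG.length, Nonempty (factor (concat ι sG sQ hGl hQh) i ≅ factor sG j)) ∨
      (∃ j : Fin sQ.length, Nonempty (factor (concat ι sG sQ hGl hQh) i ≅ factor sQ j)))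
    (fun j => Or.inl ⟨j, concat_factor_left ι sG sQ hGl hQh j⟩)
    (fun j => Or.inr ⟨j, concat_factor_right ι sG sQ hGl hQh j⟩) i

end Concat

end Groth.Agent.Lib.JHSub97
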