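/-
helper97: under helper67's abstract axioms `Ax`: if `E` is semistable with a Jordan–Hölder filtration `s` and `G ⊆ E` is a coherent
subobject with the reduced polynomial of `E`, then `G` and `E/G` have Jordan–Hölder filtrations all of whose factors are isomorphic
to factors of `s`.
-/
import Groth.Agent.Lib.JHSub97c

set_option autoImplicit false
set_option maxHeartbeats 400000

universe v u

namespace Groth.Agent.Lib.JHSub97

open CategoryTheory CategoryTheory.Limits Polynomial StabCat Filter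
open Groth.Agent.Lib.StabLat67 Groth.Agent.Lib.StabAbs67

variable {C : Type u} [Category.{v} C] [Abelian C] {d : ℕ} (A : Ax C d)

/-- factorwise form of the uniqueness of Jordan–Hölder filtrations -/
theorem isJHWith_factor_equiv {E : C} (hss : A.IsSemistable E) (s t : LTSeries (Subobject E))
    (hs : IsJHWith A.IsStable A.HP d E s) (ht : IsJHWith A.IsStable A.HP d E t) :
    ∃ e : Fin s.length ≃ Fin t.length, ∀ i, Nonempty (factor s i ≅ factor t (e i)) := by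
  obtain ⟨hE, h0, hpure, hSS⟩ := hss
  have hd : A.dle E := A.dle_of_isPure hE h0 hpure
  have hcs := A.coh_series_JH hE s hs
  have hct := A.coh_series_JH hE t ht
  let cs := A.compSeries hE hd h0 hpure hSS s hs hcs
  let ct := A.compSeries hE hd h0 hpure hSS t ht hct
  have hhead : cs.head = ct.head := by
    apply Subtype.ext; apply Subtype.ext
    change s 0 = t 0
    exact hs.1.trans ht.1.symm
  have hlast : cs.last = ct.last := by
    apply Subtype.ext; apply Subtype.ext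
    change s (Fin.last _) = t (Fin.last _)
    exact hs.2.1.trans ht.2.1.symm
  obtain ⟨e, he⟩ := CompositionSeries.jordan_holder cs ct hhead hlast
  refine ⟨e, fun i => ?_⟩
  have h1 := JordanHolderLattice.Iso.rel
    (fun (p q : A.Sig hE hd hpure hSS × A.Sig hE hd hpure hSS) =>
      Nonempty (Qo p.1.1.1 p.2.1.1 ≅ Qo q.1.1.1 q.2.1.1))
    (fun {x} => ⟨Iso.refl _⟩) (fun {x y} ⟨f⟩ => ⟨f.symm⟩) (fun {x y z} ⟨f⟩ ⟨g⟩ => ⟨f ≪≫ g⟩)
    (fun {x y} _ => Qo_second x.1.1 y.1.1) (he i)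
  obtain ⟨f⟩ := h1
  obtain ⟨g1⟩ := Qo_iso (le_of_lt (s.step i))
  obtain ⟨g2⟩ := Qo_iso (le_of_lt (t.step (e i)))
  exact ⟨g1.symm ≪≫ f ≪≫ g2⟩

theorem exists_jh_of_isZero {M : C} (hM : IsZero M) :
    ∃ sM : LTSeries (Subobject M), sM.length = 0 ∧ IsJHWith A.IsStable A.HP d M sM := by
  refine ⟨RelSeries.singleton _ ⊥, rfl, rfl, ?_, fun i => i.elim0⟩
  have : (⊤ : Subobject M) = ⊥ :=
    (eq_bot_iff_isZero ⊤).mpr (hM.of_iso (asIso (⊤ : Subobject M).arrow))
  exact this.symm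

theorem isJHWith_concat {E G : C} (ι : G ⟶ E) [Mono ι] (sG : LTSeries (Subobject G))
    (sQ : LTSeries (Subobject (cokernel ι)))
    (hsG : IsJHWith A.IsStable A.HP d G sG) (hsQ : IsJHWith A.IsStable A.HP d (cokernel ι) sQ)
    {pG pQ pE : ℚ[X]} (hpG : A.HP G pG) (hpQ : A.HP (cokernel ι) pQ) (hpE : A.HP E pE)
    (hG : sG.length ≠ 0 → (alpha d pG ≠ 0 ∧ RedEq d pG pE))
    (hQ : sQ.length ≠ 0 → (alpha d pQ ≠ 0 ∧ RedEq d pQ pE)) :
    IsJHWith A.IsStable A.HP d E (concat ι sG sQ hsG.2.1 hsQ.1) := by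
  refine ⟨concat_head ι sG sQ _ _ hsG.1, concat_last ι sG sQ _ _ hsQ.2.1, fun i => ?_⟩
  rcases concat_factor_cases ι sG sQ hsG.2.1 hsQ.1 i with ⟨j, ⟨e⟩⟩ | ⟨j, ⟨e⟩⟩
  · have hj : sG.length ≠ 0 := fun h => (Fin.cast h j).elim0
    obtain ⟨hα, hred⟩ := hG hj
    refine ⟨isStable_of_iso A e.symm (hsG.2.2 j).1, fun p q hp hq => ?_⟩
    rw [A.hp_unique hq hpE]
    exact redEq_trans hα ((hsG.2.2 j).2 p pG (A.hp_iso e hp) hpG) hred
  · have hj : sQ.length ≠ 0 := fun h => (Fin.cast h j).elim0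
    obtain ⟨hα, hred⟩ := hQ hj
    refine ⟨isStable_of_iso A e.symm (hsQ.2.2 j).1, fun p q hp hq => ?_⟩
    rw [A.hp_unique hq hpE]
    exact redEq_trans hα ((hsQ.2.2 j).2 p pQ (A.hp_iso e hp) hpQ) hred

/-- **Jordan–Hölder filtrations of a subobject with the same reduced polynomial and of the quotient**, with factors among the
factors of a given Jordan–Hölder filtration of the ambient semistable object. -/
theorem exists_jh_sub_quot {E G : C} (hss : A.IsSemistable E) (s : LTSeries (Subobject E))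
    (hs : IsJHWith A.IsStable A.HP d E s) (ι : G ⟶ E) [Mono ι] (hG : A.coh G)
    {pG pE : ℚ[X]} (hpG : A.HP G pG) (hpE : A.HP E pE) (hred : RedEq d pG pE) :
    (∃ sG : LTSeries (Subobject G), IsJHWith A.IsStable A.HP d G sG ∧
        ∀ i, ∃ j, Nonempty (factor sG i ≅ factor s j)) ∧
    (∃ sQ : LTSeries (Subobject (cokernel ι)), IsJHWith A.IsStable A.HP d (cokernel ι) sQ ∧
        ∀ i, ∃ j, Nonempty (factor sQ i ≅ factor s j)) := by
  have hE := hss.1
  have hE0 := hss.2.1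
  have hpure := hss.2.2.1
  have hd : A.dle E := A.dle_of_isPure hE hE0 hpure
  have hGd : A.dle G := A.dle_of_mono ι inferInstance hd
  have hQc : A.coh (cokernel ι) := A.coh_cokernel ι hG hE
  have hQd : A.dle (cokernel ι) := A.dle_of_epi (cokernel.π ι) inferInstance hd
  obtain ⟨pQ, hpQ⟩ := A.hp_exists hQc hQd
  have hsG : ∃ sG : LTSeries (Subobject G), IsJHWith A.IsStable A.HP d G sG ∧
      (sG.length ≠ 0 → alpha d pG ≠ 0 ∧ RedEq d pG pE) := by
    by_cases hG0 : IsZero G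
    · obtain ⟨sM, hl, hJ⟩ := exists_jh_of_isZero A hG0
      exact ⟨sM, hJ, fun h => absurd hl h⟩
    · have hGss := isSemistable_sub A hss ι hG hG0 hpG hpE hred
      obtain ⟨sM, hJ⟩ := A.exists_isJHWith hGss
      refine ⟨sM, hJ, fun _ => ⟨?_, hred⟩⟩
      exact ((A.deq_iff hG hGd hpG).mp (hGss.2.2.1 G (𝟙 G) inferInstance hG hG0)).ne'
  have hsQ : ∃ sQ : LTSeries (Subobject (cokernel ι)), IsJHWith A.IsStable A.HP d (cokernel ι) sQ ∧
      (sQ.length ≠ 0 → alpha d pQ ≠ 0 ∧ RedEq d pQ pE) := by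
    by_cases hni : IsIso ι
    · have hQ0 : IsZero (cokernel ι) := isZero_cokernel_of_epi ι
      obtain ⟨sM, hl, hJ⟩ := exists_jh_of_isZero A hQ0
      exact ⟨sM, hJ, fun h => absurd hl h⟩
    · obtain ⟨hQss, hpQ', hredQ⟩ := isSemistable_quot A hss ι hG hni hpG hpE hred
      have hpq : pQ = pE - pG := A.hp_unique hpQ hpQ'
      obtain ⟨sM, hJ⟩ := A.exists_isJHWith hQss
      refine ⟨sM, hJ, fun _ => ⟨?_, by rw [hpq]; exact hredQ⟩⟩
      exact ((A.deq_iff hQc hQd hpQ).mp (hQss.2.2.1 _ (𝟙 _) inferInstance hQc hQss.2.1)).ne'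
  obtain ⟨sG, hJG, hGα⟩ := hsG
  obtain ⟨sQ, hJQ, hQα⟩ := hsQ
  have hJt := isJHWith_concat A ι sG sQ hJG hJQ hpG hpQ hpE hGα hQα
  obtain ⟨e, he⟩ := isJHWith_factor_equiv A hss _ s hJt hs
  refine ⟨⟨sG, hJG, fun i => ?_⟩, ⟨sQ, hJQ, fun i => ?_⟩⟩
  · obtain ⟨e1⟩ := concat_factor_left ι sG sQ hJG.2.1 hJQ.1 i
    obtain ⟨e2⟩ := he (Fin.castAdd sQ.length i)
    exact ⟨e _, ⟨e1.symm ≪≫ e2⟩⟩
  · obtain ⟨e1⟩ := concat_factor_right ι sG sQ hJG.2.1 hJQ.1 i
    obtain ⟨e2⟩ := he (Fin.natAdd sG.length i)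
    exact ⟨e _, ⟨e1.symm ≪≫ e2⟩⟩

end Groth.Agent.Lib.JHSub97
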