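/-
helper97: finite local freeness of the restriction to an open of a finite coproduct of modules versus its summands.
-/
import Groth.Agent.Lib.FinCovSplit93
import Groth.Agent.Lib.H78BiprodFree
import Groth.Agent.Lib.FinLocFree
import Mathlib

set_option autoImplicit false
set_option maxHeartbeats 400000

universe u

namespace Groth.Agent.Lib.JHSub97

open CategoryTheory CategoryTheory.Limits AlgebraicGeometry

variable {X : Scheme.{u}}

theorem isFinLocFree_restrict_of_iso {M M' : X.Modules} (U : X.Opens) (e : M ≅ M')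
    (h : FlatMod.IsFinLocFree (M.restrict U.ι)) : FlatMod.IsFinLocFree (M'.restrict U.ι) :=
  Groth.Agent.Lib.FinLocFree.isFinLocFree_of_iso ((Scheme.Modules.restrictFunctor U.ι).mapIso e) h

theorem isFinLocFree_restrict_of_coprod {k : ℕ} (N : Fin k → X.Modules) (U : X.Opens)
    (h : FlatMod.IsFinLocFree ((∐ N).restrict U.ι)) (i : Fin k) :
    FlatMod.IsFinLocFree ((N i).restrict U.ι) := by
  let F := Scheme.Modules.restrictFunctor U.ι
  let p : (∐ N) ⟶ N i := Sigma.desc (fun j => if h : j = i then eqToHom (congrArg N h) else 0)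
  have hp : Sigma.ι N i ≫ p = 𝟙 (N i) := by simp [p]
  refine Groth.Agent.Lib.FinCovSplit93.isFinLocFree_of_retract (F.map (Sigma.ι N i)) (F.map p) ?_ h
  rw [← F.map_comp, hp, F.map_id]

theorem isFinLocFree_restrict_coprod {k : ℕ} (N : Fin k → X.Modules) (U : X.Opens)
    (h : ∀ i, FlatMod.IsFinLocFree ((N i).restrict U.ι)) :
    FlatMod.IsFinLocFree ((∐ N).restrict U.ι) := by
  let F := Scheme.Modules.restrictFunctor U.ι
  have h1 : FlatMod.IsFinLocFree (⨁ fun i => F.obj (N i)) :=
    Groth.Agent.Lib.H78BiprodFree.isFinLocFree_biproduct _ h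
  have e : F.obj (∐ N) ≅ ⨁ fun i => F.obj (N i) :=
    PreservesCoproduct.iso F N ≪≫ (biproduct.isoCoproduct _).symm
  exact Groth.Agent.Lib.FinLocFree.isFinLocFree_of_iso e.symm h1

end Groth.Agent.Lib.JHSub97
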