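/-
helper97: under helper67's abstract axioms `Ax`: the image of a nonzero morphism between semistable objects with the same
reduced polynomial has that reduced polynomial.
-/
import Groth.Agent.Lib.JHSub97d

set_option autoImplicit false
set_option maxHeartbeats 400000

universe v u

namespace Groth.Agent.Lib.JHSub97

open CategoryTheory CategoryTheory.Limits Polynomial StabCat Filter
open Groth.Agent.Lib.StabLat67 Groth.Agent.Lib.StabAbs67

variable {C : Type u} [Category.{v} C] [Abelian C] {d : ℕ} (A : Ax C d)

theorem redEq_image {E F : C} (hE : A.IsSemistable E) (hF : A.IsSemistable F) {pE pF : ℚ[X]}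
    (hpE : A.HP E pE) (hpF : A.HP F pF) (hred : RedEq d pE pF) (f : E ⟶ F) (hf : f ≠ 0) :
    A.coh (Abelian.image f) ∧ ¬ IsZero (Abelian.image f) ∧
      ∃ pI : ℚ[X], A.HP (Abelian.image f) pI ∧ RedEq d pI pF := by
  obtain ⟨hEc, hE0, hEp, hESS⟩ := hE
  obtain ⟨hFc, hF0, hFp, hFSS⟩ := hF
  have hdE := A.dle_of_isPure hEc hE0 hEp
  have hdF := A.dle_of_isPure hFc hF0 hFp
  have hIc : A.coh (Abelian.image f) := A.coh_kernel (cokernel.π f) hFc (A.coh_cokernel f hEc hFc)
  have hI0 : ¬ IsZero (Abelian.image f) := fun hz => hf (by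
    rw [← Abelian.image.fac f, hz.eq_of_tgt (Abelian.factorThruImage f) 0, Limits.zero_comp])
  have hId : A.dle (Abelian.image f) := A.dle_of_mono (Abelian.image.ι f) inferInstance hdF
  obtain ⟨pI, hpI⟩ := A.hp_exists hIc hId
  have hαE : 0 < alpha d pE := (A.deq_iff hEc hdE hpE).mp (hEp E (𝟙 E) inferInstance hEc hE0)
  have hαF : 0 < alpha d pF := (A.deq_iff hFc hdF hpF).mp (hFp F (𝟙 F) inferInstance hFc hF0)
  have hαI : 0 < alpha d pI :=
    (A.deq_iff hIc hId hpI).mp (hFp _ (Abelian.image.ι f) inferInstance hIc hI0)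
  have h1 : RedLE d pI pF := by
    by_cases hiso : IsIso (Abelian.image.ι f)
    · have := A.hp_unique hpF (A.hp_iso (asIso (Abelian.image.ι f)) hpI)
      rw [this]; exact redLE_refl _
    · exact hFSS _ (Abelian.image.ι f) inferInstance hIc hI0 hiso pI pF hpI hpF
  have h2 : RedLE d pE pI := by
    have hKc : A.coh (kernel (Abelian.factorThruImage f)) :=
      A.coh_kernel (Abelian.factorThruImage f) hEc hIc
    by_cases hK0 : IsZero (kernel (Abelian.factorThruImage f))
    · have : Mono (Abelian.factorThruImage f) := Preadditive.mono_of_isZero_kernel _ hK0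
      have : IsIso (Abelian.factorThruImage f) := isIso_of_mono_of_epi _
      have := A.hp_unique hpI (A.hp_iso (asIso (Abelian.factorThruImage f)) hpE)
      rw [this]; exact redLE_refl _
    · have hKni : ¬ IsIso (kernel.ι (Abelian.factorThruImage f)) := by
        intro hiso
        apply hf
        have h0 : Abelian.factorThruImage f = 0 := by
          rw [← cancel_epi (kernel.ι (Abelian.factorThruImage f)), kernel.condition,
            Limits.comp_zero]
        rw [← Abelian.image.fac f, h0, Limits.zero_comp]
      have hKd : A.dle (kernel (Abelian.factorThruImage f)) :=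
        A.dle_of_mono (kernel.ι _) inferInstance hdE
      have hpK : A.HP (kernel (Abelian.factorThruImage f)) (pE - pI) :=
        A.hp_sub_right _ (shortExact_of_epi (Abelian.factorThruImage f)) hKc hEc hIc hKd hpE hpI
      have h3 : RedLE d (pE - pI) pE :=
        hESS _ (kernel.ι (Abelian.factorThruImage f)) inferInstance hKc hK0 hKni _ _ hpK hpE
      rw [redLE_iff] at h3 ⊢
      filter_upwards [h3] with m hm
      rw [alpha_sub, eval_sub] at hm
      nlinarith
  exact ⟨hIc, hI0, pI, hpI, redEq_of_redLE_of_redLE h1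
    (redLE_trans hαF.le hαE hαI.le (redGE_of_redEq hred) h2)⟩

end Groth.Agent.Lib.JHSub97
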