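/-
helper97: flatness at a point: of modules locally free near the point, of filtered modules; pullback of a monomorphism
whose cokernel is flat at the image points is a monomorphism (stalk formula for pullbacks + Tor vanishing).
-/
import Groth.Agent.Lib.JHSub97e
import Groth.Agent.Lib.PullbackStalk81
import Groth.Agent.Lib.H87LocFreeExact
import Groth.Agent.Lib.FlatModClosure
import Groth.Agent.Lib.LocFreeCrit
import Groth.Agent.Lib.StabAbs67A
import Groth.Prelude.Def_StabCat
import Mathlib

set_option autoImplicit false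
set_option maxHeartbeats 400000

universe u

namespace Groth.Agent.Lib.JHSub97

open CategoryTheory CategoryTheory.Limits AlgebraicGeometry
open Groth.Agent.Lib.ModStalkLin Groth.Agent.Lib.SkyMod81

section Alg

theorem injective_extendScalars_map_of_flat_coker {R S : Type u} [CommRing R] [CommRing S] (f : R →+* S)
    {M M' : ModuleCat.{u} R} (l : M ⟶ M') (hl : Function.Injective l.hom)
    {P : Type u} [AddCommGroup P] [Module R P] [Module.Flat R P] (g : M' →ₗ[R] P)
    (hg : Function.Surjective g) (hex : Function.Exact l.hom g) :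
    Function.Injective ((ModuleCat.extendScalars.{u, u, u} f).map l).hom := by
  letI := f.toAlgebra
  change Function.Injective (LinearMap.baseChange S l.hom)
  rw [LinearMap.baseChange_eq_ltensor]
  exact LinearMap.lTensor_injective_of_exact_of_flat g hg l.hom hl hex S

end Alg

variable {X : Scheme.{u}}

theorem isFlatAt_of_iso {M N : X.Modules} (e : M ≅ N) (x : X) (h : FlatMod.IsFlatAt M x) :
    FlatMod.IsFlatAt N x := by
  have : Module.Flat (X.presheaf.stalk x) (M.presheaf.stalk x) := h
  exact Module.Flat.of_linearEquiv (stalkLinEquiv e x).symm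

theorem isFlatAt_of_isZero {M : X.Modules} (hM : IsZero M) (x : X) : FlatMod.IsFlatAt M x :=
  Groth.Agent.Lib.FlatModClosure.isFlat_of_isZero hM x

theorem isFlatAt_of_shortExact_mid {S : ShortComplex X.Modules} (hS : S.ShortExact) (x : X)
    (h₁ : FlatMod.IsFlatAt S.X₁ x) (h₃ : FlatMod.IsFlatAt S.X₃ x) : FlatMod.IsFlatAt S.X₂ x := by
  have : Module.Flat (X.presheaf.stalk x) (S.X₁.presheaf.stalk x) := h₁
  have : Module.Flat (X.presheaf.stalk x) (S.X₃.presheaf.stalk x) := h₃
  obtain ⟨hi, hex, hp⟩ := stalkLin_exact hS x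
  exact Groth.Agent.Lib.RelCartier.flat_of_exact_left_right _ _ hi hp hex

theorem isFlatAt_of_restrict_isFinLocFree (M : X.Modules) (U : X.Opens) (x : X) (hxU : x ∈ U)
    (h : FlatMod.IsFinLocFree (M.restrict U.ι)) : FlatMod.IsFlatAt M x := by
  obtain ⟨V, n, hxV, ⟨e⟩⟩ := h ⟨x, hxU⟩
  have hk := Groth.Agent.Lib.LocFreeCrit.locFreeAt_of_restrict_iso V hxV e
  have h2 := Groth.Agent.Lib.LocFreeCrit.LocFreeAt.of_restrict U hxU hk
  obtain ⟨U', hx', ⟨e'⟩⟩ := h2.exists_restrict_iso
  have := (Groth.Agent.Lib.H87LocFreeExact.stalk_free_finite_finrank U' e' ⟨x, hx'⟩).1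
  change Module.Flat _ _
  infer_instance

/-- a module with a finite filtration whose factors are flat at `x` is flat at `x` -/
theorem isFlatAt_of_filtration {M : X.Modules} (s : LTSeries (Subobject M)) (h0 : s.head = ⊥)
    (hl : s.last = ⊤) (x : X) (hf : ∀ i : Fin s.length, FlatMod.IsFlatAt (StabCat.factor s i) x) :
    FlatMod.IsFlatAt M x := by
  have key : ∀ i : Fin (s.length + 1), FlatMod.IsFlatAt ((s i : Subobject M) : X.Modules) x := by
    intro i
    induction i using Fin.induction with
    | zero =>
      apply isFlatAt_of_isZero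
      have : s 0 = ⊥ := h0
      rw [this]; exact (Groth.Agent.Lib.StabAbs67.eq_bot_iff_isZero ⊥).mp rfl
    | succ i ih =>
      have hS := Groth.Agent.Lib.StabAbs67.shortExact_of_mono
        (Subobject.ofLE (s i.castSucc) (s i.succ) (le_of_lt (s.step i)))
      exact isFlatAt_of_shortExact_mid hS x ih (hf i)
  have h1 := key (Fin.last _)
  have htop : s (Fin.last _) = ⊤ := hl
  rw [htop] at h1
  exact isFlatAt_of_iso (asIso (⊤ : Subobject M).arrow) x h1

open Groth.Agent.Lib.PullbackStalk81 in
/-- pullback preserves a monomorphism whose cokernel is flat at the image points -/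
theorem mono_pullback_of_isFlatAt_cokernel {X Y : Scheme.{u}} (f : X ⟶ Y) {M M' : Y.Modules}
    (φ : M ⟶ M') [Mono φ] (h : ∀ x : X, FlatMod.IsFlatAt (cokernel φ) (f x)) :
    Mono ((Scheme.Modules.pullback f).map φ) := by
  apply Groth.Agent.Lib.ModStalkIso.mono_of_stalk_injective
  intro x
  have h1 : Function.Injective ((stalkMod x).map ((Scheme.Modules.pullback f).map φ)).hom := by
    rw [stalkMod_map_pullback]
    have hS := Groth.Agent.Lib.StabAbs67.shortExact_of_mono φ
    obtain ⟨hi, hex, hp⟩ := stalkLin_exact hS (f x)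
    haveI : Module.Flat (Y.presheaf.stalk (f x)) ((cokernel φ).presheaf.stalk (f x)) := h x
    have hinj := injective_extendScalars_map_of_flat_coker (f.stalkMap x).hom
      ((stalkMod (f x)).map φ) hi (stalkLin (cokernel.π φ) (f x)) hp hex
    have e1 : Function.Injective ((pullbackStalkIso f x).hom.app M).hom :=
      ((pullbackStalkIso f x).app M).toLinearEquiv.injective
    have e2 : Function.Injective ((pullbackStalkIso f x).inv.app M').hom :=
      ((pullbackStalkIso f x).symm.app M').toLinearEquiv.injective
    exact e2.comp (hinj.comp e1)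
  exact h1

end Groth.Agent.Lib.JHSub97
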