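import Mathlib

/-!
# The j-spectrum via the maximal spectrum (helper6)

Namespace `Groth.Agent.Lib.JSpec6`. Primes that are intersections of maximal ideals correspond to
irreducible closed subsets of `MaximalSpectrum R`.
-/

set_option autoImplicit false

namespace Groth.Agent.Lib.JSpec6

open TopologicalSpace

variable {R : Type*} [CommRing R]

/-- the closed subset of `MaximalSpectrum R` cut out by an ideal -/
def zsetI (I : Ideal R) : Set (MaximalSpectrum R) := {x | I ≤ x.asIdeal}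

lemma zsetI_eq_preimage (I : Ideal R) :
    zsetI I = MaximalSpectrum.toPrimeSpectrum ⁻¹' (PrimeSpectrum.zeroLocus (I : Set R)) := by
  ext x
  simp [zsetI, PrimeSpectrum.mem_zeroLocus, MaximalSpectrum.toPrimeSpectrum]

lemma isClosed_zsetI (I : Ideal R) : IsClosed (zsetI I) := by
  rw [zsetI_eq_preimage]
  exact (PrimeSpectrum.isClosed_zeroLocus _).preimage MaximalSpectrum.toPrimeSpectrum_continuous

lemma zsetI_anti {I J : Ideal R} (h : I ≤ J) : zsetI J ⊆ zsetI I := fun _ hx => h.trans hx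

/-- vanishing ideal of a set of maximal ideals -/
def vanI (Z : Set (MaximalSpectrum R)) : Ideal R := ⨅ x ∈ Z, x.asIdeal

lemma mem_vanI {Z : Set (MaximalSpectrum R)} {r : R} : r ∈ vanI Z ↔ ∀ x ∈ Z, r ∈ x.asIdeal := by
  simp [vanI]

lemma vanI_le {Z : Set (MaximalSpectrum R)} {x : MaximalSpectrum R} (hx : x ∈ Z) :
    vanI Z ≤ x.asIdeal := fun _ hr => mem_vanI.mp hr x hx

lemma vanI_anti {Z Z' : Set (MaximalSpectrum R)} (h : Z ⊆ Z') : vanI Z' ≤ vanI Z :=
  fun _ hr => mem_vanI.mpr fun x hx => mem_vanI.mp hr x (h hx)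

lemma le_vanI_zsetI (I : Ideal R) : I ≤ vanI (zsetI I) :=
  fun _ hr => mem_vanI.mpr fun _ hx => hx hr

lemma subset_zsetI_vanI (Z : Set (MaximalSpectrum R)) : Z ⊆ zsetI (vanI Z) :=
  fun _ hx => vanI_le hx

lemma exists_eq_zsetI_of_isClosed {Z : Set (MaximalSpectrum R)} (hZ : IsClosed Z) :
    ∃ I : Ideal R, Z = zsetI I := by
  obtain ⟨T, hT, rfl⟩ := isClosed_induced_iff.mp hZ
  obtain ⟨I, rfl⟩ := (PrimeSpectrum.isClosed_iff_zeroLocus_ideal T).mp hT
  exact ⟨I, (zsetI_eq_preimage I).symm⟩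

lemma zsetI_vanI_of_isClosed {Z : Set (MaximalSpectrum R)} (hZ : IsClosed Z) :
    zsetI (vanI Z) = Z := by
  obtain ⟨I, rfl⟩ := exists_eq_zsetI_of_isClosed hZ
  exact le_antisymm (zsetI_anti (le_vanI_zsetI I)) (subset_zsetI_vanI _)

lemma zsetI_union (I J : Ideal R) : zsetI I ∪ zsetI J = zsetI (I * J) := by
  ext x
  simp only [zsetI, Set.mem_union, Set.mem_ofPred_eq]
  constructor
  · rintro (h | h)
    · exact Ideal.mul_le_left.trans h
    · exact Ideal.mul_le_right.trans h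
  · intro h
    exact (x.isMaximal.isPrime.mul_le).mp h

lemma isPrime_vanI {Z : Set (MaximalSpectrum R)} (hZ : IsIrreducible Z) : (vanI Z).IsPrime := by
  obtain ⟨x, hx⟩ := hZ.nonempty
  refine ⟨fun h => x.isMaximal.ne_top (top_le_iff.mp (h ▸ vanI_le hx)), ?_⟩
  intro a b hab
  have hcover : Z ⊆ zsetI (Ideal.span {a}) ∪ zsetI (Ideal.span {b}) := by
    intro y hy
    have : a * b ∈ y.asIdeal := mem_vanI.mp hab y hy
    rcases y.isMaximal.isPrime.mem_or_mem this with h | h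
    · exact Or.inl ((Ideal.span_singleton_le_iff_mem _).mpr h)
    · exact Or.inr ((Ideal.span_singleton_le_iff_mem _).mpr h)
  rcases (isPreirreducible_iff_isClosed_union_isClosed.mp hZ.isPreirreducible) _ _
    (isClosed_zsetI _) (isClosed_zsetI _) hcover with h | h
  · exact Or.inl (mem_vanI.mpr fun y hy => (Ideal.span_singleton_le_iff_mem _).mp (h hy))
  · exact Or.inr (mem_vanI.mpr fun y hy => (Ideal.span_singleton_le_iff_mem _).mp (h hy))

/-- `p` is an intersection of maximal ideals -/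
def IsJ (p : PrimeSpectrum R) : Prop := vanI (zsetI p.asIdeal) ≤ p.asIdeal

lemma IsJ.eq {p : PrimeSpectrum R} (hp : IsJ p) : vanI (zsetI p.asIdeal) = p.asIdeal :=
  le_antisymm hp (le_vanI_zsetI _)

lemma isJ_toPrimeSpectrum (x : MaximalSpectrum R) : IsJ x.toPrimeSpectrum :=
  vanI_le (Z := zsetI x.toPrimeSpectrum.asIdeal) (x := x) (le_refl x.asIdeal)

/-- the j-prime attached to an irreducible set of maximal ideals -/
def jprime (Z : Set (MaximalSpectrum R)) (hZ : IsIrreducible Z) : PrimeSpectrum R :=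
  ⟨vanI Z, isPrime_vanI hZ⟩

lemma isJ_jprime (Z : Set (MaximalSpectrum R)) (hZ : IsIrreducible Z) : IsJ (jprime Z hZ) :=
  vanI_anti (subset_zsetI_vanI Z)

lemma isIrreducible_zsetI {p : PrimeSpectrum R} (hp : IsJ p) : IsIrreducible (zsetI p.asIdeal) := by
  constructor
  · obtain ⟨m, hm, hpm⟩ := Ideal.exists_le_maximal p.asIdeal p.isPrime.ne_top
    exact ⟨⟨m, hm⟩, hpm⟩
  · rw [isPreirreducible_iff_isClosed_union_isClosed]
    intro z₁ z₂ hz₁ hz₂ hcover
    obtain ⟨I₁, rfl⟩ := exists_eq_zsetI_of_isClosed hz₁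
    obtain ⟨I₂, rfl⟩ := exists_eq_zsetI_of_isClosed hz₂
    rw [zsetI_union] at hcover
    have h1 : I₁ * I₂ ≤ p.asIdeal :=
      (le_vanI_zsetI _).trans ((vanI_anti hcover).trans hp)
    rcases (p.isPrime.mul_le).mp h1 with h | h
    · exact Or.inl (zsetI_anti h)
    · exact Or.inr (zsetI_anti h)

/-- the irreducible closed subset of `MaximalSpectrum R` attached to a j-prime -/
def zirr (p : PrimeSpectrum R) (hp : IsJ p) : IrreducibleCloseds (MaximalSpectrum R) :=
  ⟨zsetI p.asIdeal, isIrreducible_zsetI hp, isClosed_zsetI _⟩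

lemma zirr_lt {p q : PrimeSpectrum R} (hp : IsJ p) (hq : IsJ q) (hpq : p < q) :
    zirr q hq < zirr p hp := by
  refine lt_of_le_of_ne (zsetI_anti hpq.le) fun h => ?_
  have h' : zsetI q.asIdeal = zsetI p.asIdeal :=
    congrArg (fun Z : IrreducibleCloseds (MaximalSpectrum R) => (Z : Set (MaximalSpectrum R))) h
  have : q.asIdeal = p.asIdeal := by rw [← hq.eq, ← hp.eq, h']
  exact hpq.ne (PrimeSpectrum.ext this.symm)

lemma zirr_le {p q : PrimeSpectrum R} (hp : IsJ p) (hq : IsJ q) (hpq : p ≤ q) :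
    zirr q hq ≤ zirr p hp := zsetI_anti hpq

/-- In a ring with Noetherian maximal spectrum, every "closed set" of j-primes has a finite
coinitial subset. -/
theorem exists_finset_coinitial [NoetherianSpace (MaximalSpectrum R)] (I : Ideal R) :
    ∃ F : Finset (PrimeSpectrum R), (∀ q ∈ F, IsJ q ∧ I ≤ q.asIdeal) ∧
      ∀ p : PrimeSpectrum R, IsJ p → I ≤ p.asIdeal → ∃ q ∈ F, q ≤ p := by
  classical
  obtain ⟨S, hSf, hSc, hSi, hSU⟩ :=
    NoetherianSpace.exists_finite_set_isClosed_irreducible (isClosed_zsetI I)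
  lift S to Finset (Set (MaximalSpectrum R)) using hSf
  refine ⟨S.attach.image fun Z => jprime Z.1 (hSi Z.1 Z.2), ?_, ?_⟩
  · intro q hq
    obtain ⟨Z, -, rfl⟩ := Finset.mem_image.mp hq
    refine ⟨isJ_jprime _ _, ?_⟩
    have hsub : Z.1 ⊆ zsetI I := by
      rw [hSU]; exact Set.subset_sUnion_of_mem Z.2
    exact (le_vanI_zsetI I).trans (vanI_anti hsub)
  · intro p hp hIp
    have hsub : zsetI p.asIdeal ⊆ ⋃₀ (S : Set (Set (MaximalSpectrum R))) := by
      rw [← hSU]; exact zsetI_anti hIp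
    obtain ⟨Z, hZS, hpZ⟩ := isIrreducible_iff_sUnion_isClosed.mp (isIrreducible_zsetI hp) S
      (fun z hz => hSc z hz) hsub
    refine ⟨jprime Z (hSi Z hZS), Finset.mem_image.mpr ⟨⟨Z, hZS⟩, Finset.mem_attach _ _, rfl⟩, ?_⟩
    show vanI Z ≤ p.asIdeal
    exact (vanI_anti hpZ).trans hp

end Groth.Agent.Lib.JSpec6
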