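import Mathlib

namespace Groth.Agent.Lib.JacobianPt97

open MvPolynomial IsLocalRing

universe u
variable {k : Type u} [Field k] {n : ℕ}

/-- gradient at `a`. -/
noncomputable def D (a : Fin n → k) : MvPolynomial (Fin n) k →ₗ[k] (Fin n → k) where
  toFun f j := eval a (pderiv j f)
  map_add' f g := by ext j; simp
  map_smul' c f := by ext j; simp [smul_eq_C_mul]

@[simp] lemma D_apply (a : Fin n → k) (f : MvPolynomial (Fin n) k) (j : Fin n) :
    D a f j = eval a (pderiv j f) := rfl

lemma D_mul (a : Fin n → k) (f g : MvPolynomial (Fin n) k) :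
    D a (f * g) = eval a f • D a g + eval a g • D a f := by
  ext j
  simp [Derivation.leibniz]

lemma D_C (a : Fin n → k) (c : k) : D a (C c) = 0 := by
  ext j; simp

lemma D_X (a : Fin n → k) (i : Fin n) : D a (X i) = Pi.single i 1 := by
  ext j
  simp [pderiv_X, Pi.single_apply, eq_comm]

/-- linear polynomial with gradient `c` vanishing at `a`. -/
noncomputable def lin (a : Fin n → k) : (Fin n → k) →ₗ[k] MvPolynomial (Fin n) k :=
  Fintype.linearCombination k (fun j => (X j - C (a j) : MvPolynomial (Fin n) k))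

lemma lin_apply (a c : Fin n → k) : lin a c = ∑ j, C (c j) * (X j - C (a j)) := by
  simp [lin, Fintype.linearCombination_apply, smul_eq_C_mul]

lemma lin_single (a : Fin n → k) (i : Fin n) (c : k) :
    lin a (Pi.single i c) = C c * (X i - C (a i)) := by
  simp [lin, Fintype.linearCombination_apply_single, smul_eq_C_mul]

lemma eval_lin (a c : Fin n → k) : eval a (lin a c) = 0 := by
  simp [lin_apply]

lemma D_lin (a c : Fin n → k) : D a (lin a c) = c := by
  ext j
  simp [lin_apply, pderiv_X, Pi.single_apply, Derivation.leibniz]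

/-- the ideal generated by `X j - a j`. -/
noncomputable def N (a : Fin n → k) : Ideal (MvPolynomial (Fin n) k) :=
  Ideal.span (Set.range fun j => (X j - C (a j) : MvPolynomial (Fin n) k))

lemma X_sub_mem_N (a : Fin n → k) (j : Fin n) : (X j - C (a j) : MvPolynomial (Fin n) k) ∈ N a :=
  Ideal.subset_span ⟨j, rfl⟩

lemma sub_eval_mem_N (a : Fin n → k) (f : MvPolynomial (Fin n) k) : f - C (eval a f) ∈ N a := by
  induction f using MvPolynomial.induction_on with
  | C c => simp
  | add f g hf hg =>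
    have : f + g - C (eval a (f + g)) = (f - C (eval a f)) + (g - C (eval a g)) := by
      simp only [map_add]; ring
    rw [this]; exact add_mem hf hg
  | mul_X f i hf =>
    have : f * X i - C (eval a (f * X i)) = (f - C (eval a f)) * X i + C (eval a f) * (X i - C (a i)) := by
      simp only [map_mul, eval_X]; ring
    rw [this]
    exact add_mem (Ideal.mul_mem_right _ _ hf) (Ideal.mul_mem_left _ _ (X_sub_mem_N a i))

lemma N_le_ker (a : Fin n → k) : N a ≤ RingHom.ker (eval a) := by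
  rw [N, Ideal.span_le]
  rintro _ ⟨j, rfl⟩
  simp [RingHom.mem_ker]

lemma ker_eq_N (a : Fin n → k) : RingHom.ker (eval a) = N a := by
  refine le_antisymm (fun f hf => ?_) (N_le_ker a)
  have := sub_eval_mem_N a f
  rw [RingHom.mem_ker] at hf
  simpa [hf] using this

lemma lin_mem_N (a c : Fin n → k) : lin a c ∈ N a := by
  rw [lin_apply]
  exact sum_mem fun j _ => Ideal.mul_mem_left _ _ (X_sub_mem_N a j)

/-- first-order Taylor expansion. -/
lemma taylor (a : Fin n → k) (f : MvPolynomial (Fin n) k) :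
    f - C (eval a f) - lin a (D a f) ∈ N a ^ 2 := by
  induction f using MvPolynomial.induction_on with
  | C c => simp [D_C]
  | add f g hf hg =>
    have : f + g - C (eval a (f + g)) - lin a (D a (f + g)) =
        (f - C (eval a f) - lin a (D a f)) + (g - C (eval a g) - lin a (D a g)) := by
      simp only [map_add]; ring
    rw [this]; exact add_mem hf hg
  | mul_X f i hf =>
    have : f * X i - C (eval a (f * X i)) - lin a (D a (f * X i)) =
        (f - C (eval a f)) * (X i - C (a i)) + C (a i) * (f - C (eval a f) - lin a (D a f)) := by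
      rw [D_mul, D_X, map_add, map_smul, map_smul, lin_single]
      simp only [map_mul, eval_X, smul_eq_C_mul, C_1]
      ring
    rw [this]
    refine add_mem ?_ (Ideal.mul_mem_left _ _ hf)
    rw [pow_two]
    exact Ideal.mul_mem_mul (sub_eval_mem_N a f) (X_sub_mem_N a i)

lemma D_eq_zero_of_mem_sq (a : Fin n → k) {f : MvPolynomial (Fin n) k} (hf : f ∈ N a ^ 2) :
    D a f = 0 := by
  rw [pow_two] at hf
  refine Submodule.mul_induction_on hf (fun x hx y hy => ?_) (fun x y hx hy => ?_)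
  · have hx' := N_le_ker a hx
    have hy' := N_le_ker a hy
    rw [RingHom.mem_ker] at hx' hy'
    rw [D_mul, hx', hy']; simp
  · rw [map_add, hx, hy, add_zero]


section main

variable {A : Type u} [CommRing A] [Algebra k A]
  (q : MvPolynomial (Fin n) k →ₐ[k] A)
  {r : ℕ} (F : Fin r → MvPolynomial (Fin n) k)
  (a : Fin n → k) (𝔪 : Ideal A) [𝔪.IsMaximal]

/-- The row space of the Jacobian matrix at `a`. -/
noncomputable def W : Submodule k (Fin n → k) :=
  Submodule.span k (Set.range fun i => D a (F i))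

variable (hq : Function.Surjective q) (hF : RingHom.ker q = Ideal.span (Set.range F))
  (h𝔪 : 𝔪.comap q = RingHom.ker (MvPolynomial.eval a))

include h𝔪 in
omit [𝔪.IsMaximal] in
lemma ker_le_ker : RingHom.ker q ≤ RingHom.ker (eval a) := by
  rw [← h𝔪]
  intro f hf
  rw [Ideal.mem_comap, RingHom.mem_ker.mp hf]
  exact zero_mem _

include hF h𝔪 in
omit [𝔪.IsMaximal] in
lemma eval_F (i : Fin r) : eval a (F i) = 0 :=
  ker_le_ker q a 𝔪 h𝔪 (hF ▸ Ideal.subset_span (Set.mem_range_self i))

include hF h𝔪 in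
omit [𝔪.IsMaximal] in
lemma D_mem_W_of_mem {f : MvPolynomial (Fin n) k} (hf : f ∈ RingHom.ker q) :
    D a f ∈ W F a := by
  rw [hF] at hf
  refine Submodule.span_induction ?_ ?_ ?_ ?_ hf
  · rintro _ ⟨i, rfl⟩
    exact Submodule.subset_span ⟨i, rfl⟩
  · simp
  · intro x y _ _ hx hy
    rw [map_add]; exact add_mem hx hy
  · intro g x hx' hx
    rw [smul_eq_mul, D_mul]
    have hx0 : eval a x = 0 := ker_le_ker q a 𝔪 h𝔪 (hF ▸ hx')
    rw [hx0, zero_smul, add_zero]
    exact Submodule.smul_mem _ _ hx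

include h𝔪 in
omit [𝔪.IsMaximal] in
lemma q_mem_iff (f : MvPolynomial (Fin n) k) : q f ∈ 𝔪 ↔ eval a f = 0 := by
  rw [← Ideal.mem_comap, h𝔪, RingHom.mem_ker]

/-- the `k`-algebra map `k[T] → A_𝔪`. -/
noncomputable def psi : MvPolynomial (Fin n) k →ₐ[k] Localization.AtPrime 𝔪 :=
  (IsScalarTower.toAlgHom k A (Localization.AtPrime 𝔪)).comp q

lemma psi_apply (f : MvPolynomial (Fin n) k) :
    psi q 𝔪 f = algebraMap _ (Localization.AtPrime 𝔪) (q f) := rfl

include h𝔪 in
lemma psi_mem_iff (f : MvPolynomial (Fin n) k) :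
    psi q 𝔪 f ∈ maximalIdeal (Localization.AtPrime 𝔪) ↔ eval a f = 0 := by
  rw [psi_apply, IsLocalization.AtPrime.to_map_mem_maximal_iff (Localization.AtPrime 𝔪) 𝔪,
    q_mem_iff q a 𝔪 h𝔪]

include h𝔪 in
lemma psi_mem_sq {f : MvPolynomial (Fin n) k} (hf : f ∈ N a ^ 2) :
    psi q 𝔪 f ∈ maximalIdeal (Localization.AtPrime 𝔪) ^ 2 := by
  have h1 : Ideal.map (psi q 𝔪) (N a) ≤ maximalIdeal (Localization.AtPrime 𝔪) := by
    rw [Ideal.map_le_iff_le_comap]
    intro g hg
    rw [Ideal.mem_comap]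
    exact (psi_mem_iff q a 𝔪 h𝔪 g).mpr (RingHom.mem_ker.mp (N_le_ker a hg))
  have h2 : psi q 𝔪 f ∈ Ideal.map (psi q 𝔪) (N a ^ 2) := Ideal.mem_map_of_mem _ hf
  rw [Ideal.map_pow] at h2
  exact Ideal.pow_right_mono h1 2 h2

/-- The map `kⁿ → 𝔪/𝔪²`, `c ↦ [∑ c_j (T_j - a_j)]`. -/
noncomputable def Psi : (Fin n → k) →ₗ[k] CotangentSpace (Localization.AtPrime 𝔪) where
  toFun c := (maximalIdeal (Localization.AtPrime 𝔪)).toCotangent
    ⟨psi q 𝔪 (lin a c), (psi_mem_iff q a 𝔪 h𝔪 _).mpr (eval_lin a c)⟩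
  map_add' c c' := by
    rw [← map_add]
    congr 1
    ext
    simp
  map_smul' t c := by
    rw [RingHom.id_apply, ← LinearMap.map_smul_of_tower]
    congr 1
    ext
    simp

lemma Psi_apply (c : Fin n → k) : Psi q a 𝔪 h𝔪 c =
    (maximalIdeal (Localization.AtPrime 𝔪)).toCotangent
      ⟨psi q 𝔪 (lin a c), (psi_mem_iff q a 𝔪 h𝔪 _).mpr (eval_lin a c)⟩ := rfl

include hq hF in
lemma Psi_eq_zero_iff (c : Fin n → k) : Psi q a 𝔪 h𝔪 c = 0 ↔ c ∈ W F a := by
  rw [Psi_apply, Ideal.toCotangent_eq_zero]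
  constructor
  · intro h
    simp only at h
    -- pull back to `A`
    have h1 : q (lin a c) ∈ 𝔪 ^ 2 := by
      rw [← IsLocalization.AtPrime.under_maximalIdeal_pow 𝔪 (Localization.AtPrime 𝔪) 2]
      exact h
    have h2 : 𝔪 ^ 2 = Ideal.map q (N a ^ 2) := by
      rw [Ideal.map_pow, ← ker_eq_N, ← h𝔪, Ideal.map_comap_of_surjective _ hq]
    rw [h2, Ideal.mem_map_iff_of_surjective _ hq] at h1
    obtain ⟨m, hm, hmc⟩ := h1
    have h3 : lin a c - m ∈ RingHom.ker q := by
      rw [RingHom.mem_ker, map_sub, hmc, sub_self]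
    have h4 := D_mem_W_of_mem q F a 𝔪 hF h𝔪 h3
    rwa [map_sub, D_lin, D_eq_zero_of_mem_sq a hm, sub_zero] at h4
  · intro hc
    have key : W F a ≤ LinearMap.ker (Psi q a 𝔪 h𝔪) := by
      rw [W, Submodule.span_le]
      rintro _ ⟨i, rfl⟩
      rw [SetLike.mem_coe, LinearMap.mem_ker, Psi_apply, Ideal.toCotangent_eq_zero]
      simp only
      have ht := taylor a (F i)
      rw [eval_F q F a 𝔪 hF h𝔪 i, map_zero, sub_zero] at ht
      have h5 : psi q 𝔪 (F i) = 0 := by
        have : F i ∈ RingHom.ker q := hF ▸ Ideal.subset_span (Set.mem_range_self i)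
        rw [psi_apply, RingHom.mem_ker.mp this, map_zero]
      have h6 := psi_mem_sq q a 𝔪 h𝔪 ht
      rw [map_sub, h5, zero_sub] at h6
      exact neg_mem_iff.mp h6
    have := key hc
    rwa [LinearMap.mem_ker, Psi_apply, Ideal.toCotangent_eq_zero] at this


include hq in
lemma Psi_surjective : Function.Surjective (Psi q a 𝔪 h𝔪) := by
  intro z
  obtain ⟨⟨x, hx⟩, rfl⟩ := Ideal.toCotangent_surjective _ z
  obtain ⟨⟨y, s⟩, hys⟩ := IsLocalization.surj 𝔪.primeCompl x
  obtain ⟨f, rfl⟩ := hq y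
  obtain ⟨g, hg⟩ := hq s
  simp only at hys
  have hunit : IsUnit (psi q 𝔪 g) := by
    rw [psi_apply, hg]
    exact IsLocalization.map_units _ s
  have hf0 : eval a f = 0 := by
    rw [← psi_mem_iff q a 𝔪 h𝔪, psi_apply, ← hys]
    exact Ideal.mul_mem_right _ _ hx
  have hg0 : eval a g ≠ 0 := by
    rw [Ne, ← q_mem_iff q a 𝔪 h𝔪, hg]
    exact s.2
  refine ⟨(eval a g)⁻¹ • D a f, ?_⟩
  rw [Psi_apply, Ideal.toCotangent_eq]
  simp only
  rw [← neg_mem_iff, neg_sub, ← Ideal.mul_unit_mem_iff_mem _ hunit, sub_mul,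
    show x * psi q 𝔪 g = psi q 𝔪 f by rw [psi_apply, psi_apply, hg, hys],
    ← map_mul, ← map_sub]
  have hN : f - lin a ((eval a g)⁻¹ • D a f) * g ∈ N a ^ 2 := by
    have e1 : f - lin a ((eval a g)⁻¹ • D a f) * g =
        (f - C (eval a f) - lin a (D a f)) - lin a ((eval a g)⁻¹ • D a f) * (g - C (eval a g)) := by
      have e2 : lin a ((eval a g)⁻¹ • D a f) * C (eval a g) = lin a (D a f) := by
        rw [mul_comm, ← smul_eq_C_mul, ← map_smul, smul_smul, mul_inv_cancel₀ hg0, one_smul]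
      rw [mul_sub, e2, hf0, map_zero]
      ring
    rw [e1]
    refine sub_mem (taylor a f) ?_
    rw [pow_two]
    exact Ideal.mul_mem_mul (lin_mem_N a _) (sub_eval_mem_N a g)
  exact psi_mem_sq q a 𝔪 h𝔪 hN

include hq hF h𝔪 in
theorem finrank_base :
    Module.finrank k (CotangentSpace (Localization.AtPrime 𝔪)) + Module.finrank k (W F a) = n := by
  have h1 := LinearMap.finrank_range_add_finrank_ker (Psi q a 𝔪 h𝔪)
  have h2 : LinearMap.range (Psi q a 𝔪 h𝔪) = ⊤ :=
    LinearMap.range_eq_top.mpr (Psi_surjective q a 𝔪 hq h𝔪)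
  have h3 : LinearMap.ker (Psi q a 𝔪 h𝔪) = W F a := by
    ext c
    rw [LinearMap.mem_ker, Psi_eq_zero_iff q F a 𝔪 hq hF h𝔪]
  rw [h2, h3, finrank_top, Module.finrank_fintype_fun_eq_card, Fintype.card_fin] at h1
  exact h1

include hq h𝔪 in
lemma bijective_algebraMap_residueField :
    Function.Bijective (algebraMap k (ResidueField (Localization.AtPrime 𝔪))) := by
  refine ⟨(algebraMap k (ResidueField (Localization.AtPrime 𝔪))).injective, fun z => ?_⟩
  obtain ⟨x, rfl⟩ := IsLocalRing.residue_surjective z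
  obtain ⟨⟨y, s⟩, hys⟩ := IsLocalization.surj 𝔪.primeCompl x
  obtain ⟨f, rfl⟩ := hq y
  obtain ⟨g, hg⟩ := hq s
  simp only at hys
  have hunit : IsUnit (psi q 𝔪 g) := by
    rw [psi_apply, hg]
    exact IsLocalization.map_units _ s
  have hg0 : eval a g ≠ 0 := by
    rw [Ne, ← q_mem_iff q a 𝔪 h𝔪, hg]
    exact s.2
  refine ⟨eval a f / eval a g, ?_⟩
  rw [IsScalarTower.algebraMap_apply k (Localization.AtPrime 𝔪), IsLocalRing.ResidueField.algebraMap_eq,
    eq_comm, ← sub_eq_zero, ← map_sub, IsLocalRing.residue_eq_zero_iff,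
    ← Ideal.mul_unit_mem_iff_mem _ hunit, sub_mul,
    show x * psi q 𝔪 g = psi q 𝔪 f by rw [psi_apply, psi_apply, hg, hys],
    show algebraMap k (Localization.AtPrime 𝔪) (eval a f / eval a g) =
      psi q 𝔪 (C (eval a f / eval a g)) by rw [← algebraMap_eq, AlgHom.commutes],
    ← map_mul, ← map_sub, psi_mem_iff q a 𝔪 h𝔪]
  simp only [map_sub, map_mul, eval_C]
  field_simp
  ring

include hq h𝔪 in
lemma finrank_residueField_eq :
    Module.finrank (ResidueField (Localization.AtPrime 𝔪)) (CotangentSpace (Localization.AtPrime 𝔪)) =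
      Module.finrank k (CotangentSpace (Localization.AtPrime 𝔪)) := by
  have := rank_eq_of_equiv_equiv (algebraMap k (ResidueField (Localization.AtPrime 𝔪)))
    (AddEquiv.refl (CotangentSpace (Localization.AtPrime 𝔪)))
    (bijective_algebraMap_residueField q a 𝔪 hq h𝔪) (fun c m => by
      rw [AddEquiv.refl_apply, AddEquiv.refl_apply,
        IsScalarTower.algebraMap_apply k (Localization.AtPrime 𝔪), algebraMap_smul, algebraMap_smul])
  rw [Module.finrank, Module.finrank, this]

include hq hF h𝔪 in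
theorem main :
    Module.finrank (ResidueField (Localization.AtPrime 𝔪)) (CotangentSpace (Localization.AtPrime 𝔪)) +
      (Matrix.of fun i j => MvPolynomial.eval a (MvPolynomial.pderiv j (F i))).rank = n := by
  rw [finrank_residueField_eq q a 𝔪 hq h𝔪, Matrix.rank_eq_finrank_span_row]
  exact finrank_base q F a 𝔪 hq hF h𝔪

end main

end Groth.Agent.Lib.JacobianPt97
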