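import Mathlib
import Groth.Agent.S4576
import Groth.Agent.Lib.AdicFSField50
import Groth.Agent.Lib.AdicFSPow50
import Groth.Agent.Lib.H14GeomP2
import Groth.Agent.Lib.H87Serre2

/-!
# Local-to-global for formal smoothness of quotients of formally smooth algebras (helper44)

`P : Algebra.Extension A C` with `P.Ring` formally smooth over `A` and `P.Cotangent` a finite
`C`-module.
* `exists_retract_up_to_of_formallySmooth` : if `C_p` is formally smooth over `A` then the cotangent
  complex `J/J² → C ⊗ Ω` has a retraction up to some `f ∉ p` (helper51's argument in `S4576`).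
* `formallySmooth_of_forall_isMaximal` : if all `C_m` (`m` maximal) are formally smooth over `A`,
  so is `C`.
* `isGeometricallyRegular_of_formallySmooth` : a Noetherian algebra formally smooth over a field is
  geometrically regular.
-/

namespace Groth.Agent.Lib.JacobianSplitH44

open TensorProduct IsLocalRing

universe u

section Split

variable {A C : Type u} [CommRing A] [CommRing C] [Algebra A C]
  (P : Algebra.Extension.{u} A C) [Algebra.FormallySmooth A P.Ring]
  [Module.Finite C P.Cotangent] [Module.Projective C P.CotangentSpace]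

theorem exists_retract_up_to_of_formallySmooth (p : Ideal C) [p.IsPrime]
    (hp : Algebra.FormallySmooth A (Localization.AtPrime p)) :
    ∃ f ∈ p.primeCompl, ∃ l : P.CotangentSpace →ₗ[C] P.Cotangent,
      l ∘ₗ P.cotangentComplex = f • LinearMap.id := by
  have htors : ∀ x : P.Cotangent, P.cotangentComplex x = 0 →
      ∃ s ∈ p.primeCompl, s • x = 0 := by
    intro x hx
    let x' : P.H1Cotangent := ⟨x, hx⟩
    have h0 : Algebra.H1Cotangent.map A A C (Localization.AtPrime p)
        (P.equivH1CotangentOfFormallySmooth x') = 0 := Subsingleton.elim _ _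
    rw [IsLocalizedModule.eq_zero_iff p.primeCompl] at h0
    obtain ⟨s, hs⟩ := h0
    refine ⟨s, s.2, ?_⟩
    rw [Submonoid.smul_def] at hs
    have h1 : P.equivH1CotangentOfFormallySmooth ((s : C) • x') = 0 := by
      rw [map_smul]; exact hs
    have h2 : (s : C) • x' = 0 :=
      P.equivH1CotangentOfFormallySmooth.injective (by rw [h1, map_zero])
    exact congrArg Subtype.val h2
  obtain ⟨lam, hlam⟩ := Groth.Agent.S4576.exists_retract_loc p.primeCompl P.cotangentComplex
    P.toKaehler P.exact_cotangentComplex_toKaehler P.toKaehler_surjective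
    (KaehlerDifferential.map A A C (Localization.AtPrime p)) htors
  exact Groth.Agent.S4576.exists_retract_up_to _ _ lam hlam

include P in
/-- formal smoothness of `C` can be checked at the maximal ideals -/
theorem formallySmooth_of_forall_isMaximal
    (h : ∀ (m : Ideal C) [m.IsMaximal], Algebra.FormallySmooth A (Localization.AtPrime m)) :
    Algebra.FormallySmooth A C := by
  -- the ideal of `f` admitting a retraction up to `f`
  let 𝔣 : Ideal C :=
    { carrier := {f | ∃ l : P.CotangentSpace →ₗ[C] P.Cotangent,
        l ∘ₗ P.cotangentComplex = f • LinearMap.id}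
      add_mem' := by
        rintro a b ⟨la, hla⟩ ⟨lb, hlb⟩
        exact ⟨la + lb, by rw [LinearMap.add_comp, hla, hlb, add_smul]⟩
      zero_mem' := ⟨0, by rw [LinearMap.zero_comp, zero_smul]⟩
      smul_mem' := by
        rintro c a ⟨la, hla⟩
        exact ⟨c • la, by rw [LinearMap.smul_comp, hla, smul_eq_mul, mul_smul]⟩ }
  have htop : 𝔣 = ⊤ := by
    by_contra hne
    obtain ⟨m, hm, hle⟩ := Ideal.exists_le_maximal 𝔣 hne
    obtain ⟨f, hf, l, hl⟩ := exists_retract_up_to_of_formallySmooth P m (h m)
    exact hf (hle ⟨l, hl⟩)
  have h1 : (1 : C) ∈ 𝔣 := by rw [htop]; trivial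
  obtain ⟨l, hl⟩ := h1
  rw [one_smul] at hl
  rw [P.formallySmooth_iff_split_injection]
  exact ⟨l, hl⟩

end Split

/-- a Noetherian algebra formally smooth over a field is geometrically regular -/
theorem isGeometricallyRegular_of_formallySmooth (k C : Type u) [Field k] [CommRing C]
    [Algebra k C] [IsNoetherianRing C] [Algebra.FormallySmooth k C] :
    CAlg.IsGeometricallyRegular k C := by
  intro k' _ _ hfin
  haveI := hfin
  haveI : IsNoetherianRing (k' ⊗[k] C) := Groth.Agent.Lib.H14GeomP.isNoetherianRing_tensor k C k'
  refine Groth.Agent.Lib.H87Serre2.isRegularRing_of_maximal (fun n _ => ?_)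
  haveI : Algebra.FormallyEtale (k' ⊗[k] C) (Localization.AtPrime n) :=
    Algebra.FormallyEtale.of_isLocalization n.primeCompl
  haveI : Algebra.FormallySmooth k' (Localization.AtPrime n) :=
    Algebra.FormallySmooth.comp k' (k' ⊗[k] C) (Localization.AtPrime n)
  have hadic : CAlgX.IsAdicFormallySmooth k' (Localization.AtPrime n)
      (maximalIdeal (Localization.AtPrime n)) :=
    Groth.Agent.Lib.AdicFSPow50.isAdicFormallySmooth_of_formallySmooth _
  exact (Groth.Agent.Lib.AdicFSField50.regular_of_isAdicFormallySmooth hadic).1

end Groth.Agent.Lib.JacobianSplitH44
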