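import Mathlib
import Groth.Agent.Lib.QFCover6

/-!
# Descent of the Jacobson property along fppf ring maps (helper6)

* `exists_maximal_prime_notMem`: a prime not containing `f` lies in a prime maximal for that property.
* `isJacobsonRing_of_faithfullyFlat_quasiFinite`: `A → B` faithfully flat and quasi-finite, `B`
  Jacobson ⇒ `A` Jacobson (going-down + incomparability in quasi-finite fibres).
* `isJacobsonRing_of_faithfullyFlat_finitePresentation`: the same for faithfully flat finitely
  presented maps, by the quasi-finite refinement `QFCover6.exists_quasiFinite_cover`.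
-/

set_option autoImplicit false
universe u

namespace Groth.Agent.Lib.JacobsonDescent6

/-- A prime not containing `f` is contained in a prime maximal for this property. -/
theorem exists_maximal_prime_notMem {A : Type*} [CommRing A] (p : Ideal A) [hp : p.IsPrime] (f : A)
    (hf : f ∉ p) :
    ∃ p' : Ideal A, p'.IsPrime ∧ p ≤ p' ∧ f ∉ p' ∧
      ∀ J : Ideal A, J.IsPrime → p' < J → f ∈ J := by
  have disjoint : Disjoint (p : Set A) (Submonoid.powers f) := by
    rw [Set.disjoint_right]
    rintro _ ⟨n, rfl⟩ h
    exact hf (hp.mem_of_pow_mem n h)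
  have ⟨p', hIp, hp'⟩ := zorn_le_nonempty₀
    {q : Ideal A | Disjoint (q : Set A) (Submonoid.powers f)}
    (fun c hc hc' x hx ↦ ?_) p disjoint
  · refine ⟨p', Ideal.isPrime_of_maximally_disjoint _ _ hp'.1 (fun _ ↦ hp'.not_prop_of_gt), hIp,
      ?_, ?_⟩
    · exact fun h => Set.disjoint_left.mp hp'.1 h (Submonoid.mem_powers f)
    · intro J hJ hlt
      have h := hp'.not_prop_of_gt hlt
      rw [Set.mem_ofPred_eq, Set.not_disjoint_iff] at h
      obtain ⟨x, hxJ, n, rfl⟩ := h
      exact hJ.mem_of_pow_mem n hxJ
  cases isEmpty_or_nonempty c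
  · exact ⟨p, disjoint, fun J hJ ↦ isEmptyElim (⟨J, hJ⟩ : c)⟩
  refine ⟨sSup c, Set.disjoint_left.mpr fun x hx ↦ ?_, fun _ ↦ le_sSup⟩
  have ⟨q, hq⟩ := (Submodule.mem_iSup_of_directed _ hc'.directed).mp (sSup_eq_iSup' c ▸ hx)
  exact Set.disjoint_left.mp (hc q.2) hq

/-- The Jacobson property descends along faithfully flat quasi-finite ring maps. -/
theorem isJacobsonRing_of_faithfullyFlat_quasiFinite (A B : Type*) [CommRing A] [CommRing B]
    [Algebra A B] [Module.FaithfullyFlat A B] [Algebra.QuasiFinite A B] [IsJacobsonRing B] :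
    IsJacobsonRing A := by
  rw [isJacobsonRing_iff_prime_eq]
  intro p hp
  refine le_antisymm (fun f hf => ?_) Ideal.le_jacobson
  by_contra hfp
  obtain ⟨p', hp'prime, hpp', hfp', hmax⟩ := exists_maximal_prime_notMem p f hfp
  have hp'max : p'.IsMaximal := by
    obtain ⟨m, hm, hp'm⟩ := Ideal.exists_le_maximal p' hp'prime.ne_top
    have hmprime : m.IsPrime := hm.isPrime
    obtain ⟨Q', hQ'prime, hQ'over⟩ : ∃ Q' : Ideal B, Q'.IsPrime ∧ Q'.LiesOver m := by
      obtain ⟨Q', hQ'⟩ :=
        PrimeSpectrum.comap_surjective_of_faithfullyFlat (B := B) ⟨m, hm.isPrime⟩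
      exact ⟨Q'.asIdeal, Q'.2, ⟨congrArg PrimeSpectrum.asIdeal hQ'.symm⟩⟩
    obtain ⟨Q'', hle, hQ''prime, hQ''over⟩ :=
      Ideal.exists_ideal_le_liesOver_of_le (p := p') (q := m) Q' hp'm
    have hfQ'' : algebraMap A B f ∉ Q'' := by
      intro h
      apply hfp'
      rw [hQ''over.over]; exact h
    have hQ''max : Q''.IsMaximal := by
      by_contra hnot
      apply hfQ''
      have hjac : Q''.jacobson = Q'' := IsJacobsonRing.out inferInstance hQ''prime.isRadical
      rw [← hjac, Ideal.jacobson, Ideal.mem_sInf]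
      rintro Q ⟨hQle, hQmax⟩
      have hQprime := hQmax.isPrime
      have hne : Q'' ≠ Q := fun h => hnot (h ▸ hQmax)
      have hlt : p' < Q.under A := by
        refine lt_of_le_of_ne ?_ ?_
        · rw [hQ''over.over]; exact Ideal.comap_mono hQle
        · intro h
          apply hne
          exact Algebra.QuasiFinite.eq_of_le_of_under_eq (R := A) Q'' Q hQle
            (by rw [← hQ''over.over, h])
      exact hmax (Q.under A) inferInstance hlt
    have h1 : Q'' = Q' := hQ''max.eq_of_le hQ'prime.ne_top hle
    have h2 : p' = m := by rw [hQ''over.over, hQ'over.over, h1]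
    rw [h2]; exact hm
  apply hfp'
  rw [Ideal.jacobson, Ideal.mem_sInf] at hf
  exact hf ⟨hpp', hp'max⟩

/-- The Jacobson property descends along faithfully flat finitely presented ring maps. -/
theorem isJacobsonRing_of_faithfullyFlat_finitePresentation (A B : Type u) [CommRing A]
    [CommRing B] [Algebra A B] [Module.FaithfullyFlat A B] [Algebra.FinitePresentation A B]
    [IsJacobsonRing B] : IsJacobsonRing A := by
  obtain ⟨B', _, _, hqf, hft, hff, hfp, ⟨φ⟩⟩ :=
    Groth.Agent.Lib.QFCover6.exists_quasiFinite_cover A B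
  let _ : Algebra B B' := φ.toRingHom.toAlgebra
  have : IsScalarTower A B B' := IsScalarTower.of_algebraMap_eq (fun x => (φ.commutes x).symm)
  have : Algebra.FiniteType B B' := Algebra.FiniteType.of_restrictScalars_finiteType A B B'
  have : IsJacobsonRing B' := isJacobsonRing_of_finiteType (A := B)
  exact isJacobsonRing_of_faithfullyFlat_quasiFinite A B'

end Groth.Agent.Lib.JacobsonDescent6
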