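import Mathlib
import Groth.Prelude.Def_PLie

set_option autoImplicit false
universe u v

namespace Groth.Agent.Lib.JacobsonFormula9

open Polynomial

section CharLemmas
variable {S : Type*} [Ring S] (p : ℕ) [Fact p.Prime] [CharP S p]

/-- `C(p-1, j) = (-1)^j` in characteristic `p`. -/
theorem choose_pred_cast (j : ℕ) (hj : j ≤ p - 1) : (((p - 1).choose j : ℕ) : S) = (-1) ^ j := by
  have hp : p.Prime := Fact.out
  induction j with
  | zero => simp
  | succ j ih =>
    have h1 : (p - 1).choose (j + 1) + (p - 1).choose j = p.choose (j + 1) := by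
      have : p = (p - 1) + 1 := (Nat.succ_pred_prime hp).symm
      conv_rhs => rw [this]
      rw [Nat.choose_succ_succ, add_comm]
    have h2 : ((p.choose (j + 1) : ℕ) : S) = 0 := by
      rw [CharP.cast_eq_zero_iff S p]
      exact hp.dvd_choose_self (Nat.succ_ne_zero j) (by omega)
    have h3 := congrArg (fun n : ℕ => (n : S)) h1
    simp only [Nat.cast_add] at h3
    rw [h2, ih (by omega)] at h3
    rw [pow_succ, mul_neg_one]
    exact eq_neg_of_add_eq_zero_left h3

theorem neg_one_pow_pred : ((-1 : S)) ^ (p - 1) = 1 := by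
  have hp : p.Prime := Fact.out
  have h1 : ((-1 : S)) ^ p = -1 := neg_one_pow_char S p
  have h2 : ((-1 : S)) ^ p = (-1) ^ (p - 1) * (-1) := by
    rw [← pow_succ, Nat.sub_add_cancel hp.one_le]
  rw [h1, mul_neg_one, neg_inj] at h2
  exact h2.symm

/-- `(x - y)^(p-1) = ∑ x^j y^(p-1-j)` for commuting `x, y` in characteristic `p`. -/
theorem sub_pow_pred_of_commute {x y : S} (h : Commute x y) :
    (x - y) ^ (p - 1) = ∑ j ∈ Finset.range p, x ^ j * y ^ (p - 1 - j) := by
  have hp : p.Prime := Fact.out
  rw [sub_eq_add_neg, (h.neg_right).add_pow]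
  have : p - 1 + 1 = p := Nat.sub_add_cancel hp.one_le
  rw [this]
  refine Finset.sum_congr rfl fun j hj => ?_
  have hj' : j ≤ p - 1 := by
    have := Finset.mem_range.1 hj
    omega
  rw [choose_pred_cast p j hj', neg_pow y, mul_assoc, mul_assoc]
  congr 1
  have hc : Commute (y ^ (p - 1 - j)) ((-1 : S) ^ j) := (Commute.neg_one_right _).pow_right _
  rw [hc.eq, ← mul_assoc, ← pow_add, Nat.sub_add_cancel hj', neg_one_pow_pred, one_mul]

end CharLemmas


section AdPow
variable (R : Type*) [CommRing R] (p : ℕ) [Fact p.Prime] [CharP R p] {B : Type*} [Ring B]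
  [Algebra R B]

theorem charP_of_algebra (R : Type*) [CommRing R] (p : ℕ) [Fact p.Prime] [CharP R p]
    (B : Type*) [Ring B] [Algebra R B] [Nontrivial B] : CharP B p := by
  have hp : p.Prime := Fact.out
  exact (CharP.charP_iff_prime_eq_zero hp).2
    (by rw [← map_natCast (algebraMap R B), CharP.cast_eq_zero, map_zero])

/-- the operator `b ↦ a * b - b * a`. -/
def adE (a : B) : Module.End R B := LinearMap.mulLeft R a - LinearMap.mulRight R a

theorem adE_apply (a b : B) : adE R a b = a * b - b * a := rfl

theorem adE_pow_pred (a b : B) :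
    ((adE R a) ^ (p - 1)) b = ∑ j ∈ Finset.range p, a ^ j * b * a ^ (p - 1 - j) := by
  rcases subsingleton_or_nontrivial B with h | h
  · exact Subsingleton.elim _ _
  have : CharP (Module.End R B) p := charP_of_algebra R p _
  rw [adE, sub_pow_pred_of_commute p (LinearMap.commute_mulLeft_right a a)]
  rw [LinearMap.sum_apply]
  refine Finset.sum_congr rfl fun j _ => ?_
  rw [LinearMap.pow_mulLeft, LinearMap.pow_mulRight, Module.End.mul_apply, LinearMap.mulLeft_apply,
    LinearMap.mulRight_apply, mul_assoc]

theorem adE_pow_char (a : B) : (adE R a) ^ p = adE R (a ^ p) := by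
  rcases subsingleton_or_nontrivial B with h | h
  · apply LinearMap.ext; intro x; exact Subsingleton.elim _ _
  have : CharP (Module.End R B) p := charP_of_algebra R p _
  rw [adE, sub_pow_char_of_commute _ (LinearMap.commute_mulLeft_right a a), LinearMap.pow_mulLeft,
    LinearMap.pow_mulRight]
  rfl

end AdPow

section Poly
variable (R : Type*) [CommRing R] (p : ℕ) [Fact p.Prime] [CharP R p] {A : Type*} [Ring A]
  [Algebra R A]

attribute [local instance] LieRing.ofAssociativeRing

variable (u v : A)

/-- `u + X v` in `A[X]`. -/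
noncomputable def w : A[X] := C u + X * C v

theorem derivative_w : derivative (w u v) = C v := by simp [w]

theorem derivative_pow_w (n : ℕ) : derivative ((w u v) ^ n) =
    ∑ j ∈ Finset.range n, (w u v) ^ j * C v * (w u v) ^ (n - 1 - j) := by
  induction n with
  | zero => simp
  | succ n ih =>
    rw [pow_succ, derivative_mul, ih, derivative_w, Finset.sum_range_succ, Finset.sum_mul]
    congr 1
    · refine Finset.sum_congr rfl fun j hj => ?_
      have hj' : j < n := Finset.mem_range.1 hj
      rw [mul_assoc, ← pow_succ]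
      congr 2
      omega
    · simp

/-- number of `true` values. -/
def cntT {n : ℕ} (t : Fin n → Bool) : ℕ := ∑ i, if t i then 1 else 0

theorem cntT_cons {n : ℕ} (b : Bool) (t : Fin n → Bool) :
    cntT (Fin.cons b t : Fin (n + 1) → Bool) = (if b then 1 else 0) + cntT t := by
  unfold cntT
  rw [Fin.sum_univ_succ]
  simp only [Fin.cons_zero, Fin.cons_succ]

theorem adE_w_monomial (k : ℕ) (a : A) :
    adE R (w u v) (X ^ k * C a) = X ^ k * C ⁅u, a⁆ + X ^ (k + 1) * C ⁅v, a⁆ := by
  rw [adE_apply, w, Ring.lie_def, Ring.lie_def]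
  have h1 : C u * (X ^ k * C a) = X ^ k * C (u * a) := by
    rw [← mul_assoc, ← (commute_X_pow (C u) k).eq, mul_assoc, ← C_mul]
  have h2 : X * C v * (X ^ k * C a) = X ^ (k + 1) * C (v * a) := by
    rw [mul_assoc, ← mul_assoc (C v), ← (commute_X_pow (C v) k).eq, mul_assoc, ← C_mul, ← mul_assoc,
      ← pow_succ']
  have h3 : X ^ k * C a * C u = X ^ k * C (a * u) := by rw [mul_assoc, ← C_mul]
  have h4 : X ^ k * C a * (X * C v) = X ^ (k + 1) * C (a * v) := by
    rw [mul_assoc, ← mul_assoc (C a), ← (commute_X (C a)).eq, mul_assoc, ← C_mul, ← mul_assoc,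
      ← pow_succ]
  rw [add_mul, mul_add, h1, h2, h3, h4, C_sub, C_sub, mul_sub, mul_sub]
  abel

theorem adE_pow_w (n : ℕ) : ((adE R (w u v)) ^ n) (C v) =
    ∑ t : Fin n → Bool, X ^ cntT t * C (PLie.bracketWord (PLie.pair u v) v (List.ofFn t)) := by
  induction n with
  | zero => simp [cntT]
  | succ n ih =>
    rw [pow_succ', Module.End.mul_apply, ih, map_sum]
    rw [← (Fin.consEquiv (fun _ : Fin (n + 1) => Bool)).sum_comp, Fintype.sum_prod_type,
      Fintype.sum_bool, ← Finset.sum_add_distrib]
    refine Finset.sum_congr rfl fun t _ => ?_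
    rw [adE_w_monomial]
    have e : ∀ b : Bool, (Fin.consEquiv (fun _ : Fin (n + 1) => Bool)) (b, t) = Fin.cons b t :=
      fun b => rfl
    rw [e, e, cntT_cons, cntT_cons]
    simp only [List.ofFn_succ, Fin.cons_zero, Fin.cons_succ, PLie.bracketWord_cons, PLie.pair]
    simp only [if_true, Bool.false_eq_true, if_false, zero_add]
    rw [add_comm 1 (cntT t), add_comm]

end Poly


section Main
variable (R : Type*) [CommRing R] (p : ℕ) [Fact p.Prime] [CharP R p] {A : Type*} [Ring A]
  [Algebra R A]

attribute [local instance] LieRing.ofAssociativeRing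

variable (u v : A)

/-- the bracket word attached to `t`. -/
abbrev wd {n : ℕ} (t : Fin n → Bool) : A := PLie.bracketWord (PLie.pair u v) v (List.ofFn t)

theorem natDegree_w_le : (w u v).natDegree ≤ 1 := by
  unfold w
  refine (natDegree_add_le _ _).trans (max_le (by simp) ?_)
  exact (natDegree_mul_C_le _ _).trans natDegree_X_le

theorem natDegree_w_pow_le (n : ℕ) : ((w u v) ^ n).natDegree ≤ n := by
  refine natDegree_pow_le.trans ?_
  calc n * (w u v).natDegree ≤ n * 1 := Nat.mul_le_mul_left n (natDegree_w_le u v)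
    _ = n := mul_one n

theorem eval_one_w_pow (n : ℕ) : ((w u v) ^ n).eval 1 = (u + v) ^ n := by
  have h := map_pow (eval₂RingHom' (RingHom.id A) (1 : A) (fun a => Commute.one_right a)) (w u v) n
  have h1 : eval₂RingHom' (RingHom.id A) (1 : A) (fun a => Commute.one_right a) (w u v) = u + v := by
    simp [w, eval₂_add, eval₂_mul_noncomm]
  rw [h1] at h
  exact h

theorem coeff_zero_w_pow (n : ℕ) : ((w u v) ^ n).coeff 0 = u ^ n := by
  rw [coeff_zero_eq_eval_zero]
  have h := map_pow (eval₂RingHom' (RingHom.id A) (0 : A) (fun a => Commute.zero_right a)) (w u v) n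
  have h1 : eval₂RingHom' (RingHom.id A) (0 : A) (fun a => Commute.zero_right a) (w u v) = u := by
    simp [w, eval₂_add, eval₂_mul_noncomm]
  rw [h1] at h
  exact h

theorem coeff_top_w_pow (n : ℕ) : ((w u v) ^ n).coeff n = v ^ n := by
  induction n with
  | zero => simp
  | succ n ih =>
    rw [pow_succ, w, mul_add, coeff_add, ← w, coeff_mul_C, ← mul_assoc, (commute_X _).symm.eq,
      mul_assoc, coeff_X_mul, coeff_mul_C, ih, pow_succ]
    rw [coeff_eq_zero_of_natDegree_lt (lt_of_le_of_lt (natDegree_w_pow_le u v n) (Nat.lt_succ_self n)),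
      zero_mul, zero_add]

include R in
/-- coefficient identity from the derivative. -/
theorem coeff_succ_mul (n : ℕ) :
    ((w u v) ^ p).coeff (n + 1) * ((n : A) + 1) =
      ∑ t : Fin (p - 1) → Bool, if cntT t = n then wd u v t else 0 := by
  rw [← coeff_derivative, derivative_pow_w, ← adE_pow_pred R p, adE_pow_w, finsetSum_coeff]
  refine Finset.sum_congr rfl fun t _ => ?_
  rw [X_pow_mul_C, C_mul_X_pow_eq_monomial, coeff_monomial]


/-- the coefficient `1/(n+1)`. -/
noncomputable def cf (n : ℕ) : R := ZMod.castHom (dvd_refl p) R (((n : ZMod p) + 1)⁻¹)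

theorem cf_mul (n : ℕ) (hn : n + 1 < p) : cf R p n * ((n : R) + 1) = 1 := by
  have hne : ((n : ZMod p) + 1) ≠ 0 := by
    have h1 : ((n + 1 : ℕ) : ZMod p) ≠ 0 := by
      rw [Ne, ZMod.natCast_eq_zero_iff]
      intro h
      exact absurd (Nat.le_of_dvd (Nat.succ_pos n) h) (by omega)
    simpa using h1
  have h2 : ((n : R) + 1) = ZMod.castHom (dvd_refl p) R ((n : ZMod p) + 1) := by simp
  rw [cf, h2, ← map_mul, inv_mul_cancel₀ hne, map_one]

theorem coeff_succ_eq (n : ℕ) (hn : n + 1 < p) : ((w u v) ^ p).coeff (n + 1) =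
    cf R p n • ∑ t : Fin (p - 1) → Bool, if cntT t = n then wd u v t else 0 := by
  rw [← coeff_succ_mul R p u v n]
  have hc : Commute ((n : A) + 1) (((w u v) ^ p).coeff (n + 1)) := by
    have := Nat.cast_commute (n + 1) (((w u v) ^ p).coeff (n + 1))
    simpa using this
  have h1 : ((w u v) ^ p).coeff (n + 1) * ((n : A) + 1) =
      ((n : R) + 1) • ((w u v) ^ p).coeff (n + 1) := by
    rw [← hc.eq, Algebra.smul_def, map_add, map_natCast, map_one]
  rw [h1, smul_smul, cf_mul R p n hn, one_smul]

omit [Fact p.Prime] in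
theorem sum_range_pred {M : Type*} [AddCommMonoid M] (f : ℕ → M) (hp : 1 ≤ p) :
    ∑ i ∈ Finset.range p, f i = f 0 + ∑ n ∈ Finset.range (p - 1), f (n + 1) := by
  obtain ⟨q, rfl⟩ : ∃ q, p = q + 1 := ⟨p - 1, by omega⟩
  rw [Finset.sum_range_succ', add_comm]
  rfl

theorem card_false_add_cntT {n : ℕ} (t : Fin n → Bool) :
    Fintype.card {i // t i = false} + cntT t = n := by
  rw [Fintype.card_subtype, cntT, Finset.card_filter, ← Finset.sum_add_distrib]
  have : ∀ i, ((if t i = false then 1 else 0) + (if t i then 1 else 0) : ℕ) = 1 := by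
    intro i
    cases t i <;> simp
  simp [this]

/-- **Jacobson's formula** in an associative algebra of characteristic `p`, in the form of the
prelude's `PLie.jacobson` (for the commutator bracket). -/
theorem jacobson_formula : (u + v) ^ p = u ^ p + v ^ p - PLie.jacobson R p u v := by
  have hp : p.Prime := Fact.out
  have hE := eval_eq_sum_range' (lt_of_le_of_lt (natDegree_w_pow_le u v p) (Nat.lt_succ_self p))
    (1 : A)
  rw [eval_one_w_pow] at hE
  simp only [one_pow, mul_one] at hE
  rw [Finset.sum_range_succ, coeff_top_w_pow, sum_range_pred p _ hp.one_le, coeff_zero_w_pow] at hE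
  rw [hE]
  have key : ∑ n ∈ Finset.range (p - 1), ((w u v) ^ p).coeff (n + 1) = - PLie.jacobson R p u v := by
    have h1 : ∀ n ∈ Finset.range (p - 1), ((w u v) ^ p).coeff (n + 1) =
        ∑ t : Fin (p - 1) → Bool, if cntT t = n then cf R p n • wd u v t else 0 := by
      intro n hn
      have hn' : n + 1 < p := by
        have := Finset.mem_range.1 hn
        omega
      rw [coeff_succ_eq R p u v n hn', Finset.smul_sum]
      refine Finset.sum_congr rfl fun t _ => ?_
      split_ifs <;> simp
    rw [Finset.sum_congr rfl h1, Finset.sum_comm, PLie.jacobson, ← Finset.sum_neg_distrib]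
    refine Finset.sum_congr rfl fun t _ => ?_
    have hF := card_false_add_cntT t
    by_cases ht : cntT t < p - 1
    · rw [Finset.sum_eq_single (cntT t)]
      · rw [if_pos rfl, ← neg_smul]
        congr 1
        rw [cf, ← map_neg, ← inv_neg]
        congr 2
        have h2 : ((Fintype.card {i // t i = false} + cntT t + 1 : ℕ) : ZMod p) = 0 := by
          rw [hF, Nat.sub_add_cancel hp.one_le, ZMod.natCast_self]
        push_cast at h2
        linear_combination h2
      · intro n _ hn
        rw [if_neg (Ne.symm hn)]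
      · intro h
        exact absurd (Finset.mem_range.2 ht) h
    · have hz : Fintype.card {i // t i = false} = 0 := by omega
      rw [hz]
      simp only [Nat.cast_zero, inv_zero, map_zero, zero_smul, neg_zero]
      refine Finset.sum_eq_zero fun n hn => ?_
      rw [if_neg]
      intro h
      exact ht (h ▸ Finset.mem_range.1 hn)
  rw [add_assoc, key]
  abel

/-- `ad (u^p) = (ad u)^p` in an associative algebra of characteristic `p`. -/
theorem ad_pow_char : LieAlgebra.ad R A u ^ p = LieAlgebra.ad R A (u ^ p) := by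
  have h : ∀ a : A, LieAlgebra.ad R A a = adE R a := by
    intro a
    rw [LieAlgebra.ad_eq_lmul_left_sub_lmul_right]
    rfl
  rw [h, h, adE_pow_char]

end Main

end Groth.Agent.Lib.JacobsonFormula9
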