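import Mathlib

/-!
# Lifting through jet algebras (helper50)

Ring-theoretic input for extending differential operators along formally étale maps.

* `exists_lift_ringHom`: formally smooth lifting against a surjection with nilpotent kernel,
  stated with bare ring homs (no algebra instances on the target).
* `ringHom_ext_of_nilpotent`: formally unramified uniqueness, stated with bare ring homs.
* `ker_mu`: the kernel of `B ⊗[R] A → B`, `b ⊗ a ↦ b * ι a` is generated by `1 ⊗ a - ι a ⊗ 1`.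
* `exists_jet_lift`: for `S → S'` formally smooth, a ring hom `φ : S' → (S' ⊗[R] S) ⧸ J^(k+1)`,
  with `φ (ι s) = [1 ⊗ s]` and `φ t - [t ⊗ 1] ∈ J/J^(k+1)`.
* `tmul_sub_tmul_mem`: for `S → S'` formally unramified, `t ⊗ 1 - 1 ⊗ t ∈ I^(k+1) ⊔ J` in
  `S' ⊗[R] S'`.
-/

set_option autoImplicit false
universe u v w

namespace Groth.Agent.Lib.JetLift50

open TensorProduct

section Generic

variable {S S' : Type*} [CommRing S] [CommRing S'] [Algebra S S']

/-- formally smooth lifting, in terms of bare ring homs. -/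
theorem exists_lift_ringHom [Algebra.FormallySmooth S S'] {C : Type*} [CommRing C]
    (f : S →+* C) (g : C →+* S') (hg : Function.Surjective g)
    (hnil : IsNilpotent (RingHom.ker g)) (hfg : g.comp f = algebraMap S S') :
    ∃ φ : S' →+* C, φ.comp (algebraMap S S') = f ∧ g.comp φ = RingHom.id S' := by
  letI : Algebra S C := f.toAlgebra
  let g' : C →ₐ[S] S' := { g with commutes' := fun s => RingHom.congr_fun hfg s }
  have hg' : Function.Surjective g' := hg
  have hnil' : IsNilpotent (RingHom.ker (g' : C →+* S')) := hnil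
  let φ := Algebra.FormallySmooth.liftOfSurjective (AlgHom.id S S') g' hg' hnil'
  refine ⟨φ.toRingHom, ?_, ?_⟩
  · ext s
    exact φ.commutes s
  · ext t
    exact Algebra.FormallySmooth.liftOfSurjective_apply (AlgHom.id S S') g' hg' hnil' t

/-- formally unramified uniqueness, in terms of bare ring homs. -/
theorem ringHom_ext_of_nilpotent [Algebra.FormallyUnramified S S'] {C : Type*} [CommRing C]
    (g₁ g₂ : S' →+* C) (h : g₁.comp (algebraMap S S') = g₂.comp (algebraMap S S'))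
    (I : Ideal C) (hI : IsNilpotent I) (hmem : ∀ t, g₁ t - g₂ t ∈ I) : g₁ = g₂ := by
  letI : Algebra S C := (g₁.comp (algebraMap S S')).toAlgebra
  let a₁ : S' →ₐ[S] C := { g₁ with commutes' := fun s => rfl }
  let a₂ : S' →ₐ[S] C := { g₂ with commutes' := fun s => (RingHom.congr_fun h s).symm }
  have : a₁ = a₂ := Algebra.FormallyUnramified.ext I hI (fun x => by
    rw [Ideal.Quotient.eq]
    exact hmem x)
  ext t
  exact AlgHom.congr_fun this t

end Generic

section Mu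

variable (R : Type*) [CommRing R] {B A : Type*} [CommRing B] [CommRing A] [Algebra R B] [Algebra R A]
  (ι : A →ₐ[R] B)

/-- `b ⊗ a ↦ b * ι a`. -/
noncomputable def mu : B ⊗[R] A →ₐ[B] B :=
  Algebra.TensorProduct.lift (AlgHom.id B B) ι (fun _ _ => Commute.all _ _)

@[simp] lemma mu_tmul (b : B) (a : A) : mu R ι (b ⊗ₜ[R] a) = b * ι a := by
  simp [mu]

/-- the standard generators of the kernel of `mu`. -/
def gen (a : A) : B ⊗[R] A := (1 : B) ⊗ₜ[R] a - ι a ⊗ₜ[R] (1 : A)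

lemma mu_gen (a : A) : mu R ι (gen R ι a) = 0 := by
  simp [gen]

lemma sub_mu_mem (x : B ⊗[R] A) :
    x - (mu R ι x) ⊗ₜ[R] (1 : A) ∈ Ideal.span (Set.range (gen R ι)) := by
  induction x with
  | zero => simp
  | tmul b a =>
    have : b ⊗ₜ[R] a - (mu R ι (b ⊗ₜ[R] a)) ⊗ₜ[R] (1 : A) = (b ⊗ₜ[R] (1 : A)) * gen R ι a := by
      simp [gen, mul_sub, Algebra.TensorProduct.tmul_mul_tmul]
    rw [this]
    exact Ideal.mul_mem_left _ _ (Ideal.subset_span ⟨a, rfl⟩)
  | add x y hx hy =>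
    have : x + y - (mu R ι (x + y)) ⊗ₜ[R] (1 : A) =
        (x - (mu R ι x) ⊗ₜ[R] (1 : A)) + (y - (mu R ι y) ⊗ₜ[R] (1 : A)) := by
      rw [map_add, TensorProduct.add_tmul]; ring
    rw [this]
    exact add_mem hx hy

theorem ker_mu : RingHom.ker (mu R ι) = Ideal.span (Set.range (gen R ι)) := by
  apply le_antisymm
  · intro x hx
    have := sub_mu_mem R ι x
    rw [RingHom.mem_ker] at hx
    rwa [hx, TensorProduct.zero_tmul, sub_zero] at this
  · rw [Ideal.span_le]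
    rintro _ ⟨a, rfl⟩
    exact mu_gen R ι a

end Mu

section Jet

variable (R : Type*) [CommRing R] (S S' : Type*) [CommRing S] [CommRing S'] [Algebra R S]
  [Algebra R S'] [Algebra S S'] [IsScalarTower R S S']

/-- the kernel of `S' ⊗[R] S → S'`. -/
noncomputable abbrev J0 : Ideal (S' ⊗[R] S) := RingHom.ker (mu R (IsScalarTower.toAlgHom R S S'))

/-- the image of `J0` in the jet algebra `(S' ⊗[R] S) ⧸ J0^(k+1)`. -/
noncomputable abbrev K0 (k : ℕ) : Ideal ((S' ⊗[R] S) ⧸ (J0 R S S') ^ (k + 1)) :=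
  (J0 R S S').map (Ideal.Quotient.mk ((J0 R S S') ^ (k + 1)))

theorem K0_pow (k : ℕ) : (K0 R S S' k) ^ (k + 1) = ⊥ := by
  rw [K0, ← Ideal.map_pow, Ideal.map_quotient_self]

theorem exists_jet_lift [Algebra.FormallySmooth S S'] (k : ℕ) :
    ∃ φ : S' →+* (S' ⊗[R] S) ⧸ (J0 R S S') ^ (k + 1),
      (∀ s : S, φ (algebraMap S S' s) = Ideal.Quotient.mk _ ((1 : S') ⊗ₜ[R] s)) ∧
      (∀ t : S', φ t - Ideal.Quotient.mk _ (t ⊗ₜ[R] (1 : S)) ∈ K0 R S S' k) := by
  let ι := IsScalarTower.toAlgHom R S S'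
  let f : S →+* (S' ⊗[R] S) ⧸ (J0 R S S') ^ (k + 1) :=
    (Ideal.Quotient.mk _).comp (Algebra.TensorProduct.includeRight : S →ₐ[R] S' ⊗[R] S).toRingHom
  have hle : (J0 R S S') ^ (k + 1) ≤ RingHom.ker (mu R ι).toRingHom :=
    Ideal.pow_le_self (Nat.succ_ne_zero k)
  let g : (S' ⊗[R] S) ⧸ (J0 R S S') ^ (k + 1) →+* S' :=
    Ideal.Quotient.lift _ (mu R ι).toRingHom (fun x hx => hle hx)
  have hgmk : ∀ x, g (Ideal.Quotient.mk _ x) = mu R ι x := fun x => Ideal.Quotient.lift_mk _ _ _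
  have hg : Function.Surjective g := fun t => ⟨Ideal.Quotient.mk _ (t ⊗ₜ[R] (1 : S)), by
    rw [hgmk]; simp⟩
  have hker : RingHom.ker g ≤ K0 R S S' k := by
    intro x hx
    obtain ⟨y, rfl⟩ := Ideal.Quotient.mk_surjective x
    rw [RingHom.mem_ker, hgmk] at hx
    exact Ideal.mem_map_of_mem _ hx
  have hnil : IsNilpotent (RingHom.ker g) :=
    ⟨k + 1, le_bot_iff.mp ((Ideal.pow_right_mono hker (k + 1)).trans (K0_pow R S S' k).le)⟩
  have hfg : g.comp f = algebraMap S S' := by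
    ext s
    change g (Ideal.Quotient.mk _ ((1 : S') ⊗ₜ[R] s)) = _
    rw [hgmk]
    simp [ι]
  obtain ⟨φ, hφ1, hφ2⟩ := exists_lift_ringHom f g hg hnil hfg
  refine ⟨φ, fun s => RingHom.congr_fun hφ1 s, fun t => hker ?_⟩
  rw [RingHom.mem_ker, map_sub, hgmk]
  have := RingHom.congr_fun hφ2 t
  simp only [RingHom.comp_apply, RingHom.id_apply] at this
  rw [this]
  simp

/-- the kernel of multiplication `S' ⊗[R] S' → S'`. -/
noncomputable abbrev I1 : Ideal (S' ⊗[R] S') := RingHom.ker (mu R (AlgHom.id R S'))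

/-- the ideal of `S' ⊗[R] S'` generated by `1 ⊗ s - s ⊗ 1` for `s` in `S`. -/
noncomputable abbrev J1 : Ideal (S' ⊗[R] S') :=
  Ideal.span (Set.range fun s : S =>
    (1 : S') ⊗ₜ[R] (algebraMap S S' s) - (algebraMap S S' s) ⊗ₜ[R] (1 : S'))

theorem tmul_sub_tmul_mem [Algebra.FormallyUnramified S S'] (k : ℕ) (t : S') :
    t ⊗ₜ[R] (1 : S') - (1 : S') ⊗ₜ[R] t ∈ (I1 R S') ^ (k + 1) ⊔ J1 R S S' := by
  set 𝔞 : Ideal (S' ⊗[R] S') := (I1 R S') ^ (k + 1) ⊔ J1 R S S' with h𝔞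
  let g₁ : S' →+* (S' ⊗[R] S') ⧸ 𝔞 :=
    (Ideal.Quotient.mk 𝔞).comp (Algebra.TensorProduct.includeLeft : S' →ₐ[R] S' ⊗[R] S').toRingHom
  let g₂ : S' →+* (S' ⊗[R] S') ⧸ 𝔞 :=
    (Ideal.Quotient.mk 𝔞).comp (Algebra.TensorProduct.includeRight : S' →ₐ[R] S' ⊗[R] S').toRingHom
  have h12 : g₁.comp (algebraMap S S') = g₂.comp (algebraMap S S') := by
    ext s
    change Ideal.Quotient.mk 𝔞 ((algebraMap S S' s) ⊗ₜ[R] (1 : S')) =
      Ideal.Quotient.mk 𝔞 ((1 : S') ⊗ₜ[R] (algebraMap S S' s))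
    rw [eq_comm, Ideal.Quotient.eq]
    exact Ideal.mem_sup_right (Ideal.subset_span ⟨s, rfl⟩)
  have hnil : IsNilpotent ((I1 R S').map (Ideal.Quotient.mk 𝔞)) := by
    refine ⟨k + 1, ?_⟩
    rw [← Ideal.map_pow, Ideal.zero_eq_bot, Ideal.map_eq_bot_iff_le_ker, Ideal.mk_ker]
    exact le_sup_left
  have hmem : ∀ t, g₁ t - g₂ t ∈ (I1 R S').map (Ideal.Quotient.mk 𝔞) := by
    intro t
    change Ideal.Quotient.mk 𝔞 (t ⊗ₜ[R] (1 : S')) - Ideal.Quotient.mk 𝔞 ((1 : S') ⊗ₜ[R] t) ∈ _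
    rw [← map_sub]
    refine Ideal.mem_map_of_mem _ ?_
    rw [RingHom.mem_ker, map_sub]
    simp
  have := ringHom_ext_of_nilpotent (S := S) g₁ g₂ h12 _ hnil hmem
  have h2 := RingHom.congr_fun this t
  change Ideal.Quotient.mk 𝔞 (t ⊗ₜ[R] (1 : S')) = Ideal.Quotient.mk 𝔞 ((1 : S') ⊗ₜ[R] t) at h2
  rwa [Ideal.Quotient.eq] at h2

end Jet

end Groth.Agent.Lib.JetLift50
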