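import Groth.Agent.Lib.ZariskiProjective
import Mathlib.RingTheory.Finiteness.Descent
import Mathlib.Algebra.Module.FinitePresentation

/-!
# Jointly faithfully flat finite families of algebras (helper81)

For a finite family of `A`-algebras `B j` with `∏ B j` faithfully flat over `A` we prove that
`A`-linear maps / modules can be tested after base change to each `B j`:
injectivity, surjectivity, triviality, finiteness, finite presentation, flatness, projectivity.
No module structure over the product ring is ever needed in the statements.
-/

set_option autoImplicit false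
universe u v w
open TensorProduct

namespace Groth.Agent.Lib.JointFF

section basic

variable {A : Type*} [CommRing A] {ι : Type*} [Finite ι] (B : ι → Type*)
  [∀ j, CommRing (B j)] [∀ j, Algebra A (B j)]

/-- Decomposition of the identity of `(∏ B j) ⊗ Q` along the factors. -/
theorem sum_rTensor_single_proj [Fintype ι] [DecidableEq ι] (Q : Type*) [AddCommGroup Q] [Module A Q]
    (x : (∀ j, B j) ⊗[A] Q) :
    ∑ j, LinearMap.rTensor Q (LinearMap.single A B j) (LinearMap.rTensor Q (LinearMap.proj j) x)
      = x := by
  have h1 : ∑ j, (LinearMap.single A B j).comp (LinearMap.proj j) =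
      (LinearMap.id : (∀ j, B j) →ₗ[A] (∀ j, B j)) := by
    ext v i
    simp [LinearMap.sum_apply, Finset.sum_apply, Pi.single_apply]
  have h2 := congr(LinearMap.rTensorHom Q $h1)
  rw [map_sum] at h2
  have h3 := congr($h2 x)
  simp only [LinearMap.coe_rTensorHom, LinearMap.rTensor_comp, LinearMap.sum_apply,
    LinearMap.comp_apply, LinearMap.rTensor_id, LinearMap.id_apply] at h3
  exact h3

variable {B}

/-- Joint injectivity test. -/
theorem lTensor_pi_injective {N N' : Type*} [AddCommGroup N] [Module A N] [AddCommGroup N']
    [Module A N'] (u : N' →ₗ[A] N) (h : ∀ j, Function.Injective (u.lTensor (B j))) :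
    Function.Injective (u.lTensor (∀ j, B j)) := by
  classical
  cases nonempty_fintype ι
  rw [injective_iff_map_eq_zero]
  intro x hx
  rw [← sum_rTensor_single_proj B N' x]
  refine Finset.sum_eq_zero fun j _ => ?_
  have : LinearMap.rTensor N' (LinearMap.proj (R := A) (φ := B) j) x = 0 := by
    apply h j
    rw [map_zero, ← LinearMap.comp_apply, LinearMap.lTensor_comp_rTensor,
      ← LinearMap.rTensor_comp_lTensor, LinearMap.comp_apply, hx, map_zero]
  rw [this, map_zero]

/-- Joint surjectivity test. -/
theorem lTensor_pi_surjective {N N' : Type*} [AddCommGroup N] [Module A N] [AddCommGroup N']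
    [Module A N'] (u : N' →ₗ[A] N) (h : ∀ j, Function.Surjective (u.lTensor (B j))) :
    Function.Surjective (u.lTensor (∀ j, B j)) := by
  classical
  cases nonempty_fintype ι
  intro y
  choose x hx using fun j => h j (LinearMap.rTensor N (LinearMap.proj (R := A) (φ := B) j) y)
  refine ⟨∑ j, LinearMap.rTensor N' (LinearMap.single A B j) (x j), ?_⟩
  rw [map_sum]
  conv_rhs => rw [← sum_rTensor_single_proj B N y]
  refine Finset.sum_congr rfl fun j _ => ?_
  rw [← hx j, ← LinearMap.comp_apply, LinearMap.lTensor_comp_rTensor,
    ← LinearMap.rTensor_comp_lTensor, LinearMap.comp_apply]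

variable [Module.FaithfullyFlat A (∀ j, B j)]

theorem injective_of_forall_lTensor {N N' : Type*} [AddCommGroup N] [Module A N] [AddCommGroup N']
    [Module A N'] (u : N' →ₗ[A] N) (h : ∀ j, Function.Injective (u.lTensor (B j))) :
    Function.Injective u :=
  (Module.FaithfullyFlat.lTensor_injective_iff_injective A (∀ j, B j) u).mp
    (lTensor_pi_injective u h)

theorem surjective_of_forall_lTensor {N N' : Type*} [AddCommGroup N] [Module A N] [AddCommGroup N']
    [Module A N'] (u : N' →ₗ[A] N) (h : ∀ j, Function.Surjective (u.lTensor (B j))) :
    Function.Surjective u :=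
  (Module.FaithfullyFlat.lTensor_surjective_iff_surjective A (∀ j, B j) u).mp
    (lTensor_pi_surjective u h)

theorem subsingleton_of_forall (Q : Type*) [AddCommGroup Q] [Module A Q]
    (h : ∀ j, Subsingleton (B j ⊗[A] Q)) : Subsingleton Q := by
  classical
  cases nonempty_fintype ι
  rw [← Module.FaithfullyFlat.subsingleton_tensorProduct_iff_right A (∀ j, B j)]
  refine ⟨fun x y => ?_⟩
  rw [← sum_rTensor_single_proj B Q x, ← sum_rTensor_single_proj B Q y]
  refine Finset.sum_congr rfl fun j _ => ?_
  rw [Subsingleton.elim (LinearMap.rTensor Q (LinearMap.proj (R := A) (φ := B) j) x)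
    (LinearMap.rTensor Q (LinearMap.proj (R := A) (φ := B) j) y)]

omit [Finite ι] in
include B in
/-- Each component of a flat finite product is flat. -/
theorem flat_component (j : ι) : Module.Flat A (B j) := by
  classical
  exact Module.Flat.of_retract (M := ∀ j, B j) (LinearMap.single A B j) (LinearMap.proj j)
    (LinearMap.proj_comp_single_same A B j)

/-- Joint descent of finiteness. -/
theorem finite_of_forall (N : Type*) [AddCommGroup N] [Module A N]
    (h : ∀ j, Module.Finite (B j) (B j ⊗[A] N)) : Module.Finite A N := by
  classical
  cases nonempty_fintype ι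
  choose n s hs using fun j => Module.Finite.exists_fin (R := B j) (M := B j ⊗[A] N)
  choose k t m hm using fun (j : ι) (i : Fin (n j)) => TensorProduct.exists_sum_tmul_eq (s j i)
  let I := Σ j, Σ i : Fin (n j), Fin (k j i)
  let f₀ : (I →₀ A) →ₗ[A] N := Finsupp.linearCombination A fun x : I => m x.1 x.2.1 x.2.2
  apply Module.Finite.of_surjective f₀
  apply surjective_of_forall_lTensor (A := A) (B := B)
  intro j
  have : Function.Surjective (AlgebraTensorModule.lTensor (B j) (B j) f₀) := by
    rw [← LinearMap.range_eq_top, eq_top_iff, ← hs j, Submodule.span_le, Set.range_subset_iff]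
    intro i
    use ∑ l : Fin (k j i), t j i l ⊗ₜ Finsupp.single (⟨j, i, l⟩ : I) (1 : A)
    simp [f₀, hm j i]
  exact this

/-- Joint descent of finite presentation. -/
theorem finitePresentation_of_forall (N : Type*) [AddCommGroup N] [Module A N]
    (h : ∀ j, Module.FinitePresentation (B j) (B j ⊗[A] N)) : Module.FinitePresentation A N := by
  classical
  have hfin : Module.Finite A N := finite_of_forall (A := A) (B := B) N fun j => inferInstance
  obtain ⟨n, u, hu⟩ := Module.Finite.exists_fin' A N
  refine Module.finitePresentation_of_surjective u hu ?_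
  have hK : Module.Finite A (LinearMap.ker u) := by
    refine finite_of_forall (A := A) (B := B) _ fun j => ?_
    have := flat_component (A := A) (B := B) j
    have hsurj : Function.Surjective (AlgebraTensorModule.lTensor (B j) (B j) u) :=
      LinearMap.lTensor_surjective _ hu
    have hfg := Module.FinitePresentation.fg_ker (AlgebraTensorModule.lTensor (B j) (B j) u) hsurj
    rw [Module.Flat.ker_lTensor_eq] at hfg
    have hinj : Function.Injective
        (AlgebraTensorModule.lTensor (B j) (B j) (LinearMap.ker u).subtype) :=
      Module.Flat.lTensor_preserves_injective_linearMap _ (LinearMap.ker u).injective_subtype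
    have : Module.Finite (B j) (LinearMap.range
        (AlgebraTensorModule.lTensor (B j) (B j) (LinearMap.ker u).subtype)) :=
      Module.Finite.iff_fg.mpr hfg
    exact Module.Finite.equiv (LinearEquiv.ofInjective _ hinj).symm
  exact Module.Finite.iff_fg.mp hK

/-- Joint descent of flatness. -/
theorem flat_of_forall (N : Type*) [AddCommGroup N] [Module A N]
    (h : ∀ j, Module.Flat (B j) (B j ⊗[A] N)) : Module.Flat A N := by
  rw [Module.Flat.iff_lTensor_preserves_injective_linearMap]
  intro P Q _ _ _ _ f hf
  apply injective_of_forall_lTensor (A := A) (B := B)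
  intro j
  have := flat_component (A := A) (B := B) j
  have : Module.Flat A (B j ⊗[A] N) := Module.Flat.trans A (B j) _
  have e : LinearMap.lTensor (B j) (LinearMap.lTensor N f) =
      (TensorProduct.assoc _ _ _ _).toLinearMap ∘ₗ LinearMap.lTensor (B j ⊗[A] N) f ∘ₗ
        (TensorProduct.assoc _ _ _ _).symm.toLinearMap := by
    ext
    simp
  simpa [e] using Module.Flat.lTensor_preserves_injective_linearMap f hf

end basic

section projective

variable {A : Type u} [CommRing A] {ι : Type u} [Finite ι] {B : ι → Type u}
  [∀ j, CommRing (B j)] [∀ j, Algebra A (B j)] [Module.FaithfullyFlat A (∀ j, B j)]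

/-- Joint descent of projectivity (no finiteness assumption; uses `S0585`). -/
theorem projective_of_forall (N : Type u) [AddCommGroup N] [Module A N]
    (h : ∀ j, Module.Projective (B j) (B j ⊗[A] N)) : Module.Projective A N := by
  classical
  cases nonempty_fintype ι
  have : Module.Projective (∀ i, B i) ((∀ i, B i) ⊗[A] N) := by
    letI : ∀ i, Algebra (∀ i, B i) (B i) := fun i => (Pi.evalRingHom B i).toAlgebra
    have : ∀ i, IsScalarTower A (∀ i, B i) (B i) := fun i =>
      IsScalarTower.of_algebraMap_eq (fun a => rfl)
    refine Groth.Agent.Lib.ZariskiProjective.projective_of_partition B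
      (fun i => { toFun := Pi.single i
                  map_add' := Pi.single_add i
                  map_smul' := fun s b => ?_ }) ?_ (fun i => ?_)
    · ext j
      by_cases hj : j = i
      · subst hj; simp [Algebra.smul_def]; rfl
      · simp [hj, Algebra.smul_def]
    · exact Finset.univ_sum_single (1 : ∀ i, B i)
    · have := h i
      exact Module.Projective.of_equiv'
        (TensorProduct.AlgebraTensorModule.cancelBaseChange A (∀ i, B i) (B i) (B i) N).symm
  exact Groth.Agent.S0585.result A (∀ i, B i) N

end projective

end Groth.Agent.Lib.JointFF
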