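import Groth.Agent.Lib.H43K0Db
import Groth.Agent.Lib.PerfectCoh
import Groth.Agent.Lib.PerfectD
import Groth.Agent.Lib.DDevissage
import Groth.Agent.Lib.H90DevHub2
import Groth.Agent.Lib.H90SerreCore2
import Groth.Agent.S1052
import Groth.Agent.Lib.DSingleHom

/-!
# Coherent modules supported in a closed subset, and perfect complexes supported there (helper35)

`CS X Y'` : coherent modules with support in `Y'` (closed under isos, kernels, contains zero).
`prop_iff` : if every such module is perfect in degree `0`, the perfect complexes with cohomology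
supported in `Y'` are exactly the bounded complexes with cohomology in `CS X Y'` (`H43K0Db.QD`).
-/

set_option autoImplicit false
set_option linter.style.haveILetI false
universe u
open CategoryTheory CategoryTheory.Limits CategoryTheory.Pretriangulated AlgebraicGeometry
attribute [local instance] HasDerivedCategory.standard

namespace Groth.Agent.Lib.K0CohSupp35

open Groth.Agent.Lib.H43K0Db

variable (X : Scheme.{u}) (Y' : Set X)

/-- coherent modules supported in `Y'` -/
def CS : ObjectProperty X.Modules := fun G => Coh.IsCoh G ∧ CohB1.support G ⊆ Y'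

instance [IsLocallyNoetherian X] : (CS X Y').IsClosedUnderIsomorphisms where
  of_iso e h := ⟨Groth.Agent.S1052.isCoh_of_iso e h.1,
    (Groth.Agent.Lib.H90DevHub2.support_subset_of_mono e.inv).trans h.2⟩

instance [IsLocallyNoetherian X] : (CS X Y').IsClosedUnderKernels where
  kernels_le := by
    rintro _ ⟨f, k, hk, ⟨hX, hY⟩⟩
    haveI : Mono k.ι := mono_of_isLimit_fork hk
    have h1 : Coh.IsCoh k.pt :=
      (Groth.Agent.S1052.cohP X).prop_of_isLimit_kernelFork hk hX.1 hY.1
    exact ⟨h1, (Groth.Agent.Lib.H90DevHub2.support_subset_of_mono k.ι).trans hX.2⟩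

instance [IsLocallyNoetherian X] : (CS X Y').ContainsZero := by
  obtain ⟨Z, hZ, hZc⟩ := (Groth.Agent.S1052.cohP X).exists_prop_of_containsZero
  refine ⟨⟨Z, hZ, hZc, ?_⟩⟩
  rw [Groth.Agent.Lib.H90SerreCore2.support_eq_empty_of_isZero hZ]
  exact Set.empty_subset _

variable {X Y'}

/-- perfect complexes with cohomology supported in `Y'` are the bounded complexes with coherent
cohomology supported in `Y'`, if the latter modules are perfect -/
theorem prop_iff [IsNoetherian X]
    (hperf : ∀ G : X.Modules, Coh.IsCoh G → CohB1.support G ⊆ Y' →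
      DCoh.IsPerfect (DCoh.inD X G)) (K : DCoh.D X) :
    (DCoh.IsPerfect K ∧ ∀ i : ℤ, CohB1.support (DCoh.HD K i) ⊆ Y') ↔ QD (CS X Y') K := by
  constructor
  · rintro ⟨hK, hsupp⟩
    obtain ⟨hcoh, a, b, ha, hb⟩ := Groth.Agent.Lib.PerfectCoh.isCohD_and_bounded_of_isPerfect K hK
    exact ⟨fun i => ⟨hcoh i, hsupp i⟩, a, b, ha, hb⟩
  · rintro ⟨hCS, a, b, ha, hb⟩
    haveI : K.IsGE a := ha
    haveI : K.IsLE b := hb
    refine ⟨?_, fun i => (hCS i).2⟩
    letI : ObjectProperty.IsClosedUnderIsomorphisms (fun L : DCoh.D X => DCoh.IsPerfect L) :=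
      ⟨fun e h => Groth.Agent.Lib.PerfectD.isPerfect_of_iso e h⟩
    refine Groth.Agent.Lib.DDevissage.devissage (fun L : DCoh.D X => DCoh.IsPerfect L)
      (fun T hT h₁ h₃ => Groth.Agent.Lib.PerfectD.isPerfect_obj₂ T hT h₁ h₃) (fun Z hZ => ?_)
      K a b (fun j _ _ => ?_)
    · obtain ⟨Z0, hZ0, hZ0c⟩ := (CS X Y').exists_prop_of_containsZero
      have h0 := hperf Z0 hZ0c.1 hZ0c.2
      have hz : IsZero (DCoh.inD X Z0) :=
        (DerivedCategory.singleFunctor X.Modules 0).map_isZero hZ0
      exact Groth.Agent.Lib.PerfectD.isPerfect_of_iso (hz.iso hZ) h0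
    · have h0 := hperf _ (hCS j).1 (hCS j).2
      have h1 := Groth.Agent.Lib.PerfectD.isPerfect_shift h0 (-j)
      exact Groth.Agent.Lib.PerfectD.isPerfect_of_iso
        ((Groth.Agent.Lib.DSplit.shiftSingleIso (C := X.Modules) (-j) j (by omega)).app _) h1

end Groth.Agent.Lib.K0CohSupp35
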