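import Groth.Agent.Lib.RegularPerf21
import Groth.Agent.Lib.PerfRestrict21
import Groth.Agent.Lib.DDevissage

/-!
# Perfect complexes over regular rings (helper21)

`isPerfect_iff_bounded_finite`: over a regular ring, `K ∈ D(R)` is perfect iff its cohomology is bounded and finitely
generated.  General parts: `finite_homology_of_isPerfect` (Noetherian), `perf_of_homology` (dévissage).
-/

set_option autoImplicit false
universe u

open CategoryTheory CategoryTheory.Limits

attribute [local instance] HasDerivedCategory.standard

namespace Groth.Agent.Lib.RegularPerf21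

open Groth.Agent.Lib.PCohAmp Groth.Agent.Lib.DRingPCoh21 Groth.Agent.Lib.PerfRestrict21

variable (R : Type u) [CommRing R]

/-- dévissage: a bounded object whose cohomology modules are perfect (in degree `0`) is perfect -/
theorem perf_of_homology (K : Dual.D R) (a b : ℤ)
    (hb : ∀ i : ℤ, i < a ∨ b < i → Subsingleton (Dual.HD R K i))
    (hK : ∀ i : ℤ, DRing.IsPerfectModule R (Dual.HD R K i)) : DRing.IsPerfect R K := by
  rw [← perf_iff]
  have h1 : K.IsGE a := by
    rw [DerivedCategory.isGE_iff]
    intro i hi
    have := hb i (Or.inl hi)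
    exact ModuleCat.isZero_of_subsingleton _
  have h2 : K.IsLE b := by
    rw [DerivedCategory.isLE_iff]
    intro i hi
    have := hb i (Or.inr hi)
    exact ModuleCat.isZero_of_subsingleton _
  refine Groth.Agent.Lib.DDevissage.devissage (Perf R) (perf_ext R)
    (fun Z hZ => perf_of_isZero R hZ) K a b (fun j _ _ => ?_)
  exact perf_single R ((perf_iff R _).2 (hK j)) j

/-- over a Noetherian ring the cohomology modules of a perfect complex are finite -/
theorem finite_homology_of_isPerfect [IsNoetherianRing R] (K : Dual.D R) (h : DRing.IsPerfect R K)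
    (i : ℤ) : Module.Finite R (Dual.HD R K i) := by
  obtain ⟨E, a, b, h1, h2, ⟨e⟩⟩ := h
  have e' : (DerivedCategory.homologyFunctor (ModuleCat.{u} R) i).obj K ≅ E.homology i :=
    (DerivedCategory.homologyFunctor (ModuleCat.{u} R) i).mapIso e.symm ≪≫
      (DerivedCategory.homologyFunctorFactors (ModuleCat.{u} R) i).app E
  have hX : Module.Finite R (E.X i) := (h2 i).1
  have hc : Module.Finite R (E.cycles i) :=
    Module.Finite.of_injective (E.iCycles i).hom ((ModuleCat.mono_iff_injective _).1 inferInstance)
  have hh : Module.Finite R (E.homology i) :=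
    Module.Finite.of_surjective (E.homologyπ i).hom ((ModuleCat.epi_iff_surjective _).1 inferInstance)
  exact Module.Finite.equiv e'.symm.toLinearEquiv

theorem isPerfect_iff_bounded_finite [IsNoetherianRing R]
    (hreg : ∀ p : PrimeSpectrum R, IsRegularLocalRing (Localization.AtPrime p.asIdeal))
    (K : Dual.D R) :
    DRing.IsPerfect R K ↔
      (∃ a b : ℤ, ∀ i : ℤ, (i < a ∨ b < i) → Subsingleton (Dual.HD R K i)) ∧
        ∀ i : ℤ, Module.Finite R (Dual.HD R K i) := by
  constructor
  · intro h
    refine ⟨?_, finite_homology_of_isPerfect R K h⟩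
    obtain ⟨a, b, hab⟩ := (Groth.Agent.Lib.PerfModule21.isPerfect_iff_pa R K).1 h
    exact ⟨a, b, fun i hi => ModuleCat.subsingleton_of_isZero (isZero_homology_of_pa hab i hi)⟩
  · rintro ⟨⟨a, b, hb⟩, hfin⟩
    refine perf_of_homology R K a b hb (fun i => ?_)
    have := hfin i
    exact isPerfectModule_of_finite R hreg _

end Groth.Agent.Lib.RegularPerf21
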