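import Groth.Agent.Lib.H43K0Db
import Groth.Agent.Lib.FiniteLengthSupport
import Groth.Agent.Lib.RegularPerf21B
import Groth.Agent.Lib.KoszulPerfect
import Groth.Agent.Lib.LCIPerfect

/-!
# `K₀` of perfect complexes supported at the closed point (helper35)

Over a Noetherian local ring whose residue field `k` is a perfect module: the perfect complexes
with cohomology supported at the closed point are the bounded complexes with finite length
cohomology (`prop_iff`), and their `K₀` is generated by the class of any object isomorphic to `k[0]`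
(`closure_eq_top`), by dévissage (`H43K0Db`) and induction on the length.
-/

set_option autoImplicit false
set_option linter.style.haveILetI false
universe u
open CategoryTheory CategoryTheory.Limits CategoryTheory.Pretriangulated ZeroObject
attribute [local instance] HasDerivedCategory.standard

namespace Groth.Agent.Lib.K0KoszulPt35

variable (R : Type u) [CommRing R]

/-- modules of finite length -/
def FL : ObjectProperty (ModuleCat.{u} R) := fun M => IsFiniteLength R M

instance : (FL R).IsClosedUnderIsomorphisms where
  of_iso e h := e.toLinearEquiv.isFiniteLength h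

instance : (FL R).ContainsZero where
  exists_zero := ⟨ModuleCat.of R PUnit, ModuleCat.isZero_of_subsingleton _,
    IsFiniteLength.of_subsingleton⟩

instance : (FL R).IsClosedUnderKernels where
  kernels_le := by
    rintro _ ⟨f, k, hk, hf⟩
    haveI : Mono k.ι := mono_of_isLimit_fork hk
    exact IsFiniteLength.of_injective hf.1 ((ModuleCat.mono_iff_injective k.ι).1 inferInstance)

variable {R}

/-- the short exact sequence `0 → N → M → M/N → 0` -/
noncomputable def quotSC {M : Type u} [AddCommGroup M] [Module R M] (N : Submodule R M) :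
    ShortComplex (ModuleCat.{u} R) :=
  ShortComplex.mk (ModuleCat.ofHom N.subtype) (ModuleCat.ofHom N.mkQ) (by
    ext x
    exact (Submodule.Quotient.mk_eq_zero N).2 x.2)

lemma quotSC_shortExact {M : Type u} [AddCommGroup M] [Module R M] (N : Submodule R M) :
    (quotSC N).ShortExact := by
  haveI : Mono (quotSC N).f := (ModuleCat.mono_iff_injective _).2 N.injective_subtype
  haveI : Epi (quotSC N).g := (ModuleCat.epi_iff_surjective _).2 N.mkQ_surjective
  refine ShortComplex.ShortExact.mk ?_
  rw [ShortComplex.moduleCat_exact_iff]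
  intro x hx
  have hx' : x ∈ N := (Submodule.Quotient.mk_eq_zero N).1 hx
  exact ⟨⟨x, hx'⟩, rfl⟩

/-- over a local ring, a simple module is isomorphic to the residue field `R/m` -/
lemma nonempty_linearEquiv_of_isSimpleModule [IsLocalRing R] (M : Type u) [AddCommGroup M]
    [Module R M] [IsSimpleModule R M] :
    Nonempty (M ≃ₗ[R] (R ⧸ IsLocalRing.maximalIdeal R)) := by
  obtain ⟨I, hI, ⟨e⟩⟩ := (isSimpleModule_iff_quot_maximal (R := R) (M := M)).1 inferInstance
  have h : I = IsLocalRing.maximalIdeal R := IsLocalRing.eq_maximalIdeal hI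
  subst h
  exact ⟨e⟩

/-- if the residue field is a perfect module, so is every module of finite length -/
theorem isPerfectModule_of_isFiniteLength [IsLocalRing R]
    (hk : DRing.IsPerfectModule R (R ⧸ IsLocalRing.maximalIdeal R))
    (M : Type u) [AddCommGroup M] [Module R M] (h : IsFiniteLength R M) :
    DRing.IsPerfectModule R M := by
  induction h with
  | of_subsingleton => exact Groth.Agent.Lib.LCIPerfect.isPerfectModule_of_subsingleton _
  | @of_simple_quotient M _ _ N _ _ ih =>
    obtain ⟨e⟩ := nonempty_linearEquiv_of_isSimpleModule (R := R) (M ⧸ N)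
    have h3 : DRing.IsPerfectModule R (M ⧸ N) :=
      Groth.Agent.Lib.LCIPerfect.isPerfectModule_of_linearEquiv e.symm hk
    have := Groth.Agent.Lib.PerfRestrict21.perfMod_of_shortExact R (quotSC N) (quotSC_shortExact N)
      ((Groth.Agent.Lib.PerfRestrict21.perf_iff R _).2 ih)
      ((Groth.Agent.Lib.PerfRestrict21.perf_iff R _).2 h3)
    exact (Groth.Agent.Lib.PerfRestrict21.perf_iff R _).1 this

open Groth.Agent.Lib.H43K0Db in
/-- perfect complexes supported at the closed point are the bounded complexes with cohomology of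
finite length -/
theorem prop_iff [IsNoetherianRing R] [IsLocalRing R]
    (hk : DRing.IsPerfectModule R (R ⧸ IsLocalRing.maximalIdeal R)) (K : Dual.D R) :
    (DRing.IsPerfect R K ∧
      ∀ i : ℤ, Module.support R (Dual.HD R K i) ⊆ {IsLocalRing.closedPoint R}) ↔
      QD (FL R) K := by
  constructor
  · rintro ⟨hperf, hsupp⟩
    refine ⟨fun i => ?_, ?_⟩
    · haveI : Module.Finite R (Dual.HD R K i) :=
        Groth.Agent.Lib.RegularPerf21.finite_homology_of_isPerfect R K hperf i
      exact (Groth.Agent.Lib.FiniteLengthSupport.isFiniteLength_iff_support_subset_closedPoint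
        (R := R) (M := Dual.HD R K i)).2 (fun p hp => hsupp i hp)
    · obtain ⟨a, b, hab⟩ := (Groth.Agent.Lib.PerfModule21.isPerfect_iff_pa R K).1 hperf
      refine ⟨a, b, ?_, ?_⟩
      · change K.IsGE a
        rw [DerivedCategory.isGE_iff]
        intro i hi
        exact Groth.Agent.Lib.PCohAmp.isZero_homology_of_pa hab i (Or.inl hi)
      · change K.IsLE b
        rw [DerivedCategory.isLE_iff]
        intro i hi
        exact Groth.Agent.Lib.PCohAmp.isZero_homology_of_pa hab i (Or.inr hi)
  · rintro ⟨hFL, a, b, ha, hb⟩
    haveI : K.IsGE a := ha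
    haveI : K.IsLE b := hb
    refine ⟨?_, fun i p hp => ?_⟩
    · refine Groth.Agent.Lib.RegularPerf21.perf_of_homology R K a b (fun i hi => ?_) (fun i => ?_)
      · rcases hi with hi | hi
        · exact ModuleCat.subsingleton_of_isZero (DerivedCategory.isZero_of_isGE K a i hi)
        · exact ModuleCat.subsingleton_of_isZero (DerivedCategory.isZero_of_isLE K b i hi)
      · exact isPerfectModule_of_isFiniteLength hk _ (hFL i)
    · have hmax := Groth.Agent.Lib.FiniteLengthSupport.isMaximal_of_mem_support_of_isFiniteLength
        (hFL i) p hp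
      rw [Set.mem_singleton_iff]
      ext1
      exact IsLocalRing.eq_maximalIdeal hmax

section K0

open Groth.Agent.Lib.H43K0Db Groth.Agent.Lib.H43K0Tr Groth.Agent.Lib.KZeroSub DerivedCategory

variable [IsLocalRing R] (X0 : Dual.D R) (hX0 : QD (FL R) X0)
  (e0 : X0 ≅ (singleFunctor (ModuleCat.{u} R) 0).obj
    (ModuleCat.of R (R ⧸ IsLocalRing.maximalIdeal R)))

include hX0 e0 in
/-- the class of a module of finite length is a multiple of the class of the residue field -/
theorem clTr_single_mem_closure (M : Type u) [AddCommGroup M] [Module R M]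
    (h : IsFiniteLength R M) :
    KZero.clTr (QD (FL R)) ((singleFunctor (ModuleCat.{u} R) 0).obj (ModuleCat.of R M)) ∈
      AddSubgroup.closure {KZero.clTr (QD (FL R)) X0} := by
  induction h with
  | @of_subsingleton M _ _ _ =>
    have hz : IsZero ((singleFunctor (ModuleCat.{u} R) 0).obj (ModuleCat.of R M)) :=
      (singleFunctor (ModuleCat.{u} R) 0).map_isZero (ModuleCat.isZero_of_subsingleton _)
    rw [clTr_iso (QD (FL R)) (hz.iso (isZero_zero _)) (QD_of_isZero (FL R) hz) (QD_zero (FL R))
      (QD_zero (FL R)), clTr_zero (QD (FL R)) (QD_zero (FL R))]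
    exact AddSubgroup.zero_mem _
  | @of_simple_quotient M _ _ N _ hN ih =>
    obtain ⟨e⟩ := nonempty_linearEquiv_of_isSimpleModule (R := R) (M ⧸ N)
    have hM : FL R (ModuleCat.of R M) := IsFiniteLength.of_simple_quotient hN
    have hN' : FL R (ModuleCat.of R N) := hN
    have hQ : FL R (ModuleCat.of R (M ⧸ N)) :=
      Groth.Agent.Lib.FiniteLengthSupport.isFiniteLength_of_isSimpleModule
    have hk : FL R (ModuleCat.of R (R ⧸ IsLocalRing.maximalIdeal R)) :=
      e.isFiniteLength hQ
    have hT := (quotSC_shortExact N).singleTriangle_distinguished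
    have h1 := clTr_triangle (QD (FL R)) _ hT (single_mem (FL R) hN' 0) (single_mem (FL R) hM 0)
      (single_mem (FL R) hQ 0)
    have h2 : KZero.clTr (QD (FL R))
        ((singleFunctor (ModuleCat.{u} R) 0).obj (ModuleCat.of R (M ⧸ N))) =
        KZero.clTr (QD (FL R)) X0 :=
      clTr_iso (QD (FL R)) ((singleFunctor (ModuleCat.{u} R) 0).mapIso e.toModuleIso ≪≫ e0.symm)
        (single_mem (FL R) hQ 0) hX0 (QD_zero (FL R))
    change KZero.clTr (QD (FL R)) ((singleFunctor (ModuleCat.{u} R) 0).obj (ModuleCat.of R M)) =
      KZero.clTr (QD (FL R)) ((singleFunctor (ModuleCat.{u} R) 0).obj (ModuleCat.of R N)) +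
      KZero.clTr (QD (FL R)) ((singleFunctor (ModuleCat.{u} R) 0).obj (ModuleCat.of R (M ⧸ N)))
      at h1
    rw [h1, h2]
    exact AddSubgroup.add_mem _ ih (AddSubgroup.subset_closure rfl)

include hX0 e0 in
theorem closure_eq_top :
    AddSubgroup.closure {KZero.clTr (QD (FL R)) X0} = ⊤ := by
  rw [eq_top_iff]
  intro y _
  obtain ⟨x, rfl⟩ := phi_surjective (C := ModuleCat.{u} R) (FL R) y
  refine K0sub_induction (FL R)
    (motive := fun x => phi (C := ModuleCat.{u} R) (FL R) x ∈
      AddSubgroup.closure {KZero.clTr (QD (FL R)) X0}) x ?_ ?_ ?_ ?_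
  · rw [map_zero]
    exact AddSubgroup.zero_mem _
  · intro M hM
    rw [phi_cl (FL R) hM]
    exact clTr_single_mem_closure X0 hX0 e0 M hM
  · intro y hy
    rw [map_neg]
    exact AddSubgroup.neg_mem _ hy
  · intro y z hy hz
    rw [map_add]
    exact AddSubgroup.add_mem _ hy hz

end K0

end Groth.Agent.Lib.K0KoszulPt35
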