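import Mathlib
import Groth.Agent.Lib.H90DevSubset
import Groth.Agent.Lib.K0CohSupp35
import Groth.Agent.Lib.K0KoszulPt35

/-!
# Generators of `K₀` of coherent modules supported in a closed subset (helper35)

`devissage_two_of_three_subset'` : helper90's dévissage relative to a set of supports, with the
two-out-of-three property only needed for sequences supported in that set.
`closure_eq_top` : `K₀(Coh_{Y'}(X))` is generated by a family with length-one generic stalks.
-/

set_option autoImplicit false
set_option linter.style.haveILetI false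
universe u

open CategoryTheory CategoryTheory.Limits AlgebraicGeometry TopologicalSpace Opposite

namespace Groth.Agent.Lib.K0CohGen35

open Groth.Agent.Lib.QCohStalk Groth.Agent.Lib.H90OXModSections Groth.Agent.Lib.H90OXModExt
  Groth.Agent.Lib.H90DevAtom Groth.Agent.Lib.H90DevFilt Groth.Agent.Lib.H90DevFiltP
  Groth.Agent.Lib.H90DevCanon Groth.Agent.Lib.H90DevHub Groth.Agent.Lib.H90DevHub2
  Groth.Agent.Lib.ModStalkLin Groth.Agent.Lib.ModStalk Groth.Agent.Lib.H90DevTwo
  Groth.Agent.Lib.H90DevTwo2

variable {X : Scheme.{u}}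

set_option backward.isDefEq.respectTransparency false in
/-- two-out-of-three dévissage relative to a set of supports `X'`, where the two-out-of-three
property is only required for short exact sequences supported in `X'`
(variant of `H90DevSubset.devissage_two_of_three_subset`) -/
theorem devissage_two_of_three_subset' (X : Scheme.{u}) [AlgebraicGeometry.IsNoetherian X]
    (X' : Set X)
    (P : X.Modules → Prop) (hP : ∀ M N : X.Modules, Nonempty (M ≅ N) → P M → P N)
    (hzero : ∀ N : X.Modules, IsZero N → P N)
    (h₁ : ∀ S : ShortComplex X.Modules, S.ShortExact → Coh.IsCoh S.X₁ → Coh.IsCoh S.X₂ →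
      Coh.IsCoh S.X₃ → CohB1.support S.X₂ ⊆ X' →
      (P S.X₁ → P S.X₂ → P S.X₃) ∧ (P S.X₁ → P S.X₃ → P S.X₂) ∧ (P S.X₂ → P S.X₃ → P S.X₁))
    (h₂ : ∀ Zc : Closeds X, IsIrreducible (Zc : Set X) → (Zc : Set X) ⊆ X' → ∀ ξ : X,
      closure {ξ} = (Zc : Set X) →
      ∃ G : X.Modules, Coh.IsCoh G ∧ CohB1.support G = (Zc : Set X) ∧
        Nonempty (↑(G.presheaf.stalk ξ) ≃ₗ[X.presheaf.stalk ξ]
          IsLocalRing.ResidueField (X.presheaf.stalk ξ)) ∧ P G)
    (M : X.Modules) (hM : Coh.IsCoh M) (hsupp : CohB1.support M ⊆ X') : P M := by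
  classical
  have key : ∀ T : Closeds X, (T : Set X) ⊆ X' → ∀ M : X.Modules, Coh.IsCoh M →
      CohB1.support M ⊆ (T : Set X) → P M := by
    intro T
    induction T using WellFoundedLT.induction with
    | ind T IH =>
      intro hTX' M hM hsM
      have hfilt := filt_atomC_of_isCoh hM
      induction hfilt with
      | zero N h0 => exact hzero N h0
      | step A B f hf hA hAc hB hat ih =>
        haveI := hf
        haveI : A.IsQuasicoherent := hAc.1
        have hS := shortExact_cokernel f
        have hCc : Coh.IsCoh (cokernel f) := Groth.Agent.Lib.H90OXModExact.isCoh_cokernel f hB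
        have hsA : CohB1.support A ⊆ (T : Set X) := (support_subset_of_mono f).trans hsM
        have hsC : CohB1.support (cokernel f) ⊆ (T : Set X) :=
          (support_subset_of_epi (cokernel.π f)).trans hsM
        have hPA := ih hAc hsA
        have hPC : P (cokernel f) := by
          obtain ⟨Zc', hat'⟩ := hat
          have hle : Zc' ≤ T := atomC_subset_of_support_subset hat' T.isClosed hsC
          rcases hle.lt_or_eq with hlt | heq
          · exact IH Zc' hlt (fun x hx => hTX' (hle hx)) _ hCc (support_atomC_subset hat')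
          · subst heq
            have hirr : IsIrreducible (Zc' : Set X) := hat'.1
            obtain ⟨ξ, hξ⟩ := QuasiSober.sober hirr Zc'.isClosed
            have hξ' : closure {ξ} = (Zc' : Set X) := hξ
            obtain ⟨G, hGc, hGs, hGe, hPG⟩ := h₂ Zc' hirr hTX' ξ hξ'
            refine devissage_two_of_three_irreducible X (Zc' : Set X) Zc'.isClosed hirr
              ξ ⟨?_, hξ'⟩ P hP
              (fun S hS c1 c2 c3 hs => h₁ S hS c1 c2 c3 (hs.trans hTX')) ?_
              ⟨G, hGc, hGs, hGe, hPG⟩ _ hCc hsC
            · rw [← hξ']; exact subset_closure rfl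
            · intro Z i hi hZ hsub hne I ι hι hI
              haveI := hi
              haveI := hι
              have hlt : (⟨Set.range ⇑i, i.isClosedEmbedding.isClosed_range⟩ : Closeds X) < Zc' :=
                lt_of_le_of_ne hsub (fun h => hne (congrArg (fun W : Closeds X => (W : Set X)) h))
              exact IH _ hlt (fun x hx => hTX' (hsub hx)) _ (isCoh_push_ideal i I ι hI)
                (support_push_subset i I)
        exact (h₁ _ hS hAc hB hCc (hsM.trans hTX')).2.1 hPA hPC
  exact key ⟨CohB1.support M, isClosed_support_of_isFT _ hM.2⟩ hsupp M hM (le_refl _)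

open Groth.Agent.Lib.K0CohSupp35 Groth.Agent.Lib.KZeroSub Groth.Agent.Lib.H43K0SubKer in
/-- `K₀` of coherent modules supported in `Y'` is generated by modules whose stalks at the generic
points of the irreducible closed subsets of `Y'` have length one -/
theorem closure_eq_top (X : Scheme.{u}) [AlgebraicGeometry.IsNoetherian X]
    (Y' : Set X) {ι : Type u} (F : ι → X.Modules)
    (hF : ∀ a : ι, CS X Y' (F a))
    (hgen : ∀ (Z : Set X), IsClosed Z → IsIrreducible Z → Z ⊆ Y' → ∀ y : X,
      closure ({y} : Set X) = Z →
      ∃ a : ι, CohB1.support (F a) ⊆ Z ∧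
        Module.length (X.presheaf.stalk y) ((F a).presheaf.stalk y) = 1) :
    AddSubgroup.closure (Set.range fun a : ι => KZero.clSub (CS X Y') (F a)) = ⊤ := by
  set H := AddSubgroup.closure (Set.range fun a : ι => KZero.clSub (CS X Y') (F a)) with hH
  have hnot : ∀ M : X.Modules, ¬ CS X Y' M → KZero.clSub (CS X Y') M = 0 := by
    intro M hM
    unfold KZero.clSub
    rw [dif_neg hM]
  have main : ∀ M : X.Modules, Coh.IsCoh M → CohB1.support M ⊆ Y' →
      KZero.clSub (CS X Y') M ∈ H := by
    refine devissage_two_of_three_subset' X Y' (fun M => KZero.clSub (CS X Y') M ∈ H) ?_ ?_ ?_ ?_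
    · rintro M N ⟨e⟩ hM
      by_cases h : CS X Y' M
      · rw [← clSub_iso' (CS X Y') e h]
        exact hM
      · have h' : ¬ CS X Y' N := fun hN => h ((CS X Y').prop_of_iso e.symm hN)
        rw [hnot N h']
        exact H.zero_mem
    · intro N hN
      rw [clSub_isZero (CS X Y') hN]
      exact H.zero_mem
    · intro S hS c1 c2 c3 hs
      have hsupp := support_shortExact hS
      have h1 : CS X Y' S.X₁ := ⟨c1, (hsupp ▸ Set.subset_union_left).trans hs⟩
      have h2 : CS X Y' S.X₂ := ⟨c2, hs⟩
      have h3 : CS X Y' S.X₃ := ⟨c3, (hsupp ▸ Set.subset_union_right).trans hs⟩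
      have heq := clSub_shortExact (CS X Y') S hS h1 h2 h3
      refine ⟨fun p1 p2 => ?_, fun p1 p3 => ?_, fun p2 p3 => ?_⟩
      · have : KZero.clSub (CS X Y') S.X₃ =
            KZero.clSub (CS X Y') S.X₂ - KZero.clSub (CS X Y') S.X₁ := by
          rw [heq]; abel
        rw [this]
        exact H.sub_mem p2 p1
      · rw [heq]
        exact H.add_mem p1 p3
      · have : KZero.clSub (CS X Y') S.X₁ =
            KZero.clSub (CS X Y') S.X₂ - KZero.clSub (CS X Y') S.X₃ := by
          rw [heq]; abel
        rw [this]
        exact H.sub_mem p2 p3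
    · intro Zc hirr hsub ξ hξ
      obtain ⟨a, ha1, ha2⟩ := hgen (Zc : Set X) Zc.isClosed hirr hsub ξ hξ
      haveI : IsSimpleModule (X.presheaf.stalk ξ) ((F a).presheaf.stalk ξ) :=
        Module.length_eq_one_iff.1 ha2
      have hnt : Nontrivial ((F a).presheaf.stalk ξ) :=
        IsSimpleModule.nontrivial (X.presheaf.stalk ξ) _
      have hmem : ξ ∈ CohB1.support (F a) := (mem_support_iff (F a) ξ).2 hnt
      have hcl : IsClosed (CohB1.support (F a)) := isClosed_support_of_isFT _ (hF a).1.2
      refine ⟨F a, (hF a).1, ?_, ?_, AddSubgroup.subset_closure ⟨a, rfl⟩⟩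
      · refine subset_antisymm ha1 ?_
        rw [← hξ]
        exact closure_minimal (Set.singleton_subset_iff.2 hmem) hcl
      · exact Groth.Agent.Lib.K0KoszulPt35.nonempty_linearEquiv_of_isSimpleModule
          (R := X.presheaf.stalk ξ) ((F a).presheaf.stalk ξ)
  rw [eq_top_iff]
  intro x _
  refine K0sub_induction (CS X Y') (motive := fun x => x ∈ H) x H.zero_mem ?_ ?_ ?_
  · intro M hM
    exact main M hM.1 hM.2
  · intro y hy
    exact H.neg_mem hy
  · intro y z hy hz
    exact H.add_mem hy hz

end Groth.Agent.Lib.K0CohGen35
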