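import Groth.Prelude.Def_KZero
import Groth.Agent.Lib.KZeroSub
import Mathlib

/-
Lib/K0Node (helper70): K₀ of f.g. modules over a "two axes" ring (S16242).
* `exists_hom_of_additive`: additive function on f.g. modules ⇒ hom out of `K0sub`.
* `rk`, `rk_additive`: length of the localisation at a minimal prime of a Noetherian ring is additive.
* `rk_quotient_eq_zero`, `rk_quotient_ne_zero`: values on `A/q`.
* `clSub_of_exact`, `clSub_of_subsingleton`, `clSub_of_equiv`: relations in `K0sub` from linear maps.
* `clSub_quotient_eq_zero`: if `A/(t)` is a PID then `[A/p] = 0` for `p ⊋ (t)`.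
* `two_axes`: abstract bijectivity `ℤ² ≃ K₀` for `xy = 0`, `A/(x)`, `A/(y)` PIDs.
* `axisHom`, `axisHom_surjective`, `axisHom_ker`: `k[x,y]/(xy) → k[t]` killing one variable.
-/

set_option autoImplicit false

open CategoryTheory

universe u

namespace Groth.Agent.Lib.K0Node

section General

variable {A : Type u} [CommRing A]

/-- An additive function on f.g. modules gives a homomorphism out of `K0sub`. -/
theorem exists_hom_of_additive (φ : ModuleCat.{u} A → ℤ)
    (hφ : ∀ S : ShortComplex (ModuleCat.{u} A), S.ShortExact → Module.Finite A S.X₁ →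
      Module.Finite A S.X₂ → Module.Finite A S.X₃ → φ S.X₂ = φ S.X₁ + φ S.X₃) :
    ∃ Φ : KZero.K0sub (fun M : ModuleCat.{u} A => Module.Finite A M) →+ ℤ,
      ∀ M : ModuleCat.{u} A, Module.Finite A M →
        Φ (KZero.clSub (fun M : ModuleCat.{u} A => Module.Finite A M) M) = φ M := by
  let P : ObjectProperty (ModuleCat.{u} A) := fun M => Module.Finite A M
  let F : FreeAbelianGroup (Subtype P) →+ ℤ := FreeAbelianGroup.lift (fun X => φ X.1)
  have hF : KZero.relSub P ≤ F.ker := by
    refine (AddSubgroup.closure_le _).mpr ?_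
    rintro _ ⟨S, h₁, h₂, h₃, hS, rfl⟩
    simp only [SetLike.mem_coe, AddMonoidHom.mem_ker, map_sub, F, FreeAbelianGroup.lift_apply_of]
    rw [hφ S hS h₁ h₂ h₃]
    ring
  refine ⟨QuotientAddGroup.lift (KZero.relSub P) F hF, ?_⟩
  intro M hM
  have hM' : P M := hM
  change QuotientAddGroup.lift (KZero.relSub P) F hF (KZero.clSub P M) = φ M
  rw [Groth.Agent.Lib.KZeroSub.clSub_of_mem P hM']
  simp [F]


theorem krullDimLE_zero_localization_of_minimal (p : Ideal A) [p.IsPrime]
    (hp : ∀ q : Ideal A, q.IsPrime → q ≤ p → q = p) :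
    Ring.KrullDimLE 0 (Localization.AtPrime p) := by
  rw [Ring.krullDimLE_zero_iff]
  intro J hJ
  have h1 : (J.comap (algebraMap A (Localization.AtPrime p))).IsPrime := Ideal.comap_isPrime _ J
  have h2 : J.comap (algebraMap A (Localization.AtPrime p)) ≤ p := by
    intro a ha
    by_contra hap
    have hu : IsUnit (algebraMap A (Localization.AtPrime p) a) :=
      IsLocalization.map_units (Localization.AtPrime p) (⟨a, hap⟩ : p.primeCompl)
    exact hJ.ne_top (Ideal.eq_top_of_isUnit_mem _ ha hu)
  have h3 := hp _ h1 h2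
  have h4 : J = Ideal.map (algebraMap A (Localization.AtPrime p)) p := by
    have := IsLocalization.map_comap p.primeCompl (Localization.AtPrime p) J
    rw [Ideal.under_def, h3] at this
    exact this.symm
  rw [h4, Localization.AtPrime.map_eq_maximalIdeal]
  exact IsLocalRing.maximalIdeal.isMaximal _

noncomputable def rk (p : Ideal A) [p.IsPrime] (M : ModuleCat.{u} A) : ℤ :=
  ((Module.length (Localization.AtPrime p) (LocalizedModule p.primeCompl M)).toNat : ℤ)

theorem length_ne_top_of_minimal [IsNoetherianRing A] (p : Ideal A) [p.IsPrime]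
    (hp : ∀ q : Ideal A, q.IsPrime → q ≤ p → q = p) (M : Type u) [AddCommGroup M] [Module A M]
    [Module.Finite A M] :
    Module.length (Localization.AtPrime p) (LocalizedModule p.primeCompl M) ≠ ⊤ := by
  haveI := krullDimLE_zero_localization_of_minimal p hp
  haveI : IsArtinianRing (Localization.AtPrime p) := isArtinianRing_iff_krullDimLE_zero.mpr this
  haveI : Module.Finite (Localization.AtPrime p) (LocalizedModule p.primeCompl M) := inferInstance
  exact Module.length_ne_top

theorem rk_additive [IsNoetherianRing A] (p : Ideal A) [p.IsPrime]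
    (hp : ∀ q : Ideal A, q.IsPrime → q ≤ p → q = p)
    (S : ShortComplex (ModuleCat.{u} A)) (hS : S.ShortExact) (h₁ : Module.Finite A S.X₁)
    (h₂ : Module.Finite A S.X₂) (h₃ : Module.Finite A S.X₃) :
    rk p S.X₂ = rk p S.X₁ + rk p S.X₃ := by
  have hinj : Function.Injective S.f.hom := (ModuleCat.mono_iff_injective S.f).mp hS.mono_f
  have hsurj : Function.Surjective S.g.hom := (ModuleCat.epi_iff_surjective S.g).mp hS.epi_g
  have hex : Function.Exact S.f.hom S.g.hom :=
    (ShortComplex.ShortExact.moduleCat_exact_iff_function_exact S).mp hS.exact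
  have hadd := Module.length_eq_add_of_exact
    (LocalizedModule.map p.primeCompl S.f.hom) (LocalizedModule.map p.primeCompl S.g.hom)
    (LocalizedModule.map_injective _ _ hinj) (LocalizedModule.map_surjective _ _ hsurj)
    (LocalizedModule.map_exact p.primeCompl S.f.hom S.g.hom hex)
  have f1 := length_ne_top_of_minimal p hp S.X₁
  have f3 := length_ne_top_of_minimal p hp S.X₃
  unfold rk
  rw [hadd, ENat.toNat_add f1 f3]
  push_cast
  rfl


theorem rk_quotient_eq_zero (p : Ideal A) [p.IsPrime] (q : Ideal A) (hq : ¬ q ≤ p) :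
    rk p (ModuleCat.of A (A ⧸ q)) = 0 := by
  have hsupp : (⟨p, inferInstance⟩ : PrimeSpectrum A) ∉ Module.support A (A ⧸ q) := by
    rw [Module.support_eq_zeroLocus, Ideal.annihilator_quotient]
    simpa using hq
  rw [Module.notMem_support_iff] at hsupp
  unfold rk
  have : Module.length (Localization.AtPrime p) (LocalizedModule p.primeCompl (A ⧸ q)) = 0 :=
    Module.length_eq_zero_iff.mpr hsupp
  change ((Module.length (Localization.AtPrime p)
    (LocalizedModule p.primeCompl (A ⧸ q))).toNat : ℤ) = 0
  rw [this]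
  rfl

theorem rk_quotient_ne_zero [IsNoetherianRing A] (p : Ideal A) [p.IsPrime]
    (hp : ∀ q : Ideal A, q.IsPrime → q ≤ p → q = p) (q : Ideal A) (hq : q ≤ p) :
    rk p (ModuleCat.of A (A ⧸ q)) ≠ 0 := by
  have hsupp : (⟨p, inferInstance⟩ : PrimeSpectrum A) ∈ Module.support A (A ⧸ q) := by
    rw [Module.support_eq_zeroLocus, Ideal.annihilator_quotient]
    simpa using hq
  rw [Module.mem_support_iff] at hsupp
  have h0 : Module.length (Localization.AtPrime p) (LocalizedModule p.primeCompl (A ⧸ q)) ≠ 0 := by
    rw [Ne, Module.length_eq_zero_iff]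
    exact not_subsingleton_iff_nontrivial.mpr hsupp
  have h1 := length_ne_top_of_minimal p hp (A ⧸ q)
  change ((Module.length (Localization.AtPrime p)
    (LocalizedModule p.primeCompl (A ⧸ q))).toNat : ℤ) ≠ 0
  intro h
  have h2 : (Module.length (Localization.AtPrime p)
    (LocalizedModule p.primeCompl (A ⧸ q))).toNat = 0 := by exact_mod_cast h
  rw [ENat.toNat_eq_zero] at h2
  rcases h2 with h2 | h2
  · exact h0 h2
  · exact h1 h2

/-- Short exact sequences of f.g. modules give relations. -/
theorem clSub_of_exact {N₁ N₂ N₃ : Type u} [AddCommGroup N₁] [Module A N₁] [Module.Finite A N₁]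
    [AddCommGroup N₂] [Module A N₂] [Module.Finite A N₂]
    [AddCommGroup N₃] [Module A N₃] [Module.Finite A N₃]
    (f : N₁ →ₗ[A] N₂) (g : N₂ →ₗ[A] N₃) (hf : Function.Injective f) (hg : Function.Surjective g)
    (hfg : Function.Exact f g) :
    KZero.clSub (fun M : ModuleCat.{u} A => Module.Finite A M) (ModuleCat.of A N₂) =
      KZero.clSub (fun M : ModuleCat.{u} A => Module.Finite A M) (ModuleCat.of A N₁) +
      KZero.clSub (fun M : ModuleCat.{u} A => Module.Finite A M) (ModuleCat.of A N₃) := by
  have eq0 : g.comp f = 0 := by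
    ext a
    exact hfg.apply_apply_eq_zero a
  let S := ModuleCat.shortComplexOfCompEqZero f g eq0
  have hS : S.ShortExact := ModuleCat.shortComplex_shortExact S hfg hf hg
  exact Groth.Agent.Lib.KZeroSub.clSub_shortExact
    (fun M : ModuleCat.{u} A => Module.Finite A M) S hS
    (inferInstanceAs (Module.Finite A N₁)) (inferInstanceAs (Module.Finite A N₂))
    (inferInstanceAs (Module.Finite A N₃))

theorem clSub_of_subsingleton (N : Type u) [AddCommGroup N] [Module A N] [Subsingleton N] :
    KZero.clSub (fun M : ModuleCat.{u} A => Module.Finite A M) (ModuleCat.of A N) = 0 := by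
  have h := clSub_of_exact (A := A) (0 : N →ₗ[A] N) (0 : N →ₗ[A] N)
    (Function.injective_of_subsingleton _) (Function.surjective_to_subsingleton _)
    (fun a => by simp [Subsingleton.elim a 0])
  exact add_eq_left.mp h.symm

theorem clSub_of_equiv {N₁ N₂ : Type u} [AddCommGroup N₁] [Module A N₁] [Module.Finite A N₁]
    [AddCommGroup N₂] [Module A N₂] [Module.Finite A N₂] (e : N₁ ≃ₗ[A] N₂) :
    KZero.clSub (fun M : ModuleCat.{u} A => Module.Finite A M) (ModuleCat.of A N₁) =
      KZero.clSub (fun M : ModuleCat.{u} A => Module.Finite A M) (ModuleCat.of A N₂) := by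
  have h := clSub_of_exact (A := A) (e : N₁ →ₗ[A] N₂) (0 : N₂ →ₗ[A] PUnit.{u+1})
    e.injective (Function.surjective_to_subsingleton _)
    ((e.exact_zero_iff_surjective _).2 e.surjective)
  rw [clSub_of_subsingleton PUnit.{u+1}, add_zero] at h
  exact h.symm


/-- If `A/(t)` is a principal ideal domain, then `[A/p] = 0` for every ideal `p` strictly
containing `(t)`. -/
theorem clSub_quotient_eq_zero {B : Type*} [CommRing B] [IsDomain B] [IsPrincipalIdealRing B]
    (φ : A →+* B) (hφ : Function.Surjective φ) (t : A) (hker : RingHom.ker φ = Ideal.span {t})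
    (p : Ideal A) (hle : Ideal.span {t} ≤ p) (hne : p ≠ Ideal.span {t}) :
    KZero.clSub (fun M : ModuleCat.{u} A => Module.Finite A M) (ModuleCat.of A (A ⧸ p)) = 0 := by
  -- generator
  obtain ⟨g, hg⟩ : ∃ g : B, Ideal.map φ p = Ideal.span {g} :=
    ⟨_, (IsPrincipalIdealRing.principal (Ideal.map φ p)).span_singleton_generator.symm⟩
  obtain ⟨f, rfl⟩ := hφ g
  have hkermem : ∀ a : A, φ a = 0 → a ∈ Ideal.span {t} := by
    intro a ha
    rw [← hker]
    exact (RingHom.mem_ker).mpr ha
  have htker : ∀ a : A, a ∈ Ideal.span {t} → φ a = 0 := by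
    intro a ha
    rw [← hker] at ha
    exact (RingHom.mem_ker).mp ha
  have hfp : f ∈ p := by
    have h1 : φ f ∈ Ideal.map φ p := by
      rw [hg]
      exact Ideal.mem_span_singleton_self _
    obtain ⟨a, hap, ha⟩ := (Ideal.mem_map_iff_of_surjective φ hφ).mp h1
    have h2 : f - a ∈ p := hle (hkermem _ (by rw [map_sub, ha, sub_self]))
    have : f = (f - a) + a := by ring
    rw [this]
    exact p.add_mem h2 hap
  have hpmem : ∀ a ∈ p, ∃ c d : A, a = c * f + d * t := by
    intro a ha
    have h1 : φ a ∈ Ideal.span {φ f} := by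
      rw [← hg]
      exact Ideal.mem_map_of_mem φ ha
    obtain ⟨b, hb⟩ := Ideal.mem_span_singleton'.mp h1
    obtain ⟨c, rfl⟩ := hφ b
    have h2 : a - c * f ∈ Ideal.span {t} := hkermem _ (by rw [map_sub, map_mul, hb, sub_self])
    obtain ⟨d, hd⟩ := Ideal.mem_span_singleton'.mp h2
    exact ⟨c, d, by rw [hd]; ring⟩
  have hf0 : φ f ≠ 0 := by
    intro h0
    apply hne
    refine le_antisymm ?_ hle
    intro a ha
    obtain ⟨c, d, rfl⟩ := hpmem a ha
    apply hkermem
    rw [map_add, map_mul, map_mul, h0, mul_zero, zero_add, htker t (Ideal.mem_span_singleton_self t),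
      mul_zero]
  -- the exact sequence
  let mulf : (A ⧸ Ideal.span {t}) →ₗ[A] (A ⧸ Ideal.span {t}) := LinearMap.lsmul A _ f
  let proj : (A ⧸ Ideal.span {t}) →ₗ[A] (A ⧸ p) := Submodule.factor hle
  have hmulf : ∀ a : A, mulf (Ideal.Quotient.mk _ a) = Ideal.Quotient.mk _ (f * a) := by
    intro a
    rfl
  have hinj : Function.Injective mulf := by
    rw [injective_iff_map_eq_zero]
    intro y hy
    obtain ⟨a, rfl⟩ := Ideal.Quotient.mk_surjective y
    rw [hmulf, Ideal.Quotient.eq_zero_iff_mem] at hy
    rw [Ideal.Quotient.eq_zero_iff_mem]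
    have h1 := htker _ hy
    rw [map_mul] at h1
    rcases mul_eq_zero.mp h1 with h | h
    · exact absurd h hf0
    · exact hkermem _ h
  have hsurj : Function.Surjective proj := Submodule.factor_surjective hle
  have hex : Function.Exact mulf proj := by
    intro y
    obtain ⟨a, rfl⟩ := Ideal.Quotient.mk_surjective y
    have hproj : proj (Ideal.Quotient.mk _ a) = Ideal.Quotient.mk p a := rfl
    rw [hproj, Ideal.Quotient.eq_zero_iff_mem]
    constructor
    · intro ha
      obtain ⟨c, d, rfl⟩ := hpmem a ha
      refine ⟨Ideal.Quotient.mk _ c, ?_⟩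
      rw [hmulf, ← sub_eq_zero, ← map_sub, Ideal.Quotient.eq_zero_iff_mem]
      have : f * c - (c * f + d * t) = (-d) * t := by ring
      rw [this]
      exact Ideal.mul_mem_left _ _ (Ideal.mem_span_singleton_self t)
    · rintro ⟨z, hz⟩
      obtain ⟨c, rfl⟩ := Ideal.Quotient.mk_surjective z
      rw [hmulf] at hz
      have h1 : f * c - a ∈ Ideal.span {t} := by
        rw [← Ideal.Quotient.eq_zero_iff_mem, map_sub, hz, sub_self]
      have h2 : a = f * c - (f * c - a) := by ring
      rw [h2]
      exact p.sub_mem (Ideal.mul_mem_right _ _ hfp) (hle h1)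
  have h := clSub_of_exact mulf proj hinj hsurj hex
  exact add_eq_left.mp h.symm


/-- The abstract two-axes theorem. -/
theorem two_axes [IsNoetherianRing A] {Bx By : Type*} [CommRing Bx] [IsDomain Bx]
    [IsPrincipalIdealRing Bx] [CommRing By] [IsDomain By] [IsPrincipalIdealRing By]
    (x y : A) (hxy : x * y = 0)
    (φx : A →+* Bx) (hφx : Function.Surjective φx) (hkx : RingHom.ker φx = Ideal.span {x})
    (φy : A →+* By) (hφy : Function.Surjective φy) (hky : RingHom.ker φy = Ideal.span {y})
    (hyx : φx y ≠ 0) (hxy' : φy x ≠ 0) :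
    Function.Bijective (fun p : ℤ × ℤ =>
      p.1 • KZero.clSub (fun M : ModuleCat.{u} A => Module.Finite A M)
          (ModuleCat.of A (A ⧸ Ideal.span {x})) +
        p.2 • KZero.clSub (fun M : ModuleCat.{u} A => Module.Finite A M)
          (ModuleCat.of A (A ⧸ Ideal.span {y}))) := by
  have hy_notMem : y ∉ Ideal.span {x} := by
    rw [← hkx, RingHom.mem_ker]; exact hyx
  have hx_notMem : x ∉ Ideal.span {y} := by
    rw [← hky, RingHom.mem_ker]; exact hxy'
  haveI hpx : (Ideal.span {x}).IsPrime := by rw [← hkx]; exact RingHom.ker_isPrime φx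
  haveI hpy : (Ideal.span {y}).IsPrime := by rw [← hky]; exact RingHom.ker_isPrime φy
  have hor : ∀ q : Ideal A, q.IsPrime → x ∈ q ∨ y ∈ q := by
    intro q hq
    exact hq.mem_or_mem (by rw [hxy]; exact q.zero_mem)
  have hminx : ∀ q : Ideal A, q.IsPrime → q ≤ Ideal.span {x} → q = Ideal.span {x} := by
    intro q hq hle
    rcases hor q hq with h | h
    · exact le_antisymm hle ((Ideal.span_singleton_le_iff_mem _).mpr h)
    · exact absurd (hle h) hy_notMem
  have hminy : ∀ q : Ideal A, q.IsPrime → q ≤ Ideal.span {y} → q = Ideal.span {y} := by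
    intro q hq hle
    rcases hor q hq with h | h
    · exact absurd (hle h) hx_notMem
    · exact le_antisymm hle ((Ideal.span_singleton_le_iff_mem _).mpr h)
  set cx := KZero.clSub (fun M : ModuleCat.{u} A => Module.Finite A M)
          (ModuleCat.of A (A ⧸ Ideal.span {x})) with hcx
  set cy := KZero.clSub (fun M : ModuleCat.{u} A => Module.Finite A M)
          (ModuleCat.of A (A ⧸ Ideal.span {y})) with hcy
  constructor
  · -- injectivity
    obtain ⟨Φx, hΦx⟩ := exists_hom_of_additive (rk (Ideal.span {x}))
      (fun S hS h₁ h₂ h₃ => rk_additive _ hminx S hS h₁ h₂ h₃)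
    obtain ⟨Φy, hΦy⟩ := exists_hom_of_additive (rk (Ideal.span {y}))
      (fun S hS h₁ h₂ h₃ => rk_additive _ hminy S hS h₁ h₂ h₃)
    have hxx : Φx cx ≠ 0 := by
      rw [hcx, hΦx _ (inferInstanceAs (Module.Finite A (A ⧸ Ideal.span {x})))]
      exact rk_quotient_ne_zero _ hminx _ le_rfl
    have hxy0 : Φx cy = 0 := by
      rw [hcy, hΦx _ (inferInstanceAs (Module.Finite A (A ⧸ Ideal.span {y})))]
      refine rk_quotient_eq_zero _ _ ?_
      intro hle
      exact hy_notMem (hle (Ideal.mem_span_singleton_self y))
    have hyy : Φy cy ≠ 0 := by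
      rw [hcy, hΦy _ (inferInstanceAs (Module.Finite A (A ⧸ Ideal.span {y})))]
      exact rk_quotient_ne_zero _ hminy _ le_rfl
    have hyx0 : Φy cx = 0 := by
      rw [hcx, hΦy _ (inferInstanceAs (Module.Finite A (A ⧸ Ideal.span {x})))]
      refine rk_quotient_eq_zero _ _ ?_
      intro hle
      exact hx_notMem (hle (Ideal.mem_span_singleton_self x))
    rintro ⟨a, b⟩ ⟨a', b'⟩ h
    simp only at h
    have h1 := congrArg Φx h
    have h2 := congrArg Φy h
    simp only [map_add, map_zsmul, hxy0, hyx0, smul_zero, add_zero, zero_add, smul_eq_mul, mul_zero] at h1 h2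
    have ha : a = a' := mul_right_cancel₀ hxx h1
    have hb : b = b' := mul_right_cancel₀ hyy h2
    rw [ha, hb]
  · -- surjectivity
    intro z
    suffices hz : z ∈ AddSubgroup.closure {cx, cy} by
      obtain ⟨m, n, hmn⟩ := AddSubgroup.mem_closure_pair.mp hz
      exact ⟨(m, n), hmn⟩
    have key : ∀ (M : Type u) [AddCommGroup M] [Module A M], Module.Finite A M →
        KZero.clSub (fun M : ModuleCat.{u} A => Module.Finite A M) (ModuleCat.of A M) ∈
          AddSubgroup.closure {cx, cy} := by
      intro M _ _ hM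
      induction hM using IsNoetherianRing.induction_on_isQuotientEquivQuotientPrime A with
      | subsingleton N =>
        rw [clSub_of_subsingleton]
        exact AddSubgroup.zero_mem _
      | quotient N p e =>
        rw [clSub_of_equiv e]
        rcases hor p.asIdeal p.isPrime with h | h
        · have hle : Ideal.span {x} ≤ p.asIdeal := (Ideal.span_singleton_le_iff_mem _).mpr h
          by_cases heq : p.asIdeal = Ideal.span {x}
          · rw [heq]
            exact AddSubgroup.subset_closure (Set.mem_insert _ _)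
          · rw [clSub_quotient_eq_zero φx hφx x hkx _ hle heq]
            exact AddSubgroup.zero_mem _
        · have hle : Ideal.span {y} ≤ p.asIdeal := (Ideal.span_singleton_le_iff_mem _).mpr h
          by_cases heq : p.asIdeal = Ideal.span {y}
          · rw [heq]
            exact AddSubgroup.subset_closure (Set.mem_insert_of_mem _ rfl)
          · rw [clSub_quotient_eq_zero φy hφy y hky _ hle heq]
            exact AddSubgroup.zero_mem _
      | exact N₁ N₂ N₃ f g hf hg hfg h₁ h₃ =>
        rw [clSub_of_exact f g hf hg hfg]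
        exact AddSubgroup.add_mem _ h₁ h₃
    refine Groth.Agent.Lib.KZeroSub.K0sub_induction
      (fun M : ModuleCat.{u} A => Module.Finite A M) z (AddSubgroup.zero_mem _) ?_
      (fun y hy => AddSubgroup.neg_mem _ hy) (fun y z hy hz => AddSubgroup.add_mem _ hy hz)
    intro X hX
    exact key X hX


end General

section Concrete

open MvPolynomial

variable (k : Type u) [Field k]

/-- The node ideal. -/
noncomputable abbrev nodeI : Ideal (MvPolynomial (Fin 2) k) :=
  Ideal.span {(MvPolynomial.X 0 * MvPolynomial.X 1 : MvPolynomial (Fin 2) k)}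

/-- projection to an axis: kill `X i`, send the other variable to `X`. -/
noncomputable def axisHom (i : Fin 2) : (MvPolynomial (Fin 2) k ⧸ nodeI k) →ₐ[k] Polynomial k :=
  Ideal.Quotient.liftₐ (nodeI k)
    (MvPolynomial.aeval (fun l : Fin 2 => if l = i then (0 : Polynomial k) else Polynomial.X))
    (by
      intro a ha
      refine Submodule.span_induction (p := fun a _ => (MvPolynomial.aeval (fun l : Fin 2 => if l = i then (0 : Polynomial k) else Polynomial.X)) a = 0) ?_ ?_ ?_ ?_ ha
      · rintro _ ⟨rfl⟩
        rw [map_mul, aeval_X, aeval_X]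
        fin_cases i <;> simp
      · simp
      · intro a b _ _ ha hb
        rw [map_add, ha, hb, add_zero]
      · intro c a _ ha
        rw [smul_eq_mul, map_mul, ha, mul_zero])

theorem axisHom_mk_X (i l : Fin 2) :
    axisHom k i (Ideal.Quotient.mk (nodeI k) (X l)) = if l = i then 0 else Polynomial.X := by
  have h : axisHom k i (Ideal.Quotient.mk (nodeI k) (X l)) =
      MvPolynomial.aeval (fun l : Fin 2 => if l = i then (0 : Polynomial k) else Polynomial.X)
        (X l) := rfl
  rw [h, aeval_X]

theorem axisHom_surjective (i j : Fin 2) (hij : j ≠ i) : Function.Surjective (axisHom k i) := by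
  intro q
  refine ⟨Polynomial.aeval (Ideal.Quotient.mk (nodeI k) (X j)) q, ?_⟩
  have : (axisHom k i).comp (Polynomial.aeval (Ideal.Quotient.mk (nodeI k) (X j))) =
      AlgHom.id k (Polynomial k) := by
    apply Polynomial.algHom_ext
    rw [AlgHom.comp_apply, Polynomial.aeval_X, axisHom_mk_X, if_neg hij]
    rfl
  exact AlgHom.congr_fun this q

theorem axisHom_ker (i j : Fin 2) (hij : j ≠ i) :
    RingHom.ker (axisHom k i).toRingHom =
      Ideal.span {Ideal.Quotient.mk (nodeI k) (X i)} := by
  apply le_antisymm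
  · intro a ha
    rw [RingHom.mem_ker] at ha
    have hcomp : ((Ideal.Quotient.mkₐ k (Ideal.span {Ideal.Quotient.mk (nodeI k) (X i)})).comp
        ((Polynomial.aeval (Ideal.Quotient.mk (nodeI k) (X j))).comp (axisHom k i))) =
        Ideal.Quotient.mkₐ k (Ideal.span {Ideal.Quotient.mk (nodeI k) (X i)}) := by
      apply Ideal.Quotient.algHom_ext
      apply MvPolynomial.algHom_ext
      intro l
      simp only [AlgHom.comp_apply, Ideal.Quotient.mkₐ_eq_mk]
      rw [axisHom_mk_X]
      by_cases hl : l = i
      · rw [if_pos hl, map_zero, map_zero, hl]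
        symm
        rw [Ideal.Quotient.eq_zero_iff_mem]
        exact Ideal.mem_span_singleton_self _
      · rw [if_neg hl, Polynomial.aeval_X]
        have : l = j := by
          fin_cases l <;> fin_cases i <;> fin_cases j <;> simp_all
        rw [this]
    have h1 := AlgHom.congr_fun hcomp a
    simp only [AlgHom.comp_apply, Ideal.Quotient.mkₐ_eq_mk] at h1
    have ha' : axisHom k i a = 0 := ha
    rw [ha', map_zero, map_zero] at h1
    exact Ideal.Quotient.eq_zero_iff_mem.mp h1.symm
  · rw [Ideal.span_singleton_le_iff_mem, RingHom.mem_ker]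
    change axisHom k i _ = 0
    rw [axisHom_mk_X, if_pos rfl]


end Concrete

end Groth.Agent.Lib.K0Node
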