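import Groth.Agent.Lib.KZeroSub
import Groth.Agent.Lib.H43K0Tr
import Groth.Agent.Lib.DCopower
import Groth.Agent.Lib.ConeQuasiIso
import Groth.Agent.Lib.PerfRestrict21
import Groth.Agent.Lib.FlatAmp3
import Groth.Agent.Lib.PCohAcyclic
import Mathlib.Algebra.BigOperators.Finprod
import Mathlib.Algebra.Ring.NegOnePow

/-!
# `K₀` of finite projective modules and of perfect complexes

The termwise Euler characteristic `chi E = Σ (-1)^i [E^i]` of a bounded complex of finite projective modules,
its invariance under quasi-isomorphism and additivity on mapping cones, and the resulting isomorphism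
`K₀(f.g. projective R-modules) ≃ K₀(D_perf(R))`.
-/

set_option autoImplicit false
universe u

open CategoryTheory CategoryTheory.Limits Category

attribute [local instance] HasDerivedCategory.standard

namespace Groth.Agent.Lib.K0Perf

open Groth.Agent.Lib.KZeroSub DerivedCategory ZeroObject

variable (R : Type u) [CommRing R]

/-- finite projective modules -/
abbrev PF : ObjectProperty (ModuleCat.{u} R) := fun M => Module.Finite R M ∧ Module.Projective R M

/-- perfect objects -/
abbrev PerfP : ObjectProperty (Dual.D R) := fun K => DRing.IsPerfect R K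

instance : (PF R).IsClosedUnderIsomorphisms where
  of_iso {X Y} e h := by
    have := h.1
    have := h.2
    exact ⟨Module.Finite.equiv e.toLinearEquiv, Module.Projective.of_equiv e.toLinearEquiv⟩

lemma pf_of_isZero {M : ModuleCat.{u} R} (h : IsZero M) : PF R M := by
  have := ModuleCat.subsingleton_of_isZero h
  exact ⟨inferInstance, inferInstance⟩

instance : (PF R).ContainsZero where
  exists_zero := ⟨0, isZero_zero _, pf_of_isZero R (isZero_zero _)⟩

lemma clSub_isZero {M : ModuleCat.{u} R} (h : IsZero M) : KZero.clSub (PF R) M = 0 := by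
  let S : ShortComplex (ModuleCat.{u} R) := ShortComplex.mk (0 : M ⟶ M) (0 : M ⟶ M) (by simp)
  have s : S.Splitting :=
    { r := 0
      s := 0
      f_r := h.eq_of_src _ _
      s_g := h.eq_of_src _ _
      id := h.eq_of_src _ _ }
  have h1 := clSub_shortExact (PF R) S s.shortExact (pf_of_isZero R h) (pf_of_isZero R h)
    (pf_of_isZero R h)
  change KZero.clSub (PF R) M = KZero.clSub (PF R) M + KZero.clSub (PF R) M at h1
  have h3 : KZero.clSub (PF R) M =
      KZero.clSub (PF R) M + KZero.clSub (PF R) M - KZero.clSub (PF R) M := by abel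
  rw [← h1] at h3
  rw [h3, sub_self]

lemma clSub_iso' {M N : ModuleCat.{u} R} (e : M ≅ N) (hM : PF R M) :
    KZero.clSub (PF R) M = KZero.clSub (PF R) N :=
  clSub_iso (PF R) e hM ((PF R).prop_of_iso e hM) (pf_of_isZero R (isZero_zero _))

lemma pf_biprod {M N : ModuleCat.{u} R} (hM : PF R M) (hN : PF R N) : PF R (M ⊞ N) := by
  have := hM.1
  have := hM.2
  have := hN.1
  have := hN.2
  have h : PF R (ModuleCat.of R (M × N)) := ⟨inferInstance, inferInstance⟩
  exact (PF R).prop_of_iso (ModuleCat.biprodIsoProd M N).symm h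

lemma clSub_biprod {M N : ModuleCat.{u} R} (hM : PF R M) (hN : PF R N) :
    KZero.clSub (PF R) (M ⊞ N) = KZero.clSub (PF R) M + KZero.clSub (PF R) N :=
  clSub_shortExact (PF R) _ (ShortComplex.Splitting.ofHasBinaryBiproduct M N).shortExact hM
    (pf_biprod R hM hN) hN

section finsum

variable {G : Type*} [AddCommGroup G]

lemma finsum_shift (z : ℤ → G) : ∑ᶠ i : ℤ, z (i + 1) = ∑ᶠ i : ℤ, z i :=
  finsum_comp_equiv (Equiv.addRight (1 : ℤ)) (f := z)

lemma finite_support_shift {z : ℤ → G} (h : (Function.support z).Finite) :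
    (Function.support (fun i => z (i + 1))).Finite := by
  have : Function.support (fun i => z (i + 1)) = (Equiv.addRight (1 : ℤ)) ⁻¹' Function.support z := rfl
  rw [this]
  exact h.preimage (Equiv.injective _).injOn

lemma finsum_sub_shift (z : ℤ → G) (h : (Function.support z).Finite) :
    ∑ᶠ i : ℤ, (z i - z (i + 1)) = 0 := by
  rw [finsum_sub_distrib h (finite_support_shift h), finsum_shift, sub_self]

end finsum

section chi

variable {R}

/-- the `i`-th term of the Euler characteristic -/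
noncomputable def tm (E : DRing.Cx R) (i : ℤ) : KZero.K0sub (PF R) :=
  (i.negOnePow : ℤ) • KZero.clSub (PF R) (E.X i)

/-- termwise Euler characteristic -/
noncomputable def chi (E : DRing.Cx R) : KZero.K0sub (PF R) := ∑ᶠ i : ℤ, tm E i

lemma tm_eq_zero {E : DRing.Cx R} {i : ℤ} (h : IsZero (E.X i)) : tm E i = 0 := by
  rw [tm, clSub_isZero R h, smul_zero]

lemma support_tm_subset {E : DRing.Cx R} {a b : ℤ} (h : DRing.VanishesOutside E a b) :
    Function.support (tm E) ⊆ ↑(Finset.Icc a b) := by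
  intro i hi
  rw [Finset.coe_Icc, Set.mem_Icc]
  by_contra hc
  exact hi (tm_eq_zero (h i (by lia)))

lemma support_tm_finite {E : DRing.Cx R} {a b : ℤ} (h : DRing.VanishesOutside E a b) :
    (Function.support (tm E)).Finite :=
  (Finset.Icc a b).finite_toSet.subset (support_tm_subset h)

lemma chi_eq_sum {E : DRing.Cx R} {a b : ℤ} (h : DRing.VanishesOutside E a b) :
    chi E = (Finset.Icc a b).sum (fun i => (i.negOnePow : ℤ) • KZero.clSub (PF R) (E.X i)) :=
  finsum_eq_sum_of_support_subset _ (support_tm_subset h)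

lemma tm_succ_neg (E : DRing.Cx R) (i : ℤ) :
    (i.negOnePow : ℤ) • KZero.clSub (PF R) (E.X (i + 1)) = - tm E (i + 1) := by
  rw [tm, Int.negOnePow_succ, Units.val_neg, neg_smul, neg_neg]

/-- additivity on mapping cones -/
lemma chi_mappingCone {E F : DRing.Cx R} (f : E ⟶ F) (hE : DRing.TermwiseFiniteProjective E)
    (hF : DRing.TermwiseFiniteProjective F) {a b a' b' : ℤ} (vE : DRing.VanishesOutside E a b)
    (vF : DRing.VanishesOutside F a' b') :
    chi (CochainComplex.mappingCone f) = chi F - chi E := by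
  have h1 : ∀ i : ℤ, tm (CochainComplex.mappingCone f) i = tm F i - tm E (i + 1) := by
    intro i
    have e : (CochainComplex.mappingCone f).X i ≅ E.X (i + 1) ⊞ F.X i :=
      HomologicalComplex.homotopyCofiber.XIsoBiprod f i (i + 1) rfl
    have h2 : KZero.clSub (PF R) ((CochainComplex.mappingCone f).X i) =
        KZero.clSub (PF R) (E.X (i + 1)) + KZero.clSub (PF R) (F.X i) := by
      rw [← clSub_biprod R (hE (i + 1)) (hF i)]
      exact (clSub_iso' R e.symm (pf_biprod R (hE (i + 1)) (hF i))).symm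
    rw [tm, h2, smul_add, tm_succ_neg]
    rw [tm]
    abel
  have h3 : (Function.support fun i => tm E (i + 1)).Finite :=
    finite_support_shift (support_tm_finite vE)
  rw [chi, finsum_congr h1, finsum_sub_distrib (support_tm_finite vF) h3,
    finsum_shift (tm E)]
  rfl

lemma pf_cycles {C : DRing.Cx R} (hC : DRing.TermwiseFiniteProjective C) {a b : ℤ}
    (vC : DRing.VanishesOutside C a b) (hex : ∀ i : ℤ, C.ExactAt i) (i : ℤ) : PF R (C.cycles i) :=
  Groth.Agent.Lib.PCohAcyclic.prop_cycles' (PF R)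
    (fun E F u hu hE hF => Groth.Agent.Lib.DRingPerfAmp.fp_kernel R E F u hu hE hF) i b C
    (fun j _ => hC j) (fun j hj => vC j (Or.inr hj)) (fun j _ => hex j) i le_rfl

/-- the Euler characteristic of a bounded acyclic complex of finite projective modules vanishes -/
lemma chi_acyclic {C : DRing.Cx R} (hC : DRing.TermwiseFiniteProjective C) {a b : ℤ}
    (vC : DRing.VanishesOutside C a b) (hex : ∀ i : ℤ, C.ExactAt i) : chi C = 0 := by
  let z : ℤ → KZero.K0sub (PF R) := fun i => (i.negOnePow : ℤ) • KZero.clSub (PF R) (C.cycles i)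
  have hz0 : ∀ i : ℤ, IsZero (C.X i) → z i = 0 := by
    intro i hi
    change (i.negOnePow : ℤ) • KZero.clSub (PF R) (C.cycles i) = 0
    rw [clSub_isZero R (IsZero.of_mono (C.iCycles i) hi), smul_zero]
  have hzf : (Function.support z).Finite := by
    refine (Finset.Icc a b).finite_toSet.subset (fun i hi => ?_)
    rw [Finset.coe_Icc, Set.mem_Icc]
    by_contra hc
    exact hi (hz0 i (vC i (by lia)))
  have h1 : ∀ i : ℤ, tm C i = z i - z (i + 1) := by
    intro i
    let S : ShortComplex (ModuleCat.{u} R) :=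
      ShortComplex.mk (C.iCycles i) (C.toCycles i (i + 1))
        (Groth.Agent.Lib.PCohTrunc.iCycles_toCycles C i (i + 1))
    have hS : S.ShortExact := by
      have : Mono S.f := by dsimp [S]; infer_instance
      have : Epi S.g := Groth.Agent.Lib.PCohTrunc.epi_toCycles_of_exactAt C i (i + 1) rfl (hex _)
      refine ShortComplex.ShortExact.mk (ShortComplex.exact_of_f_is_kernel _ ?_)
      refine IsLimit.ofIsoLimit (kernelIsKernel (C.toCycles i (i + 1)))
        (Fork.ext (Groth.Agent.Lib.PCohTrunc.kernelToCyclesIso C i (i + 1) rfl) ?_)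
      change (Groth.Agent.Lib.PCohTrunc.kernelToCyclesIso C i (i + 1) rfl).hom ≫ C.iCycles i =
        kernel.ι _
      simp [Groth.Agent.Lib.PCohTrunc.kernelToCyclesIso]
    have h2 := clSub_shortExact (PF R) S hS (pf_cycles hC vC hex i) (hC i)
      (pf_cycles hC vC hex (i + 1))
    change KZero.clSub (PF R) (C.X i) =
      KZero.clSub (PF R) (C.cycles i) + KZero.clSub (PF R) (C.cycles (i + 1)) at h2
    change (i.negOnePow : ℤ) • KZero.clSub (PF R) (C.X i) =
      (i.negOnePow : ℤ) • KZero.clSub (PF R) (C.cycles i) -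
        ((i + 1).negOnePow : ℤ) • KZero.clSub (PF R) (C.cycles (i + 1))
    rw [h2, smul_add, Int.negOnePow_succ, Units.val_neg, neg_smul, sub_neg_eq_add]
  rw [chi, finsum_congr h1]
  exact finsum_sub_shift z hzf

lemma isKProjective_of_bfp {E : DRing.Cx R} (hE : DRing.TermwiseFiniteProjective E) {a b : ℤ}
    (vE : DRing.VanishesOutside E a b) : CochainComplex.IsKProjective E := by
  have : E.IsStrictlyLE b := by
    rw [CochainComplex.isStrictlyLE_iff]
    exact fun i hi => vE i (Or.inr hi)
  have : ∀ n : ℤ, Projective (E.X n) := fun n => by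
    have := (hE n).2
    exact ModuleCat.projective_of_categoryTheory_projective (E.X n)
  exact CochainComplex.isKProjective_of_projective E b

lemma tfp_mappingCone {E F : DRing.Cx R} (f : E ⟶ F) (hE : DRing.TermwiseFiniteProjective E)
    (hF : DRing.TermwiseFiniteProjective F) :
    DRing.TermwiseFiniteProjective (CochainComplex.mappingCone f) := fun i =>
  (PF R).prop_of_iso (HomologicalComplex.homotopyCofiber.XIsoBiprod f i (i + 1) rfl).symm
    (pf_biprod R (hE (i + 1)) (hF i))

lemma vanishes_mappingCone {E F : DRing.Cx R} (f : E ⟶ F) {a b a' b' : ℤ}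
    (vE : DRing.VanishesOutside E a b) (vF : DRing.VanishesOutside F a' b') :
    DRing.VanishesOutside (CochainComplex.mappingCone f) (min (a - 1) a') (max (b - 1) b') := by
  intro i hi
  refine IsZero.of_iso ?_ (HomologicalComplex.homotopyCofiber.XIsoBiprod f i (i + 1) rfl)
  rw [biprod_isZero_iff]
  exact ⟨vE _ (by lia), vF _ (by lia)⟩

/-- the Euler characteristic is invariant under quasi-isomorphisms -/
lemma chi_eq_of_quasiIso {E F : DRing.Cx R} (f : E ⟶ F) [QuasiIso f]
    (hE : DRing.TermwiseFiniteProjective E)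
    (hF : DRing.TermwiseFiniteProjective F) {a b a' b' : ℤ} (vE : DRing.VanishesOutside E a b)
    (vF : DRing.VanishesOutside F a' b') : chi E = chi F := by
  have h1 := chi_mappingCone f hE hF vE vF
  have hac : (CochainComplex.mappingCone f).Acyclic :=
    (Groth.Agent.Lib.ConeQuasiIso.quasiIso_iff_acyclic_mappingCone f).1 inferInstance
  rw [chi_acyclic (tfp_mappingCone f hE hF) (vanishes_mappingCone f vE vF) hac] at h1
  exact (sub_eq_zero.1 h1.symm).symm

/-- the Euler characteristic only depends on the image in the derived category -/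
lemma chi_eq_of_iso {E F : DRing.Cx R} (e : DRing.toD E ≅ DRing.toD F)
    (hE : DRing.TermwiseFiniteProjective E)
    (hF : DRing.TermwiseFiniteProjective F) {a b a' b' : ℤ} (vE : DRing.VanishesOutside E a b)
    (vF : DRing.VanishesOutside F a' b') : chi E = chi F := by
  have := isKProjective_of_bfp hE vE
  obtain ⟨g, hg⟩ := Groth.Agent.Lib.DCopower.exists_Q_map_eq E F e.hom
  have : IsIso (Q.map g) := by rw [hg]; infer_instance
  have : QuasiIso g := (DerivedCategory.isIso_Q_map_iff_quasiIso (φ := g)).1 this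
  exact chi_eq_of_quasiIso g hE hF vE vF

end chi

section psi

variable {R}

open Pretriangulated Groth.Agent.Lib.H43K0Tr

/-- the Euler characteristic of a perfect object, via a chosen representative -/
noncomputable def chiD (K : Dual.D R) (h : DRing.IsPerfect R K) : KZero.K0sub (PF R) :=
  chi h.choose

lemma chiD_eq (K : Dual.D R) (h : DRing.IsPerfect R K) (E : DRing.Cx R) {a b : ℤ}
    (vE : DRing.VanishesOutside E a b) (hE : DRing.TermwiseFiniteProjective E)
    (e : DRing.toD E ≅ K) : chiD K h = chi E := by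
  obtain ⟨a', b', v', h', ⟨e'⟩⟩ := h.choose_spec
  exact chi_eq_of_iso (e' ≪≫ e.symm) h' hE v' vE

lemma chiD_triangle (T : Triangle (Dual.D R)) (hT : T ∈ distTriang (Dual.D R))
    (h₁ : DRing.IsPerfect R T.obj₁) (h₂ : DRing.IsPerfect R T.obj₂)
    (h₃ : DRing.IsPerfect R T.obj₃) :
    chiD T.obj₂ h₂ = chiD T.obj₁ h₁ + chiD T.obj₃ h₃ := by
  have h₁' := h₁
  have h₂' := h₂
  obtain ⟨E₁, a₁, b₁, v₁, p₁, ⟨e₁⟩⟩ := h₁'
  obtain ⟨E₂, a₂, b₂, v₂, p₂, ⟨e₂⟩⟩ := h₂'
  have := isKProjective_of_bfp p₁ v₁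
  obtain ⟨g, hg⟩ := Groth.Agent.Lib.DCopower.exists_Q_map_eq E₁ E₂ (e₁.hom ≫ T.mor₁ ≫ e₂.inv)
  have iso := isoTriangleOfIso₁₂ _ T (DerivedCategory.mappingCone_triangle_distinguished g) hT
    e₁ e₂ (by
      change Q.map g ≫ e₂.hom = e₁.hom ≫ T.mor₁
      rw [hg, assoc, assoc, Iso.inv_hom_id, comp_id])
  have e₃ : DRing.toD (CochainComplex.mappingCone g) ≅ T.obj₃ := Triangle.π₃.mapIso iso
  rw [chiD_eq _ h₁ E₁ v₁ p₁ e₁, chiD_eq _ h₂ E₂ v₂ p₂ e₂,
    chiD_eq _ h₃ (CochainComplex.mappingCone g) (vanishes_mappingCone g v₁ v₂)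
      (tfp_mappingCone g p₁ p₂) e₃, chi_mappingCone g p₁ p₂ v₁ v₂]
  abel

lemma relTr_le : KZero.relTr (PerfP R) ≤ (FreeAbelianGroup.lift
    (fun K : Subtype (PerfP R) => chiD K.1 K.2)).ker := by
  rw [KZero.relTr, AddSubgroup.closure_le]
  rintro x ⟨T, h₁, h₂, h₃, hT, rfl⟩
  rw [SetLike.mem_coe, AddMonoidHom.mem_ker, map_sub, map_sub, FreeAbelianGroup.lift_apply_of,
    FreeAbelianGroup.lift_apply_of, FreeAbelianGroup.lift_apply_of]
  dsimp only
  rw [chiD_triangle T hT h₁ h₂ h₃]
  abel

variable (R) in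
/-- The Euler characteristic `K₀(D_perf(R)) → K₀(R)`. -/
noncomputable def psi : KZero.K0tr (PerfP R) →+ KZero.K0sub (PF R) :=
  QuotientAddGroup.lift (KZero.relTr (PerfP R)) _ relTr_le

lemma psi_cl {K : Dual.D R} (hK : DRing.IsPerfect R K) :
    psi R (KZero.clTr (PerfP R) K) = chiD K hK := by
  rw [clTr_of_mem (PerfP R) hK]
  change (FreeAbelianGroup.lift _) (FreeAbelianGroup.of (⟨K, hK⟩ : Subtype (PerfP R))) = _
  rw [FreeAbelianGroup.lift_apply_of]

lemma perf_of_bfp {E : DRing.Cx R} {a b : ℤ} (vE : DRing.VanishesOutside E a b)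
    (hE : DRing.TermwiseFiniteProjective E) : DRing.IsPerfect R (DRing.toD E) :=
  ⟨E, a, b, vE, hE, ⟨Iso.refl _⟩⟩

lemma psi_cl_toD {E : DRing.Cx R} {a b : ℤ} (vE : DRing.VanishesOutside E a b)
    (hE : DRing.TermwiseFiniteProjective E) :
    psi R (KZero.clTr (PerfP R) (DRing.toD E)) = chi E := by
  rw [psi_cl (perf_of_bfp vE hE)]
  exact chiD_eq _ _ E vE hE (Iso.refl _)

end psi

section phi

variable {R}

open Pretriangulated Groth.Agent.Lib.H43K0Tr

lemma perf_single {M : ModuleCat.{u} R} (hM : PF R M) (i : ℤ) :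
    DRing.IsPerfect R ((singleFunctor (ModuleCat.{u} R) i).obj M) :=
  (Groth.Agent.Lib.PerfRestrict21.perf_iff R _).1
    ⟨i, i, Groth.Agent.Lib.PCohAmp.pa_single (P := Groth.Agent.Lib.DRingPCoh21.FP R) M hM i⟩

lemma perf_of_isZero {Z : Dual.D R} (hZ : IsZero Z) : DRing.IsPerfect R Z :=
  (Groth.Agent.Lib.PerfRestrict21.perf_iff R _).1 (Groth.Agent.Lib.PerfRestrict21.perf_of_isZero R hZ)

lemma perf_of_iso {K L : Dual.D R} (e : K ≅ L) (hK : DRing.IsPerfect R K) :
    DRing.IsPerfect R L := by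
  obtain ⟨E, a, b, hab, hE, ⟨i⟩⟩ := hK
  exact ⟨E, a, b, hab, hE, ⟨i ≪≫ e⟩⟩

lemma perf_zero : DRing.IsPerfect R (0 : Dual.D R) := perf_of_isZero (isZero_zero _)

lemma relSub_le : KZero.relSub (PF R) ≤ (FreeAbelianGroup.lift
    (fun M : Subtype (PF R) =>
      KZero.clTr (PerfP R) ((singleFunctor (ModuleCat.{u} R) 0).obj M.1))).ker := by
  rw [KZero.relSub, AddSubgroup.closure_le]
  rintro x ⟨S, h₁, h₂, h₃, hS, rfl⟩
  rw [SetLike.mem_coe, AddMonoidHom.mem_ker, map_sub, map_sub, FreeAbelianGroup.lift_apply_of,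
    FreeAbelianGroup.lift_apply_of, FreeAbelianGroup.lift_apply_of]
  have h : KZero.clTr (PerfP R) ((singleFunctor (ModuleCat.{u} R) 0).obj S.X₂) =
      KZero.clTr (PerfP R) ((singleFunctor (ModuleCat.{u} R) 0).obj S.X₁) +
        KZero.clTr (PerfP R) ((singleFunctor (ModuleCat.{u} R) 0).obj S.X₃) :=
    clTr_triangle (PerfP R) _ hS.singleTriangle_distinguished (perf_single h₁ 0)
      (perf_single h₂ 0) (perf_single h₃ 0)
  dsimp only
  rw [h]
  abel

variable (R) in
/-- The map `K₀(R) → K₀(D_perf(R))`, `[M] ↦ [M[0]]`. -/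
noncomputable def phi : KZero.K0sub (PF R) →+ KZero.K0tr (PerfP R) :=
  QuotientAddGroup.lift (KZero.relSub (PF R)) _ relSub_le

lemma phi_cl {M : ModuleCat.{u} R} (hM : PF R M) :
    phi R (KZero.clSub (PF R) M) =
      KZero.clTr (PerfP R) ((singleFunctor (ModuleCat.{u} R) 0).obj M) := by
  rw [clSub_of_mem (PF R) hM]
  change (FreeAbelianGroup.lift _) (FreeAbelianGroup.of (⟨M, hM⟩ : Subtype (PF R))) = _
  rw [FreeAbelianGroup.lift_apply_of]

lemma chi_single {M : ModuleCat.{u} R} (hM : PF R M) :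
    chi ((HomologicalComplex.single (ModuleCat.{u} R) (ComplexShape.up ℤ) 0).obj M) =
      KZero.clSub (PF R) M := by
  have v : DRing.VanishesOutside
      ((HomologicalComplex.single (ModuleCat.{u} R) (ComplexShape.up ℤ) 0).obj M) 0 0 :=
    fun i hi => HomologicalComplex.isZero_single_obj_X (ComplexShape.up ℤ) 0 M i (by lia)
  rw [chi_eq_sum v, Finset.Icc_self, Finset.sum_singleton, Int.negOnePow_zero, Units.val_one,
    one_smul]
  exact (clSub_iso' R (HomologicalComplex.singleObjXSelf (ComplexShape.up ℤ) 0 M).symm hM).symm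

lemma psi_phi (x : KZero.K0sub (PF R)) : psi R (phi R x) = x := by
  refine K0sub_induction (PF R) (motive := fun x => psi R (phi R x) = x) x ?_ ?_ ?_ ?_
  · simp
  · intro M hM
    rw [phi_cl hM, psi_cl (perf_single hM 0)]
    have v : DRing.VanishesOutside
        ((HomologicalComplex.single (ModuleCat.{u} R) (ComplexShape.up ℤ) 0).obj M) 0 0 :=
      fun i hi => HomologicalComplex.isZero_single_obj_X (ComplexShape.up ℤ) 0 M i (by lia)
    have t : DRing.TermwiseFiniteProjective
        ((HomologicalComplex.single (ModuleCat.{u} R) (ComplexShape.up ℤ) 0).obj M) := by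
      intro i
      by_cases hi : i = 0
      · subst hi
        exact (PF R).prop_of_iso (HomologicalComplex.singleObjXSelf (ComplexShape.up ℤ) 0 M).symm hM
      · exact pf_of_isZero R (HomologicalComplex.isZero_single_obj_X (ComplexShape.up ℤ) 0 M i hi)
    rw [chiD_eq _ _ _ v t ((singleFunctorIsoCompQ (ModuleCat.{u} R) 0).app M).symm, chi_single hM]
  · intro y hy
    rw [map_neg, map_neg, hy]
  · intro y z hy hz
    rw [map_add, map_add, hy, hz]

lemma clTr_single_succ {M : ModuleCat.{u} R} (hM : PF R M) (n : ℤ) :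
    KZero.clTr (PerfP R) ((singleFunctor (ModuleCat.{u} R) n).obj M) =
      - KZero.clTr (PerfP R) ((singleFunctor (ModuleCat.{u} R) (n + 1)).obj M) := by
  have e : ((singleFunctor (ModuleCat.{u} R) (n + 1)).obj M)⟦(1 : ℤ)⟧ ≅
      (singleFunctor (ModuleCat.{u} R) n).obj M :=
    ((singleFunctors (ModuleCat.{u} R)).shiftIso 1 n (n + 1) (by omega)).app M
  have h1 : PerfP R (((singleFunctor (ModuleCat.{u} R) (n + 1)).obj M)⟦(1 : ℤ)⟧) :=
    perf_of_iso e.symm (perf_single hM n)
  rw [← clTr_shift_one (PerfP R) _ (perf_single hM (n + 1)) h1 perf_zero]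
  exact (clTr_iso (PerfP R) e h1 (perf_single hM n) perf_zero).symm

lemma clTr_single_mem_range {M : ModuleCat.{u} R} (hM : PF R M) (n : ℤ) :
    KZero.clTr (PerfP R) ((singleFunctor (ModuleCat.{u} R) n).obj M) ∈ (phi R).range := by
  induction n using Int.induction_on with
  | zero => exact ⟨KZero.clSub (PF R) M, phi_cl hM⟩
  | succ n ih =>
    have h := clTr_single_succ hM (n : ℤ)
    rw [h] at ih
    simpa using (phi R).range.neg_mem ih
  | pred n ih =>
    have h := clTr_single_succ hM (-(n : ℤ) - 1)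
    rw [h]
    have e : (-(n : ℤ) - 1 + 1) = -(n : ℤ) := by ring
    rw [e]
    exact (phi R).range.neg_mem ih

/-- the property used in the dévissage -/
def WW : ObjectProperty (Dual.D R) := fun K =>
  DRing.IsPerfect R K ∧ KZero.clTr (PerfP R) K ∈ (phi R).range

instance : (WW (R := R)).IsClosedUnderIsomorphisms where
  of_iso {K L} e h := by
    have hL := perf_of_iso e h.1
    refine ⟨hL, ?_⟩
    rw [← clTr_iso (PerfP R) e h.1 hL perf_zero]
    exact h.2

lemma ww_toD {E : DRing.Cx R} {a b : ℤ} (vE : DRing.VanishesOutside E a b)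
    (hE : DRing.TermwiseFiniteProjective E) : WW (DRing.toD E) := by
  refine Groth.Agent.Lib.FlatAmp.bounded_termwise_devissage (WW (R := R)) ?_ ?_ E a b vE ?_
  · intro T hT h₁ h₃
    have h₂ : DRing.IsPerfect R T.obj₂ :=
      (Groth.Agent.Lib.PerfRestrict21.perf_iff R _).1
        (Groth.Agent.Lib.PerfRestrict21.perf_ext R T hT
          ((Groth.Agent.Lib.PerfRestrict21.perf_iff R _).2 h₁.1)
          ((Groth.Agent.Lib.PerfRestrict21.perf_iff R _).2 h₃.1))
    refine ⟨h₂, ?_⟩
    rw [clTr_triangle (PerfP R) T hT h₁.1 h₂ h₃.1]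
    exact (phi R).range.add_mem h₁.2 h₃.2
  · intro Z hZ
    refine ⟨perf_of_isZero hZ, ?_⟩
    rw [clTr_iso (PerfP R) (hZ.iso (isZero_zero _)) (perf_of_isZero hZ) perf_zero perf_zero,
      clTr_zero (PerfP R) perf_zero]
    exact (phi R).range.zero_mem
  · rintro i X ⟨e⟩
    have hX : PF R X := (PF R).prop_of_iso e.symm (hE i)
    exact ⟨perf_single hX i, clTr_single_mem_range hX i⟩

lemma phi_surjective : Function.Surjective (phi R) := by
  intro y
  refine K0tr_induction (PerfP R) (motive := fun y => ∃ x, phi R x = y) y ?_ ?_ ?_ ?_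
  · exact ⟨0, map_zero _⟩
  · intro K hK
    have hK' := hK
    obtain ⟨E, a, b, vE, hE, ⟨e⟩⟩ := hK'
    have h := ww_toD vE hE
    rw [← clTr_iso (PerfP R) e h.1 hK perf_zero]
    exact h.2
  · rintro y ⟨x, rfl⟩
    exact ⟨-x, map_neg _ _⟩
  · rintro y z ⟨x, rfl⟩ ⟨x', rfl⟩
    exact ⟨x + x', map_add _ _ _⟩

lemma phi_injective : Function.Injective (phi R) :=
  Function.LeftInverse.injective psi_phi

variable (R) in
/-- `K₀(R) ≃ K₀(D_perf(R))` -/
noncomputable def equiv : KZero.K0sub (PF R) ≃+ KZero.K0tr (PerfP R) :=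
  AddEquiv.ofBijective (phi R) ⟨phi_injective, phi_surjective⟩

lemma equiv_apply (x : KZero.K0sub (PF R)) : equiv R x = phi R x := rfl

lemma equiv_symm_apply (y : KZero.K0tr (PerfP R)) : (equiv R).symm y = psi R y := by
  obtain ⟨x, rfl⟩ := phi_surjective y
  rw [psi_phi]
  exact (equiv R).symm_apply_apply x

end phi

end Groth.Agent.Lib.K0Perf
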