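import Groth.Agent.Lib.TFunFinite
import Groth.Agent.Lib.TFunOpcycles

set_option autoImplicit false
universe u

namespace Groth.Agent.Lib.TFun

open CategoryTheory CategoryTheory.Limits MonoidalCategory CohIII TensorProduct

variable {A : Type u} [CommRing A] {ι : Type} {c : ComplexShape ι}
variable (P : HomologicalComplex (ModuleCat.{u} A) c) (p : ι)

section lift

variable {P p}

theorem cls_sub {M : ModuleCat.{u} A} (z z' : P.X p ⊗[A] M)
    (hz : LinearMap.rTensor M (P.d p (c.next p)).hom z = 0)
    (hz' : LinearMap.rTensor M (P.d p (c.next p)).hom z' = 0) :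
    cls (z - z') (by rw [map_sub, hz, hz', sub_zero]) = cls z hz - cls z' hz' :=
  map_sub (toT P p M) ⟨z, LinearMap.mem_ker.mpr hz⟩ ⟨z', LinearMap.mem_ker.mpr hz'⟩

theorem rTensor_d_comp_d (M : Type u) [AddCommGroup M] [Module A M] (i j k : ι)
    (w : P.X i ⊗[A] M) :
    LinearMap.rTensor M (P.d j k).hom (LinearMap.rTensor M (P.d i j).hom w) = 0 := by
  rw [← LinearMap.comp_apply, ← LinearMap.rTensor_comp, ← ModuleCat.hom_comp, P.d_comp_d]
  simp

/-- If `g : M ⟶ N` is surjective and `T_p(g)` is surjective, cycles of `P ⊗ N` lift to cycles of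
`P ⊗ M`. -/
theorem exists_cycle_lift {M N : ModuleCat.{u} A} (g : M ⟶ N) (hg : Function.Surjective g.hom)
    (hsurj : Function.Surjective ((TFun P p).map g).hom)
    (y : P.X p ⊗[A] N) (hy : LinearMap.rTensor N (P.d p (c.next p)).hom y = 0) :
    ∃ z : P.X p ⊗[A] M, LinearMap.rTensor M (P.d p (c.next p)).hom z = 0 ∧
      LinearMap.lTensor (P.X p) g.hom z = y := by
  obtain ⟨t, ht⟩ := hsurj (cls y hy)
  obtain ⟨z', hz', rfl⟩ := exists_cls t
  rw [map_cls] at ht
  have h0 : cls (y - LinearMap.lTensor (P.X p) g.hom z')
      (by rw [map_sub, hy, lTensor_cycle g z' hz', sub_zero]) = 0 := by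
    rw [cls_sub y _ hy (lTensor_cycle g z' hz'), ht, sub_self]
  obtain ⟨w, hw⟩ := (cls_eq_zero_iff _ _).mp h0
  obtain ⟨w', rfl⟩ := LinearMap.lTensor_surjective (P.X (c.prev p)) hg w
  refine ⟨z' + LinearMap.rTensor M (P.d (c.prev p) p).hom w', ?_, ?_⟩
  · rw [map_add, hz', zero_add, rTensor_d_comp_d]
  · rw [map_add, ← rTensor_lTensor_apply, hw]
    abel

end lift

section loc

open IsLocalRing

variable [IsLocalRing A]

/-- Key local criterion: if `T_i(A) → T_i(k)` is surjective, then the cokernel of
`d : P_i → P_{next i}` is free (for `P_i` finite and `P_{next i}` finite free). -/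
theorem free_quot_range_of_surjective (i : ι)
    [Module.Finite A (P.X i)] [Module.Finite A (P.X (c.next i))] [Module.Free A (P.X (c.next i))]
    (hsurj : Function.Surjective ((TFun P i).map
      (ModuleCat.ofHom (Algebra.linearMap A (ResidueField A)))).hom) :
    Module.Free A (P.X (c.next i) ⧸ LinearMap.range (P.d i (c.next i)).hom) := by
  let k := ResidueField A
  let d := (P.d i (c.next i)).hom
  refine Module.free_of_lTensor_residueField_injective (LinearMap.range d).subtype
    (LinearMap.range d).mkQ (Submodule.mkQ_surjective _) (LinearMap.exact_subtype_mkQ _) ?_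
  rw [LinearMap.lTensor_inj_iff_rTensor_inj, injective_iff_map_eq_zero]
  intro x hx
  obtain ⟨y, rfl⟩ := LinearMap.rTensor_surjective k (LinearMap.surjective_rangeRestrict d) x
  have hy : LinearMap.rTensor k d y = 0 := by
    rw [← LinearMap.comp_apply, ← LinearMap.rTensor_comp] at hx
    exact hx
  obtain ⟨z, hz, rfl⟩ := exists_cycle_lift
    (ModuleCat.ofHom (Algebra.linearMap A (ResidueField A))) residue_surjective hsurj y hy
  rw [rTensor_lTensor_apply]
  have h0 : LinearMap.rTensor (ModuleCat.of A A) d.rangeRestrict z = 0 := by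
    have hinj : Function.Injective
        (LinearMap.rTensor (ModuleCat.of A A) (LinearMap.range d).subtype) :=
      Module.Flat.rTensor_preserves_injective_linearMap _ (Submodule.subtype_injective _)
    apply hinj
    rw [map_zero, ← LinearMap.comp_apply, ← LinearMap.rTensor_comp]
    exact hz
  rw [h0, map_zero]

/-- Same with the concrete opcycles `Copc P j`, for `c.Rel i j`. -/
theorem free_Copc_of_surjective (i j : ι) (hij : c.Rel i j)
    (hfi : Module.Finite A (P.X i)) (hfj : Module.Finite A (P.X j)) (hfree : Module.Free A (P.X j))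
    (hsurj : Function.Surjective ((TFun P i).map
      (ModuleCat.ofHom (Algebra.linearMap A (ResidueField A)))).hom) :
    Module.Free A (Copc P j) := by
  unfold Copc
  rw [c.prev_eq' hij]
  obtain rfl := c.next_eq' hij
  exact free_quot_range_of_surjective P i hsurj

/-- `T_i` preserves epimorphisms as soon as `T_i(A) → T_i(k)` is surjective. -/
theorem preservesEpi_of_surjective_residue (hP : ∀ i, Module.Flat A (P.X i)) (i j : ι)
    (hij : c.Rel i j) (hfi : Module.Finite A (P.X i)) (hfj : Module.Finite A (P.X j))
    (hsurj : Function.Surjective ((TFun P i).map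
      (ModuleCat.ofHom (Algebra.linearMap A (ResidueField A)))).hom) :
    (TFun P i).PreservesEpimorphisms := by
  have hflat : Module.Flat A (P.X j) := hP j
  have hfree : Module.Free A (P.X j) := Module.free_of_flat_of_isLocalRing
  have h1 : Module.Free A (Copc P j) := free_Copc_of_surjective P i j hij hfi hfj hfree hsurj
  have h2 : Module.Flat A (Copc P j) := inferInstance
  exact (preservesEpi_iff_preservesMono P hP i j hij).mpr (preservesMono_of_flat_Copc P j h2)

/-- The converse: if `T_i` preserves epimorphisms then `T_i(A) → T_i(k)` is surjective. -/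
theorem surjective_residue_of_preservesEpi (i : ι) (h : (TFun P i).PreservesEpimorphisms) :
    Function.Surjective ((TFun P i).map
      (ModuleCat.ofHom (Algebra.linearMap A (ResidueField A)))).hom := by
  have hepi : Epi (ModuleCat.ofHom (Algebra.linearMap A (ResidueField A))) :=
    (ModuleCat.epi_iff_surjective _).mpr residue_surjective
  exact (ModuleCat.epi_iff_surjective _).mp ((TFun P i).map_epi _)

theorem preservesEpi_iff_surjective_residue (hP : ∀ i, Module.Flat A (P.X i)) (i j : ι)
    (hij : c.Rel i j) (hfi : Module.Finite A (P.X i)) (hfj : Module.Finite A (P.X j)) :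
    (TFun P i).PreservesEpimorphisms ↔ Function.Surjective ((TFun P i).map
      (ModuleCat.ofHom (Algebra.linearMap A (ResidueField A)))).hom :=
  ⟨surjective_residue_of_preservesEpi P i,
    preservesEpi_of_surjective_residue P hP i j hij hfi hfj⟩

end loc

end Groth.Agent.Lib.TFun
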