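import Groth.Agent.Lib.MumfordCx21
import Groth.Agent.Lib.TFunAcyclic
import Groth.Agent.Lib.ConeQuasiIso
import Groth.Agent.Lib.TFun
import Mathlib.Algebra.Homology.Embedding.ExtendHomology
import Mathlib.Algebra.Homology.Additive
import Mathlib.CategoryTheory.Limits.Preserves.Shapes.Zero

/-!
# Mumford's finite free model for complexes unbounded above, and for `ℕ`-indexed (Čech) complexes (helper21)

K2c algebra: the (non-alternating) Čech complex of a finite affine cover is a cochain complex in degrees `≥ 0` which is
NOT bounded above, but `H^p(C ⊗ M) = 0` universally for `p > n`.  This file removes the boundedness hypothesis of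
`Groth.Agent.Lib.MumfordCx21.exists_finite_free_model`.

* `isZero_TFun_obj_of_acyclic_of_high`: descending induction for `T_i(M) = H^i(P ⊗ M)` (no boundedness).
* `quasiIso_tensor_of_vanishing`: a quasi-isomorphism `f : L ⟶ C` of complexes of flat modules (`L` bounded above,
  `T_p(C) = 0` for `p > n`) is a universal quasi-isomorphism.
* `exists_finite_free_model_of_vanishing` (`ℤ`-indexed `C`).
* `mapExtendIso`, `mapExtendIso_naturality`: additive functors commute with `HomologicalComplex.extend`.
* `TFunExtendIso e C hp : CohIII.TFun (C.extend e) p' ≅ CohIII.TFun C p` (for `e.f p = p'`), `isZero_TFun_extend_obj`.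
* `exists_finite_free_model_nat`: **the K2c statement**: for `C : CochainComplex (ModuleCat A) ℕ` with flat terms,
  finite cohomology, `A` Noetherian and `T_p(C) = 0` for `p > n`, there is `L : CochainComplex (ModuleCat A) ℤ` of finite
  free modules, bounded above, with `CohIII.TFun L (p : ℤ) ≅ CohIII.TFun C p` for all `p : ℕ` and `T_p(L) = 0` for `p < 0`.
-/

set_option autoImplicit false
universe u
open CategoryTheory CategoryTheory.Limits MonoidalCategory

namespace Groth.Agent.Lib.MumfordTrunc21

open CohIII Groth.Agent.Lib.TFun Groth.Agent.Lib.TFunUnit Groth.Agent.Lib.TFunAcyclic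

section PA

variable {A : Type u} [CommRing A]

/-- Descending induction: a complex of flat modules which is acyclic in degrees `> d` and whose `T_i` vanish
identically for `i ≥ k₀` has `T_i = 0` for all `i > d` (no boundedness assumption). -/
theorem isZero_TFun_obj_of_acyclic_of_high (P : CochainComplex (ModuleCat.{u} A) ℤ)
    (hP : ∀ i, Module.Flat A (P.X i)) (k₀ : ℤ)
    (hhigh : ∀ i, k₀ ≤ i → ∀ M : ModuleCat.{u} A, IsZero ((TFun P i).obj M)) (d : ℤ)
    (hac : ∀ p, d < p → IsZero (P.homology p)) :
    ∀ i, d < i → ∀ M : ModuleCat.{u} A, IsZero ((TFun P i).obj M) := by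
  have key : ∀ n : ℕ, ∀ i : ℤ, k₀ - n ≤ i → d < i → ∀ M : ModuleCat.{u} A,
      IsZero ((TFun P i).obj M) := by
    intro n
    induction n with
    | zero =>
      intro i hi _ M
      exact hhigh i (by simpa using hi) M
    | succ n ih =>
      intro i hi hdi M
      have hnext : ∀ M, IsZero ((TFun P (i + 1)).obj M) :=
        ih (i + 1) (by push_cast at hi; omega) (by omega)
      have hm : (TFun P (i + 1)).PreservesMonomorphisms :=
        Groth.Agent.Lib.TFun.preservesMono_of_isZero_obj _ hnext
      have he : (TFun P i).PreservesEpimorphisms :=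
        (preservesEpi_iff_preservesMono P hP i (i + 1) (up_rel i)).mpr hm
      exact isZero_TFun_obj_of_preservesEpi_of_isZero_homology P hP i he (hac i hdi) M
  intro i hi M
  exact key ((k₀ - i).toNat) i (by omega) hi M

end PA

section Cone

variable {C : Type*} [Category C] [Preadditive C] [HasBinaryBiproducts C]

/-- `inr : G ⟶ cone(φ)` is an isomorphism in the degrees `p` where `F^{p+1} = 0`. -/
theorem isIso_inr_f {F G : CochainComplex C ℤ} (φ : F ⟶ G) (p : ℤ) (h : IsZero (F.X (p + 1))) :
    IsIso ((CochainComplex.mappingCone.inr φ).f p) := by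
  refine ⟨(CochainComplex.mappingCone.snd φ).v p p (add_zero p),
    CochainComplex.mappingCone.inr_f_snd_v φ p, ?_⟩
  have h1 := CochainComplex.mappingCone.id_X φ p (p + 1) rfl
  rw [h.eq_of_tgt ((CochainComplex.mappingCone.fst φ).1.v p (p + 1) rfl) 0, zero_comp, zero_add] at h1
  exact h1

end Cone

section HomologyIso

variable {C : Type*} [Category C] [Abelian C]

/-- A morphism of complexes which is an isomorphism in degrees `i - 1`, `i`, `i + 1` induces an isomorphism
on `H^i`. -/
theorem isIso_homologyMap_of_isIso_f {K K' : CochainComplex C ℤ} (φ : K ⟶ K') (i : ℤ)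
    (h₁ : IsIso (φ.f (i - 1))) (h₂ : IsIso (φ.f i)) (h₃ : IsIso (φ.f (i + 1))) :
    IsIso (HomologicalComplex.homologyMap φ i) := by
  have e₁ : (ComplexShape.up ℤ).prev i = i - 1 := by simp
  have e₃ : (ComplexShape.up ℤ).next i = i + 1 := by simp
  have : IsIso ((HomologicalComplex.shortComplexFunctor C (ComplexShape.up ℤ) i).map φ) := by
    rw [ShortComplex.isIso_iff]
    refine ⟨?_, h₂, ?_⟩
    · change IsIso (φ.f ((ComplexShape.up ℤ).prev i))
      rw [e₁]
      exact h₁
    · change IsIso (φ.f ((ComplexShape.up ℤ).next i))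
      rw [e₃]
      exact h₃
  change IsIso (ShortComplex.homologyMap
    ((HomologicalComplex.shortComplexFunctor C (ComplexShape.up ℤ) i).map φ))
  infer_instance

end HomologyIso

section MainInt

attribute [local instance] HasDerivedCategory.standard

variable (A : Type u) [CommRing A]

/-- Universal quasi-isomorphism criterion without boundedness of the target: let `f : L ⟶ C` be a
quasi-isomorphism of complexes of flat modules, `L` bounded above, and suppose `H^p(C ⊗ M) = 0` for all `M`
and `p > n`.  Then `f ⊗ M` is a quasi-isomorphism for every `M`. -/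
theorem quasiIso_tensor_of_vanishing {L C : CochainComplex (ModuleCat.{u} A) ℤ} (f : L ⟶ C) [QuasiIso f]
    (hL : ∀ i, Module.Flat A (L.X i)) (hC : ∀ i, Module.Flat A (C.X i))
    (b' : ℤ) (hb' : ∀ i, b' < i → IsZero (L.X i)) (n : ℤ)
    (hvan : ∀ (M : ModuleCat.{u} A) (p : ℤ), n < p → IsZero ((TFun C p).obj M))
    (M : ModuleCat.{u} A) :
    QuasiIso (((tensorRight M).mapHomologicalComplex (ComplexShape.up ℤ)).map f) := by
  rw [Groth.Agent.Lib.ConeQuasiIso.quasiIso_iff_acyclic_mappingCone]
  have hac : (CochainComplex.mappingCone f).Acyclic :=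
    (Groth.Agent.Lib.ConeQuasiIso.quasiIso_iff_acyclic_mappingCone f).1 inferInstance
  have hW := Groth.Agent.Lib.ConeQuasiIso.flat_mappingCone_X f hL hC
  -- vanishing of `T_i(cone f)` in high degrees, by comparison with `C`
  have hhigh : ∀ i, max n b' + 1 ≤ i → ∀ N : ModuleCat.{u} A,
      IsZero ((TFun (CochainComplex.mappingCone f) i).obj N) := by
    intro i hi N
    have hiso : ∀ j, b' ≤ j → IsIso ((((tensorRight N).mapHomologicalComplex (ComplexShape.up ℤ)).map
        (CochainComplex.mappingCone.inr f)).f j) := by
      intro j hj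
      have := isIso_inr_f f j (hb' (j + 1) (by lia))
      change IsIso ((tensorRight N).map ((CochainComplex.mappingCone.inr f).f j))
      infer_instance
    have h1 := isIso_homologyMap_of_isIso_f
      (((tensorRight N).mapHomologicalComplex (ComplexShape.up ℤ)).map
        (CochainComplex.mappingCone.inr f)) i (hiso _ (by lia)) (hiso _ (by lia)) (hiso _ (by lia))
    exact (hvan N i (by lia)).of_iso (@asIso _ _ _ _ _ h1).symm
  have hall : ∀ i, ∀ N : ModuleCat.{u} A, IsZero ((TFun (CochainComplex.mappingCone f) i).obj N) :=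
    fun i N => isZero_TFun_obj_of_acyclic_of_high (CochainComplex.mappingCone f) hW (max n b' + 1) hhigh
      (i - 1) (fun p _ => (HomologicalComplex.exactAt_iff_isZero_homology _ _).1 (hac p)) i (by lia) N
  intro i
  refine HomologicalComplex.ExactAt.of_iso ?_
    (CochainComplex.mappingCone.mapHomologicalComplexIso f (tensorRight M))
  rw [HomologicalComplex.exactAt_iff_isZero_homology]
  exact hall i M

/-- **Mumford's lemma without upper bound**: over a Noetherian ring, a complex `C` of flat modules with finite
cohomology modules such that `H^p(C ⊗ M) = 0` for all `M` and all `p > n` admits a quasi-isomorphism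
`f : L ⟶ C` from a bounded above complex of finite free modules with `f ⊗ M` a quasi-isomorphism for all `M`. -/
theorem exists_finite_free_model_of_vanishing [IsNoetherianRing A]
    (C : CochainComplex (ModuleCat.{u} A) ℤ) (hfl : ∀ i, Module.Flat A (C.X i))
    (hfin : ∀ i, Module.Finite A (C.homology i)) (n : ℤ)
    (hvan : ∀ (M : ModuleCat.{u} A) (p : ℤ), n < p → IsZero ((TFun C p).obj M)) :
    ∃ (L : CochainComplex (ModuleCat.{u} A) ℤ) (f : L ⟶ C),
      (∀ i, Module.Finite A (L.X i) ∧ Module.Free A (L.X i)) ∧
      (∃ b' : ℤ, ∀ i, b' < i → IsZero (L.X i)) ∧ QuasiIso f ∧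
      ∀ M : ModuleCat.{u} A,
        QuasiIso (((tensorRight M).mapHomologicalComplex (ComplexShape.up ℤ)).map f) := by
  have hR : ∀ I : Ideal A, I.FG → Module.FinitePresentation A I := fun I _ =>
    Module.finitePresentation_of_finite A I
  have hbK : ∃ b : ℤ, ∀ i : ℤ, b < i → Subsingleton (Dual.HD A (DerivedCategory.Q.obj C) i) := by
    refine ⟨n, fun i hi => ?_⟩
    have h0 : IsZero (C.homology i) := (hvan (ModuleCat.of A A) i hi).of_iso (TUnitIso C i).symm
    exact ModuleCat.subsingleton_of_isZero
      (h0.of_iso ((DerivedCategory.homologyFunctorFactors (ModuleCat.{u} A) i).app C))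
  have hfp : ∀ i : ℤ, Module.FinitePresentation A (Dual.HD A (DerivedCategory.Q.obj C) i) := by
    intro i
    have e := ((DerivedCategory.homologyFunctorFactors (ModuleCat.{u} A) i).app C).toLinearEquiv
    have h0 : Module.Finite A
        ((HomologicalComplex.homologyFunctor (ModuleCat.{u} A) (ComplexShape.up ℤ) i).obj C) := hfin i
    have : Module.Finite A (Dual.HD A (DerivedCategory.Q.obj C) i) := Module.Finite.equiv e.symm
    exact Module.finitePresentation_of_finite A _
  obtain ⟨L, b', hb', hL, ⟨e⟩⟩ :=
    (Groth.Agent.Lib.DRingPCoh21.isPseudoCoherent'_iff_of_coherent A hR _ hbK).2 hfp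
  have h1 : L.IsStrictlyLE b' := by
    rw [CochainComplex.isStrictlyLE_iff]
    exact hb'
  have h2 : ∀ i, Projective (L.X i) := fun i => by
    have := (hL i).1
    have := (hL i).2
    exact ModuleCat.projective_of_categoryTheory_projective _
  have := CochainComplex.isKProjective_of_projective L b'
  obtain ⟨f, hf, -⟩ := Groth.Agent.Lib.MumfordCx21.exists_lift_of_iso L C e
  refine ⟨L, f, hL, ⟨b', hb'⟩, hf, fun M => ?_⟩
  exact quasiIso_tensor_of_vanishing A f (fun i => by
      have := (hL i).1
      have := (hL i).2
      infer_instance) hfl b' hb' n hvan M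

end MainInt

section Extend

variable {C D : Type*} [Category C] [Category D] [Preadditive C] [Preadditive D]
  [HasZeroObject C] [HasZeroObject D]
  {ι ι' : Type*} {c : ComplexShape ι} {c' : ComplexShape ι'} (e : c.Embedding c')

/-- componentwise: `G (extend.X K o) ≅ extend.X (G K) o` -/
noncomputable def extendXMapIso (G : C ⥤ D) [G.Additive] (K : HomologicalComplex C c) :
    ∀ o : Option ι, G.obj (HomologicalComplex.extend.X K o) ≅
      HomologicalComplex.extend.X ((G.mapHomologicalComplex c).obj K) o
  | some _ => Iso.refl _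
  | none => G.mapZeroObject

lemma extendXMapIso_comm (G : C ⥤ D) [G.Additive] (K : HomologicalComplex C c) :
    ∀ o o' : Option ι, G.map (HomologicalComplex.extend.d K o o') ≫ (extendXMapIso G K o').hom =
      (extendXMapIso G K o).hom ≫ HomologicalComplex.extend.d ((G.mapHomologicalComplex c).obj K) o o'
  | none, _ => by
    rw [HomologicalComplex.extend.d_none_eq_zero _ _ _ rfl,
      HomologicalComplex.extend.d_none_eq_zero _ _ _ rfl, G.map_zero, zero_comp, comp_zero]
  | some i, some j => by
    change G.map (K.d i j) ≫ 𝟙 _ = 𝟙 _ ≫ G.map (K.d i j)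
    rw [Category.comp_id, Category.id_comp]
  | some _, none => by
    rw [HomologicalComplex.extend.d_none_eq_zero' _ _ _ rfl,
      HomologicalComplex.extend.d_none_eq_zero' _ _ _ rfl, G.map_zero, zero_comp, comp_zero]

/-- An additive functor commutes with the extension of complexes along an embedding of complex shapes. -/
noncomputable def mapExtendIso (G : C ⥤ D) [G.Additive] (K : HomologicalComplex C c) :
    (G.mapHomologicalComplex c').obj (K.extend e) ≅ ((G.mapHomologicalComplex c).obj K).extend e :=
  HomologicalComplex.Hom.isoOfComponents (fun i' => extendXMapIso G K (e.r i'))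
    (fun i' j' _ => (extendXMapIso_comm G K (e.r i') (e.r j')).symm)

lemma mapExtendIso_hom_f (G : C ⥤ D) [G.Additive] (K : HomologicalComplex C c) (i' : ι') :
    (mapExtendIso e G K).hom.f i' = (extendXMapIso G K (e.r i')).hom := rfl

lemma extendXMapIso_naturality {G G' : C ⥤ D} [G.Additive] [G'.Additive] (α : G ⟶ G')
    (K : HomologicalComplex C c) : ∀ o : Option ι,
    α.app (HomologicalComplex.extend.X K o) ≫ (extendXMapIso G' K o).hom =
      (extendXMapIso G K o).hom ≫
        HomologicalComplex.extend.mapX ((NatTrans.mapHomologicalComplex α c).app K) o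
  | some i => by
    change α.app (K.X i) ≫ 𝟙 _ = 𝟙 _ ≫ α.app (K.X i)
    rw [Category.comp_id, Category.id_comp]
  | none => (HomologicalComplex.extend.isZero_X _ rfl).eq_of_tgt _ _

/-- naturality of `mapExtendIso` in the functor -/
lemma mapExtendIso_naturality {G G' : C ⥤ D} [G.Additive] [G'.Additive] (α : G ⟶ G')
    (K : HomologicalComplex C c) :
    (NatTrans.mapHomologicalComplex α c').app (K.extend e) ≫ (mapExtendIso e G' K).hom =
      (mapExtendIso e G K).hom ≫
        HomologicalComplex.extendMap ((NatTrans.mapHomologicalComplex α c).app K) e := by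
  ext i'
  exact extendXMapIso_naturality α K (e.r i')

end Extend

section TFunExtend

open MonoidalCategory CohIII

variable {A : Type u} [CommRing A] {ι ι' : Type} {c : ComplexShape ι} {c' : ComplexShape ι'}
  (e : c.Embedding c') (C : HomologicalComplex (ModuleCat.{u} A) c)

/-- `H^{e p}((C.extend e) ⊗ M) ≅ H^p(C ⊗ M)`. -/
noncomputable def TFunExtendIsoApp {p : ι} {p' : ι'} (hp : e.f p = p') (M : ModuleCat.{u} A) :
    (TFun (C.extend e) p').obj M ≅ (TFun C p).obj M :=
  (HomologicalComplex.homologyFunctor _ c' p').mapIso (mapExtendIso e (tensorRight M) C) ≪≫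
    HomologicalComplex.extendHomologyIso (((tensorRight M).mapHomologicalComplex c).obj C) e hp

lemma TFunExtendIsoApp_hom {p : ι} {p' : ι'} (hp : e.f p = p') (M : ModuleCat.{u} A) :
    (TFunExtendIsoApp e C hp M).hom =
      HomologicalComplex.homologyMap (mapExtendIso e (tensorRight M) C).hom p' ≫
        (HomologicalComplex.extendHomologyIso
          (((tensorRight M).mapHomologicalComplex c).obj C) e hp).hom := rfl

/-- `H^{e p}((C.extend e) ⊗ M) ≅ H^p(C ⊗ M)`, naturally in `M`. -/
noncomputable def TFunExtendIso {p : ι} {p' : ι'} (hp : e.f p = p') :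
    TFun (C.extend e) p' ≅ TFun C p :=
  NatIso.ofComponents (fun M => TFunExtendIsoApp e C hp M)
    (by
      intro M N g
      rw [Groth.Agent.Lib.TFun.TFun_map, Groth.Agent.Lib.TFun.TFun_map, TFunExtendIsoApp_hom,
        TFunExtendIsoApp_hom]
      change HomologicalComplex.homologyMap
          ((NatTrans.mapHomologicalComplex ((tensoringRight (ModuleCat.{u} A)).map g) c').app
            (C.extend e)) p' ≫ _ = _ ≫ HomologicalComplex.homologyMap
          ((NatTrans.mapHomologicalComplex ((tensoringRight (ModuleCat.{u} A)).map g) c).app C) p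
      rw [← Category.assoc, ← HomologicalComplex.homologyMap_comp,
        mapExtendIso_naturality e ((tensoringRight (ModuleCat.{u} A)).map g) C,
        HomologicalComplex.homologyMap_comp, Category.assoc, Category.assoc,
        HomologicalComplex.extendHomologyIso_hom_naturality])

/-- `H^{p'}((C.extend e) ⊗ M) = 0` for `p'` outside the image of the embedding. -/
theorem isZero_TFun_extend_obj (p' : ι') (hp' : ∀ i, e.f i ≠ p') (M : ModuleCat.{u} A) :
    IsZero ((TFun (C.extend e) p').obj M) := by
  refine ShortComplex.isZero_homology_of_isZero_X₂ _ ?_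
  exact (tensorRight M).map_isZero (HomologicalComplex.isZero_extend_X C e p' hp')

end TFunExtend

section MainNat

attribute [local instance] HasDerivedCategory.standard

variable (A : Type u) [CommRing A]

/-- **K2c algebra**: finite free model of an `ℕ`-indexed complex of flat modules with finite cohomology and
universally vanishing cohomology in degrees `> n` (e.g. the full Čech complex of a finite affine cover). -/
theorem exists_finite_free_model_nat [IsNoetherianRing A] (C : CochainComplex (ModuleCat.{u} A) ℕ)
    (hfl : ∀ i, Module.Flat A (C.X i)) (hfin : ∀ i, Module.Finite A (C.homology i)) (n : ℕ)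
    (hvan : ∀ (M : ModuleCat.{u} A) (p : ℕ), n < p → IsZero ((TFun C p).obj M)) :
    ∃ L : CochainComplex (ModuleCat.{u} A) ℤ,
      (∀ i, Module.Finite A (L.X i) ∧ Module.Free A (L.X i)) ∧
      (∃ b : ℤ, ∀ i, b < i → IsZero (L.X i)) ∧
      (∀ p : ℕ, Nonempty (TFun L (p : ℤ) ≅ TFun C p)) ∧
      ∀ p : ℤ, p < 0 → ∀ M : ModuleCat.{u} A, IsZero ((TFun L p).obj M) := by
  let e := ComplexShape.embeddingUpNat
  have hef : ∀ p : ℕ, e.f p = (p : ℤ) := fun p => rfl
  have hneg : ∀ i : ℤ, i < 0 → ∀ j, e.f j ≠ i := by
    intro i hi j hj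
    rw [hef] at hj
    lia
  have hfl' : ∀ i : ℤ, Module.Flat A ((C.extend e).X i) := by
    intro i
    by_cases hi : 0 ≤ i
    · obtain ⟨k, rfl⟩ := Int.eq_ofNat_of_zero_le hi
      have := hfl k
      exact Module.Flat.of_linearEquiv (C.extendXIso e (hef k)).toLinearEquiv
    · have : Subsingleton ((C.extend e).X i) :=
        ModuleCat.subsingleton_of_isZero (C.isZero_extend_X e i (hneg i (by lia)))
      infer_instance
  have hfin' : ∀ i : ℤ, Module.Finite A ((C.extend e).homology i) := by
    intro i
    by_cases hi : 0 ≤ i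
    · obtain ⟨k, rfl⟩ := Int.eq_ofNat_of_zero_le hi
      have := hfin k
      exact Module.Finite.equiv (C.extendHomologyIso e (hef k)).toLinearEquiv.symm
    · have h0 : IsZero ((C.extend e).homology i) :=
        ShortComplex.isZero_homology_of_isZero_X₂ _ (C.isZero_extend_X e i (hneg i (by lia)))
      have : Subsingleton ((C.extend e).homology i) := ModuleCat.subsingleton_of_isZero h0
      infer_instance
  have hvan' : ∀ (M : ModuleCat.{u} A) (p : ℤ), (n : ℤ) < p → IsZero ((TFun (C.extend e) p).obj M) := by
    intro M p hp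
    obtain ⟨k, rfl⟩ := Int.eq_ofNat_of_zero_le (show 0 ≤ p by lia)
    exact (hvan M k (by exact_mod_cast hp)).of_iso ((TFunExtendIso e C (hef k)).app M)
  obtain ⟨L, f, h1, h2, -, h4⟩ :=
    exists_finite_free_model_of_vanishing A (C.extend e) hfl' hfin' n hvan'
  refine ⟨L, h1, h2, fun p => ⟨Groth.Agent.Lib.MumfordCx21.TFunIso f h4 p ≪≫ TFunExtendIso e C (hef p)⟩,
    fun p hp M => ?_⟩
  exact (isZero_TFun_extend_obj e C p (hneg p hp) M).of_iso
    ((Groth.Agent.Lib.MumfordCx21.TFunIso f h4 p).app M)

end MainNat

end Groth.Agent.Lib.MumfordTrunc21
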