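import Groth.Agent.Lib.TensorAModel2H44
import Groth.Agent.Lib.MumfordTrunc21
import Groth.Agent.Lib.H90ProperFin

/-!
# Mumford's complex for a coherent sheaf flat over the base, with functoriality (helper44, K2c core)

`exists_model`: for `X` proper over a Noetherian ring `A` and `F` coherent and flat over `A` there is a
bounded-above complex `L` of finite free `A`-modules with isomorphisms `H^p(X, F ⊗_A W) ≃ H^p(L ⊗_A W)`
compatible with all endomorphisms of `W` (`EndEquiv`; applied to `W = M × N` this gives naturality for any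
given morphism `M ⟶ N`).
-/

set_option autoImplicit false
universe u

open CategoryTheory CategoryTheory.Limits AlgebraicGeometry Opposite MonoidalCategory CohIII

namespace Groth.Agent.Lib.TensorAModel3H44

open Groth.Agent.Lib.TensorACechH44 Groth.Agent.Lib.EndEquivH44 Groth.Agent.Lib.TensorAModelH44
  Groth.Agent.Lib.TensorAModel2H44

theorem isAffineOpen_biInf {X S : Scheme.{u}} (f : X ⟶ S) [IsSeparated f] [IsAffine S] {ι : Type u}
    (V : ι → X.Opens) (hV : ∀ i, IsAffineOpen (V i)) (s : Finset ι) (hs : s.Nonempty) :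
    IsAffineOpen (⨅ i ∈ s, V i) := by
  classical
  have hd : ∀ V W : X.Opens, IsAffineOpen V → IsAffineOpen W → IsAffineOpen (V ⊓ W) :=
    fun V W hV hW => (isAffineHom_diagonal_iff (f := f)).mp inferInstance ⊤ (isAffineOpen_top S)
      V (by simp) W (by simp) hV hW
  induction hs using Finset.Nonempty.cons_induction with
  | singleton a => simpa using hV a
  | cons a s ha hs ih =>
    rw [Finset.cons_eq_insert, Finset.iInf_insert]
    exact hd _ _ (hV a) ih

attribute [local instance] HasDerivedCategory.standard in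
/-- **Mumford's complex, with functoriality.** -/
theorem exists_model (A : Type u) [CommRing A] [IsNoetherianRing A] (X : Scheme.{u})
    [X.Over (Spec (CommRingCat.of A))] [IsProper (X ↘ Spec (CommRingCat.of A))] (F : X.Modules)
    (hF : Coh.IsCoh F) (hfl : FlatMod.IsFlatOver (X ↘ Spec (CommRingCat.of A)) F) :
    ∃ L : CochainComplex (ModuleCat.{u} A) ℤ,
      (∀ i, Module.Finite A (L.X i) ∧ Module.Free A (L.X i)) ∧
      (∃ b : ℤ, ∀ i, b < i → IsZero (L.X i)) ∧
      (∀ p : ℕ, EndEquiv (tensorAFunctor A F ⋙ HAb X p)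
        (TFun L (p : ℤ) ⋙ forget₂ (ModuleCat.{u} A) AddCommGrpCat.{u})) ∧
      ∀ p : ℤ, p < 0 → ∀ M : ModuleCat.{u} A, IsZero ((TFun L p).obj M) := by
  haveI : F.IsQuasicoherent := hF.1
  haveI : CompactSpace X :=
    QuasiCompact.compactSpace_of_compactSpace (X ↘ Spec (CommRingCat.of A))
  obtain ⟨ι, _, U, hcov, hUa⟩ := Groth.Agent.Lib.H90ProperFin.exists_finite_affine_cover X
  have hU : ∀ s : Finset ι, s.Nonempty → IsAffineOpen (⨅ i ∈ s, U i) :=
    isAffineOpen_biInf (X ↘ Spec (CommRingCat.of A)) U hUa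
  obtain ⟨t, ht⟩ := exists_vanishing A F U hcov hU
  obtain ⟨L, h1, h2, h3, h4⟩ := Groth.Agent.Lib.MumfordTrunc21.exists_finite_free_model_nat A
    (cechCx A F U) (flat_cechCx_X A U hfl (isAffineOpen_prod U hU))
    (finite_homology_cechCx A U hF hcov hU) t (fun M p hp => ht M p hp.le)
  refine ⟨L, h1, h2, fun p => ?_, h4⟩
  obtain ⟨e⟩ := h3 p
  exact ((EndEquiv.of_iso (Functor.isoWhiskerRight e _)).trans (endEquiv_TFun A F U hcov hU p)).symm

end Groth.Agent.Lib.TensorAModel3H44
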