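/-
helper81: projection formula for modules over commutative rings, by hand: for φ : A →+* B, P a B-module, N an A-module,
projEquiv / projIso φ P N : restrictScalars (P ⊗_B extendScalars N) ≅ restrictScalars P ⊗_A N (fwd/bwd on pure tensors: p ⊗ (b ⊗ n) ↦ (b • p) ⊗ n),
with projIso_naturality_left/right.
-/
import Mathlib.Algebra.Category.ModuleCat.ChangeOfRings
import Mathlib.Algebra.Category.ModuleCat.Monoidal.Basic
import Mathlib.LinearAlgebra.TensorProduct.Basic

set_option autoImplicit false
universe u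
open CategoryTheory MonoidalCategory TensorProduct ChangeOfRings

namespace Groth.Agent.Lib.KFlatBaseChange81

variable {A B : Type u} [CommRing A] [CommRing B] (φ : A →+* B)
variable (P : ModuleCat.{u} B) (N : ModuleCat.{u} A)

/-- the restriction of scalars of `P` -/
noncomputable abbrev RP : ModuleCat.{u} A := (ModuleCat.restrictScalars φ).obj P

/-- the extension of scalars of `N` -/
noncomputable abbrev EN : ModuleCat.{u} B := (ModuleCat.extendScalars φ).obj N

/-- source of the projection formula -/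
abbrev Src : Type u := ↑P ⊗[B] ↑(EN φ N)

/-- target of the projection formula -/
abbrev Tgt : Type u := ↑(RP φ P) ⊗[A] ↑N

/-- element of `P` viewed in the restriction of scalars -/
noncomputable def toRP (p : P) : RP φ P := p

theorem toRP_smul (a : A) (p : P) : toRP φ P (φ a • p) = a • toRP φ P p := rfl

/-- `(b, n) ↦ (b • p) ⊗ n` -/
noncomputable def G (p : P) : B →+ ↑N →+ Tgt φ P N :=
  AddMonoidHom.mk' (fun b => AddMonoidHom.mk' (fun n => toRP φ P (b • p) ⊗ₜ[A] n)
      (fun n n' => tmul_add _ n n'))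
    (fun b b' => by
      ext n
      change toRP φ P ((b + b') • p) ⊗ₜ[A] n = toRP φ P (b • p) ⊗ₜ[A] n + toRP φ P (b' • p) ⊗ₜ[A] n
      rw [add_smul, ← add_tmul]
      rfl)


theorem G_compat (p : P) (a : A) (b : (ModuleCat.restrictScalars φ).obj (ModuleCat.of B B)) (n : N) :
    G φ P N p (a • b) n = G φ P N p b (a • n) := by
  let b' : B := b
  change toRP φ P ((φ a * b') • p) ⊗ₜ[A] n = toRP φ P (b' • p) ⊗ₜ[A] (a • n)
  rw [mul_smul, toRP_smul, smul_tmul]

/-- `B` as an `A`-module by restriction of scalars -/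
noncomputable abbrev BA : ModuleCat.{u} A := (ModuleCat.restrictScalars φ).obj (ModuleCat.of B B)

/-- the underlying tensor product of the extension of scalars -/
abbrev ENt : Type u := ↑(BA φ) ⊗[A] ↑N

/-- an element of `BA` as an element of `B` -/
def ofBA (b : BA φ) : B := b

/-- `b ⊗ n ↦ (b • p) ⊗ n` -/
noncomputable def F₀ (p : P) : ENt φ N →+ Tgt φ P N :=
  TensorProduct.liftAddHom (R := A) (M := ↑(BA φ)) (N := ↑N) (G φ P N p) (G_compat φ P N p)

theorem F₀_tmul (p : P) (b : BA φ) (n : N) :
    F₀ φ P N p (b ⊗ₜ[A] n) = toRP φ P (ofBA φ b • p) ⊗ₜ[A] n := rfl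

theorem F₀_add (p p' : P) (q : ENt φ N) : F₀ φ P N (p + p') q = F₀ φ P N p q + F₀ φ P N p' q := by
  induction q using TensorProduct.induction_on with
  | zero => rw [map_zero, map_zero, map_zero, add_zero]
  | tmul b n =>
    rw [F₀_tmul, F₀_tmul, F₀_tmul, smul_add, ← add_tmul]
    rfl
  | add x y hx hy =>
    rw [map_add, map_add, map_add, hx, hy]
    abel

/-- the `B`-action on the extension of scalars, on the underlying tensor product -/
noncomputable def smulEN (b : B) (q : ENt φ N) : ENt φ N :=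
  (show EN φ N from b • (show EN φ N from q))

theorem smulEN_tmul (b : B) (b' : BA φ) (n : N) :
    smulEN φ N b (b' ⊗ₜ[A] n) = (show BA φ from b * ofBA φ b') ⊗ₜ[A] n := rfl

theorem smulEN_add (b : B) (q q' : ENt φ N) :
    smulEN φ N b (q + q') = smulEN φ N b q + smulEN φ N b q' :=
  smul_add (M := B) (A := EN φ N) b q q'

theorem smulEN_zero (b : B) : smulEN φ N b 0 = 0 := smul_zero (M := B) (A := EN φ N) b

theorem F₀_smul (b : B) (p : P) (q : ENt φ N) :
    F₀ φ P N (b • p) q = F₀ φ P N p (smulEN φ N b q) := by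
  induction q using TensorProduct.induction_on with
  | zero => rw [smulEN_zero, map_zero, map_zero]
  | tmul b' n =>
    rw [smulEN_tmul, F₀_tmul, F₀_tmul, smul_smul, mul_comm]
    rfl
  | add x y hx hy => rw [smulEN_add, map_add, map_add, hx, hy]

/-- the forward map of the projection formula -/
noncomputable def fwd : Src φ P N →+ Tgt φ P N :=
  TensorProduct.liftAddHom (R := B) (M := ↑P) (N := ↑(EN φ N))
    (AddMonoidHom.mk' (fun p => F₀ φ P N p) (fun p p' => by ext q; exact F₀_add φ P N p p' q))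
    (fun b p q => F₀_smul φ P N b p q)

theorem fwd_tmul (p : P) (b : BA φ) (n : N) :
    fwd φ P N (p ⊗ₜ[B] (show EN φ N from b ⊗ₜ[A] n)) = toRP φ P (ofBA φ b • p) ⊗ₜ[A] n := rfl


/-- an element of `B` as an element of `BA` -/
noncomputable def toBA (b : B) : BA φ := b

/-- an element of the restriction of scalars as an element of `P` -/
noncomputable def ofRP (p : RP φ P) : P := p

/-- `(p, n) ↦ p ⊗ (1 ⊗ n)` -/
noncomputable def H : ↑(RP φ P) →+ ↑N →+ Src φ P N :=
  AddMonoidHom.mk' (fun p => AddMonoidHom.mk'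
      (fun n => ofRP φ P p ⊗ₜ[B] (show EN φ N from toBA φ 1 ⊗ₜ[A] n))
      (fun n n' => by
        have : (show EN φ N from toBA φ 1 ⊗ₜ[A] (n + n')) =
            (show EN φ N from toBA φ 1 ⊗ₜ[A] n) + (show EN φ N from toBA φ 1 ⊗ₜ[A] n') :=
          tmul_add _ n n'
        rw [this, tmul_add]))
    (fun p p' => by
      ext n
      exact add_tmul _ _ _)

theorem H_compat (a : A) (p : RP φ P) (n : N) : H φ P N (a • p) n = H φ P N p (a • n) := by
  change (φ a • ofRP φ P p) ⊗ₜ[B] (show EN φ N from toBA φ 1 ⊗ₜ[A] n) =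
    ofRP φ P p ⊗ₜ[B] (show EN φ N from toBA φ 1 ⊗ₜ[A] (a • n))
  rw [smul_tmul]
  congr 1
  have : (show EN φ N from toBA φ 1 ⊗ₜ[A] (a • n)) = (show EN φ N from (a • toBA φ 1) ⊗ₜ[A] n) :=
    (smul_tmul a (toBA φ 1) n).symm
  rw [this]
  change (show EN φ N from toBA φ (φ a * 1) ⊗ₜ[A] n) = _
  rfl

/-- the backward map of the projection formula -/
noncomputable def bwd : Tgt φ P N →+ Src φ P N :=
  TensorProduct.liftAddHom (R := A) (M := ↑(RP φ P)) (N := ↑N) (H φ P N) (H_compat φ P N)

theorem bwd_tmul (p : RP φ P) (n : N) :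
    bwd φ P N (p ⊗ₜ[A] n) = ofRP φ P p ⊗ₜ[B] (show EN φ N from toBA φ 1 ⊗ₜ[A] n) := rfl


theorem fwd_bwd (t : Tgt φ P N) : fwd φ P N (bwd φ P N t) = t := by
  induction t using TensorProduct.induction_on with
  | zero => rw [map_zero, map_zero]
  | tmul p n =>
    rw [bwd_tmul, fwd_tmul]
    change toRP φ P ((1 : B) • ofRP φ P p) ⊗ₜ[A] n = p ⊗ₜ[A] n
    rw [one_smul]
    rfl
  | add x y hx hy => rw [map_add, map_add, hx, hy]

theorem bwd_fwd_tmul (p : P) (q : ENt φ N) :
    bwd φ P N (fwd φ P N (p ⊗ₜ[B] (show EN φ N from q))) = p ⊗ₜ[B] (show EN φ N from q) := by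
  induction q using TensorProduct.induction_on with
  | zero =>
    have : (show EN φ N from (0 : ENt φ N)) = 0 := rfl
    rw [this, tmul_zero, map_zero, map_zero]
  | tmul b n =>
    rw [fwd_tmul, bwd_tmul]
    change (ofBA φ b • p) ⊗ₜ[B] (show EN φ N from toBA φ 1 ⊗ₜ[A] n) = _
    rw [smul_tmul]
    congr 1
    change (show EN φ N from toBA φ (ofBA φ b * 1) ⊗ₜ[A] n) = _
    rw [mul_one]
    rfl
  | add x y hx hy =>
    have : (show EN φ N from (x + y : ENt φ N)) = (show EN φ N from x) + (show EN φ N from y) := rfl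
    rw [this, tmul_add, map_add, map_add, hx, hy]

theorem bwd_fwd (s : Src φ P N) : bwd φ P N (fwd φ P N s) = s := by
  induction s using TensorProduct.induction_on with
  | zero => rw [map_zero, map_zero]
  | tmul p q => exact bwd_fwd_tmul φ P N p q
  | add x y hx hy => rw [map_add, map_add, hx, hy]


theorem fwd_smul_tmul (a : A) (p : P) (q : ENt φ N) :
    fwd φ P N ((φ a • p) ⊗ₜ[B] (show EN φ N from q)) =
      a • fwd φ P N (p ⊗ₜ[B] (show EN φ N from q)) := by
  induction q using TensorProduct.induction_on with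
  | zero =>
    have : (show EN φ N from (0 : ENt φ N)) = 0 := rfl
    rw [this, tmul_zero, tmul_zero, map_zero, smul_zero]
  | tmul b n =>
    rw [fwd_tmul, fwd_tmul, smul_comm, toRP_smul, smul_tmul']
  | add x y hx hy =>
    have : (show EN φ N from (x + y : ENt φ N)) = (show EN φ N from x) + (show EN φ N from y) := rfl
    rw [this, tmul_add, tmul_add, map_add, map_add, hx, hy, smul_add]

theorem fwd_smul (a : A) (s : Src φ P N) : fwd φ P N (φ a • s) = a • fwd φ P N s := by
  induction s using TensorProduct.induction_on with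
  | zero => rw [smul_zero, map_zero, smul_zero]
  | tmul p q =>
    rw [smul_tmul']
    exact fwd_smul_tmul φ P N a p q
  | add x y hx hy => rw [smul_add, map_add, map_add, hx, hy, smul_add]

/-- the projection formula `P ⊗_B (B ⊗_A N) ≅ P ⊗_A N`, as an `A`-linear equivalence -/
noncomputable def projEquiv :
    ↑((ModuleCat.restrictScalars φ).obj (P ⊗ EN φ N)) ≃ₗ[A] ↑(RP φ P ⊗ N) where
  toFun := fwd φ P N
  invFun := bwd φ P N
  map_add' := map_add _
  map_smul' := fwd_smul φ P N
  left_inv := bwd_fwd φ P N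
  right_inv := fwd_bwd φ P N

/-- the projection formula as an isomorphism of `A`-modules -/
noncomputable def projIso :
    (ModuleCat.restrictScalars φ).obj (P ⊗ EN φ N) ≅ RP φ P ⊗ N :=
  (projEquiv φ P N).toModuleIso


variable {P N}

theorem projIso_naturality_left {P' : ModuleCat.{u} B} (g : P ⟶ P') :
    (ModuleCat.restrictScalars φ).map (g ▷ EN φ N) ≫ (projIso φ P' N).hom =
      (projIso φ P N).hom ≫ ((ModuleCat.restrictScalars φ).map g ▷ N) := by
  ext s
  change fwd φ P' N ((g ▷ EN φ N).hom s) =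
    ((ModuleCat.restrictScalars φ).map g ▷ N).hom (fwd φ P N s)
  induction s using TensorProduct.induction_on with
  | zero => rw [map_zero, map_zero, map_zero, map_zero]
  | tmul p q =>
    induction q using TensorProduct.induction_on with
    | zero =>
      have : (p ⊗ₜ[B] (0 : ENt φ N) : Src φ P N) = 0 := tmul_zero _ _
      rw [this, map_zero, map_zero, map_zero, map_zero]
    | tmul b n =>
      change fwd φ P' N ((g.hom p) ⊗ₜ[B] (show EN φ N from b ⊗ₜ[A] n)) =
        ((ModuleCat.restrictScalars φ).map g ▷ N).hom (toRP φ P (ofBA φ b • p) ⊗ₜ[A] n)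
      rw [fwd_tmul, ← map_smul]
      rfl
    | add x y hx hy =>
      have : (p ⊗ₜ[B] (x + y : ENt φ N) : Src φ P N) =
          (p ⊗ₜ[B] x : Src φ P N) + (p ⊗ₜ[B] y : Src φ P N) := tmul_add _ _ _
      rw [this, map_add, map_add, map_add, map_add, hx, hy]
  | add x y hx hy => rw [map_add, map_add, map_add, map_add, hx, hy]

theorem projIso_naturality_right {N' : ModuleCat.{u} A} (h : N ⟶ N') :
    (ModuleCat.restrictScalars φ).map (P ◁ (ModuleCat.extendScalars φ).map h) ≫
        (projIso φ P N').hom =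
      (projIso φ P N).hom ≫ (RP φ P ◁ h) := by
  ext s
  change fwd φ P N' ((P ◁ (ModuleCat.extendScalars φ).map h).hom s) =
    (RP φ P ◁ h).hom (fwd φ P N s)
  induction s using TensorProduct.induction_on with
  | zero => rw [map_zero, map_zero, map_zero, map_zero]
  | tmul p q =>
    induction q using TensorProduct.induction_on with
    | zero =>
      have : (p ⊗ₜ[B] (0 : ENt φ N) : Src φ P N) = 0 := tmul_zero _ _
      rw [this, map_zero, map_zero, map_zero, map_zero]
    | tmul b n =>
      change fwd φ P N' (p ⊗ₜ[B] (show EN φ N' from b ⊗ₜ[A] (h.hom n))) =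
        (RP φ P ◁ h).hom (toRP φ P (ofBA φ b • p) ⊗ₜ[A] n)
      rw [fwd_tmul]
      rfl
    | add x y hx hy =>
      have : (p ⊗ₜ[B] (x + y : ENt φ N) : Src φ P N) =
          (p ⊗ₜ[B] x : Src φ P N) + (p ⊗ₜ[B] y : Src φ P N) := tmul_add _ _ _
      rw [this, map_add, map_add, map_add, map_add, hx, hy]
  | add x y hx hy => rw [map_add, map_add, map_add, map_add, hx, hy]

end Groth.Agent.Lib.KFlatBaseChange81
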