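/-
helper81: extension of scalars preserves K-flat complexes of modules over commutative rings: bicIso (projection formula for bicomplexes),
projCxIso φ M K : res(M ⊗_B ext K) ≅ res M ⊗_A K, isZero_homology_map_iff (helper66), isKFlat_extendScalars.
-/
import Groth.Agent.Lib.KFlatBaseChange81
import Groth.Agent.Lib.TotalFunctor66
import Groth.Prelude.Def_KFlatSite
import Mathlib.Algebra.Homology.Monoidal

set_option autoImplicit false
universe u
open CategoryTheory CategoryTheory.Limits MonoidalCategory TensorProduct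

namespace Groth.Agent.Lib.KFlatBaseChange81

open Groth.Agent.Lib.TotalFunctor66

variable {A B : Type u} [CommRing A] [CommRing B] (φ : A →+* B)

instance : (ModuleCat.extendScalars.{u, u, u} φ).Additive :=
  (ModuleCat.extendRestrictScalarsAdj.{u, u, u} φ).left_adjoint_additive

/-- restriction of scalars on complexes -/
noncomputable abbrev resCx : DRing.Cx B ⥤ DRing.Cx A :=
  (ModuleCat.restrictScalars φ).mapHomologicalComplex (ComplexShape.up ℤ)

/-- extension of scalars on complexes -/
noncomputable abbrev extCx : DRing.Cx A ⥤ DRing.Cx B :=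
  (ModuleCat.extendScalars.{u, u, u} φ).mapHomologicalComplex (ComplexShape.up ℤ)

/-- the bicomplex `M^p ⊗_B (B ⊗_A K^q)` -/
noncomputable abbrev tBicx (M : DRing.Cx B) (K : DRing.Cx A) :
    HomologicalComplex₂ (ModuleCat.{u} B) (ComplexShape.up ℤ) (ComplexShape.up ℤ) :=
  (((curriedTensor (ModuleCat.{u} B)).mapBifunctorHomologicalComplex
    (ComplexShape.up ℤ) (ComplexShape.up ℤ)).obj M).obj ((extCx φ).obj K)

/-- restriction of scalars of the previous bicomplex -/
noncomputable abbrev C₁ (M : DRing.Cx B) (K : DRing.Cx A) :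
    HomologicalComplex₂ (ModuleCat.{u} A) (ComplexShape.up ℤ) (ComplexShape.up ℤ) :=
  mapBicomplex (tBicx φ M K) (ModuleCat.restrictScalars φ)

/-- the bicomplex `M^p ⊗_A K^q` -/
noncomputable abbrev C₂ (M : DRing.Cx B) (K : DRing.Cx A) :
    HomologicalComplex₂ (ModuleCat.{u} A) (ComplexShape.up ℤ) (ComplexShape.up ℤ) :=
  (((curriedTensor (ModuleCat.{u} A)).mapBifunctorHomologicalComplex
    (ComplexShape.up ℤ) (ComplexShape.up ℤ)).obj ((resCx φ).obj M)).obj K

/-- the projection formula for bicomplexes -/
noncomputable def bicIso (M : DRing.Cx B) (K : DRing.Cx A) : C₁ φ M K ≅ C₂ φ M K :=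
  HomologicalComplex.Hom.isoOfComponents
    (fun p => HomologicalComplex.Hom.isoOfComponents (fun q => projIso φ (M.X p) (K.X q))
      (by
        intro q q' _
        exact (projIso_naturality_right φ (K.d q q')).symm))
    (by
      intro p p' _
      refine HomologicalComplex.hom_ext _ _ (fun q => ?_)
      exact (projIso_naturality_left φ (M.d p p')).symm)

end Groth.Agent.Lib.KFlatBaseChange81

namespace Groth.Agent.Lib.KFlatBaseChange81

open Groth.Agent.Lib.TotalFunctor66

variable {A B : Type u} [CommRing A] [CommRing B] (φ : A →+* B)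

instance : PreservesColimitsOfSize.{0, 0} (ModuleCat.restrictScalars.{u} φ) :=
  (ModuleCat.restrictCoextendScalarsAdj.{u} φ).leftAdjoint_preservesColimits

instance preservesTotal (M : DRing.Cx B) (K : DRing.Cx A) :
    PreservesTotal (tBicx φ M K) (ComplexShape.up ℤ) (ModuleCat.restrictScalars.{u} φ) := by
  intro n
  infer_instance

/-- `M ⊗_B (B ⊗_A K) ≅ M ⊗_A K` for complexes -/
noncomputable def projCxIso (M : DRing.Cx B) (K : DRing.Cx A) :
    (resCx φ).obj (M ⊗ (extCx φ).obj K) ≅ (resCx φ).obj M ⊗ K :=
  haveI := hasTotal_mapBicomplex (B := tBicx φ M K) (c₁₂ := ComplexShape.up ℤ)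
    (ModuleCat.restrictScalars.{u} φ)
  mapTotalIso (ModuleCat.restrictScalars.{u} φ) ≪≫
    HomologicalComplex₂.total.mapIso (bicIso φ M K) (ComplexShape.up ℤ)

lemma isZero_homology_map_iff {C D : Type*} [Category C] [Category D] [Abelian C] [Abelian D]
    (F : C ⥤ D) [F.Additive] [F.PreservesHomology] [F.Faithful] (K : CochainComplex C ℤ) (i : ℤ) :
    IsZero (((F.mapHomologicalComplex (ComplexShape.up ℤ)).obj K).homology i) ↔
      IsZero (K.homology i) := by
  rw [← HomologicalComplex.exactAt_iff_isZero_homology,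
    ← HomologicalComplex.exactAt_iff_isZero_homology]
  exact ShortComplex.exact_map_iff_of_faithful (K.sc i) F

/-- extension of scalars preserves K-flat complexes -/
theorem isKFlat_extendScalars (K : DRing.Cx A) (hK : DRing.IsKFlat A K) :
    DRing.IsKFlat B ((extCx φ).obj K) := by
  intro M hM i
  have h1 : ∀ j, IsZero (((resCx φ).obj M).homology j) := fun j =>
    (isZero_homology_map_iff (ModuleCat.restrictScalars.{u} φ) M j).2 (hM j)
  have h2 := hK _ h1 i
  have h3 : IsZero (((resCx φ).obj (M ⊗ (extCx φ).obj K)).homology i) :=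
    h2.of_iso ((HomologicalComplex.homologyFunctor _ _ i).mapIso (projCxIso φ M K))
  exact (isZero_homology_map_iff (ModuleCat.restrictScalars.{u} φ) _ i).1 h3

end Groth.Agent.Lib.KFlatBaseChange81
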