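/-
helper81: isKFlat_of_iso (ring-level K-flatness is iso-invariant), stalkPullbackCxIso f x K : the complex of stalks at `x` of the termwise
pullback `f^* K` is the extension of scalars along `f.stalkMap x` of the complex of stalks of `K` at `f x`;
isKFlat_pullback (= S0952): termwise pullback preserves K-flat complexes of O-modules (given the stalkwise criterion S11132 as hypothesis-free lemma
`isKFlat_iff_stalk`).
-/
import Groth.Agent.Lib.StalkTensor81F
import Groth.Agent.Lib.PullbackStalk81
import Groth.Agent.Lib.KFlatBaseChange81B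

set_option autoImplicit false
universe u
open CategoryTheory CategoryTheory.Limits AlgebraicGeometry MonoidalCategory

namespace Groth.Agent.Lib.KFlatBaseChange81

open Groth.Agent.Lib.StalkTensor81 Groth.Agent.Lib.SkyMod81 Groth.Agent.Lib.PullbackStalk81

/-- K-flatness over a ring is invariant under isomorphism -/
theorem isKFlat_of_iso {A : Type u} [CommRing A] {K K' : DRing.Cx A} (e : K ≅ K')
    (h : DRing.IsKFlat A K) : DRing.IsKFlat A K' := by
  intro M hM i
  exact (h M hM i).of_iso ((HomologicalComplex.homologyFunctor _ _ i).mapIso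
    (whiskerLeftIso M e.symm))

/-- K-flat iff stalkwise K-flat (the content of S11132) -/
theorem isKFlat_iff_stalk (X : Scheme.{u}) (F : CochainComplex X.Modules ℤ) :
    DCoh.IsKFlat F ↔ ∀ x : X, DRing.IsKFlat (X.presheaf.stalk x) ((stalkCx x).obj F) := by
  constructor
  · intro hF x M hM i
    have h1 := hF (((skyMod x).mapHomologicalComplex (ComplexShape.up ℤ)).obj M)
      (fun j => isZero_homology_skyMod x M j (hM j)) i
    have h2 := (isZero_homology_iff_stalk _ i).1 h1 x
    have e : (stalkCx x).obj ((DCoh.tensorCx.obj
        (((skyMod x).mapHomologicalComplex (ComplexShape.up ℤ)).obj M)).obj F) ≅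
        M ⊗ (stalkCx x).obj F :=
      stalkTensorCxIso x _ F ≪≫ whiskerRightIso (stalkCxSkyIso x M) ((stalkCx x).obj F)
    exact h2.of_iso ((HomologicalComplex.homologyFunctor _ _ i).mapIso e.symm)
  · intro h L hL i
    rw [isZero_homology_iff_stalk]
    intro x
    have h1 := h x ((stalkCx x).obj L) (fun j => (isZero_homology_iff_stalk L j).1 (hL j) x) i
    exact h1.of_iso ((HomologicalComplex.homologyFunctor _ _ i).mapIso (stalkTensorCxIso x L F))

/-- the complex of stalks of the pullback -/
noncomputable def stalkPullbackCxIso {X Y : Scheme.{u}} (f : X ⟶ Y) (x : X)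
    (K : CochainComplex Y.Modules ℤ) :
    (stalkCx x).obj (((Scheme.Modules.pullback f).mapHomologicalComplex (ComplexShape.up ℤ)).obj K) ≅
      (extCx (f.stalkMap x).hom).obj ((stalkCx (f x)).obj K) :=
  HomologicalComplex.Hom.isoOfComponents (fun n => (pullbackStalkIso f x).app (K.X n))
    (fun n n' _ => by
      have h := (pullbackStalkIso f x).hom.naturality (K.d n n')
      change _ ≫ (ModuleCat.extendScalars (f.stalkMap x).hom).map
          ((DerSch.stalkFunctor Y (f x)).map (K.d n n')) =
        (DerSch.stalkFunctor X x).map ((Scheme.Modules.pullback f).map (K.d n n')) ≫ _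
      rw [stalkFunctor_map, stalkFunctor_map]
      exact h.symm)

/-- termwise pullback preserves K-flat complexes -/
theorem isKFlat_pullback {X Y : Scheme.{u}} (f : X ⟶ Y) (K : CochainComplex Y.Modules ℤ)
    (hK : DCoh.IsKFlat K) :
    DCoh.IsKFlat (((Scheme.Modules.pullback f).mapHomologicalComplex (ComplexShape.up ℤ)).obj K) := by
  rw [isKFlat_iff_stalk]
  intro x
  have h1 := (isKFlat_iff_stalk Y K).1 hK (f x)
  have h2 := isKFlat_extendScalars (f.stalkMap x).hom _ h1
  exact isKFlat_of_iso (stalkPullbackCxIso f x K).symm h2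

end Groth.Agent.Lib.KFlatBaseChange81
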