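/-
helper81: acyclic_pullback_of_isKFlat (Stacks 06YB): the termwise pullback of a K-flat acyclic complex of O_Y-modules is acyclic
(via stalkPullbackCxIso + helper35 DTenBaseFlat35.acyclic_extCx_of_isKFlat_of_acyclic).
-/
import Groth.Agent.Lib.KFlatBaseChange81C
import Groth.Agent.Lib.DTenBaseFlat35

set_option autoImplicit false
universe u
open CategoryTheory CategoryTheory.Limits AlgebraicGeometry MonoidalCategory

namespace Groth.Agent.Lib.KFlatBaseChange81

open Groth.Agent.Lib.StalkTensor81 Groth.Agent.Lib.SkyMod81 Groth.Agent.Lib.PullbackStalk81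

/-- the termwise pullback of a K-flat acyclic complex is acyclic (Stacks 06YB) -/
theorem acyclic_pullback_of_isKFlat {X Y : Scheme.{u}} (f : X ⟶ Y) (K : CochainComplex Y.Modules ℤ)
    (hK : DCoh.IsKFlat K) (hK0 : ∀ i : ℤ, IsZero (K.homology i)) (i : ℤ) :
    IsZero ((((Scheme.Modules.pullback f).mapHomologicalComplex (ComplexShape.up ℤ)).obj K).homology i) := by
  rw [isZero_homology_iff_stalk]
  intro x
  have hk := (isKFlat_iff_stalk Y K).1 hK (f x)
  have h0 : ∀ j, IsZero (((stalkCx (f x)).obj K).homology j) := fun j =>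
    (isZero_homology_iff_stalk K j).1 (hK0 j) (f x)
  have h1 := Groth.Agent.Lib.DTenBaseFlat35.acyclic_extCx_of_isKFlat_of_acyclic (f.stalkMap x).hom
    ((stalkCx (f x)).obj K) ((Groth.Agent.Lib.KFlat35.isKFlat_iff _).2 hk)
    ((Groth.Agent.Lib.KFlat35.acyclic_iff_isZero_homology _).2 h0)
  have h2 := (Groth.Agent.Lib.KFlat35.acyclic_iff_isZero_homology _).1 h1 i
  exact h2.of_iso ((HomologicalComplex.homologyFunctor _ _ i).mapIso (stalkPullbackCxIso f x K))

end Groth.Agent.Lib.KFlatBaseChange81
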