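import Groth.Agent.Lib.KFlatTri21

/-!
# Termwise tensoring a K-flat complex with a module (helper21)

Ringed site `(C, O)`, `M : Mod O`.  The termwise functor `K ↦ K^• ⊗ M` (`(tensorBi O).flip.obj M` applied
degreewise) sends acyclic K-flat complexes to acyclic complexes and quasi-isomorphisms between K-flat complexes
to quasi-isomorphisms.  The same for every additive functor isomorphic to `(tensorBi O).flip.obj M`.
-/

set_option autoImplicit false
universe u

open CategoryTheory Limits HomologicalComplex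

namespace Groth.Agent.Lib.KFlatTensorRight21

open Groth.Agent.Lib.ModSiteKFlatBdd66 Groth.Agent.Lib.ModSiteKFlatQis66
  Groth.Agent.Lib.ModSiteTensorSymm66 Groth.Agent.Lib.ModSiteCyclesFlat66

variable {C : Type u} [SmallCategory C] {J : GrothendieckTopology C} {O : Sheaf J CommRingCat.{u}}

/-- `Φ(K)` is acyclic for `K` acyclic K-flat, `Φ ≅ M ⊗ -` -/
theorem acyclic_map_of_iso (M : ModSite.Mod O) (Φ : ModSite.Mod O ⥤ ModSite.Mod O) [Φ.Additive]
    (e : Φ ≅ (ModSite.tensorBi O).obj M)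
    (K : Cx O) (hK : ModSite.IsKFlat K) (hA : ∀ i, IsZero (K.homology i)) :
    ((Φ.mapHomologicalComplex (ComplexShape.up ℤ)).obj K).Acyclic := by
  intro n
  obtain ⟨m, rfl⟩ : ∃ m, n = m + 1 := ⟨n - 1, by omega⟩
  rw [HomologicalComplex.exactAt_iff' _ m (m + 1) (m + 1 + 1) (by simp) (by simp)]
  have h := exact_tensor_obj K hK hA M m
  exact ShortComplex.exact_of_iso ((K.sc' m (m + 1) (m + 1 + 1)).mapNatIso e.symm) h

/-- `Φ(f)` is a quasi-isomorphism for `f` a quasi-isomorphism between K-flat complexes, `Φ ≅ M ⊗ -` -/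
theorem quasiIso_map_of_iso (M : ModSite.Mod O) (Φ : ModSite.Mod O ⥤ ModSite.Mod O) [Φ.Additive]
    (e : Φ ≅ (ModSite.tensorBi O).obj M)
    {P Q : Cx O} (f : P ⟶ Q) (hP : ModSite.IsKFlat P) (hQ : ModSite.IsKFlat Q) (hf : QuasiIso f) :
    QuasiIso ((Φ.mapHomologicalComplex (ComplexShape.up ℤ)).map f) := by
  rw [Groth.Agent.Lib.ConeQuasiIso.quasiIso_iff_acyclic_mappingCone]
  have h1 : (CochainComplex.mappingCone f).Acyclic :=
    (Groth.Agent.Lib.ConeQuasiIso.quasiIso_iff_acyclic_mappingCone f).1 hf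
  have h2 : ModSite.IsKFlat (CochainComplex.mappingCone f) :=
    (Groth.Agent.S9056.result O f).1 hP hQ
  have h3 := acyclic_map_of_iso M Φ e _ h2 ((Groth.Agent.Lib.ModSiteKFlatQis66.acyclic_iff _).1 h1)
  intro i
  exact (h3 i).of_iso (CochainComplex.mappingCone.mapHomologicalComplexIso f Φ)

/-- the termwise functor `- ⊗ M` -/
theorem quasiIso_map_flip (M : ModSite.Mod O)
    {P Q : Cx O} (f : P ⟶ Q) (hP : ModSite.IsKFlat P) (hQ : ModSite.IsKFlat Q) (hf : QuasiIso f) :
    QuasiIso ((((ModSite.tensorBi O).flip.obj M).mapHomologicalComplex (ComplexShape.up ℤ)).map f) :=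
  quasiIso_map_of_iso M _ ((braidBi O).symm.app M) f hP hQ hf

end Groth.Agent.Lib.KFlatTensorRight21
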