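/-
helper66: a cochain complex in an abelian category is the sequential colimit of its canonical
truncations `τ≤n K`.
-/
import Mathlib.Algebra.Homology.Embedding.CochainComplex
import Mathlib.Algebra.Homology.HomologicalComplexLimits
import Mathlib.CategoryTheory.Limits.Constructions.EventuallyConstant
import Mathlib.CategoryTheory.Functor.OfSequence

universe v u
open CategoryTheory Limits HomologicalComplex

namespace Groth.Agent.Lib.TruncLEColim66

variable {A : Type u} [Category.{v} A] [Abelian A]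

set_option backward.isDefEq.respectTransparency false in
lemma isIso_πTruncGE_f {ι ι' : Type*} {c : ComplexShape ι} {c' : ComplexShape ι'}
    (K : HomologicalComplex A c') (e : c.Embedding c') [e.IsTruncGE]
    (i : ι) (hi : ¬ e.BoundaryGE i) : IsIso ((K.πTruncGE e).f (e.f i)) := by
  dsimp [HomologicalComplex.πTruncGE]
  rw [e.isIso_liftExtend_f_iff _ _ rfl]
  exact K.isIso_restrictionToTruncGE' e i hi

set_option backward.isDefEq.respectTransparency false in
lemma isIso_ιTruncLE_f {ι ι' : Type*} {c : ComplexShape ι} {c' : ComplexShape ι'}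
    (K : HomologicalComplex A c') (e : c.Embedding c') [e.IsTruncLE]
    (i : ι) (hi : ¬ e.BoundaryLE i) : IsIso ((K.ιTruncLE e).f (e.f i)) := by
  have : IsIso ((K.op.πTruncGE e.op).f (e.op.f i)) :=
    isIso_πTruncGE_f K.op e.op i (by simpa using hi)
  have : IsIso ((K.op.πTruncGE e.op).f (e.f i)) := this
  exact inferInstanceAs (IsIso ((K.op.πTruncGE e.op).f (e.f i)).unop)

/-- The canonical truncation `τ≤n K ⟶ K` is an isomorphism in degrees `< n`. -/
lemma isIso_ιTruncLE_f_int (K : CochainComplex A ℤ) (n i : ℤ) (hi : i < n) :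
    IsIso ((K.ιTruncLE n).f i) := by
  obtain ⟨k, hk⟩ : ∃ k : ℕ, n - k = i := ⟨(n - i).toNat, by omega⟩
  have := isIso_ιTruncLE_f K (ComplexShape.embeddingUpIntLE n) k (by
    rw [ComplexShape.boundaryLE_embeddingUpIntLE_iff]; omega)
  subst hk
  exact this

variable (K : CochainComplex A ℤ)

/-- the transition map `τ≤n K ⟶ τ≤m K` for `n ≤ m` -/
noncomputable def tr {n m : ℤ} (h : n ≤ m) : K.truncLE n ⟶ K.truncLE m :=
  haveI : (K.truncLE n).IsStrictlyLE m := (K.truncLE n).isStrictlyLE_of_le n m h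
  inv ((K.truncLE n).ιTruncLE m) ≫ CochainComplex.truncLEMap (K.ιTruncLE n) m

lemma tr_ι {n m : ℤ} (h : n ≤ m) : tr K h ≫ K.ιTruncLE m = K.ιTruncLE n := by
  haveI : (K.truncLE n).IsStrictlyLE m := (K.truncLE n).isStrictlyLE_of_le n m h
  dsimp only [tr]
  rw [Category.assoc, CochainComplex.ιTruncLE_naturality, IsIso.inv_hom_id_assoc]

/-- the sequence of canonical truncations `τ≤0 K ⟶ τ≤1 K ⟶ ⋯` -/
noncomputable def trSeq : ℕ ⥤ CochainComplex A ℤ :=
  Functor.ofSequence (X := fun n : ℕ => K.truncLE (n : ℤ))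
    (fun n => tr K (by push_cast; omega : ((n : ℕ) : ℤ) ≤ ((n + 1 : ℕ) : ℤ)))

/-- the cocone with point `K` -/
noncomputable def trCocone : Cocone (trSeq K) where
  pt := K
  ι := NatTrans.ofSequence (fun n => K.ιTruncLE (n : ℤ)) (fun n => by
    dsimp only [trSeq]
    rw [Functor.ofSequence_map_homOfLE_succ]
    exact (tr_ι K _).trans (Category.comp_id _).symm)

lemma trCocone_ι_app (n : ℕ) : (trCocone K).ι.app n = K.ιTruncLE (n : ℤ) := rfl

lemma trSeq_obj (n : ℕ) : (trSeq K).obj n = K.truncLE (n : ℤ) := rfl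

lemma isIso_trSeq_map_f {i j : ℕ} (φ : i ⟶ j) (q : ℤ) (h : q < i) :
    IsIso (((trSeq K).map φ).f q) := by
  have h1 : (trSeq K).map φ ≫ (trCocone K).ι.app j = (trCocone K).ι.app i :=
    (trCocone K).w φ
  have h2 : ((trSeq K).map φ).f q ≫ (K.ιTruncLE (j : ℤ)).f q = (K.ιTruncLE (i : ℤ)).f q := by
    rw [← HomologicalComplex.comp_f]
    exact congrArg (fun ψ => ψ.f q) h1
  have hij : i ≤ j := leOfHom φ
  have hj : q < (j : ℤ) := by
    have : (i : ℤ) ≤ j := by exact_mod_cast hij
    omega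
  haveI e1 : IsIso ((K.ιTruncLE (j : ℤ)).f q) := isIso_ιTruncLE_f_int K j q hj
  haveI e2 : IsIso ((K.ιTruncLE (i : ℤ)).f q) := isIso_ιTruncLE_f_int K i q h
  exact @IsIso.of_isIso_fac_right _ _ _ _ _ _ _ _ e1 e2 h2

/-- `K` is the colimit of its canonical truncations -/
noncomputable def isColimitTrCocone : IsColimit (trCocone K) := by
  refine HomologicalComplex.isColimitOfEval _ _ (fun q => ?_)
  have hi₀ : q < (((q + 1).toNat : ℕ) : ℤ) := by
    have := Int.self_le_toNat (q + 1)
    omega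
  have hconst : (trSeq K ⋙ HomologicalComplex.eval A (ComplexShape.up ℤ) q).IsEventuallyConstantFrom
      (q + 1).toNat := by
    intro j φ
    exact isIso_trSeq_map_f K φ q hi₀
  have : IsIso (((HomologicalComplex.eval A (ComplexShape.up ℤ) q).mapCocone (trCocone K)).ι.app
      (q + 1).toNat) := isIso_ιTruncLE_f_int K _ q hi₀
  exact hconst.isColimitOfIsIso _

instance (n : ℕ) : ((trSeq K).obj n).IsStrictlyLE (n : ℤ) :=
  inferInstanceAs ((K.truncLE (n : ℤ)).IsStrictlyLE (n : ℤ))

end Groth.Agent.Lib.TruncLEColim66
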