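/-
helper66: on a ringed site, tensoring any complex with an acyclic K-flat complex is acyclic, and
tensoring with a quasi-isomorphism between K-flat complexes is a quasi-isomorphism (S9051).
-/
import Groth.Agent.Lib.ModSiteKFlatBdd66
import Groth.Agent.Lib.ModSiteTensorSymm66
import Groth.Agent.Lib.TruncLEColim66
import Groth.Agent.Lib.ClassResolutionOp
import Groth.Agent.Lib.ModSiteEnoughFlat
import Groth.Agent.Lib.ConeQuasiIso
import Groth.Agent.S9050
import Groth.Agent.S9056

universe u
open CategoryTheory Limits HomologicalComplex ZeroObject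

namespace Groth.Agent.Lib.ModSiteKFlatQis66

open Groth.Agent.Lib.ModSiteKFlatBdd66 Groth.Agent.Lib.ModSiteTensorSymm66
  Groth.Agent.Lib.TruncLEColim66 Groth.Agent.Lib.ModSiteFlat

variable {C : Type u} [SmallCategory C] {J : GrothendieckTopology C} {O : Sheaf J CommRingCat.{u}}

/-- symmetry of the total tensor complex -/
noncomputable def tensSymm (F K : Cx O) : T F K ≅ T K F :=
  Groth.Agent.Lib.TensorSymm35.mapBifunctorNatIso (ComplexShape.up ℤ) (braidBi O) F K ≪≫
    HomologicalComplex.mapBifunctorFlipIso K F (ModSite.tensorBi O) (ComplexShape.up ℤ)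

lemma isZero_homology_symm (F K : Cx O) (i : ℤ) (h : IsZero ((T F K).homology i)) :
    IsZero ((T K F).homology i) :=
  h.of_iso ((HomologicalComplex.homologyFunctor _ _ i).mapIso (tensSymm F K)).symm

lemma acyclic_iff (K : Cx O) : K.Acyclic ↔ ∀ i : ℤ, IsZero (K.homology i) := by
  constructor
  · intro h i
    exact (HomologicalComplex.exactAt_iff_isZero_homology K i).1 (h i)
  · intro h i
    exact (HomologicalComplex.exactAt_iff_isZero_homology K i).2 (h i)

lemma isKFlat_iff (K : Cx O) : ModSite.IsKFlat K ↔ ∀ L : Cx O, L.Acyclic →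
    (HomologicalComplex.mapBifunctor L K (ModSite.tensorBi O) (ComplexShape.up ℤ)).Acyclic := by
  constructor
  · intro h L hL
    exact (acyclic_iff (T L K)).2 (h L ((acyclic_iff L).1 hL))
  · intro h L hL
    exact (acyclic_iff (T L K)).1 (h L ((acyclic_iff L).2 hL))

/-- tensoring a bounded above complex with an acyclic K-flat complex is acyclic -/
theorem acyclic_of_isStrictlyLE (K : Cx O) (hK : ModSite.IsKFlat K)
    (hA : ∀ i : ℤ, IsZero (K.homology i)) (F : Cx O) (b : ℤ) [F.IsStrictlyLE b] :
    ∀ i : ℤ, IsZero ((T F K).homology i) := by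
  obtain ⟨L, φ, hL, hLflat, _, hφ⟩ :=
    Groth.Agent.Lib.ClassResolution.exists_left_resolution (P := fun M : ModSite.Mod O => ModSite.IsFlat M)
      ⟨0, isZero_zero _, isFlat_of_isZero (isZero_zero _)⟩ (exists_epi_of_isFlat O) F b
  have hLK : ModSite.IsKFlat L := isKFlat_of_isStrictlyLE L b hLflat
  have h1 : ∀ i, IsZero ((T L K).homology i) := fun i =>
    isZero_homology_symm K L i (hLK K hA i)
  have h2 : QuasiIso (HomologicalComplex.mapBifunctorMap φ (𝟙 K) (ModSite.tensorBi O)
      (ComplexShape.up ℤ)) :=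
    Groth.Agent.S9050.result O K ((isKFlat_iff K).1 hK) L F φ
  intro i
  have h3 : QuasiIsoAt (HomologicalComplex.mapBifunctorMap φ (𝟙 K) (ModSite.tensorBi O)
      (ComplexShape.up ℤ)) i := h2.quasiIsoAt i
  exact (h1 i).of_iso (asIso (HomologicalComplex.homologyMap
    (HomologicalComplex.mapBifunctorMap φ (𝟙 K) (ModSite.tensorBi O) (ComplexShape.up ℤ)) i)).symm

/-- sequential colimits in the first variable -/
theorem acyclic_of_isColimit_nat (K : Cx O) {D : ℕ ⥤ Cx O} {c : Cocone D} (hc : IsColimit c)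
    (h : ∀ (n : ℕ) (i : ℤ), IsZero ((T (D.obj n) K).homology i)) :
    ∀ i : ℤ, IsZero ((T c.pt K).homology i) := by
  intro i
  have := hasExactColimitsOfShape_nat O
  haveI : PreservesColimitsOfShape ℕ ((ModSite.tensorCx O).obj K) :=
    Groth.Agent.Lib.BifunctorColim35.preservesColimitsOfShape_map₂ (ModSite.tensorBi O) ℕ K
  have hc1 : IsColimit (((ModSite.tensorCx O).obj K).mapCocone c) :=
    isColimitOfPreserves _ hc
  have hc2 := isColimitOfPreserves
    (HomologicalComplex.homologyFunctor (ModSite.Mod O) (ComplexShape.up ℤ) i) hc1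
  have h3 := isZero_of_isColimit_of_isZero hc2
    (fun n => isZero_homology_symm (D.obj n) K i (h n i))
  exact isZero_homology_symm K c.pt i h3

/-- tensoring any complex with an acyclic K-flat complex is acyclic -/
theorem acyclic_tensor_of_acyclic_isKFlat (K : Cx O) (hK : ModSite.IsKFlat K)
    (hA : ∀ i : ℤ, IsZero (K.homology i)) (F : Cx O) :
    ∀ i : ℤ, IsZero ((T F K).homology i) := by
  have := acyclic_of_isColimit_nat K (isColimitTrCocone F)
    (fun n => acyclic_of_isStrictlyLE K hK hA ((trSeq F).obj n) (n : ℤ))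
  exact this

/-- tensoring with a quasi-isomorphism between K-flat complexes is a quasi-isomorphism -/
theorem quasiIso_tensor_of_isKFlat (P Q : Cx O) (hP : ModSite.IsKFlat P) (hQ : ModSite.IsKFlat Q)
    (α : P ⟶ Q) [QuasiIso α] (F : Cx O) :
    QuasiIso (HomologicalComplex.mapBifunctorMap (𝟙 F) α (ModSite.tensorBi O)
      (ComplexShape.up ℤ)) := by
  rw [Groth.Agent.Lib.ConeQuasiIso.quasiIso_iff_acyclic_mappingCone]
  have h1 : (CochainComplex.mappingCone α).Acyclic :=
    (Groth.Agent.Lib.ConeQuasiIso.quasiIso_iff_acyclic_mappingCone α).1 inferInstance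
  have h2 : ModSite.IsKFlat (CochainComplex.mappingCone α) :=
    (Groth.Agent.S9056.result O α).1 hP hQ
  have h3 := acyclic_tensor_of_acyclic_isKFlat _ h2 ((acyclic_iff _).1 h1) F
  rw [acyclic_iff]
  intro i
  exact (h3 i).of_iso ((HomologicalComplex.homologyFunctor _ _ i).mapIso
    (Groth.Agent.Lib.BifunctorCone66.coneIso₂ (ModSite.tensorBi O) F α)).symm

end Groth.Agent.Lib.ModSiteKFlatQis66
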