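/-
helper66: on a ringed site, the cycles of an acyclic K-flat complex with flat terms are flat (S9052).
-/
import Groth.Agent.Lib.ModSiteKFlatQis66
import Mathlib.CategoryTheory.Abelian.Refinements
import Groth.Agent.Lib.AbTensorFlat

universe u
open CategoryTheory Limits HomologicalComplex ZeroObject

namespace Groth.Agent.Lib.ModSiteCyclesFlat66

open Groth.Agent.Lib.ModSiteKFlatBdd66 Groth.Agent.Lib.ModSiteKFlatQis66 Groth.Agent.Lib.ModSiteFlat

variable {C : Type u} [SmallCategory C] {J : GrothendieckTopology C} {O : Sheaf J CommRingCat.{u}}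

lemma isZero_tensor_left {A : ModSite.Mod O} (hA : IsZero A) (B : ModSite.Mod O) :
    IsZero (((ModSite.tensorBi O).obj A).obj B) :=
  ((ModSite.tensorBi O).map_isZero hA).obj B

/-- if the first complex is concentrated in degree `0`, the total complex is `F⁰ ⊗ K` -/
theorem exact_of_concentrated (F K : Cx O) (hF : ∀ p, p ≠ 0 → IsZero (F.X p))
    (hT : ∀ i, IsZero ((T F K).homology i)) (m : ℤ) :
    ((K.sc' m (m + 1) (m + 1 + 1)).map ((ModSite.tensorBi O).obj (F.X 0))).Exact := by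
  have hex : ((T F K).sc' m (m + 1) (m + 1 + 1)).Exact :=
    ((T F K).exactAt_iff' m (m + 1) (m + 1 + 1) (by simp) (by simp)).1
      ((HomologicalComplex.exactAt_iff_isZero_homology _ _).2 (hT (m + 1)))
  have hz : ∀ (n₀ : ℤ) (p' q' : ℤ), p' + q' = n₀ → ¬ (p' = 0 ∧ q' = n₀) →
      IsZero (((ModSite.tensorBi O).obj (F.X p')).obj (K.X q')) := by
    intro n₀ p' q' h' hne
    refine isZero_tensor_left (hF p' ?_) _
    intro hp
    exact hne ⟨hp, by omega⟩
  have i₁ := isIso_ιMapBifunctor F K 0 m m (zero_add _) (hz m)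
  have i₂ := isIso_ιMapBifunctor F K 0 (m + 1) (m + 1) (zero_add _) (hz (m + 1))
  have i₃ := isIso_ιMapBifunctor F K 0 (m + 1 + 1) (m + 1 + 1) (zero_add _) (hz (m + 1 + 1))
  have hd0 : F.d 0 (0 + 1) = 0 := (hF (0 + 1) (by omega)).eq_of_tgt _ _
  have c₁ := Groth.Agent.Lib.BifunctorCone66.ι_d (ModSite.tensorBi O) K F 0 m m
    (zero_add _) (m + 1) rfl
  have c₂ := Groth.Agent.Lib.BifunctorCone66.ι_d (ModSite.tensorBi O) K F 0 (m + 1) (m + 1)
    (zero_add _) (m + 1 + 1) rfl
  rw [hd0, Functor.map_zero, NatTrans.app_zero, zero_comp, zero_add, Int.negOnePow_zero,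
    one_smul] at c₁ c₂
  refine ShortComplex.exact_of_iso (ShortComplex.isoMk
    (@asIso _ _ _ _ _ i₁) (@asIso _ _ _ _ _ i₂) (@asIso _ _ _ _ _ i₃) ?_ ?_).symm hex
  · exact c₁
  · exact c₂

/-- tensoring an acyclic K-flat complex with a module gives an exact complex -/
theorem exact_tensor_obj (K : Cx O) (hK : ModSite.IsKFlat K) (hA : ∀ i, IsZero (K.homology i))
    (M : ModSite.Mod O) (m : ℤ) :
    ((K.sc' m (m + 1) (m + 1 + 1)).map ((ModSite.tensorBi O).obj M)).Exact := by
  let F : Cx O := (HomologicalComplex.single (ModSite.Mod O) (ComplexShape.up ℤ) 0).obj M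
  have hF : ∀ p, p ≠ 0 → IsZero (F.X p) := fun p hp =>
    HomologicalComplex.isZero_single_obj_X _ _ _ _ hp
  have h := exact_of_concentrated F K hF (acyclic_tensor_of_acyclic_isKFlat K hK hA F) m
  let e : F.X 0 ≅ M := HomologicalComplex.singleObjXSelf _ 0 M
  exact ShortComplex.exact_of_iso
    ((K.sc' m (m + 1) (m + 1 + 1)).mapNatIso ((ModSite.tensorBi O).mapIso e)) h

section Abstract

variable {𝒜 : Type*} [Category 𝒜] [Abelian 𝒜]

/-- if `a = e ≫ i`, `b = e' ≫ i'` with `e'` epi, `(a, b)` exact and `i ≫ e' = 0`, then `i'` is a mono -/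
lemma mono_of_exact_factor {A B C' Z Z' : 𝒜} (a : A ⟶ B) (b : B ⟶ C') (w : a ≫ b = 0)
    (hab : (ShortComplex.mk a b w).Exact) (e : A ⟶ Z) (i : Z ⟶ B) (hei : e ≫ i = a)
    (e' : B ⟶ Z') [Epi e'] (i' : Z' ⟶ C') (hei' : e' ≫ i' = b) (hie' : i ≫ e' = 0) : Mono i' := by
  rw [Preadditive.mono_iff_cancel_zero]
  intro T₀ y hy
  obtain ⟨T₁, π₁, _, y', h₁⟩ := surjective_up_to_refinements_of_epi e' y
  have h2 : y' ≫ b = 0 := by
    rw [← hei', ← Category.assoc, ← h₁, Category.assoc, hy, comp_zero]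
  obtain ⟨T₂, π₂, _, z, h₂⟩ := hab.exact_up_to_refinements y' h2
  dsimp at z h₂
  have h3 : (π₂ ≫ π₁) ≫ y = 0 := by
    rw [Category.assoc, h₁, ← Category.assoc, h₂, ← hei, Category.assoc, Category.assoc, hie',
      comp_zero, comp_zero]
  rwa [← cancel_epi (π₂ ≫ π₁), comp_zero]

open Groth.Agent.Lib.AbTensorFlat in
/-- Tor-free flatness of the third term of a short exact sequence `0 → Z → P → Z'' → 0` with `P` flat
such that `M ⊗ Z → M ⊗ P` is a monomorphism for all `M` -/
theorem preservesMono_X₃ (T : 𝒜 ⥤ 𝒜 ⥤ 𝒜)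
    [∀ X, (T.obj X).Additive] [∀ X, PreservesFiniteColimits (T.obj X)]
    [∀ Y, (T.flip.obj Y).Additive] [∀ Y, PreservesFiniteColimits (T.flip.obj Y)]
    (S : ShortComplex 𝒜) (hS : S.ShortExact)
    (h₂ : (T.flip.obj S.X₂).PreservesMonomorphisms)
    (h₁ : ∀ M : 𝒜, Mono ((T.obj M).map S.f)) :
    (T.flip.obj S.X₃).PreservesMonomorphisms := by
  refine ⟨fun {M' M} m hm => ?_⟩
  let SM : ShortComplex 𝒜 := ShortComplex.mk m (cokernel.π m) (cokernel.condition m)
  have hSM : SM.ShortExact :=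
    { exact := ShortComplex.exact_of_g_is_cokernel _ (cokernelIsCokernel m)
      mono_f := hm
      epi_g := inferInstanceAs (Epi (cokernel.π m)) }
  have rowM' := rightExact (T.obj M') S hS
  have rowM := rightExact (T.obj M) S hS
  have colZ := rightExact (T.flip.obj S.X₁) SM hSM
  have monoβ : Mono ((T.flip.obj S.X₂).map m) := inferInstance
  have monoQ := h₁ (cokernel m)
  have := rowM'.2
  change Mono ((T.map m).app S.X₃)
  rw [Preadditive.mono_iff_cancel_zero]
  intro T₀ y hy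
  obtain ⟨T₁, π₁, _, y', e₁⟩ := surjective_up_to_refinements_of_epi ((T.obj M').map S.g) y
  have nat_g : (T.obj M').map S.g ≫ (T.map m).app S.X₃ = (T.map m).app S.X₂ ≫ (T.obj M).map S.g :=
    (T.map m).naturality S.g
  have nat_f : (T.obj M').map S.f ≫ (T.map m).app S.X₂ = (T.map m).app S.X₁ ≫ (T.obj M).map S.f :=
    (T.map m).naturality S.f
  have nat_fQ : (T.obj M).map S.f ≫ (T.map (cokernel.π m)).app S.X₂ =
      (T.map (cokernel.π m)).app S.X₁ ≫ (T.obj (cokernel m)).map S.f :=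
    (T.map (cokernel.π m)).naturality S.f
  have h2 : (y' ≫ (T.map m).app S.X₂) ≫ (T.obj M).map S.g = 0 := by
    rw [Category.assoc, ← nat_g, ← Category.assoc, ← e₁, Category.assoc, hy, comp_zero]
  obtain ⟨T₂, π₂, _, z₀, e₂⟩ := rowM.1.exact_up_to_refinements (y' ≫ (T.map m).app S.X₂) h2
  let z : T₂ ⟶ (T.obj M).obj S.X₁ := z₀
  have e₂' : π₂ ≫ y' ≫ (T.map m).app S.X₂ = z ≫ (T.obj M).map S.f := e₂
  have colP : (T.map m).app S.X₂ ≫ (T.map (cokernel.π m)).app S.X₂ = 0 := by
    change (T.flip.obj S.X₂).map m ≫ (T.flip.obj S.X₂).map (cokernel.π m) = 0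
    rw [← Functor.map_comp, cokernel.condition, Functor.map_zero]
  have h3 : z ≫ (T.map (cokernel.π m)).app S.X₁ = 0 := by
    rw [← cancel_mono ((T.obj (cokernel m)).map S.f), zero_comp, Category.assoc, ← nat_fQ,
      ← Category.assoc, ← e₂', Category.assoc, Category.assoc, colP, comp_zero, comp_zero]
  obtain ⟨T₃, π₃, _, w₀, e₃⟩ := colZ.1.exact_up_to_refinements z h3
  let w' : T₃ ⟶ (T.obj M').obj S.X₁ := w₀
  have e₃' : π₃ ≫ z = w' ≫ (T.map m).app S.X₁ := e₃
  have h4 : w' ≫ (T.obj M').map S.f = π₃ ≫ π₂ ≫ y' := by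
    rw [← cancel_mono ((T.flip.obj S.X₂).map m)]
    change (w' ≫ (T.obj M').map S.f) ≫ (T.map m).app S.X₂ = (π₃ ≫ π₂ ≫ y') ≫ (T.map m).app S.X₂
    rw [Category.assoc, nat_f, ← Category.assoc, ← e₃', Category.assoc, ← e₂', Category.assoc,
      Category.assoc]
  have h5 : (π₃ ≫ π₂ ≫ π₁) ≫ y = 0 := by
    rw [Category.assoc, Category.assoc, e₁, ← Category.assoc π₂, ← Category.assoc π₃, ← h4,
      Category.assoc, ← Functor.map_comp, S.zero, Functor.map_zero, comp_zero]
  rwa [← cancel_epi (π₃ ≫ π₂ ≫ π₁), comp_zero]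

section Cycles

variable (K : CochainComplex 𝒜 ℤ)

@[reassoc (attr := simp)]
lemma iCycles_toCycles (i j : ℤ) : K.iCycles i ≫ K.toCycles i j = 0 := by
  rw [← cancel_mono (K.iCycles j), Category.assoc, HomologicalComplex.toCycles_i,
    HomologicalComplex.iCycles_d, zero_comp]

lemma epi_toCycles (i j : ℤ) (hij : i + 1 = j) (h : K.ExactAt j) : Epi (K.toCycles i j) := by
  have hex : (K.sc' i j (j + 1)).Exact :=
    (K.exactAt_iff' i j (j + 1) (by simp; omega) (by simp)).1 h
  rw [epi_iff_surjective_up_to_refinements]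
  intro T₀ y
  obtain ⟨T₁, π₁, hπ₁, x, hx⟩ := hex.exact_up_to_refinements (y ≫ K.iCycles j)
    (by
      change (y ≫ K.iCycles j) ≫ K.d j (j + 1) = 0
      rw [Category.assoc, HomologicalComplex.iCycles_d, comp_zero])
  refine ⟨T₁, π₁, hπ₁, x, ?_⟩
  rw [← cancel_mono (K.iCycles j), Category.assoc, Category.assoc, HomologicalComplex.toCycles_i]
  exact hx

/-- the short exact sequence `0 → Zⁱ → Kⁱ → Zⁱ⁺¹ → 0` of a complex exact in degree `i + 1` -/
lemma cycles_shortExact (i : ℤ) (h : K.ExactAt (i + 1)) :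
    (ShortComplex.mk (K.iCycles i) (K.toCycles i (i + 1)) (iCycles_toCycles K i (i + 1))).ShortExact := by
  have := epi_toCycles K i (i + 1) rfl h
  refine ShortComplex.ShortExact.mk' ?_ (inferInstanceAs (Mono (K.iCycles i)))
    (inferInstanceAs (Epi (K.toCycles i (i + 1))))
  rw [ShortComplex.exact_iff_exact_up_to_refinements]
  intro T₀ x hx
  have hx' : x ≫ K.toCycles i (i + 1) = 0 := hx
  refine ⟨T₀, 𝟙 T₀, inferInstance, K.liftCycles x (i + 1) (by simp) ?_, ?_⟩
  · rw [← HomologicalComplex.toCycles_i K i (i + 1), ← Category.assoc, hx', zero_comp]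
  · dsimp
    rw [Category.id_comp, HomologicalComplex.liftCycles_i]

end Cycles

end Abstract

/-- the cycles of an acyclic K-flat complex with flat terms are flat -/
theorem isFlat_cycles (K : Cx O) (hK : ModSite.IsKFlat K) (hA : ∀ i, IsZero (K.homology i))
    (hfl : ∀ i : ℤ, ModSite.IsFlat (K.X i)) (n : ℤ) : ModSite.IsFlat (K.cycles n) := by
  obtain ⟨i, rfl⟩ : ∃ i, n = i + 1 + 1 + 1 := ⟨n - 3, by omega⟩
  have hex : ∀ j, K.ExactAt j := fun j =>
    (HomologicalComplex.exactAt_iff_isZero_homology K j).2 (hA j)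
  rw [isFlat_iff_preservesMono_flip]
  let S := ShortComplex.mk (K.iCycles (i + 1 + 1)) (K.toCycles (i + 1 + 1) (i + 1 + 1 + 1))
    (iCycles_toCycles K _ _)
  have hS : S.ShortExact := cycles_shortExact K (i + 1 + 1) (hex _)
  refine preservesMono_X₃ (ModSite.tensorBi O) S hS
    ((isFlat_iff_preservesMono_flip (K.X (i + 1 + 1))).1 (hfl _)) (fun M => ?_)
  have h1 := exact_tensor_obj K hK hA M i
  have := epi_toCycles K (i + 1) (i + 1 + 1) rfl (hex _)
  have : ((ModSite.tensorBi O).obj M).PreservesEpimorphisms :=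
    preservesEpimorphisms_of_preservesColimitsOfShape _
  have hepi : Epi (((ModSite.tensorBi O).obj M).map (K.toCycles (i + 1) (i + 1 + 1))) :=
    Functor.map_epi _ _
  have e1 : ((ModSite.tensorBi O).obj M).map (K.toCycles i (i + 1)) ≫
      ((ModSite.tensorBi O).obj M).map (K.iCycles (i + 1)) =
      ((ModSite.tensorBi O).obj M).map (K.d i (i + 1)) := by
    rw [← Functor.map_comp, HomologicalComplex.toCycles_i]
  have e2 : ((ModSite.tensorBi O).obj M).map (K.toCycles (i + 1) (i + 1 + 1)) ≫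
      ((ModSite.tensorBi O).obj M).map (K.iCycles (i + 1 + 1)) =
      ((ModSite.tensorBi O).obj M).map (K.d (i + 1) (i + 1 + 1)) := by
    rw [← Functor.map_comp, HomologicalComplex.toCycles_i]
  have e3 : ((ModSite.tensorBi O).obj M).map (K.iCycles (i + 1)) ≫
      ((ModSite.tensorBi O).obj M).map (K.toCycles (i + 1) (i + 1 + 1)) = 0 := by
    rw [← Functor.map_comp, iCycles_toCycles, Functor.map_zero]
  have h1' : (ShortComplex.mk (((ModSite.tensorBi O).obj M).map (K.d i (i + 1)))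
      (((ModSite.tensorBi O).obj M).map (K.d (i + 1) (i + 1 + 1)))
      (by rw [← Functor.map_comp, HomologicalComplex.d_comp_d, Functor.map_zero])).Exact := h1
  exact mono_of_exact_factor _ _ _ h1' _ _ e1
    (((ModSite.tensorBi O).obj M).map (K.toCycles (i + 1) (i + 1 + 1))) _ e2 e3

end Groth.Agent.Lib.ModSiteCyclesFlat66
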