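/-
helper66: K-flat resolutions on a ringed site (S9060) and factorization through K-flat complexes (S9061).
-/
import Groth.Agent.Lib.ModSiteKFlatQis66
import Groth.Agent.Lib.RelResolution66
import Groth.Agent.Lib.ModSiteFlatSES
import Groth.Agent.Lib.ModSiteFlatColim

universe u
open CategoryTheory Limits HomologicalComplex ZeroObject

namespace Groth.Agent.Lib.ModSiteKFlatRes66

open Groth.Agent.Lib.ModSiteKFlatBdd66 Groth.Agent.Lib.TruncLEColim66 Groth.Agent.Lib.ModSiteFlat
  Groth.Agent.Lib.RelResolution66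

variable {C : Type u} [SmallCategory C] {J : GrothendieckTopology C} {O : Sheaf J CommRingCat.{u}}

/-- bounded above flat resolutions -/
theorem exists_flat_resolution (W : Cx O) (b : ℤ) [W.IsStrictlyLE b] :
    ∃ (M : Cx O) (r : M ⟶ W), M.IsStrictlyLE b ∧ (∀ n, ModSite.IsFlat (M.X n)) ∧
      (∀ n, Epi (r.f n)) ∧ QuasiIso r :=
  Groth.Agent.Lib.ClassResolution.exists_left_resolution
    (P := fun M : ModSite.Mod O => ModSite.IsFlat M)
    ⟨0, isZero_zero _, isFlat_of_isZero (isZero_zero _)⟩ (exists_epi_of_isFlat O) W b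

/-- the middle term of a short exact sequence of complexes with flat outer terms has flat terms -/
lemma isFlat_X₂_of_shortExact {S : ShortComplex (Cx O)} (hS : S.ShortExact)
    (h₁ : ∀ n, ModSite.IsFlat (S.X₁.X n)) (h₃ : ∀ n, ModSite.IsFlat (S.X₃.X n)) (n : ℤ) :
    ModSite.IsFlat (S.X₂.X n) :=
  isFlat_X₂ (S.map (HomologicalComplex.eval _ (ComplexShape.up ℤ) n))
    (hS.map_of_exact (HomologicalComplex.eval _ (ComplexShape.up ℤ) n)) (h₁ n) (h₃ n)

/-- relative bounded above flat resolution -/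
theorem exists_rel_flat_resolution {K L : Cx O} (β : K ⟶ L) (b : ℤ) [K.IsStrictlyLE b]
    [L.IsStrictlyLE b] (hK : ∀ n, ModSite.IsFlat (K.X n)) :
    ∃ (N : Cx O) (ι : K ⟶ N) (π : N ⟶ L), ι ≫ π = β ∧ N.IsStrictlyLE b ∧
      (∀ n, ModSite.IsFlat (N.X n)) ∧ (∀ n, Epi (π.f n)) ∧ QuasiIso π := by
  obtain ⟨M, r, hM, hMflat, hrepi, hrq⟩ := exists_flat_resolution (relW β) b
  refine ⟨relN β r, relι β r, relπ β r, relι_π β r, isStrictlyLE_relN β r b, ?_,
    epi_relπ_f β r hrepi, quasiIso_relπ β r hrq⟩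
  have h := isFlat_X₂_of_shortExact
    (S := ShortComplex.mk (relι β r) (relp β r) (relι_p β r)) (rel_shortExact β r) hK hMflat
  exact h

section ColimMap

variable {J' : Type*} [Category J'] {B : Type*} [Category B] {D₁ D₂ : J' ⥤ B} (α : D₁ ⟶ D₂)
  {c₁ : Cocone D₁} (hc₁ : IsColimit c₁) {c₂ : Cocone D₂} (hc₂ : IsColimit c₂)

include hc₂ in
lemma isIso_colimMap_of_isIso (h : ∀ j, IsIso (α.app j)) : IsIso (hc₁.map c₂ α) := by
  have : IsIso α := NatIso.isIso_of_isIso_app α
  have h1 : (IsColimit.coconePointsIsoOfNatIso hc₁ hc₂ (asIso α)).hom = hc₁.map c₂ α := rfl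
  rw [← h1]
  infer_instance

include hc₂ in
lemma epi_colimMap_of_epi (h : ∀ j, Epi (α.app j)) : Epi (hc₁.map c₂ α) := by
  refine ⟨fun {Z} u v huv => ?_⟩
  apply hc₂.hom_ext
  intro j
  have := h j
  rw [← cancel_epi (α.app j)]
  have h1 : α.app j ≫ c₂.ι.app j = c₁.ι.app j ≫ hc₁.map c₂ α := (hc₁.ι_map c₂ α j).symm
  rw [reassoc_of% h1, reassoc_of% h1, huv]

lemma map_colimMap {B' : Type*} [Category B'] (F : B ⥤ B') (hF : IsColimit (F.mapCocone c₁)) :
    F.map (hc₁.map c₂ α) = hF.map (F.mapCocone c₂) (Functor.whiskerRight α F) := by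
  apply hF.hom_ext
  intro j
  rw [hF.ι_map]
  dsimp
  rw [← F.map_comp, ← F.map_comp, hc₁.ι_map]

end ColimMap

section Tower

variable (G : Cx O)

/-- a bounded above flat resolution of the `n`-th canonical truncation -/
structure Stage (n : ℕ) where
  /-- the resolving complex -/
  K : Cx O
  /-- the resolution map -/
  π : K ⟶ (trSeq G).obj n
  le : K.IsStrictlyLE (n : ℤ)
  flat : ∀ i, ModSite.IsFlat (K.X i)
  qis : QuasiIso π
  epi : ∀ i, Epi (π.f i)

lemma exists_stage_zero : Nonempty (Stage G 0) := by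
  obtain ⟨M, r, hM, hMflat, hrepi, hrq⟩ := exists_flat_resolution ((trSeq G).obj 0) ((0 : ℕ) : ℤ)
  exact ⟨⟨M, r, hM, hMflat, hrq, hrepi⟩⟩

lemma exists_stage_succ {n : ℕ} (s : Stage G n) :
    ∃ (s' : Stage G (n + 1)) (ι : s.K ⟶ s'.K),
      ι ≫ s'.π = s.π ≫ (trSeq G).map (homOfLE (Nat.le_succ n)) := by
  have := s.le
  have h1 : s.K.IsStrictlyLE ((n + 1 : ℕ) : ℤ) :=
    s.K.isStrictlyLE_of_le (n : ℤ) _ (by push_cast; omega)
  obtain ⟨N, ι, π, hιπ, hN, hNflat, hπepi, hπq⟩ :=
    exists_rel_flat_resolution (s.π ≫ (trSeq G).map (homOfLE (Nat.le_succ n)))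
      ((n + 1 : ℕ) : ℤ) s.flat
  exact ⟨⟨N, π, hN, hNflat, hπq, hπepi⟩, ι, hιπ⟩

/-- the next stage -/
noncomputable def nextStage {n : ℕ} (s : Stage G n) : Stage G (n + 1) :=
  (exists_stage_succ G s).choose

/-- the transition map to the next stage -/
noncomputable def nextι {n : ℕ} (s : Stage G n) : s.K ⟶ (nextStage G s).K :=
  (exists_stage_succ G s).choose_spec.choose

lemma nextι_π {n : ℕ} (s : Stage G n) :
    nextι G s ≫ (nextStage G s).π = s.π ≫ (trSeq G).map (homOfLE (Nat.le_succ n)) :=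
  (exists_stage_succ G s).choose_spec.choose_spec

/-- the tower of stages -/
noncomputable def stage : ∀ n : ℕ, Stage G n
  | 0 => (exists_stage_zero G).some
  | n + 1 => nextStage G (stage n)

/-- the tower of resolutions -/
noncomputable def towerSeq : ℕ ⥤ Cx O :=
  Functor.ofSequence (X := fun n => (stage G n).K) (fun n => nextι G (stage G n))

/-- the maps to the tower of truncations -/
noncomputable def towerπ : towerSeq G ⟶ trSeq G :=
  NatTrans.ofSequence (fun n => (stage G n).π) (fun n => by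
    dsimp only [towerSeq]
    rw [Functor.ofSequence_map_homOfLE_succ]
    exact nextι_π G (stage G n))

lemma towerπ_app (n : ℕ) : (towerπ G).app n = (stage G n).π := rfl

lemma towerSeq_obj (n : ℕ) : (towerSeq G).obj n = (stage G n).K := rfl

end Tower

section NatColim

variable (O) in
/-- a colimit along `ℕ` of flat modules is flat -/
theorem isFlat_of_isColimit_nat {D : ℕ ⥤ ModSite.Mod O} {c : Cocone D} (hc : IsColimit c)
    (hD : ∀ n, ModSite.IsFlat (D.obj n)) : ModSite.IsFlat c.pt := by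
  let e : ULiftHom.{u} (ULift.{u} ℕ) ≌ ℕ := (ULiftHomULiftCategory.equiv.{u, u} ℕ).symm
  have : IsFiltered (ULiftHom.{u} (ULift.{u} ℕ)) := IsFiltered.of_equivalence e.symm
  have : HasExactColimitsOfShape (ULiftHom.{u} (ULift.{u} ℕ)) AddCommGrpCat.{u} := inferInstance
  have := Groth.Agent.Lib.ModSiteTensor.hasExactColimitsOfShape O (ULiftHom.{u} (ULift.{u} ℕ))
  have hc' : IsColimit (c.whisker e.functor) := (Functor.Final.isColimitWhiskerEquiv e.functor c).symm hc
  have h := Groth.Agent.Lib.ModSiteTensor.isFlat_of_isColimit O (e.functor ⋙ D)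
    (fun i => hD (e.functor.obj i)) (c.whisker e.functor) hc'
  exact h

end NatColim

section Main

variable (G : Cx O)

/-- the K-flat resolution -/
noncomputable def res : Cx O := colimit (towerSeq G)

/-- the resolution map -/
noncomputable def resπ : res G ⟶ G :=
  (colimit.isColimit (towerSeq G)).map (trCocone G) (towerπ G)

lemma isKFlat_stage (n : ℕ) : ModSite.IsKFlat ((towerSeq G).obj n) := by
  have := (stage G n).le
  exact isKFlat_of_isStrictlyLE (stage G n).K (n : ℤ) (stage G n).flat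

theorem isKFlat_res : ModSite.IsKFlat (res G) := by
  have := isKFlat_of_isColimit_nat (colimit.isColimit (towerSeq G)) (isKFlat_stage G)
  exact this

theorem isFlat_res_X (i : ℤ) : ModSite.IsFlat ((res G).X i) := by
  have hc := isColimitOfPreserves (HomologicalComplex.eval (ModSite.Mod O) (ComplexShape.up ℤ) i)
    (colimit.isColimit (towerSeq G))
  have := isFlat_of_isColimit_nat O hc (fun n => (stage G n).flat i)
  exact this

theorem epi_resπ_f (i : ℤ) : Epi ((resπ G).f i) := by
  have hc₁ := isColimitOfPreserves (HomologicalComplex.eval (ModSite.Mod O) (ComplexShape.up ℤ) i)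
    (colimit.isColimit (towerSeq G))
  have hc₂ := isColimitOfPreserves (HomologicalComplex.eval (ModSite.Mod O) (ComplexShape.up ℤ) i)
    (isColimitTrCocone G)
  have h1 := map_colimMap (towerπ G) (colimit.isColimit (towerSeq G)) (c₂ := trCocone G)
    (HomologicalComplex.eval (ModSite.Mod O) (ComplexShape.up ℤ) i) hc₁
  have h2 := epi_colimMap_of_epi (Functor.whiskerRight (towerπ G)
    (HomologicalComplex.eval (ModSite.Mod O) (ComplexShape.up ℤ) i)) hc₁ hc₂
    (fun n => (stage G n).epi i)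
  rw [← h1] at h2
  exact h2

theorem quasiIso_resπ : QuasiIso (resπ G) := by
  rw [quasiIso_iff]
  intro i
  rw [quasiIsoAt_iff_isIso_homologyMap]
  have := hasExactColimitsOfShape_nat O
  have hc₁ := isColimitOfPreserves
    (HomologicalComplex.homologyFunctor (ModSite.Mod O) (ComplexShape.up ℤ) i)
    (colimit.isColimit (towerSeq G))
  have hc₂ := isColimitOfPreserves
    (HomologicalComplex.homologyFunctor (ModSite.Mod O) (ComplexShape.up ℤ) i)
    (isColimitTrCocone G)
  have h1 := map_colimMap (towerπ G) (colimit.isColimit (towerSeq G)) (c₂ := trCocone G)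
    (HomologicalComplex.homologyFunctor (ModSite.Mod O) (ComplexShape.up ℤ) i) hc₁
  have h2 := isIso_colimMap_of_isIso (Functor.whiskerRight (towerπ G)
    (HomologicalComplex.homologyFunctor (ModSite.Mod O) (ComplexShape.up ℤ) i)) hc₁ hc₂
    (fun n => by
      have h3 : QuasiIsoAt (stage G n).π i := (stage G n).qis.quasiIsoAt i
      rw [quasiIsoAt_iff_isIso_homologyMap] at h3
      exact h3)
  rw [← h1] at h2
  exact h2

/-- K-flat resolutions exist on a ringed site (S9060) -/
theorem exists_isKFlat_resolution :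
    ∃ (K : Cx O) (q : K ⟶ G), ModSite.IsKFlat K ∧ (∀ n : ℤ, ModSite.IsFlat (K.X n)) ∧
      QuasiIso q ∧ ∀ n : ℤ, Epi (q.f n) :=
  ⟨res G, resπ G, isKFlat_res G, isFlat_res_X G, quasiIso_resπ G, epi_resπ_f G⟩

/-- factorization of a map out of a K-flat complex through a K-flat complex quasi-isomorphic to the
target (S9061), with strict commutativity -/
theorem exists_factor_isKFlat {K L : Cx O} (a : K ⟶ L) (hK : ModSite.IsKFlat K) :
    ∃ (N : Cx O) (b : K ⟶ N) (c : N ⟶ L), ModSite.IsKFlat N ∧ QuasiIso c ∧ b ≫ c = a ∧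
      ((∀ n : ℤ, ModSite.IsFlat (K.X n)) → ∀ n : ℤ, ModSite.IsFlat (N.X n)) := by
  obtain ⟨M, r, hMK, hMflat, hrq, hrepi⟩ := exists_isKFlat_resolution (relW a)
  refine ⟨relN a r, relι a r, relπ a r, ?_, quasiIso_relπ a r hrq, relι_π a r, ?_⟩
  · have h := isKFlat_X₂ (ShortComplex.mk (relι a r) (relp a r) (relι_p a r))
      (rel_shortExact a r) hMflat hK hMK
    exact h
  · intro hKflat
    have h := isFlat_X₂_of_shortExact
      (S := ShortComplex.mk (relι a r) (relp a r) (relι_p a r)) (rel_shortExact a r) hKflat hMflat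
    exact h

end Main

end Groth.Agent.Lib.ModSiteKFlatRes66
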