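import Groth.Agent.Lib.LeftDerivedVerdier21
import Groth.Agent.Lib.ModSiteKFlatRes66
import Groth.Agent.Lib.ModSiteCyclesFlat66
import Groth.Agent.S9056
import Mathlib.Algebra.Homology.BifunctorShift
import Mathlib.Algebra.Homology.HomotopyCategory.Acyclic
import Mathlib.Algebra.Homology.DerivedCategory.Basic

/-!
# K-flat complexes as a Verdier-left-localizing triangulated subcategory of `K(Mod O)` (helper21)

Ringed site `(C, O)`.  `kflat O : ObjectProperty (HomotopyCategory (Mod O) (up ℤ))` is the (strict) image of the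
K-flat complexes (`ModSite.IsKFlat`).  It is a triangulated subcategory (helper66's S9056 + shift), it is left
localizing with respect to the acyclic complexes (helper66 `exists_factor_isKFlat`) and every complex has a
K-flat resolution (helper66 `exists_isKFlat_resolution`).  With the generic keystone `LeftDerivedVerdier21` this
gives: every functor `F : K(Mod O) ⥤ H` inverting the quasi-isomorphisms between K-flat complexes has a left
derived functor with respect to `HomotopyCategory.quasiIso`, and the counit of ANY left derived functor is an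
isomorphism on K-flat complexes.
-/

set_option autoImplicit false
universe u

open CategoryTheory Limits Pretriangulated HomologicalComplex ZeroObject

namespace Groth.Agent.Lib.KFlatTri21

open Groth.Agent.Lib.ModSiteKFlatBdd66 Groth.Agent.Lib.ModSiteKFlatQis66

variable {C : Type u} [SmallCategory C] {J : GrothendieckTopology C} (O : Sheaf J CommRingCat.{u})

/-- K-flatness is stable under shifts -/
theorem isKFlat_shift {K : Cx O} (hK : ModSite.IsKFlat K) (n : ℤ) : ModSite.IsKFlat (K⟦n⟧) := by
  intro F hF i
  have e : T F (K⟦n⟧) ≅ (T F K)⟦n⟧ :=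
    CochainComplex.mapBifunctorShift₂Iso F K (ModSite.tensorBi O) n
  have e2 : ((T F K)⟦n⟧).homology i ≅ (T F K).homology (n + i) :=
    ((HomologicalComplex.homologyFunctor (ModSite.Mod O) (ComplexShape.up ℤ) 0).shiftIso n i (n + i)
      rfl).app (T F K)
  exact ((hK F hF (n + i)).of_iso e2).of_iso
    ((HomologicalComplex.homologyFunctor _ _ i).mapIso e)

/-- the K-flat complexes, as a property of objects of the homotopy category -/
def kflat : ObjectProperty (HomotopyCategory (ModSite.Mod O) (ComplexShape.up ℤ)) :=
  ObjectProperty.strictMap (fun K : Cx O => ModSite.IsKFlat K) (HomotopyCategory.quotient _ _)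

variable {O}

@[simp]
lemma kflat_quotient_obj_iff (K : Cx O) :
    kflat O ((HomotopyCategory.quotient _ _).obj K) ↔ ModSite.IsKFlat K := by
  refine ⟨?_, fun h => ⟨_, h⟩⟩
  simp only [kflat, ObjectProperty.strictMap_iff]
  rintro ⟨L, h, hL⟩
  obtain rfl : L = K := congr_arg Quotient.as hL
  exact h

variable (O)

instance : (kflat O).ContainsZero where
  exists_zero :=
    ⟨(HomotopyCategory.quotient _ _).obj (0 : Cx O), Functor.map_isZero _ (isZero_zero _), by
      rw [kflat_quotient_obj_iff]
      exact isKFlat_of_isZero_X _ (fun n => (HomologicalComplex.eval _ _ n).map_isZero (isZero_zero _))⟩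

instance : (kflat O).IsStableUnderShift ℤ where
  isStableUnderShiftBy n :=
    { le_shift K hK := by
        obtain ⟨K : CochainComplex _ _, rfl⟩ := K.quotient_obj_surjective
        rw [kflat_quotient_obj_iff] at hK
        rw [ObjectProperty.prop_shift_iff, HomotopyCategory.shift_quotient_obj,
          kflat_quotient_obj_iff]
        exact isKFlat_shift O hK n }

instance : (kflat O).IsTriangulatedClosed₃ where
  ext₃' T hT h₁ h₂ := by
    have k₁ : ModSite.IsKFlat (O := O) T.obj₁.as := by rwa [← kflat_quotient_obj_iff]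
    have k₂ : ModSite.IsKFlat (O := O) T.obj₂.as := by rwa [← kflat_quotient_obj_iff]
    obtain ⟨f : T.obj₁.as ⟶ T.obj₂.as, hf⟩ := (HomotopyCategory.quotient _ _).map_surjective T.mor₁
    refine ⟨_, ?_,
      ⟨Triangle.π₃.mapIso (isoTriangleOfIso₁₂ T _ hT
        (HomotopyCategory.mappingCone_triangleh_distinguished f) (Iso.refl _) (Iso.refl _) ?_)⟩⟩
    · change kflat O ((HomotopyCategory.quotient _ _).obj (CochainComplex.mappingCone f))
      rw [kflat_quotient_obj_iff]
      exact (Groth.Agent.S9056.result O f).1 k₁ k₂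
    · change T.mor₁ ≫ 𝟙 _ = 𝟙 _ ≫ (HomotopyCategory.quotient _ _).map f
      rw [hf, Category.comp_id]
      exact (Category.id_comp _).symm

instance : (kflat O).IsTriangulated where
  toIsTriangulatedClosed₂ := .of_isTriangulatedClosed₃

instance : (kflat O).IsVerdierLeftLocalizing
    (HomotopyCategory.subcategoryAcyclic (ModSite.Mod O)) where
  fac {K L} φ hK hL := by
    obtain ⟨K : CochainComplex _ _, rfl⟩ := HomotopyCategory.quotient_obj_surjective K
    obtain ⟨L : CochainComplex _ _, rfl⟩ := HomotopyCategory.quotient_obj_surjective L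
    obtain ⟨φ, rfl⟩ := (HomotopyCategory.quotient _ _).map_surjective φ
    rw [kflat_quotient_obj_iff] at hK
    rw [HomotopyCategory.quotient_obj_mem_subcategoryAcyclic_iff_acyclic] at hL
    obtain ⟨N, b, c, hN, hc, hbc, -⟩ :=
      Groth.Agent.Lib.ModSiteKFlatRes66.exists_factor_isKFlat φ hK
    refine ⟨(HomotopyCategory.quotient _ _).obj N, (HomotopyCategory.quotient _ _).map b,
      (HomotopyCategory.quotient _ _).map c, ?_, ?_, by rw [← Functor.map_comp, hbc]⟩
    · rw [kflat_quotient_obj_iff]; exact hN
    · rw [HomotopyCategory.quotient_obj_mem_subcategoryAcyclic_iff_acyclic]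
      intro i
      rw [HomologicalComplex.exactAt_iff_isZero_homology]
      have h1 : IsZero (L.homology i) := (HomologicalComplex.exactAt_iff_isZero_homology _ _).1 (hL i)
      have : QuasiIsoAt c i := hc.quasiIsoAt i
      exact h1.of_iso (asIso (HomologicalComplex.homologyMap c i))

theorem hasRes : Groth.Agent.Lib.LeftDerivedVerdier21.HasRes (kflat O)
    (HomotopyCategory.subcategoryAcyclic (ModSite.Mod O)) := by
  intro K
  obtain ⟨K : CochainComplex _ _, rfl⟩ := HomotopyCategory.quotient_obj_surjective K
  obtain ⟨P, q, hP, -, hq, -⟩ :=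
    Groth.Agent.Lib.ModSiteKFlatRes66.exists_isKFlat_resolution (O := O) K
  refine ⟨(HomotopyCategory.quotient _ _).obj P, (HomotopyCategory.quotient _ _).map q, ?_, ?_⟩
  · rw [kflat_quotient_obj_iff]; exact hP
  · rw [← HomotopyCategory.quasiIso_eq_trW_subcategoryAcyclic,
      HomotopyCategory.quotient_map_mem_quasiIso_iff]
    exact hq

section Derived

variable {O}
variable {H : Type*} [Category H] (F : HomotopyCategory (ModSite.Mod O) (ComplexShape.up ℤ) ⥤ H)
  (hF : ∀ ⦃P Q : Cx O⦄ (f : P ⟶ Q), ModSite.IsKFlat P → ModSite.IsKFlat Q → QuasiIso f →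
    IsIso (F.map ((HomotopyCategory.quotient _ _).map f)))

include hF

omit hF in
private lemma hF' (hF : ∀ ⦃P Q : Cx O⦄ (f : P ⟶ Q), ModSite.IsKFlat P → ModSite.IsKFlat Q → QuasiIso f →
    IsIso (F.map ((HomotopyCategory.quotient _ _).map f))) :
    ∀ ⦃P Q : HomotopyCategory (ModSite.Mod O) (ComplexShape.up ℤ)⦄ (f : P ⟶ Q), kflat O P → kflat O Q →
      (HomotopyCategory.subcategoryAcyclic (ModSite.Mod O)).trW f → IsIso (F.map f) := by
  intro P Q f hP hQ hf
  obtain ⟨P : CochainComplex _ _, rfl⟩ := HomotopyCategory.quotient_obj_surjective P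
  obtain ⟨Q : CochainComplex _ _, rfl⟩ := HomotopyCategory.quotient_obj_surjective Q
  obtain ⟨f, rfl⟩ := (HomotopyCategory.quotient _ _).map_surjective f
  rw [kflat_quotient_obj_iff] at hP hQ
  rw [← HomotopyCategory.quasiIso_eq_trW_subcategoryAcyclic,
    HomotopyCategory.quotient_map_mem_quasiIso_iff] at hf
  exact hF f hP hQ hf

/-- a functor on `K(Mod O)` inverting the quasi-isomorphisms between K-flat complexes has a left derived
functor with respect to the quasi-isomorphisms -/
theorem hasLeftDerivedFunctor :
    F.HasLeftDerivedFunctor (HomotopyCategory.quasiIso (ModSite.Mod O) (ComplexShape.up ℤ)) :=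
  Groth.Agent.Lib.LeftDerivedVerdier21.hasLeftDerivedFunctor_of_eq F (hF' F hF) (hasRes O) _
    (HomotopyCategory.quasiIso_eq_trW_subcategoryAcyclic _)

/-- the counit of any left derived functor is an isomorphism at K-flat complexes -/
theorem isIso_counit_app {D : Type*} [Category D]
    (L : HomotopyCategory (ModSite.Mod O) (ComplexShape.up ℤ) ⥤ D)
    [L.IsLocalization (HomotopyCategory.quasiIso (ModSite.Mod O) (ComplexShape.up ℤ))]
    (LF : D ⥤ H) (α : L ⋙ LF ⟶ F)
    [LF.IsLeftDerivedFunctor α (HomotopyCategory.quasiIso (ModSite.Mod O) (ComplexShape.up ℤ))]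
    (P : Cx O) (hP : ModSite.IsKFlat P) :
    IsIso (α.app ((HomotopyCategory.quotient _ _).obj P)) :=
  Groth.Agent.Lib.LeftDerivedVerdier21.isIso_counit_app_of_eq F (hF' F hF) (hasRes O) _
    (HomotopyCategory.quasiIso_eq_trW_subcategoryAcyclic _) L LF α _
    ((kflat_quotient_obj_iff P).2 hP)

end Derived

end Groth.Agent.Lib.KFlatTri21
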