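import Mathlib.Algebra.Homology.HomotopyCategory.Shift
import Mathlib.Algebra.Homology.HomologicalComplexAbelian
import Mathlib.CategoryTheory.Abelian.Refinements

/-!
# The differential as a natural transformation `𝟭 ⟶ ⟦1⟧` on cochain complexes (helper31)

`K` is acyclic iff `K ⟶ K⟦1⟧ ⟶ K⟦1⟧⟦1⟧` is exact in the category of complexes.
-/

set_option autoImplicit false

universe v u

open CategoryTheory Limits

namespace Groth.Agent.KInjDelta31

variable {C : Type u} [Category.{v} C] [Abelian C]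

/-- the differential as a morphism `K ⟶ K⟦1⟧` -/
noncomputable def δ (K : CochainComplex C ℤ) : K ⟶ K⟦(1 : ℤ)⟧ where
  f n := K.d n (n + 1)
  comm' i j hij := by
    simp [CochainComplex.shiftFunctor_obj_d']

@[simp]
lemma δ_f (K : CochainComplex C ℤ) (n : ℤ) : (δ K).f n = K.d n (n + 1) := rfl

@[reassoc]
lemma δ_naturality {K L : CochainComplex C ℤ} (f : K ⟶ L) :
    f ≫ δ L = δ K ≫ f⟦(1 : ℤ)⟧' := by
  ext n
  simp

@[reassoc (attr := simp)]
lemma δ_comp_δ (K : CochainComplex C ℤ) : δ K ≫ δ (K⟦(1 : ℤ)⟧) = 0 := by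
  ext n
  simp [CochainComplex.shiftFunctor_obj_d']
  rfl

variable (C) in
/-- `δ` as a natural transformation -/
noncomputable def δNat : 𝟭 (CochainComplex C ℤ) ⟶ shiftFunctor (CochainComplex C ℤ) (1 : ℤ) where
  app K := δ K
  naturality _ _ f := δ_naturality f

@[simp]
lemma δNat_app (K : CochainComplex C ℤ) : (δNat C).app K = δ K := rfl

/-- the short complex `K ⟶ K⟦1⟧ ⟶ K⟦1⟧⟦1⟧` -/
noncomputable abbrev δSc (K : CochainComplex C ℤ) : ShortComplex (CochainComplex C ℤ) :=
  ShortComplex.mk (δ K) (δ (K⟦(1 : ℤ)⟧)) (δ_comp_δ K)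

lemma exact_neg_iff {X₁ X₂ X₃ : C} (f : X₁ ⟶ X₂) (g : X₂ ⟶ X₃) (w : f ≫ g = 0)
    (w' : f ≫ (-g) = 0) :
    (ShortComplex.mk f g w).Exact ↔ (ShortComplex.mk f (-g) w').Exact := by
  rw [ShortComplex.exact_iff_exact_up_to_refinements,
    ShortComplex.exact_iff_exact_up_to_refinements]
  constructor
  · intro h A x₂ hx₂
    exact h x₂ (by simpa using hx₂)
  · intro h A x₂ hx₂
    exact h x₂ (by simpa using hx₂)

lemma exactAt_succ_iff (K : CochainComplex C ℤ) (i : ℤ) : K.ExactAt (i + 1) ↔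
    ((δSc K).map (HomologicalComplex.eval C (ComplexShape.up ℤ) i)).Exact := by
  rw [HomologicalComplex.exactAt_iff' K i (i + 1) (i + 1 + 1) (by simp) (by simp)]
  have w' : K.d i (i + 1) ≫ (- K.d (i + 1) (i + 1 + 1)) = 0 := by simp
  rw [show (K.sc' i (i + 1) (i + 1 + 1)).Exact ↔ (ShortComplex.mk _ _ w').Exact from
    exact_neg_iff _ _ _ _]
  exact ShortComplex.exact_iff_of_iso (ShortComplex.isoMk (Iso.refl _) (Iso.refl _) (Iso.refl _)
    (by simp; erw [Category.id_comp, Category.comp_id])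
    (by simp [CochainComplex.shiftFunctor_obj_d']; erw [Category.id_comp, Category.comp_id]; rfl))

lemma acyclic_iff_exact (K : CochainComplex C ℤ) : K.Acyclic ↔ (δSc K).Exact := by
  rw [HomologicalComplex.exact_iff_degreewise_exact]
  constructor
  · intro h i
    exact (exactAt_succ_iff K i).1 (h _)
  · intro h n
    have := (exactAt_succ_iff K (n - 1)).2 (h _)
    simpa using this

end Groth.Agent.KInjDelta31
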