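import Mathlib.Algebra.Homology.HomotopyCategory.KInjective
import Mathlib.Algebra.Homology.HomotopyCategory.HomComplexCohomology
import Mathlib.Algebra.Homology.HomotopyCategory.DegreewiseSplit
import Mathlib.Algebra.Homology.HomologicalComplexAbelian
import Mathlib.Algebra.Homology.Double
import Mathlib.Algebra.Homology.HomologySequenceLemmas
import Mathlib.CategoryTheory.Preadditive.Injective.Basic

/-!
# K-injective complexes with injective terms and the extension property (helper31)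
-/

set_option autoImplicit false

open CategoryTheory CategoryTheory.Limits CochainComplex HomComplex

universe v u

namespace Groth.Agent.KInjExt31

variable {A : Type u} [Category.{v} A] [Abelian A]

/-- K-injective complexes with injective terms have the extension property along monomorphisms
with acyclic cokernel. -/
lemma exists_extension (I : CochainComplex A ℤ) [I.IsKInjective] [∀ n, Injective (I.X n)]
    (S : ShortComplex (CochainComplex A ℤ)) (hS : S.ShortExact) (hC : S.X₃.Acyclic)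
    (φ : S.X₁ ⟶ I) : ∃ ψ : S.X₂ ⟶ I, S.f ≫ ψ = φ := by
  have hSp : ∀ p : ℤ,
      (S.map (HomologicalComplex.eval A (ComplexShape.up ℤ) p)).ShortExact :=
    fun p => hS.map_of_exact _
  have hmono : ∀ p, Mono (S.f.f p) := fun p => (hSp p).mono_f
  have hepi : ∀ p, Epi (S.g.f p) := fun p => (hSp p).epi_g
  have hepi' : ∀ p, Epi (S.map (HomologicalComplex.eval A (ComplexShape.up ℤ) p)).g :=
    fun p => (hSp p).epi_g
  -- Step 1: termwise extension
  let ψ₁ : Cochain S.X₂ I 0 :=
    Cochain.ofHoms (fun p => Injective.factorThru (φ.f p) (S.f.f p))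
  have hψ₁ : (Cochain.ofHom S.f).comp ψ₁ (zero_add 0) = Cochain.ofHom φ := by
    ext p
    simp [ψ₁]
  -- Step 2: the defect factors through the quotient
  have h0 : (Cochain.ofHom S.f).comp (δ 0 1 ψ₁) (zero_add 1) = 0 := by
    rw [← δ_ofHom_comp, hψ₁, δ_ofHom]
  have h0' : ∀ p q (hpq : p + 1 = q), S.f.f p ≫ (δ 0 1 ψ₁).v p q hpq = 0 := by
    intro p q hpq
    have := Cochain.congr_v h0 p q hpq
    simpa using this
  let γ : Cochain S.X₃ I 1 := Cochain.mk (fun p q hpq =>
    (hSp p).exact.desc ((δ 0 1 ψ₁).v p q hpq) (h0' p q hpq))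
  have hγ : (Cochain.ofHom S.g).comp γ (zero_add 1) = δ 0 1 ψ₁ := by
    ext p q hpq
    rw [Cochain.zero_cochain_comp_v, Cochain.ofHom_v, Cochain.mk_v]
    exact (hSp p).exact.g_desc _ _
  have hγ' : δ 1 2 γ = 0 := by
    have h1 : (Cochain.ofHom S.g).comp (δ 1 2 γ) (zero_add 2) = 0 := by
      rw [← δ_ofHom_comp, hγ, δ_δ]
    ext p q hpq
    have h2 := Cochain.congr_v h1 p q hpq
    rw [Cochain.zero_cochain_comp_v, Cochain.ofHom_v, Cochain.zero_v] at h2
    rw [Cochain.zero_v, ← cancel_epi (S.g.f p), h2, comp_zero]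
  -- Step 3: the cocycle is a coboundary
  let x : Cocycle S.X₃ I 1 := Cocycle.mk γ 2 (by norm_num) hγ'
  have hx : x ∈ coboundaries S.X₃ I 1 := by
    rw [← CohomologyClass.toHom_mk_eq_zero_iff, CohomologyClass.toHom_mk,
      HomotopyCategory.eq_of_homotopy _ 0 (IsKInjective.homotopyZero _ hC), Functor.map_zero]
  obtain ⟨β, hβ⟩ := (mem_coboundaries_iff x 0 (zero_add 1)).1 hx
  have hβ' : δ 0 1 β = γ := hβ
  -- Step 4
  let ψc : Cochain S.X₂ I 0 := ψ₁ - (Cochain.ofHom S.g).comp β (zero_add 0)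
  have hψc : δ 0 1 ψc = 0 := by
    rw [δ_sub, δ_ofHom_comp, hβ', hγ, sub_self]
  refine ⟨Cocycle.homOf (Cocycle.mk ψc 1 (zero_add 1) hψc), ?_⟩
  apply Cochain.ofHom_injective
  rw [Cochain.ofHom_comp, Cocycle.cochain_ofHom_homOf_eq_coe]
  change (Cochain.ofHom S.f).comp ψc (zero_add 0) = _
  rw [Cochain.comp_sub, hψ₁, ← Cochain.comp_assoc_of_first_is_zero_cochain, ← Cochain.ofHom_comp,
    S.zero, Cochain.ofHom_zero, Cochain.zero_comp, sub_zero]

/-- the shift of an acyclic complex is acyclic -/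
lemma acyclic_shift (C : CochainComplex A ℤ) (hC : C.Acyclic) (a : ℤ) : (C⟦a⟧).Acyclic := by
  intro n
  have e := (CochainComplex.shiftShortComplexFunctorIso A a n (a + n) rfl).app C
  exact (ShortComplex.exact_iff_of_iso e).2 (hC (a + n))

/-- the extension property implies K-injectivity -/
lemma isKInjective_of_extension (I : CochainComplex A ℤ)
    (h : ∀ (S : ShortComplex (CochainComplex A ℤ)), S.ShortExact → S.X₃.Acyclic →
        ∀ φ : S.X₁ ⟶ I, ∃ ψ : S.X₂ ⟶ I, S.f ≫ ψ = φ) : I.IsKInjective := by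
  refine ⟨fun {C} α hC => ?_⟩
  let S := mappingCone.triangleRotateShortComplex (𝟙 C)
  have hS : S.ShortExact := HomologicalComplex.shortExact_of_degreewise_shortExact _
    (fun n => (mappingCone.triangleRotateShortComplexSplitting (𝟙 C) n).shortExact)
  have hC' : S.X₃.Acyclic := acyclic_shift C hC 1
  obtain ⟨ψ, hψ⟩ := h S hS hC' α
  have hψ' : mappingCone.inr (𝟙 C) ≫ ψ = α := hψ
  refine ⟨(Cochain.equivHomotopy _ _).symm
    ⟨(mappingCone.inl (𝟙 C)).comp (Cochain.ofHom ψ) (add_zero _), ?_⟩⟩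
  rw [δ_comp_ofHom, mappingCone.δ_inl, Cochain.ofHom_zero, add_zero, ← Cochain.ofHom_comp,
    Category.id_comp, hψ']

open HomologicalComplex in
/-- the complex `X --𝟙--> X` in degrees `n`, `n+1` is acyclic -/
lemma double_id_acyclic (X : A) (n : ℤ) (hrel : (ComplexShape.up ℤ).Rel n (n + 1)) :
    (double (𝟙 X) hrel).Acyclic := by
  have hne : n ≠ n + 1 := by omega
  intro k
  by_cases hk₀ : k = n
  · subst hk₀
    rw [exactAt_iff' _ (k - 1) k (k + 1) (by simp) (by simp)]
    have hf : (double (𝟙 X) hrel).d (k - 1) k = 0 :=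
      double_d_eq_zero₀ _ _ _ _ (by omega)
    rw [ShortComplex.exact_iff_mono _ hf]
    change Mono ((double (𝟙 X) hrel).d k (k + 1))
    rw [double_d _ _ hne]
    infer_instance
  · by_cases hk₁ : k = n + 1
    · subst hk₁
      rw [exactAt_iff' _ n (n + 1) (n + 1 + 1) (by simp) (by simp)]
      have hg : (double (𝟙 X) hrel).d (n + 1) (n + 1 + 1) = 0 :=
        double_d_eq_zero₀ _ _ _ _ (by omega)
      rw [ShortComplex.exact_iff_epi _ hg]
      change Epi ((double (𝟙 X) hrel).d n (n + 1))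
      rw [double_d _ _ hne]
      infer_instance
    · exact ShortComplex.exact_of_isZero_X₂ _ (isZero_double_X (𝟙 X) hrel k hk₀ hk₁)

open HomologicalComplex in
/-- the extension property implies injectivity of the terms -/
lemma injective_of_extension (I : CochainComplex A ℤ)
    (h : ∀ (S : ShortComplex (CochainComplex A ℤ)), S.ShortExact → S.X₃.Acyclic →
        ∀ φ : S.X₁ ⟶ I, ∃ ψ : S.X₂ ⟶ I, S.f ≫ ψ = φ) (n : ℤ) : Injective (I.X n) := by
  refine ⟨fun {X Y} a i hi => ?_⟩
  have hrel : (ComplexShape.up ℤ).Rel n (n + 1) := by simp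
  have hne : n ≠ n + 1 := by omega
  let F : double (𝟙 X) hrel ⟶ double (𝟙 Y) hrel :=
    mkHomFromDouble hrel hne (i ≫ (doubleXIso₀ (𝟙 Y) hrel).inv)
      (i ≫ (doubleXIso₁ (𝟙 Y) hrel hne).inv) (by simp [double_d _ _ hne])
      (by intro k hk; rw [double_d_eq_zero₀ _ _ _ _ hne.symm, comp_zero])
  have hF₀ : F.f n = (doubleXIso₀ (𝟙 X) hrel).hom ≫ i ≫ (doubleXIso₀ (𝟙 Y) hrel).inv :=
    mkHomFromDouble_f₀ _ _ _ _ _ _
  have hF₁ : F.f (n + 1) =
      (doubleXIso₁ (𝟙 X) hrel hne).hom ≫ i ≫ (doubleXIso₁ (𝟙 Y) hrel hne).inv :=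
    mkHomFromDouble_f₁ _ _ _ _ _ _
  have hFmono : ∀ k, Mono (F.f k) := by
    intro k
    by_cases hk₀ : k = n
    · subst hk₀
      rw [hF₀]
      infer_instance
    · by_cases hk₁ : k = n + 1
      · subst hk₁
        rw [hF₁]
        infer_instance
      · exact ⟨fun _ _ _ => (isZero_double_X _ _ k hk₀ hk₁).eq_of_tgt _ _⟩
  have : Mono F := HomologicalComplex.mono_of_mono_f F hFmono
  let S : ShortComplex (CochainComplex A ℤ) :=
    ShortComplex.mk F (cokernel.π F) (cokernel.condition F)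
  have hS : S.ShortExact :=
    { exact := ShortComplex.exact_cokernel F
      mono_f := this
      epi_g := by dsimp [S]; infer_instance }
  have hq : QuasiIso S.f := by
    rw [quasiIso_iff]
    intro k
    rw [quasiIsoAt_iff_exactAt _ _ (double_id_acyclic X n hrel k)]
    exact double_id_acyclic Y n hrel k
  have hC : S.X₃.Acyclic := hS.acyclic_X₃ hq
  let φ : double (𝟙 X) hrel ⟶ I :=
    mkHomFromDouble hrel hne a (a ≫ I.d n (n + 1)) (by simp) (by simp)
  obtain ⟨ψ, hψ⟩ := h S hS hC φ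
  refine ⟨(doubleXIso₀ (𝟙 Y) hrel).inv ≫ ψ.f n, ?_⟩
  have h1 := HomologicalComplex.congr_hom hψ n
  have h2 : F.f n ≫ ψ.f n = φ.f n := h1
  rw [hF₀, mkHomFromDouble_f₀] at h2
  rw [← cancel_epi (doubleXIso₀ (𝟙 X) hrel).hom]
  simpa using h2

end Groth.Agent.KInjExt31
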