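import Mathlib.CategoryTheory.Abelian.GrothendieckCategory.EnoughInjectives
import Mathlib.CategoryTheory.Abelian.GrothendieckCategory.ColimCoyoneda
import Mathlib.CategoryTheory.Limits.Constructions.Filtered
import Mathlib.SetTheory.Cardinal.Arithmetic

/-!
# `κ`-generated objects in a Grothendieck abelian category (helper31)

`IsGen G κ X`: `X` is a quotient of a coproduct of at most `κ` copies of `G`.
Closure properties: quotients, coproducts, lifting along epimorphisms, subobjects.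
-/

set_option autoImplicit false

universe w u

open CategoryTheory Limits Cardinal

namespace Groth.Agent.KInjGen31

variable {𝒜 : Type u} [Category.{w} 𝒜] [Abelian 𝒜] [IsGrothendieckAbelian.{w} 𝒜]
variable (G : 𝒜) (κ : Cardinal.{w})

/-- `X` is a quotient of a coproduct of at most `κ` copies of `G`. -/
def IsGen (X : 𝒜) : Prop :=
  ∃ (ι : Type w) (_ : #ι ≤ κ) (π : (∐ fun _ : ι => G) ⟶ X), Epi π

variable {G κ}

lemma IsGen.of_epi {X Y : 𝒜} (f : X ⟶ Y) [Epi f] (h : IsGen G κ X) : IsGen G κ Y := by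
  obtain ⟨ι, hι, π, hπ⟩ := h
  exact ⟨ι, hι, π ≫ f, epi_comp _ _⟩

lemma IsGen.of_iso {X Y : 𝒜} (e : X ≅ Y) (h : IsGen G κ X) : IsGen G κ Y :=
  h.of_epi e.hom

lemma isGen_self (hκ : 1 ≤ κ) : IsGen G κ G := by
  refine ⟨PUnit.{w+1}, by simpa using hκ, Sigma.desc (fun _ => 𝟙 G), ?_⟩
  have : (Sigma.ι (fun _ : PUnit.{w+1} => G) PUnit.unit) ≫ Sigma.desc (fun _ => 𝟙 G) = 𝟙 G := by
    simp
  exact epi_of_epi_fac this

lemma isGen_sigma_self {I : Type w} (hI : #I ≤ κ) : IsGen G κ (∐ fun _ : I => G) :=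
  ⟨I, hI, 𝟙 _, inferInstance⟩

/-- A morphism out of a coproduct is epi as soon as any morphism killing all components is zero,
in the form used below. -/
lemma epi_sigma_desc {I : Type w} {X : I → 𝒜} {Y : 𝒜} (f : ∀ i, X i ⟶ Y)
    (h : ∀ {Z : 𝒜} (u : Y ⟶ Z), (∀ i, f i ≫ u = 0) → u = 0) : Epi (Sigma.desc f) := by
  apply Preadditive.epi_of_cancel_zero
  intro Z u hu
  apply h
  intro i
  have := Sigma.ι X i ≫= hu
  simpa using this

lemma isGen_sigma (hκ : ℵ₀ ≤ κ) {K : Type w} (hK : #K ≤ κ) (X : K → 𝒜)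
    (h : ∀ k, IsGen G κ (X k)) : IsGen G κ (∐ X) := by
  choose ι hι π hπ using h
  refine ⟨Σ k, ι k, ?_, Sigma.desc (fun p => Sigma.ι (fun _ : ι p.1 => G) p.2 ≫ π p.1 ≫
    Sigma.ι X p.1), ?_⟩
  · rw [Cardinal.mk_sigma]
    calc Cardinal.sum (fun k => #(ι k)) ≤ Cardinal.sum (fun _ : K => κ) :=
          Cardinal.sum_le_sum _ _ hι
      _ = #K * κ := by simp
      _ ≤ κ * κ := mul_le_mul' hK le_rfl
      _ = κ := Cardinal.mul_eq_self hκ
  · apply epi_sigma_desc
    intro Z u hu
    apply Sigma.hom_ext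
    intro k
    rw [comp_zero]
    have := hπ k
    rw [← cancel_epi (π k)]
    apply Sigma.hom_ext
    intro i
    have := hu ⟨k, i⟩
    simpa using this

lemma comp_eq_zero_of_imageSubobject_eq {A B T Z : 𝒜} (a : A ⟶ T) (b : B ⟶ T) (v : T ⟶ Z)
    (h : imageSubobject a = imageSubobject b) (ha : a ≫ v = 0) : b ≫ v = 0 := by
  have h1 : (imageSubobject a).arrow ≫ v = 0 := by
    rw [← cancel_epi (factorThruImageSubobject a), comp_zero, imageSubobject_arrow_comp_assoc]
    exact ha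
  rw [← imageSubobject_arrow_comp b, Category.assoc, ← Subobject.arrow_congr _ _ h.symm,
    Category.assoc, h1, comp_zero, comp_zero]

/-- Lifting along an epimorphism: a morphism from a `κ`-small free object to the target of an
epimorphism lifts after precomposing with an epimorphism from another `κ`-small free object. -/
lemma exists_lift (hG : IsSeparator G) (hκ : ℵ₀ ≤ κ) (hSub : #(Shrink.{w} (Subobject G)) ≤ κ)
    {X Y : 𝒜} (f : X ⟶ Y) [Epi f] {I : Type w} (hI : #I ≤ κ) (g : (∐ fun _ : I => G) ⟶ Y) :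
    ∃ (J : Type w) (_ : #J ≤ κ) (h : (∐ fun _ : J => G) ⟶ X)
      (e : (∐ fun _ : J => G) ⟶ (∐ fun _ : I => G)), Epi e ∧ h ≫ f = e ≫ g := by
  classical
  let gi (i : I) : G ⟶ Y := Sigma.ι (fun _ : I => G) i ≫ g
  let p₁ (i : I) : pullback (gi i) f ⟶ G := pullback.fst _ _
  let p₂ (i : I) : pullback (gi i) f ⟶ X := pullback.snd _ _
  let φ (i : I) (S : Subobject G) : G ⟶ pullback (gi i) f :=
    if h : ∃ ψ : G ⟶ pullback (gi i) f, imageSubobject (ψ ≫ p₁ i) = S then h.choose else 0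
  have hφ : ∀ (i : I) (ψ : G ⟶ pullback (gi i) f),
      imageSubobject (φ i (imageSubobject (ψ ≫ p₁ i)) ≫ p₁ i) = imageSubobject (ψ ≫ p₁ i) := by
    intro i ψ
    have h : ∃ ψ' : G ⟶ pullback (gi i) f,
        imageSubobject (ψ' ≫ p₁ i) = imageSubobject (ψ ≫ p₁ i) := ⟨ψ, rfl⟩
    simp only [φ, dif_pos h]
    exact h.choose_spec
  refine ⟨I × Shrink.{w} (Subobject G), ?_,
    Sigma.desc (fun p => φ p.1 ((equivShrink _).symm p.2) ≫ p₂ p.1),
    Sigma.desc (fun p => φ p.1 ((equivShrink _).symm p.2) ≫ p₁ p.1 ≫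
      Sigma.ι (fun _ : I => G) p.1), ?_, ?_⟩
  · rw [Cardinal.mk_prod, Cardinal.lift_id, Cardinal.lift_id]
    calc #I * #(Shrink.{w} (Subobject G)) ≤ κ * κ := mul_le_mul' hI hSub
      _ = κ := Cardinal.mul_eq_self hκ
  · apply epi_sigma_desc
    intro Z u hu
    apply Sigma.hom_ext
    intro i
    rw [comp_zero]
    have : Epi (p₁ i) := by dsimp only [p₁]; infer_instance
    rw [← cancel_epi (p₁ i), comp_zero]
    apply hG.def
    intro ψ
    rw [comp_zero]
    have h1 := hu ⟨i, equivShrink _ (imageSubobject (ψ ≫ p₁ i))⟩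
    simp only [Equiv.symm_apply_apply, Category.assoc] at h1
    have h2 := comp_eq_zero_of_imageSubobject_eq _ (ψ ≫ p₁ i) (Sigma.ι (fun _ : I => G) i ≫ u)
      (hφ i ψ) (by simpa using h1)
    simpa using h2
  · apply Sigma.hom_ext
    intro p
    simp only [colimit.ι_desc_assoc, Cofan.mk_pt, Cofan.mk_ι_app, Category.assoc]
    have := pullback.condition (f := gi p.1) (g := f)
    dsimp only [p₁, p₂, gi] at this ⊢
    rw [← this]

lemma mk_finset_le (hκ : ℵ₀ ≤ κ) {I : Type w} (hI : #I ≤ κ) : #(Finset I) ≤ κ := by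
  classical
  have h1 : #(Finset I) ≤ #(List I) :=
    Cardinal.mk_le_of_injective (f := fun s : Finset I => s.toList) (by
      intro s t hst
      have := congrArg List.toFinset hst
      simpa using this)
  exact h1.trans ((Cardinal.mk_list_le_max I).trans (max_le hκ hI))

section finiteCoprod

variable {S : Type w} [Fintype S] [DecidableEq S]

/-- projection of a finite coproduct of copies of `G` onto a factor -/
noncomputable def sigmaProj (x : S) : (∐ fun _ : S => G) ⟶ G :=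
  Sigma.desc (fun y => if y = x then 𝟙 G else 0)

lemma sum_sigmaProj_ι : ∑ x : S, sigmaProj (G := G) x ≫ Sigma.ι (fun _ : S => G) x = 𝟙 _ := by
  apply Sigma.hom_ext
  intro y
  rw [Preadditive.comp_sum, Category.comp_id]
  rw [Finset.sum_eq_single y]
  · simp [sigmaProj]
  · intro x _ hx
    simp [sigmaProj, Ne.symm hx]
  · intro h
    exact absurd (Finset.mem_univ y) h

lemma hom_sigma_ext {T : 𝒜} (a b : T ⟶ ∐ fun _ : S => G)
    (h : ∀ x, a ≫ sigmaProj x = b ≫ sigmaProj x) : a = b := by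
  rw [← Category.comp_id a, ← Category.comp_id b, ← sum_sigmaProj_ι, Preadditive.comp_sum,
    Preadditive.comp_sum]
  refine Finset.sum_congr rfl (fun x _ => ?_)
  rw [← Category.assoc, ← Category.assoc, h x]

lemma mk_hom_sigma_le (hκ : ℵ₀ ≤ κ) (hEnd : #(G ⟶ G) ≤ κ) :
    #(G ⟶ ∐ fun _ : S => G) ≤ κ := by
  have h1 : #(G ⟶ ∐ fun _ : S => G) ≤ #(S → (G ⟶ G)) :=
    Cardinal.mk_le_of_injective (f := fun a x => a ≫ sigmaProj x) (by
      intro a b hab
      exact hom_sigma_ext a b (fun x => congrFun hab x))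
  refine h1.trans ?_
  rw [Cardinal.mk_arrow, Cardinal.lift_id, Cardinal.lift_id, Cardinal.mk_fintype S,
    Cardinal.power_natCast]
  exact (Cardinal.power_le_power_right hEnd).trans (Cardinal.power_nat_le hκ)

end finiteCoprod

open CoproductsFromFiniteFiltered in
/-- Subobjects of a `κ`-small free object are `κ`-generated. -/
lemma isGen_of_mono_sigma (hG : IsSeparator G) (hκ : ℵ₀ ≤ κ) (hEnd : #(G ⟶ G) ≤ κ)
    {I : Type w} (hI : #I ≤ κ) {Y : 𝒜} (m : Y ⟶ ∐ fun _ : I => G) [Mono m] : IsGen G κ Y := by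
  classical
  let f : I → 𝒜 := fun _ => G
  let D : Finset (Discrete I) ⥤ 𝒜 := liftToFinsetObj (Discrete.functor f)
  let c : Cocone D := finiteSubcoproductsCocone f
  have hc : IsColimit c := isColimitFiniteSubproductsCocone f
  have hmono : ∀ S : Finset (Discrete I), Mono (c.ι.app S) := by
    intro S
    let r : (∐ f) ⟶ D.obj S := Sigma.desc (fun i =>
      if h : Discrete.mk i ∈ S then
        Sigma.ι (fun x : S => (Discrete.functor f).obj x.1) ⟨⟨i⟩, h⟩ else 0)
    have hr : c.ι.app S ≫ r = 𝟙 _ := by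
      apply Sigma.hom_ext
      rintro ⟨⟨i⟩, hi⟩
      have e1 : Sigma.ι (fun x : S => (Discrete.functor f).obj x.1) ⟨⟨i⟩, hi⟩ ≫ c.ι.app S =
          Sigma.ι f i := Sigma.ι_desc _ _
      have e2 : Sigma.ι f i ≫ r =
          Sigma.ι (fun x : S => (Discrete.functor f).obj x.1) ⟨⟨i⟩, hi⟩ := by
        simp [r, hi]
      have e3 := (e1 =≫ r).trans e2
      exact ((Category.assoc _ _ _).symm.trans e3).trans (Category.comp_id _).symm
    exact mono_of_mono_fac hr
  have : Mono c.ι := NatTrans.mono_of_mono_app _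
  have hepi : Epi (IsGrothendieckAbelian.IsPresentable.surjectivity.f (c := c) m) :=
    IsGrothendieckAbelian.IsPresentable.surjectivity.epi_f hc m
  let Pb : Finset (Discrete I) ⥤ 𝒜 := pullback c.ι ((Functor.const _).map m)
  let q (S : Finset (Discrete I)) : Pb.obj S ⟶ Y :=
    (pullback.snd c.ι ((Functor.const _).map m)).app S
  let t (S : Finset (Discrete I)) : Pb.obj S ⟶ D.obj S :=
    (pullback.fst c.ι ((Functor.const _).map m)).app S
  have sq : ∀ S, IsPullback (t S) (q S) (c.ι.app S) m := by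
    intro S
    have := (IsPullback.of_hasPullback c.ι ((Functor.const _).map m)).map
      ((evaluation (Finset (Discrete I)) 𝒜).obj S)
    simpa using this
  have htmono : ∀ S, Mono (t S) := fun S => (sq S).mono_fst_of_mono ‹Mono m›
  have hcard : ∀ S, #(G ⟶ Pb.obj S) ≤ κ := by
    intro S
    have h1 : #(G ⟶ Pb.obj S) ≤ #(G ⟶ D.obj S) :=
      Cardinal.mk_le_of_injective (f := fun a => a ≫ t S) (by
        intro a b hab
        exact (cancel_mono (t S)).1 hab)
    exact h1.trans (mk_hom_sigma_le (S := S) hκ hEnd)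
  refine ⟨Σ S : Finset (Discrete I), (G ⟶ Pb.obj S), ?_,
    Sigma.desc (fun p => p.2 ≫ q p.1), ?_⟩
  · rw [Cardinal.mk_sigma]
    have hJ : #(Finset (Discrete I)) ≤ κ := by
      have : #(Discrete I) ≤ κ := by
        rw [Cardinal.mk_congr (discreteEquiv (α := I))]
        exact hI
      exact mk_finset_le hκ this
    calc Cardinal.sum (fun S => #(G ⟶ Pb.obj S))
        ≤ Cardinal.sum (fun _ : Finset (Discrete I) => κ) := Cardinal.sum_le_sum _ _ hcard
      _ = #(Finset (Discrete I)) * κ := by simp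
      _ ≤ κ * κ := mul_le_mul' hJ le_rfl
      _ = κ := Cardinal.mul_eq_self hκ
  · apply epi_sigma_desc
    intro Z u hu
    rw [← cancel_epi (IsGrothendieckAbelian.IsPresentable.surjectivity.f (c := c) m), comp_zero]
    apply colimit.hom_ext
    intro S
    rw [comp_zero, ← Category.assoc, IsGrothendieckAbelian.IsPresentable.surjectivity.hf]
    apply hG.def
    intro ψ
    rw [comp_zero]
    have := hu ⟨S, ψ⟩
    simpa using this

/-- Subobjects of `κ`-generated objects are `κ`-generated. -/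
lemma IsGen.of_mono (hG : IsSeparator G) (hκ : ℵ₀ ≤ κ) (hEnd : #(G ⟶ G) ≤ κ)
    {X Y : 𝒜} (m : Y ⟶ X) [Mono m] (h : IsGen G κ X) : IsGen G κ Y := by
  obtain ⟨I, hI, π, hπ⟩ := h
  have h1 : IsGen G κ (pullback m π) :=
    isGen_of_mono_sigma hG hκ hEnd hI (pullback.snd m π)
  exact h1.of_epi (pullback.fst m π)

/-- A small colimit of `κ`-generated objects indexed by a category with at most `κ` objects is
`κ`-generated. -/
lemma isGen_of_isColimit (hκ : ℵ₀ ≤ κ) {J : Type w} [SmallCategory J] (hJ : #J ≤ κ) (F : J ⥤ 𝒜)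
    (h : ∀ j, IsGen G κ (F.obj j)) {c : Cocone F} (hc : IsColimit c) : IsGen G κ c.pt := by
  have h1 : IsGen G κ (∐ F.obj) := isGen_sigma hκ hJ _ h
  have : Epi (Sigma.desc (fun j => c.ι.app j)) := by
    apply epi_sigma_desc
    intro Z u hu
    apply hc.hom_ext
    intro j
    rw [comp_zero]
    exact hu j
  exact h1.of_epi (Sigma.desc (fun j => c.ι.app j))

lemma isGen_biprod (hκ : ℵ₀ ≤ κ) {X Y : 𝒜} (hX : IsGen G κ X) (hY : IsGen G κ Y) :
    IsGen G κ (X ⊞ Y) := by
  obtain ⟨I, hI, π, hπ⟩ := hX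
  obtain ⟨J, hJ, ρ, hρ⟩ := hY
  refine ⟨I ⊕ J, ?_, Sigma.desc (fun s => Sum.elim
    (fun i => Sigma.ι (fun _ : I => G) i ≫ π ≫ biprod.inl)
    (fun j => Sigma.ι (fun _ : J => G) j ≫ ρ ≫ biprod.inr) s), ?_⟩
  · rw [Cardinal.mk_sum, Cardinal.lift_id, Cardinal.lift_id]
    exact (add_le_add hI hJ).trans (Cardinal.add_eq_self hκ).le
  · apply epi_sigma_desc
    intro Z u hu
    apply biprod.hom_ext'
    · rw [comp_zero, ← cancel_epi π, comp_zero]
      apply Sigma.hom_ext
      intro i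
      simpa using hu (Sum.inl i)
    · rw [comp_zero, ← cancel_epi ρ, comp_zero]
      apply Sigma.hom_ext
      intro j
      simpa using hu (Sum.inr j)

/-- Functors preserving coproducts and epimorphisms preserve `κ`-generated objects as soon as
the image of `G` is `κ`-generated. -/
lemma IsGen.map (hκ : ℵ₀ ≤ κ) (T : 𝒜 ⥤ 𝒜) [T.PreservesEpimorphisms]
    [∀ I : Type w, PreservesColimitsOfShape (Discrete I) T] (hTG : IsGen G κ (T.obj G))
    {X : 𝒜} (h : IsGen G κ X) : IsGen G κ (T.obj X) := by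
  obtain ⟨I, hI, π, hπ⟩ := h
  have h1 : IsGen G κ (∐ fun _ : I => T.obj G) := isGen_sigma hκ hI _ (fun _ => hTG)
  have h2 : IsGen G κ (T.obj (∐ fun _ : I => G)) :=
    h1.of_iso (PreservesCoproduct.iso T (fun _ : I => G)).symm
  exact h2.of_epi (T.map π)

/-- Padding: a coproduct of `J` copies is a (split) quotient of a coproduct of `T` copies as soon
as `#J ≤ #T`. -/
lemma exists_epi_sigma_of_le {J T : Type w} (h : #J ≤ #T) :
    ∃ r : (∐ fun _ : T => G) ⟶ (∐ fun _ : J => G), Epi r := by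
  classical
  obtain ⟨j⟩ := (Cardinal.le_def _ _).1 h
  let r : (∐ fun _ : T => G) ⟶ (∐ fun _ : J => G) :=
    Sigma.desc (fun t => if h : ∃ x, j x = t then Sigma.ι (fun _ : J => G) h.choose else 0)
  let s : (∐ fun _ : J => G) ⟶ (∐ fun _ : T => G) :=
    Sigma.desc (fun x => Sigma.ι (fun _ : T => G) (j x))
  have hsr : s ≫ r = 𝟙 _ := by
    apply Sigma.hom_ext
    intro x
    have hx : ∃ y, j y = j x := ⟨x, rfl⟩
    have hc : hx.choose = x := j.injective hx.choose_spec
    simp only [s, r, colimit.ι_desc_assoc, Cofan.mk_pt, Cofan.mk_ι_app, colimit.ι_desc, dif_pos hx,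
      Category.comp_id]
    rw [hc]
  exact ⟨r, epi_of_epi_fac hsr⟩

end Groth.Agent.KInjGen31
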