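import Mathlib.CategoryTheory.Abelian.GrothendieckCategory.ColimCoyoneda
import Mathlib.CategoryTheory.Abelian.Refinements

/-!
# Sequential colimits with a cycle-killing property (helper31)

Abstract setting: a Grothendieck abelian category `𝒜` with an endofunctor `S` and a natural
transformation `δ : 𝟭 ⟶ S` with `δ_X ≫ δ_{SX} = 0`. Call `X` acyclic when
`X ⟶ ker (δ_{SX})` is an epimorphism. Given a sequence of monomorphisms `D₀ k ⟶ D₀ (k+1)` over
`Q` such that the cycles of `S (D₀ k)` (relative to `Q`) lift to `D₀ (k+1)`, the image of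
`colim D₀ ⟶ Q` is acyclic.
-/

set_option autoImplicit false

universe w u

open CategoryTheory Limits

namespace Groth.Agent.KInjSeq31

/-- A morphism is an epimorphism if its target is jointly covered by a family of morphisms each
of which lifts to the source after a refinement. -/
lemma epi_of_family {𝒜 : Type*} [Category* 𝒜] [Abelian 𝒜] {X Z : 𝒜} (f : X ⟶ Z) {ι : Type*}
    (B : ι → 𝒜) (u : ∀ k, B k ⟶ Z)
    (hu : ∀ {T : 𝒜} (t : Z ⟶ T), (∀ k, u k ≫ t = 0) → t = 0)
    (hl : ∀ k, ∃ (B' : 𝒜) (π : B' ⟶ B k) (_ : Epi π) (v : B' ⟶ X), v ≫ f = π ≫ u k) :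
    Epi f := by
  apply Preadditive.epi_of_cancel_zero
  intro T t ht
  apply hu
  intro k
  obtain ⟨B', π, _, v, hv⟩ := hl k
  rw [← cancel_epi π, comp_zero, ← Category.assoc, ← hv, Category.assoc, ht, comp_zero]

variable {𝒜 : Type u} [Category.{w} 𝒜] [Abelian 𝒜] [IsGrothendieckAbelian.{w} 𝒜]

/-- the functor `ULift ℕ ⥤ ℕ` -/
def downF : ULift.{w} ℕ ⥤ ℕ :=
  (show Monotone (ULift.down : ULift.{w} ℕ → ℕ) from fun _ _ h => h).functor

variable (D : ULift.{w} ℕ ⥤ 𝒜) (hmono : ∀ (k k' : ULift.{w} ℕ) (φ : k ⟶ k'), Mono (D.map φ))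
  {Q : 𝒜} (α : ∀ k, D.obj k ⟶ Q)
  (hα : ∀ (k k' : ULift.{w} ℕ) (φ : k ⟶ k'), D.map φ ≫ α k' = α k)

/-- the cocone with point `Q` -/
def seqCocone : Cocone D where
  pt := Q
  ι :=
    { app := fun k => α k
      naturality := fun k k' f => by
        dsimp
        rw [Category.comp_id]
        exact hα k k' f }

/-- the induced morphism from the colimit -/
noncomputable def seqDesc : colimit D ⟶ Q :=
  colimit.desc _ (seqCocone D α hα)

@[reassoc (attr := simp)]
lemma ι_seqDesc (k : ULift.{w} ℕ) :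
    colimit.ι D k ≫ seqDesc D α hα = α k :=
  colimit.ι_desc _ _

include hmono in
lemma mono_colimit_ι (k : ULift.{w} ℕ) : Mono (colimit.ι D k) :=
  (colimit.isColimit D).mono_ι_app_of_isFiltered k

variable (S : 𝒜 ⥤ 𝒜) [S.PreservesMonomorphisms] [S.PreservesEpimorphisms]
  [PreservesColimitsOfShape (ULift.{w} ℕ) S]
  (δ : 𝟭 𝒜 ⟶ S) (hδ : ∀ X, δ.app X ≫ δ.app (S.obj X) = 0)

open IsGrothendieckAbelian.IsPresentable in
include hmono in
/-- If `colim D ⟶ Q` factors as an epimorphism `e` followed by a monomorphism `j : Y ⟶ Q` and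
the sequence has the cycle-killing property, then `Y` is acyclic. -/
theorem epi_kernel_lift_of_seq {Y : 𝒜} (e : colimit D ⟶ Y) (j : Y ⟶ Q) [Epi e] [Mono j]
    (hej : e ≫ j = seqDesc D α hα)
    (hck : ∀ (k : ULift.{w} ℕ) {A : 𝒜} (x : A ⟶ S.obj (D.obj k)),
      x ≫ S.map (α k) ≫ δ.app (S.obj Q) = 0 →
      ∃ (A' : 𝒜) (π : A' ⟶ A) (_ : Epi π) (y : A' ⟶ D.obj ⟨k.down + 1⟩),
        y ≫ α ⟨k.down + 1⟩ ≫ δ.app Q = π ≫ x ≫ S.map (α k)) :
    Epi (kernel.lift (δ.app (S.obj Y)) (δ.app Y) (hδ Y)) := by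
  have hαk : ∀ k : ULift.{w} ℕ, colimit.ι D k ≫ e ≫ j = α k := fun k => by
    rw [hej]
    exact ι_seqDesc D α hα k
  let c1 : Cocone (D ⋙ S) := S.mapCocone (colimit.cocone D)
  have hc1 : IsColimit c1 := isColimitOfPreserves S (colimit.isColimit _)
  have hc1mono : Mono c1.ι := by
    have : ∀ k, Mono (c1.ι.app k) := fun k => by
      have := mono_colimit_ι D hmono k
      dsimp [c1]
      infer_instance
    exact NatTrans.mono_of_mono_app _
  let p₁ : pullback (kernel.ι (δ.app (S.obj Y))) (S.map e) ⟶ kernel (δ.app (S.obj Y)) :=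
    pullback.fst _ _
  let p₂ : pullback (kernel.ι (δ.app (S.obj Y))) (S.map e) ⟶ c1.pt := pullback.snd _ _
  have hp : p₁ ≫ kernel.ι _ = p₂ ≫ S.map e := pullback.condition
  have hp₁ : Epi p₁ := by dsimp only [p₁]; infer_instance
  have hepi : Epi (surjectivity.f (c := c1) p₂) := surjectivity.epi_f hc1 p₂
  let sndk (k : ULift.{w} ℕ) := (pullback.snd c1.ι ((Functor.const _).map p₂)).app k
  let fstk (k : ULift.{w} ℕ) : (pullback c1.ι ((Functor.const _).map p₂)).obj k ⟶ S.obj (D.obj k) :=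
    (pullback.fst c1.ι ((Functor.const _).map p₂)).app k
  have hcond : ∀ k, fstk k ≫ S.map (colimit.ι D k) = sndk k ≫ p₂ := fun k => by
    have := NatTrans.congr_app (pullback.condition (f := c1.ι) (g := (Functor.const _).map p₂)) k
    simp only [NatTrans.comp_app, Functor.const_map_app] at this
    exact this
  have hSα : ∀ k : ULift.{w} ℕ, S.map (α k) = S.map (colimit.ι D k) ≫ S.map e ≫ S.map j :=
    fun k => by rw [← S.map_comp, ← S.map_comp, hαk k]
  have hnat : ∀ {X X' : 𝒜} (f : X ⟶ X'), f ≫ δ.app X' = δ.app X ≫ S.map f := fun f =>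
    δ.naturality f
  refine epi_of_family _ (fun k : ULift.{w} ℕ => (pullback c1.ι ((Functor.const _).map p₂)).obj k)
    (fun k => sndk k ≫ p₁) ?_ ?_
  · intro T t ht
    rw [← cancel_epi p₁, comp_zero, ← cancel_epi (surjectivity.f (c := c1) p₂), comp_zero]
    apply colimit.hom_ext
    intro k
    rw [comp_zero, ← Category.assoc, surjectivity.hf]
    simpa using ht k
  · intro k
    have hx : fstk k ≫ S.map (α k) ≫ δ.app (S.obj Q) = 0 := by
      rw [hSα k, Category.assoc, Category.assoc, reassoc_of% (hcond k), ← reassoc_of% hp,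
        hnat (S.map j), kernel.condition_assoc, zero_comp, comp_zero, comp_zero]
    obtain ⟨A', π, hπ, y, hy⟩ := hck k (fstk k) hx
    refine ⟨A', π, hπ, y ≫ colimit.ι D ⟨k.down + 1⟩ ≫ e, ?_⟩
    rw [← cancel_mono (kernel.ι (δ.app (S.obj Y))), ← cancel_mono (S.map j)]
    simp only [Category.assoc, kernel.lift_ι]
    rw [← hnat j, reassoc_of% (hαk ⟨k.down + 1⟩), hy, reassoc_of% hp, ← reassoc_of% (hcond k),
      hSα k]

end Groth.Agent.KInjSeq31
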