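import Groth.Agent.Lib.KInjGen31
import Groth.Agent.Lib.KInjDelta31
import Groth.Agent.Lib.KInjAcyc31
import Groth.Agent.Lib.KInjSeq31
import Mathlib.Algebra.Homology.GrothendieckAbelian
import Mathlib.CategoryTheory.Functor.OfSequence

/-!
# Small acyclic subcomplexes of acyclic complexes (helper31)

In the category of cochain complexes in a Grothendieck abelian category, any morphism from a
`κ`-generated object to an acyclic complex `Q` factors through a morphism `a : F ⟶ Q` with `F`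
`κ`-generated and such that the image of `a` is acyclic.
-/

set_option autoImplicit false

universe w u

open CategoryTheory Limits Cardinal

namespace Groth.Agent.KInjKey31

open Groth.Agent.KInjGen31 Groth.Agent.KInjDelta31

variable {C : Type u} [Category.{w} C] [Abelian C] [IsGrothendieckAbelian.{w} C]

/-- hypotheses on the separator `G` of the category of complexes and the cardinal `κ` -/
structure Hyp (G : CochainComplex C ℤ) (κ : Cardinal.{w}) : Prop where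
  sep : IsSeparator G
  inf : ℵ₀ ≤ κ
  sub : #(Shrink.{w} (Subobject G)) ≤ κ
  endo : #(G ⟶ G) ≤ κ
  shift : IsGen G κ (G⟦(1 : ℤ)⟧)

variable {G : CochainComplex C ℤ} {κ : Cardinal.{w}}

lemma Hyp.isGen_shift (H : Hyp G κ) {F : CochainComplex C ℤ} (hF : IsGen G κ F) :
    IsGen G κ (F⟦(1 : ℤ)⟧) :=
  IsGen.map H.inf (shiftFunctor (CochainComplex C ℤ) (1 : ℤ)) H.shift hF

/-- One step of the construction: enlarge `a : F ⟶ Q` so that the cycles of (the image of)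
`a⟦1⟧` become boundaries. -/
lemma exists_next (H : Hyp G κ) {Q : CochainComplex C ℤ} (hQ : Q.Acyclic)
    {F : CochainComplex C ℤ} (a : F ⟶ Q) (hF : IsGen G κ F) :
    ∃ (F' : CochainComplex C ℤ) (a' : F' ⟶ Q) (ι : F ⟶ F'), IsGen G κ F' ∧ Mono ι ∧
      ι ≫ a' = a ∧
      ∀ {A : CochainComplex C ℤ} (x : A ⟶ F⟦(1 : ℤ)⟧),
        x ≫ a⟦(1 : ℤ)⟧' ≫ δ (Q⟦(1 : ℤ)⟧) = 0 →
        ∃ (A' : CochainComplex C ℤ) (π : A' ⟶ A) (_ : Epi π) (y : A' ⟶ F'),
          y ≫ a' ≫ δ Q = π ≫ x ≫ a⟦(1 : ℤ)⟧' := by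
  -- the kernel `K` of `F⟦1⟧ ⟶ Q⟦1⟧ ⟶ Q⟦1⟧⟦1⟧` is `κ`-generated
  let u : F⟦(1 : ℤ)⟧ ⟶ (Q⟦(1 : ℤ)⟧)⟦(1 : ℤ)⟧ := a⟦(1 : ℤ)⟧' ≫ δ (Q⟦(1 : ℤ)⟧)
  have hK : IsGen G κ (kernel u) :=
    (H.isGen_shift hF).of_mono H.sep H.inf H.endo (kernel.ι u)
  obtain ⟨I, hI, πK, hπK⟩ := hK
  -- the composite `∐ G ⟶ K ⟶ F⟦1⟧ ⟶ Q⟦1⟧` lands in the cycles
  let c : (∐ fun _ : I => G) ⟶ Q⟦(1 : ℤ)⟧ := πK ≫ kernel.ι u ≫ a⟦(1 : ℤ)⟧'
  have hc : c ≫ δ (Q⟦(1 : ℤ)⟧) = 0 := by
    dsimp only [c]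
    rw [Category.assoc, Category.assoc]
    have := kernel.condition u
    dsimp only [u] at this
    rw [this, comp_zero]
  -- `Q ⟶ cycles` is an epimorphism
  have hex : (δSc Q).Exact := (acyclic_iff_exact Q).1 hQ
  have hepi : Epi (kernel.lift (δ (Q⟦(1 : ℤ)⟧)) (δ Q) (δ_comp_δ Q)) :=
    (δSc Q).exact_iff_epi_kernel_lift.1 hex
  obtain ⟨J, hJ, h, e, he, hfac⟩ := exists_lift H.sep H.inf H.sub
    (kernel.lift (δ (Q⟦(1 : ℤ)⟧)) (δ Q) (δ_comp_δ Q)) hI (kernel.lift _ c hc)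
  have hfac' : h ≫ δ Q = e ≫ c := by
    have := hfac =≫ kernel.ι _
    simpa using this
  refine ⟨F ⊞ (∐ fun _ : J => G), biprod.desc a h, biprod.inl,
    isGen_biprod H.inf hF (isGen_sigma_self hJ), inferInstance, by simp, ?_⟩
  intro A x hx
  let x' : A ⟶ kernel u := kernel.lift u x (by simpa [u] using hx)
  have : Epi (e ≫ πK) := epi_comp _ _
  refine ⟨pullback x' (e ≫ πK), pullback.fst _ _, inferInstance,
    pullback.snd _ _ ≫ biprod.inr, ?_⟩
  have h1 : pullback.fst x' (e ≫ πK) ≫ x' = pullback.snd x' (e ≫ πK) ≫ e ≫ πK :=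
    pullback.condition
  calc (pullback.snd x' (e ≫ πK) ≫ biprod.inr) ≫ biprod.desc a h ≫ δ Q
      = pullback.snd x' (e ≫ πK) ≫ h ≫ δ Q := by simp
    _ = pullback.snd x' (e ≫ πK) ≫ e ≫ πK ≫ kernel.ι u ≫ a⟦(1 : ℤ)⟧' := by
        rw [hfac']
    _ = (pullback.snd x' (e ≫ πK) ≫ e ≫ πK) ≫ kernel.ι u ≫ a⟦(1 : ℤ)⟧' := by
        simp only [Category.assoc]
    _ = pullback.fst x' (e ≫ πK) ≫ x ≫ a⟦(1 : ℤ)⟧' := by
        rw [← h1, Category.assoc, ← Category.assoc x', kernel.lift_ι]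

/-- A stage of the construction. -/
structure Stage (G : CochainComplex C ℤ) (κ : Cardinal.{w}) (Q : CochainComplex C ℤ) where
  /-- the source -/
  F : CochainComplex C ℤ
  /-- the morphism -/
  a : F ⟶ Q
  gen : IsGen G κ F

namespace Stage

variable (H : Hyp G κ) {Q : CochainComplex C ℤ} (hQ : Q.Acyclic) (s : Stage G κ Q)

/-- the next stage -/
noncomputable def next : Stage G κ Q where
  F := (exists_next H hQ s.a s.gen).choose
  a := (exists_next H hQ s.a s.gen).choose_spec.choose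
  gen := (exists_next H hQ s.a s.gen).choose_spec.choose_spec.choose_spec.1

/-- the transition map -/
noncomputable def ι : s.F ⟶ (s.next H hQ).F :=
  (exists_next H hQ s.a s.gen).choose_spec.choose_spec.choose

instance : Mono (s.ι H hQ) :=
  (exists_next H hQ s.a s.gen).choose_spec.choose_spec.choose_spec.2.1

@[reassoc (attr := simp)]
lemma ι_a : s.ι H hQ ≫ (s.next H hQ).a = s.a :=
  (exists_next H hQ s.a s.gen).choose_spec.choose_spec.choose_spec.2.2.1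

lemma ck {A : CochainComplex C ℤ} (x : A ⟶ s.F⟦(1 : ℤ)⟧)
    (hx : x ≫ s.a⟦(1 : ℤ)⟧' ≫ δ (Q⟦(1 : ℤ)⟧) = 0) :
    ∃ (A' : CochainComplex C ℤ) (π : A' ⟶ A) (_ : Epi π) (y : A' ⟶ (s.next H hQ).F),
      y ≫ (s.next H hQ).a ≫ δ Q = π ≫ x ≫ s.a⟦(1 : ℤ)⟧' :=
  (exists_next H hQ s.a s.gen).choose_spec.choose_spec.choose_spec.2.2.2 x hx

/-- the sequence of stages -/
noncomputable def seq : ℕ → Stage G κ Q
  | 0 => s
  | k + 1 => (seq k).next H hQ

/-- the sequence of objects as a functor -/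
noncomputable def seqFunctor : ℕ ⥤ CochainComplex C ℤ :=
  Functor.ofSequence (X := fun k => (s.seq H hQ k).F) (fun k => (s.seq H hQ k).ι H hQ)

/-- the morphisms to `Q` -/
noncomputable def seqA (k : ℕ) : (s.seqFunctor H hQ).obj k ⟶ Q := (s.seq H hQ k).a

lemma seqFunctor_map_succ (k : ℕ) :
    (s.seqFunctor H hQ).map (homOfLE (Nat.le_succ k)) = (s.seq H hQ k).ι H hQ :=
  Functor.ofSequence_map_homOfLE_succ _ k

instance (k : ℕ) : Mono ((s.seqFunctor H hQ).map (homOfLE (Nat.le_succ k))) := by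
  have : Mono ((s.seq H hQ k).ι H hQ) := inferInstance
  rw [seqFunctor_map_succ]
  exact this

lemma seqFunctor_map_succ_a (k : ℕ) :
    (s.seqFunctor H hQ).map (homOfLE (Nat.le_succ k)) ≫ s.seqA H hQ (k + 1) = s.seqA H hQ k :=
  (congrArg (fun t => t ≫ s.seqA H hQ (k + 1)) (s.seqFunctor_map_succ H hQ k)).trans
    (ι_a H hQ (s.seq H hQ k))

lemma seqFunctor_map_a (i j : ℕ) (h : i ≤ j) :
    (s.seqFunctor H hQ).map (homOfLE h) ≫ s.seqA H hQ j = s.seqA H hQ i := by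
  induction j, h using Nat.le_induction with
  | base =>
    change (s.seqFunctor H hQ).map (𝟙 _) ≫ _ = _
    rw [CategoryTheory.Functor.map_id, Category.id_comp]
  | succ j h ih =>
    have : homOfLE (h.trans (Nat.le_succ j)) = homOfLE h ≫ homOfLE (Nat.le_succ j) := rfl
    rw [this, Functor.map_comp, Category.assoc, seqFunctor_map_succ_a, ih]

lemma mono_seqFunctor_map (i j : ℕ) (h : i ≤ j) :
    Mono ((s.seqFunctor H hQ).map (homOfLE h)) := by
  induction j, h using Nat.le_induction with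
  | base =>
    change Mono ((s.seqFunctor H hQ).map (𝟙 _))
    rw [CategoryTheory.Functor.map_id]
    infer_instance
  | succ j h ih =>
    have : homOfLE (h.trans (Nat.le_succ j)) = homOfLE h ≫ homOfLE (Nat.le_succ j) := rfl
    rw [this, Functor.map_comp]
    exact mono_comp _ _

lemma seqA_ck (k : ℕ) {A : CochainComplex C ℤ} (x : A ⟶ ((s.seqFunctor H hQ).obj k)⟦(1 : ℤ)⟧)
    (hx : x ≫ (s.seqA H hQ k)⟦(1 : ℤ)⟧' ≫ δ (Q⟦(1 : ℤ)⟧) = 0) :
    ∃ (A' : CochainComplex C ℤ) (π : A' ⟶ A) (_ : Epi π)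
      (y : A' ⟶ (s.seqFunctor H hQ).obj (k + 1)),
      y ≫ s.seqA H hQ (k + 1) ≫ δ Q = π ≫ x ≫ (s.seqA H hQ k)⟦(1 : ℤ)⟧' :=
  (s.seq H hQ k).ck H hQ x hx

end Stage

open Groth.Agent.KInjSeq31 in
/-- **Key lemma**: any morphism from a `κ`-generated complex to an acyclic complex `Q` factors
through a morphism `a : F ⟶ Q` from a `κ`-generated complex whose image is acyclic. -/
theorem exists_acyclic_image (H : Hyp G κ) {Q : CochainComplex C ℤ} (hQ : Q.Acyclic)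
    (s : Stage G κ Q) :
    ∃ (F : CochainComplex C ℤ) (a : F ⟶ Q) (b : s.F ⟶ F), IsGen G κ F ∧ b ≫ a = s.a ∧
      ∀ {Y : CochainComplex C ℤ} (e : F ⟶ Y) (j : Y ⟶ Q) [Epi e] [Mono j], e ≫ j = a →
        Y.Acyclic := by
  let D : ULift.{w} ℕ ⥤ CochainComplex C ℤ := downF.{w} ⋙ s.seqFunctor H hQ
  let α : ∀ k, D.obj k ⟶ Q := fun k => s.seqA H hQ k.down
  have hα : ∀ (k k' : ULift.{w} ℕ) (φ : k ⟶ k'), D.map φ ≫ α k' = α k := fun k k' φ => by
    have hkk : k ≤ k' := leOfHom φ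
    exact s.seqFunctor_map_a H hQ k.down k'.down hkk
  have hmono : ∀ (k k' : ULift.{w} ℕ) (φ : k ⟶ k'), Mono (D.map φ) := fun k k' φ => by
    have hkk : k ≤ k' := leOfHom φ
    exact s.mono_seqFunctor_map H hQ k.down k'.down hkk
  refine ⟨colimit D, seqDesc D α hα, colimit.ι D ⟨0⟩, ?_, ?_, ?_⟩
  · refine isGen_of_isColimit H.inf ?_ D (fun k => (s.seq H hQ k.down).gen) (colimit.isColimit D)
    rw [Cardinal.mk_uLift, Cardinal.mk_nat, Cardinal.lift_aleph0]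
    exact H.inf
  · exact ι_seqDesc D α hα ⟨0⟩
  · intro Y e j _ _ hej
    rw [acyclic_iff_exact, ShortComplex.exact_iff_epi_kernel_lift]
    exact epi_kernel_lift_of_seq D hmono α hα (shiftFunctor (CochainComplex C ℤ) (1 : ℤ))
      (δNat C) (fun X => δ_comp_δ X) e j hej
      (fun k A x hx => s.seqA_ck H hQ k.down x hx)

end Groth.Agent.KInjKey31
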