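import Groth.Agent.Lib.KInjAcyc31
import Mathlib.CategoryTheory.Abelian.CommSq
import Mathlib.CategoryTheory.MorphismProperty.TransfiniteComposition
import Mathlib.CategoryTheory.MorphismProperty.Retract
import Mathlib.CategoryTheory.Abelian.GrothendieckCategory.Monomorphisms

/-!
# The class of monomorphisms that are quasi-isomorphisms (helper31)

Stability under pushouts, coproducts, filtered colimits, transfinite compositions, retracts.
-/

set_option autoImplicit false

universe w v u

open CategoryTheory Limits MorphismProperty

namespace Groth.Agent.KInjW31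

open Groth.Agent.KInjAcyc31

variable (C : Type u) [Category.{v} C] [Abelian C]

/-- Monomorphisms of cochain complexes that are quasi-isomorphisms. -/
def monoQis : MorphismProperty (CochainComplex C ℤ) :=
  monomorphisms _ ⊓ HomologicalComplex.quasiIso C (ComplexShape.up ℤ)

variable {C}

lemma monoQis_iff {K L : CochainComplex C ℤ} (f : K ⟶ L) :
    monoQis C f ↔ Mono f ∧ QuasiIso f := by
  simp [monoQis, inf_iff, HomologicalComplex.mem_quasiIso_iff]

lemma monoQis_iff_acyclic {K L : CochainComplex C ℤ} (f : K ⟶ L) :
    monoQis C f ↔ ∃ (_ : Mono f), (cokernel f).Acyclic := by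
  rw [monoQis_iff]
  constructor
  · rintro ⟨h1, h2⟩
    exact ⟨h1, (quasiIso_iff_acyclic_cokernel f).1 h2⟩
  · rintro ⟨h1, h2⟩
    exact ⟨h1, (quasiIso_iff_acyclic_cokernel f).2 h2⟩

instance : (monoQis C).RespectsIso := by unfold monoQis; infer_instance
instance : (monoQis C).IsMultiplicative := by unfold monoQis; infer_instance
instance : (monoQis C).IsStableUnderRetracts := by unfold monoQis; infer_instance

/-- In a short exact sequence whose third term is acyclic, the first map is in `monoQis`. -/
lemma monoQis_of_shortExact {S : ShortComplex (CochainComplex C ℤ)} (hS : S.ShortExact)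
    (h : S.X₃.Acyclic) : monoQis C S.f :=
  (monoQis_iff _).2 ⟨hS.mono_f, quasiIso_f_of_acyclic_X₃ hS h⟩

instance : (monoQis C).IsStableUnderCobaseChange where
  of_isPushout {A A' B B' f g f' g'} sq hf := by
    obtain ⟨_, hac⟩ := (monoQis_iff_acyclic f).1 hf
    have hmono : Mono f' := (monomorphisms _).of_isPushout sq (monomorphisms.infer_property f)
    let q : B' ⟶ cokernel f := sq.desc 0 (cokernel.π f) (by simp)
    have hq0 : f' ≫ q = 0 := sq.inl_desc _ _ _
    have hq1 : g' ≫ q = cokernel.π f := sq.inr_desc _ _ _
    have hcok : IsColimit (CokernelCofork.ofπ q hq0) :=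
      CokernelCofork.IsColimit.ofπ _ _
        (fun {T} t ht => cokernel.desc f (g' ≫ t) (by
          rw [← Category.assoc, ← sq.w, Category.assoc, ht, comp_zero]))
        (fun t ht => sq.hom_ext (by rw [reassoc_of% hq0, zero_comp, ht])
          (by rw [reassoc_of% hq1, cokernel.π_desc]))
        (fun t ht m hm => by
          rw [← cancel_epi (cokernel.π f), cokernel.π_desc, ← hq1, Category.assoc, hm])
    have hS : (ShortComplex.mk f' q hq0).ShortExact :=
      { exact := ShortComplex.exact_of_g_is_cokernel _ hcok
        mono_f := hmono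
        epi_g := epi_of_epi_fac hq1 }
    exact monoQis_of_shortExact hS hac

/-- `monoQis` is stable under colimits of shape `J` when these are exact in `C`. -/
lemma isStableUnderColimitsOfShape_monoQis (J : Type*) [Category* J] [HasColimitsOfShape J C]
    [HasExactColimitsOfShape J C] : (monoQis C).IsStableUnderColimitsOfShape J where
  condition X₁ X₂ c₁ c₂ hc₁ hc₂ f hf φ hφ := by
    have hmono : ∀ j, Mono (f.app j) := fun j => ((monoQis_iff _).1 (hf j)).1
    have : Mono f := NatTrans.mono_of_mono_app f
    let S : ShortComplex (J ⥤ CochainComplex C ℤ) :=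
      ShortComplex.mk f (cokernel.π f) (cokernel.condition f)
    have hS : S.ShortExact := { exact := ShortComplex.exact_cokernel f }
    have hQ : ∀ j, ((cokernel f).obj j).Acyclic := by
      intro j
      have hj := hS.map_of_exact ((evaluation J (CochainComplex C ℤ)).obj j)
      exact hj.acyclic_X₃ ((monoQis_iff _).1 (hf j)).2
    let g : c₂.pt ⟶ colimit (cokernel f) :=
      hc₂.desc (Cocone.mk _ (cokernel.π f ≫ (colimit.cocone (cokernel f)).ι))
    have hg : ∀ j, c₂.ι.app j ≫ g = S.g.app j ≫ (colimit.cocone (cokernel f)).ι.app j :=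
      fun j => hc₂.fac _ j
    have hφ' : ∀ j, c₁.ι.app j ≫ φ = S.f.app j ≫ c₂.ι.app j := fun j => by simpa using hφ j
    have hex := colim.exact_mapShortComplex (S := S) hS.exact hc₁ hc₂ (colimit.isColimit _)
      φ g hφ' hg
    have hm : Mono φ := colim.map_mono' S.f hc₁ hc₂ φ hφ'
    have hepi : ∀ j, Epi (S.g.app j) := fun j =>
      (hS.map_of_exact ((evaluation J (CochainComplex C ℤ)).obj j)).epi_g
    have he : Epi g := colim.map_epi' S.g c₂ (colimit.isColimit _) g hg
    have hS' : (colim.mapShortComplex S hc₁ c₂ (colimit.cocone _) φ g hφ' hg).ShortExact :=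
      { exact := hex, mono_f := hm, epi_g := he }
    exact monoQis_of_shortExact hS'
      (acyclic_of_isColimit (cokernel f) hQ (colimit.isColimit _))

section Grothendieck

variable [IsGrothendieckAbelian.{w} C]

instance : IsStableUnderCoproducts.{w} (monoQis C) where
  isStableUnderCoproductsOfShape J := isStableUnderColimitsOfShape_monoQis (Discrete J)

instance : IsStableUnderFilteredColimits.{w, w} (monoQis C) where
  isStableUnderColimitsOfShape J _ _ := isStableUnderColimitsOfShape_monoQis J

instance : IsStableUnderTransfiniteComposition.{w} (monoQis C) := by infer_instance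

end Grothendieck

end Groth.Agent.KInjW31
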