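import Groth.Agent.Lib.KInjKey31
import Groth.Agent.Lib.KInjW31
import Groth.Agent.Lib.KInjTransf31

/-!
# The generating set of monic quasi-isomorphisms and the inductive step (helper31)
-/

set_option autoImplicit false

universe w u

open CategoryTheory Limits Cardinal MorphismProperty

namespace Groth.Agent.KInjStep31

open Groth.Agent.KInjGen31 Groth.Agent.KInjDelta31 Groth.Agent.KInjKey31 Groth.Agent.KInjW31
  Groth.Agent.KInjAcyc31

variable {C : Type u} [Category.{w} C] [Abelian C] [IsGrothendieckAbelian.{w} C]
variable (G : CochainComplex C ℤ) (T : Type w)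

/-- the big free object -/
noncomputable abbrev E₀ : CochainComplex C ℤ := ∐ fun _ : T => G

/-- the generating family: subobjects of `E₀` whose inclusion is a quasi-isomorphism -/
def genMaps : MorphismProperty (CochainComplex C ℤ) :=
  MorphismProperty.ofHoms
    (fun D : {D : Subobject (E₀ G T) // monoQis C D.arrow} => D.1.arrow)

lemma genMaps_le_monoQis : genMaps G T ≤ monoQis C := by
  rintro _ _ _ ⟨D⟩
  exact D.2

lemma genMaps_le_monomorphisms : genMaps G T ≤ monomorphisms _ := by
  rintro _ _ _ ⟨D⟩
  exact inferInstanceAs (Mono _)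

lemma isomorphisms_le_monoQis : isomorphisms (CochainComplex C ℤ) ≤ monoQis C := by
  intro X Y f (hf : IsIso f)
  rw [monoQis_iff]
  exact ⟨inferInstance, inferInstance⟩

lemma isomorphisms_le_pushouts_genMaps :
    isomorphisms (CochainComplex C ℤ) ≤ (genMaps G T).pushouts :=
  MorphismProperty.isomorphisms_le_pushouts _
    (fun _ ↦ ⟨_, _, _, ⟨⟨⊤, isomorphisms_le_monoQis _ (isomorphisms.infer_property _)⟩⟩, 0,
      inferInstanceAs (IsIso (⊤ : Subobject (E₀ G T)).arrow)⟩)

variable {G T} {κ : Cardinal.{w}}

set_option backward.isDefEq.respectTransparency false in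
/-- The inductive step at the level of morphisms. -/
lemma exists_pushouts (H : Hyp G κ) (hT : #T = κ) {X N : CochainComplex C ℤ} (p : X ⟶ N)
    [Mono p] (hp : QuasiIso p) (hp' : ¬ IsIso p) :
    ∃ (X' : CochainComplex C ℤ) (i : X ⟶ X') (p' : X' ⟶ N) (_ : (genMaps G T).pushouts i)
      (_ : ¬ IsIso i) (_ : Mono p'), QuasiIso p' ∧ i ≫ p' = p := by
  have hQ : (cokernel p).Acyclic := (quasiIso_iff_acyclic_cokernel p).1 hp
  -- a nonzero morphism `G ⟶ cokernel p`
  obtain ⟨g₀, hg₀⟩ : ∃ g₀ : G ⟶ cokernel p, g₀ ≠ 0 := by
    by_contra! h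
    apply hp'
    have h0 : cokernel.π p = 0 := by
      have : 𝟙 (cokernel p) = 0 := H.sep.def _ _ (fun g => by rw [h g, zero_comp, zero_comp])
      rw [← Category.comp_id (cokernel.π p), this, comp_zero]
    have : Epi p := Abelian.epi_of_cokernel_π_eq_zero _ h0
    exact isIso_of_mono_of_epi p
  obtain ⟨F, a, b, hF, hba, hacyc⟩ := exists_acyclic_image H hQ
    ⟨G, g₀, isGen_self (le_trans (by simp) H.inf)⟩
  dsimp at b hba
  obtain ⟨I, hI, πF, hπF⟩ := hF
  obtain ⟨J, hJ, h, ε, hε, hfac⟩ := exists_lift H.sep H.inf H.sub (cokernel.π p) hI (πF ≫ a)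
  obtain ⟨r, hr⟩ := exists_epi_sigma_of_le (G := G) (J := J) (T := T) (by rw [hT]; exact hJ)
  -- the morphism `h' : E₀ ⟶ N` and the epimorphism `e' : E₀ ⟶ Y`
  let h' : E₀ G T ⟶ N := r ≫ h
  let e' : E₀ G T ⟶ Abelian.image a := r ≫ ε ≫ πF ≫ Abelian.factorThruImage a
  have he' : Epi e' := by
    dsimp only [e']
    infer_instance
  have hY : (Abelian.image a).Acyclic :=
    hacyc (Abelian.factorThruImage a) (Abelian.image.ι a) (Abelian.image.fac a)
  have hfac' : h' ≫ cokernel.π p = e' ≫ Abelian.image.ι a := by
    dsimp only [h', e']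
    simp only [Category.assoc, Abelian.image.fac]
    rw [hfac]
  have hne : e' ≫ Abelian.image.ι a ≠ 0 := by
    intro h0
    apply hg₀
    have : Abelian.image.ι a = 0 := by rwa [← cancel_epi e', comp_zero]
    rw [← hba, ← Abelian.image.fac a, this, comp_zero, comp_zero]
  -- `pullback.snd p h'` is in `monoQis`
  have hS : (ShortComplex.mk (pullback.snd p h') e' (by
      rw [← cancel_mono (Abelian.image.ι a), Category.assoc, ← hfac', zero_comp,
        ← pullback.condition_assoc, cokernel.condition, comp_zero])).ShortExact :=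
    { exact := by
        rw [ShortComplex.exact_iff_exact_up_to_refinements]
        intro W x hx
        dsimp at x hx
        have hx' : (x ≫ h') ≫ cokernel.π p = 0 := by
          rw [Category.assoc, hfac', reassoc_of% hx, zero_comp]
        have hex : (ShortComplex.mk p (cokernel.π p) (cokernel.condition p)).Exact :=
          ShortComplex.exact_cokernel p
        refine ⟨W, 𝟙 W, inferInstance, pullback.lift (hex.lift (x ≫ h') hx') x
          (hex.lift_f _ _), ?_⟩
        dsimp
        rw [Category.id_comp, pullback.lift_snd] }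
  have hsnd : monoQis C (pullback.snd p h') := monoQis_of_shortExact hS hY
  have hinl : monoQis C (pushout.inl (pullback.fst p h') (pullback.snd p h')) :=
    (monoQis C).of_isPushout (IsPushout.of_hasPushout _ _) hsnd
  have hmono' : Mono (pushout.desc p h' pullback.condition) :=
    (IsPushout.of_hasPushout _ _).mono_of_isPullback_of_mono
      (IsPullback.of_hasPullback p h') _ (by simp) (by simp)
  have hD : monoQis C (Subobject.mk (pullback.snd p h')).arrow :=
    ((monoQis C).arrow_mk_iso_iff (Arrow.isoMk (Subobject.underlyingIso _) (Iso.refl _)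
      (by simp))).2 hsnd
  have hDmem : genMaps G T (Subobject.mk (pullback.snd p h')).arrow :=
    MorphismProperty.ofHoms.mk
      (f := fun D : {D : Subobject (E₀ G T) // monoQis C D.arrow} => D.1.arrow)
      ⟨Subobject.mk (pullback.snd p h'), hD⟩
  have hpush : (genMaps G T).pushouts
      (pushout.inl (pullback.fst p h') (pullback.snd p h')) :=
    ⟨_, _, _, (Subobject.underlyingIso _).hom ≫ pullback.fst _ _, pushout.inr _ _, hDmem,
      (IsPushout.of_hasPushout (pullback.fst p h') (pullback.snd p h')).of_iso
        ((Subobject.underlyingIso _).symm) (Iso.refl _) (Iso.refl _)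
        (Iso.refl _) (by simp) (by simp) (by simp) (by simp)⟩
  refine ⟨pushout (pullback.fst p h') (pullback.snd p h'), pushout.inl _ _,
    pushout.desc p h' pullback.condition, hpush, ?_, hmono', ?_, by simp⟩
  · intro hiso
    apply hne
    rw [← hfac']
    have h1 : pushout.inl (pullback.fst p h') (pullback.snd p h') ≫
        pushout.desc p h' pullback.condition = p := by simp
    have h2 : pushout.inr (pullback.fst p h') (pullback.snd p h') ≫
        pushout.desc p h' pullback.condition = h' := by simp
    have h3 : pushout.desc p h' pullback.condition ≫ cokernel.π p = 0 := by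
      rw [← cancel_epi (pushout.inl (pullback.fst p h') (pullback.snd p h')), comp_zero,
        reassoc_of% h1, cokernel.condition]
    calc h' ≫ cokernel.π p
        = (pushout.inr (pullback.fst p h') (pullback.snd p h') ≫
          pushout.desc p h' pullback.condition) ≫ cokernel.π p := by rw [h2]
      _ = 0 := by rw [Category.assoc, h3, comp_zero]
  · have h1 : pushout.inl (pullback.fst p h') (pullback.snd p h') ≫
        pushout.desc p h' pullback.condition = p := by simp
    have := ((monoQis_iff _).1 hinl).2
    have hp2 : QuasiIso (pushout.inl (pullback.fst p h') (pullback.snd p h') ≫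
        pushout.desc p h' pullback.condition) := by rwa [h1]
    exact quasiIso_of_comp_left (pushout.inl (pullback.fst p h') (pullback.snd p h')) _

end Groth.Agent.KInjStep31
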