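import Groth.Agent.Lib.H15KL
import Groth.Prelude.Def_AbDual
import Groth.Prelude.Def_PicGrp
import Mathlib

/-!
# helper67: the Mumford module of an invertible module on a group scheme is a `Pic⁰`-class

* `isAlgEquivZero_core`: scheme-level core: for `N` on `X ×_S X` trivial along `X × {η}`, every pull back of `N` to a
  geometric fibre of `X ×_S W → W` (through `id × a`) is algebraically equivalent to zero (the family is `N` itself).
-/

set_option autoImplicit false
set_option linter.unusedSectionVars false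
universe u
open CategoryTheory CategoryTheory.Limits AlgebraicGeometry Opposite
open Groth.Agent.Lib.IsoCls13 Groth.Agent.Lib.H78TensorGen Groth.Agent.Lib.H90Invertible
open Groth.Agent.Lib.H15PicCalc

namespace Groth.Agent.Lib.KLKernel67

section Core

variable {S X W : Scheme.{u}} (f : X ⟶ S) (h : W ⟶ S) (a : W ⟶ X) (ha : a ≫ f = h)
  (η : S ⟶ X) (hη : η ≫ f = 𝟙 S)

/-- the section `x ↦ (x, η)` of `X ×_S X` -/
noncomputable def unitSlice : X ⟶ pullback f f :=
  pullback.lift (𝟙 X) (f ≫ η) (by rw [Category.id_comp, Category.assoc, hη, Category.comp_id])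

/-- `id × a : X ×_S W ⟶ X ×_S X` -/
noncomputable def mapA : pullback f h ⟶ pullback f f :=
  pullback.map f h f f (𝟙 X) a (𝟙 S) (by simp) (by simp [ha])

instance instSubsingletonSpecField (Ω : Type u) [Field Ω] : Subsingleton ↥(Spec (CommRingCat.of Ω)) :=
  inferInstanceAs (Subsingleton (PrimeSpectrum Ω))

include hη in
theorem isAlgEquivZero_core [GeometricallyIntegral f] [IsProper f]
    (N : (pullback f f).Modules) (hN : PicF.IsInvertible N)
    (hN0 : pull (unitSlice f η hη) (cls N) = 1)
    (Ω : Type u) [Field Ω] [IsAlgClosed Ω] (σ : Spec (CommRingCat.of Ω) ⟶ W) :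
    @Pic13.IsAlgEquivZero Ω _ (pullback (pullback.snd f h) σ) ⟨pullback.snd _ σ⟩
      ((Scheme.Modules.pullback (pullback.fst (pullback.snd f h) σ)).obj
        ((Scheme.Modules.pullback (mapA f h a ha)).obj N)) := by
  letI : (pullback (pullback.snd f h) σ).Over (Spec (CommRingCat.of Ω)) := ⟨pullback.snd _ σ⟩
  have hπ : (pullback (pullback.snd f h) σ ↘ Spec (CommRingCat.of Ω)) = pullback.snd (pullback.snd f h) σ := rfl
  -- the projection to `X`
  obtain ⟨p, hpdef⟩ : ∃ p : pullback (pullback.snd f h) σ ⟶ X, p = pullback.fst _ σ ≫ pullback.fst f h := ⟨_, rfl⟩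
  have hp : p ≫ f = pullback.snd (pullback.snd f h) σ ≫ σ ≫ h := by
    rw [hpdef, Category.assoc, pullback.condition, ← Category.assoc, pullback.condition, Category.assoc]
  -- the classifying map of the family
  obtain ⟨g, hg1, hg2⟩ : ∃ g : Pic13.prodK Ω (pullback (pullback.snd f h) σ) (pullback.snd (pullback.snd f h) σ) ⟶
      pullback f f,
      g ≫ pullback.fst f f = pullback.fst (pullback (pullback.snd f h) σ ↘ Spec (CommRingCat.of Ω))
        (pullback.snd (pullback.snd f h) σ) ≫ p ∧
      g ≫ pullback.snd f f = pullback.snd (pullback (pullback.snd f h) σ ↘ Spec (CommRingCat.of Ω))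
        (pullback.snd (pullback.snd f h) σ) ≫ p :=
    ⟨pullback.lift (pullback.fst _ _ ≫ p) (pullback.snd _ _ ≫ p) (by
      have hc : pullback.fst (pullback (pullback.snd f h) σ ↘ Spec (CommRingCat.of Ω))
          (pullback.snd (pullback.snd f h) σ) ≫ pullback.snd (pullback.snd f h) σ =
          pullback.snd (pullback (pullback.snd f h) σ ↘ Spec (CommRingCat.of Ω))
          (pullback.snd (pullback.snd f h) σ) ≫ pullback.snd (pullback.snd f h) σ := pullback.condition
      rw [Category.assoc, Category.assoc, hp, reassoc_of% hc]), pullback.lift_fst _ _ _,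
      pullback.lift_snd _ _ _⟩
  -- the two points
  obtain ⟨t, ht, htp⟩ : ∃ t : Spec (CommRingCat.of Ω) ⟶ pullback (pullback.snd f h) σ,
      t ≫ pullback.snd (pullback.snd f h) σ = 𝟙 _ ∧ t ≫ p = σ ≫ a := by
    refine ⟨pullback.lift (pullback.lift (σ ≫ a) σ (by rw [Category.assoc, ha])) (𝟙 _) (by
      rw [pullback.lift_snd, Category.id_comp]), pullback.lift_snd _ _ _, ?_⟩
    rw [hpdef, pullback.lift_fst_assoc, pullback.lift_fst]
  obtain ⟨t₀, ht₀, ht₀p⟩ : ∃ t₀ : Spec (CommRingCat.of Ω) ⟶ pullback (pullback.snd f h) σ,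
      t₀ ≫ pullback.snd (pullback.snd f h) σ = 𝟙 _ ∧ t₀ ≫ p = σ ≫ h ≫ η := by
    refine ⟨pullback.lift (pullback.lift (σ ≫ h ≫ η) σ (by
      rw [Category.assoc, Category.assoc, hη, Category.comp_id])) (𝟙 _) (by
      rw [pullback.lift_snd, Category.id_comp]), pullback.lift_snd _ _ _, ?_⟩
    rw [hpdef, pullback.lift_fst_assoc, pullback.lift_fst]
  have : IsIntegral (pullback (pullback.snd f h) σ) :=
    GeometricallyIntegral.isIntegral_of_subsingleton (pullback.snd (pullback.snd f h) σ)
  refine ⟨pullback (pullback.snd f h) σ, pullback.snd (pullback.snd f h) σ, inferInstance, inferInstance,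
    inferInstance, (Scheme.Modules.pullback g).obj N, isInvertible_pullback g hN, t, t₀, ht, ht₀, ?_, ?_⟩
  · -- fibre at `t`
    have hs : Pic13.sliceAt Ω (pullback (pullback.snd f h) σ) (pullback.snd (pullback.snd f h) σ) t ht ≫ g =
        pullback.fst (pullback.snd f h) σ ≫ mapA f h a ha := by
      apply pullback.hom_ext
      · rw [Category.assoc, hg1]
        dsimp only [Pic13.sliceAt, mapA]
        rw [pullback.lift_fst_assoc, Category.id_comp, Category.assoc,
          pullback.lift_fst, Category.comp_id, hpdef]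
      · rw [Category.assoc, hg2]
        dsimp only [Pic13.sliceAt, mapA]
        rw [pullback.lift_snd_assoc, Category.assoc, htp, Category.assoc,
          pullback.lift_snd, hπ, pullback.condition_assoc]
    apply cls_eq_iff.1
    unfold Pic13.fibreMod
    rw [← pull_cls, ← pull_cls, ← pull_cls, ← pull_cls, ← pull_comp, ← pull_comp, hs]
  · -- fibre at `t₀`
    have hs : Pic13.sliceAt Ω (pullback (pullback.snd f h) σ) (pullback.snd (pullback.snd f h) σ) t₀ ht₀ ≫ g =
        p ≫ unitSlice f η hη := by
      apply pullback.hom_ext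
      · rw [Category.assoc, hg1]
        dsimp only [Pic13.sliceAt, unitSlice]
        rw [pullback.lift_fst_assoc, Category.id_comp, Category.assoc,
          pullback.lift_fst, Category.comp_id]
      · rw [Category.assoc, hg2]
        dsimp only [Pic13.sliceAt, unitSlice]
        rw [pullback.lift_snd_assoc, Category.assoc, ht₀p, Category.assoc,
          pullback.lift_snd, hπ, ← Category.assoc p, hp, Category.assoc, Category.assoc]
    apply cls_eq_iff.1
    unfold Pic13.fibreMod
    rw [← pull_cls, ← pull_cls, ← pull_comp, hs, pull_comp, hN0, pull_one]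
    rfl

end Core

section Grp

open MonoidalCategory CartesianMonoidalCategory MonObj GrpObj
open Groth.Agent.Lib.H15KL

variable (k : Type u) [Field k] (X : Over (Spec (CommRingCat.of k))) [GrpObj X]
  {L : X.left.Modules} (hL : PicF.IsInvertible L)
  {N : (PicF.XT X.hom X).Modules} (hN : PicF.IsInvertible N)
  (hΛ : AgPol.IsLambdaSheaf (μ[X].left : PicF.XT X.hom X ⟶ X.left) (fst X X).left (snd X X).left L N)

include hL hN hΛ in
/-- the Lambda identity of `N` pulled back along `X ◁ z` -/
theorem pull_whisker_identity {W : Over (Spec (CommRingCat.of k))} (z : W ⟶ X) :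
    (pull (X ◁ z).left (cls N) * pull (fst X W).left (cls L)) * pull (snd X W ≫ z).left (cls L) =
      pull ((X ◁ z) ≫ μ[X]).left (cls L) := by
  have hℓ := inv_cls hL
  have hn := inv_cls hN
  have h0 := (isLambdaSheaf_iff _ _ _ _ _).1 hΛ
  have h1 := congrArg (pull (X ◁ z).left) h0
  rw [pull_mul _ (hn.mul (hℓ.pull _)) (hℓ.pull _), pull_mul _ hn (hℓ.pull _), ← pull_comp, ← pull_comp,
    ← pull_comp, ← Over.comp_left, ← Over.comp_left, ← Over.comp_left, whiskerLeft_fst, whiskerLeft_snd] at h1
  exact h1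

include hL hN hΛ in
/-- `N` is trivial along `X × {1}` -/
theorem pull_whisker_one (W : Over (Spec (CommRingCat.of k))) :
    pull (X ◁ (1 : W ⟶ X)).left (cls N) = 1 := by
  have hS : ∀ c : Cls (Spec (CommRingCat.of k)), Inv c → c = 1 := fun c hc => inv_eq_one_of_field k hc
  have hℓ := inv_cls hL
  have h1 := pull_whisker_identity k X hL hN hΛ (1 : W ⟶ X)
  rw [whiskerLeft_mul, MonObj.comp_one, _root_.mul_one, pull_one_left hS X hℓ, _root_.mul_one] at h1
  apply (hℓ.pull (fst X W).left).mul_left_cancel
  rw [_root_.mul_one, mul_comm]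
  exact h1

include hL hN hΛ in
/-- `N` is trivial along `X × {1}`, slice form -/
theorem pull_unitSlice :
    pull (unitSlice X.hom η[X].left (Over.w η[X])) (cls N) = 1 := by
  have hS : ∀ c : Cls (Spec (CommRingCat.of k)), Inv c → c = 1 := fun c hc => inv_eq_one_of_field k hc
  have hℓ := inv_cls hL
  have hn := inv_cls hN
  have h0 := (isLambdaSheaf_iff _ _ _ _ _).1 hΛ
  have he : unitSlice X.hom η[X].left (Over.w η[X]) = (lift (𝟙 X) (1 : X ⟶ X)).left := by
    apply pullback.hom_ext
    · rw [unitSlice, pullback.lift_fst]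
      exact (congrArg CommaMorphism.left (lift_fst (𝟙 X) (1 : X ⟶ X))).symm
    · rw [unitSlice, pullback.lift_snd]
      exact (congrArg CommaMorphism.left (lift_snd (𝟙 X) (1 : X ⟶ X))).symm
  rw [he]
  have h1 := congrArg (pull (lift (𝟙 X) (1 : X ⟶ X)).left) h0
  have hμ : lift (𝟙 X) (1 : X ⟶ X) ≫ μ[X] = 𝟙 X := by
    rw [← Hom.mul_def, _root_.mul_one]
  rw [pull_mul _ (hn.mul (hℓ.pull _)) (hℓ.pull _), pull_mul _ hn (hℓ.pull _), ← pull_comp, ← pull_comp,
    ← pull_comp, ← Over.comp_left, ← Over.comp_left, ← Over.comp_left, lift_fst, lift_snd, hμ,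
    pull_one_left hS X hℓ, _root_.mul_one, Over.id_left, pull_id] at h1
  apply hℓ.mul_left_cancel
  rw [_root_.mul_one, mul_comm]
  exact h1

variable [IsProper X.hom] [GeometricallyIntegral X.hom]

include hL hN hΛ in
/-- every pull back of the Mumford module along `X ◁ a` is a `Pic⁰`-class -/
theorem isPicZeroCl_pullCl (W : Over (Spec (CommRingCat.of k))) (a : W ⟶ X) :
    AbDual.IsPicZeroCl X.hom W (PicF.pullCl (PicF.XTmap X.hom a) (PicF.cl N)) := by
  refine ⟨(Scheme.Modules.pullback (PicF.XTmap X.hom a)).obj N, rfl, isInvertible_pullback _ hN, ?_⟩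
  intro w Ω _ _ σ _
  exact isAlgEquivZero_core X.hom W.hom a.left (Over.w a) η[X].left (Over.w η[X]) N hN
    (pull_unitSlice k X hL hN hΛ) Ω σ

end Grp

end Groth.Agent.Lib.KLKernel67
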