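import Mathlib.AlgebraicGeometry.ResidueField
import Mathlib.AlgebraicGeometry.Morphisms.ClosedImmersion

/-!
# Rational points of an arbitrary scheme over a field are determined by their image point
(helper45)

No finiteness hypothesis and no algebraic closedness (cf. Mathlib's
`AlgebraicGeometry.ext_of_apply_closedPoint_eq`).
-/

set_option autoImplicit false
universe u
open CategoryTheory AlgebraicGeometry

namespace Groth.Agent.Lib.KPointExt45

variable {K : Type u} [Field K] {X : Scheme.{u}}

lemma exists_factor (s : Spec (.of K) ⟶ X) (y : X) (hy : s (IsLocalRing.closedPoint K) = y) :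
    ∃ α : X.residueField y ⟶ .of K, s = Spec.map α ≫ X.fromSpecResidueField y := by
  subst hy
  exact ⟨_, (Scheme.descResidueField_stalkClosedPointTo_fromSpecResidueField K X s).symm⟩

/-- Two sections of `X ⟶ Spec K` with the same image point are equal. -/
theorem ext_of_apply_closedPoint_eq {f g : Spec (.of K) ⟶ X} (h : X ⟶ Spec (.of K))
    (hf : f ≫ h = 𝟙 _) (hg : g ≫ h = 𝟙 _)
    (H : f (IsLocalRing.closedPoint K) = g (IsLocalRing.closedPoint K)) : f = g := by
  obtain ⟨α₁, h₁⟩ := exists_factor f _ rfl
  obtain ⟨α₂, h₂⟩ := exists_factor g _ H.symm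
  let β : CommRingCat.of K ⟶ X.residueField (f (IsLocalRing.closedPoint K)) :=
    Spec.preimage (X.fromSpecResidueField _ ≫ h)
  have hβ : Spec.map β = X.fromSpecResidueField _ ≫ h := Spec.map_preimage _
  have e₁ : β ≫ α₁ = 𝟙 _ := by
    apply Spec.map_injective
    rw [Spec.map_comp, hβ, Spec.map_id, ← Category.assoc, ← h₁, hf]
  have e₂ : β ≫ α₂ = 𝟙 _ := by
    apply Spec.map_injective
    rw [Spec.map_comp, hβ, Spec.map_id, ← Category.assoc, ← h₂, hg]
  have hinj : Function.Injective α₁.hom := α₁.hom.injective
  have key : α₁ = α₂ := by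
    ext c
    have h1 : α₁.hom (β.hom (α₂.hom c)) = α₂.hom c := by
      have := congr($(e₁).hom (α₂.hom c))
      simpa using this
    have h2 : α₂.hom (β.hom (α₂.hom c)) = α₂.hom c := by
      have := congr($(e₂).hom (α₂.hom c))
      simpa using this
    have h3 : β.hom (α₂.hom c) = c := α₂.hom.injective h2
    rw [h3] at h1
    exact h1
  rw [h₁, h₂, key]

/-- The image of a rational point is a closed point. -/
theorem isClosed_singleton_of_section (f : Spec (.of K) ⟶ X) (h : X ⟶ Spec (.of K))
    (hf : f ≫ h = 𝟙 _) : IsClosed ({f (IsLocalRing.closedPoint K)} : Set X) := by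
  have := isClosedImmersion_of_comp_eq_id (Y := Spec (.of K)) h f hf
  have h2 := f.isClosedEmbedding.isClosed_range
  rwa [Set.range_eq_singleton] at h2
  exact fun x ↦ congr(f $(Subsingleton.elim _ _))

end Groth.Agent.Lib.KPointExt45
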