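import Groth.Agent.Lib.HomCxKFlat25

/-!
# Dévissage for predicates on K-projective complexes with perfect image in `D(A)` (helper25)

`prop_of_isPerfect`: a predicate `Φ` on complexes which is invariant under homotopy retracts of
K-projective complexes, holds for `A[0]`, is stable under shifts and under mapping cones of maps
between K-projective complexes holds for every K-projective complex whose image in `D(A)` is
perfect.
-/

set_option autoImplicit false
set_option linter.unusedSectionVars false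
set_option linter.style.haveILetI false
universe u

open CategoryTheory Category Limits CochainComplex HomComplex Pretriangulated

attribute [local instance] HasDerivedCategory.standard

namespace Groth.Agent.Lib.KProjDevissage25

open Groth.Agent.Lib.RHomModel25 Groth.Agent.Lib.HomTensor25 DerivedCategory

variable {A : Type u} [CommRing A] (Φ : DRing.Cx A → Prop)

/-- the induced property on `D(A)` -/
def PΦ : ObjectProperty (Dual.D A) := fun X =>
  ∀ (E : DRing.Cx A) [E.IsKProjective], Nonempty (Q.obj E ≅ X) → Φ E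

instance : (PΦ Φ).IsClosedUnderIsomorphisms where
  of_iso e h := fun E _ ⟨i⟩ => h E ⟨i ≪≫ e.symm⟩

variable
  (hretract : ∀ (E E' : DRing.Cx A) [E.IsKProjective] [E'.IsKProjective] (ι : E ⟶ E') (π : E' ⟶ E),
    Homotopy (ι ≫ π) (𝟙 E) → Φ E' → Φ E)
  (hunit : Φ (S0 A))
  (hshift : ∀ (E : DRing.Cx A) [E.IsKProjective] (n : ℤ), Φ E → Φ (E⟦n⟧))
  (hcone : ∀ (X Y : DRing.Cx A) [X.IsKProjective] [Y.IsKProjective] (φ : X ⟶ Y),
    Φ X → Φ Y → Φ (mappingCone φ))

include hretract in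
lemma prop_of_retract_D (E E' : DRing.Cx A) [E.IsKProjective] [E'.IsKProjective]
    (i : Q.obj E ⟶ Q.obj E') (r : Q.obj E' ⟶ Q.obj E) (hir : i ≫ r = 𝟙 _) (h : Φ E') : Φ E := by
  obtain ⟨ι, rfl⟩ := exists_Q_map_eq_of_kproj i
  obtain ⟨π, rfl⟩ := exists_Q_map_eq_of_kproj r
  have h1 : Q.map (ι ≫ π) = Q.map (𝟙 E) := by
    rw [Functor.map_comp, hir, CategoryTheory.Functor.map_id]
  obtain ⟨ho⟩ := nonempty_homotopy_of_kproj h1
  exact hretract E E' ι π ho h

include hretract in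
lemma prop_of_iso_D (E E' : DRing.Cx A) [E.IsKProjective] [E'.IsKProjective]
    (i : Q.obj E ≅ Q.obj E') (h : Φ E') : Φ E :=
  prop_of_retract_D Φ hretract E E' i.hom i.inv i.hom_inv_id h

include hretract in
lemma prop_of_iso_cx (E E' : DRing.Cx A) [E.IsKProjective] [E'.IsKProjective]
    (i : E ≅ E') (h : Φ E') : Φ E :=
  hretract E E' i.hom i.inv (Homotopy.ofEq i.hom_inv_id) h

include hretract hunit hshift hcone in
theorem PΦ_of_isPerfect (X : Dual.D A) (hX : DRing.IsPerfect A X) : PΦ Φ X := by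
  obtain ⟨E, a, b, hE, hfp, ⟨e⟩⟩ := hX
  refine (PΦ Φ).prop_of_iso e ?_
  refine Groth.Agent.Lib.DThick.prop_of_bounded_finite_projective (PΦ Φ) ?_ ?_ ?_ ?_ E a b hE hfp
  · -- the unit
    intro E' _ ⟨i⟩
    exact prop_of_iso_D Φ hretract E' (S0 A) i hunit
  · -- shifts
    intro X n h E' _ ⟨i⟩
    have h1 : Φ (E'⟦-n⟧) := h _
      ⟨(Q.commShiftIso (-n)).app E' ≪≫ (CategoryTheory.shiftFunctor (Dual.D A) (-n)).mapIso i ≪≫
        (shiftFunctorCompIsoId (Dual.D A) n (-n) (by omega)).app X⟩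
    have h2 := hshift (E'⟦-n⟧) n h1
    exact prop_of_iso_cx Φ hretract E' ((E'⟦-n⟧)⟦n⟧)
      ((shiftFunctorCompIsoId (DRing.Cx A) (-n) n (by omega)).app E').symm h2
  · -- extensions
    intro T hT h1 h3 E₂ _ ⟨i₂⟩
    obtain ⟨E₃, hE₃, ⟨i₃⟩⟩ := exists_kproj_rep (T.invRotate.obj₁)
    obtain ⟨E₁, hE₁, ⟨i₁⟩⟩ := exists_kproj_rep T.invRotate.obj₂
    haveI := hE₃
    haveI := hE₁
    obtain ⟨φ, hφ⟩ := exists_Q_map_eq_of_kproj (i₃.hom ≫ T.invRotate.mor₁ ≫ i₁.inv)
    haveI := isKProjective_mappingCone φ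
    have hd : Q.mapTriangle.obj (mappingCone.triangle φ) ∈ distTriang (Dual.D A) := by
      rw [DerivedCategory.mem_distTriang_iff]
      exact ⟨_, _, φ, ⟨Iso.refl _⟩⟩
    let iso := isoTriangleOfIso₁₂ _ _ hd (inv_rot_of_distTriang _ hT) i₃ i₁ (by
      change Q.map φ ≫ i₁.hom = i₃.hom ≫ T.invRotate.mor₁
      rw [hφ, Category.assoc, Category.assoc, Iso.inv_hom_id, Category.comp_id])
    have e₂ : Q.obj (mappingCone φ) ≅ T.obj₂ := Triangle.π₃.mapIso iso
    refine prop_of_iso_D Φ hretract E₂ (mappingCone φ) (i₂ ≪≫ e₂.symm) ?_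
    refine hcone E₃ E₁ φ ?_ (h1 E₁ ⟨i₁⟩)
    have h4 : Φ (E₃⟦(1 : ℤ)⟧) := h3 (E₃⟦(1 : ℤ)⟧) ⟨(Q.commShiftIso (1 : ℤ)).app E₃ ≪≫
        (CategoryTheory.shiftFunctor (Dual.D A) (1 : ℤ)).mapIso i₃ ≪≫
        (shiftFunctorCompIsoId (Dual.D A) (-1 : ℤ) 1 (by omega)).app T.obj₃⟩
    have h5 := hshift (E₃⟦(1 : ℤ)⟧) (-1) h4
    exact prop_of_iso_cx Φ hretract E₃ ((E₃⟦(1 : ℤ)⟧)⟦(-1 : ℤ)⟧)
      ((shiftFunctorCompIsoId (DRing.Cx A) (1 : ℤ) (-1) (by omega)).app E₃).symm h5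
  · -- summands
    intro X Y _ h E' _ ⟨i⟩
    obtain ⟨E'', hE'', ⟨j⟩⟩ := exists_kproj_rep (X ⊞ Y)
    haveI := hE''
    refine prop_of_retract_D Φ hretract E' E'' (i.hom ≫ biprod.inl ≫ j.inv)
      (j.hom ≫ biprod.fst ≫ i.inv) ?_ (h E'' ⟨j⟩)
    simp

include hretract hunit hshift hcone in
/-- **Dévissage**: `Φ` holds for every K-projective complex with perfect image in `D(A)`. -/
theorem prop_of_isPerfect (E : DRing.Cx A) [E.IsKProjective]
    (hE : DRing.IsPerfect A (Q.obj E)) : Φ E :=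
  PΦ_of_isPerfect Φ hretract hunit hshift hcone _ hE E ⟨Iso.refl _⟩

end Groth.Agent.Lib.KProjDevissage25
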