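import Groth.Agent.Lib.LeftDerivedVerdier21
import Groth.Agent.Lib.SemiFreeKProj35
import Groth.Agent.Lib.KFlat35
import Mathlib.Algebra.Homology.HomotopyCategory.KProjective
import Mathlib.Algebra.Homology.DerivedCategory.Basic

/-!
# Left derived functors on `K(R)` via K-projective complexes (helper35)

For a commutative ring `R`: the K-projective complexes form a Verdier-left-localizing triangulated
subcategory of `K(R)` with resolutions (`SemiFreeKProj35`).  Hence (helper21 `LeftDerivedVerdier21`)
EVERY functor `F : K(R) ⥤ H` has a left derived functor w.r.t. quasi-isomorphisms, the counit of any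
left derived functor is an isomorphism on K-projective complexes, and a pair `(G, β)` whose `β` is
an isomorphism on K-projective complexes is a left derived functor (`isLeftDerivedFunctor_of_isIso_kproj`).
Also: K-projective complexes of modules are K-flat.
-/

set_option autoImplicit false
universe u
open CategoryTheory Limits Pretriangulated ZeroObject
attribute [local instance] HasDerivedCategory.standard

namespace Groth.Agent.Lib.KProjTri35

variable (R : Type u) [CommRing R]

/-- acyclic objects of `K(R)` -/
abbrev acyc : ObjectProperty (HomotopyCategory (ModuleCat.{u} R) (ComplexShape.up ℤ)) :=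
  HomotopyCategory.subcategoryAcyclic (ModuleCat.{u} R)

/-- K-projective objects of `K(R)` -/
abbrev kproj : ObjectProperty (HomotopyCategory (ModuleCat.{u} R) (ComplexShape.up ℤ)) :=
  (acyc R).leftOrthogonal

instance : (kproj R).IsVerdierLeftLocalizing (acyc R) where
  fac {X Y} f hX hY :=
    ⟨0, 0, 0, ObjectProperty.prop_zero _, ObjectProperty.prop_zero _, by rw [hX f hY, zero_comp]⟩

theorem hasRes : Groth.Agent.Lib.LeftDerivedVerdier21.HasRes (kproj R) (acyc R) := by
  intro K
  obtain ⟨K : CochainComplex _ _, rfl⟩ := HomotopyCategory.quotient_obj_surjective K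
  obtain ⟨P, r, hP, -, -, hr, -⟩ :=
    Groth.Agent.Lib.SemiFreeKProj35.exists_kprojective_resolution (R := R) K
  refine ⟨(HomotopyCategory.quotient _ _).obj P, (HomotopyCategory.quotient _ _).map r,
    (CochainComplex.isKProjective_iff_leftOrthogonal P).1 hP, ?_⟩
  rw [← HomotopyCategory.quasiIso_eq_trW_subcategoryAcyclic,
    HomotopyCategory.quotient_map_mem_quasiIso_iff]
  exact hr

variable {R}

/-- a quasi-isomorphism between K-projective objects is an isomorphism in `K(R)` -/
theorem isIso_of_kproj {P Q : HomotopyCategory (ModuleCat.{u} R) (ComplexShape.up ℤ)} (f : P ⟶ Q)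
    (hP : kproj R P) (hQ : kproj R Q) (hf : (acyc R).trW f) : IsIso f := by
  have cQ : (acyc R).trW.isColocal Q := by rw [ObjectProperty.isColocal_trW]; exact hQ
  have cP : (acyc R).trW.isColocal P := by rw [ObjectProperty.isColocal_trW]; exact hP
  have bQ := cQ f hf
  have bP := cP f hf
  obtain ⟨g, hg⟩ := bQ.2 (𝟙 Q)
  have hg' : g ≫ f = 𝟙 Q := hg
  refine ⟨g, bP.1 ?_, hg'⟩
  change (f ≫ g) ≫ f = 𝟙 P ≫ f
  rw [Category.assoc, hg', Category.comp_id, Category.id_comp]

section Derived

variable {H : Type*} [Category H]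
  (F : HomotopyCategory (ModuleCat.{u} R) (ComplexShape.up ℤ) ⥤ H)

private lemma hF' : ∀ ⦃P Q : HomotopyCategory (ModuleCat.{u} R) (ComplexShape.up ℤ)⦄ (f : P ⟶ Q),
    kproj R P → kproj R Q → (acyc R).trW f → IsIso (F.map f) := by
  intro P Q f hP hQ hf
  have := isIso_of_kproj f hP hQ hf
  infer_instance

/-- every functor on `K(R)` has a left derived functor w.r.t. quasi-isomorphisms -/
theorem hasLeftDerivedFunctor :
    F.HasLeftDerivedFunctor (HomotopyCategory.quasiIso (ModuleCat.{u} R) (ComplexShape.up ℤ)) :=
  Groth.Agent.Lib.LeftDerivedVerdier21.hasLeftDerivedFunctor_of_eq F (hF' F) (hasRes R) _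
    (HomotopyCategory.quasiIso_eq_trW_subcategoryAcyclic _)

/-- the counit of any left derived functor is an isomorphism at K-projective complexes -/
theorem isIso_counit_app {D : Type*} [Category D]
    (L : HomotopyCategory (ModuleCat.{u} R) (ComplexShape.up ℤ) ⥤ D)
    [L.IsLocalization (HomotopyCategory.quasiIso (ModuleCat.{u} R) (ComplexShape.up ℤ))]
    (LF : D ⥤ H) (α : L ⋙ LF ⟶ F)
    [LF.IsLeftDerivedFunctor α (HomotopyCategory.quasiIso (ModuleCat.{u} R) (ComplexShape.up ℤ))]
    (P : CochainComplex (ModuleCat.{u} R) ℤ) [hP : P.IsKProjective] :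
    IsIso (α.app ((HomotopyCategory.quotient _ _).obj P)) :=
  Groth.Agent.Lib.LeftDerivedVerdier21.isIso_counit_app_of_eq F (hF' F) (hasRes R) _
    (HomotopyCategory.quasiIso_eq_trW_subcategoryAcyclic _) L LF α _
    ((CochainComplex.isKProjective_iff_leftOrthogonal P).1 hP)

/-- recognition of left derived functors on K-projective complexes -/
theorem isLeftDerivedFunctor_of_isIso_kproj
    (G : DerivedCategory (ModuleCat.{u} R) ⥤ H) (β : DerivedCategory.Qh ⋙ G ⟶ F)
    (hβ : ∀ P : CochainComplex (ModuleCat.{u} R) ℤ, P.IsKProjective →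
      Groth.Agent.Lib.KFlat35.IsKFlat P → IsIso (β.app ((HomotopyCategory.quotient _ _).obj P))) :
    G.IsLeftDerivedFunctor β (HomotopyCategory.quasiIso (ModuleCat.{u} R) (ComplexShape.up ℤ)) := by
  let W := HomotopyCategory.quasiIso (ModuleCat.{u} R) (ComplexShape.up ℤ)
  have : F.HasLeftDerivedFunctor W := hasLeftDerivedFunctor F
  let LF := F.totalLeftDerived DerivedCategory.Qh W
  let α := F.totalLeftDerivedCounit DerivedCategory.Qh W
  rw [Functor.isLeftDerivedFunctor_iff_isIso_leftDerivedLift LF α W]
  rw [NatTrans.isIso_iff_isIso_app]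
  intro K
  obtain ⟨P, p, hP, hPf, -, hp, -⟩ :=
    Groth.Agent.Lib.SemiFreeKProj35.exists_kprojective_resolution (R := R)
      (DerivedCategory.Q.objPreimage K)
  have hiso : IsIso (DerivedCategory.Q.map p) :=
    (DerivedCategory.isIso_Q_map_iff_quasiIso (φ := p)).2 hp
  let e : DerivedCategory.Qh.obj ((HomotopyCategory.quotient _ _).obj P) ≅ K :=
    @asIso _ _ _ _ (DerivedCategory.Q.map p) hiso ≪≫ DerivedCategory.Q.objObjPreimageIso K
  rw [← NatTrans.isIso_app_iff_of_iso _ e]
  have inst : LF.IsLeftDerivedFunctor α W := inferInstance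
  have h1 : IsIso (α.app ((HomotopyCategory.quotient _ _).obj P)) :=
    isIso_counit_app F DerivedCategory.Qh LF α P
  have h2 := hβ P hP hPf
  have h3 := LF.leftDerived_fac_app α W G β ((HomotopyCategory.quotient _ _).obj P)
  rw [← h3] at h2
  exact IsIso.of_isIso_comp_right _ (α.app ((HomotopyCategory.quotient _ _).obj P))

end Derived

end Groth.Agent.Lib.KProjTri35
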