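import Groth.Agent.Lib.KoszulQuot
import Groth.Agent.Lib.KoszulIdeal
import Mathlib.RingTheory.Flat.FaithfullyFlat.Basic
import Mathlib.RingTheory.LocalProperties.Exactness
import Mathlib.RingTheory.Localization.BaseChange

/-!
# Koszul-regular sequences: faithfully flat descent and Zariski local-to-global (helper32)

* `isKoszulRegularSeq_of_faithfullyFlat`: for `R → R'` faithfully flat, `l.map (algebraMap R R')`
  Koszul-regular over `R'` implies `l` Koszul-regular over `R`;
* `isKoszulRegularSeq_of_ofList_eq_top`: a sequence generating the unit ideal is Koszul-regular;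
* `isKoszulRegularSeq_of_locally`: Koszul-regularity of a sequence can be checked on a cover by
  basic opens.
-/

set_option autoImplicit false
universe u
open CategoryTheory CategoryTheory.Limits CochainComplex HomologicalComplex

attribute [local instance] HasDerivedCategory.standard

namespace Groth.Agent.Lib.KRDescA

open Groth.Agent.Lib.KoszulCone Groth.Agent.Lib.KoszulReduce Groth.Agent.Lib.KoszulQuot
  Groth.Agent.Lib.KoszulMinLen Groth.Agent.Lib.KoszulIdeal

variable {R : Type u} [CommRing R]

section ff

open MonoidalCategory

/-- tensoring with a faithfully flat module reflects acyclicity -/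
theorem isZero_homology_of_tensor_of_faithfullyFlat (M : ModuleCat.{u} R)
    [Module.FaithfullyFlat R M]
    (K : CochainComplex (ModuleCat.{u} R) ℤ) (j : ℤ)
    (h : IsZero ((((tensorRight M).mapHomologicalComplex (ComplexShape.up ℤ)).obj K).homology j)) :
    IsZero (K.homology j) := by
  rw [isZero_homology_iff _ (j - 1) j (j + 1) (by omega) rfl] at h ⊢
  exact Module.FaithfullyFlat.rTensor_reflects_exact R M _ _ h

theorem isZero_homology_kcx_of_faithfullyFlat (M : ModuleCat.{u} R) [Module.FaithfullyFlat R M]
    (l : List R) (j : ℤ) (h : IsZero ((kcx M l).homology j)) :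
    IsZero ((kcx (ModuleCat.of R R) l).homology j) :=
  isZero_homology_of_tensor_of_faithfullyFlat M _ j
    (((HomologicalComplex.homologyFunctor _ _ j).mapIso (tensorKcxIso M l)).isZero_iff.mpr h)

variable (R) in
theorem faithfullyFlat_restrict_self (R' : Type u) [CommRing R'] [Algebra R R']
    [Module.FaithfullyFlat R R'] :
    Module.FaithfullyFlat R
      ((ModuleCat.restrictScalars (algebraMap R R')).obj (ModuleCat.of R' R')) := by
  refine Module.FaithfullyFlat.of_linearEquiv (R := R) (M := R') ?_
  exact
    { toFun := fun x => x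
      invFun := fun x => x
      map_add' := fun _ _ => rfl
      map_smul' := fun a x => by
        show algebraMap R R' a * (show R' from x) = a • (show R' from x)
        rw [Algebra.smul_def]
      left_inv := fun _ => rfl
      right_inv := fun _ => rfl }

/-- **faithfully flat descent** of Koszul-regular sequences -/
theorem isKoszulRegularSeq_of_faithfullyFlat {R' : Type u} [CommRing R'] [Algebra R R']
    [Module.FaithfullyFlat R R'] (l : List R)
    (h : LCI.IsKoszulRegularSeq R' (l.map (algebraMap R R'))) : LCI.IsKoszulRegularSeq R l := by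
  rw [isKoszulRegularSeq_iff] at h ⊢
  intro i hi
  have h1 := h i hi
  rw [← isZero_homology_restrict_iff (algebraMap R R')] at h1
  have h2 := ((HomologicalComplex.homologyFunctor _ _ i).mapIso
    (resKcxIso (algebraMap R R') (ModuleCat.of R' R') l)).isZero_iff.mp h1
  have := faithfullyFlat_restrict_self R R'
  exact isZero_homology_kcx_of_faithfullyFlat _ l i h2

end ff

section unit

/-- the Koszul complex of `[1]` is acyclic -/
theorem subsingleton_homology_kcx_one (M : ModuleCat.{u} R) (n : ℤ) :
    Subsingleton ((kcx M [(1 : R)]).homology n) := by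
  show Subsingleton ((mappingCone ((1 : R) • 𝟙 (kcx M []))).homology n)
  rw [one_smul]
  have h := (mappingCone.homotopyToZeroOfId (kcx M [])).homologyMap_eq n
  rw [HomologicalComplex.homologyMap_id, HomologicalComplex.homologyMap_zero] at h
  exact ModuleCat.subsingleton_of_isZero ((IsZero.iff_id_eq_zero _).mpr h)

/-- a sequence generating the unit ideal has acyclic Koszul complex -/
theorem subsingleton_homology_kcx_of_eq_top (M : ModuleCat.{u} R) (l : List R)
    (hl : Ideal.ofList l = ⊤) (n : ℤ) : Subsingleton ((kcx M l).homology n) := by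
  have h1 := subsingleton_homology_of_append M l [(1 : R)]
    (fun y _ => by
      have : Ideal.span {a : R | a ∈ [(1 : R)]} = ⊤ := by
        rw [Ideal.eq_top_iff_one]
        exact Ideal.subset_span (by simp)
      rw [this]
      trivial)
    (fun y _ => by
      change y ∈ Ideal.ofList l
      rw [hl]
      trivial)
    (n - 1) (fun j _ => subsingleton_homology_kcx_one M _)
  simpa using h1

theorem isKoszulRegularSeq_of_ofList_eq_top (l : List R) (hl : Ideal.ofList l = ⊤) :
    LCI.IsKoszulRegularSeq R l := by
  rw [isKoszulRegularSeq_iff]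
  intro i _
  have := subsingleton_homology_kcx_of_eq_top (ModuleCat.of R R) l hl i
  exact ModuleCat.isZero_of_subsingleton _

end unit

section local_global

open TensorProduct

variable (R' : Type u) [CommRing R'] [Algebra R R']

/-- `R'` with the restricted module structure is `R'` -/
def restrictSelfEquiv :
    ((ModuleCat.restrictScalars (algebraMap R R')).obj (ModuleCat.of R' R')) ≃ₗ[R] R' where
  toFun := fun x => x
  invFun := fun x => x
  map_add' := fun _ _ => rfl
  map_smul' := fun a x => by
    show algebraMap R R' a * (show R' from x) = a • (show R' from x)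
    rw [Algebra.smul_def]
  left_inv := fun _ => rfl
  right_inv := fun _ => rfl

/-- the localization map `M → M ⊗ R'` -/
noncomputable def locMap (M : Type u) [AddCommGroup M] [Module R M] : M →ₗ[R] M ⊗[R] R' :=
  (TensorProduct.comm R R' M).toLinearMap ∘ₗ TensorProduct.mk R R' M 1

theorem locMap_apply (M : Type u) [AddCommGroup M] [Module R M] (x : M) :
    locMap R' M x = x ⊗ₜ[R] (1 : R') := rfl

instance (g : R) [IsLocalization.Away g R'] (M : Type u) [AddCommGroup M] [Module R M] :
    IsLocalizedModule.Away g (locMap R' M) := by
  unfold locMap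
  have : IsLocalizedModule (Submonoid.powers g) (TensorProduct.mk R R' M 1) :=
    IsLocalization.tensorProduct_isLocalizedModule (Submonoid.powers g) R'
  exact IsLocalizedModule.of_linearEquiv (Submonoid.powers g) (TensorProduct.mk R R' M 1)
    (TensorProduct.comm R R' M)

theorem map_locMap (g : R) [IsLocalization.Away g R'] {M N : Type u} [AddCommGroup M] [Module R M]
    [AddCommGroup N] [Module R N] (F : M →ₗ[R] N) :
    IsLocalizedModule.map (Submonoid.powers g) (locMap R' M) (locMap R' N) F = F.rTensor R' := by
  apply IsLocalizedModule.linearMap_ext (Submonoid.powers g) (locMap R' M) (locMap R' N)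
  rw [IsLocalizedModule.map_comp]
  ext x
  simp [locMap_apply]

open MonoidalCategory in
theorem exact_rTensor_of_kr (l : List R) (h : LCI.IsKoszulRegularSeq R' (l.map (algebraMap R R')))
    (i : ℤ) (hi : i < 0) :
    Function.Exact (((kcx (ModuleCat.of R R) l).d (i - 1) i).hom.rTensor R')
      (((kcx (ModuleCat.of R R) l).d i (i + 1)).hom.rTensor R') := by
  have h1 := (isKoszulRegularSeq_iff _).mp h i hi
  rw [← isZero_homology_restrict_iff (algebraMap R R')] at h1
  have h2 := ((HomologicalComplex.homologyFunctor _ _ i).mapIso
    (resKcxIso (algebraMap R R') (ModuleCat.of R' R') l)).isZero_iff.mp h1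
  have h3 := ((HomologicalComplex.homologyFunctor _ _ i).mapIso
    (tensorKcxIso ((ModuleCat.restrictScalars (algebraMap R R')).obj (ModuleCat.of R' R'))
      l)).isZero_iff.mpr h2
  replace h3 : IsZero ((((tensorRight ((ModuleCat.restrictScalars (algebraMap R R')).obj
      (ModuleCat.of R' R'))).mapHomologicalComplex (ComplexShape.up ℤ)).obj
        (kcx (ModuleCat.of R R) l)).homology i) := h3
  rw [isZero_homology_iff _ (i - 1) i (i + 1) (by omega) rfl] at h3
  have h4 : Function.Exact
      (((kcx (ModuleCat.of R R) l).d (i - 1) i).hom.rTensor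
        ((ModuleCat.restrictScalars (algebraMap R R')).obj (ModuleCat.of R' R')))
      (((kcx (ModuleCat.of R R) l).d i (i + 1)).hom.rTensor
        ((ModuleCat.restrictScalars (algebraMap R R')).obj (ModuleCat.of R' R'))) := h3
  refine Function.Exact.of_ladder_linearEquiv_of_exact
    (e₁ := TensorProduct.congr (LinearEquiv.refl R _) (restrictSelfEquiv R'))
    (e₂ := TensorProduct.congr (LinearEquiv.refl R _) (restrictSelfEquiv R'))
    (e₃ := TensorProduct.congr (LinearEquiv.refl R _) (restrictSelfEquiv R')) ?_ ?_ h4
  · apply TensorProduct.ext'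
    intro x y
    rfl
  · apply TensorProduct.ext'
    intro x y
    rfl

end local_global

section main

open TensorProduct

/-- a chosen model of a localization where `l` becomes Koszul-regular -/
structure LocModel (l : List R) (g : R) where
  R' : Type u
  [cr : CommRing R']
  [alg : Algebra R R']
  [loc : IsLocalization.Away g R']
  kr : LCI.IsKoszulRegularSeq R' (l.map (algebraMap R R'))

attribute [instance] LocModel.cr LocModel.alg LocModel.loc

/-- **Zariski local-to-global** for Koszul-regular sequences -/
theorem isKoszulRegularSeq_of_locally (l : List R)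
    (H : ∀ 𝔮 : PrimeSpectrum R, ∃ g : R, g ∉ 𝔮.asIdeal ∧ Nonempty (LocModel l g)) :
    LCI.IsKoszulRegularSeq R l := by
  rw [isKoszulRegularSeq_iff]
  intro i hi
  rw [isZero_homology_iff _ (i - 1) i (i + 1) (by omega) rfl]
  let s : Set R := {g | Nonempty (LocModel l g)}
  have spn : Ideal.span s = ⊤ := by
    by_contra hne
    obtain ⟨𝔪, hmax, hle⟩ := Ideal.exists_le_maximal _ hne
    obtain ⟨g, hg, hs⟩ := H ⟨𝔪, hmax.isPrime⟩
    exact hg (hle (Ideal.subset_span hs))
  let m : ∀ r : s, LocModel l r.1 := fun r => Classical.choice r.2
  refine exact_of_isLocalized_span s spn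
    (fun r => ((kcx (ModuleCat.of R R) l).X (i - 1)) ⊗[R] (m r).R') (fun r => locMap (m r).R' _)
    (fun r => ((kcx (ModuleCat.of R R) l).X i) ⊗[R] (m r).R') (fun r => locMap (m r).R' _)
    (fun r => ((kcx (ModuleCat.of R R) l).X (i + 1)) ⊗[R] (m r).R') (fun r => locMap (m r).R' _)
    ((kcx (ModuleCat.of R R) l).d (i - 1) i).hom ((kcx (ModuleCat.of R R) l).d i (i + 1)).hom ?_
  intro r
  rw [map_locMap, map_locMap]
  exact exact_rTensor_of_kr (m r).R' l (m r).kr i hi

end main

end Groth.Agent.Lib.KRDescA
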