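import Groth.Agent.Lib.KRDescA

/-!
# Koszul-regular sequences: local-to-global at maximal ideals (helper89)

`isKoszulRegularSeq_of_atPrime`: a sequence `l` in `R` whose image in `R_𝔪` is Koszul-regular for
every maximal ideal `𝔪` is Koszul-regular (no finiteness hypotheses). Same proof as helper32's
`KRDescA.isKoszulRegularSeq_of_locally`, using `exact_of_isLocalized_maximal`.
-/

set_option autoImplicit false
set_option linter.style.haveILetI false
universe u
open CategoryTheory CategoryTheory.Limits CochainComplex HomologicalComplex

attribute [local instance] HasDerivedCategory.standard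

namespace Groth.Agent.Lib.KRLocal89

open Groth.Agent.Lib.KoszulCone Groth.Agent.Lib.KoszulReduce Groth.Agent.Lib.KoszulQuot
  Groth.Agent.Lib.KRDescA TensorProduct

variable {R : Type u} [CommRing R] (R' : Type u) [CommRing R'] [Algebra R R']

theorem isLocalizedModule_locMap (S : Submonoid R) [IsLocalization S R'] (M : Type u)
    [AddCommGroup M] [Module R M] : IsLocalizedModule S (locMap R' M) := by
  unfold locMap
  have : IsLocalizedModule S (TensorProduct.mk R R' M 1) :=
    IsLocalization.tensorProduct_isLocalizedModule S R'
  exact IsLocalizedModule.of_linearEquiv S (TensorProduct.mk R R' M 1)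
    (TensorProduct.comm R R' M)

theorem map_locMap' (S : Submonoid R) [IsLocalization S R'] {M N : Type u} [AddCommGroup M]
    [Module R M] [AddCommGroup N] [Module R N] (F : M →ₗ[R] N) :
    haveI := isLocalizedModule_locMap R' S M
    haveI := isLocalizedModule_locMap R' S N
    IsLocalizedModule.map S (locMap R' M) (locMap R' N) F = F.rTensor R' := by
  haveI := isLocalizedModule_locMap R' S M
  haveI := isLocalizedModule_locMap R' S N
  apply IsLocalizedModule.linearMap_ext S (locMap R' M) (locMap R' N)
  rw [IsLocalizedModule.map_comp]
  ext x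
  simp [locMap_apply]

instance instIsLocalizedModuleLocMap (m : Ideal R) [m.IsPrime] (M : Type u) [AddCommGroup M]
    [Module R M] : IsLocalizedModule.AtPrime m (locMap (Localization.AtPrime m) M) :=
  isLocalizedModule_locMap (Localization.AtPrime m) m.primeCompl M

/-- **Local-to-global at maximal ideals** for Koszul-regular sequences. -/
theorem isKoszulRegularSeq_of_atPrime (l : List R)
    (H : ∀ (m : Ideal R) [m.IsMaximal], LCI.IsKoszulRegularSeq (Localization.AtPrime m)
      (l.map (algebraMap R (Localization.AtPrime m)))) :
    LCI.IsKoszulRegularSeq R l := by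
  rw [isKoszulRegularSeq_iff]
  intro i hi
  rw [isZero_homology_iff _ (i - 1) i (i + 1) (by omega) rfl]
  refine exact_of_isLocalized_maximal
    (fun m _ => ((kcx (ModuleCat.of R R) l).X (i - 1)) ⊗[R] Localization.AtPrime m)
    (fun m _ => locMap (Localization.AtPrime m) _)
    (fun m _ => ((kcx (ModuleCat.of R R) l).X i) ⊗[R] Localization.AtPrime m)
    (fun m _ => locMap (Localization.AtPrime m) _)
    (fun m _ => ((kcx (ModuleCat.of R R) l).X (i + 1)) ⊗[R] Localization.AtPrime m)
    (fun m _ => locMap (Localization.AtPrime m) _)
    ((kcx (ModuleCat.of R R) l).d (i - 1) i).hom ((kcx (ModuleCat.of R R) l).d i (i + 1)).hom ?_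
  intro m _
  have h1 := map_locMap' (Localization.AtPrime m) m.primeCompl
    ((kcx (ModuleCat.of R R) l).d (i - 1) i).hom
  have h2 := map_locMap' (Localization.AtPrime m) m.primeCompl
    ((kcx (ModuleCat.of R R) l).d i (i + 1)).hom
  rw [h1, h2]
  exact exact_rTensor_of_kr (Localization.AtPrime m) l (H m) i hi

end Groth.Agent.Lib.KRLocal89
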