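import Groth.Agent.Lib.MvPolyRegular
import Groth.Agent.S15821
import Mathlib.RingTheory.RingHom.StandardSmooth
import Mathlib.RingTheory.Unramified.Basic
import Mathlib.RingTheory.Etale.Basic
import Mathlib.RingTheory.RingHom.Etale
import Mathlib.RingTheory.Smooth.StandardSmoothOfFree
import Mathlib.RingTheory.Smooth.Locus
import Mathlib.RingTheory.Localization.BaseChange
import Mathlib.RingTheory.Regular.Flat

/-!
# A section of a smooth ring map is (locally) cut out by a regular sequence

Namespace `Groth.Agent.Lib.SecSmooth` (helper32, keystone SecSmooth).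

* `exists_regular_add_idempotent` : `S` étale over `C[t₁,…,tₙ]`, `σ : S →ₐ[C] C`; then
  `ker σ = (u) + (e')` with `u` a weakly regular sequence in `S` (translated coordinates) and `e'`
  idempotent modulo `(u)`.
* `Good B J 𝔓` : there is `w ∉ 𝔓` such that `J B_w` is generated by a weakly regular sequence of
  `B_w = Localization.Away w`; `good_of_isLocalizationAway`, `good_of_localization`.
* `good_ker_of_smooth` : **ring core**: `B` smooth over `C`, `σ : B →ₐ[C] C`, `𝔓` a prime containing
  `ker σ`; then `Good B (ker σ) 𝔓`.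
* `isKoszulRegularIdeal_ker_of_smooth` : hence `ker σ` is a Koszul-regular ideal (`LCI`).
-/

set_option autoImplicit false
set_option maxHeartbeats 400000

namespace Groth.Agent.Lib.SecSmooth

open MvPolynomial RingTheory.Sequence TensorProduct Groth.Agent.Lib.MvPolyRegular

universe u

section EtaleCore

/-- étale coordinates around a section -/
theorem exists_regular_add_idempotent {C S : Type u} [CommRing C] [CommRing S] [Algebra C S]
    (n : ℕ) [Algebra (MvPolynomial (Fin n) C) S] [IsScalarTower C (MvPolynomial (Fin n) C) S]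
    [Algebra.Etale (MvPolynomial (Fin n) C) S] (σ : S →ₐ[C] C) :
    ∃ (u : List S) (e' : S), IsWeaklyRegular S u ∧ (∀ x ∈ u, σ x = 0) ∧ σ e' = 0 ∧
      e' * e' - e' ∈ Ideal.ofList u ∧
      RingHom.ker σ.toRingHom = Ideal.ofList u ⊔ Ideal.span {e'} := by
  classical
  let R := MvPolynomial (Fin n) C
  let a : Fin n → C := fun i => σ (algebraMap R S (X i))
  let v : Fin n → R := fun i => X i - MvPolynomial.C (a i)
  let u : List S := (List.ofFn v).map (algebraMap R S)
  have hu : IsWeaklyRegular S u := (isWeaklyRegular_X_sub_C a).of_flat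
  have hσu : ∀ x ∈ u, σ x = 0 := by
    intro x hx
    simp only [u, List.mem_map, List.mem_ofFn] at hx
    obtain ⟨_, ⟨i, rfl⟩, rfl⟩ := hx
    simp only [v, map_sub]
    have : algebraMap R S (MvPolynomial.C (a i)) = algebraMap C S (a i) := by
      rw [IsScalarTower.algebraMap_apply C R S]
      rfl
    rw [this, AlgHom.commutes]
    simp [a]
  -- the quotient by `(u)`
  let Q := S ⧸ Ideal.ofList u
  let f₂ : S →ₐ[R] Q := Ideal.Quotient.mkₐ R (Ideal.ofList u)
  -- the two `C`-algebra maps `R → Q`
  have hcomm : ∀ r : R, (Ideal.Quotient.mk (Ideal.ofList u)) (algebraMap C S (σ (algebraMap R S r))) =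
      (Ideal.Quotient.mk (Ideal.ofList u)) (algebraMap R S r) := by
    let g₁ : R →ₐ[C] Q :=
      ((Ideal.Quotient.mkₐ C (Ideal.ofList u)).comp (Algebra.ofId C S)).comp
        (σ.comp (IsScalarTower.toAlgHom C R S))
    let g₂ : R →ₐ[C] Q :=
      (Ideal.Quotient.mkₐ C (Ideal.ofList u)).comp (IsScalarTower.toAlgHom C R S)
    have hg : g₁ = g₂ := by
      apply MvPolynomial.algHom_ext
      intro i
      show (Ideal.Quotient.mk (Ideal.ofList u)) (algebraMap C S (σ (algebraMap R S (X i)))) =
        (Ideal.Quotient.mk (Ideal.ofList u)) (algebraMap R S (X i))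
      rw [eq_comm, Ideal.Quotient.eq]
      have hmem : algebraMap R S (v i) ∈ Ideal.ofList u := by
        apply Ideal.subset_span
        simp only [u, List.mem_map, List.mem_ofFn, Set.mem_ofPred_eq]
        exact ⟨v i, ⟨i, rfl⟩, rfl⟩
      convert hmem using 1
      simp only [v, map_sub, a]
      congr 1
      rw [IsScalarTower.algebraMap_apply C R S]
      rfl
    intro r
    exact congrArg (fun g : R →ₐ[C] Q => g r) hg
  let f₁ : S →ₐ[R] Q :=
    { toRingHom := ((Ideal.Quotient.mk (Ideal.ofList u)).comp (algebraMap C S)).comp σ.toRingHom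
      commutes' := fun r => hcomm r }
  have hf₁ : ∀ s : S, f₁ s = Ideal.Quotient.mk (Ideal.ofList u) (algebraMap C S (σ s)) :=
    fun s => rfl
  have hf₂ : ∀ s : S, f₂ s = Ideal.Quotient.mk (Ideal.ofList u) s := fun s => rfl
  let Ψ : S ⊗[R] S →ₐ[R] Q := Algebra.TensorProduct.productMap f₁ f₂
  -- the diagonal idempotent
  obtain ⟨e, he, hsp⟩ : ∃ e, IsIdempotentElem e ∧
      KaehlerDifferential.ideal R S = Ideal.span {e} :=
    (Ideal.isIdempotentElem_iff_of_fg _ (KaehlerDifferential.ideal_fg R S)).mp <|
      (Ideal.cotangent_subsingleton_iff _).mp <| inferInstanceAs <| Subsingleton Ω[S⁄R]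
  have hmk : Function.Surjective (Ideal.Quotient.mk (Ideal.ofList u)) :=
    Ideal.Quotient.mk_surjective
  have hσι : ∀ s : S, σ (s - algebraMap C S (σ s)) = 0 := by
    intro s
    rw [map_sub, AlgHom.commutes]
    simp
  have hmap : (RingHom.ker σ.toRingHom).map (Ideal.Quotient.mk (Ideal.ofList u)) =
      Ideal.span {Ψ e} := by
    have h1 : Ideal.map Ψ.toRingHom (KaehlerDifferential.ideal R S) = Ideal.span {Ψ e} := by
      rw [hsp, Ideal.map_span, Set.image_singleton]
      rfl
    rw [← h1, ← KaehlerDifferential.span_range_eq_ideal, Ideal.map_span]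
    apply le_antisymm
    · rw [Ideal.map_le_iff_le_comap]
      intro x hx
      rw [Ideal.mem_comap]
      apply Ideal.subset_span
      refine ⟨(1 : S) ⊗ₜ[R] x - x ⊗ₜ[R] (1 : S), ⟨x, rfl⟩, ?_⟩
      show Ψ ((1 : S) ⊗ₜ[R] x - x ⊗ₜ[R] (1 : S)) = _
      rw [map_sub, Algebra.TensorProduct.productMap_apply_tmul,
        Algebra.TensorProduct.productMap_apply_tmul, map_one, map_one, one_mul, mul_one, hf₁, hf₂]
      have hx0 : σ x = 0 := hx
      rw [hx0, map_zero, map_zero, sub_zero]
    · rw [Ideal.span_le]
      rintro _ ⟨_, ⟨s, rfl⟩, rfl⟩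
      have : Ψ.toRingHom ((1 : S) ⊗ₜ[R] s - s ⊗ₜ[R] (1 : S)) =
          Ideal.Quotient.mk (Ideal.ofList u) (s - algebraMap C S (σ s)) := by
        show Ψ ((1 : S) ⊗ₜ[R] s - s ⊗ₜ[R] (1 : S)) = _
        rw [map_sub, Algebra.TensorProduct.productMap_apply_tmul,
          Algebra.TensorProduct.productMap_apply_tmul, map_one, map_one, one_mul, mul_one, hf₁,
          hf₂, map_sub]
      rw [this]
      exact Ideal.mem_map_of_mem _ (hσι s)
  have hΨe : IsIdempotentElem (Ψ e) := he.map Ψ
  obtain ⟨e', he'σ, he'⟩ : ∃ e' ∈ RingHom.ker σ.toRingHom,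
      Ideal.Quotient.mk (Ideal.ofList u) e' = Ψ e := by
    have : Ψ e ∈ (RingHom.ker σ.toRingHom).map (Ideal.Quotient.mk (Ideal.ofList u)) := by
      rw [hmap]
      exact Ideal.subset_span rfl
    exact (Ideal.mem_map_iff_of_surjective _ hmk).1 this
  refine ⟨u, e', hu, hσu, he'σ, ?_, ?_⟩
  · rw [← Ideal.Quotient.eq, map_mul, he']
    exact hΨe
  · apply le_antisymm
    · intro x hx
      have h1 : Ideal.Quotient.mk (Ideal.ofList u) x ∈ Ideal.span {Ψ e} := by
        rw [← hmap]
        exact Ideal.mem_map_of_mem _ hx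
      obtain ⟨y, hy⟩ := Ideal.mem_span_singleton'.1 h1
      obtain ⟨y', rfl⟩ := hmk y
      rw [← he', ← map_mul, Ideal.Quotient.eq] at hy
      have : x = (x - y' * e') + y' * e' := by ring
      rw [this]
      refine Submodule.add_mem_sup ?_ (Ideal.mul_mem_left _ _ (Ideal.subset_span rfl))
      rw [← neg_sub]
      exact neg_mem hy
    · refine sup_le ?_ ?_
      · unfold Ideal.ofList
        rw [Ideal.span_le]
        intro x hx
        exact hσu x hx
      · rw [Ideal.span_le]
        intro x hx
        rw [Set.mem_singleton_iff] at hx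
        subst hx
        exact he'σ

/-- standard smooth algebra with a retraction -/
theorem exists_regular_add_idempotent_of_isStandardSmooth {C S : Type u} [CommRing C]
    [CommRing S] [Algebra C S] [Algebra.IsStandardSmooth C S] (σ : S →ₐ[C] C) :
    ∃ (u : List S) (e' : S), IsWeaklyRegular S u ∧ (∀ x ∈ u, σ x = 0) ∧ σ e' = 0 ∧
      e' * e' - e' ∈ Ideal.ofList u ∧
      RingHom.ker σ.toRingHom = Ideal.ofList u ⊔ Ideal.span {e'} := by
  obtain ⟨ι, κ, _, _, ⟨P⟩⟩ := Algebra.IsStandardSmooth.out (R := C) (S := S)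
  have hdim : Algebra.IsStandardSmoothOfRelativeDimension P.dimension C S :=
    ⟨ι, κ, inferInstance, inferInstance, P, rfl⟩
  obtain ⟨g, hg⟩ :=
    Algebra.IsStandardSmoothOfRelativeDimension.exists_etale_mvPolynomial P.dimension C S
  let _ : Algebra (MvPolynomial (Fin P.dimension) C) S := g.toRingHom.toAlgebra
  have hst : IsScalarTower C (MvPolynomial (Fin P.dimension) C) S :=
    IsScalarTower.of_algebraMap_eq fun c => (g.commutes c).symm
  have het : Algebra.Etale (MvPolynomial (Fin P.dimension) C) S := hg
  exact exists_regular_add_idempotent P.dimension σ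

end EtaleCore

end Groth.Agent.Lib.SecSmooth

namespace Groth.Agent.Lib.SecSmooth

open RingTheory.Sequence

universe u

section Good

/-- near the ideal `𝔓`, the ideal `J` is generated by a weakly regular sequence -/
def Good (B : Type u) [CommRing B] (J 𝔓 : Ideal B) : Prop :=
  ∃ w : B, w ∉ 𝔓 ∧ ∃ u : List (Localization.Away w), IsWeaklyRegular (Localization.Away w) u ∧
    J.map (algebraMap B (Localization.Away w)) = Ideal.ofList u

/-- abstract form: any localization away from an element outside `𝔓` will do -/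
theorem good_of_isLocalizationAway {B : Type u} [CommRing B] (J 𝔓 : Ideal B) (w : B) (hw : w ∉ 𝔓)
    (T : Type u) [CommRing T] [Algebra B T] [IsLocalization.Away w T] (u : List T)
    (hu : IsWeaklyRegular T u) (hJ : J.map (algebraMap B T) = Ideal.ofList u) : Good B J 𝔓 := by
  let e : T ≃ₐ[B] Localization.Away w := IsLocalization.algEquiv (Submonoid.powers w) T _
  refine ⟨w, hw, u.map e, ?_, ?_⟩
  · refine (e.toAddEquiv.isWeaklyRegular_congr ?_).1 hu
    rw [List.forall₂_map_right_iff]
    exact List.forall₂_same.mpr fun r _ x => map_mul e r x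
  · have h1 : (J.map (algebraMap B T)).map (e : T →+* Localization.Away w) =
        J.map (algebraMap B (Localization.Away w)) := by
      rw [Ideal.map_map]
      congr 1
      ext b
      exact e.commutes b
    rw [← h1, hJ, Ideal.map_ofList]
    rfl

/-- reduction to a localization -/
theorem good_of_localization {B : Type u} [CommRing B] (J 𝔓 : Ideal B) [𝔓.IsPrime] (h : B)
    (hh : h ∉ 𝔓) (B' : Type u) [CommRing B'] [Algebra B B'] [IsLocalization.Away h B']
    (hgood : Good B' (J.map (algebraMap B B')) (𝔓.map (algebraMap B B'))) : Good B J 𝔓 := by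
  obtain ⟨w', hw', u, hu, hJ⟩ := hgood
  have hloc : IsLocalization.Away (h * (IsLocalization.Away.sec h w').1) (Localization.Away w') :=
    .mul_of_associated _ _ w' <| IsLocalization.Away.associated_sec_fst h w'
  refine good_of_isLocalizationAway J 𝔓 (h * (IsLocalization.Away.sec h w').1) ?_
    (Localization.Away w') u hu ?_
  · refine Ideal.IsPrime.mul_notMem ‹_› hh fun hmem => hw' ?_
    rw [Ideal.mem_iff_of_associated (IsLocalization.Away.associated_sec_fst h w').symm]
    exact Ideal.mem_map_of_mem (algebraMap B B') hmem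
  · rw [← hJ, Ideal.map_map, ← IsScalarTower.algebraMap_eq]

end Good

end Groth.Agent.Lib.SecSmooth

namespace Groth.Agent.Lib.SecSmooth

open RingTheory.Sequence

universe u

section StdSmooth

/-- the kernel of a retraction of a standard smooth algebra is, near any proper ideal containing it,
generated by a weakly regular sequence -/
theorem good_of_isStandardSmooth {C S : Type u} [CommRing C] [CommRing S] [Algebra C S]
    [Algebra.IsStandardSmooth C S] (σ : S →ₐ[C] C) (𝔔 : Ideal S)
    (h𝔔 : RingHom.ker σ.toRingHom ≤ 𝔔) (hne : 𝔔 ≠ ⊤) : Good S (RingHom.ker σ.toRingHom) 𝔔 := by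
  obtain ⟨u, e', hu, -, he'σ, hee, hker⟩ := exists_regular_add_idempotent_of_isStandardSmooth σ
  have hw : (1 - e') ∉ 𝔔 := by
    intro hmem
    apply hne
    rw [Ideal.eq_top_iff_one]
    have : (1 : S) = (1 - e') + e' := by ring
    rw [this]
    exact 𝔔.add_mem hmem (h𝔔 he'σ)
  let T := Localization.Away (1 - e')
  refine ⟨1 - e', hw, u.map (algebraMap S T), hu.of_isLocalization T (Submonoid.powers (1 - e')), ?_⟩
  rw [hker, Ideal.map_sup, Ideal.map_ofList, Ideal.map_span, Set.image_singleton]
  apply le_antisymm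
  · refine sup_le le_rfl ?_
    rw [Ideal.span_le]
    intro x hx
    rw [Set.mem_singleton_iff] at hx
    subst hx
    have hunit : IsUnit (algebraMap S T (1 - e')) := IsLocalization.Away.algebraMap_isUnit (1 - e')
    have h1 : algebraMap S T (e' * (1 - e')) ∈ Ideal.ofList (u.map (algebraMap S T)) := by
      rw [← Ideal.map_ofList]
      apply Ideal.mem_map_of_mem
      have : e' * (1 - e') = -(e' * e' - e') := by ring
      rw [this]
      exact neg_mem hee
    rw [map_mul] at h1
    exact (Ideal.mul_unit_mem_iff_mem _ hunit).1 h1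
  · exact le_sup_left

end StdSmooth

end Groth.Agent.Lib.SecSmooth

namespace Groth.Agent.Lib.SecSmooth

open RingTheory.Sequence TensorProduct

universe u

section Main

attribute [local instance] Algebra.TensorProduct.rightAlgebra in
/-- **Ring core**: the kernel of a retraction `σ : B → C` of a smooth `C`-algebra `B` is, near every
prime containing it, generated by a weakly regular sequence. -/
theorem good_ker_of_smooth {C B : Type u} [CommRing C] [CommRing B] [Algebra C B]
    [Algebra.Smooth C B] (σ : B →ₐ[C] C) (𝔓 : Ideal B) [𝔓.IsPrime]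
    (hJ : RingHom.ker σ.toRingHom ≤ 𝔓) : Good B (RingHom.ker σ.toRingHom) 𝔓 := by
  have hsm : Algebra.IsSmoothAt C 𝔓 := by
    have : (⟨𝔓, inferInstance⟩ : PrimeSpectrum B) ∈ Algebra.smoothLocus C B := by
      rw [Algebra.smoothLocus_eq_univ]
      trivial
    exact this
  obtain ⟨h, hh, hstd⟩ := Algebra.IsSmoothAt.exists_notMem_isStandardSmooth C 𝔓
  set c : C := σ h with hc
  let C' := Localization.Away c
  let Bh := Localization.Away h
  let S := C' ⊗[C] Bh
  -- the retraction
  have hunit : ∀ y : Submonoid.powers h, IsUnit (((Algebra.ofId C C').comp σ) y) := by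
    rintro ⟨_, k, rfl⟩
    show IsUnit (algebraMap C C' (σ (h ^ k)))
    rw [map_pow, map_pow]
    exact (IsLocalization.Away.algebraMap_isUnit c).pow k
  let σh : Bh →ₐ[C] C' := IsLocalization.liftAlgHom (M := Submonoid.powers h)
    (f := (Algebra.ofId C C').comp σ) hunit
  have hσh : ∀ b : B, σh (algebraMap B Bh b) = algebraMap C C' (σ b) := fun b =>
    IsLocalization.lift_eq _ b
  let σS : S →ₐ[C'] C' := Algebra.TensorProduct.lift (AlgHom.id C' C') σh
    (fun _ _ => Commute.all _ _)
  -- `S` as a localization of `B`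
  let _ : Algebra B S := ((algebraMap Bh S).comp (algebraMap B Bh)).toAlgebra
  have hst : IsScalarTower B Bh S := IsScalarTower.of_algebraMap_eq' rfl
  have hσS : ∀ b : B, σS (algebraMap B S b) = algebraMap C C' (σ b) := by
    intro b
    show σS ((1 : C') ⊗ₜ[C] (algebraMap B Bh b)) = _
    rw [Algebra.TensorProduct.lift_tmul, map_one, one_mul, hσh]
  have hloc1 : IsLocalization.Away (algebraMap B Bh (algebraMap C B c)) S := by
    have h1 : IsLocalization (Algebra.algebraMapSubmonoid Bh (Submonoid.powers c)) S :=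
      IsLocalization.tensorRight C' (Submonoid.powers c)
    have h2 : Algebra.algebraMapSubmonoid Bh (Submonoid.powers c) =
        Submonoid.powers (algebraMap B Bh (algebraMap C B c)) := by
      unfold Algebra.algebraMapSubmonoid
      rw [Submonoid.map_powers, IsScalarTower.algebraMap_apply C B Bh]
    rw [h2] at h1
    exact h1
  have hloc : IsLocalization.Away (h * algebraMap C B c) S :=
    IsLocalization.Away.mul' Bh S h (algebraMap C B c)
  -- `w₀ ∉ 𝔓`
  have hιc : algebraMap C B c ∉ 𝔓 := by
    intro hmem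
    apply hh
    have h1 : h - algebraMap C B c ∈ 𝔓 := by
      apply hJ
      show σ (h - algebraMap C B c) = 0
      rw [map_sub, AlgHom.commutes, hc]
      simp
    have : h = (h - algebraMap C B c) + algebraMap C B c := by ring
    rw [this]
    exact 𝔓.add_mem h1 hmem
  have hw₀ : h * algebraMap C B c ∉ 𝔓 := Ideal.IsPrime.mul_notMem ‹_› hh hιc
  -- the kernel
  have hker : (RingHom.ker σ.toRingHom).map (algebraMap B S) = RingHom.ker σS.toRingHom := by
    apply le_antisymm
    · rw [Ideal.map_le_iff_le_comap]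
      intro x hx
      show σS (algebraMap B S x) = 0
      have hx0 : σ x = 0 := hx
      rw [hσS, hx0, map_zero]
    · intro y hy
      have hy0 : σS y = 0 := hy
      obtain ⟨k, b, hkb⟩ := IsLocalization.Away.surj (h * algebraMap C B c) y
      have h1 : algebraMap C C' (σ b) = 0 := by
        rw [← hσS, ← hkb, map_mul, hy0, zero_mul]
      obtain ⟨⟨_, j, rfl⟩, hm⟩ := (IsLocalization.map_eq_zero_iff (Submonoid.powers c) C' _).1 h1
      have hb₁ : (algebraMap C B c) ^ j * b ∈ RingHom.ker σ.toRingHom := by
        show σ ((algebraMap C B c) ^ j * b) = 0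
        rw [map_mul, map_pow, AlgHom.commutes]
        exact hm
      have h2 : algebraMap B S ((algebraMap C B c) ^ j * b) ∈
          (RingHom.ker σ.toRingHom).map (algebraMap B S) := Ideal.mem_map_of_mem _ hb₁
      have hu1 : IsUnit (algebraMap B S (h * algebraMap C B c)) :=
        IsLocalization.Away.algebraMap_isUnit _
      have hu2 : IsUnit (algebraMap B S (algebraMap C B c)) := by
        have := hu1
        rw [map_mul] at this
        exact (IsUnit.mul_iff.1 this).2
      have h3 : algebraMap B S ((algebraMap C B c) ^ j * b) =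
          y * (algebraMap B S (h * algebraMap C B c) ^ k * algebraMap B S (algebraMap C B c) ^ j) := by
        rw [map_mul, map_pow, ← hkb]
        ring
      rw [h3] at h2
      exact (Ideal.mul_unit_mem_iff_mem _ ((hu1.pow k).mul (hu2.pow j))).1 h2
  -- `𝔓 S` is proper
  have hne : 𝔓.map (algebraMap B S) ≠ ⊤ := by
    intro htop
    have hdisj : Disjoint (Submonoid.powers (h * algebraMap C B c) : Set B) (𝔓 : Set B) := by
      rwa [Ideal.disjoint_powers_iff_notMem_of_isPrime]
    have := IsLocalization.under_map_of_isPrime_disjoint (Submonoid.powers (h * algebraMap C B c))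
      S ‹𝔓.IsPrime› hdisj
    rw [htop, Ideal.under_top] at this
    exact (Ideal.IsPrime.ne_top ‹_›) this.symm
  have hgood : Good S (RingHom.ker σS.toRingHom) (𝔓.map (algebraMap B S)) :=
    good_of_isStandardSmooth σS _ (hker ▸ Ideal.map_mono hJ) hne
  rw [← hker] at hgood
  exact good_of_localization _ 𝔓 (h * algebraMap C B c) hw₀ S hgood

end Main

end Groth.Agent.Lib.SecSmooth

namespace Groth.Agent.Lib.SecSmooth

universe u

/-- the kernel of a retraction of a smooth algebra is a Koszul-regular ideal -/
theorem isKoszulRegularIdeal_ker_of_smooth {C B : Type u} [CommRing C] [CommRing B] [Algebra C B]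
    [Algebra.Smooth C B] (σ : B →ₐ[C] C) : LCI.IsKoszulRegularIdeal (RingHom.ker σ.toRingHom) := by
  intro 𝔭 h𝔭
  obtain ⟨w, hw, u, hu, hJ⟩ := good_ker_of_smooth σ 𝔭.asIdeal h𝔭
  exact ⟨w, hw, u, (Groth.Agent.S15821.result _ u hu).1, hJ⟩

end Groth.Agent.Lib.SecSmooth
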