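import Groth.Agent.Lib.SmoothLCI
import Groth.Agent.Lib.SecSmooth
import Mathlib.RingTheory.TensorProduct.Quotient

/-!
# Koszul-regular ideals ascend along smooth maps with the same quotient (helper19)

Namespace `Groth.Agent.Lib.SmoothLCI`.

* `isKoszulRegularIdeal_ker_of_smooth_of_ker_comp` : `φ : A → B` smooth, `χ : B → C`, `χ ∘ φ` surjective
  with Koszul-regular kernel; then `ker χ` is a Koszul-regular ideal of `B`.
  (The converse is `isKoszulRegularIdeal_ker_comp_of_smooth` in `Lib/SmoothLCI`.)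
* `isKoszulRegularIdeal_ker_comp_iff_of_smooth` : the equivalence.
-/

set_option autoImplicit false
universe u

namespace Groth.Agent.Lib.SmoothLCI

open Groth.Agent.Lib.LCIComp

variable {A B C : Type u} [CommRing A] [CommRing B] [CommRing C]

theorem isKoszulRegularIdeal_ker_of_smooth_of_ker_comp (φ : A →+* B) (hφ : φ.Smooth) (χ : B →+* C)
    (hsurj : Function.Surjective (χ.comp φ))
    (hI : LCI.IsKoszulRegularIdeal (RingHom.ker (χ.comp φ))) :
    LCI.IsKoszulRegularIdeal (RingHom.ker χ) := by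
  letI := φ.toAlgebra
  haveI : Algebra.Smooth A B := hφ
  set I : Ideal A := RingHom.ker (χ.comp φ) with hIdef
  haveI : Algebra.Smooth (A ⧸ I) (B ⧸ I.map (algebraMap A B)) :=
    Algebra.Smooth.of_equiv (Algebra.TensorProduct.quotIdealMapEquivQuotTensor B I).symm
  let e : (A ⧸ I) ≃+* C := RingHom.quotientKerEquivOfSurjective hsurj
  have hle : I.map (algebraMap A B) ≤ RingHom.ker χ := by
    rw [Ideal.map_le_iff_le_comap]
    intro a ha
    rw [Ideal.mem_comap, RingHom.mem_ker]
    exact ha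
  let σ₀ : (B ⧸ I.map (algebraMap A B)) →+* C := Ideal.Quotient.lift _ χ (fun b hb => hle hb)
  let σ : (B ⧸ I.map (algebraMap A B)) →ₐ[A ⧸ I] (A ⧸ I) :=
    { toRingHom := (e.symm : C →+* A ⧸ I).comp σ₀
      commutes' := by
        intro a'
        obtain ⟨a, rfl⟩ := Ideal.Quotient.mk_surjective a'
        show e.symm (σ₀ (algebraMap (A ⧸ I) (B ⧸ I.map (algebraMap A B)) (Ideal.Quotient.mk I a))) = _
        rw [RingEquiv.symm_apply_eq]
        rfl }
  have hσ := Groth.Agent.Lib.SecSmooth.isKoszulRegularIdeal_ker_of_smooth σ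
  have hπ : Function.Surjective (Ideal.Quotient.mk (I.map (algebraMap A B))) :=
    Ideal.Quotient.mk_surjective
  have hE : LCI.IsKoszulRegularIdeal (RingHom.ker (Ideal.Quotient.mk (I.map (algebraMap A B)))) := by
    rw [Ideal.mk_ker]
    exact isKoszulRegularIdeal_map_of_flat I hI
  have h := isKoszulRegularIdeal_comap_of_surjective _ hπ hE _ hσ
  convert h using 1
  ext b
  rw [Ideal.mem_comap, RingHom.mem_ker, RingHom.mem_ker]
  show χ b = 0 ↔ e.symm (χ b) = 0
  rw [map_eq_zero_iff _ e.symm.injective]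

theorem isKoszulRegularIdeal_ker_comp_iff_of_smooth (φ : A →+* B) (hφ : φ.Smooth) (χ : B →+* C)
    (hsurj : Function.Surjective (χ.comp φ)) :
    LCI.IsKoszulRegularIdeal (RingHom.ker (χ.comp φ)) ↔ LCI.IsKoszulRegularIdeal (RingHom.ker χ) :=
  ⟨isKoszulRegularIdeal_ker_of_smooth_of_ker_comp φ hφ χ hsurj,
    fun h => isKoszulRegularIdeal_ker_comp_of_smooth φ hφ χ h hsurj⟩

end Groth.Agent.Lib.SmoothLCI
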