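import Groth.Agent.Lib.KRegImm
import Groth.Agent.Lib.SmoothLCI2
import Mathlib.AlgebraicGeometry.Morphisms.Smooth
import Mathlib.AlgebraicGeometry.Morphisms.Immersion

/-!
# Koszul-regular immersions and smooth ambient schemes (helper19)

Namespace `Groth.Agent.Lib.KRegImmSmooth`.

* `exists_affine_isClosedImmersion_restrict` : immersions are closed immersions over small affines.
* `KChart.isKoszulRegularIdeal`, `exists_kchart_of_isKoszulRegularIdeal` : charts versus Koszul-regular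
  ideals of sections.
* `exists_pair_chart` : compatible charts for `i = j ≫ p`.
* `kr_transfer` : over compatible charts, with `p` smooth, the ideal of `i` is Koszul-regular iff the
  ideal of `j` is.
* `isRegularImmersion_koszul_iff_of_smooth` : `i = j ≫ p`, `p` smooth, `i`, `j` immersions: `i` is a
  Koszul-regular immersion iff `j` is.
-/

set_option autoImplicit false
set_option linter.style.haveILetI false
universe u
open CategoryTheory CategoryTheory.Limits AlgebraicGeometry TopologicalSpace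

namespace Groth.Agent.Lib.KRegImmSmooth

open Groth.Agent.Lib.KRegImm Groth.Agent.Lib.KoszulIdeal Groth.Agent.Lib.KoszulImmPerfect
  Groth.Agent.Lib.KoszulQuot

variable {Z X : Scheme.{u}}

theorem exists_affine_isClosedImmersion_restrict (i : Z ⟶ X) [IsImmersion i]
    (z : Z) : ∃ U : X.Opens, IsAffineOpen U ∧ i z ∈ U ∧ IsClosedImmersion (i ∣_ U) := by
  have hz : i z ∈ i.coborderRange := subset_coborder ⟨z, rfl⟩
  obtain ⟨_, ⟨U, hU, rfl⟩, hzU, hUsub⟩ :=
    X.isBasis_affineOpens.exists_subset_of_mem_open hz i.coborderRange.2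
  refine ⟨U, hU, hzU, ?_⟩
  haveI : IsPreimmersion (i ∣_ U) := inferInstance
  refine IsClosedImmersion.of_isPreimmersion _ ?_
  have hr : Set.range (i ∣_ U) = (Subtype.val : U → X) ⁻¹' Set.range i := by
    ext ⟨x, hx⟩
    constructor
    · rintro ⟨w, hw⟩
      refine ⟨w.1, ?_⟩
      have := congrArg Subtype.val hw
      rw [morphismRestrict_base_coe] at this
      exact this
    · rintro ⟨w, hw⟩
      have hwU : w ∈ i ⁻¹ᵁ U := by
        change i w ∈ U
        rw [hw]; exact hx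
      refine ⟨⟨w, hwU⟩, Subtype.ext ?_⟩
      rw [morphismRestrict_base_coe]
      exact hw
  rw [hr]
  have hc : IsClosed ((Subtype.val : coborder (Set.range i) → X) ⁻¹' Set.range i) :=
    isClosed_preimage_val_coborder
  have := hc.preimage (continuous_inclusion hUsub)
  exact this

theorem mem_basicOpen_iff_notMem_primeIdealOf (V : X.Opens) (hV : IsAffineOpen V)
    (x : X) (hx : x ∈ V) (f : Γ(X, V)) :
    x ∈ X.basicOpen f ↔ f ∉ (hV.primeIdealOf ⟨x, hx⟩).asIdeal := by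
  have h1 : hV.primeIdealOf ⟨x, hx⟩ ∈ hV.fromSpec ⁻¹ᵁ X.basicOpen f ↔ x ∈ X.basicOpen f := by
    change hV.fromSpec (hV.primeIdealOf ⟨x, hx⟩) ∈ X.basicOpen f ↔ _
    rw [hV.fromSpec_primeIdealOf ⟨x, hx⟩]
  rw [← h1, hV.fromSpec_preimage_basicOpen]
  rfl

section ring

variable {R : Type u} [CommRing R]

theorem genAt_ofList_one (l : List R) (hl : LCI.IsKoszulRegularSeq R l) :
    GenAt (Ideal.ofList l) 1 := by
  haveI : IsLocalization.Away (1 : R) R := IsLocalization.away_of_isUnit_of_bijective R isUnit_one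
    Function.bijective_id
  refine GenAt.mk R l hl ?_
  rw [Algebra.algebraMap_self, Ideal.map_id]

theorem isKoszulRegularIdeal_ofList (l : List R) (hl : LCI.IsKoszulRegularSeq R l) :
    LCI.IsKoszulRegularIdeal (Ideal.ofList l) := by
  rw [isKoszulRegularIdeal_iff]
  intro 𝔭 _
  exact ⟨1, fun h => 𝔭.isPrime.ne_top ((Ideal.eq_top_iff_one _).mpr h), genAt_ofList_one l hl⟩

end ring

/-- the ideal of a chart is Koszul-regular -/
theorem KChart.isKoszulRegularIdeal {i : Z ⟶ X} {U : X.Opens} {d : ℕ} (h : KChart i U d) :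
    LCI.IsKoszulRegularIdeal (RingHom.ker (i.app U).hom) := by
  obtain ⟨_, _, rs, -, hrs, hker⟩ := h
  rw [hker]
  exact isKoszulRegularIdeal_ofList rs hrs

/-- a Koszul-regular ideal of sections gives charts at all points -/
theorem exists_kchart_of_isKoszulRegularIdeal (i : Z ⟶ X) {U : X.Opens} (hU : IsAffineOpen U)
    [hcl : IsClosedImmersion (i ∣_ U)]
    (hI : LCI.IsKoszulRegularIdeal (RingHom.ker (i.app U).hom)) (z : Z) (hz : i z ∈ U) :
    ∃ (g : Γ(X, U)) (d : ℕ), i z ∈ X.basicOpen g ∧ KChart i (X.basicOpen g) d := by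
  have hle : RingHom.ker (i.app U).hom ≤ (hU.primeIdealOf ⟨i z, hz⟩).asIdeal := by
    intro a ha
    by_contra hna
    have h1 : i z ∈ X.basicOpen a := (mem_basicOpen_iff_notMem_primeIdealOf U hU (i z) hz a).mpr hna
    have h2 : z ∈ i ⁻¹ᵁ X.basicOpen a := h1
    rw [Scheme.preimage_basicOpen] at h2
    rw [RingHom.mem_ker] at ha
    have h3 : (i.app U) a = 0 := ha
    rw [h3, Scheme.basicOpen_zero] at h2
    exact h2
  obtain ⟨g, hg, hgen⟩ := (isKoszulRegularIdeal_iff _).mp hI _ hle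
  haveI : IsLocalization.Away g Γ(X, X.basicOpen g) := hU.isLocalization_basicOpen g
  obtain ⟨l, hl, hmap⟩ := hgen.exists_list Γ(X, X.basicOpen g)
  refine ⟨g, l.length, (mem_basicOpen_iff_notMem_primeIdealOf U hU (i z) hz g).mpr hg, hU.basicOpen g,
    ?_, l, rfl, hl, ?_⟩
  · haveI : IsClosedImmersion (i ∣_ (⟨U, hU⟩ : X.affineOpens).1) := hcl
    exact Groth.Agent.Lib.RegSpreadGeom.isClosedImmersion_restrict_basicOpen i ⟨U, hU⟩ g
  · haveI : IsClosedImmersion (i ∣_ (⟨U, hU⟩ : X.affineOpens).1) := hcl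
    have := Groth.Agent.Lib.RegSpreadGeom.ker_app_basicOpen i ⟨U, hU⟩ g
    rw [this]
    exact hmap

section pair

variable {X V V' : Scheme.{u}}

/-- compatible charts for `j ≫ p` and `j` -/
theorem exists_pair_chart (j : X ⟶ V') (p : V' ⟶ V)
    {W : V.Opens} {W' : V'.Opens} (hW : IsAffineOpen W) (hW' : IsAffineOpen W')
    [IsClosedImmersion ((j ≫ p) ∣_ W)] (x : X) (hx : (j ≫ p) x ∈ W) (hx' : j x ∈ W') :
    ∃ (a : Γ(V, W)) (b : Γ(V', W')) (c : Γ(V', V'.basicOpen b)),
      x ∈ (j ≫ p) ⁻¹ᵁ (V.basicOpen a) ∧ V'.basicOpen c ≤ p ⁻¹ᵁ (V.basicOpen a) ∧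
      j ⁻¹ᵁ (V'.basicOpen c) = (j ≫ p) ⁻¹ᵁ (V.basicOpen a) := by
  have hpx : j x ∈ p ⁻¹ᵁ W := hx
  obtain ⟨b, hb, hxb⟩ := hW'.exists_basicOpen_le (V := p ⁻¹ᵁ W) ⟨j x, hpx⟩ hx'
  have hVaff : IsAffineOpen ((j ≫ p) ⁻¹ᵁ W) :=
    isAffineOpen_preimage_of_isClosedImmersion_restrict _ W hW
  have hxO : x ∈ j ⁻¹ᵁ (V'.basicOpen b) := hxb
  obtain ⟨a', ha', hxa'⟩ := hVaff.exists_basicOpen_le (V := j ⁻¹ᵁ (V'.basicOpen b)) ⟨x, hxO⟩ hx
  obtain ⟨a, rfl⟩ := app_surjective_of_isClosedImmersion_restrict (j ≫ p) W hW a'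
  have hpre : (j ≫ p) ⁻¹ᵁ (V.basicOpen a) = X.basicOpen (((j ≫ p).app W).hom a) :=
    Scheme.preimage_basicOpen _ a
  have hc := Scheme.basicOpen_appLE p (V'.basicOpen b) W hb a
  refine ⟨a, b, (p.appLE W (V'.basicOpen b) hb).hom a, ?_, ?_, ?_⟩
  · rw [hpre]
    exact hxa'
  · intro y hy
    have : y ∈ V'.basicOpen b ⊓ p ⁻¹ᵁ (V.basicOpen a) := by
      rw [← hc]; exact hy
    exact this.2
  · ext y
    constructor
    · intro hy
      have : j y ∈ V'.basicOpen b ⊓ p ⁻¹ᵁ (V.basicOpen a) := by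
        rw [← hc]; exact hy
      exact this.2
    · intro hy
      have h1 : y ∈ X.basicOpen (((j ≫ p).app W).hom a) := by
        rw [← hpre]; exact hy
      have h2 : j y ∈ V'.basicOpen b := ha' h1
      have h3 : j y ∈ V'.basicOpen b ⊓ p ⁻¹ᵁ (V.basicOpen a) := ⟨h2, hy⟩
      rw [← hc] at h3
      exact h3

theorem bijective_map_of_eq (O₁ O₂ : X.Opens) (e : O₁ = O₂) :
    Function.Bijective (X.presheaf.map (homOfLE e.le).op).hom := by
  subst e
  have : (homOfLE (le_refl O₁)).op = 𝟙 _ := rfl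
  rw [this, X.presheaf.map_id]
  exact Function.bijective_id

/-- over compatible charts, with `p` smooth, the ideal of `j ≫ p` is Koszul-regular iff the
ideal of `j` is -/
theorem kr_transfer (j : X ⟶ V') (p : V' ⟶ V) [Smooth p]
    {U : V.Opens} {U' : V'.Opens} (hU : IsAffineOpen U) (hU' : IsAffineOpen U')
    (hle : U' ≤ p ⁻¹ᵁ U) (hpre : j ⁻¹ᵁ U' = (j ≫ p) ⁻¹ᵁ U)
    [IsClosedImmersion ((j ≫ p) ∣_ U)] :
    LCI.IsKoszulRegularIdeal (RingHom.ker ((j ≫ p).app U).hom) ↔
      LCI.IsKoszulRegularIdeal (RingHom.ker (j.app U').hom) := by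
  have hφ : (p.appLE U U' hle).hom.Smooth :=
    HasRingHomProperty.appLE @Smooth p inferInstance ⟨U, hU⟩ ⟨U', hU'⟩ hle
  have hρ := bijective_map_of_eq _ _ hpre
  have hcomp : ∀ a : Γ(V, U), (j.app U').hom ((p.appLE U U' hle).hom a) =
      (X.presheaf.map (homOfLE hpre.le).op).hom (((j ≫ p).app U).hom a) := by
    intro a
    have h1 := Scheme.Hom.appLE_comp_appLE j p U U' (j ⁻¹ᵁ U') hle le_rfl
    rw [Scheme.Hom.appLE_eq_app] at h1
    have h2 : (j ≫ p).appLE U (j ⁻¹ᵁ U') (le_rfl.trans ((Opens.map j.base).map (homOfLE hle)).le) =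
        (j ≫ p).app U ≫ X.presheaf.map (homOfLE hpre.le).op := rfl
    rw [h2] at h1
    exact congr($(h1).hom a)
  have hker : RingHom.ker ((j.app U').hom.comp (p.appLE U U' hle).hom) =
      RingHom.ker ((j ≫ p).app U).hom := by
    ext a
    rw [RingHom.mem_ker, RingHom.mem_ker, RingHom.comp_apply, hcomp,
      map_eq_zero_iff _ hρ.1]
  have hsurj : Function.Surjective ((j.app U').hom.comp (p.appLE U U' hle).hom) := by
    intro c
    obtain ⟨c', rfl⟩ := hρ.2 c
    obtain ⟨a, rfl⟩ := app_surjective_of_isClosedImmersion_restrict (j ≫ p) U hU c'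
    exact ⟨a, hcomp a⟩
  rw [← hker]
  exact Groth.Agent.Lib.SmoothLCI.isKoszulRegularIdeal_ker_comp_iff_of_smooth _ hφ _ hsurj

end pair

section main

variable {X V V' : Scheme.{u}}

theorem isClosedImmersion_restrict_basicOpen' (i : Z ⟶ X) {U : X.Opens} (hU : IsAffineOpen U)
    [hcl : IsClosedImmersion (i ∣_ U)] (g : Γ(X, U)) : IsClosedImmersion (i ∣_ X.basicOpen g) := by
  haveI : IsClosedImmersion (i ∣_ (⟨U, hU⟩ : X.affineOpens).1) := hcl
  exact Groth.Agent.Lib.RegSpreadGeom.isClosedImmersion_restrict_basicOpen i ⟨U, hU⟩ g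

/-- `p` smooth, `j` and `j ≫ p` immersions: `j ≫ p` is a Koszul-regular immersion iff `j` is -/
theorem isRegularImmersion_koszul_comp_iff_of_smooth (j : X ⟶ V') (p : V' ⟶ V) [Smooth p]
    [IsImmersion j] [IsImmersion (j ≫ p)] :
    RegImm.IsRegularImmersion .koszul (j ≫ p) ↔ RegImm.IsRegularImmersion .koszul j := by
  rw [isRegularImmersion_koszul_iff, isRegularImmersion_koszul_iff]
  constructor
  · rintro ⟨-, h⟩
    refine ⟨inferInstance, fun x => ?_⟩
    obtain ⟨W, d, hxW, hK⟩ := h x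
    obtain ⟨W', hW', hxW', hcl'⟩ := exists_affine_isClosedImmersion_restrict j x
    haveI := hK.2.1
    obtain ⟨a, b, c, hxa, hca, hpre⟩ := exists_pair_chart j p hK.1 hW' x hxW hxW'
    have hKU : KChart (j ≫ p) (V.basicOpen a) d := hK.basicOpen a
    haveI := hKU.2.1
    have hU' : IsAffineOpen (V'.basicOpen c) := (hW'.basicOpen b).basicOpen c
    haveI h1 : IsClosedImmersion (j ∣_ V'.basicOpen b) := isClosedImmersion_restrict_basicOpen' j hW' b
    haveI h2 : IsClosedImmersion (j ∣_ V'.basicOpen c) :=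
      isClosedImmersion_restrict_basicOpen' j (hW'.basicOpen b) c
    have hJ := (kr_transfer j p hKU.1 hU' hca hpre).mp (KChart.isKoszulRegularIdeal hKU)
    have hxc : j x ∈ V'.basicOpen c := by
      have : x ∈ j ⁻¹ᵁ (V'.basicOpen c) := by rw [hpre]; exact hxa
      exact this
    obtain ⟨g, d', hxg, hKg⟩ := exists_kchart_of_isKoszulRegularIdeal j hU' hJ x hxc
    exact ⟨_, d', hxg, hKg⟩
  · rintro ⟨-, h⟩
    refine ⟨inferInstance, fun x => ?_⟩
    obtain ⟨W', d, hxW', hK⟩ := h x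
    obtain ⟨W, hW, hxW, hcl⟩ := exists_affine_isClosedImmersion_restrict (j ≫ p) x
    obtain ⟨a, b, c, hxa, hca, hpre⟩ := exists_pair_chart j p hW hK.1 x hxW hxW'
    have hU : IsAffineOpen (V.basicOpen a) := hW.basicOpen a
    haveI h1 : IsClosedImmersion ((j ≫ p) ∣_ V.basicOpen a) :=
      isClosedImmersion_restrict_basicOpen' (j ≫ p) hW a
    have hKU' : KChart j (V'.basicOpen c) d := (hK.basicOpen b).basicOpen c
    have hI := (kr_transfer j p hU hKU'.1 hca hpre).mpr (KChart.isKoszulRegularIdeal hKU')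
    obtain ⟨g, d', hxg, hKg⟩ := exists_kchart_of_isKoszulRegularIdeal (j ≫ p) hU hI x hxa
    exact ⟨_, d', hxg, hKg⟩

end main

end Groth.Agent.Lib.KRegImmSmooth
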