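import Groth.Agent.Lib.KRegImmSmooth
import Mathlib.AlgebraicGeometry.Morphisms.ClosedImmersion
import Mathlib.AlgebraicGeometry.Morphisms.AffineAnd

/-!
# Koszul-regular immersions are local on the source; lci immersions into smooth schemes (helper19)

Namespace `Groth.Agent.Lib.KRegImmSmooth`.

* `isClosedImmersion_morphismRestrict_iff` (copied from `Lib/H80NearFibre`, to avoid its imports).
* `kchart_of_comp_ι`, `isRegularImmersionAt_of_comp_ι` : being a Koszul-regular immersion at a point can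
  be checked on an open neighbourhood of the point in the source.
* `isRegularImmersion_of_isKoszulAt` : `i ≫ p` Koszul at every point, `p` smooth, `i` an immersion; then
  `i` is a Koszul-regular immersion.
-/

set_option autoImplicit false
set_option linter.style.haveILetI false
universe u
open CategoryTheory CategoryTheory.Limits AlgebraicGeometry TopologicalSpace

namespace Groth.Agent.Lib.KRegImmSmooth

open Groth.Agent.Lib.KRegImm

set_option backward.isDefEq.respectTransparency false in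
theorem morphismRestrict_iff_of_affineAnd {P : MorphismProperty Scheme.{u}}
    {Q : ∀ {R S : Type u} [CommRing R] [CommRing S], (R →+* S) → Prop}
    (hP : HasAffineProperty P (affineAnd Q)) (hQi : RingHom.RespectsIso Q) {X Y : Scheme.{u}}
    (f : X ⟶ Y) {U : Y.Opens} (hU : IsAffineOpen U) :
    P (f ∣_ U) ↔ IsAffineOpen (f ⁻¹ᵁ U) ∧ Q (f.app U).hom := by
  have : IsAffine U := hU
  rw [HasAffineProperty.iff_of_isAffine (P := P), affineAnd_apply,
    morphismRestrict_appTop, CommRingCat.hom_comp, hQi.cancel_right_isIso]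
  change _ ∧ Q (Scheme.Hom.app f (U.ι ''ᵁ ⊤)).hom ↔ _
  rw [Scheme.Opens.ι_image_top]
  rfl

set_option backward.isDefEq.respectTransparency.types false in
theorem isClosedImmersion_morphismRestrict_iff {X Y : Scheme.{u}}
    (f : X ⟶ Y) {U : Y.Opens} (hU : IsAffineOpen U) :
    IsClosedImmersion (f ∣_ U) ↔ IsAffineOpen (f ⁻¹ᵁ U) ∧ Function.Surjective (f.app U).hom :=
  morphismRestrict_iff_of_affineAnd (P := @IsClosedImmersion)
    (Q := fun f => Function.Surjective f) IsClosedImmersion.hasAffineProperty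
    RingHom.surjective_respectsIso f hU

variable {X Z : Scheme.{u}}

theorem ι_image_preimage_of_le (U : X.Opens) (O : X.Opens) (h : O ≤ U) :
    U.ι ''ᵁ (U.ι ⁻¹ᵁ O) = O := by
  rw [Scheme.Hom.image_preimage_eq_opensRange_inf, Scheme.Opens.opensRange_ι]
  exact inf_eq_right.mpr h

/-- a chart for `U.ι ≫ i` over `W` with `i⁻¹ W ⊆ U` is a chart for `i` -/
theorem kchart_of_comp_ι (i : X ⟶ Z) (U : X.Opens) {W : Z.Opens} (hsub : i ⁻¹ᵁ W ≤ U) {d : ℕ}
    (hK : KChart (U.ι ≫ i) W d) : KChart i W d := by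
  obtain ⟨hW, hcl, rs, hlen, hrs, hker⟩ := hK
  obtain ⟨haff', hsurj'⟩ := (isClosedImmersion_morphismRestrict_iff (U.ι ≫ i) hW).mp hcl
  have himg := ι_image_preimage_of_le U (i ⁻¹ᵁ W) hsub
  have haff : IsAffineOpen (i ⁻¹ᵁ W) := by
    have h1 : IsAffineOpen (U.ι ''ᵁ (U.ι ⁻¹ᵁ (i ⁻¹ᵁ W))) := haff'.image_of_isOpenImmersion U.ι
    rwa [himg] at h1
  have hρ := bijective_map_of_eq _ _ himg
  have hcomp : ∀ a : Γ(Z, W), ((U.ι ≫ i).app W).hom a =
      (X.presheaf.map (homOfLE himg.le).op).hom ((i.app W).hom a) := by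
    intro a
    rfl
  have hsurj : Function.Surjective (i.app W).hom := by
    intro c
    obtain ⟨a, ha⟩ := hsurj' ((X.presheaf.map (homOfLE himg.le).op).hom c)
    refine ⟨a, hρ.1 ?_⟩
    rw [← hcomp]
    exact ha
  refine ⟨hW, (isClosedImmersion_morphismRestrict_iff i hW).mpr ⟨haff, hsurj⟩, rs, hlen, hrs, ?_⟩
  rw [← hker]
  ext a
  rw [RingHom.mem_ker, RingHom.mem_ker]
  constructor
  · intro h
    exact (hcomp a).trans (by rw [h, map_zero]; rfl)
  · intro h
    exact hρ.1 (((hcomp a).symm.trans h).trans (map_zero _).symm)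

/-- being a Koszul-regular immersion at a point is local on the source -/
theorem isRegularImmersionAt_of_comp_ι (i : X ⟶ Z) [IsImmersion i] (U : X.Opens) (x : U)
    (h : RegImm.IsRegularImmersionAt .koszul (U.ι ≫ i) x) :
    RegImm.IsRegularImmersionAt .koszul i x.1 := by
  rw [isRegularImmersionAt_koszul_iff] at h ⊢
  obtain ⟨W, d, hxW, hK⟩ := h
  obtain ⟨O, hOopen, hO⟩ := (i.isEmbedding.isInducing.isOpen_iff).mp U.2
  have hixO : i x.1 ∈ (⟨O, hOopen⟩ : Z.Opens) := by
    have : x.1 ∈ i.base ⁻¹' O := by rw [hO]; exact x.2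
    exact this
  have hxW' : i x.1 ∈ W := hxW
  obtain ⟨g, hg, hxg⟩ := hK.1.exists_basicOpen_le (V := ⟨O, hOopen⟩) ⟨i x.1, hixO⟩ hxW'
  have hKg : KChart (U.ι ≫ i) (Z.basicOpen g) d := hK.basicOpen g
  refine ⟨Z.basicOpen g, d, hxg, kchart_of_comp_ι i U ?_ hKg⟩
  intro y hy
  have h1 : i y ∈ O := hg hy
  have h2 : y ∈ i.base ⁻¹' O := h1
  rw [hO] at h2
  exact h2

/-- lci morphisms (factorisation form) into smooth schemes by immersions: the immersion is
Koszul-regular -/
theorem isRegularImmersion_of_isKoszulAt {Y : Scheme.{u}} (i : X ⟶ Z) [IsImmersion i] (p : Z ⟶ Y)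
    [Smooth p] (hf : ∀ x : X, Synt.IsKoszulAt (i ≫ p) x) :
    RegImm.IsRegularImmersion .koszul i := by
  refine ⟨inferInstance, fun x => ?_⟩
  obtain ⟨U, P, i₀, π, hxU, -, hi₀, hπ, hfac⟩ := hf x
  haveI := hπ
  haveI : IsImmersion i₀ := hi₀.1
  have hcomm : i₀ ≫ π = (U.ι ≫ i) ≫ p := by rw [hfac, Category.assoc]
  let i'' : (U : Scheme.{u}) ⟶ pullback π p := pullback.lift i₀ (U.ι ≫ i) hcomm
  have h1 : i'' ≫ pullback.fst π p = i₀ := pullback.lift_fst _ _ _
  have h2 : i'' ≫ pullback.snd π p = U.ι ≫ i := pullback.lift_snd _ _ _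
  haveI : IsImmersion (i'' ≫ pullback.fst π p) := by rw [h1]; infer_instance
  haveI : IsImmersion i'' := IsImmersion.of_comp i'' (pullback.fst π p)
  haveI : IsImmersion (i'' ≫ pullback.snd π p) := by rw [h2]; infer_instance
  have e1 := isRegularImmersion_koszul_comp_iff_of_smooth i'' (pullback.fst π p)
  have e2 := isRegularImmersion_koszul_comp_iff_of_smooth i'' (pullback.snd π p)
  rw [h1] at e1
  rw [h2] at e2
  have hKR : RegImm.IsRegularImmersion .koszul (U.ι ≫ i) := e2.mpr (e1.mp hi₀)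
  exact isRegularImmersionAt_of_comp_ι i U ⟨x, hxU⟩ (hKR.2 ⟨x, hxU⟩)

end Groth.Agent.Lib.KRegImmSmooth
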