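import Groth.Agent.Lib.H87RegImm
import Groth.Agent.Lib.SyntLCI3
import Groth.Prelude.Def_RegImm

/-!
# Koszul-regular closed immersions into locally Noetherian schemes are regular (helper19)

Namespace `Groth.Agent.Lib.KRegNoeth19`.

* `isRegularIdeal_ker_stalkMap_of_koszul` : for a closed immersion `j : Y ⟶ X` into a locally Noetherian
  scheme which is Koszul-regular at `y`, the kernel of the stalk map at `y` is generated by a regular
  sequence.
* `isRegularClosedImmersion_of_koszul` : a Koszul-regular closed immersion into a locally Noetherian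
  scheme is a regular closed immersion (`Mor2.IsRegularClosedImmersion`).
-/

set_option autoImplicit false
set_option linter.style.haveILetI false
universe u
open CategoryTheory CategoryTheory.Limits AlgebraicGeometry TopologicalSpace

namespace Groth.Agent.Lib.KRegNoeth19

open Groth.Agent.Lib

theorem isRegularIdeal_ker_stalkMap_of_koszul {X Y : Scheme.{u}} [IsLocallyNoetherian X]
    (j : Y ⟶ X) [IsClosedImmersion j] (y : Y)
    (h : RegImm.IsRegularImmersionAt RegImm.Kind.koszul j y) :
    CInt.IsRegularIdeal (RingHom.ker (j.stalkMap y).hom) := by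
  obtain ⟨U, hyU, -, rs, hkr, hker⟩ := h
  have hkr' : LCI.IsKoszulRegularSeq Γ(X, U.1) rs := hkr
  have hk := H87RegImm.ker_stalkMap j y U.1 U.2 hyU
  rw [Scheme.Hom.ker_apply, hker, Ideal.map_ofList] at hk
  letI alg : Algebra Γ(X, U.1) (X.presheaf.stalk (j y)) :=
    TopCat.Presheaf.algebra_section_stalk X.presheaf ⟨j y, hyU⟩
  haveI hloc : IsLocalization.AtPrime (X.presheaf.stalk (j y))
      (U.2.primeIdealOf ⟨j y, hyU⟩).asIdeal := U.2.isLocalization_stalk ⟨j y, hyU⟩
  haveI : Module.Flat Γ(X, U.1) (X.presheaf.stalk (j y)) :=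
    IsLocalization.flat _ (U.2.primeIdealOf ⟨j y, hyU⟩).asIdeal.primeCompl
  have hkr2 := KoszulQuot.isKoszulRegularSeq_map_of_flat (R' := X.presheaf.stalk (j y)) rs hkr'
  have hmap : rs.map (algebraMap Γ(X, U.1) (X.presheaf.stalk (j y))) =
      rs.map (X.presheaf.germ U.1 (j y) hyU).hom := rfl
  rw [hmap] at hkr2
  have hmem : ∀ x ∈ rs.map (X.presheaf.germ U.1 (j y) hyU).hom,
      x ∈ IsLocalRing.maximalIdeal (X.presheaf.stalk (j y)) := by
    intro x hx
    have h1 : x ∈ RingHom.ker (j.stalkMap y).hom := by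
      rw [hk]; exact Ideal.subset_span hx
    have h2 : RingHom.ker (j.stalkMap y).hom ≠ ⊤ := RingHom.ker_ne_top _
    exact IsLocalRing.le_maximalIdeal h2 h1
  have hwr := SyntLCI.isWeaklyRegular_of_isKoszulRegularSeq _ hkr2 hmem
  exact ⟨_, (IsLocalRing.isRegular_iff_isWeaklyRegular_of_subset_maximalIdeal hmem).mpr hwr, hk.symm⟩

theorem isRegularClosedImmersion_of_koszul {X Y : Scheme.{u}} [IsLocallyNoetherian X]
    (j : Y ⟶ X) [IsClosedImmersion j]
    (h : RegImm.IsRegularImmersion RegImm.Kind.koszul j) : Mor2.IsRegularClosedImmersion j := by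
  refine ⟨inferInstance, fun y => ?_⟩
  obtain ⟨U, hyU, hU, rs, hrs, hker⟩ := H87RegImm.exists_regAff_of_isRegularIdeal_ker j y
    (isRegularIdeal_ker_stalkMap_of_koszul j y (h.2 y))
  exact ⟨U, hU, hyU, rs, hrs, hker⟩

end Groth.Agent.Lib.KRegNoeth19
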