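import Groth.Agent.Lib.KoszulAppend
import Groth.Prelude.Def_Koszul

/-!
# Koszul-regular generating sequences have minimal length (helper19)

For lists `f`, `h` generating the same proper ideal:
* `length_le_of_acyclic`: if `K(f)` is acyclic in negative degrees then `|f| ≤ |h|`;
* `subsingleton_homology_of_length_le`: if `K(g)` is acyclic in negative degrees and `|f| ≤ |g|`
  then `K(f)` is acyclic in negative degrees.
Both are stated for `kcx (ModuleCat.of A A)` and transported to `Koszul.koszul A`.
-/

universe u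

open CategoryTheory CategoryTheory.Limits CochainComplex HomologicalComplex

namespace Groth.Agent.Lib.KoszulMinLen

open Groth.Agent.Lib.KoszulCone Groth.Agent.Lib.KoszulPerm Groth.Agent.Lib.KoszulAppend
  Groth.Agent.Lib.KoszulElem

variable {A : Type u} [CommRing A]

theorem kcx_eq_koszulCx (M : ModuleCat.{u} A) : ∀ l : List A, kcx M l = CohIII.koszulCx M l
  | [] => rfl
  | f :: l => by
    show CochainComplex.mappingCone (f • 𝟙 (kcx M l)) =
      CochainComplex.mappingCone (f • 𝟙 (CohIII.koszulCx M l))
    rw [kcx_eq_koszulCx M l]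

theorem kcx_eq_koszul : ∀ l : List A, kcx (ModuleCat.of A A) l = Koszul.koszul A l
  | [] => rfl
  | f :: l => by
    show CochainComplex.mappingCone (f • 𝟙 (kcx (ModuleCat.of A A) l)) =
      CochainComplex.mappingCone (f • 𝟙 (Koszul.koszul A l))
    rw [kcx_eq_koszul l]

/-- the top index of `Idx n` -/
def topIdx (n : ℕ) : Idx n := ⟨Fin.last n, ⟨0, by rw [Fin.val_last, Nat.choose_self]; exact Nat.one_pos⟩⟩

theorem topIdx_val (n : ℕ) : (((topIdx n).1 : ℕ) : ℤ) = n := by
  simp [topIdx]

theorem subsingleton_of_pi {ι : Type} (G : ι → Type u) [∀ i, Zero (G i)] [DecidableEq ι]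
    (h : Subsingleton ((i : ι) → G i)) (i₀ : ι) : Subsingleton (G i₀) := by
  refine ⟨fun a b => ?_⟩
  have h1 : Function.update (fun i => (0 : G i)) i₀ a = Function.update (fun i => (0 : G i)) i₀ b :=
    Subsingleton.elim _ _
  have h2 := congrFun h1 i₀
  simpa using h2

section

variable (M : ModuleCat.{u} A)

/-- key vanishing: if `f ⊆ (g)`, `g ⊆ (f)`, and the relevant cohomology of `K(g; M)` vanishes,
then `H^{m + |g|}(K(f; M))` is a factor of zero. -/
theorem subsingleton_homology_of_append (f g : List A)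
    (hfg : ∀ y ∈ f, y ∈ Ideal.span {a | a ∈ g}) (hgf : ∀ y ∈ g, y ∈ Ideal.span {a | a ∈ f})
    (m : ℤ) (hvan : ∀ j : ℕ, j ≤ f.length → Subsingleton ((kcx M g).homology (m + (j : ℤ)))) :
    Subsingleton ((kcx M f).homology (m + (g.length : ℤ))) := by
  classical
  obtain ⟨eA⟩ := nonempty_homology_append M g f hfg m
  have h1 : Subsingleton ((kcx M (f ++ g)).homology m) := by
    have : ∀ p : Idx f.length, Subsingleton ((kcx M g).homology (m + ((p.1 : ℕ) : ℤ))) :=
      fun p => hvan _ (by have := p.1.2; omega)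
    exact eA.toEquiv.subsingleton
  obtain ⟨pe⟩ := nonempty_kcx_iso_of_perm M (List.perm_append_comm : (f ++ g).Perm (g ++ f))
  have i2 : (kcx M (g ++ f)).homology m ≅ (kcx M (f ++ g)).homology m :=
    (HomologicalComplex.homologyFunctor _ _ m).mapIso pe.symm
  have h2 : Subsingleton ((kcx M (g ++ f)).homology m) := i2.toLinearEquiv.toEquiv.subsingleton
  obtain ⟨eB⟩ := nonempty_homology_append M f g hgf m
  have h3 : Subsingleton ((p : Idx g.length) → (kcx M f).homology (m + ((p.1 : ℕ) : ℤ))) :=
    eB.symm.toEquiv.subsingleton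
  have h4 := subsingleton_of_pi _ h3 (topIdx g.length)
  rwa [topIdx_val] at h4

end

/-- homology vanishes above degree `0` -/
theorem subsingleton_homology_pos (M : ModuleCat.{u} A) (l : List A) (m : ℤ) (hm : 0 < m) :
    Subsingleton ((kcx M l).homology m) := by
  have h1 : Subsingleton ((kcx M l).X m) := by
    rw [kcx_eq_koszulCx]
    exact subsingleton_X M l m (Or.inr hm)
  have hz : IsZero ((kcx M l).X m) := ModuleCat.isZero_of_subsingleton _
  exact ModuleCat.subsingleton_of_isZero
    (ShortComplex.isZero_homology_of_isZero_X₂ ((kcx M l).sc m) hz)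

/-- top cohomology is `A/(l)`, nontrivial for a proper ideal -/
theorem nontrivial_homology_zero (l : List A) (h : Ideal.ofList l ≠ ⊤) :
    Nontrivial ((kcx (ModuleCat.of A A) l).homology 0) := by
  rw [kcx_eq_koszulCx]
  obtain ⟨e⟩ := nonempty_homology_top_linearEquiv (ModuleCat.of A A) l 0 rfl
  have h1 : (Ideal.ofList l • (⊤ : Submodule A A)) ≠ ⊤ := by
    rw [smul_eq_mul, Ideal.mul_top]
    exact h
  have : Nontrivial (A ⧸ (Ideal.ofList l • (⊤ : Submodule A A))) :=
    Submodule.Quotient.nontrivial_iff.mpr h1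
  exact e.toEquiv.nontrivial

/-- a generating sequence whose Koszul complex is acyclic in negative degrees has minimal length -/
theorem length_le_of_acyclic (f h : List A) (hI : Ideal.ofList f ≠ ⊤)
    (hfh : Ideal.ofList f = Ideal.ofList h)
    (hf : ∀ m : ℤ, m < 0 → Subsingleton ((kcx (ModuleCat.of A A) f).homology m)) :
    f.length ≤ h.length := by
  by_contra hlt
  rw [not_le] at hlt
  have hs1 : ∀ y ∈ h, y ∈ Ideal.span {a | a ∈ f} := fun y hy => by
    have h2 : y ∈ Ideal.ofList h := Ideal.subset_span hy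
    rwa [← hfh] at h2
  have hs2 : ∀ y ∈ f, y ∈ Ideal.span {a | a ∈ h} := fun y hy => by
    have h2 : y ∈ Ideal.ofList f := Ideal.subset_span hy
    rwa [hfh] at h2
  have h1 := subsingleton_homology_of_append (ModuleCat.of A A) h f hs1 hs2
    (-(f.length : ℤ)) (fun j hj => hf _ (by omega))
  rw [neg_add_cancel] at h1
  have := nontrivial_homology_zero h (hfh ▸ hI)
  exact not_subsingleton _ h1

/-- acyclicity in negative degrees passes to generating sequences of at most the same length -/
theorem subsingleton_homology_of_length_le (f g : List A) (hfg : Ideal.ofList f = Ideal.ofList g)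
    (hlen : f.length ≤ g.length)
    (hg : ∀ m : ℤ, m < 0 → Subsingleton ((kcx (ModuleCat.of A A) g).homology m))
    (m : ℤ) (hm : m < 0) : Subsingleton ((kcx (ModuleCat.of A A) f).homology m) := by
  have hs1 : ∀ y ∈ f, y ∈ Ideal.span {a | a ∈ g} := fun y hy => by
    have h2 : y ∈ Ideal.ofList f := Ideal.subset_span hy
    rwa [hfg] at h2
  have hs2 : ∀ y ∈ g, y ∈ Ideal.span {a | a ∈ f} := fun y hy => by
    have h2 : y ∈ Ideal.ofList g := Ideal.subset_span hy
    rwa [← hfg] at h2
  have h1 := subsingleton_homology_of_append (ModuleCat.of A A) f g hs1 hs2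
    (m - (g.length : ℤ)) (fun j hj => hg _ (by omega))
  rwa [sub_add_cancel] at h1

end Groth.Agent.Lib.KoszulMinLen
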