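import Groth.Agent.Lib.FlatNilp
import Groth.Agent.Lib.KoszulMinLen
import Groth.Agent.Lib.KoszulScale
import Groth.Agent.Lib.KoszulPerm
import Mathlib.LinearAlgebra.TensorProduct.Prod
import Mathlib.Algebra.Homology.ShortComplex.ModuleCat
import Mathlib.Algebra.Category.ModuleCat.ChangeOfRings

/-!
# Reduction of Koszul complexes modulo an ideal, and lifting Koszul-regularity (helper19)

* generic: `exact_lTensor_of_reduction`, `flat_tensor_of_reduction` (recognising `(A/J) ⊗ -`
  from a surjection with kernel `J • ⊤`);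
* `Red 𝔟 φ`: a morphism of complexes of `B`-modules which is degreewise surjective with kernel
  `𝔟 • ⊤`; stable under cones, `Red.kmap`;
* `resKcxIso`: the Koszul complex over `B'` of `l.map π`, restricted along `π : B → B'`, is the
  Koszul complex over `B` of `l` with coefficients in the restricted module;
* `koszul_lift_of_nilpotent`: `B` flat over `A`, `J ⊆ A` nilpotent; if the Koszul complex of the
  image of `rs` in `B/JB` is acyclic in negative degrees and `B/(JB + (rs))` is flat over `A/J`,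
  then the same holds for `rs` in `B` over `A`.
-/

set_option autoImplicit false

universe u

open TensorProduct Function CategoryTheory CategoryTheory.Limits CochainComplex HomologicalComplex

namespace Groth.Agent.Lib.KoszulReduce

open Groth.Agent.Lib.FlatNilp Groth.Agent.Lib.KoszulCone Groth.Agent.Lib.KoszulElem
  Groth.Agent.Lib.KoszulMinLen Groth.Agent.Lib.KoszulScale Groth.Agent.Lib.KoszulPerm

section generic

variable {A : Type u} [CommRing A] (J : Ideal A)

/-- exactness of the reduction mod `J` read off from "reduction maps" with kernel `J • ⊤` -/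
theorem exact_lTensor_of_reduction {M1 M2 M3 : Type*} [AddCommGroup M1] [Module A M1]
    [AddCommGroup M2] [Module A M2] [AddCommGroup M3] [Module A M3]
    (f : M1 →ₗ[A] M2) (g : M2 →ₗ[A] M3) (hgf : ∀ x, g (f x) = 0)
    {N1 N2 N3 : Type*} [AddCommGroup N2] [AddCommGroup N3]
    (f' : N1 → N2) (g' : N2 → N3) (ρ1 : M1 → N1) (ρ2 : M2 → N2) (ρ3 : M3 → N3)
    (hsub : ∀ x y, ρ2 (x - y) = ρ2 x - ρ2 y)
    (hs1 : Surjective ρ1) (hk2 : ∀ x, ρ2 x = 0 → x ∈ J • (⊤ : Submodule A M2))
    (hk3 : ∀ x, x ∈ J • (⊤ : Submodule A M3) → ρ3 x = 0)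
    (c1 : ∀ x, ρ2 (f x) = f' (ρ1 x)) (c2 : ∀ x, ρ3 (g x) = g' (ρ2 x))
    (hex : Function.Exact f' g') :
    Function.Exact (f.lTensor (A ⧸ J)) (g.lTensor (A ⧸ J)) := by
  intro ξ
  constructor
  · intro hξ
    obtain ⟨x, rfl⟩ := exists_one_tmul J ξ
    rw [LinearMap.lTensor_tmul, one_tmul_eq_zero_iff] at hξ
    have h1 : g' (ρ2 x) = 0 := by rw [← c2]; exact hk3 _ hξ
    obtain ⟨y', hy'⟩ := (hex _).mp h1
    obtain ⟨y, rfl⟩ := hs1 y'
    have h2 : ρ2 (x - f y) = 0 := by rw [hsub, c1, hy', sub_self]
    have h3 := hk2 _ h2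
    refine ⟨(1 : A ⧸ J) ⊗ₜ y, ?_⟩
    rw [LinearMap.lTensor_tmul]
    have h4 : (1 : A ⧸ J) ⊗ₜ[A] (x - f y) = 0 := (one_tmul_eq_zero_iff J _).mpr h3
    rw [TensorProduct.tmul_sub, sub_eq_zero] at h4
    exact h4.symm
  · rintro ⟨η, rfl⟩
    rw [← LinearMap.comp_apply, ← LinearMap.lTensor_comp]
    have : g ∘ₗ f = 0 := LinearMap.ext hgf
    rw [this, LinearMap.lTensor_zero, LinearMap.zero_apply]

/-- `(A/J) ⊗ P` is flat over `A/J` as soon as `P` surjects onto a flat `A/J`-module with kernel
inside `J P`. -/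
theorem flat_tensor_of_reduction {P Q : Type u} [AddCommGroup P] [Module A P] [AddCommGroup Q]
    [Module A Q] [Module (A ⧸ J) Q] [IsScalarTower A (A ⧸ J) Q] (ψ : P →ₗ[A] Q)
    (hs : Surjective ψ) (hk : ∀ x, ψ x = 0 → x ∈ J • (⊤ : Submodule A P))
    [Module.Flat (A ⧸ J) Q] : Module.Flat (A ⧸ J) ((A ⧸ J) ⊗[A] P) := by
  have hinj : Injective (ψ.liftBaseChange (A ⧸ J)) := by
    rw [injective_iff_map_eq_zero]
    intro ξ hξ
    obtain ⟨x, rfl⟩ := exists_one_tmul J ξ
    rw [LinearMap.liftBaseChange_tmul, one_smul] at hξ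
    exact (one_tmul_eq_zero_iff J x).mpr (hk x hξ)
  have hsurj : Surjective (ψ.liftBaseChange (A ⧸ J)) := by
    intro q
    obtain ⟨p, rfl⟩ := hs q
    exact ⟨(1 : A ⧸ J) ⊗ₜ p, by rw [LinearMap.liftBaseChange_tmul, one_smul]⟩
  exact Module.Flat.of_linearEquiv (LinearEquiv.ofBijective (ψ.liftBaseChange (A ⧸ J)) ⟨hinj, hsurj⟩)

theorem map_mem_smul_top {R : Type*} [CommRing R] (I : Ideal R) {M N : Type*} [AddCommGroup M]
    [Module R M] [AddCommGroup N] [Module R N] (f : M →ₗ[R] N) {x : M}
    (hx : x ∈ I • (⊤ : Submodule R M)) : f x ∈ I • (⊤ : Submodule R N) := by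
  have h : Submodule.map f (I • ⊤) ≤ I • ⊤ := by
    rw [Submodule.map_smul'']
    exact Submodule.smul_mono le_rfl le_top
  exact h ⟨x, hx, rfl⟩

end generic

section red

variable {B : Type u} [CommRing B] (𝔟 : Ideal B)

/-- degreewise surjective with kernel `𝔟 • ⊤` -/
def Red {K K' : CochainComplex (ModuleCat.{u} B) ℤ} (φ : K ⟶ K') : Prop :=
  ∀ n, Surjective (φ.f n) ∧ ∀ x : K.X n, φ.f n x = 0 ↔ x ∈ 𝔟 • (⊤ : Submodule B (K.X n))

theorem mem_smul_top_cone_iff {F G : CochainComplex (ModuleCat.{u} B) ℤ} (φ : F ⟶ G) (n : ℤ)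
    (z : (mappingCone φ).X n) :
    z ∈ 𝔟 • (⊤ : Submodule B ((mappingCone φ).X n)) ↔
      fstE φ n z ∈ 𝔟 • (⊤ : Submodule B (F.X (n + 1))) ∧
        sndE φ n z ∈ 𝔟 • (⊤ : Submodule B (G.X n)) := by
  constructor
  · intro hz
    exact ⟨map_mem_smul_top 𝔟 ((mappingCone.fst φ).1.v n (n + 1) rfl).hom hz,
      map_mem_smul_top 𝔟 ((mappingCone.snd φ).v n n (add_zero n)).hom hz⟩
  · rintro ⟨h1, h2⟩
    rw [← mkE_fstE_sndE φ n z]
    exact Submodule.add_mem _
      (map_mem_smul_top 𝔟 ((mappingCone.inl φ).v (n + 1) n (by omega)).hom h1)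
      (map_mem_smul_top 𝔟 ((mappingCone.inr φ).f n).hom h2)

theorem Red.cone {K₁ L₁ K₂ L₂ : CochainComplex (ModuleCat.{u} B) ℤ} (φ₁ : K₁ ⟶ L₁) (φ₂ : K₂ ⟶ L₂)
    (a : K₁ ⟶ K₂) (b : L₁ ⟶ L₂) (comm : φ₁ ≫ b = a ≫ φ₂) (ha : Red 𝔟 a) (hb : Red 𝔟 b) :
    Red 𝔟 (mappingCone.map φ₁ φ₂ a b comm) := by
  intro n
  constructor
  · intro z
    obtain ⟨x, hx⟩ := (ha (n + 1)).1 (fstE φ₂ n z)
    obtain ⟨y, hy⟩ := (hb n).1 (sndE φ₂ n z)
    exact ⟨mkE φ₁ n x y, by rw [map_mkE, hx, hy, mkE_fstE_sndE]⟩
  · intro z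
    rw [map_apply, mkE_eq_zero_iff, (ha (n + 1)).2, (hb n).2, mem_smul_top_cone_iff]

theorem Red.single {M N : ModuleCat.{u} B} (q : M ⟶ N) (hs : Surjective q)
    (hk : ∀ x : M, q x = 0 ↔ x ∈ 𝔟 • (⊤ : Submodule B M)) :
    Red 𝔟 ((HomologicalComplex.single (ModuleCat.{u} B) (ComplexShape.up ℤ) 0).map q) := by
  intro n
  by_cases hn : n = 0
  · subst hn
    rw [HomologicalComplex.single_map_f_self]
    constructor
    · intro y
      obtain ⟨x', hx'⟩ := hs ((HomologicalComplex.singleObjXSelf (ComplexShape.up ℤ) 0 N).hom y)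
      refine ⟨(HomologicalComplex.singleObjXSelf (ComplexShape.up ℤ) 0 M).inv x', ?_⟩
      rw [ConcreteCategory.comp_apply, ConcreteCategory.comp_apply, Iso.inv_hom_id_apply, hx',
        Iso.hom_inv_id_apply]
    · intro x
      rw [ConcreteCategory.comp_apply, ConcreteCategory.comp_apply]
      have hinj : Injective (HomologicalComplex.singleObjXSelf (ComplexShape.up ℤ) 0 N).inv :=
        (ConcreteCategory.bijective_of_isIso _).1
      have hiff : (HomologicalComplex.singleObjXSelf (ComplexShape.up ℤ) 0 M).hom x ∈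
          𝔟 • (⊤ : Submodule B M) ↔ x ∈ 𝔟 • (⊤ : Submodule B
            (((HomologicalComplex.single (ModuleCat.{u} B) (ComplexShape.up ℤ) 0).obj M).X 0)) := by
        constructor
        · intro h
          have h' := map_mem_smul_top 𝔟
            (HomologicalComplex.singleObjXSelf (ComplexShape.up ℤ) 0 M).inv.hom h
          rwa [Iso.hom_inv_id_apply] at h'
        · intro h
          exact map_mem_smul_top 𝔟
            (HomologicalComplex.singleObjXSelf (ComplexShape.up ℤ) 0 M).hom.hom h
      rw [← hiff, ← hk]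
      constructor
      · intro h
        apply hinj
        rw [h, map_zero]
      · intro h
        rw [h, map_zero]
  · have h1 : IsZero (((HomologicalComplex.single (ModuleCat.{u} B) (ComplexShape.up ℤ) 0).obj M).X n) :=
      HomologicalComplex.isZero_single_obj_X _ _ _ _ hn
    have h2 : IsZero (((HomologicalComplex.single (ModuleCat.{u} B) (ComplexShape.up ℤ) 0).obj N).X n) :=
      HomologicalComplex.isZero_single_obj_X _ _ _ _ hn
    have s1 := ModuleCat.subsingleton_of_isZero h1
    have s2 := ModuleCat.subsingleton_of_isZero h2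
    constructor
    · intro y
      exact ⟨0, Subsingleton.elim _ _⟩
    · intro x
      rw [Subsingleton.elim x 0]
      simp

theorem Red.kmap {M N : ModuleCat.{u} B} (q : M ⟶ N) (hs : Surjective q)
    (hk : ∀ x : M, q x = 0 ↔ x ∈ 𝔟 • (⊤ : Submodule B M)) :
    ∀ l : List B, Red 𝔟 (kmap q l)
  | [] => Red.single 𝔟 q hs hk
  | _ :: l => Red.cone 𝔟 _ _ _ _ _ (Red.kmap q hs hk l) (Red.kmap q hs hk l)

theorem Red.comp_iso {K K' K'' : CochainComplex (ModuleCat.{u} B) ℤ} (φ : K ⟶ K') (e : K' ≅ K'')
    (h : Red 𝔟 φ) : Red 𝔟 (φ ≫ e.hom) := by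
  intro n
  have hb : Bijective ((HomologicalComplex.eval _ _ n).mapIso e).hom :=
    ConcreteCategory.bijective_of_isIso _
  have hb' : Bijective (e.hom.f n) := hb
  rw [HomologicalComplex.comp_f]
  constructor
  · intro y
    obtain ⟨y', rfl⟩ := hb'.2 y
    obtain ⟨x, rfl⟩ := (h n).1 y'
    exact ⟨x, by rw [ConcreteCategory.comp_apply]⟩
  · intro x
    rw [ConcreteCategory.comp_apply, ← (h n).2]
    constructor
    · intro hx
      apply hb'.1
      rw [hx, map_zero]
    · intro hx
      rw [hx, map_zero]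

end red

section restrict

variable {A B : Type u} [CommRing A] [CommRing B] [Algebra A B] (J : Ideal A)

/-- `J • ⊤` for the restricted module is `(JB) • ⊤` -/
theorem mem_smul_top_restrictScalars_iff (X : ModuleCat.{u} B) (x : X) :
    (show ((ModuleCat.restrictScalars (algebraMap A B)).obj X) from x) ∈
        J • (⊤ : Submodule A ((ModuleCat.restrictScalars (algebraMap A B)).obj X)) ↔
      x ∈ (J.map (algebraMap A B)) • (⊤ : Submodule B X) := by
  constructor
  · intro hx
    refine Submodule.smul_induction_on hx ?_ ?_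
    · intro a ha m _
      rw [ModuleCat.restrictScalars.smul_def]
      exact Submodule.smul_mem_smul (Ideal.mem_map_of_mem _ ha) Submodule.mem_top
    · intro y z hy hz
      exact Submodule.add_mem _ hy hz
  · intro hx
    refine Submodule.smul_induction_on hx ?_ ?_
    · intro b hb
      have key : ∀ m : X, (show ((ModuleCat.restrictScalars (algebraMap A B)).obj X) from b • m) ∈
          J • (⊤ : Submodule A ((ModuleCat.restrictScalars (algebraMap A B)).obj X)) := by
        refine Submodule.span_induction ?_ ?_ ?_ ?_ hb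
        · rintro _ ⟨a, ha, rfl⟩ m
          have := Submodule.smul_mem_smul (N := (⊤ : Submodule A
            ((ModuleCat.restrictScalars (algebraMap A B)).obj X))) ha
            (Submodule.mem_top (x := (show ((ModuleCat.restrictScalars (algebraMap A B)).obj X) from m)))
          rwa [ModuleCat.restrictScalars.smul_def] at this
        · intro m
          rw [zero_smul]
          exact Submodule.zero_mem _
        · intro b1 b2 _ _ h1 h2 m
          rw [add_smul]
          exact Submodule.add_mem _ (h1 m) (h2 m)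
        · intro c b1 _ h1 m
          rw [smul_eq_mul, mul_comm, mul_smul]
          exact h1 (c • m)
      intro m _
      exact key m
    · intro y z hy hz
      exact Submodule.add_mem _ hy hz

end restrict

section flatX

/-- Products of flat modules are flat. -/
theorem flat_prod {R : Type*} [CommRing R] {M N : Type*} [AddCommGroup M] [Module R M]
    [AddCommGroup N] [Module R N] [Module.Flat R M] [Module.Flat R N] :
    Module.Flat R (M × N) := by
  rw [Module.Flat.iff_rTensor_injectiveₛ]
  intro P _ _ L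
  have hA := Module.Flat.rTensor_preserves_injective_linearMap (M := M) L.subtype
    Subtype.val_injective
  have hB := Module.Flat.rTensor_preserves_injective_linearMap (M := N) L.subtype
    Subtype.val_injective
  have hcomm : (TensorProduct.prodRight R R P M N).toLinearMap ∘ₗ (L.subtype.rTensor (M × N)) =
      (LinearMap.prodMap (L.subtype.rTensor M) (L.subtype.rTensor N)) ∘ₗ
        (TensorProduct.prodRight R R L M N).toLinearMap := by
    apply TensorProduct.ext'
    rintro x ⟨a, b⟩
    simp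
  have hinj : Function.Injective ((LinearMap.prodMap (L.subtype.rTensor M)
      (L.subtype.rTensor N)) ∘ₗ (TensorProduct.prodRight R R L M N).toLinearMap) := by
    rw [LinearMap.coe_comp]
    exact (Function.Injective.prodMap hA hB).comp (LinearEquiv.injective _)
  rw [← hcomm, LinearMap.coe_comp] at hinj
  exact Function.Injective.of_comp hinj

variable {A B : Type u} [CommRing A] [CommRing B] [Algebra A B]

/-- a `B`-linear equivalence, restricted to `A` -/
noncomputable def resEquiv {X Y : ModuleCat.{u} B} (e : X ≃ₗ[B] Y) :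
    ((ModuleCat.restrictScalars (algebraMap A B)).obj X) ≃ₗ[A]
      ((ModuleCat.restrictScalars (algebraMap A B)).obj Y) :=
  ((ModuleCat.restrictScalars (algebraMap A B)).mapIso e.toModuleIso).toLinearEquiv

/-- the terms of a cone, restricted to `A` -/
noncomputable def resConeEquiv {F G : CochainComplex (ModuleCat.{u} B) ℤ} (φ : F ⟶ G) (n : ℤ) :
    ((ModuleCat.restrictScalars (algebraMap A B)).obj ((mappingCone φ).X n)) ≃ₗ[A]
      (((ModuleCat.restrictScalars (algebraMap A B)).obj (F.X (n + 1))) ×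
        ((ModuleCat.restrictScalars (algebraMap A B)).obj (G.X n))) where
  toFun z := coneEquiv φ n z
  invFun p := (coneEquiv φ n).symm p
  map_add' z z' := (coneEquiv φ n).map_add z z'
  map_smul' a z := by
    rw [ModuleCat.restrictScalars.smul_def]
    exact (coneEquiv φ n).map_smul (algebraMap A B a) z
  left_inv z := (coneEquiv φ n).left_inv z
  right_inv p := (coneEquiv φ n).right_inv p

theorem flat_X (M : ModuleCat.{u} B)
    (hM : Module.Flat A ((ModuleCat.restrictScalars (algebraMap A B)).obj M)) :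
    ∀ (l : List B) (n : ℤ),
      Module.Flat A ((ModuleCat.restrictScalars (algebraMap A B)).obj ((kcx M l).X n))
  | [], n => by
    by_cases hn : n = 0
    · subst hn
      exact Module.Flat.of_linearEquiv (resEquiv
        (HomologicalComplex.singleObjXSelf (ComplexShape.up ℤ) 0 M).toLinearEquiv)
    · have h1 : IsZero (((HomologicalComplex.single (ModuleCat.{u} B) (ComplexShape.up ℤ) 0).obj
          M).X n) := HomologicalComplex.isZero_single_obj_X _ _ _ _ hn
      have s0 : Subsingleton ((kcx M []).X n) := ModuleCat.subsingleton_of_isZero h1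
      have s1 : Subsingleton ((ModuleCat.restrictScalars (algebraMap A B)).obj
          ((kcx M []).X n)) := s0
      infer_instance
  | f :: l, n => by
    have h1 := flat_X M hM l (n + 1)
    have h2 := flat_X M hM l n
    have h3 := flat_prod (R := A)
      (M := (ModuleCat.restrictScalars (algebraMap A B)).obj ((kcx M l).X (n + 1)))
      (N := (ModuleCat.restrictScalars (algebraMap A B)).obj ((kcx M l).X n))
    exact Module.Flat.of_linearEquiv (resConeEquiv (f • 𝟙 (kcx M l)) n)

end flatX

section resKcx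

variable {B B' : Type u} [CommRing B] [CommRing B'] (π : B →+* B')

theorem map_smul_id (f : B) (X : CochainComplex (ModuleCat.{u} B') ℤ) :
    ((ModuleCat.restrictScalars π).mapHomologicalComplex (ComplexShape.up ℤ)).map (π f • 𝟙 X) =
      f • 𝟙 (((ModuleCat.restrictScalars π).mapHomologicalComplex (ComplexShape.up ℤ)).obj X) := by
  ext n : 1
  apply ModuleCat.hom_ext
  ext x
  rfl

/-- restriction of scalars of a Koszul complex -/
noncomputable def resKcxIso (M : ModuleCat.{u} B') : ∀ l : List B,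
    ((ModuleCat.restrictScalars π).mapHomologicalComplex (ComplexShape.up ℤ)).obj
        (kcx M (l.map π)) ≅ kcx ((ModuleCat.restrictScalars π).obj M) l
  | [] => (HomologicalComplex.singleMapHomologicalComplex (ModuleCat.restrictScalars π)
      (ComplexShape.up ℤ) 0).app M
  | f :: l =>
    mappingCone.mapHomologicalComplexIso (π f • 𝟙 (kcx M (l.map π))) (ModuleCat.restrictScalars π) ≪≫
      coneMapIso _ (f • 𝟙 (kcx ((ModuleCat.restrictScalars π).obj M) l)) (resKcxIso M l)
        (resKcxIso M l) (by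
          rw [map_smul_id, Linear.smul_comp, Linear.comp_smul, Category.id_comp, Category.comp_id])

end resKcx

section top

variable {B : Type u} [CommRing B]

theorem exists_top_kcx (M : ModuleCat.{u} B) (l : List B) :
    ∃ t : (kcx M l).X 0 →ₗ[B] M, Bijective t ∧ ∀ y : M,
      (∃ w : (kcx M l).X (-1), t ((kcx M l).d (-1) 0 w) = y) ↔
        y ∈ Ideal.ofList l • (⊤ : Submodule B M) := by
  rw [kcx_eq_koszulCx]
  exact ⟨top M l 0 rfl, top_bijective M l 0 rfl,
    exists_top_d_eq_iff M l (-1) 0 (by norm_num) rfl⟩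

theorem mem_smul_top_self_iff (I : Ideal B) (x : B) :
    x ∈ I • (⊤ : Submodule B (ModuleCat.of B B)) ↔ x ∈ I := by
  show x ∈ I • (⊤ : Ideal B) ↔ _
  rw [smul_eq_mul, Ideal.mul_top]

end top

section main

variable (A B : Type u) [CommRing A] [CommRing B] [Algebra A B] (J : Ideal A) (rs : List B)

/-- restriction of a complex of `B`-modules to `A` -/
noncomputable abbrev resCx (K : CochainComplex (ModuleCat.{u} B) ℤ) :
    CochainComplex (ModuleCat.{u} A) ℤ :=
  ((ModuleCat.restrictScalars.{u} (algebraMap A B)).mapHomologicalComplex (ComplexShape.up ℤ)).obj K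

/-- the quotient map `B → B/JB` as a `B`-linear map to the restricted module -/
noncomputable def qHom : ModuleCat.of B B ⟶
    (ModuleCat.restrictScalars (Ideal.Quotient.mk (Ideal.map (algebraMap A B) J))).obj
      (ModuleCat.of (B ⧸ Ideal.map (algebraMap A B) J) (B ⧸ Ideal.map (algebraMap A B) J)) :=
  ModuleCat.ofHom
    { toFun := fun b => Ideal.Quotient.mk (Ideal.map (algebraMap A B) J) b
      map_add' := fun x y => map_add _ x y
      map_smul' := fun b x => by
        show Ideal.Quotient.mk (Ideal.map (algebraMap A B) J) (b * x) =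
          Ideal.Quotient.mk (Ideal.map (algebraMap A B) J) b *
            Ideal.Quotient.mk (Ideal.map (algebraMap A B) J) x
        exact map_mul _ _ _ }

theorem qHom_surjective : Surjective (qHom A B J) := Ideal.Quotient.mk_surjective

theorem qHom_eq_zero_iff (x : B) : qHom A B J x = 0 ↔
    x ∈ (Ideal.map (algebraMap A B) J) • (⊤ : Submodule B (ModuleCat.of B B)) := by
  rw [mem_smul_top_self_iff]
  exact Ideal.Quotient.eq_zero_iff_mem

/-- the reduction map from the Koszul complex of `B` to that of `B/JB` -/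
noncomputable def rho : kcx (ModuleCat.of B B) rs ⟶
    ((ModuleCat.restrictScalars (Ideal.Quotient.mk (Ideal.map (algebraMap A B) J))).mapHomologicalComplex
      (ComplexShape.up ℤ)).obj
        (kcx (ModuleCat.of (B ⧸ Ideal.map (algebraMap A B) J) (B ⧸ Ideal.map (algebraMap A B) J))
          (rs.map (Ideal.Quotient.mk (Ideal.map (algebraMap A B) J)))) :=
  kmap (qHom A B J) rs ≫ (resKcxIso (Ideal.Quotient.mk (Ideal.map (algebraMap A B) J))
    (ModuleCat.of (B ⧸ Ideal.map (algebraMap A B) J) (B ⧸ Ideal.map (algebraMap A B) J)) rs).inv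

theorem red_rho : Red (Ideal.map (algebraMap A B) J) (rho A B J rs) :=
  Red.comp_iso _ _ (resKcxIso _ _ rs).symm
    (Red.kmap _ _ (qHom_surjective A B J) (qHom_eq_zero_iff A B J) rs)

end main


section main2

theorem isZero_homology_iff {R : Type u} [Ring R] (K : CochainComplex (ModuleCat.{u} R) ℤ)
    (i j k : ℤ) (hij : i + 1 = j) (hjk : j + 1 = k) :
    IsZero (K.homology j) ↔ Function.Exact (K.d i j) (K.d j k) := by
  rw [← HomologicalComplex.exactAt_iff_isZero_homology,
    HomologicalComplex.exactAt_iff' K i j k (by simp; omega) (by simp; omega),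
    ShortComplex.ShortExact.moduleCat_exact_iff_function_exact]
  rfl

variable (A B : Type u) [CommRing A] [CommRing B] [Algebra A B] (J : Ideal A) (rs : List B)

local notation "𝔟" => Ideal.map (algebraMap A B) J
local notation "π" => Ideal.Quotient.mk (Ideal.map (algebraMap A B) J)
local notation "K" => kcx (ModuleCat.of B B) rs
local notation "K'" => kcx (ModuleCat.of (B ⧸ Ideal.map (algebraMap A B) J)
  (B ⧸ Ideal.map (algebraMap A B) J)) (rs.map (Ideal.Quotient.mk (Ideal.map (algebraMap A B) J)))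
local notation "L" => resCx A B (kcx (ModuleCat.of B B) rs)

theorem flat_restrict_self [Module.Flat A B] :
    Module.Flat A ((ModuleCat.restrictScalars (algebraMap A B)).obj (ModuleCat.of B B)) := by
  refine Module.Flat.of_linearEquiv (M := B) ?_
  exact
    { toFun := fun x => x
      invFun := fun x => x
      map_add' := fun _ _ => rfl
      map_smul' := fun a x => by
        show algebraMap A B a * (show B from x) = a • (show B from x)
        rw [Algebra.smul_def]
      left_inv := fun _ => rfl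
      right_inv := fun _ => rfl }

theorem exact_reduction
    (hexK' : ∀ i j k : ℤ, i + 1 = j → j + 1 = k → j < 0 →
      Function.Exact ((K').d i j) ((K').d j k)) :
    ∀ i j k : ℤ, i + 1 = j → j + 1 = k → j < 0 →
      Function.Exact (((L).d i j).hom.lTensor (A ⧸ J)) (((L).d j k).hom.lTensor (A ⧸ J)) := by
  intro i j k hij hjk hj
  have hρ := red_rho A B J rs
  refine exact_lTensor_of_reduction J ((L).d i j).hom ((L).d j k).hom (FlatNilp.d_d_apply (L) i j k)
    (fun x => (K').d i j x) (fun x => (K').d j k x)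
    (fun x => (rho A B J rs).f i x) (fun x => (rho A B J rs).f j x)
    (fun x => (rho A B J rs).f k x) ?_ ?_ ?_ ?_ ?_ ?_ (hexK' i j k hij hjk hj)
  · intro x y
    exact map_sub ((rho A B J rs).f j).hom x y
  · exact (hρ i).1
  · intro x hx
    exact (mem_smul_top_restrictScalars_iff J ((K).X j) x).mpr (((hρ j).2 x).mp hx)
  · intro x hx
    exact ((hρ k).2 x).mpr ((mem_smul_top_restrictScalars_iff J ((K).X k) x).mp hx)
  · intro x
    have h2 := ConcreteCategory.congr_hom ((rho A B J rs).comm i j) x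
    rw [ConcreteCategory.comp_apply, ConcreteCategory.comp_apply] at h2
    exact h2.symm
  · intro x
    have h2 := ConcreteCategory.congr_hom ((rho A B J rs).comm j k) x
    rw [ConcreteCategory.comp_apply, ConcreteCategory.comp_apply] at h2
    exact h2.symm


/-- **Lifting Koszul-regularity and flatness along a nilpotent thickening.** -/
theorem koszul_lift_of_nilpotent [Module.Flat A B] (hJ : IsNilpotent J)
    (hreg : ∀ j : ℤ, j < 0 → IsZero ((K').homology j))
    (hflat : Module.Flat (A ⧸ J) ((B ⧸ Ideal.map (algebraMap A B) J) ⧸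
      Ideal.ofList (rs.map (Ideal.Quotient.mk (Ideal.map (algebraMap A B) J))))) :
    (∀ j : ℤ, j < 0 → IsZero ((K).homology j)) ∧ Module.Flat A (B ⧸ Ideal.ofList rs) := by
  have hexK' : ∀ i j k : ℤ, i + 1 = j → j + 1 = k → j < 0 →
      Function.Exact ((K').d i j) ((K').d j k) :=
    fun i j k hij hjk hj => (isZero_homology_iff _ i j k hij hjk).mp (hreg j hj)
  have hflatL : ∀ i, Module.Flat A ((L).X i) :=
    fun i => flat_X (ModuleCat.of B B) (flat_restrict_self A B) rs i
  have hexL := exact_reduction A B J rs hexK'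
  obtain ⟨t, ht_bij, ht_d⟩ := exists_top_kcx (ModuleCat.of B B) rs
  let tA : (L).X 0 →ₗ[A] B :=
    { toFun := fun x => t x
      map_add' := fun x y => t.map_add x y
      map_smul' := fun a x => by
        show t (algebraMap A B a • (show (K).X 0 from x)) = a • t x
        rw [t.map_smul]
        exact (Algebra.smul_def a (t x)).symm }
  have hrange : ∀ x : (L).X 0, x ∈ LinearMap.range ((L).d (-1) 0).hom ↔
      tA x ∈ Ideal.ofList rs := by
    intro x
    rw [← mem_smul_top_self_iff, ← ht_d]
    constructor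
    · rintro ⟨w, rfl⟩
      exact ⟨w, rfl⟩
    · rintro ⟨w, hw⟩
      exact ⟨w, ht_bij.1 hw⟩
  -- the cokernel is `B/(rs)`
  let θ0 : (L).X 0 →ₗ[A] B ⧸ Ideal.ofList rs :=
    (Ideal.Quotient.mkₐ A (Ideal.ofList rs)).toLinearMap ∘ₗ tA
  have hθ0s : Surjective θ0 := by
    intro y
    obtain ⟨b, rfl⟩ := Ideal.Quotient.mk_surjective y
    obtain ⟨x, rfl⟩ := ht_bij.2 b
    exact ⟨x, rfl⟩
  have hθ0k : LinearMap.range ((L).d (-1) 0).hom = LinearMap.ker θ0 := by
    ext x
    rw [hrange, LinearMap.mem_ker]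
    exact (Ideal.Quotient.eq_zero_iff_mem).symm
  have e : ((L).X 0 ⧸ LinearMap.range ((L).d (-1) 0).hom) ≃ₗ[A] (B ⧸ Ideal.ofList rs) :=
    (Submodule.quotEquivOfEq _ _ hθ0k).trans (θ0.quotKerEquivOfSurjective hθ0s)
  -- the reduction of the cokernel
  let ψ0 : (L).X 0 →ₗ[A] ((B ⧸ Ideal.map (algebraMap A B) J) ⧸
      Ideal.ofList (rs.map (Ideal.Quotient.mk (Ideal.map (algebraMap A B) J)))) :=
    (Ideal.Quotient.mkₐ A (Ideal.ofList (rs.map π))).toLinearMap ∘ₗ
      (Ideal.Quotient.mkₐ A 𝔟).toLinearMap ∘ₗ tA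
  have hψ0r : LinearMap.range ((L).d (-1) 0).hom ≤ LinearMap.ker ψ0 := by
    intro x hx
    rw [hrange] at hx
    rw [LinearMap.mem_ker]
    show Ideal.Quotient.mk (Ideal.ofList (rs.map π)) (π (tA x)) = 0
    rw [Ideal.Quotient.eq_zero_iff_mem, ← Ideal.map_ofList]
    exact Ideal.mem_map_of_mem _ hx
  let ψ := (LinearMap.range ((L).d (-1) 0).hom).liftQ ψ0 hψ0r
  have hψs : Surjective ψ := by
    intro y
    obtain ⟨b', rfl⟩ := Ideal.Quotient.mk_surjective y
    obtain ⟨b, rfl⟩ := Ideal.Quotient.mk_surjective b'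
    obtain ⟨x, rfl⟩ := ht_bij.2 b
    exact ⟨Submodule.Quotient.mk x, rfl⟩
  have hψk : ∀ p, ψ p = 0 →
      p ∈ J • (⊤ : Submodule A ((L).X 0 ⧸ LinearMap.range ((L).d (-1) 0).hom)) := by
    intro p hp
    obtain ⟨x, rfl⟩ := Submodule.Quotient.mk_surjective _ p
    have h1 : Ideal.Quotient.mk (Ideal.ofList (rs.map π)) (π (t x)) = 0 := hp
    rw [Ideal.Quotient.eq_zero_iff_mem, ← Ideal.map_ofList,
      Ideal.mem_map_iff_of_surjective _ Ideal.Quotient.mk_surjective] at h1
    obtain ⟨c, hc, hcx⟩ := h1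
    obtain ⟨w, hw⟩ := (ht_d c).mpr ((mem_smul_top_self_iff _ c).mpr hc)
    have h2 : t ((show (K).X 0 from x) - (K).d (-1) 0 w) ∈ 𝔟 := by
      rw [map_sub, hw, ← Ideal.Quotient.eq, hcx]
    have h3 : ((show (K).X 0 from x) - (K).d (-1) 0 w) ∈ 𝔟 • (⊤ : Submodule B ((K).X 0)) := by
      have h4 := map_mem_smul_top 𝔟 (LinearEquiv.ofBijective t ht_bij).symm.toLinearMap
        ((mem_smul_top_self_iff 𝔟 _).mpr h2)
      rwa [LinearEquiv.coe_coe, LinearEquiv.ofBijective_symm_apply_apply] at h4
    have h5 := (mem_smul_top_restrictScalars_iff J ((K).X 0) _).mpr h3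
    have h6 := map_mem_smul_top J (LinearMap.range ((L).d (-1) 0).hom).mkQ h5
    have h7 : (LinearMap.range ((L).d (-1) 0).hom).mkQ
        (show (L).X 0 from ((show (K).X 0 from x) - (K).d (-1) 0 w)) = Submodule.Quotient.mk x := by
      show (LinearMap.range ((L).d (-1) 0).hom).mkQ
        (x - ((L).d (-1) 0).hom (show (L).X (-1) from w)) = _
      rw [map_sub, Submodule.mkQ_apply, Submodule.mkQ_apply, sub_eq_self,
        Submodule.Quotient.mk_eq_zero]
      exact ⟨w, rfl⟩
    rwa [h7] at h6
  have hcoker : Module.Flat (A ⧸ J)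
      ((A ⧸ J) ⊗[A] ((L).X 0 ⧸ LinearMap.range ((L).d (-1) 0).hom)) :=
    flat_tensor_of_reduction J ψ hψs hψk
  obtain ⟨hE, hF⟩ := exact_and_flat_of_reduction J (L) hflatL hexL hcoker hJ
  refine ⟨fun j hj => ?_, Module.Flat.of_linearEquiv e.symm⟩
  rw [isZero_homology_iff _ (j - 1) j (j + 1) (by ring) rfl]
  exact hE (j - 1) j (j + 1) (by ring) rfl hj

end main2

end Groth.Agent.Lib.KoszulReduce
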