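import Groth.Agent.Lib.ExtCechKoszul
import Groth.Agent.Lib.KoszulReduce
import Mathlib.Algebra.Homology.DerivedCategory.Basic
import Groth.Prelude.Def_LCI2

/-!
# Koszul complexes and quotients by Koszul-regular sequences (helper19)

* `quasiIso_cone_map`: the map of mapping cones induced by a commutative square of quasi-isos is a
  quasi-iso;
* `quasiIso_kmapC`: `kcxC - l` preserves quasi-isomorphisms;
* `kcx_append`: `kcx M (g ++ f) = kcxC (kcx M f) g`;
* `aug`: the augmentation `kcx M l ⟶ N[0]` of a linear map `M → N` killing `(l) M`, a quasi-iso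
  when `kcx M l` is acyclic in negative degrees and `M/(l)M ≃ N`;
* `isZero_homology_append_iff`: for `π : R → R'` surjective with kernel generated by a
  Koszul-regular sequence `f`, `H^i(K(g ++ f; R)) = 0 ↔ H^i(K(π g; R')) = 0`.
-/

set_option autoImplicit false
universe u
open CategoryTheory CategoryTheory.Limits CochainComplex HomologicalComplex

attribute [local instance] HasDerivedCategory.standard

namespace Groth.Agent.Lib.KoszulQuot

open Groth.Agent.Lib.KoszulCone Groth.Agent.Lib.KoszulElem Groth.Agent.Lib.KoszulScale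
  Groth.Agent.Lib.ExtCechTors Groth.Agent.Lib.ExtCechKoszul Groth.Agent.Lib.KoszulMinLen
  Groth.Agent.Lib.KoszulReduce

section general

variable {C : Type*} [Category C] [Abelian C] [HasDerivedCategory C]

/-- the map of mapping cones induced by a commutative square of quasi-isomorphisms is a
quasi-isomorphism -/
theorem quasiIso_cone_map {K₁ L₁ K₂ L₂ : CochainComplex C ℤ} (φ₁ : K₁ ⟶ L₁) (φ₂ : K₂ ⟶ L₂)
    (a : K₁ ⟶ K₂) (b : L₁ ⟶ L₂) (comm : φ₁ ≫ b = a ≫ φ₂) (ha : QuasiIso a) (hb : QuasiIso b) :
    QuasiIso (mappingCone.map φ₁ φ₂ a b comm) := by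
  rw [← DerivedCategory.isIso_Q_map_iff_quasiIso] at ha hb ⊢
  have hT₁ := DerivedCategory.mappingCone_triangle_distinguished φ₁
  have hT₂ := DerivedCategory.mappingCone_triangle_distinguished φ₂
  let ψ := DerivedCategory.Q.mapTriangle.map (mappingCone.triangleMap φ₁ φ₂ a b comm)
  have h1 : IsIso ψ.hom₁ := ha
  have h2 : IsIso ψ.hom₂ := hb
  exact Pretriangulated.isIso₃_of_isIso₁₂ ψ hT₁ hT₂ h1 h2

end general

variable {R : Type u} [CommRing R]

/-- a cycle with zero class is a boundary -/
theorem exists_boundary_of_homologyπ_eq_zero (K : CochainComplex (ModuleCat.{u} R) ℤ) (i j : ℤ)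
    (hij : i + 1 = j) (c : K.cycles j) (h : K.homologyπ j c = 0) :
    ∃ w : K.X i, K.iCycles j c = K.d i j w := by
  have hcok := K.homologyIsCokernel i j (by simp; omega)
  have hex : (ShortComplex.mk (K.toCycles i j) (K.homologyπ j)
      (K.toCycles_comp_homologyπ i j)).Exact := ShortComplex.exact_of_g_is_cokernel _ hcok
  rw [ShortComplex.moduleCat_exact_iff] at hex
  obtain ⟨w, hw⟩ := hex c h
  refine ⟨w, ?_⟩
  have h2 := ConcreteCategory.congr_hom (K.toCycles_i i j) w
  rw [ConcreteCategory.comp_apply] at h2
  rw [← h2]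
  exact congrArg _ hw.symm

/-- `kcxC - l` preserves quasi-isomorphisms -/
theorem quasiIso_kmapC {X Y : CochainComplex (ModuleCat.{u} R) ℤ} (φ : X ⟶ Y) (hφ : QuasiIso φ) :
    ∀ l : List R, QuasiIso (kmapC φ l)
  | [] => hφ
  | f :: l => quasiIso_cone_map _ _ _ _ _ (quasiIso_kmapC φ hφ l) (quasiIso_kmapC φ hφ l)

/-- the Koszul complex of a concatenation -/
theorem kcx_append (M : ModuleCat.{u} R) (f : List R) : ∀ g : List R,
    kcx M (g ++ f) = kcxC (kcx M f) g
  | [] => rfl
  | a :: g => by
    show mappingCone (a • 𝟙 (kcx M (g ++ f))) = mappingCone (a • 𝟙 (kcxC (kcx M f) g))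
    rw [kcx_append M f g]


section aug

variable (M N : ModuleCat.{u} R) (l : List R) (q : M ⟶ N)

/-- the identification of the top degree of `kcx M l` with `M` -/
noncomputable def topK : (kcx M l).X 0 →ₗ[R] M := Classical.choose (exists_top_kcx M l)

theorem topK_bijective : Function.Bijective (topK M l) :=
  (Classical.choose_spec (exists_top_kcx M l)).1

theorem topK_d_iff (y : M) : (∃ w : (kcx M l).X (-1), topK M l ((kcx M l).d (-1) 0 w) = y) ↔
    y ∈ Ideal.ofList l • (⊤ : Submodule R M) :=
  (Classical.choose_spec (exists_top_kcx M l)).2 y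

/-- the augmentation `kcx M l ⟶ N[0]` of a map `M ⟶ N` killing `(l) M` -/
noncomputable def aug (hq : ∀ x : M, x ∈ Ideal.ofList l • (⊤ : Submodule R M) → q x = 0) :
    kcx M l ⟶ (HomologicalComplex.single (ModuleCat.{u} R) (ComplexShape.up ℤ) 0).obj N :=
  HomologicalComplex.mkHomToSingle (ModuleCat.ofHom (q.hom ∘ₗ topK M l)) (by
    intro i hi
    have hi' : i + 1 = 0 := hi
    obtain rfl : i = -1 := by omega
    apply ModuleCat.hom_ext
    apply LinearMap.ext
    intro w
    exact hq _ ((topK_d_iff M l _).mp ⟨w, rfl⟩))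

theorem aug_f_apply (hq : ∀ x : M, x ∈ Ideal.ofList l • (⊤ : Submodule R M) → q x = 0)
    (z : (kcx M l).X 0) :
    (HomologicalComplex.singleObjXSelf (ComplexShape.up ℤ) 0 N).hom ((aug M N l q hq).f 0 z) =
      q (topK M l z) := by
  have h1 : (aug M N l q hq).f 0 ≫ (HomologicalComplex.singleObjXSelf (ComplexShape.up ℤ) 0 N).hom =
      ModuleCat.ofHom (q.hom ∘ₗ topK M l) := by
    unfold aug
    rw [HomologicalComplex.mkHomToSingle_f, Category.assoc, Iso.inv_hom_id, Category.comp_id]
  have h2 := ConcreteCategory.congr_hom h1 z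
  rw [ConcreteCategory.comp_apply] at h2
  exact h2

theorem quasiIso_aug (hq : ∀ x : M, x ∈ Ideal.ofList l • (⊤ : Submodule R M) → q x = 0)
    (hsurj : Function.Surjective q)
    (hker : ∀ x : M, q x = 0 → x ∈ Ideal.ofList l • (⊤ : Submodule R M))
    (hacyc : ∀ i : ℤ, i < 0 → IsZero ((kcx M l).homology i)) : QuasiIso (aug M N l q hq) := by
  have hσ : Function.Bijective (HomologicalComplex.singleObjXSelf (ComplexShape.up ℤ) 0 N).hom :=
    ConcreteCategory.bijective_of_isIso _
  rw [quasiIso_iff]
  intro i
  by_cases hi : i = 0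
  · subst hi
    rw [quasiIsoAt_iff_isIso_homologyMap, ConcreteCategory.isIso_iff_bijective]
    have hnat : ∀ c : (kcx M l).cycles 0,
        homologyMap (aug M N l q hq) 0 ((kcx M l).homologyπ 0 c) =
          ((HomologicalComplex.single (ModuleCat.{u} R) (ComplexShape.up ℤ) 0).obj N).homologyπ 0
            (cyclesMap (aug M N l q hq) 0 c) := by
      intro c
      have h1 := ConcreteCategory.congr_hom (homologyπ_naturality (aug M N l q hq) 0) c
      rw [ConcreteCategory.comp_apply, ConcreteCategory.comp_apply] at h1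
      exact h1
    have hi' : ∀ c : (kcx M l).cycles 0,
        ((HomologicalComplex.single (ModuleCat.{u} R) (ComplexShape.up ℤ) 0).obj N).iCycles 0
            (cyclesMap (aug M N l q hq) 0 c) = (aug M N l q hq).f 0 ((kcx M l).iCycles 0 c) := by
      intro c
      have h1 := ConcreteCategory.congr_hom (cyclesMap_i (aug M N l q hq) 0) c
      rw [ConcreteCategory.comp_apply, ConcreteCategory.comp_apply] at h1
      exact h1
    have hd0 : ((HomologicalComplex.single (ModuleCat.{u} R) (ComplexShape.up ℤ) 0).obj N).d (-1) 0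
        = 0 := HomologicalComplex.single_obj_d _ _ _ _ _
    constructor
    · rw [injective_iff_map_eq_zero]
      intro x hx
      obtain ⟨c, rfl⟩ := exists_cycle _ 0 x
      rw [hnat] at hx
      obtain ⟨w, hw⟩ := exists_boundary_of_homologyπ_eq_zero _ (-1) 0
        (by norm_num) _ hx
      rw [hd0, hi'] at hw
      have h2 : q (topK M l ((kcx M l).iCycles 0 c)) = 0 := by
        rw [← aug_f_apply M N l q hq, hw]
        rfl
      obtain ⟨w', hw'⟩ := (topK_d_iff M l _).mpr (hker _ h2)
      exact homologyπ_eq_zero_of_boundary _ (-1) 0 (by norm_num) c w'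
        ((topK_bijective M l).1 hw').symm
    · intro y
      obtain ⟨c', rfl⟩ := exists_cycle _ 0 y
      obtain ⟨m, hm⟩ := hsurj ((HomologicalComplex.singleObjXSelf (ComplexShape.up ℤ) 0 N).hom
        (((HomologicalComplex.single (ModuleCat.{u} R) (ComplexShape.up ℤ) 0).obj N).iCycles 0 c'))
      obtain ⟨z, rfl⟩ := (topK_bijective M l).2 m
      have hz : (kcx M l).d 0 1 z = 0 := by
        have : Subsingleton ((kcx M l).X 1) := by
          rw [kcx_eq_koszulCx]
          exact subsingleton_X M l 1 (Or.inr (by norm_num))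
        exact Subsingleton.elim _ _
      obtain ⟨c, hc⟩ := exists_cycle_of_d_eq_zero _ 0 1 (by norm_num) z hz
      refine ⟨(kcx M l).homologyπ 0 c, ?_⟩
      rw [hnat]
      congr 1
      have hm' : Function.Injective
          (((HomologicalComplex.single (ModuleCat.{u} R) (ComplexShape.up ℤ) 0).obj N).iCycles 0) :=
        (ModuleCat.mono_iff_injective _).mp inferInstance
      apply hm'
      rw [hi', hc]
      apply hσ.1
      rw [aug_f_apply, hm]
  · have hL : ((HomologicalComplex.single (ModuleCat.{u} R) (ComplexShape.up ℤ) 0).obj N).ExactAt i :=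
      HomologicalComplex.exactAt_single_obj _ _ _ _ hi
    rw [quasiIsoAt_iff_exactAt' _ _ hL, exactAt_iff_isZero_homology]
    rcases lt_or_gt_of_ne hi with h | h
    · exact hacyc i h
    · have := subsingleton_homology_pos M l i h
      exact ModuleCat.isZero_of_subsingleton _

end aug


section transfer

variable {R' : Type u} [CommRing R'] (π : R →+* R')

/-- homology vanishing can be tested after restriction of scalars -/
theorem isZero_homology_restrict_iff (K : CochainComplex (ModuleCat.{u} R') ℤ) (j : ℤ) :
    IsZero ((((ModuleCat.restrictScalars π).mapHomologicalComplex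
      (ComplexShape.up ℤ)).obj K).homology j) ↔ IsZero (K.homology j) := by
  rw [isZero_homology_iff _ (j - 1) j (j + 1) (by omega) rfl,
    isZero_homology_iff K (j - 1) j (j + 1) (by omega) rfl]
  exact Iff.rfl

/-- the ring map as a map of `R`-modules -/
noncomputable def piHom : ModuleCat.of R R ⟶
    (ModuleCat.restrictScalars π).obj (ModuleCat.of R' R') :=
  ModuleCat.ofHom (X := R) (Y := (ModuleCat.restrictScalars π).obj (ModuleCat.of R' R'))
    { toFun := fun x => π x
      map_add' := fun x y => map_add π x y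
      map_smul' := fun r x => by
        show π (r * x) = π r * π x
        exact map_mul π r x }

theorem piHom_apply (x : R) : piHom π x = π x := rfl

/-- **Koszul complexes modulo a Koszul-regular sequence**: if `π : R → R'` is surjective with
kernel generated by `f`, and `K(f; R)` is acyclic in negative degrees, then the cohomology of
`K(g ++ f; R)` vanishes in a given degree iff that of `K(π g; R')` does. -/
theorem isZero_homology_append_iff (hπ : Function.Surjective π) (f : List R)
    (hker : RingHom.ker π = Ideal.ofList f)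
    (hf : ∀ i : ℤ, i < 0 → IsZero ((kcx (ModuleCat.of R R) f).homology i))
    (g : List R) (i : ℤ) :
    IsZero ((kcx (ModuleCat.of R R) (g ++ f)).homology i) ↔
      IsZero ((kcx (ModuleCat.of R' R') (g.map π)).homology i) := by
  have hmem : ∀ x : R, x ∈ Ideal.ofList f • (⊤ : Submodule R (ModuleCat.of R R)) ↔ π x = 0 := by
    intro x
    rw [mem_smul_top_self_iff, ← hker, RingHom.mem_ker]
  have hq : ∀ x : (ModuleCat.of R R),
      x ∈ Ideal.ofList f • (⊤ : Submodule R (ModuleCat.of R R)) → piHom π x = 0 :=
    fun x hx => (hmem x).mp hx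
  have hqi := quasiIso_aug (ModuleCat.of R R) _ f (piHom π) hq hπ (fun x hx => (hmem x).mpr hx) hf
  have hqi2 := quasiIso_kmapC _ hqi g
  rw [kcx_append]
  have e1 : (kcxC (kcx (ModuleCat.of R R) f) g).homology i ≅
      (kcxC ((HomologicalComplex.single (ModuleCat.{u} R) (ComplexShape.up ℤ) 0).obj
        ((ModuleCat.restrictScalars π).obj (ModuleCat.of R' R'))) g).homology i :=
    have := hqi2
    asIso (homologyMap (kmapC (aug (ModuleCat.of R R) _ f (piHom π) hq) g) i)
  rw [e1.isZero_iff, kcxC_single, ← isZero_homology_restrict_iff π]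
  exact ((HomologicalComplex.homologyFunctor _ _ i).mapIso
    (resKcxIso π (ModuleCat.of R' R') g)).symm.isZero_iff

end transfer


section regular

/-- Koszul-regularity in terms of `kcx` -/
theorem isKoszulRegularSeq_iff (l : List R) : LCI.IsKoszulRegularSeq R l ↔
    ∀ i : ℤ, i < 0 → IsZero ((kcx (ModuleCat.of R R) l).homology i) := by
  have hiso : ∀ i : ℤ, (kcx (ModuleCat.of R R) l).homology i ≅ (Koszul.koszul R l).homology i :=
    fun i => (HomologicalComplex.homologyFunctor _ _ i).mapIso (eqToIso (kcx_eq_koszul l))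
  constructor
  · intro h i hi
    exact (hiso i).isZero_iff.mpr (h i (by omega))
  · intro h i hi
    refine (hiso i).isZero_iff.mp ?_
    rcases lt_or_gt_of_ne hi with h2 | h2
    · exact h i h2
    · have := subsingleton_homology_pos (ModuleCat.of R R) l i h2
      exact ModuleCat.isZero_of_subsingleton _

variable {R' : Type u} [CommRing R'] (π : R →+* R')

/-- Koszul-regularity of `g ++ f` over `R` is Koszul-regularity of the image of `g` over
`R' = R/(f)`, when `f` is Koszul-regular. -/
theorem isKoszulRegularSeq_append_iff (hπ : Function.Surjective π) (f : List R)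
    (hker : RingHom.ker π = Ideal.ofList f) (hf : LCI.IsKoszulRegularSeq R f) (g : List R) :
    LCI.IsKoszulRegularSeq R (g ++ f) ↔ LCI.IsKoszulRegularSeq R' (g.map π) := by
  rw [isKoszulRegularSeq_iff, isKoszulRegularSeq_iff]
  have hf' := (isKoszulRegularSeq_iff f).mp hf
  constructor
  · intro h i hi
    exact (isZero_homology_append_iff π hπ f hker hf' g i).mp (h i hi)
  · intro h i hi
    exact (isZero_homology_append_iff π hπ f hker hf' g i).mpr (h i hi)

end regular


section flat

open MonoidalCategory

/-- `K(l; R) ⊗ M ≅ K(l; M)` -/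
noncomputable def tensorKcxIso (M : ModuleCat.{u} R) : ∀ l : List R,
    ((tensorRight M).mapHomologicalComplex (ComplexShape.up ℤ)).obj (kcx (ModuleCat.of R R) l) ≅
      kcx M l
  | [] =>
    ((HomologicalComplex.singleMapHomologicalComplex (tensorRight M) (ComplexShape.up ℤ) 0).app
      (ModuleCat.of R R)) ≪≫
      (HomologicalComplex.single (ModuleCat.{u} R) (ComplexShape.up ℤ) 0).mapIso (λ_ M)
  | f :: l =>
    (mappingCone.mapHomologicalComplexIso (f • 𝟙 (kcx (ModuleCat.of R R) l)) (tensorRight M)) ≪≫
      Groth.Agent.Lib.KoszulPerm.coneMapIso _ (f • 𝟙 (kcx M l)) (tensorKcxIso M l)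
        (tensorKcxIso M l) (by
        rw [Functor.map_smul, CategoryTheory.Functor.map_id, Linear.smul_comp, Linear.comp_smul,
          Category.id_comp, Category.comp_id])

/-- tensoring with a flat module preserves acyclicity -/
theorem isZero_homology_tensor_of_flat (M : ModuleCat.{u} R) [Module.Flat R M]
    (K : CochainComplex (ModuleCat.{u} R) ℤ) (j : ℤ) (h : IsZero (K.homology j)) :
    IsZero ((((tensorRight M).mapHomologicalComplex (ComplexShape.up ℤ)).obj K).homology j) := by
  rw [isZero_homology_iff _ (j - 1) j (j + 1) (by omega) rfl] at h ⊢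
  exact Module.Flat.rTensor_exact M h

/-- acyclicity of the Koszul complex with coefficients in a flat module -/
theorem isZero_homology_kcx_of_flat (M : ModuleCat.{u} R) [Module.Flat R M] (l : List R) (j : ℤ)
    (h : IsZero ((kcx (ModuleCat.of R R) l).homology j)) : IsZero ((kcx M l).homology j) :=
  ((HomologicalComplex.homologyFunctor _ _ j).mapIso (tensorKcxIso M l)).isZero_iff.mp
    (isZero_homology_tensor_of_flat M _ j h)

variable {R' : Type u} [CommRing R'] [Algebra R R']

/-- **flat base change** of Koszul-regular sequences -/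
theorem isKoszulRegularSeq_map_of_flat [Module.Flat R R'] (l : List R)
    (h : LCI.IsKoszulRegularSeq R l) : LCI.IsKoszulRegularSeq R' (l.map (algebraMap R R')) := by
  rw [isKoszulRegularSeq_iff] at h ⊢
  intro i hi
  rw [← isZero_homology_restrict_iff (algebraMap R R')]
  refine ((HomologicalComplex.homologyFunctor _ _ i).mapIso
    (resKcxIso (algebraMap R R') (ModuleCat.of R' R') l)).isZero_iff.mpr ?_
  have := flat_restrict_self R R'
  exact isZero_homology_kcx_of_flat _ l i (h i hi)

end flat

end Groth.Agent.Lib.KoszulQuot
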