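import Groth.Agent.Lib.KoszulMinLen
import Groth.Agent.Lib.KoszulQuot
import Groth.Agent.Lib.KoszulRel2
import Groth.Agent.Lib.KoszulElem2
import Groth.Agent.Lib.KoszulIdeal
import Groth.Agent.S15821
import Mathlib.Algebra.Polynomial.AlgebraMap
import Mathlib.RingTheory.Regular.RegularSequence
import Mathlib.Algebra.MvPolynomial.Equiv
import Mathlib.RingTheory.Polynomial.Basic

/-!
# A Koszul-regular sequence becomes regular in a polynomial ring (helper19)

For a Koszul-regular sequence `a₁, …, aₙ` generating a proper ideal of `A`, the polynomial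
`g = a₁ + a₂ X + ⋯ + aₙ X^{n-1} ∈ A[X]` is a nonzerodivisor (McCoy: the annihilator of the ideal is
zero), `(g, a₂, …, aₙ) = (a₁, …, aₙ) A[X]`, and `a₂, …, aₙ` is Koszul-regular in `A[X]/(g)`.
By induction the extended ideal is generated by a regular sequence in a polynomial ring in finitely
many variables (Stacks 0DWP-type statement, with an explicit polynomial ring instead of `GL_n`).

* `eq_zero_of_forall_mul_eq_zero` : the annihilator of a Koszul-regular sequence is zero;
* `poly`, `poly_mem_nonZeroDivisors`;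
* `isRegular_cons_of_surjective` : lifting regular sequences through `R → R/(r)`;
* `exists_regular_mvPolynomial` : the main result.
-/

universe u

open CategoryTheory CategoryTheory.Limits

namespace Groth.Agent.Lib.KRegToReg19

open Groth.Agent.Lib.KoszulElem Groth.Agent.Lib.KoszulQuot

variable {A : Type u} [CommRing A]

/-- the annihilator of a (nonempty) Koszul-regular sequence is zero -/
theorem eq_zero_of_forall_mul_eq_zero (l : List A) (hl : l ≠ []) (h : LCI.IsKoszulRegularSeq A l)
    (c : A) (hc : ∀ a ∈ l, a * c = 0) : c = 0 := by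
  have hlen : 0 < l.length := List.length_pos_iff.mpr hl
  have hH : IsZero ((CohIII.koszulCx (ModuleCat.of A A) l).homology (-(l.length : ℤ))) := by
    rw [← Groth.Agent.Lib.KoszulRel.koszul_eq]
    exact h _ (by omega)
  obtain ⟨z, hz⟩ := (bot_bijective (ModuleCat.of A A) l (-(l.length : ℤ)) rfl).2 c
  have hd : (CohIII.koszulCx (ModuleCat.of A A) l).d (-(l.length : ℤ)) (-(l.length : ℤ) + 1) z = 0 := by
    rw [bot_d_eq_zero_iff (ModuleCat.of A A) l (-(l.length : ℤ)) rfl]
    intro g hg
    rw [hz]
    exact hc g hg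
  obtain ⟨cyc, hcyc⟩ := exists_cycle_of_d_eq_zero _ (-(l.length : ℤ)) (-(l.length : ℤ) + 1) rfl z hd
  have h0 : (CohIII.koszulCx (ModuleCat.of A A) l).homologyπ (-(l.length : ℤ)) cyc = 0 := by
    have := ModuleCat.subsingleton_of_isZero hH
    exact Subsingleton.elim _ _
  obtain ⟨w, hw⟩ := exists_boundary_of_homologyπ_eq_zero _ (-(l.length : ℤ) - 1) (-(l.length : ℤ))
    (by omega) cyc h0
  have hs : Subsingleton ((CohIII.koszulCx (ModuleCat.of A A) l).X (-(l.length : ℤ) - 1)) :=
    subsingleton_X _ l _ (Or.inl (by omega))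
  have hw0 : w = 0 := Subsingleton.elim _ _
  rw [hw0, map_zero] at hw
  rw [← hz, ← hcyc, hw, map_zero]

open Polynomial in
/-- the polynomial `a₀ + a₁ X + a₂ X² + ⋯` with coefficient list `l` -/
noncomputable def poly : List A → A[X]
  | [] => 0
  | a :: l => C a + X * poly l

open Polynomial in
theorem forall_mul_eq_zero_of_smul_poly (c : A) : ∀ l : List A, c • poly l = 0 → ∀ a ∈ l, a * c = 0
  | [], _ => by simp
  | a :: l, h => by
    have h0 : c * a = 0 := by
      have := congrArg (fun p => p.coeff 0) h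
      simpa [poly] using this
    have h1 : c • poly l = 0 := by
      ext n
      have := congrArg (fun p => p.coeff (n + 1)) h
      simpa [poly, coeff_X_mul, coeff_C_succ] using this
    intro b hb
    rcases List.mem_cons.mp hb with rfl | hb
    · rw [mul_comm]; exact h0
    · exact forall_mul_eq_zero_of_smul_poly c l h1 b hb

open Polynomial in
theorem poly_mem_nonZeroDivisors (l : List A) (hl : l ≠ []) (h : LCI.IsKoszulRegularSeq A l) :
    poly l ∈ nonZeroDivisors A[X] := by
  by_contra hcon
  obtain ⟨c, hc0, hc⟩ := Polynomial.notMem_nonZeroDivisors_iff.mp hcon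
  exact hc0 (eq_zero_of_forall_mul_eq_zero l hl h c (forall_mul_eq_zero_of_smul_poly c l hc))

open Polynomial in
theorem poly_mem_ofList : ∀ l : List A, poly l ∈ Ideal.ofList (l.map (C : A →+* A[X]))
  | [] => by simp [poly]
  | a :: l => by
    rw [List.map_cons, Ideal.ofList_cons]
    refine Ideal.add_mem _ (Ideal.mem_sup_left (Ideal.mem_span_singleton_self _)) ?_
    exact Ideal.mem_sup_right (Ideal.mul_mem_left _ _ (poly_mem_ofList l))

open Polynomial in
theorem ofList_poly_cons (a : A) (l : List A) :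
    Ideal.ofList (l.map (C : A →+* A[X]) ++ [poly (a :: l)]) =
      Ideal.ofList ((a :: l).map (C : A →+* A[X])) := by
  rw [Ideal.ofList_append, Ideal.ofList_singleton, List.map_cons, Ideal.ofList_cons]
  apply le_antisymm
  · refine sup_le le_sup_right ?_
    rw [Ideal.span_singleton_le_iff_mem]
    have := poly_mem_ofList (a :: l)
    rwa [List.map_cons, Ideal.ofList_cons] at this
  · refine sup_le ?_ le_sup_left
    rw [Ideal.span_singleton_le_iff_mem]
    have h1 : (C a : A[X]) = poly (a :: l) - X * poly l := by simp [poly]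
    rw [h1]
    refine Ideal.sub_mem _ (Ideal.mem_sup_right (Ideal.mem_span_singleton_self _)) ?_
    exact Ideal.mem_sup_left (Ideal.mul_mem_left _ _ (poly_mem_ofList l))

section lift

open RingTheory.Sequence
open scoped Pointwise

/-- lifting a regular sequence through the quotient by a nonzerodivisor -/
theorem isRegular_cons_of_surjective {R S : Type*} [CommRing R] [CommRing S] (Φ : R →+* S)
    (hΦ : Function.Surjective Φ) (r : R) (hker : RingHom.ker Φ = Ideal.span {r})
    (hr : IsSMulRegular R r) (rs : List R) (h : IsRegular S (rs.map Φ)) :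
    IsRegular R (r :: rs) := by
  rw [isRegular_cons_iff]
  refine ⟨hr, ?_⟩
  let _ : Algebra R S := Φ.toAlgebra
  have hsurj : Function.Surjective (Algebra.linearMap R S) := hΦ
  have hk : LinearMap.ker (Algebra.linearMap R S) = r • (⊤ : Submodule R R) := by
    ext x
    rw [LinearMap.mem_ker, Algebra.linearMap_apply, Submodule.mem_smul_pointwise_iff_exists]
    have : x ∈ RingHom.ker Φ ↔ algebraMap R S x = 0 := Iff.rfl
    rw [← this, hker, Ideal.mem_span_singleton']
    constructor
    · rintro ⟨a, rfl⟩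
      exact ⟨a, trivial, by rw [smul_eq_mul, mul_comm]⟩
    · rintro ⟨a, -, rfl⟩
      exact ⟨a, by rw [smul_eq_mul, mul_comm]⟩
  let e : QuotSMulTop r R ≃ₗ[R] S :=
    (Submodule.quotEquivOfEq _ _ hk.symm).trans
      ((Algebra.linearMap R S).quotKerEquivOfSurjective hsurj)
  refine (e.toAddEquiv.isRegular_congr (bs := rs.map Φ) ?_).mpr h
  refine List.forall₂_map_right_iff.mpr (List.forall₂_same.mpr fun a _ x => ?_)
  show e (a • x) = Φ a • e x
  rw [map_smul]
  rfl

/-- transport of regular sequences along a ring isomorphism -/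
theorem isRegular_map_ringEquiv {R S : Type*} [CommRing R] [CommRing S] (e : R ≃+* S)
    (rs : List R) (h : IsRegular R rs) : IsRegular S (rs.map e) := by
  refine (e.toAddEquiv.isRegular_congr (bs := rs.map e) ?_).mp h
  refine List.forall₂_map_right_iff.mpr (List.forall₂_same.mpr fun a _ x => ?_)
  show e (a • x) = e a • e x
  rw [smul_eq_mul, map_mul, smul_eq_mul]

end lift


theorem ideal_eq_of_map_eq {R S : Type*} [CommRing R] [CommRing S] (Φ : R →+* S)
    (hΦ : Function.Surjective Φ) (I₁ I₂ : Ideal R) (h1 : RingHom.ker Φ ≤ I₁)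
    (h2 : RingHom.ker Φ ≤ I₂) (h : I₁.map Φ = I₂.map Φ) : I₁ = I₂ := by
  have e1 := Ideal.comap_map_of_surjective Φ hΦ I₁
  have e2 := Ideal.comap_map_of_surjective Φ hΦ I₂
  rw [h] at e1
  rw [e1] at e2
  have hk : Ideal.comap Φ ⊥ = RingHom.ker Φ := rfl
  rw [hk, sup_eq_left.mpr h1, sup_eq_left.mpr h2] at e2
  exact e2

theorem ofList_ne_top_of_map_C {l : List A} (htop : Ideal.ofList l ≠ ⊤) :
    (Ideal.ofList l).map (Polynomial.C : A →+* Polynomial A) ≠ ⊤ := by
  intro h
  apply htop
  have h1 := congrArg (Ideal.map (Polynomial.constantCoeff : Polynomial A →+* A)) h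
  rw [Ideal.map_map, Ideal.map_top] at h1
  have h2 : (Polynomial.constantCoeff : Polynomial A →+* A).comp Polynomial.C = RingHom.id A := by
    ext x; simp
  rw [h2, Ideal.map_id] at h1
  exact h1

open Polynomial in
theorem exists_transport (σ : Type) (b : List (MvPolynomial σ A[X]))
    (hb : RingTheory.Sequence.IsRegular (MvPolynomial σ A[X]) b) (I : Ideal A)
    (hI : Ideal.ofList b = (I.map (C : A →+* A[X])).map
      (MvPolynomial.C : A[X] →+* MvPolynomial σ A[X])) :
    ∃ b' : List (MvPolynomial (Option σ) A),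
      RingTheory.Sequence.IsRegular (MvPolynomial (Option σ) A) b' ∧
        Ideal.ofList b' = I.map (MvPolynomial.C : A →+* MvPolynomial (Option σ) A) := by
  let e : MvPolynomial σ A[X] ≃+* MvPolynomial (Option σ) A :=
    (MvPolynomial.optionEquivRight A σ).symm.toRingEquiv
  refine ⟨b.map e, isRegular_map_ringEquiv e b hb, ?_⟩
  have h1 := Ideal.map_ofList (e : MvPolynomial σ A[X] →+* MvPolynomial (Option σ) A) b
  have h2 : b.map (e : MvPolynomial σ A[X] →+* MvPolynomial (Option σ) A) = b.map e := rfl
  rw [h2] at h1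
  rw [← h1, hI, Ideal.map_map, Ideal.map_map]
  congr 1
  refine RingHom.ext fun x => ?_
  show (MvPolynomial.optionEquivRight A σ).symm (MvPolynomial.C (C x)) = MvPolynomial.C x
  have := (MvPolynomial.optionEquivRight A σ).symm.commutes x
  rwa [MvPolynomial.algebraMap_apply, Polynomial.algebraMap_eq, MvPolynomial.algebraMap_eq]
    at this

/-- lifting a regular sequence from `MvPolynomial σ (R ⧸ (g))` to `MvPolynomial σ R` -/
theorem exists_lift_mvPolynomial {R : Type u} [CommRing R] (g : R) (hg : g ∈ nonZeroDivisors R)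
    (σ : Type) (b' : List (MvPolynomial σ (R ⧸ Ideal.span {g})))
    (hb' : RingTheory.Sequence.IsRegular (MvPolynomial σ (R ⧸ Ideal.span {g})) b')
    (J : Ideal R) (hgJ : g ∈ J)
    (hb'I : Ideal.ofList b' = (J.map (Ideal.Quotient.mk (Ideal.span {g}))).map
      (MvPolynomial.C : (R ⧸ Ideal.span {g}) →+* MvPolynomial σ (R ⧸ Ideal.span {g}))) :
    ∃ b : List (MvPolynomial σ R), RingTheory.Sequence.IsRegular (MvPolynomial σ R) b ∧
      Ideal.ofList b = J.map (MvPolynomial.C : R →+* MvPolynomial σ R) := by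
  have hπ : Function.Surjective (Ideal.Quotient.mk (Ideal.span {g})) :=
    Ideal.Quotient.mk_surjective
  have hΦ : Function.Surjective (MvPolynomial.map (σ := σ) (Ideal.Quotient.mk (Ideal.span {g}))) :=
    MvPolynomial.map_surjective _ hπ
  have hkerΦ : RingHom.ker (MvPolynomial.map (σ := σ) (Ideal.Quotient.mk (Ideal.span {g}))) =
      Ideal.span {(MvPolynomial.C g : MvPolynomial σ R)} := by
    rw [MvPolynomial.ker_map, Ideal.mk_ker, Ideal.map_span, Set.image_singleton]
  have hCg : IsSMulRegular (MvPolynomial σ R) (MvPolynomial.C g : MvPolynomial σ R) := by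
    intro p q hpq
    refine MvPolynomial.ext _ _ fun m => ?_
    have := congrArg (MvPolynomial.coeff m) hpq
    simp only [smul_eq_mul, MvPolynomial.coeff_C_mul] at this
    exact (isRegular_iff_mem_nonZeroDivisors.mpr hg).left this
  have hmap : (b'.map (Function.surjInv hΦ)).map
      (MvPolynomial.map (σ := σ) (Ideal.Quotient.mk (Ideal.span {g}))) = b' := by
    rw [List.map_map]
    conv_rhs => rw [← List.map_id b']
    refine List.map_congr_left fun x _ => ?_
    exact Function.surjInv_eq hΦ x
  refine ⟨(MvPolynomial.C g : MvPolynomial σ R) :: b'.map (Function.surjInv hΦ),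
    isRegular_cons_of_surjective (MvPolynomial.map (σ := σ) (Ideal.Quotient.mk (Ideal.span {g})))
      hΦ _ hkerΦ hCg _ (by rw [hmap]; exact hb'), ?_⟩
  apply ideal_eq_of_map_eq (MvPolynomial.map (σ := σ) (Ideal.Quotient.mk (Ideal.span {g}))) hΦ
  · rw [hkerΦ, Ideal.ofList_cons]
    exact le_sup_left
  · rw [hkerΦ, Ideal.span_singleton_le_iff_mem]
    exact Ideal.mem_map_of_mem _ hgJ
  · rw [Ideal.map_ofList, List.map_cons, hmap, Ideal.ofList_cons, Ideal.map_map]
    have h0 : MvPolynomial.map (σ := σ) (Ideal.Quotient.mk (Ideal.span {g}))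
        (MvPolynomial.C g) = 0 := by
      rw [MvPolynomial.map_C]
      have h0 : Ideal.Quotient.mk (Ideal.span {g}) g = 0 :=
        Ideal.Quotient.eq_zero_iff_mem.mpr (Ideal.mem_span_singleton_self _)
      rw [h0, map_zero]
    have hcomp : (MvPolynomial.map (σ := σ) (Ideal.Quotient.mk (Ideal.span {g}))).comp
        (MvPolynomial.C : R →+* MvPolynomial σ R) =
        (MvPolynomial.C : _ →+* MvPolynomial σ (R ⧸ Ideal.span {g})).comp
          (Ideal.Quotient.mk (Ideal.span {g})) := by
      refine RingHom.ext fun x => ?_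
      show MvPolynomial.map _ (MvPolynomial.C x) = MvPolynomial.C _
      rw [MvPolynomial.map_C]
    rw [h0, Ideal.span_singleton_eq_bot.mpr rfl, bot_sup_eq, hcomp, ← Ideal.map_map, hb'I]

open Polynomial in
/-- the Koszul part of the inductive step -/
theorem kr_step (a : A) (l' : List A) (hkr : LCI.IsKoszulRegularSeq A (a :: l'))
    (htop : Ideal.ofList (a :: l') ≠ ⊤) :
    LCI.IsKoszulRegularSeq (A[X] ⧸ Ideal.span {poly (a :: l')})
        ((l'.map (C : A →+* A[X])).map (Ideal.Quotient.mk (Ideal.span {poly (a :: l')}))) ∧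
      Ideal.ofList ((l'.map (C : A →+* A[X])).map
        (Ideal.Quotient.mk (Ideal.span {poly (a :: l')}))) ≠ ⊤ ∧
      (Ideal.ofList ((a :: l').map (C : A →+* A[X]))).map
        (Ideal.Quotient.mk (Ideal.span {poly (a :: l')})) =
        Ideal.ofList ((l'.map (C : A →+* A[X])).map
          (Ideal.Quotient.mk (Ideal.span {poly (a :: l')}))) := by
  have hgnzd : poly (a :: l') ∈ nonZeroDivisors A[X] :=
    poly_mem_nonZeroDivisors _ (by simp) hkr
  have hgreg : IsSMulRegular A[X] (poly (a :: l')) :=
    (isRegular_iff_mem_nonZeroDivisors.mpr hgnzd).left.isSMulRegular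
  have hP : LCI.IsKoszulRegularSeq A[X] ((a :: l').map (C : A →+* A[X])) := by
    have := isKoszulRegularSeq_map_of_flat (R' := A[X]) (a :: l') hkr
    rwa [Polynomial.algebraMap_eq] at this
  have hP' : LCI.IsKoszulRegularSeq A[X] (l'.map (C : A →+* A[X]) ++ [poly (a :: l')]) := by
    rw [isKoszulRegularSeq_iff] at hP ⊢
    intro i hi
    have := Groth.Agent.Lib.KoszulMinLen.subsingleton_homology_of_length_le
      (l'.map (C : A →+* A[X]) ++ [poly (a :: l')]) ((a :: l').map (C : A →+* A[X]))
      (ofList_poly_cons a l') (by simp)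
      (fun m hm => ModuleCat.subsingleton_of_isZero (hP m hm)) i hi
    exact ModuleCat.isZero_of_subsingleton _
  have hg1 : LCI.IsKoszulRegularSeq A[X] [poly (a :: l')] :=
    (Groth.Agent.S15821.result A[X] [poly (a :: l')] (by
      rw [RingTheory.Sequence.isWeaklyRegular_singleton_iff]
      exact hgreg)).1
  have hπ : Function.Surjective (Ideal.Quotient.mk (Ideal.span {poly (a :: l')})) :=
    Ideal.Quotient.mk_surjective
  have hker : RingHom.ker (Ideal.Quotient.mk (Ideal.span {poly (a :: l')})) =
      Ideal.ofList [poly (a :: l')] := by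
    rw [Ideal.mk_ker, Ideal.ofList_singleton]
  have hQ := (isKoszulRegularSeq_append_iff (Ideal.Quotient.mk (Ideal.span {poly (a :: l')})) hπ
    [poly (a :: l')] hker hg1 _).mp hP'
  have hmapπ : (Ideal.ofList ((a :: l').map (C : A →+* A[X]))).map
      (Ideal.Quotient.mk (Ideal.span {poly (a :: l')})) =
      Ideal.ofList ((l'.map (C : A →+* A[X])).map
        (Ideal.Quotient.mk (Ideal.span {poly (a :: l')}))) := by
    rw [← ofList_poly_cons a l', Ideal.ofList_append, Ideal.map_sup, Ideal.map_ofList,
      Ideal.ofList_singleton, Ideal.map_span, Set.image_singleton]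
    have h0 : Ideal.Quotient.mk (Ideal.span {poly (a :: l')}) (poly (a :: l')) = 0 :=
      Ideal.Quotient.eq_zero_iff_mem.mpr (Ideal.mem_span_singleton_self _)
    rw [h0, Ideal.span_singleton_eq_bot.mpr rfl, sup_bot_eq]
  refine ⟨hQ, ?_, hmapπ⟩
  intro h
  rw [← hmapπ] at h
  have h1 := Ideal.comap_map_of_surjective _ hπ
    (Ideal.ofList ((a :: l').map (C : A →+* A[X])))
  rw [h, Ideal.comap_top] at h1
  have hk : Ideal.comap (Ideal.Quotient.mk (Ideal.span {poly (a :: l')})) ⊥ =
    RingHom.ker (Ideal.Quotient.mk (Ideal.span {poly (a :: l')})) := rfl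
  have hle : RingHom.ker (Ideal.Quotient.mk (Ideal.span {poly (a :: l')})) ≤
      Ideal.ofList ((a :: l').map (C : A →+* A[X])) := by
    rw [hker, Ideal.ofList_singleton, Ideal.span_singleton_le_iff_mem]
    exact poly_mem_ofList _
  rw [hk, sup_eq_left.mpr hle, ← Ideal.map_ofList] at h1
  exact ofList_ne_top_of_map_C htop h1.symm

/-- the statement proved by induction -/
def Goal (n : ℕ) : Prop :=
  ∀ (A : Type u) [CommRing A] (l : List A),
    l.length = n → LCI.IsKoszulRegularSeq A l → Ideal.ofList l ≠ ⊤ →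
    ∃ (σ : Type) (_ : Finite σ) (b : List (MvPolynomial σ A)),
      RingTheory.Sequence.IsRegular (MvPolynomial σ A) b ∧
      Ideal.ofList b = (Ideal.ofList l).map (MvPolynomial.C : A →+* MvPolynomial σ A)

theorem goal_zero : Goal.{u} 0 := by
  intro A _ l hlen _ htop
  have hl : l = [] := List.length_eq_zero_iff.mp hlen
  subst hl
  have : Nontrivial A := by
    by_contra hA
    rw [not_nontrivial_iff_subsingleton] at hA
    exact htop (Subsingleton.elim _ _)
  refine ⟨PEmpty, inferInstance, [], RingTheory.Sequence.IsRegular.nil _ _, ?_⟩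
  simp [Ideal.ofList_nil]

open Polynomial in
theorem goal_succ (n : ℕ) (ih : Goal.{u} n) : Goal.{u} (n + 1) := by
  intro A _ l hlen hkr htop
  obtain ⟨a, l', rfl⟩ := List.exists_cons_of_length_eq_add_one hlen
  have hlen' : l'.length = n := by simpa using hlen
  obtain ⟨hQ, hQtop, hmapπ⟩ := kr_step a l' hkr htop
  obtain ⟨σ, hσ, b', hb', hb'I⟩ := ih (A[X] ⧸ Ideal.span {poly (a :: l')}) _
    (by simp [hlen']) hQ hQtop
  rw [← hmapπ] at hb'I
  obtain ⟨b, hb, hbI⟩ := exists_lift_mvPolynomial (poly (a :: l'))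
    (poly_mem_nonZeroDivisors _ (by simp) hkr) σ b' hb' _ (poly_mem_ofList _) hb'I
  rw [← Ideal.map_ofList] at hbI
  obtain ⟨b₂, hb₂, hb₂I⟩ := exists_transport σ _ hb (Ideal.ofList (a :: l')) hbI
  exact ⟨Option σ, inferInstance, b₂, hb₂, hb₂I⟩

/-- **Koszul-regular ⇒ regular in a polynomial ring.** -/
theorem exists_regular_mvPolynomial (A : Type u) [CommRing A] (l : List A)
    (hkr : LCI.IsKoszulRegularSeq A l) (htop : Ideal.ofList l ≠ ⊤) :
    ∃ (σ : Type) (_ : Finite σ) (b : List (MvPolynomial σ A)),
      RingTheory.Sequence.IsRegular (MvPolynomial σ A) b ∧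
      Ideal.ofList b = (Ideal.ofList l).map (MvPolynomial.C : A →+* MvPolynomial σ A) := by
  have h : ∀ n, Goal.{u} n := fun n => by
    induction n with
    | zero => exact goal_zero
    | succ n ih => exact goal_succ n ih
  exact h l.length A l rfl hkr htop

end Groth.Agent.Lib.KRegToReg19
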