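import Groth.Agent.Lib.UHImageH52
import Groth.Agent.Lib.ReducedSubscheme
import Mathlib.AlgebraicGeometry.Morphisms.Immersion
import Mathlib.AlgebraicGeometry.PullbackCarrier
import Mathlib.AlgebraicGeometry.IdealSheaf.Functorial

/-!
Criteria for separatedness (SGA3 VI_B / EGA I 5.5): lifting through closed immersions from reduced
schemes, separatedness is local on pairs of points in the same fibre, and the "reduced valuative"
criterion with dense opens.
-/

set_option autoImplicit false
universe u

open CategoryTheory AlgebraicGeometry Limits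

namespace Groth.Agent.Lib.SepCritH52

/-- A morphism from a reduced scheme whose set-theoretic image lies in the image of a closed
immersion factors through it. -/
theorem exists_lift_of_isReduced {T Z W : Scheme.{u}} [IsReduced T] (i : Z ⟶ W)
    [IsClosedImmersion i] (g : T ⟶ W) (h : Set.range g ⊆ Set.range i) :
    ∃ w : T ⟶ Z, w ≫ i = g := by
  refine ⟨IsClosedImmersion.lift i g ?_, IsClosedImmersion.lift_fac _ _ _⟩
  have h1 : g.ker = Scheme.IdealSheafData.vanishingIdeal (.closure (g '' (⊤ : TopologicalSpace.Closeds T))) := by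
    rw [← Scheme.IdealSheafData.map_vanishingIdeal, Scheme.IdealSheafData.vanishingIdeal_top,
      Scheme.nilradical_eq_bot, Scheme.IdealSheafData.map_bot]
  rw [h1, ← Scheme.IdealSheafData.le_support_iff_le_vanishingIdeal]
  intro x hx
  change x ∈ ((Scheme.Hom.ker i).support : Set W)
  rw [Scheme.Hom.support_ker, i.isClosedEmbedding.isClosed_range.closure_eq]
  have hx' : x ∈ closure (g '' Set.univ) := hx
  rw [Set.image_univ] at hx'
  exact (closure_minimal h i.isClosedEmbedding.isClosed_range) hx'

variable {X S : Scheme.{u}}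

/-- Separatedness can be checked on opens containing any given pair of points in one fibre. -/
theorem isSeparated_of_forall_open (f : X ⟶ S)
    (H : ∀ x₁ x₂ : X, f x₁ = f x₂ → ∃ V : X.Opens, x₁ ∈ V ∧ x₂ ∈ V ∧ IsSeparated (V.ι ≫ f)) :
    IsSeparated f := by
  constructor
  apply IsZariskiLocalAtTarget.of_forall_exists_morphismRestrict
  intro z
  obtain ⟨V, h1, h2, hV⟩ := H (pullback.fst f f z) (pullback.snd f f z)
    (by rw [← Scheme.Hom.comp_apply, ← Scheme.Hom.comp_apply, pullback.condition])
  let m := pullback.map (V.ι ≫ f) (V.ι ≫ f) f f V.ι V.ι (𝟙 S) (Category.comp_id _)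
    (Category.comp_id _)
  refine ⟨m.opensRange, ?_, ?_⟩
  · change z ∈ Set.range m
    rw [Scheme.Pullback.range_map]
    refine ⟨?_, ?_⟩
    · simpa using h1
    · simpa using h2
  · rw [MorphismProperty.arrow_mk_iso_iff (P := @IsClosedImmersion)
      (morphismRestrictOpensRange _ m)]
    have sq := pullback_map_diagonal_isPullback V.ι V.ι f
    rw [← sq.isoPullback_inv_snd,
      MorphismProperty.cancel_left_of_respectsIso (P := @IsClosedImmersion)]
    have hm : pullback.map V.ι V.ι (V.ι ≫ f) (V.ι ≫ f) (𝟙 _) (𝟙 _) f (Category.id_comp _).symm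
        (Category.id_comp _).symm = pullback.fst V.ι V.ι ≫ pullback.diagonal (V.ι ≫ f) := by
      have hfs : pullback.fst V.ι V.ι = pullback.snd V.ι V.ι := by
        rw [← cancel_mono V.ι, pullback.condition]
      apply pullback.hom_ext
      · refine (pullback.lift_fst _ _ _).trans ?_
        simp only [Category.assoc, pullback.diagonal_fst, Category.comp_id]
      · refine (pullback.lift_snd _ _ _).trans ?_
        simp only [Category.assoc, pullback.diagonal_snd, Category.comp_id, hfs]
    rw [hm]
    infer_instance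

/-- If two morphisms from a reduced scheme into `X` over `S` that agree on a dense open always agree,
then `X ⟶ S` is separated. -/
theorem isSeparated_of_reduced_ext (f : X ⟶ S)
    (H : ∀ (T : Scheme.{u}) [IsReduced T] (g₁ g₂ : T ⟶ X) (U : T.Opens), g₁ ≫ f = g₂ ≫ f →
      Dense (U : Set T) → U.ι ≫ g₁ = U.ι ≫ g₂ → g₁ = g₂) : IsSeparated f := by
  constructor
  let Δ := pullback.diagonal f
  let W : (pullback f f).Opens := Δ.coborderRange
  let Zc : TopologicalSpace.Closeds ↥(pullback f f : Scheme.{u}) :=
    ⟨closure (Set.range Δ), isClosed_closure⟩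
  let I := Scheme.IdealSheafData.vanishingIdeal Zc
  let j := I.subschemeι
  have hred : IsReduced I.subscheme :=
    Groth.Agent.Lib.ReducedSubscheme.isReduced_subscheme_vanishingIdeal Zc
  have hrange : Set.range j = closure (Set.range Δ) := by
    rw [Scheme.IdealSheafData.range_subschemeι, Scheme.IdealSheafData.coe_support_vanishingIdeal]
    rfl
  let U : I.subscheme.Opens := j ⁻¹ᵁ W
  have hWZ : (W : Set _) ∩ closure (Set.range Δ) = Set.range Δ := coborder_inter_closure
  have hU : Dense (U : Set I.subscheme) := by
    intro t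
    rw [j.isEmbedding.isInducing.closure_eq_preimage_closure_image]
    have : j '' (U : Set _) = Set.range Δ := by
      change j '' (j ⁻¹' (W : Set _)) = _
      rw [Set.image_preimage_eq_inter_range, hrange, hWZ]
    rw [this, ← hrange]
    exact ⟨t, rfl⟩
  let v : (U : Scheme) ⟶ W := j ∣_ W
  have hv : v ≫ W.ι = U.ι ≫ j := morphismRestrict_ι j W
  have hvr : Set.range v ⊆ Set.range Δ.liftCoborder := by
    rintro _ ⟨u, rfl⟩
    have h1 : W.ι (v u) ∈ Set.range Δ := by
      rw [← hWZ]
      refine ⟨(v u).2, ?_⟩
      rw [← Scheme.Hom.comp_apply, hv, ← hrange]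
      exact ⟨U.ι u, rfl⟩
    obtain ⟨x, hx⟩ := h1
    refine ⟨x, W.ι.isOpenEmbedding.injective ?_⟩
    rw [← Scheme.Hom.comp_apply, Scheme.Hom.liftCoborder_ι]
    exact hx
  obtain ⟨w, hw⟩ := exists_lift_of_isReduced Δ.liftCoborder v hvr
  have hwΔ : U.ι ≫ j = w ≫ Δ := by
    rw [← hv, ← hw, Category.assoc, Scheme.Hom.liftCoborder_ι]
  have key : j ≫ pullback.fst f f = j ≫ pullback.snd f f := by
    apply H I.subscheme _ _ U (by simp [pullback.condition]) hU
    rw [← Category.assoc, ← Category.assoc, hwΔ, Category.assoc, Category.assoc,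
      pullback.diagonal_fst, pullback.diagonal_snd]
  have hj : j = (j ≫ pullback.fst f f) ≫ Δ := by
    apply pullback.hom_ext
    · simp [Δ]
    · simp [Δ, key]
  have hclosed : IsClosed (Set.range Δ) := by
    have : closure (Set.range Δ) ⊆ Set.range Δ := by
      rw [← hrange]
      rintro _ ⟨t, rfl⟩
      rw [hj]
      exact ⟨_, rfl⟩
    exact closure_subset_iff_isClosed.mp this
  exact IsClosedImmersion.of_isPreimmersion Δ hclosed

end Groth.Agent.Lib.SepCritH52
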