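import Groth.Agent.Lib.OrbitStable45
import Groth.Agent.Lib.ActionRestrict45
import Groth.Agent.Lib.SepCritH52
import Groth.Agent.Lib.H69SchReduced
import Groth.Agent.Lib.H71GenericSmooth
import Groth.Agent.Lib.SrcLocalSmoothSm
import Mathlib.AlgebraicGeometry.Morphisms.SchemeTheoreticallyDominant

/-!
# The reduced orbit of a smooth group scheme is smooth (helper45)
-/

set_option autoImplicit false
set_option linter.unusedSectionVars false
universe u
open CategoryTheory CategoryTheory.Limits MonoidalCategory CartesianMonoidalCategory MonObj GrpObj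
  AlgebraicGeometry
open Groth.Agent.Lib.GrpTopPts45 Groth.Agent.Lib.GrpAction Groth.Agent.Lib.OrbitStable45

namespace Groth.Agent.Lib.OrbitSmooth45

/-- A morphism from a reduced scheme whose set-theoretic image lies in the image of an immersion
factors through it. -/
theorem exists_lift_of_isReduced_of_isImmersion {T Z W : Scheme.{u}} [IsReduced T] (i : Z ⟶ W)
    [IsImmersion i] (g : T ⟶ W) (h : Set.range g ⊆ Set.range i) :
    ∃ w : T ⟶ Z, w ≫ i = g := by
  have h1 : Set.range g ⊆ Set.range i.coborderRange.ι := by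
    refine h.trans ?_
    rintro _ ⟨z, rfl⟩
    refine ⟨i.liftCoborder z, ?_⟩
    rw [← Scheme.Hom.comp_apply, i.liftCoborder_ι]
  let g' : T ⟶ i.coborderRange := IsOpenImmersion.lift i.coborderRange.ι g h1
  have hg' : g' ≫ i.coborderRange.ι = g := IsOpenImmersion.lift_fac _ _ _
  have h2 : Set.range g' ⊆ Set.range i.liftCoborder := by
    rintro _ ⟨t, rfl⟩
    obtain ⟨z, hz⟩ := h ⟨t, rfl⟩
    refine ⟨z, ?_⟩
    apply i.coborderRange.ι.isOpenEmbedding.injective
    rw [← Scheme.Hom.comp_apply, ← Scheme.Hom.comp_apply, i.liftCoborder_ι, hg']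
    exact hz
  obtain ⟨w, hw⟩ := Groth.Agent.Lib.SepCritH52.exists_lift_of_isReduced i.liftCoborder g' h2
  exact ⟨w, by rw [← i.liftCoborder_ι, ← Category.assoc, hw, hg']⟩

section orbit

variable {k : Type u} [Field k] {G X : Over (Spec (CommRingCat.of k))} [GrpObj G]
  (a : AlgGrp.Action G X) (x : 𝟙_ (Over (Spec (CommRingCat.of k))) ⟶ X)
  {O : Scheme.{u}} (i : O ⟶ X.left)

/-- The subscheme as an object over `k`. -/
noncomputable abbrev Oo : Over (Spec (CommRingCat.of k)) := Over.mk (i ≫ X.hom)

/-- The inclusion as a morphism over `k`. -/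
noncomputable abbrev io : Oo i ⟶ X := Over.homMk i rfl

instance [IsImmersion i] : Mono (io i) := by
  have : Mono ((Over.forget _).map (io i)) := inferInstanceAs (Mono i)
  exact (Over.forget _).mono_of_mono_map this

/-- Lifting morphisms from reduced schemes through the immersion. -/
theorem exists_lift_io [IsImmersion i] (T : Over (Spec (CommRingCat.of k))) [IsReduced T.left]
    (g : T ⟶ X) (h : Set.range g.left ⊆ Set.range i) : ∃ w : T ⟶ Oo i, w ≫ io i = g := by
  obtain ⟨w, hw⟩ := exists_lift_of_isReduced_of_isImmersion i g.left h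
  refine ⟨Over.homMk w ?_, ?_⟩
  · change w ≫ i ≫ X.hom = T.hom
    rw [← Category.assoc, hw]
    exact Over.w g
  · ext
    exact hw

variable [IsImmersion i] [IsReduced O] [Smooth G.hom]
  (hO : Set.range i = Set.range (a.orbitMap x).left)

instance isReduced_left_of_smooth : IsReduced G.left :=
  Groth.Agent.Lib.H69SchReduced.isReduced_of_smooth G.hom

instance isReduced_tensor_left : IsReduced (G ⊗ Oo i).left := by
  have : IsReduced (Oo i).left := ‹IsReduced O›
  have h : Smooth (pullback.snd G.hom (Oo i).hom) := inferInstance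
  exact Groth.Agent.Lib.H69SchReduced.isReduced_of_smooth (pullback.snd G.hom (Oo i).hom)

include hO in
theorem exists_orbitMap_lift : ∃ ψ : G ⟶ Oo i, ψ ≫ io i = a.orbitMap x :=
  exists_lift_io i G (a.orbitMap x) (by rw [hO])

include hO in
theorem exists_act_lift : ∃ b : G ⊗ Oo i ⟶ Oo i, b ≫ io i = (G ◁ io i) ≫ a.act := by
  refine exists_lift_io i (G ⊗ Oo i) _ ?_
  rintro _ ⟨w, rfl⟩
  rw [hO]
  have h1 : (snd G X).left ((G ◁ io i).left w) ∈ orbit a x := by
    rw [← Scheme.Hom.comp_apply, ← Over.comp_left, whiskerLeft_snd, Over.comp_left,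
      Scheme.Hom.comp_apply]
    change i _ ∈ Set.range (a.orbitMap x).left
    rw [← hO]
    exact ⟨_, rfl⟩
  have := (isStable_orbit a x).act_mem h1
  rwa [← Scheme.Hom.comp_apply, ← Over.comp_left] at this

include hO in
theorem surjective_lift (ψ : G ⟶ Oo i) (hψ : ψ ≫ io i = a.orbitMap x) : Surjective ψ.left := by
  refine ⟨fun o => ?_⟩
  have h1 : i o ∈ Set.range (a.orbitMap x).left := by rw [← hO]; exact ⟨o, rfl⟩
  obtain ⟨g, hg⟩ := h1
  refine ⟨g, ?_⟩
  apply i.isEmbedding.injective
  have h2 : ψ.left ≫ i = (a.orbitMap x).left := congrArg (fun t => t.left) hψ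
  rw [← Scheme.Hom.comp_apply, h2, hg]

omit [IsImmersion i] in
theorem geometricallyReduced_of_surjective (ψ : G ⟶ Oo i) [Surjective ψ.left]
    [QuasiCompact ψ.left] : GeometricallyReduced (Oo i).hom := by
  rw [geometricallyReduced_iff]
  intro K _ y Z fst snd hpb
  have hO' : IsReduced (Oo i).left := ‹IsReduced O›
  have hd : IsSchemeTheoreticallyDominant ψ.left := .of_isDominant _
  have hf : Flat fst := MorphismProperty.of_isPullback (P := @Flat) hpb.flip inferInstance
  have h1 : IsSchemeTheoreticallyDominant (pullback.snd ψ.left fst) := inferInstance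
  have h2 : QuasiCompact (pullback.snd ψ.left fst) := inferInstance
  have h3 : IsReduced (pullback ψ.left fst) := by
    have hp : IsPullback (pullback.fst ψ.left fst) (pullback.snd ψ.left fst ≫ snd)
        (ψ.left ≫ (Oo i).hom) y := (IsPullback.of_hasPullback ψ.left fst).paste_vert hpb
    have hs : Smooth (ψ.left ≫ (Oo i).hom) := by rw [Over.w ψ]; infer_instance
    have : Smooth (pullback.snd ψ.left fst ≫ snd) :=
      MorphismProperty.of_isPullback (P := @Smooth) hp hs
    exact Groth.Agent.Lib.H69SchReduced.isReduced_of_smooth (pullback.snd ψ.left fst ≫ snd)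
  exact IsSchemeTheoreticallyDominant.isReduced (pullback.snd ψ.left fst)

/-- Equivariance of the lift of the orbit map, on points. -/
theorem lift_act_eq (ψ : G ⟶ Oo i) (hψ : ψ ≫ io i = a.orbitMap x) (b : G ⊗ Oo i ⟶ Oo i)
    (hb : b ≫ io i = (G ◁ io i) ≫ a.act) {T : Over (Spec (CommRingCat.of k))} (g h : T ⟶ G) :
    lift g (h ≫ ψ) ≫ b = (g * h) ≫ ψ := by
  rw [← cancel_mono (io i), Category.assoc, hb, lift_whiskerLeft_assoc, Category.assoc,
    Category.assoc, hψ, comp_orbitMap, comp_orbitMap, ← mul_act]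

include hO in
/-- **The reduced orbit of a smooth group scheme over a field is smooth.** -/
theorem smooth_of_orbit [LocallyOfFiniteType X.hom] [QuasiCompact G.hom] :
    Smooth (i ≫ X.hom) := by
  obtain ⟨ψ, hψ⟩ := exists_orbitMap_lift a x i hO
  obtain ⟨b, hb⟩ := exists_act_lift a x i hO
  have hsurj : Surjective ψ.left := surjective_lift a x i hO ψ hψ
  have hlft : LocallyOfFiniteType (Oo i).hom := inferInstanceAs (LocallyOfFiniteType (i ≫ X.hom))
  have hlfp : LocallyOfFinitePresentation (Oo i).hom :=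
    LocallyOfFinitePresentation.iff_locallyOfFiniteType.mpr hlft
  have hqc : QuasiCompact ψ.left := by
    have h1 : CompactSpace G.left := QuasiCompact.compactSpace_of_compactSpace G.hom
    have h2 : IsLocallyNoetherian (Oo i).left := LocallyOfFiniteType.isLocallyNoetherian (Oo i).hom
    infer_instance
  have hgr : GeometricallyReduced (Oo i).hom := geometricallyReduced_of_surjective i ψ
  -- generic smoothness
  let _ : O.Over (Spec (CommRingCat.of k)) := ⟨i ≫ X.hom⟩
  have hlfp' : LocallyOfFinitePresentation (O ↘ Spec (CommRingCat.of k)) := hlfp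
  have hgr' : GeometricallyReduced (O ↘ Spec (CommRingCat.of k)) := hgr
  have hdense : Dense ((O ↘ Spec (CommRingCat.of k)).smoothLocus : Set O) :=
    Groth.Agent.Lib.H71GenericSmooth.dense_smoothLocus k O
  have hne : Nonempty O := ⟨ψ.left (unitPt G)⟩
  obtain ⟨u, hu⟩ := hdense.nonempty
  let U : (Oo i).left.Opens := ((Oo i).hom).smoothLocus
  have hu : u ∈ U := hu
  -- the action on the orbit
  let aO : AlgGrp.Action G (Oo i) := Groth.Agent.Lib.ActionRestrict45.restrict a (io i) b hb
  have hact : Smooth aO.act.left := by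
    rw [act_left_eq aO]
    infer_instance
  let V : (G ⊗ Oo i).left.Opens := (snd G (Oo i)).left ⁻¹ᵁ U
  have hq : Smooth (V.ι ≫ aO.act.left) := inferInstance
  have hqs : Surjective (V.ι ≫ aO.act.left) := by
    refine ⟨fun o => ?_⟩
    obtain ⟨g₁, hg₁⟩ := hsurj.surj o
    obtain ⟨g₂, hg₂⟩ := hsurj.surj u
    obtain ⟨w, hw1, hw2⟩ := Scheme.Pullback.exists_preimage_pullback (f := G.hom) (g := G.hom)
      g₁ g₂ (Subsingleton.elim (α := PrimeSpectrum k) _ _)
    let p : (G ⊗ Oo i).left := (lift (fst G G * (snd G G)⁻¹) (snd G G ≫ ψ)).left w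
    have hp1 : (snd G (Oo i)).left p = u := by
      change (snd G (Oo i)).left ((lift (fst G G * (snd G G)⁻¹) (snd G G ≫ ψ)).left w) = u
      rw [← Scheme.Hom.comp_apply, ← Over.comp_left, lift_snd, comp_left_apply]
      change ψ.left (pullback.snd G.hom G.hom w) = u
      rw [hw2, hg₂]
    have hp2 : aO.act.left p = o := by
      change b.left ((lift (fst G G * (snd G G)⁻¹) (snd G G ≫ ψ)).left w) = o
      rw [← Scheme.Hom.comp_apply, ← Over.comp_left, lift_act_eq a x i ψ hψ b hb,
        inv_mul_cancel_right, comp_left_apply]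
      change ψ.left (pullback.fst G.hom G.hom w) = o
      rw [hw1, hg₁]
    have hpV : p ∈ V := by
      change (snd G (Oo i)).left p ∈ U
      rw [hp1]; exact hu
    exact ⟨⟨p, hpV⟩, hp2⟩
  have hcomp : Smooth ((V.ι ≫ aO.act.left) ≫ (Oo i).hom) := by
    have e : (V.ι ≫ aO.act.left) ≫ (Oo i).hom =
        ((snd G (Oo i)).left ∣_ U) ≫ U.ι ≫ (Oo i).hom := by
      rw [Category.assoc, Over.w aO.act, ← Over.w (snd G (Oo i)), ← Category.assoc,
        ← morphismRestrict_ι, Category.assoc]
    rw [e]
    have h1 : Smooth (U.ι ≫ (Oo i).hom) :=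
      Groth.Agent.Lib.GenericSmooth45.smooth_smoothLocus_ι_comp (Oo i).hom
    have h2 : Smooth ((snd G (Oo i)).left) :=
      inferInstanceAs (Smooth (pullback.snd G.hom (Oo i).hom))
    have h3 : Smooth ((snd G (Oo i)).left ∣_ U) :=
      MorphismProperty.of_isPullback (P := @Smooth)
        (isPullback_morphismRestrict (snd G (Oo i)).left U).flip h2
    infer_instance
  exact Groth.Agent.Lib.SrcLocalSmoothSm.sourceSmLocal_smooth (V.ι ≫ aO.act.left) (Oo i).hom
    hq hqs hcomp

end orbit

end Groth.Agent.Lib.OrbitSmooth45
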