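import Mathlib.CategoryTheory.Functor.KanExtension.Basic
import Mathlib.CategoryTheory.Limits.Shapes.Products

/-!
# Right Kan extensions into a category with copowers are pointwise at "projective-like" objects

Let `L : C ⥤ D`, `F : C ⥤ E`, and `(LF, α)` a right Kan extension of `F` along `L`
(e.g. a total left derived functor).  Let `P : C` be such that every `g : L.obj P ⟶ L.obj X`
lifts to `P ⟶ X` and `F` identifies any two lifts.  If `E` has the copowers of `F.obj P` indexed by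
the hom-sets `L.obj P ⟶ Y`, then `α.app P` has a section `σ`; and for every `T : E` having these copowers,
every `t : T ⟶ LF.obj (L.obj P)` satisfies `t ≫ α.app P ≫ σ = t`.
-/

namespace Groth.Agent.Lib.KanCounit

open CategoryTheory Limits

universe v₁ v₂ v₃ u₁ u₂ u₃

variable {C : Type u₁} {D : Type u₂} {E : Type u₃} [Category.{v₁} C] [Category.{v₂} D] [Category.{v₃} E]
  (L : C ⥤ D) (F : C ⥤ E) (LF : D ⥤ E) (α : L ⋙ LF ⟶ F) (P : C)

/-- The copower functor `Y ↦ ∐_{L P ⟶ Y} T`. -/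
noncomputable def cop (T : E) [∀ Y : D, HasCoproduct (fun _ : (L.obj P ⟶ Y) => T)] : D ⥤ E where
  obj Y := ∐ (fun _ : (L.obj P ⟶ Y) => T)
  map {Y Y'} u := Sigma.desc (fun g => Sigma.ι (fun _ : (L.obj P ⟶ Y') => T) (g ≫ u))
  map_id Y := by
    apply Sigma.hom_ext
    intro g
    simp
  map_comp u v := by
    apply Sigma.hom_ext
    intro g
    simp

section

variable (T : E) [∀ Y : D, HasCoproduct (fun _ : (L.obj P ⟶ Y) => T)]

/-- The inclusions of the copower. -/
noncomputable def copι {Y : D} (g : L.obj P ⟶ Y) : T ⟶ (cop L P T).obj Y :=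
  Sigma.ι (fun _ : (L.obj P ⟶ Y) => T) g

lemma cop_hom_ext {Y : D} {Z : E} (a b : (cop L P T).obj Y ⟶ Z)
    (h : ∀ g : L.obj P ⟶ Y, copι L P T g ≫ a = copι L P T g ≫ b) : a = b :=
  Sigma.hom_ext _ _ h

@[reassoc (attr := simp)]
lemma copι_map {Y Y' : D} (g : L.obj P ⟶ Y) (u : Y ⟶ Y') :
    copι L P T g ≫ (cop L P T).map u = copι L P T (g ≫ u) := by
  simp [copι, cop]

/-- The transformation `cop T ⟶ LF` attached to `t : T ⟶ LF (L P)`. -/
noncomputable def gam (t : T ⟶ LF.obj (L.obj P)) : cop L P T ⟶ LF where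
  app Y := Sigma.desc (fun g => t ≫ LF.map g)
  naturality Y Y' u := by
    apply cop_hom_ext
    intro g
    rw [copι_map_assoc]
    have h1 : copι L P T (g ≫ u) ≫ Sigma.desc (fun g => t ≫ LF.map g) = t ≫ LF.map (g ≫ u) :=
      Sigma.ι_desc _ _
    have h2 : copι L P T g ≫ Sigma.desc (fun g => t ≫ LF.map g) = t ≫ LF.map g :=
      Sigma.ι_desc _ _
    rw [h1, reassoc_of% h2, LF.map_comp]

@[reassoc (attr := simp)]
lemma copι_gam {Y : D} (g : L.obj P ⟶ Y) (t : T ⟶ LF.obj (L.obj P)) :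
    copι L P T g ≫ (gam L LF P T t).app Y = t ≫ LF.map g :=
  Sigma.ι_desc _ _

end

variable (hsurj : ∀ (X : C) (g : L.obj P ⟶ L.obj X), ∃ f : P ⟶ X, L.map f = g)
  (hF : ∀ (X : C) (f f' : P ⟶ X), L.map f = L.map f' → F.map f = F.map f')

include hsurj hF in
/-- The transformation `L ⋙ cop (F P) ⟶ F`. -/
noncomputable def nu [∀ Y : D, HasCoproduct (fun _ : (L.obj P ⟶ Y) => F.obj P)] :
    L ⋙ cop L P (F.obj P) ⟶ F where
  app X := Sigma.desc (fun g => F.map (hsurj X g).choose)
  naturality X X' v := by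
    apply cop_hom_ext
    intro g
    dsimp only [Functor.comp_obj, Functor.comp_map]
    rw [copι_map_assoc]
    have h1 : copι L P (F.obj P) (g ≫ L.map v) ≫
        Sigma.desc (fun g => F.map (hsurj X' g).choose) = F.map (hsurj X' (g ≫ L.map v)).choose :=
      Sigma.ι_desc _ _
    have h2 : copι L P (F.obj P) g ≫
        Sigma.desc (fun g => F.map (hsurj X g).choose) = F.map (hsurj X g).choose :=
      Sigma.ι_desc _ _
    rw [h1, reassoc_of% h2, ← F.map_comp]
    apply hF
    rw [(hsurj X' (g ≫ L.map v)).choose_spec, L.map_comp, (hsurj X g).choose_spec]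

lemma copι_nu [∀ Y : D, HasCoproduct (fun _ : (L.obj P ⟶ Y) => F.obj P)] {X : C}
    (f : P ⟶ X) :
    copι L P (F.obj P) (L.map f) ≫ (nu L F P hsurj hF).app X = F.map f := by
  have h1 : copι L P (F.obj P) (L.map f) ≫ (nu L F P hsurj hF).app X =
      F.map (hsurj X (L.map f)).choose := Sigma.ι_desc _ _
  rw [h1]
  apply hF
  rw [(hsurj X (L.map f)).choose_spec]

include hsurj hF in
theorem main [LF.IsRightKanExtension α]
    [∀ Y : D, HasCoproduct (fun _ : (L.obj P ⟶ Y) => F.obj P)] :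
    ∃ σ : F.obj P ⟶ LF.obj (L.obj P), σ ≫ α.app P = 𝟙 _ ∧
      ∀ (T : E) [∀ Y : D, HasCoproduct (fun _ : (L.obj P ⟶ Y) => T)]
        (t : T ⟶ LF.obj (L.obj P)), t ≫ α.app P ≫ σ = t := by
  classical
  let β : cop L P (F.obj P) ⟶ LF :=
    LF.liftOfIsRightKanExtension α _ (nu L F P hsurj hF)
  have hβ : ∀ X : C, β.app (L.obj X) ≫ α.app X = (nu L F P hsurj hF).app X := fun X =>
    LF.liftOfIsRightKanExtension_fac_app α _ (nu L F P hsurj hF) X
  let σ : F.obj P ⟶ LF.obj (L.obj P) :=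
    copι L P (F.obj P) (𝟙 (L.obj P)) ≫ β.app (L.obj P)
  have hσ : σ ≫ α.app P = 𝟙 _ := by
    dsimp only [σ]
    rw [Category.assoc, hβ]
    have := copι_nu L F P hsurj hF (𝟙 P)
    rw [L.map_id, F.map_id] at this
    exact this
  refine ⟨σ, hσ, ?_⟩
  intro T _ t
  have key : gam L LF P T t = gam L LF P T (t ≫ α.app P ≫ σ) := by
    apply LF.hom_ext_of_isRightKanExtension α
    ext X
    apply cop_hom_ext
    intro g
    obtain ⟨f, rfl⟩ := hsurj X g
    have nat := α.naturality f
    simp only [Functor.comp_obj, Functor.comp_map] at nat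
    simp only [Functor.comp_obj, NatTrans.comp_app, Functor.whiskerLeft_app, copι_gam_assoc,
      Category.assoc]
    rw [nat, reassoc_of% hσ]
  have := congrArg (fun γ => copι L P T (𝟙 (L.obj P)) ≫ γ.app (L.obj P)) key
  simp only [copι_gam, LF.map_id, Category.comp_id] at this
  simpa using this.symm

end Groth.Agent.Lib.KanCounit
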