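/-
helper66: abstract lemma for computing left derived functors by resolutions of the FIXED argument.
`C` a category with a class `W` of weak equivalences and a class `P` of good objects with enough
resolutions (`ResData`).  If `ε : F' ⟶ F` is a natural transformation which is an isomorphism on good
objects, then for every functor `A` inverting `W`, composition with `ε` is a bijection
`(A ⟶ F') ≃ (A ⟶ F)` (`existsUnique_lift`).  Consequence (`isLeftDerivedFunctor_lift`): if moreover `F'`
inverts `W`, the localized functor of `F'` is a left derived functor of `F`.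
-/
import Mathlib.CategoryTheory.Functor.Derived.LeftDerived
import Mathlib.CategoryTheory.Localization.Predicate
import Mathlib.CategoryTheory.ObjectProperty.Basic

open CategoryTheory

namespace Groth.Agent.Lib.KanResolution66

section Lift

variable {C D : Type*} [Category C] [Category D] (W : MorphismProperty C) (P : ObjectProperty C)

/-- A chosen system of resolutions by good objects, such that every other resolution is linked to the
chosen one, and every arrow has a resolution. -/
structure ResData where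
  obj : C → C
  w : ∀ M, obj M ⟶ M
  hw : ∀ M, W (w M)
  hP : ∀ M, P (obj M)
  zig : ∀ {M P' : C} (w' : P' ⟶ M), W w' → P P' → ∃ (P'' : C) (h₁ : P'' ⟶ obj M) (h₂ : P'' ⟶ P'),
    P P'' ∧ W h₁ ∧ W h₂ ∧ h₁ ≫ w M = h₂ ≫ w'
  arrow : ∀ {M N : C} (f : M ⟶ N), ∃ (PM PN : C) (wM : PM ⟶ M) (wN : PN ⟶ N) (g : PM ⟶ PN),
    P PM ∧ P PN ∧ W wM ∧ W wN ∧ g ≫ wN = wM ≫ f

variable {W P} [W.IsStableUnderComposition]
  {A F' F : C ⥤ D} (hA : W.IsInvertedBy A) (ε : F' ⟶ F) (hε : ∀ X, P X → IsIso (ε.app X))
  (γ : A ⟶ F)

/-- the candidate component, computed with the resolution `w` -/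
noncomputable def θ {M P' : C} (w : P' ⟶ M) (hw : W w) (hP' : P P') : A.obj M ⟶ F'.obj M :=
  haveI := hA w hw
  haveI := hε P' hP'
  inv (A.map w) ≫ γ.app P' ≫ inv (ε.app P') ≫ F'.map w

lemma θ_comp_ε {M P' : C} (w : P' ⟶ M) (hw : W w) (hP' : P P') :
    θ hA ε hε γ w hw hP' ≫ ε.app M = γ.app M := by
  have := hA w hw
  have := hε P' hP'
  simp only [θ, Category.assoc, ε.naturality, IsIso.inv_hom_id_assoc]
  rw [← γ.naturality, IsIso.inv_hom_id_assoc]

lemma θ_comp {M P' P'' : C} (h : P'' ⟶ P') (hh : W h) (hP'' : P P'') (w : P' ⟶ M) (hw : W w)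
    (hP' : P P') :
    θ hA ε hε γ (h ≫ w) (W.comp_mem _ _ hh hw) hP'' = θ hA ε hε γ w hw hP' := by
  have := hA w hw
  have := hA h hh
  have := hε P' hP'
  have := hε P'' hP''
  have := hA (h ≫ w) (W.comp_mem _ _ hh hw)
  have e1 : inv (A.map (h ≫ w)) = inv (A.map w) ≫ inv (A.map h) := by
    rw [← IsIso.inv_comp]
    congr 1
    exact A.map_comp h w
  have e2 : inv (ε.app P'') ≫ F'.map h = F.map h ≫ inv (ε.app P') := by
    rw [IsIso.inv_comp_eq, ← Category.assoc, ← ε.naturality, Category.assoc, IsIso.hom_inv_id,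
      Category.comp_id]
  have e3 : inv (A.map h) ≫ γ.app P'' ≫ F.map h = γ.app P' := by
    rw [← γ.naturality, IsIso.inv_hom_id_assoc]
  simp only [θ, e1, F'.map_comp, Category.assoc]
  rw [reassoc_of% e2, reassoc_of% e3]

variable (R : ResData W P)

lemma θ_eq {M P' : C} (w' : P' ⟶ M) (hw' : W w') (hP' : P P') :
    θ hA ε hε γ w' hw' hP' = θ hA ε hε γ (R.w M) (R.hw M) (R.hP M) := by
  obtain ⟨P'', h₁, h₂, hP'', hh₁, hh₂, e⟩ := R.zig w' hw' hP'
  rw [← θ_comp hA ε hε γ h₁ hh₁ hP'' (R.w M) (R.hw M) (R.hP M),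
    ← θ_comp hA ε hε γ h₂ hh₂ hP'' w' hw' hP']
  congr 1
  exact e.symm

/-- the lifted natural transformation -/
noncomputable def lift : A ⟶ F' where
  app M := θ hA ε hε γ (R.w M) (R.hw M) (R.hP M)
  naturality {M N} f := by
    obtain ⟨PM, PN, wM, wN, g, hPM, hPN, hwM, hwN, e⟩ := R.arrow f
    rw [← θ_eq hA ε hε γ R wM hwM hPM, ← θ_eq hA ε hε γ R wN hwN hPN]
    have := hA wM hwM
    have := hA wN hwN
    have := hε PM hPM
    have := hε PN hPN
    have e1 : A.map f ≫ inv (A.map wN) = inv (A.map wM) ≫ A.map g := by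
      rw [IsIso.eq_inv_comp, ← Category.assoc, ← A.map_comp, ← e, A.map_comp, Category.assoc,
        IsIso.hom_inv_id, Category.comp_id]
    have e2 : inv (ε.app PM) ≫ F'.map g = F.map g ≫ inv (ε.app PN) := by
      rw [IsIso.inv_comp_eq, ← Category.assoc, ← ε.naturality, Category.assoc, IsIso.hom_inv_id,
        Category.comp_id]
    simp only [θ, Category.assoc]
    rw [reassoc_of% e1, ← F'.map_comp, ← e, F'.map_comp, reassoc_of% e2, γ.naturality_assoc]

lemma lift_comp : lift hA ε hε γ R ≫ ε = γ := by
  ext M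
  exact θ_comp_ε hA ε hε γ (R.w M) (R.hw M) (R.hP M)

include hA hε R in
lemma lift_unique (γ₁ γ₂ : A ⟶ F') (h : γ₁ ≫ ε = γ₂ ≫ ε) : γ₁ = γ₂ := by
  ext M
  have := hA (R.w M) (R.hw M)
  have := hε _ (R.hP M)
  have h1 : γ₁.app (R.obj M) = γ₂.app (R.obj M) := by
    have := congrArg (fun t => t.app (R.obj M)) h
    simp only [NatTrans.comp_app] at this
    exact (cancel_mono _).1 this
  rw [← cancel_epi (A.map (R.w M)), γ₁.naturality, γ₂.naturality, h1]

include hA hε R in
theorem existsUnique_lift : ∃! γ' : A ⟶ F', γ' ≫ ε = γ :=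
  ⟨lift hA ε hε γ R, lift_comp hA ε hε γ R, fun γ₂ h₂ =>
    lift_unique hA ε hε R γ₂ _ (h₂.trans (lift_comp hA ε hε γ R).symm)⟩

end Lift

section Derived

variable {C D₀ H : Type*} [Category C] [Category D₀] [Category H] {W : MorphismProperty C}
  {P : ObjectProperty C} [W.IsStableUnderComposition]
  (L : C ⥤ D₀) [L.IsLocalization W] {F' F : C ⥤ H} (ε : F' ⟶ F)
  (hε : ∀ X, P X → IsIso (ε.app X)) (R : ResData W P)
  (G : D₀ ⥤ H) [Localization.Lifting L W F' G]

variable (W) in
/-- the counit exhibiting the localized functor of `F'` as a left derived functor of `F` -/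
noncomputable def counit : L ⋙ G ⟶ F := (Localization.Lifting.iso L W F' G).hom ≫ ε

lemma inverts_comp (H' : D₀ ⥤ H) : W.IsInvertedBy (L ⋙ H') := fun _ _ f hf => by
  have := Localization.inverts L W f hf
  exact inferInstanceAs (IsIso (H'.map (L.map f)))

include hε R in
theorem isRightKanExtension : G.IsRightKanExtension (counit W L ε G) := by
  refine ⟨⟨Limits.IsTerminal.ofUniqueHom (fun X => ?_) (fun X m => ?_)⟩⟩
  · refine CostructuredArrow.homMk
      (Localization.liftNatTrans L W (L ⋙ X.left) F' X.left G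
        (lift (inverts_comp L X.left) ε hε X.hom R)) ?_
    ext Y
    have h := congrArg (fun t => t.app Y) (lift_comp (inverts_comp L X.left) ε hε X.hom R)
    simp only [NatTrans.comp_app] at h
    simp only [Functor.whiskeringLeft_obj_map, NatTrans.comp_app, Functor.whiskerLeft_app,
      Localization.liftNatTrans_app, counit]
    erw [Category.id_comp]
    change ((lift (inverts_comp L X.left) ε hε X.hom R).app Y ≫
      (Localization.Lifting.iso L W F' G).inv.app Y) ≫
        ((Localization.Lifting.iso L W F' G).hom.app Y ≫ ε.app Y) = _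
    rw [Category.assoc, Iso.inv_hom_id_app_assoc]
    exact h
  · apply CostructuredArrow.hom_ext
    apply Localization.natTrans_ext L W
    intro Y
    have hm := CostructuredArrow.w m
    have h1 : (Functor.whiskerLeft L m.left ≫ (Localization.Lifting.iso L W F' G).hom) ≫ ε =
        X.hom := by
      rw [Category.assoc]
      exact hm
    have h2 := lift_unique (inverts_comp L X.left) ε hε R _ _
      (h1.trans (lift_comp (inverts_comp L X.left) ε hε X.hom R).symm)
    have h3 := congrArg (fun t => t.app Y) h2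
    simp only [NatTrans.comp_app, Functor.whiskerLeft_app] at h3
    simp only [CostructuredArrow.homMk_left, Localization.liftNatTrans_app]
    erw [Category.id_comp]
    rw [← h3, Category.assoc]
    exact ((Category.comp_id _).symm.trans
      (congrArg (fun t => m.left.app (L.obj Y) ≫ t)
        (Iso.hom_inv_id_app (Localization.Lifting.iso L W F' G) Y).symm))

include hε R in
theorem isLeftDerivedFunctor : G.IsLeftDerivedFunctor (counit W L ε G) W :=
  ⟨isRightKanExtension L ε hε R G⟩

end Derived

end Groth.Agent.Lib.KanResolution66
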