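import Groth.Agent.Lib.PolLawSpan23
import Mathlib.RingTheory.IntegralClosure.IsIntegralClosure.Basic

set_option autoImplicit false
universe u
open scoped TensorProduct
open MvPolynomial

namespace Groth.Agent.Lib.PolLawFin23

open Groth.Agent.Lib.PolLaw23 Groth.Agent.Lib.PolLawExt23 Groth.Agent.Lib.PolLawGen23
  Groth.Agent.Lib.PolLawSpan23

variable {A : Type u} [CommRing A] {B C : Type u} [CommRing B] [Algebra A B] [CommRing C] [Algebra A C]
  {d : ℕ} (γ : PolLaw.MulLaw A B C d) {N : ℕ} (e : Fin N → B)

/-- The generic linear combination of the family `e`. -/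
noncomputable def genElt : MvPolynomial (Fin N) A ⊗[A] B := ∑ l, X l ⊗ₜ[A] e l

theorem rTensor_genElt {n : ℕ} (q : Fin N → MvPolynomial (Fin n) A) :
    (aeval q : MvPolynomial (Fin N) A →ₐ[A] _).toLinearMap.rTensor B (genElt e) = ∑ l, q l ⊗ₜ[A] e l := by
  simp [genElt]

/-- The (finite) set of coefficients of the universal law at the generic combination. -/
noncomputable def coeffFinset : Finset C := by
  classical
  exact (TensorProduct.equivFinsuppOfBasisLeft (N := C) (MvPolynomial.basisMonomials (Fin N) A)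
    (γ.law.toFun' _ (genElt e))).support.image
    (TensorProduct.equivFinsuppOfBasisLeft (N := C) (MvPolynomial.basisMonomials (Fin N) A)
    (γ.law.toFun' _ (genElt e)))

/-- (†): all coefficients of `γ` at combinations of the `e l` lie in the span of `coeffFinset`. -/
theorem dagger {n : ℕ} (q : Fin N → MvPolynomial (Fin n) A) (l : MvPolynomial (Fin n) A →ₗ[A] A) :
    evalFun C l (γ.law.toFun' _ (∑ k, q k ⊗ₜ[A] e k)) ∈
      Submodule.span A (coeffFinset γ e : Set C) := by
  classical
  rw [← rTensor_genElt, ← PolynomialLaw.isCompat_apply']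
  set G := γ.law.toFun' _ (genElt e) with hG
  let b := MvPolynomial.basisMonomials (Fin N) A
  let E := TensorProduct.equivFinsuppOfBasisLeft (N := C) b
  have hu : G = (E G).sum fun β c => b β ⊗ₜ[A] c := by
    rw [← TensorProduct.equivFinsuppOfBasisLeft_symm_apply, LinearEquiv.symm_apply_apply]
  rw [hu, Finsupp.sum, map_sum, map_sum]
  refine Submodule.sum_mem _ fun β hβ => ?_
  rw [LinearMap.rTensor_tmul, evalFun_tmul]
  refine Submodule.smul_mem _ _ (Submodule.subset_span ?_)
  rw [coeffFinset]
  exact Finset.mem_coe.2 (Finset.mem_image.2 ⟨β, hβ, rfl⟩)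

/-- Every element of `P ⊗ B` is a combination of the `e l` when these span `B`. -/
theorem exists_eq_sum_tmul (he : Submodule.span A (Set.range e) = ⊤) {P : Type u} [CommRing P] [Algebra A P]
    (z : P ⊗[A] B) : ∃ q : Fin N → P, z = ∑ l, q l ⊗ₜ[A] e l := by
  induction z using TensorProduct.induction_on with
  | zero => exact ⟨0, by simp⟩
  | tmul p b =>
    have hb : b ∈ Submodule.span A (Set.range e) := by rw [he]; trivial
    obtain ⟨a, rfl⟩ := (Submodule.mem_span_range_iff_exists_fun A).1 hb
    refine ⟨fun l => a l • p, ?_⟩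
    rw [TensorProduct.tmul_sum]
    refine Finset.sum_congr rfl fun l _ => ?_
    rw [TensorProduct.tmul_smul, TensorProduct.smul_tmul']
  | add x y hx hy =>
    obtain ⟨q, rfl⟩ := hx
    obtain ⟨q', rfl⟩ := hy
    exact ⟨q + q', by simp [TensorProduct.add_tmul, Finset.sum_add_distrib]⟩

/-- If `e` spans `B`, the coefficients at the generic combination span `Γ^d_A(B)`. -/
theorem span_coeffFinset_eq_top (hγ : PolLaw.IsGammaD γ) (he : Submodule.span A (Set.range e) = ⊤) :
    Submodule.span A (coeffFinset γ e : Set C) = ⊤ := by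
  rw [eq_top_iff, ← span_coeffSet_eq_top γ hγ, Submodule.span_le]
  rintro c ⟨n, z, l, rfl⟩
  obtain ⟨q, rfl⟩ := exists_eq_sum_tmul e he z
  exact dagger γ e q l


section Comb

variable {A : Type u} [CommRing A] {B C : Type u} [CommRing B] [Algebra A B] [CommRing C] [Algebra A C]
  {d : ℕ} (γ : PolLaw.MulLaw A B C d) {N : ℕ} (e : Fin N → B)

/-- `z` is a combination of the `e l` with coefficients in `P`. -/
def Comb {P : Type u} [CommRing P] [Algebra A P] (z : P ⊗[A] B) : Prop :=
  ∃ q : Fin N → P, z = ∑ l, q l ⊗ₜ[A] e l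

variable {e}

theorem comb_zero {P : Type u} [CommRing P] [Algebra A P] : Comb e (0 : P ⊗[A] B) :=
  ⟨0, by simp⟩

theorem comb_add {P : Type u} [CommRing P] [Algebra A P] {x y : P ⊗[A] B} (hx : Comb e x) (hy : Comb e y) :
    Comb e (x + y) := by
  obtain ⟨q, rfl⟩ := hx
  obtain ⟨q', rfl⟩ := hy
  exact ⟨q + q', by simp [TensorProduct.add_tmul, Finset.sum_add_distrib]⟩

theorem comb_sum {P : Type u} [CommRing P] [Algebra A P] {ι : Type*} (s : Finset ι) (f : ι → P ⊗[A] B)
    (h : ∀ i ∈ s, Comb e (f i)) : Comb e (∑ i ∈ s, f i) := by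
  classical
  induction s using Finset.induction_on with
  | empty => simpa using comb_zero
  | insert i s hi ih =>
    rw [Finset.sum_insert hi]
    exact comb_add (h i (Finset.mem_insert_self i s))
      (ih fun j hj => h j (Finset.mem_insert_of_mem hj))

theorem comb_tmul {P : Type u} [CommRing P] [Algebra A P] (p : P) {b : B}
    (hb : b ∈ Submodule.span A (Set.range e)) : Comb e (p ⊗ₜ[A] b) := by
  obtain ⟨a, rfl⟩ := (Submodule.mem_span_range_iff_exists_fun A).1 hb
  refine ⟨fun l => a l • p, ?_⟩
  rw [TensorProduct.tmul_sum]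
  refine Finset.sum_congr rfl fun l _ => ?_
  rw [TensorProduct.tmul_smul, TensorProduct.smul_tmul']

theorem comb_mul (hmul : ∀ l m, e l * e m ∈ Submodule.span A (Set.range e))
    {P : Type u} [CommRing P] [Algebra A P] {x y : P ⊗[A] B} (hx : Comb e x) (hy : Comb e y) :
    Comb e (x * y) := by
  obtain ⟨q, rfl⟩ := hx
  obtain ⟨q', rfl⟩ := hy
  rw [Finset.sum_mul]
  refine comb_sum _ _ fun l _ => ?_
  rw [Finset.mul_sum]
  refine comb_sum _ _ fun m _ => ?_
  rw [Algebra.TensorProduct.tmul_mul_tmul]
  exact comb_tmul _ (hmul l m)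

theorem comb_rTensor {P P' : Type u} [CommRing P] [Algebra A P] [CommRing P'] [Algebra A P']
    (φ : P →ₐ[A] P') {x : P ⊗[A] B} (hx : Comb e x) : Comb e (φ.toLinearMap.rTensor B x) := by
  obtain ⟨q, rfl⟩ := hx
  exact ⟨fun l => φ (q l), by simp⟩

theorem comb_genElt : Comb (A := A) (P := MvPolynomial (Fin N) A) e (genElt (A := A) e) :=
  ⟨fun l => X l, rfl⟩

theorem dagger' {n : ℕ} {z : MvPolynomial (Fin n) A ⊗[A] B} (hz : Comb e z)
    (l : MvPolynomial (Fin n) A →ₗ[A] A) :
    evalFun C l (γ.law.toFun' _ z) ∈ Submodule.span A (coeffFinset γ e : Set C) := by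
  obtain ⟨q, rfl⟩ := hz
  exact dagger γ e q l

/-- If the span of the `e l` is closed under multiplication and contains `1`, the span of the
coefficients at the generic combination is a subalgebra. -/
theorem coeffFinset_mul_mem (hmul : ∀ l m, e l * e m ∈ Submodule.span A (Set.range e))
    {x y : C} (hx : x ∈ Submodule.span A (coeffFinset γ e : Set C))
    (hy : y ∈ Submodule.span A (coeffFinset γ e : Set C)) :
    x * y ∈ Submodule.span A (coeffFinset γ e : Set C) := by
  classical
  have hgen : ∀ c ∈ (coeffFinset γ e : Set C), ∃ l : MvPolynomial (Fin N) A →ₗ[A] A,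
      c = evalFun C l (γ.law.toFun' _ (genElt e)) := by
    intro c hc
    rw [coeffFinset] at hc
    obtain ⟨β, _, rfl⟩ := Finset.mem_image.1 (Finset.mem_coe.1 hc)
    exact ⟨(MvPolynomial.basisMonomials (Fin N) A).coord β,
      TensorProduct.equivFinsuppOfBasisLeft_apply _ _ _⟩
  induction hx using Submodule.span_induction with
  | mem x hx =>
    induction hy using Submodule.span_induction with
    | mem y hy =>
      obtain ⟨l, rfl⟩ := hgen x hx
      obtain ⟨l', rfl⟩ := hgen y hy
      rw [← evalFun_prodFun, PolynomialLaw.isCompat_apply', PolynomialLaw.isCompat_apply',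
        ← (γ.mult _).2]
      exact dagger' γ (comb_mul hmul (comb_rTensor _ comb_genElt) (comb_rTensor _ comb_genElt)) _
    | zero => rw [mul_zero]; exact zero_mem _
    | add a b _ _ ha hb => rw [mul_add]; exact add_mem ha hb
    | smul r a _ ha => rw [mul_smul_comm]; exact Submodule.smul_mem _ _ ha
  | zero => rw [zero_mul]; exact zero_mem _
  | add a b _ _ ha hb => rw [add_mul]; exact add_mem ha hb
  | smul r a _ ha => rw [smul_mul_assoc]; exact Submodule.smul_mem _ _ ha

theorem coeffFinset_one_mem (hone : (1 : B) ∈ Submodule.span A (Set.range e)) :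
    (1 : C) ∈ Submodule.span A (coeffFinset γ e : Set C) := by
  have h : (1 : C) = evalFun C
      (MvPolynomial.aeval (fun _ => (0 : A)) : MvPolynomial (Fin 0) A →ₐ[A] A).toLinearMap
      (γ.law.toFun' _ (1 : MvPolynomial (Fin 0) A ⊗[A] B)) := by
    rw [(γ.mult _).1, Algebra.TensorProduct.one_def, evalFun_tmul]
    simp
  rw [h]
  apply dagger' γ
  rw [Algebra.TensorProduct.one_def]
  exact comb_tmul _ hone

/-- All elements of the span of the coefficients are integral over `A`. -/
theorem isIntegral_of_mem_span_coeffFinset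
    (hmul : ∀ l m, e l * e m ∈ Submodule.span A (Set.range e))
    (hone : (1 : B) ∈ Submodule.span A (Set.range e))
    {x : C} (hx : x ∈ Submodule.span A (coeffFinset γ e : Set C)) : IsIntegral A x := by
  let D : Subalgebra A C := Submodule.toSubalgebra (Submodule.span A (coeffFinset γ e : Set C))
    (coeffFinset_one_mem γ hone) (fun x y hx hy => coeffFinset_mul_mem γ hmul hx hy)
  have hfg : D.toSubmodule.FG := ⟨coeffFinset γ e, rfl⟩
  exact IsIntegral.of_mem_of_fg D hfg x hx

end Comb

end Groth.Agent.Lib.PolLawFin23
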