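import Groth.Agent.Lib.KerBC23
import Groth.Agent.Lib.PolLawFin23

/-!
# Kernels of base-changed laws on a finite algebra: the generic-element criterion (helper23)

If `B` is spanned over `A` by `e : Fin N → B`, membership of `b'` in `kerBC F A'` is the single identity
`F (x₀ + w₀ b') = F x₀` over `A'[X_1..X_N, W_1..W_N]`, where `x₀ = ∑ X_k ⊗ e_k`, `w₀ = ∑ W_k ⊗ e_k`.
-/

set_option autoImplicit false
universe u
open scoped TensorProduct
open MvPolynomial

namespace Groth.Agent.Lib.KerBCFin23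

open Groth.Agent.Lib.PolLaw23 Groth.Agent.Lib.KerBC23 Groth.Agent.Lib.PolLawExt23

variable {A : Type u} [CommRing A] {B : Type u} [CommRing B] [Algebra A B]
  {C' : Type u} [CommRing C'] [Algebra A C'] (F : B →ₚₗ[A] C') {N : ℕ} (e : Fin N → B)

/-- The generic test ring over `A'`. -/
abbrev GR (N : ℕ) (A' : Type u) [CommRing A'] : Type u := MvPolynomial (Fin N ⊕ Fin N) A'

/-- The generic element `x₀`. -/
noncomputable def gx (A' : Type u) [CommRing A'] [Algebra A A'] : GR N A' ⊗[A] B :=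
  ∑ k, (X (Sum.inl k) : GR N A') ⊗ₜ[A] e k

/-- The generic multiplier `w₀`. -/
noncomputable def gw (A' : Type u) [CommRing A'] [Algebra A A'] : GR N A' ⊗[A] B :=
  ∑ k, (X (Sum.inr k) : GR N A') ⊗ₜ[A] e k

/-- The structure map `A' → A'[X, W]`. -/
noncomputable def gφ (N : ℕ) (A' : Type u) [CommRing A'] [Algebra A A'] : A' →ₐ[A] GR N A' :=
  IsScalarTower.toAlgHom A A' (GR N A')

theorem gφ_apply (A' : Type u) [CommRing A'] [Algebra A A'] (a : A') : gφ (A := A) N A' a = C a := rfl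

/-- Evaluation of the generic ring. -/
noncomputable def evHom {A' : Type u} [CommRing A'] [Algebra A A'] {R : Type u} [CommRing R] [Algebra A R]
    (φ : A' →ₐ[A] R) (g : Fin N ⊕ Fin N → R) : GR N A' →ₐ[A] R :=
  { MvPolynomial.eval₂Hom (φ : A' →+* R) g with
    commutes' := fun a => by
      show MvPolynomial.eval₂Hom (φ : A' →+* R) g (algebraMap A (GR N A') a) = _
      rw [IsScalarTower.algebraMap_apply A A' (GR N A'), MvPolynomial.algebraMap_eq]
      simp }

theorem evHom_X {A' : Type u} [CommRing A'] [Algebra A A'] {R : Type u} [CommRing R] [Algebra A R]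
    (φ : A' →ₐ[A] R) (g : Fin N ⊕ Fin N → R) (i : Fin N ⊕ Fin N) : evHom φ g (X i) = g i := by
  show MvPolynomial.eval₂Hom (φ : A' →+* R) g (X i) = g i
  simp

theorem evHom_comp_gφ {A' : Type u} [CommRing A'] [Algebra A A'] {R : Type u} [CommRing R] [Algebra A R]
    (φ : A' →ₐ[A] R) (g : Fin N ⊕ Fin N → R) : (evHom φ g).comp (gφ N A') = φ := by
  ext a
  show MvPolynomial.eval₂Hom (φ : A' →+* R) g (C a) = φ a
  simp

/-- **Generic-element criterion** for the kernel of a base change. -/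
theorem mem_kerBC_iff_generic (he : Submodule.span A (Set.range e) = ⊤)
    (A' : Type u) [CommRing A'] [Algebra A A'] (b' : A' ⊗[A] B) :
    b' ∈ PolLaw.kerBC F A' ↔
      F.toFun' (GR N A') (gx e A' + gw e A' * bc (gφ N A') b') = F.toFun' (GR N A') (gx e A') := by
  rw [mem_kerBC_iff]
  constructor
  · intro h
    exact h (GR N A') (gφ N A') _ _
  · intro h R _ _ φ x w
    obtain ⟨xs, rfl⟩ := Groth.Agent.Lib.PolLawFin23.exists_eq_sum_tmul e he x
    obtain ⟨ws, rfl⟩ := Groth.Agent.Lib.PolLawFin23.exists_eq_sum_tmul e he w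
    set ev := evHom φ (Sum.elim xs ws) with hev
    have h1 : ev.toLinearMap.rTensor B (gx e A') = ∑ l, xs l ⊗ₜ[A] e l := by
      simp [gx, hev, evHom_X]
    have h2 : ev.toLinearMap.rTensor B (gw e A') = ∑ l, ws l ⊗ₜ[A] e l := by
      simp [gw, hev, evHom_X]
    have h3 := congrArg (ev.toLinearMap.rTensor C') h
    rw [PolynomialLaw.isCompat_apply', PolynomialLaw.isCompat_apply', PolLaw.rTensor_algHom_apply, map_add,
      map_mul, ← PolLaw.rTensor_algHom_apply, ← PolLaw.rTensor_algHom_apply, ← PolLaw.rTensor_algHom_apply,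
      bc_comp, hev, evHom_comp_gφ, ← hev, h1, h2] at h3
    exact h3

end Groth.Agent.Lib.KerBCFin23

namespace Groth.Agent.Lib.KerBCFin23

open Groth.Agent.Lib.PolLaw23 Groth.Agent.Lib.KerBC23 Groth.Agent.Lib.PolLawExt23

variable {A : Type u} [CommRing A] {B : Type u} [CommRing B] [Algebra A B]
  {C' : Type u} [CommRing C'] [Algebra A C'] (F : B →ₚₗ[A] C') {N : ℕ} (e : Fin N → B)

/-- Base changes compose. -/
theorem bc_bc {A' A'' : Type u} [CommRing A'] [Algebra A A'] [CommRing A''] [Algebra A A'']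
    {R : Type u} [CommRing R] [Algebra A R] (ψ : A' →ₐ[A] A'') (φ : A'' →ₐ[A] R) (b' : A' ⊗[A] B) :
    bc φ (bc ψ b') = bc (φ.comp ψ) b' := by
  induction b' using TensorProduct.induction_on with
  | zero => simp
  | tmul a b => simp [bc_tmul]
  | add x y hx hy => simp only [map_add, hx, hy]

/-- Base change along `ψ` preserves kernels of base changes. -/
theorem bc_mem_kerBC {A' A'' : Type u} [CommRing A'] [Algebra A A'] [CommRing A''] [Algebra A A'']
    (ψ : A' →ₐ[A] A'') {b' : A' ⊗[A] B} (h : b' ∈ PolLaw.kerBC F A') : bc ψ b' ∈ PolLaw.kerBC F A'' := by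
  rw [mem_kerBC_iff] at h ⊢
  intro R _ _ φ x w
  rw [bc_bc]
  exact h R (φ.comp ψ) x w

/-- `rid` is natural in the left factor. -/
theorem rid_rTensor {S S' : Type u} [CommRing S] [Algebra A S] [CommRing S'] [Algebra A S'] (ψ : S →ₐ[A] S')
    (y : S ⊗[A] A) : TensorProduct.rid A S' (ψ.toLinearMap.rTensor A y) = ψ (TensorProduct.rid A S y) := by
  induction y using TensorProduct.induction_on with
  | zero => simp
  | tmul p a => simp
  | add a b ha hb => simp only [map_add, ha, hb]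

/-- The map of generic rings induced by `ψ : A' → A''`. -/
noncomputable def mapGR {A' A'' : Type u} [CommRing A'] [Algebra A A'] [CommRing A''] [Algebra A A'']
    (ψ : A' →ₐ[A] A'') : GR N A' →ₐ[A] GR N A'' :=
  { MvPolynomial.map (ψ : A' →+* A'') with
    commutes' := fun a => by
      show MvPolynomial.map (ψ : A' →+* A'') (algebraMap A (GR N A') a) = _
      rw [IsScalarTower.algebraMap_apply A A' (GR N A'), MvPolynomial.algebraMap_eq, MvPolynomial.map_C,
        IsScalarTower.algebraMap_apply A A'' (GR N A''), MvPolynomial.algebraMap_eq]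
      simp }

theorem mapGR_apply {A' A'' : Type u} [CommRing A'] [Algebra A A'] [CommRing A''] [Algebra A A'']
    (ψ : A' →ₐ[A] A'') (p : GR N A') : mapGR (N := N) ψ p = MvPolynomial.map (ψ : A' →+* A'') p := rfl

theorem mapGR_X {A' A'' : Type u} [CommRing A'] [Algebra A A'] [CommRing A''] [Algebra A A'']
    (ψ : A' →ₐ[A] A'') (i : Fin N ⊕ Fin N) : mapGR (N := N) ψ (X i) = X i := by
  rw [mapGR_apply, MvPolynomial.map_X]

theorem coeff_mapGR {A' A'' : Type u} [CommRing A'] [Algebra A A'] [CommRing A''] [Algebra A A'']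
    (ψ : A' →ₐ[A] A'') (p : GR N A') (s : (Fin N ⊕ Fin N) →₀ ℕ) :
    (mapGR (N := N) ψ p).coeff s = ψ (p.coeff s) := by
  rw [mapGR_apply, MvPolynomial.coeff_map]
  rfl

theorem mapGR_comp_gφ {A' A'' : Type u} [CommRing A'] [Algebra A A'] [CommRing A''] [Algebra A A'']
    (ψ : A' →ₐ[A] A'') : (mapGR (N := N) ψ).comp (gφ N A') = (gφ N A'').comp ψ := by
  refine AlgHom.ext fun a => ?_
  show mapGR (N := N) ψ (gφ (A := A) N A' a) = gφ (A := A) N A'' (ψ a)
  rw [gφ_apply, gφ_apply, mapGR_apply, MvPolynomial.map_C]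
  rfl

theorem mapGR_gx {A' A'' : Type u} [CommRing A'] [Algebra A A'] [CommRing A''] [Algebra A A'']
    (ψ : A' →ₐ[A] A'') : (mapGR (N := N) ψ).toLinearMap.rTensor B (gx e A') = gx e A'' := by
  simp [gx, mapGR_X]

theorem mapGR_gw {A' A'' : Type u} [CommRing A'] [Algebra A A'] [CommRing A''] [Algebra A A'']
    (ψ : A' →ₐ[A] A'') : (mapGR (N := N) ψ).toLinearMap.rTensor B (gw e A') = gw e A'' := by
  simp [gw, mapGR_X]

/-- The generic defect of `b'`. -/
noncomputable def gdef (A' : Type u) [CommRing A'] [Algebra A A'] (b' : A' ⊗[A] B) : GR N A' ⊗[A] C' :=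
  F.toFun' (GR N A') (gx e A' + gw e A' * bc (gφ N A') b') - F.toFun' (GR N A') (gx e A')

theorem mem_kerBC_iff_gdef (he : Submodule.span A (Set.range e) = ⊤)
    (A' : Type u) [CommRing A'] [Algebra A A'] (b' : A' ⊗[A] B) :
    b' ∈ PolLaw.kerBC F A' ↔ gdef F e A' b' = 0 := by
  rw [mem_kerBC_iff_generic F e he, gdef, sub_eq_zero]

/-- The generic defect is natural in `A'`. -/
theorem mapGR_gdef {A' A'' : Type u} [CommRing A'] [Algebra A A'] [CommRing A''] [Algebra A A'']
    (ψ : A' →ₐ[A] A'') (b' : A' ⊗[A] B) :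
    (mapGR (N := N) ψ).toLinearMap.rTensor C' (gdef F e A' b') = gdef F e A'' (bc ψ b') := by
  have h1 : bc (gφ N A'') (bc ψ b') = bc ((gφ N A'').comp ψ) b' := bc_bc _ _ _
  rw [gdef, gdef, map_sub, PolynomialLaw.isCompat_apply', PolynomialLaw.isCompat_apply', mapGR_gx,
    PolLaw.rTensor_algHom_apply, map_add, map_mul, ← PolLaw.rTensor_algHom_apply, ← PolLaw.rTensor_algHom_apply,
    ← PolLaw.rTensor_algHom_apply, mapGR_gx, mapGR_gw, bc_comp, mapGR_comp_gφ, h1]

/-- Evaluating the generic defect at a point. -/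
theorem evHom_gdef {A' : Type u} [CommRing A'] [Algebra A A'] {R : Type u} [CommRing R] [Algebra A R]
    (φ : A' →ₐ[A] R) (xs ws : Fin N → R) (b' : A' ⊗[A] B) :
    (evHom φ (Sum.elim xs ws)).toLinearMap.rTensor C' (gdef F e A' b') =
      F.toFun' R ((∑ l, xs l ⊗ₜ[A] e l) + (∑ l, ws l ⊗ₜ[A] e l) * bc φ b') - F.toFun' R (∑ l, xs l ⊗ₜ[A] e l) := by
  set ev := evHom φ (Sum.elim xs ws) with hev
  have h1 : ev.toLinearMap.rTensor B (gx e A') = ∑ l, xs l ⊗ₜ[A] e l := by
    simp [gx, hev, evHom_X]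
  have h2 : ev.toLinearMap.rTensor B (gw e A') = ∑ l, ws l ⊗ₜ[A] e l := by
    simp [gw, hev, evHom_X]
  rw [gdef, map_sub, PolynomialLaw.isCompat_apply', PolynomialLaw.isCompat_apply', PolLaw.rTensor_algHom_apply,
    map_add, map_mul, ← PolLaw.rTensor_algHom_apply, ← PolLaw.rTensor_algHom_apply, ← PolLaw.rTensor_algHom_apply,
    bc_comp, hev, evHom_comp_gφ, ← hev, h1, h2]

end Groth.Agent.Lib.KerBCFin23
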