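import Groth.Agent.Lib.BCLaw23
import Groth.Agent.Lib.KerBCFin23
import Groth.Agent.S13699
import Mathlib.Algebra.MvPolynomial.Equiv

/-!
# The kernel of the base change to a polynomial ring in several variables (helper23)

`kerBC F (A[X_1..X_q]) = (ker F)^e`, by induction on `q` from the one-variable case (S13699) applied to
the base-changed law, and transitivity of base change.
-/

set_option autoImplicit false
universe u
open scoped TensorProduct

namespace Groth.Agent.Lib.KerBCPoly23

open Groth.Agent.Lib.PolLaw23 Groth.Agent.Lib.KerBC23 Groth.Agent.Lib.KerBCFin23 Groth.Agent.Lib.BCLaw23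

variable {A : Type u} [CommRing A] {B : Type u} [CommRing B] [Algebra A B]

/-- Base change maps the extension of an ideal of `B` into the extension. -/
theorem map_bc_map_includeRight_le (I : Ideal B) {A₁ A₂ : Type u} [CommRing A₁] [Algebra A A₁]
    [CommRing A₂] [Algebra A A₂] (ψ : A₁ →ₐ[A] A₂) :
    (I.map (Algebra.TensorProduct.includeRight : B →ₐ[A] A₁ ⊗[A] B)).map (bc (B := B) ψ) ≤
      I.map (Algebra.TensorProduct.includeRight : B →ₐ[A] A₂ ⊗[A] B) := by
  rw [Ideal.map_le_iff_le_comap, Ideal.map_le_iff_le_comap]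
  intro b hb
  rw [Ideal.mem_comap, Ideal.mem_comap, Algebra.TensorProduct.includeRight_apply, bc_tmul, map_one]
  exact Ideal.mem_map_of_mem _ hb

theorem bc_mem_map_includeRight (I : Ideal B) {A₁ A₂ : Type u} [CommRing A₁] [Algebra A A₁]
    [CommRing A₂] [Algebra A A₂] (ψ : A₁ →ₐ[A] A₂) {z : A₁ ⊗[A] B}
    (hz : z ∈ I.map (Algebra.TensorProduct.includeRight : B →ₐ[A] A₁ ⊗[A] B)) :
    bc ψ z ∈ I.map (Algebra.TensorProduct.includeRight : B →ₐ[A] A₂ ⊗[A] B) :=
  map_bc_map_includeRight_le I ψ (Ideal.mem_map_of_mem _ hz)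

variable {C : Type u} [CommRing C] [Algebra A C]

/-- The kernel of the base change to `A` itself is the extension of the kernel. -/
theorem kerBC_self_le (F : B →ₚₗ[A] C) :
    PolLaw.kerBC F A ≤ (PolLaw.ker F).map (Algebra.TensorProduct.includeRight : B →ₐ[A] A ⊗[A] B) := by
  intro b' hb'
  obtain ⟨b, rfl⟩ : ∃ b : B, (1 : A) ⊗ₜ[A] b = b' :=
    ⟨TensorProduct.lid A B b', by
      have := (TensorProduct.lid A B).symm_apply_apply b'
      rwa [TensorProduct.lid_symm_apply] at this⟩
  have hb : b ∈ PolLaw.ker F := by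
    rw [mem_ker_iff]
    intro S _ _ x w
    have := (mem_kerBC_iff F A _).1 hb' S (Algebra.ofId A S) x w
    rwa [bc_tmul, map_one] at this
  exact Ideal.mem_map_of_mem _ hb

variable {d : ℕ}

/-- The relative one-variable case. -/
theorem kerBC_polynomial_le (F : PolLaw.MulLaw A B A d) (A₁ : Type u) [CommRing A₁] [Algebra A A₁] :
    PolLaw.kerBC F.law (Polynomial A₁) ≤
      (PolLaw.kerBC F.law A₁).map (bc (B := B) (IsScalarTower.toAlgHom A A₁ (Polynomial A₁))) := by
  intro b' hb'
  have h1 : (cb A A₁ (Polynomial A₁) B).symm b' ∈ PolLaw.kerBC (bcLaw F.law A₁) (Polynomial A₁) := by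
    rw [mem_kerBC_bcLaw_iff, AlgEquiv.apply_symm_apply]
    exact hb'
  have h2 : PolLaw.kerBC (bcLaw F.law A₁) (Polynomial A₁) =
      PolLaw.kerBC (bcMul F A₁).law (Polynomial A₁) :=
    (kerBC_postcomp_equiv (Algebra.TensorProduct.rid A A₁ A₁) (bcLaw F.law A₁) (Polynomial A₁)).symm
  rw [h2, ← Groth.Agent.S13699.result (bcMul F A₁), ker_bcMul] at h1
  have h3 : (PolLaw.kerBC F.law A₁).map
      (Algebra.TensorProduct.includeRight : (A₁ ⊗[A] B) →ₐ[A₁] Polynomial A₁ ⊗[A₁] (A₁ ⊗[A] B)) ≤
      ((PolLaw.kerBC F.law A₁).map (bc (B := B) (IsScalarTower.toAlgHom A A₁ (Polynomial A₁)))).comap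
        (cb A A₁ (Polynomial A₁) B) := by
    rw [Ideal.map_le_iff_le_comap]
    intro z hz
    rw [Ideal.mem_comap, Ideal.mem_comap, Algebra.TensorProduct.includeRight_apply, cb_one_tmul]
    exact Ideal.mem_map_of_mem _ hz
  have h4 := h3 h1
  rwa [Ideal.mem_comap, AlgEquiv.apply_symm_apply] at h4

/-- The kernel of the base change to a polynomial ring in finitely many variables is the extension of
the kernel. -/
theorem kerBC_mvPolynomial_le (F : PolLaw.MulLaw A B A d) (q : ℕ) :
    PolLaw.kerBC F.law (MvPolynomial (Fin q) A) ≤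
      (PolLaw.ker F.law).map (Algebra.TensorProduct.includeRight : B →ₐ[A] MvPolynomial (Fin q) A ⊗[A] B) := by
  induction q with
  | zero =>
    intro b' hb'
    set ε : MvPolynomial (Fin 0) A ≃ₐ[A] A := MvPolynomial.isEmptyAlgEquiv A (Fin 0) with hε
    have h1 := kerBC_self_le F.law (bc_mem_kerBC F.law ε.toAlgHom hb')
    have h2 := bc_mem_map_includeRight (PolLaw.ker F.law) ε.symm.toAlgHom h1
    rw [bc_bc] at h2
    have : ε.symm.toAlgHom.comp ε.toAlgHom = AlgHom.id A _ := by
      ext x; simp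
    rw [this] at h2
    simpa [bc] using h2
  | succ q ih =>
    intro b' hb'
    set ε : MvPolynomial (Fin (q + 1)) A ≃ₐ[A] Polynomial (MvPolynomial (Fin q) A) :=
      MvPolynomial.finSuccEquiv A q with hε
    have h1 := kerBC_polynomial_le F (MvPolynomial (Fin q) A) (bc_mem_kerBC F.law ε.toAlgHom hb')
    have h2 : (PolLaw.kerBC F.law (MvPolynomial (Fin q) A)).map
        (bc (B := B) (IsScalarTower.toAlgHom A (MvPolynomial (Fin q) A) (Polynomial (MvPolynomial (Fin q) A)))) ≤
        (PolLaw.ker F.law).map (Algebra.TensorProduct.includeRight :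
          B →ₐ[A] Polynomial (MvPolynomial (Fin q) A) ⊗[A] B) :=
      le_trans (Ideal.map_mono ih) (map_bc_map_includeRight_le _ _)
    have h3 := bc_mem_map_includeRight (PolLaw.ker F.law) ε.symm.toAlgHom (h2 h1)
    rw [bc_bc] at h3
    have : ε.symm.toAlgHom.comp ε.toAlgHom = AlgHom.id A _ := by
      ext x; simp
    rw [this] at h3
    simpa [bc] using h3

end Groth.Agent.Lib.KerBCPoly23
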