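import Mathlib

/-!
# A splitting algebra for a monic separable polynomial (helper75)

For `g ∈ R[X]` monic separable of degree `n` there is an `R`-algebra `Ã` with an `R`-linear
retraction `Ã → R` in which `g = ∏ (X - r_l)` with all differences `r_l - r_m` (`l ≠ m`) units.
-/

set_option autoImplicit false
set_option linter.unusedSectionVars false
set_option linter.unusedVariables false
set_option linter.style.haveILetI false
universe u
open Polynomial

namespace Groth.Agent.Lib.SplitSep75

/-- the coordinate of `1` in the power basis of `AdjoinRoot g` is a retraction -/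
theorem exists_retraction_adjoinRoot {R : Type u} [CommRing R] (g : R[X]) (hg : g.Monic)
    (hn : 0 < g.natDegree) : ∃ π : AdjoinRoot g →ₗ[R] R, π 1 = 1 := by
  let pb := AdjoinRoot.powerBasis' hg
  refine ⟨pb.basis.coord ⟨0, hn⟩, ?_⟩
  have h1 : (1 : AdjoinRoot g) = pb.basis ⟨0, hn⟩ := by
    rw [pb.basis_eq_pow]
    simp
  rw [h1, Module.Basis.coord_apply, Module.Basis.repr_self, Finsupp.single_eq_same]

theorem splitting (n : ℕ) : ∀ (R : Type u) [CommRing R] (g : R[X]), g.Monic → g.Separable →
    g.natDegree = n →
    ∃ (S : Type u) (_ : CommRing S) (_ : Algebra R S) (π : S →ₗ[R] R) (r : Fin n → S),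
      π 1 = 1 ∧ g.map (algebraMap R S) = ∏ l, (X - C (r l)) ∧
      ∀ l m, l ≠ m → IsUnit (r l - r m) := by
  induction n with
  | zero =>
    intro R _ g hg hsep hdeg
    refine ⟨R, inferInstance, inferInstance, LinearMap.id, Fin.elim0, rfl, ?_, ?_⟩
    · rw [Finset.univ_eq_empty, Finset.prod_empty, Algebra.algebraMap_self, Polynomial.map_id]
      exact (Polynomial.Monic.natDegree_eq_zero hg).mp hdeg
    · intro l; exact l.elim0
  | succ n ih =>
    intro R _ g hg hsep hdeg
    rcases subsingleton_or_nontrivial R with hR | hR
    · refine ⟨R, inferInstance, inferInstance, LinearMap.id, fun _ => 0, rfl,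
        Subsingleton.elim _ _, fun l m _ => isUnit_of_subsingleton _⟩
    -- adjoin one root
    obtain ⟨π₁, hπ₁⟩ := exists_retraction_adjoinRoot g hg (by rw [hdeg]; exact Nat.succ_pos n)
    haveI : Nontrivial (AdjoinRoot g) :=
      ⟨⟨1, 0, fun h => one_ne_zero (α := R) (by rw [← hπ₁, h, map_zero])⟩⟩
    let R₁ := AdjoinRoot g
    let ρ : R₁ := AdjoinRoot.root g
    let g' : R₁[X] := g.map (algebraMap R R₁)
    have hg'm : g'.Monic := hg.map _
    have hroot : g'.IsRoot ρ := by
      show (g.map (algebraMap R (AdjoinRoot g))).IsRoot (AdjoinRoot.root g)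
      rw [AdjoinRoot.algebraMap_eq]
      exact AdjoinRoot.isRoot_root g
    let g₁ : R₁[X] := g' /ₘ (X - C ρ)
    have hfac : (X - C ρ) * g₁ = g' := Polynomial.mul_divByMonic_eq_iff_isRoot.mpr hroot
    have hg₁m : g₁.Monic := by
      have h1 : ((X - C ρ) * g₁).Monic := by rw [hfac]; exact hg'm
      exact Polynomial.Monic.of_mul_monic_left (monic_X_sub_C ρ) h1
    have hg'sep : g'.Separable := hsep.map
    have hg₁sep : g₁.Separable := by
      have h1 : ((X - C ρ) * g₁).Separable := by rw [hfac]; exact hg'sep
      exact h1.of_mul_right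
    have hg₁deg : g₁.natDegree = n := by
      have h1 : g'.natDegree = n + 1 := by rw [hg.natDegree_map]; exact hdeg
      have h2 := Polynomial.natDegree_divByMonic g' (monic_X_sub_C ρ)
      rw [natDegree_X_sub_C, h1] at h2
      exact h2
    -- `g₁(ρ)` is a unit
    have hunit : IsUnit (g₁.eval ρ) := by
      obtain ⟨a, b, hab⟩ := hg'sep
      have hder : derivative g' = g₁ + (X - C ρ) * derivative g₁ := by
        rw [← hfac, derivative_mul, derivative_sub, derivative_X, derivative_C, sub_zero, one_mul]
      have h1 := congrArg (Polynomial.eval ρ) hab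
      rw [eval_add, eval_mul, eval_mul, hroot.eq_zero, mul_zero, zero_add, hder, eval_add,
        eval_mul, eval_sub, eval_X, eval_C, sub_self, zero_mul, add_zero, eval_one] at h1
      exact IsUnit.of_mul_eq_one _ (by rw [mul_comm]; exact h1)
    obtain ⟨S, _, _, π', r', hπ', hsplit, hunits⟩ := ih R₁ g₁ hg₁m hg₁sep hg₁deg
    letI : Algebra R S := ((algebraMap R₁ S).comp (algebraMap R R₁)).toAlgebra
    haveI : IsScalarTower R R₁ S := IsScalarTower.of_algebraMap_eq (fun _ => rfl)
    let ρ' : S := algebraMap R₁ S ρ
    refine ⟨S, inferInstance, inferInstance, π₁ ∘ₗ (π'.restrictScalars R), Fin.cons ρ' r', ?_, ?_, ?_⟩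
    · rw [LinearMap.comp_apply, LinearMap.restrictScalars_apply, hπ', hπ₁]
    · have h1 : g.map (algebraMap R S) = g'.map (algebraMap R₁ S) := by
        rw [Polynomial.map_map]
        rfl
      rw [h1, ← hfac, Polynomial.map_mul, hsplit, Fin.prod_univ_succ]
      simp only [Fin.cons_zero, Fin.cons_succ]
      rw [Polynomial.map_sub, Polynomial.map_X, Polynomial.map_C]
    · -- units
      have hρ : ∀ m : Fin n, IsUnit (ρ' - r' m) := by
        intro m
        have h2 : (g₁.map (algebraMap R₁ S)).eval ρ' = algebraMap R₁ S (g₁.eval ρ) := by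
          rw [Polynomial.eval_map, Polynomial.eval₂_at_apply]
        have h3 : IsUnit ((g₁.map (algebraMap R₁ S)).eval ρ') := by
          rw [h2]; exact hunit.map _
        rw [hsplit, Polynomial.eval_prod] at h3
        simp only [eval_sub, eval_X, eval_C] at h3
        exact isUnit_of_dvd_unit
          (Finset.dvd_prod_of_mem (fun x => ρ' - r' x) (Finset.mem_univ m)) h3
      intro l m hlm
      induction l using Fin.cases with
      | zero =>
        induction m using Fin.cases with
        | zero => exact absurd rfl hlm
        | succ m => simpa using hρ m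
      | succ l =>
        induction m using Fin.cases with
        | zero =>
          have := (hρ l).neg
          simpa using this
        | succ m =>
          have := hunits l m (fun h => hlm (by rw [h]))
          simpa using this

end Groth.Agent.Lib.SplitSep75
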