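import Groth.Agent.Lib.KerBCFin23
import Groth.Agent.Lib.SplitSep75

/-!
# The kernel of a polynomial law commutes with base change to `A[X]/(g)`, `g` monic separable
(helper75)

Splitting algebra `Ã` of `g` (roots with unit differences, `A`-linear retraction), Vandermonde
inversion inside the ideal `kerBC F Ã`, descent along the retraction.
-/

set_option autoImplicit false
set_option linter.unusedSectionVars false
set_option linter.unusedVariables false
set_option linter.style.haveILetI false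
universe u
open scoped TensorProduct
open Polynomial

namespace Groth.Agent.Lib.KerEtale75

open Groth.Agent.Lib.KerBC23 Groth.Agent.Lib.KerBCFin23 Groth.Agent.Lib.SplitSep75

variable {A : Type u} [CommRing A] {B : Type u} [CommRing B] [Algebra A B]
  {C : Type u} [CommRing C] [Algebra A C]

/-- descent of kernel membership along an algebra with an `A`-linear retraction -/
theorem mem_ker_of_retraction (F : B →ₚₗ[A] C) {S : Type u} [CommRing S] [Algebra A S]
    (π : S →ₗ[A] A) (hπ : π 1 = 1) (b : B) (h : (1 : S) ⊗ₜ[A] b ∈ PolLaw.kerBC F S) :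
    b ∈ PolLaw.ker F := by
  rw [mem_ker_iff]
  intro T _ _ x w
  rw [mem_kerBC_iff] at h
  let j : T →ₐ[A] T ⊗[A] S := Algebra.TensorProduct.includeLeft
  let φ : S →ₐ[A] T ⊗[A] S := Algebra.TensorProduct.includeRight
  have h1 := h (T ⊗[A] S) φ (j.toLinearMap.rTensor B x) (j.toLinearMap.rTensor B w)
  have e1 : bc φ ((1 : S) ⊗ₜ[A] b) = j.toLinearMap.rTensor B ((1 : T) ⊗ₜ[A] b) := by
    rw [bc_tmul, map_one, LinearMap.rTensor_tmul, AlgHom.toLinearMap_apply, map_one]
  rw [e1, PolLaw.rTensor_algHom_apply, PolLaw.rTensor_algHom_apply, PolLaw.rTensor_algHom_apply,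
    ← map_mul, ← map_add, ← PolLaw.rTensor_algHom_apply, ← PolLaw.rTensor_algHom_apply,
    ← PolynomialLaw.isCompat_apply', ← PolynomialLaw.isCompat_apply'] at h1
  -- the retraction
  let ϱ : T ⊗[A] S →ₗ[A] T := (TensorProduct.rid A T).toLinearMap ∘ₗ (π.lTensor T)
  have hϱ : ϱ ∘ₗ j.toLinearMap = LinearMap.id := by
    ext t
    simp [ϱ, j, hπ]
  have h2 := congrArg (ϱ.rTensor C) h1
  rw [← LinearMap.comp_apply, ← LinearMap.comp_apply, ← LinearMap.rTensor_comp, hϱ,
    LinearMap.rTensor_id, LinearMap.id_apply, LinearMap.id_apply] at h2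
  exact h2

/-- every element of `A[X]/(g) ⊗ B` is `∑ ρ^i ⊗ c_i` -/
theorem exists_repr (g : A[X]) (hg : g.Monic) (b' : AdjoinRoot g ⊗[A] B) :
    ∃ c : Fin g.natDegree → B,
      b' = ∑ i : Fin g.natDegree, (AdjoinRoot.root g ^ (i : ℕ)) ⊗ₜ[A] c i := by
  have hb : ∀ i, (AdjoinRoot.powerBasisAux' hg) i = AdjoinRoot.root g ^ (i : ℕ) := fun i =>
    (AdjoinRoot.powerBasis' hg).basis_eq_pow i
  induction b' using TensorProduct.induction_on with
  | zero => exact ⟨0, by simp⟩
  | tmul a b =>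
    refine ⟨fun i => ((AdjoinRoot.powerBasisAux' hg).repr a i) • b, ?_⟩
    conv_lhs => rw [← (AdjoinRoot.powerBasisAux' hg).sum_repr a]
    rw [TensorProduct.sum_tmul]
    refine Finset.sum_congr rfl fun i _ => ?_
    rw [TensorProduct.smul_tmul, hb]
  | add x y hx hy =>
    obtain ⟨c, rfl⟩ := hx
    obtain ⟨c', rfl⟩ := hy
    exact ⟨c + c', by simp [TensorProduct.tmul_add, Finset.sum_add_distrib]⟩

theorem kerBC_adjoinRoot_le (F : B →ₚₗ[A] C) (g : A[X]) (hg : g.Monic) (hsep : g.Separable) :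
    PolLaw.kerBC F (AdjoinRoot g) ≤
      (PolLaw.ker F).map (Algebra.TensorProduct.includeRight : B →ₐ[A] AdjoinRoot g ⊗[A] B) := by
  classical
  intro b' hb'
  obtain ⟨S, _, _, π, r, hπ, hsplit, hunits⟩ := splitting g.natDegree A g hg hsep rfl
  obtain ⟨c, hc⟩ := exists_repr (B := B) g hg b'
  -- the embeddings
  have hr : ∀ l, g.eval₂ (Algebra.ofId A S : A →+* S) (r l) = 0 := by
    intro l
    have h1 := congrArg (Polynomial.eval (r l)) hsplit
    rw [Polynomial.eval_map, Polynomial.eval_prod,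
      Finset.prod_eq_zero (Finset.mem_univ l) (by simp)] at h1
    exact h1
  let σ : Fin g.natDegree → (AdjoinRoot g →ₐ[A] S) := fun l =>
    AdjoinRoot.liftAlgHom g (Algebra.ofId A S) (r l) (hr l)
  have hσ : ∀ l, bc (σ l) b' = ∑ i : Fin g.natDegree, (r l ^ (i : ℕ)) ⊗ₜ[A] c i := by
    intro l
    rw [hc, map_sum]
    refine Finset.sum_congr rfl fun i _ => ?_
    rw [bc_tmul, map_pow, AdjoinRoot.liftAlgHom_root]
  have hmem : ∀ l, ∑ i : Fin g.natDegree, (r l ^ (i : ℕ)) ⊗ₜ[A] c i ∈ PolLaw.kerBC F S := fun l =>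
    hσ l ▸ bc_mem_kerBC F (σ l) hb'
  -- Vandermonde
  have hdet : IsUnit (Matrix.vandermonde r).det := by
    rw [Matrix.det_vandermonde]
    refine Finset.prod_induction _ IsUnit (fun _ _ => IsUnit.mul) isUnit_one ?_
    intro i _
    refine Finset.prod_induction _ IsUnit (fun _ _ => IsUnit.mul) isUnit_one ?_
    intro j hj
    exact hunits j i (ne_of_gt (Finset.mem_Ioi.mp hj))
  have hWV : (Matrix.vandermonde r)⁻¹ * Matrix.vandermonde r = 1 :=
    Matrix.nonsing_inv_mul _ hdet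
  have hci : ∀ i, (1 : S) ⊗ₜ[A] c i ∈ PolLaw.kerBC F S := by
    intro i
    have e : (1 : S) ⊗ₜ[A] c i = ∑ l, (((Matrix.vandermonde r)⁻¹ i l) ⊗ₜ[A] (1 : B)) *
        ∑ j : Fin g.natDegree, (r l ^ (j : ℕ)) ⊗ₜ[A] c j := by
      simp_rw [Finset.mul_sum, Algebra.TensorProduct.tmul_mul_tmul, one_mul]
      rw [Finset.sum_comm]
      simp_rw [← TensorProduct.sum_tmul]
      have h2 : ∀ j : Fin g.natDegree, ∑ l, (Matrix.vandermonde r)⁻¹ i l * r l ^ (j : ℕ) =
          (1 : Matrix (Fin g.natDegree) (Fin g.natDegree) S) i j := by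
        intro j
        rw [← hWV, Matrix.mul_apply]
        rfl
      simp_rw [h2, Matrix.one_apply]
      rw [Finset.sum_eq_single i]
      · rw [if_pos rfl]
      · intro j _ hj
        rw [if_neg (Ne.symm hj), TensorProduct.zero_tmul]
      · intro h; exact absurd (Finset.mem_univ i) h
    rw [e]
    exact Ideal.sum_mem _ fun l _ => Ideal.mul_mem_left _ _ (hmem l)
  have hker : ∀ i, c i ∈ PolLaw.ker F := fun i => mem_ker_of_retraction F π hπ (c i) (hci i)
  rw [hc]
  refine Ideal.sum_mem _ fun i _ => ?_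
  have e : (AdjoinRoot.root g ^ (i : ℕ)) ⊗ₜ[A] c i =
      ((AdjoinRoot.root g ^ (i : ℕ)) ⊗ₜ[A] (1 : B)) *
        (Algebra.TensorProduct.includeRight : B →ₐ[A] AdjoinRoot g ⊗[A] B) (c i) := by
    rw [Algebra.TensorProduct.includeRight_apply, Algebra.TensorProduct.tmul_mul_tmul, mul_one,
      one_mul]
  rw [e]
  exact Ideal.mul_mem_left _ _ (Ideal.mem_map_of_mem _ (hker i))

theorem map_ker_eq_kerBC_adjoinRoot (F : B →ₚₗ[A] C) (g : A[X]) (hg : g.Monic)
    (hsep : g.Separable) :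
    (PolLaw.ker F).map (Algebra.TensorProduct.includeRight : B →ₐ[A] AdjoinRoot g ⊗[A] B) =
      PolLaw.kerBC F (AdjoinRoot g) :=
  le_antisymm (map_ker_le_kerBC F _) (kerBC_adjoinRoot_le F g hg hsep)

end Groth.Agent.Lib.KerEtale75
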