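import Groth.Agent.Lib.SecSuppInj65

/-!
# Base change for kernels of units (helper65)

Abstract (Mathlib + `SecSuppInj65` abstract lemmas).  Given adjunctions `R ⊣ T` (on `𝒜`, `ℬ`),
`R' ⊣ T'` (on `𝒜'`, `ℬ'`), functors `G : 𝒜 ⥤ 𝒜'`, `G' : ℬ ⥤ ℬ'` with `L ⊣ G`, and *any* natural
isomorphisms `σ : R ⋙ G' ≅ G ⋙ R'`, `β : L ⋙ R ≅ R' ⋙ L'`, the canonical map
`G (ker (F ⟶ T R F)) ⟶ ker (G F ⟶ T' R' G F)` is an isomorphism (if `G` preserves monos).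
-/

set_option autoImplicit false
universe v₁ v₂ v₃ v₄ u₁ u₂ u₃ u₄
open CategoryTheory CategoryTheory.Limits

namespace Groth.Agent.Lib.KerFunctorBC65

open Groth.Agent.Lib.SecSuppInj65

variable {𝒜 : Type u₁} [Category.{v₁} 𝒜] [Abelian 𝒜] {ℬ : Type u₂} [Category.{v₂} ℬ] [Abelian ℬ]
  {𝒜' : Type u₃} [Category.{v₃} 𝒜'] [Abelian 𝒜'] {ℬ' : Type u₄} [Category.{v₄} ℬ'] [Abelian ℬ']
  {R : 𝒜 ⥤ ℬ} {T : ℬ ⥤ 𝒜} (adj : R ⊣ T) {R' : 𝒜' ⥤ ℬ'} {T' : ℬ' ⥤ 𝒜'} (adj' : R' ⊣ T')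
  {G : 𝒜 ⥤ 𝒜'} {G' : ℬ ⥤ ℬ'} {L : 𝒜' ⥤ 𝒜} {L' : ℬ' ⥤ ℬ} (adjL : L ⊣ G)
  (σ : R ⋙ G' ≅ G ⋙ R') (β : L ⋙ R ≅ R' ⋙ L')
  [R.Additive] [R'.Additive] [T.Additive] [T'.Additive] [G'.Additive] [L'.Additive]

include adj σ in
lemma map_map_ι_eq_zero (F : 𝒜) : R'.map (G.map (kernel.ι (adj.unit.app F))) = 0 := by
  have h1 : R.map (kernel.ι (adj.unit.app F)) = 0 :=
    map_eq_zero_of_comp_unit adj _ (kernel.condition _)
  have hn := σ.hom.naturality (kernel.ι (adj.unit.app F))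
  simp only [Functor.comp_map, h1, Functor.map_zero, zero_comp] at hn
  have : IsIso (σ.hom.app (kernel (adj.unit.app F))) := inferInstance
  rw [← cancel_epi (σ.hom.app (kernel (adj.unit.app F))), ← hn, comp_zero]

/-- the comparison `G (ker (F ⟶ T R F)) ⟶ ker (G F ⟶ T' R' G F)` -/
noncomputable def θ (F : 𝒜) :
    G.obj (kernel (adj.unit.app F)) ⟶ kernel (adj'.unit.app (G.obj F)) :=
  kernel.lift _ (G.map (kernel.ι (adj.unit.app F)))
    (comp_unit_eq_zero_of_map adj' _ (map_map_ι_eq_zero adj σ F))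

@[reassoc (attr := simp)]
lemma θ_ι (F : 𝒜) :
    θ adj adj' σ F ≫ kernel.ι (adj'.unit.app (G.obj F)) = G.map (kernel.ι (adj.unit.app F)) :=
  kernel.lift_ι _ _ _

include adjL β in
theorem isIso_θ [G.PreservesMonomorphisms] (F : 𝒜) : IsIso (θ adj adj' σ F) := by
  have hmono : Mono (θ adj adj' σ F) := by
    have : Mono (θ adj adj' σ F ≫ kernel.ι (adj'.unit.app (G.obj F))) := by
      rw [θ_ι]; infer_instance
    exact mono_of_mono _ (kernel.ι (adj'.unit.app (G.obj F)))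
  let ι' : kernel (adj'.unit.app (G.obj F)) ⟶ G.obj F := kernel.ι (adj'.unit.app (G.obj F))
  have hι' : R'.map ι' = 0 := map_eq_zero_of_comp_unit adj' _ (kernel.condition _)
  let φ : L.obj (kernel (adj'.unit.app (G.obj F))) ⟶ F := (adjL.homEquiv _ _).symm ι'
  have hφ : R.map φ = 0 := by
    have e : φ = L.map ι' ≫ adjL.counit.app F := Adjunction.homEquiv_counit adjL _ _ ι'
    have hn := β.hom.naturality ι'
    simp only [Functor.comp_map, hι', Functor.map_zero, comp_zero] at hn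
    have h2 : R.map (L.map ι') = 0 := by
      have : IsIso (β.hom.app (G.obj F)) := inferInstance
      rw [← cancel_mono (β.hom.app (G.obj F)), hn, zero_comp]
    rw [e, R.map_comp, h2, zero_comp]
  let φ₀ : L.obj (kernel (adj'.unit.app (G.obj F))) ⟶ kernel (adj.unit.app F) :=
    kernel.lift _ φ (comp_unit_eq_zero_of_map adj φ hφ)
  have hφ₀ : φ₀ ≫ (kernel.ι (adj.unit.app F) : kernel (adj.unit.app F) ⟶ F) = φ :=
    kernel.lift_ι _ _ _
  let ψ₀ : kernel (adj'.unit.app (G.obj F)) ⟶ G.obj (kernel (adj.unit.app F)) :=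
    adjL.homEquiv _ _ φ₀
  have hψ₀ : ψ₀ ≫ G.map (kernel.ι (adj.unit.app F) : kernel (adj.unit.app F) ⟶ F) = ι' := by
    rw [← Adjunction.homEquiv_naturality_right, hφ₀]
    exact Equiv.apply_symm_apply _ _
  have hsec : ψ₀ ≫ θ adj adj' σ F = 𝟙 _ := by
    rw [← cancel_mono ι', Category.assoc, θ_ι, hψ₀, Category.id_comp]
  have : IsSplitEpi (θ adj adj' σ F) := IsSplitEpi.mk' ⟨ψ₀, hsec⟩
  exact isIso_of_mono_of_isSplitEpi _

end Groth.Agent.Lib.KerFunctorBC65
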