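import Groth.Prelude.Def_Formal
import Groth.Agent.Lib.CohFormal
import Groth.Agent.Lib.QCohStalk

/-!
# Sections of modules killed by an ideal vanish away from its zero locus (helper10)

`X` a scheme over `Spec A`, `J` an ideal of `A`, `N` an `O_X`-module killed by `J`
(`Formal.KilledBy J N`).

* `basicOpen_toGlobal` : `X_b = g⁻¹ D(b)` for `b : A`, `g = X ↘ Spec A`.
* `subsingleton_sections_of_killedBy` : if every point of the open `W` lies in some `X_b`, `b ∈ J`,
  then `Γ(N, W) = 0`.
* `subsingleton_sections_of_disjoint` : if `W` is disjoint from the preimage of `V(J)` then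
  `Γ(N, W) = 0`.
* `subsingleton_sections_modPow` : `Γ(M / Iⁿ M, W) = 0` for `W` disjoint from the preimage of `V(I)`.
-/

set_option autoImplicit false
universe u
open CategoryTheory CategoryTheory.Limits AlgebraicGeometry Opposite TopologicalSpace

namespace Groth.Agent.Lib.KilledBySections

open Groth.Agent.Lib.QCohStalk

variable {A : Type u} [CommRing A] {X : Scheme.{u}} [X.Over (Spec (CommRingCat.of A))]

theorem basicOpen_toGlobal (b : A) :
    X.basicOpen (show Γ(X, ⊤) from Coh.toGlobal (X ↘ Spec (CommRingCat.of A)) b) =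
      (X ↘ Spec (CommRingCat.of A)) ⁻¹ᵁ (PrimeSpectrum.basicOpen b) := by
  rw [← basicOpen_eq_of_affine (R := CommRingCat.of A) b, Scheme.preimage_basicOpen_top]
  rfl

theorem subsingleton_sections_of_killedBy (J : Ideal A) (N : X.Modules)
    (hN : Formal.KilledBy J N) (W : X.Opens)
    (hW : ∀ x ∈ W, ∃ b ∈ J,
      x ∈ X.basicOpen (show Γ(X, ⊤) from Coh.toGlobal (X ↘ Spec (CommRingCat.of A)) b)) :
    Subsingleton Γ(N, W) := by
  refine ⟨fun s t => ?_⟩
  suffices H : ∀ s : Γ(N, W), s = 0 by rw [H s, H t]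
  intro s
  refine TopCat.Presheaf.section_ext ⟨N.presheaf, N.isSheaf⟩ W s 0 fun z hz => ?_
  obtain ⟨b, hbJ, hzb⟩ := hW z hz
  set r : Γ(X, ⊤) := Coh.toGlobal (X ↘ Spec (CommRingCat.of A)) b with hr
  have hzW' : z ∈ W ⊓ X.basicOpen r := ⟨hz, hzb⟩
  have hres : res N (inf_le_left : W ⊓ X.basicOpen r ≤ W) s = 0 := by
    -- `b` acts as zero
    have h0 : (Formal.smulMod A N b).app (W ⊓ X.basicOpen r)
        (res N (inf_le_left : W ⊓ X.basicOpen r ≤ W) s) = 0 := by
      rw [hN b hbJ]
      rfl
    have h1 : (Formal.smulMod A N b).app (W ⊓ X.basicOpen r)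
        (res N (inf_le_left : W ⊓ X.basicOpen r ≤ W) s) =
        resO X (le_top : W ⊓ X.basicOpen r ≤ ⊤) r •
          res N (inf_le_left : W ⊓ X.basicOpen r ≤ W) s :=
      Formal.smulModΓ_app _ _ _
    rw [h1] at h0
    -- the restriction of `r` is a unit
    have hu : IsUnit (resO X (le_top : W ⊓ X.basicOpen r ≤ ⊤) r) := by
      have hu0 : IsUnit (resO X (X.basicOpen_le r) r) :=
        X.toRingedSpace.isUnit_res_basicOpen r
      have : resO X (le_top : W ⊓ X.basicOpen r ≤ ⊤) r =
          resO X (inf_le_right : W ⊓ X.basicOpen r ≤ X.basicOpen r)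
            (resO X (X.basicOpen_le r) r) := (resO_resO X _ _ r).symm
      rw [this]
      exact hu0.map (X.presheaf.map (homOfLE (inf_le_right : W ⊓ X.basicOpen r ≤ X.basicOpen r)).op).hom
    obtain ⟨u, hu⟩ := hu
    rw [← hu] at h0
    have := congrArg (fun m => (↑u⁻¹ : Γ(X, W ⊓ X.basicOpen r)) • m) h0
    simpa [smul_smul] using this
  have e1 := germ_res N (inf_le_left : W ⊓ X.basicOpen r ≤ W) z hzW' s
  rw [hres] at e1
  rw [← e1, map_zero, map_zero]

theorem subsingleton_sections_of_disjoint (J : Ideal A) (N : X.Modules)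
    (hN : Formal.KilledBy J N) (W : X.Opens)
    (hW : Disjoint (W : Set X)
      ((X ↘ Spec (CommRingCat.of A)) ⁻¹' (PrimeSpectrum.zeroLocus (J : Set A)))) :
    Subsingleton Γ(N, W) := by
  refine subsingleton_sections_of_killedBy J N hN W fun x hx => ?_
  have hx' : (X ↘ Spec (CommRingCat.of A)) x ∉ PrimeSpectrum.zeroLocus (J : Set A) :=
    fun h => Set.disjoint_left.mp hW hx h
  have hx'' : ¬ ((J : Set A) ⊆
      (((X ↘ Spec (CommRingCat.of A)) x : PrimeSpectrum A).asIdeal : Set A)) := hx'
  rw [Set.not_subset] at hx''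
  obtain ⟨b, hbJ, hb⟩ := hx''
  refine ⟨b, hbJ, ?_⟩
  rw [basicOpen_toGlobal]
  exact hb

theorem subsingleton_sections_modPow (I : Ideal A) (n : ℕ) (M : X.Modules) (W : X.Opens)
    (hW : Disjoint (W : Set X)
      ((X ↘ Spec (CommRingCat.of A)) ⁻¹' (PrimeSpectrum.zeroLocus (I : Set A)))) :
    Subsingleton Γ(Formal.modPow I n M, W) := by
  have hk : Formal.KilledBy (I ^ n) (Formal.modPow I n M) := by
    intro a ha
    have h1 : Formal.smulFamily (I ^ n) M ≫ Formal.modPowπ I n M = 0 := cokernel.condition _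
    have h2 : Formal.smulMod A M a ≫ Formal.modPowπ I n M = 0 := by
      have : Sigma.ι (fun _ : (I ^ n : Ideal A) => M) ⟨a, ha⟩ ≫ Formal.smulFamily (I ^ n) M =
          Formal.smulMod A M a := by
        simp [Formal.smulFamily]
      rw [← this, Category.assoc, h1, comp_zero]
    have h3 := Formal.smulMod_naturality (Formal.modPowπ I n M) a
    rw [h2] at h3
    have : Epi (Formal.modPowπ I n M) := by unfold Formal.modPowπ; exact coequalizer.π_epi
    rw [← cancel_epi (Formal.modPowπ I n M), ← h3, comp_zero]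
  refine subsingleton_sections_of_disjoint (I ^ n) _ hk W ?_
  by_cases hn : n = 0
  · subst hn
    have : PrimeSpectrum.zeroLocus ((I ^ 0 : Ideal A) : Set A) = ∅ := by
      rw [pow_zero, Ideal.one_eq_top]
      exact PrimeSpectrum.zeroLocus_univ
    rw [this]
    exact Set.disjoint_left.mpr fun x _ hx => hx
  · rwa [PrimeSpectrum.zeroLocus_pow I hn]

end Groth.Agent.Lib.KilledBySections
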