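import Groth.Agent.Lib.NumTriv13

/-!
# Kleiman's theorem on nef invertible modules, projective case (helper13)

Part 1: the calculus of products `∏ (br M_i - 1)` in the group ring of isomorphism classes.
-/

set_option autoImplicit false
set_option linter.style.haveILetI false
universe u
open CategoryTheory CategoryTheory.Limits AlgebraicGeometry TopologicalSpace

namespace Groth.Agent.Lib.Kleiman13

open Groth.Agent.Lib Groth.Agent.Lib.IsoCls13 Groth.Agent.Lib.IntNumAlg13 CohB1

section Prod

variable {X : Scheme.{u}}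

/-- `w` is a product of `r` factors `br M - 1` with `M` invertible -/
def IsProd (r : ℕ) (w : R X) : Prop :=
  ∃ M : Fin r → X.Modules, (∀ i, PicF.IsInvertible (M i)) ∧ w = ∏ i, (br (M i) - 1)

theorem isProd_zero : IsProd 0 (1 : R X) := ⟨Fin.elim0, fun i => i.elim0, by simp⟩

theorem isProd_one {M : X.Modules} (hM : PicF.IsInvertible M) : IsProd 1 (br M - 1) :=
  ⟨fun _ => M, fun _ => hM, by simp⟩

theorem IsProd.mul {a b : ℕ} {w w' : R X} (h : IsProd a w) (h' : IsProd b w') : IsProd (a + b) (w * w') := by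
  obtain ⟨M, hM, rfl⟩ := h
  obtain ⟨M', hM', rfl⟩ := h'
  refine ⟨Fin.append M M', ?_, ?_⟩
  · intro i
    refine Fin.addCases (fun j => ?_) (fun j => ?_) i
    · rw [Fin.append_left]; exact hM j
    · rw [Fin.append_right]; exact hM' j
  · rw [Fin.prod_univ_add]
    simp only [Fin.append_left, Fin.append_right]

theorem IsProd.pow {w : R X} (h : IsProd 1 w) : ∀ e : ℕ, IsProd e (w ^ e)
  | 0 => by rw [pow_zero]; exact isProd_zero
  | e + 1 => by rw [pow_succ]; exact (IsProd.pow h e).mul h

theorem prod_sub_one_eq {r : ℕ} (M : Fin r → X.Modules) :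
    ∏ i, (br (M i) - 1) = (-1 : R X) ^ r * ∏ i, (1 - br (M i)) := by
  have h : ∀ i, br (M i) - 1 = - (1 - br (M i)) := fun i => by ring
  simp only [h]
  rw [Finset.prod_neg, Finset.card_univ, Fintype.card_fin]

variable (k : Type u) [Field k] [X.Over (Spec (CommRingCat.of k))]

theorem lin_prod_eq_intNum (D : ℕ) {r : ℕ} (M : Fin r → X.Modules) (F : X.Modules) :
    lin k D ((∏ i, (br (M i) - 1)) * br F) = (-1) ^ r * FGA.intNum k X D M F := by
  rw [prod_sub_one_eq, intNum_eq_lin, mul_assoc]
  have h : ((-1 : R X) ^ r) = (((-1 : ℤ) ^ r : ℤ) : R X) := by push_cast; rfl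
  rw [h, ← zsmul_eq_mul, map_zsmul, smul_eq_mul]

variable [IsProper (X ↘ Spec (CommRingCat.of k))]

theorem lin_isProd_eq_zero (D : ℕ) (hD : topologicalKrullDim X ≤ D) {r s : ℕ} {w : R X} (hw : IsProd r w)
    {z : R X} (hz : z ∈ Small X s) (hsr : s < r) : lin k D (w * z) = 0 := by
  obtain ⟨M, hM, rfl⟩ := hw
  rw [prod_sub_one_eq, mul_assoc]
  have h : ((-1 : R X) ^ r) = (((-1 : ℤ) ^ r : ℤ) : R X) := by push_cast; rfl
  rw [h, ← zsmul_eq_mul, map_zsmul,
    lin_prod_one_sub_mul_eq_zero DegTensor13.snapperHyp k D hD M hM hsr hz, smul_zero]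

end Prod

section Add

variable (k : Type u) [Field k] {X : Scheme.{u}} [X.Over (Spec (CommRingCat.of k))]
  [IsProper (X ↘ Spec (CommRingCat.of k))] (D : ℕ) (hD : topologicalKrullDim X ≤ D)

include hD in
/-- additivity of the top-degree part in one factor -/
theorem lin_mul_tensor {r : ℕ} {w : R X} (hw : IsProd r w) {A B : X.Modules} (hA : PicF.IsInvertible A)
    (hB : PicF.IsInvertible B) {z : R X} (hz : z ∈ Small X (r + 1)) :
    lin k D (w * (br A * br B - 1) * z) = lin k D (w * (br A - 1) * z) + lin k D (w * (br B - 1) * z) := by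
  have hid : w * (br A * br B - 1) * z =
      w * (br A - 1) * z + w * (br B - 1) * z + w * ((br A - 1) * (br B - 1)) * z := by ring
  have h2 : IsProd (r + (1 + 1)) (w * ((br A - 1) * (br B - 1))) :=
    hw.mul ((isProd_one hA).mul (isProd_one hB))
  rw [hid, map_add, map_add, lin_isProd_eq_zero k D hD h2 hz (by omega), add_zero]

include hD in
theorem lin_mul_pow {r : ℕ} {w : R X} (hw : IsProd r w) {P : X.Modules} (hP : PicF.IsInvertible P)
    {z : R X} (hz : z ∈ Small X (r + 1)) (q : ℕ) :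
    lin k D (w * (br P ^ q - 1) * z) = q * lin k D (w * (br P - 1) * z) := by
  induction q with
  | zero => simp
  | succ q ih =>
    have h1 := lin_mul_tensor k D hD hw (H78TensorGen.isInvertible_tensorPow hP q) hP hz
    rw [br_tensorPow] at h1
    rw [pow_succ, h1, ih]
    push_cast
    ring

include hD in
/-- `β - 1 ≡ q u + p v` in top degree, where `β = (br L)^q (br H)^p` -/
theorem lin_mul_beta {r : ℕ} {w : R X} (hw : IsProd r w) {L H : X.Modules} (hL : PicF.IsInvertible L)
    (hH : PicF.IsInvertible H) {z : R X} (hz : z ∈ Small X (r + 1)) (q p : ℕ) :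
    lin k D (w * (br L ^ q * br H ^ p - 1) * z) =
      q * lin k D (w * (br L - 1) * z) + p * lin k D (w * (br H - 1) * z) := by
  have h1 := lin_mul_tensor k D hD hw (H78TensorGen.isInvertible_tensorPow hL q)
    (H78TensorGen.isInvertible_tensorPow hH p) hz
  rw [br_tensorPow, br_tensorPow] at h1
  rw [h1, lin_mul_pow k D hD hw hL hz, lin_mul_pow k D hD hw hH hz]

theorem isProd_beta {L H : X.Modules} (hL : PicF.IsInvertible L) (hH : PicF.IsInvertible H) (q p : ℕ) :
    IsProd 1 (br L ^ q * br H ^ p - 1 : R X) := by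
  have := isProd_one (H78TensorGen.isInvertible_tensorMod (H78TensorGen.isInvertible_tensorPow hL q)
    (H78TensorGen.isInvertible_tensorPow hH p))
  rwa [br_tensorMod, br_tensorPow, br_tensorPow] at this

include hD in
/-- in top degree, `(β - 1)^e` may be replaced by `(q u + p v)^e` -/
theorem lin_beta_pow {L H : X.Modules} (hL : PicF.IsInvertible L) (hH : PicF.IsInvertible H) (q p : ℕ) :
    ∀ (e a : ℕ) (w : R X), IsProd a w → ∀ z ∈ Small X (a + e),
      lin k D (w * (br L ^ q * br H ^ p - 1) ^ e * z) =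
        lin k D (w * ((q : R X) * (br L - 1) + (p : R X) * (br H - 1)) ^ e * z)
  | 0, a, w, _, z, _ => by simp
  | e + 1, a, w, hw, z, hz => by
    have hβ := isProd_beta (X := X) hL hH q p
    have hw1 : IsProd (a + e) (w * (br L ^ q * br H ^ p - 1) ^ e) := hw.mul (hβ.pow e)
    have hz1 : z ∈ Small X (a + e + 1) := by rwa [add_assoc]
    have h1 := lin_mul_beta k D hD hw1 hL hH hz1 q p
    have e1 : w * (br L ^ q * br H ^ p - 1) ^ (e + 1) * z =
        w * (br L ^ q * br H ^ p - 1) ^ e * (br L ^ q * br H ^ p - 1) * z := by ring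
    have hzu : z ∈ Small X (a + 1 + e) := by
      have : a + 1 + e = a + (e + 1) := by omega
      rwa [this]
    have h2 := lin_beta_pow hL hH q p e (a + 1) (w * (br L - 1)) (hw.mul (isProd_one hL)) z hzu
    have h3 := lin_beta_pow hL hH q p e (a + 1) (w * (br H - 1)) (hw.mul (isProd_one hH)) z hzu
    have e2 : w * (br L ^ q * br H ^ p - 1) ^ e * (br L - 1) * z =
        w * (br L - 1) * (br L ^ q * br H ^ p - 1) ^ e * z := by ring
    have e3 : w * (br L ^ q * br H ^ p - 1) ^ e * (br H - 1) * z =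
        w * (br H - 1) * (br L ^ q * br H ^ p - 1) ^ e * z := by ring
    rw [e1, h1, e2, e3, h2, h3]
    have e4 : w * ((q : R X) * (br L - 1) + (p : R X) * (br H - 1)) ^ (e + 1) * z =
        (q : R X) * (w * (br L - 1) * ((q : R X) * (br L - 1) + (p : R X) * (br H - 1)) ^ e * z) +
          (p : R X) * (w * (br H - 1) * ((q : R X) * (br L - 1) + (p : R X) * (br H - 1)) ^ e * z) := by
      ring
    rw [e4, map_add]
    have hq : ∀ y : R X, lin k D ((q : R X) * y) = q * lin k D y := by
      intro y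
      rw [← nsmul_eq_mul, map_nsmul, nsmul_eq_mul]
    have hp : ∀ y : R X, lin k D ((p : R X) * y) = p * lin k D y := by
      intro y
      rw [← nsmul_eq_mul, map_nsmul, nsmul_eq_mul]
    rw [hq, hp]

end Add

section Cut

theorem exists_section_pos {T : Scheme.{u}} [CompactSpace T] [T.IsSeparated] [Nonempty T]
    [IsLocallyNoetherian T] {A : T.Modules} (hA : CohB1.IsAmple A) :
    ∃ t : ℕ, 0 < t ∧ ∃ s : Coh.structureModule T ⟶ CohB1.tensorPow A t, s ≠ 0 := by
  obtain ⟨n₀, h₀⟩ := Groth.Agent.Lib.H78GlobGen2.isGloballyGenerated_twist hA (Coh.structureModule T)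
    (CohFinAmple.isCoh_structureModule T)
  refine ⟨n₀ + 1, Nat.succ_pos _, ?_⟩
  obtain ⟨ι, q, hq⟩ := h₀ (n₀ + 1) (Nat.le_succ _)
  have h : cls (CohB1.tensorMod (Coh.structureModule T) (CohB1.tensorPow A (n₀ + 1))) =
      cls (CohB1.tensorPow A (n₀ + 1)) := by
    rw [cls_tensorMod, cls_one, one_mul]
  obtain ⟨e⟩ := cls_eq_iff.1 h
  exact NumTriv13.exists_ne_zero_of_gg (H78TensorGen.isInvertible_tensorPow hA.1 _)
    ⟨ι, q ≫ e.hom, epi_comp _ _⟩

variable (k : Type u) [Field k]

theorem prod_cons {X : Scheme.{u}} {r : ℕ} (P : X.Modules) (M : Fin r → X.Modules) :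
    ∏ i : Fin (r + 1), (br ((Fin.cons P M : Fin (r + 1) → X.Modules) i) - 1) =
      (br P - 1) * ∏ i, (br (M i) - 1) := by
  rw [Fin.prod_univ_succ]
  simp only [Fin.cons_zero, Fin.cons_succ]

theorem isInvertible_cons {X : Scheme.{u}} {r : ℕ} {P : X.Modules} (hP : PicF.IsInvertible P)
    {M : Fin r → X.Modules} (hM : ∀ i, PicF.IsInvertible (M i)) :
    ∀ i, PicF.IsInvertible ((Fin.cons P M : Fin (r + 1) → X.Modules) i) := by
  intro i
  refine Fin.cases ?_ (fun j => ?_) i
  · simpa using hP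
  · simpa using hM j

/-- the cutting step on an integral scheme -/
theorem lin_cut_structureModule (D r : ℕ) (T : Scheme.{u})
    [T.Over (Spec (CommRingCat.of k))] [IsProper (T ↘ Spec (CommRingCat.of k))] [IsIntegral T]
    (hDT : topologicalKrullDim T ≤ D) (hdim : topologicalKrullDim T ≤ ((r + 1 : ℕ) : WithBot ℕ∞))
    {A : T.Modules} (hA : CohB1.IsAmple A) (M : Fin r → T.Modules) (hM : ∀ i, PicF.IsInvertible (M i))
    (h : ∀ G : T.Modules, Coh.IsCoh G → topologicalKrullDim (CohB1.support G) ≤ (r : WithBot ℕ∞) →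
      0 ≤ lin k D ((∏ i, (br (M i) - 1)) * br G)) :
    0 ≤ lin k D ((∏ i, (br (M i) - 1)) * (br A - 1) * br (Coh.structureModule T)) := by
  haveI := EulerLE48.isLocallyNoetherian k T
  haveI : CompactSpace T := EulerChar54.compactSpace_of_isProper k T
  haveI : T.IsSeparated :=
    Groth.Agent.Lib.H90ProperFin.isSeparated_of_over_affine (T ↘ (Spec (CommRingCat.of k)))
  obtain ⟨t, ht, s, hs⟩ := exists_section_pos hA
  have hP : PicF.IsInvertible (CohB1.tensorPow A t) := H78TensorGen.isInvertible_tensorPow hA.1 t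
  have hLD : ClSub.IsInverseOf (CohB1.tensorPow A t) (ClSub.idealMod (PicF2.zeroScheme _ s)) :=
    NMZero13.nonempty_tensor_idealMod_iso hP s hs
  have hL := isInvertible_cons hP hM
  have h1 := SnapCoeff13.intNum_quotMod_of_isEffCartier k r hdim (PicF2.zeroScheme _ s)
    (Fin.cons (CohB1.tensorPow A t) M : Fin (r + 1) → T.Modules) hL (by simpa using hLD)
  have h2 : (fun j : Fin r => (Fin.cons (CohB1.tensorPow A t) M : Fin (r + 1) → T.Modules) j.succ) = M := by
    funext j; simp
  rw [h2, NumTriv13.intNum_congr_D k (r + 1) D hdim hDT, NumTriv13.intNum_congr_D k (r + 1) D hdim hDT] at h1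
  -- dimension of the divisor
  have hsupp := NMZero13.support_zeroScheme_ne_univ hP s hs
  have h3 := DimDrop.topologicalKrullDim_add_one_le_of_ssubset
    (S := ((PicF2.zeroScheme _ s).support : Set T)) (T := Set.univ)
    (PicF2.zeroScheme _ s).support.isClosed (IrreducibleSpace.isIrreducible_univ _) (Set.subset_univ _) hsupp
  rw [NMMain13.dim_univ] at h3
  have h4 : topologicalKrullDim (CohB1.support (ClSub.quotMod (PicF2.zeroScheme _ s))) ≤ (r : WithBot ℕ∞) :=
    (SnapCoeff13.dim_support_quotMod_le _).trans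
      (IntNumCalc13.le_of_lt_succ_withBot (NMMain13.lt_of_add_one_le (h3.trans hdim)))
  have h5 := h _ (SnapCoeff13.isCoh_quotMod _) h4
  rw [lin_prod_eq_intNum, h1] at h5
  -- the multiple
  have hw : IsProd r (∏ i, (br (M i) - 1)) := ⟨M, hM, rfl⟩
  have hz : br (Coh.structureModule T) ∈ Small T (r + 1) :=
    br_mem_Small (CohFinAmple.isCoh_structureModule T) ((DegTensor13.topologicalKrullDim_set_le _).trans hdim)
  have h6 := lin_mul_pow k D hDT hw hA.1 hz t
  have h7 := lin_prod_eq_intNum k D (Fin.cons (CohB1.tensorPow A t) M : Fin (r + 1) → T.Modules)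
    (Coh.structureModule T)
  rw [prod_cons, br_tensorPow, mul_comm (br A ^ t - 1)] at h7
  rw [h7] at h6
  have h8 : (0 : ℤ) ≤ (t : ℤ) * lin k D ((∏ i, (br (M i) - 1)) * (br A - 1) * br (Coh.structureModule T)) := by
    rw [← h6, pow_succ]
    linarith
  have ht' : (0 : ℤ) < (t : ℤ) := by exact_mod_cast ht
  exact nonneg_of_mul_nonneg_right h8 ht'

end Cut

end Groth.Agent.Lib.Kleiman13
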