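import Groth.Agent.Lib.Kleiman13
import Groth.Agent.Lib.NumPull13
import Groth.Agent.Lib.AmplePos13
import Groth.Agent.Lib.H78CohIso

/-!
# Kleiman's theorem, part 2 (helper13): transfer to closed subschemes, the general cutting lemma, nefness on coherent
modules
-/

set_option autoImplicit false
set_option linter.style.haveILetI false
universe u
open CategoryTheory CategoryTheory.Limits AlgebraicGeometry TopologicalSpace

namespace Groth.Agent.Lib.KleimanB13

open Groth.Agent.Lib Groth.Agent.Lib.IsoCls13 Groth.Agent.Lib.IntNumAlg13 CohB1 Groth.Agent.Lib.Kleiman13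

section PB

variable {X T : Scheme.{u}} (j : T ⟶ X)

/-- `w'` is the pullback along `j` of the product `w` of `r` factors `br M - 1` -/
def PB (r : ℕ) (w : R X) (w' : R T) : Prop :=
  ∃ M : Fin r → X.Modules, (∀ i, PicF.IsInvertible (M i)) ∧ w = ∏ i, (br (M i) - 1) ∧
    w' = ∏ i, (br ((Scheme.Modules.pullback j).obj (M i)) - 1)

theorem pb_zero : PB j 0 (1 : R X) (1 : R T) := ⟨Fin.elim0, fun i => i.elim0, by simp, by simp⟩

theorem pb_one {M : X.Modules} (hM : PicF.IsInvertible M) :
    PB j 1 (br M - 1) (br ((Scheme.Modules.pullback j).obj M) - 1) :=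
  ⟨fun _ => M, fun _ => hM, by simp, by simp⟩

variable {j}

theorem PB.mul {a b : ℕ} {w z : R X} {w' z' : R T} (h : PB j a w w') (h' : PB j b z z') :
    PB j (a + b) (w * z) (w' * z') := by
  obtain ⟨M, hM, rfl, rfl⟩ := h
  obtain ⟨M', hM', rfl, rfl⟩ := h'
  refine ⟨Fin.append M M', ?_, ?_, ?_⟩
  · intro i
    refine Fin.addCases (fun j => ?_) (fun j => ?_) i
    · rw [Fin.append_left]; exact hM j
    · rw [Fin.append_right]; exact hM' j
  · rw [Fin.prod_univ_add]
    simp only [Fin.append_left, Fin.append_right]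
  · rw [Fin.prod_univ_add]
    simp only [Fin.append_left, Fin.append_right]

theorem PB.pow {w : R X} {w' : R T} (h : PB j 1 w w') : ∀ e : ℕ, PB j e (w ^ e) (w' ^ e)
  | 0 => by rw [pow_zero, pow_zero]; exact pb_zero j
  | e + 1 => by rw [pow_succ, pow_succ]; exact (PB.pow h e).mul h

theorem PB.isProd_left {r : ℕ} {w : R X} {w' : R T} (h : PB j r w w') : IsProd r w := by
  obtain ⟨M, hM, rfl, rfl⟩ := h
  exact ⟨M, hM, rfl⟩

theorem PB.isProd_right {r : ℕ} {w : R X} {w' : R T} (h : PB j r w w') : IsProd r w' := by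
  obtain ⟨M, hM, rfl, rfl⟩ := h
  exact ⟨_, fun i => H90Invertible.isInvertible_pullback j (hM i), rfl⟩

variable (k : Type u) [Field k] [X.Over (Spec (CommRingCat.of k))] [IsProper (X ↘ Spec (CommRingCat.of k))]

/-- **projection formula** in the group ring -/
theorem PB.lin_push [IsClosedImmersion j] (D : ℕ) (hD : topologicalKrullDim X ≤ D) {r : ℕ} {w : R X} {w' : R T}
    (h : PB j r w w') (G : T.Modules) [G.IsQuasicoherent] :
    letI : T.Over (Spec (CommRingCat.of k)) := ⟨j ≫ (X ↘ Spec (CommRingCat.of k))⟩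
    lin k D (w * br ((Scheme.Modules.pushforward j).obj G)) = lin k D (w' * br G) := by
  letI : T.Over (Spec (CommRingCat.of k)) := ⟨j ≫ (X ↘ Spec (CommRingCat.of k))⟩
  obtain ⟨M, hM, rfl, rfl⟩ := h
  rw [lin_prod_eq_intNum, lin_prod_eq_intNum, NumTriv13.intNum_pushforward k j D hD M hM G]

/-- transfer of a nonnegativity hypothesis to a closed subscheme -/
theorem PB.nonneg [IsClosedImmersion j] (D : ℕ) (hD : topologicalKrullDim X ≤ D) {r s : ℕ} {w : R X} {w' : R T}
    (h : PB j r w w')
    (hnn : ∀ F : X.Modules, Coh.IsCoh F → topologicalKrullDim (CohB1.support F) ≤ (s : WithBot ℕ∞) →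
      0 ≤ lin k D (w * br F)) :
    letI : T.Over (Spec (CommRingCat.of k)) := ⟨j ≫ (X ↘ Spec (CommRingCat.of k))⟩
    ∀ G : T.Modules, Coh.IsCoh G → topologicalKrullDim (CohB1.support G) ≤ (s : WithBot ℕ∞) →
      0 ≤ lin k D (w' * br G) := by
  letI : T.Over (Spec (CommRingCat.of k)) := ⟨j ≫ (X ↘ Spec (CommRingCat.of k))⟩
  intro G hG hdim
  haveI : G.IsQuasicoherent := hG.1
  have := EulerLE48.isLocallyNoetherian k X
  have hFcoh : Coh.IsCoh ((Scheme.Modules.pushforward j).obj G) :=
    H90OXModPushFinite.isCoh_pushforward j G hG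
  rw [← PB.lin_push k D hD h G]
  refine hnn _ hFcoh ?_
  rw [NMPull13.support_pushforward, NMPull13.topologicalKrullDim_image j.isEmbedding]
  exact hdim

end PB

section Basic

variable (k : Type u) [Field k] {X : Scheme.{u}} [X.Over (Spec (CommRingCat.of k))]
  [IsProper (X ↘ Spec (CommRingCat.of k))] (D : ℕ) (hD : topologicalKrullDim X ≤ D)

include hD in
theorem lin_add_of_shortExact {r : ℕ} {w : R X} (hw : IsProd r w) (S : ShortComplex X.Modules)
    (hS : S.ShortExact) (h1 : Coh.IsCoh S.X₁) (h2 : Coh.IsCoh S.X₂) (h3 : Coh.IsCoh S.X₃) :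
    lin k D (w * br S.X₂) = lin k D (w * br S.X₁) + lin k D (w * br S.X₃) := by
  obtain ⟨M, hM, rfl⟩ := hw
  rw [lin_prod_eq_intNum, lin_prod_eq_intNum, lin_prod_eq_intNum,
    SnapCoeff13.intNum_add_of_shortExact k D hD _ hM S hS h1 h2 h3, mul_add]

include hD in
theorem lin_eq_zero_of_dim_lt {r : ℕ} {w : R X} (hw : IsProd r w) {E : X.Modules} (hE : Coh.IsCoh E)
    (hlt : topologicalKrullDim (CohB1.support E) < (r : WithBot ℕ∞)) : lin k D (w * br E) = 0 := by
  obtain ⟨M, hM, rfl⟩ := hw
  rw [lin_prod_eq_intNum, IntNumCalc13.intNum_eq_zero_of_dim_lt DegTensor13.snapperHyp k D hD _ hM E hE hlt,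
    mul_zero]

include hD in
/-- **the cutting lemma**: nonnegativity against `w` in dimension `r` gives nonnegativity against `w · (A - 1)` in
dimension `r + 1`, for `A` ample -/
theorem lin_cut {r : ℕ} {w : R X} (hw : IsProd r w) {A : X.Modules} (hA : CohB1.IsAmple A)
    (h : ∀ G : X.Modules, Coh.IsCoh G → topologicalKrullDim (CohB1.support G) ≤ (r : WithBot ℕ∞) →
      0 ≤ lin k D (w * br G)) :
    ∀ F : X.Modules, Coh.IsCoh F → topologicalKrullDim (CohB1.support F) ≤ ((r + 1 : ℕ) : WithBot ℕ∞) →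
      0 ≤ lin k D (w * (br A - 1) * br F) := by
  intro F hF hdim
  haveI := EulerLE48.isNoetherian k X
  have hwA : IsProd (r + 1) (w * (br A - 1)) := hw.mul (isProd_one hA.1)
  obtain ⟨M, hM, rfl⟩ := hw
  refine DevPos13.nonneg_of_hub (fun E => lin k D ((∏ i, (br (M i) - 1)) * (br A - 1) * br E)) (r + 1)
    (fun S hS h1 h2 h3 => lin_add_of_shortExact k D hD hwA S hS h1 h2 h3)
    (fun E hE hlt => lin_eq_zero_of_dim_lt k D hD hwA hE hlt)
    (fun Zc hirr hd => ?_) hF hdim
  obtain ⟨I, hI⟩ : ∃ I : X.IdealSheafData, I = Scheme.IdealSheafData.vanishingIdeal Zc := ⟨_, rfl⟩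
  change 0 ≤ lin k D ((∏ i, (br (M i) - 1)) * (br A - 1) *
    br ((Scheme.Modules.pushforward (Scheme.IdealSheafData.vanishingIdeal Zc).subschemeι).obj
      (Coh.structureModule (Scheme.IdealSheafData.vanishingIdeal Zc).subscheme)))
  rw [← hI]
  letI : I.subscheme.Over (Spec (CommRingCat.of k)) := ⟨I.subschemeι ≫ (X ↘ Spec (CommRingCat.of k))⟩
  haveI : IsProper (I.subscheme ↘ Spec (CommRingCat.of k)) := by
    change IsProper (I.subschemeι ≫ (X ↘ Spec (CommRingCat.of k)))
    infer_instance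
  haveI : IsIntegral I.subscheme := by rw [hI]; exact H90DevAtom.isIntegral_subscheme Zc hirr
  haveI : (Coh.structureModule I.subscheme).IsQuasicoherent :=
    (CohFinAmple.isCoh_structureModule I.subscheme).1
  have hpb0 : PB I.subschemeι r (∏ i, (br (M i) - 1))
      (∏ i, (br ((Scheme.Modules.pullback I.subschemeι).obj (M i)) - 1)) := ⟨M, hM, rfl, rfl⟩
  have hpb := hpb0.mul (pb_one I.subschemeι hA.1)
  rw [PB.lin_push k D hD hpb (Coh.structureModule I.subscheme)]
  have hdT : topologicalKrullDim I.subscheme = ((r + 1 : ℕ) : WithBot ℕ∞) := by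
    rw [NMMain13.dim_subscheme, hI, Scheme.IdealSheafData.coe_support_vanishingIdeal]; exact hd
  have hDT : topologicalKrullDim I.subscheme ≤ D := by
    rw [NMMain13.dim_subscheme]
    exact (topologicalKrullDim_subspace_le _ _).trans hD
  exact lin_cut_structureModule k D r I.subscheme hDT hdT.le
    (H78PullAmple.isAmple_pullback_of_isAffineHom I.subschemeι hA) _
    (fun i => H90Invertible.isInvertible_pullback I.subschemeι (hM i))
    (PB.nonneg k D hD hpb0 h)

end Basic

section Nef

variable (k : Type u) [Field k] {X : Scheme.{u}} [X.Over (Spec (CommRingCat.of k))]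
  [IsProper (X ↘ Spec (CommRingCat.of k))]

/-- nefness, tested on coherent modules with support of dimension `≤ 1` -/
def NefCoh (D : ℕ) (L : X.Modules) : Prop :=
  ∀ F : X.Modules, Coh.IsCoh F → topologicalKrullDim (CohB1.support F) ≤ ((1 : ℕ) : WithBot ℕ∞) →
    0 ≤ lin k D ((br L - 1) * br F)

theorem nefCoh_pullback {T : Scheme.{u}} (j : T ⟶ X) [IsClosedImmersion j] (D : ℕ)
    (hD : topologicalKrullDim X ≤ D) {L : X.Modules} (hL : PicF.IsInvertible L) (h : NefCoh k D L) :
    letI : T.Over (Spec (CommRingCat.of k)) := ⟨j ≫ (X ↘ Spec (CommRingCat.of k))⟩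
    NefCoh k D ((Scheme.Modules.pullback j).obj L) :=
  PB.nonneg k D hD (pb_one j hL) h

/-- nefness on integral curves implies nefness on coherent modules -/
theorem nefCoh_of_curves (D : ℕ) (hD : topologicalKrullDim X ≤ D) {L : X.Modules} (hL : PicF.IsInvertible L)
    (h : ∀ (Y : Scheme.{u}) (i : Y ⟶ X) [IsClosedImmersion i], IsIntegral Y → topologicalKrullDim Y = 1 →
      0 ≤ Pic13.curveDeg k (i ≫ (X ↘ Spec (CommRingCat.of k))) ((Scheme.Modules.pullback i).obj L)) :
    NefCoh k D L := by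
  intro F hF hdim
  haveI := EulerLE48.isNoetherian k X
  have hw : IsProd 1 (br L - 1) := isProd_one hL
  refine DevPos13.nonneg_of_hub (fun E => lin k D ((br L - 1) * br E)) 1
    (fun S hS h1 h2 h3 => lin_add_of_shortExact k D hD hw S hS h1 h2 h3)
    (fun E hE hlt => lin_eq_zero_of_dim_lt k D hD hw hE hlt)
    (fun Zc hirr hd => ?_) hF hdim
  obtain ⟨I, hI⟩ : ∃ I : X.IdealSheafData, I = Scheme.IdealSheafData.vanishingIdeal Zc := ⟨_, rfl⟩
  change 0 ≤ lin k D ((br L - 1) * br (ClSub.quotMod (Scheme.IdealSheafData.vanishingIdeal Zc)))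
  rw [← hI]
  haveI : IsIntegral I.subscheme := by rw [hI]; exact H90DevAtom.isIntegral_subscheme Zc hirr
  have hdimI : topologicalKrullDim I.subscheme = 1 := by
    rw [NMMain13.dim_subscheme, hI, Scheme.IdealSheafData.coe_support_vanishingIdeal]; exact hd
  have h1 := h I.subscheme I.subschemeι inferInstance hdimI
  have hle : topologicalKrullDim I.subscheme ≤ (1 : ℕ) := by rw [hdimI]; rfl
  rw [NumPull13.curveDeg_eq_of_isFinite k I.subschemeι hle hL] at h1
  rw [sub_mul, one_mul, map_sub, mul_comm, ← br_tensorMod, lin_br, lin_br,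
    EulerLE48.eulerCharLE_eq_euler k X DegTensor13.vanHyp D hD,
    EulerLE48.eulerCharLE_eq_euler k X DegTensor13.vanHyp D hD]
  exact h1

end Nef

section Top

theorem isIso_iZ_top (T : Scheme.{u}) [IsReduced T] : IsIso (H90DevCanon.iZ (⊤ : Closeds T)) := by
  haveI : Surjective (H90DevCanon.iZ (⊤ : Closeds T)) := ⟨by
    rw [← Set.range_eq_univ, Scheme.IdealSheafData.range_subschemeι,
      Scheme.IdealSheafData.vanishingIdeal_top, Scheme.support_nilradical]
    rfl⟩
  exact isIso_of_isClosedImmersion_of_surjective _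

theorem br_hub_top (T : Scheme.{u}) [IsReduced T] :
    br (H90DevCanon.hub (⊤ : Closeds T)) = br (Coh.structureModule T) := by
  haveI := isIso_iZ_top T
  haveI := H78CohIso.isIso_unitToPush (H90DevCanon.iZ (⊤ : Closeds T))
  exact (br_eq_of_iso (asIso (ClSub.unitToPush (H90DevCanon.iZ (⊤ : Closeds T))))).symm

variable (k : Type u) [Field k] {X : Scheme.{u}} [X.Over (Spec (CommRingCat.of k))]
  [IsProper (X ↘ Spec (CommRingCat.of k))]

/-- on an integral scheme of dimension `n`, positivity of a degree-`n` form on the structure sheaf gives positivity on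
every coherent module of full-dimensional support -/
theorem lin_pos_of_top [IsIntegral X] (D : ℕ) (hD : topologicalKrullDim X ≤ D) {n : ℕ}
    (hdim : topologicalKrullDim X = (n : WithBot ℕ∞)) {w : R X} (hw : IsProd n w)
    (hpos : 0 < lin k D (w * br (Coh.structureModule X))) :
    ∀ G : X.Modules, Coh.IsCoh G → topologicalKrullDim (CohB1.support G) = (n : WithBot ℕ∞) →
      0 < lin k D (w * br G) := by
  intro G hG hdG
  haveI := EulerLE48.isNoetherian k X
  refine DevPos13.pos_of_hub (fun E => lin k D (w * br E)) n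
    (fun S hS h1 h2 h3 => lin_add_of_shortExact k D hD hw S hS h1 h2 h3)
    (fun E hE hlt => lin_eq_zero_of_dim_lt k D hD hw hE hlt)
    (fun Zc hirr hd => ?_) hG hdG
  have hZ : Zc = ⊤ := by
    by_contra hne
    have hne' : (Zc : Set X) ≠ Set.univ := fun h => hne (SetLike.coe_injective h)
    have h3 := DimDrop.topologicalKrullDim_add_one_le_of_ssubset (S := (Zc : Set X)) (T := Set.univ)
      Zc.isClosed (IrreducibleSpace.isIrreducible_univ _) (Set.subset_univ _) hne'
    rw [NMMain13.dim_univ, hdim] at h3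
    have h4 := NMMain13.lt_of_add_one_le h3
    rw [hd] at h4
    exact lt_irrefl _ h4
  subst hZ
  change 0 < lin k D (w * br (H90DevCanon.hub ⊤))
  rw [br_hub_top]
  exact hpos

end Top

section Pos

variable (k : Type u) [Field k] {X : Scheme.{u}} [X.Over (Spec (CommRingCat.of k))]
  [IsProper (X ↘ Spec (CommRingCat.of k))] (D : ℕ) (hD : topologicalKrullDim X ≤ D)

include hD in
/-- the top self-intersection number is `e!` times the `e`-th Hilbert coefficient -/
theorem lin_pow_eq_coeff {B : X.Modules} (hB : PicF.IsInvertible B) {F : X.Modules} (hF : Coh.IsCoh F) {e : ℕ}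
    (hdim : topologicalKrullDim (CohB1.support F) ≤ (e : WithBot ℕ∞)) (p : Polynomial ℚ)
    (hp : ShStab.IsHilbPoly k X B F p) :
    ((lin k D ((br B - 1) ^ e * br F) : ℤ) : ℚ) = (e.factorial : ℚ) * p.coeff e := by
  haveI := EulerLE48.isNoetherian k X
  have H : ProperFinHyp.Hyp.{u} := SnapCoeff13.properFinHyp
  have hpd : p.natDegree ≤ e := HilbPoly48.natDegree_le_of_isHilbPoly k X H hB hF e hdim hp
  obtain ⟨P, -, hP⟩ := SnapperCurv13.snapper_euler k X F hF e hdim e (fun _ => B) (fun _ => hB)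
  have h1 := SnapCoeff13.coeff_ones_eq_intNum k D hD F hF hdim _ (fun _ => hB) P hP
  have h2 := NMBasic13.coeff_ones_eq_factorial_mul' k X B hB F hF hdim P hP p hpd hp
  have h3 := lin_prod_eq_intNum k D (fun _ : Fin e => B) F
  rw [Finset.prod_const, Finset.card_univ, Fintype.card_fin] at h3
  rw [h3, ← h2, h1]

include hD in
theorem lin_pos_of_isAmple {H : X.Modules} (hH : CohB1.IsAmple H) {F : X.Modules} (hF : Coh.IsCoh F) {e : ℕ}
    (hdim : topologicalKrullDim (CohB1.support F) = (e : WithBot ℕ∞)) :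
    0 < lin k D ((br H - 1) ^ e * br F) := by
  haveI := EulerLE48.isNoetherian k X
  have Hh : ProperFinHyp.Hyp.{u} := SnapCoeff13.properFinHyp
  obtain ⟨q, -, hq⟩ := HilbPoly48.exists_isHilbPoly k X Hh hH.1 hF e hdim.le
  have hqpos : 0 < q.coeff e := HilbPoly48.coeff_pos Hh k X hH hF e hdim hq
  have h := lin_pow_eq_coeff k D hD hH.1 hF hdim.le q hq
  have hfac : (0 : ℚ) < e.factorial := by exact_mod_cast e.factorial_pos
  have h1 : (0 : ℚ) < ((lin k D ((br H - 1) ^ e * br F) : ℤ) : ℚ) := by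
    rw [h]; exact mul_pos hfac hqpos
  exact_mod_cast h1

include hD in
/-- **Nakai–Moishezon**, group ring form -/
theorem isAmple_of_lin_pos {B : X.Modules} (hB : PicF.IsInvertible B)
    (h : ∀ F : X.Modules, Coh.IsCoh F → ∀ e : ℕ, 0 < e →
      topologicalKrullDim (CohB1.support F) = (e : WithBot ℕ∞) → 0 < lin k D ((br B - 1) ^ e * br F)) :
    CohB1.IsAmple B := by
  refine NMMain13.isAmple_of_sPos k hB ?_
  intro F hF e he hdim p hp
  have h1 := lin_pow_eq_coeff k D hD hB hF hdim.le p hp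
  have h2 := h F hF e he hdim
  have hfac : (0 : ℚ) < e.factorial := by exact_mod_cast e.factorial_pos
  have h3 : (0 : ℚ) < (e.factorial : ℚ) * p.coeff e := by
    rw [← h1]; exact_mod_cast h2
  exact (mul_pos_iff_of_pos_left hfac).1 h3

end Pos

end Groth.Agent.Lib.KleimanB13
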