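import Mathlib

/-!
# Kleiman's theorem, the numerical part (helper13)

* `analytic`: a continuous function `g` on `ℝ` with `g 0 ≤ g t` for `t ≥ 0` such that, for all positive rationals `t`,
  `0 ≤ g t` or `g t ≤ - c t ^ N` (`c > 0`, `N ≥ 1`) satisfies `0 ≤ g 0`.
* `numeric`: the integer form used in the proof of Kleiman's theorem.
-/

set_option autoImplicit false

namespace Groth.Agent.Lib.KleimanNum13

open Finset

theorem analytic (g : ℝ → ℝ) (hg : Continuous g) (c : ℝ) (hc : 0 < c) (N : ℕ) (hN : 1 ≤ N)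
    (hmono : ∀ t : ℝ, 0 ≤ t → g 0 ≤ g t)
    (hdich : ∀ q p : ℕ, 0 < q → 0 < p → 0 ≤ g ((p : ℝ) / q) ∨ g ((p : ℝ) / q) ≤ - c * ((p : ℝ) / q) ^ N) :
    0 ≤ g 0 := by
  by_contra hneg
  push Not at hneg
  set S : Set ℝ := {t | 0 ≤ t ∧ 0 ≤ g t} with hS
  by_cases hSe : S.Nonempty
  · have hclosed : IsClosed S := by
      have h1 : IsClosed {t : ℝ | 0 ≤ t} := isClosed_Ici
      have h2 : IsClosed {t : ℝ | 0 ≤ g t} := isClosed_le continuous_const hg
      exact h1.inter h2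
    have hbdd : BddBelow S := ⟨0, fun t ht => ht.1⟩
    have hmem : sInf S ∈ S := hclosed.csInf_mem hSe hbdd
    set t₁ := sInf S with ht₁
    have ht₁0 : 0 < t₁ := by
      rcases hmem.1.lt_or_eq with h | h
      · exact h
      · exfalso
        have := hmem.2
        rw [← h] at this
        exact absurd this (not_le.2 hneg)
    -- the function `g t + c t^N` is positive near `t₁`
    have hh : Continuous fun t : ℝ => g t + c * t ^ N := hg.add (continuous_const.mul (continuous_pow N))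
    have hpos : 0 < g t₁ + c * t₁ ^ N := by
      have := hmem.2
      have h2 : 0 < c * t₁ ^ N := mul_pos hc (pow_pos ht₁0 N)
      linarith
    have hopen : IsOpen {t : ℝ | 0 < g t + c * t ^ N} := isOpen_lt continuous_const hh
    obtain ⟨l, u, ⟨hl, hu⟩, hsub⟩ := mem_nhds_iff_exists_Ioo_subset.1 (hopen.mem_nhds hpos)
    obtain ⟨r, hr1, hr2⟩ := exists_rat_btwn (max_lt hl ht₁0)
    have hr0 : (0 : ℝ) < r := lt_of_le_of_lt (le_max_right _ _) hr1
    have hrl : l < (r : ℝ) := lt_of_le_of_lt (le_max_left _ _) hr1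
    have hr0' : 0 < r := by exact_mod_cast hr0
    have hnum : 0 < r.num := Rat.num_pos.2 hr0'
    have hcast : (r : ℝ) = ((r.num.toNat : ℕ) : ℝ) / ((r.den : ℕ) : ℝ) := by
      have h1 : ((r.num.toNat : ℕ) : ℝ) = ((r.num : ℤ) : ℝ) := by
        have : ((r.num.toNat : ℕ) : ℤ) = r.num := Int.toNat_of_nonneg hnum.le
        exact_mod_cast congrArg (fun z : ℤ => (z : ℝ)) this
      rw [h1]
      exact Rat.cast_def r
    have hnotS : (r : ℝ) ∉ S := notMem_of_lt_csInf hr2 hbdd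
    have hgr : ¬ 0 ≤ g r := fun h => hnotS ⟨hr0.le, h⟩
    have hd := hdich r.den r.num.toNat r.den_pos (by omega)
    rw [← hcast] at hd
    rcases hd with hd | hd
    · exact hgr hd
    · have hin : (r : ℝ) ∈ {t : ℝ | 0 < g t + c * t ^ N} := hsub ⟨hrl, lt_trans hr2 hu⟩
      have : 0 < g r + c * (r : ℝ) ^ N := hin
      linarith
  · -- `g` is negative on `[0, ∞)`
    have hall : ∀ t : ℝ, 0 ≤ t → g t < 0 := by
      intro t ht
      by_contra h
      exact hSe ⟨t, ht, not_lt.1 h⟩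
    obtain ⟨p, hp⟩ := exists_nat_gt (- g 0 / c)
    have hp1 : (1 : ℝ) ≤ ((p + 1 : ℕ) : ℝ) := by push_cast; linarith [Nat.cast_nonneg (α := ℝ) p]
    have hd := hdich 1 (p + 1) one_pos (Nat.succ_pos p)
    simp only [Nat.cast_one, div_one] at hd
    rcases hd with hd | hd
    · exact absurd hd (not_le.2 (hall _ (by positivity)))
    · have h1 : ((p + 1 : ℕ) : ℝ) ≤ ((p + 1 : ℕ) : ℝ) ^ N := le_self_pow₀ hp1 (by omega)
      have h2 := hmono ((p + 1 : ℕ) : ℝ) (by positivity)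
      have h3 : - g 0 < c * ((p + 1 : ℕ) : ℝ) := by
        have : - g 0 / c < ((p + 1 : ℕ) : ℝ) := by push_cast; linarith
        rw [div_lt_iff₀ hc] at this
        linarith
      have h4 : c * ((p + 1 : ℕ) : ℝ) ≤ c * ((p + 1 : ℕ) : ℝ) ^ N := mul_le_mul_of_nonneg_left h1 hc.le
      linarith

theorem numeric (d : ℕ) (ψ : ℕ → ℤ) (c₀ : ℤ) (hc₀ : 0 < c₀) (hψ : ∀ m < d, 0 ≤ ψ m)
    (Ψ Ω : ℕ → ℕ → ℤ)
    (hΨ : ∀ q p : ℕ, Ψ q p = ∑ m ∈ range (d + 1), ((d.choose m * q ^ m * p ^ (d - m) : ℕ) : ℤ) * ψ m)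
    (hΩ : ∀ q p : ℕ, (p : ℤ) ^ d * c₀ ≤ Ω q p)
    (hkey : ∀ q p : ℕ, 0 < q → 0 < p → 0 < (q : ℤ) * Ψ q p + p * Ω q p → 0 ≤ Ψ q p) : 0 ≤ ψ d := by
  set g : ℝ → ℝ := fun t => ∑ m ∈ range (d + 1), ((d.choose m : ℝ) * (ψ m : ℝ)) * t ^ (d - m) with hg
  have hcont : Continuous g := continuous_finsetSum _ (fun m _ => continuous_const.mul (continuous_pow _))
  have hg0 : g 0 = ψ d := by
    simp only [hg]
    rw [Finset.sum_eq_single d]
    · simp
    · intro m hm hmd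
      have : d - m ≠ 0 := by have := mem_range.1 hm; omega
      rw [zero_pow this, mul_zero]
    · intro h; exact absurd (mem_range.2 (Nat.lt_succ_self d)) h
  have hmono : ∀ t, 0 ≤ t → g 0 ≤ g t := by
    intro t ht
    simp only [hg]
    refine Finset.sum_le_sum fun m hm => ?_
    rcases (Nat.lt_succ_iff.1 (mem_range.1 hm)).lt_or_eq with h | h
    · have : d - m ≠ 0 := by omega
      rw [zero_pow this, mul_zero]
      have h1 : (0 : ℝ) ≤ (ψ m : ℝ) := by exact_mod_cast hψ m h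
      positivity
    · subst h; simp
  have hΨg : ∀ q p : ℕ, 0 < q → ((Ψ q p : ℤ) : ℝ) = (q : ℝ) ^ d * g ((p : ℝ) / q) := by
    intro q p hq
    have hq' : (q : ℝ) ≠ 0 := by positivity
    rw [hΨ]
    simp only [hg]
    push_cast
    rw [Finset.mul_sum]
    refine Finset.sum_congr rfl fun m hm => ?_
    have hmd : m ≤ d := Nat.lt_succ_iff.1 (mem_range.1 hm)
    have : (q : ℝ) ^ d = (q : ℝ) ^ m * (q : ℝ) ^ (d - m) := by rw [← pow_add]; congr 1; omega
    rw [this, div_pow]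
    field_simp
  have hres := analytic g hcont (c₀ : ℝ) (by exact_mod_cast hc₀) (d + 1) (by omega) hmono ?_
  · rw [hg0] at hres; exact_mod_cast hres
  · intro q p hq hp
    have hq' : (0 : ℝ) < (q : ℝ) := by positivity
    have hqd : (0 : ℝ) < (q : ℝ) ^ d := by positivity
    have hqd1 : (0 : ℝ) < (q : ℝ) ^ (d + 1) := by positivity
    by_cases h : 0 ≤ Ψ q p
    · left
      have h1 : (0 : ℝ) ≤ ((Ψ q p : ℤ) : ℝ) := by exact_mod_cast h
      rw [hΨg q p hq] at h1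
      exact nonneg_of_mul_nonneg_right h1 hqd
    · right
      have h2 : ¬ (0 < (q : ℤ) * Ψ q p + p * Ω q p) := fun h' => h (hkey q p hq hp h')
      push Not at h2
      have h3 := hΩ q p
      have h4 : (q : ℤ) * Ψ q p ≤ - ((p : ℤ) ^ (d + 1) * c₀) := by
        have : (p : ℤ) * ((p : ℤ) ^ d * c₀) ≤ p * Ω q p := mul_le_mul_of_nonneg_left h3 (by positivity)
        rw [pow_succ]; linarith
      have h5 : ((q : ℝ)) * ((Ψ q p : ℤ) : ℝ) ≤ - ((p : ℝ) ^ (d + 1) * c₀) := by exact_mod_cast h4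
      rw [hΨg q p hq] at h5
      have h6 : (q : ℝ) ^ (d + 1) * g ((p : ℝ) / q) ≤ -((p : ℝ) ^ (d + 1) * c₀) := by
        rw [pow_succ']; linarith [h5]
      rw [div_pow, show -(c₀ : ℝ) * ((p : ℝ) ^ (d + 1) / (q : ℝ) ^ (d + 1)) =
        (-((p : ℝ) ^ (d + 1) * c₀)) / (q : ℝ) ^ (d + 1) by ring, le_div_iff₀ hqd1]
      linarith [h6]

end Groth.Agent.Lib.KleimanNum13
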