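import Groth.Agent.Lib.KleimanB13
import Groth.Agent.Lib.KleimanNum13

/-!
# Kleiman's theorem, part 3 (helper13): the induction

`kAll`: on a proper `k`-scheme with an ample `H`, a nef invertible `L` has `(L^a · H^b · F) ≥ 0` for every coherent `F`
with `dim Supp F ≤ a + b`.
-/

set_option autoImplicit false
set_option linter.style.haveILetI false
universe u
open CategoryTheory CategoryTheory.Limits AlgebraicGeometry TopologicalSpace

namespace Groth.Agent.Lib.KleimanC13

open Groth.Agent.Lib Groth.Agent.Lib.IsoCls13 Groth.Agent.Lib.IntNumAlg13 CohB1 Groth.Agent.Lib.Kleiman13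
  Groth.Agent.Lib.KleimanB13

section Expand

variable (k : Type u) [Field k] {X : Scheme.{u}} [X.Over (Spec (CommRingCat.of k))]
  [IsProper (X ↘ Spec (CommRingCat.of k))] (D : ℕ) (hD : topologicalKrullDim X ≤ D)

omit [IsProper (X ↘ Spec (CommRingCat.of k))] in
theorem lin_natCast_mul (N : ℕ) (y : R X) : lin k D ((N : R X) * y) = N * lin k D y := by
  rw [← nsmul_eq_mul, map_nsmul, nsmul_eq_mul]

include hD in
/-- binomial expansion of `(β - 1)^e` in top degree, `β = (br L)^q (br H)^p` -/
theorem lin_beta_expand {L H : X.Modules} (hL : PicF.IsInvertible L) (hH : PicF.IsInvertible H) (q p : ℕ)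
    (e a : ℕ) (w : R X) (hw : IsProd a w) (z : R X) (hz : z ∈ Small X (a + e)) :
    lin k D (w * (br L ^ q * br H ^ p - 1) ^ e * z) =
      ∑ m ∈ Finset.range (e + 1), ((e.choose m * q ^ m * p ^ (e - m) : ℕ) : ℤ) *
        lin k D (w * (br L - 1) ^ m * (br H - 1) ^ (e - m) * z) := by
  rw [lin_beta_pow k D hD hL hH q p e a w hw z hz, add_pow, Finset.mul_sum, Finset.sum_mul, map_sum]
  refine Finset.sum_congr rfl fun m _ => ?_
  rw [← lin_natCast_mul]
  congr 1
  rw [mul_pow, mul_pow]
  push_cast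
  ring

theorem sum_ge_zero_term (e q p : ℕ) (c : ℕ → ℤ) (hc : ∀ m ≤ e, 0 ≤ c m) :
    (p : ℤ) ^ e * c 0 ≤ ∑ m ∈ Finset.range (e + 1), ((e.choose m * q ^ m * p ^ (e - m) : ℕ) : ℤ) * c m := by
  have h0 : 0 ∈ Finset.range (e + 1) := Finset.mem_range.2 (Nat.succ_pos e)
  have := Finset.single_le_sum (f := fun m => ((e.choose m * q ^ m * p ^ (e - m) : ℕ) : ℤ) * c m)
    (fun m hm => mul_nonneg (Nat.cast_nonneg _) (hc m (Nat.lt_succ_iff.1 (Finset.mem_range.1 hm)))) h0
  simpa using this

end Expand

section Ind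

variable (k : Type u) [Field k]

/-- Kleiman's inequality in degree `n` -/
def KAll (n : ℕ) : Prop :=
  ∀ (X : Scheme.{u}) [X.Over (Spec (CommRingCat.of k))] [IsProper (X ↘ Spec (CommRingCat.of k))]
    (D : ℕ) (_ : topologicalKrullDim X ≤ D) (L H : X.Modules), PicF.IsInvertible L → CohB1.IsAmple H →
    NefCoh k D L → ∀ a b : ℕ, a + b = n → ∀ F : X.Modules, Coh.IsCoh F →
      topologicalKrullDim (CohB1.support F) ≤ (n : WithBot ℕ∞) →
        0 ≤ lin k D ((br L - 1) ^ a * (br H - 1) ^ b * br F)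

theorem kAll_zero : KAll.{u} k 0 := by
  intro X _ _ D hD L H hL hH hnef a b hab F hF hdim
  obtain ⟨rfl, rfl⟩ : a = 0 ∧ b = 0 := by omega
  have := EulerLE48.isLocallyNoetherian k X
  have hle : topologicalKrullDim (CohB1.support F) ≤ 0 := hdim
  rw [pow_zero, pow_zero, one_mul, one_mul, lin_br,
    EulerLE48.eulerCharLE_eq_euler k X DegTensor13.vanHyp D hD,
    EulerChar54.euler_eq_finrank_zero k X F (fun i hi => Groth.Agent.S1526.result k X F hF hle i hi)]
  exact Nat.cast_nonneg _

theorem kAll_cut {n : ℕ} (hK : KAll.{u} k n)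
    (X : Scheme.{u}) [X.Over (Spec (CommRingCat.of k))] [IsProper (X ↘ Spec (CommRingCat.of k))]
    (D : ℕ) (hD : topologicalKrullDim X ≤ D) (L H : X.Modules) (hL : PicF.IsInvertible L)
    (hH : CohB1.IsAmple H) (hnef : NefCoh k D L) (a b : ℕ) (hab : a + b = n + 1) (hb : 1 ≤ b)
    (F : X.Modules) (hF : Coh.IsCoh F)
    (hdim : topologicalKrullDim (CohB1.support F) ≤ ((n + 1 : ℕ) : WithBot ℕ∞)) :
    0 ≤ lin k D ((br L - 1) ^ a * (br H - 1) ^ b * br F) := by
  obtain ⟨b, rfl⟩ : ∃ b', b = b' + 1 := ⟨b - 1, by omega⟩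
  obtain rfl : n = a + b := by omega
  have hw : IsProd (a + b) ((br L - 1) ^ a * (br H - 1) ^ b) :=
    ((isProd_one hL).pow a).mul ((isProd_one hH.1).pow b)
  have h := lin_cut k D hD hw hH (fun G hG hdG => hK X D hD L H hL hH hnef a b rfl G hG hdG) F hF hdim
  rwa [pow_succ, ← mul_assoc]

/-- nef times ample powers is nonnegative -/
theorem nef_ample_pow {X : Scheme.{u}} [X.Over (Spec (CommRingCat.of k))]
    [IsProper (X ↘ Spec (CommRingCat.of k))] (D : ℕ) (hD : topologicalKrullDim X ≤ D) {L B : X.Modules}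
    (hL : PicF.IsInvertible L) (hB : CohB1.IsAmple B) (hnef : NefCoh k D L) :
    ∀ e : ℕ, ∀ F : X.Modules, Coh.IsCoh F →
      topologicalKrullDim (CohB1.support F) ≤ ((e + 1 : ℕ) : WithBot ℕ∞) →
        0 ≤ lin k D ((br L - 1) * (br B - 1) ^ e * br F)
  | 0 => by
    intro F hF hdim
    rw [pow_zero, mul_one]
    exact hnef F hF hdim
  | e + 1 => by
    intro F hF hdim
    have hw : IsProd (e + 1) ((br L - 1) * (br B - 1) ^ e) := by
      have := (isProd_one hL).mul ((isProd_one hB.1).pow e)
      rwa [Nat.add_comm 1 e] at this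
    have h := lin_cut k D hD hw hB (fun G hG hdG => nef_ample_pow D hD hL hB hnef e G hG hdG) F hF hdim
    rwa [pow_succ, ← mul_assoc]

/-- positivity of `(L^q ⊗ H^p)^e · F` in dimension `e` from Kleiman's inequality in degree `e` -/
theorem lin_beta_pos {X : Scheme.{u}} [X.Over (Spec (CommRingCat.of k))]
    [IsProper (X ↘ Spec (CommRingCat.of k))] (D : ℕ) (hD : topologicalKrullDim X ≤ D) {L H : X.Modules}
    (hL : PicF.IsInvertible L) (hH : CohB1.IsAmple H) (hnef : NefCoh k D L) (q p : ℕ) (hp : 0 < p)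
    {F : X.Modules} (hF : Coh.IsCoh F) {e : ℕ}
    (hdF : topologicalKrullDim (CohB1.support F) = (e : WithBot ℕ∞)) (hKe : KAll.{u} k e) :
    0 < lin k D ((br L ^ q * br H ^ p - 1) ^ e * br F) := by
  have hFS : br F ∈ Small X (0 + e) := by rw [zero_add]; exact br_mem_Small hF hdF.le
  have hexp := lin_beta_expand k D hD hL hH.1 q p e 0 1 isProd_zero (br F) hFS
  rw [one_mul] at hexp
  rw [hexp]
  have hp' : (0 : ℤ) < (p : ℤ) := by exact_mod_cast hp
  have h0 : 0 < lin k D (1 * (br L - 1) ^ 0 * (br H - 1) ^ (e - 0) * br F) := by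
    simpa using lin_pos_of_isAmple k D hD hH hF hdF
  refine lt_of_lt_of_le (mul_pos (pow_pos hp' e) h0)
    (sum_ge_zero_term e q p (fun m => lin k D (1 * (br L - 1) ^ m * (br H - 1) ^ (e - m) * br F))
      (fun m hm => ?_))
  have := hKe X D hD L H hL hH hnef m (e - m) (by omega) F hF hdF.le
  simpa using this

/-- **the key step**: on an integral scheme of dimension `N + 1` -/
theorem step {N : ℕ} (hK : ∀ m < N + 1, KAll.{u} k m)
    (T : Scheme.{u}) [T.Over (Spec (CommRingCat.of k))] [IsProper (T ↘ Spec (CommRingCat.of k))] [IsIntegral T]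
    (D : ℕ) (hD : topologicalKrullDim T ≤ D) (hdim : topologicalKrullDim T = ((N + 1 : ℕ) : WithBot ℕ∞))
    (L H : T.Modules) (hL : PicF.IsInvertible L) (hH : CohB1.IsAmple H) (hnef : NefCoh k D L) :
    0 ≤ lin k D ((br L - 1) ^ (N + 1) * br (Coh.structureModule T)) := by
  have hOcoh : Coh.IsCoh (Coh.structureModule T) := CohFinAmple.isCoh_structureModule T
  have hOdim : topologicalKrullDim (CohB1.support (Coh.structureModule T)) = ((N + 1 : ℕ) : WithBot ℕ∞) := by
    rw [AmpleVol13.dim_support_structureModule]; exact hdim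
  have hOS : br (Coh.structureModule T) ∈ Small T (N + 1) := br_mem_Small hOcoh hOdim.le
  have hOS' : br (Coh.structureModule T) ∈ Small T (1 + N) := by rw [Nat.add_comm]; exact hOS
  have hu1 : IsProd 1 (br L - 1 : R T) := isProd_one hL
  have hv1 : IsProd 1 (br H - 1 : R T) := isProd_one hH.1
  have hmix : ∀ a b : ℕ, a + b = N + 1 → 1 ≤ b →
      0 ≤ lin k D ((br L - 1) ^ a * (br H - 1) ^ b * br (Coh.structureModule T)) := fun a b hab hb =>
    kAll_cut k (hK N (Nat.lt_succ_self N)) T D hD L H hL hH hnef a b hab hb _ hOcoh hOdim.le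
  have hc₀ : 0 < lin k D ((br H - 1) ^ (N + 1) * br (Coh.structureModule T)) :=
    lin_pos_of_isAmple k D hD hH hOcoh hOdim
  have key := KleimanNum13.numeric N
    (fun m => lin k D ((br L - 1) * (br L - 1) ^ m * (br H - 1) ^ (N - m) * br (Coh.structureModule T)))
    (lin k D ((br H - 1) ^ (N + 1) * br (Coh.structureModule T))) hc₀ ?_
    (fun q p => lin k D ((br L - 1) * (br L ^ q * br H ^ p - 1) ^ N * br (Coh.structureModule T)))
    (fun q p => lin k D ((br H - 1) * (br L ^ q * br H ^ p - 1) ^ N * br (Coh.structureModule T)))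
    (fun q p => lin_beta_expand k D hD hL hH.1 q p N 1 _ hu1 _ hOS') ?_ ?_
  · have e1 : (br L - 1 : R T) * (br L - 1) ^ N * (br H - 1) ^ (N - N) = (br L - 1) ^ (N + 1) := by
      rw [Nat.sub_self, pow_zero, mul_one, ← pow_succ']
    rwa [e1] at key
  · -- mixed terms are nonnegative
    intro m hm
    have := hmix (m + 1) (N - m) (by omega) (by omega)
    rwa [pow_succ'] at this
  · -- lower bound for `Ω`
    intro q p
    rw [lin_beta_expand k D hD hL hH.1 q p N 1 _ hv1 _ hOS']
    have e0 : (br H - 1 : R T) * (br L - 1) ^ 0 * (br H - 1) ^ (N - 0) = (br H - 1) ^ (N + 1) := by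
      rw [pow_zero, mul_one, Nat.sub_zero, ← pow_succ']
    rw [← e0]
    refine sum_ge_zero_term N q p
      (fun m => lin k D ((br H - 1) * (br L - 1) ^ m * (br H - 1) ^ (N - m) * br (Coh.structureModule T)))
      (fun m hm => ?_)
    have := hmix m (N - m + 1) (by omega) (by omega)
    have e2 : (br H - 1 : R T) * (br L - 1) ^ m * (br H - 1) ^ (N - m) =
        (br L - 1) ^ m * (br H - 1) ^ (N - m + 1) := by
      rw [pow_succ]; ring
    rwa [e2]
  · -- the key implication
    intro q p hq hp hΦ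
    have hβ := isProd_beta (X := T) hL hH.1 q p
    have hΦeq := lin_mul_beta k D hD (hβ.pow N) hL hH.1 hOS q p
    have hΦ' : 0 < lin k D ((br L ^ q * br H ^ p - 1) ^ (N + 1) * br (Coh.structureModule T)) := by
      rw [pow_succ, hΦeq, mul_comm ((br L ^ q * br H ^ p - 1) ^ N) (br L - 1),
        mul_comm ((br L ^ q * br H ^ p - 1) ^ N) (br H - 1)]
      exact hΦ
    have hB : PicF.IsInvertible (CohB1.tensorMod (CohB1.tensorPow L q) (CohB1.tensorPow H p)) :=
      H78TensorGen.isInvertible_tensorMod (H78TensorGen.isInvertible_tensorPow hL q)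
        (H78TensorGen.isInvertible_tensorPow hH.1 p)
    have hbrB : br (CohB1.tensorMod (CohB1.tensorPow L q) (CohB1.tensorPow H p)) =
        br L ^ q * br H ^ p := by rw [br_tensorMod, br_tensorPow, br_tensorPow]
    have hBamp : CohB1.IsAmple (CohB1.tensorMod (CohB1.tensorPow L q) (CohB1.tensorPow H p)) := by
      refine isAmple_of_lin_pos k D hD hB (fun F hF e he hdF => ?_)
      rw [hbrB]
      have heN : e ≤ N + 1 := by
        have h1 : (e : WithBot ℕ∞) ≤ ((N + 1 : ℕ) : WithBot ℕ∞) := by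
          rw [← hdF, ← hdim]; exact DegTensor13.topologicalKrullDim_set_le _
        exact_mod_cast h1
      rcases heN.lt_or_eq with hlt | rfl
      · exact lin_beta_pos k D hD hL hH hnef q p hp hF hdF (hK e hlt)
      · exact lin_pos_of_top k D hD hdim (hβ.pow (N + 1)) hΦ' F hF hdF
    have := nef_ample_pow k D hD hL hBamp hnef N (Coh.structureModule T) hOcoh hOdim.le
    rwa [hbrB] at this

/-- **Kleiman's theorem** (in the presence of an ample invertible module) -/
theorem kAll : ∀ n : ℕ, KAll.{u} k n := by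
  intro n
  induction n using Nat.strong_induction_on with
  | _ n ih =>
    rcases Nat.eq_zero_or_pos n with rfl | hn
    · exact kAll_zero k
    obtain ⟨N, rfl⟩ : ∃ N, n = N + 1 := ⟨n - 1, by omega⟩
    intro X _ _ D hD L H hL hH hnef a b hab F hF hdim
    rcases Nat.eq_zero_or_pos b with rfl | hb
    · obtain rfl : a = N + 1 := by omega
      haveI := EulerLE48.isNoetherian k X
      have hw : IsProd (N + 1) ((br L - 1 : R X) ^ (N + 1)) := (isProd_one hL).pow (N + 1)
      rw [pow_zero, mul_one]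
      refine DevPos13.nonneg_of_hub (fun E => lin k D ((br L - 1) ^ (N + 1) * br E)) (N + 1)
        (fun S hS h1 h2 h3 => lin_add_of_shortExact k D hD hw S hS h1 h2 h3)
        (fun E hE hlt => lin_eq_zero_of_dim_lt k D hD hw hE hlt)
        (fun Zc hirr hd => ?_) hF hdim
      obtain ⟨I, hI⟩ : ∃ I : X.IdealSheafData, I = Scheme.IdealSheafData.vanishingIdeal Zc := ⟨_, rfl⟩
      change 0 ≤ lin k D ((br L - 1) ^ (N + 1) *
        br ((Scheme.Modules.pushforward (Scheme.IdealSheafData.vanishingIdeal Zc).subschemeι).obj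
          (Coh.structureModule (Scheme.IdealSheafData.vanishingIdeal Zc).subscheme)))
      rw [← hI]
      letI : I.subscheme.Over (Spec (CommRingCat.of k)) := ⟨I.subschemeι ≫ (X ↘ Spec (CommRingCat.of k))⟩
      haveI : IsProper (I.subscheme ↘ Spec (CommRingCat.of k)) := by
        change IsProper (I.subschemeι ≫ (X ↘ Spec (CommRingCat.of k)))
        infer_instance
      haveI : IsIntegral I.subscheme := by rw [hI]; exact H90DevAtom.isIntegral_subscheme Zc hirr
      haveI : (Coh.structureModule I.subscheme).IsQuasicoherent :=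
        (CohFinAmple.isCoh_structureModule I.subscheme).1
      have hpb := (pb_one I.subschemeι hL).pow (N + 1)
      rw [PB.lin_push k D hD hpb (Coh.structureModule I.subscheme)]
      have hdT : topologicalKrullDim I.subscheme = ((N + 1 : ℕ) : WithBot ℕ∞) := by
        rw [NMMain13.dim_subscheme, hI, Scheme.IdealSheafData.coe_support_vanishingIdeal]; exact hd
      have hDT : topologicalKrullDim I.subscheme ≤ D := by
        rw [NMMain13.dim_subscheme]
        exact (topologicalKrullDim_subspace_le _ _).trans hD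
      exact step k (fun m hm => ih m hm) I.subscheme D hDT hdT _ _
        (H90Invertible.isInvertible_pullback I.subschemeι hL)
        (H78PullAmple.isAmple_pullback_of_isAffineHom I.subschemeι hH)
        (nefCoh_pullback k I.subschemeι D hD hL hnef)
    · exact kAll_cut k (ih N (Nat.lt_succ_self N)) X D hD L H hL hH hnef a b hab hb F hF hdim

end Ind

end Groth.Agent.Lib.KleimanC13
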