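import Groth.Agent.Lib.KleimanC13

/-!
# Kleiman's theorem, part 4 (helper13): nef ⟺ `L^ν ⊗ A` ample for all `ν > 0`
-/

set_option autoImplicit false
set_option linter.style.haveILetI false
universe u
open CategoryTheory CategoryTheory.Limits AlgebraicGeometry TopologicalSpace

namespace Groth.Agent.Lib.KleimanD13

open Groth.Agent.Lib Groth.Agent.Lib.IsoCls13 Groth.Agent.Lib.IntNumAlg13 CohB1 Groth.Agent.Lib.Kleiman13
  Groth.Agent.Lib.KleimanB13 Groth.Agent.Lib.KleimanC13

variable (k : Type u) [Field k] {X : Scheme.{u}} [X.Over (Spec (CommRingCat.of k))]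
  [IsProper (X ↘ Spec (CommRingCat.of k))]

/-- nef plus ample is ample -/
theorem isAmple_of_nefCoh (D : ℕ) (hD : topologicalKrullDim X ≤ D) {L A : X.Modules}
    (hL : PicF.IsInvertible L) (hA : CohB1.IsAmple A) (hnef : NefCoh k D L) (ν : ℕ) :
    CohB1.IsAmple (CohB1.tensorMod (CohB1.tensorPow L ν) A) := by
  have hB : PicF.IsInvertible (CohB1.tensorMod (CohB1.tensorPow L ν) A) :=
    H78TensorGen.isInvertible_tensorMod (H78TensorGen.isInvertible_tensorPow hL ν) hA.1
  have hbrB : br (CohB1.tensorMod (CohB1.tensorPow L ν) A) = br L ^ ν * br A ^ 1 := by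
    rw [br_tensorMod, br_tensorPow, pow_one]
  refine isAmple_of_lin_pos k D hD hB (fun F hF e he hdF => ?_)
  rw [hbrB]
  exact lin_beta_pos k D hD hL hA hnef ν 1 one_pos hF hdF (kAll k e)

/-- if all `L^ν ⊗ A` are ample then `L` has nonnegative degree on every integral curve -/
theorem curveDeg_nonneg_of_ample {L A : X.Modules} (hL : PicF.IsInvertible L) (hA : CohB1.IsAmple A)
    (h : ∀ ν : ℕ, 0 < ν → CohB1.IsAmple (CohB1.tensorMod (CohB1.tensorPow L ν) A))
    (Y : Scheme.{u}) (i : Y ⟶ X) [IsClosedImmersion i] (hY : IsIntegral Y) (hdim : topologicalKrullDim Y = 1) :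
    0 ≤ Pic13.curveDeg k (i ≫ (X ↘ Spec (CommRingCat.of k))) ((Scheme.Modules.pullback i).obj L) := by
  letI : Y.Over (Spec (CommRingCat.of k)) := ⟨i ≫ (X ↘ Spec (CommRingCat.of k))⟩
  haveI : IsProper (Y ↘ Spec (CommRingCat.of k)) := by
    change IsProper (i ≫ (X ↘ Spec (CommRingCat.of k)))
    infer_instance
  haveI := hY
  have hdY : topologicalKrullDim Y ≤ ((1 : ℕ) : WithBot ℕ∞) := by rw [hdim]; rfl
  have hOcoh : Coh.IsCoh (Coh.structureModule Y) := CohFinAmple.isCoh_structureModule Y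
  have hOdim : topologicalKrullDim (CohB1.support (Coh.structureModule Y)) = ((1 : ℕ) : WithBot ℕ∞) := by
    rw [AmpleVol13.dim_support_structureModule, hdim]; rfl
  have hOS : br (Coh.structureModule Y) ∈ Small Y (0 + 1) := br_mem_Small hOcoh hOdim.le
  have hdeg : Pic13.curveDeg k (i ≫ (X ↘ Spec (CommRingCat.of k))) ((Scheme.Modules.pullback i).obj L) =
      lin k 1 ((br ((Scheme.Modules.pullback i).obj L) - 1) * br (Coh.structureModule Y)) := by
    unfold Pic13.curveDeg
    rw [sub_mul, one_mul, br_structureModule, mul_one, map_sub, lin_br, ← br_structureModule, lin_br]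
  rw [hdeg]
  have hL' := H90Invertible.isInvertible_pullback i hL
  have hA' := H90Invertible.isInvertible_pullback i hA.1
  have hpos : ∀ ν : ℕ, 0 < ν →
      0 < (ν : ℤ) * lin k 1 ((br ((Scheme.Modules.pullback i).obj L) - 1) * br (Coh.structureModule Y)) +
        lin k 1 ((br ((Scheme.Modules.pullback i).obj A) - 1) * br (Coh.structureModule Y)) := by
    intro ν hν
    have hamp := H78PullAmple.isAmple_pullback_of_isAffineHom i (h ν hν)
    have h1 := lin_pos_of_isAmple k 1 hdY hamp hOcoh hOdim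
    have hbr : br ((Scheme.Modules.pullback i).obj (CohB1.tensorMod (CohB1.tensorPow L ν) A)) =
        br ((Scheme.Modules.pullback i).obj L) ^ ν * br ((Scheme.Modules.pullback i).obj A) ^ 1 := by
      obtain ⟨e1⟩ := H78AtlasIso.nonempty_pullback_tensorMod_iso i
        (H78TensorGen.isInvertible_tensorPow hL ν) hA.1
      obtain ⟨e2⟩ := H78AtlasIso.nonempty_pullback_tensorPow_iso i hL ν
      rw [br_eq_of_iso e1, br_tensorMod, br_eq_of_iso e2, br_tensorPow, pow_one]
    rw [hbr, pow_one] at h1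
    have h2 := lin_mul_beta k 1 hdY isProd_zero hL' hA' hOS ν 1
    rw [one_mul, one_mul, one_mul] at h2
    rw [h2] at h1
    simpa using h1
  by_contra hneg
  push Not at hneg
  obtain ⟨x, hx⟩ : ∃ x : ℤ, x =
    lin k 1 ((br ((Scheme.Modules.pullback i).obj L) - 1) * br (Coh.structureModule Y)) := ⟨_, rfl⟩
  obtain ⟨y, hy⟩ : ∃ y : ℤ, y =
    lin k 1 ((br ((Scheme.Modules.pullback i).obj A) - 1) * br (Coh.structureModule Y)) := ⟨_, rfl⟩
  rw [← hx] at hneg
  have h3 := hpos (y.toNat + 1) (Nat.succ_pos _)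
  rw [← hx, ← hy] at h3
  have h4 : y ≤ (y.toNat : ℤ) := Int.self_le_toNat y
  have h5 : ((y.toNat + 1 : ℕ) : ℤ) * x ≤ ((y.toNat + 1 : ℕ) : ℤ) * (-1) :=
    mul_le_mul_of_nonneg_left (by omega) (Nat.cast_nonneg _)
  push_cast at h3 h5
  linarith

end Groth.Agent.Lib.KleimanD13
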