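import Groth.Agent.Lib.KoszulPerm
import Mathlib.Data.Nat.Choose.Basic
import Mathlib.SetTheory.Cardinal.NatCard
import Mathlib.SetTheory.Cardinal.Finite
import Mathlib.LinearAlgebra.Pi

/-!
# Koszul cohomology after adjoining elements of the ideal (helper19)

If `y_1, …, y_r ∈ (x_1, …, x_s)` then
`H^m(K(y, x; M)) ≃ ⊕_j H^{m+j}(K(x; M))^{C(r, j)}` (`nonempty_homology_append`), for the iterated
mapping cone model `kcx`.
-/

universe u

open CategoryTheory CategoryTheory.Limits CochainComplex HomologicalComplex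

namespace Groth.Agent.Lib.KoszulAppend

open Groth.Agent.Lib.KoszulCone Groth.Agent.Lib.KoszulPerm

section combinatorics

/-- index set of the decomposition: pairs `(j, i)` with `j ≤ r`, `i < C(r, j)` -/
abbrev Idx (r : ℕ) : Type := Σ j : Fin (r + 1), Fin (r.choose j)

theorem exists_equiv_of_card_fiber_eq {α β : Type} [Finite α] [Finite β] (f : α → ℕ) (g : β → ℕ)
    (h : ∀ j, Nat.card {a // f a = j} = Nat.card {b // g b = j}) :
    ∃ e : α ≃ β, ∀ a, g (e a) = f a := by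
  have e1 : ∀ j, {a // f a = j} ≃ {b // g b = j} := fun j =>
    Classical.choice (Finite.card_eq.mp (h j))
  refine ⟨(Equiv.sigmaFiberEquiv f).symm.trans
    ((Equiv.sigmaCongrRight e1).trans (Equiv.sigmaFiberEquiv g)), fun a => ?_⟩
  exact ((e1 (f a)) ⟨a, rfl⟩).2

theorem card_fiber_idx (r j : ℕ) : Nat.card {p : Idx r // (p.1 : ℕ) = j} = r.choose j := by
  rw [Nat.card_congr (Equiv.subtypeSigmaEquiv (fun i : Fin (r + 1) => Fin (r.choose i))
    (fun i => (i : ℕ) = j)), Nat.card_sigma]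
  by_cases hj : j < r + 1
  · have : Unique {i : Fin (r + 1) // (i : ℕ) = j} :=
      ⟨⟨⟨⟨j, hj⟩, rfl⟩⟩, fun x => Subtype.ext (Fin.ext x.2)⟩
    rw [Fintype.sum_unique, Nat.card_eq_fintype_card, Fintype.card_fin]
    exact congrArg (Nat.choose r) (default : {i : Fin (r + 1) // (i : ℕ) = j}).2
  · have : IsEmpty {i : Fin (r + 1) // (i : ℕ) = j} := ⟨fun x => hj (x.2 ▸ x.1.2)⟩
    rw [Fintype.sum_empty, Nat.choose_eq_zero_of_lt (by omega)]

/-- degree on the doubled index set -/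
abbrev deg2 (r : ℕ) : Idx r ⊕ Idx r → ℕ :=
  Sum.elim (fun q => (q.1 : ℕ)) (fun q => 1 + (q.1 : ℕ))

theorem card_fiber_sum (r j : ℕ) :
    Nat.card {s : Idx r ⊕ Idx r // deg2 r s = j} = (r + 1).choose j := by
  rw [Nat.card_congr (Equiv.subtypeSum), Nat.card_sum]
  show Nat.card {q : Idx r // (q.1 : ℕ) = j} + Nat.card {q : Idx r // 1 + (q.1 : ℕ) = j} = _
  rw [card_fiber_idx]
  cases j with
  | zero =>
    have : IsEmpty {q : Idx r // 1 + (q.1 : ℕ) = 0} := ⟨fun x => by have := x.2; omega⟩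
    rw [Nat.card_of_isEmpty]
    simp
  | succ j' =>
    have h1 : Nat.card {q : Idx r // 1 + (q.1 : ℕ) = j' + 1} = r.choose j' := by
      rw [← card_fiber_idx r j']
      exact Nat.card_congr (Equiv.subtypeEquivRight (fun q => by omega))
    rw [h1, Nat.choose_succ_succ', add_comm]

theorem exists_idx_equiv (r : ℕ) :
    ∃ e : Idx (r + 1) ≃ Idx r ⊕ Idx r, ∀ p, deg2 r (e p) = (p.1 : ℕ) :=
  exists_equiv_of_card_fiber_eq _ _ (fun j => by rw [card_fiber_idx, card_fiber_sum])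

instance : Unique (Idx 0) where
  default := ⟨0, ⟨0, by decide⟩⟩
  uniq := by
    rintro ⟨j, i⟩
    have hj : j = 0 := Fin.ext (by have := j.2; simp only [Fin.val_zero]; omega)
    subst hj
    have : Subsingleton (Fin (Nat.choose 0 ((0 : Fin (0 + 1)) : ℕ))) := by
      show Subsingleton (Fin 1)
      infer_instance
    congr 1
    exact Subsingleton.elim _ _

end combinatorics

section graded

variable {A : Type u} [CommRing A] (G : ℤ → Type u) [∀ n, AddCommGroup (G n)]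
  [∀ n, Module A (G n)]

/-- transport along an equality of degrees -/
def castEquiv {n n' : ℤ} (h : n = n') : G n ≃ₗ[A] G n' := by
  subst h
  exact LinearEquiv.refl A _

/-- reindexing products of graded pieces -/
def reindex {α β : Type} (e : α ≃ β) (f : α → ℤ) (g : β → ℤ) (h : ∀ a, f a = g (e a)) :
    ((a : α) → G (f a)) ≃ₗ[A] ((b : β) → G (g b)) :=
  (LinearEquiv.piCongrRight (fun a => castEquiv (A := A) G (h a))).trans
    (LinearEquiv.piCongrLeft A (fun b => G (g b)) e)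

/-- Pascal's rule for the decomposition -/
theorem nonempty_step (r : ℕ) (m : ℤ) :
    Nonempty ((((p : Idx r) → G (m + ((p.1 : ℕ) : ℤ))) ×
        ((p : Idx r) → G (m + 1 + ((p.1 : ℕ) : ℤ)))) ≃ₗ[A]
      ((p : Idx (r + 1)) → G (m + ((p.1 : ℕ) : ℤ)))) := by
  obtain ⟨e, he⟩ := exists_idx_equiv r
  let e1 := LinearEquiv.sumPiEquivProdPi A (Idx r) (Idx r)
    (fun s => G (m + ((deg2 r s : ℕ) : ℤ)))
  let e2 : ((q : Idx r) → G (m + 1 + ((q.1 : ℕ) : ℤ))) ≃ₗ[A]
      ((q : Idx r) → G (m + ((deg2 r (Sum.inr q) : ℕ) : ℤ))) :=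
    LinearEquiv.piCongrRight (fun q => castEquiv (A := A) G (by
      show m + 1 + ((q.1 : ℕ) : ℤ) = m + ((1 + (q.1 : ℕ) : ℕ) : ℤ)
      push_cast
      ring))
  let e3 : ((s : Idx r ⊕ Idx r) → G (m + ((deg2 r s : ℕ) : ℤ))) ≃ₗ[A]
      ((p : Idx (r + 1)) → G (m + ((p.1 : ℕ) : ℤ))) :=
    (reindex (A := A) G e (fun p => m + ((p.1 : ℕ) : ℤ)) (fun s => m + ((deg2 r s : ℕ) : ℤ))
      (fun p => by rw [he])).symm
  exact ⟨((LinearEquiv.prodCongr (LinearEquiv.refl A _) e2).trans e1.symm).trans e3⟩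

/-- the base case -/
def baseEquiv (m : ℤ) : G m ≃ₗ[A] ((p : Idx 0) → G (m + ((p.1 : ℕ) : ℤ))) :=
  (castEquiv (A := A) G (by
    show m = m + (((default : Idx 0).1 : ℕ) : ℤ)
    simp [default])).trans
    (LinearEquiv.piUnique A (fun p : Idx 0 => G (m + ((p.1 : ℕ) : ℤ)))).symm

end graded

section main

variable {A : Type u} [CommRing A]

/-- if `ys ⊆ (xs)` then `H^m(K(ys, xs; M)) ≃ ⊕_j H^{m+j}(K(xs; M))^{C(|ys|, j)}` -/
theorem nonempty_homology_append (M : ModuleCat.{u} A) (xs : List A) :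
    ∀ ys : List A, (∀ y ∈ ys, y ∈ Ideal.span {a | a ∈ xs}) → ∀ m : ℤ,
      Nonempty ((kcx M (ys ++ xs)).homology m ≃ₗ[A]
        ((p : Idx ys.length) → (kcx M xs).homology (m + ((p.1 : ℕ) : ℤ))))
  | [], _, m => ⟨baseEquiv (A := A) (fun n => (kcx M xs).homology n) m⟩
  | y :: ys, hy, m => by
    have hys : ∀ y' ∈ ys, y' ∈ Ideal.span {a | a ∈ xs} := fun y' h =>
      hy y' (List.mem_cons_of_mem _ h)
    have ih := nonempty_homology_append M xs ys hys
    have hnull : y ∈ nullIdeal (kcx M (ys ++ xs)) := by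
      apply span_le_nullIdeal_kcx M (ys ++ xs)
      exact Ideal.span_mono (fun a ha => List.mem_append_right ys ha) (hy y List.mem_cons_self)
    obtain ⟨h⟩ := hnull
    obtain ⟨e0⟩ := nonempty_homology_cone_of_homotopy (y • 𝟙 (kcx M (ys ++ xs))) h m
    obtain ⟨e1⟩ := ih m
    obtain ⟨e2⟩ := ih (m + 1)
    obtain ⟨e3⟩ := nonempty_step (A := A) (fun n => (kcx M xs).homology n) ys.length m
    exact ⟨(e0.trans (LinearEquiv.prodCongr e1 e2)).trans e3⟩

end main

end Groth.Agent.Lib.KoszulAppend
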