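import Groth.Agent.Lib.KoszulEuler
import Groth.Prelude.Def_Koszul
import Groth.Prelude.Def_DRing2

/-!
# Serre's Euler characteristic of Koszul complexes (helper25)

`kchi M l = χ(H^*(kcx M l))`, for `M` finite over a Noetherian ring `A` with `Good M l`
(`Supp M ∩ V(l)` consists of maximal ideals, i.e. `M/(l)M` has finite length).

* `tensorCxKoszulIso`: the prelude's `DRing.tensorCx (Koszul.koszul A l) M ≅ kcx M l`;
* `kchi_add_of_exact` (additivity in `M`), `kchi_mul_head`
  (`χ(xy :: l) = χ(x :: l) + χ(y :: l)`), `kchi_eq_zero_of_tail_good`, `kchi_cons_of_regular`,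
  `kchi_cons_eq` (`χ(x :: l; M) = χ(l; M̄)`, `M̄ = M'/xM'`, `M' = M/Γ_x M`), `kchi_pow_head`.
-/

set_option autoImplicit false
universe u

open CategoryTheory Limits CochainComplex MonoidalCategory
open Groth.Agent.Lib.EulerLES Groth.Agent.Lib.EulerD Groth.Agent.Lib.KoszulCone
  Groth.Agent.Lib.KoszulElem

namespace Groth.Agent.Lib.KoszulEuler

variable {A : Type u} [CommRing A]

/-- iso of mapping cones from isos of sources and targets. -/
noncomputable def mappingConeIso {K₁ L₁ K₂ L₂ : CochainComplex (ModuleCat.{u} A) ℤ}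
    (φ₁ : K₁ ⟶ L₁) (φ₂ : K₂ ⟶ L₂) (a : K₁ ≅ K₂) (b : L₁ ≅ L₂)
    (comm : φ₁ ≫ b.hom = a.hom ≫ φ₂) : mappingCone φ₁ ≅ mappingCone φ₂ where
  hom := mappingCone.map φ₁ φ₂ a.hom b.hom comm
  inv := mappingCone.map φ₂ φ₁ a.inv b.inv (by
    rw [← cancel_epi a.hom, ← reassoc_of% comm, Iso.hom_inv_id, Category.comp_id,
      Iso.hom_inv_id_assoc])
  hom_inv_id := by
    rw [← mappingCone.map_comp]
    simp only [Iso.hom_inv_id]
    exact mappingCone.map_id _
  inv_hom_id := by
    rw [← mappingCone.map_comp]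
    simp only [Iso.inv_hom_id]
    exact mappingCone.map_id _

/-- `K(l) ⊗ M ≅ kcx M l`. -/
noncomputable def tensorCxKoszulIso (M : ModuleCat.{u} A) :
    ∀ l : List A, DRing.tensorCx (Koszul.koszul A l) M ≅ kcx M l
  | [] =>
    ((HomologicalComplex.singleMapHomologicalComplex (tensorRight M) (ComplexShape.up ℤ) 0).app
      (ModuleCat.of A A)) ≪≫
      (HomologicalComplex.single (ModuleCat.{u} A) (ComplexShape.up ℤ) 0).mapIso (λ_ M)
  | f :: l =>
    (mappingCone.mapHomologicalComplexIso (f • 𝟙 (Koszul.koszul A l)) (tensorRight M)) ≪≫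
      mappingConeIso _ (f • 𝟙 (kcx M l)) (tensorCxKoszulIso M l) (tensorCxKoszulIso M l) (by
        rw [Functor.map_smul, CategoryTheory.Functor.map_id, Linear.smul_comp, Linear.comp_smul,
          Category.id_comp, Category.comp_id])

/-- `Supp M ∩ V(l)` consists of maximal ideals. -/
def Good (M : Type u) [AddCommGroup M] [Module A M] (l : List A) : Prop :=
  ∀ p ∈ Module.support A M, p ∈ VL l → p.asIdeal.IsMaximal

/-- the Euler characteristic of the Koszul complex of `l` on `M`. -/
noncomputable def kchi (M : Type u) [AddCommGroup M] [Module A M] (l : List A) : ℤ :=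
  chi (kcx (ModuleCat.of A M) l)

/-- the expression used in the statements equals `kchi`. -/
lemma finsum_eq_kchi (M : Type u) [AddCommGroup M] [Module A M] (l : List A) :
    (∑ᶠ i : ℤ, ((i.negOnePow : ℤˣ) : ℤ) * ((Module.length A ((DRing.tensorCx (Koszul.koszul A l)
      (ModuleCat.of A M)).homology i)).toNat : ℤ)) = kchi M l :=
  chi_eq_of_iso (tensorCxKoszulIso (ModuleCat.of A M) l)

section

variable [IsNoetherianRing A]

lemma good_of_isFiniteLength (M : Type u) [AddCommGroup M] [Module A M] [Module.Finite A M]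
    (l : List A) (S : Set A) (hS : ∀ a ∈ S, a ∈ l)
    (h : IsFiniteLength A (M ⧸ (Ideal.span S • (⊤ : Submodule A M)))) : Good M l := by
  intro p hp hpl
  refine Groth.Agent.Lib.FiniteLengthSupport.isMaximal_of_mem_support_of_isFiniteLength h p ?_
  rw [Module.support_quotient]
  refine ⟨hp, ?_⟩
  rw [PrimeSpectrum.zeroLocus_span]
  intro a ha
  exact hpl a (hS a ha)

lemma Good.FL {M : Type u} [AddCommGroup M] [Module A M] [Module.Finite A M] {l : List A}
    (h : Good M l) : FL (kcx (ModuleCat.of A M) l) :=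
  FL_kcx M l h

lemma Good.of_support_subset {M N : Type u} [AddCommGroup M] [Module A M] [AddCommGroup N]
    [Module A N] {l : List A} (h : Good M l) (hs : Module.support A N ⊆ Module.support A M) :
    Good N l :=
  fun p hp hpl => h p (hs hp) hpl

/-- additivity of `kchi` in the module. -/
theorem kchi_add_of_exact {M' M M'' : Type u} [AddCommGroup M'] [Module A M'] [AddCommGroup M]
    [Module A M] [AddCommGroup M''] [Module A M''] [Module.Finite A M]
    (f : M' →ₗ[A] M) (g : M →ₗ[A] M'') (hf : Function.Injective f) (hg : Function.Surjective g)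
    (hfg : Function.Exact f g) (l : List A) (hM : Good M l) :
    kchi M l = kchi M' l + kchi M'' l := by
  have : Module.Finite A M' := Module.Finite.of_injective f hf
  have : Module.Finite A M'' := Module.Finite.of_surjective g hg
  have hM' : Good M' l := hM.of_support_subset (Module.support_subset_of_injective f hf)
  have hM'' : Good M'' l := hM.of_support_subset (Module.support_subset_of_surjective g hg)
  have w0 : (ModuleCat.ofHom f) ≫ (ModuleCat.ofHom g) = 0 := by
    apply ModuleCat.hom_ext
    apply LinearMap.ext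
    intro x
    exact hfg.apply_apply_eq_zero x
  have hS : (ShortComplex.mk (ModuleCat.ofHom f) (ModuleCat.ofHom g) w0).ShortExact :=
    ModuleCat.shortComplex_shortExact _ hfg hf hg
  have hdeg : DegExact (kmap (ModuleCat.ofHom f) l) (kmap (ModuleCat.ofHom g) l) :=
    kmap_degExact _ hS l
  obtain ⟨w, hK⟩ := hdeg.shortExact
  have h1 : FL (ShortComplex.mk (kmap (ModuleCat.ofHom f) l) (kmap (ModuleCat.ofHom g) l) w).X₁ :=
    hM'.FL
  have h2 : FL (ShortComplex.mk (kmap (ModuleCat.ofHom f) l) (kmap (ModuleCat.ofHom g) l) w).X₂ :=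
    hM.FL
  have h3 : FL (ShortComplex.mk (kmap (ModuleCat.ofHom f) l) (kmap (ModuleCat.ofHom g) l) w).X₃ :=
    hM''.FL
  have h := chi_add_of_shortExact _ hK h1 h2 h3
  unfold kchi
  exact h

/-- `χ(xy :: l) = χ(x :: l) + χ(y :: l)`. -/
theorem kchi_mul_head (M : Type u) [AddCommGroup M] [Module A M] [Module.Finite A M]
    (x y : A) (l : List A) (hx : Good M (x :: l)) (hy : Good M (y :: l)) :
    kchi M ((x * y) :: l) = kchi M (x :: l) + kchi M (y :: l) := by
  have h := chi_mappingCone_comp (x • 𝟙 (kcx (ModuleCat.of A M) l))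
    (y • 𝟙 (kcx (ModuleCat.of A M) l)) hx.FL hy.FL
  have e : (x • 𝟙 (kcx (ModuleCat.of A M) l)) ≫ (y • 𝟙 (kcx (ModuleCat.of A M) l)) =
      (x * y) • 𝟙 (kcx (ModuleCat.of A M) l) := by
    rw [Linear.smul_comp, Linear.comp_smul, Category.id_comp, smul_smul, mul_comm]
  rw [e] at h
  exact h.2

/-- if the tail is already good, the Euler characteristic vanishes. -/
theorem kchi_eq_zero_of_tail_good (N : Type u) [AddCommGroup N] [Module A N] [Module.Finite A N]
    (x : A) (l : List A) (h : Good N l) : kchi N (x :: l) = 0 := by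
  have := (chi_mappingCone (x • 𝟙 (kcx (ModuleCat.of A N) l)) h.FL h.FL).2
  unfold kchi
  change chi (mappingCone (x • 𝟙 (kcx (ModuleCat.of A N) l))) = 0
  rw [this, sub_self]

lemma Good.tail_of_pow_smul {N : Type u} [AddCommGroup N] [Module A N] {x : A} {l : List A}
    (n : ℕ) (hn : ∀ m : N, x ^ n • m = 0) (h : Good N (x :: l)) : Good N l := by
  intro p hp hpl
  refine h p hp fun g hg => ?_
  rcases List.mem_cons.mp hg with rfl | hg
  · exact p.isPrime.mem_of_pow_mem n (support_subset_of_smul_eq_zero _ hn p hp)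
  · exact hpl g hg

/-- `x` regular on `M`: `χ(x :: l; M) = χ(l; M/xM)`. -/
theorem kchi_cons_of_regular (M : Type u) [AddCommGroup M] [Module A M] (x : A)
    (hx : IsSMulRegular M x) (l : List A) :
    kchi M (x :: l) = kchi (QuotSMulTop x M) l := by
  obtain ⟨q, hq⟩ := exists_quasiIso_cons M x hx l
  exact chi_eq_of_quasiIso q

end

end Groth.Agent.Lib.KoszulEuler
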