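import Groth.Agent.Lib.KoszulEuler2

/-!
# Serre's Euler characteristic of Koszul complexes, II (helper25)

* `kchi_cons_eq`: `χ(x :: l; M) = χ(l; M̄)` with `M̄ = M'/xM'`, `M' = M/M[x^n]` (`n` stable);
* `kchi_eq_zero_of_disjoint`, `kchi_pow_head` (`χ(x^m :: l) = m χ(x :: l)`),
  `kchi_ofFn_pow` (`χ(x_1^{m_1},…,x_k^{m_k}) = m_1⋯m_k χ(x_1,…,x_k)`).
-/

set_option autoImplicit false
universe u

open CategoryTheory Limits CochainComplex
open Groth.Agent.Lib.EulerLES Groth.Agent.Lib.EulerD Groth.Agent.Lib.KoszulCone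
  Groth.Agent.Lib.KoszulElem

namespace Groth.Agent.Lib.KoszulEuler

variable {A : Type u} [CommRing A]

lemma Good.of_VL_subset {M : Type u} [AddCommGroup M] [Module A M] {l₁ l₂ : List A}
    (h : Good M l₁) (hs : ∀ p ∈ Module.support A M, p ∈ VL l₂ → p ∈ VL l₁) : Good M l₂ :=
  fun p hp hpl => h p hp (hs p hp hpl)

lemma Good.pow_head {M : Type u} [AddCommGroup M] [Module A M] {x : A} {l : List A}
    (h : Good M (x :: l)) (m : ℕ) : Good M (x ^ m :: l) := by
  refine h.of_VL_subset fun p _ hp g hg => ?_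
  rcases List.mem_cons.mp hg with rfl | hg
  · exact p.isPrime.mem_of_pow_mem m (hp _ List.mem_cons_self)
  · exact hp g (List.mem_cons_of_mem _ hg)

section

variable [IsNoetherianRing A]

theorem kchi_eq_zero_of_disjoint (M : Type u) [AddCommGroup M] [Module A M] [Module.Finite A M]
    (l : List A) (h : ∀ p ∈ Module.support A M, p ∉ VL l) : kchi M l = 0 := by
  unfold kchi chi eul
  apply finsum_eq_zero_of_forall_eq_zero
  intro i
  obtain ⟨-, h2⟩ := HS_kcx M l i
  have : Subsingleton ((kcx (ModuleCat.of A M) l).homology i) := by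
    rw [← Module.support_eq_empty_iff (R := A)]
    apply Set.eq_empty_of_forall_notMem
    intro p hp
    exact h p (h2 hp).1 (h2 hp).2
  rw [Module.length_eq_zero, ENat.toNat_zero, Nat.cast_zero, mul_zero]

lemma exists_torsionBy_stable (M : Type u) [AddCommGroup M] [Module A M] [Module.Finite A M]
    (x : A) : ∃ n : ℕ, ∀ m : M, x ^ (n + 1) • m = 0 → x ^ n • m = 0 := by
  have hN : IsNoetherian A M := inferInstance
  have hmono : Monotone fun n : ℕ => Submodule.torsionBy A M (x ^ n) := by
    apply monotone_nat_of_le_succ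
    intro n m hm
    rw [Submodule.mem_torsionBy_iff] at hm ⊢
    rw [pow_succ', mul_smul, hm, smul_zero]
  obtain ⟨n, hn⟩ := monotone_stabilizes_iff_noetherian.mpr hN ⟨_, hmono⟩
  refine ⟨n, fun m hm => ?_⟩
  have h1 : m ∈ Submodule.torsionBy A M (x ^ (n + 1)) := (Submodule.mem_torsionBy_iff _ _).mpr hm
  have h2 := hn (n + 1) (Nat.le_succ n)
  change Submodule.torsionBy A M (x ^ n) = Submodule.torsionBy A M (x ^ (n + 1)) at h2
  rw [← h2] at h1
  exact (Submodule.mem_torsionBy_iff _ _).mp h1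

/-- `x` is regular on `M / M[x^n]` for stable `n`. -/
lemma isSMulRegular_quotient_torsionBy (M : Type u) [AddCommGroup M] [Module A M] (x : A) (n : ℕ)
    (hn : ∀ m : M, x ^ (n + 1) • m = 0 → x ^ n • m = 0) :
    IsSMulRegular (M ⧸ Submodule.torsionBy A M (x ^ n)) x := by
  rw [isSMulRegular_iff_right_eq_zero_of_smul]
  intro q hq
  obtain ⟨m, rfl⟩ := Submodule.Quotient.mk_surjective _ q
  rw [← Submodule.Quotient.mk_smul, Submodule.Quotient.mk_eq_zero,
    Submodule.mem_torsionBy_iff, ← mul_smul, ← pow_succ] at hq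
  rw [Submodule.Quotient.mk_eq_zero, Submodule.mem_torsionBy_iff]
  exact hn m hq

/-- the reduction: `χ(x :: l; M) = χ(l; M̄)`. -/
theorem kchi_cons_eq (M : Type u) [AddCommGroup M] [Module A M] [Module.Finite A M] (x : A)
    (n : ℕ) (hn : ∀ m : M, x ^ (n + 1) • m = 0 → x ^ n • m = 0) (l : List A)
    (h : Good M (x :: l)) :
    kchi M (x :: l) = kchi (QuotSMulTop x (M ⧸ Submodule.torsionBy A M (x ^ n))) l := by
  have h1 := kchi_add_of_exact (Submodule.torsionBy A M (x ^ n)).subtype
    (Submodule.torsionBy A M (x ^ n)).mkQ (Submodule.subtype_injective _)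
    (Submodule.mkQ_surjective _) (LinearMap.exact_subtype_mkQ _) (x :: l) h
  have hN : Good (Submodule.torsionBy A M (x ^ n)) (x :: l) :=
    h.of_support_subset (Module.support_subset_of_injective _ (Submodule.subtype_injective _))
  have hN' : Good (Submodule.torsionBy A M (x ^ n)) l := by
    refine hN.tail_of_pow_smul n fun m => ?_
    apply Subtype.ext
    rw [Submodule.coe_smul, Submodule.coe_zero]
    exact (Submodule.mem_torsionBy_iff _ _).mp m.2
  rw [h1, kchi_eq_zero_of_tail_good _ x l hN', zero_add,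
    kchi_cons_of_regular _ x (isSMulRegular_quotient_torsionBy M x n hn) l]

/-- support of the reduction. -/
lemma support_reduction_subset (M : Type u) [AddCommGroup M] [Module A M] [Module.Finite A M]
    (x : A) (n : ℕ) :
    Module.support A (QuotSMulTop x (M ⧸ Submodule.torsionBy A M (x ^ n))) ⊆
      Module.support A M ∩ {p | x ∈ p.asIdeal} := by
  rw [Module.support_quotSMulTop]
  rintro p ⟨hp1, hp2⟩
  refine ⟨Module.support_subset_of_surjective _ (Submodule.mkQ_surjective _) hp1, ?_⟩
  simpa using hp2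

lemma Good.reduction {M : Type u} [AddCommGroup M] [Module A M] [Module.Finite A M]
    {x : A} {l : List A} (h : Good M (x :: l)) (n : ℕ) :
    Good (QuotSMulTop x (M ⧸ Submodule.torsionBy A M (x ^ n))) l := by
  intro p hp hpl
  obtain ⟨hp1, hp2⟩ := support_reduction_subset M x n hp
  refine h p hp1 fun g hg => ?_
  rcases List.mem_cons.mp hg with rfl | hg
  · exact hp2
  · exact hpl g hg

/-- `χ(x^m :: l) = m χ(x :: l)`. -/
theorem kchi_pow_head (M : Type u) [AddCommGroup M] [Module A M] [Module.Finite A M]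
    (x : A) (l : List A) (h : Good M (x :: l)) (m : ℕ) :
    kchi M (x ^ m :: l) = m * kchi M (x :: l) := by
  induction m with
  | zero =>
    rw [pow_zero, Nat.cast_zero, zero_mul]
    apply kchi_eq_zero_of_disjoint
    intro p _ hp
    exact p.isPrime.ne_top ((Ideal.eq_top_iff_one _).mpr (hp 1 List.mem_cons_self))
  | succ m ih =>
    rw [pow_succ, kchi_mul_head M (x ^ m) x l (h.pow_head m) h, ih]
    push_cast
    ring

/-- `χ(x_1^{m_1}, …, x_k^{m_k}; M) = m_1 ⋯ m_k χ(x_1, …, x_k; M)`. -/
theorem kchi_ofFn_pow : ∀ (k : ℕ) (x : Fin k → A) (m : Fin k → ℕ) (M : Type u)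
    [AddCommGroup M] [Module A M] [Module.Finite A M], Good M (List.ofFn x) →
    kchi M (List.ofFn fun j => x j ^ m j) = (∏ j, (m j : ℤ)) * kchi M (List.ofFn x)
  | 0, x, m, M, _, _, _, _ => by simp
  | k + 1, x, m, M, _, _, _, h => by
    rw [List.ofFn_succ, List.ofFn_succ, Fin.prod_univ_succ]
    rw [List.ofFn_succ] at h
    obtain ⟨n, hn⟩ := exists_torsionBy_stable M (x 0)
    have hg : Good M (x 0 :: List.ofFn fun j : Fin k => x j.succ ^ m j.succ) := by
      refine h.of_VL_subset fun p _ hp g hg => ?_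
      rcases List.mem_cons.mp hg with rfl | hg
      · exact hp _ List.mem_cons_self
      · obtain ⟨j, rfl⟩ := (List.mem_ofFn' _ _).mp hg
        refine p.isPrime.mem_of_pow_mem (m j.succ) (hp _ (List.mem_cons_of_mem _ ?_))
        exact (List.mem_ofFn' _ _).mpr ⟨j, rfl⟩
    rw [kchi_pow_head M (x 0) _ hg (m 0), kchi_cons_eq M (x 0) n hn _ hg,
      kchi_ofFn_pow k (fun j => x j.succ) (fun j => m j.succ) _ (h.reduction n),
      kchi_cons_eq M (x 0) n hn _ h]
    ring

end

end Groth.Agent.Lib.KoszulEuler
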