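import Groth.Agent.Lib.KoszulPerfect
import Groth.Agent.Lib.SmoothPerfect
import Mathlib.AlgebraicGeometry.Morphisms.ClosedImmersion
import Groth.Prelude.Def_RegImm

/-!
# Koszul-regular immersions and Koszul morphisms are perfect

Namespace `Groth.Agent.Lib.KoszulImmPerfect`.

* `app_surjective_of_isClosedImmersion_restrict`, `isAffineOpen_preimage_of_isClosedImmersion_restrict`
* `isPerfectMor_of_isRegularImmersion_koszul` : a Koszul-regular immersion is a perfect morphism.
* `isPerfectMor_of_forall_isKoszulAt` : a morphism which is Koszul at every point is perfect.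
-/

set_option autoImplicit false
universe u
open CategoryTheory CategoryTheory.Limits AlgebraicGeometry
attribute [local instance] HasDerivedCategory.standard

namespace Groth.Agent.Lib.KoszulImmPerfect

open Groth.Agent.Lib.PerfHomLocal Groth.Agent.Lib.KoszulPerfect Groth.Agent.Lib.SmoothPerfect

variable {Z X : Scheme.{u}}

lemma isAffineOpen_preimage_of_isClosedImmersion_restrict (i : Z ⟶ X) (U : X.Opens)
    (hU : IsAffineOpen U) [IsClosedImmersion (i ∣_ U)] : IsAffineOpen (i ⁻¹ᵁ U) := by
  have : IsAffine (U : Scheme.{u}) := hU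
  exact (IsClosedImmersion.isAffine_surjective_of_isAffine (i ∣_ U)).1

lemma app_surjective_of_isClosedImmersion_restrict (i : Z ⟶ X) (U : X.Opens)
    (hU : IsAffineOpen U) [IsClosedImmersion (i ∣_ U)] : Function.Surjective (i.app U).hom := by
  have : IsAffine (U : Scheme.{u}) := hU
  have h1 := (IsClosedImmersion.isAffine_surjective_of_isAffine (i ∣_ U)).2
  rw [morphismRestrict_appTop] at h1
  have h2 : Function.Surjective (i.app (U.ι ''ᵁ ⊤)).hom := by
    intro y
    obtain ⟨x, hx⟩ := h1 (Z.presheaf.map (eqToHom (image_morphismRestrict_preimage i U ⊤)).op y)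
    refine ⟨x, ?_⟩
    have hinj : Function.Injective
        (Z.presheaf.map (eqToHom (image_morphismRestrict_preimage i U ⊤)).op).hom :=
      (ConcreteCategory.bijective_of_isIso _).1
    exact hinj hx
  have key : ∀ W : X.Opens, W = U → Function.Surjective (i.app W).hom →
      Function.Surjective (i.app U).hom := by
    rintro W rfl h
    exact h
  exact key _ U.ι_image_top h2

/-- a Koszul-regular immersion is a perfect morphism -/
theorem isPerfectMor_of_isRegularImmersion_koszul (i : Z ⟶ X)
    (h : RegImm.IsRegularImmersion .koszul i) : MoreMor.IsPerfectMor i := by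
  rw [isPerfectMor_iff_exists]
  intro z
  obtain ⟨U, hzU, hcl, rs, hrs, hker⟩ := h.2 z
  refine ⟨U, ⟨i ⁻¹ᵁ U.1, isAffineOpen_preimage_of_isClosedImmersion_restrict i U.1 U.2⟩, hzU,
    le_rfl, ?_⟩
  have h1 : PerfHom (i.app U.1).hom :=
    perfHom_of_surjective_of_ker (i.app U.1).hom
      (app_surjective_of_isClosedImmersion_restrict i U.1 U.2) rs hrs hker
  rwa [Scheme.Hom.app_eq_appLE] at h1

/-- a morphism which is Koszul at every point (a local complete intersection morphism in the
factorisation sense) is perfect -/
theorem isPerfectMor_of_forall_isKoszulAt {X Y : Scheme.{u}} (f : X ⟶ Y)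
    (hf : ∀ x : X, Synt.IsKoszulAt f x) : MoreMor.IsPerfectMor f := by
  choose U P i π hxU _ hreg hsm hfac using hf
  rw [isPerfectMor_iff]
  refine IsZariskiLocalAtSource.of_iSup_eq_top U ?_ (fun x => ?_)
  · rw [eq_top_iff]
    intro x _
    exact TopologicalSpace.Opens.mem_iSup.2 ⟨x, hxU x⟩
  · rw [← hfac x, ← isPerfectMor_iff]
    have := hsm x
    exact isPerfectMor_comp _ _ (isPerfectMor_of_isRegularImmersion_koszul (i x) (hreg x))
      (isPerfectMor_of_smooth (π x))

end Groth.Agent.Lib.KoszulImmPerfect
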