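import Groth.Agent.Lib.KoszulEuler5

/-!
# Length bounds for Koszul homology of powers (helper25)

* `length_le_of_exact`, `lengthD_le_of_distTriang`, `length_homology_le_of_shortExact`,
  `length_homology_mappingCone_le`, `length_homology_mappingCone_comp_le`;
* `length_homology_kcx_pow_head_le`: `ℓ H^i(x^n :: L; M) ≤ n ℓ H^i(x :: L; M)`;
* `exists_length_homology_kcx_pow_le`: `ℓ H^j(l^n; M) ≤ c n^{|l| + j}`.
-/

set_option autoImplicit false
universe u

open CategoryTheory Limits CochainComplex DerivedCategory Pretriangulated
open Groth.Agent.Lib.EulerLES Groth.Agent.Lib.EulerD Groth.Agent.Lib.KoszulCone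
  Groth.Agent.Lib.KoszulElem

namespace Groth.Agent.Lib.KoszulEuler

variable {A : Type u} [CommRing A]

attribute [local instance] HasDerivedCategory.standard

lemma length_le_of_exact {N M P : Type u} [AddCommGroup N] [Module A N] [AddCommGroup M]
    [Module A M] [AddCommGroup P] [Module A P] (f : N →ₗ[A] M) (g : M →ₗ[A] P)
    (h : Function.Exact f g) :
    Module.length A M ≤ Module.length A N + Module.length A P := by
  have h1 := Module.length_eq_add_of_exact (LinearMap.ker g).subtype g.rangeRestrict
    (Submodule.subtype_injective _) g.surjective_rangeRestrict (by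
      intro x
      constructor
      · intro hx
        refine ⟨⟨x, ?_⟩, rfl⟩
        rw [LinearMap.mem_ker]
        exact congrArg Subtype.val hx
      · rintro ⟨y, rfl⟩
        apply Subtype.ext
        exact y.2)
  rw [h1]
  gcongr
  · rw [LinearMap.exact_iff.mp h]
    exact Module.length_le_of_surjective f.rangeRestrict f.surjective_rangeRestrict
  · exact Module.length_le_of_injective (LinearMap.range g).subtype (Submodule.subtype_injective _)

lemma lengthD_le_of_distTriang (T : Triangle (DerivedCategory (ModuleCat.{u} A)))
    (hT : T ∈ distTriang _) (i : ℤ) :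
    Module.length A ((homologyFunctor (ModuleCat.{u} A) i).obj T.obj₂) ≤
      Module.length A ((homologyFunctor (ModuleCat.{u} A) i).obj T.obj₁) +
      Module.length A ((homologyFunctor (ModuleCat.{u} A) i).obj T.obj₃) :=
  length_le_of_exact ((homologyFunctor (ModuleCat.{u} A) i).map T.mor₁).hom
    ((homologyFunctor (ModuleCat.{u} A) i).map T.mor₂).hom
    ((ShortComplex.ShortExact.moduleCat_exact_iff_function_exact _).mp
      (HomologySequence.exact₂ T hT i))

lemma length_homologyQ (K : CochainComplex (ModuleCat.{u} A) ℤ) (i : ℤ) :
    Module.length A ((homologyFunctor (ModuleCat.{u} A) i).obj (Q.obj K)) =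
      Module.length A (K.homology i) :=
  (homologyQIso K i).toLinearEquiv.length_eq

theorem length_homology_le_of_shortExact (S : ShortComplex (CochainComplex (ModuleCat.{u} A) ℤ))
    (hS : S.ShortExact) (i : ℤ) :
    Module.length A (S.X₂.homology i) ≤
      Module.length A (S.X₁.homology i) + Module.length A (S.X₃.homology i) := by
  have := lengthD_le_of_distTriang _ (triangleOfSES_distinguished hS) i
  change Module.length A ((homologyFunctor (ModuleCat.{u} A) i).obj (Q.obj S.X₂)) ≤
    Module.length A ((homologyFunctor (ModuleCat.{u} A) i).obj (Q.obj S.X₁)) +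
    Module.length A ((homologyFunctor (ModuleCat.{u} A) i).obj (Q.obj S.X₃)) at this
  rw [length_homologyQ, length_homologyQ, length_homologyQ] at this
  exact this

theorem length_homology_mappingCone_le {K L : CochainComplex (ModuleCat.{u} A) ℤ} (φ : K ⟶ L)
    (i : ℤ) :
    Module.length A ((mappingCone φ).homology i) ≤
      Module.length A (L.homology i) + Module.length A (K.homology (i + 1)) := by
  have hT := mappingCone_triangle_distinguished φ
  have hT' := rot_of_distTriang _ hT
  have := lengthD_le_of_distTriang _ hT' i
  change Module.length A ((homologyFunctor (ModuleCat.{u} A) i).obj (Q.obj (mappingCone φ))) ≤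
    Module.length A ((homologyFunctor (ModuleCat.{u} A) i).obj (Q.obj L)) +
    Module.length A ((homologyFunctor (ModuleCat.{u} A) i).obj ((Q.obj K)⟦(1 : ℤ)⟧)) at this
  rw [length_homologyQ, length_homologyQ,
    (homologyShiftIso (Q.obj K) i).toLinearEquiv.length_eq, length_homologyQ] at this
  exact this

theorem length_homology_mappingCone_comp_le {K₁ K₂ K₃ : CochainComplex (ModuleCat.{u} A) ℤ}
    (f : K₁ ⟶ K₂) (g : K₂ ⟶ K₃) (i : ℤ) :
    Module.length A ((mappingCone (f ≫ g)).homology i) ≤
      Module.length A ((mappingCone f).homology i) +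
        Module.length A ((mappingCone g).homology i) := by
  have hT := mappingConeCompTriangle_distinguished f g
  have := lengthD_le_of_distTriang _ hT i
  change Module.length A ((homologyFunctor (ModuleCat.{u} A) i).obj (Q.obj (mappingCone (f ≫ g)))) ≤
    Module.length A ((homologyFunctor (ModuleCat.{u} A) i).obj (Q.obj (mappingCone f))) +
    Module.length A ((homologyFunctor (ModuleCat.{u} A) i).obj (Q.obj (mappingCone g))) at this
  rw [length_homologyQ, length_homologyQ, length_homologyQ] at this
  exact this

/-- `ℓ H^i(x^n :: L; M) ≤ n ℓ H^i(x :: L; M)` for `n ≥ 1`. -/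
theorem length_homology_kcx_pow_head_le (M : ModuleCat.{u} A) (x : A) (L : List A) (i : ℤ) :
    ∀ n : ℕ, 0 < n → Module.length A ((kcx M (x ^ n :: L)).homology i) ≤
      n * Module.length A ((kcx M (x :: L)).homology i)
  | 0, h => absurd h (lt_irrefl _)
  | 1, _ => by rw [pow_one]; simp
  | n + 2, _ => by
    have ih := length_homology_kcx_pow_head_le M x L i (n + 1) (Nat.succ_pos _)
    have e : (x ^ (n + 1) • 𝟙 (kcx M L)) ≫ (x • 𝟙 (kcx M L)) = x ^ (n + 2) • 𝟙 (kcx M L) := by
      rw [Linear.smul_comp, Linear.comp_smul, Category.id_comp, smul_smul, ← pow_succ]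
    have h := length_homology_mappingCone_comp_le (x ^ (n + 1) • 𝟙 (kcx M L)) (x • 𝟙 (kcx M L)) i
    rw [e] at h
    change Module.length A ((kcx M (x ^ (n + 2) :: L)).homology i) ≤
      Module.length A ((kcx M (x ^ (n + 1) :: L)).homology i) +
      Module.length A ((kcx M (x :: L)).homology i) at h
    refine h.trans ?_
    calc _ ≤ ((n + 1 : ℕ) : ℕ∞) * Module.length A ((kcx M (x :: L)).homology i) +
          Module.length A ((kcx M (x :: L)).homology i) := by gcongr
      _ = ((n + 2 : ℕ) : ℕ∞) * Module.length A ((kcx M (x :: L)).homology i) := by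
          push_cast
          ring

/-- half-exactness of Koszul homology lengths in the module. -/
theorem length_homology_kcx_le_of_exact {M' M M'' : Type u} [AddCommGroup M'] [Module A M']
    [AddCommGroup M] [Module A M] [AddCommGroup M''] [Module A M'']
    (f : M' →ₗ[A] M) (g : M →ₗ[A] M'') (hf : Function.Injective f) (hg : Function.Surjective g)
    (hfg : Function.Exact f g) (l : List A) (j : ℤ) :
    Module.length A ((kcx (ModuleCat.of A M) l).homology j) ≤
      Module.length A ((kcx (ModuleCat.of A M') l).homology j) +
      Module.length A ((kcx (ModuleCat.of A M'') l).homology j) := by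
  have w0 : (ModuleCat.ofHom f) ≫ (ModuleCat.ofHom g) = 0 := by
    apply ModuleCat.hom_ext
    apply LinearMap.ext
    intro x
    exact hfg.apply_apply_eq_zero x
  have hS : (ShortComplex.mk (ModuleCat.ofHom f) (ModuleCat.ofHom g) w0).ShortExact :=
    ModuleCat.shortComplex_shortExact _ hfg hf hg
  have hdeg : DegExact (kmap (ModuleCat.ofHom f) l) (kmap (ModuleCat.ofHom g) l) :=
    kmap_degExact _ hS l
  obtain ⟨w, hK⟩ := hdeg.shortExact
  exact length_homology_le_of_shortExact _ hK j

/-- the cone bound: `ℓ H^j(y :: L; N) ≤ ℓ H^j(L; N) + ℓ H^{j+1}(L; N)`. -/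
theorem length_homology_kcx_cons_le (N : ModuleCat.{u} A) (y : A) (L : List A) (j : ℤ) :
    Module.length A ((kcx N (y :: L)).homology j) ≤
      Module.length A ((kcx N L).homology j) + Module.length A ((kcx N L).homology (j + 1)) :=
  length_homology_mappingCone_le (y • 𝟙 (kcx N L)) j

/-- `x` regular on `N`: `ℓ H^j(x :: L; N) = ℓ H^j(L; N/xN)`. -/
theorem length_homology_kcx_cons_of_regular (N : Type u) [AddCommGroup N] [Module A N] (x : A)
    (hx : IsSMulRegular N x) (L : List A) (j : ℤ) :
    Module.length A ((kcx (ModuleCat.of A N) (x :: L)).homology j) =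
      Module.length A ((kcx (ModuleCat.of A (QuotSMulTop x N)) L).homology j) := by
  obtain ⟨q, hq⟩ := exists_quasiIso_cons N x hx L
  exact (isoOfQuasiIsoAt q j).toLinearEquiv.length_eq

/-- vanishing outside `[-|L|, 0]`. -/
theorem length_homology_kcx_eq_zero (N : ModuleCat.{u} A) (L : List A) (j : ℤ)
    (hj : j < -(L.length : ℤ) ∨ 0 < j) : Module.length A ((kcx N L).homology j) = 0 := by
  have := subsingleton_X_kcx N L j hj
  have := subsingleton_homology_of_subsingleton_X (kcx N L) j
  rw [Module.length_eq_zero_iff]
  infer_instance

section noeth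

variable [IsNoetherianRing A]

theorem exists_length_homology_kcx_pow_le : ∀ (l : List A) (M : Type u) [AddCommGroup M]
    [Module A M] [Module.Finite A M], Good M l → ∀ j : ℤ, ∃ c : ℕ, ∀ n : ℕ, 0 < n →
      Module.length A ((kcx (ModuleCat.of A M) (l.map (· ^ n))).homology j) ≤
        ((c * n ^ ((l.length : ℤ) + j).toNat : ℕ) : ℕ∞)
  | [], M, _, _, _, h, j => by
    have hfl : IsFiniteLength A M :=
      Groth.Agent.Lib.FiniteLengthSupport.isFiniteLength_of_support_isMaximal
        (fun p hp => h p hp (fun f hf => by simp at hf))
    have h1 : Module.length A M ≠ ⊤ := Module.length_ne_top_iff.mpr hfl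
    refine ⟨(Module.length A M).toNat, fun n _ => ?_⟩
    change Module.length A ((kcx (ModuleCat.of A M) ([] : List A)).homology j) ≤ _
    by_cases hj : j = 0
    · subst hj
      have e := (HomologicalComplex.singleObjHomologySelfIso (ComplexShape.up ℤ) 0
        (ModuleCat.of A M)).toLinearEquiv
      have : Module.length A ((kcx (ModuleCat.of A M) ([] : List A)).homology 0) =
          Module.length A M := e.length_eq
      rw [this]
      simp [ENat.natCast_toNat h1]
    · rw [length_homology_kcx_eq_zero]
      · exact bot_le
      · simp only [List.length_nil, Nat.cast_zero, neg_zero]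
        omega
  | x :: l, M, _, _, hM, h, j => by
    have IH := exists_length_homology_kcx_pow_le l
    induction hM using IsNoetherianRing.induction_on_isQuotientEquivQuotientPrime with
    | subsingleton N =>
      refine ⟨0, fun n _ => ?_⟩
      have h2 := (HS_kcx N ((x :: l).map (· ^ n)) j).2
      have : Subsingleton ((kcx (ModuleCat.of A N) ((x :: l).map (· ^ n))).homology j) := by
        rw [← Module.support_eq_empty_iff (R := A)]
        apply Set.eq_empty_of_forall_notMem
        intro p hp
        have := (h2 hp).1
        rw [Module.support_eq_empty] at this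
        exact this
      rw [Module.length_eq_zero]
      exact bot_le
    | quotient N p e =>
      by_cases hxp : x ∈ p.asIdeal
      · -- `x` kills `N`
        have hkill : ∀ m : N, x ^ 1 • m = 0 := by
          intro y
          apply e.injective
          rw [pow_one, map_smul, map_zero]
          obtain ⟨b, hb⟩ := Ideal.Quotient.mk_surjective (e y)
          rw [← hb]
          change (Ideal.Quotient.mk p.asIdeal) (x * b) = 0
          rw [Ideal.Quotient.eq_zero_iff_mem]
          exact Ideal.mul_mem_right _ _ hxp
        have hg : Good N l := Good.tail_of_pow_smul 1 hkill h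
        obtain ⟨c₁, hc₁⟩ := IH N hg j
        obtain ⟨c₂, hc₂⟩ := IH N hg (j + 1)
        refine ⟨c₁ + c₂, fun n hn => ?_⟩
        rw [List.map_cons]
        refine (length_homology_kcx_cons_le _ _ _ j).trans ?_
        refine (add_le_add (hc₁ n hn) (hc₂ n hn)).trans ?_
        have e1 : n ^ ((l.length : ℤ) + j).toNat ≤ n ^ (((x :: l).length : ℤ) + j).toNat :=
          Nat.pow_le_pow_right hn (by
            simp only [List.length_cons, Nat.cast_add, Nat.cast_one]
            omega)
        have e2 : n ^ ((l.length : ℤ) + (j + 1)).toNat ≤ n ^ (((x :: l).length : ℤ) + j).toNat :=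
          Nat.pow_le_pow_right hn (by
            simp only [List.length_cons, Nat.cast_add, Nat.cast_one]
            omega)
        have : c₁ * n ^ ((l.length : ℤ) + j).toNat + c₂ * n ^ ((l.length : ℤ) + (j + 1)).toNat ≤
            (c₁ + c₂) * n ^ (((x :: l).length : ℤ) + j).toNat := by
          rw [add_mul]
          exact add_le_add (Nat.mul_le_mul_left _ e1) (Nat.mul_le_mul_left _ e2)
        exact_mod_cast this
      · -- `x` is regular on `N`
        have hreg : IsSMulRegular N x := by
          intro a b hab
          apply e.injective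
          have hab' : x • e a = x • e b := by rw [← map_smul, ← map_smul]; exact congrArg e hab
          obtain ⟨a', ha'⟩ := Ideal.Quotient.mk_surjective (e a)
          obtain ⟨b', hb'⟩ := Ideal.Quotient.mk_surjective (e b)
          rw [← ha', ← hb'] at hab' ⊢
          change (Ideal.Quotient.mk p.asIdeal) (x * a') = (Ideal.Quotient.mk p.asIdeal) (x * b')
            at hab'
          rw [Ideal.Quotient.eq, ← mul_sub] at hab'
          rw [Ideal.Quotient.eq]
          exact (p.isPrime.mem_or_mem hab').resolve_left hxp
        have hg : Good (QuotSMulTop x N) l := h.quotSMulTop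
        obtain ⟨c, hc⟩ := IH (QuotSMulTop x N) hg j
        refine ⟨c, fun n hn => ?_⟩
        rw [List.map_cons]
        refine (length_homology_kcx_pow_head_le _ x _ j n hn).trans ?_
        rw [length_homology_kcx_cons_of_regular N x hreg]
        by_cases hneg : (l.length : ℤ) + j < 0
        · rw [length_homology_kcx_eq_zero]
          · simp
          · left
            rw [List.length_map]
            omega
        · have e1 : (((x :: l).length : ℤ) + j).toNat = ((l.length : ℤ) + j).toNat + 1 := by
            simp only [List.length_cons, Nat.cast_add, Nat.cast_one]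
            omega
          rw [e1]
          calc (n : ℕ∞) * Module.length A
                ((kcx (ModuleCat.of A (QuotSMulTop x N)) (l.map (· ^ n))).homology j)
              ≤ (n : ℕ∞) * ((c * n ^ ((l.length : ℤ) + j).toNat : ℕ) : ℕ∞) := by
                gcongr
                exact hc n hn
            _ = ((c * n ^ (((l.length : ℤ) + j).toNat + 1) : ℕ) : ℕ∞) := by
                push_cast
                ring
    | exact N₁ N₂ N₃ f g hf hg hfg h₁ h₃ =>
      obtain ⟨c₁, hc₁⟩ := h₁ (h.of_support_subset (Module.support_subset_of_injective f hf))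
      obtain ⟨c₃, hc₃⟩ := h₃ (h.of_support_subset (Module.support_subset_of_surjective g hg))
      refine ⟨c₁ + c₃, fun n hn => ?_⟩
      refine (length_homology_kcx_le_of_exact f g hf hg hfg _ j).trans ?_
      refine (add_le_add (hc₁ n hn) (hc₃ n hn)).trans ?_
      rw [add_mul]
      push_cast
      exact le_rfl

end noeth

end Groth.Agent.Lib.KoszulEuler
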