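import Groth.Agent.Lib.KoszulLenBound

/-!
# Length bounds for Koszul homology of powers by the dimension (helper25)

* `exists_length_homology_kcx_pow_le_dim`: for `l` in the maximal ideal of a Noetherian local
  ring, `Good M l`, `dim M ≤ d`: `ℓ H^j(l^n; M) ≤ c n^d`.
-/

set_option autoImplicit false
universe u

open CategoryTheory Limits CochainComplex
open Groth.Agent.Lib.EulerLES Groth.Agent.Lib.EulerD Groth.Agent.Lib.KoszulCone
  Groth.Agent.Lib.KoszulElem

namespace Groth.Agent.Lib.KoszulEuler

variable {A : Type u} [CommRing A] [IsNoetherianRing A]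

theorem length_homology_kcx_eq_zero_of_subsingleton (N : Type u) [AddCommGroup N] [Module A N]
    [Subsingleton N] (L : List A) (j : ℤ) :
    Module.length A ((kcx (ModuleCat.of A N) L).homology j) = 0 := by
  have h2 := (HS_kcx N L j).2
  have : Subsingleton ((kcx (ModuleCat.of A N) L).homology j) := by
    rw [← Module.support_eq_empty_iff (R := A)]
    apply Set.eq_empty_of_forall_notMem
    intro p hp
    have := (h2 hp).1
    rw [Module.support_eq_empty] at this
    exact this
  rw [Module.length_eq_zero]

private lemma withBot_pred {a : WithBot ℕ∞} {d : ℕ} (h : a + 1 ≤ (d : WithBot ℕ∞)) :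
    a ≤ ((d - 1 : ℕ) : WithBot ℕ∞) ∧ (d = 0 → a = ⊥) := by
  induction a using WithBot.recBotCoe with
  | bot => exact ⟨bot_le, fun _ => rfl⟩
  | coe a =>
    have h' : (a + 1 : ℕ∞) ≤ (d : ℕ∞) := by exact_mod_cast h
    have hne : a ≠ ⊤ := by
      rintro rfl
      simp at h'
    obtain ⟨m, rfl⟩ := ENat.ne_top_iff_exists.mp hne
    have h'' : m + 1 ≤ d := by exact_mod_cast h'
    refine ⟨?_, fun hd => by omega⟩
    have : m ≤ d - 1 := by omega
    generalize d - 1 = e at this
    have h3 : ((m : ℕ∞) : WithBot ℕ∞) ≤ ((e : ℕ∞) : WithBot ℕ∞) :=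
      WithBot.coe_le_coe.mpr (Nat.cast_le.mpr this)
    exact h3

variable [IsLocalRing A]

theorem exists_length_homology_kcx_pow_le_dim : ∀ (l : List A)
    (_ : ∀ a ∈ l, a ∈ IsLocalRing.maximalIdeal A) (M : Type u) [AddCommGroup M]
    [Module A M] [Module.Finite A M], Good M l → ∀ d : ℕ,
    Module.supportDim A M ≤ (d : WithBot ℕ∞) → ∀ j : ℤ, ∃ c : ℕ, ∀ n : ℕ, 0 < n →
      Module.length A ((kcx (ModuleCat.of A M) (l.map (· ^ n))).homology j) ≤
        ((c * n ^ d : ℕ) : ℕ∞)
  | [], _, M, _, _, _, h, d, _, j => by
    have hfl : IsFiniteLength A M :=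
      Groth.Agent.Lib.FiniteLengthSupport.isFiniteLength_of_support_isMaximal
        (fun p hp => h p hp (fun f hf => by simp at hf))
    have h1 : Module.length A M ≠ ⊤ := Module.length_ne_top_iff.mpr hfl
    refine ⟨(Module.length A M).toNat, fun n hn => ?_⟩
    change Module.length A ((kcx (ModuleCat.of A M) ([] : List A)).homology j) ≤ _
    by_cases hj : j = 0
    · subst hj
      have e := (HomologicalComplex.singleObjHomologySelfIso (ComplexShape.up ℤ) 0
        (ModuleCat.of A M)).toLinearEquiv
      have : Module.length A ((kcx (ModuleCat.of A M) ([] : List A)).homology 0) =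
          Module.length A M := e.length_eq
      rw [this]
      have h2 : (Module.length A M).toNat ≤ (Module.length A M).toNat * n ^ d :=
        Nat.le_mul_of_pos_right _ (pow_pos hn d)
      calc Module.length A M = (((Module.length A M).toNat : ℕ) : ℕ∞) :=
            (ENat.natCast_toNat h1).symm
        _ ≤ _ := by exact_mod_cast h2
    · rw [length_homology_kcx_eq_zero]
      · exact bot_le
      · simp only [List.length_nil, Nat.cast_zero, neg_zero]
        omega
  | x :: l, hl, M, _, _, hM, h, d, hd, j => by
    have IH := exists_length_homology_kcx_pow_le_dim l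
      (fun a ha => hl a (List.mem_cons_of_mem _ ha))
    have hxm : x ∈ IsLocalRing.maximalIdeal A := hl x List.mem_cons_self
    clear hl
    induction hM using IsNoetherianRing.induction_on_isQuotientEquivQuotientPrime generalizing d with
    | subsingleton N =>
      refine ⟨0, fun n _ => ?_⟩
      rw [length_homology_kcx_eq_zero_of_subsingleton]
      exact bot_le
    | quotient N p e =>
      by_cases hxp : x ∈ p.asIdeal
      · -- `x` kills `N`
        have hkill : ∀ m : N, x ^ 1 • m = 0 := by
          intro y
          apply e.injective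
          rw [pow_one, map_smul, map_zero]
          obtain ⟨b, hb⟩ := Ideal.Quotient.mk_surjective (e y)
          rw [← hb]
          change (Ideal.Quotient.mk p.asIdeal) (x * b) = 0
          rw [Ideal.Quotient.eq_zero_iff_mem]
          exact Ideal.mul_mem_right _ _ hxp
        have hg : Good N l := Good.tail_of_pow_smul 1 hkill h
        obtain ⟨c₁, hc₁⟩ := IH N hg d hd j
        obtain ⟨c₂, hc₂⟩ := IH N hg d hd (j + 1)
        refine ⟨c₁ + c₂, fun n hn => ?_⟩
        rw [List.map_cons]
        refine (length_homology_kcx_cons_le _ _ _ j).trans ?_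
        refine (add_le_add (hc₁ n hn) (hc₂ n hn)).trans ?_
        rw [add_mul]
        push_cast
        exact le_rfl
      · -- `x` is regular on `N`
        have hreg : IsSMulRegular N x := by
          intro a b hab
          apply e.injective
          have hab' : x • e a = x • e b := by rw [← map_smul, ← map_smul]; exact congrArg e hab
          obtain ⟨a', ha'⟩ := Ideal.Quotient.mk_surjective (e a)
          obtain ⟨b', hb'⟩ := Ideal.Quotient.mk_surjective (e b)
          rw [← ha', ← hb'] at hab' ⊢
          change (Ideal.Quotient.mk p.asIdeal) (x * a') = (Ideal.Quotient.mk p.asIdeal) (x * b')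
            at hab'
          rw [Ideal.Quotient.eq, ← mul_sub] at hab'
          rw [Ideal.Quotient.eq]
          exact (p.isPrime.mem_or_mem hab').resolve_left hxp
        have hg : Good (QuotSMulTop x N) l := h.quotSMulTop
        have hdim := Module.supportDim_quotSMulTop_succ_eq_supportDim hreg hxm
        obtain ⟨hd1, hd0⟩ := withBot_pred (hdim.le.trans hd)
        by_cases hdz : d = 0
        · have hsub : Subsingleton (QuotSMulTop x N) :=
            (Module.supportDim_eq_bot_iff_subsingleton A _).mp (hd0 hdz)
          refine ⟨0, fun n hn => ?_⟩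
          rw [List.map_cons]
          refine (length_homology_kcx_pow_head_le _ x _ j n hn).trans ?_
          rw [length_homology_kcx_cons_of_regular N x hreg,
            length_homology_kcx_eq_zero_of_subsingleton]
          simp
        · obtain ⟨c, hc⟩ := IH (QuotSMulTop x N) hg (d - 1) hd1 j
          refine ⟨c, fun n hn => ?_⟩
          rw [List.map_cons]
          refine (length_homology_kcx_pow_head_le _ x _ j n hn).trans ?_
          rw [length_homology_kcx_cons_of_regular N x hreg]
          have e1 : d = (d - 1) + 1 := by omega
          calc (n : ℕ∞) * Module.length A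
                ((kcx (ModuleCat.of A (QuotSMulTop x N)) (l.map (· ^ n))).homology j)
              ≤ (n : ℕ∞) * ((c * n ^ (d - 1) : ℕ) : ℕ∞) := by
                gcongr
                exact hc n hn
            _ = ((c * n ^ ((d - 1) + 1) : ℕ) : ℕ∞) := by
                push_cast
                ring
            _ = ((c * n ^ d : ℕ) : ℕ∞) := by rw [← e1]
    | exact N₁ N₂ N₃ f g hf hg hfg h₁ h₃ =>
      obtain ⟨c₁, hc₁⟩ := h₁ (h.of_support_subset (Module.support_subset_of_injective f hf)) d
        ((Module.supportDim_le_of_injective f hf).trans hd)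
      obtain ⟨c₃, hc₃⟩ := h₃ (h.of_support_subset (Module.support_subset_of_surjective g hg)) d
        ((Module.supportDim_le_of_surjective g hg).trans hd)
      refine ⟨c₁ + c₃, fun n hn => ?_⟩
      refine (length_homology_kcx_le_of_exact f g hf hg hfg _ j).trans ?_
      refine (add_le_add (hc₁ n hn) (hc₃ n hn)).trans ?_
      rw [add_mul]
      push_cast
      exact le_rfl

end Groth.Agent.Lib.KoszulEuler
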