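/-
Groth.Agent.Lib.KoszulOver49 (helper49)

The Koszul complex of an arbitrary `O`-module `F` on `P^n_T` over ANY base scheme `T`
(port of helper4's `H4KoszulPn.exists_koszul` from `P^n_R` to `CohB1.ProjSpaceOver n T`):
* `π n T : P^n_T ⟶ P^n_ℤ`, `mulOver n T c d : O_T(d) ⟶ O_T(d+1)` (pull-back of multiplication by `X_c`),
* `unitV_naturality` (naturality of the unit of `h^* ⊣ h_*` on sections),
* `twSysOver`, `stdOpenOver`, `isIso_restrict_twSysOver_x`,
* `exists_koszul_over F a`: an exact complex with terms `(F ⊗ O(a+i))^{choose (n+1) i}`, `0 ≤ i ≤ n+1`.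
-/
import Groth.Agent.Lib.H4KoszulPn
import Groth.Agent.Lib.PullSecH3
import Groth.Agent.Lib.H4TwistInv
import Groth.Agent.Lib.H90InvertibleFP
import Groth.Prelude.Def_KRR

set_option autoImplicit false
universe u
open CategoryTheory CategoryTheory.Limits AlgebraicGeometry TopologicalSpace Opposite Twist
open Groth.Agent.Lib.H90Invertible Groth.Agent.Lib.H4TensorPair Groth.Agent.Lib.H4Twist
open Groth.Agent.Lib.H4KoszulPn Groth.Agent.Lib.PullSecH3

namespace Groth.Agent.Lib.KoszulOver49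

section Unit

variable {X Y : Scheme.{u}} (h : X ⟶ Y)

/-- naturality of the unit of `h^* ⊣ h_*` on sections -/
theorem unitV_naturality {N N' : Y.Modules} (g : N ⟶ N') (V : Y.Opens) (e : Γ(N, V)) :
    ((Scheme.Modules.pullback h).map g).app (h ⁻¹ᵁ V) (unitV h N V e) =
      unitV h N' V (g.app V e) := by
  have hnat := (Scheme.Modules.pullbackPushforwardAdjunction h).unit.naturality g
  have h1 := congrArg (fun φ => (Scheme.Modules.Hom.app φ V) e) hnat
  exact h1.symm

end Unit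

section GenAt

variable {R A : Type u} [CommRing R] [CommRing A] [Algebra R A] {𝒜 : ℕ → Submodule R A}
  [GradedAlgebra 𝒜]

theorem mulHom_app_genAt {f : A} (hf : f ∈ 𝒜 1) {U : (Proj 𝒜).Opens}
    (hU : ∀ x : U, f ∉ x.1.asHomogeneousIdeal) (d : ℤ) :
    (mulHom hf d).app U (genAt hf hU d d (by simp)) = genAt hf hU (d + 1) (d + 1) (by simp) :=
  sec_ext fun x => by
    rw [sval_mulHom_app, sval_genAt, sval_genAt, zpow_add_one, Units.val_mul]
    rfl

end GenAt

section Pn

open Groth.Agent.Lib.OXModTensor Groth.Agent.Lib.H4Koszul Groth.Agent.Lib.RestrictExact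

variable (n : ℕ) (T : Scheme.{u})

/-- the projection `P^n_T ⟶ P^n_ℤ` -/
noncomputable abbrev π : KRR.PY n T ⟶ CohB1.ProjSpace n (ULift.{u} ℤ) :=
  pullback.fst (CohB1.ProjSpace.toSpec n (ULift.{u} ℤ)) (specULiftZIsTerminal.from T)

lemma twistOver_eq (d : ℤ) :
    Twist.twistOver n T d =
      (Scheme.Modules.pullback (π n T)).obj (Twist.twistProjSpace n (ULift.{u} ℤ) d) := rfl

/-- multiplication by the coordinate `X_c`, as a morphism `O(d) ⟶ O(d+1)` on `P^n_ℤ` -/
noncomputable def mulP (c : Fin (n + 1)) (d : ℤ) :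
    Twist.twistProjSpace n (ULift.{u} ℤ) d ⟶ Twist.twistProjSpace n (ULift.{u} ℤ) (d + 1) :=
  mulHom (Groth.Agent.Lib.ProjSpaceCover.X_mem n (ULift.{u} ℤ) c) d

lemma mulP_comm (c c' : Fin (n + 1)) (d : ℤ) :
    mulP n c d ≫ mulP n c' (d + 1) = mulP n c' d ≫ mulP n c (d + 1) :=
  mulHom_comm _ _ d

/-- multiplication by the coordinate `X_c`, as a morphism `O(d) ⟶ O(d+1)` on `P^n_T` -/
noncomputable def mulOver (c : Fin (n + 1)) (d : ℤ) :
    Twist.twistOver n T d ⟶ Twist.twistOver n T (d + 1) :=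
  (Scheme.Modules.pullback (π n T)).map (mulP n c d)

lemma mulOver_comm (c c' : Fin (n + 1)) (d : ℤ) :
    mulOver n T c d ≫ mulOver n T c' (d + 1) = mulOver n T c' d ≫ mulOver n T c (d + 1) := by
  exact ((Scheme.Modules.pullback (π n T)).map_comp _ _).symm.trans
    ((congrArg (Scheme.Modules.pullback (π n T)).map (mulP_comm n c c' d)).trans
      ((Scheme.Modules.pullback (π n T)).map_comp _ _))

/-- the twist system `d ↦ F ⊗ O(d)` on `P^n_T` -/
noncomputable def twSysOver (F : (KRR.PY n T).Modules) : TwSys (KRR.PY n T).Modules where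
  obj d := CohB1.tensorMod F (Twist.twistOver n T d)
  x c d := if h : c < n + 1 then tensorModMap (𝟙 F) (mulOver n T ⟨c, h⟩ d) else 0
  comm c c' d := by
    by_cases h : c < n + 1
    · by_cases h' : c' < n + 1
      · rw [dif_pos h, dif_pos h', dif_pos h, dif_pos h', ← tensorModMap_comp, ← tensorModMap_comp]
        congr 1
        exact mulOver_comm n T _ _ d
      · rw [dif_neg h', dif_neg h', Limits.comp_zero, Limits.zero_comp]
    · rw [dif_neg h, dif_neg h, Limits.comp_zero, Limits.zero_comp]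

/-- the preimage of the standard open `D₊(X_c)` in `P^n_T` -/
noncomputable def stdOpenOver (c : Fin (n + 1)) : (KRR.PY n T).Opens :=
  (π n T) ⁻¹ᵁ (stdOpen n (ULift.{u} ℤ) c)

theorem iSup_stdOpenOver : ⨆ c : Fin (n + 1), stdOpenOver n T c = ⊤ := by
  rw [eq_top_iff]
  intro x _
  have hx : (π n T) x ∈ (⨆ c : Fin (n + 1), stdOpen n (ULift.{u} ℤ) c) := by
    rw [iSup_stdOpen]; trivial
  obtain ⟨c, hc⟩ := TopologicalSpace.Opens.mem_iSup.mp hx
  exact TopologicalSpace.Opens.mem_iSup.mpr ⟨c, hc⟩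

theorem isIso_restrict_twSysOver_x (F : (KRR.PY n T).Modules) (c : Fin (n + 1)) (d : ℤ) :
    IsIso ((Scheme.Modules.restrictFunctor (stdOpenOver n T c).ι).map ((twSysOver n T F).x c.1 d)) := by
  have h1 : (twSysOver n T F).x c.1 d = tensorModMap (𝟙 F) (mulOver n T c d) := dif_pos c.2
  rw [h1]
  let 𝒜' := CohB1.polyGrading n (ULift.{u} ℤ)
  have hf := Groth.Agent.Lib.ProjSpaceCover.X_mem n (ULift.{u} ℤ) c
  have hU : ∀ x : Proj.basicOpen 𝒜' (MvPolynomial.X c),
      (MvPolynomial.X c : MvPolynomial (Fin (n + 1)) (ULift.{u} ℤ)) ∉ x.1.asHomogeneousIdeal :=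
    fun x => x.2
  have hq : ∀ d : ℤ, (Twist.twistProjSpace n (ULift.{u} ℤ) d).IsQuasicoherent := fun d => by
    have h := isInvertible_twist_of_cover (CohB1.polyGrading n (ULift.{u} ℤ)) 1 d (fun x => by
      obtain ⟨i, hi⟩ := exists_X_notMem (n := n) (R := ULift.{u} ℤ) x
      exact ⟨MvPolynomial.X i, Groth.Agent.Lib.ProjSpaceCover.X_mem n (ULift.{u} ℤ) i, hi⟩)
    rw [Nat.cast_one, mul_one] at h
    exact isQCoh_of_isInvertible h
  have := hq d
  have := hq (d + 1)
  let e₀ : Γ(Twist.twistProjSpace n (ULift.{u} ℤ) d, stdOpen n (ULift.{u} ℤ) c) :=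
    genAt hf hU d d (by simp)
  have he₀ : IsGen (Twist.twistProjSpace n (ULift.{u} ℤ) d) (stdOpen n (ULift.{u} ℤ) c) e₀ :=
    isGen_genAt hf hU d d _
  have hm : (mulP n c d).app _ e₀ = genAt hf hU (d + 1) (d + 1) (by simp) :=
    mulHom_app_genAt hf hU d
  have he₁ : IsGen (Twist.twistProjSpace n (ULift.{u} ℤ) (d + 1)) (stdOpen n (ULift.{u} ℤ) c)
      ((mulP n c d).app _ e₀) := by
    rw [hm]
    exact isGen_genAt hf hU (d + 1) (d + 1) _
  refine isIso_restrict_tensorModMap F (mulOver n T c d) (stdOpenOver n T c)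
    (unitV (π n T) _ _ e₀) (isGen_unitV (π n T) _ he₀) ?_
  have := unitV_naturality (π n T) (mulP n c d) (stdOpen n (ULift.{u} ℤ) c) e₀
  have h2 := isGen_unitV (π n T) _ he₁
  rw [← this] at h2
  exact h2

/-- **The Koszul complex of `F` on `P^n_T`**: an exact complex with terms `(F ⊗ O(a + i))^{choose (n+1) i}`,
`0 ≤ i ≤ n + 1`. -/
theorem exists_koszul_over (F : (KRR.PY n T).Modules) (a : ℤ) :
    ∃ C : CochainComplex (KRR.PY n T).Modules ℤ, (∀ i : ℤ, C.ExactAt i) ∧
      (∀ i : ℕ, i ≤ n + 1 → Nonempty (C.X (i : ℤ) ≅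
        ∐ fun _ : Fin (Nat.choose (n + 1) i) => CohB1.tensorMod F (Twist.twistOver n T (a + i)))) ∧
      (∀ i : ℤ, i < 0 ∨ (n : ℤ) + 1 < i → IsZero (C.X i)) := by
  refine ⟨TwSys.kosCx (twSysOver n T F) (n + 1) a, ?_, fun i hi => ?_, fun i hi => ?_⟩
  · refine TwSys.kosCx_acyclic _ _ _ ?_
    refine TwSys.acyclic_of_forall_map
      (𝒟 := fun c : Fin (n + 1) => ((stdOpenOver n T c : (KRR.PY n T).Opens) : Scheme.{u}).Modules)
      (fun c => Scheme.Modules.restrictFunctor (stdOpenOver n T c).ι)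
      (fun M hM => isZero_of_forall_restrict M _ (iSup_stdOpenOver n T) hM) _ (fun c => ?_)
    exact TwSys.kos_GAcyclic _ (twSysOver n T F) c.1 (fun d => isIso_restrict_twSysOver_x n T F c d)
      (n + 1) c.2 a
  · exact TwSys.nonempty_kosCx_X_iso (twSysOver n T F) (n + 1) a i hi
  · exact TwSys.isZero_kosCx_X (twSysOver n T F) (n + 1) a i (by push_cast; omega)

end Pn

end Groth.Agent.Lib.KoszulOver49
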