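import Groth.Agent.Lib.KoszulTopLim23

/-!
# The residue pairing on a polynomial ring (helper23)

`S = A[T_0..T_r]`.  `Dual A r = Hom_A(S, A)` with its `S`-module structure `(s • φ)(q) = φ(s q)`;
`τ n = (q ↦ coeff_{(n,…,n)}(q · T_0⋯T_r))`; `p • τ n = 0 ↔ p ∈ (T_0^n, …, T_r^n)`;
`(T_0⋯T_r)^(m-n) • τ m = τ n`; the `p • τ n` span exactly the finitely supported functionals.
-/

set_option autoImplicit false
universe u

open MvPolynomial

namespace Groth.Agent.Lib.KoszulPoly23

variable (A : Type u) [CommRing A] (r : ℕ)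

/-- `Hom_A(S, A)` for `S = A[T_0, …, T_r]` -/
def Dual : Type u := MvPolynomial (Fin (r + 1)) A →ₗ[A] A

noncomputable instance : AddCommGroup (Dual A r) :=
  inferInstanceAs (AddCommGroup (MvPolynomial (Fin (r + 1)) A →ₗ[A] A))

noncomputable instance instModA : Module A (Dual A r) :=
  inferInstanceAs (Module A (MvPolynomial (Fin (r + 1)) A →ₗ[A] A))

variable {A r}

/-- evaluate a functional -/
noncomputable def Dual.ev (φ : Dual A r) (q : MvPolynomial (Fin (r + 1)) A) : A :=
  (show MvPolynomial (Fin (r + 1)) A →ₗ[A] A from φ) q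

theorem Dual.ext {φ ψ : Dual A r} (h : ∀ q, φ.ev q = ψ.ev q) : φ = ψ :=
  LinearMap.ext h

/-- a linear map as an element of `Dual` -/
noncomputable def Dual.mk (φ : MvPolynomial (Fin (r + 1)) A →ₗ[A] A) : Dual A r := φ

@[simp] theorem Dual.ev_mk (φ : MvPolynomial (Fin (r + 1)) A →ₗ[A] A) (q) : (Dual.mk φ).ev q = φ q := rfl

@[simp] theorem Dual.ev_add (φ ψ : Dual A r) (q) : (φ + ψ).ev q = φ.ev q + ψ.ev q := rfl

@[simp] theorem Dual.ev_zero (q) : (0 : Dual A r).ev q = 0 := rfl

@[simp] theorem Dual.ev_smulA (a : A) (φ : Dual A r) (q) : (a • φ).ev q = a * φ.ev q := rfl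

noncomputable instance instModS : Module (MvPolynomial (Fin (r + 1)) A) (Dual A r) where
  smul s φ := Dual.mk ((show MvPolynomial (Fin (r + 1)) A →ₗ[A] A from φ).comp (LinearMap.mulLeft A s))
  one_smul φ := Dual.ext fun q => by
    change φ.ev (1 * q) = φ.ev q
    rw [one_mul]
  mul_smul s t φ := Dual.ext fun q => by
    change φ.ev (s * t * q) = φ.ev (t * (s * q))
    congr 1; ring
  smul_zero s := rfl
  smul_add s φ ψ := rfl
  add_smul s t φ := Dual.ext fun q => by
    change φ.ev ((s + t) * q) = φ.ev (s * q) + φ.ev (t * q)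
    rw [add_mul]
    exact map_add (show MvPolynomial (Fin (r + 1)) A →ₗ[A] A from φ) _ _
  zero_smul φ := Dual.ext fun q => by
    change φ.ev (0 * q) = 0
    rw [zero_mul]
    exact map_zero (show MvPolynomial (Fin (r + 1)) A →ₗ[A] A from φ)

@[simp] theorem Dual.ev_smul (s : MvPolynomial (Fin (r + 1)) A) (φ : Dual A r) (q) :
    (s • φ).ev q = φ.ev (s * q) := rfl

theorem Dual.C_smul (a : A) (φ : Dual A r) : (C a : MvPolynomial (Fin (r + 1)) A) • φ = a • φ :=
  Dual.ext fun q => by
    rw [Dual.ev_smul, Dual.ev_smulA, C_mul']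
    exact map_smul (show MvPolynomial (Fin (r + 1)) A →ₗ[A] A from φ) a q

theorem Dual.ev_map_add (φ : Dual A r) (p q) : φ.ev (p + q) = φ.ev p + φ.ev q :=
  map_add (show MvPolynomial (Fin (r + 1)) A →ₗ[A] A from φ) p q

theorem Dual.ev_map_smul (φ : Dual A r) (a : A) (q) : φ.ev (a • q) = a * φ.ev q :=
  map_smul (show MvPolynomial (Fin (r + 1)) A →ₗ[A] A from φ) a q

variable (r) in
/-- the constant exponent vector `(n, …, n)` -/
noncomputable def cst (n : ℕ) : Fin (r + 1) →₀ ℕ := Finsupp.equivFunOnFinite.symm (fun _ => n)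

@[simp] theorem cst_apply (n : ℕ) (j : Fin (r + 1)) : cst r n j = n := rfl

theorem cst_add (n m : ℕ) : cst r n + cst r m = cst r (n + m) := by
  ext j; simp

theorem cst_sub (n m : ℕ) : cst r n - cst r m = cst r (n - m) := by
  ext j; simp

theorem cst_le {n m : ℕ} (h : n ≤ m) : cst r n ≤ cst r m := fun j => by simpa using h

variable (A r) in
/-- the coefficient functionals -/
noncomputable def co (a : Fin (r + 1) →₀ ℕ) : Dual A r := Dual.mk (lcoeff A a)

@[simp] theorem ev_co (a : Fin (r + 1) →₀ ℕ) (q : MvPolynomial (Fin (r + 1)) A) :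
    (co A r a).ev q = coeff a q := rfl

variable (A r) in
/-- the residue functional of level `n`: `q ↦ coeff_{(n,…,n)}(q · T_0 ⋯ T_r)` -/
noncomputable def τ (n : ℕ) : Dual A r := (monomial (cst r 1) (1 : A)) • co A r (cst r n)

theorem ev_τ (n : ℕ) (q : MvPolynomial (Fin (r + 1)) A) :
    (τ A r n).ev q = coeff (cst r n) (monomial (cst r 1) 1 * q) := rfl

theorem monomial_smul_τ (b : Fin (r + 1) →₀ ℕ) (n : ℕ) :
    (monomial b (1 : A)) • τ A r n =
      if b + cst r 1 ≤ cst r n then co A r (cst r n - (b + cst r 1)) else 0 := by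
  refine Dual.ext fun q => ?_
  rw [Dual.ev_smul, ev_τ, ← mul_assoc, monomial_mul, one_mul, coeff_monomial_mul', add_comm (cst r 1) b]
  split_ifs with h
  · rw [one_mul, ev_co]
  · rfl

/-- the product of the `k`-th powers of the variables -/
theorem prod_map_pow_ofFn (k : ℕ) :
    ((List.ofFn (fun j : Fin (r + 1) => (X j : MvPolynomial (Fin (r + 1)) A))).map (· ^ k)).prod =
      monomial (cst r k) 1 := by
  rw [List.map_ofFn, List.prod_ofFn, monomial_eq, C_1, one_mul, Finsupp.prod_fintype]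
  · rfl
  · intro i; exact pow_zero _

theorem prod_smul_τ (n m : ℕ) (h : n ≤ m) :
    (monomial (cst r (m - n)) (1 : A)) • τ A r m = τ A r n := by
  refine Dual.ext fun q => ?_
  rw [Dual.ev_smul, ev_τ, ev_τ, ← mul_assoc, mul_comm (monomial (cst r 1) 1) (monomial (cst r (m - n)) 1),
    mul_assoc, coeff_monomial_mul', if_pos (cst_le (Nat.sub_le m n)), one_mul, cst_sub,
    Nat.sub_sub_self h]

/-- the ideal `(T_0^n, …, T_r^n)` -/
noncomputable abbrev J (A : Type u) [CommRing A] (r n : ℕ) : Ideal (MvPolynomial (Fin (r + 1)) A) :=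
  Ideal.ofList ((List.ofFn (fun j : Fin (r + 1) => (X j : MvPolynomial (Fin (r + 1)) A))).map (· ^ n))

theorem X_pow_mem_J (n : ℕ) (j : Fin (r + 1)) : (X j : MvPolynomial (Fin (r + 1)) A) ^ n ∈ J A r n := by
  apply Ideal.subset_span
  simp only [List.map_ofFn, Set.mem_ofPred_eq, List.mem_ofFn]
  exact ⟨j, rfl⟩

theorem smul_τ_eq_zero_of_mem (n : ℕ) (p : MvPolynomial (Fin (r + 1)) A) (hp : p ∈ J A r n) :
    p • τ A r n = 0 := by
  have hle : J A r n ≤
      LinearMap.ker (LinearMap.toSpanSingleton (MvPolynomial (Fin (r + 1)) A) (Dual A r) (τ A r n)) := by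
    refine Ideal.span_le.2 ?_
    intro x hx
    simp only [List.map_ofFn, Set.mem_ofPred_eq, List.mem_ofFn] at hx
    obtain ⟨j, rfl⟩ := hx
    change ((X j : MvPolynomial (Fin (r + 1)) A) ^ n) • τ A r n = 0
    rw [X_pow_eq_monomial, monomial_smul_τ, if_neg]
    intro hle
    have := hle j
    simp at this
  exact hle hp

theorem ev_smul_τ_monomial (n : ℕ) (p : MvPolynomial (Fin (r + 1)) A) (b : Fin (r + 1) →₀ ℕ)
    (hb : b + cst r 1 ≤ cst r n) :
    (p • τ A r n).ev (monomial (cst r n - (b + cst r 1)) 1) = coeff b p := by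
  have h1 : cst r n - (b + cst r 1) + cst r 1 ≤ cst r n := by
    intro j
    have := hb j
    simp only [Finsupp.coe_add, Finsupp.coe_tsub, Pi.add_apply, Pi.sub_apply, cst_apply] at this ⊢
    omega
  have h2 : cst r n - (cst r n - (b + cst r 1) + cst r 1) = b := by
    ext j
    have := hb j
    simp only [Finsupp.coe_add, Finsupp.coe_tsub, Pi.add_apply, Pi.sub_apply, cst_apply] at this ⊢
    omega
  rw [Dual.ev_smul, ev_τ, mul_comm (monomial (cst r 1) 1), mul_assoc, monomial_mul, one_mul,
    coeff_mul_monomial', if_pos h1, h2, mul_one]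

theorem mem_J_of_smul_τ_eq_zero (n : ℕ) (p : MvPolynomial (Fin (r + 1)) A) (h : p • τ A r n = 0) :
    p ∈ J A r n := by
  rw [p.as_sum]
  refine Ideal.sum_mem _ fun b hb => ?_
  have hb' : coeff b p ≠ 0 := MvPolynomial.mem_support_iff.1 hb
  have hnot : ¬ (b + cst r 1 ≤ cst r n) := by
    intro hle
    apply hb'
    rw [← ev_smul_τ_monomial n p b hle, h]
    rfl
  obtain ⟨j, hj⟩ : ∃ j, n ≤ b j := by
    by_contra hcon
    push Not at hcon
    apply hnot
    intro j
    have := hcon j
    simp only [Finsupp.coe_add, Pi.add_apply, cst_apply]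
    omega
  have hsplit : monomial b (coeff b p) =
      (X j : MvPolynomial (Fin (r + 1)) A) ^ n * monomial (b - Finsupp.single j n) (coeff b p) := by
    have he : Finsupp.single j n + (b - Finsupp.single j n) = b := by
      ext i
      by_cases hi : i = j
      · subst hi
        simp only [Finsupp.coe_add, Finsupp.coe_tsub, Pi.add_apply, Pi.sub_apply,
          Finsupp.single_eq_same]
        omega
      · simp [Finsupp.single_apply, Ne.symm hi]
    rw [X_pow_eq_monomial, monomial_mul, one_mul, he]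
  rw [hsplit]
  exact Ideal.mul_mem_right _ _ (X_pow_mem_J n j)

theorem co_eq_smul_τ (a : Fin (r + 1) →₀ ℕ) (n : ℕ) (h : a + cst r 1 ≤ cst r n) :
    co A r a = (monomial (cst r n - (a + cst r 1)) (1 : A)) • τ A r n := by
  have h1 : cst r n - (a + cst r 1) + cst r 1 ≤ cst r n := by
    intro j
    have := h j
    simp only [Finsupp.coe_add, Finsupp.coe_tsub, Pi.add_apply, Pi.sub_apply, cst_apply] at this ⊢
    omega
  have h2 : cst r n - (cst r n - (a + cst r 1) + cst r 1) = a := by
    ext j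
    have := h j
    simp only [Finsupp.coe_add, Finsupp.coe_tsub, Pi.add_apply, Pi.sub_apply, cst_apply] at this ⊢
    omega
  rw [monomial_smul_τ, if_pos h1, h2]

theorem exists_co_eq_smul_τ (a : Fin (r + 1) →₀ ℕ) :
    ∃ (n : ℕ) (p : MvPolynomial (Fin (r + 1)) A), co A r a = p • τ A r n := by
  refine ⟨(Finset.univ.sup a) + 1, _, co_eq_smul_τ a _ ?_⟩
  intro j
  have : a j ≤ Finset.univ.sup a := Finset.le_sup (f := a) (Finset.mem_univ j)
  simp only [Finsupp.coe_add, Pi.add_apply, cst_apply]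
  omega

theorem add_smul_τ (p q : MvPolynomial (Fin (r + 1)) A) (n : ℕ) :
    (p + q) • τ A r n = p • τ A r n + q • τ A r n := add_smul p q _

theorem smul_τ_mem_span (n : ℕ) (p : MvPolynomial (Fin (r + 1)) A) :
    p • τ A r n ∈ Submodule.span A (Set.range (co A r)) := by
  induction p using MvPolynomial.induction_on' with
  | monomial b a =>
    have : monomial b a = (C a : MvPolynomial (Fin (r + 1)) A) * monomial b 1 := by
      rw [C_mul_monomial, mul_one]
    rw [this, mul_smul, Dual.C_smul, monomial_smul_τ]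
    apply Submodule.smul_mem
    split_ifs
    · exact Submodule.subset_span ⟨_, rfl⟩
    · exact Submodule.zero_mem _
  | add p q hp hq =>
    rw [add_smul]
    exact Submodule.add_mem _ hp hq

theorem linearIndependent_co : LinearIndependent A (co A r) := by
  rw [linearIndependent_iff']
  intro s g hg a ha
  have h1 := congrArg (fun φ : Dual A r => φ.ev (monomial a 1)) hg
  simp only [Dual.ev_zero] at h1
  have h2 : (∑ i ∈ s, g i • co A r i).ev (monomial a 1) = ∑ i ∈ s, g i * coeff i (monomial a (1 : A)) := by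
    have : ∀ (t : Finset (Fin (r + 1) →₀ ℕ)), (∑ i ∈ t, g i • co A r i).ev (monomial a 1) =
        ∑ i ∈ t, g i * coeff i (monomial a (1 : A)) := by
      intro t
      classical
      induction t using Finset.induction_on with
      | empty => simp
      | insert x t hx ih =>
        rw [Finset.sum_insert hx, Finset.sum_insert hx, Dual.ev_add, ih, Dual.ev_smulA, ev_co]
    exact this s
  rw [h2] at h1
  classical
  simp only [coeff_monomial, mul_ite, mul_one, mul_zero] at h1
  rw [Finset.sum_ite_eq] at h1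
  simpa [ha] using h1

theorem getElem_pow (n k : ℕ)
    (hk : k < ((List.ofFn (fun j : Fin (r + 1) => (X j : MvPolynomial (Fin (r + 1)) A))).map (· ^ n)).length)
    (hk' : k < r + 1) :
    ((List.ofFn (fun j : Fin (r + 1) => (X j : MvPolynomial (Fin (r + 1)) A))).map (· ^ n))[k] =
      monomial (Finsupp.single (⟨k, hk'⟩ : Fin (r + 1)) n) (1 : A) := by
  rw [List.getElem_map, List.getElem_ofFn, X_pow_eq_monomial]

theorem length_pow (n : ℕ) :
    ((List.ofFn (fun j : Fin (r + 1) => (X j : MvPolynomial (Fin (r + 1)) A))).map (· ^ n)).length = r + 1 := by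
  rw [List.length_map, List.length_ofFn]

/-- the ideal generated by the first `i` of the `T_j^n` is the monomial ideal of the `n δ_j`, `j < i` -/
theorem ofList_take_eq (n i : ℕ) :
    Ideal.ofList (((List.ofFn (fun j : Fin (r + 1) => (X j : MvPolynomial (Fin (r + 1)) A))).map
      (· ^ n)).take i) =
      Ideal.span ((fun s => monomial s (1 : A)) ''
        {s : Fin (r + 1) →₀ ℕ | ∃ j : Fin (r + 1), j.val < i ∧ s = Finsupp.single j n}) := by
  unfold Ideal.ofList
  congr 1
  ext x
  simp only [Set.mem_ofPred_eq, Set.mem_image]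
  rw [List.mem_take_iff_getElem]
  constructor
  · rintro ⟨k, hk, rfl⟩
    have hk' : k < r + 1 := by
      have := (lt_min_iff.1 hk).2
      rwa [length_pow] at this
    refine ⟨Finsupp.single ⟨k, hk'⟩ n, ⟨⟨k, hk'⟩, (lt_min_iff.1 hk).1, rfl⟩, ?_⟩
    exact (getElem_pow n k _ hk').symm
  · rintro ⟨_, ⟨j, hj, rfl⟩, rfl⟩
    refine ⟨j.val, lt_min_iff.2 ⟨hj, by rw [length_pow]; exact j.2⟩, ?_⟩
    exact getElem_pow n j.val _ j.2

theorem isWeaklyRegular_pow (n : ℕ) :
    RingTheory.Sequence.IsWeaklyRegular (MvPolynomial (Fin (r + 1)) A)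
      ((List.ofFn (fun j : Fin (r + 1) => (X j : MvPolynomial (Fin (r + 1)) A))).map (· ^ n)) := by
  rw [RingTheory.Sequence.isWeaklyRegular_iff]
  intro i hi
  have hi' : i < r + 1 := by rwa [length_pow] at hi
  rw [isSMulRegular_quotient_iff_mem_of_smul_mem]
  have hN : ∀ p : MvPolynomial (Fin (r + 1)) A,
      p ∈ (Ideal.ofList (((List.ofFn (fun j : Fin (r + 1) => (X j : MvPolynomial (Fin (r + 1)) A))).map
        (· ^ n)).take i) • (⊤ : Submodule (MvPolynomial (Fin (r + 1)) A) (MvPolynomial (Fin (r + 1)) A))) ↔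
      ∀ b ∈ p.support, ∃ j : Fin (r + 1), j.val < i ∧ n ≤ b j := by
    intro p
    rw [smul_eq_mul, Ideal.mul_top, ofList_take_eq, mem_ideal_span_monomial_image]
    refine forall₂_congr fun b _ => ?_
    constructor
    · rintro ⟨_, ⟨j, hj, rfl⟩, hle⟩
      refine ⟨j, hj, ?_⟩
      have := hle j
      simpa using this
    · rintro ⟨j, hj, hle⟩
      refine ⟨_, ⟨j, hj, rfl⟩, ?_⟩
      intro k
      by_cases hk : k = j
      · subst hk; simpa using hle
      · simp [Finsupp.single_apply, Ne.symm hk]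
  intro p hp
  rw [hN] at hp ⊢
  intro b hb
  have hget : ((List.ofFn (fun j : Fin (r + 1) => (X j : MvPolynomial (Fin (r + 1)) A))).map (· ^ n))[i] =
      monomial (Finsupp.single (⟨i, hi'⟩ : Fin (r + 1)) n) (1 : A) := getElem_pow n i _ hi'
  rw [hget] at hp
  have hb2 : Finsupp.single (⟨i, hi'⟩ : Fin (r + 1)) n + b ∈
      (monomial (Finsupp.single (⟨i, hi'⟩ : Fin (r + 1)) n) (1 : A) • p).support := by
    rw [MvPolynomial.mem_support_iff, smul_eq_mul, coeff_monomial_mul, one_mul]
    exact MvPolynomial.mem_support_iff.1 hb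
  obtain ⟨j, hj, hle⟩ := hp _ hb2
  refine ⟨j, hj, ?_⟩
  have hne : (⟨i, hi'⟩ : Fin (r + 1)) ≠ j := by
    intro h
    rw [← h] at hj
    exact lt_irrefl _ hj
  simpa [Finsupp.single_apply, hne] using hle

end Groth.Agent.Lib.KoszulPoly23
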