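import Groth.Agent.Lib.KoszulDepth

/-!
# Degree `-1` of the Koszul complex and relations (helper19)

Coordinates on degree `-1` of the prelude Koszul complex `CohIII.koszulCx M fs` (`≅ M^r`), the last
differential `(a_i) ↦ ∑ f_i a_i`, the coordinates of coboundaries lie in `(fs) M`, and consequently:
if `H^{-1}(fs; M) = 0`, every relation `∑ f_i a_i = 0` has all `a_i ∈ (fs) M`.
-/

universe u

open CategoryTheory CategoryTheory.Limits CochainComplex HomologicalComplex
open scoped Pointwise

namespace Groth.Agent.Lib.KoszulRel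

open Groth.Agent.Lib.KoszulCone Groth.Agent.Lib.KoszulElem Groth.Agent.Lib.KoszulDepth CohIII

variable {A : Type u} [CommRing A] (M : ModuleCat.{u} A)

/-- the `i`-th coordinate functional on degree `-1` of the Koszul complex -/
noncomputable def coordAt : ∀ (fs : List A) (j : ℤ), j = -1 → ℕ → ((koszulCx M fs).X j →ₗ[A] M)
  | [], _, _, _ => 0
  | f :: fs, j, h, 0 => (top M fs (j + 1) (by omega)) ∘ₗ (fstL (f • 𝟙 (koszulCx M fs)) j)
  | f :: fs, j, h, (i + 1) => (coordAt fs j h i) ∘ₗ (sndL (f • 𝟙 (koszulCx M fs)) j)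

theorem coordAt_cons_zero (f : A) (fs : List A) (j : ℤ) (h : j = -1)
    (z : (koszulCx M (f :: fs)).X j) :
    coordAt M (f :: fs) j h 0 z =
      top M fs (j + 1) (by omega) (fstE (f • 𝟙 (koszulCx M fs)) j z) := rfl

theorem coordAt_cons_succ (f : A) (fs : List A) (j : ℤ) (h : j = -1) (i : ℕ)
    (z : (koszulCx M (f :: fs)).X j) :
    coordAt M (f :: fs) j h (i + 1) z =
      coordAt M fs j h i (sndE (f • 𝟙 (koszulCx M fs)) j z) := rfl

/-- every family of coordinates is realised -/
theorem exists_coordAt_eq : ∀ (fs : List A) (j : ℤ) (h : j = -1) (a : ℕ → M),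
    ∃ z : (koszulCx M fs).X j, ∀ i, i < fs.length → coordAt M fs j h i z = a i
  | [], j, h, a => ⟨0, fun i hi => absurd hi (Nat.not_lt_zero i)⟩
  | f :: fs, j, h, a => by
    obtain ⟨a0, ha0⟩ := (top_bijective M fs (j + 1) (by omega)).2 (a 0)
    obtain ⟨z', hz'⟩ := exists_coordAt_eq fs j h (fun i => a (i + 1))
    refine ⟨mkE (f • 𝟙 (koszulCx M fs)) j a0 z', ?_⟩
    intro i hi
    cases i with
    | zero => rw [coordAt_cons_zero, fstE_mkE, ha0]
    | succ i =>
      rw [coordAt_cons_succ, sndE_mkE]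
      exact hz' i (by simpa using hi)

/-- the last differential in coordinates: `(a_i) ↦ ∑ f_i a_i` -/
theorem top_d_eq_sum : ∀ (fs : List A) (j k : ℤ) (h : j = -1) (hjk : j + 1 = k) (hk : k = 0)
    (z : (koszulCx M fs).X j),
    top M fs k hk ((koszulCx M fs).d j k z) =
      ∑ i ∈ Finset.range fs.length, fs.getD i 0 • coordAt M fs j h i z
  | [], j, k, h, hjk, hk, z => by
    have hs : Subsingleton ((koszulCx M []).X j) :=
      subsingleton_X M [] j (Or.inl (by simp; omega))
    rw [Subsingleton.elim z 0, map_zero, map_zero]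
    simp
  | f :: fs, j, k, h, hjk, hk, z => by
    subst hjk
    have ih := top_d_eq_sum fs j (j + 1) h rfl hk (sndE (f • 𝟙 (koszulCx M fs)) j z)
    have hcomp : top M (f :: fs) (j + 1) hk
        ((mappingCone (f • 𝟙 (koszulCx M fs))).d j (j + 1) z) =
          f • top M fs (j + 1) hk (fstE (f • 𝟙 (koszulCx M fs)) j z) +
            top M fs (j + 1) hk
              ((koszulCx M fs).d j (j + 1) (sndE (f • 𝟙 (koszulCx M fs)) j z)) := by
      rw [top_cons, sndE_d, smul_id_f_apply, map_add, map_smul]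
    refine hcomp.trans ?_
    rw [List.length_cons, Finset.sum_range_succ', ih, add_comm]
    congr 1

/-- coordinates of coboundaries lie in `(fs) M` -/
theorem coordAt_d_mem : ∀ (fs : List A) (i j : ℤ) (hij : i + 1 = j) (h : j = -1) (k : ℕ)
    (w : (koszulCx M fs).X i),
    coordAt M fs j h k ((koszulCx M fs).d i j w) ∈ Ideal.ofList fs • (⊤ : Submodule A M)
  | [], i, j, hij, h, k, w => by
    show (0 : _ →ₗ[A] M) _ ∈ _
    rw [LinearMap.zero_apply]
    exact Submodule.zero_mem _
  | f :: fs, i, j, hij, h, k, w => by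
    subst hij
    rw [Ideal.ofList_cons, Submodule.sup_smul, Submodule.ideal_span_singleton_smul]
    cases k with
    | zero =>
      have h1 : coordAt M (f :: fs) (i + 1) h 0
          ((mappingCone (f • 𝟙 (koszulCx M fs))).d i (i + 1) w) =
            -(top M fs (i + 1 + 1) (by omega)
              ((koszulCx M fs).d (i + 1) (i + 1 + 1) (fstE (f • 𝟙 (koszulCx M fs)) i w))) := by
        rw [coordAt_cons_zero, fstE_d, map_neg]
      refine Submodule.mem_sup_right ?_
      refine (congrArg (· ∈ _) h1).mpr ?_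
      apply Submodule.neg_mem
      exact (exists_top_d_eq_iff M fs (i + 1) (i + 1 + 1) rfl (by omega) _).mp ⟨_, rfl⟩
    | succ k =>
      have ih := coordAt_d_mem fs i (i + 1) rfl h k (sndE (f • 𝟙 (koszulCx M fs)) i w)
      have h1 : coordAt M (f :: fs) (i + 1) h (k + 1)
          ((mappingCone (f • 𝟙 (koszulCx M fs))).d i (i + 1) w) =
            f • coordAt M fs (i + 1) h k (fstE (f • 𝟙 (koszulCx M fs)) i w) +
              coordAt M fs (i + 1) h k
                ((koszulCx M fs).d i (i + 1) (sndE (f • 𝟙 (koszulCx M fs)) i w)) := by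
        rw [coordAt_cons_succ, sndE_d, smul_id_f_apply, map_add, map_smul]
      refine (congrArg (· ∈ _) h1).mpr ?_
      refine Submodule.add_mem _ (Submodule.mem_sup_left ?_) (Submodule.mem_sup_right ih)
      exact Submodule.smul_mem_pointwise_smul _ f ⊤ Submodule.mem_top

/-- **Relations are trivial modulo `(fs)`.** If `H^{-1}(fs; M) = 0` and `∑ f_i a_i = 0`, then every
`a_i` lies in `(fs) M`. -/
theorem mem_of_sum_eq_zero (fs : List A) (hH : IsZero ((koszulCx M fs).homology (-1)))
    (a : ℕ → M) (ha : ∑ i ∈ Finset.range fs.length, fs.getD i 0 • a i = 0) (i : ℕ)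
    (hi : i < fs.length) : a i ∈ Ideal.ofList fs • (⊤ : Submodule A M) := by
  obtain ⟨z, hz⟩ := exists_coordAt_eq M fs (-1) rfl a
  have hdz : (koszulCx M fs).d (-1) (-1 + 1) z = 0 := by
    apply (top_bijective M fs (-1 + 1) (by norm_num)).1
    rw [top_d_eq_sum M fs (-1) (-1 + 1) rfl rfl (by norm_num) z, map_zero, ← ha]
    exact Finset.sum_congr rfl (fun i hi => by rw [hz i (Finset.mem_range.mp hi)])
  obtain ⟨c, hc⟩ := exists_cycle_of_d_eq_zero (koszulCx M fs) (-1) (-1 + 1) rfl z hdz
  have hπ : (koszulCx M fs).homologyπ (-1) c = 0 :=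
    (ModuleCat.subsingleton_of_isZero hH).elim _ _
  obtain ⟨w, hw⟩ := exists_boundary_of_homologyπ_eq_zero (koszulCx M fs) (-2) (-1) (by norm_num) c hπ
  rw [hc] at hw
  rw [← hz i hi, hw]
  exact coordAt_d_mem M fs (-2) (-1) (by norm_num) rfl i w

end Groth.Agent.Lib.KoszulRel
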