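import Groth.Agent.Lib.EulerTerms

/-!
# Serre's theorem: the Koszul Euler characteristic as an iterated difference of the Samuel function
(helper25)

`kchi_eq_iterDiff_samuel`: for `A` Noetherian, `M` finite, `Good M l`, `𝔞 = span l`:
`χ(l; M) = (Δ^{|l|} s)(p)` for `p ≫ 0`, `s(p) = length (M/𝔞^p M)`.
-/

set_option autoImplicit false
universe u

open CategoryTheory Limits CochainComplex
open Groth.Agent.Lib.EulerLES Groth.Agent.Lib.EulerD Groth.Agent.Lib.KoszulCone
  Groth.Agent.Lib.KoszulElem Groth.Agent.Lib.KoszulEuler Groth.Agent.Lib.KoszulFilt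
  Groth.Agent.Lib.SubQuotCx Groth.Agent.Lib.EulerTerms

namespace Groth.Agent.Lib.KoszulSamuel

variable {A : Type u} [CommRing A]

/-- backward difference. -/
def bdiff (f : ℤ → ℤ) (p : ℤ) : ℤ := f p - f (p - 1)

/-- iterated backward difference. -/
def iterDiff : ℕ → (ℤ → ℤ) → ℤ → ℤ
  | 0, f => f
  | r + 1, f => bdiff (iterDiff r f)

/-- the Samuel function `s(p) = length (M/J^p M)` (`0` for `p ≤ 0`). -/
noncomputable def samuel (J : Ideal A) (M : Type u) [AddCommGroup M] [Module A M] (p : ℤ) : ℤ :=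
  (len A (M ⧸ J ^ p.toNat • (⊤ : Submodule A M)) : ℤ)

/-- the shifted `J`-adic filtration of a complex. -/
def Fil (J : Ideal A) (K : CochainComplex (ModuleCat.{u} A) ℤ) (p : ℤ) (n : ℤ) :
    Submodule A (K.X n) :=
  J ^ (p + n).toNat • (⊤ : Submodule A (K.X n))

/-- the alternating sum of the lengths of the terms of `K/F^p K`. -/
noncomputable def T (J : Ideal A) (K : CochainComplex (ModuleCat.{u} A) ℤ) (p : ℤ) : ℤ :=
  eul A (fun n => (K.X n ⧸ Fil J K p n))

/-- length of `N/IN` for `N ≃ N₁ × N₂`. -/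
lemma length_quot_smul_top_prod (I : Ideal A) {N N₁ N₂ : Type u} [AddCommGroup N] [Module A N]
    [AddCommGroup N₁] [Module A N₁] [AddCommGroup N₂] [Module A N₂] (e : N ≃ₗ[A] N₁ × N₂) :
    Module.length A (N ⧸ I • (⊤ : Submodule A N)) =
      Module.length A (N₁ ⧸ I • (⊤ : Submodule A N₁)) +
        Module.length A (N₂ ⧸ I • (⊤ : Submodule A N₂)) := by
  let i₂ : N₂ →ₗ[A] N := e.symm.toLinearMap ∘ₗ LinearMap.inr A N₁ N₂
  let p₁ : N →ₗ[A] N₁ := LinearMap.fst A N₁ N₂ ∘ₗ e.toLinearMap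
  let p₂ : N →ₗ[A] N₂ := LinearMap.snd A N₁ N₂ ∘ₗ e.toLinearMap
  let i₁ : N₁ →ₗ[A] N := e.symm.toLinearMap ∘ₗ LinearMap.inl A N₁ N₂
  have hp₂i₂ : ∀ b, p₂ (i₂ b) = b := fun b => by simp [p₂, i₂]
  have hp₁i₂ : ∀ b, p₁ (i₂ b) = 0 := fun b => by simp [p₁, i₂]
  have hp₁i₁ : ∀ a, p₁ (i₁ a) = a := fun a => by simp [p₁, i₁]
  have hdec : ∀ z, z = i₁ (p₁ z) + i₂ (p₂ z) := by
    intro z
    apply e.injective
    simp [p₁, p₂, i₁, i₂]
  let f : (N₂ ⧸ I • (⊤ : Submodule A N₂)) →ₗ[A] (N ⧸ I • (⊤ : Submodule A N)) :=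
    Submodule.mapQ _ _ i₂ (fun b hb => map_mem_smul_top I i₂ b hb)
  let g : (N ⧸ I • (⊤ : Submodule A N)) →ₗ[A] (N₁ ⧸ I • (⊤ : Submodule A N₁)) :=
    Submodule.mapQ _ _ p₁ (fun b hb => map_mem_smul_top I p₁ b hb)
  have hf : Function.Injective f := by
    rw [← LinearMap.ker_eq_bot, LinearMap.ker_eq_bot']
    intro b hb
    obtain ⟨b, rfl⟩ := Submodule.Quotient.mk_surjective _ b
    change Submodule.Quotient.mk (i₂ b) = 0 at hb
    rw [Submodule.Quotient.mk_eq_zero] at hb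
    rw [Submodule.Quotient.mk_eq_zero]
    have := map_mem_smul_top I p₂ _ hb
    rwa [hp₂i₂] at this
  have hg : Function.Surjective g := by
    intro a
    obtain ⟨a, rfl⟩ := Submodule.Quotient.mk_surjective _ a
    exact ⟨Submodule.Quotient.mk (i₁ a), by
      change Submodule.Quotient.mk (p₁ (i₁ a)) = _
      rw [hp₁i₁]⟩
  have hfg : Function.Exact f g := by
    intro z
    obtain ⟨z, rfl⟩ := Submodule.Quotient.mk_surjective _ z
    constructor
    · intro hz
      change Submodule.Quotient.mk (p₁ z) = 0 at hz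
      rw [Submodule.Quotient.mk_eq_zero] at hz
      refine ⟨Submodule.Quotient.mk (p₂ z), ?_⟩
      change Submodule.Quotient.mk (i₂ (p₂ z)) = Submodule.Quotient.mk z
      rw [Submodule.Quotient.eq]
      have h1 : i₂ (p₂ z) - z = - i₁ (p₁ z) := by
        have := hdec z
        rw [sub_eq_iff_eq_add, neg_add_eq_sub, eq_sub_iff_add_eq, add_comm]
        exact this.symm
      rw [h1]
      exact Submodule.neg_mem _ (map_mem_smul_top I i₁ _ hz)
    · rintro ⟨b, hb⟩
      obtain ⟨b, rfl⟩ := Submodule.Quotient.mk_surjective _ b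
      rw [← hb]
      change Submodule.Quotient.mk (p₁ (i₂ b)) = 0
      rw [hp₁i₂]
      simp
  rw [Module.length_eq_add_of_exact f g hf hg hfg, add_comm]

section noeth

variable [IsNoetherianRing A] (J : Ideal A) (M : Type u) [AddCommGroup M] [Module A M]
  [Module.Finite A M]

/-- the terms of `K/F^p K` have finite length. -/
lemma isFiniteLength_X_quot
    (hJ : ∀ p ∈ Module.support A M, J ≤ p.asIdeal → p.asIdeal.IsMaximal)
    (l : List A) (e : ℕ) (n : ℤ) :
    IsFiniteLength A ((kcx (ModuleCat.of A M) l).X n ⧸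
      J ^ e • (⊤ : Submodule A ((kcx (ModuleCat.of A M) l).X n))) := by
  have := finite_X_kcx M l n
  apply Groth.Agent.Lib.FiniteLengthSupport.isFiniteLength_of_support_isMaximal
  intro p hp
  rw [Module.support_quotient] at hp
  refine hJ p (support_X_kcx M l n hp.1) ?_
  have h2 : J ^ e ≤ p.asIdeal := hp.2
  exact p.isPrime.le_of_pow_le h2

/-- term lengths. -/
noncomputable def tl (K : CochainComplex (ModuleCat.{u} A) ℤ) (e : ℕ) (n : ℤ) : ℕ :=
  len A (K.X n ⧸ J ^ e • (⊤ : Submodule A (K.X n)))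

omit [IsNoetherianRing A] in
lemma T_eq (K : CochainComplex (ModuleCat.{u} A) ℤ) (p : ℤ) :
    T J K p = ∑ᶠ n : ℤ, ((n.negOnePow : ℤˣ) : ℤ) * (tl J K (p + n).toNat n : ℤ) := rfl

omit [IsNoetherianRing A] [Module.Finite A M] in
lemma tl_eq_zero (l : List A) (e : ℕ) (n : ℤ) (hn : n ∉ Finset.Icc (-(l.length : ℤ)) 0) :
    tl J (kcx (ModuleCat.of A M) l) e n = 0 := by
  have : Subsingleton ((kcx (ModuleCat.of A M) l).X n) := by
    apply subsingleton_X_kcx
    simp only [Finset.mem_Icc, not_and_or, not_le] at hn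
    exact hn
  unfold tl
  exact len_eq_zero_of_subsingleton _

lemma tl_cons (hJ : ∀ p ∈ Module.support A M, J ≤ p.asIdeal → p.asIdeal.IsMaximal)
    (x : A) (l : List A) (e : ℕ) (n : ℤ) :
    tl J (kcx (ModuleCat.of A M) (x :: l)) e n =
      tl J (kcx (ModuleCat.of A M) l) e (n + 1) + tl J (kcx (ModuleCat.of A M) l) e n := by
  unfold tl len
  change (Module.length A ((mappingCone (x • 𝟙 (kcx (ModuleCat.of A M) l))).X n ⧸
    J ^ e • (⊤ : Submodule A ((mappingCone (x • 𝟙 (kcx (ModuleCat.of A M) l))).X n)))).toNat = _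
  rw [length_quot_smul_top_prod (J ^ e) (coneEquiv (x • 𝟙 (kcx (ModuleCat.of A M) l)) n)]
  exact ENat.toNat_add
    (Module.length_ne_top_iff.mpr (isFiniteLength_X_quot J M hJ l e (n + 1)))
    (Module.length_ne_top_iff.mpr (isFiniteLength_X_quot J M hJ l e n))

omit [IsNoetherianRing A] [Module.Finite A M] in
lemma T_nil (p : ℤ) : T J (kcx (ModuleCat.of A M) ([] : List A)) p = samuel J M p := by
  rw [T_eq, finsum_eq_single _ (0 : ℤ)]
  · simp only [Int.negOnePow_zero, Units.val_one, one_mul, add_zero]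
    unfold tl samuel len
    congr 2
  · intro n hn
    rw [tl_eq_zero J M [] _ n (by simpa using hn)]
    simp

lemma T_cons (hJ : ∀ p ∈ Module.support A M, J ≤ p.asIdeal → p.asIdeal.IsMaximal)
    (x : A) (l : List A) (p : ℤ) :
    T J (kcx (ModuleCat.of A M) (x :: l)) p =
      T J (kcx (ModuleCat.of A M) l) p - T J (kcx (ModuleCat.of A M) l) (p - 1) := by
  classical
  let ε : ℤ → ℤ := fun i => ((i.negOnePow : ℤˣ) : ℤ)
  set K := kcx (ModuleCat.of A M) l with hK
  let w : ℤ → ℕ := fun m => tl J K (p - 1 + m).toNat m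
  let v : ℤ → ℕ := fun m => tl J K (p + m).toNat m
  have hw : ∀ m, m ∉ Finset.Icc (-(l.length : ℤ)) 0 → w m = 0 := fun m hm =>
    tl_eq_zero J M l _ m hm
  have hv : ∀ m, m ∉ Finset.Icc (-(l.length : ℤ)) 0 → v m = 0 := fun m hm =>
    tl_eq_zero J M l _ m hm
  have hw' : ∀ m, m ∉ Finset.Icc (-(l.length : ℤ) - 1) 0 → w (m + 1) = 0 := by
    intro m hm
    apply hw
    simp only [Finset.mem_Icc, not_and_or, not_le] at hm ⊢
    omega
  have fs : ∀ (u : ℤ → ℕ) (a' b' : ℤ), (∀ i, i ∉ Finset.Icc a' b' → u i = 0) →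
      (Function.support fun i => ε i * (u i : ℤ)).Finite := by
    intro u a' b' hu
    refine (Finset.Icc a' b').finite_toSet.subset ?_
    intro i hi
    by_contra hi'
    rw [Function.mem_support] at hi
    apply hi
    rw [hu i (by simpa using hi'), Nat.cast_zero, mul_zero]
  have hε : ∀ i, ε (i + 1) = - ε i := by
    intro i
    change (((i + 1).negOnePow : ℤˣ) : ℤ) = - ((i.negOnePow : ℤˣ) : ℤ)
    rw [Int.negOnePow_succ]
    simp
  have hshift : (∑ᶠ i, ε i * (w (i + 1) : ℤ)) = - ∑ᶠ i, ε i * (w i : ℤ) := by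
    have e := finsum_comp_equiv (Equiv.addRight (1 : ℤ)) (f := fun i => ε i * (w i : ℤ))
    rw [← e, ← finsum_neg_distrib]
    apply finsum_congr
    intro i
    change ε i * (w (i + 1) : ℤ) = - (ε (i + 1) * (w (i + 1) : ℤ))
    rw [hε]
    ring
  have h1 : T J (kcx (ModuleCat.of A M) (x :: l)) p =
      (∑ᶠ i, ε i * (w (i + 1) : ℤ)) + ∑ᶠ i, ε i * (v i : ℤ) := by
    rw [T_eq, ← finsum_add_distrib (fs (fun m => w (m + 1)) _ _ hw') (fs v _ _ hv)]
    apply finsum_congr
    intro n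
    rw [tl_cons J M hJ x l]
    have : (p - 1 + (n + 1)).toNat = (p + n).toNat := by
      congr 1
      ring
    change _ = ε n * ((tl J K (p - 1 + (n + 1)).toNat (n + 1) : ℕ) : ℤ) +
      ε n * ((tl J K (p + n).toNat n : ℕ) : ℤ)
    rw [this]
    push_cast
    ring
  rw [h1, hshift, T_eq, T_eq]
  change -(∑ᶠ i, ε i * (w i : ℤ)) + (∑ᶠ i, ε i * (v i : ℤ)) = _
  ring

theorem T_eq_iterDiff (hJ : ∀ p ∈ Module.support A M, J ≤ p.asIdeal → p.asIdeal.IsMaximal) :
    ∀ (l : List A) (p : ℤ),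
      T J (kcx (ModuleCat.of A M) l) p = iterDiff l.length (samuel J M) p
  | [], p => T_nil J M p
  | x :: l, p => by
    rw [T_cons J M hJ x l p, T_eq_iterDiff hJ l p, T_eq_iterDiff hJ l (p - 1)]
    rfl

omit [IsNoetherianRing A] [Module.Finite A M] in
/-- the shifted filtration of `kcx M l` by powers of `J ⊇ l` is stable under `d`. -/
lemma stable_Fil (l : List A) (hl : ∀ b ∈ l, b ∈ J) (p : ℤ) :
    Stable (kcx (ModuleCat.of A M) l) (Fil J (kcx (ModuleCat.of A M) l) p) := by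
  intro n z hz
  have h1 := d_mem_pow_succ J n (d_mem_smul_top_kcx (ModuleCat.of A M) J l hl n) (p + n).toNat z hz
  have h2 : J ^ ((p + n).toNat + 1) ≤ J ^ (p + (n + 1)).toNat :=
    Ideal.pow_le_pow_right (by omega)
  exact Submodule.smul_mono h2 le_rfl h1

/-- **Serre**: `χ(l; M) = Σ_n (-1)^n length (K^n/𝔞^{p+n}K^n)` for `p ≫ 0`. -/
theorem exists_kchi_eq_T (l : List A) (h : Good M l) :
    ∃ p₀ : ℤ, ∀ p : ℤ, p₀ ≤ p →
      kchi M l = T (Ideal.span {b | b ∈ l}) (kcx (ModuleCat.of A M) l) p := by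
  classical
  set 𝔞 : Ideal A := Ideal.span {b | b ∈ l} with h𝔞
  set K := kcx (ModuleCat.of A M) l with hK
  have hl : ∀ b ∈ l, b ∈ 𝔞 := fun b hb => Ideal.subset_span hb
  have hJ : ∀ p ∈ Module.support A M, 𝔞 ≤ p.asIdeal → p.asIdeal.IsMaximal := by
    intro p hp hle
    exact h p hp (fun b hb => hle (hl b hb))
  choose k hk using fun n : ℤ => exists_boundary_of_cycle_mem M l n
  let r : ℤ := l.length
  let k₀ : ℕ := (Finset.Icc (-r - 1) (-1)).sup k
  refine ⟨(k₀ : ℤ) + r + 1, fun p hp => ?_⟩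
  have hF := stable_Fil 𝔞 M l hl p
  -- acyclicity of the subcomplex
  have hac : ∀ n : ℤ, ∀ z : K.X (n + 1), z ∈ Fil 𝔞 K p (n + 1) → K.d (n + 1) (n + 1 + 1) z = 0 →
      ∃ w : K.X n, w ∈ Fil 𝔞 K p n ∧ K.d n (n + 1) w = z := by
    intro n z hz hdz
    by_cases hn : n + 1 < -r ∨ 0 < n + 1
    · have : Subsingleton (K.X (n + 1)) := subsingleton_X_kcx _ l (n + 1) hn
      exact ⟨0, Submodule.zero_mem _, by rw [map_zero]; exact Subsingleton.elim _ _⟩
    · simp only [not_or, not_lt] at hn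
      have hmem : n ∈ Finset.Icc (-r - 1) (-1) := by
        simp only [Finset.mem_Icc]
        omega
      have hkn : k n ≤ k₀ := Finset.le_sup (f := k) hmem
      have hpn : (k₀ : ℤ) ≤ p + n := by omega
      have hq : k n ≤ (p + n).toNat := by omega
      have hq1 : (p + (n + 1)).toNat = (p + n).toNat + 1 := by omega
      have hz' : z ∈ 𝔞 ^ ((p + n).toNat + 1) • (⊤ : Submodule A (K.X (n + 1))) := by
        rw [← hq1]
        exact hz
      exact hk n (p + n).toNat hq z hdz hz'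
  have hsub : ∀ m : ℤ, Subsingleton ((subCx K (Fil 𝔞 K p) hF).homology m) := by
    intro m
    have := subsingleton_homology_subCx K (Fil 𝔞 K p) hF (m - 1) (hac (m - 1))
    have hm : m - 1 + 1 = m := by omega
    rw [hm] at this
    exact this
  have hFLsub : FL (subCx K (Fil 𝔞 K p) hF) :=
    ⟨fun m => by
      have := hsub m
      exact IsFiniteLength.of_subsingleton, 0, 0, fun m _ => hsub m⟩
  have hchisub : chi (subCx K (Fil 𝔞 K p) hF) = 0 := by
    unfold chi eul
    apply finsum_eq_zero_of_forall_eq_zero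
    intro m
    have := hsub m
    rw [Module.length_eq_zero, ENat.toNat_zero, Nat.cast_zero, mul_zero]
  -- the quotient complex
  have hq := chi_eq_eul_X (quotCx K (Fil 𝔞 K p) hF)
    (fun n => isFiniteLength_X_quot 𝔞 M hJ l (p + n).toNat n) (-r) 0
    (fun n hn => by
      have : Subsingleton (K.X n) := by
        apply subsingleton_X_kcx
        simp only [Finset.mem_Icc, not_and_or, not_le] at hn
        exact hn
      change Subsingleton (K.X n ⧸ Fil 𝔞 K p n)
      infer_instance)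
  obtain ⟨w, hS⟩ := (degExact_sub_quot K (Fil 𝔞 K p) hF).shortExact
  have hadd := chi_add_of_shortExact _ hS hFLsub h.FL hq.1
  change chi K = chi (subCx K (Fil 𝔞 K p) hF) + chi (quotCx K (Fil 𝔞 K p) hF) at hadd
  rw [hchisub, zero_add, hq.2] at hadd
  exact hadd

/-- **Serre**: `χ(l; M) = (Δ^{|l|} s)(p)` for `p ≫ 0`, `s` the Samuel function of `𝔞 = (l)`. -/
theorem exists_kchi_eq_iterDiff (l : List A) (h : Good M l) :
    ∃ p₀ : ℤ, ∀ p : ℤ, p₀ ≤ p →
      iterDiff l.length (samuel (Ideal.span {b | b ∈ l}) M) p = kchi M l := by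
  obtain ⟨p₀, hp₀⟩ := exists_kchi_eq_T M l h
  refine ⟨p₀, fun p hp => ?_⟩
  rw [hp₀ p hp, T_eq_iterDiff]
  intro q hq hle
  exact h q hq (fun b hb => hle (Ideal.subset_span hb))

end noeth

end Groth.Agent.Lib.KoszulSamuel
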