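import Groth.Agent.Lib.KoszulRetract

/-!
# Koszul-regular ideals and surjections with Koszul-regular kernel (helper19)

`SurjKR P Q`: a surjection `ev : Q → P` whose kernel is generated by a Koszul-regular sequence `z`
which is "independent" modulo `𝔮 K` for every ideal `K ⊇ ker ev` and prime `𝔮 ⊇ K` (for instance
because of derivations, or because of a section: `Retr.toSurjKR`).

* `SurjKR.isKoszulRegularIdeal_of_comap`: if `ev⁻¹ I` is a Koszul-regular ideal then so is `I`.
-/

set_option autoImplicit false
universe u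

namespace Groth.Agent.Lib.KoszulSurj

open Groth.Agent.Lib.KoszulQuot Groth.Agent.Lib.KoszulIdeal Groth.Agent.Lib.KoszulExchange
  Groth.Agent.Lib.KoszulRetract

/-- a surjection with Koszul-regular kernel, generated by independent elements -/
structure SurjKR (P Q : Type u) [CommRing P] [CommRing Q] where
  ev : Q →+* P
  surj : Function.Surjective ev
  z : List Q
  hz : LCI.IsKoszulRegularSeq Q z
  hker : RingHom.ker ev = Ideal.ofList z
  indep : ∀ (K 𝔮 : Ideal Q) [𝔮.IsPrime], Ideal.ofList z ≤ K → K ≤ 𝔮 →
    ∀ (pre : List Q) (y : Q) (post : List Q), z = pre ++ y :: post → ∀ s : Q, s ∉ 𝔮 →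
      s * y ∉ Ideal.ofList pre ⊔ 𝔮 * K

/-- a retraction is a `SurjKR` -/
def _root_.Groth.Agent.Lib.KoszulRetract.Retr.toSurjKR {P Q : Type u} [CommRing P] [CommRing Q]
    (D : Retr P Q) : SurjKR P Q where
  ev := D.ev
  surj := fun x => ⟨D.ι x, D.ev_ι x⟩
  z := D.z
  hz := D.hz
  hker := D.hker
  indep := fun K 𝔮 _ hzK hK𝔮 pre y post hz s hs => by
    have hKeq : K = (K.map D.ev).comap D.ev := by
      rw [Ideal.comap_map_of_surjective D.ev (fun x => ⟨D.ι x, D.ev_ι x⟩)]
      refine (sup_eq_left.mpr ?_).symm
      have : Ideal.comap D.ev ⊥ = RingHom.ker D.ev := rfl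
      rw [this, D.hker]
      exact hzK
    rw [hKeq]
    exact D.not_mem_of_split (K.map D.ev) 𝔮 (hKeq ▸ hK𝔮) pre y post hz s hs

namespace SurjKR

variable {P Q : Type u} [CommRing P] [CommRing Q] (D : SurjKR P Q)

/-- **Koszul-regular ideals descend along the surjection.** -/
theorem isKoszulRegularIdeal_of_comap (I : Ideal P)
    (hK : LCI.IsKoszulRegularIdeal (I.comap D.ev)) : LCI.IsKoszulRegularIdeal I := by
  rw [isKoszulRegularIdeal_iff] at hK ⊢
  intro 𝔭 h𝔭
  have h𝔮 : I.comap D.ev ≤ (𝔭.comap D.ev).asIdeal := Ideal.comap_mono h𝔭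
  obtain ⟨G₀, hG₀, hgen⟩ := hK (𝔭.comap D.ev) h𝔮
  obtain ⟨L₀, hL₀, hKL₀⟩ := hgen.exists_list (Localization.Away G₀)
  -- numerators
  obtain ⟨k, hk1, hk2, hk3⟩ := exists_numerators (Submonoid.powers G₀) (Localization.Away G₀)
    (I.comap D.ev) L₀ (fun x hx => by rw [hKL₀]; exact Ideal.subset_span hx)
  have hLG : LocGen (𝔭.comap D.ev).asIdeal (I.comap D.ev) ([] ++ k) :=
    locGen_of_map_eq G₀ hG₀ (Localization.Away G₀) k hk2 (by rw [hKL₀, hk3])
  -- exchange
  have hzK : ∀ y ∈ D.z, y ∈ I.comap D.ev := by
    intro y hy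
    have h1 : y ∈ RingHom.ker D.ev := by rw [D.hker]; exact Ideal.subset_span hy
    exact Ideal.comap_mono bot_le h1
  have : (𝔭.comap D.ev).asIdeal.IsPrime := (𝔭.comap D.ev).isPrime
  obtain ⟨k', hk', hLG'⟩ := hLG.exchange D.z [] k hzK (fun p₁ y p₂ hz s hs => by
    simpa using D.indep (I.comap D.ev) (𝔭.comap D.ev).asIdeal
      (by rw [← D.hker]; exact Ideal.comap_mono bot_le) h𝔮 p₁ y p₂ hz s hs)
  obtain ⟨G', hG', hmap⟩ := hLG'.exists_map_eq
  -- the ring `T' = Q_{G₀ G'}`
  have hunit : IsUnit (algebraMap Q (Localization.Away (algebraMap Q (Localization.Away G₀) G')) G') := by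
    have h0 : algebraMap Q (Localization.Away (algebraMap Q (Localization.Away G₀) G')) G' =
        algebraMap (Localization.Away G₀) (Localization.Away (algebraMap Q (Localization.Away G₀) G'))
          (algebraMap Q (Localization.Away G₀) G') := IsScalarTower.algebraMap_apply _ _ _ _
    rw [h0]
    exact IsLocalization.Away.algebraMap_isUnit _
  have hmap' := hmap (Localization.Away (algebraMap Q (Localization.Away G₀) G')) hunit
  have hflat : Module.Flat (Localization.Away G₀)
      (Localization.Away (algebraMap Q (Localization.Away G₀) G')) :=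
    IsLocalization.flat _ (Submonoid.powers (algebraMap Q (Localization.Away G₀) G'))
  have hflat2 : Module.Flat Q (Localization.Away (algebraMap Q (Localization.Away G₀) G')) :=
    IsLocalization.flat _ (Submonoid.powers (G₀ * G'))
  have hL₀' := isKoszulRegularSeq_map_of_flat
    (R' := Localization.Away (algebraMap Q (Localization.Away G₀) G')) L₀ hL₀
  have hideal : Ideal.ofList (L₀.map (algebraMap (Localization.Away G₀)
      (Localization.Away (algebraMap Q (Localization.Away G₀) G')))) =
      (I.comap D.ev).map (algebraMap Q (Localization.Away (algebraMap Q (Localization.Away G₀) G'))) := by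
    rw [← Ideal.map_ofList, ← hKL₀, Ideal.map_map, ← IsScalarTower.algebraMap_eq]
  have hnew : LCI.IsKoszulRegularSeq (Localization.Away (algebraMap Q (Localization.Away G₀) G'))
      ((([] ++ D.z) ++ k').map
        (algebraMap Q (Localization.Away (algebraMap Q (Localization.Away G₀) G')))) := by
    refine Retr.isKoszulRegularSeq_of_length_le _ _ (by rw [hideal, hmap']) ?_ hL₀'
    simp only [List.length_map, List.length_append, List.length_nil, zero_add]
    omega
  -- reorder
  have hperm : LCI.IsKoszulRegularSeq (Localization.Away (algebraMap Q (Localization.Away G₀) G'))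
      (k'.map (algebraMap Q (Localization.Away (algebraMap Q (Localization.Away G₀) G'))) ++
        D.z.map (algebraMap Q (Localization.Away (algebraMap Q (Localization.Away G₀) G')))) := by
    refine isKoszulRegularSeq_perm ?_ hnew
    rw [List.nil_append, List.map_append]
    exact List.perm_append_comm
  -- the quotient map to `P_{ev (G₀ G')}`
  have hT : Submonoid.map D.ev (Submonoid.powers (G₀ * G')) = Submonoid.powers (D.ev (G₀ * G')) :=
    Submonoid.map_powers _ _
  let π : Localization.Away (algebraMap Q (Localization.Away G₀) G') →+*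
      Localization.Away (D.ev (G₀ * G')) :=
    IsLocalization.map (Localization.Away (D.ev (G₀ * G'))) D.ev
      (hT.symm ▸ (Submonoid.powers (G₀ * G')).le_comap_map)
  have hπker : RingHom.ker π = Ideal.ofList
      (D.z.map (algebraMap Q (Localization.Away (algebraMap Q (Localization.Away G₀) G')))) := by
    rw [IsLocalization.ker_map (Localization.Away (D.ev (G₀ * G'))) D.ev hT, D.hker,
      Ideal.map_ofList]
  have hπsurj : Function.Surjective π := by
    intro y
    obtain ⟨p, ⟨_, n, rfl⟩, rfl⟩ := IsLocalization.exists_mk'_eq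
      (Submonoid.powers (D.ev (G₀ * G'))) y
    obtain ⟨p', rfl⟩ := D.surj p
    refine ⟨IsLocalization.mk' _ p' (⟨(G₀ * G') ^ n, n, rfl⟩ : Submonoid.powers (G₀ * G')), ?_⟩
    rw [IsLocalization.map_mk']
    congr 1
    exact Subtype.ext (map_pow D.ev _ n)
  have hπcomp : π.comp (algebraMap Q (Localization.Away (algebraMap Q (Localization.Away G₀) G'))) =
      (algebraMap P (Localization.Away (D.ev (G₀ * G')))).comp D.ev := IsLocalization.map_comp _
  have hz' := isKoszulRegularSeq_map_of_flat
    (R' := Localization.Away (algebraMap Q (Localization.Away G₀) G')) D.z D.hz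
  refine ⟨D.ev (G₀ * G'), ?_, GenAt.mk (Localization.Away (D.ev (G₀ * G')))
    ((k'.map (algebraMap Q (Localization.Away (algebraMap Q (Localization.Away G₀) G')))).map π)
    ((isKoszulRegularSeq_append_iff π hπsurj _ hπker hz' _).mp hperm) ?_⟩
  · intro hmem
    have h1 : G₀ * G' ∈ (𝔭.comap D.ev).asIdeal := hmem
    rcases Ideal.IsPrime.mem_or_mem inferInstance h1 with h1 | h1
    · exact hG₀ h1
    · exact hG' h1
  · -- the ideal
    have hIK : (I.comap D.ev).map D.ev = I :=
      Ideal.map_comap_of_surjective D.ev D.surj I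
    have h1 : ((I.comap D.ev).map (algebraMap Q
        (Localization.Away (algebraMap Q (Localization.Away G₀) G')))).map π =
        I.map (algebraMap P (Localization.Away (D.ev (G₀ * G')))) := by
      rw [Ideal.map_map, hπcomp, ← Ideal.map_map, hIK]
    rw [← h1, hmap', Ideal.map_ofList, List.nil_append, List.map_append, List.map_append,
      Ideal.ofList_append]
    have h2 : Ideal.ofList ((D.z.map (algebraMap Q
        (Localization.Away (algebraMap Q (Localization.Away G₀) G')))).map π) = ⊥ := by
      rw [← Ideal.map_ofList, ← hπker]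
      exact (Ideal.map_eq_bot_iff_le_ker π).mpr le_rfl
    rw [h2, bot_sup_eq]


end SurjKR

end Groth.Agent.Lib.KoszulSurj
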