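import Groth.Agent.Lib.KoszulSurj

/-!
# Koszul-regular ideals descend along a surjection with Koszul-regular kernel: pointwise independence (helper19)

Variant of `SurjKR.isKoszulRegularIdeal_of_comap` in which the independence of the generators `z` of the
kernel is only required for the ideal `ev⁻¹ I` under consideration.
-/

set_option autoImplicit false
universe u

namespace Groth.Agent.Lib.KoszulSurj

open Groth.Agent.Lib.KoszulQuot Groth.Agent.Lib.KoszulIdeal Groth.Agent.Lib.KoszulExchange
  Groth.Agent.Lib.KoszulRetract

variable {P Q : Type u} [CommRing P] [CommRing Q]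

/-- **Koszul-regular ideals descend along a surjection with Koszul-regular kernel**, when the generators
of the kernel are independent modulo `𝔮 · ev⁻¹ I` at the primes `𝔮 ⊇ ev⁻¹ I`. -/
theorem isKoszulRegularIdeal_of_comap' (ev : Q →+* P) (surj : Function.Surjective ev) (z : List Q)
    (hz : LCI.IsKoszulRegularSeq Q z) (hker : RingHom.ker ev = Ideal.ofList z) (I : Ideal P)
    (indep : ∀ (𝔮 : Ideal Q) [𝔮.IsPrime], I.comap ev ≤ 𝔮 →
      ∀ (pre : List Q) (y : Q) (post : List Q), z = pre ++ y :: post → ∀ s : Q, s ∉ 𝔮 →
        s * y ∉ Ideal.ofList pre ⊔ 𝔮 * I.comap ev)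
    (hK : LCI.IsKoszulRegularIdeal (I.comap ev)) : LCI.IsKoszulRegularIdeal I := by
  rw [isKoszulRegularIdeal_iff] at hK ⊢
  intro 𝔭 h𝔭
  have h𝔮 : I.comap ev ≤ (𝔭.comap ev).asIdeal := Ideal.comap_mono h𝔭
  obtain ⟨G₀, hG₀, hgen⟩ := hK (𝔭.comap ev) h𝔮
  obtain ⟨L₀, hL₀, hKL₀⟩ := hgen.exists_list (Localization.Away G₀)
  -- numerators
  obtain ⟨k, hk1, hk2, hk3⟩ := exists_numerators (Submonoid.powers G₀) (Localization.Away G₀)
    (I.comap ev) L₀ (fun x hx => by rw [hKL₀]; exact Ideal.subset_span hx)
  have hLG : LocGen (𝔭.comap ev).asIdeal (I.comap ev) ([] ++ k) :=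
    locGen_of_map_eq G₀ hG₀ (Localization.Away G₀) k hk2 (by rw [hKL₀, hk3])
  -- exchange
  have hzK : ∀ y ∈ z, y ∈ I.comap ev := by
    intro y hy
    have h1 : y ∈ RingHom.ker ev := by rw [hker]; exact Ideal.subset_span hy
    exact Ideal.comap_mono bot_le h1
  have : (𝔭.comap ev).asIdeal.IsPrime := (𝔭.comap ev).isPrime
  obtain ⟨k', hk', hLG'⟩ := hLG.exchange z [] k hzK (fun p₁ y p₂ hz s hs => by
    simpa using indep (𝔭.comap ev).asIdeal h𝔮 p₁ y p₂ hz s hs)
  obtain ⟨G', hG', hmap⟩ := hLG'.exists_map_eq
  -- the ring `T' = Q_{G₀ G'}`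
  have hunit : IsUnit (algebraMap Q (Localization.Away (algebraMap Q (Localization.Away G₀) G')) G') := by
    have h0 : algebraMap Q (Localization.Away (algebraMap Q (Localization.Away G₀) G')) G' =
        algebraMap (Localization.Away G₀) (Localization.Away (algebraMap Q (Localization.Away G₀) G'))
          (algebraMap Q (Localization.Away G₀) G') := IsScalarTower.algebraMap_apply _ _ _ _
    rw [h0]
    exact IsLocalization.Away.algebraMap_isUnit _
  have hmap' := hmap (Localization.Away (algebraMap Q (Localization.Away G₀) G')) hunit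
  have hflat : Module.Flat (Localization.Away G₀)
      (Localization.Away (algebraMap Q (Localization.Away G₀) G')) :=
    IsLocalization.flat _ (Submonoid.powers (algebraMap Q (Localization.Away G₀) G'))
  have hflat2 : Module.Flat Q (Localization.Away (algebraMap Q (Localization.Away G₀) G')) :=
    IsLocalization.flat _ (Submonoid.powers (G₀ * G'))
  have hL₀' := isKoszulRegularSeq_map_of_flat
    (R' := Localization.Away (algebraMap Q (Localization.Away G₀) G')) L₀ hL₀
  have hideal : Ideal.ofList (L₀.map (algebraMap (Localization.Away G₀)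
      (Localization.Away (algebraMap Q (Localization.Away G₀) G')))) =
      (I.comap ev).map (algebraMap Q (Localization.Away (algebraMap Q (Localization.Away G₀) G'))) := by
    rw [← Ideal.map_ofList, ← hKL₀, Ideal.map_map, ← IsScalarTower.algebraMap_eq]
  have hnew : LCI.IsKoszulRegularSeq (Localization.Away (algebraMap Q (Localization.Away G₀) G'))
      ((([] ++ z) ++ k').map
        (algebraMap Q (Localization.Away (algebraMap Q (Localization.Away G₀) G')))) := by
    refine Retr.isKoszulRegularSeq_of_length_le _ _ (by rw [hideal, hmap']) ?_ hL₀'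
    simp only [List.length_map, List.length_append, List.length_nil, zero_add]
    omega
  -- reorder
  have hperm : LCI.IsKoszulRegularSeq (Localization.Away (algebraMap Q (Localization.Away G₀) G'))
      (k'.map (algebraMap Q (Localization.Away (algebraMap Q (Localization.Away G₀) G'))) ++
        z.map (algebraMap Q (Localization.Away (algebraMap Q (Localization.Away G₀) G')))) := by
    refine isKoszulRegularSeq_perm ?_ hnew
    rw [List.nil_append, List.map_append]
    exact List.perm_append_comm
  -- the quotient map to `P_{ev (G₀ G')}`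
  have hT : Submonoid.map ev (Submonoid.powers (G₀ * G')) = Submonoid.powers (ev (G₀ * G')) :=
    Submonoid.map_powers _ _
  let π : Localization.Away (algebraMap Q (Localization.Away G₀) G') →+*
      Localization.Away (ev (G₀ * G')) :=
    IsLocalization.map (Localization.Away (ev (G₀ * G'))) ev
      (hT.symm ▸ (Submonoid.powers (G₀ * G')).le_comap_map)
  have hπker : RingHom.ker π = Ideal.ofList
      (z.map (algebraMap Q (Localization.Away (algebraMap Q (Localization.Away G₀) G')))) := by
    rw [IsLocalization.ker_map (Localization.Away (ev (G₀ * G'))) ev hT, hker,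
      Ideal.map_ofList]
  have hπsurj : Function.Surjective π := by
    intro y
    obtain ⟨p, ⟨_, n, rfl⟩, rfl⟩ := IsLocalization.exists_mk'_eq
      (Submonoid.powers (ev (G₀ * G'))) y
    obtain ⟨p', rfl⟩ := surj p
    refine ⟨IsLocalization.mk' _ p' (⟨(G₀ * G') ^ n, n, rfl⟩ : Submonoid.powers (G₀ * G')), ?_⟩
    rw [IsLocalization.map_mk']
    congr 1
    exact Subtype.ext (map_pow ev _ n)
  have hπcomp : π.comp (algebraMap Q (Localization.Away (algebraMap Q (Localization.Away G₀) G'))) =
      (algebraMap P (Localization.Away (ev (G₀ * G')))).comp ev := IsLocalization.map_comp _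
  have hz' := isKoszulRegularSeq_map_of_flat
    (R' := Localization.Away (algebraMap Q (Localization.Away G₀) G')) z hz
  refine ⟨ev (G₀ * G'), ?_, GenAt.mk (Localization.Away (ev (G₀ * G')))
    ((k'.map (algebraMap Q (Localization.Away (algebraMap Q (Localization.Away G₀) G')))).map π)
    ((isKoszulRegularSeq_append_iff π hπsurj _ hπker hz' _).mp hperm) ?_⟩
  · intro hmem
    have h1 : G₀ * G' ∈ (𝔭.comap ev).asIdeal := hmem
    rcases Ideal.IsPrime.mem_or_mem inferInstance h1 with h1 | h1
    · exact hG₀ h1
    · exact hG' h1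
  · -- the ideal
    have hIK : (I.comap ev).map ev = I :=
      Ideal.map_comap_of_surjective ev surj I
    have h1 : ((I.comap ev).map (algebraMap Q
        (Localization.Away (algebraMap Q (Localization.Away G₀) G')))).map π =
        I.map (algebraMap P (Localization.Away (ev (G₀ * G')))) := by
      rw [Ideal.map_map, hπcomp, ← Ideal.map_map, hIK]
    rw [← h1, hmap', Ideal.map_ofList, List.nil_append, List.map_append, List.map_append,
      Ideal.ofList_append]
    have h2 : Ideal.ofList ((z.map (algebraMap Q
        (Localization.Away (algebraMap Q (Localization.Away G₀) G')))).map π) = ⊥ := by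
      rw [← Ideal.map_ofList, ← hπker]
      exact (Ideal.map_eq_bot_iff_le_ker π).mpr le_rfl
    rw [h2, bot_sup_eq]



end Groth.Agent.Lib.KoszulSurj
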