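import Groth.Agent.Lib.KoszulQuot

/-!
# The top degree of the Koszul complex, naturally; dimension shifting (helper19)

Namespace `Groth.Agent.Lib.KoszulTop`.

* `topJ M l j (h : j = 0) : (kcx M l).X j →ₗ M` : explicit identification of the top degree, natural in `M`
  (`topJ_kmap`), bijective, and boundaries correspond to `(l) M` (`topJ_d_iff`).
* `mono_homologyMap_zero` : if `φ : M' ⟶ M` reflects membership in `(l) -`, then `H^0(K(l; φ))` is injective.
* `isZero_homology_of_shortExact` : dimension shifting in the long exact sequence.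
* `isZero_homology_kcx_of_class` : **Tor-free acyclicity**: a class of modules having "flat covers" inside the class
  with `H^0`-injective kernels inherits the acyclicity of `K(l; A)` in negative degrees (up to a bound).
-/

set_option autoImplicit false
universe u
open CategoryTheory CategoryTheory.Limits CochainComplex HomologicalComplex

namespace Groth.Agent.Lib.KoszulTop

open Groth.Agent.Lib.KoszulCone Groth.Agent.Lib.KoszulElem Groth.Agent.Lib.KoszulQuot
  Groth.Agent.Lib.KoszulMinLen

variable {A : Type u} [CommRing A]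

section top

variable (M : ModuleCat.{u} A)

theorem subsingleton_X_kcx (l : List A) (j : ℤ) (h : j < -(l.length : ℤ) ∨ 0 < j) :
    Subsingleton ((kcx M l).X j) := by
  have := subsingleton_X M l j h
  rwa [← kcx_eq_koszulCx] at this

/-- the top degree (degree `0`) of the Koszul complex is `M` -/
noncomputable def topJ : ∀ (l : List A) (j : ℤ), j = 0 → ((kcx M l).X j →ₗ[A] M)
  | [], j, h => (HomologicalComplex.singleObjXIsoOfEq (ComplexShape.up ℤ) 0 M j h).hom.hom
  | f :: l, j, h => (topJ l j h) ∘ₗ (sndL (f • 𝟙 (kcx M l)) j)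

theorem topJ_cons (f : A) (l : List A) (j : ℤ) (h : j = 0) (z : (kcx M (f :: l)).X j) :
    topJ M (f :: l) j h z = topJ M l j h (sndE (f • 𝟙 (kcx M l)) j z) := rfl

theorem topJ_bijective : ∀ (l : List A) (j : ℤ) (h : j = 0), Function.Bijective (topJ M l j h)
  | [], j, h => ConcreteCategory.bijective_of_isIso
      (HomologicalComplex.singleObjXIsoOfEq (ComplexShape.up ℤ) 0 M j h).hom
  | f :: l, j, h => by
    have ih := topJ_bijective l j h
    have hs : Subsingleton ((kcx M l).X (j + 1)) := subsingleton_X_kcx M l _ (Or.inr (by omega))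
    constructor
    · intro z z' hz
      rw [topJ_cons, topJ_cons] at hz
      exact ext_cone _ j z z' (Subsingleton.elim _ _) (ih.1 hz)
    · intro y
      obtain ⟨b, hb⟩ := ih.2 y
      refine ⟨mkE (f • 𝟙 (kcx M l)) j 0 b, ?_⟩
      change topJ M l j h (sndE (f • 𝟙 (kcx M l)) j (mkE (f • 𝟙 (kcx M l)) j 0 b)) = y
      rw [sndE_mkE, hb]

/-- the image of the last differential in `M` is `(l) M` -/
theorem topJ_d_iff : ∀ (l : List A) (i j : ℤ) (_ : i + 1 = j) (h : j = 0) (y : M),
    (∃ w : (kcx M l).X i, topJ M l j h ((kcx M l).d i j w) = y) ↔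
      y ∈ Ideal.ofList l • (⊤ : Submodule A M)
  | [], i, j, hij, h, y => by
    have hs : Subsingleton ((kcx M []).X i) :=
      subsingleton_X_kcx M [] i (Or.inl (by simp; omega))
    rw [Ideal.ofList_nil, Submodule.bot_smul, Submodule.mem_bot]
    constructor
    · rintro ⟨w, rfl⟩
      rw [Subsingleton.elim w 0, map_zero, map_zero]
    · rintro rfl
      exact ⟨0, by rw [map_zero, map_zero]⟩
  | f :: l, i, j, hij, h, y => by
    subst hij
    have ih := topJ_d_iff l i (i + 1) rfl h
    have hs : Subsingleton ((kcx M l).X (i + 1 + 1)) :=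
      subsingleton_X_kcx M l (i + 1 + 1) (Or.inr (by omega))
    have hcomp : ∀ w : (mappingCone (f • 𝟙 (kcx M l))).X i,
        topJ M (f :: l) (i + 1) h ((mappingCone (f • 𝟙 (kcx M l))).d i (i + 1) w) =
          f • topJ M l (i + 1) h (fstE (f • 𝟙 (kcx M l)) i w) +
            topJ M l (i + 1) h ((kcx M l).d i (i + 1) (sndE (f • 𝟙 (kcx M l)) i w)) := by
      intro w
      change topJ M l (i + 1) h (sndE (f • 𝟙 (kcx M l)) (i + 1)
        ((mappingCone (f • 𝟙 (kcx M l))).d i (i + 1) w)) = _
      rw [sndE_d, smul_id_f_apply, map_add, map_smul]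
    rw [Ideal.ofList_cons, Submodule.sup_smul, Submodule.ideal_span_singleton_smul,
      Submodule.mem_sup]
    constructor
    · rintro ⟨w, rfl⟩
      refine ⟨_, ?_, _, ?_, (hcomp w).symm⟩
      · exact Submodule.smul_mem_pointwise_smul _ f ⊤ Submodule.mem_top
      · exact (ih _).mp ⟨_, rfl⟩
    · rintro ⟨y1, hy1, y2, hy2, rfl⟩
      obtain ⟨m1, -, rfl⟩ := (Submodule.mem_smul_pointwise_iff_exists _ _ _).mp hy1
      obtain ⟨b, hb⟩ := (ih y2).mpr hy2
      obtain ⟨a, ha⟩ := (topJ_bijective M l (i + 1) h).2 m1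
      refine ⟨mkE (f • 𝟙 (kcx M l)) i a b, ?_⟩
      refine (hcomp (mkE (f • 𝟙 (kcx M l)) i a b)).trans ?_
      rw [fstE_mkE, sndE_mkE, ha, hb]

variable {M}

/-- naturality of the top identification -/
theorem topJ_kmap {N : ModuleCat.{u} A} (φ : M ⟶ N) : ∀ (l : List A) (j : ℤ) (h : j = 0)
    (z : (kcx M l).X j), topJ N l j h ((kmap φ l).f j z) = φ (topJ M l j h z)
  | [], j, h, z => by
    subst h
    show (HomologicalComplex.singleObjXIsoOfEq (ComplexShape.up ℤ) 0 N 0 rfl).hom.hom
      (((HomologicalComplex.single (ModuleCat.{u} A) (ComplexShape.up ℤ) 0).map φ).f 0 z) =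
      φ ((HomologicalComplex.singleObjXIsoOfEq (ComplexShape.up ℤ) 0 M 0 rfl).hom.hom z)
    have h1 := HomologicalComplex.single_map_f_self (ComplexShape.up ℤ) 0 φ
    have h2 : ((HomologicalComplex.single (ModuleCat.{u} A) (ComplexShape.up ℤ) 0).map φ).f 0 ≫
        (HomologicalComplex.singleObjXSelf (ComplexShape.up ℤ) 0 N).hom =
        (HomologicalComplex.singleObjXSelf (ComplexShape.up ℤ) 0 M).hom ≫ φ := by
      rw [h1]
      simp
    exact ConcreteCategory.congr_hom h2 z
  | f :: l, j, h, z => by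
    have ih := topJ_kmap φ l j h
    have key : ∀ z : (mappingCone (f • 𝟙 (kcx M l))).X j,
        topJ N l j h (sndE (f • 𝟙 (kcx N l)) j ((mappingCone.map (f • 𝟙 (kcx M l))
          (f • 𝟙 (kcx N l)) (kmap φ l) (kmap φ l)
          (by simp [Linear.smul_comp, Linear.comp_smul])).f j z)) =
        φ (topJ M l j h (sndE (f • 𝟙 (kcx M l)) j z)) := by
      intro z
      rw [map_apply, sndE_mkE, ih]
    exact key z

end top

section shift

/-- if `φ` reflects membership in `(l) -`, then `H^0(K(l; φ))` is injective -/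
theorem mono_homologyMap_zero {M' M : ModuleCat.{u} A} (φ : M' ⟶ M) (l : List A)
    (hφ : ∀ x : M', φ x ∈ Ideal.ofList l • (⊤ : Submodule A M) →
      x ∈ Ideal.ofList l • (⊤ : Submodule A M')) :
    Mono (HomologicalComplex.homologyMap (kmap φ l) 0) := by
  rw [ModuleCat.mono_iff_injective, injective_iff_map_eq_zero]
  intro c hc
  obtain ⟨z, rfl⟩ := exists_cycle _ 0 c
  rw [homologyMap_π] at hc
  obtain ⟨w, hw⟩ := exists_boundary_of_homologyπ_eq_zero _ (-1) 0 (by norm_num) _ hc
  rw [iCycles_cyclesMap] at hw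
  have h1 := topJ_kmap φ l 0 rfl ((kcx M' l).iCycles 0 z)
  rw [hw] at h1
  have h2 : φ (topJ M' l 0 rfl ((kcx M' l).iCycles 0 z)) ∈
      Ideal.ofList l • (⊤ : Submodule A M) := by
    rw [← h1]
    exact (topJ_d_iff M l (-1) 0 (by norm_num) rfl _).mp ⟨w, rfl⟩
  obtain ⟨w', hw'⟩ := (topJ_d_iff M' l (-1) 0 (by norm_num) rfl _).mpr (hφ _ h2)
  have h3 := (topJ_bijective M' l 0 rfl).1 hw'
  exact homologyπ_eq_zero_of_boundary _ (-1) 0 (by norm_num) z w' h3.symm

/-- dimension shifting: in a short exact sequence of complexes, `H^j` of the middle term zero and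
`H^{j+1}` of the inclusion injective force `H^j` of the quotient to vanish -/
theorem isZero_homology_of_shortExact (S : ShortComplex (CochainComplex (ModuleCat.{u} A) ℤ))
    (hS : S.ShortExact) (j k : ℤ) (hjk : j + 1 = k) (h2 : IsZero (S.X₂.homology j))
    (hmono : Mono (HomologicalComplex.homologyMap S.f k)) : IsZero (S.X₃.homology j) := by
  have hδ : hS.δ j k hjk = 0 := by
    rw [← cancel_mono (HomologicalComplex.homologyMap S.f k), zero_comp]
    exact hS.δ_comp j k hjk
  exact (hS.homology_exact₃ j k hjk).isZero_of_both_zeros (h2.eq_of_src _ _) hδ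

/-- dimension shifting, second form: `H^j` of the middle and `H^{j+1}` of the sub vanish -/
theorem isZero_homology_of_shortExact' (S : ShortComplex (CochainComplex (ModuleCat.{u} A) ℤ))
    (hS : S.ShortExact) (j k : ℤ) (hjk : j + 1 = k) (h2 : IsZero (S.X₂.homology j))
    (h1 : IsZero (S.X₁.homology k)) : IsZero (S.X₃.homology j) :=
  (hS.homology_exact₃ j k hjk).isZero_of_both_zeros (h2.eq_of_src _ _) (h1.eq_of_tgt _ _)

end shift

section acyclic

/-- **Tor-free acyclicity**: let `C` be a class of modules such that every `M` in `C` is a quotient `F/M'` of a flat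
module `F` with `M'` in `C` and `M'/(l)M' → F/(l)F` injective.  If `K(l; A)` is acyclic in the degrees `[-n, -1]`, so is
`K(l; M)` for every `M` in `C`. -/
theorem isZero_homology_kcx_of_class (l : List A) (C : ModuleCat.{u} A → Prop)
    (hC : ∀ M, C M → ∃ (M' F : ModuleCat.{u} A) (ι : M' ⟶ F) (p : F ⟶ M) (w : ι ≫ p = 0),
      (ShortComplex.mk ι p w).ShortExact ∧ C M' ∧ Module.Flat A F ∧
        ∀ x : M', ι x ∈ Ideal.ofList l • (⊤ : Submodule A F) →
          x ∈ Ideal.ofList l • (⊤ : Submodule A M'))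
    (n : ℕ) (hn : ∀ j : ℤ, -(n : ℤ) ≤ j → j < 0 →
      IsZero ((kcx (ModuleCat.of A A) l).homology j)) :
    ∀ (k : ℕ), 1 ≤ k → k ≤ n → ∀ M, C M → IsZero ((kcx M l).homology (-(k : ℤ))) := by
  intro k
  induction k with
  | zero => intro h; omega
  | succ k ih =>
    intro _ hkn M hM
    obtain ⟨M', F, ι, p, w, hS, hM', hF, hι⟩ := hC M hM
    have hdeg : DegExact (kmap ι l) (kmap p l) := kmap_degExact (ShortComplex.mk ι p w) hS l
    obtain ⟨w', hK⟩ := hdeg.shortExact
    have hFz : IsZero ((kcx F l).homology (-((k + 1 : ℕ) : ℤ))) :=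
      isZero_homology_kcx_of_flat F l _ (hn _ (by omega) (by omega))
    rcases Nat.eq_zero_or_pos k with rfl | hk
    · have hm := mono_homologyMap_zero ι l hι
      exact isZero_homology_of_shortExact _ hK (-((0 + 1 : ℕ) : ℤ)) 0 (by norm_num) hFz hm
    · have h1 := ih hk (by omega) M' hM'
      exact isZero_homology_of_shortExact' _ hK (-((k + 1 : ℕ) : ℤ)) (-(k : ℤ))
        (by push_cast; ring) hFz h1

end acyclic

end Groth.Agent.Lib.KoszulTop
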