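import Groth.Agent.Lib.KoszulLim9

/-!
# Top-degree direct-limit Koszul cohomology (helper23)

For a list `fs` of length `r`, the top Koszul cohomology `H^r(fs^n; M)` is `M/(fs^n)M` and the transition
maps multiply by `∏ f^(m-n)`.  A compatible family of linear maps `e n : M →ₗ N` killing `(fs^n)M`
(`e m ((∏ f^(m-n)) • x) = e n x`) induces `κ : koszulHLim fs M r →ₗ N`; it is injective as soon as
`e n x = 0 → x ∈ (fs^n) M`.
-/

set_option autoImplicit false
universe u

open CategoryTheory CategoryTheory.Limits CochainComplex HomologicalComplex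

namespace Groth.Agent.Lib.KoszulTopLim23

open Groth.Agent.Lib.KoszulCone Groth.Agent.Lib.KoszulElem Groth.Agent.Lib.KoszulLim9 CohIII

variable {A : Type u} [CommRing A] (M : ModuleCat.{u} A)

/-- the transition maps act on the top degree by multiplication by `∏ f^(m-n)` -/
theorem top_trans (n m : ℕ) (h : n ≤ m) :
    ∀ (fs : List A) (j : ℤ) (hj : j = 0) (x : (koszulCx M (fs.map (· ^ n))).X j),
      top M (fs.map (· ^ m)) j hj ((koszulTrans M n m h fs).f j x) =
        (fs.map (· ^ (m - n))).prod • top M (fs.map (· ^ n)) j hj x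
  | [], j, hj, x => by
    rw [koszulTrans_nil]
    simp only [HomologicalComplex.id_f, ModuleCat.id_apply, List.map_nil, List.prod_nil, one_smul]
    rfl
  | f :: fs, j, hj, x => by
    rw [koszulTrans_cons_apply M n m h]
    have h1 := top_cons M (f ^ m) (fs.map (· ^ m)) j hj
      (mkE (f ^ m • 𝟙 (koszulCx M (fs.map (· ^ m)))) j
        ((koszulTrans M n m h fs).f (j + 1)
          (fstE (f ^ n • 𝟙 (koszulCx M (fs.map (· ^ n)))) j x))
        (f ^ (m - n) • (koszulTrans M n m h fs).f j
          (sndE (f ^ n • 𝟙 (koszulCx M (fs.map (· ^ n)))) j x)))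
    have h2 := top_cons M (f ^ n) (fs.map (· ^ n)) j hj x
    refine h1.trans ?_
    rw [sndE_mkE, map_smul, top_trans n m h fs j hj]
    refine Eq.trans ?_ (congrArg (fun y => ((f :: fs).map (· ^ (m - n))).prod • y) h2.symm)
    simp only [List.map_cons, List.prod_cons, mul_smul]

variable (fs : List A)

omit [CommRing A] in
theorem deg_top : ((fs.length : ℕ) : ℤ) - fs.length = 0 := sub_self _

section level

variable (N : Type u) [AddCommGroup N] [Module A N] (l : List A) (j : ℤ) (hj : j = 0)
  (e : M →ₗ[A] N) (he : ∀ x : M, x ∈ Ideal.ofList l • (⊤ : Submodule A M) → e x = 0)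

/-- the map out of the top Koszul cohomology induced by a map killing `(l) M` -/
noncomputable def κl : (koszulCx M l).homology j →ₗ[A] N :=
  homologyDesc (koszulCx M l) (j - 1) j (by ring) N (e ∘ₗ top M l j hj) (fun w => by
    rw [LinearMap.comp_apply]
    exact he _ ((exists_top_d_eq_iff M l (j - 1) j (by ring) hj _).mp ⟨w, rfl⟩))

theorem κl_π (c : (koszulCx M l).cycles j) :
    κl M N l j hj e he ((koszulCx M l).homologyπ j c) = e (top M l j hj ((koszulCx M l).iCycles j c)) :=
  homologyDesc_π _ _ _ _ _ _ _ c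

theorem κl_injective (hinj : ∀ x : M, e x = 0 → x ∈ Ideal.ofList l • (⊤ : Submodule A M)) :
    Function.Injective (κl M N l j hj e he) := by
  rw [← LinearMap.ker_eq_bot, LinearMap.ker_eq_bot']
  intro x hx
  obtain ⟨c, rfl⟩ := exists_cycle _ _ x
  rw [κl_π] at hx
  obtain ⟨w, hw⟩ := (exists_top_d_eq_iff M l (j - 1) j (by ring) hj _).mpr (hinj _ hx)
  have hw' : (koszulCx M l).d (j - 1) j w = (koszulCx M l).iCycles j c :=
    (top_bijective M l j hj).1 hw
  exact homologyπ_eq_zero_of_boundary (koszulCx M l) (j - 1) j (by ring) c w hw'.symm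

/-- every element of `M` is the top coordinate of a class -/
theorem exists_κl_eq (y : M) :
    ∃ x : (koszulCx M l).homology j, κl M N l j hj e he x = e y := by
  obtain ⟨z, hz⟩ := (top_bijective M l j hj).2 y
  have hs : Subsingleton ((koszulCx M l).X (j + 1)) :=
    subsingleton_X M l (j + 1) (Or.inr (by omega))
  obtain ⟨c, hc⟩ := exists_cycle_of_d_eq_zero (koszulCx M l) j (j + 1) rfl z (Subsingleton.elim _ _)
  exact ⟨(koszulCx M l).homologyπ j c, by rw [κl_π, hc, hz]⟩

end level

section limit

variable (N : Type u) [AddCommGroup N] [Module A N] (e : ℕ → (M →ₗ[A] N))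
  (he : ∀ n (x : M), x ∈ Ideal.ofList (fs.map (· ^ n)) • (⊤ : Submodule A M) → e n x = 0)
  (hcompat : ∀ n m, n ≤ m → ∀ x : M, e m ((fs.map (· ^ (m - n))).prod • x) = e n x)

/-- level `n` of the comparison map -/
noncomputable def κn (n : ℕ) : koszulHPow fs M fs.length n →ₗ[A] N :=
  κl M N (fs.map (· ^ n)) (((fs.length : ℕ) : ℤ) - fs.length) (deg_top fs) (e n) (he n)

include hcompat in
theorem κn_trans (n m : ℕ) (h : n ≤ m) (x : koszulHPow fs M fs.length n) :
    κn M fs N e he m ((HomologicalComplex.homologyMap (koszulTrans M n m h fs)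
      (((fs.length : ℕ) : ℤ) - fs.length)).hom x) = κn M fs N e he n x := by
  obtain ⟨c, rfl⟩ := exists_cycle _ _ x
  have := homologyMap_π (koszulTrans M n m h fs) (((fs.length : ℕ) : ℤ) - fs.length) c
  rw [show (HomologicalComplex.homologyMap (koszulTrans M n m h fs)
      (((fs.length : ℕ) : ℤ) - fs.length)).hom _ = _ from this]
  unfold κn
  rw [κl_π, κl_π, iCycles_cyclesMap, top_trans, hcompat n m h]

/-- the comparison map out of the top direct-limit Koszul cohomology -/
noncomputable def κ : koszulHLim fs M fs.length →ₗ[A] N :=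
  Module.DirectLimit.lift A ℕ _ _ (κn M fs N e he) (fun n m h x => κn_trans M fs N e he hcompat n m h x)

theorem κ_of (n : ℕ) (x : koszulHPow fs M fs.length n) :
    κ M fs N e he hcompat (Module.DirectLimit.of A ℕ
        (fun n : ℕ => (koszulHPow fs M fs.length n : Type u))
        (fun n m h => (HomologicalComplex.homologyMap (koszulTrans M n m h fs)
          (((fs.length : ℕ) : ℤ) - fs.length)).hom) n x) = κn M fs N e he n x := by
  unfold κ
  exact Module.DirectLimit.lift_of (ι := ℕ) _ _ _

theorem κ_injective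
    (hinj : ∀ n (x : M), e n x = 0 → x ∈ Ideal.ofList (fs.map (· ^ n)) • (⊤ : Submodule A M)) :
    Function.Injective (κ M fs N e he hcompat) := by
  unfold κ
  apply Module.DirectLimit.lift_injective
  intro n
  exact κl_injective M N _ _ _ _ _ (hinj n)

/-- the range of `κ` is the union of the ranges of the `e n` -/
theorem range_κ (y : N) :
    y ∈ LinearMap.range (κ M fs N e he hcompat) ↔ ∃ n, y ∈ LinearMap.range (e n) := by
  constructor
  · rintro ⟨x, rfl⟩
    obtain ⟨n, x, rfl⟩ := Module.DirectLimit.exists_of x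
    obtain ⟨c, rfl⟩ := exists_cycle _ _ x
    refine ⟨n, ?_⟩
    rw [κ_of]
    unfold κn
    rw [κl_π]
    exact ⟨_, rfl⟩
  · rintro ⟨n, m, rfl⟩
    obtain ⟨x, hx⟩ := exists_κl_eq M N (fs.map (· ^ n)) (((fs.length : ℕ) : ℤ) - fs.length)
      (deg_top fs) (e n) (he n) m
    exact ⟨Module.DirectLimit.of A ℕ _ _ n x, by rw [κ_of]; exact hx⟩

end limit

end Groth.Agent.Lib.KoszulTopLim23
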