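import Mathlib
import Groth.Prelude.Def_CAlgX

set_option autoImplicit false
universe u v

namespace Groth.Agent.Lib.TruncPoly89

open MvPolynomial

section QR

variable {A : Type v} [CommRing A] {d : ℕ} (x : Fin d → A)

/-- convenient form of quasi-regularity -/
theorem mem_of_sum_mem_pow (hq : CAlgX.IsQuasiRegular x) (n : ℕ) (S : Finset (Fin d →₀ ℕ))
    (hS : ∀ α ∈ S, Finsupp.degree α = n) (a : (Fin d →₀ ℕ) → A)
    (h : ∑ α ∈ S, a α * ∏ i, x i ^ α i ∈ Ideal.span (Set.range x) ^ (n + 1)) :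
    ∀ α ∈ S, a α ∈ Ideal.span (Set.range x) := by
  classical
  intro α hα
  have hP : (∑ β ∈ S, monomial β (a β)).IsHomogeneous n := by
    apply IsHomogeneous.sum
    intro β hβ
    apply isHomogeneous_monomial
    rw [← hS β hβ]
  have hev : eval x (∑ β ∈ S, monomial β (a β)) ∈ Ideal.span (Set.range x) ^ (n + 1) := by
    rw [map_sum]
    simp only [eval_monomial]
    convert h using 2
    rename_i β hβ
    congr 1
    rw [Finsupp.prod_fintype]
    intro i; simp
  have := hq n _ hP hev α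
  rw [coeff_sum] at this
  simp only [coeff_monomial] at this
  rw [Finset.sum_ite_eq' S α] at this
  simpa [hα] using this

end QR

section Main

variable {R : Type u} {B : Type v} {E : Type v} [CommRing R] [CommRing B] [CommRing E]
  [Algebra R B] [Algebra R E] {d : ℕ}

/-- the evaluation map `B[T] → C` attached to a section `σ : B → C` and elements `y i`. -/
noncomputable def psi (σ : B →ₐ[R] E) (y : Fin d → E) : MvPolynomial (Fin d) B →ₐ[R] E :=
  { eval₂Hom (σ : B →+* E) y with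
    commutes' := fun r => by
      simp [IsScalarTower.algebraMap_apply R B (MvPolynomial (Fin d) B), MvPolynomial.algebraMap_eq] }

@[simp] theorem psi_C (σ : B →ₐ[R] E) (y : Fin d → E) (b : B) : psi σ y (C b) = σ b := by
  simp [psi]

@[simp] theorem psi_X (σ : B →ₐ[R] E) (y : Fin d → E) (i : Fin d) : psi σ y (X i) = y i := by
  simp [psi]

theorem psi_monomial (σ : B →ₐ[R] E) (y : Fin d → E) (α : Fin d →₀ ℕ) (b : B) :
    psi σ y (monomial α b) = σ b * ∏ i, y i ^ α i := by
  have : psi σ y (monomial α b) = eval₂ (σ : B →+* E) y (monomial α b) := rfl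
  rw [this, eval₂_monomial, Finsupp.prod_fintype]
  · rfl
  · intro i; simp

theorem map_idealOfVars_psi (σ : B →ₐ[R] E) (y : Fin d → E) :
    (idealOfVars (Fin d) B).map (psi σ y) = Ideal.span (Set.range y) := by
  rw [idealOfVars, Ideal.map_span, ← Set.range_comp]
  congr 2
  ext i
  simp

theorem sub_section_mem_ker (σ : B →ₐ[R] E) (π : E →ₐ[R] B) (hπσ : ∀ b, π (σ b) = b) (c : E) :
    c - σ (π c) ∈ RingHom.ker (π : E →+* B) := by
  rw [RingHom.mem_ker]
  simp [hπσ]

theorem exists_step (σ : B →ₐ[R] E) (y : Fin d → E) (π : E →ₐ[R] B) (hπσ : ∀ b, π (σ b) = b)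
    (hker : RingHom.ker (π : E →+* B) = Ideal.span (Set.range y)) (k : ℕ) (z : E)
    (hz : z ∈ Ideal.span (Set.range y) ^ k) :
    ∃ q, z - psi σ y q ∈ Ideal.span (Set.range y) ^ (k + 1) := by
  have hK : Ideal.span (Set.range y) ^ k = Ideal.span (psi σ y '' (idealOfVars (Fin d) B ^ k : Ideal _)) := by
    rw [← map_idealOfVars_psi σ y, ← Ideal.map_pow]
    rfl
  rw [hK] at hz
  induction hz using Submodule.span_induction with
  | mem z hz =>
    obtain ⟨m, -, rfl⟩ := hz
    exact ⟨m, by simp⟩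
  | zero => exact ⟨0, by simp⟩
  | add z₁ z₂ _ _ h₁ h₂ =>
    obtain ⟨q₁, h₁⟩ := h₁
    obtain ⟨q₂, h₂⟩ := h₂
    refine ⟨q₁ + q₂, ?_⟩
    have : z₁ + z₂ - psi σ y (q₁ + q₂) = (z₁ - psi σ y q₁) + (z₂ - psi σ y q₂) := by
      rw [map_add]; ring
    rw [this]
    exact Ideal.add_mem _ h₁ h₂
  | smul c z hz h =>
    obtain ⟨q, h⟩ := h
    refine ⟨C (π c) * q, ?_⟩
    have e : c • z - psi σ y (C (π c) * q) = (c - σ (π c)) * z + σ (π c) * (z - psi σ y q) := by
      rw [map_mul, psi_C, smul_eq_mul]; ring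
    rw [e]
    refine Ideal.add_mem _ ?_ (Ideal.mul_mem_left _ _ h)
    rw [pow_succ']
    refine Ideal.mul_mem_mul ?_ ?_
    · rw [← hker]; exact sub_section_mem_ker σ π hπσ c
    · rw [hK]; exact hz

theorem exists_psi_sub_mem (σ : B →ₐ[R] E) (y : Fin d → E) (π : E →ₐ[R] B) (hπσ : ∀ b, π (σ b) = b)
    (hker : RingHom.ker (π : E →+* B) = Ideal.span (Set.range y)) (k : ℕ) (c : E) :
    ∃ p, c - psi σ y p ∈ Ideal.span (Set.range y) ^ k := by
  induction k with
  | zero => exact ⟨0, by simp⟩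
  | succ k ih =>
    obtain ⟨p, hp⟩ := ih
    obtain ⟨q, hq⟩ := exists_step σ y π hπσ hker k _ hp
    refine ⟨p + q, ?_⟩
    have : c - psi σ y (p + q) = c - psi σ y p - psi σ y q := by rw [map_add]; ring
    rw [this]; exact hq

theorem psi_surjective (σ : B →ₐ[R] E) (y : Fin d → E) (π : E →ₐ[R] B) (hπσ : ∀ b, π (σ b) = b)
    (hker : RingHom.ker (π : E →+* B) = Ideal.span (Set.range y)) (N : ℕ)
    (hN : Ideal.span (Set.range y) ^ N = ⊥) : Function.Surjective (psi σ y) := by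
  intro c
  obtain ⟨p, hp⟩ := exists_psi_sub_mem σ y π hπσ hker N c
  rw [hN, Ideal.mem_bot, sub_eq_zero] at hp
  exact ⟨p, hp.symm⟩

end Main

section Inj

variable {R : Type u} {A : Type v} [CommRing R] [CommRing A] [Algebra R A] {d : ℕ} (x : Fin d → A)
  (N : ℕ)

local notation "J" => Ideal.span (Set.range x)

theorem prod_pow_mem {S : Type*} [CommRing S] (g : Fin d → S) (α : Fin d →₀ ℕ) :
    ∏ i, g i ^ α i ∈ Ideal.span (Set.range g) ^ (Finsupp.degree α) := by
  have h1 : ∏ i, g i ^ α i ∈ ∏ i, (Ideal.span (Set.range g)) ^ α i := by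
    apply Ideal.prod_mem_prod
    intro i _
    exact Ideal.pow_mem_pow (Ideal.subset_span (Set.mem_range_self i)) _
  rw [Finset.prod_pow_eq_pow_sum] at h1
  convert h1
  rw [Finsupp.degree_eq_sum]

theorem step_inj (hq : CAlgX.IsQuasiRegular x) (hN : N ≠ 0)
    (σ : (A ⧸ J) →ₐ[R] (A ⧸ J ^ N))
    (hσ : ∀ b, Ideal.Quotient.factor (Ideal.pow_le_self hN) (σ b) = b)
    (p : MvPolynomial (Fin d) (A ⧸ J))
    (hp : psi σ (fun i => Ideal.Quotient.mk (J ^ N) (x i)) p = 0) (n : ℕ) (hn : n < N)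
    (hpn : p ∈ idealOfVars (Fin d) (A ⧸ J) ^ n) :
    p ∈ idealOfVars (Fin d) (A ⧸ J) ^ (n + 1) := by
  classical
  set y : Fin d → A ⧸ J ^ N := fun i => Ideal.Quotient.mk (J ^ N) (x i) with hy
  -- the degree `n` part
  let S : Finset (Fin d →₀ ℕ) := p.support.filter (fun α => Finsupp.degree α = n)
  let p₀ : MvPolynomial (Fin d) (A ⧸ J) := ∑ α ∈ S, monomial α (p.coeff α)
  have hcoeff₀ : ∀ α, p₀.coeff α = if α ∈ S then p.coeff α else 0 := by
    intro α
    simp only [p₀, coeff_sum, coeff_monomial]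
    rw [Finset.sum_ite_eq' S α]
  have hr : p - p₀ ∈ idealOfVars (Fin d) (A ⧸ J) ^ (n + 1) := by
    rw [mem_pow_idealOfVars_iff']
    intro α hα
    rw [coeff_sub, hcoeff₀]
    rcases Nat.lt_succ_iff_lt_or_eq.mp hα with h | h
    · have h0 : p.coeff α = 0 := (mem_pow_idealOfVars_iff' n p).mp hpn α h
      have : α ∉ S := by
        simp only [S, Finset.mem_filter, not_and]
        intro _; omega
      simp [h0, this]
    · by_cases hα' : α ∈ p.support
      · have : α ∈ S := by simp only [S, Finset.mem_filter]; exact ⟨hα', h⟩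
        simp [this]
      · have h0 : p.coeff α = 0 := by simpa using hα'
        simp [h0]
  -- images
  have hy_span : Ideal.span (Set.range y) = (J).map (Ideal.Quotient.mk (J ^ N)) := by
    rw [Ideal.map_span, ← Set.range_comp]; rfl
  have h1 : psi σ y (p - p₀) ∈ Ideal.span (Set.range y) ^ (n + 1) := by
    rw [← map_idealOfVars_psi σ y, ← Ideal.map_pow]
    exact Ideal.mem_map_of_mem _ hr
  have h2 : psi σ y p₀ ∈ Ideal.span (Set.range y) ^ (n + 1) := by
    have : psi σ y p₀ = - psi σ y (p - p₀) := by rw [map_sub, hp]; ring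
    rw [this]; exact Ideal.neg_mem_iff _ |>.mpr h1
  -- lifts
  have hsurj := Ideal.Quotient.mk_surjective (I := J ^ N)
  let a : (Fin d →₀ ℕ) → A := fun α => Function.surjInv hsurj (σ (p.coeff α))
  have ha : ∀ α, Ideal.Quotient.mk (J ^ N) (a α) = σ (p.coeff α) := fun α =>
    Function.surjInv_eq hsurj _
  have h3 : ∑ α ∈ S, a α * ∏ i, x i ^ α i ∈ J ^ (n + 1) := by
    have h4 : Ideal.Quotient.mk (J ^ N) (∑ α ∈ S, a α * ∏ i, x i ^ α i) ∈
        (J ^ (n + 1)).map (Ideal.Quotient.mk (J ^ N)) := by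
      rw [Ideal.map_pow, ← hy_span]
      convert h2 using 1
      simp only [p₀, map_sum, psi_monomial, map_mul, map_prod, map_pow, ha, hy]
    rw [Ideal.mem_quotient_iff_mem_sup] at h4
    have : J ^ (n + 1) ⊔ J ^ N = J ^ (n + 1) := sup_eq_left.mpr (Ideal.pow_le_pow_right (by omega))
    rwa [this] at h4
  have h5 := mem_of_sum_mem_pow x hq n S
    (fun α hα => (Finset.mem_filter.mp hα).2) a h3
  -- conclude
  rw [mem_pow_idealOfVars_iff']
  intro α hα
  rcases Nat.lt_succ_iff_lt_or_eq.mp hα with h | h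
  · exact (mem_pow_idealOfVars_iff' n p).mp hpn α h
  · by_cases hα' : α ∈ p.support
    · have hS : α ∈ S := by simp only [S, Finset.mem_filter]; exact ⟨hα', h⟩
      have h6 := h5 α hS
      have h7 := hσ (p.coeff α)
      rw [← ha α, Ideal.Quotient.factor_mk, Ideal.Quotient.eq_zero_iff_mem.mpr h6] at h7
      exact h7.symm
    · simpa using hα'

theorem mem_pow_of_psi_eq_zero (hq : CAlgX.IsQuasiRegular x) (hN : N ≠ 0)
    (σ : (A ⧸ J) →ₐ[R] (A ⧸ J ^ N))
    (hσ : ∀ b, Ideal.Quotient.factor (Ideal.pow_le_self hN) (σ b) = b)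
    (p : MvPolynomial (Fin d) (A ⧸ J))
    (hp : psi σ (fun i => Ideal.Quotient.mk (J ^ N) (x i)) p = 0) :
    p ∈ idealOfVars (Fin d) (A ⧸ J) ^ N := by
  have : ∀ n, n ≤ N → p ∈ idealOfVars (Fin d) (A ⧸ J) ^ n := by
    intro n
    induction n with
    | zero => intro _; simp
    | succ n ih =>
      intro hn
      exact step_inj x N hq hN σ hσ p hp n (by omega) (ih (by omega))
  exact this N le_rfl

theorem psi_mem_pow_eq_zero (_hN : N ≠ 0) (σ : (A ⧸ J) →ₐ[R] (A ⧸ J ^ N))
    (p : MvPolynomial (Fin d) (A ⧸ J)) (hp : p ∈ idealOfVars (Fin d) (A ⧸ J) ^ N) :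
    psi σ (fun i => Ideal.Quotient.mk (J ^ N) (x i)) p = 0 := by
  have h1 : psi σ (fun i => Ideal.Quotient.mk (J ^ N) (x i)) p ∈
      Ideal.span (Set.range (fun i => Ideal.Quotient.mk (J ^ N) (x i))) ^ N := by
    rw [← map_idealOfVars_psi σ _, ← Ideal.map_pow]
    exact Ideal.mem_map_of_mem _ hp
  have h2 : Ideal.span (Set.range (fun i => Ideal.Quotient.mk (J ^ N) (x i))) ^ N = ⊥ := by
    have : Ideal.span (Set.range (fun i => Ideal.Quotient.mk (J ^ N) (x i))) =
        (J).map (Ideal.Quotient.mk (J ^ N)) := by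
      rw [Ideal.map_span, ← Set.range_comp]; rfl
    rw [this, ← Ideal.map_pow, Ideal.map_quotient_self]
  rw [h2] at h1
  exact h1

end Inj

end Groth.Agent.Lib.TruncPoly89
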