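import Mathlib
import Groth.Prelude.Def_CAlgX
import Groth.Agent.Lib.TruncPoly89
import Groth.Agent.Lib.RelCartier
import Groth.Agent.Lib.FlatOfExact

/-!
# Quasi-regular sequences with flat quotient: all `B ⧸ J ^ n` are flat

For `f : Fin r → B` quasi-regular with `J = (f)`, the canonical map
`Θ_n : (Mon_n →₀ B ⧸ J) → B ⧸ J ^ (n + 1)`, `e_α ↦ f ^ α`, is injective with image the kernel of
`B ⧸ J ^ (n + 1) → B ⧸ J ^ n`.  Hence if `B ⧸ J` is flat over `A`, so is every `B ⧸ J ^ n`.
-/

set_option autoImplicit false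
universe u v

namespace Groth.Agent.Lib.QuasiRegFlat89

open MvPolynomial Function

section Theta

variable {B : Type v} [CommRing B] {r : ℕ} (f : Fin r → B)

local notation "J" => Ideal.span (Set.range f)

/-- exponent vectors of degree `n`. -/
abbrev Mon (r n : ℕ) : Type := {α : Fin r →₀ ℕ // Finsupp.degree α = n}

/-- the monomial `f ^ α`. -/
def mono (α : Fin r →₀ ℕ) : B := ∏ i, f i ^ α i

theorem mono_mem (α : Fin r →₀ ℕ) : mono f α ∈ J ^ (Finsupp.degree α) :=
  Groth.Agent.Lib.TruncPoly89.prod_pow_mem f α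

theorem mono_mem' {n : ℕ} (α : Mon r n) : mono f α.1 ∈ J ^ n := by
  have := mono_mem f α.1
  rwa [α.2] at this

/-- multiplication by `f ^ α` as a map `B ⧸ J → B ⧸ J ^ (n + 1)`. -/
noncomputable def mulMono (n : ℕ) (α : Mon r n) : (B ⧸ J) →ₗ[B] (B ⧸ J ^ (n + 1)) :=
  Submodule.mapQ J (J ^ (n + 1)) (LinearMap.mulLeft B (mono f α.1)) (by
    intro b hb
    simp only [Submodule.mem_comap, LinearMap.mulLeft_apply]
    rw [pow_succ]
    exact Ideal.mul_mem_mul (mono_mem' f α) hb)

@[simp] theorem mulMono_mk (n : ℕ) (α : Mon r n) (b : B) :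
    mulMono f n α (Ideal.Quotient.mk J b) = Ideal.Quotient.mk (J ^ (n + 1)) (mono f α.1 * b) := rfl

/-- the canonical map `Θ_n`. -/
noncomputable def theta (n : ℕ) : (Mon r n →₀ B ⧸ J) →ₗ[B] (B ⧸ J ^ (n + 1)) :=
  Finsupp.lsum ℕ (mulMono f n)

@[simp] theorem theta_single (n : ℕ) (α : Mon r n) (x : B ⧸ J) :
    theta f n (Finsupp.single α x) = mulMono f n α x := by
  simp [theta]

theorem theta_mapRange (n : ℕ) (z : Mon r n →₀ B) :
    theta f n (Finsupp.mapRange (Ideal.Quotient.mk J) (map_zero _) z)
      = Ideal.Quotient.mk (J ^ (n + 1)) (∑ α ∈ z.support, mono f α.1 * z α) := by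
  rw [theta, Finsupp.lsum_apply, Finsupp.sum_mapRange_index (fun _ => map_zero _), map_sum]
  rfl

theorem theta_injective (hq : CAlgX.IsQuasiRegular f) (n : ℕ) : Injective (theta f n) := by
  classical
  rw [injective_iff_map_eq_zero]
  intro z hz
  obtain ⟨z, rfl⟩ := Finsupp.mapRange_surjective (Ideal.Quotient.mk J) (map_zero _)
    Ideal.Quotient.mk_surjective z
  rw [theta_mapRange, Ideal.Quotient.eq_zero_iff_mem] at hz
  -- apply quasi-regularity
  let S : Finset (Fin r →₀ ℕ) := z.support.map ⟨Subtype.val, Subtype.val_injective⟩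
  let a : (Fin r →₀ ℕ) → B := fun α => if h : Finsupp.degree α = n then z ⟨α, h⟩ else 0
  have hS : ∀ α ∈ S, Finsupp.degree α = n := by
    intro α hα
    obtain ⟨β, _, rfl⟩ := Finset.mem_map.mp hα
    exact β.2
  have hsum : ∑ α ∈ S, a α * ∏ i, f i ^ α i = ∑ α ∈ z.support, mono f α.1 * z α := by
    rw [Finset.sum_map]
    refine Finset.sum_congr rfl fun α _ => ?_
    simp only [Function.Embedding.coeFn_mk, a, dif_pos α.2, mono]
    rw [mul_comm]
  have key := Groth.Agent.Lib.TruncPoly89.mem_of_sum_mem_pow f hq n S hS a (by rw [hsum]; exact hz)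
  ext α
  simp only [Finsupp.mapRange_apply, Finsupp.zero_apply]
  rw [Ideal.Quotient.eq_zero_iff_mem]
  by_cases hα : α ∈ z.support
  · have := key α.1 (Finset.mem_map.mpr ⟨α, hα, rfl⟩)
    simpa only [a, dif_pos α.2] using this
  · rw [Finsupp.notMem_support_iff.mp hα]
    exact Ideal.zero_mem _

/-- the transition map `B ⧸ J ^ (n + 1) → B ⧸ J ^ n`, `B`-linearly. -/
noncomputable def trans (n : ℕ) : (B ⧸ J ^ (n + 1)) →ₗ[B] (B ⧸ J ^ n) :=
  Submodule.mapQ (J ^ (n + 1)) (J ^ n) LinearMap.id (Ideal.pow_le_pow_right (Nat.le_succ n))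

@[simp] theorem trans_mk (n : ℕ) (b : B) :
    trans f n (Ideal.Quotient.mk (J ^ (n + 1)) b) = Ideal.Quotient.mk (J ^ n) b := rfl

theorem trans_surjective (n : ℕ) : Surjective (trans f n) := by
  intro y
  obtain ⟨b, rfl⟩ := Ideal.Quotient.mk_surjective y
  exact ⟨Ideal.Quotient.mk _ b, rfl⟩

theorem theta_trans_exact (n : ℕ) : Exact (theta f n) (trans f n) := by
  classical
  intro y
  constructor
  · intro hy
    obtain ⟨b, rfl⟩ := Ideal.Quotient.mk_surjective y
    rw [trans_mk, Ideal.Quotient.eq_zero_iff_mem] at hy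
    obtain ⟨Q, hQ, rfl⟩ := (Ideal.mem_span_pow_iff_exists_isHomogeneous f b).1 hy
    rw [MvPolynomial.eval_eq', map_sum]
    change _ ∈ LinearMap.range (theta f n)
    refine Submodule.sum_mem _ fun d hd => ?_
    have hdeg : Finsupp.degree d = n := by
      rw [Finsupp.degree_eq_weight_one]
      exact hQ (MvPolynomial.mem_support_iff.mp hd)
    refine ⟨Finsupp.single ⟨d, hdeg⟩ (Ideal.Quotient.mk J (coeff d Q)), ?_⟩
    rw [theta_single, mulMono_mk, mul_comm]
    rfl
  · rintro ⟨z, rfl⟩
    induction z using Finsupp.induction_linear with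
    | zero => simp
    | add x y hx hy => rw [map_add, map_add, hx, hy, add_zero]
    | single α x =>
      obtain ⟨b, rfl⟩ := Ideal.Quotient.mk_surjective x
      rw [theta_single, mulMono_mk, trans_mk, Ideal.Quotient.eq_zero_iff_mem]
      exact Ideal.mul_mem_right _ _ (mono_mem' f α)

end Theta

section Flat

variable {A : Type u} {B : Type v} [CommRing A] [CommRing B] [Algebra A B] {r : ℕ} (f : Fin r → B)

local notation "J" => Ideal.span (Set.range f)

instance flat_finsupp (ι : Type*) (M : Type*) [AddCommGroup M] [Module A M] [Module.Flat A M] :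
    Module.Flat A (ι →₀ M) := by
  classical exact Module.Flat.of_linearEquiv (finsuppLEquivDirectSum A M ι)

/-- **all infinitesimal neighbourhoods are flat**. -/
theorem flat_quotient_pow (hq : CAlgX.IsQuasiRegular f) [Module.Flat A (B ⧸ J)] :
    ∀ n : ℕ, Module.Flat A (B ⧸ J ^ n) := by
  intro n
  induction n with
  | zero =>
    have : Subsingleton (B ⧸ J ^ 0) := by
      rw [pow_zero, Ideal.one_eq_top]
      exact Ideal.Quotient.subsingleton_iff.mpr rfl
    infer_instance
  | succ n ih =>
    exact Groth.Agent.Lib.RelCartier.flat_of_exact_left_right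
      ((theta f n).restrictScalars A) ((trans f n).restrictScalars A)
      (theta_injective f hq n) (trans_surjective f n) (theta_trans_exact f n)

/-- `Θ_n` stays injective after any base change `A' ⊗[A] -`. -/
theorem lTensor_theta_injective (hq : CAlgX.IsQuasiRegular f) [Module.Flat A (B ⧸ J)]
    (N : Type*) [AddCommGroup N] [Module A N] (n : ℕ) :
    Injective (((theta f n).restrictScalars A).lTensor N) := by
  have := flat_quotient_pow (A := A) f hq n
  exact LinearMap.lTensor_injective_of_exact_of_flat ((trans f n).restrictScalars A)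
    (trans_surjective f n) ((theta f n).restrictScalars A) (theta_injective f hq n)
    (theta_trans_exact f n) N

end Flat

section Consequences

open TensorProduct

variable {A : Type u} {B : Type v} [CommRing A] [CommRing B] [Algebra A B]

/-- `RestrictScalars A B M` is `A`-linearly `M`. -/
noncomputable def rsEquiv (A : Type u) (B : Type v) [CommRing A] [CommRing B] [Algebra A B]
    (M : Type*) [AddCommGroup M] [Module B M] [Module A M]
    [IsScalarTower A B M] : RestrictScalars A B M ≃ₗ[A] M :=
  { RestrictScalars.addEquiv A B M with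
    map_smul' := fun a x => by
      simp [RestrictScalars.smul_def, algebraMap_smul] }

theorem flat_restrictScalars (M : Type*) [AddCommGroup M] [Module B M] [Module A M]
    [IsScalarTower A B M] [Module.Flat A M] : Module.Flat A (RestrictScalars A B M) :=
  Module.Flat.of_linearEquiv (rsEquiv A B M)

/-- localization (at a submonoid of `B`) preserves flatness over `A`. -/
theorem flat_localizedModule (S : Submonoid B) (X : Type*) [AddCommGroup X] [Module B X]
    [Module A X] [IsScalarTower A B X] [Module.Flat A X] :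
    Module.Flat A (LocalizedModule S X) := by
  rw [Module.Flat.iff_lTensor_preserves_injective_linearMap]
  intro N N' _ _ _ _ φ hφ
  let g := LocalizedModule.mkLinearMap S X
  have h1 : Injective (AlgebraTensorModule.lTensor B X φ) :=
    Module.Flat.lTensor_preserves_injective_linearMap φ hφ
  have h2 := IsLocalizedModule.map_injective S (AlgebraTensorModule.rTensor A N g)
    (AlgebraTensorModule.rTensor A N' g) (AlgebraTensorModule.lTensor B X φ) h1
  rw [IsLocalizedModule.map_lTensor] at h2
  exact h2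

variable (I : Ideal B)

/-- if `B` and `B ⧸ I` are flat over `A`, so is `I`. -/
theorem flat_ideal_of_flat_quotient [Module.Flat A B] [Module.Flat A (B ⧸ I)] :
    Module.Flat A I :=
  Groth.Agent.Lib.FlatOfExact.flat_of_exact (I.subtype.restrictScalars A)
    ((Submodule.mkQ I).restrictScalars A) (Submodule.subtype_injective I)
    (Submodule.mkQ_surjective I) (LinearMap.exact_subtype_mkQ I)

/-- if `B ⧸ I ^ n` and `B ⧸ I ^ m` are flat over `A`, so is `I ^ n / I ^ m`. -/
theorem flat_pow_quotient (n m : ℕ) (hnm : n ≤ m) [Module.Flat A (B ⧸ I ^ n)]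
    [Module.Flat A (B ⧸ I ^ m)] :
    Module.Flat A (↥(I ^ n) ⧸ Submodule.comap (I ^ n).subtype (I ^ m)) := by
  let g : (↥(I ^ n) ⧸ Submodule.comap (I ^ n).subtype (I ^ m)) →ₗ[B] (B ⧸ I ^ m) :=
    Submodule.mapQ _ (I ^ m) (I ^ n).subtype le_rfl
  let p : (B ⧸ I ^ m) →ₗ[B] (B ⧸ I ^ n) :=
    Submodule.mapQ (I ^ m) (I ^ n) LinearMap.id (Ideal.pow_le_pow_right hnm)
  have hg : Injective g := by
    rw [injective_iff_map_eq_zero]
    intro x hx
    obtain ⟨y, rfl⟩ := Submodule.Quotient.mk_surjective _ x
    have h1 : g (Submodule.Quotient.mk y) = Submodule.Quotient.mk (y : B) := rfl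
    rw [h1, Submodule.Quotient.mk_eq_zero] at hx
    rw [Submodule.Quotient.mk_eq_zero]
    exact hx
  have hp : Surjective p := by
    intro y
    obtain ⟨b, rfl⟩ := Submodule.Quotient.mk_surjective _ y
    exact ⟨Submodule.Quotient.mk b, rfl⟩
  have hex : Exact g p := by
    intro z
    obtain ⟨b, rfl⟩ := Submodule.Quotient.mk_surjective _ z
    constructor
    · intro hz
      have h1 : p (Submodule.Quotient.mk b) = Submodule.Quotient.mk b := rfl
      rw [h1, Submodule.Quotient.mk_eq_zero] at hz
      exact ⟨Submodule.Quotient.mk ⟨b, hz⟩, rfl⟩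
    · rintro ⟨x, hx⟩
      obtain ⟨y, rfl⟩ := Submodule.Quotient.mk_surjective _ x
      rw [← hx]
      have h1 : p (g (Submodule.Quotient.mk y)) = Submodule.Quotient.mk (y : B) := rfl
      rw [h1, Submodule.Quotient.mk_eq_zero]
      exact y.2
  exact Groth.Agent.Lib.FlatOfExact.flat_of_exact (g.restrictScalars A) (p.restrictScalars A)
    hg hp hex

end Consequences

end Groth.Agent.Lib.QuasiRegFlat89
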