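import Groth.Agent.Lib.KoszulTor
import Groth.Agent.Lib.KRDescA
import Groth.Agent.Lib.KoszulRel2
import Groth.Agent.Lib.QuasiRegFlat89
import Groth.Agent.S2103

/-!
# `Tor` of powers of a Koszul-regular ideal against a base change keeping Koszul-regularity
(helper32)

* `TorAcyc N M`: `Tor_i(M, N) = 0` for all `i ≥ 1` (Mathlib `Tor`, first variable `M`), with
  closure under isomorphisms, extensions, kernels of surjections, finite products / `Finsupp` over
  finite types.
* `nonempty_tor_succ_iso'`: `Tor_{n+1}(A/(l), M) ≅ H^{-(n+1)}(kcx M l)` for `l` Koszul-regular.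
* `torAcyc_quotient_ofList`: `fs` Koszul-regular in `A` with Koszul-regular image in `A'` gives
  `Tor_i^A(A/(fs), A') = 0`, `i ≥ 1`.
* `torAcyc_quot_pow`, `torAcyc_pow`, `torAcyc_gr`: for `f` quasi-regular, `J = (f)` and
  `TorAcyc N (A/J)`, the modules `A/Jⁿ`, `Jⁿ`, `Jⁿ/Jⁿ⁺¹` are `TorAcyc N`.
-/

set_option autoImplicit false
universe u

open CategoryTheory Limits

namespace Groth.Agent.Lib.KoszulTorPow

open Groth.Agent.Lib.TorLES

section TorAcyc

variable {R : Type u} [CommRing R]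

/-- `Tor_i(M, N) = 0` for all `i ≥ 1`. -/
def TorAcyc (N : ModuleCat.{u} R) (M : Type u) [AddCommGroup M] [Module R M] : Prop :=
  ∀ i : ℕ, IsZero (((Tor (ModuleCat.{u} R) (i + 1)).obj (ModuleCat.of R M)).obj N)

variable {N : ModuleCat.{u} R}
variable {M M' M₁ M₂ M₃ : Type u} [AddCommGroup M] [Module R M] [AddCommGroup M'] [Module R M']
  [AddCommGroup M₁] [Module R M₁] [AddCommGroup M₂] [Module R M₂] [AddCommGroup M₃] [Module R M₃]

theorem TorAcyc.of_linearEquiv (e : M ≃ₗ[R] M') (h : TorAcyc N M') : TorAcyc N M :=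
  fun i => isZero_tor_of_iso e.toModuleIso (i + 1) (h i)

theorem TorAcyc.of_flat [Module.Flat R M] : TorAcyc N M := fun i =>
  have : Module.Flat R (ModuleCat.of R M) := inferInstanceAs (Module.Flat R M)
  isZero_tor_succ_of_flat_left (ModuleCat.of R M) N i

theorem TorAcyc.of_subsingleton [Subsingleton M] : TorAcyc N M :=
  fun i => isZero_tor_of_isZero_left (ModuleCat.isZero_of_subsingleton _) (i + 1)

section exact

variable (f : M₁ →ₗ[R] M₂) (g : M₂ →ₗ[R] M₃) (hf : Function.Injective f)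
  (hg : Function.Surjective g) (hfg : Function.Exact f g)

include hf hg hfg

theorem exists_shortExact : ∃ S : ShortComplex (ModuleCat.{u} R), S.ShortExact ∧
    S.X₁ = ModuleCat.of R M₁ ∧ S.X₂ = ModuleCat.of R M₂ ∧ S.X₃ = ModuleCat.of R M₃ := by
  refine ⟨ShortComplex.mk (ModuleCat.ofHom f) (ModuleCat.ofHom g) ?_, ?_, rfl, rfl, rfl⟩
  · ext x
    exact hfg.apply_apply_eq_zero x
  · exact ModuleCat.shortComplex_shortExact _ hfg hf hg

/-- extensions -/
theorem TorAcyc.of_exact (h1 : TorAcyc N M₁) (h3 : TorAcyc N M₃) : TorAcyc N M₂ := by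
  obtain ⟨S, hS, e1, e2, e3⟩ := exists_shortExact f g hf hg hfg
  intro i
  rw [← e2]
  refine isZero_tor_X₂ hS (i + 1) ?_ ?_
  · rw [e1]; exact h1 i
  · rw [e3]; exact h3 i

/-- kernels of surjections -/
theorem TorAcyc.ker_of_exact (h2 : TorAcyc N M₂) (h3 : TorAcyc N M₃) : TorAcyc N M₁ := by
  obtain ⟨S, hS, e1, e2, e3⟩ := exists_shortExact f g hf hg hfg
  intro i
  rw [← e1]
  refine isZero_tor_X₁ hS (i + 1) ?_ ?_
  · rw [e3]; exact h3 (i + 1)
  · rw [e2]; exact h2 i

end exact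

theorem TorAcyc.prod (h : TorAcyc N M) (h' : TorAcyc N M') : TorAcyc N (M × M') :=
  TorAcyc.of_exact (LinearMap.inl R M M') (LinearMap.snd R M M') LinearMap.inl_injective
    LinearMap.snd_surjective Function.Exact.inl_snd h h'

theorem TorAcyc.pi_fin (h : TorAcyc N M) : ∀ m : ℕ, TorAcyc N (Fin m → M)
  | 0 => TorAcyc.of_subsingleton
  | m + 1 =>
    TorAcyc.of_linearEquiv (Fin.consLinearEquiv R (fun _ : Fin (m + 1) => M)).symm
      (TorAcyc.prod h (TorAcyc.pi_fin h m))

theorem TorAcyc.finsupp {ι : Type} [Finite ι] (h : TorAcyc N M) : TorAcyc N (ι →₀ M) := by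
  obtain ⟨m, ⟨e⟩⟩ := Finite.exists_equiv_fin ι
  exact TorAcyc.of_linearEquiv ((Finsupp.linearEquivFunOnFinite R M ι).trans
    (LinearEquiv.funCongrLeft R M e.symm)) (TorAcyc.pi_fin h m)

end TorAcyc

section Koszul

open Groth.Agent.Lib.KoszulTor Groth.Agent.Lib.KoszulCone Groth.Agent.Lib.KoszulReduce
  Groth.Agent.Lib.KoszulQuot Groth.Agent.Lib.TorBalance Groth.Agent.Lib.KRDescA

variable {A : Type u} [CommRing A]

lemma exactAt_Q' (l : List A) (hl : LCI.IsKoszulRegularSeq A l) (j : ℕ) :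
    (Q l).ExactAt (j + 1) := by
  rw [HomologicalComplex.exactAt_iff_isZero_homology]
  have hz := (isKoszulRegularSeq_iff l).mp hl (-(j + 1 : ℤ)) (by omega)
  refine IsZero.of_iso hz ((kcx (ModuleCat.of A A) l).restrictionHomologyIso
    (ComplexShape.embeddingUpIntLE 0) (j + 2) (j + 1) j (by simp) (by simp)
    (i' := -(j + 2 : ℤ)) (j' := -(j + 1 : ℤ)) (k' := -(j : ℤ)) ?_ ?_ ?_ ?_ ?_)
  · simp [ComplexShape.embeddingUpIntLE]
  · simp [ComplexShape.embeddingUpIntLE]
  · simp [ComplexShape.embeddingUpIntLE]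
  · simp; ring
  · simp

/-- `Tor_{n+1}(A/(l), M) ≅ H^{-(n+1)}(K(l; M))` for a Koszul-regular sequence `l`. -/
theorem nonempty_tor_succ_iso' (l : List A) (hl : LCI.IsKoszulRegularSeq A l)
    (M : ModuleCat.{u} A) (n : ℕ) :
    Nonempty (((Tor (ModuleCat.{u} A) (n + 1)).obj (ModuleCat.of A (A ⧸ Ideal.ofList l))).obj M ≅
      (kcx M l).homology (-((n + 1 : ℕ) : ℤ))) := by
  obtain ⟨e0⟩ := nonempty_opcycles_iso l
  obtain ⟨e1⟩ := tor_opcycles_zero_iso_homology (Q l) M (flat_Q l) (exactAt_Q' l hl) (n + 1)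
  let e2 := (HomologicalComplex.homologyFunctor _ _ (n + 1)).mapIso (qnIso M l)
  let K := DRing.tensorCx (kcx (ModuleCat.of A A) l) M
  let e3 : (K.restriction (ComplexShape.embeddingUpIntLE 0)).homology (n + 1) ≅
      K.homology (-((n + 1 : ℕ) : ℤ)) :=
    K.restrictionHomologyIso (ComplexShape.embeddingUpIntLE 0) (n + 2) (n + 1) n (by simp)
      (by simp) (i' := -((n + 2 : ℕ) : ℤ)) (j' := -((n + 1 : ℕ) : ℤ)) (k' := -(n : ℤ))
      (by simp [ComplexShape.embeddingUpIntLE]) (by simp [ComplexShape.embeddingUpIntLE])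
      (by simp [ComplexShape.embeddingUpIntLE]) (by simp; ring) (by simp)
  let e4 := (HomologicalComplex.homologyFunctor _ _ (-((n + 1 : ℕ) : ℤ))).mapIso
    (Groth.Agent.Lib.KoszulTor.tensorKcxIso M l)
  exact ⟨(torMapIso e0 (n + 1)).symm ≪≫ e1 ≪≫ e2 ≪≫ e3 ≪≫ e4⟩

/-- `fs` Koszul-regular in `A` with Koszul-regular image in `A'`: `Tor_i^A(A/(fs), A') = 0` for
`i ≥ 1`. -/
theorem torAcyc_quotient_ofList (A' : Type u) [CommRing A'] [Algebra A A'] (fs : List A)
    (hfs : LCI.IsKoszulRegularSeq A fs)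
    (hfs' : LCI.IsKoszulRegularSeq A' (fs.map (algebraMap A A'))) :
    TorAcyc (ModuleCat.of A A') (A ⧸ Ideal.ofList fs) := by
  intro i
  have h1 := (isKoszulRegularSeq_iff _).mp hfs' (-((i + 1 : ℕ) : ℤ)) (by omega)
  rw [← isZero_homology_restrict_iff (algebraMap A A')] at h1
  have h2 := ((HomologicalComplex.homologyFunctor _ _ (-((i + 1 : ℕ) : ℤ))).mapIso
    (resKcxIso (algebraMap A A') (ModuleCat.of A' A') fs)).isZero_iff.mp h1
  obtain ⟨e⟩ := nonempty_tor_succ_iso' fs hfs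
    ((ModuleCat.restrictScalars (algebraMap A A')).obj (ModuleCat.of A' A')) i
  have h3 := IsZero.of_iso h2 e
  exact IsZero.of_iso h3 (((Tor (ModuleCat.{u} A) (i + 1)).obj
    (ModuleCat.of A (A ⧸ Ideal.ofList fs))).mapIso (restrictSelfEquiv A').toModuleIso).symm

end Koszul

section powers

open Groth.Agent.Lib.QuasiRegFlat89

variable {A : Type u} [CommRing A] {N : ModuleCat.{u} A} {r : ℕ} (f : Fin r → A)

local notation "J" => Ideal.span (Set.range f)

instance (n : ℕ) : Finite (Mon r n) := (Finsupp.finite_of_degree_eq n).to_subtype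

theorem torAcyc_quot_pow (hq : CAlgX.IsQuasiRegular f) (h0 : TorAcyc N (A ⧸ J)) :
    ∀ n : ℕ, TorAcyc N (A ⧸ J ^ n)
  | 0 => by
    have : Subsingleton (A ⧸ J ^ 0) := by
      rw [pow_zero, Ideal.one_eq_top]
      exact Submodule.Quotient.subsingleton_iff.mpr rfl
    exact TorAcyc.of_subsingleton
  | n + 1 =>
    TorAcyc.of_exact (theta f n) (trans f n) (theta_injective f hq n) (trans_surjective f n)
      (theta_trans_exact f n) (TorAcyc.finsupp h0) (torAcyc_quot_pow hq h0 n)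

theorem torAcyc_pow (hq : CAlgX.IsQuasiRegular f) (h0 : TorAcyc N (A ⧸ J)) (n : ℕ) :
    TorAcyc N ↥(J ^ n) :=
  TorAcyc.ker_of_exact (J ^ n).subtype (Submodule.mkQ (J ^ n)) (Submodule.subtype_injective _)
    (Submodule.mkQ_surjective _) (LinearMap.exact_subtype_mkQ _) TorAcyc.of_flat
    (torAcyc_quot_pow f hq h0 n)

theorem torAcyc_gr (hq : CAlgX.IsQuasiRegular f) (h0 : TorAcyc N (A ⧸ J)) (n : ℕ) :
    TorAcyc N (↥(J ^ n) ⧸ Submodule.comap (J ^ n).subtype (J ^ (n + 1))) := by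
  let g : (↥(J ^ n) ⧸ Submodule.comap (J ^ n).subtype (J ^ (n + 1))) →ₗ[A] (A ⧸ J ^ (n + 1)) :=
    Submodule.mapQ _ (J ^ (n + 1)) (J ^ n).subtype le_rfl
  have hg : Function.Injective g := by
    rw [injective_iff_map_eq_zero]
    intro x hx
    obtain ⟨y, rfl⟩ := Submodule.Quotient.mk_surjective _ x
    have h1 : g (Submodule.Quotient.mk y) = Submodule.Quotient.mk (y : A) := rfl
    rw [h1, Submodule.Quotient.mk_eq_zero] at hx
    rw [Submodule.Quotient.mk_eq_zero]
    exact hx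
  have hex : Function.Exact g (trans f n) := by
    intro z
    obtain ⟨b, rfl⟩ := Submodule.Quotient.mk_surjective _ z
    constructor
    · intro hz
      have h1 : trans f n (Submodule.Quotient.mk b) = Submodule.Quotient.mk b := rfl
      rw [h1, Submodule.Quotient.mk_eq_zero] at hz
      exact ⟨Submodule.Quotient.mk ⟨b, hz⟩, rfl⟩
    · rintro ⟨x, hx⟩
      obtain ⟨y, rfl⟩ := Submodule.Quotient.mk_surjective _ x
      rw [← hx]
      have h1 : trans f n (g (Submodule.Quotient.mk y)) = Submodule.Quotient.mk (y : A) := rfl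
      rw [h1, Submodule.Quotient.mk_eq_zero]
      exact y.2
  exact TorAcyc.ker_of_exact g (trans f n) hg (trans_surjective f n) hex
    (torAcyc_quot_pow f hq h0 (n + 1)) (torAcyc_quot_pow f hq h0 n)

end powers

end Groth.Agent.Lib.KoszulTorPow
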