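import Mathlib
import Groth.Agent.Lib.HenselGeneral
import Groth.Agent.Lib.NormalDecomp58

/-!
# Algebraic Krasner lemma (helper57)

Complete DVR `O` with fraction field `Kh`, dense subring `A → O`, `M/Kh` finite separable:
`M` is generated by a root of a monic polynomial with coefficients in `A`
(`exists_approx_poly`; Newton-Hensel in `O[X]/(F)` instead of valuation-theoretic Krasner),
hence descends to the fraction field of `A` (`exists_descent_of_poly`).
-/

set_option autoImplicit false
set_option linter.style.haveILetI false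
universe u

namespace Groth.Agent.Lib.KrasnerAlg57

open Polynomial IntermediateField IsLocalRing TensorProduct

section step1

variable {O Kh M : Type u} [CommRing O] [IsDomain O] [Field Kh] [Algebra O Kh] [IsFractionRing O Kh]
  [Field M] [Algebra Kh M] [Algebra O M] [IsScalarTower O Kh M] [FiniteDimensional Kh M]
  [Algebra.IsSeparable Kh M]

/-- A primitive element which is integral over `O`. -/
theorem exists_integral_primitive : ∃ θ : M, IsIntegral O θ ∧ Kh⟮θ⟯ = ⊤ := by
  obtain ⟨θ₀, hθ₀⟩ := Field.exists_primitive_element Kh M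
  obtain ⟨m, hm⟩ := IsIntegral.exists_multiple_integral_of_isLocalization (nonZeroDivisors O) θ₀
    (Algebra.IsIntegral.isIntegral (R := Kh) θ₀)
  refine ⟨m • θ₀, hm, ?_⟩
  rw [eq_top_iff, ← hθ₀]
  rw [adjoin_simple_le_iff]
  have hm0 : algebraMap O Kh (m : O) ≠ 0 := by
    intro h
    have := (IsFractionRing.injective O Kh) (h.trans (map_zero _).symm)
    exact nonZeroDivisors.coe_ne_zero m this
  have h1 : m • θ₀ = (algebraMap O Kh (m : O)) • θ₀ := by
    rw [Submonoid.smul_def, algebraMap_smul]
  have h2 : θ₀ = (algebraMap O Kh (m : O))⁻¹ • (m • θ₀) := by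
    rw [h1, smul_smul, inv_mul_cancel₀ hm0, one_smul]
  have h3 : (algebraMap O Kh (m : O))⁻¹ • (m • θ₀) ∈ Kh⟮m • θ₀⟯ :=
    (Kh⟮m • θ₀⟯).smul_mem (mem_adjoin_simple_self Kh _)
  rwa [← h2] at h3

end step1

section bezout
variable {O Kh : Type u} [CommRing O] [IsDomain O] [Field Kh] [Algebra O Kh] [IsFractionRing O Kh]

theorem exists_bezout (F : O[X]) (hsep : (F.map (algebraMap O Kh)).Separable) :
    ∃ (a b : O[X]) (D : O), D ≠ 0 ∧ a * F + b * derivative F = C D := by
  obtain ⟨a₀, b₀, h⟩ := hsep
  obtain ⟨d₁, hd₁m, hd₁⟩ := IsLocalization.integerNormalization_spec (nonZeroDivisors O) a₀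
  obtain ⟨d₂, hd₂m, hd₂⟩ := IsLocalization.integerNormalization_spec (nonZeroDivisors O) b₀
  refine ⟨C d₂ * IsLocalization.integerNormalization (nonZeroDivisors O) a₀,
    C d₁ * IsLocalization.integerNormalization (nonZeroDivisors O) b₀, d₁ * d₂, ?_, ?_⟩
  · exact mul_ne_zero (nonZeroDivisors.ne_zero hd₁m) (nonZeroDivisors.ne_zero hd₂m)
  · apply Polynomial.map_injective _ (IsFractionRing.injective O Kh)
    simp only [Polynomial.map_add, Polynomial.map_mul, Polynomial.map_C, ← derivative_map, hd₁, hd₂]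
    rw [Algebra.smul_def, Algebra.smul_def]
    simp only [Polynomial.algebraMap_apply]
    have : (C (algebraMap O Kh d₂) * (C (algebraMap O Kh d₁) * a₀)) * map (algebraMap O Kh) F +
        (C (algebraMap O Kh d₁) * (C (algebraMap O Kh d₂) * b₀)) *
          derivative (map (algebraMap O Kh) F) =
        C (algebraMap O Kh d₁) * C (algebraMap O Kh d₂) *
          (a₀ * map (algebraMap O Kh) F + b₀ * derivative (map (algebraMap O Kh) F)) := by ring
    rw [this, h, mul_one, map_mul, C_mul]

end bezout

section newton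

variable {O : Type u} [CommRing O] [IsDomain O] [IsDiscreteValuationRing O]
  [IsAdicComplete (maximalIdeal O) O]

/-- Newton approximation in `R' = O[X]/(F)`: if `F` is monic with `b F' ≡ D mod F`, `D ∣ π^c`,
and `E` arbitrary, then `F + π^(2c+1) E` has a root `β` in `R'` congruent to the root of `F`
modulo the maximal ideal. -/
theorem exists_root_adjoinRoot (F : O[X]) (hF : F.Monic) (a b : O[X]) (D : O)
    (hab : a * F + b * derivative F = C D) (π : O) (hπ : Irreducible π) (c : ℕ) (hD : D ∣ π ^ c)
    (E : O[X]) :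
    ∃ β : AdjoinRoot F, aeval β (F + C (π ^ (2 * c + 1)) * E) = 0 ∧
      β - AdjoinRoot.root F ∈ (maximalIdeal O).map (algebraMap O (AdjoinRoot F)) := by
  classical
  set R' := AdjoinRoot F with hR'
  set J : Ideal R' := (maximalIdeal O).map (algebraMap O R') with hJ
  haveI : Module.Finite O R' := (AdjoinRoot.powerBasis' hF).finite
  haveI : Module.Free O R' := Module.Free.of_basis (AdjoinRoot.powerBasis' hF).basis
  haveI hc1 : IsAdicComplete (maximalIdeal O) R' :=
    Groth.Agent.Lib.NormalDecomp58.isAdicComplete_of_finite_projective (maximalIdeal O)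
  haveI hc2 : IsAdicComplete J R' := (IsAdicComplete.map_algebraMap_iff _ _).mpr hc1
  set θ : R' := AdjoinRoot.root F with hθ
  set π' : R' := algebraMap O R' π with hπ'
  have hπJ : π' ∈ J := Ideal.mem_map_of_mem _ (hπ.maximalIdeal_eq ▸ Ideal.mem_span_singleton_self π)
  have hθF : aeval θ F = 0 := by
    rw [AdjoinRoot.aeval_eq, AdjoinRoot.mk_self]
  obtain ⟨D', hD'⟩ := hD
  -- Bezout at θ
  have hbez : aeval θ b * aeval θ (derivative F) = algebraMap O R' D := by
    have := congrArg (aeval θ) hab
    simpa [hθF] using this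
  set dθ := aeval θ (derivative F) with hdθ
  set u : R' := aeval θ b * algebraMap O R' D' with hu
  have hdu : dθ * u = π' ^ c := by
    rw [hu, ← mul_assoc, mul_comm dθ, hbez, ← map_mul, ← hD', map_pow]
  set GO : O[X] := F + C (π ^ (2 * c + 1)) * E with hGO
  set Eθ := aeval θ E with hEθ
  set E'θ := aeval θ (derivative E) with hE'θ
  have hG0 : aeval θ GO = π' ^ (2 * c + 1) * Eθ := by
    rw [hGO, map_add, hθF, zero_add, map_mul, aeval_C, map_pow]
  have hG1 : aeval θ (derivative GO) = dθ + π' ^ (2 * c + 1) * E'θ := by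
    rw [hGO, derivative_add, derivative_mul, derivative_C, zero_mul, zero_add, map_add, map_mul,
      aeval_C, map_pow]
  set e₀ := aeval θ (derivative GO) with he₀
  have hjac : J ≤ Ideal.jacobson ⊥ := IsAdicComplete.le_jacobson_bot J
  have hv : IsUnit (π' * (π' ^ c * (E'θ * u)) + 1) :=
    Ideal.mem_jacobson_bot.mp (hjac hπJ) _
  obtain ⟨v', hv'⟩ := hv.exists_right_inv
  have he₀u : e₀ * (u * v') = π' ^ c := by
    have h1 : e₀ * u = π' ^ c * (π' * (π' ^ c * (E'θ * u)) + 1) := by
      rw [hG1, add_mul, hdu]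
      ring
    rw [← mul_assoc, h1, mul_assoc, hv', mul_one]
  set ε : R' := (u * v') ^ 2 * π' * Eθ with hε
  have hεJ : ε ∈ J := by
    rw [hε, mul_assoc, mul_comm]
    exact J.mul_mem_right _ (J.mul_mem_right _ hπJ)
  have hkey : (GO.map (algebraMap O R')).eval θ =
      ((GO.map (algebraMap O R')).derivative.eval θ) ^ 2 * ε := by
    rw [derivative_map, eval_map_algebraMap, eval_map_algebraMap, hG0, ← he₀, hε]
    have : e₀ ^ 2 * ((u * v') ^ 2 * π' * Eθ) = (e₀ * (u * v')) ^ 2 * π' * Eθ := by ring
    rw [this, he₀u]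
    ring
  obtain ⟨y, hy, hroot⟩ := Groth.Agent.Lib.HenselGeneral.exists_root_of_eval_eq_sq_mul J
    (GO.map (algebraMap O R')) θ ε hεJ hkey
  refine ⟨θ + (GO.map (algebraMap O R')).derivative.eval θ * y, ?_, ?_⟩
  · rw [← eval_map_algebraMap]
    exact hroot
  · rw [add_sub_cancel_left]
    refine J.mul_mem_left _ ?_
    exact (Ideal.span_le.mpr (by simpa using hεJ)) hy

end newton

section adjoin

variable {O : Type u} [CommRing O] [IsLocalRing O]

theorem adjoin_eq_top_of_sub_mem (F : O[X]) (hF : F.Monic) (β : AdjoinRoot F)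
    (hβ : β - AdjoinRoot.root F ∈ (maximalIdeal O).map (algebraMap O (AdjoinRoot F))) :
    Algebra.adjoin O {β} = ⊤ := by
  haveI : Module.Finite O (AdjoinRoot F) := (AdjoinRoot.powerBasis' hF).finite
  have key : (⊤ : Submodule O (AdjoinRoot F)) ≤ Subalgebra.toSubmodule (Algebra.adjoin O {β}) := by
    apply Submodule.le_of_le_smul_of_le_jacobson_bot (I := maximalIdeal O) Module.Finite.fg_top
      (IsLocalRing.jacobson_eq_maximalIdeal ⊥ bot_ne_top).ge
    intro x _
    obtain ⟨p, rfl⟩ := AdjoinRoot.mk_surjective x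
    rw [← AdjoinRoot.aeval_eq]
    have h1 : aeval β p ∈ Subalgebra.toSubmodule (Algebra.adjoin O {β}) :=
      aeval_mem_adjoin_singleton O β
    have h2 : aeval (AdjoinRoot.root F) p - aeval β p ∈
        (maximalIdeal O) • (⊤ : Submodule O (AdjoinRoot F)) := by
      rw [Ideal.smul_top_eq_map, Submodule.restrictScalars_mem]
      obtain ⟨t, ht⟩ := Polynomial.sub_dvd_eval_sub (AdjoinRoot.root F) β
        (p.map (algebraMap O (AdjoinRoot F)))
      rw [eval_map_algebraMap, eval_map_algebraMap] at ht
      rw [ht]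
      have : AdjoinRoot.root F - β = -(β - AdjoinRoot.root F) := by ring
      rw [this]
      exact Ideal.mul_mem_right _ _ (neg_mem hβ)
    have := Submodule.add_mem_sup h1 h2
    rwa [add_sub_cancel] at this
  exact Algebra.toSubmodule_eq_top.mp (top_le_iff.mp key)

end adjoin

section core

variable {A O Kh M : Type u} [CommRing A] [CommRing O] [IsDomain O] [IsDiscreteValuationRing O]
  [IsAdicComplete (maximalIdeal O) O] [Algebra A O]
  [Field Kh] [Algebra O Kh] [IsFractionRing O Kh]
  [Field M] [Algebra Kh M] [Algebra O M] [IsScalarTower O Kh M] [FiniteDimensional Kh M]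
  [Algebra.IsSeparable Kh M]

theorem exists_approx_poly
    (hdense : ∀ (x : O) (n : ℕ), ∃ a : A, x - algebraMap A O a ∈ maximalIdeal O ^ n) :
    ∃ (G : A[X]) (β : M), G.Monic ∧ G.natDegree = Module.finrank Kh M ∧
      aeval β (G.map (algebraMap A O)) = 0 ∧ Kh⟮β⟯ = ⊤ := by
  classical
  obtain ⟨θ, hθint, hθtop⟩ := exists_integral_primitive (O := O) (Kh := Kh) (M := M)
  set F := minpoly O θ with hF
  have hFmonic : F.Monic := minpoly.monic hθint
  have hFmap : minpoly Kh θ = F.map (algebraMap O Kh) :=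
    minpoly.isIntegrallyClosed_eq_field_fractions' Kh hθint
  have hFsep : (F.map (algebraMap O Kh)).Separable :=
    hFmap ▸ Algebra.IsSeparable.isSeparable Kh θ
  have hFdeg : F.natDegree = Module.finrank Kh M := by
    rw [← hFmonic.natDegree_map (algebraMap O Kh), ← hFmap,
      ← IntermediateField.adjoin.finrank (Algebra.IsIntegral.isIntegral θ), hθtop,
      IntermediateField.finrank_top']
  obtain ⟨a, b, D, hD0, hab⟩ := exists_bezout (Kh := Kh) F hFsep
  obtain ⟨π, hπ⟩ := IsDiscreteValuationRing.exists_irreducible O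
  obtain ⟨c, hc⟩ := IsDiscreteValuationRing.associated_pow_irreducible hD0 hπ
  have hDdvd : D ∣ π ^ c := hc.dvd
  set n := F.natDegree with hn
  -- approximations of coefficients
  have happ : ∀ i : Fin n, ∃ (ai : A) (ei : O),
      algebraMap A O ai = F.coeff i + π ^ (2 * c + 1) * ei := by
    intro i
    obtain ⟨ai, hai⟩ := hdense (F.coeff i) (2 * c + 1)
    rw [hπ.maximalIdeal_eq, Ideal.span_singleton_pow, Ideal.mem_span_singleton] at hai
    obtain ⟨e, he⟩ := hai
    refine ⟨ai, -e, ?_⟩
    rw [mul_neg, ← he]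
    ring
  choose ai ei hai using happ
  set E : O[X] := ∑ i : Fin n, C (ei i) * X ^ (i : ℕ) with hE
  set G : A[X] := X ^ n + ∑ i : Fin n, C (ai i) * X ^ (i : ℕ) with hG
  have hGmap : G.map (algebraMap A O) = F + C (π ^ (2 * c + 1)) * E := by
    rw [hG, Polynomial.map_add, Polynomial.map_pow, map_X, Polynomial.map_sum]
    simp only [Polynomial.map_mul, Polynomial.map_C, Polynomial.map_pow, map_X, hai]
    conv_rhs => rw [hFmonic.as_sum]
    rw [hE, Finset.mul_sum, add_assoc, Finset.sum_range (fun i => C (F.coeff i) * X ^ i),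
      ← Finset.sum_add_distrib]
    congr 1
    apply Finset.sum_congr rfl
    intro i _
    rw [C_add, C_mul, add_mul, mul_assoc]
  have hdeg : (∑ i : Fin n, C (ai i) * X ^ (i : ℕ) : A[X]).degree < n :=
    Polynomial.degree_sum_fin_lt ai
  have hGmonic : G.Monic := Polynomial.monic_X_pow_add hdeg
  haveI : Nontrivial A := (algebraMap A O).domain_nontrivial
  have hGdeg : G.natDegree = n := by
    rw [hG, Polynomial.natDegree_add_eq_left_of_degree_lt (by rwa [degree_X_pow]), natDegree_X_pow]
  obtain ⟨β, hβroot, hβJ⟩ := exists_root_adjoinRoot F hFmonic a b D hab π hπ c hDdvd E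
  have htop := adjoin_eq_top_of_sub_mem F hFmonic β hβJ
  set ι : AdjoinRoot F →ₐ[O] M := AdjoinRoot.liftAlgHom F (Algebra.ofId O M) θ (minpoly.aeval O θ) with hι
  have hιroot : ι (AdjoinRoot.root F) = θ := AdjoinRoot.liftAlgHom_root _ _ _ _
  refine ⟨G, ι β, hGmonic, hGdeg.trans hFdeg, ?_, ?_⟩
  · rw [hGmap, Polynomial.aeval_algHom_apply, hβroot, map_zero]
  · have h1 : θ ∈ Algebra.adjoin O {ι β} := by
      have : (Algebra.adjoin O {β}).map ι = Algebra.adjoin O {ι β} := by
        rw [AlgHom.map_adjoin, Set.image_singleton]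
      rw [← this, htop, ← hιroot]
      exact ⟨_, Algebra.mem_top, rfl⟩
    have h2 : Algebra.adjoin O {ι β} ≤ (Kh⟮ι β⟯.toSubalgebra).restrictScalars O := by
      apply Algebra.adjoin_le
      intro x hx
      rw [Set.mem_singleton_iff] at hx
      subst hx
      exact mem_adjoin_simple_self Kh _
    rw [eq_top_iff, ← hθtop, adjoin_simple_le_iff]
    exact h2 h1

end core

section final

variable {K Kh M : Type u} [Field K] [Field Kh] [Algebra K Kh]
  [Field M] [Algebra Kh M] [FiniteDimensional Kh M] [Algebra.IsSeparable Kh M]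

theorem exists_descent_of_poly (GK : K[X]) (β : M) (hG : GK.Monic)
    (hdeg : GK.natDegree = Module.finrank Kh M)
    (hroot : aeval β (GK.map (algebraMap K Kh)) = 0) (htop : Kh⟮β⟯ = ⊤) :
    ∃ (L : Type u) (_ : Field L) (_ : Algebra K L), FiniteDimensional K L ∧
      Algebra.IsSeparable K L ∧ Nonempty ((Kh ⊗[K] L) ≃ₐ[Kh] M) := by
  classical
  set GKh := GK.map (algebraMap K Kh) with hGKh
  have hβint : IsIntegral Kh β := Algebra.IsIntegral.isIntegral β
  have hmindeg : (minpoly Kh β).natDegree = Module.finrank Kh M := by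
    rw [← IntermediateField.adjoin.finrank hβint, htop, IntermediateField.finrank_top']
  have hmin : GKh = minpoly Kh β := by
    apply Polynomial.eq_of_monic_of_dvd_of_natDegree_le (minpoly.monic hβint) (hG.map _)
      (minpoly.dvd Kh β hroot)
    rw [hmindeg, hG.natDegree_map, hdeg]
  have hirrKh : Irreducible GKh := hmin ▸ minpoly.irreducible hβint
  have hirr : Irreducible GK := hG.irreducible_of_irreducible_map (algebraMap K Kh) GK hirrKh
  have hsep : GK.Separable :=
    (Polynomial.separable_map (algebraMap K Kh)).mp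
      (show GKh.Separable from hmin ▸ Algebra.IsSeparable.isSeparable Kh β)
  have hne : GK ≠ 0 := hG.ne_zero
  haveI : Fact (Irreducible GK) := ⟨hirr⟩
  letI : Algebra K M := ((algebraMap Kh M).comp (algebraMap K Kh)).toAlgebra
  haveI : IsScalarTower K Kh M := .of_algebraMap_eq (fun _ => rfl)
  have hβK : aeval β GK = 0 := by
    rw [← aeval_map_algebraMap Kh]
    exact hroot
  let j : AdjoinRoot GK →ₐ[K] M := AdjoinRoot.liftAlgHom GK (Algebra.ofId K M) β hβK
  have hj : j (AdjoinRoot.root GK) = β := AdjoinRoot.liftAlgHom_root _ _ _ _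
  let Φ : Kh ⊗[K] AdjoinRoot GK →ₐ[Kh] M :=
    Algebra.TensorProduct.lift (Algebra.ofId Kh M) j (fun _ _ => Commute.all _ _)
  have hΦβ : Φ (1 ⊗ₜ AdjoinRoot.root GK) = β := by
    simp [Φ, hj]
  haveI hfin : FiniteDimensional K (AdjoinRoot GK) := (AdjoinRoot.powerBasis hne).finite
  have hrank : Module.finrank Kh (Kh ⊗[K] AdjoinRoot GK) = Module.finrank Kh M := by
    rw [Module.finrank_baseChange, PowerBasis.finrank (AdjoinRoot.powerBasis hne),
      AdjoinRoot.powerBasis_dim hne, hdeg]
  have hsurj : Function.Surjective Φ := by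
    rw [← AlgHom.range_eq_top, eq_top_iff]
    have h1 : Algebra.adjoin Kh {β} = ⊤ := by
      rw [← IntermediateField.adjoin_simple_toSubalgebra_of_isAlgebraic hβint.isAlgebraic, htop,
        IntermediateField.top_toSubalgebra]
    rw [← h1]
    apply Algebra.adjoin_le
    intro x hx
    rw [Set.mem_singleton_iff] at hx
    subst hx
    exact ⟨_, hΦβ⟩
  have hbij : Function.Bijective Φ := by
    refine ⟨?_, hsurj⟩
    exact (LinearMap.injective_iff_surjective_of_finrank_eq_finrank
      (f := Φ.toLinearMap) hrank).mpr hsurj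
  refine ⟨AdjoinRoot GK, inferInstance, inferInstance, hfin, ?_, ⟨AlgEquiv.ofBijective Φ hbij⟩⟩
  -- separability
  have hx : IsSeparable K (AdjoinRoot.root GK) := by
    unfold IsSeparable
    rw [AdjoinRoot.minpoly_root hne, hG.leadingCoeff, inv_one, map_one, mul_one]
    exact hsep
  have h1 : Algebra.IsSeparable K K⟮AdjoinRoot.root GK⟯ :=
    (IntermediateField.isSeparable_adjoin_simple_iff_isSeparable K _).mpr hx
  have h2 : K⟮AdjoinRoot.root GK⟯ = ⊤ := by
    apply IntermediateField.toSubalgebra_injective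
    rw [IntermediateField.adjoin_simple_toSubalgebra_of_isAlgebraic
      (Algebra.IsAlgebraic.isAlgebraic _), IntermediateField.top_toSubalgebra]
    exact AdjoinRoot.adjoinRoot_eq_top
  rw [h2] at h1
  exact (IntermediateField.isSeparable_top K (AdjoinRoot GK)).mp h1

end final

end Groth.Agent.Lib.KrasnerAlg57
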