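import Groth.Agent.Lib.KronMod88
import Mathlib.LinearAlgebra.Dual.Lemmas

/-!
# Kronecker modules: duality (helper88)
-/

set_option autoImplicit false
universe u v w

namespace Groth.Agent.Lib.KronDual88

open KronMod Module Groth.Agent.Lib.KronMod88

variable {K : Type u} [Field K] {V : Type v} {W : Type w}
  [AddCommGroup V] [Module K V] [AddCommGroup W] [Module K W] {n : ℕ}

/-- Generic (semi)stability with respect to a relation `R` on `ℕ`. -/
def GenStable (R : ℕ → ℕ → Prop) (f : Fin n → (V →ₗ[K] W)) : Prop :=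
  0 < finrank K V + finrank K W ∧
  ∀ (V' : Submodule K V) (W' : Submodule K W), IsSubrep f V' W' →
    ¬ (V' = ⊥ ∧ W' = ⊥) → ¬ (V' = ⊤ ∧ W' = ⊤) →
    R (finrank K W * finrank K V') (finrank K V * finrank K W')

theorem isSemistable_iff_genStable (f : Fin n → (V →ₗ[K] W)) :
    IsSemistable f ↔ GenStable (· ≤ ·) f := Iff.rfl

theorem isStable_iff_genStable (f : Fin n → (V →ₗ[K] W)) :
    IsStable f ↔ GenStable (· < ·) f := Iff.rfl

theorem isSubrep_dual (f : Fin n → (V →ₗ[K] W)) {V' : Submodule K V} {W' : Submodule K W}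
    (h : IsSubrep f V' W') :
    IsSubrep (fun j => (f j).dualMap) W'.dualAnnihilator V'.dualAnnihilator := by
  rw [isSubrep_iff] at h ⊢
  intro j φ hφ
  rw [Submodule.mem_dualAnnihilator] at hφ ⊢
  intro x hx
  rw [LinearMap.dualMap_apply]
  exact hφ _ (h j x hx)

theorem isSubrep_of_dual (f : Fin n → (V →ₗ[K] W)) {Φ : Submodule K (Dual K W)}
    {Ψ : Submodule K (Dual K V)} (h : IsSubrep (fun j => (f j).dualMap) Φ Ψ) :
    IsSubrep f Ψ.dualCoannihilator Φ.dualCoannihilator := by
  rw [isSubrep_iff] at h ⊢
  intro j x hx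
  rw [Submodule.mem_dualCoannihilator] at hx ⊢
  intro φ hφ
  have := hx _ (h j φ hφ)
  rwa [LinearMap.dualMap_apply] at this

variable [FiniteDimensional K V] [FiniteDimensional K W]

theorem eq_bot_iff_finrank {M : Type*} [AddCommGroup M] [Module K M] [FiniteDimensional K M]
    (N : Submodule K M) : N = ⊥ ↔ finrank K N = 0 := Submodule.finrank_eq_zero.symm

theorem eq_top_iff_finrank {M : Type*} [AddCommGroup M] [Module K M] [FiniteDimensional K M]
    (N : Submodule K M) : N = ⊤ ↔ finrank K N = finrank K M :=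
  ⟨fun h => by rw [h, finrank_top], Submodule.eq_top_of_finrank_eq⟩

theorem genStable_dual_iff (R : ℕ → ℕ → Prop)
    (hR : ∀ s p q : ℕ, p ≤ s → q ≤ s → R (s - p) (s - q) → R q p)
    (f : Fin n → (V →ₗ[K] W)) :
    GenStable R f ↔ GenStable R (fun j => (f j).dualMap) := by
  have hdV : finrank K (Dual K V) = finrank K V := Subspace.dual_finrank_eq
  have hdW : finrank K (Dual K W) = finrank K W := Subspace.dual_finrank_eq
  constructor
  · rintro ⟨hpos, hall⟩
    refine ⟨by rw [hdV, hdW]; omega, ?_⟩
    intro Φ Ψ hs hbot htop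
    have hΦ := Subspace.finrank_add_finrank_dualCoannihilator_eq Φ
    have hΨ := Subspace.finrank_add_finrank_dualCoannihilator_eq Ψ
    have h1 := hall Ψ.dualCoannihilator Φ.dualCoannihilator (isSubrep_of_dual f hs)
      (fun hh => htop (by
        rw [eq_bot_iff_finrank, eq_bot_iff_finrank] at hh
        rw [eq_top_iff_finrank, eq_top_iff_finrank, hdV, hdW]
        omega))
      (fun hh => hbot (by
        rw [eq_top_iff_finrank, eq_top_iff_finrank] at hh
        rw [eq_bot_iff_finrank, eq_bot_iff_finrank]
        omega))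
    rw [hdV, hdW]
    have e1 : finrank K Ψ.dualCoannihilator = finrank K V - finrank K Ψ := by omega
    have e2 : finrank K Φ.dualCoannihilator = finrank K W - finrank K Φ := by omega
    rw [e1, e2, Nat.mul_sub, Nat.mul_sub, Nat.mul_comm (finrank K V) (finrank K W)] at h1
    refine hR _ _ _ ?_ ?_ h1
    · exact Nat.mul_le_mul_left _ (by omega)
    · rw [Nat.mul_comm (finrank K W) (finrank K V)]
      exact Nat.mul_le_mul_left _ (by omega)
  · rintro ⟨hpos, hall⟩
    refine ⟨by rw [hdV, hdW] at hpos; omega, ?_⟩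
    intro V' W' hs hbot htop
    have hV' := Subspace.finrank_add_finrank_dualAnnihilator_eq V'
    have hW' := Subspace.finrank_add_finrank_dualAnnihilator_eq W'
    have h1 := hall W'.dualAnnihilator V'.dualAnnihilator (isSubrep_dual f hs)
      (fun hh => htop (by
        rw [eq_bot_iff_finrank, eq_bot_iff_finrank] at hh
        rw [eq_top_iff_finrank, eq_top_iff_finrank]
        omega))
      (fun hh => hbot (by
        rw [eq_top_iff_finrank, eq_top_iff_finrank, hdV, hdW] at hh
        rw [eq_bot_iff_finrank, eq_bot_iff_finrank]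
        omega))
    rw [hdV, hdW] at h1
    have e1 : finrank K V'.dualAnnihilator = finrank K V - finrank K V' := by omega
    have e2 : finrank K W'.dualAnnihilator = finrank K W - finrank K W' := by omega
    rw [e1, e2, Nat.mul_sub, Nat.mul_sub, Nat.mul_comm (finrank K W) (finrank K V)] at h1
    refine hR _ _ _ ?_ ?_ h1
    · exact Nat.mul_le_mul_left _ (by omega)
    · rw [Nat.mul_comm (finrank K V) (finrank K W)]
      exact Nat.mul_le_mul_left _ (by omega)

theorem isSemistable_dual_iff (f : Fin n → (V →ₗ[K] W)) :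
    IsSemistable f ↔ IsSemistable (fun j => (f j).dualMap) :=
  genStable_dual_iff (· ≤ ·) (fun s p q hp hq h => by
    change s - p ≤ s - q at h
    omega) f

theorem isStable_dual_iff (f : Fin n → (V →ₗ[K] W)) :
    IsStable f ↔ IsStable (fun j => (f j).dualMap) :=
  genStable_dual_iff (· < ·) (fun s p q hp hq h => by
    change s - p < s - q at h
    omega) f

end Groth.Agent.Lib.KronDual88
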