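import Groth.Prelude.Def_W4c2quivmodsheafKron
import Mathlib.LinearAlgebra.FiniteDimensional.Lemmas
import Mathlib.LinearAlgebra.Dimension.Constructions
import Mathlib.LinearAlgebra.Pi

/-!
# Kronecker modules: sum map and product map (helper88)
-/

set_option autoImplicit false
universe u v w

namespace Groth.Agent.Lib.KronMod88

open KronMod Module

variable {K : Type u} [Field K] {V : Type v} {W : Type w}
  [AddCommGroup V] [Module K V] [AddCommGroup W] [Module K W] {n : ℕ}

/-- The sum map `Vⁿ → W`. -/
def sumMap (f : Fin n → (V →ₗ[K] W)) : (Fin n → V) →ₗ[K] W :=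
  ∑ j, (f j) ∘ₗ (LinearMap.proj j)

theorem sumMap_apply (f : Fin n → (V →ₗ[K] W)) (v : Fin n → V) :
    sumMap f v = ∑ j, f j (v j) := by
  simp [sumMap, LinearMap.sum_apply]

/-- The product map `V → Wⁿ`. -/
def prodMap (f : Fin n → (V →ₗ[K] W)) : V →ₗ[K] (Fin n → W) :=
  LinearMap.pi f

theorem prodMap_apply (f : Fin n → (V →ₗ[K] W)) (v : V) (j : Fin n) :
    prodMap f v j = f j v := rfl

theorem isSubrep_iff (f : Fin n → (V →ₗ[K] W)) (V' : Submodule K V) (W' : Submodule K W) :
    IsSubrep f V' W' ↔ ∀ j, ∀ x ∈ V', f j x ∈ W' := by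
  unfold IsSubrep
  simp only [Submodule.map_le_iff_le_comap]
  rfl

theorem isSubrep_top_range_sumMap (f : Fin n → (V →ₗ[K] W)) :
    IsSubrep f ⊤ (LinearMap.range (sumMap f)) := by
  classical
  rw [isSubrep_iff]
  intro j x _
  refine ⟨Pi.single j x, ?_⟩
  rw [sumMap_apply, Finset.sum_eq_single j]
  · simp
  · intro i _ hij
    simp [Pi.single_eq_of_ne hij]
  · intro h
    exact absurd (Finset.mem_univ j) h

theorem isSubrep_ker_prodMap_bot (f : Fin n → (V →ₗ[K] W)) :
    IsSubrep f (LinearMap.ker (prodMap f)) ⊥ := by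
  rw [isSubrep_iff]
  intro j x hx
  rw [LinearMap.mem_ker] at hx
  rw [Submodule.mem_bot]
  exact congrFun hx j

theorem finrank_pi_const (M : Type*) [AddCommGroup M] [Module K M] [FiniteDimensional K M] :
    finrank K (Fin n → M) = n * finrank K M := by
  rw [Module.finrank_pi_fintype]
  simp

theorem finrank_range_sumMap_le [FiniteDimensional K V] (f : Fin n → (V →ₗ[K] W)) :
    finrank K (LinearMap.range (sumMap f)) ≤ n * finrank K V := by
  rw [← finrank_pi_const (K := K) (n := n) V]
  exact LinearMap.finrank_range_le _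

/-- The restricted sum map `(V')ⁿ → W'` of a subrepresentation. -/
def sumMapRestrict (f : Fin n → (V →ₗ[K] W)) {V' : Submodule K V} {W' : Submodule K W}
    (h : IsSubrep f V' W') : (Fin n → V') →ₗ[K] W' :=
  sumMap (fun j => (f j).restrict (fun x hx => (isSubrep_iff f V' W').mp h j x hx))

theorem coe_sumMapRestrict (f : Fin n → (V →ₗ[K] W)) {V' : Submodule K V} {W' : Submodule K W}
    (h : IsSubrep f V' W') (v : Fin n → V') :
    (sumMapRestrict f h v : W) = sumMap f (fun j => (v j : V)) := by
  simp [sumMapRestrict, sumMap_apply]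

theorem mul_finrank_le_of_injective_sumMap [FiniteDimensional K V] [FiniteDimensional K W]
    (f : Fin n → (V →ₗ[K] W)) (hinj : Function.Injective (sumMap f))
    {V' : Submodule K V} {W' : Submodule K W} (h : IsSubrep f V' W') :
    n * finrank K V' ≤ finrank K W' := by
  rw [← finrank_pi_const (K := K) (n := n) V']
  apply LinearMap.finrank_le_finrank_of_injective (f := sumMapRestrict f h)
  intro v w hvw
  have h1 : sumMap f (fun j => (v j : V)) = sumMap f (fun j => (w j : V)) := by
    rw [← coe_sumMapRestrict f h, ← coe_sumMapRestrict f h, hvw]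
  have h2 := hinj h1
  funext j
  exact Subtype.ext (congrFun h2 j)

/-- The restricted product map `V' → (W')ⁿ` of a subrepresentation. -/
def prodMapRestrict (f : Fin n → (V →ₗ[K] W)) {V' : Submodule K V} {W' : Submodule K W}
    (h : IsSubrep f V' W') : V' →ₗ[K] (Fin n → W') :=
  prodMap (fun j => (f j).restrict (fun x hx => (isSubrep_iff f V' W').mp h j x hx))

theorem finrank_le_mul_of_injective_prodMap [FiniteDimensional K V] [FiniteDimensional K W]
    (f : Fin n → (V →ₗ[K] W)) (hinj : Function.Injective (prodMap f))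
    {V' : Submodule K V} {W' : Submodule K W} (h : IsSubrep f V' W') :
    finrank K V' ≤ n * finrank K W' := by
  rw [← finrank_pi_const (K := K) (n := n) W']
  apply LinearMap.finrank_le_finrank_of_injective (f := prodMapRestrict f h)
  intro v w hvw
  apply Subtype.ext
  apply hinj
  funext j
  have := congrFun hvw j
  exact congrArg Subtype.val this

theorem sumMap_single [DecidableEq (Fin n)] (f : Fin n → (V →ₗ[K] W)) (j : Fin n) (x : V) :
    sumMap f (Pi.single j x) = f j x := by
  rw [sumMap_apply, Finset.sum_eq_single j]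
  · simp
  · intro i _ hij
    simp [Pi.single_eq_of_ne hij]
  · intro h
    exact absurd (Finset.mem_univ j) h

theorem areIso_of_bijective_sumMap (f f' : Fin n → (V →ₗ[K] W))
    (hf : Function.Bijective (sumMap f)) (hf' : Function.Bijective (sumMap f')) :
    AreIso f f' := by
  classical
  let e := LinearEquiv.ofBijective (sumMap f) hf
  let e' := LinearEquiv.ofBijective (sumMap f') hf'
  refine ⟨LinearEquiv.refl K V, e.symm.trans e', ?_⟩
  intro j
  apply LinearMap.ext
  intro x
  have h1 : f j x = e (Pi.single j x) := (sumMap_single f j x).symm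
  have h2 : f' j x = e' (Pi.single j x) := (sumMap_single f' j x).symm
  simp only [LinearMap.comp_apply, LinearEquiv.coe_coe, LinearEquiv.trans_apply,
    LinearEquiv.refl_apply]
  rw [h1, h2, LinearEquiv.symm_apply_apply]

theorem areIso_of_bijective_prodMap (f f' : Fin n → (V →ₗ[K] W))
    (hf : Function.Bijective (prodMap f)) (hf' : Function.Bijective (prodMap f')) :
    AreIso f f' := by
  let e := LinearEquiv.ofBijective (prodMap f) hf
  let e' := LinearEquiv.ofBijective (prodMap f') hf'
  refine ⟨e.trans e'.symm, LinearEquiv.refl K W, ?_⟩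
  intro j
  apply LinearMap.ext
  intro x
  simp only [LinearMap.comp_apply, LinearEquiv.coe_coe, LinearEquiv.trans_apply,
    LinearEquiv.refl_apply]
  have h1 : e' (e'.symm (e x)) = e x := LinearEquiv.apply_symm_apply _ _
  have h2 : f' j (e'.symm (e x)) = e' (e'.symm (e x)) j := rfl
  rw [h2, h1]
  rfl

theorem exists_bijective_sumMap [FiniteDimensional K V] [FiniteDimensional K W]
    (h : finrank K W = n * finrank K V) :
    ∃ f : Fin n → (V →ₗ[K] W), Function.Bijective (sumMap f) := by
  classical
  have hdim : finrank K (Fin n → V) = finrank K W := by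
    rw [finrank_pi_const, h]
  let e : (Fin n → V) ≃ₗ[K] W := LinearEquiv.ofFinrankEq _ _ hdim
  refine ⟨fun j => e.toLinearMap ∘ₗ LinearMap.single K (fun _ => V) j, ?_⟩
  have : ⇑(sumMap (fun j => e.toLinearMap ∘ₗ LinearMap.single K (fun _ => V) j)) = ⇑e := by
    funext v
    rw [sumMap_apply]
    simp only [LinearMap.comp_apply, LinearEquiv.coe_coe, LinearMap.coe_single]
    rw [← map_sum, Finset.univ_sum_single]
  rw [this]
  exact e.bijective

theorem exists_bijective_prodMap [FiniteDimensional K V] [FiniteDimensional K W]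
    (h : finrank K V = n * finrank K W) :
    ∃ f : Fin n → (V →ₗ[K] W), Function.Bijective (prodMap f) := by
  have hdim : finrank K V = finrank K (Fin n → W) := by
    rw [finrank_pi_const, h]
  let e : V ≃ₗ[K] (Fin n → W) := LinearEquiv.ofFinrankEq _ _ hdim
  refine ⟨fun j => LinearMap.proj j ∘ₗ e.toLinearMap, ?_⟩
  have : ⇑(prodMap (fun j => LinearMap.proj (R := K) (φ := fun _ => W) j ∘ₗ e.toLinearMap)) = ⇑e := by
    funext v
    rfl
  rw [this]
  exact e.bijective

theorem IsStable.isSemistable {f : Fin n → (V →ₗ[K] W)} (h : IsStable f) : IsSemistable f :=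
  ⟨h.1, fun V' W' hs h1 h2 => (h.2 V' W' hs h1 h2).le⟩

theorem isStable_iff_isSemistable_and_ne (f : Fin n → (V →ₗ[K] W)) :
    IsStable f ↔ IsSemistable f ∧
      ∀ (V' : Submodule K V) (W' : Submodule K W), IsSubrep f V' W' →
        ¬ (V' = ⊥ ∧ W' = ⊥) → ¬ (V' = ⊤ ∧ W' = ⊤) →
        finrank K W * finrank K V' ≠ finrank K V * finrank K W' := by
  constructor
  · intro h
    exact ⟨IsStable.isSemistable h, fun V' W' hs h1 h2 => (h.2 V' W' hs h1 h2).ne⟩
  · rintro ⟨hss, hne⟩
    exact ⟨hss.1, fun V' W' hs h1 h2 =>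
      lt_of_le_of_ne (hss.2 V' W' hs h1 h2) (hne V' W' hs h1 h2)⟩

/-- The subspace of `W` generated by the images `f j (V')`. -/
def genImage (f : Fin n → (V →ₗ[K] W)) (V' : Submodule K V) : Submodule K W :=
  LinearMap.range (sumMap (fun j => f j ∘ₗ V'.subtype))

theorem isSubrep_genImage (f : Fin n → (V →ₗ[K] W)) (V' : Submodule K V) :
    IsSubrep f V' (genImage f V') := by
  classical
  rw [isSubrep_iff]
  intro j x hx
  refine ⟨Pi.single j ⟨x, hx⟩, ?_⟩
  rw [sumMap_single]
  rfl

theorem finrank_genImage_le (f : Fin n → (V →ₗ[K] W)) (V' : Submodule K V)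
    [FiniteDimensional K V] :
    finrank K (genImage f V') ≤ n * finrank K V' :=
  finrank_range_sumMap_le (fun j => f j ∘ₗ V'.subtype)

theorem genImage_le (f : Fin n → (V →ₗ[K] W)) {V' : Submodule K V} {W' : Submodule K W}
    (h : IsSubrep f V' W') : genImage f V' ≤ W' := by
  rw [isSubrep_iff] at h
  rintro _ ⟨v, rfl⟩
  rw [sumMap_apply]
  exact Submodule.sum_mem _ (fun j _ => h j _ (v j).2)

/-- The common preimage `⋂ j, (f j)⁻¹ W'`. -/
def commonComap (f : Fin n → (V →ₗ[K] W)) (W' : Submodule K W) : Submodule K V :=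
  LinearMap.ker (prodMap (fun j => W'.mkQ ∘ₗ f j))

theorem mem_commonComap (f : Fin n → (V →ₗ[K] W)) (W' : Submodule K W) (x : V) :
    x ∈ commonComap f W' ↔ ∀ j, f j x ∈ W' := by
  unfold commonComap
  rw [LinearMap.mem_ker]
  constructor
  · intro h j
    have := congrFun h j
    simpa [prodMap_apply] using this
  · intro h
    funext j
    simpa [prodMap_apply] using h j

theorem isSubrep_commonComap (f : Fin n → (V →ₗ[K] W)) (W' : Submodule K W) :
    IsSubrep f (commonComap f W') W' := by
  rw [isSubrep_iff]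
  intro j x hx
  exact (mem_commonComap f W' x).mp hx j

theorem le_commonComap (f : Fin n → (V →ₗ[K] W)) {V' : Submodule K V} {W' : Submodule K W}
    (h : IsSubrep f V' W') : V' ≤ commonComap f W' := by
  rw [isSubrep_iff] at h
  intro x hx
  exact (mem_commonComap f W' x).mpr (fun j => h j x hx)

/-- `dim V ≤ dim (⋂ (f j)⁻¹ W') + n · codim W'`. -/
theorem finrank_le_finrank_commonComap_add (f : Fin n → (V →ₗ[K] W)) (W' : Submodule K W)
    [FiniteDimensional K V] [FiniteDimensional K W] :
    finrank K V ≤ finrank K (commonComap f W') + n * (finrank K W - finrank K W') := by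
  have hrn := LinearMap.finrank_range_add_finrank_ker (prodMap (fun j => W'.mkQ ∘ₗ f j))
  have hr : finrank K (LinearMap.range (prodMap (fun j => W'.mkQ ∘ₗ f j)))
      ≤ n * (finrank K W - finrank K W') := by
    have h1 : finrank K (W ⧸ W') = finrank K W - finrank K W' := by
      have := Submodule.finrank_quotient_add_finrank W'
      omega
    rw [← h1, ← finrank_pi_const (K := K) (n := n) (W ⧸ W')]
    exact Submodule.finrank_le _
  unfold commonComap
  omega

end Groth.Agent.Lib.KronMod88
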