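import Mathlib

/-!
# Abstract Krull-type argument (conductor ideals) — part A

`KData B`: a subring `B` of a field `K` is the preimage, under a ring map `φ : K → L`, of a
Noetherian subring `N` of a commutative ring `L` which is integrally closed in `L`.
(Examples: Noetherian normal domains; integral closures of Noetherian local domains, via the
completion.)

Main results:
* `KData.mem_of_pow`: `B` is completely integrally closed in `K`.
* `KData.exists_maximal_cond`: ACC for conductor ideals `(B : y)`.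
* `KData.exists_prime`: for `x ∉ B` there is a prime `P = (B : y)` of height one with
  `s * x ∉ B` for all `s ∉ P`.
-/

set_option autoImplicit false
universe u

namespace Groth.Agent.Lib.Krull96

/-- Height-one criterion in a domain. -/
theorem height_eq_one_iff {R : Type*} [CommRing R] [IsDomain R] (p : Ideal R) [p.IsPrime] :
    p.height = 1 ↔ p ≠ ⊥ ∧ ∀ q : Ideal R, q.IsPrime → q ≤ p → q ≠ ⊥ → p ≤ q := by
  constructor
  · intro h
    refine ⟨Ideal.ne_bot_of_height_eq_one h, fun q hq hqp hq0 => ?_⟩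
    by_contra hpq
    have hlt : q < p := lt_of_le_of_ne hqp (fun e => hpq (e ▸ le_rfl))
    have h1 := Ideal.height_add_one_le_of_lt_of_isPrime hlt
    rw [h] at h1
    have h0 : q.height = 0 := by
      by_contra h0
      have h2 : (1 : ℕ∞) ≤ q.height := Order.one_le_iff_ne_zero.mpr h0
      have h3 : (1 : ℕ∞) + 1 ≤ 1 := (add_le_add_left h2 1).trans h1
      exact absurd h3 (by norm_num)
    exact hq0 (Ideal.height_eq_zero_iff_eq_bot.mp h0)
  · rintro ⟨h0, h⟩
    apply le_antisymm
    · have : p.height ≤ ((1 : ℕ) : ℕ∞) := by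
        rw [Ideal.height_le_iff]
        intro q hq hqp
        have : q = ⊥ := by
          by_contra hq0
          exact absurd (h q hq hqp.le hq0) (not_le_of_gt hqp)
        rw [this, Ideal.height_bot]
        exact_mod_cast zero_lt_one
      exact_mod_cast this
    · rw [Order.one_le_iff_ne_zero]
      intro h'
      exact h0 (Ideal.height_eq_zero_iff_eq_bot.mp h')

variable {K : Type u} [Field K]

/-- The data exhibiting `B` as the preimage of a Noetherian integrally closed subring. -/
structure KData (B : Subring K) where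
  L : Type u
  [ringL : CommRing L]
  φ : K →+* L
  N : Subring L
  noeth : IsNoetherianRing N
  closed : ∀ z : L, IsIntegral N z → z ∈ N
  mem_iff : ∀ x : K, x ∈ B ↔ φ x ∈ N

attribute [instance] KData.ringL

/-- The conductor ideal `(B : y) = {a ∈ B | a y ∈ B}`. -/
def cond (B : Subring K) (y : K) : Ideal B where
  carrier := {a | (a : K) * y ∈ B}
  add_mem' := by
    intro a b ha hb
    show ((a + b : B) : K) * y ∈ B
    rw [Subring.coe_add, add_mul]
    exact B.add_mem ha hb
  zero_mem' := by
    show ((0 : B) : K) * y ∈ B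
    rw [Subring.coe_zero, zero_mul]
    exact B.zero_mem
  smul_mem' := by
    intro c a ha
    show ((c • a : B) : K) * y ∈ B
    rw [smul_eq_mul, Subring.coe_mul, mul_assoc]
    exact B.mul_mem c.2 ha

theorem mem_cond {B : Subring K} {y : K} {a : B} : a ∈ cond B y ↔ (a : K) * y ∈ B := Iff.rfl

namespace KData

variable {B : Subring K} (D : KData B)
include D

/-- `B` is completely integrally closed. -/
theorem mem_of_pow {q y : K} (hq : q ≠ 0) (h : ∀ n : ℕ, q * y ^ n ∈ B) : y ∈ B := by
  rw [D.mem_iff]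
  apply D.closed
  haveI := D.noeth
  set z := D.φ y with hz
  set c := D.φ q with hc
  set c' := D.φ q⁻¹ with hc'
  have hcc : c' * c = 1 := by
    rw [hc, hc', ← map_mul, inv_mul_cancel₀ hq, map_one]
  let M : Submodule D.N D.L := Submodule.span D.N {c'}
  haveI : IsNoetherian D.N M := isNoetherian_span_of_finite D.N (Set.finite_singleton c')
  have hle : Subalgebra.toSubmodule (Algebra.adjoin D.N {z}) ≤ M := by
    rw [Algebra.adjoin_eq_span, Submodule.span_le]
    rintro w hw
    obtain ⟨n, rfl⟩ := Submonoid.mem_closure_singleton.mp hw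
    have hmem : c * z ^ n ∈ D.N := by
      have := (D.mem_iff _).mp (h n)
      rwa [map_mul, map_pow] at this
    have : z ^ n = (⟨c * z ^ n, hmem⟩ : D.N) • c' := by
      rw [Subring.smul_def, smul_eq_mul]
      show z ^ n = c * z ^ n * c'
      calc z ^ n = (c' * c) * z ^ n := by rw [hcc, one_mul]
        _ = c * z ^ n * c' := by ring
    show z ^ n ∈ M
    rw [this]
    exact Submodule.smul_mem _ _ (Submodule.subset_span rfl)
  have hfg : (Subalgebra.toSubmodule (Algebra.adjoin D.N {z})).FG :=
    isNoetherian_submodule.mp ‹_› _ hle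
  exact IsIntegral.of_mem_of_fg _ hfg z (Algebra.subset_adjoin rfl)

/-- The restriction of `φ` to `B → N`. -/
def ψ : B →+* D.N where
  toFun a := ⟨D.φ a, (D.mem_iff a).mp a.2⟩
  map_one' := by ext; simp
  map_mul' a b := by ext; simp
  map_zero' := by ext; simp
  map_add' a b := by ext; simp

@[simp] theorem ψ_coe (a : B) : ((D.ψ a : D.N) : D.L) = D.φ a := rfl

/-- The conductor in `N`. -/
def condN (y : K) : Ideal D.N where
  carrier := {n | (n : D.L) * D.φ y ∈ D.N}
  add_mem' := by
    intro a b ha hb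
    show ((a + b : D.N) : D.L) * D.φ y ∈ D.N
    rw [Subring.coe_add, add_mul]
    exact D.N.add_mem ha hb
  zero_mem' := by
    show ((0 : D.N) : D.L) * D.φ y ∈ D.N
    rw [Subring.coe_zero, zero_mul]
    exact D.N.zero_mem
  smul_mem' := by
    intro c a ha
    show ((c • a : D.N) : D.L) * D.φ y ∈ D.N
    rw [smul_eq_mul, Subring.coe_mul, mul_assoc]
    exact D.N.mul_mem c.2 ha

theorem cond_eq_comap (y : K) : cond B y = (D.condN y).comap D.ψ := by
  ext a
  rw [Ideal.mem_comap, mem_cond, D.mem_iff, map_mul]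
  rfl

/-- ACC for conductors: above any proper conductor there is a maximal proper conductor. -/
theorem exists_maximal_cond {x : K} (hx : x ∉ B) :
    ∃ y : K, y ∉ B ∧ cond B x ≤ cond B y ∧
      ∀ y' : K, y' ∉ B → cond B y ≤ cond B y' → cond B y' ≤ cond B y := by
  haveI := D.noeth
  let 𝒯 : Set (Ideal D.N) := {I | ∃ y : K, y ∉ B ∧ cond B x ≤ cond B y ∧ I = (cond B y).map D.ψ}
  have hne : 𝒯.Nonempty := ⟨_, x, hx, le_rfl, rfl⟩
  obtain ⟨I, ⟨y, hy, hxy, rfl⟩, hmax⟩ :=
    (set_has_maximal_iff_noetherian (R := D.N) (M := D.N)).mpr inferInstance 𝒯 hne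
  refine ⟨y, hy, hxy, fun y' hy' hle => ?_⟩
  have hmem : (cond B y').map D.ψ ∈ 𝒯 := ⟨y', hy', hxy.trans hle, rfl⟩
  have h1 : (cond B y).map D.ψ ≤ (cond B y').map D.ψ := Ideal.map_mono hle
  have h2 : (cond B y').map D.ψ = (cond B y).map D.ψ := by
    by_contra hne'
    exact hmax _ hmem (lt_of_le_of_ne h1 (Ne.symm hne'))
  calc cond B y' ≤ ((cond B y').map D.ψ).comap D.ψ := Ideal.le_comap_map
    _ = ((cond B y).map D.ψ).comap D.ψ := by rw [h2]
    _ ≤ (D.condN y).comap D.ψ := by
        apply Ideal.comap_mono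
        rw [D.cond_eq_comap y]
        exact Ideal.map_comap_le
    _ = cond B y := (D.cond_eq_comap y).symm

/-- Main abstract result: for `x ∉ B` there is a height-one prime `P`, a conductor, such that
`x` has no denominator outside `P`; moreover there are `y` and `π` exhibiting `P B_P` as
principal. -/
theorem exists_prime (hfrac : ∀ y : K, ∃ b : B, b ≠ 0 ∧ (b : K) * y ∈ B) {x : K} (hx : x ∉ B) :
    ∃ (P : Ideal B) (y : K) (π : B), P.IsPrime ∧ P = cond B y ∧ cond B x ≤ P ∧ y ∉ B ∧ π ∈ P ∧
      (∃ u : B, u ∉ P ∧ (u : K) = π * y) ∧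
      (∀ Q : Ideal B, Q.IsPrime → Q ≤ P → Q ≠ ⊥ → P ≤ Q) := by
  obtain ⟨y, hy, hxy, hmax⟩ := D.exists_maximal_cond hx
  have hprime : (cond B y).IsPrime := by
    refine ⟨?_, ?_⟩
    · intro htop
      apply hy
      have : (1 : B) ∈ cond B y := htop ▸ Submodule.mem_top
      simpa [mem_cond] using this
    · intro a b hab
      by_contra hcon
      push_neg at hcon
      obtain ⟨ha, hb⟩ := hcon
      have hay : (a : K) * y ∉ B := ha
      have hle : cond B y ≤ cond B ((a : K) * y) := by
        intro c hc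
        rw [mem_cond] at hc ⊢
        have : (c : K) * ((a : K) * y) = a * ((c : K) * y) := by ring
        rw [this]
        exact B.mul_mem a.2 hc
      have hge := hmax _ hay hle
      apply hb
      apply hge
      rw [mem_cond]
      have : (b : K) * ((a : K) * y) = ((a * b : B) : K) * y := by
        rw [Subring.coe_mul]; ring
      rw [this]
      exact hab
  -- `P ≠ ⊥`
  obtain ⟨b0, hb0, hb0y⟩ := hfrac y
  -- existence of `π`
  have hπ : ∃ π : B, π ∈ cond B y ∧ ∀ h : (π : K) * y ∈ B, (⟨(π : K) * y, h⟩ : B) ∉ cond B y := by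
    by_contra hcon
    push_neg at hcon
    -- then `P y ⊆ P`, so `b0 y^n ∈ P` for all `n`
    have hall : ∀ n : ℕ, ∃ h : (b0 : K) * y ^ n ∈ B, (⟨(b0 : K) * y ^ n, h⟩ : B) ∈ cond B y := by
      intro n
      induction n with
      | zero =>
        refine ⟨by simpa using b0.2, ?_⟩
        rw [mem_cond]
        simpa using hb0y
      | succ n ih =>
        obtain ⟨h1, h2⟩ := ih
        obtain ⟨h3, h4⟩ := hcon ⟨_, h1⟩ h2
        have e : (b0 : K) * y ^ (n + 1) = (b0 : K) * y ^ n * y := by ring
        refine ⟨by rw [e]; exact h3, ?_⟩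
        have : (⟨(b0 : K) * y ^ (n + 1), by rw [e]; exact h3⟩ : B) =
            ⟨(b0 : K) * y ^ n * y, h3⟩ := Subtype.ext e
        rw [this]
        exact h4
    apply hy
    apply D.mem_of_pow (q := (b0 : K)) (fun h => hb0 (Subtype.ext h))
    intro n
    exact (hall n).1
  obtain ⟨π, hπP, hπu⟩ := hπ
  have hπy : (π : K) * y ∈ B := hπP
  refine ⟨cond B y, y, π, hprime, rfl, hxy, hy, hπP, ⟨⟨_, hπy⟩, hπu hπy, rfl⟩, ?_⟩
  -- height one
  intro Q hQ hQP hQ0
  obtain ⟨q, hqQ, hq0⟩ := Submodule.exists_mem_ne_zero_of_ne_bot hQ0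
  -- `π ∈ Q`
  have hπQ : π ∈ Q := by
    by_contra hπQ
    -- then `q y^n ∈ Q` for all `n`
    have hall : ∀ n : ℕ, ∃ h : (q : K) * y ^ n ∈ B, (⟨(q : K) * y ^ n, h⟩ : B) ∈ Q := by
      intro n
      induction n with
      | zero =>
        refine ⟨by simpa using q.2, ?_⟩
        have : (⟨(q : K) * y ^ 0, by simpa using q.2⟩ : B) = q := Subtype.ext (by simp)
        rw [this]; exact hqQ
      | succ n ih =>
        obtain ⟨h1, h2⟩ := ih
        have h3 : (q : K) * y ^ n * y ∈ B := hQP h2
        have e : (q : K) * y ^ (n + 1) = (q : K) * y ^ n * y := by ring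
        refine ⟨by rw [e]; exact h3, ?_⟩
        -- `u * (q y^n) = π * (q y^(n+1))`
        have hmul : (⟨(π : K) * y, hπy⟩ : B) * ⟨(q : K) * y ^ n, h1⟩ =
            π * ⟨(q : K) * y ^ (n + 1), by rw [e]; exact h3⟩ := by
          apply Subtype.ext
          simp only [Subring.coe_mul]
          ring
        have hin : π * (⟨(q : K) * y ^ (n + 1), by rw [e]; exact h3⟩ : B) ∈ Q := by
          rw [← hmul]
          exact Q.mul_mem_left _ h2
        exact (hQ.mem_or_mem hin).resolve_left hπQ
    apply hy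
    apply D.mem_of_pow (q := (q : K)) (fun h => hq0 (Subtype.ext h))
    intro n
    exact (hall n).1
  intro p hp
  -- `p * u = (p y) * π ∈ Q`, `u ∉ Q`
  have hpy : (p : K) * y ∈ B := hp
  have hmul : p * (⟨(π : K) * y, hπy⟩ : B) = ⟨(p : K) * y, hpy⟩ * π := by
    apply Subtype.ext
    simp only [Subring.coe_mul]
    ring
  have hin : p * (⟨(π : K) * y, hπy⟩ : B) ∈ Q := by
    rw [hmul]
    exact Q.mul_mem_left _ hπQ
  refine (hQ.mem_or_mem hin).resolve_right (fun hu => ?_)
  exact hπu hπy (hQP hu)

end KData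

end Groth.Agent.Lib.Krull96
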