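import Groth.Agent.Lib.Krull96A

/-!
# Abstract Krull-type argument — part B: localization and discrete valuation rings

* `locSubring B P`: the localization `B_P` as a subring of `K`.
* `KData.loc`: `KData` passes to `B_P`.
* `KData.exists_dvr`: if `P` is a height-one prime of `B` then `B_P` is a discrete valuation ring.
-/

set_option autoImplicit false
set_option linter.style.haveILetI false
universe u

namespace Groth.Agent.Lib.Krull96

variable {K : Type u} [Field K]

/-- The localization of `B` at a prime `P`, as a subring of `K`. -/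
def locSubring (B : Subring K) (P : Ideal B) [hP : P.IsPrime] : Subring K where
  carrier := {x | ∃ s : B, s ∉ P ∧ (s : K) * x ∈ B}
  mul_mem' := by
    rintro x y ⟨s, hs, hsx⟩ ⟨t, ht, hty⟩
    refine ⟨s * t, fun h => (hP.mem_or_mem h).elim hs ht, ?_⟩
    have : ((s * t : B) : K) * (x * y) = ((s : K) * x) * ((t : K) * y) := by
      rw [Subring.coe_mul]; ring
    rw [this]
    exact B.mul_mem hsx hty
  one_mem' := ⟨1, fun h => hP.ne_top ((Ideal.eq_top_iff_one _).mpr h), by simpa using B.one_mem⟩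
  add_mem' := by
    rintro x y ⟨s, hs, hsx⟩ ⟨t, ht, hty⟩
    refine ⟨s * t, fun h => (hP.mem_or_mem h).elim hs ht, ?_⟩
    have : ((s * t : B) : K) * (x + y) = (t : K) * ((s : K) * x) + (s : K) * ((t : K) * y) := by
      rw [Subring.coe_mul]; ring
    rw [this]
    exact B.add_mem (B.mul_mem t.2 hsx) (B.mul_mem s.2 hty)
  zero_mem' := ⟨1, fun h => hP.ne_top ((Ideal.eq_top_iff_one _).mpr h), by simpa using B.zero_mem⟩
  neg_mem' := by
    rintro x ⟨s, hs, hsx⟩
    refine ⟨s, hs, ?_⟩
    rw [mul_neg]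
    exact B.neg_mem hsx

theorem mem_locSubring {B : Subring K} {P : Ideal B} [P.IsPrime] {x : K} :
    x ∈ locSubring B P ↔ ∃ s : B, s ∉ P ∧ (s : K) * x ∈ B := Iff.rfl

theorem le_locSubring (B : Subring K) (P : Ideal B) [hP : P.IsPrime] : B ≤ locSubring B P :=
  fun x hx => ⟨1, fun h => hP.ne_top ((Ideal.eq_top_iff_one _).mpr h), by simpa using hx⟩

theorem inv_mem_locSubring {B : Subring K} {P : Ideal B} [hP : P.IsPrime] {s : B} (hs : s ∉ P) :
    (s : K)⁻¹ ∈ locSubring B P := by
  refine ⟨s, hs, ?_⟩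
  have hs0 : (s : K) ≠ 0 := fun h => hs (by
    have : s = 0 := Subtype.ext h
    rw [this]; exact P.zero_mem)
  rw [mul_inv_cancel₀ hs0]
  exact B.one_mem

namespace KData

variable {B : Subring K} (D : KData B) (P : Ideal B) [hP : P.IsPrime]

/-- The localized Noetherian subring. -/
def locN : Subring D.L where
  carrier := {z | ∃ s : B, s ∉ P ∧ D.φ s * z ∈ D.N}
  mul_mem' := by
    rintro x y ⟨s, hs, hsx⟩ ⟨t, ht, hty⟩
    refine ⟨s * t, fun h => (hP.mem_or_mem h).elim hs ht, ?_⟩
    have : D.φ ((s * t : B) : K) * (x * y) = (D.φ s * x) * (D.φ t * y) := by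
      rw [Subring.coe_mul, map_mul]; ring
    rw [this]
    exact D.N.mul_mem hsx hty
  one_mem' := ⟨1, fun h => hP.ne_top ((Ideal.eq_top_iff_one _).mpr h), by simpa using D.N.one_mem⟩
  add_mem' := by
    rintro x y ⟨s, hs, hsx⟩ ⟨t, ht, hty⟩
    refine ⟨s * t, fun h => (hP.mem_or_mem h).elim hs ht, ?_⟩
    have : D.φ ((s * t : B) : K) * (x + y) = D.φ t * (D.φ s * x) + D.φ s * (D.φ t * y) := by
      rw [Subring.coe_mul, map_mul]; ring
    rw [this]
    exact D.N.add_mem (D.N.mul_mem ((D.mem_iff _).mp t.2) hsx)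
      (D.N.mul_mem ((D.mem_iff _).mp s.2) hty)
  zero_mem' := ⟨1, fun h => hP.ne_top ((Ideal.eq_top_iff_one _).mpr h), by simpa using D.N.zero_mem⟩
  neg_mem' := by
    rintro x ⟨s, hs, hsx⟩
    refine ⟨s, hs, ?_⟩
    rw [mul_neg]
    exact D.N.neg_mem hsx

theorem N_le_locN : D.N ≤ D.locN P :=
  fun x hx => ⟨1, fun h => hP.ne_top ((Ideal.eq_top_iff_one _).mpr h), by simpa using hx⟩

theorem isNoetherianRing_locN : IsNoetherianRing (D.locN P) := by
  haveI := D.noeth
  letI : Algebra D.N (D.locN P) := (Subring.inclusion (D.N_le_locN P)).toAlgebra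
  have halg : ∀ n : D.N, ((algebraMap D.N (D.locN P) n : D.locN P) : D.L) = n := fun n => rfl
  haveI : IsLocalization (P.primeCompl.map (D.ψ : B →* D.N)) (D.locN P) := by
    refine ⟨?_, ?_, ?_⟩
    · rintro ⟨_, s, hs, rfl⟩
      have hs' : s ∉ P := hs
      have hs0 : (s : K) ≠ 0 := fun h => hs' (by
        have : s = 0 := Subtype.ext h
        rw [this]; exact P.zero_mem)
      have hinv : D.φ (s : K)⁻¹ ∈ D.locN P := by
        refine ⟨s, hs', ?_⟩
        rw [← map_mul, mul_inv_cancel₀ hs0, map_one]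
        exact D.N.one_mem
      refine IsUnit.of_mul_eq_one ⟨D.φ (s : K)⁻¹, hinv⟩ ?_
      apply Subtype.ext
      show D.φ s * D.φ (s : K)⁻¹ = 1
      rw [← map_mul, mul_inv_cancel₀ hs0, map_one]
    · rintro ⟨z, s, hs, hsz⟩
      refine ⟨⟨⟨D.φ s * z, hsz⟩, ⟨D.ψ s, s, hs, rfl⟩⟩, ?_⟩
      apply Subtype.ext
      show z * D.φ s = D.φ s * z
      ring
    · intro x y hxy
      refine ⟨1, ?_⟩
      have : (x : D.L) = y := congrArg (fun w : D.locN P => (w : D.L)) hxy
      simp only [OneMemClass.coe_one, one_mul]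
      exact Subtype.ext this
  exact IsLocalization.isNoetherianRing (P.primeCompl.map (D.ψ : B →* D.N)) (D.locN P) inferInstance

/-- `KData` passes to the localization at a prime. -/
def loc : KData (locSubring B P) where
  L := D.L
  φ := D.φ
  N := D.locN P
  noeth := D.isNoetherianRing_locN P
  closed := by
    intro z hz
    letI : Algebra D.N (D.locN P) := (Subring.inclusion (D.N_le_locN P)).toAlgebra
    haveI : IsScalarTower D.N (D.locN P) D.L := IsScalarTower.of_algebraMap_eq (fun n => rfl)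
    haveI : IsLocalization (P.primeCompl.map (D.ψ : B →* D.N)) (D.locN P) := by
      refine ⟨?_, ?_, ?_⟩
      · rintro ⟨_, s, hs, rfl⟩
        have hs' : s ∉ P := hs
        have hs0 : (s : K) ≠ 0 := fun h => hs' (by
          have : s = 0 := Subtype.ext h
          rw [this]; exact P.zero_mem)
        have hinv : D.φ (s : K)⁻¹ ∈ D.locN P := by
          refine ⟨s, hs', ?_⟩
          rw [← map_mul, mul_inv_cancel₀ hs0, map_one]
          exact D.N.one_mem
        refine IsUnit.of_mul_eq_one ⟨D.φ (s : K)⁻¹, hinv⟩ ?_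
        apply Subtype.ext
        show D.φ s * D.φ (s : K)⁻¹ = 1
        rw [← map_mul, mul_inv_cancel₀ hs0, map_one]
      · rintro ⟨z, s, hs, hsz⟩
        refine ⟨⟨⟨D.φ s * z, hsz⟩, ⟨D.ψ s, s, hs, rfl⟩⟩, ?_⟩
        apply Subtype.ext
        show z * D.φ s = D.φ s * z
        ring
      · intro x y hxy
        refine ⟨1, ?_⟩
        have : (x : D.L) = y := congrArg (fun w : D.locN P => (w : D.L)) hxy
        simp only [OneMemClass.coe_one, one_mul]
        exact Subtype.ext this
    obtain ⟨⟨_, s, hs, rfl⟩, hm⟩ :=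
      IsIntegral.exists_multiple_integral_of_isLocalization
        (P.primeCompl.map (D.ψ : B →* D.N)) (Rₘ := D.locN P) z hz
    refine ⟨s, hs, ?_⟩
    exact D.closed _ hm
  mem_iff := by
    intro x
    constructor
    · rintro ⟨s, hs, hsx⟩
      refine ⟨s, hs, ?_⟩
      rw [← map_mul]
      exact (D.mem_iff _).mp hsx
    · rintro ⟨s, hs, hsx⟩
      refine ⟨s, hs, ?_⟩
      rw [D.mem_iff, map_mul]
      exact hsx

end KData

end Groth.Agent.Lib.Krull96
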