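import Groth.Agent.Lib.Krull96B

/-!
# Abstract Krull-type argument — part C: localizations at height-one primes are DVRs
-/

set_option autoImplicit false
set_option linter.style.haveILetI false
universe u

namespace Groth.Agent.Lib.Krull96

variable {K : Type u} [Field K]

/-- A subring `B₁` of a field in which some non-unit `π` divides every non-unit, which is
completely integrally closed, and generates `K`: it is (the underlying ring of) a DVR. -/
theorem exists_valuationSubring_of_uniformizer (B₁ : Subring K)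
    (hfrac : ∀ y : K, ∃ b : B₁, b ≠ 0 ∧ (b : K) * y ∈ B₁)
    (hcic : ∀ q y : K, q ≠ 0 → (∀ n : ℕ, q * y ^ n ∈ B₁) → y ∈ B₁)
    (π : K) (hπ : π ∈ B₁) (hπ0 : π ≠ 0) (hπu : π⁻¹ ∉ B₁)
    (hdiv : ∀ z : K, z ∈ B₁ → z ≠ 0 → z⁻¹ ∉ B₁ → z * π⁻¹ ∈ B₁) :
    ∃ V : ValuationSubring K, IsDiscreteValuationRing V ∧ ∀ x : K, x ∈ V ↔ x ∈ B₁ := by
  -- factorization
  have hfact : ∀ z : K, z ∈ B₁ → z ≠ 0 → ∃ (n : ℕ) (w : K), w ∈ B₁ ∧ w⁻¹ ∈ B₁ ∧ z = π ^ n * w := by
    intro z hz hz0
    by_contra hcon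
    push_neg at hcon
    have hall : ∀ n : ℕ, z * π⁻¹ ^ n ∈ B₁ := by
      intro n
      induction n with
      | zero => simpa using hz
      | succ n ih =>
        have hw0 : z * π⁻¹ ^ n ≠ 0 := mul_ne_zero hz0 (pow_ne_zero _ (inv_ne_zero hπ0))
        have hne : (z * π⁻¹ ^ n)⁻¹ ∉ B₁ := by
          intro hinv
          apply hcon n (z * π⁻¹ ^ n) ih hinv
          rw [inv_pow]
          field_simp
        have := hdiv _ ih hw0 hne
        rw [pow_succ, ← mul_assoc]
        exact this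
    exact hπu (hcic z π⁻¹ hz0 hall)
  have hB1ne : ∀ z : K, z ≠ 0 → ∃ (n m : ℕ) (w : K), w ∈ B₁ ∧ w⁻¹ ∈ B₁ ∧ z * π ^ m = π ^ n * w := by
    intro z hz0
    obtain ⟨b, hb0, hbz⟩ := hfrac z
    have hb0' : (b : K) ≠ 0 := fun h => hb0 (Subtype.ext h)
    obtain ⟨n, w, hw, hwi, hnw⟩ := hfact _ hbz (mul_ne_zero hb0' hz0)
    obtain ⟨m, w', hw', hwi', hmw⟩ := hfact _ b.2 hb0'
    have hw'0 : w' ≠ 0 := by
      rintro rfl
      rw [mul_zero] at hmw
      exact hb0' hmw
    refine ⟨n, m, w * w'⁻¹, B₁.mul_mem hw hwi', ?_, ?_⟩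
    · rw [mul_inv, inv_inv]
      exact B₁.mul_mem hwi hw'
    · have : z = π ^ n * w / (b : K) := by
        field_simp
        rw [← hnw]; ring
      rw [this, hmw]
      field_simp
  let V : ValuationSubring K :=
    { B₁ with
      mem_or_inv_mem' := by
        intro x
        by_cases hx0 : x = 0
        · left; rw [hx0]; exact B₁.zero_mem
        obtain ⟨n, m, w, hw, hwi, h⟩ := hB1ne x hx0
        have hπm : π ^ m ≠ 0 := pow_ne_zero _ hπ0
        rcases le_total m n with hmn | hnm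
        · left
          have : x = π ^ (n - m) * w := by
            have e : π ^ n = π ^ (n - m) * π ^ m := by rw [← pow_add, Nat.sub_add_cancel hmn]
            rw [e] at h
            have : x * π ^ m = (π ^ (n - m) * w) * π ^ m := by rw [h]; ring
            exact mul_right_cancel₀ hπm this
          show x ∈ B₁
          rw [this]
          exact B₁.mul_mem (B₁.pow_mem hπ _) hw
        · right
          have hw0 : w ≠ 0 := by
            rintro rfl
            rw [mul_zero] at h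
            exact (mul_ne_zero hx0 hπm) h
          have : x⁻¹ = π ^ (m - n) * w⁻¹ := by
            have e : π ^ m = π ^ (m - n) * π ^ n := by rw [← pow_add, Nat.sub_add_cancel hnm]
            rw [e] at h
            have hπn : π ^ n ≠ 0 := pow_ne_zero _ hπ0
            have h' : x * π ^ (m - n) = w := by
              have : (x * π ^ (m - n)) * π ^ n = w * π ^ n := by linear_combination h
              exact mul_right_cancel₀ hπn this
            rw [← h']
            have : π ^ (m - n) ≠ 0 := pow_ne_zero _ hπ0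
            field_simp
          show x⁻¹ ∈ B₁
          rw [this]
          exact B₁.mul_mem (B₁.pow_mem hπ _) hwi }
  refine ⟨V, ?_, fun x => Iff.rfl⟩
  apply IsDiscreteValuationRing.ofHasUnitMulPowIrreducibleFactorization
  have hunit : ∀ w : V, (w : K) ≠ 0 → (w : K)⁻¹ ∈ B₁ → IsUnit w := by
    intro w hw0 hwi
    exact IsUnit.of_mul_eq_one ⟨(w : K)⁻¹, hwi⟩ (Subtype.ext (mul_inv_cancel₀ hw0))
  have hnotunit : ∀ w : V, IsUnit w → (w : K)⁻¹ ∈ B₁ := by
    intro w hw
    obtain ⟨v, hv⟩ := hw.exists_right_inv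
    have h1 : (w : K) * (v : K) = 1 := congrArg (fun t : V => (t : K)) hv
    have : (w : K)⁻¹ = v := inv_eq_of_mul_eq_one_right h1
    rw [this]
    exact v.2
  have hfactV : ∀ x : V, x ≠ 0 → ∃ (n : ℕ) (w : V), IsUnit w ∧ x = ⟨π, hπ⟩ ^ n * w := by
    intro x hx0
    have hx0' : (x : K) ≠ 0 := fun h => hx0 (Subtype.ext h)
    obtain ⟨n, w, hw, hwi, h⟩ := hfact _ x.2 hx0'
    have hw0 : w ≠ 0 := by
      rintro rfl
      rw [mul_zero] at h
      exact hx0' h
    refine ⟨n, ⟨w, hw⟩, hunit ⟨w, hw⟩ hw0 hwi, Subtype.ext ?_⟩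
    rw [h]
    rfl
  refine ⟨⟨π, hπ⟩, ?_, ?_⟩
  · rw [irreducible_iff]
    refine ⟨fun hu => hπu (hnotunit _ hu), ?_⟩
    intro a b hab
    have hab' : π = (a : K) * (b : K) := congrArg (fun t : V => (t : K)) hab
    have ha0 : a ≠ 0 := by
      rintro rfl
      apply hπ0
      rw [hab']
      show ((0 : V) : K) * _ = 0
      rw [ZeroMemClass.coe_zero, zero_mul]
    have hb0 : b ≠ 0 := by
      rintro rfl
      apply hπ0
      rw [hab']
      show _ * ((0 : V) : K) = 0
      rw [ZeroMemClass.coe_zero, mul_zero]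
    obtain ⟨i, w, hw, ha⟩ := hfactV a ha0
    obtain ⟨j, w', hw', hb⟩ := hfactV b hb0
    rcases Nat.eq_zero_or_pos i with hi | hi
    · left
      rw [ha, hi, pow_zero, one_mul]
      exact hw
    rcases Nat.eq_zero_or_pos j with hj | hj
    · right
      rw [hb, hj, pow_zero, one_mul]
      exact hw'
    exfalso
    apply hπu
    have haK : (a : K) = π ^ i * (w : K) := by rw [ha]; rfl
    have hbK : (b : K) = π ^ j * (w' : K) := by rw [hb]; rfl
    have hπinv : π⁻¹ = π ^ (i + j - 2) * ((w : K) * (w' : K)) := by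
      have e : π ^ i * π ^ j = π ^ (i + j - 2) * π ^ 2 := by
        rw [← pow_add, ← pow_add]
        congr 1
        omega
      have h1 : π = π ^ (i + j - 2) * π ^ 2 * ((w : K) * (w' : K)) := by
        rw [← e]
        calc π = (a : K) * (b : K) := hab'
          _ = π ^ i * π ^ j * ((w : K) * (w' : K)) := by rw [haK, hbK]; ring
      apply inv_eq_of_mul_eq_one_right
      apply mul_left_cancel₀ hπ0
      linear_combination h1.symm
    rw [hπinv]
    exact B₁.mul_mem (B₁.pow_mem hπ _) (B₁.mul_mem w.2 w'.2)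
  · intro x hx0
    obtain ⟨n, w, hw, hx⟩ := hfactV x hx0
    obtain ⟨u, hu⟩ := hw
    exact ⟨n, u, by rw [hu, hx]⟩

/-- If `P` is a height-one prime of `B` (with `KData`), then `B_P` is a discrete valuation
ring. -/
theorem KData.exists_dvr {B : Subring K} (D : KData B)
    (hfrac : ∀ y : K, ∃ b : B, b ≠ 0 ∧ (b : K) * y ∈ B)
    (P : Ideal B) [hP : P.IsPrime] (hP0 : P ≠ ⊥)
    (hP1 : ∀ Q : Ideal B, Q.IsPrime → Q ≤ P → Q ≠ ⊥ → P ≤ Q) :
    ∃ V : ValuationSubring K, IsDiscreteValuationRing V ∧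
      ∀ x : K, x ∈ V ↔ ∃ s : B, s ∉ P ∧ (s : K) * x ∈ B := by
  set B₁ := locSubring B P with hB₁
  let D₁ : KData B₁ := D.loc P
  have hBB₁ : B ≤ B₁ := le_locSubring B P
  have hfrac₁ : ∀ y : K, ∃ b : B₁, b ≠ 0 ∧ (b : K) * y ∈ B₁ := by
    intro y
    obtain ⟨b, hb0, hby⟩ := hfrac y
    exact ⟨⟨b, hBB₁ b.2⟩, fun h => hb0 (Subtype.ext (congrArg (fun t : B₁ => (t : K)) h)),
      hBB₁ hby⟩
  obtain ⟨a, haP, ha0⟩ := Submodule.exists_mem_ne_zero_of_ne_bot hP0
  have ha0' : (a : K) ≠ 0 := fun h => ha0 (Subtype.ext h)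
  have hx₀ : (a : K)⁻¹ ∉ B₁ := by
    rintro ⟨s, hs, hsa⟩
    apply hs
    have : s = ⟨(s : K) * (a : K)⁻¹, hsa⟩ * a := by
      apply Subtype.ext
      simp only [Subring.coe_mul]
      field_simp
    rw [this]
    exact P.mul_mem_left _ haP
  obtain ⟨P₁, y, π, hP₁, hP₁y, -, hy, hπP₁, ⟨u, hu, huπ⟩, -⟩ := D₁.exists_prime hfrac₁ hx₀
  have hu0 : (u : K) ≠ 0 := by
    intro h
    apply hu
    have : u = 0 := Subtype.ext h
    rw [this]; exact P₁.zero_mem
  have hπ0 : (π : K) ≠ 0 := by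
    intro h
    rw [huπ, h, zero_mul] at hu0
    exact hu0 rfl
  -- the contraction of `P₁`
  let ι : B →+* B₁ := Subring.inclusion hBB₁
  have hQ : (P₁.comap ι).IsPrime := Ideal.comap_isPrime ι P₁
  have hQP : P₁.comap ι ≤ P := by
    intro c hc
    by_contra hcP
    have hci : (c : K)⁻¹ ∈ B₁ := inv_mem_locSubring hcP
    have hc0 : (c : K) ≠ 0 := fun h => hcP (by
      have : c = 0 := Subtype.ext h
      rw [this]; exact P.zero_mem)
    apply hP₁.ne_top
    rw [Ideal.eq_top_iff_one]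
    have : (1 : B₁) = ⟨(c : K)⁻¹, hci⟩ * ι c := by
      apply Subtype.ext
      show (1 : K) = (c : K)⁻¹ * (c : K)
      rw [inv_mul_cancel₀ hc0]
    rw [this]
    exact P₁.mul_mem_left _ hc
  have hQ0 : P₁.comap ι ≠ ⊥ := by
    obtain ⟨s', hs', hs'π⟩ := π.2
    intro hbot
    have hmem : (⟨(s' : K) * π, hs'π⟩ : B) ∈ P₁.comap ι := by
      rw [Ideal.mem_comap]
      have : ι ⟨(s' : K) * π, hs'π⟩ = ι s' * π := Subtype.ext rfl
      rw [this]
      exact P₁.mul_mem_left _ hπP₁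
    rw [hbot, Ideal.mem_bot] at hmem
    have h0 : (s' : K) * π = 0 := congrArg (fun t : B => (t : K)) hmem
    rcases mul_eq_zero.mp h0 with h | h
    · apply hs'
      have : s' = 0 := Subtype.ext h
      rw [this]; exact P.zero_mem
    · exact hπ0 h
  have hPQ : P ≤ P₁.comap ι := hP1 _ hQ hQP hQ0
  -- units of `B₁`
  have hstar : ∀ z : B₁, z ∉ P₁ → (z : K)⁻¹ ∈ B₁ := by
    intro z hz
    obtain ⟨s, hs, hsz⟩ := z.2
    have hz0 : (z : K) ≠ 0 := by
      intro h
      apply hz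
      have : z = 0 := Subtype.ext h
      rw [this]; exact P₁.zero_mem
    have hbP : (⟨(s : K) * z, hsz⟩ : B) ∉ P := by
      intro hb
      have hb' := hPQ hb
      rw [Ideal.mem_comap] at hb'
      apply hz
      have : z = ⟨(s : K)⁻¹, inv_mem_locSubring hs⟩ * ι ⟨(s : K) * z, hsz⟩ := by
        apply Subtype.ext
        show (z : K) = (s : K)⁻¹ * ((s : K) * z)
        have hs0 : (s : K) ≠ 0 := fun h => hs (by
          have : s = 0 := Subtype.ext h
          rw [this]; exact P.zero_mem)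
        field_simp
      rw [this]
      exact P₁.mul_mem_left _ hb'
    refine ⟨⟨(s : K) * z, hsz⟩, hbP, ?_⟩
    show (s : K) * z * (z : K)⁻¹ ∈ B
    rw [mul_assoc, mul_inv_cancel₀ hz0, mul_one]
    exact s.2
  have hπu : (π : K)⁻¹ ∉ B₁ := by
    intro h
    apply hP₁.ne_top
    rw [Ideal.eq_top_iff_one]
    have : (1 : B₁) = ⟨(π : K)⁻¹, h⟩ * π := by
      apply Subtype.ext
      show (1 : K) = (π : K)⁻¹ * (π : K)
      rw [inv_mul_cancel₀ hπ0]
    rw [this]
    exact P₁.mul_mem_left _ hπP₁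
  have hdiv : ∀ z : K, z ∈ B₁ → z ≠ 0 → z⁻¹ ∉ B₁ → z * (π : K)⁻¹ ∈ B₁ := by
    intro z hz hz0 hzi
    have hzP₁ : (⟨z, hz⟩ : B₁) ∈ P₁ := by
      by_contra h
      exact hzi (hstar ⟨z, hz⟩ h)
    have hzy : z * y ∈ B₁ := by
      rw [hP₁y] at hzP₁
      exact hzP₁
    have hui : (u : K)⁻¹ ∈ B₁ := hstar u hu
    have : z * (π : K)⁻¹ = (z * y) * (u : K)⁻¹ := by
      rw [huπ]
      have hy0 : y ≠ 0 := by
        rintro rfl
        exact hy B₁.zero_mem
      field_simp
    rw [this]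
    exact B₁.mul_mem hzy hui
  obtain ⟨V, hV, hVmem⟩ := exists_valuationSubring_of_uniformizer B₁ hfrac₁
    (fun q y hq h => D₁.mem_of_pow hq h) (π : K) π.2 hπ0 hπu hdiv
  exact ⟨V, hV, fun x => (hVmem x).trans mem_locSubring⟩

end Groth.Agent.Lib.Krull96
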