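import Groth.Agent.Lib.Krull96C
import Groth.Agent.Lib.NagataNormFin96F
import Groth.Agent.Lib.CompleteNagata98
import Groth.Agent.Lib.AdicNoeth

/-!
# Mori–Nagata, part D: `KData` for the integral closure of a Noetherian local domain

For a Noetherian local domain `A` with fraction field `K` and completion `Â`, put
`T = Â ⊗_A K`, `L = T_red` and `N` the integral closure of `Â` in `L`: then `N` is finite over `Â`
(complete local rings are Nagata), and the integral closure of `A` in `K` is the preimage of `N`
(faithfully flat descent of finiteness).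
-/

set_option autoImplicit false
set_option linter.style.haveILetI false
universe u

open TensorProduct

namespace Groth.Agent.Lib.Krull96

open Groth.Agent.Lib.NagataNormFin96 in
/-- The integral closure of a Nagata ring in a reduced algebra essentially of finite type is
finite. -/
theorem finite_integralClosure_of_essFiniteType {R : Type u} [CommRing R] (hR : CAlg.IsNagata R)
    (S : Type u) [CommRing S] [IsReduced S] [Algebra R S] [Algebra.EssFiniteType R S] :
    Module.Finite R (integralClosure R S) := by
  haveI : IsNoetherianRing R := hR.1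
  haveI : IsNoetherianRing S := Algebra.EssFiniteType.isNoetherianRing R S
  have hfin : (minimalPrimes S).Finite := minimalPrimes.finite_of_isNoetherianRing S
  haveI : Finite (minimalPrimes S) := hfin
  haveI : ∀ q : minimalPrimes S, q.1.IsPrime := fun q => q.2.1.1
  let φ : S →ₐ[R] (∀ q : minimalPrimes S, FractionRing (S ⧸ q.1)) :=
    AlgHom.pi (fun q => (IsScalarTower.toAlgHom R (S ⧸ q.1) (FractionRing (S ⧸ q.1))).comp
      (Ideal.Quotient.mkₐ R q.1))
  have hφ : Function.Injective φ := by
    rw [injective_iff_map_eq_zero]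
    intro s hs
    have hs' : s ∈ nilradical S := by
      rw [nilradical_eq_sInf, Ideal.mem_sInf]
      intro J hJ
      haveI : J.IsPrime := hJ
      obtain ⟨q, hq, hqJ⟩ := Ideal.exists_minimalPrimes_le (bot_le : ⊥ ≤ J)
      have h1 : algebraMap (S ⧸ q) (FractionRing (S ⧸ q)) (Ideal.Quotient.mk q s) = 0 :=
        congrFun hs ⟨q, hq⟩
      haveI : q.IsPrime := hq.1.1
      have h2 : Ideal.Quotient.mk q s = 0 :=
        IsFractionRing.injective (S ⧸ q) (FractionRing (S ⧸ q)) (by rw [h1, map_zero])
      exact hqJ (Ideal.Quotient.eq_zero_iff_mem.mp h2)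
    rwa [nilradical_eq_zero, Ideal.zero_eq_bot, Ideal.mem_bot] at hs'
  refine finite_integralClosure_of_injective_pi
    (fun q : minimalPrimes S => FractionRing (S ⧸ q.1)) φ hφ (fun q => ?_)
  haveI : Algebra.EssFiniteType (S ⧸ q.1) (FractionRing (S ⧸ q.1)) :=
    Algebra.EssFiniteType.of_isLocalization _ (nonZeroDivisors (S ⧸ q.1))
  haveI : Algebra.EssFiniteType R (FractionRing (S ⧸ q.1)) :=
    Algebra.EssFiniteType.comp R (S ⧸ q.1) (FractionRing (S ⧸ q.1))
  exact finite_integralClosure_field' hR (FractionRing (S ⧸ q.1))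

section descent

variable {A : Type u} [CommRing A] {Ah : Type u} [CommRing Ah] [Algebra A Ah]
  {K : Type u} [CommRing K] [Algebra A K]

/-- Faithfully flat descent of integrality for elements: if `1 ⊗ x` is integral over `Ah` in
`Ah ⊗_A K`, `Ah` Noetherian and faithfully flat over `A`, then `x` is integral over `A`. -/
theorem isIntegral_of_isIntegral_tmul [IsNoetherianRing Ah] [Module.FaithfullyFlat A Ah]
    (x : K) (h : IsIntegral Ah ((1 : Ah) ⊗ₜ[A] x)) : IsIntegral A x := by
  let M : Subalgebra A K := Algebra.adjoin A {x}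
  let S : Subalgebra Ah (Ah ⊗[A] K) := Algebra.adjoin Ah {(1 : Ah) ⊗ₜ[A] x}
  have hSfg : (Subalgebra.toSubmodule S).FG := h.fg_adjoin_singleton
  have hmem : ∀ m ∈ M, (1 : Ah) ⊗ₜ[A] m ∈ S := by
    intro m hm
    induction hm using Algebra.adjoin_induction with
    | mem y hy =>
      rw [Set.mem_singleton_iff] at hy
      rw [hy]
      exact Algebra.subset_adjoin rfl
    | algebraMap a =>
      have : (1 : Ah) ⊗ₜ[A] (algebraMap A K a) = algebraMap Ah (Ah ⊗[A] K) (algebraMap A Ah a) := by
        rw [Algebra.TensorProduct.algebraMap_apply, Algebra.algebraMap_self_apply]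
        calc (1 : Ah) ⊗ₜ[A] (algebraMap A K a) = (1 : Ah) ⊗ₜ[A] (a • (1 : K)) := by
              rw [Algebra.algebraMap_eq_smul_one]
          _ = (a • (1 : Ah)) ⊗ₜ[A] (1 : K) := (TensorProduct.smul_tmul a 1 1).symm
          _ = (algebraMap A Ah a) ⊗ₜ[A] (1 : K) := by rw [Algebra.algebraMap_eq_smul_one]
      rw [this]
      exact S.algebraMap_mem _
    | add y z _ _ hy hz =>
      rw [TensorProduct.tmul_add]
      exact S.add_mem hy hz
    | mul y z _ _ hy hz =>
      have : (1 : Ah) ⊗ₜ[A] (y * z) = ((1 : Ah) ⊗ₜ[A] y) * ((1 : Ah) ⊗ₜ[A] z) := by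
        rw [Algebra.TensorProduct.tmul_mul_tmul, one_mul]
      rw [this]
      exact S.mul_mem hy hz
  let j : Ah ⊗[A] M →ₗ[Ah] Ah ⊗[A] K :=
    TensorProduct.AlgebraTensorModule.lTensor Ah Ah M.val.toLinearMap
  have hj : Function.Injective j := by
    have := Module.Flat.lTensor_preserves_injective_linearMap (M := Ah) M.val.toLinearMap
      Subtype.val_injective
    exact this
  have hjS : ∀ w, j w ∈ Subalgebra.toSubmodule S := by
    intro w
    induction w using TensorProduct.induction_on with
    | zero => rw [map_zero]; exact Submodule.zero_mem _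
    | tmul r m =>
      have : j (r ⊗ₜ[A] m) = r • ((1 : Ah) ⊗ₜ[A] (m : K)) := by
        show r ⊗ₜ[A] (m : K) = r • ((1 : Ah) ⊗ₜ[A] (m : K))
        rw [TensorProduct.smul_tmul', smul_eq_mul, mul_one]
      rw [this]
      exact Submodule.smul_mem _ _ (hmem m m.2)
    | add a b ha hb => rw [map_add]; exact Submodule.add_mem _ ha hb
  let j' : Ah ⊗[A] M →ₗ[Ah] Subalgebra.toSubmodule S := LinearMap.codRestrict _ j hjS
  have hj' : Function.Injective j' := by
    intro a b hab
    apply hj
    exact congrArg (fun t : Subalgebra.toSubmodule S => (t : Ah ⊗[A] K)) hab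
  haveI : Module.Finite Ah (Subalgebra.toSubmodule S) := Module.Finite.iff_fg.mpr hSfg
  haveI : IsNoetherian Ah (Subalgebra.toSubmodule S) := isNoetherian_of_isNoetherianRing_of_finite Ah _
  haveI : Module.Finite Ah (Ah ⊗[A] M) := Module.Finite.of_injective j' hj'
  haveI : Module.Finite A M := Module.Finite.of_finite_tensorProduct_of_faithfullyFlat Ah
  have hMfg : (Subalgebra.toSubmodule M).FG := Module.Finite.iff_fg.mp ‹Module.Finite A M›
  exact IsIntegral.of_mem_of_fg M hMfg x (Algebra.subset_adjoin rfl)

/-- If the image of `t` in the reduction is integral, then `t` is integral. -/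
theorem isIntegral_of_isIntegral_mk_nilradical {R T : Type*} [CommRing R] [CommRing T] [Algebra R T]
    (t : T) (h : IsIntegral R (Ideal.Quotient.mk (nilradical T) t)) : IsIntegral R t := by
  obtain ⟨P, hP, hPt⟩ := h
  have h1 : Ideal.Quotient.mk (nilradical T) (Polynomial.aeval t P) = 0 := by
    have := Polynomial.aeval_algHom_apply (Ideal.Quotient.mkₐ R (nilradical T)) t P
    rw [← Polynomial.aeval_def] at hPt
    rw [← Ideal.Quotient.mkₐ_eq_mk R, ← this]
    exact hPt
  rw [Ideal.Quotient.eq_zero_iff_mem, mem_nilradical] at h1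
  obtain ⟨m, hm⟩ := h1
  refine ⟨P ^ m, hP.pow m, ?_⟩
  rw [← Polynomial.aeval_def, map_pow, hm]

end descent

end Groth.Agent.Lib.Krull96
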