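import Groth.Agent.Lib.Krull96D

/-!
# Mori–Nagata, part E: the integral closure of a Noetherian local domain has `KData`
-/

set_option autoImplicit false
set_option linter.style.haveILetI false
universe u

open TensorProduct

namespace Groth.Agent.Lib.Krull96

section generic

variable (A Ah K : Type u) [CommRing A] [CommRing Ah] [Algebra A Ah] [Field K] [Algebra A K]

/-- `Ah ⊗_A K`. -/
abbrev TT : Type u := Ah ⊗[A] K

/-- `(Ah ⊗_A K)_red`. -/
abbrev LL : Type u := TT A Ah K ⧸ nilradical (TT A Ah K)

/-- Generic form: `Ah` a Noetherian, Nagata, faithfully flat `A`-algebra and `K` a field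
essentially of finite type over `A`; then the integral closure of `A` in `K` has `KData`. -/
theorem nonempty_kdata_of_nagata [Algebra.EssFiniteType A K]
    [IsNoetherianRing Ah] [Module.FaithfullyFlat A Ah] (hNag : CAlg.IsNagata Ah) :
    Nonempty (KData (integralClosure A K).toSubring) := by
  haveI : Algebra.EssFiniteType Ah (TT A Ah K) := inferInstance
  haveI : Algebra.EssFiniteType Ah (LL A Ah K) := inferInstance
  haveI : IsReduced (LL A Ah K) := (Ideal.isRadical_iff_quotient_reduced _).mp
    (show (Ideal.radical (0 : Ideal (TT A Ah K))).IsRadical from Ideal.radical_isRadical _)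
  have hfin : Module.Finite Ah (integralClosure Ah (LL A Ah K)) :=
    finite_integralClosure_of_essFiniteType hNag (LL A Ah K)
  have hNnoeth : IsNoetherianRing (integralClosure Ah (LL A Ah K)) := by
    haveI := hfin
    exact IsNoetherianRing.of_finite Ah _
  let ι : K →ₐ[A] TT A Ah K := Algebra.TensorProduct.includeRight
  let q : TT A Ah K →ₐ[A] LL A Ah K := Ideal.Quotient.mkₐ A (nilradical (TT A Ah K))
  refine ⟨{ L := LL A Ah K, φ := (q.comp ι).toRingHom,
            N := (integralClosure Ah (LL A Ah K)).toSubring,
            noeth := hNnoeth, closed := ?_, mem_iff := ?_ }⟩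
  · intro z hz
    have hz' : IsIntegral (integralClosure Ah (LL A Ah K)) z := hz
    exact isIntegral_trans (A := integralClosure Ah (LL A Ah K)) z hz'
  · intro x
    show IsIntegral A x ↔ IsIntegral Ah (q (ι x))
    constructor
    · intro hx
      have : IsIntegral A (q (ι x)) := hx.map (q.comp ι)
      exact this.tower_top
    · intro hx
      have h1 : IsIntegral Ah ((1 : Ah) ⊗ₜ[A] x) :=
        isIntegral_of_isIntegral_mk_nilradical ((1 : Ah) ⊗ₜ[A] x) hx
      exact isIntegral_of_isIntegral_tmul x h1

end generic

variable (A : Type u) [CommRing A] [IsDomain A] [IsNoetherianRing A] [IsLocalRing A]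

theorem nonempty_kdata_integralClosure :
    Nonempty (KData (integralClosure A (FractionRing A)).toSubring) := by
  haveI hnoeth : IsNoetherianRing (AdicCompletion (IsLocalRing.maximalIdeal A) A) :=
    Groth.Agent.Lib.AdicNoeth.isNoetherianRing_adicCompletion _
  haveI hflat : Module.Flat A (AdicCompletion (IsLocalRing.maximalIdeal A) A) :=
    AdicCompletion.flat_of_isNoetherian _
  haveI hff : Module.FaithfullyFlat A (AdicCompletion (IsLocalRing.maximalIdeal A) A) :=
    Module.FaithfullyFlat.of_flat_of_isLocalHom
  have hNag := Groth.Agent.Lib.CompleteNagata98.isNagata_of_complete_local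
    (AdicCompletion (IsLocalRing.maximalIdeal A) A)
  haveI : Algebra.EssFiniteType A (FractionRing A) :=
    Algebra.EssFiniteType.of_isLocalization _ (nonZeroDivisors A)
  exact nonempty_kdata_of_nagata A (AdicCompletion (IsLocalRing.maximalIdeal A) A)
    (FractionRing A) hNag

end Groth.Agent.Lib.Krull96
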