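import Groth.Agent.Lib.Krull96A

/-!
# Mori–Nagata, part F: height-one primes along an integral extension which is injective on spectra

`R → S` an injective integral extension of domains such that `Spec S → Spec R` is injective.
* `exists_over_height_one`: over a height-one prime of `R` lies a height-one prime of `S`.
* `height_comap_eq_one`: the contraction of a height-one prime of `S` has height one.
* `exists_mul_eq_algebraMap`: if `P` lies over the height-one prime `p` and `s ∉ P`, then some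
  multiple of `s` comes from `R ∖ p`.
-/

set_option autoImplicit false
universe u

namespace Groth.Agent.Lib.Krull96

variable {R S : Type*} [CommRing R] [IsDomain R] [CommRing S] [IsDomain S] [Algebra R S]
  [Algebra.IsIntegral R S]

theorem exists_over_height_one (hinj : Function.Injective (algebraMap R S))
    (hspec : ∀ P Q : Ideal S, P.IsPrime → Q.IsPrime →
      P.comap (algebraMap R S) = Q.comap (algebraMap R S) → P = Q)
    (p : Ideal R) [p.IsPrime] (hp : p.height = 1) :
    ∃ P : Ideal S, P.IsPrime ∧ P.comap (algebraMap R S) = p ∧ P.height = 1 := by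
  obtain ⟨hp0, hp1⟩ := (height_eq_one_iff p).mp hp
  have hbot : (⊥ : Ideal S).comap (algebraMap R S) ≤ p := by
    intro x hx
    rw [Ideal.mem_comap, Ideal.mem_bot] at hx
    have : x = 0 := hinj (by rw [hx, map_zero])
    rw [this]; exact p.zero_mem
  obtain ⟨P, -, hP, hPp⟩ := Ideal.exists_ideal_over_prime_of_isIntegral p (⊥ : Ideal S) hbot
  refine ⟨P, hP, hPp, ?_⟩
  rw [height_eq_one_iff]
  refine ⟨?_, ?_⟩
  · rintro rfl
    apply hp0
    rw [← hPp]
    ext x
    rw [Ideal.mem_comap, Ideal.mem_bot, Ideal.mem_bot]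
    exact ⟨fun h => hinj (by rw [h, map_zero]), fun h => by rw [h, map_zero]⟩
  · intro Q hQ hQP hQ0
    have hq0 : Q.comap (algebraMap R S) ≠ ⊥ := fun h => hQ0 (Ideal.eq_bot_of_comap_eq_bot h)
    have hqp : Q.comap (algebraMap R S) ≤ p := hPp ▸ Ideal.comap_mono hQP
    have hpq : p ≤ Q.comap (algebraMap R S) := hp1 _ (Ideal.comap_isPrime _ Q) hqp hq0
    have : Q = P := hspec Q P hQ hP ((le_antisymm hqp hpq).trans hPp.symm)
    rw [this]

theorem height_comap_eq_one (hinj : Function.Injective (algebraMap R S))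
    (hspec : ∀ P Q : Ideal S, P.IsPrime → Q.IsPrime →
      P.comap (algebraMap R S) = Q.comap (algebraMap R S) → P = Q)
    (P : Ideal S) [hP : P.IsPrime] (hP1 : P.height = 1) :
    haveI := Ideal.comap_isPrime (algebraMap R S) P
    (P.comap (algebraMap R S)).height = 1 := by
  haveI := Ideal.comap_isPrime (algebraMap R S) P
  obtain ⟨hP0, hP1'⟩ := (height_eq_one_iff P).mp hP1
  rw [height_eq_one_iff]
  refine ⟨fun h => hP0 (Ideal.eq_bot_of_comap_eq_bot h), ?_⟩
  intro q hq hqp hq0
  have hbot : (⊥ : Ideal S).comap (algebraMap R S) ≤ q := by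
    intro x hx
    rw [Ideal.mem_comap, Ideal.mem_bot] at hx
    have : x = 0 := hinj (by rw [hx, map_zero])
    rw [this]; exact q.zero_mem
  obtain ⟨Q, -, hQ, hQq⟩ := Ideal.exists_ideal_over_prime_of_isIntegral q (⊥ : Ideal S) hbot
  obtain ⟨Q', hQQ', hQ', hQ'p⟩ := Ideal.exists_ideal_over_prime_of_isIntegral
    (P.comap (algebraMap R S)) Q (hQq.le.trans hqp)
  have hQ'P : Q' = P := hspec Q' P hQ' hP hQ'p
  have hQ0 : Q ≠ ⊥ := by
    rintro rfl
    apply hq0
    rw [← hQq]
    ext x
    rw [Ideal.mem_comap, Ideal.mem_bot, Ideal.mem_bot]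
    exact ⟨fun h => hinj (by rw [h, map_zero]), fun h => by rw [h, map_zero]⟩
  have hPQ : P ≤ Q := hP1' Q hQ (hQ'P ▸ hQQ') hQ0
  rw [← hQq]
  exact Ideal.comap_mono hPQ

theorem exists_mul_eq_algebraMap
    (hspec : ∀ P Q : Ideal S, P.IsPrime → Q.IsPrime →
      P.comap (algebraMap R S) = Q.comap (algebraMap R S) → P = Q)
    (p : Ideal R) [p.IsPrime] (hp : p.height = 1)
    (P : Ideal S) [hP : P.IsPrime] (hPp : P.comap (algebraMap R S) = p)
    (s : S) (hs : s ∉ P) :
    ∃ c : R, c ∉ p ∧ ∃ t : S, algebraMap R S c = s * t := by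
  obtain ⟨hp0, hp1⟩ := (height_eq_one_iff p).mp hp
  by_contra hcon
  push_neg at hcon
  have hdisj : Disjoint ((Ideal.span {s} : Ideal S) : Set S)
      ((p.primeCompl.map (algebraMap R S) : Submonoid S) : Set S) := by
    rw [Set.disjoint_left]
    rintro x hx ⟨c, hc, rfl⟩
    obtain ⟨t, ht⟩ := Ideal.mem_span_singleton'.mp hx
    exact hcon c hc t (by rw [← ht, mul_comm])
  obtain ⟨Q, hQ, hsQ, hQdisj⟩ := Ideal.exists_le_prime_disjoint _ _ hdisj
  have hsQ' : s ∈ Q := hsQ (Ideal.subset_span rfl)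
  have hs0 : s ≠ 0 := by
    rintro rfl
    exact hs P.zero_mem
  have hQ0 : Q ≠ ⊥ := by
    rintro rfl
    exact hs0 ((Ideal.mem_bot).mp hsQ')
  have hq0 : Q.comap (algebraMap R S) ≠ ⊥ := fun h => hQ0 (Ideal.eq_bot_of_comap_eq_bot h)
  have hqp : Q.comap (algebraMap R S) ≤ p := by
    intro c hc
    by_contra hcp
    exact Set.disjoint_left.mp hQdisj hc ⟨c, hcp, rfl⟩
  have hpq : p ≤ Q.comap (algebraMap R S) := hp1 _ (Ideal.comap_isPrime _ Q) hqp hq0
  have : Q = P := hspec Q P hQ hP ((le_antisymm hqp hpq).trans hPp.symm)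
  exact hs (this ▸ hsQ')

end Groth.Agent.Lib.Krull96
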