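import Groth.Agent.Lib.KrullAkizuki
import Mathlib.RingTheory.Artinian.Module
import Mathlib.RingTheory.FiniteLength
import Mathlib.RingTheory.Ideal.Quotient.Operations

/-!
# Consequences of Krull–Akizuki (helper19)

For `R` a Noetherian domain of dimension `≤ 1` with fraction field `K`, `L/K` finite and a ring `A`
with `R → A → L`, `A → L` injective, and `x ≠ 0` in `R`: `A/xA` has finite length over `R`, is an
Artinian ring; primes of `A` containing `x` are maximal, finite in number, with `A/n` finite over
`R`.
-/

set_option autoImplicit false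

namespace Groth.Agent.Lib.KrullAkizuki

open Module

section KA2

variable {R : Type*} [CommRing R] [IsDomain R] [IsNoetherianRing R] [Ring.KrullDimLE 1 R]
  (K L : Type*) [Field K] [Field L] [Algebra R K] [IsFractionRing R K] [Algebra K L]
  [FiniteDimensional K L] [Algebra R L] [IsScalarTower R K L]
  {A : Type*} [CommRing A] [Algebra R A] [Algebra A L] [IsScalarTower R A L]

include K L in
theorem length_quotient_span_ne_top (hA : Function.Injective (algebraMap A L)) (x : R)
    (hx : x ≠ 0) : Module.length R (A ⧸ Ideal.span {algebraMap R A x}) ≠ ⊤ := by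
  have h1 := length_xq_between_ne_top (K := K) (L := L) (A := A) hA x hx
  have heq : xsub x A = (Ideal.span {algebraMap R A x}).restrictScalars R := by
    ext s
    rw [mem_xsub, Submodule.restrictScalars_mem, Ideal.mem_span_singleton']
    constructor
    · rintro ⟨m, rfl⟩
      exact ⟨m, by rw [Algebra.smul_def, mul_comm]⟩
    · rintro ⟨a, rfl⟩
      exact ⟨a, by rw [Algebra.smul_def, mul_comm]⟩
  have e : (A ⧸ xsub x A) ≃ₗ[R] (A ⧸ Ideal.span {algebraMap R A x}) :=
    (Submodule.quotEquivOfEq _ _ heq).trans
      (Submodule.Quotient.restrictScalarsEquiv R (Ideal.span {algebraMap R A x}))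
  rwa [e.length_eq] at h1

include K L in
theorem finite_quotient_span (hA : Function.Injective (algebraMap A L)) (x : R) (hx : x ≠ 0) :
    Module.Finite R (A ⧸ Ideal.span {algebraMap R A x}) := by
  have h := length_quotient_span_ne_top K L hA x hx
  rw [Module.length_ne_top_iff, isFiniteLength_iff_isNoetherian_isArtinian] at h
  have := h.1
  infer_instance

include K L in
theorem isArtinianRing_quotient_span (hA : Function.Injective (algebraMap A L)) (x : R)
    (hx : x ≠ 0) : IsArtinianRing (A ⧸ Ideal.span {algebraMap R A x}) := by
  have h := length_quotient_span_ne_top K L hA x hx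
  rw [Module.length_ne_top_iff, isFiniteLength_iff_isNoetherian_isArtinian] at h
  exact isArtinian_of_tower R h.2

include K L in
theorem finite_quotient_of_mem (hA : Function.Injective (algebraMap A L)) (x : R) (hx : x ≠ 0)
    (n : Ideal A) (hn : algebraMap R A x ∈ n) : Module.Finite R (A ⧸ n) := by
  have := finite_quotient_span K L hA x hx
  have hle : Ideal.span {algebraMap R A x} ≤ n := (Ideal.span_singleton_le_iff_mem n).mpr hn
  exact Module.Finite.of_surjective (Ideal.Quotient.factorₐ R hle).toLinearMap
    (Ideal.Quotient.factor_surjective hle)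

include K L in
theorem isMaximal_of_mem (hA : Function.Injective (algebraMap A L)) (x : R) (hx : x ≠ 0)
    (n : Ideal A) [hp : n.IsPrime] (hn : algebraMap R A x ∈ n) : n.IsMaximal := by
  have := isArtinianRing_quotient_span K L hA x hx
  have hle : Ideal.span {algebraMap R A x} ≤ n := (Ideal.span_singleton_le_iff_mem n).mpr hn
  have : IsArtinianRing (A ⧸ n) :=
    (Ideal.Quotient.factor_surjective hle).isArtinianRing
  exact Ideal.Quotient.maximal_of_isField _ (IsArtinianRing.isField_of_isDomain _)

include K L in
theorem finite_primes_of_mem (hA : Function.Injective (algebraMap A L)) (x : R) (hx : x ≠ 0) :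
    {n : Ideal A | n.IsPrime ∧ algebraMap R A x ∈ n}.Finite := by
  have := isArtinianRing_quotient_span K L hA x hx
  have hfin : (Set.univ : Set (PrimeSpectrum (A ⧸ Ideal.span {algebraMap R A x}))).Finite :=
    Set.finite_univ
  refine (hfin.image (fun P => P.asIdeal.comap
    (Ideal.Quotient.mk (Ideal.span {algebraMap R A x})))).subset ?_
  rintro n ⟨hp, hn⟩
  have hle : Ideal.span {algebraMap R A x} ≤ n := (Ideal.span_singleton_le_iff_mem n).mpr hn
  have hker : RingHom.ker (Ideal.Quotient.mk (Ideal.span {algebraMap R A x})) ≤ n := by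
    rw [Ideal.mk_ker]; exact hle
  have hprime : (n.map (Ideal.Quotient.mk (Ideal.span {algebraMap R A x}))).IsPrime :=
    Ideal.map_isPrime_of_surjective Ideal.Quotient.mk_surjective hker
  refine ⟨⟨_, hprime⟩, Set.mem_univ _, ?_⟩
  show (n.map _).comap _ = n
  rw [Ideal.comap_map_of_surjective _ Ideal.Quotient.mk_surjective, ← RingHom.ker_eq_comap_bot,
    sup_eq_left.mpr hker]

end KA2

end Groth.Agent.Lib.KrullAkizuki
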