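import Groth.Agent.Lib.KummerDiv
import Groth.Agent.Lib.AzumayaCharpoly16
import Groth.Agent.Lib.CSARegular16c

/-!
# Minimal polynomials of elements of central simple algebras with a power in the centre

`K` a field containing all roots of unity.
* irreducible monic factors of `X ^ m - a` are of the form `X ^ d - b`, all of the same degree;
* for `x` in a central simple algebra of degree `n`, every irreducible factor of the reduced
  characteristic polynomial divides the minimal polynomial.
-/

set_option autoImplicit false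
universe u v

namespace Groth.Agent.Lib.KummerMinpoly16

open Polynomial

section Field

variable {K : Type u} [Field K]

theorem mem_range_of_pow_eq_one (hK : ∀ n : ℕ, 0 < n → (X ^ n - 1 : K[X]).Splits)
    {E : Type v} [Field E] [Algebra K E] {m : ℕ} (hm : 0 < m) (ζ : E) (hζ : ζ ^ m = 1) :
    ∃ z : K, algebraMap K E z = ζ := by
  have hsplit := hK m hm
  have hmonic : (X ^ m - 1 : K[X]).Monic := by
    have : (X ^ m - 1 : K[X]) = X ^ m - C 1 := by rw [map_one]
    rw [this]; exact monic_X_pow_sub_C 1 hm.ne'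
  have hprod := hsplit.eq_prod_roots_of_monic hmonic
  have heval : aeval ζ (X ^ m - 1 : K[X]) = 0 := by
    simp [hζ]
  rw [hprod, aeval_def, eval₂_multiset_prod, Multiset.prod_eq_zero_iff] at heval
  simp only [Multiset.map_map, Multiset.mem_map, Function.comp_apply, eval₂_sub, eval₂_X,
    eval₂_C] at heval
  obtain ⟨z, -, hz⟩ := heval
  rw [sub_eq_zero] at hz
  exact ⟨z, hz.symm⟩

theorem eq_X_pow_sub_C_of_irreducible_dvd (hK : ∀ n : ℕ, 0 < n → (X ^ n - 1 : K[X]).Splits)
    {g : K[X]} (hg : Irreducible g) (hgm : g.Monic) {m : ℕ} (hm : 0 < m) {a : K}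
    (hdvd : g ∣ X ^ m - C a) : ∃ b : K, g = X ^ g.natDegree - C b := by
  have : Fact (Irreducible g) := ⟨hg⟩
  have hfd : FiniteDimensional K (AdjoinRoot g) := (AdjoinRoot.powerBasis hg.ne_zero).finite
  have hfr : Module.finrank K (AdjoinRoot g) = g.natDegree := by
    rw [(AdjoinRoot.powerBasis hg.ne_zero).finrank, AdjoinRoot.powerBasis_dim]
  have hα : (AdjoinRoot.root g) ^ m = algebraMap K (AdjoinRoot g) a := by
    have h0 : AdjoinRoot.mk g (X ^ m - C a) = 0 := AdjoinRoot.mk_eq_zero.mpr hdvd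
    rw [map_sub, map_pow, AdjoinRoot.mk_X, AdjoinRoot.mk_C, sub_eq_zero] at h0
    rw [h0]
    rfl
  obtain ⟨b, hb⟩ := Groth.Agent.Lib.KummerDiv.pow_finrank_mem_range hK (AdjoinRoot.root g) m hm a hα
  rw [hfr] at hb
  refine ⟨b, ?_⟩
  have hd : 0 < g.natDegree := hg.natDegree_pos
  have hdvd' : g ∣ X ^ g.natDegree - C b := by
    rw [← AdjoinRoot.mk_eq_zero, map_sub, map_pow, AdjoinRoot.mk_X, AdjoinRoot.mk_C, hb, sub_eq_zero]
    rfl
  have hmon : (X ^ g.natDegree - C b : K[X]).Monic := monic_X_pow_sub_C b hd.ne'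
  have hdeg : (X ^ g.natDegree - C b : K[X]).natDegree ≤ g.natDegree := by
    rw [natDegree_X_pow_sub_C]
  exact (eq_of_monic_of_dvd_of_natDegree_le hgm hmon hdvd' hdeg).symm

theorem natDegree_le_of_irreducible_dvd (hK : ∀ n : ℕ, 0 < n → (X ^ n - 1 : K[X]).Splits)
    {g₁ g₂ : K[X]} (h₁ : Irreducible g₁) (hm₁ : g₁.Monic) (h₂ : Irreducible g₂) (hm₂ : g₂.Monic)
    {m : ℕ} (hm : 0 < m) {a : K} (ha : a ≠ 0) (hd₁ : g₁ ∣ X ^ m - C a) (hd₂ : g₂ ∣ X ^ m - C a) :
    g₂.natDegree ≤ g₁.natDegree := by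
  let E := AlgebraicClosure K
  obtain ⟨β₁, hβ₁⟩ := IsAlgClosed.exists_aeval_eq_zero E g₁ (degree_pos_of_irreducible h₁).ne'
  obtain ⟨β₂, hβ₂⟩ := IsAlgClosed.exists_aeval_eq_zero E g₂ (degree_pos_of_irreducible h₂).ne'
  have hpow : ∀ (g : K[X]) (β : E), g ∣ X ^ m - C a → aeval β g = 0 →
      β ^ m = algebraMap K E a := by
    intro g β hd hβ
    obtain ⟨c, hc⟩ := hd
    have := congrArg (aeval β) hc
    rw [map_mul, hβ, zero_mul, map_sub, map_pow, aeval_X, aeval_C, sub_eq_zero] at this
    exact this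
  have hβ₁m := hpow g₁ β₁ hd₁ hβ₁
  have hβ₂m := hpow g₂ β₂ hd₂ hβ₂
  have ha' : algebraMap K E a ≠ 0 := by
    rw [Ne, map_eq_zero_iff _ (algebraMap K E).injective]
    exact ha
  have hβ₁0 : β₁ ≠ 0 := by
    rintro rfl
    rw [zero_pow hm.ne'] at hβ₁m
    exact ha' hβ₁m.symm
  have hζ : (β₂ / β₁) ^ m = 1 := by
    rw [div_pow, hβ₁m, hβ₂m, div_self ha']
  obtain ⟨z, hz⟩ := mem_range_of_pow_eq_one hK hm (β₂ / β₁) hζ
  obtain ⟨b₁, hb₁⟩ := eq_X_pow_sub_C_of_irreducible_dvd hK h₁ hm₁ hm hd₁
  have hβ₁d : β₁ ^ g₁.natDegree = algebraMap K E b₁ := by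
    have := hβ₁
    rw [hb₁, map_sub, map_pow, aeval_X, aeval_C, sub_eq_zero] at this
    convert this using 2
  have hβ₂eq : β₂ = algebraMap K E z * β₁ := by
    rw [hz, div_mul_cancel₀ _ hβ₁0]
  have hd₁pos : 0 < g₁.natDegree := h₁.natDegree_pos
  have hroot : aeval β₂ (X ^ g₁.natDegree - C (z ^ g₁.natDegree * b₁) : K[X]) = 0 := by
    rw [map_sub, map_pow, aeval_X, aeval_C, hβ₂eq, mul_pow, hβ₁d, map_mul, map_pow, sub_self]
  have hmin : g₂ = minpoly K β₂ := minpoly.eq_of_irreducible_of_monic h₂ hβ₂ hm₂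
  have hdvd := minpoly.dvd K β₂ hroot
  rw [← hmin] at hdvd
  have hne : (X ^ g₁.natDegree - C (z ^ g₁.natDegree * b₁) : K[X]) ≠ 0 :=
    (monic_X_pow_sub_C _ hd₁pos.ne').ne_zero
  have := natDegree_le_of_dvd hdvd hne
  rwa [natDegree_X_pow_sub_C] at this

end Field

section CSA

open scoped TensorProduct

variable {K : Type u} [Field K] {A : Type v} [Ring A] [Algebra K A] [Algebra.IsCentral K A]
  [IsSimpleRing A] [FiniteDimensional K A]

/-- The reduced characteristic polynomial: monic of degree `n`, and each of its monic irreducible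
factors divides the minimal polynomial. -/
theorem exists_redCharpoly_factors (n : ℕ) (hn : Module.finrank K A = n ^ 2) (x : A) :
    ∃ P : K[X], P.Monic ∧ P.natDegree = n ∧
      ∀ q : K[X], Irreducible q → q.Monic → q ∣ P → q ∣ minpoly K x := by
  classical
  let E := AlgebraicClosure K
  obtain ⟨φ⟩ := Groth.Agent.Lib.CSARegular16.nonempty_splitting_algebraicClosure (k := K) (A := A) hn
  obtain ⟨P, hP⟩ := Groth.Agent.Lib.AzumayaCharpoly16.exists_map_eq_charpoly φ x
  set M := φ ((1 : E) ⊗ₜ[K] x) with hM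
  have hinj : Function.Injective (algebraMap K E) := (algebraMap K E).injective
  have hmonic : P.Monic := by
    apply Polynomial.monic_of_injective hinj
    rw [hP]
    exact Matrix.charpoly_monic M
  have hdeg : P.natDegree = n := by
    rw [← Polynomial.natDegree_map_eq_of_injective hinj, hP, Matrix.charpoly_natDegree_eq_dim,
      Fintype.card_fin]
  refine ⟨P, hmonic, hdeg, ?_⟩
  intro q hq hqm hqP
  obtain ⟨μ, hμ⟩ := IsAlgClosed.exists_aeval_eq_zero E q (degree_pos_of_irreducible hq).ne'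
  -- μ is a root of the characteristic polynomial
  have hroot : IsRoot M.charpoly μ := by
    rw [← hP, IsRoot.def, eval_map_algebraMap]
    obtain ⟨c, hc⟩ := hqP
    rw [hc, map_mul, hμ, zero_mul]
  have hspec : μ ∈ spectrum E M := Matrix.mem_spectrum_iff_isRoot_charpoly.mpr hroot
  -- the minimal polynomial of `x` kills `M`
  let ψ : A →ₐ[K] Matrix (Fin n) (Fin n) E :=
    (φ.toAlgHom.restrictScalars K).comp Algebra.TensorProduct.includeRight
  have hψ : ψ x = M := rfl
  have hkill : aeval M ((minpoly K x).map (algebraMap K E)) = 0 := by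
    rw [aeval_map_algebraMap, ← hψ, aeval_algHom_apply, minpoly.aeval, map_zero]
  have hmem := spectrum.subset_polynomial_aeval M ((minpoly K x).map (algebraMap K E))
    ⟨μ, hspec, rfl⟩
  rw [hkill] at hmem
  have hn0 : n ≠ 0 := by
    rintro rfl
    have : 0 < Module.finrank K A := Module.finrank_pos
    rw [hn] at this
    simp at this
  have : Nonempty (Fin n) := ⟨⟨0, Nat.pos_of_ne_zero hn0⟩⟩
  rw [spectrum.zero_eq, Set.mem_singleton_iff] at hmem
  replace hmem : eval μ (map (algebraMap K E) (minpoly K x)) = 0 := hmem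
  rw [eval_map_algebraMap] at hmem
  have hmin : q = minpoly K μ := minpoly.eq_of_irreducible_of_monic hq hμ hqm
  rw [hmin]
  exact minpoly.dvd K μ hmem

open scoped Classical in
theorem monic_of_mem_normalizedFactors {P g : K[X]}
    (hg : g ∈ UniqueFactorizationMonoid.normalizedFactors P) : g.Monic := by
  have h1 := UniqueFactorizationMonoid.normalize_normalized_factor g hg
  have h2 := UniqueFactorizationMonoid.irreducible_of_normalized_factor g hg
  rw [← h1]
  exact Polynomial.monic_normalize h2.ne_zero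

open scoped Classical in
theorem prod_normalizedFactors_eq_of_monic {P : K[X]} (hP : P.Monic) :
    (UniqueFactorizationMonoid.normalizedFactors P).prod = P := by
  have h1 := UniqueFactorizationMonoid.prod_normalizedFactors hP.ne_zero
  refine eq_of_monic_of_associated ?_ hP h1
  have : ((UniqueFactorizationMonoid.normalizedFactors P).map id).prod.Monic :=
    monic_multiset_prod_of_monic _ id (fun g hg => monic_of_mem_normalizedFactors hg)
  rwa [Multiset.map_id] at this

/-- S15167 -/
theorem minpoly_eq_prod (hK : ∀ n : ℕ, 0 < n → (X ^ n - 1 : K[X]).Splits)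
    (n : ℕ) (hn : Module.finrank K A = n ^ 2)
    (x : A) (hx : IsUnit x) (hxm : ∃ m : ℕ, 0 < m ∧ x ^ m ∈ (algebraMap K A).range) :
    ∃ r : ℕ, 0 < r ∧ r ∣ n ∧ ∃ s : Multiset K,
      minpoly K x = (s.map fun a : K => X ^ r - C a).prod := by
  classical
  obtain ⟨m, hm, a, ha⟩ := hxm
  have ha0 : a ≠ 0 := by
    rintro rfl
    rw [map_zero] at ha
    have hu : IsUnit (x ^ m) := hx.pow m
    rw [← ha] at hu
    exact not_isUnit_zero hu
  have hint : IsIntegral K x := Algebra.IsIntegral.isIntegral x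
  have hPm : (minpoly K x).Monic := minpoly.monic hint
  have hP0 : minpoly K x ≠ 0 := hPm.ne_zero
  have hPdvd : minpoly K x ∣ X ^ m - C a := by
    apply minpoly.dvd
    rw [map_sub, map_pow, aeval_X, aeval_C, ha, sub_self]
  set F := UniqueFactorizationMonoid.normalizedFactors (minpoly K x) with hF
  have hFirr : ∀ g ∈ F, Irreducible g := fun g hg =>
    UniqueFactorizationMonoid.irreducible_of_normalized_factor g hg
  have hFmon : ∀ g ∈ F, g.Monic := fun g hg => monic_of_mem_normalizedFactors hg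
  have hFdvd : ∀ g ∈ F, g ∣ X ^ m - C a := fun g hg =>
    (UniqueFactorizationMonoid.dvd_of_mem_normalizedFactors hg).trans hPdvd
  have hFprod : F.prod = minpoly K x := prod_normalizedFactors_eq_of_monic hPm
  have hFne : F ≠ 0 := by
    intro h
    rw [h, Multiset.prod_zero] at hFprod
    exact minpoly.ne_one K x hFprod.symm
  obtain ⟨g₀, hg₀⟩ := Multiset.exists_mem_of_ne_zero hFne
  set r := g₀.natDegree with hr_def
  have hr : 0 < r := (hFirr g₀ hg₀).natDegree_pos
  have hdeg : ∀ g ∈ F, g.natDegree = r := fun g hg =>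
    le_antisymm
      (natDegree_le_of_irreducible_dvd hK (hFirr g₀ hg₀) (hFmon g₀ hg₀) (hFirr g hg) (hFmon g hg)
        hm ha0 (hFdvd _ hg₀) (hFdvd _ hg))
      (natDegree_le_of_irreducible_dvd hK (hFirr g hg) (hFmon g hg) (hFirr g₀ hg₀) (hFmon g₀ hg₀)
        hm ha0 (hFdvd _ hg) (hFdvd _ hg₀))
  have hform : ∀ g ∈ F, g = X ^ r - C (-(g.coeff 0)) := by
    intro g hg
    obtain ⟨b, hb⟩ := eq_X_pow_sub_C_of_irreducible_dvd hK (hFirr g hg) (hFmon g hg) hm (hFdvd g hg)
    rw [hdeg g hg] at hb
    have hc : g.coeff 0 = -b := by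
      rw [hb, coeff_sub, coeff_X_pow, coeff_C_zero, if_neg hr.ne, zero_sub]
    rw [hc, neg_neg]
    exact hb
  obtain ⟨Q, hQm, hQd, hQ⟩ := exists_redCharpoly_factors n hn x
  have hrn : r ∣ n := by
    set G := UniqueFactorizationMonoid.normalizedFactors Q with hG_def
    have hG : ∀ q ∈ G, q.natDegree = r := by
      intro q hq
      have hqi := UniqueFactorizationMonoid.irreducible_of_normalized_factor q hq
      have hqm : q.Monic := monic_of_mem_normalizedFactors hq
      have hqP : q ∣ minpoly K x :=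
        hQ q hqi hqm (UniqueFactorizationMonoid.dvd_of_mem_normalizedFactors hq)
      obtain ⟨g, hgF, hassoc⟩ :=
        UniqueFactorizationMonoid.exists_mem_normalizedFactors_of_dvd hP0 hqi hqP
      have : q = g := eq_of_monic_of_associated hqm (hFmon g hgF) hassoc
      rw [this]
      exact hdeg g hgF
    have hGprod : G.prod = Q := prod_normalizedFactors_eq_of_monic hQm
    have hsum : n = (G.map natDegree).sum := by
      rw [← hQd, ← hGprod, natDegree_multiset_prod_of_monic _
        (fun q hq => monic_of_mem_normalizedFactors hq)]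
    have hconst : G.map natDegree = G.map (fun _ => r) := Multiset.map_congr rfl hG
    rw [hsum, hconst, Multiset.map_const', Multiset.sum_replicate, smul_eq_mul]
    exact dvd_mul_left r _
  refine ⟨r, hr, hrn, F.map (fun g => -(g.coeff 0)), ?_⟩
  rw [Multiset.map_map, ← hFprod]
  congr 1
  conv_lhs => rw [← Multiset.map_id F]
  exact Multiset.map_congr rfl (fun g hg => hform g hg)

end CSA

end Groth.Agent.Lib.KummerMinpoly16
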