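import Mathlib

/-!
# Ring-level input for the Kummer sequence (helper18)

`R` a commutative ring, `A = R[ℤ]` (as `MonoidAlgebra R (Multiplicative ℤ)`).

* `isPushout_kummer` : `R[ℤ/n] = R[ℤ] ⊗_{R[ℤ], t ↦ tⁿ} R` (counit on the right), as a pushout square of
  commutative rings, for every additive map `ℤ → ℤ` of the form `zmultiplesHom ℤ n`.
* `Root n` : the `R[ℤ]`-algebra `R[ℤ][Y]/(Yⁿ - t)`; it is free of positive rank (`n ≥ 1`), finitely
  presented, and `t ↦ Y` is an `R`-algebra map `rootHom : R[ℤ] → Root n` whose composite with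
  `t ↦ tⁿ` is the structure map (`rootHom_comp`).
-/

set_option autoImplicit false
set_option maxHeartbeats 400000
universe u
open CategoryTheory CategoryTheory.Limits

namespace Groth.Agent.Lib.KummerRing18

variable (R : Type u) [CommRing R]

/-- the coordinate ring of `𝔾_m` -/
abbrev A : Type u := MonoidAlgebra R (Multiplicative ℤ)

/-- `t ↦ tⁿ` -/
noncomputable abbrev powHom (n : ℕ) : A R →ₐ[R] A R :=
  MonoidAlgebra.mapDomainAlgHom R R (AddMonoidHom.toMultiplicative (zmultiplesHom ℤ (n : ℤ)))

/-- `R[ℤ] → R[ℤ/n]` -/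
noncomputable abbrev redHom (n : ℕ) : A R →ₐ[R] MonoidAlgebra R (Multiplicative (ZMod n)) :=
  MonoidAlgebra.mapDomainAlgHom R R (AddMonoidHom.toMultiplicative (Int.castAddHom (ZMod n)))

variable {R}

lemma powHom_single (n : ℕ) (k : Multiplicative ℤ) (r : R) :
    powHom R n (MonoidAlgebra.single k r) = MonoidAlgebra.single (k ^ n) r := by
  simp [powHom, MonoidAlgebra.mapDomainAlgHom_apply, MonoidAlgebra.mapDomain_single]

lemma redHom_single (n : ℕ) (k : Multiplicative ℤ) (r : R) :
    redHom R n (MonoidAlgebra.single k r) =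
      MonoidAlgebra.single (Multiplicative.ofAdd ((k.toAdd : ℤ) : ZMod n)) r := by
  simp [redHom, MonoidAlgebra.mapDomainAlgHom_apply, MonoidAlgebra.mapDomain_single]

section Pushout

variable {T : Type u} [CommRing T] (n : ℕ) (a : A R →+* T) (b : R →+* T)
  (hab : a.comp (powHom R n : A R →+* A R) =
    b.comp (Bialgebra.counitAlgHom R (A R) : A R →+* R))

include hab in
lemma a_single_one (r : R) : a (MonoidAlgebra.single 1 r) = b r := by
  have h := congrArg (fun f => f (MonoidAlgebra.single 1 r)) hab
  simpa [powHom_single] using h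

include hab in
lemma a_single_pow (k : Multiplicative ℤ) : a (MonoidAlgebra.single (k ^ n) 1) = 1 := by
  have h := congrArg (fun f => f (MonoidAlgebra.single k 1)) hab
  simpa [powHom_single] using h

/-- the unit-valued character `k ↦ a(t^k)` -/
noncomputable def unitChar : Multiplicative ℤ →* Tˣ :=
  (a.toMonoidHom.comp (MonoidAlgebra.of R (Multiplicative ℤ))).toHomUnits

lemma unitChar_apply (k : Multiplicative ℤ) :
    ((unitChar a k : Tˣ) : T) = a (MonoidAlgebra.single k 1) := rfl

include hab in
lemma unitChar_n : MonoidHom.toAdditiveRight (unitChar a) (n : ℤ) = 0 := by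
  change Additive.ofMul (unitChar a (Multiplicative.ofAdd (n : ℤ))) = 0
  rw [ofMul_eq_zero]
  apply Units.ext
  rw [unitChar_apply, Units.val_one]
  have := a_single_pow n a b hab (Multiplicative.ofAdd 1)
  simpa [← ofAdd_nsmul] using this

/-- the induced character of `ℤ/n` -/
noncomputable def zmodChar : Multiplicative (ZMod n) →* T :=
  (Units.coeHom T).comp (AddMonoidHom.toMultiplicativeLeft
    (ZMod.lift n ⟨MonoidHom.toAdditiveRight (unitChar a), unitChar_n n a b hab⟩))

lemma zmodChar_cast (k : Multiplicative ℤ) :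
    zmodChar n a b hab (Multiplicative.ofAdd ((k.toAdd : ℤ) : ZMod n)) =
      a (MonoidAlgebra.single k 1) := by
  simp [zmodChar, unitChar_apply]

/-- the map out of `R[ℤ/n]` -/
noncomputable def descHom : MonoidAlgebra R (Multiplicative (ZMod n)) →+* T :=
  MonoidAlgebra.liftNCRingHom b (zmodChar n a b hab) (fun _ _ => Commute.all _ _)

lemma descHom_single (g : Multiplicative (ZMod n)) (r : R) :
    descHom n a b hab (MonoidAlgebra.single g r) = b r * zmodChar n a b hab g := by
  simp [descHom, MonoidAlgebra.liftNCRingHom, MonoidAlgebra.liftNC_single]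

lemma descHom_comp_redHom :
    (descHom n a b hab).comp (redHom R n : A R →+* _) = a := by
  apply MonoidAlgebra.ringHom_ext
  · intro r
    have h1 := a_single_one n a b hab r
    simp only [RingHom.comp_apply, RingHom.coe_coe, redHom_single, descHom_single, h1]
    simp
  · intro k
    simp only [RingHom.comp_apply, RingHom.coe_coe, redHom_single, descHom_single, zmodChar_cast]
    simp

lemma descHom_comp_algebraMap :
    (descHom n a b hab).comp (algebraMap R (MonoidAlgebra R (Multiplicative (ZMod n)))) = b := by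
  ext r
  simp only [RingHom.comp_apply, MonoidAlgebra.coe_algebraMap, Function.comp_apply,
    Algebra.algebraMap_self, RingHom.id_apply, descHom_single]
  simp

lemma hom_ext_redHom {h₁ h₂ : MonoidAlgebra R (Multiplicative (ZMod n)) →+* T}
    (ha : h₁.comp (redHom R n : A R →+* _) = h₂.comp (redHom R n : A R →+* _))
    (hb : h₁.comp (algebraMap R _) = h₂.comp (algebraMap R _)) : h₁ = h₂ := by
  apply MonoidAlgebra.ringHom_ext
  · intro r
    have := congrArg (fun f => f r) hb
    simpa [MonoidAlgebra.coe_algebraMap] using this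
  · intro g
    obtain ⟨k, hk⟩ := ZMod.intCast_surjective g.toAdd
    have := congrArg (fun f => f (MonoidAlgebra.single (Multiplicative.ofAdd k) 1)) ha
    simp only [RingHom.comp_apply, RingHom.coe_coe, redHom_single, toAdd_ofAdd, hk,
      ofAdd_toAdd] at this
    exact this

end Pushout

theorem isPushout_kummer (R : Type u) [CommRing R] (n : ℕ) :
    IsPushout (CommRingCat.ofHom (powHom R n : A R →+* A R))
      (CommRingCat.ofHom (Bialgebra.counitAlgHom R (A R) : A R →+* R))
      (CommRingCat.ofHom (redHom R n : A R →+* _))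
      (CommRingCat.ofHom (algebraMap R (MonoidAlgebra R (Multiplicative (ZMod n))))) := by
  have hw : (CommRingCat.ofHom (powHom R n : A R →+* A R)) ≫
      (CommRingCat.ofHom (redHom R n : A R →+* _)) =
      (CommRingCat.ofHom (Bialgebra.counitAlgHom R (A R) : A R →+* R)) ≫
      (CommRingCat.ofHom (algebraMap R (MonoidAlgebra R (Multiplicative (ZMod n))))) := by
    ext1
    apply MonoidAlgebra.ringHom_ext
    · intro r
      simp [powHom_single, redHom_single, MonoidAlgebra.coe_algebraMap]
    · intro k
      simp [powHom_single, redHom_single, MonoidAlgebra.coe_algebraMap]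
  have hcond : ∀ s : PushoutCocone (CommRingCat.ofHom (powHom R n : A R →+* A R))
      (CommRingCat.ofHom (Bialgebra.counitAlgHom R (A R) : A R →+* R)),
      s.inl.hom.comp (powHom R n : A R →+* A R) =
        s.inr.hom.comp (Bialgebra.counitAlgHom R (A R) : A R →+* R) := by
    intro s
    have := congrArg (fun f => f.hom) s.condition
    simpa using this
  refine ⟨⟨hw⟩, ⟨PushoutCocone.IsColimit.mk _
    (fun s => CommRingCat.ofHom (descHom n s.inl.hom s.inr.hom (hcond s))) ?_ ?_ ?_⟩⟩
  · intro s
    ext1
    exact descHom_comp_redHom n _ _ (hcond s)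
  · intro s
    ext1
    exact descHom_comp_algebraMap n _ _ (hcond s)
  · intro s m h1 h2
    ext1
    apply hom_ext_redHom n
    · rw [show (CommRingCat.ofHom (descHom n s.inl.hom s.inr.hom (hcond s))).hom =
        descHom n s.inl.hom s.inr.hom (hcond s) from rfl, descHom_comp_redHom]
      exact congrArg (fun f => f.hom) h1
    · rw [show (CommRingCat.ofHom (descHom n s.inl.hom s.inr.hom (hcond s))).hom =
        descHom n s.inl.hom s.inr.hom (hcond s) from rfl, descHom_comp_algebraMap]
      exact congrArg (fun f => f.hom) h2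

section Root

variable (R : Type u) [CommRing R] (n : ℕ)

/-- the coordinate `t` of `R[ℤ]` -/
noncomputable abbrev tt : A R := MonoidAlgebra.single (Multiplicative.ofAdd (1 : ℤ)) 1

/-- `Yⁿ - t` -/
noncomputable abbrev rootPoly : Polynomial (A R) := Polynomial.X ^ n - Polynomial.C (tt R)

/-- `R[ℤ][Y]/(Yⁿ - t)` -/
abbrev Root : Type u := AdjoinRoot (rootPoly R n)

variable {R n}

lemma rootPoly_monic (hn : 0 < n) : (rootPoly R n).Monic :=
  Polynomial.monic_X_pow_sub_C _ hn.ne'

lemma root_pow : (AdjoinRoot.root (rootPoly R n)) ^ n = AdjoinRoot.of (rootPoly R n) (tt R) := by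
  have h := AdjoinRoot.eval₂_root (rootPoly R n)
  simp only [rootPoly, Polynomial.eval₂_sub, Polynomial.eval₂_pow, Polynomial.eval₂_X,
    Polynomial.eval₂_C] at h
  exact sub_eq_zero.mp h

lemma tt_isUnit : IsUnit (tt R) := by
  refine ⟨⟨tt R, MonoidAlgebra.single (Multiplicative.ofAdd (-1 : ℤ)) 1, ?_, ?_⟩, rfl⟩
  · simp [tt, MonoidAlgebra.single_mul_single, MonoidAlgebra.one_def, ← ofAdd_add]
  · simp [tt, MonoidAlgebra.single_mul_single, MonoidAlgebra.one_def, ← ofAdd_add]

lemma root_isUnit (hn : 0 < n) : IsUnit (AdjoinRoot.root (rootPoly R n)) := by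
  have h : IsUnit ((AdjoinRoot.root (rootPoly R n)) ^ n) := by
    rw [root_pow]
    exact (tt_isUnit (R := R)).map _
  exact (isUnit_pow_iff hn.ne').mp h

/-- `t ↦ Y` -/
noncomputable def rootHom (hn : 0 < n) : A R →ₐ[R] Root R n :=
  MonoidAlgebra.lift R (Root R n) (Multiplicative ℤ)
    ((Units.coeHom (Root R n)).comp (zpowersHom _ (root_isUnit (R := R) hn).unit))

lemma rootHom_single (hn : 0 < n) (k : Multiplicative ℤ) :
    rootHom hn (MonoidAlgebra.single k (1 : R)) =
      (((root_isUnit (R := R) hn).unit ^ (k.toAdd : ℤ) : (Root R n)ˣ) : Root R n) := by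
  simp [rootHom, MonoidAlgebra.lift_single]

lemma rootHom_comp (hn : 0 < n) :
    (rootHom hn).comp (powHom R n) = IsScalarTower.toAlgHom R (A R) (Root R n) := by
  refine MonoidAlgebra.algHom_ext ?_ (Subsingleton.elim _ _)
  intro k
  have h1 : ∀ k : Multiplicative ℤ, (IsScalarTower.toAlgHom R (A R) (Root R n))
      (MonoidAlgebra.single k 1) =
      ((IsScalarTower.toAlgHom R (A R) (Root R n)).toMonoidHom.comp
        (MonoidAlgebra.of R (Multiplicative ℤ))) k := fun _ => rfl
  have h2 : ∀ k : Multiplicative ℤ, ((rootHom hn).comp (powHom R n)) (MonoidAlgebra.single k 1) =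
      (((rootHom hn).comp (powHom R n)).toMonoidHom.comp
        (MonoidAlgebra.of R (Multiplicative ℤ))) k := fun _ => rfl
  rw [h1, h2]
  congr 1
  apply MonoidHom.ext_mint
  change ((rootHom hn).comp (powHom R n)) (MonoidAlgebra.single (Multiplicative.ofAdd 1) 1) =
    (IsScalarTower.toAlgHom R (A R) (Root R n)) (MonoidAlgebra.single (Multiplicative.ofAdd 1) 1)
  rw [AlgHom.comp_apply, powHom_single, rootHom_single]
  simp only [IsScalarTower.coe_toAlgHom']
  rw [← ofAdd_nsmul]
  simp only [nsmul_eq_mul, mul_one, toAdd_ofAdd, zpow_natCast, Units.val_pow_eq_pow_val,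
    IsUnit.unit_spec]
  exact root_pow

lemma root_free (hn : 0 < n) : Module.Free (A R) (Root R n) :=
  Module.Free.of_basis (AdjoinRoot.powerBasis' (rootPoly_monic (R := R) hn)).basis

lemma root_nontrivial [Nontrivial R] (hn : 0 < n) : Nontrivial (Root R n) := by
  have hm := rootPoly_monic (R := R) hn
  have hnu : ¬ IsUnit (rootPoly R n) := by
    rw [hm.isUnit_iff]
    intro h1
    have h2 := congrArg Polynomial.natDegree h1
    rw [rootPoly, Polynomial.natDegree_X_pow_sub_C, Polynomial.natDegree_one] at h2
    exact hn.ne' h2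
  exact Ideal.Quotient.nontrivial_iff.mpr (by simpa [Ideal.span_singleton_eq_top] using hnu)

lemma root_faithfullyFlat [Nontrivial R] (hn : 0 < n) : Module.FaithfullyFlat (A R) (Root R n) := by
  have := root_free (R := R) hn
  have := root_nontrivial (R := R) hn
  infer_instance

open AlgebraicGeometry in
lemma root_spec_fppf [Nontrivial R] (hn : 0 < n) :
    Flat (Spec.map (CommRingCat.ofHom (algebraMap (A R) (Root R n)))) ∧
    Surjective (Spec.map (CommRingCat.ofHom (algebraMap (A R) (Root R n)))) ∧
    LocallyOfFinitePresentation (Spec.map (CommRingCat.ofHom (algebraMap (A R) (Root R n)))) := by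
  have h1 := (flat_and_surjective_SpecMap_iff
    (CommRingCat.ofHom (algebraMap (A R) (Root R n)))).mpr
    ((RingHom.faithfullyFlat_algebraMap_iff).mpr (root_faithfullyFlat hn))
  refine ⟨h1.1, h1.2, ?_⟩
  rw [HasRingHomProperty.Spec_iff (P := @LocallyOfFinitePresentation)]
  exact (RingHom.finitePresentation_algebraMap).mpr inferInstance

end Root

end Groth.Agent.Lib.KummerRing18
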