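import Groth.Prelude.Def_NonAbH2
import Groth.Prelude.Def_Red2
import Mathlib.AlgebraicGeometry.Sites.Fpqc
import Mathlib.Data.ZMod.Basic
import Groth.Agent.Lib.KerSq18
import Groth.Agent.Lib.KummerRing18

/-!
# The Kummer sequence of diagonalisable groups (helper18)

* `isMonHom_diagMap`, `isMonHom_DSmap` : `Red.diagMap R φ`, `Red.DSmap S φ` are homomorphisms.
* `isPullback_diag_kummer` : over `Spec R`, `D(ℤ/n)` is the kernel of the `n`-th power map of `D(ℤ)`.
* `isExactSeq_kummer` : for a precoverage `K ≥ fppf` and `n ≥ 1`,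
  `NonAbH1.IsExactSeq K (Red.DSmap S (Int.castAddHom (ZMod n))) (Red.chi S (n : ℤ))`.
-/

set_option autoImplicit false
set_option maxHeartbeats 400000
universe u
open CategoryTheory CategoryTheory.Limits AlgebraicGeometry MonoidalCategory CartesianMonoidalCategory
  MonObj GrpObj

namespace Groth.Agent.Lib.KummerSeq18

open Groth.Agent.Lib.KummerRing18

section Diag

variable (R : Type u) [CommRing R]

instance isMonHom_diagMap {M N : Type} [AddCommGroup M] [AddCommGroup N] (φ : M →+ N) :
    IsMonHom (Red.diagMap R φ) := by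
  have := ((bialgSpec (CommRingCat.of R)).map (Quiver.Hom.op (CommBialgCat.ofHom
    (MonoidAlgebra.mapDomainBialgHom R (AddMonoidHom.toMultiplicative φ))))).isMonHom_hom
  exact this

theorem isPullback_diag_kummer (n : ℕ) :
    IsPullback (Red.diagMap R (Int.castAddHom (ZMod n))) (toUnit (Red.diag R (ZMod n)))
      (Red.diagMap R (zmultiplesHom ℤ (n : ℤ))) η[Red.diag R ℤ] := by
  have H := isPullback_SpecMap_of_isPushout _ _ _ _ (isPushout_kummer R n)
  have hw : Red.diagMap R (Int.castAddHom (ZMod n)) ≫ Red.diagMap R (zmultiplesHom ℤ (n : ℤ)) =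
      toUnit (Red.diag R (ZMod n)) ≫ η[Red.diag R ℤ] := by
    ext1
    exact H.w
  exact IsPullback.of_map (Over.forget _) hw H

end Diag

section DS

variable {S : Scheme.{u}}

instance isMonHom_DSmap {M N : Type} [AddCommGroup M] [AddCommGroup N] (φ : M →+ N) :
    IsMonHom (Red.DSmap S φ) := by
  unfold Red.DSmap
  infer_instance

instance isMonHom_chi {M : Type} [AddCommGroup M] (m : M) : IsMonHom (Red.chi S m) := by
  unfold Red.chi
  infer_instance

theorem isPullback_DS_kummer (n : ℕ) :
    IsPullback (Red.DSmap S (Int.castAddHom (ZMod n))) (toUnit (Red.DS S (ZMod n)))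
      (Red.chi S (n : ℤ)) η[Red.Gm S] := by
  have H := (isPullback_diag_kummer (ULift.{u} ℤ) n).map
    (Over.pullback (Limits.IsTerminal.from specULiftZIsTerminal S))
  refine IsPullback.of_iso H (Iso.refl _) (Iso.refl _)
    (asIso (Functor.LaxMonoidal.ε
      (Over.pullback (Limits.IsTerminal.from specULiftZIsTerminal S)))).symm (Iso.refl _)
    ?_ ?_ ?_ ?_
  · simp [Red.DSmap]
  · exact toUnit_unique _ _
  · simp [Red.chi, Red.DSmap]
  · rw [Functor.obj.η_def]
    simp

section Cover

variable (R : Type u) [CommRing R] {n : ℕ} (hn : 0 < n)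

/-- `Spec R[ℤ][Y]/(Yⁿ - t)` over `Spec R` -/
noncomputable abbrev rootSch (n : ℕ) : Over (Spec (CommRingCat.of R)) :=
  (Spec (CommRingCat.of (Root R n))).asOver (Spec (CommRingCat.of R))

/-- the structure map to `D(ℤ)` -/
noncomputable def rootCov (n : ℕ) : rootSch R n ⟶ Red.diag R ℤ :=
  (Spec.map (CommRingCat.ofHom
    (IsScalarTower.toAlgHom R (A R) (Root R n)).toRingHom)).asOver (Spec (CommRingCat.of R))

/-- the point `Y` of `D(ℤ)` -/
noncomputable def rootSec : rootSch R n ⟶ Red.diag R ℤ :=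
  (Spec.map (CommRingCat.ofHom (rootHom (R := R) hn).toRingHom)).asOver (Spec (CommRingCat.of R))

lemma rootSec_comp : rootSec R hn ≫ Red.diagMap R (zmultiplesHom ℤ (n : ℤ)) = rootCov R n := by
  ext1
  change Spec.map _ ≫ Spec.map _ = Spec.map _
  rw [← Spec.map_comp, ← CommRingCat.ofHom_comp]
  congr 2
  exact congrArg AlgHom.toRingHom (rootHom_comp (R := R) hn)

lemma rootCov_left :
    (rootCov R n).left = Spec.map (CommRingCat.ofHom (algebraMap (A R) (Root R n))) := rfl

end Cover

theorem isLocallyTrivialFor_chi (K : Precoverage Scheme.{u}) (hK : Scheme.fppfPrecoverage ≤ K)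
    (n : ℕ) (hn : 0 < n) :
    NonAbH1.IsLocallyTrivialFor K
      (Over.mk (Red.chi S (n : ℤ)).left : Over (Red.Gm S).left) := by
  obtain ⟨h1, h2, h3⟩ := root_spec_fppf (R := ULift.{u} ℤ) hn
  rw [← rootCov_left] at h1 h2 h3
  have h1' : Flat ((Over.pullback (Limits.IsTerminal.from specULiftZIsTerminal S)).map
      (rootCov (ULift.{u} ℤ) n)).left := MorphismProperty.overPullbackMap _ _ h1
  have h2' : Surjective ((Over.pullback (Limits.IsTerminal.from specULiftZIsTerminal S)).map
      (rootCov (ULift.{u} ℤ) n)).left := MorphismProperty.overPullbackMap _ _ h2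
  have h3' : LocallyOfFinitePresentation
      ((Over.pullback (Limits.IsTerminal.from specULiftZIsTerminal S)).map
      (rootCov (ULift.{u} ℤ) n)).left := MorphismProperty.overPullbackMap _ _ h3
  refine ⟨Presieve.singleton ((Over.pullback (Limits.IsTerminal.from specULiftZIsTerminal S)).map
      (rootCov (ULift.{u} ℤ) n)).left, hK _ (Scheme.Hom.singleton_mem_fppfPrecoverage _), ?_⟩
  intro S' f hf
  cases hf
  refine ⟨((Over.pullback (Limits.IsTerminal.from specULiftZIsTerminal S)).map
      (rootSec (ULift.{u} ℤ) hn)).left, ?_⟩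
  change _ ≫ (Red.chi S (n : ℤ)).left = _
  rw [← rootSec_comp (ULift.{u} ℤ) hn, Functor.map_comp]
  rfl

theorem isExactSeq_kummer (K : Precoverage Scheme.{u}) (hK : Scheme.fppfPrecoverage ≤ K)
    (n : ℕ) (hn : 0 < n) :
    NonAbH1.IsExactSeq K (Red.DSmap S (Int.castAddHom (ZMod n))) (Red.chi S (n : ℤ)) := by
  have hker := isPullback_DS_kummer (S := S) n
  refine ⟨inferInstance, inferInstance, ?_, ?_, isLocallyTrivialFor_chi K hK n hn⟩
  · rw [hker.w, Hom.one_def]
  · exact (Groth.Agent.Lib.KerSq18.isPullback_mul_fst_of_isKernel _ _ hker).flip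

end DS

end Groth.Agent.Lib.KummerSeq18
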