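import Groth.Agent.Lib.ModCxElem25
import Groth.Agent.Lib.EvalHomPC25
import Mathlib.LinearAlgebra.TensorProduct.RightExactness

/-!
# Künneth in the top degree (helper25)

For complexes `P`, `F` of modules with `P^p = 0` for `p > a` and `F^q = 0` for `q > e`:
`H^{a+e}(P ⊗ F) ≃ H^a(P) ⊗ H^e(F)`.
-/

set_option autoImplicit false
set_option linter.unusedSectionVars false
universe u

open CategoryTheory Category Limits MonoidalCategory CochainComplex TensorProduct

namespace Groth.Agent.Lib.KunnethTop25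

open Groth.Agent.Lib.HomTensor25 Groth.Agent.Lib.ModCxElem25
open Groth.Agent.Lib.TensorCxZ35 (ι pr)

variable {A : Type u} [CommRing A]

section TopProj

variable (K : DRing.Cx A) (n : ℤ) (hK : IsZero (K.X (n + 1)))

/-- every element of `Kⁿ` is a cycle when `K^{n+1} = 0` -/
noncomputable def topLift : K.X n ⟶ K.cycles n :=
  K.liftCycles (𝟙 _) (n + 1) (by simp) (hK.eq_of_tgt _ _)

lemma topLift_i : topLift K n hK ≫ K.iCycles n = 𝟙 _ := K.liftCycles_i _ _ _ _

lemma topLift_i_apply (x : K.X n) : (K.iCycles n).hom ((topLift K n hK).hom x) = x :=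
  comp_apply_eq _ _ _ (topLift_i K n hK) x

lemma topLift_iCycles_apply (z : K.cycles n) : (topLift K n hK).hom ((K.iCycles n).hom z) = z := by
  apply iCycles_injective K n
  rw [topLift_i_apply]

/-- the projection `Kⁿ → Hⁿ(K)` when `K^{n+1} = 0` -/
noncomputable def topProj : K.X n →ₗ[A] K.homology n := (topLift K n hK ≫ K.homologyπ n).hom

lemma topProj_apply (x : K.X n) :
    topProj K n hK x = (K.homologyπ n).hom ((topLift K n hK).hom x) := rfl

lemma topProj_surjective : Function.Surjective (topProj K n hK) := by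
  intro h
  obtain ⟨z, rfl⟩ := homologyπ_surjective K n h
  exact ⟨(K.iCycles n).hom z, by rw [topProj_apply, topLift_iCycles_apply]⟩

lemma ker_topProj (m : ℤ) (hm : m + 1 = n) :
    LinearMap.ker (topProj K n hK) = LinearMap.range (K.d m n).hom := by
  ext x
  rw [LinearMap.mem_ker, LinearMap.mem_range]
  constructor
  · intro hx
    obtain ⟨y, hy⟩ := exists_boundary_of_homologyπ_eq_zero K m n hm _ hx
    exact ⟨y, hy.trans (topLift_i_apply K n hK x)⟩
  · rintro ⟨y, rfl⟩
    have : (topLift K n hK).hom ((K.d m n).hom y) = (K.toCycles m n).hom y := by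
      apply iCycles_injective K n
      rw [topLift_i_apply, toCycles_i_apply]
    rw [topProj_apply, this, homologyπ_toCycles_apply]

lemma exact_topProj (m : ℤ) (hm : m + 1 = n) :
    Function.Exact (K.d m n).hom (topProj K n hK) := by
  intro x
  rw [← LinearMap.mem_ker, ker_topProj K n hK m hm, LinearMap.mem_range]
  rfl

end TopProj

section Kunneth

variable (P F : DRing.Cx A) (a₀ e₀ : ℤ)
  (hP : ∀ p : ℤ, a₀ + 1 < p → IsZero (P.X p)) (hF : ∀ q : ℤ, e₀ + 1 < q → IsZero (F.X q))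

lemma eq_zero_of_isZero {M : ModuleCat.{u} A} (h : IsZero M) (x : M) : x = 0 :=
  (ModuleCat.subsingleton_of_isZero h).elim _ _

include hP hF in
lemma isZero_T_top : IsZero ((T P F).X (a₀ + e₀ + 1 + 1 + 1)) := by
  apply Groth.Agent.Lib.EvalHomPC25.isZero_tensor_X
  intro p q hpq
  by_cases hp : a₀ + 1 < p
  · exact Or.inl (hP p hp)
  · exact Or.inr (hF q (by omega))

/-- the inclusion of the top summand -/
noncomputable def κ : (P.X (a₀ + 1) ⊗[A] F.X (e₀ + 1)) →ₗ[A] (T P F).X (a₀ + e₀ + 1 + 1) :=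
  (ι P F (a₀ + 1) (e₀ + 1) (a₀ + e₀ + 1 + 1) (by omega)).hom

lemma κ_tmul (x : P.X (a₀ + 1)) (y : F.X (e₀ + 1)) :
    κ P F a₀ e₀ (x ⊗ₜ[A] y) = tm (a₀ + e₀ + 1 + 1) (by omega) x y := rfl

lemma κ_injective : Function.Injective (κ P F a₀ e₀) := by
  intro z z' h
  have := congrArg (pr P F (a₀ + 1) (e₀ + 1) (a₀ + e₀ + 1 + 1) (by omega)).hom h
  unfold κ at this
  rwa [Groth.Agent.Lib.TensorCxZ35.pr_ι_apply, Groth.Agent.Lib.TensorCxZ35.pr_ι_apply] at this

lemma tm_zero_right' {i j : ℤ} (n : ℤ) (h : i + j = n) (x : P.X i) :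
    tm (L := F) n h x 0 = 0 := by
  have := tm_smul_right (L := F) n h (0 : A) x 0
  simpa using this

lemma span_tm (m : ℤ) :
    Submodule.span A {w : (T P F).X m | ∃ (i j : ℤ) (h : i + j = m) (x : P.X i) (y : F.X j),
      w = tm m h x y} = ⊤ := by
  set S := Submodule.span A {w : (T P F).X m | ∃ (i j : ℤ) (h : i + j = m) (x : P.X i) (y : F.X j),
      w = tm m h x y} with hS
  have h0 : (ModuleCat.ofHom S.mkQ : ModuleCat.of A ((T P F).X m) ⟶ ModuleCat.of A ((T P F).X m ⧸ S)) = 0 := by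
    apply hom_ext_tm P F
    intro i j h x y
    change S.mkQ (tm m h x y) = 0
    rw [Submodule.mkQ_apply, Submodule.Quotient.mk_eq_zero]
    exact Submodule.subset_span ⟨i, j, h, x, y, rfl⟩
  have h1 : S.mkQ = 0 := by
    have := congrArg ModuleCat.Hom.hom h0
    simpa using this
  rw [← Submodule.ker_mkQ S, h1, LinearMap.ker_zero]

include hP hF in
lemma κ_surjective : Function.Surjective (κ P F a₀ e₀) := by
  rw [← LinearMap.range_eq_top, eq_top_iff, ← span_tm P F (a₀ + e₀ + 1 + 1), Submodule.span_le]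
  rintro _ ⟨i, j, h, x, y, rfl⟩
  by_cases hi : i = a₀ + 1
  · subst hi
    obtain rfl : j = e₀ + 1 := by omega
    exact ⟨x ⊗ₜ[A] y, rfl⟩
  · by_cases hi' : a₀ + 1 < i
    · rw [eq_zero_of_isZero (hP i hi') x, tm_zero_left]
      exact Submodule.zero_mem _
    · rw [eq_zero_of_isZero (hF j (by omega)) y,
        tm_zero_right']
      exact Submodule.zero_mem _

/-- the submodule of "boundaries" in the top tensor -/
noncomputable def R : Submodule A (P.X (a₀ + 1) ⊗[A] F.X (e₀ + 1)) :=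
  LinearMap.range (LinearMap.lTensor (P.X (a₀ + 1)) (F.d e₀ (e₀ + 1)).hom) ⊔
    LinearMap.range (LinearMap.rTensor (F.X (e₀ + 1)) (P.d a₀ (a₀ + 1)).hom)

include hP hF in
lemma map_κ_R_le :
    Submodule.map (κ P F a₀ e₀) (R P F a₀ e₀) ≤
      LinearMap.range ((T P F).d (a₀ + e₀ + 1) (a₀ + e₀ + 1 + 1)).hom := by
  rw [Submodule.map_le_iff_le_comap]
  unfold R
  rw [sup_le_iff]
  constructor
  · rintro _ ⟨z, rfl⟩
    rw [Submodule.mem_comap]
    induction z using TensorProduct.induction_on with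
    | zero => simp
    | add z z' hz hz' =>
      rw [map_add, map_add]
      exact Submodule.add_mem _ hz hz'
    | tmul x y =>
      rw [LinearMap.lTensor_tmul, κ_tmul]
      have h1 := d_tm (K := P) (L := F) (a₀ + e₀ + 1) (show (a₀ + 1) + e₀ = a₀ + e₀ + 1 by omega) x y
      rw [eq_zero_of_isZero (hP (a₀ + 1 + 1) (by omega)) ((P.d (a₀ + 1) (a₀ + 1 + 1)).hom x),
        tm_zero_left, zero_add] at h1
      have h2 : tm (a₀ + e₀ + 1 + 1) (by omega) x ((F.d e₀ (e₀ + 1)).hom y) =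
          (a₀ + 1).negOnePow • ((T P F).d (a₀ + e₀ + 1) (a₀ + e₀ + 1 + 1)).hom
            (tm (a₀ + e₀ + 1) (show (a₀ + 1) + e₀ = a₀ + e₀ + 1 by omega) x y) := by
        rw [h1, smul_smul, Int.units_mul_self, one_smul]
      rw [h2]
      rcases Int.units_eq_one_or (a₀ + 1).negOnePow with h3 | h3
      · rw [h3, one_smul]
        exact LinearMap.mem_range_self _ _
      · rw [h3, Units.neg_smul, one_smul]
        exact Submodule.neg_mem _ (LinearMap.mem_range_self _ _)
  · rintro _ ⟨z, rfl⟩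
    rw [Submodule.mem_comap]
    induction z using TensorProduct.induction_on with
    | zero => simp
    | add z z' hz hz' =>
      rw [map_add, map_add]
      exact Submodule.add_mem _ hz hz'
    | tmul x y =>
      rw [LinearMap.rTensor_tmul, κ_tmul]
      have h1 := d_tm (K := P) (L := F) (a₀ + e₀ + 1) (show a₀ + (e₀ + 1) = a₀ + e₀ + 1 by omega) x y
      rw [eq_zero_of_isZero (hF (e₀ + 1 + 1) (by omega)) ((F.d (e₀ + 1) (e₀ + 1 + 1)).hom y),
        tm_zero_right', smul_zero, add_zero] at h1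
      rw [← h1]
      exact LinearMap.mem_range_self _ _

include hP hF in
lemma range_d_le :
    LinearMap.range ((T P F).d (a₀ + e₀ + 1) (a₀ + e₀ + 1 + 1)).hom ≤
      Submodule.map (κ P F a₀ e₀) (R P F a₀ e₀) := by
  rw [LinearMap.range_eq_map, ← span_tm P F (a₀ + e₀ + 1), Submodule.map_span, Submodule.span_le]
  rintro _ ⟨_, ⟨i, j, h, x, y, rfl⟩, rfl⟩
  rw [d_tm]
  by_cases hi : i = a₀
  · subst hi
    obtain rfl : j = e₀ + 1 := by omega
    rw [eq_zero_of_isZero (hF (e₀ + 1 + 1) (by omega)) ((F.d (e₀ + 1) (e₀ + 1 + 1)).hom y),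
      tm_zero_right', smul_zero, add_zero]
    refine ⟨((P.d i (i + 1)).hom x) ⊗ₜ[A] y, ?_, rfl⟩
    exact Submodule.mem_sup_right ⟨x ⊗ₜ[A] y, rfl⟩
  · by_cases hi' : i = a₀ + 1
    · subst hi'
      obtain rfl : j = e₀ := by omega
      rw [eq_zero_of_isZero (hP (a₀ + 1 + 1) (by omega)) ((P.d (a₀ + 1) (a₀ + 1 + 1)).hom x),
        tm_zero_left, zero_add]
      refine Submodule.smul_of_tower_mem _ _ ?_
      refine ⟨x ⊗ₜ[A] ((F.d j (j + 1)).hom y), ?_, rfl⟩
      exact Submodule.mem_sup_left ⟨x ⊗ₜ[A] y, rfl⟩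
    · by_cases hi'' : a₀ + 1 < i
      · rw [eq_zero_of_isZero (hP i hi'') x, map_zero, tm_zero_left, tm_zero_left, smul_zero,
          add_zero]
        exact Submodule.zero_mem _
      · rw [eq_zero_of_isZero (hF j (by omega)) y, map_zero, tm_zero_right', tm_zero_right',
          smul_zero, add_zero]
        exact Submodule.zero_mem _

include hP hF in
/-- **Künneth in the top degree.** -/
theorem nonempty_homology_equiv :
    Nonempty ((T P F).homology (a₀ + e₀ + 1 + 1) ≃ₗ[A]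
      (P.homology (a₀ + 1) ⊗[A] F.homology (e₀ + 1))) := by
  have hT := isZero_T_top P F a₀ e₀ hP hF
  have hPa : IsZero (P.X (a₀ + 1 + 1)) := hP _ (by omega)
  have hFe : IsZero (F.X (e₀ + 1 + 1)) := hF _ (by omega)
  let πT := topProj (T P F) (a₀ + e₀ + 1 + 1) hT
  let πP := topProj P (a₀ + 1) hPa
  let πF := topProj F (e₀ + 1) hFe
  let φ : (P.X (a₀ + 1) ⊗[A] F.X (e₀ + 1)) →ₗ[A] (T P F).homology (a₀ + e₀ + 1 + 1) :=
    πT ∘ₗ κ P F a₀ e₀
  let μ : (P.X (a₀ + 1) ⊗[A] F.X (e₀ + 1)) →ₗ[A] (P.homology (a₀ + 1) ⊗[A] F.homology (e₀ + 1)) :=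
    TensorProduct.map πP πF
  have hφ : Function.Surjective φ :=
    (topProj_surjective _ _ hT).comp (κ_surjective P F a₀ e₀ hP hF)
  have hμ : Function.Surjective μ :=
    TensorProduct.map_surjective (topProj_surjective _ _ hPa) (topProj_surjective _ _ hFe)
  have hkμ : LinearMap.ker μ = R P F a₀ e₀ :=
    TensorProduct.map_ker (exact_topProj P (a₀ + 1) hPa a₀ rfl) (topProj_surjective _ _ hPa)
      (exact_topProj F (e₀ + 1) hFe e₀ rfl) (topProj_surjective _ _ hFe)
  have hkφ : LinearMap.ker φ = R P F a₀ e₀ := by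
    change LinearMap.ker (πT ∘ₗ κ P F a₀ e₀) = _
    rw [LinearMap.ker_comp, ker_topProj (T P F) (a₀ + e₀ + 1 + 1) hT (a₀ + e₀ + 1) rfl,
      le_antisymm (range_d_le P F a₀ e₀ hP hF) (map_κ_R_le P F a₀ e₀ hP hF),
      Submodule.comap_map_eq_of_injective (κ_injective P F a₀ e₀)]
  exact ⟨(LinearMap.quotKerEquivOfSurjective φ hφ).symm ≪≫ₗ
    Submodule.quotEquivOfEq _ _ (hkφ.trans hkμ.symm) ≪≫ₗ LinearMap.quotKerEquivOfSurjective μ hμ⟩

end Kunneth

end Groth.Agent.Lib.KunnethTop25
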