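import Groth.Agent.Lib.EtaleCoord
import Groth.Agent.Lib.LCIHom
import Groth.Agent.Lib.KoszulPolyRetr
import Groth.Agent.S15821
import Groth.Agent.S9269
import Mathlib.RingTheory.Smooth.StandardSmoothOfFree
import Mathlib.RingTheory.Smooth.Flat
import Mathlib.RingTheory.Etale.Kaehler
import Mathlib.LinearAlgebra.Matrix.Block
import Mathlib.LinearAlgebra.Determinant

/-!
# Smooth algebras are local complete intersections (helper19)

Namespace `Groth.Agent.Lib.SmoothLCI`.

* `zFun f m` : the coordinate change `X (m r) ↦ f r`, `X i ↦ X i` otherwise;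
* `det_jac` : its Jacobian determinant is the Jacobian minor `Δ`;
* `flat_zFun` : `A[ι] → A[ι]_Δ`, `X i ↦ zFun i`, is flat (it is étale);
* `isKoszulRegularSeq_relations` : the `f r` form a Koszul-regular sequence in `A[ι]_Δ`;
* `isKoszulRegularIdeal_ker` : the kernel of a submersive presentation is a Koszul-regular ideal;
* `isLCI_of_isStandardSmooth`, `isLCI_of_smooth`;
* `isKoszulRegularIdeal_comap_of_smooth` : if `A → B` is smooth, `J ⊂ B` is a Koszul-regular ideal and
  `A → B/J` is surjective, then its kernel is a Koszul-regular ideal of `A`.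
-/

set_option autoImplicit false
universe u

namespace Groth.Agent.Lib.SmoothLCI

open MvPolynomial KaehlerDifferential

section jac

variable {A : Type u} [CommRing A] {ι σ : Type} (f : σ → MvPolynomial ι A) (m : σ → ι)

open Classical in
/-- the coordinate change -/
noncomputable def zFun (i : ι) : MvPolynomial ι A :=
  if h : ∃ r, m r = i then f h.choose else X i

variable {m}

theorem zFun_map (hm : Function.Injective m) (r : σ) : zFun f m (m r) = f r := by
  unfold zFun
  have h : ∃ r', m r' = m r := ⟨r, rfl⟩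
  rw [dif_pos h]
  congr 1
  exact hm h.choose_spec

theorem zFun_of_not_mem (i : ι) (hi : i ∉ Set.range m) : zFun f m i = X i := by
  unfold zFun
  rw [dif_neg]
  rintro ⟨r, hr⟩
  exact hi ⟨r, hr⟩

variable [Fintype ι] [DecidableEq ι] [Fintype σ] [DecidableEq σ]

/-- the Jacobian minor -/
noncomputable def jacDet : MvPolynomial ι A :=
  (Matrix.of fun r r' : σ => pderiv (m r) (f r')).det

theorem det_jac (hm : Function.Injective m) :
    (Matrix.of fun i j : ι => pderiv i (zFun f m j)).det = jacDet f (m := m) := by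
  classical
  rw [Matrix.twoBlockTriangular_det' _ (fun i => i ∈ Set.range m)]
  · have h2 : (Matrix.toSquareBlockProp (Matrix.of fun i j : ι => pderiv i (zFun f m j))
        (fun i => ¬ i ∈ Set.range m)) = 1 := by
      apply Matrix.ext
      rintro ⟨i, hi⟩ ⟨j, hj⟩
      show pderiv i (zFun f m j) = _
      rw [zFun_of_not_mem f j hj, pderiv_X, Matrix.one_apply]
      simp only [Pi.single_apply, Subtype.mk.injEq]
      by_cases h : i = j
      · simp [h]
      · rw [if_neg h, if_neg (fun h' => h h'.symm)]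
    rw [h2, Matrix.det_one, mul_one]
    let e : σ ≃ {i // i ∈ Set.range m} := Equiv.ofInjective m hm
    have h1 : (Matrix.toSquareBlockProp (Matrix.of fun i j : ι => pderiv i (zFun f m j))
        (fun i => i ∈ Set.range m)) =
        Matrix.reindex e e (Matrix.of fun r r' : σ => pderiv (m r) (f r')) := by
      apply Matrix.ext
      rintro ⟨i, hi⟩ ⟨j, hj⟩
      show pderiv i (zFun f m j) = pderiv (m (e.symm ⟨i, hi⟩)) (f (e.symm ⟨j, hj⟩))
      have hi' : m (e.symm ⟨i, hi⟩) = i := Equiv.apply_ofInjective_symm hm ⟨i, hi⟩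
      have hj' : m (e.symm ⟨j, hj⟩) = j := Equiv.apply_ofInjective_symm hm ⟨j, hj⟩
      rw [hi', ← zFun_map f hm (e.symm ⟨j, hj⟩), hj']
    rw [h1]
    convert Matrix.det_reindex_self (n := {i // i ∈ Set.range m}) e
      (Matrix.of fun r r' : σ => pderiv (m r) (f r'))
    rfl
  · intro i hi j hj
    simp only [Matrix.of_apply]
    rw [zFun_of_not_mem f j hj, pderiv_X, Pi.single_apply, if_neg]
    rintro rfl
    exact hj hi

end jac

section etale

variable {A : Type u} [CommRing A] {ι : Type} [Finite ι]

/-- étale coordinates give Koszul-regular sequences -/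
theorem kr_of_basis {B : Type u} [CommRing B] [Algebra A B] [Algebra.FormallySmooth A B]
    [Algebra.FinitePresentation A B] (w : ι → B) (b : Module.Basis ι B (Ω[B⁄A]))
    (hb : ∀ i, b i = D A B (w i)) (l : List ι) (hl : l.Nodup) :
    LCI.IsKoszulRegularSeq B (l.map w) := by
  letI := Groth.Agent.Lib.EtaleCoord.polyAlgebra A B w
  haveI := Groth.Agent.Lib.EtaleCoord.polyAlgebra_isScalarTower A B w
  haveI : Algebra.FormallyEtale (MvPolynomial ι A) B :=
    Groth.Agent.Lib.EtaleCoord.formallyEtale_of_basis A B w b hb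
  haveI : Algebra.FinitePresentation (MvPolynomial ι A) B :=
    Algebra.FinitePresentation.of_restrict_scalars_finitePresentation A (MvPolynomial ι A) B
  haveI : Algebra.Etale (MvPolynomial ι A) B := {}
  haveI : Module.Flat (MvPolynomial ι A) B := inferInstance
  have h1 : LCI.IsKoszulRegularSeq (MvPolynomial ι A) (l.map (X : ι → MvPolynomial ι A)) :=
    (Groth.Agent.S15821.result _ _ (Groth.Agent.Lib.KoszulPolyRetr.isWeaklyRegular_X l hl)).1
  have h2 := Groth.Agent.Lib.KoszulQuot.isKoszulRegularSeq_map_of_flat (R := MvPolynomial ι A)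
    (R' := B) _ h1
  rw [List.map_map] at h2
  have h3 : (algebraMap (MvPolynomial ι A) B) ∘ (X : ι → MvPolynomial ι A) = w := by
    funext i
    show algebraMap (MvPolynomial ι A) B (X i) = w i
    rw [Groth.Agent.Lib.EtaleCoord.polyAlgebra_algebraMap_apply, aeval_X]
  rw [h3] at h2
  exact h2

end etale

section locbasis

variable {A : Type u} [CommRing A] {ι : Type} [Fintype ι] [DecidableEq ι] (Δ : MvPolynomial ι A)

/-- the standard basis of the differentials of a localized polynomial ring -/
noncomputable def b₀ : Module.Basis ι (Localization.Away Δ) (Ω[Localization.Away Δ⁄A]) :=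
  ((mvPolynomialBasis A ι).baseChange (Localization.Away Δ)).map
    (tensorKaehlerEquivOfFormallyEtale A (MvPolynomial ι A) (Localization.Away Δ))

theorem b₀_apply (i : ι) :
    b₀ Δ i = D A (Localization.Away Δ) (algebraMap (MvPolynomial ι A) (Localization.Away Δ) (X i)) := by
  unfold b₀
  rw [Module.Basis.map_apply, Module.Basis.baseChange_apply, mvPolynomialBasis_apply,
    tensorKaehlerEquivOfFormallyEtale_apply, mapBaseChange_tmul, map_D, one_smul]

theorem D_algebraMap (x : MvPolynomial ι A) :
    D A (Localization.Away Δ) (algebraMap (MvPolynomial ι A) (Localization.Away Δ) x) =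
      ∑ i, algebraMap (MvPolynomial ι A) (Localization.Away Δ) (pderiv i x) • b₀ Δ i := by
  have h1 : D A (MvPolynomial ι A) x = ∑ i, pderiv i x • D A (MvPolynomial ι A) (X i) := by
    conv_lhs => rw [← (mvPolynomialBasis A ι).sum_repr (D A (MvPolynomial ι A) x)]
    refine Finset.sum_congr rfl fun i _ => ?_
    rw [mvPolynomialBasis_repr_apply, mvPolynomialBasis_apply]
  have h2 := congrArg (KaehlerDifferential.map A A (MvPolynomial ι A) (Localization.Away Δ)) h1
  rw [map_D, map_sum] at h2
  rw [h2]
  refine Finset.sum_congr rfl fun i _ => ?_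
  rw [LinearMap.map_smul_of_tower, map_D, b₀_apply, algebraMap_smul]

theorem exists_basis (z : ι → MvPolynomial ι A)
    (hdet : (Matrix.of fun i j : ι => pderiv i (z j)).det = Δ) :
    ∃ b : Module.Basis ι (Localization.Away Δ) (Ω[Localization.Away Δ⁄A]),
      ∀ i, b i = D A (Localization.Away Δ)
        (algebraMap (MvPolynomial ι A) (Localization.Away Δ) (z i)) := by
  let v : ι → Ω[Localization.Away Δ⁄A] := fun i =>
    D A (Localization.Away Δ) (algebraMap (MvPolynomial ι A) (Localization.Away Δ) (z i))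
  have hM : (b₀ Δ).toMatrix v = (Matrix.of fun i j : ι => pderiv i (z j)).map
      (algebraMap (MvPolynomial ι A) (Localization.Away Δ)) := by
    apply Matrix.ext
    intro i j
    rw [Module.Basis.toMatrix_apply, Matrix.map_apply, Matrix.of_apply]
    show (b₀ Δ).repr (D A (Localization.Away Δ) _) i = _
    rw [D_algebraMap, Module.Basis.repr_sum_self]
  have hunit : IsUnit ((b₀ Δ).det v) := by
    rw [Module.Basis.det_apply, hM, ← RingHom.mapMatrix_apply, ← RingHom.map_det, hdet]
    exact IsLocalization.Away.algebraMap_isUnit Δ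
  obtain ⟨hli, hsp⟩ := (Module.Basis.is_basis_iff_det (b₀ Δ)).mpr hunit
  exact ⟨Module.Basis.mk hli hsp.ge, fun i => Module.Basis.mk_apply hli hsp.ge i⟩

end locbasis

section pres

variable {A : Type u} [CommRing A] {ι σ : Type}

theorem isKoszulRegularSeq_relations [Fintype ι] [DecidableEq ι] [Fintype σ] [DecidableEq σ]
    (f : σ → MvPolynomial ι A) {m : σ → ι} (hm : Function.Injective m)
    (l : List σ) (hl : l.Nodup) :
    LCI.IsKoszulRegularSeq (Localization.Away (jacDet f (m := m)))
      (l.map fun r => algebraMap (MvPolynomial ι A) (Localization.Away (jacDet f (m := m))) (f r)) := by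
  obtain ⟨b, hb⟩ := exists_basis (jacDet f (m := m)) (zFun f m) (det_jac f hm)
  have h := kr_of_basis (A := A) (B := Localization.Away (jacDet f (m := m)))
    (fun i => algebraMap (MvPolynomial ι A) (Localization.Away (jacDet f (m := m))) (zFun f m i))
    b hb (l.map m) (hl.map hm)
  rw [List.map_map] at h
  have h3 : (fun i => algebraMap (MvPolynomial ι A) (Localization.Away (jacDet f (m := m)))
      (zFun f m i)) ∘ m = fun r => algebraMap (MvPolynomial ι A)
        (Localization.Away (jacDet f (m := m))) (f r) := by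
    funext r
    show algebraMap _ _ (zFun f m (m r)) = _
    rw [zFun_map f hm]
  rw [h3] at h
  exact h

variable {B : Type u} [CommRing B] [Algebra A B]

theorem isKoszulRegularIdeal_ker [Finite ι] [Finite σ]
    (P : Algebra.SubmersivePresentation A B ι σ) : LCI.IsKoszulRegularIdeal P.ker := by
  classical
  haveI := Fintype.ofFinite ι
  haveI := Fintype.ofFinite σ
  intro 𝔭 h𝔭
  have hΔ : P.jacobian = algebraMap P.Ring B (jacDet P.relation (m := P.map)) := by
    rw [Algebra.PreSubmersivePresentation.jacobian_eq_jacobiMatrix_det]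
    congr 2
    apply Matrix.ext
    intro i j
    rw [Algebra.PreSubmersivePresentation.jacobiMatrix_apply]
    rfl
  refine ⟨jacDet P.relation (m := P.map), ?_, ?_⟩
  · intro hmem
    obtain ⟨c, hc⟩ := P.jacobian_isUnit.exists_right_inv
    obtain ⟨c', rfl⟩ := P.algebraMap_surjective c
    rw [hΔ, ← map_mul] at hc
    have h1 : jacDet P.relation (m := P.map) * c' - 1 ∈ P.ker := by
      show _ ∈ RingHom.ker (algebraMap P.Ring B)
      rw [RingHom.mem_ker, map_sub, hc, map_one, sub_self]
    have h2 := h𝔭 h1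
    have h3 : (1 : MvPolynomial ι A) ∈ 𝔭.asIdeal := by
      have := 𝔭.asIdeal.sub_mem (𝔭.asIdeal.mul_mem_right c' hmem) h2
      simpa using this
    exact 𝔭.isPrime.ne_top ((Ideal.eq_top_iff_one _).mpr h3)
  · refine ⟨_, isKoszulRegularSeq_relations P.relation P.map_inj Finset.univ.toList
      (Finset.nodup_toList _), ?_⟩
    rw [← P.span_range_relation_eq_ker, Ideal.map_span]
    congr 1
    ext x
    simp only [Set.mem_image, Set.mem_range, List.mem_map, Finset.mem_toList, Finset.mem_univ,
      true_and, Set.mem_setOf_eq]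
    constructor
    · rintro ⟨_, ⟨r, rfl⟩, rfl⟩
      exact ⟨r, rfl⟩
    · rintro ⟨r, rfl⟩
      exact ⟨_, ⟨r, rfl⟩, rfl⟩

end pres

section smooth

variable {A : Type u} [CommRing A] {B : Type u} [CommRing B] [Algebra A B]

theorem isLCI_of_isStandardSmooth [Algebra.IsStandardSmooth A B] : LCI.IsLCI A B := by
  obtain ⟨ι, σ, _, _, ⟨P⟩⟩ := Algebra.IsStandardSmooth.out (R := A) (S := B)
  obtain ⟨n, ⟨e⟩⟩ := Finite.exists_equiv_fin ι
  let P' : Algebra.SubmersivePresentation A B (Fin n) σ := P.reindex e.symm (Equiv.refl σ)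
  refine ⟨inferInstance, n, IsScalarTower.toAlgHom A P'.Ring B, P'.algebraMap_surjective, ?_⟩
  exact isKoszulRegularIdeal_ker P'

open Groth.Agent.Lib.LCIMaps in
theorem isLCI_of_smooth [Algebra.Smooth A B] : LCI.IsLCI A B := by
  obtain ⟨s, hs, hstd⟩ := Algebra.Smooth.exists_span_eq_top_isStandardSmooth (R := A) (S := B)
  obtain ⟨t, hts, ht⟩ := (Ideal.span_eq_top_iff_finite s).mp hs
  rw [← lciHom_algebraMap]
  let g : Fin t.card → B := fun j => (t.equivFin.symm j : B)
  have hg : Ideal.span (Set.range g) = ⊤ := by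
    rw [← ht]
    congr 1
    ext x
    simp only [Set.mem_range, Finset.mem_coe, g]
    constructor
    · rintro ⟨j, rfl⟩
      exact (t.equivFin.symm j).2
    · intro hx
      exact ⟨t.equivFin ⟨x, hx⟩, by simp⟩
  refine LCIHom.of_span_eq_top (algebraMap A B) t.card g hg (fun j => Localization.Away (g j))
    (fun j => algebraMap B (Localization.Away (g j))) (fun j => ?_) (fun j => ?_)
  · rw [toAlgebra_algebraMap]
    infer_instance
  · haveI := hstd (g j) (hts (t.equivFin.symm j).2)
    have h1 : LCI.IsLCI A (Localization.Away (g j)) := isLCI_of_isStandardSmooth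
    rw [← lciHom_algebraMap] at h1
    rwa [IsScalarTower.algebraMap_eq A B (Localization.Away (g j))] at h1

end smooth

section descent

variable {A : Type u} [CommRing A] {B : Type u} [CommRing B] [Algebra A B]

open Groth.Agent.Lib.LCIComp

/-- a surjection with Koszul-regular kernel is a local complete intersection -/
theorem isLCI_quotient (J : Ideal B) (hJ : LCI.IsKoszulRegularIdeal J) : LCI.IsLCI B (B ⧸ J) := by
  let e : MvPolynomial (Fin 0) B ≃ₐ[B] B := MvPolynomial.isEmptyAlgEquiv B (Fin 0)
  let f : MvPolynomial (Fin 0) B →ₐ[B] (B ⧸ J) := (Ideal.Quotient.mkₐ B J).comp e.toAlgHom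
  have hf : Function.Surjective f := Ideal.Quotient.mk_surjective.comp e.surjective
  refine ⟨Algebra.FiniteType.of_surjective f hf, 0, f, hf, ?_⟩
  have h1 : RingHom.ker f.toRingHom = J.comap (e.toRingEquiv : MvPolynomial (Fin 0) B →+* B) := by
    ext x
    rw [RingHom.mem_ker, Ideal.mem_comap]
    show Ideal.Quotient.mk J (e x) = 0 ↔ e x ∈ J
    rw [Ideal.Quotient.eq_zero_iff_mem]
  rw [h1]
  exact isKoszulRegularIdeal_comap_ringEquiv _ J hJ

/-- if `A → B` is smooth, `J ⊂ B` is a Koszul-regular ideal and `A → B/J` is surjective, then the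
kernel of `A → B/J` is a Koszul-regular ideal of `A` -/
theorem isKoszulRegularIdeal_comap_of_smooth [Algebra.Smooth A B] (J : Ideal B)
    (hJ : LCI.IsKoszulRegularIdeal J)
    (hsurj : Function.Surjective ((Ideal.Quotient.mk J).comp (algebraMap A B))) :
    LCI.IsKoszulRegularIdeal (J.comap (algebraMap A B)) := by
  have h1 : LCI.IsLCI A B := isLCI_of_smooth
  have h2 : LCI.IsLCI B (B ⧸ J) := isLCI_quotient J hJ
  obtain ⟨_, n, α, hα, hK⟩ := isLCI_comp h1 h2
  let e : MvPolynomial (Fin 0) A ≃ₐ[A] A := MvPolynomial.isEmptyAlgEquiv A (Fin 0)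
  let β : MvPolynomial (Fin 0) A →ₐ[A] (B ⧸ J) := (Algebra.ofId A (B ⧸ J)).comp e.toAlgHom
  have hβ : Function.Surjective β := by
    intro c
    obtain ⟨a, ha⟩ := hsurj c
    refine ⟨e.symm a, ?_⟩
    show algebraMap A (B ⧸ J) (e (e.symm a)) = c
    rw [e.apply_symm_apply, ← ha]
    rfl
  have h3 := Groth.Agent.S9269.result A (B ⧸ J) n 0 α hα β hβ hK
  have h4 := isKoszulRegularIdeal_comap_ringEquiv (e.symm.toRingEquiv) _ h3
  convert h4 using 1
  ext a
  rw [Ideal.mem_comap, Ideal.mem_comap, RingHom.mem_ker]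
  show algebraMap A B a ∈ J ↔ algebraMap A (B ⧸ J) (e (e.symm a)) = 0
  rw [e.apply_symm_apply, IsScalarTower.algebraMap_apply A B (B ⧸ J), Ideal.Quotient.algebraMap_eq,
    Ideal.Quotient.eq_zero_iff_mem]

end descent

section hom

variable {A B C : Type u} [CommRing A] [CommRing B] [CommRing C]

/-- ring-hom form: `φ : A → B` smooth, `χ : B → C` with Koszul-regular kernel, `χ ∘ φ` surjective;
then `ker (χ ∘ φ)` is a Koszul-regular ideal -/
theorem isKoszulRegularIdeal_ker_comp_of_smooth (φ : A →+* B) (hφ : φ.Smooth) (χ : B →+* C)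
    (hJ : LCI.IsKoszulRegularIdeal (RingHom.ker χ)) (hsurj : Function.Surjective (χ.comp φ)) :
    LCI.IsKoszulRegularIdeal (RingHom.ker (χ.comp φ)) := by
  letI := φ.toAlgebra
  haveI : Algebra.Smooth A B := hφ
  have h := isKoszulRegularIdeal_comap_of_smooth (A := A) (B := B) (RingHom.ker χ) hJ (by
    intro c
    obtain ⟨b, rfl⟩ := Ideal.Quotient.mk_surjective c
    obtain ⟨a, ha⟩ := hsurj (χ b)
    refine ⟨a, ?_⟩
    show Ideal.Quotient.mk _ (φ a) = Ideal.Quotient.mk _ b
    rw [Ideal.Quotient.eq, RingHom.mem_ker, map_sub, sub_eq_zero]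
    exact ha)
  convert h using 1
  ext a
  rw [Ideal.mem_comap, RingHom.mem_ker, RingHom.mem_ker]
  rfl

end hom

end Groth.Agent.Lib.SmoothLCI
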