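import Groth.Agent.Lib.KRDescC
import Groth.Agent.Lib.LCIHom
import Groth.Agent.Lib.SmoothLCI
import Groth.Agent.S9269

/-!
# Faithfully flat descent of local complete intersection homomorphisms (helper32)

* `isLCI_of_faithfullyFlat_tensor`: `R → S` faithfully flat and `S → S ⊗[R] T` lci imply `R → T` lci;
* `codescendsAlong_lciHom`: `LCIHom` codescends along faithfully flat ring maps.
-/

set_option autoImplicit false
universe u
open CategoryTheory TensorProduct

attribute [local instance] HasDerivedCategory.standard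

namespace Groth.Agent.Lib.LCIDescent

open Groth.Agent.Lib.LCIMaps Groth.Agent.Lib.LCIComp Groth.Agent.Lib.KRDescC

attribute [local instance] Algebra.TensorProduct.rightAlgebra in
/-- **faithfully flat descent of lci ring maps** -/
theorem isLCI_of_faithfullyFlat_tensor (R S T : Type u) [CommRing R] [CommRing S] [CommRing T]
    [Algebra R S] [Algebra R T] [Module.FaithfullyFlat R S] (h : LCI.IsLCI S (S ⊗[R] T)) :
    LCI.IsLCI R T := by
  have hftS : Algebra.FiniteType S (S ⊗[R] T) := h.1
  have hft : Algebra.FiniteType R T :=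
    Algebra.FiniteType.of_finiteType_tensorProduct_of_faithfullyFlat S
  obtain ⟨n, f, hf⟩ := Algebra.FiniteType.iff_quotient_mvPolynomial''.mp hft
  refine ⟨hft, n, f, hf, ?_⟩
  have hff : Module.FaithfullyFlat (MvPolynomial (Fin n) R) (S ⊗[R] MvPolynomial (Fin n) R) :=
    .of_linearEquiv _ _ (Algebra.TensorProduct.commRight _ _ _).symm.toLinearEquiv
  let fS := Algebra.TensorProduct.map (AlgHom.id S S) f
  have hfS : Function.Surjective fS := Algebra.FiniteType.baseChangeAux_surj S hf
  have hker : (RingHom.ker f.toRingHom).map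
      (algebraMap (MvPolynomial (Fin n) R) (S ⊗[R] MvPolynomial (Fin n) R)) = RingHom.ker fS :=
    (Algebra.TensorProduct.lTensor_ker f hf).symm
  apply isKoszulRegularIdeal_of_faithfullyFlat (B := S ⊗[R] MvPolynomial (Fin n) R)
  rw [hker]
  -- the presentation `S[x] → S ⊗ T`
  let e : S ⊗[R] MvPolynomial (Fin n) R ≃ₐ[S] MvPolynomial (Fin n) S :=
    MvPolynomial.algebraTensorAlgEquiv R S
  let ρ : MvPolynomial (Fin n) S →ₐ[S] S ⊗[R] T := fS.comp e.symm.toAlgHom
  have hρ : Function.Surjective ρ := hfS.comp e.symm.surjective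
  obtain ⟨_, m, α, hα, hKα⟩ := h
  have hKρ : LCI.IsKoszulRegularIdeal (RingHom.ker ρ.toRingHom) :=
    Groth.Agent.S9269.result S (S ⊗[R] T) m n α hα ρ hρ hKα
  have hcomap : RingHom.ker fS =
      (RingHom.ker ρ.toRingHom).comap (e.toRingEquiv : _ →+* _) := by
    ext x
    rw [Ideal.mem_comap, RingHom.mem_ker, RingHom.mem_ker]
    show fS x = 0 ↔ fS (e.symm (e x)) = 0
    rw [e.symm_apply_apply]
  rw [hcomap]
  exact isKoszulRegularIdeal_comap_ringEquiv e.toRingEquiv _ hKρ

section product

variable {m : ℕ} (R : Fin m → Type u) [∀ i, CommRing (R i)]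

/-- the projection from a finite product is the localization away from the idempotent -/
theorem isLocalization_away_eval (j : Fin m) :
    @IsLocalization.Away (Π i, R i) _ (Pi.single j 1) (R j) _ (Pi.evalRingHom R j).toAlgebra := by
  let _ := (Pi.evalRingHom R j).toAlgebra
  refine IsLocalization.away_of_isIdempotentElem_of_mul ?_ ?_ ?_
  · show (Pi.single j 1 : Π i, R i) * Pi.single j 1 = Pi.single j 1
    rw [← Pi.single_mul, mul_one]
  · intro x y
    show x j = y j ↔ _
    constructor
    · intro h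
      ext k
      by_cases hk : k = j
      · subst hk
        simp [h]
      · simp [Pi.single_eq_of_ne hk]
    · intro h
      have := congrFun h j
      simpa using this
  · intro y
    exact ⟨Pi.single j y, by simp [RingHom.algebraMap_toAlgebra]⟩

/-- the projection from a finite product is a local complete intersection -/
theorem lciHom_eval (j : Fin m) : LCIHom (Pi.evalRingHom R j) := by
  let _ := (Pi.evalRingHom R j).toAlgebra
  have := isLocalization_away_eval R j
  have : Algebra.Smooth (Π i, R i) (R j) :=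
    Algebra.Smooth.of_isLocalization_Away (Pi.single j 1)
  exact Groth.Agent.Lib.SmoothLCI.isLCI_of_smooth

/-- a finite product of lci maps is lci -/
theorem lciHom_pi (R' : Fin m → Type u) [∀ i, CommRing (R' i)] (φ : ∀ i, R i →+* R' i)
    (h : ∀ i, LCIHom (φ i)) :
    LCIHom (RingHom.pi fun i => (φ i).comp (Pi.evalRingHom R i)) := by
  classical
  refine LCIHom.of_span_eq_top _ m (fun j => (Pi.single j 1 : Π i, R' i)) ?_ R'
    (fun j => Pi.evalRingHom R' j) (fun j => isLocalization_away_eval R' j) (fun j => ?_)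
  · rw [Ideal.eq_top_iff_one]
    have h1 : (1 : Π i, R' i) = ∑ j, Pi.single j 1 := by
      rw [Finset.univ_sum_single (fun _ => (1 : _))]
      rfl
    rw [h1]
    exact Ideal.sum_mem _ (fun j _ => Ideal.subset_span ⟨j, rfl⟩)
  · have h2 : (Pi.evalRingHom R' j).comp (RingHom.pi fun i => (φ i).comp (Pi.evalRingHom R i)) =
        (φ j).comp (Pi.evalRingHom R j) := by
      ext x
      rfl
    rw [h2]
    exact (lciHom_eval R j).comp (h j)

end product

section family

variable {A C : Type u} [CommRing A] [CommRing C]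

/-- **descent of lci ring maps along a finite jointly surjective family of flat base changes** -/
theorem lciHom_of_family (φ : A →+* C) {m : ℕ} (A' C' : Fin m → Type u)
    [∀ i, CommRing (A' i)] [∀ i, CommRing (C' i)]
    (α : ∀ i, A →+* A' i) (β : ∀ i, C →+* C' i) (φ' : ∀ i, A' i →+* C' i)
    (hpo : ∀ i, IsPushout (CommRingCat.ofHom φ) (CommRingCat.ofHom (α i))
      (CommRingCat.ofHom (β i)) (CommRingCat.ofHom (φ' i)))
    (hflat : ∀ i, (α i).Flat)
    (hsurj : ∀ 𝔭 : PrimeSpectrum A, ∃ i, 𝔭 ∈ Set.range (PrimeSpectrum.comap (α i)))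
    (h : ∀ i, LCIHom (φ' i)) : LCIHom φ := by
  classical
  let _ : Algebra A C := φ.toAlgebra
  let _ : ∀ i, Algebra A (A' i) := fun i => (α i).toAlgebra
  let _ : ∀ i, Algebra (A' i) (C' i) := fun i => (φ' i).toAlgebra
  let _ : ∀ i, Algebra C (C' i) := fun i => (β i).toAlgebra
  let _ : ∀ i, Algebra A (C' i) := fun i => ((β i).comp φ).toAlgebra
  have hcomm : ∀ i, (β i).comp φ = (φ' i).comp (α i) := fun i => by
    have := (hpo i).w
    exact congrArg CommRingCat.Hom.hom this
  have : ∀ i, IsScalarTower A C (C' i) := fun i =>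
    IsScalarTower.of_algebraMap_eq (fun x => rfl)
  have : ∀ i, IsScalarTower A (A' i) (C' i) := fun i =>
    IsScalarTower.of_algebraMap_eq (fun x => congrFun (congrArg DFunLike.coe (hcomm i)) x)
  have hpo' : ∀ i, Algebra.IsPushout A C (A' i) (C' i) := fun i =>
    (CommRingCat.isPushout_iff_isPushout (R := A) (R' := C) (S := A' i) (S' := C' i)).mp (hpo i)
  let _ : Algebra (Π i, A' i) (Π i, C' i) :=
    (RingHom.pi fun i => (φ' i).comp (Pi.evalRingHom A' i)).toAlgebra
  have : @IsScalarTower A (Π i, A' i) (Π i, C' i) Algebra.toSMul Algebra.toSMul Algebra.toSMul :=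
    IsScalarTower.of_algebraMap_eq (fun x => by
      ext i
      exact IsScalarTower.algebraMap_apply A (A' i) (C' i) x)
  have hbc : Algebra.IsPushout A C (Π i, A' i) (Π i, C' i) := by
    constructor
    have h1 := IsBaseChange.pi (R := A) (S := C)
      (fun i => (IsScalarTower.toAlgHom A (A' i) (C' i)).toLinearMap) (fun i => (hpo' i).out)
    exact h1
  have : ∀ i, Module.Flat A (A' i) := hflat
  have hflat' : Module.Flat A (Π i, A' i) :=
    Module.Flat.of_linearEquiv (DFinsupp.linearEquivFunOnFintype (R := A) (M := A')).symm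
  have hff : Module.FaithfullyFlat A (Π i, A' i) :=
    Module.FaithfullyFlat.of_comap_surjective (fun 𝔭 => by
      obtain ⟨i, 𝔮, h𝔮⟩ := hsurj 𝔭
      refine ⟨PrimeSpectrum.comap (Pi.evalRingHom A' i) 𝔮, ?_⟩
      rw [← h𝔮, ← PrimeSpectrum.comap_comp_apply]
      rfl)
  have hL : LCI.IsLCI (Π i, A' i) (Π i, C' i) := lciHom_pi A' C' φ' h
  have hsymm : Algebra.IsPushout A (Π i, A' i) C (Π i, C' i) := hbc.symm
  let e : (Π i, A' i) ⊗[A] C ≃ₐ[Π i, A' i] (Π i, C' i) :=
    Algebra.IsPushout.equiv A (Π i, A' i) C (Π i, C' i)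
  have hL' : LCI.IsLCI (Π i, A' i) ((Π i, A' i) ⊗[A] C) := isLCI_of_algEquiv e.symm hL
  exact isLCI_of_faithfullyFlat_tensor A (Π i, A' i) C hL'

end family

end Groth.Agent.Lib.LCIDescent
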