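import Mathlib
import Groth.Prelude.Def_LCI2
import Groth.Prelude.Def_CotT2
import Groth.Agent.Lib.T2Syz
import Groth.Agent.Lib.SyzLoc
import Groth.Agent.Lib.ConormalKoszul32
import Groth.Agent.Lib.KoszulRel2

/-!
# `T² = 0` for a presentation whose kernel is a Koszul-regular ideal

* `syz_of_h1`: if an ideal `I` is generated by an `H₁`-regular family `l` (all relations trivial), then for ANY generating
  family `F` of `I`, a relation among the `F s` with coefficients in `I` is a combination of trivial relations;
* `triv_of_isH1Regular`: the prelude's `CAlgX.IsH1Regular` in `Finsupp` form;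
* `syz_of_isKoszulRegularIdeal`: the syzygy condition `Q ∩ IF ⊆ F₀` for a presentation with Koszul-regular kernel;
* `subsingleton_T2_of_isKoszulRegularIdeal`: hence `T²(P, M) = 0` for all `M`.
-/

set_option autoImplicit false
set_option linter.unusedVariables false
set_option linter.unusedSectionVars false

universe u

namespace Groth.Agent.Lib.LCIT2

open Groth.Agent.Lib.SyzLoc

section Gen

variable {R : Type*} [CommRing R] {σ τ : Type*}

local notation "lc" => Finsupp.linearCombination R

theorem map_triv_le (F : σ → R) (l : τ → R) (φ : (τ →₀ R) →ₗ[R] (σ →₀ R))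
    (hφ : ∀ x, lc F (φ x) = lc l x) : (triv l).map φ ≤ triv F := by
  unfold triv
  rw [Submodule.map_span]
  refine Submodule.span_le.mpr ?_
  rintro _ ⟨_, ⟨a, b, rfl⟩, rfl⟩
  refine Submodule.subset_span ⟨φ a, φ b, ?_⟩
  rw [map_sub, map_smul, map_smul, hφ, hφ]

theorem smul_mem_triv (F : σ → R) {i : R} (hi : i ∈ Ideal.span (Set.range F)) {z : σ →₀ R}
    (hz : lc F z = 0) : i • z ∈ triv F := by
  have hi' : i ∈ LinearMap.range (lc F) := by
    rw [Finsupp.range_linearCombination]
    exact hi
  obtain ⟨a, rfl⟩ := hi'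
  have : lc F a • z = lc F a • z - lc F z • a := by rw [hz, zero_smul, sub_zero]
  rw [this]
  exact Submodule.subset_span ⟨a, z, rfl⟩

theorem lc_linearCombination (F : σ → R) (l : τ → R) (a : σ → (τ →₀ R)) (ha : ∀ s, lc l (a s) = F s)
    (x : σ →₀ R) : lc l (Finsupp.linearCombination R a x) = lc F x := by
  have h : (lc l) ∘ₗ (Finsupp.linearCombination R a) = lc F := by
    refine Finsupp.lhom_ext' fun s => LinearMap.ext_ring ?_
    simp only [LinearMap.coe_comp, Function.comp_apply, Finsupp.lsingle_apply,
      Finsupp.linearCombination_single, one_smul]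
    exact ha s
  exact LinearMap.congr_fun h x

/-- change of generators: an ideal generated by a family all of whose relations are trivial satisfies the syzygy condition
for every generating family. -/
theorem syz_of_h1 (F : σ → R) (l : τ → R)
    (hspan : Ideal.span (Set.range F) = Ideal.span (Set.range l))
    (hl : ∀ x : τ →₀ R, lc l x = 0 → x ∈ triv l)
    (q : σ →₀ R) (hq : lc F q = 0) (hc : ∀ s, q s ∈ Ideal.span (Set.range F)) : q ∈ triv F := by
  classical
  have hF : ∀ s, ∃ a : τ →₀ R, lc l a = F s := by
    intro s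
    have h1 : F s ∈ LinearMap.range (lc l) := by
      rw [Finsupp.range_linearCombination]
      change F s ∈ Ideal.span (Set.range l)
      rw [← hspan]
      exact Ideal.subset_span ⟨s, rfl⟩
    exact h1
  have hL : ∀ t, ∃ b : σ →₀ R, lc F b = l t := by
    intro t
    have h1 : l t ∈ LinearMap.range (lc F) := by
      rw [Finsupp.range_linearCombination]
      change l t ∈ Ideal.span (Set.range F)
      rw [hspan]
      exact Ideal.subset_span ⟨t, rfl⟩
    exact h1
  choose a ha using hF
  choose b hb using hL
  let α : (σ →₀ R) →ₗ[R] (τ →₀ R) := Finsupp.linearCombination R a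
  let β : (τ →₀ R) →ₗ[R] (σ →₀ R) := Finsupp.linearCombination R b
  have hα : ∀ x, lc l (α x) = lc F x := lc_linearCombination F l a ha
  have hβ : ∀ y, lc F (β y) = lc l y := lc_linearCombination l F b hb
  have h1 : α q ∈ triv l := hl _ (by rw [hα, hq])
  have h2 : β (α q) ∈ triv F := map_triv_le F l β hβ ⟨_, h1, rfl⟩
  have h3 : ∀ x : σ →₀ R, lc F (x - β (α x)) = 0 := fun x => by
    rw [map_sub, hβ, hα, sub_self]
  have h4 : q - β (α q) ∈ triv F := by
    have e : q - β (α q) = q.sum fun s r => r • (Finsupp.single s 1 - β (α (Finsupp.single s 1))) := by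
      conv_lhs => rw [← Finsupp.sum_single q]
      rw [Finsupp.sum, map_sum, map_sum, ← Finset.sum_sub_distrib]
      refine Finset.sum_congr rfl fun s _ => ?_
      have h5 : (Finsupp.single s (q s) : σ →₀ R) = q s • Finsupp.single s 1 := by
        rw [Finsupp.smul_single, smul_eq_mul, mul_one]
      rw [h5, map_smul, map_smul]
      exact (smul_sub _ _ _).symm
    rw [e]
    refine Submodule.sum_mem _ fun s _ => ?_
    exact smul_mem_triv F (hc s) (h3 _)
  have h5 : q = (q - β (α q)) + β (α q) := by abel
  rw [h5]
  exact Submodule.add_mem _ h4 h2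

/-- the prelude's `H₁`-regularity in `Finsupp` form. -/
theorem triv_of_isH1Regular {R : Type u} [CommRing R] {c : ℕ} (f : Fin c → R)
    (hf : CAlgX.IsH1Regular f) (x : Fin c →₀ R) (hx : Finsupp.linearCombination R f x = 0) :
    x ∈ triv f := by
  classical
  let e := Finsupp.linearEquivFunOnFinite R R (Fin c)
  have h1 : ∑ i, (e x) i * f i = 0 := by
    have h0 : Finsupp.linearCombination R f x = ∑ i, x i * f i := by
      rw [Finsupp.linearCombination_apply]
      exact Finsupp.sum_fintype x (fun i a => a • f i) (fun i => zero_smul _ _)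
    rw [← hx, h0]
    rfl
  have h2 := hf (e x) h1
  have h3 : x = e.symm (e x) := (e.symm_apply_apply x).symm
  rw [h3]
  have hle : (Submodule.span R {v : Fin c → R | ∃ i j : Fin c,
      v = Pi.single i (f j) - Pi.single j (f i)}).map (e.symm : (Fin c → R) →ₗ[R] (Fin c →₀ R)) ≤
      triv f := by
    rw [Submodule.map_span]
    refine Submodule.span_le.mpr ?_
    rintro _ ⟨_, ⟨i, j, rfl⟩, rfl⟩
    refine Submodule.subset_span ⟨Finsupp.single j 1, Finsupp.single i 1, ?_⟩
    rw [Finsupp.linearCombination_single, Finsupp.linearCombination_single, one_smul, one_smul,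
      Finsupp.smul_single, Finsupp.smul_single, smul_eq_mul, smul_eq_mul, mul_one, mul_one]
    change e.symm (Pi.single i (f j) - Pi.single j (f i)) = _
    rw [map_sub]
    congr 1
    · exact Finsupp.linearEquivFunOnFinite_symm_single R R (Fin c) i (f j)
    · exact Finsupp.linearEquivFunOnFinite_symm_single R R (Fin c) j (f i)
  exact hle ⟨_, h2, rfl⟩

end Gen

section Pres

open CotT

variable {A B : Type u} [CommRing A] [CommRing B] [Algebra A B] {ι σ : Type u}
  (P : Algebra.Presentation A B ι σ)

theorem trivRel_eq_triv : trivRel P = triv (rel P) := rfl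

/-- the syzygy condition `Q ∩ IF ⊆ F₀` for a presentation whose kernel is a Koszul-regular ideal. -/
theorem syz_of_isKoszulRegularIdeal (hK : LCI.IsKoszulRegularIdeal P.toExtension.ker)
    (q : relMod P) (hq : q ∈ relKer P) (hc : ∀ s, q s ∈ P.toExtension.ker) : q ∈ trivRel P := by
  classical
  by_contra hcon
  let 𝔞 : Ideal P.toExtension.Ring :=
    { carrier := {r | r • q ∈ trivRel P}
      add_mem' := fun {a b} ha hb => by
        change (a + b) • q ∈ trivRel P
        rw [add_smul]
        exact Submodule.add_mem _ ha hb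
      zero_mem' := by
        change (0 : P.toExtension.Ring) • q ∈ trivRel P
        rw [zero_smul]
        exact Submodule.zero_mem _
      smul_mem' := fun c {a} ha => by
        change (c • a) • q ∈ trivRel P
        rw [smul_assoc]
        exact Submodule.smul_mem _ _ ha }
  have h𝔞 : ∀ r, r ∈ 𝔞 ↔ r • q ∈ trivRel P := fun r => Iff.rfl
  have hI𝔞 : P.toExtension.ker ≤ 𝔞 := by
    intro i hi
    exact Groth.Agent.Lib.T2Syz.smul_mem_trivRel P hi hq
  have h𝔞top : 𝔞 ≠ ⊤ := by
    intro h
    have : (1 : P.toExtension.Ring) ∈ 𝔞 := h ▸ Submodule.mem_top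
    rw [h𝔞, one_smul] at this
    exact hcon this
  obtain ⟨𝔪, h𝔪max, h𝔪le⟩ := Ideal.exists_le_maximal _ h𝔞top
  have h𝔪p : 𝔪.IsPrime := h𝔪max.isPrime
  obtain ⟨g, hg, l, hl, hspan⟩ := hK ⟨𝔪, h𝔪p⟩ (hI𝔞.trans h𝔪le)
  -- the local computation in `R_g`
  let R' := Localization.Away g
  let F' : σ → R' := fun s => algebraMap P.toExtension.Ring R' (rel P s)
  have hker : P.toExtension.ker = Ideal.span (Set.range (rel P)) :=
    P.span_range_relation_eq_ker.symm
  have hspanF : Ideal.span (Set.range F') = Ideal.span (Set.range l.get) := by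
    rw [Set.range_list_get, ← hspan, hker, Ideal.map_span, ← Set.range_comp]
    rfl
  have h1reg : CAlgX.IsH1Regular l.get :=
    Groth.Agent.Lib.KoszulRel.isH1Regular_get_of_isKoszulRegularSeq l hl
  let q' : σ →₀ R' := Finsupp.mapRange (algebraMap P.toExtension.Ring R') (map_zero _) q
  have hq' : Finsupp.linearCombination R' F' q' = 0 := by
    have := linearCombination_mapRange (R₂ := R') (rel P) q
    have hq0 : Finsupp.linearCombination P.toExtension.Ring (rel P) q = 0 := hq
    rw [hq0, map_zero] at this
    exact this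
  have hc' : ∀ s, q' s ∈ Ideal.span (Set.range F') := by
    intro s
    have h2 : q' s = algebraMap P.toExtension.Ring R' (q s) := rfl
    have h3 : Ideal.span (Set.range F') =
        (Ideal.span (Set.range (rel P))).map (algebraMap P.toExtension.Ring R') := by
      rw [Ideal.map_span, ← Set.range_comp]
      rfl
    rw [h2, h3, ← hker]
    exact Ideal.mem_map_of_mem _ (hc s)
  have h3 : q' ∈ triv F' :=
    syz_of_h1 F' l.get hspanF (triv_of_isH1Regular l.get h1reg) q' hq' hc'
  obtain ⟨s, hs, hsq⟩ := exists_smul_mem_triv (R₂ := R') (rel P) (Submonoid.powers g) q h3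
  obtain ⟨n, rfl⟩ := hs
  have h4 : g ^ n ∈ 𝔪 := h𝔪le ((h𝔞 _).mpr hsq)
  exact hg (h𝔪p.mem_of_pow_mem n h4)

/-- **`T² = 0` for a presentation with Koszul-regular kernel.** -/
theorem subsingleton_T2_of_isKoszulRegularIdeal (hK : LCI.IsKoszulRegularIdeal P.toExtension.ker)
    (M : Type u) [AddCommGroup M] [Module B M] : Subsingleton (T2 P M) := by
  have hproj : Module.Projective B P.toExtension.Cotangent :=
    (Groth.Agent.Lib.ConormalKoszul32.finite_projective_cotangent P.toExtension hK).2
  exact Groth.Agent.Lib.T2Syz.subsingleton_T2_of_syz P (syz_of_isKoszulRegularIdeal P hK) M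

end Pres

end Groth.Agent.Lib.LCIT2
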