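import Groth.Agent.Lib.KanCounit
import Groth.Agent.Lib.DCopower
import Groth.Agent.Lib.DDetect
import Mathlib.Algebra.Category.ModuleCat.Projective

/-!
# Abstract left derived functors with values in `D(B)` are computed on K-projective complexes

Let `F : K(A) ⥤ D(B)` be a functor from the homotopy category of complexes of `A`-modules, and let `(LF, α)` be
a right Kan extension of `F` along `Qh : K(A) ⥤ D(A)` (for instance a total left derived functor given by an
existence hypothesis).  If `P₀` is a K-projective complex and `F.obj P₀` is isomorphic to `Q.obj T` with `T`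
K-projective over `B`, then the counit `α.app P₀ : LF.obj (Qh.obj P₀) ⟶ F.obj P₀` is an isomorphism.
No K-projective resolutions of unbounded complexes are used: the argument is formal
(`Groth.Agent.Lib.KanCounit.main`) given copowers in `D(B)` of K-projective complexes
(`Groth.Agent.Lib.DCopower`) and the detection of isomorphisms by projectives in one degree
(`Groth.Agent.Lib.DDetect`).
-/

set_option autoImplicit false
universe w w' u

open CategoryTheory CategoryTheory.Limits Category

namespace Groth.Agent.Lib.LDerivedKProj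

open DerivedCategory

variable {A B : Type u} [Ring A] [Ring B]
  [HasDerivedCategory.{w} (ModuleCat.{u} A)] [HasDerivedCategory.{w'} (ModuleCat.{u} B)]

/-- Hom-sets out of a K-projective complex in `D(A)` are `u`-small. -/
lemma small_hom (P₀ : CochainComplex (ModuleCat.{u} A) ℤ) [P₀.IsKProjective]
    (Y : DerivedCategory (ModuleCat.{u} A)) :
    Small.{u} (Qh.obj ((HomotopyCategory.quotient _ _).obj P₀) ⟶ Y) := by
  let Y₀ := Q.objPreimage Y
  let e : Q.obj Y₀ ≅ Y := Q.objObjPreimageIso Y
  let i : Qh.obj ((HomotopyCategory.quotient _ _).obj P₀) ≅ Q.obj P₀ :=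
    (quotientCompQhIso (ModuleCat.{u} A)).app P₀
  let Φ : (P₀ ⟶ Y₀) → (Qh.obj ((HomotopyCategory.quotient _ _).obj P₀) ⟶ Y) :=
    fun g => i.hom ≫ Q.map g ≫ e.hom
  have hΦ : Function.Surjective Φ := by
    intro f
    obtain ⟨g, hg⟩ := Groth.Agent.Lib.DCopower.exists_Q_map_eq P₀ Y₀ (i.inv ≫ f ≫ e.inv)
    refine ⟨g, ?_⟩
    simp [Φ, hg]
  exact small_of_surjective hΦ

variable (F : HomotopyCategory (ModuleCat.{u} A) (ComplexShape.up ℤ) ⥤ DerivedCategory (ModuleCat.{u} B))
  (LF : DerivedCategory (ModuleCat.{u} A) ⥤ DerivedCategory (ModuleCat.{u} B))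
  (α : Qh ⋙ LF ⟶ F) [LF.IsRightKanExtension α]

include α in
theorem isIso_counit_app (P₀ : CochainComplex (ModuleCat.{u} A) ℤ) [P₀.IsKProjective]
    (T : CochainComplex (ModuleCat.{u} B) ℤ) [T.IsKProjective]
    (eT : F.obj ((HomotopyCategory.quotient _ _).obj P₀) ≅ Q.obj T) :
    IsIso (α.app ((HomotopyCategory.quotient _ _).obj P₀)) := by
  set P := (HomotopyCategory.quotient (ModuleCat.{u} A) (ComplexShape.up ℤ)).obj P₀ with hP
  have hbij := fun X => CochainComplex.IsKProjective.Qh_map_bijective P₀ X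
  have hsurj : ∀ (X : HomotopyCategory (ModuleCat.{u} A) (ComplexShape.up ℤ))
      (g : Qh.obj P ⟶ Qh.obj X), ∃ f : P ⟶ X, Qh.map f = g := fun X g => (hbij X).surjective g
  have hF : ∀ (X : HomotopyCategory (ModuleCat.{u} A) (ComplexShape.up ℤ)) (f f' : P ⟶ X),
      Qh.map f = Qh.map f' → F.map f = F.map f' := fun X f f' h => by
    rw [(hbij X).injective h]
  have hsmall : ∀ Y : DerivedCategory (ModuleCat.{u} A), Small.{u} (Qh.obj P ⟶ Y) :=
    fun Y => small_hom P₀ Y
  have hcopQ : ∀ (T' : CochainComplex (ModuleCat.{u} B) ℤ) [T'.IsKProjective]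
      (Y : DerivedCategory (ModuleCat.{u} A)),
      HasCoproduct (fun _ : (Qh.obj P ⟶ Y) => (Q.obj T' : DerivedCategory (ModuleCat.{u} B))) :=
    fun T' _ Y => Groth.Agent.Lib.DCopower.hasCoproduct_of_small
  have hcopF : ∀ Y : DerivedCategory (ModuleCat.{u} A),
      HasCoproduct (fun _ : (Qh.obj P ⟶ Y) => F.obj P) := fun Y => by
    have := hcopQ T Y
    exact hasCoproduct_of_equiv_of_iso (fun _ : (Qh.obj P ⟶ Y) => Q.obj T) _ (Equiv.refl _)
      (fun _ => eT)
  obtain ⟨σ, hσ, hσ'⟩ := Groth.Agent.Lib.KanCounit.main Qh F LF α P hsurj hF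
  have he : IsIso (α.app P ≫ σ) := by
    apply Groth.Agent.Lib.DDetect.isIso_of_comp_eq
    intro n P' _ t
    have := hcopQ (Groth.Agent.Lib.DDetect.sg n P')
    exact hσ' _ t
  have hid : α.app P ≫ σ = 𝟙 _ := by
    have h2 : (α.app P ≫ σ) ≫ (α.app P ≫ σ) = (α.app P ≫ σ) ≫ 𝟙 _ := by
      rw [assoc, reassoc_of% hσ, comp_id]
    exact (cancel_epi _).mp h2
  exact ⟨σ, hid, hσ⟩

end Groth.Agent.Lib.LDerivedKProj
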