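import Groth.Agent.Lib.LGRingIso
import Mathlib.LinearAlgebra.TensorProduct.Quotient
import Mathlib.RingTheory.Ideal.Quotient.Operations

/-!
# A determinant trick over LG-rings

Over an LG-ring `R`, let `N` be a finite projective module and `θ_l` a finite family of endomorphisms
of `N`, `μ_l` polynomials.  If for every maximal ideal `m` some `R`-point `s` makes
`∑ μ_l(s) θ_l` congruent to the identity modulo `m`, then some `R`-point makes it bijective.
-/

set_option autoImplicit false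
universe u v w

namespace Groth.Agent.Lib.LGAzumaya16

open MvPolynomial Matrix

section DetLemma

variable {R : Type u} [CommRing R] {N : Type v} [AddCommGroup N] [Module R N] {n : ℕ}
  (π : (Fin n → R) →ₗ[R] N) (ι : N →ₗ[R] (Fin n → R))

/-- the matrix `[ι θ π] + 1 - [ι π]`. -/
noncomputable def padMat (θ : N →ₗ[R] N) : Matrix (Fin n) (Fin n) R :=
  LinearMap.toMatrix' (ι ∘ₗ θ ∘ₗ π) + 1 - LinearMap.toMatrix' (ι ∘ₗ π)

theorem toMatrix'_mulVec' {a b : ℕ} (f : (Fin a → R) →ₗ[R] (Fin b → R)) (v : Fin a → R) :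
    LinearMap.toMatrix' f *ᵥ v = f v := by
  rw [← Matrix.toLin'_apply, Matrix.toLin'_toMatrix']

theorem padMat_mulVec (θ : N →ₗ[R] N) (v : Fin n → R) :
    padMat π ι θ *ᵥ v = ι (θ (π v)) + v - ι (π v) := by
  rw [padMat, Matrix.sub_mulVec, Matrix.add_mulVec, Matrix.one_mulVec, toMatrix'_mulVec',
    toMatrix'_mulVec']
  rfl

theorem bijective_of_isUnit_det_padMat (h : ∀ x, π (ι x) = x) (θ : N →ₗ[R] N)
    (hdet : IsUnit (padMat π ι θ).det) : Function.Bijective θ := by
  have hT := (Matrix.isUnit_iff_isUnit_det _).mpr hdet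
  have hinj := Matrix.mulVec_injective_of_isUnit hT
  have hsurj := Matrix.mulVec_surjective_iff_isUnit.mpr hT
  constructor
  · rw [← LinearMap.ker_eq_bot, LinearMap.ker_eq_bot']
    intro x hx
    have h0 : padMat π ι θ *ᵥ (ι x) = padMat π ι θ *ᵥ 0 := by
      rw [padMat_mulVec, Matrix.mulVec_zero, h, hx, map_zero]
      simp
    have h1 := hinj h0
    rw [← h x, h1, map_zero]
  · intro y
    obtain ⟨v, hv⟩ := hsurj (ι y)
    refine ⟨π v, ?_⟩
    have := congrArg π hv
    rw [padMat_mulVec, map_sub, map_add, h, h, h] at this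
    simpa using this

theorem padMat_map_eq_one (m : Ideal R) (h : ∀ x, π (ι x) = x) (θ : N →ₗ[R] N)
    (hθ : ∀ z : N, θ z - z ∈ m • (⊤ : Submodule R N)) :
    (padMat π ι θ).map (Ideal.Quotient.mk m) = 1 := by
  have hι : ∀ z ∈ m • (⊤ : Submodule R N), ∀ k, ι z k ∈ m := by
    intro z hz
    refine Submodule.smul_induction_on hz ?_ ?_
    · intro r hr x _ k
      rw [map_smul, Pi.smul_apply, smul_eq_mul]
      exact Ideal.mul_mem_right _ _ hr
    · intro x y hx hy k
      rw [map_add, Pi.add_apply]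
      exact Ideal.add_mem _ (hx k) (hy k)
  ext k l
  rw [Matrix.map_apply, padMat, Matrix.sub_apply, Matrix.add_apply, LinearMap.toMatrix'_apply,
    LinearMap.toMatrix'_apply]
  have h1 : (ι ∘ₗ θ ∘ₗ π) (Pi.single l 1) k + (1 : Matrix (Fin n) (Fin n) R) k l -
      (ι ∘ₗ π) (Pi.single l 1) k =
      ι (θ (π (Pi.single l 1)) - π (Pi.single l 1)) k + (1 : Matrix (Fin n) (Fin n) R) k l := by
    simp only [LinearMap.comp_apply, map_sub, Pi.sub_apply]
    ring
  rw [h1, map_add, Ideal.Quotient.eq_zero_iff_mem.mpr (hι _ (hθ _) k), zero_add]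
  by_cases hkl : k = l
  · subst hkl; simp
  · simp [Matrix.one_apply_ne hkl]

end DetLemma

section Main

variable {R : Type u} [CommRing R] {N : Type v} [AddCommGroup N] [Module R N]

theorem exists_bijective_of_forall_maximal (hR : LGRing.IsLGRing R)
    [Module.Finite R N] [Module.Projective R N]
    {σ L : Type} [Fintype σ] [Fintype L] (μ : L → MvPolynomial σ R) (θ : L → N →ₗ[R] N)
    (h : ∀ (m : Ideal R) [m.IsMaximal], ∃ s : σ → R, ∀ z : N,
      (∑ l, (aeval s (μ l)) • θ l) z - z ∈ m • (⊤ : Submodule R N)) :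
    ∃ s : σ → R, Function.Bijective (∑ l, (aeval s (μ l)) • θ l : N →ₗ[R] N) := by
  classical
  obtain ⟨n, π, ι, -, -, hπι⟩ := Module.Finite.exists_comp_eq_id_of_projective R N
  have hπι' : ∀ x, π (ι x) = x := fun x => LinearMap.congr_fun hπι x
  let Cm : L → Matrix (Fin n) (Fin n) R := fun l => LinearMap.toMatrix' (ι ∘ₗ θ l ∘ₗ π)
  let E : Matrix (Fin n) (Fin n) R := LinearMap.toMatrix' (ι ∘ₗ π)
  let Pm : Matrix (Fin n) (Fin n) (MvPolynomial σ R) :=
    Matrix.of fun k k' => ∑ l, μ l * C (Cm l k k') + C ((1 - E) k k')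
  have key : ∀ s : σ → R, aeval s Pm.det = (padMat π ι (∑ l, (aeval s (μ l)) • θ l)).det := by
    intro s
    rw [AlgHom.map_det]
    congr 1
    ext k k'
    have hcomp : ι ∘ₗ (∑ l, (aeval s (μ l)) • θ l) ∘ₗ π = ∑ l, (aeval s (μ l)) • (ι ∘ₗ θ l ∘ₗ π) := by
      refine LinearMap.ext fun v => ?_
      simp only [LinearMap.comp_apply, LinearMap.sum_apply, LinearMap.smul_apply, map_sum,
        map_smul]
    rw [AlgHom.mapMatrix_apply, Matrix.map_apply, padMat, hcomp, map_sum]
    simp only [Pm, Matrix.of_apply, map_add, map_sum, map_mul, aeval_C, Algebra.algebraMap_self,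
      RingHom.id_apply, Matrix.sub_apply, Matrix.add_apply, Matrix.sum_apply, map_smul,
      Matrix.smul_apply, smul_eq_mul, Cm, E]
    ring
  have hres : ∀ (m : Ideal R) [m.IsMaximal], LGRing.RepresentsUnit Pm.det (R ⧸ m) := by
    intro m hm
    obtain ⟨s, hs⟩ := h m
    refine ⟨algebraMap R (R ⧸ m) ∘ s, ?_⟩
    have hcomm := (MvPolynomial.comp_aeval_apply (f := s) (Algebra.ofId R (R ⧸ m)) Pm.det).symm
    have hfun : (fun i => (Algebra.ofId R (R ⧸ m)) (s i)) = algebraMap R (R ⧸ m) ∘ s := rfl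
    rw [hfun] at hcomm
    rw [hcomm, key, Algebra.ofId_apply, Ideal.Quotient.algebraMap_eq, RingHom.map_det,
      RingHom.mapMatrix_apply, padMat_map_eq_one π ι m hπι' _ hs, Matrix.det_one]
    exact isUnit_one
  obtain ⟨s, hs⟩ := Groth.Agent.Lib.LGRingIso.representsUnit_of_fintype hR _ hres
  rw [key] at hs
  exact ⟨s, bijective_of_isUnit_det_padMat π ι hπι' _ hs⟩

end Main

end Groth.Agent.Lib.LGAzumaya16
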