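import Groth.Agent.Lib.LGAzumaya16
import Groth.Agent.Lib.CSAModules
import Mathlib.RingTheory.TensorProduct.Maps
import Mathlib.RingTheory.TensorProduct.Finite
import Mathlib.LinearAlgebra.DFinsupp

/-!
# Finite projective modules over algebras with simple fibres over LG-rings

`R` an LG ring, `A` a finite projective `R`-algebra all of whose fibres `R/m ⊗ A` are simple rings
(e.g. an Azumaya algebra), `M`, `N` finite projective `A`-modules with
`dim (R/m ⊗ N) ≤ dim (R/m ⊗ M)` for every maximal ideal `m`.  Then `N` is a direct summand of `M`.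
-/

set_option autoImplicit false
universe u v w w' u'
open scoped TensorProduct

namespace Groth.Agent.Lib.LGAzumaya16

open Groth.Agent.Lib.CSA

section Tower

variable (R : Type u) [CommRing R] (A : Type v) [Ring A] [Algebra R A]
  (M : Type w) [AddCommGroup M] [Module A M] [Module R M] [IsScalarTower R A M]

theorem projective_of_tower [Module.Projective R A] [Module.Finite A M] [Module.Projective A M] :
    Module.Projective R M := by
  obtain ⟨k, p, s, -, -, hps⟩ := Module.Finite.exists_comp_eq_id_of_projective A M
  have : Module.Projective R (Fin k → A) :=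
    Module.Projective.of_equiv' (DFinsupp.linearEquivFunOnFintype (R := R) (M := fun _ : Fin k => A))
  refine Module.Projective.of_split (s.restrictScalars R) (p.restrictScalars R) ?_
  ext x
  exact LinearMap.congr_fun hps x

variable (N : Type w') [AddCommGroup N] [Module A N] [Module R N] [IsScalarTower R A N]

/-- `Hom_A(M, N)` is a finite `R`-module. -/
theorem finite_linearMap_tower [Module.Finite A M] [Module.Projective A M] [Module.Finite R N] :
    Module.Finite R (M →ₗ[A] N) := by
  obtain ⟨k, p, s, -, -, hps⟩ := Module.Finite.exists_comp_eq_id_of_projective A M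
  have hps' : ∀ x, p (s x) = x := fun x => LinearMap.congr_fun hps x
  let F : (Fin k → N) →ₗ[R] (M →ₗ[A] N) :=
    { toFun := fun n =>
        { toFun := fun v => ∑ i, s v i • n i
          map_add' := fun v w => by
            simp only [map_add, Pi.add_apply, add_smul, Finset.sum_add_distrib]
          map_smul' := fun a v => by
            simp only [map_smul, Pi.smul_apply, smul_eq_mul, mul_smul, RingHom.id_apply,
              Finset.smul_sum] }
      map_add' := fun n n' => by
        ext v
        simp only [LinearMap.coe_mk, AddHom.coe_mk, Pi.add_apply, smul_add,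
          Finset.sum_add_distrib, LinearMap.add_apply]
      map_smul' := fun r n => by
        ext v
        simp only [LinearMap.coe_mk, AddHom.coe_mk, Pi.smul_apply, RingHom.id_apply,
          LinearMap.smul_apply, Finset.smul_sum]
        refine Finset.sum_congr rfl fun i _ => ?_
        rw [smul_comm] }
  have hF : Function.Surjective F := by
    intro φ
    refine ⟨fun i => φ (p (Pi.single i 1)), ?_⟩
    ext v
    change ∑ i, s v i • φ (p (Pi.single i 1)) = φ v
    simp only [← map_smul, ← map_sum]
    congr 1
    conv_rhs => rw [← hps' v]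
    congr 1
    ext j
    simp [Finset.sum_apply, Pi.single_apply]
  exact Module.Finite.of_surjective F hF

end Tower

section Simple

variable {k : Type u} [Field k] {B : Type v} [Ring B] [Algebra k B] [IsSimpleRing B]
  [FiniteDimensional k B]

/-- Over a finite-dimensional simple algebra, a module of smaller dimension is a direct summand. -/
theorem exists_comp_eq_id_of_finrank_le
    {M : Type w} {N : Type w} [AddCommGroup M] [Module k M] [Module B M] [IsScalarTower k B M]
    [AddCommGroup N] [Module k N] [Module B N] [IsScalarTower k B N]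
    [FiniteDimensional k M] [FiniteDimensional k N]
    (h : Module.finrank k N ≤ Module.finrank k M) :
    ∃ (φ : M →ₗ[B] N) (ψ : N →ₗ[B] M), φ ∘ₗ ψ = LinearMap.id := by
  have : IsArtinianRing B := IsArtinianRing.of_finite k B
  obtain ⟨S₀, hS₀⟩ := ((IsSimpleRing.tfae (R := B)).out 1 2).mp this
  have : IsSimpleModule B S₀ := isSimpleModule_iff_isAtom.mpr hS₀
  have : Module.Finite B M := Module.Finite.of_restrictScalars_finite k B M
  have : Module.Finite B N := Module.Finite.of_restrictScalars_finite k B N
  obtain ⟨n, ⟨e⟩⟩ := (isIsotypicOfType_of_simple S₀ M).linearEquiv_fun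
  obtain ⟨n', ⟨e'⟩⟩ := (isIsotypicOfType_of_simple S₀ N).linearEquiv_fun
  have h1 : Module.finrank k M = n * Module.finrank k S₀ := by
    rw [(e.restrictScalars k).finrank_eq, Module.finrank_pi_fintype]
    simp
  have h2 : Module.finrank k N = n' * Module.finrank k S₀ := by
    rw [(e'.restrictScalars k).finrank_eq, Module.finrank_pi_fintype]
    simp
  have : Nontrivial S₀ := IsSimpleModule.nontrivial B S₀
  have hpos : 0 < Module.finrank k S₀ := Module.finrank_pos
  have hn : n' ≤ n := by
    rw [h1, h2] at h
    exact Nat.le_of_mul_le_mul_right h hpos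
  let pr : (Fin n → S₀) →ₗ[B] (Fin n' → S₀) :=
    LinearMap.pi fun j => LinearMap.proj (Fin.castLE hn j)
  let inc : (Fin n' → S₀) →ₗ[B] (Fin n → S₀) :=
    LinearMap.pi fun i => if hi : (i : ℕ) < n' then LinearMap.proj ⟨i, hi⟩ else 0
  have hpi : pr ∘ₗ inc = LinearMap.id := by
    ext x j
    simp [pr, inc]
  refine ⟨e'.symm.toLinearMap ∘ₗ pr ∘ₗ e.toLinearMap, e.symm.toLinearMap ∘ₗ inc ∘ₗ e'.toLinearMap, ?_⟩
  ext x
  simp only [LinearMap.comp_apply, LinearEquiv.coe_coe, LinearEquiv.apply_symm_apply,
    LinearMap.id_apply]
  have := LinearMap.congr_fun hpi (e' x)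
  simp only [LinearMap.comp_apply, LinearMap.id_apply] at this
  rw [this, LinearEquiv.symm_apply_apply]

end Simple

section Lift

/-- lifting semilinear maps along a surjection from a projective module. -/
theorem exists_lift_of_semilinear {A : Type u} [Ring A] {Abar : Type v} [Ring Abar] (ρ : A →+* Abar)
    {M : Type w} [AddCommGroup M] [Module A M] [Module.Projective A M]
    {N : Type w'} [AddCommGroup N] [Module A N]
    {Mbar : Type*} [AddCommGroup Mbar] [Module Abar Mbar]
    {Nbar : Type*} [AddCommGroup Nbar] [Module Abar Nbar]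
    (qM : M →+ Mbar) (qN : N →+ Nbar)
    (hqM : ∀ (a : A) (v : M), qM (a • v) = ρ a • qM v)
    (hqN : ∀ (a : A) (v : N), qN (a • v) = ρ a • qN v)
    (hsurj : Function.Surjective qN) (g : Mbar →ₗ[Abar] Nbar) :
    ∃ φ : M →ₗ[A] N, ∀ v, qN (φ v) = g (qM v) := by
  letI : Module A Nbar := Module.compHom Nbar ρ
  let qN' : N →ₗ[A] Nbar :=
    { toFun := qN
      map_add' := map_add qN
      map_smul' := fun a v => hqN a v }
  let gq : M →ₗ[A] Nbar :=
    { toFun := fun v => g (qM v)
      map_add' := fun v w => by rw [map_add, map_add]
      map_smul' := fun a v => by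
        rw [hqM, map_smul]
        rfl }
  obtain ⟨φ, hφ⟩ := Module.projective_lifting_property qN' gq hsurj
  exact ⟨φ, fun v => LinearMap.congr_fun hφ v⟩

end Lift

end Groth.Agent.Lib.LGAzumaya16
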