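import Groth.Agent.Lib.LGAzumaya16b

/-!
# Fibre representation and the main splitting theorem over LG rings
-/

set_option autoImplicit false
universe u v w w' u'
open scoped TensorProduct

namespace Groth.Agent.Lib.LGAzumaya16

open Groth.Agent.Lib.CSA

section FibreRep

variable (R : Type u) [CommRing R] (A : Type v) [Ring A] [Algebra R A]
  (κ : Type u') [Field κ] [Algebra R κ]
  (M : Type w) [AddCommGroup M] [Module A M] [Module R M] [IsScalarTower R A M]

/-- the action of `κ ⊗ A` on `κ ⊗ M`. -/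
noncomputable def fibreRep : κ ⊗[R] A →ₐ[κ] Module.End κ (κ ⊗[R] M) :=
  (LinearMap.tensorProductEnd R κ M).comp
    (Algebra.TensorProduct.map (AlgHom.id κ κ) (Algebra.lsmul R R M))

theorem fibreRep_tmul (c d : κ) (a : A) (v : M) :
    fibreRep R A κ M (c ⊗ₜ[R] a) (d ⊗ₜ[R] v) = (c * d) ⊗ₜ[R] (a • v) := by
  simp [fibreRep, LinearMap.tensorProductEnd, LinearMap.tensorProduct, TensorProduct.smul_tmul']

end FibreRep

section FibreLift

variable {R : Type u} [CommRing R] {A : Type v} [Ring A] [Algebra R A] [Module.Finite R A]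
  (κ : Type u') [Field κ] [Algebra R κ]
  {M : Type w} [AddCommGroup M] [Module A M] [Module R M] [IsScalarTower R A M]
  {N : Type w} [AddCommGroup N] [Module A N] [Module R N] [IsScalarTower R A N]

theorem exists_fibre_splitting (hκ : Function.Surjective (algebraMap R κ))
    [IsSimpleRing (κ ⊗[R] A)] [Module.Finite R M] [Module.Finite R N]
    [Module.Projective A M] [Module.Projective A N]
    (hle : Module.finrank κ (κ ⊗[R] N) ≤ Module.finrank κ (κ ⊗[R] M)) :
    ∃ (φ : M →ₗ[A] N) (ψ : N →ₗ[A] M), ∀ z : N,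
      (1 : κ) ⊗ₜ[R] φ (ψ z) = (1 : κ) ⊗ₜ[R] z := by
  have h0 := exists_comp_eq_id_of_finrank_le (k := κ) (B := κ ⊗[R] A)
    (M := RepModule (fibreRep R A κ M)) (N := RepModule (fibreRep R A κ N)) hle
  obtain ⟨φbar, ψbar, hφψ⟩ := h0
  have hmk_surj : ∀ (X : Type w) [AddCommGroup X] [Module R X],
      Function.Surjective (TensorProduct.mk R κ X 1) := by
    intro X _ _ x
    induction x using TensorProduct.induction_on with
    | zero => exact ⟨0, map_zero _⟩
    | tmul c v =>
      obtain ⟨r, rfl⟩ := hκ c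
      refine ⟨r • v, ?_⟩
      rw [map_smul, TensorProduct.mk_apply, TensorProduct.smul_tmul', Algebra.smul_def, mul_one]
    | add x y hx hy =>
      obtain ⟨a, rfl⟩ := hx
      obtain ⟨b, rfl⟩ := hy
      exact ⟨a + b, map_add _ _ _⟩
  let ρ : A →+* κ ⊗[R] A := (Algebra.TensorProduct.includeRight : A →ₐ[R] κ ⊗[R] A).toRingHom
  let qM : M →+ RepModule (fibreRep R A κ M) := (TensorProduct.mk R κ M 1).toAddMonoidHom
  let qN : N →+ RepModule (fibreRep R A κ N) := (TensorProduct.mk R κ N 1).toAddMonoidHom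
  have hqM : ∀ (a : A) (v : M), qM (a • v) = ρ a • qM v := by
    intro a v
    change (1 : κ) ⊗ₜ[R] (a • v) = fibreRep R A κ M ((1 : κ) ⊗ₜ[R] a) ((1 : κ) ⊗ₜ[R] v)
    rw [fibreRep_tmul, mul_one]
  have hqN : ∀ (a : A) (v : N), qN (a • v) = ρ a • qN v := by
    intro a v
    change (1 : κ) ⊗ₜ[R] (a • v) = fibreRep R A κ N ((1 : κ) ⊗ₜ[R] a) ((1 : κ) ⊗ₜ[R] v)
    rw [fibreRep_tmul, mul_one]
  obtain ⟨φ, hφ⟩ := exists_lift_of_semilinear ρ qM qN hqM hqN (hmk_surj N) φbar
  obtain ⟨ψ, hψ⟩ := exists_lift_of_semilinear ρ qN qM hqN hqM (hmk_surj M) ψbar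
  refine ⟨φ, ψ, fun z => ?_⟩
  change qN (φ (ψ z)) = qN z
  rw [hφ, hψ]
  exact LinearMap.congr_fun hφψ (qN z)

end FibreLift

end Groth.Agent.Lib.LGAzumaya16

namespace Groth.Agent.Lib.LGAzumaya16

open Groth.Agent.Lib.CSA

section MainSplit

variable {R : Type u} [CommRing R] {A : Type v} [Ring A] [Algebra R A]
  [Module.Finite R A] [Module.Projective R A]
  {M : Type w} [AddCommGroup M] [Module A M] [Module R M] [IsScalarTower R A M]
  {N : Type w} [AddCommGroup N] [Module A N] [Module R N] [IsScalarTower R A N]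

omit [Module.Finite R A] [Module.Projective R A] in
theorem sum_prod_smul_comp {a b : ℕ} (φ : Fin a → M →ₗ[A] N) (ψ : Fin b → N →ₗ[A] M)
    (x : Fin a → R) (y : Fin b → R) (z : N) :
    (∑ l : Fin a × Fin b, (x l.1 * y l.2) • ((φ l.1).comp (ψ l.2)).restrictScalars R) z =
      (∑ i, x i • φ i) ((∑ j, y j • ψ j) z) := by
  simp only [LinearMap.sum_apply, LinearMap.smul_apply, LinearMap.restrictScalars_apply,
    LinearMap.comp_apply, map_sum, Fintype.sum_prod_type, mul_smul]
  rw [Finset.sum_comm]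
  refine Finset.sum_congr rfl ?_
  intro j _
  refine Finset.sum_congr rfl ?_
  intro i _
  rw [LinearMap.map_smul_of_tower (φ i) (y j)]

/-- Main theorem: over an LG ring, for `A` finite projective with simple fibres, a finite projective
`A`-module `N` whose fibres are not larger than those of `M` is a direct summand of `M`. -/
theorem exists_comp_eq_id (hR : LGRing.IsLGRing R)
    (hA : ∀ (m : Ideal R) [m.IsMaximal], IsSimpleRing ((R ⧸ m) ⊗[R] A))
    [Module.Finite A M] [Module.Projective A M] [Module.Finite A N] [Module.Projective A N]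
    (hle : ∀ (m : Ideal R) [m.IsMaximal],
      Module.finrank (R ⧸ m) ((R ⧸ m) ⊗[R] N) ≤ Module.finrank (R ⧸ m) ((R ⧸ m) ⊗[R] M)) :
    ∃ (φ : M →ₗ[A] N) (ψ : N →ₗ[A] M), φ ∘ₗ ψ = LinearMap.id := by
  classical
  have hfM : Module.Finite R M := Module.Finite.trans A M
  have hfN : Module.Finite R N := Module.Finite.trans A N
  have hpN : Module.Projective R N := projective_of_tower R A N
  have hH1 : Module.Finite R (M →ₗ[A] N) := finite_linearMap_tower R A M N
  have hH2 : Module.Finite R (N →ₗ[A] M) := finite_linearMap_tower R A N M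
  obtain ⟨a, φ, hφ⟩ := Module.Finite.exists_fin (R := R) (M := M →ₗ[A] N)
  obtain ⟨b, ψ, hψ⟩ := Module.Finite.exists_fin (R := R) (M := N →ₗ[A] M)
  let μ : Fin a × Fin b → MvPolynomial (Fin a ⊕ Fin b) R :=
    fun l => MvPolynomial.X (Sum.inl l.1) * MvPolynomial.X (Sum.inr l.2)
  let θ : Fin a × Fin b → N →ₗ[R] N := fun l => ((φ l.1).comp (ψ l.2)).restrictScalars R
  have hμ : ∀ (x : Fin a → R) (y : Fin b → R) (l : Fin a × Fin b),
      MvPolynomial.aeval (Sum.elim x y) (μ l) = x l.1 * y l.2 := by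
    intro x y l
    simp [μ]
  have hmain := exists_bijective_of_forall_maximal hR μ θ (by
    intro m hm
    let _ : Field (R ⧸ m) := Ideal.Quotient.field m
    have : IsSimpleRing ((R ⧸ m) ⊗[R] A) := hA m
    obtain ⟨φ₀, ψ₀, h₀⟩ := exists_fibre_splitting (R := R) (A := A) (R ⧸ m) (M := M) (N := N)
      Ideal.Quotient.mk_surjective (hle m)
    obtain ⟨x, hx⟩ := (Submodule.mem_span_range_iff_exists_fun R).mp
      (hφ ▸ Submodule.mem_top : φ₀ ∈ Submodule.span R (Set.range φ))
    obtain ⟨y, hy⟩ := (Submodule.mem_span_range_iff_exists_fun R).mp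
      (hψ ▸ Submodule.mem_top : ψ₀ ∈ Submodule.span R (Set.range ψ))
    refine ⟨Sum.elim x y, fun z => ?_⟩
    simp only [hμ]
    rw [sum_prod_smul_comp φ ψ x y z, hx, hy]
    have h1 : (1 : R ⧸ m) ⊗ₜ[R] (φ₀ (ψ₀ z) - z) = 0 := by
      rw [TensorProduct.tmul_sub, h₀, sub_self]
    have h2 := congrArg (TensorProduct.quotTensorEquivQuotSMul N m) h1
    rw [TensorProduct.quotTensorEquivQuotSMul_mk_one_tmul, map_zero,
      Submodule.Quotient.mk_eq_zero] at h2
    exact h2)
  obtain ⟨s, hs⟩ := hmain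
  let x : Fin a → R := fun i => s (Sum.inl i)
  let y : Fin b → R := fun j => s (Sum.inr j)
  have hs' : s = Sum.elim x y := by
    funext i
    cases i <;> rfl
  let Φ : M →ₗ[A] N := ∑ i, x i • φ i
  let Ψ : N →ₗ[A] M := ∑ j, y j • ψ j
  have hbij : Function.Bijective (Φ ∘ₗ Ψ) := by
    have : ⇑(Φ ∘ₗ Ψ) = ⇑(∑ l, (MvPolynomial.aeval s (μ l)) • θ l : N →ₗ[R] N) := by
      funext z
      rw [hs']
      simp only [hμ]
      rw [sum_prod_smul_comp φ ψ x y z]
      rfl
    rw [this]
    exact hs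
  let e : N ≃ₗ[A] N := LinearEquiv.ofBijective (Φ ∘ₗ Ψ) hbij
  refine ⟨Φ, Ψ ∘ₗ e.symm.toLinearMap, ?_⟩
  ext z
  exact e.apply_symm_apply z

end MainSplit

end Groth.Agent.Lib.LGAzumaya16
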