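import Mathlib.Algebra.Algebra.Equiv
import Mathlib.LinearAlgebra.Span.Basic
import Mathlib.Algebra.Ring.Idempotent
import Mathlib.LinearAlgebra.TensorProduct.Basic

/-!
# Idempotents, isomorphic principal left ideals and corner algebras
-/

set_option autoImplicit false
universe u v w u₁ u₂

namespace Groth.Agent.Lib.LGAzumaya16

section Idem

variable {S : Type u} [Ring S] {x y : S}

theorem mul_eq_of_mem_span_singleton (hy : IsIdempotentElem y) {z : S}
    (hz : z ∈ Submodule.span S {y}) : z * y = z := by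
  obtain ⟨a, rfl⟩ := Submodule.mem_span_singleton.mp hz
  rw [smul_eq_mul, mul_assoc, hy.eq]

/-- An isomorphism of principal left ideals generated by idempotents is given by a pair of elements. -/
theorem exists_of_span_singleton_equiv (hx : IsIdempotentElem x) (hy : IsIdempotentElem y)
    (f : (Submodule.span S {x}) ≃ₗ[S] (Submodule.span S {y})) :
    ∃ α β : S, α * β = x ∧ β * α = y ∧ x * α = α ∧ α * y = α ∧ y * β = β ∧ β * x = β := by
  let X : Submodule.span S {x} := ⟨x, Submodule.mem_span_singleton_self x⟩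
  let Y : Submodule.span S {y} := ⟨y, Submodule.mem_span_singleton_self y⟩
  have hX : ∀ z : Submodule.span S {x}, z = (z : S) • X := by
    intro z
    apply Subtype.ext
    change (z : S) = (z : S) * x
    rw [mul_eq_of_mem_span_singleton hx z.2]
  have hY : ∀ z : Submodule.span S {y}, z = (z : S) • Y := by
    intro z
    apply Subtype.ext
    change (z : S) = (z : S) * y
    rw [mul_eq_of_mem_span_singleton hy z.2]
  refine ⟨(f X : S), (f.symm Y : S), ?_, ?_, ?_, ?_, ?_, ?_⟩
  · have h1 : f.symm (f X) = X := f.symm_apply_apply X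
    rw [hY (f X), map_smul] at h1
    exact congrArg Subtype.val h1
  · have h1 : f (f.symm Y) = Y := f.apply_symm_apply Y
    rw [hX (f.symm Y), map_smul] at h1
    exact congrArg Subtype.val h1
  · have h1 : f X = x • f X := by
      conv_lhs => rw [hX X, map_smul]
    exact (congrArg Subtype.val h1).symm
  · exact mul_eq_of_mem_span_singleton hy (f X).2
  · have h1 : f.symm Y = y • f.symm Y := by
      conv_lhs => rw [hY Y, map_smul]
    exact (congrArg Subtype.val h1).symm
  · exact mul_eq_of_mem_span_singleton hx (f.symm Y).2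

end Idem

section Corner

variable (R : Type u) [CommRing R] (A : Type v) [Ring A] [Algebra R A]
  (E : Type w) [Ring E] [Algebra R E]

/-- `A` realized as the corner `p E p` of `E`, `p = ι 1`. -/
structure CornerData where
  /-- the (non-unital) inclusion -/
  ι : A →ₗ[R] E
  /-- the retraction -/
  r : E →ₗ[R] A
  ι_mul : ∀ a b, ι (a * b) = ι a * ι b
  r_ι : ∀ a, r (ι a) = a
  ι_r : ∀ x, ι (r x) = ι 1 * x * ι 1

variable {R A E}

namespace CornerData

variable (c : CornerData R A E)

theorem isIdempotentElem : IsIdempotentElem (c.ι 1) := by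
  change c.ι 1 * c.ι 1 = c.ι 1
  rw [← c.ι_mul, one_mul]

theorem one_mul_ι (a : A) : c.ι 1 * c.ι a = c.ι a := by rw [← c.ι_mul, one_mul]

theorem ι_mul_one (a : A) : c.ι a * c.ι 1 = c.ι a := by rw [← c.ι_mul, mul_one]

theorem r_corner (x : E) (hx : c.ι 1 * x * c.ι 1 = x) : c.ι (c.r x) = x := by
  rw [c.ι_r, hx]

theorem ι_injective : Function.Injective c.ι := fun a b h => by
  rw [← c.r_ι a, h, c.r_ι]

end CornerData

variable {B : Type u₁} [Ring B] [Algebra R B] {E' : Type u₂} [Ring E'] [Algebra R E']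

/-- Two corner algebras of isomorphic algebras whose idempotents are "conjugate" are isomorphic. -/
theorem nonempty_algEquiv_of_cornerData (cA : CornerData R A E) (cB : CornerData R B E')
    (e : E ≃ₐ[R] E') (α β : E')
    (h1 : α * β = e (cA.ι 1)) (h2 : β * α = cB.ι 1) (h3 : e (cA.ι 1) * α = α)
    (h4 : α * cB.ι 1 = α) (h5 : cB.ι 1 * β = β) (h6 : β * e (cA.ι 1) = β) :
    Nonempty (A ≃ₐ[R] B) := by
  let F : A →ₗ[R] B :=
    cB.r ∘ₗ (LinearMap.mulRight R α) ∘ₗ (LinearMap.mulLeft R β) ∘ₗ e.toLinearMap ∘ₗ cA.ι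
  let G : B →ₗ[R] A :=
    cA.r ∘ₗ e.symm.toLinearMap ∘ₗ (LinearMap.mulRight R β) ∘ₗ (LinearMap.mulLeft R α) ∘ₗ cB.ι
  have hF : ∀ a, F a = cB.r (β * e (cA.ι a) * α) := fun a => rfl
  have hG : ∀ b, G b = cA.r (e.symm (α * cB.ι b * β)) := fun b => rfl
  have hιF : ∀ a, cB.ι (F a) = β * e (cA.ι a) * α := by
    intro a
    rw [hF]
    apply cB.r_corner
    calc cB.ι 1 * (β * e (cA.ι a) * α) * cB.ι 1
        = (cB.ι 1 * β) * e (cA.ι a) * (α * cB.ι 1) := by simp only [mul_assoc]
      _ = β * e (cA.ι a) * α := by rw [h5, h4]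
  have hιG : ∀ b, cA.ι (G b) = e.symm (α * cB.ι b * β) := by
    intro b
    rw [hG]
    apply cA.r_corner
    apply e.injective
    rw [map_mul, map_mul, e.apply_symm_apply]
    calc e (cA.ι 1) * (α * cB.ι b * β) * e (cA.ι 1)
        = (e (cA.ι 1) * α) * cB.ι b * (β * e (cA.ι 1)) := by simp only [mul_assoc]
      _ = α * cB.ι b * β := by rw [h3, h6]
  have hFG : ∀ b, F (G b) = b := by
    intro b
    apply cB.ι_injective
    rw [hιF, hιG, e.apply_symm_apply]
    calc β * (α * cB.ι b * β) * α = (β * α) * cB.ι b * (β * α) := by simp only [mul_assoc]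
      _ = cB.ι b := by rw [h2, cB.one_mul_ι, cB.ι_mul_one]
  have hGF : ∀ a, G (F a) = a := by
    intro a
    apply cA.ι_injective
    rw [hιG, hιF]
    apply e.injective
    rw [e.apply_symm_apply]
    calc α * (β * e (cA.ι a) * α) * β = (α * β) * e (cA.ι a) * (α * β) := by simp only [mul_assoc]
      _ = e (cA.ι a) := by rw [h1, ← map_mul, ← map_mul, cA.one_mul_ι, cA.ι_mul_one]
  have hmul : ∀ a a', F (a * a') = F a * F a' := by
    intro a a'
    apply cB.ι_injective
    rw [cB.ι_mul, hιF, hιF, hιF]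
    calc β * e (cA.ι (a * a')) * α = β * e (cA.ι a * cA.ι 1 * cA.ι a') * α := by
          rw [cA.ι_mul_one, cA.ι_mul]
      _ = β * (e (cA.ι a) * (α * β) * e (cA.ι a')) * α := by rw [h1, map_mul, map_mul]
      _ = β * e (cA.ι a) * α * (β * e (cA.ι a') * α) := by simp only [mul_assoc]
  have hone : F 1 = 1 := by
    apply cB.ι_injective
    rw [hιF, h6, h2]
  exact ⟨AlgEquiv.ofLinearEquiv (LinearEquiv.ofLinearMap F G (LinearMap.ext hFG) (LinearMap.ext hGF))
    hone hmul⟩

end Corner

end Groth.Agent.Lib.LGAzumaya16
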