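import Groth.Agent.Lib.LGAzumaya16e
import Groth.Agent.Lib.LGAzumaya16d
import Groth.Agent.Lib.LGRingUnimodular
import Groth.Agent.Lib.Azumaya16Constr

/-!
# Cancellation for Azumaya algebras over LG rings

`A ⊗ End P ≅ B ⊗ End Q` and `rank A * rank P = rank B * rank Q` imply `A ≅ B`.
-/

set_option autoImplicit false
universe u v w u₁ u₂
open scoped TensorProduct

namespace Groth.Agent.Lib.LGAzumaya16

section EndCorner

variable {R : Type u} [CommRing R] (A : Type v) [Ring A] [Algebra R A]
  {P : Type w} [AddCommGroup P] [Module R P] (v₀ : P) (f : Module.Dual R P)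

/-- the rank one idempotent `v ↦ f v • v₀`. -/
def rankOne : Module.End R P := f.smulRight v₀

theorem rankOne_apply (v : P) : rankOne v₀ f v = f v • v₀ := rfl

/-- the functional `g ↦ f (g v₀)` on `End P`. -/
def evalFun : Module.End R P →ₗ[R] R := f ∘ₗ LinearMap.applyₗ v₀

theorem evalFun_apply (g : Module.End R P) : evalFun v₀ f g = f (g v₀) := rfl

theorem rankOne_mul_mul (g : Module.End R P) :
    rankOne v₀ f * g * rankOne v₀ f = evalFun v₀ f g • rankOne v₀ f := by
  ext v
  simp only [Module.End.mul_apply, rankOne_apply, map_smul, LinearMap.smul_apply, evalFun_apply]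
  rw [smul_smul, smul_smul, mul_comm]

variable {v₀ f}

theorem rankOne_isIdempotentElem (h : f v₀ = 1) : IsIdempotentElem (rankOne v₀ f) := by
  change rankOne v₀ f * rankOne v₀ f = rankOne v₀ f
  ext v
  simp only [Module.End.mul_apply, rankOne_apply, map_smul, h, one_smul]

theorem evalFun_rankOne (h : f v₀ = 1) : evalFun v₀ f (rankOne v₀ f) = 1 := by
  rw [evalFun_apply, rankOne_apply, h, one_smul, h]

variable (v₀ f)

/-- `A` as a corner of `A ⊗ End P`. -/
noncomputable def endCorner (h : f v₀ = 1) : CornerData R A (A ⊗[R] Module.End R P) where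
  ι := (TensorProduct.mk R A (Module.End R P)).flip (rankOne v₀ f)
  r := (TensorProduct.rid R A).toLinearMap ∘ₗ LinearMap.lTensor A (evalFun v₀ f)
  ι_mul a b := by
    simp only [LinearMap.flip_apply, TensorProduct.mk_apply, Algebra.TensorProduct.tmul_mul_tmul,
      (rankOne_isIdempotentElem h).eq]
  r_ι a := by
    simp only [LinearMap.flip_apply, TensorProduct.mk_apply, LinearMap.comp_apply,
      LinearMap.lTensor_tmul, LinearEquiv.coe_coe, TensorProduct.rid_tmul, evalFun_rankOne h,
      one_smul]
  ι_r x := by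
    simp only [LinearMap.flip_apply, TensorProduct.mk_apply, LinearMap.comp_apply,
      LinearEquiv.coe_coe]
    induction x using TensorProduct.induction_on with
    | zero => simp
    | tmul a g =>
      rw [LinearMap.lTensor_tmul, TensorProduct.rid_tmul, Algebra.TensorProduct.tmul_mul_tmul,
        Algebra.TensorProduct.tmul_mul_tmul, one_mul, mul_one, rankOne_mul_mul,
        TensorProduct.tmul_smul, TensorProduct.smul_tmul']
    | add x y hx hy =>
      rw [map_add, map_add, TensorProduct.add_tmul, hx, hy, mul_add, add_mul]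

@[simp] theorem endCorner_ι_apply (h : f v₀ = 1) (a : A) :
    (endCorner A v₀ f h).ι a = a ⊗ₜ[R] rankOne v₀ f := rfl

/-- the map `A ⊗ P → A ⊗ End P`, `a ⊗ w ↦ a ⊗ (v ↦ f v • w)`. -/
noncomputable def colMap : A ⊗[R] P →ₗ[R] A ⊗[R] Module.End R P :=
  LinearMap.lTensor A (LinearMap.smulRightₗ f)

/-- the map `A ⊗ End P → A ⊗ P`, `a ⊗ g ↦ a ⊗ g v₀`. -/
noncomputable def colRetr : A ⊗[R] Module.End R P →ₗ[R] A ⊗[R] P :=
  LinearMap.lTensor A (LinearMap.applyₗ v₀)

variable {v₀ f}

theorem colRetr_colMap (h : f v₀ = 1) (y : A ⊗[R] P) : colRetr A v₀ (colMap A f y) = y := by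
  induction y using TensorProduct.induction_on with
  | zero => simp
  | tmul a w =>
    simp only [colMap, colRetr, LinearMap.lTensor_tmul, LinearMap.smulRightₗ_apply,
      LinearMap.applyₗ_apply_apply, LinearMap.smulRight_apply, h, one_smul]
  | add x y hx hy => rw [map_add, map_add, hx, hy]

theorem colMap_colRetr (x : A ⊗[R] Module.End R P) :
    colMap A f (colRetr A v₀ x) = x * ((1 : A) ⊗ₜ[R] rankOne v₀ f) := by
  induction x using TensorProduct.induction_on with
  | zero => simp
  | tmul a g =>
    simp only [colMap, colRetr, LinearMap.lTensor_tmul, LinearMap.smulRightₗ_apply,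
      LinearMap.applyₗ_apply_apply, Algebra.TensorProduct.tmul_mul_tmul, mul_one]
    congr 1
    ext v
    simp [Module.End.mul_apply, rankOne_apply]
  | add x y hx hy => rw [map_add, map_add, hx, hy, add_mul]

end EndCorner

section SpanRank

variable {R : Type u} [CommRing R] {S : Type v} [Ring S] [Algebra R S] {x : S}
  {X : Type w} [AddCommGroup X] [Module R X]

/-- A principal left ideal generated by an idempotent, identified as an `R`-module. -/
noncomputable def spanSingletonEquiv (Φ : X →ₗ[R] S) (Ψ : S →ₗ[R] X)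
    (h1 : ∀ y, Ψ (Φ y) = y) (h2 : ∀ z, Φ (Ψ z) = z * x) (hx : IsIdempotentElem x) :
    X ≃ₗ[R] Submodule.span S {x} where
  toFun y := ⟨Φ y, by
    rw [← h1 y, h2]
    exact Submodule.mem_span_singleton.mpr ⟨Φ y, rfl⟩⟩
  map_add' y y' := by
    apply Subtype.ext
    simp
  map_smul' r y := by
    apply Subtype.ext
    simp
  invFun z := Ψ (z : S)
  left_inv y := h1 y
  right_inv z := by
    apply Subtype.ext
    change Φ (Ψ (z : S)) = z
    rw [h2, mul_eq_of_mem_span_singleton hx z.2]

theorem projective_span_singleton (hx : IsIdempotentElem x) :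
    Module.Projective S (Submodule.span S {x}) := by
  refine Module.Projective.of_split (Submodule.span S {x}).subtype
    ((LinearMap.toSpanSingleton S S x).codRestrict _ (fun z =>
      Submodule.mem_span_singleton.mpr ⟨z, rfl⟩)) ?_
  ext z
  simp only [LinearMap.comp_apply, Submodule.subtype_apply, LinearMap.codRestrict_apply,
    LinearMap.toSpanSingleton_apply, smul_eq_mul, LinearMap.id_apply]
  exact mul_eq_of_mem_span_singleton hx z.2

theorem finite_span_singleton : Module.Finite S (Submodule.span S {x}) :=
  Module.Finite.span_of_finite S (Set.finite_singleton x)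

end SpanRank

end Groth.Agent.Lib.LGAzumaya16
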