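import Groth.Agent.Lib.LGAzumaya16f
import Mathlib.RingTheory.Nakayama

/-!
# Cancellation theorem: `A ⊗ End P ≅ B ⊗ End Q` with matching ranks implies `A ≅ B` (LG rings)
-/

set_option autoImplicit false
universe u v w u₁ u₂
open scoped TensorProduct

namespace Groth.Agent.Lib.LGAzumaya16

section Unimodular

variable {R : Type u} [CommRing R] (P : Type w) [AddCommGroup P] [Module R P]
  [Module.Finite R P] [FaithfulSMul R P]

theorem not_top_le_smul_top_of_faithful (m : Ideal R) (hm : m.IsMaximal) :
    ¬ (⊤ : Submodule R P) ≤ m • (⊤ : Submodule R P) := by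
  intro hle
  obtain ⟨r, hr, hr0⟩ := Submodule.exists_sub_one_mem_and_smul_eq_zero_of_fg_of_le_smul m
    (⊤ : Submodule R P) Module.Finite.fg_top hle
  have hr' : r = 0 := by
    apply FaithfulSMul.eq_of_smul_eq_smul (α := P)
    intro x
    rw [zero_smul]
    exact hr0 x Submodule.mem_top
  rw [hr', zero_sub] at hr
  exact hm.ne_top ((Ideal.eq_top_iff_one m).mpr (by simpa using m.neg_mem hr))

theorem exists_unimodular_of_faithful [Module.Projective R P] (hR : LGRing.IsLGRing R) :
    ∃ (v₀ : P) (f : Module.Dual R P), f v₀ = 1 :=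
  Groth.Agent.Lib.LGRingUnimodular.exists_unimodular hR P (not_top_le_smul_top_of_faithful P)

end Unimodular

section Cancel

variable {R : Type u} [CommRing R]
  (A : Type v) [Ring A] [Algebra R A] [IsAzumaya R A]
  (B : Type u₁) [Ring B] [Algebra R B] [IsAzumaya R B]
  (P : Type w) [AddCommGroup P] [Module R P] [Module.Finite R P] [Module.Projective R P]
  [FaithfulSMul R P]
  (Q : Type u₂) [AddCommGroup Q] [Module R Q] [Module.Finite R Q] [Module.Projective R Q]
  [FaithfulSMul R Q]

/-- Cancellation over LG rings. -/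
theorem nonempty_algEquiv_of_tensor_end_equiv (hR : LGRing.IsLGRing R)
    (e : A ⊗[R] Module.End R P ≃ₐ[R] B ⊗[R] Module.End R Q)
    (h : ∀ p : PrimeSpectrum R, Module.rankAtStalk A p * Module.rankAtStalk P p =
      Module.rankAtStalk B p * Module.rankAtStalk Q p) :
    Nonempty (A ≃ₐ[R] B) := by
  obtain ⟨v₀, f, hf⟩ := exists_unimodular_of_faithful P hR
  obtain ⟨w₀, g, hg⟩ := exists_unimodular_of_faithful Q hR
  let cA := endCorner A v₀ f hf
  let cB := endCorner B w₀ g hg
  have hEQ : IsAzumaya R (Module.End R Q) := Groth.Agent.Lib.Azumaya16.isAzumaya_end R Q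
  have hE' : IsAzumaya R (B ⊗[R] Module.End R Q) :=
    Groth.Agent.Lib.Azumaya16.isAzumaya_tensorProduct R B (Module.End R Q)
  have hp : IsIdempotentElem (e (cA.ι 1)) := cA.isIdempotentElem.map e
  have hq : IsIdempotentElem (cB.ι 1) := cB.isIdempotentElem
  -- the two modules
  have fin1 : Module.Finite (B ⊗[R] Module.End R Q)
      (Submodule.span (B ⊗[R] Module.End R Q) {e (cA.ι 1)}) := finite_span_singleton
  have fin2 : Module.Finite (B ⊗[R] Module.End R Q)
      (Submodule.span (B ⊗[R] Module.End R Q) {cB.ι 1}) := finite_span_singleton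
  have proj1 : Module.Projective (B ⊗[R] Module.End R Q)
      (Submodule.span (B ⊗[R] Module.End R Q) {e (cA.ι 1)}) := projective_span_singleton hp
  have proj2 : Module.Projective (B ⊗[R] Module.End R Q)
      (Submodule.span (B ⊗[R] Module.End R Q) {cB.ι 1}) := projective_span_singleton hq
  -- identification as R-modules
  let E1 : A ⊗[R] P ≃ₗ[R] Submodule.span (B ⊗[R] Module.End R Q) {e (cA.ι 1)} :=
    spanSingletonEquiv (e.toLinearMap ∘ₗ colMap A f) (colRetr A v₀ ∘ₗ e.symm.toLinearMap)
      (fun y => by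
        simp only [LinearMap.comp_apply, AlgEquiv.toLinearMap_apply, e.symm_apply_apply]
        exact colRetr_colMap A hf y)
      (fun z => by
        simp only [LinearMap.comp_apply, AlgEquiv.toLinearMap_apply]
        rw [colMap_colRetr, map_mul, e.apply_symm_apply]
        rfl) hp
  let E2 : B ⊗[R] Q ≃ₗ[R] Submodule.span (B ⊗[R] Module.End R Q) {cB.ι 1} :=
    spanSingletonEquiv (colMap B g) (colRetr B w₀)
      (fun y => colRetr_colMap B hg y)
      (fun z => by
        rw [colMap_colRetr]
        rfl) hq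
  have hrank : ∀ p : PrimeSpectrum R,
      Module.rankAtStalk (Submodule.span (B ⊗[R] Module.End R Q) {e (cA.ι 1)}) p =
      Module.rankAtStalk (Submodule.span (B ⊗[R] Module.End R Q) {cB.ι 1}) p := by
    intro p
    have r1 := congrFun (Module.rankAtStalk_eq_of_equiv
      (M := Submodule.span (B ⊗[R] Module.End R Q) {e (cA.ι 1)}) (N := A ⊗[R] P) E1.symm) p
    have r2 := congrFun (Module.rankAtStalk_eq_of_equiv
      (M := Submodule.span (B ⊗[R] Module.End R Q) {cB.ι 1}) (N := B ⊗[R] Q) E2.symm) p
    rw [r1, r2, Module.rankAtStalk_tensorProduct, Module.rankAtStalk_tensorProduct]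
    exact h p
  obtain ⟨φ⟩ := nonempty_linearEquiv_of_rankAtStalk_eq (A := B ⊗[R] Module.End R Q) hR hrank
  obtain ⟨α, β, h1, h2, h3, h4, h5, h6⟩ := exists_of_span_singleton_equiv hp hq φ
  exact nonempty_algEquiv_of_cornerData cA cB e α β h1 h2 h3 h4 h5 h6

end Cancel

end Groth.Agent.Lib.LGAzumaya16
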