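import Groth.Prelude.Def_W4c4lgringredgrpLG
import Mathlib.RingTheory.Spectrum.Prime.FreeLocus
import Mathlib.LinearAlgebra.Matrix.ToLin
import Mathlib.LinearAlgebra.Matrix.NonsingularInverse
import Mathlib.LinearAlgebra.TensorProduct.Pi
import Mathlib.RingTheory.Finiteness.Projective
import Mathlib.Algebra.MvPolynomial.Rename

/-!
Over an LG-ring, two finite projective modules with the same rank function are isomorphic.
-/

set_option autoImplicit false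
universe u v w

namespace Groth.Agent.Lib.LGRingIso

open MvPolynomial Matrix

/-- The LG property for polynomials indexed by an arbitrary finite type. -/
theorem representsUnit_of_fintype {R : Type u} [CommRing R] (hR : LGRing.IsLGRing R)
    {σ : Type} [Fintype σ] (f : MvPolynomial σ R)
    (h : ∀ (m : Ideal R) [m.IsMaximal], LGRing.RepresentsUnit f (R ⧸ m)) :
    LGRing.RepresentsUnit f R := by
  classical
  let e := Fintype.equivFin σ
  have h' : ∀ (m : Ideal R) [m.IsMaximal], LGRing.RepresentsUnit (rename e f) (R ⧸ m) := by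
    intro m _
    obtain ⟨s, hs⟩ := h m
    refine ⟨s ∘ e.symm, ?_⟩
    rw [aeval_rename]
    have : (s ∘ e.symm) ∘ e = s := by
      funext x
      simp
    rw [this]
    exact hs
  obtain ⟨s, hs⟩ := hR _ _ h'
  refine ⟨s ∘ e, ?_⟩
  rwa [aeval_rename] at hs

section Lift

variable {S : Type*} [CommRing S] {M₁ M₂ : Type*} [AddCommGroup M₁] [Module S M₁]
  [AddCommGroup M₂] [Module S M₂] {n₁ n₂ : ℕ}
  (π₁ : (Fin n₁ → S) →ₗ[S] M₁) (ι₁ : M₁ →ₗ[S] (Fin n₁ → S))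
  (π₂ : (Fin n₂ → S) →ₗ[S] M₂) (ι₂ : M₂ →ₗ[S] (Fin n₂ → S))
  (A : Matrix (Fin n₂) (Fin n₁) S) (B : Matrix (Fin n₁) (Fin n₂) S)

theorem injective_of_isUnit_det (h₁ : ∀ x, π₁ (ι₁ x) = x)
    (hdet : IsUnit (det (LinearMap.toMatrix' (ι₁ ∘ₗ π₁) * B * LinearMap.toMatrix' (ι₂ ∘ₗ π₂) * A *
      LinearMap.toMatrix' (ι₁ ∘ₗ π₁) + 1 - LinearMap.toMatrix' (ι₁ ∘ₗ π₁)))) :
    Function.Injective (π₂ ∘ₗ Matrix.toLin' A ∘ₗ ι₁) := by
  have hT := (Matrix.isUnit_iff_isUnit_det _).mpr hdet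
  have hinj := Matrix.mulVec_injective_of_isUnit hT
  rw [← LinearMap.ker_eq_bot, LinearMap.ker_eq_bot']
  intro x hx
  simp only [LinearMap.comp_apply, Matrix.toLin'_apply] at hx
  have hE₁ : ∀ v, LinearMap.toMatrix' (ι₁ ∘ₗ π₁) *ᵥ v = ι₁ (π₁ v) := by
    intro v
    rw [← Matrix.toLin'_apply, Matrix.toLin'_toMatrix']
    rfl
  have hE₂ : ∀ v, LinearMap.toMatrix' (ι₂ ∘ₗ π₂) *ᵥ v = ι₂ (π₂ v) := by
    intro v
    rw [← Matrix.toLin'_apply, Matrix.toLin'_toMatrix']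
    rfl
  have h0 : (LinearMap.toMatrix' (ι₁ ∘ₗ π₁) * B * LinearMap.toMatrix' (ι₂ ∘ₗ π₂) * A *
      LinearMap.toMatrix' (ι₁ ∘ₗ π₁) + 1 - LinearMap.toMatrix' (ι₁ ∘ₗ π₁)) *ᵥ (ι₁ x) = 
      (LinearMap.toMatrix' (ι₁ ∘ₗ π₁) * B * LinearMap.toMatrix' (ι₂ ∘ₗ π₂) * A *
      LinearMap.toMatrix' (ι₁ ∘ₗ π₁) + 1 - LinearMap.toMatrix' (ι₁ ∘ₗ π₁)) *ᵥ 0 := by
    rw [Matrix.mulVec_zero, Matrix.sub_mulVec, Matrix.add_mulVec, Matrix.one_mulVec,
      ← Matrix.mulVec_mulVec, ← Matrix.mulVec_mulVec, ← Matrix.mulVec_mulVec,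
      ← Matrix.mulVec_mulVec]
    simp only [hE₁, h₁, hE₂, hx]
    simp
  have h1 := hinj h0
  rw [← h₁ x, h1, map_zero]

theorem surjective_of_isUnit_det (h₂ : ∀ x, π₂ (ι₂ x) = x)
    (hdet : IsUnit (det (LinearMap.toMatrix' (ι₂ ∘ₗ π₂) * A * LinearMap.toMatrix' (ι₁ ∘ₗ π₁) * B *
      LinearMap.toMatrix' (ι₂ ∘ₗ π₂) + 1 - LinearMap.toMatrix' (ι₂ ∘ₗ π₂)))) :
    Function.Surjective (π₂ ∘ₗ Matrix.toLin' A ∘ₗ ι₁) := by
  have hT := (Matrix.isUnit_iff_isUnit_det _).mpr hdet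
  have hsurj := Matrix.mulVec_surjective_iff_isUnit.mpr hT
  have hE₁ : ∀ v, LinearMap.toMatrix' (ι₁ ∘ₗ π₁) *ᵥ v = ι₁ (π₁ v) := by
    intro v
    rw [← Matrix.toLin'_apply, Matrix.toLin'_toMatrix']
    rfl
  have hE₂ : ∀ v, LinearMap.toMatrix' (ι₂ ∘ₗ π₂) *ᵥ v = ι₂ (π₂ v) := by
    intro v
    rw [← Matrix.toLin'_apply, Matrix.toLin'_toMatrix']
    rfl
  intro y
  obtain ⟨z, hz⟩ := hsurj (ι₂ y)
  refine ⟨π₁ (B *ᵥ (ι₂ (π₂ z))), ?_⟩
  simp only [LinearMap.comp_apply, Matrix.toLin'_apply]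
  have := congrArg π₂ hz
  rw [h₂, Matrix.sub_mulVec, Matrix.add_mulVec, Matrix.one_mulVec,
      ← Matrix.mulVec_mulVec, ← Matrix.mulVec_mulVec, ← Matrix.mulVec_mulVec,
      ← Matrix.mulVec_mulVec] at this
  simp only [hE₁, hE₂, map_sub, map_add, h₂] at this
  rw [← this]
  simp

end Lift

section Poly

variable {R : Type u} [CommRing R] {n₁ n₂ : ℕ}

/-- index type for the variables: entries of `A` and of `B`. -/
abbrev Idx (n₁ n₂ : ℕ) : Type := (Fin n₂ × Fin n₁) ⊕ (Fin n₁ × Fin n₂)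

/-- The matrix `A` attached to a point. -/
def matA {S : Type*} (s : Idx n₁ n₂ → S) : Matrix (Fin n₂) (Fin n₁) S :=
  Matrix.of fun i j => s (Sum.inl (i, j))

/-- The matrix `B` attached to a point. -/
def matB {S : Type*} (s : Idx n₁ n₂ → S) : Matrix (Fin n₁) (Fin n₂) S :=
  Matrix.of fun i j => s (Sum.inr (i, j))

/-- The constant matrix over the polynomial ring. -/
noncomputable def matC (n₁ n₂ : ℕ) {k : ℕ} (E : Matrix (Fin k) (Fin k) R) :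
    Matrix (Fin k) (Fin k) (MvPolynomial (Idx n₁ n₂) R) :=
  E.map (C : R → MvPolynomial (Idx n₁ n₂) R)

/-- The generic matrix `A`. -/
noncomputable def genA (R : Type u) [CommRing R] (n₁ n₂ : ℕ) :
    Matrix (Fin n₂) (Fin n₁) (MvPolynomial (Idx n₁ n₂) R) :=
  matA (X : Idx n₁ n₂ → MvPolynomial (Idx n₁ n₂) R)

/-- The generic matrix `B`. -/
noncomputable def genB (R : Type u) [CommRing R] (n₁ n₂ : ℕ) :
    Matrix (Fin n₁) (Fin n₂) (MvPolynomial (Idx n₁ n₂) R) :=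
  matB (X : Idx n₁ n₂ → MvPolynomial (Idx n₁ n₂) R)

/-- The polynomial whose unit values give isomorphisms. -/
noncomputable def poly (E₁ : Matrix (Fin n₁) (Fin n₁) R) (E₂ : Matrix (Fin n₂) (Fin n₂) R) :
    MvPolynomial (Idx n₁ n₂) R :=
  det (matC n₁ n₂ E₁ * genB R n₁ n₂ * matC n₁ n₂ E₂ * genA R n₁ n₂ * matC n₁ n₂ E₁ + 1 -
    matC n₁ n₂ E₁) *
  det (matC n₁ n₂ E₂ * genA R n₁ n₂ * matC n₁ n₂ E₁ * genB R n₁ n₂ * matC n₁ n₂ E₂ + 1 -
    matC n₁ n₂ E₂)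

theorem aeval_poly (E₁ : Matrix (Fin n₁) (Fin n₁) R) (E₂ : Matrix (Fin n₂) (Fin n₂) R)
    {S : Type*} [CommRing S] [Algebra R S] (s : Idx n₁ n₂ → S) :
    aeval s (poly E₁ E₂) =
      det (E₁.map (algebraMap R S) * matB s * E₂.map (algebraMap R S) * matA s *
        E₁.map (algebraMap R S) + 1 - E₁.map (algebraMap R S)) *
      det (E₂.map (algebraMap R S) * matA s * E₁.map (algebraMap R S) * matB s *
        E₂.map (algebraMap R S) + 1 - E₂.map (algebraMap R S)) := by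
  have hE : ∀ {k : ℕ} (E : Matrix (Fin k) (Fin k) R),
      (matC n₁ n₂ E).map (aeval s) = E.map (algebraMap R S) := by
    intro k E
    ext i j
    simp [matC]
  have hA : (genA R n₁ n₂).map (aeval s) = matA s := by
    ext i j
    simp [matA, genA]
  have hB : (genB R n₁ n₂).map (aeval s) = matB s := by
    ext i j
    simp [matB, genB]
  rw [poly, map_mul, AlgHom.map_det, AlgHom.map_det, AlgHom.mapMatrix_apply,
    AlgHom.mapMatrix_apply]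
  simp only [Matrix.map_sub (⇑(aeval s : MvPolynomial (Idx n₁ n₂) R →ₐ[R] S)) (map_sub (aeval s)),
    Matrix.map_add (⇑(aeval s : MvPolynomial (Idx n₁ n₂) R →ₐ[R] S)) (map_add (aeval s)),
    Matrix.map_mul,
    Matrix.map_one (⇑(aeval s : MvPolynomial (Idx n₁ n₂) R →ₐ[R] S)) (map_zero (aeval s))
      (map_one (aeval s)), hE, hA, hB]

end Poly

section BaseChange

open TensorProduct

variable {R : Type u} [CommRing R] (S : Type w) [CommRing S] [Algebra R S]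
  {M : Type v} [AddCommGroup M] [Module R M] {n : ℕ}
  (π : (Fin n → R) →ₗ[R] M) (ι : M →ₗ[R] (Fin n → R))

/-- base change of the projection. -/
noncomputable def bcπ : (Fin n → S) →ₗ[S] S ⊗[R] M :=
  (π.baseChange S) ∘ₗ (TensorProduct.piScalarRight R S S (Fin n)).symm.toLinearMap

/-- base change of the inclusion. -/
noncomputable def bcι : S ⊗[R] M →ₗ[S] (Fin n → S) :=
  (TensorProduct.piScalarRight R S S (Fin n)).toLinearMap ∘ₗ (ι.baseChange S)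

theorem bcπ_bcι (h : ∀ x, π (ι x) = x) (x : S ⊗[R] M) : bcπ S π (bcι S ι x) = x := by
  simp only [bcπ, bcι, LinearMap.comp_apply, LinearEquiv.coe_coe, LinearEquiv.symm_apply_apply]
  rw [← LinearMap.comp_apply, ← LinearMap.baseChange_comp]
  have : π ∘ₗ ι = LinearMap.id := LinearMap.ext h
  rw [this, LinearMap.baseChange_id, LinearMap.id_apply]

theorem toMatrix'_bc :
    LinearMap.toMatrix' (bcι S ι ∘ₗ bcπ S π) =
      (LinearMap.toMatrix' (ι ∘ₗ π)).map (algebraMap R S) := by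
  ext i j
  rw [LinearMap.toMatrix'_apply, Matrix.map_apply, LinearMap.toMatrix'_apply]
  simp only [bcπ, bcι, LinearMap.comp_apply, LinearEquiv.coe_coe]
  rw [TensorProduct.piScalarRight_symm_single, LinearMap.baseChange_tmul,
    LinearMap.baseChange_tmul, TensorProduct.piScalarRight_apply,
    TensorProduct.piScalarRightHom_tmul, Algebra.algebraMap_eq_smul_one]

end BaseChange

section Collapse

variable {S : Type*} [CommRing S] {M₁ M₂ : Type*} [AddCommGroup M₁] [Module S M₁]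
  [AddCommGroup M₂] [Module S M₂] {n₁ n₂ : ℕ}
  (π₁ : (Fin n₁ → S) →ₗ[S] M₁) (ι₁ : M₁ →ₗ[S] (Fin n₁ → S))
  (π₂ : (Fin n₂ → S) →ₗ[S] M₂) (ι₂ : M₂ →ₗ[S] (Fin n₂ → S))

theorem collapse (h₁ : ∀ x, π₁ (ι₁ x) = x) (h₂ : ∀ x, π₂ (ι₂ x) = x) (g : M₁ →ₗ[S] M₂)
    (g' : M₂ →ₗ[S] M₁) (hg : ∀ x, g' (g x) = x) :
    LinearMap.toMatrix' (ι₁ ∘ₗ π₁) * LinearMap.toMatrix' (ι₁ ∘ₗ g' ∘ₗ π₂) *
      LinearMap.toMatrix' (ι₂ ∘ₗ π₂) * LinearMap.toMatrix' (ι₂ ∘ₗ g ∘ₗ π₁) *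
      LinearMap.toMatrix' (ι₁ ∘ₗ π₁) = LinearMap.toMatrix' (ι₁ ∘ₗ π₁) := by
  rw [← LinearMap.toMatrix'_comp, ← LinearMap.toMatrix'_comp, ← LinearMap.toMatrix'_comp,
    ← LinearMap.toMatrix'_comp]
  congr 1
  apply LinearMap.ext
  intro x
  simp only [LinearMap.comp_apply, h₁, h₂, hg]

end Collapse

section Main

open TensorProduct

/-- Over an LG-ring, finite projective modules with the same rank function are isomorphic. -/
theorem nonempty_linearEquiv_of_rankAtStalk_eq {R : Type u} [CommRing R]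
    (hR : LGRing.IsLGRing R) (M₁ : Type v) (M₂ : Type w)
    [AddCommGroup M₁] [Module R M₁] [Module.Finite R M₁] [Module.Projective R M₁]
    [AddCommGroup M₂] [Module R M₂] [Module.Finite R M₂] [Module.Projective R M₂]
    (h : ∀ p : PrimeSpectrum R, Module.rankAtStalk M₁ p = Module.rankAtStalk M₂ p) :
    Nonempty (M₁ ≃ₗ[R] M₂) := by
  classical
  obtain ⟨n₁, π₁, ι₁, -, -, hπι₁⟩ := Module.Finite.exists_comp_eq_id_of_projective R M₁
  obtain ⟨n₂, π₂, ι₂, -, -, hπι₂⟩ := Module.Finite.exists_comp_eq_id_of_projective R M₂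
  have h₁ : ∀ x, π₁ (ι₁ x) = x := fun x => LinearMap.congr_fun hπι₁ x
  have h₂ : ∀ x, π₂ (ι₂ x) = x := fun x => LinearMap.congr_fun hπι₂ x
  have hres : ∀ (m : Ideal R) [m.IsMaximal], LGRing.RepresentsUnit
      (poly (LinearMap.toMatrix' (ι₁ ∘ₗ π₁)) (LinearMap.toMatrix' (ι₂ ∘ₗ π₂))) (R ⧸ m) := by
    intro m hm
    let _ : Field (R ⧸ m) := Ideal.Quotient.field m
    have hfin : Module.finrank (R ⧸ m) ((R ⧸ m) ⊗[R] M₁) =
        Module.finrank (R ⧸ m) ((R ⧸ m) ⊗[R] M₂) := by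
      let p₀ : PrimeSpectrum (R ⧸ m) := ⟨⊥, Ideal.isPrime_bot⟩
      have e1 := Module.rankAtStalk_baseChange (R := R) (M := M₁) (S := R ⧸ m) p₀
      have e2 := Module.rankAtStalk_baseChange (R := R) (M := M₂) (S := R ⧸ m) p₀
      rw [Module.rankAtStalk_eq_finrank_of_free] at e1 e2
      simp only [Pi.natCast_apply, Nat.cast_id] at e1 e2
      rw [e1, e2, h]
    let g : ((R ⧸ m) ⊗[R] M₁) ≃ₗ[R ⧸ m] ((R ⧸ m) ⊗[R] M₂) := LinearEquiv.ofFinrankEq _ _ hfin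
    let s : Idx n₁ n₂ → R ⧸ m := Sum.elim
      (fun p => LinearMap.toMatrix'
        (bcι (R ⧸ m) ι₂ ∘ₗ g.toLinearMap ∘ₗ bcπ (R ⧸ m) π₁) p.1 p.2)
      (fun p => LinearMap.toMatrix'
        (bcι (R ⧸ m) ι₁ ∘ₗ g.symm.toLinearMap ∘ₗ bcπ (R ⧸ m) π₂) p.1 p.2)
    have hA : matA s = LinearMap.toMatrix'
        (bcι (R ⧸ m) ι₂ ∘ₗ g.toLinearMap ∘ₗ bcπ (R ⧸ m) π₁) := by
      ext i j
      rfl
    have hB : matB s = LinearMap.toMatrix'
        (bcι (R ⧸ m) ι₁ ∘ₗ g.symm.toLinearMap ∘ₗ bcπ (R ⧸ m) π₂) := by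
      ext i j
      rfl
    refine ⟨s, ?_⟩
    rw [aeval_poly, hA, hB, ← toMatrix'_bc, ← toMatrix'_bc,
      collapse (bcπ (R ⧸ m) π₁) (bcι (R ⧸ m) ι₁) (bcπ (R ⧸ m) π₂) (bcι (R ⧸ m) ι₂)
        (bcπ_bcι _ π₁ ι₁ h₁) (bcπ_bcι _ π₂ ι₂ h₂) g.toLinearMap g.symm.toLinearMap
        (fun x => g.symm_apply_apply x),
      collapse (bcπ (R ⧸ m) π₂) (bcι (R ⧸ m) ι₂) (bcπ (R ⧸ m) π₁) (bcι (R ⧸ m) ι₁)
        (bcπ_bcι _ π₂ ι₂ h₂) (bcπ_bcι _ π₁ ι₁ h₁) g.symm.toLinearMap g.toLinearMap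
        (fun x => g.apply_symm_apply x)]
    simp
  obtain ⟨s, hs⟩ := representsUnit_of_fintype hR _ hres
  rw [aeval_poly] at hs
  have hid : ∀ {k : ℕ} (E : Matrix (Fin k) (Fin k) R), E.map (algebraMap R R) = E := by
    intro k E
    ext i j
    simp
  rw [hid, hid, IsUnit.mul_iff] at hs
  exact ⟨LinearEquiv.ofBijective (π₂ ∘ₗ Matrix.toLin' (matA s) ∘ₗ ι₁)
    ⟨injective_of_isUnit_det π₁ ι₁ π₂ ι₂ (matA s) (matB s) h₁ hs.1,
      surjective_of_isUnit_det π₁ ι₁ π₂ ι₂ (matA s) (matB s) h₂ hs.2⟩⟩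

end Main

end Groth.Agent.Lib.LGRingIso
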