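import Mathlib.Algebra.Category.Grp.Abelian
import Mathlib.Algebra.Category.Grp.EpiMono
import Mathlib.Algebra.Homology.ShortComplex.Ab
import Mathlib.Algebra.Homology.ShortComplex.ShortExact
import Mathlib.Data.ZMod.Basic
import Mathlib.GroupTheory.Coset.Card
import Mathlib.GroupTheory.QuotientGroup.Finite
import Mathlib.GroupTheory.OrderOfElement

/-!
# Dévissage of finite abelian `ℓ`-groups (helper65)
-/

set_option autoImplicit false
universe w
open CategoryTheory CategoryTheory.Limits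

namespace Groth.Agent.Lib.LGroupInd65

/-- Induction principle for finite abelian groups all of whose elements are killed by a power of
the prime `ℓ`: a property stable under extensions which holds for trivial groups and for `ℤ/ℓ`
holds for all of them. -/
theorem lgroup_induction (ℓ : ℕ) (hℓ : ℓ.Prime) (P : AddCommGrpCat.{w} → Prop)
    (hzero : ∀ M : AddCommGrpCat.{w}, Subsingleton M → P M)
    (hZ : P (AddCommGrpCat.of (ULift.{w} (ZMod ℓ))))
    (hext : ∀ S : ShortComplex AddCommGrpCat.{w}, S.ShortExact → P S.X₁ → P S.X₃ → P S.X₂)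
    (M : AddCommGrpCat.{w}) [Finite M] (hM : ∀ m : M, ∃ k : ℕ, ℓ ^ k • m = 0) : P M := by
  induction hc : Nat.card M using Nat.strong_induction_on generalizing M with
  | _ c ih =>
  by_cases hs : Subsingleton M
  · exact hzero M hs
  rw [not_subsingleton_iff_nontrivial] at hs
  obtain ⟨m, hm⟩ := exists_ne (0 : M)
  classical
  let k := Nat.find (hM m)
  have hk : ℓ ^ k • m = 0 := Nat.find_spec (hM m)
  have hk0 : k ≠ 0 := by
    intro h0
    rw [h0, pow_zero, one_smul] at hk
    exact hm hk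
  obtain ⟨k', hk'⟩ : ∃ k', k = k' + 1 := ⟨k - 1, by omega⟩
  let m' : M := ℓ ^ k' • m
  have hm'0 : m' ≠ 0 := fun h => Nat.find_min (hM m) (by omega : k' < k) h
  have hm'ℓ : ℓ • m' = 0 := by
    show ℓ • (ℓ ^ k' • m) = 0
    rw [← mul_smul, ← pow_succ', ← hk']
    exact hk
  have : NeZero ℓ := ⟨hℓ.ne_zero⟩
  have : Fact ℓ.Prime := ⟨hℓ⟩
  let f₀ : { f : ℤ →+ M // f ℓ = 0 } := ⟨zmultiplesHom M m', by
    show (ℓ : ℤ) • m' = 0
    rw [natCast_zsmul]; exact hm'ℓ⟩
  let φ : ZMod ℓ →+ M := ZMod.lift ℓ f₀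
  have hφ1 : φ 1 = m' := by
    have h1 := ZMod.lift_coe ℓ f₀ 1
    rw [Int.cast_one] at h1
    exact h1.trans (one_zsmul m')
  have hφinj : Function.Injective φ := by
    rw [ZMod.lift_injective]
    intro z hz
    have hz' : z • m' = 0 := hz
    rw [ZMod.intCast_zmod_eq_zero_iff_dvd]
    rw [← addOrderOf_dvd_iff_zsmul_eq_zero, addOrderOf_eq_prime hm'ℓ hm'0] at hz'
    exact hz'
  let N : AddSubgroup M := φ.range
  let f : AddCommGrpCat.of (ULift.{w} (ZMod ℓ)) ⟶ M :=
    AddCommGrpCat.ofHom (φ.comp AddEquiv.ulift.toAddMonoidHom)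
  let g : M ⟶ AddCommGrpCat.of (M ⧸ N) := AddCommGrpCat.ofHom (QuotientAddGroup.mk' N)
  have hfg : f ≫ g = 0 := by
    ext x
    show QuotientAddGroup.mk' N (φ x.down) = 0
    rw [QuotientAddGroup.mk'_apply, QuotientAddGroup.eq_zero_iff]
    exact ⟨x.down, rfl⟩
  let S : ShortComplex AddCommGrpCat.{w} := ShortComplex.mk f g hfg
  have hS : S.ShortExact := by
    refine { exact := ?_, mono_f := ?_, epi_g := ?_ }
    · rw [ShortComplex.ab_exact_iff]
      intro y hy
      have hy' : QuotientAddGroup.mk' N y = 0 := hy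
      rw [QuotientAddGroup.mk'_apply, QuotientAddGroup.eq_zero_iff] at hy'
      obtain ⟨x, hx⟩ := hy'
      exact ⟨⟨x⟩, hx⟩
    · rw [AddCommGrpCat.mono_iff_injective]
      intro a b hab
      have : φ a.down = φ b.down := hab
      exact ULift.ext _ _ (hφinj this)
    · rw [AddCommGrpCat.epi_iff_surjective]
      exact QuotientAddGroup.mk'_surjective N
  have hfin : Finite (M ⧸ N) := inferInstance
  have hcard : Nat.card (M ⧸ N) < c := by
    have h1 := AddSubgroup.card_eq_card_quotient_mul_card_addSubgroup N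
    have h2 : 1 < Nat.card N := by
      rw [Finite.one_lt_card_iff_nontrivial]
      exact ⟨⟨⟨m', ⟨1, hφ1⟩⟩, 0, fun h => hm'0 (congrArg Subtype.val h)⟩⟩
    have h3 : 0 < Nat.card (M ⧸ N) := Nat.card_pos
    rw [← hc, h1]
    exact lt_mul_of_one_lt_right h3 h2
  have hM'' : ∀ x : (AddCommGrpCat.of (M ⧸ N)), ∃ k : ℕ, ℓ ^ k • x = 0 := by
    intro x
    obtain ⟨y, rfl⟩ := QuotientAddGroup.mk'_surjective N x
    obtain ⟨k, hk⟩ := hM y
    exact ⟨k, by rw [← map_nsmul, hk, map_zero]⟩
  exact hext S hS hZ (ih _ hcard (AddCommGrpCat.of (M ⧸ N)) hM'' rfl)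

end Groth.Agent.Lib.LGroupInd65
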