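/-
helper24: closed immersions of locally ringed spaces into schemes: the kernel sheaf is
quasi-coherent (key lemma: the stalk of the kernel at `x ∈ U` affine is `I_U · O_x`).
-/
import Mathlib
import Groth.Prelude.Def_W4stkremschemesLRS

set_option autoImplicit false
universe u
open CategoryTheory AlgebraicGeometry TopologicalSpace Opposite

namespace Groth.Agent.Lib.LRSImm24

variable {X : Scheme.{u}} {Z : LocallyRingedSpace.{u}} (i : Z ⟶ X.toLocallyRingedSpace)

/-- The kernel of the stalk map of `O_X → i_* O_Z` at `x`. -/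
noncomputable def Kx (x : X) : Ideal (X.presheaf.stalk x) :=
  RingHom.ker ((TopCat.Presheaf.stalkFunctor CommRingCat x).map i.c).hom

/-- The kernel of `O_X(V) → O_Z(i⁻¹ V)`. -/
noncomputable def IV (V : X.Opens) : Ideal Γ(X, V) :=
  RingHom.ker (i.c.app (op V)).hom

theorem mem_IV {V : X.Opens} (a : Γ(X, V)) : a ∈ IV i V ↔ i.c.app (op V) a = 0 := Iff.rfl

theorem germ_mem_Kx {V : X.Opens} (a : Γ(X, V)) (ha : a ∈ IV i V) (x : X) (hx : x ∈ V) :
    X.presheaf.germ V x hx a ∈ Kx i x := by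
  rw [Kx, RingHom.mem_ker]
  have := TopCat.Presheaf.stalkFunctor_map_germ_apply V x hx i.c a
  rw [(mem_IV i a).mp ha, map_zero] at this
  exact this

theorem res_mem_IV {V V' : X.Opens} (h : V' ≤ V) (a : Γ(X, V)) (ha : a ∈ IV i V) :
    X.presheaf.map (homOfLE h).op a ∈ IV i V' := by
  rw [mem_IV] at ha ⊢
  have := congr($(i.c.naturality (homOfLE h).op) a)
  rw [CommRingCat.comp_apply, CommRingCat.comp_apply, ha, map_zero] at this
  exact this

section Small

variable {W V : X.Opens} {ι : Type u} (s : ι → Γ(X, W))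

theorem map_span_res (hV : V ≤ W) (x' : X) (hx' : x' ∈ V) :
    (Ideal.span (Set.range fun j => X.presheaf.map (homOfLE hV).op (s j))).map
        (X.presheaf.germ V x' hx').hom =
      Ideal.span (Set.range fun j => X.presheaf.germ W x' (hV hx') (s j)) := by
  rw [Ideal.map_span]
  congr 1
  ext t
  simp only [Set.mem_image, Set.mem_range, exists_exists_eq_and]
  constructor
  · rintro ⟨j, rfl⟩
    exact ⟨j, (TopCat.Presheaf.germ_res_apply X.presheaf (homOfLE hV) x' hx' (s j)).symm⟩
  · rintro ⟨j, rfl⟩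
    exact ⟨j, TopCat.Presheaf.germ_res_apply X.presheaf (homOfLE hV) x' hx' (s j)⟩

variable (h1 : ∀ j, i.c.app (op W) (s j) = 0)
  (h2 : ∀ (x' : X) (hx' : x' ∈ W),
    Ideal.span (Set.range fun j => X.presheaf.germ W x' hx' (s j)) = Kx i x')

include h1 h2 in
theorem IV_eq_span (hVaff : IsAffineOpen V) (hV : V ≤ W) :
    IV i V = Ideal.span (Set.range fun j => X.presheaf.map (homOfLE hV).op (s j)) := by
  apply le_antisymm
  · intro a ha
    rw [hVaff.mem_ideal_iff]
    intro x' hx'
    rw [map_span_res s hV x' hx', h2 x' (hV hx')]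
    exact germ_mem_Kx i a ha x' hx'
  · rw [Ideal.span_le]
    rintro _ ⟨j, rfl⟩
    exact res_mem_IV i hV (s j) (h1 j)

include h1 h2 in
theorem Kx_eq_map_of_small (hVaff : IsAffineOpen V) (hV : V ≤ W) (x' : X) (hx' : x' ∈ V) :
    Kx i x' = (IV i V).map (X.presheaf.germ V x' hx').hom := by
  rw [IV_eq_span i s h1 h2 hVaff hV, map_span_res s hV x' hx', h2 x' (hV hx')]

include h1 h2 in
theorem IV_map_res_of_small (hVaff : IsAffineOpen V) (hV : V ≤ W) {V' : X.Opens}
    (hV'aff : IsAffineOpen V') (hV' : V' ≤ V) :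
    IV i V' = (IV i V).map (X.presheaf.map (homOfLE hV').op).hom := by
  rw [IV_eq_span i s h1 h2 hVaff hV, IV_eq_span i s h1 h2 hV'aff (hV'.trans hV), Ideal.map_span]
  congr 1
  ext t
  simp only [Set.mem_image, Set.mem_range, exists_exists_eq_and]
  constructor
  · rintro ⟨j, rfl⟩
    refine ⟨j, ?_⟩
    rw [← CommRingCat.comp_apply, ← Functor.map_comp]
    rfl
  · rintro ⟨j, rfl⟩
    refine ⟨j, ?_⟩
    rw [← CommRingCat.comp_apply, ← Functor.map_comp]
    rfl

include h1 h2 in
/-- Local step: on a small affine `V`, if `a` restricted to `D(f)` is in the kernel then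
`f ^ m * a` is in the kernel for some `m`. -/
theorem exists_pow_mul_mem_IV_of_small (hVaff : IsAffineOpen V) (hV : V ≤ W)
    (f a : Γ(X, V)) (ha : X.presheaf.map (homOfLE (X.basicOpen_le f)).op a ∈ IV i (X.basicOpen f)) :
    ∃ m : ℕ, f ^ m * a ∈ IV i V := by
  have hV'aff : IsAffineOpen (X.basicOpen f) := hVaff.basicOpen f
  have hloc : IsLocalization.Away f Γ(X, X.basicOpen f) := hVaff.isLocalization_basicOpen f
  rw [IV_map_res_of_small i s h1 h2 hVaff hV hV'aff (X.basicOpen_le f)] at ha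
  have ha' : algebraMap Γ(X, V) Γ(X, X.basicOpen f) a ∈
      Ideal.map (algebraMap Γ(X, V) Γ(X, X.basicOpen f)) (IV i V) := ha
  rw [IsLocalization.mem_map_algebraMap_iff (Submonoid.powers f)] at ha'
  obtain ⟨⟨⟨t, ht⟩, ⟨_, n, rfl⟩⟩, hx⟩ := ha'
  simp only at hx
  rw [← map_mul, IsLocalization.eq_iff_exists (Submonoid.powers f)] at hx
  obtain ⟨⟨_, n', rfl⟩, hc⟩ := hx
  simp only at hc
  refine ⟨n' + n, ?_⟩
  have : f ^ (n' + n) * a = f ^ n' * t := by
    rw [pow_add, mul_assoc, mul_comm (f ^ n) a, hc]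
  rw [this]
  exact Ideal.mul_mem_left _ _ ht

end Small

/-- A section of the structure sheaf of a locally ringed space vanishing locally vanishes. -/
theorem section_eq_zero_of_locally {A : LocallyRingedSpace.{u}} (V : Opens A.toTopCat)
    (s : A.presheaf.obj (op V))
    (h : ∀ x ∈ V, ∃ (W : Opens A.toTopCat) (hW : W ≤ V), x ∈ W ∧
      (A.presheaf.map (homOfLE hW).op).hom s = 0) : s = 0 := by
  choose W hW hx hs using h
  fapply A.sheaf.eq_of_locally_eq' (fun x : V => W x.1 x.2) V (fun x => homOfLE (hW x.1 x.2))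
  · intro y hy
    exact Opens.mem_iSup.mpr ⟨⟨y, hy⟩, hx y hy⟩
  · intro x
    change (A.presheaf.map _).hom s = (A.presheaf.map _).hom 0
    rw [map_zero]
    exact hs x.1 x.2

/-- Global step: on an affine open `U`, if `a` restricted to `D(f)` is in the kernel then
`f ^ m * a` is in the kernel for some `m`. -/
theorem exists_pow_mul_mem_IV (hK : LRSImm.KerLocallyGenerated i) {U : X.Opens}
    (hU : IsAffineOpen U) (f a : Γ(X, U))
    (ha : X.presheaf.map (homOfLE (X.basicOpen_le f)).op a ∈ IV i (X.basicOpen f)) :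
    ∃ m : ℕ, f ^ m * a ∈ IV i U := by
  -- local statement
  have hloc : ∀ y ∈ U, ∃ (g : Γ(X, U)) (m : ℕ), y ∈ X.basicOpen g ∧ ∀ m', m ≤ m' →
      X.presheaf.map (homOfLE (X.basicOpen_le g)).op (f ^ m' * a) ∈ IV i (X.basicOpen g) := by
    intro y hy
    obtain ⟨W, hyW, ι, s, h1, h2⟩ := hK y
    obtain ⟨g, hgW, hyg⟩ := hU.exists_basicOpen_le (V := W) ⟨y, hyW⟩ hy
    have hVaff : IsAffineOpen (X.basicOpen g) := hU.basicOpen g
    set rV := X.presheaf.map (homOfLE (X.basicOpen_le g)).op with hrV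
    have hle : X.basicOpen (rV f) ≤ X.basicOpen f := by
      rw [hrV, Scheme.basicOpen_res]
      exact inf_le_right
    have ha' : X.presheaf.map (homOfLE (X.basicOpen_le (rV f))).op (rV a) ∈
        IV i (X.basicOpen (rV f)) := by
      have := res_mem_IV i hle _ ha
      rw [← CommRingCat.comp_apply, ← Functor.map_comp] at this
      rw [hrV, ← CommRingCat.comp_apply, ← Functor.map_comp]
      exact this
    obtain ⟨m, hm⟩ := exists_pow_mul_mem_IV_of_small i s h1 h2 hVaff hgW (rV f) (rV a) ha'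
    refine ⟨g, m, hyg, fun m' hm' => ?_⟩
    obtain ⟨k, rfl⟩ := Nat.exists_eq_add_of_le hm'
    rw [map_mul, map_pow, pow_add, mul_comm (rV f ^ m), mul_assoc]
    exact Ideal.mul_mem_left _ _ hm
  choose g m hyg hm using hloc
  -- finite subcover
  obtain ⟨t, ht⟩ := hU.isCompact.elim_finite_subcover
    (fun y : U => (X.basicOpen (g y.1 y.2) : Set X)) (fun y => (X.basicOpen _).2)
    (fun y hy => Set.mem_iUnion.mpr ⟨⟨y, hy⟩, hyg y hy⟩)
  refine ⟨t.sup fun y => m y.1 y.2, ?_⟩
  rw [mem_IV]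
  apply section_eq_zero_of_locally
  intro z hz
  have hzU : i.base z ∈ (U : Set X) := hz
  obtain ⟨y, hyt, hzy⟩ := Set.mem_iUnion₂.mp (ht hzU)
  refine ⟨(Opens.map i.base).obj (X.basicOpen (g y.1 y.2)),
    (Opens.map i.base).map (homOfLE (X.basicOpen_le _)) |>.le, hzy, ?_⟩
  have h3 := hm y.1 y.2 (t.sup fun y => m y.1 y.2) (Finset.le_sup (f := fun y : U => m y.1 y.2) hyt)
  rw [mem_IV] at h3
  have := congr($(i.c.naturality (homOfLE (X.basicOpen_le (g y.1 y.2))).op)
    (f ^ (t.sup fun y => m y.1 y.2) * a))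
  rw [CommRingCat.comp_apply, CommRingCat.comp_apply, h3] at this
  exact this.symm

/-- **Key lemma**: for an affine open `U` and `x ∈ U`, the kernel of the stalk map at `x` is
generated by the germs of the kernel on `U`. -/
theorem Kx_eq_map (hK : LRSImm.KerLocallyGenerated i) {U : X.Opens} (hU : IsAffineOpen U)
    (x : X) (hx : x ∈ U) :
    Kx i x = (IV i U).map (X.presheaf.germ U x hx).hom := by
  apply le_antisymm
  · obtain ⟨W, hxW, ι, s, h1, h2⟩ := hK x
    obtain ⟨f, hfW, hxf⟩ := hU.exists_basicOpen_le (V := W) ⟨x, hxW⟩ hx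
    have hVaff : IsAffineOpen (X.basicOpen f) := hU.basicOpen f
    rw [Kx_eq_map_of_small i s h1 h2 hVaff hfW x hxf, Ideal.map_le_iff_le_comap]
    intro b hb
    rw [Ideal.mem_comap]
    have hloc : IsLocalization.Away f Γ(X, X.basicOpen f) := hU.isLocalization_basicOpen f
    obtain ⟨⟨a, ⟨_, n, rfl⟩⟩, hab⟩ := IsLocalization.surj (Submonoid.powers f) b
    simp only at hab
    set r := X.presheaf.map (homOfLE (X.basicOpen_le f)).op with hr
    have hab' : b * r f ^ n = r a := by
      rw [← map_pow]; exact hab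
    have hra : r a ∈ IV i (X.basicOpen f) := by
      rw [← hab']
      exact Ideal.mul_mem_right _ _ hb
    obtain ⟨m, hm⟩ := exists_pow_mul_mem_IV i hK hU f a hra
    have h3 : X.presheaf.germ U x hx (f ^ m * a) ∈
        (IV i U).map (X.presheaf.germ U x hx).hom := Ideal.mem_map_of_mem _ hm
    have hgerm : ∀ c : Γ(X, U), X.presheaf.germ (X.basicOpen f) x hxf (r c) =
        X.presheaf.germ U x hx c := fun c =>
      TopCat.Presheaf.germ_res_apply X.presheaf (homOfLE (X.basicOpen_le f)) x hxf c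
    have hu : IsUnit (X.presheaf.germ U x hx f) := (X.mem_basicOpen f x hx).mp hxf
    have h4 : X.presheaf.germ U x hx (f ^ m * a) =
        X.presheaf.germ U x hx f ^ (m + n) * X.presheaf.germ (X.basicOpen f) x hxf b := by
      rw [map_mul, map_pow, ← hgerm a, ← hab', map_mul, map_pow, hgerm f]
      ring
    rw [h4] at h3
    exact (Ideal.unit_mul_mem_iff_mem _ (hu.pow _)).mp h3
  · rw [Ideal.map_le_iff_le_comap]
    intro a ha
    exact germ_mem_Kx i a ha x hx

end Groth.Agent.Lib.LRSImm24
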