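/-
helper24: an LRS closed immersion into `Spec R` is `Spec (R/I)`.
-/
import Mathlib
import Groth.Agent.Lib.LRSImm24

set_option autoImplicit false
universe u
open CategoryTheory AlgebraicGeometry TopologicalSpace Opposite

namespace Groth.Agent.Lib.LRSImm24

section StalkFacts

variable {X : Scheme.{u}} {Z : LocallyRingedSpace.{u}} (i : Z ⟶ X.toLocallyRingedSpace)

/-- For an inducing base map and a locally surjective sheaf map the stalk maps are surjective. -/
theorem stalkMap_surjective (hind : Topology.IsInducing i.base)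
    (hs : TopCat.Presheaf.IsLocallySurjective i.c) (z : Z) :
    Function.Surjective (i.stalkMap z) := by
  have h1 := (TopCat.Presheaf.locally_surjective_iff_surjective_on_stalks i.c).mp hs (i.base z)
  have h2 : IsIso (Z.presheaf.stalkPushforward CommRingCat i.base z) :=
    TopCat.Presheaf.stalkPushforward.stalkPushforward_iso_of_isInducing CommRingCat hind _ z
  have h3 : Function.Bijective (Z.presheaf.stalkPushforward CommRingCat i.base z) :=
    (ConcreteCategory.isIso_iff_bijective _).mp h2
  intro t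
  obtain ⟨t1, rfl⟩ := h3.surjective t
  obtain ⟨t2, rfl⟩ := h1 t1
  exact ⟨t2, rfl⟩

/-- For an inducing base map, the kernel of the stalk map is `Kx`. -/
theorem mem_Kx_of_stalkMap_eq_zero (hind : Topology.IsInducing i.base) (z : Z)
    (σ : X.presheaf.stalk (i.base z)) (h : i.stalkMap z σ = 0) : σ ∈ Kx i (i.base z) := by
  have h2 : IsIso (Z.presheaf.stalkPushforward CommRingCat i.base z) :=
    TopCat.Presheaf.stalkPushforward.stalkPushforward_iso_of_isInducing CommRingCat hind _ z
  have h3 : Function.Bijective (Z.presheaf.stalkPushforward CommRingCat i.base z) :=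
    (ConcreteCategory.isIso_iff_bijective _).mp h2
  rw [Kx, RingHom.mem_ker]
  apply h3.injective
  exact h.trans (map_zero _).symm

/-- Off the (closed) range of `i`, the kernel of the stalk map is everything. -/
theorem one_mem_Kx_of_not_mem_range (hcl : IsClosed (Set.range i.base)) (x : X)
    (hx : x ∉ Set.range i.base) : (1 : X.presheaf.stalk x) ∈ Kx i x := by
  let U' : X.Opens := ⟨(Set.range i.base)ᶜ, hcl.isOpen_compl⟩
  have hxU : x ∈ U' := hx
  have hbot : (Opens.map i.base).obj U' = ⊥ := by
    ext z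
    simp only [Opens.coe_bot, Set.mem_empty_iff_false, iff_false]
    intro hz
    exact hz ⟨z, rfl⟩
  have hsub : Subsingleton (Z.presheaf.obj (op ((Opens.map i.base).obj U'))) :=
    CommRingCat.subsingleton_of_isTerminal (Z.sheaf.isTerminalOfEqEmpty hbot)
  rw [Kx, RingHom.mem_ker]
  have key := TopCat.Presheaf.stalkFunctor_map_germ_apply U' x hxU i.c (1 : Γ(X, U'))
  have h0 : i.c.app (op U') 1 = 0 := hsub.elim _ _
  rw [h0, map_zero, map_one] at key
  exact key

end StalkFacts

section Fac

variable {X Y : Scheme.{u}} (j : Y ⟶ X) [IsClosedImmersion j] {Z : LocallyRingedSpace.{u}}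

/-- If an LRS closed immersion `i : Z ⟶ X` factors through a closed immersion of schemes
`j : Y ⟶ X` that kills the kernel of `i` stalkwise, then `Z ⟶ Y` is an isomorphism. -/
theorem isIso_of_fac (i : Z ⟶ X.toLocallyRingedSpace) (hi : LRSImm.IsClosedImmersion i)
    (e : Z ⟶ Y.toLocallyRingedSpace) (he : e ≫ j.toLRSHom = i)
    (hker : ∀ (y : Y) (σ : X.presheaf.stalk (j y)), σ ∈ Kx i (j y) → j.stalkMap y σ = 0) :
    IsIso e := by
  subst he
  obtain ⟨hi1, hi2, hi3⟩ := hi
  have hjcl : Topology.IsClosedEmbedding j := j.isClosedEmbedding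
  have hcomp : ((e ≫ j.toLRSHom).base : Z → X) = (j : Y → X) ∘ (e.base : Z → Y) := rfl
  have hecl : Topology.IsClosedEmbedding (e.base : Z → Y) := by
    rw [hcomp] at hi1
    exact (Topology.IsClosedEmbedding.of_comp_iff hjcl).mp hi1
  -- surjectivity
  have hsurj : Function.Surjective (e.base : Z → Y) := by
    intro y
    by_contra hy
    have hy' : j y ∉ Set.range (e ≫ j.toLRSHom).base := by
      rintro ⟨z, hz⟩
      apply hy
      exact ⟨z, hjcl.injective hz⟩
    have h1 := one_mem_Kx_of_not_mem_range (e ≫ j.toLRSHom) hi1.isClosed_range (j y) hy'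
    have h2 := hker y 1 h1
    rw [map_one] at h2
    exact one_ne_zero h2
  have hopen : Topology.IsOpenEmbedding (e.base : Z → Y) :=
    (hecl.isEmbedding.toHomeomorphOfSurjective hsurj).isOpenEmbedding
  have hepi : Epi e.base := (TopCat.epi_iff_surjective _).mpr hsurj
  -- stalk maps
  have hst : ∀ z : Z, IsIso (e.stalkMap z) := by
    intro z
    rw [ConcreteCategory.isIso_iff_bijective]
    have hc0 : (e ≫ j.toLRSHom).stalkMap z = j.stalkMap (e.base z) ≫ e.stalkMap z :=
      LocallyRingedSpace.stalkMap_comp e j.toLRSHom z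
    have hc : ∀ σ : X.presheaf.stalk (j (e.base z)),
        (e ≫ j.toLRSHom).stalkMap z σ = e.stalkMap z (j.stalkMap (e.base z) σ) := by
      intro σ
      have := congr($hc0 σ)
      exact this
    constructor
    · intro τ τ' hττ'
      obtain ⟨σ, rfl⟩ := j.stalkMap_surjective (e.base z) τ
      obtain ⟨σ', rfl⟩ := j.stalkMap_surjective (e.base z) τ'
      have h0 : (e ≫ j.toLRSHom).stalkMap z (σ - σ') = 0 := by
        rw [hc, map_sub, map_sub, hττ', sub_self]
      have h1 := mem_Kx_of_stalkMap_eq_zero (e ≫ j.toLRSHom) hi1.isInducing z _ h0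
      have h2 := hker (e.base z) _ h1
      rw [map_sub, sub_eq_zero] at h2
      exact h2
    · intro t
      obtain ⟨σ, hσ⟩ := stalkMap_surjective (e ≫ j.toLRSHom) hi1.isInducing hi2 z t
      refine ⟨j.stalkMap (e.base z) σ, ?_⟩
      rw [hc] at hσ
      exact hσ
  have := LocallyRingedSpace.IsOpenImmersion.of_stalk_iso e hopen
  exact LocallyRingedSpace.IsOpenImmersion.to_iso e

end Fac

section Affine

variable (R : Type u) [CommRing R] (Z : LocallyRingedSpace.{u})

/-- An LRS closed immersion into `Spec R` is `Spec (R/I)`. -/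
theorem exists_iso_Spec_quotient
    (i : Z ⟶ (Spec (CommRingCat.of R)).toLocallyRingedSpace) (hi : LRSImm.IsClosedImmersion i)
    (I : Ideal R)
    (hI : I = RingHom.ker ((Scheme.ΓSpecIso (CommRingCat.of R)).inv ≫ i.c.app (op ⊤)).hom) :
    ∃ e : Z ≅ (Spec (CommRingCat.of (R ⧸ I))).toLocallyRingedSpace,
      e.hom ≫ (Spec.map (CommRingCat.ofHom (Ideal.Quotient.mk I))).toLRSHom = i := by
  let adj := ΓSpec.locallyRingedSpaceAdjunction
  let ψ := (adj.homEquiv Z (op (CommRingCat.of R))).symm i
  have h1 : adj.homEquiv Z (op (CommRingCat.of R)) ψ = i := Equiv.apply_symm_apply _ _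
  have h2 := ΓSpec.toOpen_comp_locallyRingedSpaceAdjunction_homEquiv_app ψ (op ⊤)
  rw [h1] at h2
  have h2' : (Scheme.ΓSpecIso (CommRingCat.of R)).inv ≫ i.c.app (op ⊤) = ψ.unop := by
    rw [Scheme.ΓSpecIso_inv]
    refine h2.trans ?_
    exact (congrArg (ψ.unop ≫ ·) (Z.presheaf.map_id _)).trans (Category.comp_id _)
  have hIψ : I = RingHom.ker ψ.unop.hom :=
    hI.trans (congrArg (fun f => RingHom.ker (CommRingCat.Hom.hom f)) h2')
  -- the induced map on the quotient
  let ψbar : CommRingCat.of (R ⧸ I) ⟶ LocallyRingedSpace.Γ.obj (op Z) :=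
    CommRingCat.ofHom (Ideal.Quotient.lift I ψ.unop.hom (fun a ha => by
      rw [hIψ] at ha; exact ha))
  have hψbar : CommRingCat.ofHom (Ideal.Quotient.mk I) ≫ ψbar = ψ.unop := by
    ext a
    rfl
  let e : Z ⟶ (Spec (CommRingCat.of (R ⧸ I))).toLocallyRingedSpace :=
    adj.homEquiv Z (op (CommRingCat.of (R ⧸ I))) ψbar.op
  let jS : Spec (CommRingCat.of (R ⧸ I)) ⟶ Spec (CommRingCat.of R) :=
    Spec.map (CommRingCat.ofHom (Ideal.Quotient.mk I))
  have he : e ≫ jS.toLRSHom = i := by
    have := adj.homEquiv_naturality_right ψbar.op (CommRingCat.ofHom (Ideal.Quotient.mk I)).op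
    rw [← op_comp, hψbar] at this
    rw [← h1]
    exact this.symm
  have hker : ∀ (y : Spec (CommRingCat.of (R ⧸ I)))
      (σ : (Spec (CommRingCat.of R)).presheaf.stalk (jS y)), σ ∈ Kx i (jS y) →
      jS.stalkMap y σ = 0 := by
    intro y σ hσ
    rw [Kx_eq_map i hi.2.2 (isAffineOpen_top _) (jS y) trivial] at hσ
    have hle : (IV i ⊤).map ((Spec (CommRingCat.of R)).presheaf.germ ⊤ (jS y) trivial).hom ≤
        RingHom.ker (jS.stalkMap y).hom := by
      rw [Ideal.map_le_iff_le_comap]
      intro a ha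
      rw [Ideal.mem_comap, RingHom.mem_ker]
      have h3 : jS.app ⊤ a = 0 := by
        obtain ⟨r, rfl⟩ : ∃ r : R, (Scheme.ΓSpecIso (CommRingCat.of R)).inv r = a :=
          ⟨(Scheme.ΓSpecIso (CommRingCat.of R)).hom a, by
            rw [← CommRingCat.comp_apply, Iso.hom_inv_id]; rfl⟩
        have hr : r ∈ I := by
          rw [hI, RingHom.mem_ker]
          exact ha
        have hnat := congr($(Scheme.ΓSpecIso_inv_naturality
          (CommRingCat.ofHom (Ideal.Quotient.mk I))) r)
        rw [CommRingCat.comp_apply, CommRingCat.comp_apply] at hnat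
        have h0 : (CommRingCat.ofHom (Ideal.Quotient.mk I)) r = 0 :=
          Ideal.Quotient.eq_zero_iff_mem.mpr hr
        rw [h0, map_zero] at hnat
        exact hnat.symm
      have h4 := Scheme.Hom.germ_stalkMap_apply jS ⊤ y trivial a
      rw [h3, map_zero] at h4
      exact h4
    exact hle hσ
  have hjS : IsClosedImmersion jS :=
    IsClosedImmersion.spec_of_surjective _ Ideal.Quotient.mk_surjective
  have hiso : IsIso e := isIso_of_fac jS i hi e he hker
  exact ⟨asIso e, he⟩

end Affine

end Groth.Agent.Lib.LRSImm24
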