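/-
helper24: an LRS closed immersion into a scheme has a scheme as source (local structure).
-/
import Mathlib
import Groth.Agent.Lib.LRSImm24b

set_option autoImplicit false
universe u
open CategoryTheory AlgebraicGeometry TopologicalSpace Opposite

namespace Groth.Agent.Lib.LRSImm24

section KerGen

variable {X : Scheme.{u}} {Z : LocallyRingedSpace.{u}}

/-- Weak form of "the kernel of `O_X → i_* O_Z` is generated over `U` by its sections on `U`". -/
def KerGen (i : Z ⟶ X.toLocallyRingedSpace) (U : X.Opens) : Prop :=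
  (∀ (x : X) (hx : x ∈ U), x ∉ Set.range i.base →
    (1 : X.presheaf.stalk x) ∈ (IV i U).map (X.presheaf.germ U x hx).hom) ∧
  (∀ (z : Z) (hz : i.base z ∈ U) (σ : X.presheaf.stalk (i.base z)), i.stalkMap z σ = 0 →
    σ ∈ (IV i U).map (X.presheaf.germ U (i.base z) hz).hom)

theorem kerGen_of_isClosedImmersion (i : Z ⟶ X.toLocallyRingedSpace)
    (hi : LRSImm.IsClosedImmersion i) {U : X.Opens} (hU : IsAffineOpen U) : KerGen i U := by
  constructor
  · intro x hx hxr
    rw [← Kx_eq_map i hi.2.2 hU x hx]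
    exact one_mem_Kx_of_not_mem_range i hi.1.isClosed_range x hxr
  · intro z hz σ h
    rw [← Kx_eq_map i hi.2.2 hU (i.base z) hz]
    exact mem_Kx_of_stalkMap_eq_zero i hi.1.isInducing z σ h

theorem kerGen_congr (i : Z ⟶ X.toLocallyRingedSpace) {U U' : X.Opens} (h : U = U')
    (hk : KerGen i U) : KerGen i U' := by
  subst h
  exact hk

end KerGen

section Fac

variable {X Y : Scheme.{u}} (j : Y ⟶ X) [IsClosedImmersion j] {Z : LocallyRingedSpace.{u}}

/-- Variant of `isIso_of_fac` with weak hypotheses. -/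
theorem isIso_of_fac' (i : Z ⟶ X.toLocallyRingedSpace)
    (c1 : Topology.IsClosedEmbedding i.base) (c2 : ∀ z, Function.Surjective (i.stalkMap z))
    (e : Z ⟶ Y.toLocallyRingedSpace) (he : e ≫ j.toLRSHom = i)
    (U : X.Opens) (hjU : ∀ y, j y ∈ U) (c3 : KerGen i U)
    (hj : ∀ a ∈ IV i U, j.app U a = 0) :
    IsIso e := by
  subst he
  have hle : ∀ y : Y, (IV (e ≫ j.toLRSHom) U).map (X.presheaf.germ U (j y) (hjU y)).hom ≤
      RingHom.ker (j.stalkMap y).hom := by
    intro y
    rw [Ideal.map_le_iff_le_comap]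
    intro a ha
    rw [Ideal.mem_comap, RingHom.mem_ker]
    have h4 := Scheme.Hom.germ_stalkMap_apply j U y (hjU y) a
    rw [hj a ha, map_zero] at h4
    exact h4
  have hjcl : Topology.IsClosedEmbedding j := j.isClosedEmbedding
  have hcomp : ((e ≫ j.toLRSHom).base : Z → X) = (j : Y → X) ∘ (e.base : Z → Y) := rfl
  have hecl : Topology.IsClosedEmbedding (e.base : Z → Y) := by
    rw [hcomp] at c1
    exact (Topology.IsClosedEmbedding.of_comp_iff hjcl).mp c1
  -- surjectivity
  have hsurj : Function.Surjective (e.base : Z → Y) := by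
    intro y
    by_contra hy
    have hy' : j y ∉ Set.range (e ≫ j.toLRSHom).base := by
      rintro ⟨z, hz⟩
      apply hy
      exact ⟨z, hjcl.injective hz⟩
    have h1 := c3.1 (j y) (hjU y) hy'
    have h2 : j.stalkMap y 1 = 0 := hle y h1
    rw [map_one] at h2
    exact one_ne_zero h2
  have hopen : Topology.IsOpenEmbedding (e.base : Z → Y) :=
    (hecl.isEmbedding.toHomeomorphOfSurjective hsurj).isOpenEmbedding
  have hepi : Epi e.base := (TopCat.epi_iff_surjective _).mpr hsurj
  -- stalk maps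
  have hst : ∀ z : Z, IsIso (e.stalkMap z) := by
    intro z
    rw [ConcreteCategory.isIso_iff_bijective]
    have hc0 : (e ≫ j.toLRSHom).stalkMap z = j.stalkMap (e.base z) ≫ e.stalkMap z :=
      LocallyRingedSpace.stalkMap_comp e j.toLRSHom z
    have hc : ∀ σ : X.presheaf.stalk (j (e.base z)),
        (e ≫ j.toLRSHom).stalkMap z σ = e.stalkMap z (j.stalkMap (e.base z) σ) := by
      intro σ
      have := congr($hc0 σ)
      exact this
    constructor
    · intro τ τ' hττ'
      obtain ⟨σ, rfl⟩ := j.stalkMap_surjective (e.base z) τ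
      obtain ⟨σ', rfl⟩ := j.stalkMap_surjective (e.base z) τ'
      have h0 : (e ≫ j.toLRSHom).stalkMap z (σ - σ') = 0 := by
        rw [hc, map_sub, map_sub, hττ', sub_self]
      have h1 := c3.2 z (hjU (e.base z)) _ h0
      have h2 : j.stalkMap (e.base z) (σ - σ') = 0 := hle (e.base z) h1
      rw [map_sub, sub_eq_zero] at h2
      exact h2
    · intro t
      obtain ⟨σ, hσ⟩ := c2 z t
      refine ⟨j.stalkMap (e.base z) σ, ?_⟩
      exact (hc σ).symm.trans hσ
  have := LocallyRingedSpace.IsOpenImmersion.of_stalk_iso e hopen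
  exact LocallyRingedSpace.IsOpenImmersion.to_iso e

end Fac

section Affine

variable (R : Type u) [CommRing R] (Z : LocallyRingedSpace.{u})

/-- An LRS closed immersion into `Spec R` is `Spec (R/I)`; weak hypotheses. -/
theorem exists_iso_Spec_quotient'
    (i : Z ⟶ (Spec (CommRingCat.of R)).toLocallyRingedSpace)
    (c1 : Topology.IsClosedEmbedding i.base) (c2 : ∀ z, Function.Surjective (i.stalkMap z))
    (c3 : KerGen i ⊤)
    (I : Ideal R)
    (hI : I = RingHom.ker ((Scheme.ΓSpecIso (CommRingCat.of R)).inv ≫ i.c.app (op ⊤)).hom) :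
    ∃ e : Z ≅ (Spec (CommRingCat.of (R ⧸ I))).toLocallyRingedSpace,
      e.hom ≫ (Spec.map (CommRingCat.ofHom (Ideal.Quotient.mk I))).toLRSHom = i := by
  let adj := ΓSpec.locallyRingedSpaceAdjunction
  let ψ := (adj.homEquiv Z (op (CommRingCat.of R))).symm i
  have h1 : adj.homEquiv Z (op (CommRingCat.of R)) ψ = i := Equiv.apply_symm_apply _ _
  have h2 := ΓSpec.toOpen_comp_locallyRingedSpaceAdjunction_homEquiv_app ψ (op ⊤)
  rw [h1] at h2
  have h2' : (Scheme.ΓSpecIso (CommRingCat.of R)).inv ≫ i.c.app (op ⊤) = ψ.unop := by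
    rw [Scheme.ΓSpecIso_inv]
    refine h2.trans ?_
    exact (congrArg (ψ.unop ≫ ·) (Z.presheaf.map_id _)).trans (Category.comp_id _)
  have hIψ : I = RingHom.ker ψ.unop.hom :=
    hI.trans (congrArg (fun f => RingHom.ker (CommRingCat.Hom.hom f)) h2')
  -- the induced map on the quotient
  let ψbar : CommRingCat.of (R ⧸ I) ⟶ LocallyRingedSpace.Γ.obj (op Z) :=
    CommRingCat.ofHom (Ideal.Quotient.lift I ψ.unop.hom (fun a ha => by
      rw [hIψ] at ha; exact ha))
  have hψbar : CommRingCat.ofHom (Ideal.Quotient.mk I) ≫ ψbar = ψ.unop := by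
    ext a
    rfl
  let e : Z ⟶ (Spec (CommRingCat.of (R ⧸ I))).toLocallyRingedSpace :=
    adj.homEquiv Z (op (CommRingCat.of (R ⧸ I))) ψbar.op
  let jS : Spec (CommRingCat.of (R ⧸ I)) ⟶ Spec (CommRingCat.of R) :=
    Spec.map (CommRingCat.ofHom (Ideal.Quotient.mk I))
  have he : e ≫ jS.toLRSHom = i := by
    have := adj.homEquiv_naturality_right ψbar.op (CommRingCat.ofHom (Ideal.Quotient.mk I)).op
    rw [← op_comp, hψbar] at this
    rw [← h1]
    exact this.symm
  have hj : ∀ a ∈ IV i ⊤, jS.app ⊤ a = 0 := by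
    intro a ha
    obtain ⟨r, rfl⟩ : ∃ r : R, (Scheme.ΓSpecIso (CommRingCat.of R)).inv r = a :=
      ⟨(Scheme.ΓSpecIso (CommRingCat.of R)).hom a, by
        rw [← CommRingCat.comp_apply, Iso.hom_inv_id]; rfl⟩
    have hr : r ∈ I := by
      rw [hI, RingHom.mem_ker]
      exact ha
    have hnat := congr($(Scheme.ΓSpecIso_inv_naturality
      (CommRingCat.ofHom (Ideal.Quotient.mk I))) r)
    rw [CommRingCat.comp_apply, CommRingCat.comp_apply] at hnat
    have h0 : (CommRingCat.ofHom (Ideal.Quotient.mk I)) r = 0 :=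
      Ideal.Quotient.eq_zero_iff_mem.mpr hr
    rw [h0, map_zero] at hnat
    exact hnat.symm
  have hjS : IsClosedImmersion jS :=
    IsClosedImmersion.spec_of_surjective _ Ideal.Quotient.mk_surjective
  have hiso : IsIso e := isIso_of_fac' jS i c1 c2 e he ⊤ (fun _ => trivial) c3 hj
  exact ⟨asIso e, he⟩

end Affine

section L2

variable {X X' : Scheme.{u}} (b : X' ⟶ X) {Z' : LocallyRingedSpace.{u}}
  (i' : Z' ⟶ X'.toLocallyRingedSpace)

theorem IV_comp_le (U : X.Opens) :
    (IV (i' ≫ b.toLRSHom) U).map (b.app U).hom ≤ IV i' (b ⁻¹ᵁ U) := by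
  rw [Ideal.map_le_iff_le_comap]
  intro s hs
  rw [Ideal.mem_comap, mem_IV]
  exact hs

theorem map_map_le (U : X.Opens) (x' : X') (hx : b x' ∈ U) :
    ((IV (i' ≫ b.toLRSHom) U).map (X.presheaf.germ U (b x') hx).hom).map (b.stalkMap x').hom ≤
      (IV i' (b ⁻¹ᵁ U)).map (X'.presheaf.germ (b ⁻¹ᵁ U) x' hx).hom := by
  rw [Ideal.map_map, ← CommRingCat.hom_comp, Scheme.Hom.germ_stalkMap, CommRingCat.hom_comp,
    ← Ideal.map_map]
  exact Ideal.map_mono (IV_comp_le b i' U)

theorem of_comp_openImmersion [IsOpenImmersion b]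
    (p1 : Topology.IsEmbedding (i' ≫ b.toLRSHom).base) (C : Set X) (hC : IsClosed C)
    (p1' : Set.range (i' ≫ b.toLRSHom).base = C ∩ Set.range b)
    (p2 : ∀ z, Function.Surjective ((i' ≫ b.toLRSHom).stalkMap z))
    (p3 : KerGen (i' ≫ b.toLRSHom) b.opensRange) :
    Topology.IsClosedEmbedding i'.base ∧ (∀ z, Function.Surjective (i'.stalkMap z)) ∧
      KerGen i' ⊤ := by
  have hbinj : Function.Injective b := b.isOpenEmbedding.injective
  have hcomp : ((i' ≫ b.toLRSHom).base : Z' → X) = (b : X' → X) ∘ (i'.base : Z' → X') := rfl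
  have hc : ∀ (z : Z') (σ : X.presheaf.stalk (b (i'.base z))),
      (i' ≫ b.toLRSHom).stalkMap z σ = i'.stalkMap z (b.stalkMap (i'.base z) σ) := by
    intro z σ
    have hc0 : (i' ≫ b.toLRSHom).stalkMap z = b.stalkMap (i'.base z) ≫ i'.stalkMap z :=
      LocallyRingedSpace.stalkMap_comp i' b.toLRSHom z
    have := congr($hc0 σ)
    exact this
  refine ⟨⟨?_, ?_⟩, ?_, ?_⟩
  · rw [hcomp] at p1
    exact Topology.IsEmbedding.of_comp i'.base.hom.continuous b.continuous p1
  · have hr : Set.range i'.base = b ⁻¹' C := by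
      ext x'
      constructor
      · rintro ⟨z, rfl⟩
        have : b (i'.base z) ∈ Set.range (i' ≫ b.toLRSHom).base := ⟨z, rfl⟩
        rw [p1'] at this
        exact this.1
      · intro hx
        have : b x' ∈ Set.range (i' ≫ b.toLRSHom).base := by
          rw [p1']
          exact ⟨hx, x', rfl⟩
        obtain ⟨z, hz⟩ := this
        exact ⟨z, hbinj hz⟩
    rw [hr]
    exact hC.preimage b.continuous
  · intro z t
    obtain ⟨σ, hσ⟩ := p2 z t
    exact ⟨b.stalkMap (i'.base z) σ, (hc z σ).symm.trans hσ⟩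
  · apply kerGen_congr i' (Scheme.Hom.preimage_opensRange b)
    constructor
    · intro x' hx' hxr
      have hxr' : b x' ∉ Set.range (i' ≫ b.toLRSHom).base := by
        rintro ⟨z, hz⟩
        exact hxr ⟨z, hbinj hz⟩
      have h1 := p3.1 (b x') hx' hxr'
      have h2 := Ideal.mem_map_of_mem (b.stalkMap x').hom h1
      rw [map_one] at h2
      exact map_map_le b i' _ x' hx' h2
    · intro z hz σ' hσ'
      obtain ⟨σ, rfl⟩ := (ConcreteCategory.bijective_of_isIso (b.stalkMap (i'.base z))).2 σ'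
      have h0 : (i' ≫ b.toLRSHom).stalkMap z σ = 0 := (hc z σ).trans hσ'
      have h1 := p3.2 z hz σ h0
      have h2 := Ideal.mem_map_of_mem (b.stalkMap (i'.base z)).hom h1
      exact map_map_le b i' _ (i'.base z) hz h2

end L2

section L1

variable {X : Scheme.{u}} {Z Z' : LocallyRingedSpace.{u}} (a : Z' ⟶ Z)
  (i : Z ⟶ X.toLocallyRingedSpace) (U : X.Opens)

theorem IV_le_comp : IV i U ≤ IV (a ≫ i) U := by
  intro s hs
  rw [mem_IV] at hs ⊢
  have : (a ≫ i).c.app (op U) s =
      a.c.app (op ((Opens.map i.base).obj U)) (i.c.app (op U) s) := rfl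
  rw [this, hs]
  exact map_zero _

theorem comp_of_openImmersion [LocallyRingedSpace.IsOpenImmersion a]
    (ha : Set.range a.base = i.base ⁻¹' U)
    (c1 : Topology.IsClosedEmbedding i.base) (c2 : ∀ z, Function.Surjective (i.stalkMap z))
    (c3 : KerGen i U) :
    Topology.IsEmbedding (a ≫ i).base ∧ Set.range (a ≫ i).base = Set.range i.base ∩ U ∧
      (∀ z, Function.Surjective ((a ≫ i).stalkMap z)) ∧ KerGen (a ≫ i) U := by
  have haopen : Topology.IsOpenEmbedding a.base :=
    (inferInstance : LocallyRingedSpace.IsOpenImmersion a).base_open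
  have hcomp : ((a ≫ i).base : Z' → X) = (i.base : Z → X) ∘ (a.base : Z' → Z) := rfl
  have hc : ∀ (z : Z') (σ : X.presheaf.stalk (i.base (a.base z))),
      (a ≫ i).stalkMap z σ = a.stalkMap z (i.stalkMap (a.base z) σ) := by
    intro z σ
    have hc0 : (a ≫ i).stalkMap z = i.stalkMap (a.base z) ≫ a.stalkMap z :=
      LocallyRingedSpace.stalkMap_comp a i z
    have := congr($hc0 σ)
    exact this
  have hbij : ∀ z : Z', Function.Bijective (a.stalkMap z) := fun z =>
    ConcreteCategory.bijective_of_isIso (a.stalkMap z)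
  have hnr : ∀ x ∈ U, x ∉ Set.range (a ≫ i).base → x ∉ Set.range i.base := by
    rintro x hx hxr ⟨z, rfl⟩
    have hz : z ∈ Set.range a.base := by
      rw [ha]; exact hx
    obtain ⟨z', rfl⟩ := hz
    exact hxr ⟨z', rfl⟩
  refine ⟨?_, ?_, ?_, ?_, ?_⟩
  · rw [hcomp]
    exact c1.isEmbedding.comp haopen.isEmbedding
  · rw [hcomp, Set.range_comp, ha, Set.image_preimage_eq_inter_range, Set.inter_comm]
  · intro z t
    obtain ⟨t', rfl⟩ := (hbij z).2 t
    obtain ⟨σ, rfl⟩ := c2 (a.base z) t'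
    exact ⟨σ, hc z σ⟩
  · intro x hx hxr
    exact Ideal.map_mono (IV_le_comp a i U) (c3.1 x hx (hnr x hx hxr))
  · intro z hz σ hσ
    have h0 : i.stalkMap (a.base z) σ = 0 := by
      apply (hbij z).1
      rw [map_zero]
      exact (hc z σ).symm.trans hσ
    exact Ideal.map_mono (IV_le_comp a i U) (c3.2 (a.base z) hz σ h0)

end L1

section Main

/-- Local structure: the source of an LRS closed immersion into a scheme is covered by affine
schemes. -/
theorem exists_affine_nhd (X : Scheme.{u}) (Z : LocallyRingedSpace.{u})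
    (i : Z ⟶ X.toLocallyRingedSpace) (hi : LRSImm.IsClosedImmersion i) (z : Z) :
    ∃ (R : CommRingCat.{u}) (f : Spec.toLocallyRingedSpace.obj (op R) ⟶ Z),
      (z ∈ Set.range f.base) ∧ LocallyRingedSpace.IsOpenImmersion f := by
  obtain ⟨U, hU, hzU⟩ : ∃ U : X.Opens, IsAffineOpen U ∧ i.base z ∈ U := by
    obtain ⟨_, ⟨U, hU, rfl⟩, hzU, -⟩ :=
      X.isBasis_affineOpens.exists_subset_of_mem_open (Set.mem_univ (i.base z)) isOpen_univ
    exact ⟨U, hU, hzU⟩
  let W : Opens Z := (Opens.map i.base).obj U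
  let a : Z.restrict W.isOpenEmbedding ⟶ Z := Z.ofRestrict W.isOpenEmbedding
  have haoi : LocallyRingedSpace.IsOpenImmersion a := by
    dsimp only [a]; infer_instance
  have hra : Set.range a.base = i.base ⁻¹' U := by
    change Set.range (Subtype.val : W → Z) = _
    rw [Subtype.range_coe]
    rfl
  have c2 : ∀ z, Function.Surjective (i.stalkMap z) :=
    stalkMap_surjective i hi.1.isInducing hi.2.1
  have hP := comp_of_openImmersion a i U hra hi.1 c2 (kerGen_of_isClosedImmersion i hi hU)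
  let b := hU.fromSpec
  have hsub : Set.range (a ≫ i).base ⊆ Set.range b.toLRSHom.base := by
    rw [hP.2.1]
    intro x hx
    have : x ∈ Set.range hU.fromSpec := by
      rw [hU.range_fromSpec]; exact hx.2
    exact this
  let i' := LocallyRingedSpace.IsOpenImmersion.lift b.toLRSHom (a ≫ i) hsub
  have hfac : i' ≫ b.toLRSHom = a ≫ i := LocallyRingedSpace.IsOpenImmersion.lift_fac _ _ _
  rw [← hfac] at hP
  obtain ⟨p1, p1', p2, p3⟩ := hP
  have hQ := of_comp_openImmersion b i' p1 (Set.range i.base) hi.1.isClosed_range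
    (by rw [p1', hU.range_fromSpec]) p2 (kerGen_congr _ hU.opensRange_fromSpec.symm p3)
  obtain ⟨q1, q2, q3⟩ := hQ
  obtain ⟨ε, -⟩ := exists_iso_Spec_quotient' Γ(X, U) _ i' q1 q2 q3 _ rfl
  refine ⟨CommRingCat.of (Γ(X, U) ⧸ _), ε.inv ≫ a, ?_, inferInstance⟩
  refine ⟨ε.hom.base ⟨z, hzU⟩, ?_⟩
  change a.base ((ε.hom ≫ ε.inv).base ⟨z, hzU⟩) = z
  rw [Iso.hom_inv_id]
  rfl

end Main

end Groth.Agent.Lib.LRSImm24
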