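/-
helper66: the derived tensor product `- ⊗^L E` on a ringed site is computed by a K-flat resolution of the
FIXED complex `E`: if `e : E' ⟶ E` is a quasi-isomorphism with `E'` K-flat, the functor `D(O) ⥤ D(O)`
induced by `- ⊗ E'` is a total left derived functor of `F ↦ Q(F ⊗ E)`.
-/
import Groth.Agent.Lib.KanResolution66
import Groth.Agent.Lib.ModSiteKFlatRes66
import Groth.Agent.Lib.ModSiteTensorAssoc66
import Groth.Agent.S9050

set_option autoImplicit false
universe u
open CategoryTheory Limits HomologicalComplex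

attribute [local instance] HasDerivedCategory.standard

namespace Groth.Agent.Lib.LTensorKFlat66

open Groth.Agent.Lib.ModSiteKFlatBdd66 Groth.Agent.Lib.ModSiteKFlatQis66
  Groth.Agent.Lib.ModSiteKFlatRes66 Groth.Agent.Lib.RelResolution66
  Groth.Agent.Lib.KanResolution66 Groth.Agent.Lib.ModSiteFlat

variable {C : Type u} [SmallCategory C] {J : GrothendieckTopology C} {O : Sheaf J CommRingCat.{u}}

variable (O) in
/-- quasi-isomorphisms -/
abbrev Wq : MorphismProperty (Cx O) :=
  HomologicalComplex.quasiIso (ModSite.Mod O) (ComplexShape.up ℤ)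

variable (O) in
/-- K-flat complexes -/
def Pk : ObjectProperty (Cx O) := fun K => ModSite.IsKFlat K

/-- the short exact sequence attached to an epimorphism -/
lemma shortExact_of_epi {A : Type*} [Category A] [Abelian A] {X Y : A} (π : X ⟶ Y) [Epi π] :
    (ShortComplex.mk (kernel.ι π) π (kernel.condition π)).ShortExact :=
  { exact := ShortComplex.exact_of_f_is_kernel _ (kernelIsKernel π) }

/-- two K-flat resolutions, one of which is termwise epi, are dominated by a third one -/
lemma exists_zig (M : Cx O) {P' : Cx O} (w' : P' ⟶ M) (hw' : QuasiIso w') :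
    ∃ (P'' : Cx O) (h₁ : P'' ⟶ res M) (h₂ : P'' ⟶ P'), ModSite.IsKFlat P'' ∧ QuasiIso h₁ ∧
      QuasiIso h₂ ∧ h₁ ≫ resπ M = h₂ ≫ w' := by
  have : Epi (resπ M) := HomologicalComplex.epi_of_epi_f _ (epi_resπ_f M)
  have hS := shortExact_of_epi (resπ M)
  have h1 : QuasiIso (pullback.fst (resπ M) w') :=
    quasiIso_pullback_fst (S := ShortComplex.mk (kernel.ι (resπ M)) (resπ M)
      (kernel.condition (resπ M))) hS w' hw'
  have := quasiIso_resπ M
  have := hw'
  have h2 : QuasiIso (pullback.snd (resπ M) w' ≫ w') := by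
    rw [← pullback.condition]
    infer_instance
  have h3 : QuasiIso (pullback.snd (resπ M) w') := quasiIso_of_comp_right _ w'
  have := quasiIso_resπ (pullback (resπ M) w')
  refine ⟨res (pullback (resπ M) w'), resπ _ ≫ pullback.fst _ _, resπ _ ≫ pullback.snd _ _,
    isKFlat_res _, inferInstance, inferInstance, ?_⟩
  rw [Category.assoc, Category.assoc, pullback.condition]

variable (O) in
/-- K-flat resolutions on a ringed site form a system of resolutions -/
noncomputable def resData : ResData (Wq O) (Pk O) where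
  obj M := res M
  w M := resπ M
  hw M := (HomologicalComplex.mem_quasiIso_iff _).2 (quasiIso_resπ M)
  hP M := isKFlat_res M
  zig {M P'} w' hw' _ := by
    obtain ⟨P'', h₁, h₂, hP'', hh₁, hh₂, e⟩ :=
      exists_zig M w' ((HomologicalComplex.mem_quasiIso_iff _).1 hw')
    exact ⟨P'', h₁, h₂, hP'', (HomologicalComplex.mem_quasiIso_iff _).2 hh₁,
      (HomologicalComplex.mem_quasiIso_iff _).2 hh₂, e⟩
  arrow {M N} f := by
    obtain ⟨N', b, c, hN', hc, e, -⟩ := exists_factor_isKFlat (resπ M ≫ f) (isKFlat_res M)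
    exact ⟨res M, N', resπ M, c, b, isKFlat_res M, hN',
      (HomologicalComplex.mem_quasiIso_iff _).2 (quasiIso_resπ M),
      (HomologicalComplex.mem_quasiIso_iff _).2 hc, e⟩

/-- tensoring a K-flat complex (first variable) with a quasi-isomorphism is a quasi-isomorphism -/
lemma quasiIso_tensor_right (P : Cx O) (hP : ModSite.IsKFlat P) {E' E : Cx O} (e : E' ⟶ E)
    [QuasiIso e] :
    QuasiIso (HomologicalComplex.mapBifunctorMap (𝟙 P) e (ModSite.tensorBi O)
      (ComplexShape.up ℤ)) := by
  apply Groth.Agent.Lib.ConeAcyclic66.quasiIso_of_isZero_homology_cone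
  intro i
  have h1 : (CochainComplex.mappingCone e).Acyclic :=
    (Groth.Agent.Lib.ConeQuasiIso.quasiIso_iff_acyclic_mappingCone e).1 inferInstance
  have h2 : ∀ i, IsZero ((T (CochainComplex.mappingCone e) P).homology i) :=
    hP _ ((ModSiteKFlatQis66.acyclic_iff _).1 h1)
  have h3 := isZero_homology_symm (CochainComplex.mappingCone e) P i (h2 i)
  exact h3.of_iso ((HomologicalComplex.homologyFunctor _ _ i).mapIso
    (Groth.Agent.Lib.BifunctorCone66.coneIso₂ (ModSite.tensorBi O) P e)).symm

/-- tensoring a quasi-isomorphism (first variable) with a K-flat complex is a quasi-isomorphism -/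
lemma quasiIso_tensor_left (E : Cx O) (hE : ModSite.IsKFlat E) {F F' : Cx O} (φ : F ⟶ F')
    [QuasiIso φ] :
    QuasiIso (HomologicalComplex.mapBifunctorMap φ (𝟙 E) (ModSite.tensorBi O)
      (ComplexShape.up ℤ)) :=
  Groth.Agent.S9050.result O E ((isKFlat_iff E).1 hE) F F' φ

/-- `F ↦ Q(F ⊗ E)` inverts quasi-isomorphisms when `E` is K-flat -/
lemma isInvertedBy_tensorCxQ (E : Cx O) (hE : ModSite.IsKFlat E) :
    (Wq O).IsInvertedBy (ModSite.tensorCxQ E) := by
  intro F F' φ hφ
  have : QuasiIso φ := (HomologicalComplex.mem_quasiIso_iff _).1 hφ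
  have := quasiIso_tensor_left E hE φ
  exact inferInstanceAs (IsIso (DerivedCategory.Q.map
    (HomologicalComplex.mapBifunctorMap φ (𝟙 E) (ModSite.tensorBi O) (ComplexShape.up ℤ))))

/-- the natural transformation `Q(- ⊗ E') ⟶ Q(- ⊗ E)` induced by `e : E' ⟶ E` -/
noncomputable def εQ {E' E : Cx O} (e : E' ⟶ E) : ModSite.tensorCxQ E' ⟶ ModSite.tensorCxQ E :=
  Functor.whiskerRight ((ModSite.tensorCx O).flip.map e) DerivedCategory.Q

lemma isIso_εQ_app {E' E : Cx O} (e : E' ⟶ E) [QuasiIso e] (P : Cx O) (hP : ModSite.IsKFlat P) :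
    IsIso ((εQ e).app P) := by
  have := quasiIso_tensor_right P hP e
  exact inferInstanceAs (IsIso (DerivedCategory.Q.map
    (HomologicalComplex.mapBifunctorMap (𝟙 P) e (ModSite.tensorBi O) (ComplexShape.up ℤ))))

/-- the functor on `D(O)` induced by `- ⊗ E'` for K-flat `E'` -/
noncomputable def tensD (E' : Cx O) (hE' : ModSite.IsKFlat E') :
    DerivedCategory (ModSite.Mod O) ⥤ DerivedCategory (ModSite.Mod O) :=
  Localization.lift (ModSite.tensorCxQ E') (isInvertedBy_tensorCxQ E' hE') DerivedCategory.Q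

noncomputable instance (E' : Cx O) (hE' : ModSite.IsKFlat E') :
    Localization.Lifting DerivedCategory.Q (Wq O) (ModSite.tensorCxQ E') (tensD E' hE') :=
  inferInstanceAs (Localization.Lifting DerivedCategory.Q (Wq O) (ModSite.tensorCxQ E')
    (Localization.lift (ModSite.tensorCxQ E') (isInvertedBy_tensorCxQ E' hE') DerivedCategory.Q))

/-- the counit `Q ⋙ tensD E' ⟶ Q(- ⊗ E)` -/
noncomputable def counitD {E' E : Cx O} (e : E' ⟶ E) (hE' : ModSite.IsKFlat E') :
    DerivedCategory.Q ⋙ tensD E' hE' ⟶ ModSite.tensorCxQ E :=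
  counit (Wq O) DerivedCategory.Q (εQ e) (tensD E' hE')

/-- MAIN: the functor induced by `- ⊗ E'` is a total left derived functor of `Q(- ⊗ E)` -/
theorem isLeftDerivedFunctor_tensD {E' E : Cx O} (e : E' ⟶ E) [QuasiIso e]
    (hE' : ModSite.IsKFlat E') :
    (tensD E' hE').IsLeftDerivedFunctor (counitD e hE') (Wq O) :=
  isLeftDerivedFunctor DerivedCategory.Q (εQ e) (fun P hP => isIso_εQ_app e P hP) (resData O)
    (tensD E' hE')

end Groth.Agent.Lib.LTensorKFlat66
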