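import Groth.Agent.Lib.KFlatTensorRight21
import Groth.Prelude.Def_DTor2

/-!
# The derived tensor product `- ⊗^L G` on `D(O_X)` exists and is computed on K-flat complexes (helper21)

Scheme `X`, `G : X.Modules`.
* `hasLTensorMod G : DCoh.HasLTensorMod G` — the existence binder always holds.
* `isIso_counit G P hP` — the counit `(K ⊗^L G) ⟶ Q(P ⊗ G)` at `K = Q(P)` is an isomorphism for `P` K-flat.
* `lTensorModIso G P hP : (DCoh.LTensorMod G).obj (Q.obj P) ≅ Q.obj (P ⊗ G termwise)`.
-/

set_option autoImplicit false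
universe u
open CategoryTheory Limits AlgebraicGeometry
attribute [local instance] HasDerivedCategory.standard

namespace Groth.Agent.Lib.LTensorMod21
open Groth.Agent.Lib.ModSiteKFlatBdd66

variable {X : Scheme.{u}}

/-- `tensorRightMod G` is the flipped tensor bifunctor evaluated at `G` -/
noncomputable def tensorRightModIso (G : X.Modules) :
    DCoh.tensorRightMod G ≅ (ModSite.tensorBi X.sheaf).flip.obj G :=
  NatIso.ofComponents (fun N => Iso.refl _) (by
    intro N N' f
    simp only [Iso.refl_hom]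
    exact (Category.comp_id _).trans (Category.id_comp _).symm)

/-- termwise `- ⊗ G` -/
noncomputable abbrev tensorCxMod (G : X.Modules) :
    CochainComplex X.Modules ℤ ⥤ CochainComplex X.Modules ℤ :=
  (DCoh.tensorRightMod G).mapHomologicalComplex (ComplexShape.up ℤ)

/-- `- ⊗ G` sends quasi-isomorphisms between K-flat complexes to quasi-isomorphisms -/
theorem quasiIso_tensorCxMod_map (G : X.Modules) {P Q : CochainComplex X.Modules ℤ} (f : P ⟶ Q)
    (hP : ModSite.IsKFlat (O := X.sheaf) P) (hQ : ModSite.IsKFlat (O := X.sheaf) Q) (hf : QuasiIso f) :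
    QuasiIso ((tensorCxMod G).map f) :=
  @Groth.Agent.Lib.KFlatTensorRight21.quasiIso_map_of_iso _ _ _ X.sheaf G (DCoh.tensorRightMod G)
    (DCoh.additive_tensorRightMod G)
    (tensorRightModIso G ≪≫ (Groth.Agent.Lib.ModSiteTensorSymm66.braidBi X.sheaf).symm.app G) P Q f hP hQ hf

theorem isIso_tensorModKh_map (G : X.Modules) {P Q : CochainComplex X.Modules ℤ} (f : P ⟶ Q)
    (hP : ModSite.IsKFlat (O := X.sheaf) P) (hQ : ModSite.IsKFlat (O := X.sheaf) Q) (hf : QuasiIso f) :
    IsIso ((DCoh.tensorModKh G).map ((HomotopyCategory.quotient _ _).map f)) := by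
  have := quasiIso_tensorCxMod_map G f hP hQ hf
  change IsIso (DerivedCategory.Q.map ((tensorCxMod G).map f))
  infer_instance

/-- the existence binder `HasLTensorMod G` always holds -/
theorem hasLTensorMod (G : X.Modules) : DCoh.HasLTensorMod G :=
  Groth.Agent.Lib.KFlatTri21.hasLeftDerivedFunctor (O := X.sheaf) (DCoh.tensorModKh G)
    (fun _ _ f hP hQ hf => isIso_tensorModKh_map G f hP hQ hf)

/-- the counit of `- ⊗^L G` is an isomorphism at K-flat complexes -/
theorem isIso_counit (G : X.Modules) [DCoh.HasLTensorMod G] (P : CochainComplex X.Modules ℤ)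
    (hP : ModSite.IsKFlat (O := X.sheaf) P) :
    IsIso (((DCoh.tensorModKh G).totalLeftDerivedCounit DerivedCategory.Qh
      (HomotopyCategory.quasiIso X.Modules (ComplexShape.up ℤ))).app
        ((HomotopyCategory.quotient _ _).obj P)) := by
  have inst : (DCoh.LTensorMod G).IsLeftDerivedFunctor
      ((DCoh.tensorModKh G).totalLeftDerivedCounit DerivedCategory.Qh
        (HomotopyCategory.quasiIso X.Modules (ComplexShape.up ℤ)))
      (HomotopyCategory.quasiIso X.Modules (ComplexShape.up ℤ)) := inferInstance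
  exact @Groth.Agent.Lib.KFlatTri21.isIso_counit_app _ _ _ X.sheaf _ _ (DCoh.tensorModKh G)
    (fun _ _ f hP hQ hf => isIso_tensorModKh_map G f hP hQ hf) _ _ DerivedCategory.Qh _
    (DCoh.LTensorMod G) _ inst P hP

/-- `Q(P) ⊗^L G ≅ Q(P ⊗ G)` for `P` K-flat -/
noncomputable def lTensorModIso (G : X.Modules) [DCoh.HasLTensorMod G] (P : CochainComplex X.Modules ℤ)
    (hP : ModSite.IsKFlat (O := X.sheaf) P) :
    (DCoh.LTensorMod G).obj (DCoh.toD X P) ≅ DCoh.toD X ((tensorCxMod G).obj P) :=
  @asIso _ _ _ _ (((DCoh.tensorModKh G).totalLeftDerivedCounit DerivedCategory.Qh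
      (HomotopyCategory.quasiIso X.Modules (ComplexShape.up ℤ))).app
        ((HomotopyCategory.quotient _ _).obj P)) (isIso_counit G P hP)

end Groth.Agent.Lib.LTensorMod21
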