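import Groth.Agent.Lib.LpullKFlat35

/-!
# `Lf^* ∘ Lg^* ≅ L(g ∘ f)^*` (helper35), hypothesis form

`nonempty_lpull_comp f g hf hg hfg hgK`: under `AcycHyp` for `f`, `g`, `f ≫ g` and `KFlatHyp g`.
-/

set_option autoImplicit false
universe u
open CategoryTheory Limits AlgebraicGeometry
attribute [local instance] HasDerivedCategory.standard

namespace Groth.Agent.Lib.LpullKFlat35

variable {X Y Z : Scheme.{u}} (f : X ⟶ Y) (g : Y ⟶ Z)

/-- `(g^*)_K ⋙ (f^*)_K ≅ ((f ≫ g)^*)_K` on homotopy categories -/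
noncomputable def pullKCompIso :
    (Scheme.Modules.pullback g).mapHomotopyCategory (ComplexShape.up ℤ) ⋙
      (Scheme.Modules.pullback f).mapHomotopyCategory (ComplexShape.up ℤ) ≅
    (Scheme.Modules.pullback (f ≫ g)).mapHomotopyCategory (ComplexShape.up ℤ) :=
  Functor.mapHomotopyCategoryCompIso (Scheme.Modules.pullbackComp f g) _

variable [DCoh.HasLpull f] [DCoh.HasLpull g] [DCoh.HasLpull (f ≫ g)]

/-- counit abbreviations -/
noncomputable abbrev cu {X Y : Scheme.{u}} (f : X ⟶ Y) [DCoh.HasLpull f] :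
    DerivedCategory.Qh ⋙ DCoh.Lpull f ⟶ DCoh.pullKh f :=
  (DCoh.pullKh f).totalLeftDerivedCounit DerivedCategory.Qh
    (HomotopyCategory.quasiIso Y.Modules (ComplexShape.up ℤ))

/-- the comparison `Qh ⋙ Lg^* ⋙ Lf^* ⟶ pullKh (f ≫ g)` -/
noncomputable def compTrans :
    DerivedCategory.Qh ⋙ (DCoh.Lpull g ⋙ DCoh.Lpull f) ⟶ DCoh.pullKh (f ≫ g) where
  app K := (DCoh.Lpull f).map ((cu g).app K) ≫
    (cu f).app (((Scheme.Modules.pullback g).mapHomotopyCategory (ComplexShape.up ℤ)).obj K) ≫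
    DerivedCategory.Qh.map ((pullKCompIso f g).hom.app K)
  naturality K L φ := by
    dsimp only [Functor.comp_obj, Functor.comp_map]
    have n1 := (cu g).naturality φ
    have n2 := (cu f).naturality
      (((Scheme.Modules.pullback g).mapHomotopyCategory (ComplexShape.up ℤ)).map φ)
    have n3 := (pullKCompIso f g).hom.naturality φ
    dsimp only [Functor.comp_obj, Functor.comp_map] at n1 n2 n3
    rw [← Category.assoc, ← Functor.map_comp, n1, Functor.map_comp, Category.assoc,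
      reassoc_of% n2, ← Functor.map_comp, n3, Functor.map_comp]
    simp only [Category.assoc]

variable {f g}

theorem nonempty_lpull_comp (hf : AcycHyp f) (hg : AcycHyp g) (hfg : AcycHyp (f ≫ g))
    (hgK : KFlatHyp g) : Nonempty (DCoh.Lpull g ⋙ DCoh.Lpull f ≅ DCoh.Lpull (f ≫ g)) := by
  let W := HomotopyCategory.quasiIso Z.Modules (ComplexShape.up ℤ)
  let γ : DCoh.Lpull g ⋙ DCoh.Lpull f ⟶ DCoh.Lpull (f ≫ g) :=
    (DCoh.Lpull (f ≫ g)).leftDerivedLift (cu (f ≫ g)) W _ (compTrans f g)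
  have hγ : ∀ K, (γ.app (DerivedCategory.Qh.obj K)) ≫ (cu (f ≫ g)).app K = (compTrans f g).app K :=
    fun K => Functor.leftDerived_fac_app _ _ W _ _ K
  suffices IsIso γ from ⟨asIso γ⟩
  rw [NatTrans.isIso_iff_isIso_app]
  intro K
  -- K-flat representative
  obtain ⟨K₀, ⟨e₀⟩⟩ : ∃ K₀ : CochainComplex Z.Modules ℤ, Nonempty (DerivedCategory.Q.obj K₀ ≅ K) :=
    ⟨_, ⟨(DerivedCategory.Q.objObjPreimageIso K)⟩⟩
  obtain ⟨P, p, hP, -, hp⟩ := Groth.Agent.Lib.TorAmpTri21.exists_resolution K₀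
  have hiso : IsIso (DerivedCategory.Q.map p) :=
    (DerivedCategory.isIso_Q_map_iff_quasiIso (φ := p)).2 hp
  let e : DerivedCategory.Qh.obj ((HomotopyCategory.quotient _ _).obj P) ≅ K :=
    @asIso _ _ _ _ (DerivedCategory.Q.map p) hiso ≪≫ e₀
  rw [← NatTrans.isIso_app_iff_of_iso γ e]
  have h1 : IsIso ((cu (f ≫ g)).app ((HomotopyCategory.quotient _ _).obj P)) :=
    isIso_counit hfg P hP
  have h2 : IsIso ((compTrans f g).app ((HomotopyCategory.quotient _ _).obj P)) := by
    have a1 : IsIso ((cu g).app ((HomotopyCategory.quotient _ _).obj P)) := isIso_counit hg P hP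
    have a2 : IsIso ((cu f).app (((Scheme.Modules.pullback g).mapHomotopyCategory
        (ComplexShape.up ℤ)).obj ((HomotopyCategory.quotient _ _).obj P))) :=
      isIso_counit hf _ (hgK P hP)
    dsimp only [compTrans]
    infer_instance
  have h3 := hγ ((HomotopyCategory.quotient _ _).obj P)
  rw [← h3] at h2
  exact IsIso.of_isIso_comp_right _ ((cu (f ≫ g)).app ((HomotopyCategory.quotient _ _).obj P))

end Groth.Agent.Lib.LpullKFlat35
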