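import Groth.Agent.Lib.PseudoCohD
import Groth.Agent.Lib.PCohStupid
import Groth.Agent.Lib.LocalLiftCone
import Groth.Agent.Lib.HomologicalFour
import Mathlib.Algebra.Homology.DerivedCategory.Fractions

/-!
# Pseudo-coherence in distinguished triangles of `D(O_X)`
-/

set_option autoImplicit false
universe u

open CategoryTheory CategoryTheory.Limits AlgebraicGeometry

namespace Groth.Agent.Lib.PseudoCohTriangle

attribute [local instance] HasDerivedCategory.standard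

open Groth.Agent.Lib.RestrictExact Groth.Agent.Lib.FinLocFree Groth.Agent.Lib.PerfectLocal
  Groth.Agent.Lib.PerfectD Groth.Agent.Lib.FlatBaseChangeD Groth.Agent.Lib.PseudoCohD

section QIsoAbove

variable {Y : Scheme.{u}}

/-- `α` is an isomorphism on `H^i` for `i > m` and an epimorphism on `H^m`. -/
def QIsoAbove (m : ℤ) {K L : DCoh.D Y} (α : K ⟶ L) : Prop :=
  (∀ i : ℤ, m < i → IsIso ((DerivedCategory.homologyFunctor _ i).map α)) ∧
    Epi ((DerivedCategory.homologyFunctor _ m).map α)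

theorem QIsoAbove.of_isIso (m : ℤ) {K L : DCoh.D Y} (α : K ⟶ L) [IsIso α] : QIsoAbove m α :=
  ⟨fun _ _ => inferInstance, inferInstance⟩

theorem QIsoAbove.comp {m : ℤ} {K L M : DCoh.D Y} {α : K ⟶ L} {β : L ⟶ M}
    (hα : QIsoAbove m α) (hβ : QIsoAbove m β) : QIsoAbove m (α ≫ β) := by
  refine ⟨fun i hi => ?_, ?_⟩
  · have := hα.1 i hi
    have := hβ.1 i hi
    rw [Functor.map_comp]
    infer_instance
  · have := hα.2
    have := hβ.2
    rw [Functor.map_comp]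
    exact epi_comp _ _

theorem QIsoAbove.of_le {m m' : ℤ} (h : m ≤ m') {K L : DCoh.D Y} {α : K ⟶ L}
    (hα : QIsoAbove m α) : QIsoAbove m' α := by
  refine ⟨fun i hi => hα.1 i (by omega), ?_⟩
  rcases eq_or_lt_of_le h with rfl | h'
  · exact hα.2
  · have := hα.1 m' h'
    infer_instance

theorem QIsoAbove.restrict {m : ℤ} {K L : DCoh.D Y} {α : K ⟶ L} (hα : QIsoAbove m α)
    {Z : Scheme.{u}} (k : Z ⟶ Y) [IsOpenImmersion k] :
    QIsoAbove m ((DCoh.restrictD k).map α) := by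
  refine ⟨fun i hi => ?_, ?_⟩
  · have := hα.1 i hi
    exact isIso_homology_map (Scheme.Modules.restrictFunctor k) α i
  · have := hα.2
    exact epi_homology_map (Scheme.Modules.restrictFunctor k) α m

theorem QIsoAbove.of_iso (m : ℤ) {K L : DCoh.D Y} (e : K ≅ L) : QIsoAbove m e.hom :=
  QIsoAbove.of_isIso m e.hom

/-- Cancel an isomorphism on the right. -/
theorem QIsoAbove.of_comp_isIso {m : ℤ} {K L M : DCoh.D Y} (α : K ⟶ L) (β : L ⟶ M) [IsIso β]
    (h : QIsoAbove m (α ≫ β)) : QIsoAbove m α := by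
  have := h.comp (QIsoAbove.of_isIso m (inv β))
  simpa using this

theorem pcOn_iff (m : ℤ) {X : Scheme.{u}} (K : DCoh.D X) {Y : Scheme.{u}} (j : Y ⟶ X)
    [IsOpenImmersion j] :
    PCOn m K j ↔ ∃ (E : CochainComplex Y.Modules ℤ)
      (α : DerivedCategory.Q.obj E ⟶ (DCoh.restrictD j).obj K),
      DCoh.IsStrictlyPerfect E ∧ QIsoAbove m α := Iff.rfl

end QIsoAbove

section PCOn

variable {X : Scheme.{u}}

theorem pcOn_of_iso {m : ℤ} {K L : DCoh.D X} (e : K ≅ L) {Y : Scheme.{u}} {j : Y ⟶ X}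
    [IsOpenImmersion j] (h : PCOn m K j) : PCOn m L j := by
  obtain ⟨E, α, hE, hα⟩ := (pcOn_iff m K j).1 h
  exact (pcOn_iff m L j).2 ⟨E, α ≫ (DCoh.restrictD j).map e.hom, hE,
    hα.comp (QIsoAbove.of_isIso m _)⟩

theorem pcOn_comp {m : ℤ} {K : DCoh.D X} {Y : Scheme.{u}} {j : Y ⟶ X} [IsOpenImmersion j]
    (h : PCOn m K j) {Y' : Scheme.{u}} (j' : Y' ⟶ Y) [IsOpenImmersion j'] (k : Y' ⟶ X)
    [IsOpenImmersion k] (hk : j' ≫ j = k) : PCOn m K k := by
  obtain ⟨E, α, hE, hα⟩ := (pcOn_iff m K j).1 h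
  refine (pcOn_iff m K k).2 ⟨(resCx j').obj E, ?_, isStrictlyPerfect_resCx j' hE, ?_⟩
  · exact (Scheme.Modules.restrictFunctor j').mapDerivedCategoryFactors.inv.app E ≫
      (DCoh.restrictD j').map α ≫ (restrictDCompIso j' j k hk).hom.app K
  · exact (QIsoAbove.of_isIso m _).comp ((hα.restrict j').comp (QIsoAbove.of_isIso m _))

theorem pcOn_inf {m : ℤ} {K : DCoh.D X} {V W : X.Opens} (h : PCOn m K V.ι) (hle : W ≤ V) :
    PCOn m K W.ι :=
  pcOn_comp h (X.homOfLE hle) _ (X.homOfLE_ι hle)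

/-- Flexible criterion: it suffices to have the local data on open immersions covering `X`. -/
theorem isPseudoCoherentD_of_forall_pcOn (m : ℤ) (K : DCoh.D X)
    (h : ∀ x : X, ∃ (Y : Scheme.{u}) (j : Y ⟶ X) (_ : IsOpenImmersion j),
      x ∈ Set.range j ∧ PCOn m K j) : DCoh.IsPseudoCoherentD m K := by
  rw [isPseudoCoherentD_iff_pcOn]
  intro x
  obtain ⟨Y, j, _, hx, hrep⟩ := h x
  refine ⟨j.opensRange, hx, ?_⟩
  have hsub : Set.range j.opensRange.ι ⊆ Set.range j := by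
    intro y hy
    obtain ⟨z, rfl⟩ := hy
    exact z.2
  let e : (j.opensRange : Scheme.{u}) ⟶ Y := IsOpenImmersion.lift j j.opensRange.ι hsub
  have he : e ≫ j = j.opensRange.ι := IsOpenImmersion.lift_fac _ _ _
  have : IsOpenImmersion (e ≫ j) := by rw [he]; infer_instance
  have : IsOpenImmersion e := IsOpenImmersion.of_comp e j
  exact pcOn_comp hrep e _ he

theorem isPseudoCoherentD_of_iso {m : ℤ} {K L : DCoh.D X} (e : K ≅ L)
    (hK : DCoh.IsPseudoCoherentD m K) : DCoh.IsPseudoCoherentD m L := by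
  rw [isPseudoCoherentD_iff_pcOn] at hK ⊢
  intro x
  obtain ⟨V, hxV, hV⟩ := hK x
  exact ⟨V, hxV, pcOn_of_iso e hV⟩

open Groth.Agent.Lib.PCohStupid Groth.Agent.Lib.CyclesRetract in
/-- The strictly perfect complex in the definition of `PCOn` may be chosen to vanish in degrees
`< m`. -/
theorem pcOn_exists_truncated {m : ℤ} {K : DCoh.D X} {Y : Scheme.{u}} {j : Y ⟶ X}
    [IsOpenImmersion j] (h : PCOn m K j) :
    ∃ (E : CochainComplex Y.Modules ℤ) (α : DerivedCategory.Q.obj E ⟶ (DCoh.restrictD j).obj K),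
      DCoh.IsStrictlyPerfect E ∧ QIsoAbove m α ∧ ∀ i : ℤ, i < m → IsZero (E.X i) := by
  obtain ⟨E, α, hE, hα⟩ := (pcOn_iff m K j).1 h
  refine ⟨sigmaGE E m, DerivedCategory.Q.map (sigmaGEι E m) ≫ α, isStrictlyPerfect_sigmaGE hE m,
    QIsoAbove.comp ⟨fun i hi => ?_, ?_⟩ hα, fun i hi => isZero_sigmaGE_X E m i hi⟩
  · rw [isIso_homologyFunctor_map_Q_iff]
    have h1 := isIso_sigmaGEι_f E m (i - 1) (by omega)
    have h2 := isIso_sigmaGEι_f E m i (by omega)
    have h3 := isIso_sigmaGEι_f E m (i + 1) (by omega)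
    exact isIso_homologyMap_of_f _ _ inferInstance h2 inferInstance
  · rw [epi_homologyFunctor_map_Q_iff]
    have h2 := isIso_sigmaGEι_f E m m le_rfl
    have h3 := isIso_sigmaGEι_f E m (m + 1) (by omega)
    exact epi_homologyMap_of_f _ _ h2 inferInstance

end PCOn

section Lift

variable {Y : Scheme.{u}}

open Groth.Agent.Lib.PCohStupid in
/-- Local lifting in the derived category: `E₁` strictly perfect vanishing in degrees `< a`,
`α₂ : E₂ ⟶ L` an isomorphism on `H^i` for `i > a` and an epimorphism on `H^a`. Then any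
`φ : E₁ ⟶ L` in `D(O_Y)` locally factors through `α₂` via a morphism of complexes. -/
theorem exists_local_lift {E₁ E₂ : CochainComplex Y.Modules ℤ} {L : DCoh.D Y}
    (hE₁ : DCoh.IsStrictlyPerfect E₁) (a : ℤ) (hE₁a : ∀ i : ℤ, i < a → IsZero (E₁.X i))
    (φ : DerivedCategory.Q.obj E₁ ⟶ L) (α₂ : DerivedCategory.Q.obj E₂ ⟶ L)
    (hα₂ : QIsoAbove a α₂) (y : Y) :
    ∃ (V : Y.Opens) (γ : (DCoh.restrictCx V).obj E₁ ⟶ (DCoh.restrictCx V).obj E₂), y ∈ V ∧
      DerivedCategory.Q.map γ ≫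
        (Scheme.Modules.restrictFunctor V.ι).mapDerivedCategoryFactors.inv.app E₂ ≫
          (DCoh.restrictD V.ι).map α₂ =
      (Scheme.Modules.restrictFunctor V.ι).mapDerivedCategoryFactors.inv.app E₁ ≫
        (DCoh.restrictD V.ι).map φ := by
  let F := DerivedCategory.Q.objPreimage L
  let iF : DerivedCategory.Q.obj F ≅ L := DerivedCategory.Q.objObjPreimageIso L
  obtain ⟨F', g₁, s₁, hs₁, h₁⟩ := DerivedCategory.left_fac (φ ≫ iF.inv)
  obtain ⟨F'', g₂, s₂, hs₂, h₂⟩ :=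
    DerivedCategory.left_fac (α₂ ≫ iF.inv ≫ DerivedCategory.Q.map s₁)
  let u : L ⟶ DerivedCategory.Q.obj F'' :=
    iF.inv ≫ DerivedCategory.Q.map s₁ ≫ DerivedCategory.Q.map s₂
  have hu : IsIso u := by dsimp only [u]; infer_instance
  have hb : DerivedCategory.Q.map g₂ = α₂ ≫ u := by
    have := h₂
    rw [← IsIso.comp_inv_eq, IsIso.inv_inv] at this
    rw [← this]
    simp only [u, Category.assoc]
  have ha : DerivedCategory.Q.map (g₁ ≫ s₂) = φ ≫ u := by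
    have := h₁
    rw [← IsIso.comp_inv_eq, IsIso.inv_inv] at this
    rw [Functor.map_comp, ← this]
    simp only [u, Category.assoc]
  have hbQ : QIsoAbove a (DerivedCategory.Q.map g₂) := by
    rw [hb]
    exact hα₂.comp (QIsoAbove.of_isIso a u)
  obtain ⟨V, γ, hyV, ⟨H⟩⟩ := Groth.Agent.Lib.LocalLiftCone.exists_lift_up_to_homotopy
    (g₁ ≫ s₂) g₂ hE₁ a hE₁a
    (fun j hj => (isIso_homologyFunctor_map_Q_iff g₂ j).1 (hbQ.1 j hj))
    ((epi_homologyFunctor_map_Q_iff g₂ a).1 hbQ.2) y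
  refine ⟨V, γ, hyV, ?_⟩
  have hγ : DerivedCategory.Q.map γ ≫ DerivedCategory.Q.map ((DCoh.restrictCx V).map g₂) =
      DerivedCategory.Q.map ((DCoh.restrictCx V).map (g₁ ≫ s₂)) := by
    rw [← Functor.map_comp]
    exact DerivedCategory.Q_map_eq_of_homotopy _ H
  have n1 := (Scheme.Modules.restrictFunctor V.ι).mapDerivedCategoryFactors_hom_naturality g₂
  have n2 := (Scheme.Modules.restrictFunctor V.ι).mapDerivedCategoryFactors_hom_naturality
    (g₁ ≫ s₂)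
  have hu' : IsIso ((DCoh.restrictD V.ι).map u) := inferInstance
  rw [← cancel_mono ((DCoh.restrictD V.ι).map u), ← cancel_mono
    ((Scheme.Modules.restrictFunctor V.ι).mapDerivedCategoryFactors.hom.app F'')]
  simp only [Category.assoc]
  rw [← Functor.map_comp_assoc, ← hb, ← Functor.map_comp_assoc, ← ha]
  erw [n1, n2]
  rw [Iso.inv_hom_id_app_assoc, Iso.inv_hom_id_app_assoc]
  exact hγ

end Lift

section Four

variable {Y : Scheme.{u}}

open Pretriangulated Groth.Agent.Lib.HomologicalFour in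
/-- Four lemma: in a morphism of distinguished triangles, if the first map is an isomorphism on
`H^i` for `i > m + 1` and epi on `H^{m+1}`, and the second map is an isomorphism on `H^i` for
`i > m` and epi on `H^m`, then so is the third map. -/
theorem qIsoAbove_hom₃ {m : ℤ} {T T' : Triangle (DCoh.D Y)} (hT : T ∈ distTriang (DCoh.D Y))
    (hT' : T' ∈ distTriang (DCoh.D Y)) (ψ : T ⟶ T')
    (h₁ : QIsoAbove (m + 1) ψ.hom₁) (h₂ : QIsoAbove m ψ.hom₂) : QIsoAbove m ψ.hom₃ := by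
  let F := DerivedCategory.homologyFunctor Y.Modules 0
  refine ⟨fun i hi => ?_, ?_⟩
  · have e1 : Epi ((F.shift i).map ψ.hom₁) := by
      change Epi ((DerivedCategory.homologyFunctor _ i).map ψ.hom₁)
      rcases eq_or_lt_of_le (show m + 1 ≤ i by omega) with rfl | h
      · exact h₁.2
      · have := h₁.1 i h
        infer_instance
    have e2 : IsIso ((F.shift i).map ψ.hom₂) := h₂.1 i hi
    have e3 : IsIso ((F.shift (i + 1)).map ψ.hom₁) := h₁.1 (i + 1) (by omega)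
    have e4 : IsIso ((F.shift (i + 1)).map ψ.hom₂) := h₂.1 (i + 1) (by omega)
    have hmono : Mono ((F.shift i).map ψ.hom₃) :=
      mono_shift_map_hom₃ F hT hT' ψ i (i + 1) rfl e1 inferInstance inferInstance
    have hepi : Epi ((F.shift i).map ψ.hom₃) :=
      epi_shift_map_hom₃ F hT hT' ψ i (i + 1) rfl inferInstance inferInstance inferInstance
    exact isIso_of_mono_of_epi ((F.shift i).map ψ.hom₃)
  · have e4 : IsIso ((F.shift (m + 1)).map ψ.hom₂) := h₂.1 (m + 1) (by omega)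
    exact epi_shift_map_hom₃ F hT hT' ψ m (m + 1) rfl h₂.2 h₁.2 inferInstance

end Four

section Triangle

variable {X : Scheme.{u}}

open CochainComplex Pretriangulated in
/-- Pseudo-coherence of the third vertex of a distinguished triangle, local form. -/
theorem pcOn_obj₃ (m : ℤ) (T : Triangle (DCoh.D X)) (hT : T ∈ distTriang (DCoh.D X)) {x : X}
    {V : X.Opens} (hx : x ∈ V) (h₁ : PCOn (m + 1) T.obj₁ V.ι) (h₂ : PCOn m T.obj₂ V.ι) :
    ∃ (Y : Scheme.{u}) (k : Y ⟶ X) (_ : IsOpenImmersion k),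
      x ∈ Set.range k ∧ PCOn m T.obj₃ k := by
  obtain ⟨E₁, α₁, hE₁, hα₁, hE₁z⟩ := pcOn_exists_truncated h₁
  obtain ⟨E₂, α₂, hE₂, hα₂⟩ := (pcOn_iff m T.obj₂ V.ι).1 h₂
  let rD := DCoh.restrictD V.ι
  obtain ⟨W, γ, hxW, hγ⟩ := exists_local_lift hE₁ (m + 1) hE₁z (α₁ ≫ rD.map T.mor₁) α₂
    (hα₂.of_le (by omega)) ⟨x, hx⟩
  refine ⟨W, W.ι ≫ V.ι, inferInstance, ⟨⟨⟨x, hx⟩, hxW⟩, rfl⟩, ?_⟩
  let rD'' := DCoh.restrictD W.ι
  let fac := (Scheme.Modules.restrictFunctor W.ι).mapDerivedCategoryFactors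
  let T'' := rD''.mapTriangle.obj (rD.mapTriangle.obj T)
  have hT'' : T'' ∈ distTriang _ := rD''.map_distinguished _ (rD.map_distinguished _ hT)
  let T' := DerivedCategory.Q.mapTriangle.obj (mappingCone.triangle γ)
  have hT' : T' ∈ distTriang _ := DerivedCategory.mappingCone_triangle_distinguished γ
  let a₁ : T'.obj₁ ⟶ T''.obj₁ := fac.inv.app E₁ ≫ rD''.map α₁
  let a₂ : T'.obj₂ ⟶ T''.obj₂ := fac.inv.app E₂ ≫ rD''.map α₂
  have comm : T'.mor₁ ≫ a₂ = a₁ ≫ T''.mor₁ := by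
    change DerivedCategory.Q.map γ ≫ fac.inv.app E₂ ≫ rD''.map α₂ =
      (fac.inv.app E₁ ≫ rD''.map α₁) ≫ rD''.map (rD.map T.mor₁)
    rw [hγ, Functor.map_comp, Category.assoc]
  obtain ⟨a₃, ha₃, ha₃'⟩ := complete_distinguished_triangle_morphism T' T'' hT' hT'' a₁ a₂ comm
  let ψ : T' ⟶ T'' :=
    { hom₁ := a₁, hom₂ := a₂, hom₃ := a₃, comm₁ := comm, comm₂ := ha₃, comm₃ := ha₃' }
  have hq₁ : QIsoAbove (m + 1) ψ.hom₁ :=
    (QIsoAbove.of_iso _ (fac.symm.app E₁)).comp (hα₁.restrict W.ι)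
  have hq₂ : QIsoAbove m ψ.hom₂ :=
    (QIsoAbove.of_iso _ (fac.symm.app E₂)).comp (hα₂.restrict W.ι)
  have hq₃ : QIsoAbove m a₃ := qIsoAbove_hom₃ hT' hT'' ψ hq₁ hq₂
  refine (pcOn_iff m T.obj₃ (W.ι ≫ V.ι)).2 ⟨mappingCone γ,
    a₃ ≫ (restrictDCompIso W.ι V.ι _ rfl).hom.app T.obj₃,
    isStrictlyPerfect_mappingCone (isStrictlyPerfect_resCx _ hE₁) (isStrictlyPerfect_resCx _ hE₂) γ,
    hq₃.comp (QIsoAbove.of_iso _ ((restrictDCompIso W.ι V.ι _ rfl).app T.obj₃))⟩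

open Pretriangulated in
theorem isPseudoCoherentD_obj₃ (m : ℤ) (T : Triangle (DCoh.D X))
    (hT : T ∈ distTriang (DCoh.D X)) (h₁ : DCoh.IsPseudoCoherentD (m + 1) T.obj₁)
    (h₂ : DCoh.IsPseudoCoherentD m T.obj₂) : DCoh.IsPseudoCoherentD m T.obj₃ := by
  apply isPseudoCoherentD_of_forall_pcOn
  intro x
  obtain ⟨V₁, hx₁, hV₁⟩ := (isPseudoCoherentD_iff_pcOn _ _).1 h₁ x
  obtain ⟨V₂, hx₂, hV₂⟩ := (isPseudoCoherentD_iff_pcOn _ _).1 h₂ x
  exact pcOn_obj₃ m T hT (V := V₁ ⊓ V₂) ⟨hx₁, hx₂⟩ (pcOn_inf hV₁ inf_le_left)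
    (pcOn_inf hV₂ inf_le_right)

end Triangle

section Shift

theorem epi_map_iff_of_natIso {C D : Type*} [Category C] [Category D] {F₁ F₂ : C ⥤ D}
    (e : F₁ ≅ F₂) {A B : C} (f : A ⟶ B) : Epi (F₁.map f) ↔ Epi (F₂.map f) := by
  suffices ∀ {F₁ F₂ : C ⥤ D} (_ : F₁ ≅ F₂) (_ : Epi (F₁.map f)), Epi (F₂.map f) from
    ⟨this e, this e.symm⟩
  intro F₁ F₂ e hf
  have h : F₂.map f = e.inv.app A ≫ F₁.map f ≫ e.hom.app B := by simp
  rw [h]
  have : Epi (F₁.map f ≫ e.hom.app B) := epi_comp _ _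
  exact epi_comp _ _

variable {Y : Scheme.{u}}

theorem QIsoAbove.shift {m : ℤ} {K L : DCoh.D Y} {α : K ⟶ L} (hα : QIsoAbove m α) (n m' : ℤ)
    (h : n + m' = m) : QIsoAbove m' (α⟦n⟧') := by
  let F := DerivedCategory.homologyFunctor Y.Modules 0
  refine ⟨fun i hi => ?_, ?_⟩
  · have h1 : IsIso ((F.shift (n + i)).map α) := hα.1 (n + i) (by omega)
    exact (NatIso.isIso_map_iff (F.shiftIso n i (n + i) rfl) α).2 h1
  · have h1 : Epi ((F.shift m).map α) := hα.2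
    exact (epi_map_iff_of_natIso (F.shiftIso n m' m h) α).2 h1

variable {X : Scheme.{u}}

theorem pcOn_shift {m : ℤ} {K : DCoh.D X} {j : Y ⟶ X} [IsOpenImmersion j]
    (h : PCOn m K j) (n m' : ℤ) (hm : n + m' = m) : PCOn m' (K⟦n⟧) j := by
  obtain ⟨E, α, hE, hα⟩ := (pcOn_iff m K j).1 h
  refine (pcOn_iff m' (K⟦n⟧) j).2 ⟨E⟦n⟧,
    (DerivedCategory.Q.commShiftIso n).hom.app E ≫ α⟦n⟧' ≫
      ((DCoh.restrictD j).commShiftIso n).inv.app K, isStrictlyPerfect_shift hE n, ?_⟩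
  exact (QIsoAbove.of_iso _ ((DerivedCategory.Q.commShiftIso n).app E)).comp
    ((hα.shift n m' hm).comp (QIsoAbove.of_iso _ (((DCoh.restrictD j).commShiftIso n).app K).symm))

theorem isPseudoCoherentD_shift {m : ℤ} {K : DCoh.D X} (hK : DCoh.IsPseudoCoherentD m K)
    (n m' : ℤ) (hm : n + m' = m) : DCoh.IsPseudoCoherentD m' (K⟦n⟧) := by
  rw [isPseudoCoherentD_iff_pcOn] at hK ⊢
  intro x
  obtain ⟨V, hxV, hV⟩ := hK x
  exact ⟨V, hxV, pcOn_shift hV n m' hm⟩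

open Pretriangulated in
theorem isPseudoCoherentD_obj₂ (m : ℤ) (T : Triangle (DCoh.D X))
    (hT : T ∈ distTriang (DCoh.D X)) (h₁ : DCoh.IsPseudoCoherentD m T.obj₁)
    (h₃ : DCoh.IsPseudoCoherentD m T.obj₃) : DCoh.IsPseudoCoherentD m T.obj₂ :=
  isPseudoCoherentD_obj₃ m T.invRotate (inv_rot_of_distTriang _ hT)
    (isPseudoCoherentD_shift h₃ (-1) (m + 1) (by omega)) h₁

open Pretriangulated in
theorem isPseudoCoherentD_obj₁ (m : ℤ) (T : Triangle (DCoh.D X))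
    (hT : T ∈ distTriang (DCoh.D X)) (h₂ : DCoh.IsPseudoCoherentD (m + 1) T.obj₂)
    (h₃ : DCoh.IsPseudoCoherentD m T.obj₃) : DCoh.IsPseudoCoherentD (m + 1) T.obj₁ := by
  have h := isPseudoCoherentD_obj₃ m T.rotate (rot_of_distTriang _ hT) h₂ h₃
  have h' := isPseudoCoherentD_shift h (-1) (m + 1) (by omega)
  exact isPseudoCoherentD_of_iso ((shiftEquiv (DCoh.D X) (1 : ℤ)).unitIso.app T.obj₁).symm h'

end Shift

end Groth.Agent.Lib.PseudoCohTriangle
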