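import Groth.Agent.Lib.LpullPerfect35
import Groth.Agent.Lib.LpullComp35
import Groth.Agent.Lib.PseudoCohTriangle

/-!
# `Lf^*` of pseudo-coherent objects (helper35), hypothesis form

* `isLE_pullCx`: `g^*` of a K-flat complex with `H^i = 0` for `i > n` has `H^i = 0` for `i > n`.
* `qIsoAbove_iff_isZero` : for a distinguished triangle, `mor₁` is iso on `H^i`, `i > m`, epi on `H^m`
  iff `H^i(obj₃) = 0` for `i ≥ m`.
* `qIsoAbove_lpull_map`.
* `resLpullIso : (Lf^*E)|_{f⁻¹V} ≅ L(f|_V)^*(E|_V)`.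
* `isPseudoCoherentD_lpull` (S0910 core).
-/

set_option autoImplicit false
universe u
open CategoryTheory Limits AlgebraicGeometry Pretriangulated
attribute [local instance] HasDerivedCategory.standard

namespace Groth.Agent.Lib.LpullKFlat35

open Groth.Agent.Lib.PerfectD Groth.Agent.Lib.PseudoCohD Groth.Agent.Lib.PseudoCohTriangle

variable {X Y : Scheme.{u}}

/-- right t-exactness of `g^*` on K-flat complexes -/
theorem isLE_pullCx {g : X ⟶ Y} (hg : AcycHyp g) {C : CochainComplex Y.Modules ℤ}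
    (hC : ModSite.IsKFlat (O := Y.sheaf) C) (n : ℤ) [C.IsLE n] : ((pullCx g).obj C).IsLE n := by
  have hW : (C.truncLE n).IsStrictlyLE n := inferInstance
  obtain ⟨M, r, hM, hMflat, hr⟩ : ∃ (M : CochainComplex Y.Modules ℤ) (r : M ⟶ C.truncLE n),
      M.IsStrictlyLE n ∧ (∀ i, ModSite.IsFlat (O := Y.sheaf) (M.X i)) ∧ QuasiIso r := by
    obtain ⟨M, r, hM, hMflat, -, hr⟩ :=
      @Groth.Agent.Lib.ModSiteKFlatRes66.exists_flat_resolution _ _ _ Y.sheaf (C.truncLE n) n hW
    exact ⟨M, r, hM, hMflat, hr⟩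
  have hMK : ModSite.IsKFlat (O := Y.sheaf) M :=
    @Groth.Agent.Lib.ModSiteKFlatBdd66.isKFlat_of_isStrictlyLE _ _ _ Y.sheaf M n hM hMflat
  have hq : QuasiIso (r ≫ C.ιTruncLE n) := by
    have : QuasiIso r := hr
    infer_instance
  have hq' := quasiIso_pullCx_map hg (r ≫ C.ιTruncLE n) hMK hC hq
  have hM' : ((pullCx g).obj M).IsStrictlyLE n := by
    rw [CochainComplex.isStrictlyLE_iff]
    intro i hi
    exact (Scheme.Modules.pullback g).map_isZero (M.isZero_of_isStrictlyLE n i hi)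
  rw [CochainComplex.isLE_iff]
  intro i hi
  rw [HomologicalComplex.exactAt_iff_isZero_homology]
  have h1 : IsZero (((pullCx g).obj M).homology i) := by
    rw [← HomologicalComplex.exactAt_iff_isZero_homology]
    exact HomologicalComplex.exactAt_of_isSupported _ (ComplexShape.embeddingUpIntLE n) i
      (by simpa using fun j => by omega)
  have : QuasiIsoAt ((pullCx g).map (r ≫ C.ιTruncLE n)) i := hq'.quasiIsoAt i
  exact h1.of_iso (asIso (HomologicalComplex.homologyMap ((pullCx g).map (r ≫ C.ιTruncLE n)) i)).symm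

section Tri

variable (T : Triangle (DCoh.D Y)) (hT : T ∈ distTriang (DCoh.D Y)) (m : ℤ)

include hT

theorem isZero_obj₃_of_qIsoAbove (h : QIsoAbove m T.mor₁) (i : ℤ) (hi : m ≤ i) :
    IsZero ((DerivedCategory.homologyFunctor _ i).obj T.obj₃) := by
  have hepi : Epi ((DerivedCategory.homologyFunctor _ i).map T.mor₁) := by
    rcases eq_or_lt_of_le hi with rfl | h'
    · exact h.2
    · have := h.1 i h'; infer_instance
  have hmono : Mono ((DerivedCategory.homologyFunctor _ (i + 1)).map T.mor₁) := by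
    have := h.1 (i + 1) (by omega); infer_instance
  have h2 := (DerivedCategory.HomologySequence.epi_homologyMap_mor₁_iff T hT i).1 hepi
  have h3 := (DerivedCategory.HomologySequence.mono_homologyMap_mor₁_iff T hT i (i + 1) rfl).1 hmono
  exact (DerivedCategory.HomologySequence.exact₃ T hT i (i + 1) rfl).isZero_X₂ h2 h3

theorem qIsoAbove_of_isZero_obj₃
    (h : ∀ i : ℤ, m ≤ i → IsZero ((DerivedCategory.homologyFunctor _ i).obj T.obj₃)) :
    QIsoAbove m T.mor₁ := by
  have hepi : ∀ i : ℤ, m ≤ i → Epi ((DerivedCategory.homologyFunctor _ i).map T.mor₁) := by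
    intro i hi
    rw [DerivedCategory.HomologySequence.epi_homologyMap_mor₁_iff T hT i]
    exact (h i hi).eq_of_tgt _ _
  refine ⟨fun i hi => ?_, hepi m le_rfl⟩
  have := hepi i hi.le
  have : Mono ((DerivedCategory.homologyFunctor _ i).map T.mor₁) := by
    rw [DerivedCategory.HomologySequence.mono_homologyMap_mor₁_iff T hT (i - 1) i (by omega)]
    exact (h (i - 1) (by omega)).eq_of_src _ _
  exact isIso_of_mono_of_epi _

end Tri

/-- `Lg^*` preserves "iso on `H^i` for `i > m`, epi on `H^m`" -/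
theorem qIsoAbove_lpull_map {g : X ⟶ Y} (hg : AcycHyp g) [DCoh.HasLpull g] {A B : DCoh.D Y}
    (α : A ⟶ B) (m : ℤ) (hα : QIsoAbove m α) : QIsoAbove m ((DCoh.Lpull g).map α) := by
  obtain ⟨C, β, γ, hT⟩ := distinguished_cocone_triangle α
  obtain ⟨P, N, φ, hP, hN, ⟨e⟩⟩ := Groth.Agent.Lib.TorAmpTri21.exists_kflat_model _ hT
  have hC₀ := Groth.Agent.Lib.TorAmpTri21.isKFlat_mappingCone φ hP hN
  let e₁ : A ≅ DerivedCategory.Q.obj P := Triangle.π₁.mapIso e
  let e₂ : B ≅ DerivedCategory.Q.obj N := Triangle.π₂.mapIso e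
  let e₃ : C ≅ DerivedCategory.Q.obj (CochainComplex.mappingCone φ) := Triangle.π₃.mapIso e
  have comm : α ≫ e₂.hom = e₁.hom ≫ DerivedCategory.Q.map φ := e.hom.comm₁
  -- the cone of `φ` is `≤ m - 1`
  have hLE : (CochainComplex.mappingCone φ : CochainComplex Y.Modules ℤ).IsLE (m - 1) := by
    rw [CochainComplex.isLE_iff]
    intro i hi
    rw [HomologicalComplex.exactAt_iff_isZero_homology]
    have h1 := isZero_obj₃_of_qIsoAbove _ hT m hα i (by omega)
    exact (h1.of_iso ((DerivedCategory.homologyFunctor _ i).mapIso e₃).symm).of_iso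
      ((DerivedCategory.homologyFunctorFactors _ i).app _).symm
  have hLE' := isLE_pullCx hg hC₀ (m - 1)
  -- the pulled back triangle
  have hT' : DerivedCategory.Q.mapTriangle.obj
      (CochainComplex.mappingCone.triangle ((pullCx g).map φ)) ∈ distTriang (DCoh.D X) :=
    (DerivedCategory.mem_distTriang_iff _).2 ⟨_, _, _, ⟨Iso.refl _⟩⟩
  have hq : QIsoAbove m (DerivedCategory.Q.map ((pullCx g).map φ)) := by
    refine qIsoAbove_of_isZero_obj₃ _ hT' m (fun i hi => ?_)
    have h1 : IsZero (((pullCx g).obj (CochainComplex.mappingCone φ)).homology i) := by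
      rw [← HomologicalComplex.exactAt_iff_isZero_homology]
      exact ((pullCx g).obj (CochainComplex.mappingCone φ)).exactAt_of_isLE (m - 1) i (by omega)
    have h2 : IsZero ((CochainComplex.mappingCone ((pullCx g).map φ)).homology i) :=
      h1.of_iso ((HomologicalComplex.homologyFunctor _ _ i).mapIso
        (CochainComplex.mappingCone.mapHomologicalComplexIso φ (Scheme.Modules.pullback g)).symm)
    exact h2.of_iso ((DerivedCategory.homologyFunctorFactors _ i).app _)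
  -- compare `Lg^* α` with `Q (g^* φ)`
  have hP' : IsIso ((cu g).app ((HomotopyCategory.quotient _ _).obj P)) := isIso_counit hg P hP
  have hN' : IsIso ((cu g).app ((HomotopyCategory.quotient _ _).obj N)) := isIso_counit hg N hN
  let cP : (DCoh.Lpull g).obj (DerivedCategory.Q.obj P) ≅
      DerivedCategory.Q.obj ((pullCx g).obj P) := lpullIso hg P hP
  let cN : (DCoh.Lpull g).obj (DerivedCategory.Q.obj N) ≅
      DerivedCategory.Q.obj ((pullCx g).obj N) := lpullIso hg N hN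
  have nat : (DCoh.Lpull g).map (DerivedCategory.Q.map φ) ≫ cN.hom =
      cP.hom ≫ DerivedCategory.Q.map ((pullCx g).map φ) :=
    (cu g).naturality ((HomotopyCategory.quotient _ _).map φ)
  have key : (DCoh.Lpull g).map α =
      ((DCoh.Lpull g).mapIso e₁).hom ≫ cP.hom ≫
        DerivedCategory.Q.map ((pullCx g).map φ) ≫ cN.inv ≫ ((DCoh.Lpull g).mapIso e₂.symm).hom := by
    have h1 : (DCoh.Lpull g).map α = (DCoh.Lpull g).map e₁.hom ≫
        (DCoh.Lpull g).map (DerivedCategory.Q.map φ) ≫ (DCoh.Lpull g).map e₂.inv := by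
      rw [← Functor.map_comp, ← Functor.map_comp, ← Category.assoc, ← comm, Category.assoc,
        e₂.hom_inv_id, Category.comp_id]
    have h2 : (DCoh.Lpull g).map (DerivedCategory.Q.map φ) =
        (cP.hom ≫ DerivedCategory.Q.map ((pullCx g).map φ)) ≫ cN.inv := by
      rw [← nat, Category.assoc, Iso.hom_inv_id, Category.comp_id]
    rw [h1, h2]
    simp only [Category.assoc, Functor.mapIso_hom, Iso.symm_hom]
  rw [key]
  exact (QIsoAbove.of_iso m _).comp ((QIsoAbove.of_iso m cP).comp (hq.comp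
    ((QIsoAbove.of_iso m cN.symm).comp (QIsoAbove.of_iso m _))))

/-- base change of `Lf^*` to opens: `(Lf^*E)|_{f⁻¹V} ≅ L(f|_V)^*(E|_V)` -/
theorem nonempty_resLpullIso {f : X ⟶ Y} (hf : AcycHyp f) (V : Y.Opens) (hfV : AcycHyp (f ∣_ V))
    (hV : KFlatHyp V.ι) [DCoh.HasLpull f] [DCoh.HasLpull (f ∣_ V)] (E : DCoh.D Y) :
    Nonempty ((DCoh.restrictD (f ⁻¹ᵁ V).ι).obj ((DCoh.Lpull f).obj E) ≅
      (DCoh.Lpull (f ∣_ V)).obj ((DCoh.restrictD V.ι).obj E)) := by
  obtain ⟨P, p, hP, -, hp⟩ := Groth.Agent.Lib.TorAmpTri21.exists_resolution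
    (DerivedCategory.Q.objPreimage E)
  have hiso : IsIso (DerivedCategory.Q.map p) :=
    (DerivedCategory.isIso_Q_map_iff_quasiIso (φ := p)).2 hp
  let eP : DCoh.toD Y P ≅ E :=
    @asIso _ _ _ _ (DerivedCategory.Q.map p) hiso ≪≫ DerivedCategory.Q.objObjPreimageIso E
  have hPV := isKFlat_resCx V hV hP
  exact ⟨(DCoh.restrictD (f ⁻¹ᵁ V).ι).mapIso ((DCoh.Lpull f).mapIso eP.symm ≪≫ lpullIso hf P hP) ≪≫
    (Scheme.Modules.restrictFunctor (f ⁻¹ᵁ V).ι).mapDerivedCategoryFactors.app _ ≪≫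
    DerivedCategory.Q.mapIso (resPullCxIso f V P) ≪≫
    (lpullIso hfV _ hPV).symm ≪≫ (DCoh.Lpull (f ∣_ V)).mapIso
      (((Scheme.Modules.restrictFunctor V.ι).mapDerivedCategoryFactors.app P).symm ≪≫
        (DCoh.restrictD V.ι).mapIso eP)⟩

/-- S0910 core -/
theorem isPseudoCoherentD_lpull {f : X ⟶ Y} (hf : AcycHyp f)
    (hfV : ∀ V : Y.Opens, AcycHyp (f ∣_ V)) (hV : ∀ V : Y.Opens, KFlatHyp V.ι)
    [DCoh.HasLpull f] (m : ℤ) (E : DCoh.D Y) (hE : DCoh.IsPseudoCoherentD m E) :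
    DCoh.IsPseudoCoherentD m ((DCoh.Lpull f).obj E) := by
  rw [isPseudoCoherentD_iff_pcOn] at hE ⊢
  intro x
  obtain ⟨V, hxV, hpc⟩ := hE (f x)
  obtain ⟨E₀, α, hE₀, hα⟩ := (pcOn_iff m E V.ι).1 hpc
  refine ⟨f ⁻¹ᵁ V, hxV, (pcOn_iff m _ _).2 ?_⟩
  have hfV' := hfV V
  have : DCoh.HasLpull (f ∣_ V) := hasLpull hfV'
  obtain ⟨θ⟩ := nonempty_resLpullIso hf V hfV' (hV V) E
  have hE₀K := isKFlat_of_isStrictlyPerfect hE₀
  refine ⟨(pullCx (f ∣_ V)).obj E₀,
    (lpullIso hfV' E₀ hE₀K).inv ≫ (DCoh.Lpull (f ∣_ V)).map α ≫ θ.inv,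
    isStrictlyPerfect_pullCx _ hE₀, ?_⟩
  exact (QIsoAbove.of_isIso m _).comp ((qIsoAbove_lpull_map hfV' α m hα).comp
    (QIsoAbove.of_isIso m _))

end Groth.Agent.Lib.LpullKFlat35
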