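import Groth.Agent.Lib.LpullTilde35
import Groth.Agent.Lib.LpullPC35
import Groth.Agent.Lib.FlatBaseChangeD
import Groth.Agent.Lib.H60TildeExact
import Groth.Agent.Lib.H90OXModExact
import Groth.Agent.S0997

/-!
# `Lf^*` preserves `D_QCoh` (helper35)
-/

set_option autoImplicit false
set_option linter.unusedSectionVars false
universe u
open CategoryTheory Limits AlgebraicGeometry
attribute [local instance] HasDerivedCategory.standard

namespace Groth.Agent.Lib.LpullQCoh35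

open Groth.Agent.Lib.LpullKFlat35 Groth.Agent.Lib.LpullHyp35

variable {X Y : Scheme.{u}}

/-- `Lj^* ≅ j^*` objectwise for an open immersion `j` -/
theorem nonempty_lpull_openImmersion_iso {U : Scheme.{u}} (j : U ⟶ X) [IsOpenImmersion j]
    [DCoh.HasLpull j] (K : DCoh.D X) :
    Nonempty ((DCoh.Lpull j).obj K ≅ (DCoh.restrictD j).obj K) := by
  obtain ⟨P, p, hP, -, hp⟩ := Groth.Agent.Lib.TorAmpTri21.exists_resolution
    (DerivedCategory.Q.objPreimage K)
  have hiso : IsIso (DerivedCategory.Q.map p) :=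
    (DerivedCategory.isIso_Q_map_iff_quasiIso (φ := p)).2 hp
  let eP : DCoh.toD X P ≅ K :=
    @asIso _ _ _ _ (DerivedCategory.Q.map p) hiso ≪≫ DerivedCategory.Q.objObjPreimageIso K
  exact ⟨(DCoh.Lpull j).mapIso eP.symm ≪≫ lpullIso (acycHyp j) P hP ≪≫
    DerivedCategory.Q.mapIso ((NatIso.mapHomologicalComplex
      (Scheme.Modules.restrictFunctorIsoPullback j) (ComplexShape.up ℤ)).app P).symm ≪≫
    ((Scheme.Modules.restrictFunctor j).mapDerivedCategoryFactors.app P).symm ≪≫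
    (DCoh.restrictD j).mapIso eP⟩

/-- cohomology sheaves commute with restriction along an open immersion -/
noncomputable def hdRestrictIso {U : Scheme.{u}} (j : U ⟶ X) [IsOpenImmersion j] (K : DCoh.D X)
    (i : ℤ) : DCoh.HD ((DCoh.restrictD j).obj K) i ≅ (DCoh.HD K i).restrict j :=
  (Groth.Agent.Lib.FlatBaseChangeD.mapDerivedCategoryHomologyIso
    (Scheme.Modules.restrictFunctor j) i).app K

theorem isQCohD_restrictD {U : Scheme.{u}} (j : U ⟶ X) [IsOpenImmersion j] (K : DCoh.D X)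
    (hK : DCoh.IsQCohD K) : DCoh.IsQCohD ((DCoh.restrictD j).obj K) := by
  intro i
  have := hK i
  have h1 : ((DCoh.HD K i).restrict j).IsQuasicoherent :=
    Scheme.Modules.isQuasicoherent_restrictFunctor _ _
  exact (SheafOfModules.isQuasicoherent U.ringCatSheaf).prop_of_iso (hdRestrictIso j K i).symm h1

theorem isQCohD_of_iso {K K' : DCoh.D X} (e : K ≅ K') (hK : DCoh.IsQCohD K) : DCoh.IsQCohD K' :=
  fun i => (SheafOfModules.isQuasicoherent X.ringCatSheaf).prop_of_iso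
    ((DerivedCategory.homologyFunctor X.Modules i).mapIso e) (hK i)

theorem nonempty_lpull_congr {g g' : Y ⟶ X} (h : g = g') [DCoh.HasLpull g] [DCoh.HasLpull g'] :
    Nonempty (DCoh.Lpull g ≅ DCoh.Lpull g') := by
  subst h
  exact ⟨Iso.refl _⟩

/-- the affine case, via `D(A) ≃ D_QCoh(Spec A)` (S0997) and `(M ⊗^L_A B)~ ≅ Lf^*(M~)` (S1055) -/
theorem isQCohD_lpull_spec {A B : Type u} [CommRing A] [CommRing B] (φ : A →+* B)
    [DCoh.HasLpull (Spec.map (CommRingCat.ofHom φ))]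
    (K : DCoh.D (Spec (CommRingCat.of A))) (hK : DCoh.IsQCohD K) :
    DCoh.IsQCohD ((DCoh.Lpull (Spec.map (CommRingCat.ofHom φ))).obj K) := by
  have iA : PreservesFiniteLimits (tilde.functor (CommRingCat.of A)) :=
    Groth.Agent.Lib.H60TildeExact.preservesFiniteLimits_tilde _
  have iB : PreservesFiniteLimits (tilde.functor (CommRingCat.of B)) :=
    Groth.Agent.Lib.H60TildeExact.preservesFiniteLimits_tilde _
  have : DRing.HasLBaseChange φ := Groth.Agent.Lib.KProjTri35.hasLeftDerivedFunctor _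
  obtain ⟨M, ⟨e⟩⟩ := ((Groth.Agent.S0997.result (CommRingCat.of A)).2.2 K).1 hK
  obtain ⟨θ⟩ := Groth.Agent.Lib.LpullTilde35.nonempty_iso φ
  refine isQCohD_of_iso (θ.app M ≪≫ (DCoh.Lpull (Spec.map (CommRingCat.ofHom φ))).mapIso e) ?_
  exact ((Groth.Agent.S0997.result (CommRingCat.of B)).2.2 _).2 ⟨_, ⟨Iso.refl _⟩⟩

/-- **S1054**: `Lf^*` preserves `D_QCoh`. -/
theorem isQCohD_lpull (f : Y ⟶ X) [DCoh.HasLpull f] (K : DCoh.D X) (hK : DCoh.IsQCohD K) :
    DCoh.IsQCohD ((DCoh.Lpull f).obj K) := by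
  intro i
  let ι : Type u := {U : Y.affineOpens // ∃ V : X.affineOpens, U.1 ≤ f ⁻¹ᵁ V.1}
  have hcov : ⨆ a : ι, a.1.1 = ⊤ := by
    rw [eq_top_iff]
    intro y _
    obtain ⟨_, ⟨V, hV, rfl⟩, hyV, -⟩ :=
      X.isBasis_affineOpens.exists_subset_of_mem_open (show f y ∈ (⊤ : X.Opens) from trivial)
        (⊤ : X.Opens).isOpen
    obtain ⟨_, ⟨U, hU, rfl⟩, hyU, hUV⟩ :=
      Y.isBasis_affineOpens.exists_subset_of_mem_open (show y ∈ f ⁻¹ᵁ V from hyV)
        (f ⁻¹ᵁ V).isOpen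
    exact TopologicalSpace.Opens.mem_iSup.mpr ⟨⟨⟨U, hU⟩, ⟨V, hV⟩, hUV⟩, hyU⟩
  refine Groth.Agent.Lib.H90OXModExact.isQuasicoherent_of_forall_restrict _
    (fun a : ι => a.1.1) hcov (fun a => a.1.2) (fun a => ?_)
  obtain ⟨⟨U, hU⟩, ⟨V, hV⟩, hUV⟩ := a
  replace hU : IsAffineOpen U := hU
  replace hV : IsAffineOpen V := hV
  replace hUV : U ≤ f ⁻¹ᵁ V := hUV
  change ((DCoh.HD ((DCoh.Lpull f).obj K) i).restrict hU.fromSpec).IsQuasicoherent
  have comm : Spec.map (f.appLE V U hUV) ≫ hV.fromSpec = hU.fromSpec ≫ f :=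
    IsAffineOpen.SpecMap_appLE_fromSpec f hV hU hUV
  have i1 : DCoh.HasLpull hU.fromSpec := hasLpull (acycHyp _)
  have i2 : DCoh.HasLpull hV.fromSpec := hasLpull (acycHyp _)
  have i3 : DCoh.HasLpull (Spec.map (f.appLE V U hUV)) := hasLpull (acycHyp _)
  have i4 : DCoh.HasLpull (hU.fromSpec ≫ f) := hasLpull (acycHyp _)
  have i5 : DCoh.HasLpull (Spec.map (f.appLE V U hUV) ≫ hV.fromSpec) := hasLpull (acycHyp _)
  obtain ⟨e1⟩ := nonempty_lpull_openImmersion_iso hU.fromSpec ((DCoh.Lpull f).obj K)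
  obtain ⟨c1⟩ := nonempty_lpull_comp (f := hU.fromSpec) (g := f) (acycHyp _) (acycHyp _)
    (acycHyp _) (kflatHyp _)
  obtain ⟨c2⟩ := nonempty_lpull_comp (f := Spec.map (f.appLE V U hUV)) (g := hV.fromSpec)
    (acycHyp _) (acycHyp _) (acycHyp _) (kflatHyp _)
  obtain ⟨c3⟩ := nonempty_lpull_congr comm
  obtain ⟨e2⟩ := nonempty_lpull_openImmersion_iso hV.fromSpec K
  have h0 : DCoh.IsQCohD ((DCoh.Lpull (Spec.map (f.appLE V U hUV))).obj
      ((DCoh.restrictD hV.fromSpec).obj K)) :=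
    isQCohD_lpull_spec (f.appLE V U hUV).hom _ (isQCohD_restrictD hV.fromSpec K hK)
  have hq : DCoh.IsQCohD ((DCoh.restrictD hU.fromSpec).obj ((DCoh.Lpull f).obj K)) :=
    isQCohD_of_iso ((DCoh.Lpull (Spec.map (f.appLE V U hUV))).mapIso e2.symm ≪≫
      c2.app K ≪≫ c3.app K ≪≫ (c1.app K).symm ≪≫ e1) h0
  exact (SheafOfModules.isQuasicoherent (Spec Γ(Y, U)).ringCatSheaf).prop_of_iso
    (hdRestrictIso hU.fromSpec _ i) (hq i)

end Groth.Agent.Lib.LpullQCoh35
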