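import Groth.Agent.Lib.PseudoCohD
import Groth.Agent.Lib.CohLocal
import Groth.Agent.Lib.H90OXModExact
import Groth.Agent.Lib.H90CohRestrict
import Groth.Agent.Lib.H90InvertibleFP

/-!
# Cohomology sheaves of pseudo-coherent objects are quasi-coherent
-/

set_option autoImplicit false
universe u

open CategoryTheory CategoryTheory.Limits AlgebraicGeometry

namespace Groth.Agent.Lib.PseudoCohQCoh

attribute [local instance] HasDerivedCategory.standard

open Groth.Agent.Lib.PseudoCohD

variable {X : Scheme.{u}}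

/-- The homology of a complex with quasi-coherent terms is quasi-coherent. -/
theorem isQuasicoherent_homology (E : CochainComplex X.Modules ℤ)
    (hE : ∀ i, (E.X i).IsQuasicoherent) (i : ℤ) : (E.homology i).IsQuasicoherent := by
  let S := E.sc i
  haveI h1 : S.X₁.IsQuasicoherent := hE _
  haveI h2 : S.X₂.IsQuasicoherent := hE _
  haveI h3 : S.X₃.IsQuasicoherent := hE _
  haveI hk : (kernel S.g).IsQuasicoherent :=
    Groth.Agent.Lib.H90OXModExact.isQuasicoherent_kernel S.g
  haveI hc : (cokernel (kernel.lift S.g S.f S.zero)).IsQuasicoherent :=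
    Groth.Agent.Lib.H90OXModExact.isQuasicoherent_cokernel _
  exact Groth.Agent.Lib.H90CohRestrict.isQuasicoherent_of_iso S.homologyIsoCokernelLift.symm

theorem isQuasicoherent_homology_of_isStrictlyPerfect
    (E : CochainComplex X.Modules ℤ) (hE : DCoh.IsStrictlyPerfect E) (i : ℤ) :
    (E.homology i).IsQuasicoherent :=
  isQuasicoherent_homology E
    (fun j => Groth.Agent.Lib.H90Invertible.isQuasicoherent_of_isFinLocFree (hE.2 j)) i

/-- Cohomology sheaves of an `m`-pseudo-coherent object in degrees `> m` are quasi-coherent. -/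
theorem isQCoh_HD_of_isPseudoCoherentD (m : ℤ) (K : DCoh.D X) (hK : DCoh.IsPseudoCoherentD m K)
    (i : ℤ) (hi : m < i) : Coh.IsQCoh (DCoh.HD K i) := by
  apply Groth.Agent.Lib.CohLocal.isQuasicoherent_of_forall_restrict_opens
  intro x
  obtain ⟨V, hxV, E, α, hE, hiso, hepi⟩ := (isPseudoCoherentD_iff_pcOn m K).1 hK x
  refine ⟨V, hxV, ?_⟩
  have := hiso i hi
  haveI := isQuasicoherent_homology_of_isStrictlyPerfect E hE i
  exact Groth.Agent.Lib.H90CohRestrict.isQuasicoherent_of_iso (asIso (homologyComp α i))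

/-- `H^m` of an `m`-pseudo-coherent object is locally a quotient of a quasi-coherent module. -/
theorem exists_qcoh_epi_HD_of_isPseudoCoherentD (m : ℤ) (K : DCoh.D X)
    (hK : DCoh.IsPseudoCoherentD m K) (x : X) :
    ∃ (V : X.Opens) (Q : (V : Scheme.{u}).Modules)
      (π : Q ⟶ (Scheme.Modules.restrictFunctor V.ι).obj (DCoh.HD K m)),
      x ∈ V ∧ Coh.IsQCoh Q ∧ Epi π := by
  obtain ⟨V, hxV, E, α, hE, hiso, hepi⟩ := (isPseudoCoherentD_iff_pcOn m K).1 hK x
  exact ⟨V, E.homology m, homologyComp α m, hxV,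
    isQuasicoherent_homology_of_isStrictlyPerfect E hE m, inferInstance⟩

end Groth.Agent.Lib.PseudoCohQCoh
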