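/-
helper66: `(- ⊗^L K) ⋙ (- ⊗^L L) ≅ - ⊗^L (K ⊗ L)` on a ringed site when `L` is K-flat.
-/
import Groth.Agent.Lib.LTensorKFlat66
import Groth.Agent.Lib.BifunctorAssocNat66

set_option autoImplicit false
universe u
open CategoryTheory Limits HomologicalComplex

attribute [local instance] HasDerivedCategory.standard

namespace Groth.Agent.Lib.RHomTensor66

open Groth.Agent.Lib.ModSiteKFlatBdd66 Groth.Agent.Lib.ModSiteKFlatQis66
  Groth.Agent.Lib.ModSiteKFlatRes66 Groth.Agent.Lib.RelResolution66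
  Groth.Agent.Lib.KanResolution66 Groth.Agent.Lib.ModSiteFlat
  Groth.Agent.Lib.LTensorKFlat66 Groth.Agent.Lib.ModSiteTensorAssoc66

variable {C : Type u} [SmallCategory C] {J : GrothendieckTopology C} {O : Sheaf J CommRingCat.{u}}

/-- `- ⊗^L E` is computed by a K-flat resolution of `E` -/
noncomputable def lTensorIso {E' E : Cx O} (e : E' ⟶ E) [QuasiIso e] (hE' : ModSite.IsKFlat E')
    [ModSite.HasLTensorCx E] : ModSite.LTensorCx E ≅ tensD E' hE' :=
  haveI := isLeftDerivedFunctor_tensD e hE'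
  Functor.leftDerivedUnique (tensD E' hE') (ModSite.LTensorCx E)
    ((ModSite.tensorCxQ E).totalLeftDerivedCounit DerivedCategory.Q (Wq O)) (counitD e hE') (Wq O)

/-- associativity of the tensor product of complexes, natural in the first variable -/
noncomputable def assocNat (K L : Cx O) :
    (ModSite.tensorCx O).flip.obj K ⋙ (ModSite.tensorCx O).flip.obj L ≅
      (ModSite.tensorCx O).flip.obj (T K L) :=
  NatIso.ofComponents (fun F => tensAssoc F K L) (by
    intro F F' f
    exact Groth.Agent.Lib.BifunctorAssocNat66.mapBifunctorAssociator_hom_naturality₁ (assocTri O) f K L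
      (ComplexShape.up ℤ) (ComplexShape.up ℤ) (ComplexShape.up ℤ))

/-- `(- ⊗ K) ⋙ (- ⊗ L) ≅ - ⊗ (K ⊗ L)` on the derived category for K-flat `K`, `L` -/
noncomputable def tensDComp (K L : Cx O) (hK : ModSite.IsKFlat K) (hL : ModSite.IsKFlat L) :
    tensD K hK ⋙ tensD L hL ≅ tensD (T K L) (isKFlat_tensor K L hK hL) :=
  Localization.liftNatIso DerivedCategory.Q (Wq O) (ModSite.tensorCxQ K ⋙ tensD L hL)
    (ModSite.tensorCxQ (T K L)) _ _
    (Functor.associator _ _ _ ≪≫
      Functor.isoWhiskerLeft _ (Localization.Lifting.iso DerivedCategory.Q (Wq O)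
        (ModSite.tensorCxQ L) (tensD L hL)) ≪≫
      (Functor.associator _ _ _).symm ≪≫ Functor.isoWhiskerRight (assocNat K L) DerivedCategory.Q)

/-- MAIN: `- ⊗^L (K ⊗ L) ≅ (- ⊗^L K) ⋙ (- ⊗^L L)` when `L` is K-flat -/
theorem nonempty_lTensor_comp (K L : Cx O) (hL : ModSite.IsKFlat L) [ModSite.HasLTensorCx K]
    [ModSite.HasLTensorCx L] [hKL : ModSite.HasLTensorCx (T K L)] :
    Nonempty (ModSite.LTensorCx (T K L) ≅ ModSite.LTensorCx K ⋙ ModSite.LTensorCx L) := by
  have := quasiIso_resπ K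
  have h1 := quasiIso_tensor_left L hL (resπ K)
  have : QuasiIso (𝟙 L) := inferInstance
  let a : ModSite.LTensorCx K ≅ tensD (res K) (isKFlat_res K) := lTensorIso (resπ K) _
  let b : ModSite.LTensorCx L ≅ tensD L hL := lTensorIso (𝟙 L) hL
  let c : ModSite.LTensorCx (T K L) ≅ tensD (T (res K) L) (isKFlat_tensor _ _ (isKFlat_res K) hL) :=
    @lTensorIso _ _ _ _ _ _ (HomologicalComplex.mapBifunctorMap (resπ K) (𝟙 L) (ModSite.tensorBi O)
      (ComplexShape.up ℤ)) h1 _ hKL
  exact ⟨c ≪≫ (tensDComp (res K) L (isKFlat_res K) hL).symm ≪≫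
    (Functor.isoWhiskerRight a.symm _ ≪≫ Functor.isoWhiskerLeft _ b.symm)⟩

end Groth.Agent.Lib.RHomTensor66
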