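import Groth.Agent.Lib.KFlat35
import Groth.Agent.Lib.TensorSymm35
import Groth.Agent.Lib.BifunctorColim35
import Groth.Agent.Lib.HomologyFilteredColim
import Mathlib.Algebra.Homology.HomotopyCategory.MappingCone
import Mathlib.CategoryTheory.Limits.ConcreteCategory.Basic
import Mathlib.Algebra.Category.ModuleCat.FilteredColimits
import Mathlib.Algebra.Category.ModuleCat.AB
import Mathlib.CategoryTheory.Functor.OfSequence
import Mathlib.RingTheory.Flat.EquationalCriterion

/-!
# Semi-free (K-flat) resolutions of unbounded complexes of modules (helper35)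

For every cochain complex `M` of `R`-modules we construct a K-flat complex `K` with flat (free) terms
and a degreewise surjective quasi-isomorphism `K ⟶ M`, by iteratively attaching free cells
(mapping cones of maps from bounded above complexes of free modules with zero differential) and
passing to the colimit of the resulting sequence.
-/

set_option autoImplicit false

universe u

namespace Groth.Agent.Lib.SemiFree35

open CategoryTheory CategoryTheory.Limits CochainComplex HomComplex
open Groth.Agent.Lib.KFlat35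

variable {R : Type u} [CommRing R]

/-! ### Elementwise criterion for surjective quasi-isomorphisms -/

section Criterion

variable {K M : CochainComplex (ModuleCat.{u} R) ℤ} (f : K ⟶ M)

lemma comm_apply (i j : ℤ) (k : K.X i) :
    (f.f j).hom ((K.d i j).hom k) = (M.d i j).hom ((f.f i).hom k) := by
  exact (congrArg (fun g => g.hom k) (f.comm i j)).symm

lemma d_d_apply (K : CochainComplex (ModuleCat.{u} R) ℤ) (i j l : ℤ) (k : K.X i) :
    (K.d j l).hom ((K.d i j).hom k) = 0 := by
  exact congrArg (fun g => g.hom k) (K.d_comp_d i j l)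

theorem surjective_of_elementwise
    (c1 : ∀ (i : ℤ) (m : M.X i), (M.d i (i + 1)).hom m = 0 →
      ∃ k : K.X i, (K.d i (i + 1)).hom k = 0 ∧ (f.f i).hom k = m)
    (c2 : ∀ (i j : ℤ) (_ : j + 1 = i) (k : K.X i) (m : M.X j), (K.d i (i + 1)).hom k = 0 →
      (f.f i).hom k = (M.d j i).hom m → ∃ k' : K.X j, (K.d j i).hom k' = k) (i : ℤ) :
    Function.Surjective (f.f i).hom := by
  intro m
  obtain ⟨k, hk, hfk⟩ := c1 (i + 1) ((M.d i (i + 1)).hom m) (d_d_apply M _ _ _ m)
  obtain ⟨k', hk'⟩ := c2 (i + 1) i rfl k m hk hfk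
  obtain ⟨c, hc, hfc⟩ := c1 i (m - (f.f i).hom k') (by
    rw [map_sub, ← comm_apply, hk', hfk, sub_self])
  exact ⟨c + k', by rw [map_add, hfc]; abel⟩

theorem quasiIso_of_elementwise
    (c1 : ∀ (i : ℤ) (m : M.X i), (M.d i (i + 1)).hom m = 0 →
      ∃ k : K.X i, (K.d i (i + 1)).hom k = 0 ∧ (f.f i).hom k = m)
    (c2 : ∀ (i j : ℤ) (_ : j + 1 = i) (k : K.X i) (m : M.X j), (K.d i (i + 1)).hom k = 0 →
      (f.f i).hom k = (M.d j i).hom m → ∃ k' : K.X j, (K.d j i).hom k' = k) :
    QuasiIso f := by
  rw [Groth.Agent.Lib.ConeQuasiIso.quasiIso_iff_acyclic_mappingCone,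
    Groth.Agent.Lib.TensorCxZ35.acyclic_iff_function_exact]
  intro n x
  constructor
  · intro hx
    -- components of `x`
    set a := ((mappingCone.fst f).1.v (n + 1) (n + 1 + 1) rfl).hom x with ha
    set b := ((mappingCone.snd f).v (n + 1) (n + 1) (add_zero _)).hom x with hb
    have h1 : (K.d (n + 1 + 1) (n + 1 + 1 + 1)).hom a = 0 := by
      have := congrArg (fun g => g.hom x)
        (mappingCone.d_fst_v f (n + 1) (n + 1 + 1) (n + 1 + 1 + 1) rfl rfl)
      simp only [ModuleCat.hom_comp, LinearMap.comp_apply, ModuleCat.hom_neg,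
        LinearMap.neg_apply] at this
      rw [hx, map_zero] at this
      rw [ha]
      exact neg_eq_zero.mp this.symm
    have h2 : (f.f (n + 1 + 1)).hom a + (M.d (n + 1) (n + 1 + 1)).hom b = 0 := by
      have := congrArg (fun g => g.hom x) (mappingCone.d_snd_v f (n + 1) (n + 1 + 1) rfl)
      simp only [ModuleCat.hom_comp, LinearMap.comp_apply, ModuleCat.hom_add,
        LinearMap.add_apply] at this
      rw [hx, map_zero] at this
      rw [ha, hb]
      exact this.symm
    obtain ⟨a', ha'⟩ := c2 (n + 1 + 1) (n + 1) rfl a (-b) h1 (by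
      rw [map_neg]; exact eq_neg_of_add_eq_zero_left h2)
    obtain ⟨c, hc, hfc⟩ := c1 (n + 1) (b + (f.f (n + 1)).hom a') (by
      rw [map_add, ← comm_apply f (n + 1) (n + 1 + 1) a', ha']; exact (add_comm _ _).trans h2)
    refine ⟨((mappingCone.inl f).v (n + 1) n (by omega)).hom (c - a'), ?_⟩
    have e1 := congrArg (fun g => g.hom (c - a'))
      (mappingCone.inl_v_d f (n + 1) n (n + 1 + 1) (by omega) (by omega))
    have e3 : (f.f (n + 1)).hom (c - a') = b := by rw [map_sub, hfc, add_sub_cancel_right]
    have e4 : (K.d (n + 1) (n + 1 + 1)).hom (c - a') = -a := by rw [map_sub, hc, ha', zero_sub]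
    simp only [ModuleCat.hom_comp, LinearMap.comp_apply, ModuleCat.hom_sub,
      LinearMap.sub_apply, e3, e4, map_neg, sub_neg_eq_add] at e1
    rw [e1]
    have e2 := congrArg (fun g => g.hom x) (mappingCone.id_X f (n + 1) (n + 1 + 1) rfl)
    simp only [ModuleCat.hom_comp, LinearMap.comp_apply, ModuleCat.hom_add,
      LinearMap.add_apply, ModuleCat.hom_id, LinearMap.id_apply] at e2
    exact (add_comm _ _).trans e2
  · rintro ⟨w, rfl⟩
    exact d_d_apply _ _ _ _ w

end Criterion

/-! ### Complexes of free modules with zero differential -/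

section Cells

/-- The complex with zero differential whose term in degree `p` is free on `I p`. -/
noncomputable def cellCx (I : ℤ → Type u) : CochainComplex (ModuleCat.{u} R) ℤ where
  X p := ModuleCat.of R (I p →₀ R)
  d _ _ := 0
  shape _ _ _ := rfl
  d_comp_d' _ _ _ _ _ := by simp

variable {I : ℤ → Type u}

lemma cellCx_d (p q : ℤ) : (cellCx (R := R) I).d p q = 0 := rfl

instance (p : ℤ) : Module.Flat R ((cellCx (R := R) I).X p) :=
  inferInstanceAs (Module.Flat R (I p →₀ R))

lemma isZero_cellCx_X (p : ℤ) [IsEmpty (I p)] : IsZero ((cellCx (R := R) I).X p) := by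
  haveI : Subsingleton (I p →₀ R) := inferInstance
  exact ModuleCat.isZero_of_subsingleton (ModuleCat.of R (I p →₀ R))

variable {K M : CochainComplex (ModuleCat.{u} R) ℤ}

/-- The chain map out of a cell complex given by a family of cycles. -/
noncomputable def cellMap (z : ∀ p, I p → K.X p)
    (hz : ∀ p (x : I p), (K.d p (p + 1)).hom (z p x) = 0) : cellCx (R := R) I ⟶ K where
  f p := ModuleCat.ofHom (Finsupp.linearCombination R (z p))
  comm' p q hpq := by
    obtain rfl : p + 1 = q := hpq
    rw [cellCx_d, zero_comp]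
    apply ModuleCat.hom_ext
    apply Finsupp.lhom_ext'
    intro a
    apply LinearMap.ext_ring
    change (K.d p (p + 1)).hom ((Finsupp.linearCombination R (z p)) (Finsupp.single a 1)) = 0
    rw [Finsupp.linearCombination_single, one_smul, hz]

lemma cellMap_single (z : ∀ p, I p → K.X p)
    (hz : ∀ p (x : I p), (K.d p (p + 1)).hom (z p x) = 0) (p : ℤ) (x : I p) :
    ((cellMap z hz).f p).hom (Finsupp.single x (1 : R) : I p →₀ R) = z p x := by
  change (Finsupp.linearCombination R (z p)) (Finsupp.single x 1) = _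
  rw [Finsupp.linearCombination_single, one_smul]

/-- The cochain of degree `-1` out of a cell complex given by a family of elements. -/
noncomputable def cellCochain (m : ∀ p q, p + (-1) = q → I p → M.X q) :
    Cochain (cellCx (R := R) I) M (-1) :=
  Cochain.mk fun p q hpq => ModuleCat.ofHom (Finsupp.linearCombination R (m p q hpq))

lemma cellCochain_single (m : ∀ p q, p + (-1) = q → I p → M.X q) (p q : ℤ) (hpq : p + (-1) = q)
    (x : I p) :
    ((cellCochain m).v p q hpq).hom (Finsupp.single x (1 : R) : I p →₀ R) = m p q hpq x := by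
  change (Finsupp.linearCombination R (m p q hpq)) (Finsupp.single x 1) = _
  rw [Finsupp.linearCombination_single, one_smul]

lemma δ_cellCochain (m : ∀ p q, p + (-1) = q → I p → M.X q) (z : ∀ p, I p → K.X p)
    (hz : ∀ p (x : I p), (K.d p (p + 1)).hom (z p x) = 0) (f : K ⟶ M)
    (h : ∀ p q (hpq : p + (-1) = q) (x : I p), (M.d q p).hom (m p q hpq x) = (f.f p).hom (z p x)) :
    δ (-1) 0 (cellCochain m) = Cochain.ofHom (cellMap z hz ≫ f) := by
  refine Cochain.ext₀ _ _ (fun p => ?_)
  rw [δ_v (-1) 0 (by simp) (cellCochain m) p p (add_zero p) (p - 1) (p + 1) rfl rfl, cellCx_d,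
    zero_comp, smul_zero, add_zero, Cochain.ofHom_v]
  apply ModuleCat.hom_ext
  apply Finsupp.lhom_ext'
  intro a
  apply LinearMap.ext_ring
  change (M.d (p - 1) p).hom (((cellCochain m).v p (p - 1) (by omega)).hom (Finsupp.single a 1)) =
    (f.f p).hom (((cellMap z hz).f p).hom (Finsupp.single a 1))
  rw [cellCochain_single, cellMap_single, h]

end Cells

/-! ### Attaching cells -/

section Step

variable {K M : CochainComplex (ModuleCat.{u} R) ℤ}

/-- A cell to be attached in degree `p ≤ b`: a cycle `z` of `K` of degree `p` whose image in `M` is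
the boundary of `m`. -/
structure Cell (f : K ⟶ M) (b p : ℤ) : Type u where
  q : ℤ
  hq : q + 1 = p
  z : K.X p
  m : M.X q
  hz : (K.d p (p + 1)).hom z = 0
  hm : (f.f p).hom z = (M.d q p).hom m
  hp : p ≤ b

variable (f : K ⟶ M) (b : ℤ)

/-- The attaching map of all cells of degree `≤ b`. -/
noncomputable def attachMap : cellCx (R := R) (Cell f b) ⟶ K :=
  cellMap (fun _ x => x.z) (fun _ x => x.hz)

/-- The cochain giving the extension of `f` to the cone of the attaching map. -/
noncomputable def attachCochain : Cochain (cellCx (R := R) (Cell f b)) M (-1) :=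
  cellCochain (fun p q hpq x => (M.XIsoOfEq (show x.q = q by have := x.hq; omega)).hom x.m)

lemma δ_attachCochain :
    δ (-1) 0 (attachCochain f b) = Cochain.ofHom (attachMap f b ≫ f) := by
  refine δ_cellCochain _ _ _ f (fun p q hpq x => ?_)
  have hq : x.q = q := by have := x.hq; omega
  subst hq
  simp only [HomologicalComplex.XIsoOfEq_rfl, Iso.refl_hom, ModuleCat.hom_id, LinearMap.id_apply]
  exact x.hm.symm

/-- The complex obtained by attaching all cells of degree `≤ b`. -/
noncomputable def next : CochainComplex (ModuleCat.{u} R) ℤ := mappingCone (attachMap f b)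

/-- The extension of `f` to `next f b`. -/
noncomputable def nextMap : next f b ⟶ M :=
  mappingCone.desc (attachMap f b) (attachCochain f b) f (δ_attachCochain f b)

/-- The inclusion of `K` in `next f b`. -/
noncomputable def incl : K ⟶ next f b := mappingCone.inr (attachMap f b)

@[reassoc (attr := simp)]
lemma incl_nextMap : incl f b ≫ nextMap f b = f := mappingCone.inr_desc _ _ _ _

lemma exists_of_cell {p : ℤ} (x : Cell f b p) :
    ∃ w : (next f b).X x.q, ((next f b).d x.q p).hom w = ((incl f b).f p).hom x.z ∧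
      ((nextMap f b).f x.q).hom w = x.m := by
  have hq := x.hq
  refine ⟨((mappingCone.inl (attachMap f b)).v p x.q (by omega)).hom
    (Finsupp.single x (1 : R) : Cell f b p →₀ R), ?_, ?_⟩
  · have e1 := congrArg (fun g => g.hom (Finsupp.single x (1 : R) : Cell f b p →₀ R))
      (mappingCone.inl_v_d (attachMap f b) p x.q (p + 1) (by omega) (by omega))
    simp only [ModuleCat.hom_comp, LinearMap.comp_apply, ModuleCat.hom_sub,
      LinearMap.sub_apply, cellCx_d, ModuleCat.hom_zero, LinearMap.zero_apply, map_zero,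
      sub_zero] at e1
    refine e1.trans ?_
    exact congrArg ((mappingCone.inr (attachMap f b)).f p).hom (cellMap_single _ _ p x)
  · have e2 := congrArg (fun g => g.hom (Finsupp.single x (1 : R) : Cell f b p →₀ R))
      (mappingCone.inl_v_desc_f (attachMap f b) (attachCochain f b) f (δ_attachCochain f b)
        p x.q (by omega))
    simp only [ModuleCat.hom_comp, LinearMap.comp_apply] at e2
    refine e2.trans ?_
    refine (cellCochain_single _ p x.q (by omega) x).trans ?_
    simp

lemma isKFlat_cellCx_of_isEmpty (I : ℤ → Type u) (b : ℤ) (hI : ∀ p, b < p → IsEmpty (I p)) :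
    IsKFlat (cellCx (R := R) I) := by
  intro L hL
  have h1 : (HomologicalComplex.tensorObj (cellCx (R := R) I) L).Acyclic :=
    Groth.Agent.Lib.TensorCxZ35.acyclic_tensorObj_of_flat _ L (fun i => inferInstance) b
      (fun i hi => by
        haveI : IsEmpty (I i) := hI i hi
        exact isZero_cellCx_X i) hL
  exact fun i => (h1 i).of_iso (Groth.Agent.Lib.TensorSymm35.tensorObjSymmIso L _).symm

lemma isKFlat_cellCx : IsKFlat (cellCx (R := R) (Cell f b)) :=
  isKFlat_cellCx_of_isEmpty _ b (fun p hp => ⟨fun x => absurd x.hp (by omega)⟩)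

lemma isKFlat_next (hK : IsKFlat K) : IsKFlat (next f b) :=
  isKFlat_mappingCone _ (isKFlat_cellCx f b) hK

lemma flat_next (hK : ∀ i, Module.Flat R (K.X i)) (i : ℤ) : Module.Flat R ((next f b).X i) :=
  Groth.Agent.Lib.ConeQuasiIso.flat_mappingCone_X _ (fun i => inferInstance) hK i

end Step

/-! ### Filtered colimits of flat modules -/

section FlatColimit

theorem flat_of_isColimit {J : Type*} [Category J] [IsFiltered J] (F : J ⥤ ModuleCat.{u} R)
    [PreservesColimit F (forget (ModuleCat.{u} R))] {c : Cocone F} (hc : IsColimit c)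
    (h : ∀ j, Module.Flat R (F.obj j)) : Module.Flat R c.pt := by
  classical
  refine Module.Flat.of_forall_isTrivialRelation ?_
  intro l f x hfx
  choose jx x0 hx0 using fun i => Concrete.isColimit_exists_rep F hc (x i)
  obtain ⟨j, hj⟩ := IsFiltered.sup_objs_exists (Finset.univ.image jx)
  have ax : ∀ i, jx i ⟶ j := fun i => (hj (Finset.mem_image_of_mem _ (Finset.mem_univ i))).some
  let x1 : Fin l → F.obj j := fun i => (F.map (ax i)).hom (x0 i)
  have hx1 : ∀ i, (c.ι.app j).hom (x1 i) = x i := fun i => by
    rw [← hx0 i]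
    exact congrArg (fun g => g.hom (x0 i)) (c.w (ax i))
  have hs : (c.ι.app j).hom (∑ i, f i • x1 i) = (c.ι.app j).hom 0 := by
    rw [map_sum, map_zero, ← hfx]
    refine Finset.sum_congr rfl (fun i _ => ?_)
    rw [map_smul, hx1]
  obtain ⟨k, g, g', hg⟩ := Concrete.isColimit_exists_of_rep_eq F hc _ _ hs
  let x2 : Fin l → F.obj k := fun i => (F.map g).hom (x1 i)
  have hrel : ∑ i, f i • x2 i = 0 := by
    have h1 : (F.map g).hom (∑ i, f i • x1 i) = (F.map g').hom 0 := hg
    rw [map_sum, map_zero] at h1
    rw [← h1]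
    refine Finset.sum_congr rfl (fun i _ => ?_)
    rw [map_smul]
  haveI := h k
  obtain ⟨n, a', y', hxa, hfa⟩ := Module.Flat.isTrivialRelation_of_sum_smul_eq_zero hrel
  refine ⟨n, a', fun m => (c.ι.app k).hom (y' m), fun i => ?_, hfa⟩
  have h2 : (c.ι.app k).hom (x2 i) = x i := by
    rw [← hx1 i]
    exact congrArg (fun g => g.hom (x1 i)) (c.w g)
  rw [← h2, hxa i, map_sum]
  refine Finset.sum_congr rfl (fun m _ => ?_)
  rw [map_smul]

end FlatColimit

/-! ### Colimits of sequences of K-flat complexes -/

section KFlatColimit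

open MonoidalCategory

lemma isZero_of_isColimit_of_isZero {J C : Type*} [Category J] [Category C] [HasZeroMorphisms C]
    {D : J ⥤ C} {c : Cocone D} (hc : IsColimit c) (h : ∀ j, IsZero (D.obj j)) : IsZero c.pt := by
  rw [IsZero.iff_id_eq_zero]
  apply hc.hom_ext
  intro j
  exact (h j).eq_of_src _ _

instance hasExactColimitsOfShape_nat : HasExactColimitsOfShape ℕ (ModuleCat.{u} R) := by
  haveI : HasExactColimitsOfShape (ULiftHom.{u} (ULift.{u} ℕ)) (ModuleCat.{u} R) := inferInstance
  exact HasExactColimitsOfShape.of_domain_equivalence (ModuleCat.{u} R)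
    (ULiftHomULiftCategory.equiv.{u, u} ℕ).symm

theorem isKFlat_of_isColimit_seq (F : ℕ ⥤ CochainComplex (ModuleCat.{u} R) ℤ)
    (hF : ∀ n, IsKFlat (F.obj n)) {c : Cocone F} (hc : IsColimit c) : IsKFlat c.pt := by
  rw [isKFlat_iff]
  intro L hL i
  let G := (curriedTensor (ModuleCat.{u} R)).map₂CochainComplex.obj L
  haveI : ∀ X₁ : ModuleCat.{u} R, PreservesColimitsOfShape ℕ
      ((curriedTensor (ModuleCat.{u} R)).obj X₁) :=
    fun X₁ => inferInstanceAs (PreservesColimitsOfShape ℕ (tensorLeft X₁))
  haveI : PreservesColimitsOfShape ℕ G :=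
    Groth.Agent.Lib.BifunctorColim35.preservesColimitsOfShape_map₂ _ ℕ L
  have hc1 : IsColimit (G.mapCocone c) := isColimitOfPreserves G hc
  have hc2 := isColimitOfPreserves
    (HomologicalComplex.homologyFunctor (ModuleCat.{u} R) (ComplexShape.up ℤ) i) hc1
  exact isZero_of_isColimit_of_isZero hc2 (fun j => (isKFlat_iff _).1 (hF j) L hL i)

end KFlatColimit

/-! ### The resolution -/

section Resolution

variable (M : CochainComplex (ModuleCat.{u} R) ℤ)

/-- A stage of the construction: a K-flat complex with flat terms mapping to `M`. -/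
structure Stage where
  K : CochainComplex (ModuleCat.{u} R) ℤ
  f : K ⟶ M
  kflat : IsKFlat K
  flat : ∀ i, Module.Flat R (K.X i)

variable {M}

/-- Attach all cells of degree `≤ b`. -/
noncomputable def Stage.succ (s : Stage M) (b : ℤ) : Stage M where
  K := next s.f b
  f := nextMap s.f b
  kflat := isKFlat_next s.f b s.kflat
  flat := flat_next s.f b s.flat

variable (M)

/-- The initial (zero) stage. -/
noncomputable def Stage.init : Stage M where
  K := cellCx (R := R) (fun _ => PEmpty.{u + 1})
  f := 0
  kflat := isKFlat_cellCx_of_isEmpty _ 0 (fun _ _ => inferInstance)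
  flat := fun _ => inferInstance

/-- The sequence of stages. -/
noncomputable def stage : ℕ → Stage M
  | 0 => Stage.init M
  | n + 1 => (stage n).succ n

/-- The sequence of complexes. -/
noncomputable def seq : ℕ ⥤ CochainComplex (ModuleCat.{u} R) ℤ :=
  Functor.ofSequence (X := fun n => (stage M n).K) (fun n => incl (stage M n).f n)

/-- The cocone of the sequence with point `M`. -/
noncomputable def seqCocone : Cocone (seq M) where
  pt := M
  ι := NatTrans.ofSequence (fun n => (stage M n).f) (fun n => by
    have h := Functor.ofSequence_map_homOfLE_succ (fun n => incl (stage M n).f n) n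
    change (Functor.ofSequence (fun n => incl (stage M n).f n)).map _ ≫ _ = _
    rw [h]
    exact (incl_nextMap (stage M n).f n).trans (Category.comp_id _).symm)

instance : PreservesColimitsOfShape ℕ (forget (ModuleCat.{u} R)) := by
  haveI : PreservesFilteredColimitsOfSize.{0, 0} (forget (ModuleCat.{u} R)) :=
    preservesSmallestFilteredColimits_of_preservesFilteredColimits.{u, u} _
  infer_instance

/-- The resolving complex: the colimit of the sequence of stages. -/
noncomputable def res : CochainComplex (ModuleCat.{u} R) ℤ := colimit (seq M)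

/-- The resolution map. -/
noncomputable def resMap : res M ⟶ M := colimit.desc (seq M) (seqCocone M)

theorem res_spec :
    IsKFlat (res M) ∧ (∀ i, Module.Flat R ((res M).X i)) ∧ QuasiIso (resMap M) ∧
      ∀ i, Function.Surjective ((resMap M).f i).hom := by
  let F := seq M
  let f : colimit F ⟶ M := colimit.desc F (seqCocone M)
  have hι : ∀ n, colimit.ι F n ≫ f = (stage M n).f := fun n => colimit.ι_desc _ _
  have hw : ∀ n, incl (stage M n).f n ≫ colimit.ι F (n + 1) = colimit.ι F n := fun n => by
    have := colimit.w F (homOfLE (n.le_add_right 1))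
    rwa [show F.map (homOfLE (n.le_add_right 1)) = incl (stage M n).f n from
      Functor.ofSequence_map_homOfLE_succ _ n] at this
  let ev := fun i : ℤ => HomologicalComplex.eval (ModuleCat.{u} R) (ComplexShape.up ℤ) i
  have hci : ∀ i, IsColimit ((ev i).mapCocone (colimit.cocone F)) := fun i =>
    isColimitOfPreserves (ev i) (colimit.isColimit F)
  have c1 : ∀ (i : ℤ) (m : M.X i), (M.d i (i + 1)).hom m = 0 →
      ∃ k : (colimit F).X i, ((colimit F).d i (i + 1)).hom k = 0 ∧ (f.f i).hom k = m := by
    intro i m hm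
    set n := (i + 1).toNat with hn
    have hn' : i + 1 ≤ (n : ℤ) := Int.self_le_toNat _
    let x : Cell (stage M n).f (n : ℤ) (i + 1) :=
      ⟨i, rfl, 0, m, map_zero _, by rw [map_zero, hm], hn'⟩
    obtain ⟨w, hw1, hw2⟩ := exists_of_cell (stage M n).f (n : ℤ) x
    refine ⟨((colimit.ι F (n + 1)).f i).hom w, ?_, ?_⟩
    · rw [← comm_apply]
      erw [hw1]
      rw [map_zero]
      exact map_zero _
    · have := congrArg (fun g => (g.f i).hom w) (hι (n + 1))
      exact this.trans hw2
  have c2 : ∀ (i j : ℤ) (_ : j + 1 = i) (k : (colimit F).X i) (m : M.X j),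
      ((colimit F).d i (i + 1)).hom k = 0 → (f.f i).hom k = (M.d j i).hom m →
      ∃ k' : (colimit F).X j, ((colimit F).d j i).hom k' = k := by
    intro i j hij k m hk hfk
    obtain ⟨n, y, hy⟩ := Concrete.isColimit_exists_rep (F ⋙ ev i) (hci i) k
    have hy' : ((colimit.ι F n).f i).hom y = k := hy
    have hdy : ((colimit.ι F n).f (i + 1)).hom (((F.obj n).d i (i + 1)).hom y) =
        ((colimit.ι F n).f (i + 1)).hom 0 := by
      rw [comm_apply, hy', hk, map_zero]
    obtain ⟨n', g, g', hg⟩ :=
      Concrete.isColimit_exists_of_rep_eq (F ⋙ ev (i + 1)) (hci (i + 1)) _ _ hdy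
    have hg' : ((F.map g).f (i + 1)).hom (((F.obj n).d i (i + 1)).hom y) = 0 := by
      refine Eq.trans hg ?_
      exact map_zero ((F.map g').f (i + 1)).hom
    set N := max n' i.toNat with hN
    let gN : n ⟶ N := g ≫ homOfLE (le_max_left _ _)
    set y'' := ((F.map gN).f i).hom y with hy''
    have hdy'' : (((stage M N).K).d i (i + 1)).hom y'' = 0 := by
      rw [hy'']
      erw [← comm_apply (F.map gN) i (i + 1) y]
      rw [show F.map gN = F.map g ≫ F.map (homOfLE (le_max_left _ _)) from F.map_comp _ _]
      change ((F.map (homOfLE (le_max_left n' i.toNat))).f (i + 1)).hom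
        (((F.map g).f (i + 1)).hom (((F.obj n).d i (i + 1)).hom y)) = 0
      rw [hg', map_zero]
    have hιy'' : ((colimit.ι F N).f i).hom y'' = k := by
      rw [← hy', hy'']
      exact congrArg (fun g => (g.f i).hom y) (colimit.w F gN)
    have hfy'' : ((stage M N).f.f i).hom y'' = (M.d j i).hom m := by
      rw [← hfk, ← hιy'']
      exact (congrArg (fun g => (g.f i).hom y'') (hι N)).symm
    have hiN : i ≤ (N : ℤ) := by
      have h1 : i ≤ (i.toNat : ℤ) := Int.self_le_toNat _
      have h2 : (i.toNat : ℤ) ≤ (N : ℤ) := by exact_mod_cast le_max_right n' i.toNat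
      omega
    let x : Cell (stage M N).f (N : ℤ) i := ⟨j, hij, y'', m, hdy'', hfy'', hiN⟩
    obtain ⟨w, hw1, -⟩ := exists_of_cell (stage M N).f (N : ℤ) x
    refine ⟨((colimit.ι F (N + 1)).f j).hom w, ?_⟩
    rw [← comm_apply]
    erw [hw1]
    rw [← hιy'']
    exact congrArg (fun g => (g.f i).hom y'') (hw N)
  refine ⟨?_, ?_, quasiIso_of_elementwise f c1 c2, surjective_of_elementwise f c1 c2⟩
  · exact isKFlat_of_isColimit_seq F (fun n => (stage M n).kflat) (colimit.isColimit F)
  · intro i
    exact flat_of_isColimit (F ⋙ ev i) (hci i) (fun n => (stage M n).flat i)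

theorem exists_kflat_resolution :
    ∃ (K : CochainComplex (ModuleCat.{u} R) ℤ) (f : K ⟶ M), IsKFlat K ∧
      (∀ i, Module.Flat R (K.X i)) ∧ QuasiIso f ∧ ∀ i, Function.Surjective (f.f i).hom :=
  ⟨res M, resMap M, res_spec M⟩

end Resolution

end Groth.Agent.Lib.SemiFree35
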