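/-
helper81: stalks of `M^~` on `Spec R` via adjunctions: toStalkHom R x : R →+* O_{Spec R,x}; skyΓEquiv / skyΓIso (global sections of the skyscraper =
restriction of scalars); adjTildeStalk; tildeStalkIso R x : tilde.functor R ⋙ DerSch.stalkFunctor _ x ≅ extendScalars (toStalkHom R x) (natural);
stalkTildeCxIso; isKFlat_tilde (= S1121).
-/
import Groth.Agent.Lib.KFlatBaseChange81C
import Mathlib.AlgebraicGeometry.Modules.Tilde

set_option autoImplicit false
universe u
open CategoryTheory CategoryTheory.Limits AlgebraicGeometry MonoidalCategory TopologicalSpace Opposite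

namespace Groth.Agent.Lib.TildeStalk81

open Groth.Agent.Lib.StalkTensor81 Groth.Agent.Lib.SkyMod81 Groth.Agent.Lib.KFlatBaseChange81

variable (R : CommRingCat.{u}) (x : Spec (.of R))

/-- the canonical map from `R` to the local ring of `Spec R` at `x` -/
noncomputable def toStalkHom : R →+* (Spec (.of R)).presheaf.stalk x :=
  ((Spec (.of R)).presheaf.germ ⊤ x trivial).hom.comp (Scheme.ΓSpecIso R).inv.hom

/-- evaluation of global sections of the skyscraper -/
noncomputable def skyΓEquiv (N : ModuleCat.{u} ((Spec (.of R)).presheaf.stalk x)) :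
    ↑(moduleSpecΓFunctor.obj ((skyMod x).obj N)) ≃ₗ[R]
      ↑((ModuleCat.restrictScalars (toStalkHom R x)).obj N) where
  toFun s := toFn x N ⊤ s ⟨trivial⟩
  invFun n := ofFn x N ⊤ (fun _ => n)
  map_add' s t := rfl
  map_smul' r s := by
    change toFn x N ⊤ (r • (show Γ((skyMod x).obj N, ⊤) from s)) ⟨trivial⟩ = _
    rw [Scheme.Modules.smul_Spec_def]
    erw [skyObj_smul]
    change gm x ⊤ ⟨trivial⟩ _ • toFn x N ⊤ s ⟨trivial⟩ = toStalkHom R x r • toFn x N ⊤ s ⟨trivial⟩
    congr 1
  left_inv s := by
    change ofFn x N ⊤ (fun _ => toFn x N ⊤ s ⟨trivial⟩) = s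
    rfl
  right_inv n := rfl


/-- global sections of the skyscraper, naturally -/
noncomputable def skyΓIso :
    skyMod x ⋙ moduleSpecΓFunctor ≅ ModuleCat.restrictScalars (toStalkHom R x) :=
  NatIso.ofComponents (fun N => (skyΓEquiv R x N).toModuleIso) (fun {N N'} g => by
    ext s
    rfl)

/-- the composite adjunction `stalk ∘ tilde ⊣ Γ ∘ sky` -/
noncomputable def adjTildeStalk :
    tilde.functor R ⋙ DerSch.stalkFunctor (Spec (.of R)) x ⊣ skyMod x ⋙ moduleSpecΓFunctor :=
  (tilde.adjunction (R := R)).comp (stalkFunctorAdj x)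

/-- **the stalk of `M^~`** is `O_x ⊗_R M`, naturally in `M` -/
noncomputable def tildeStalkIso :
    tilde.functor R ⋙ DerSch.stalkFunctor (Spec (.of R)) x ≅
      ModuleCat.extendScalars.{u, u, u} (toStalkHom R x) :=
  (conjugateIsoEquiv (ModuleCat.extendRestrictScalarsAdj.{u, u, u} (toStalkHom R x))
    (adjTildeStalk R x)).symm (skyΓIso R x).symm


/-- the complex of stalks of `K^~` -/
noncomputable def stalkTildeCxIso (K : DRing.Cx R) :
    (stalkCx x).obj (((tilde.functor R).mapHomologicalComplex (ComplexShape.up ℤ)).obj K) ≅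
      (extCx (toStalkHom R x)).obj K :=
  HomologicalComplex.Hom.isoOfComponents (fun n => (tildeStalkIso R x).app (K.X n))
    (fun n n' _ => ((tildeStalkIso R x).hom.naturality (K.d n n')).symm)

/-- the tilde of a K-flat complex is K-flat -/
theorem isKFlat_tilde (K : DRing.Cx R) (hK : DRing.IsKFlat R K) :
    DCoh.IsKFlat (((tilde.functor R).mapHomologicalComplex (ComplexShape.up ℤ)).obj K) := by
  rw [isKFlat_iff_stalk]
  intro x
  exact isKFlat_of_iso (stalkTildeCxIso R x K).symm (isKFlat_extendScalars (toStalkHom R x) K hK)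

end Groth.Agent.Lib.TildeStalk81
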