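import Groth.Agent.Lib.RestrictTensorNat35
import Groth.Agent.Lib.RHomTensor66
import Groth.Agent.Lib.LpullQCoh35
import Groth.Agent.Lib.TildeStalk81
import Groth.Agent.Lib.SemiFree35
import Groth.Agent.Lib.PseudoCohQCoh
import Groth.Agent.Lib.OXModTensorQCoh
import Groth.Agent.Lib.H60TildeExact
import Groth.Agent.S0997

/-!
# `D_QCoh` is stable under the derived tensor product (helper35)
-/

set_option autoImplicit false
set_option linter.unusedSectionVars false
universe u
open CategoryTheory Limits AlgebraicGeometry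
attribute [local instance] HasDerivedCategory.standard

namespace Groth.Agent.Lib.LTensorQCoh35

open Groth.Agent.Lib.LTensorKFlat66 Groth.Agent.Lib.ModSiteKFlatBdd66 Groth.Agent.Lib.ModSiteKFlatQis66

section Site

variable {C : Type u} [SmallCategory C] {J : GrothendieckTopology C} {O : Sheaf J CommRingCat.{u}}

/-- `Q(A ⊗ B)` for K-flat `B` only depends on the class of `A` in `D(O)` -/
theorem nonempty_tensor_iso_left {A A' B : Cx O}
    (hB : ModSite.IsKFlat B) (e : DerivedCategory.Q.obj A ≅ DerivedCategory.Q.obj A') :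
    Nonempty (DerivedCategory.Q.obj (T A B) ≅ DerivedCategory.Q.obj (T A' B)) := by
  let i := Localization.Lifting.iso DerivedCategory.Q (Wq O) (ModSite.tensorCxQ B) (tensD B hB)
  exact ⟨(i.app A).symm ≪≫ (tensD B hB).mapIso e ≪≫ i.app A'⟩

/-- `Q(A ⊗ B)` for K-flat `A` only depends on the class of `B` in `D(O)` -/
theorem nonempty_tensor_iso_right {A B B' : Cx O}
    (hA : ModSite.IsKFlat A) (e : DerivedCategory.Q.obj B ≅ DerivedCategory.Q.obj B') :
    Nonempty (DerivedCategory.Q.obj (T A B) ≅ DerivedCategory.Q.obj (T A B')) := by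
  obtain ⟨j⟩ := nonempty_tensor_iso_left hA e
  exact ⟨DerivedCategory.Q.mapIso (tensSymm A B) ≪≫ j ≪≫ DerivedCategory.Q.mapIso (tensSymm B' A)⟩

/-- `- ⊗^L F` evaluated at `Q A` is `Q (A ⊗ F')` for a K-flat resolution `F' ⟶ F` -/
theorem nonempty_lTensor_obj_iso {F' F : Cx O} (e : F' ⟶ F) [QuasiIso e] (hF' : ModSite.IsKFlat F')
    [ModSite.HasLTensorCx F] (A : Cx O) :
    Nonempty ((ModSite.LTensorCx F).obj (DerivedCategory.Q.obj A) ≅ DerivedCategory.Q.obj (T A F')) := by
  let i := Localization.Lifting.iso DerivedCategory.Q (Wq O) (ModSite.tensorCxQ F') (tensD F' hF')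
  exact ⟨(Groth.Agent.Lib.RHomTensor66.lTensorIso e hF').app _ ≪≫ i.app A⟩

end Site

variable {X : Scheme.{u}}


section Affine

variable (A : Type u) [CommRing A]

/-- tilde on complexes -/
noncomputable abbrev tildeCx : DRing.Cx A ⥤ CochainComplex (Spec (CommRingCat.of A)).Modules ℤ :=
  (tilde.functor (CommRingCat.of A)).mapHomologicalComplex (ComplexShape.up ℤ)

/-- an object of `D_QCoh(Spec A)` is represented by the tilde of a K-flat complex of `A`-modules -/
theorem exists_kflat_tilde_rep (K : DCoh.D (Spec (CommRingCat.of A))) (hK : DCoh.IsQCohD K) :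
    ∃ P : DRing.Cx A, DRing.IsKFlat A P ∧
      Nonempty (DCoh.toD (Spec (CommRingCat.of A)) ((tildeCx A).obj P) ≅ K) := by
  have iA : PreservesFiniteLimits (tilde.functor (CommRingCat.of A)) :=
    Groth.Agent.Lib.H60TildeExact.preservesFiniteLimits_tilde _
  obtain ⟨M, ⟨e⟩⟩ := ((Groth.Agent.S0997.result (CommRingCat.of A)).2.2 K).1 hK
  obtain ⟨P, p, hP, -, hp, -⟩ :=
    Groth.Agent.Lib.SemiFree35.exists_kflat_resolution (M := DerivedCategory.Q.objPreimage M)
  have hiso : IsIso (DerivedCategory.Q.map p) :=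
    (DerivedCategory.isIso_Q_map_iff_quasiIso (φ := p)).2 hp
  let eP : DerivedCategory.Q.obj P ≅ M :=
    @asIso _ _ _ _ (DerivedCategory.Q.map p) hiso ≪≫ DerivedCategory.Q.objObjPreimageIso M
  refine ⟨P, (Groth.Agent.Lib.KFlat35.isKFlat_iff P).1 hP, ⟨?_⟩⟩
  exact ((tilde.functor (CommRingCat.of A)).mapDerivedCategoryFactors.app P).symm ≪≫
    (DCoh.tildeD (CommRingCat.of A)).mapIso eP ≪≫ e


/-- coproducts (indexed by a type in `Type`) of quasi-coherent modules on `Spec A` are quasi-coherent -/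
theorem isQuasicoherent_of_isColimit_cofan {ι : Type} (f : ι → (Spec (CommRingCat.of A)).Modules)
    (hf : ∀ i, (f i).IsQuasicoherent) (c : Cofan f) (hc : IsColimit c) : c.pt.IsQuasicoherent := by
  let e : Discrete (ULift.{u} ι) ≌ Discrete ι := Discrete.equivalence Equiv.ulift
  have hc' : IsColimit (c.whisker e.functor) := IsColimit.whiskerEquivalence hc e
  have h1 : (colimit (e.functor ⋙ Discrete.functor f)).IsQuasicoherent :=
    Groth.Agent.Lib.H60TildeExact.isQuasicoherent_colimit (R := CommRingCat.of A) _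
      (fun j => hf _)
  exact (SheafOfModules.isQuasicoherent (Spec (CommRingCat.of A)).ringCatSheaf).prop_of_iso
    (colimit.isoColimitCocone ⟨_, hc'⟩) h1

/-- the terms of the tensor product of two complexes with quasi-coherent terms are quasi-coherent -/
theorem isQuasicoherent_tensorCx_X (K L : CochainComplex (Spec (CommRingCat.of A)).Modules ℤ)
    (hK : ∀ i, (K.X i).IsQuasicoherent) (hL : ∀ i, (L.X i).IsQuasicoherent) (n : ℤ) :
    (((DCoh.tensorCx.obj K).obj L).X n).IsQuasicoherent := by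
  let B := (((DCoh.tensorBi (X := Spec (CommRingCat.of A))).mapBifunctorHomologicalComplex
    (ComplexShape.up ℤ) (ComplexShape.up ℤ)).obj K).obj L
  have hc := B.toGradedObject.isColimitCofanMapObj
    (ComplexShape.π (ComplexShape.up ℤ) (ComplexShape.up ℤ) (ComplexShape.up ℤ)) n
  refine isQuasicoherent_of_isColimit_cofan A _ (fun i => ?_) _ hc
  have := hK i.1.1
  have := hL i.1.2
  exact Groth.Agent.Lib.OXModTensorQCoh.isQuasicoherent_tensorMod (K.X i.1.1) (L.X i.1.2)


/-- the affine case: `Q(K ⊗ L)` has quasi-coherent cohomology if `Q K`, `Q L` do and `L` is K-flat -/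
theorem isQCohD_tensor_spec (K L : CochainComplex (Spec (CommRingCat.of A)).Modules ℤ)
    (hL : ModSite.IsKFlat (O := (Spec (CommRingCat.of A)).sheaf) L)
    (hKq : DCoh.IsQCohD (DCoh.toD _ K)) (hLq : DCoh.IsQCohD (DCoh.toD _ L)) :
    DCoh.IsQCohD (DCoh.toD _ ((DCoh.tensorCx.obj K).obj L)) := by
  obtain ⟨P, hP, ⟨eP⟩⟩ := exists_kflat_tilde_rep A _ hKq
  obtain ⟨N, -, ⟨eN⟩⟩ := exists_kflat_tilde_rep A _ hLq
  have hPt : ModSite.IsKFlat (O := (Spec (CommRingCat.of A)).sheaf) ((tildeCx A).obj P) :=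
    Groth.Agent.Lib.TildeStalk81.isKFlat_tilde (CommRingCat.of A) P hP
  obtain ⟨j1⟩ := nonempty_tensor_iso_left (O := (Spec (CommRingCat.of A)).sheaf) hL eP.symm
  obtain ⟨j2⟩ := nonempty_tensor_iso_right (O := (Spec (CommRingCat.of A)).sheaf) hPt eN.symm
  refine Groth.Agent.Lib.LpullQCoh35.isQCohD_of_iso (j1 ≪≫ j2).symm ?_
  intro i
  have h1 : ((((DCoh.tensorCx.obj ((tildeCx A).obj P)).obj ((tildeCx A).obj N)).homology i)).IsQuasicoherent :=
    Groth.Agent.Lib.PseudoCohQCoh.isQuasicoherent_homology _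
      (isQuasicoherent_tensorCx_X A _ _ (fun p => Groth.Agent.Lib.H60TildeExact.isQuasicoherent_of_iso_tilde
          (R := CommRingCat.of A) (M := P.X p) (Iso.refl _))
        (fun q => Groth.Agent.Lib.H60TildeExact.isQuasicoherent_of_iso_tilde
          (R := CommRingCat.of A) (M := N.X q) (Iso.refl _))) i
  exact (SheafOfModules.isQuasicoherent (Spec (CommRingCat.of A)).ringCatSheaf).prop_of_iso
    ((DerivedCategory.homologyFunctorFactors _ i).app _).symm h1

end Affine


open Groth.Agent.Lib.ModSiteKFlatRes66 Groth.Agent.Lib.RestrictTensorNat35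
  Groth.Agent.Lib.LpullKFlat35 Groth.Agent.Lib.LpullHyp35 Groth.Agent.Lib.LpullQCoh35 in
/-- **S1062**: `D_QCoh(O_X)` is stable under `- ⊗^L F` for `F` with quasi-coherent cohomology. -/
theorem isQCohD_lTensor (X : Scheme.{u}) (F : CochainComplex X.Modules ℤ)
    (hF : DCoh.IsQCohD (DCoh.toD X F)) [DCoh.HasLTensorCx F] (E : DCoh.D X) (hE : DCoh.IsQCohD E) :
    DCoh.IsQCohD ((DCoh.LTensorCx F).obj E) := by
  intro i
  have hcov : ⨆ a : X.affineOpens, a.1 = ⊤ := by
    rw [eq_top_iff]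
    intro y _
    obtain ⟨_, ⟨V, hV, rfl⟩, hyV, -⟩ :=
      X.isBasis_affineOpens.exists_subset_of_mem_open (show y ∈ (⊤ : X.Opens) from trivial)
        (⊤ : X.Opens).isOpen
    exact TopologicalSpace.Opens.mem_iSup.mpr ⟨⟨V, hV⟩, hyV⟩
  refine Groth.Agent.Lib.H90OXModExact.isQuasicoherent_of_forall_restrict _
    (fun a : X.affineOpens => a.1) hcov (fun a => a.2) (fun a => ?_)
  obtain ⟨U, hU⟩ := a
  replace hU : IsAffineOpen U := hU
  change ((DCoh.HD ((DCoh.LTensorCx F).obj E) i).restrict hU.fromSpec).IsQuasicoherent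
  -- representatives
  let E₀ := DerivedCategory.Q.objPreimage E
  let eE : DCoh.toD X E₀ ≅ E := DerivedCategory.Q.objObjPreimageIso E
  have hπ : QuasiIso (resπ (O := X.sheaf) F) := quasiIso_resπ (O := X.sheaf) F
  have hF' : ModSite.IsKFlat (O := X.sheaf) (res (O := X.sheaf) F) := isKFlat_res (O := X.sheaf) F
  have hisoπ : IsIso (DerivedCategory.Q.map (resπ (O := X.sheaf) F)) :=
    (DerivedCategory.isIso_Q_map_iff_quasiIso (φ := resπ (O := X.sheaf) F)).2 hπ
  let eF : DCoh.toD X (res (O := X.sheaf) F) ≅ DCoh.toD X F :=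
    @asIso _ _ _ _ (DerivedCategory.Q.map (resπ (O := X.sheaf) F)) hisoπ
  have iF : ModSite.HasLTensorCx (O := X.sheaf) F := ‹DCoh.HasLTensorCx F›
  obtain ⟨a1⟩ := nonempty_lTensor_obj_iso (O := X.sheaf) (resπ (O := X.sheaf) F) hF' E₀
  -- the restricted tensor product
  let K := (resCx hU.fromSpec).obj E₀
  let L := (resCx hU.fromSpec).obj (res (O := X.sheaf) F)
  have hL : ModSite.IsKFlat (O := (Spec Γ(X, U)).sheaf) L :=
    Groth.Agent.Lib.ModSiteKFlatBdd66.isKFlat_of_iso
      (((NatIso.mapHomologicalComplex (Scheme.Modules.restrictFunctorIsoPullback hU.fromSpec)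
        (ComplexShape.up ℤ)).app _).symm) (kflatHyp hU.fromSpec _ hF')
  have hKq : DCoh.IsQCohD (DCoh.toD _ K) :=
    isQCohD_of_iso ((Scheme.Modules.restrictFunctor hU.fromSpec).mapDerivedCategoryFactors.app E₀)
      (isQCohD_restrictD hU.fromSpec _ (isQCohD_of_iso eE.symm hE))
  have hLq : DCoh.IsQCohD (DCoh.toD _ L) :=
    isQCohD_of_iso ((Scheme.Modules.restrictFunctor hU.fromSpec).mapDerivedCategoryFactors.app _)
      (isQCohD_restrictD hU.fromSpec _ (isQCohD_of_iso eF.symm hF))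
  have h0 := isQCohD_tensor_spec Γ(X, U) K L hL hKq hLq
  have hq : DCoh.IsQCohD ((DCoh.restrictD hU.fromSpec).obj ((DCoh.LTensorCx F).obj E)) :=
    isQCohD_of_iso (DerivedCategory.Q.mapIso (restrictTensorCxIso hU.fromSpec E₀ _).symm ≪≫
      ((Scheme.Modules.restrictFunctor hU.fromSpec).mapDerivedCategoryFactors.app _).symm ≪≫
      (DCoh.restrictD hU.fromSpec).mapIso (a1.symm ≪≫ (DCoh.LTensorCx F).mapIso eE)) h0
  exact (SheafOfModules.isQuasicoherent (Spec Γ(X, U)).ringCatSheaf).prop_of_iso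
    (hdRestrictIso hU.fromSpec _ i) (hq i)

end Groth.Agent.Lib.LTensorQCoh35
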