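import Groth.Agent.Lib.H87LabGraph
import Mathlib

/-!
# Basic Inequality combinatorics: per-edge expressions for `cut` and `twist`
-/

set_option autoImplicit false
set_option linter.unusedSectionVars false
set_option linter.unusedSimpArgs false
universe u
open Finset LabGraph

namespace Groth.Agent.Lib.LabGraphBI

variable {V E : Type u} [Fintype V] [Fintype E] [DecidableEq V] [DecidableEq E]
variable (ends : E → V × V)

/-- indicator that exactly one of two propositions holds -/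
def cutI (p q : Prop) [Decidable p] [Decidable q] : ℤ :=
  if (p ∧ ¬q) ∨ (¬p ∧ q) then 1 else 0

theorem cut_eq_sum (Y : Finset V) :
    (cut ends Y : ℤ) = ∑ e : E, cutI ((ends e).1 ∈ Y) ((ends e).2 ∈ Y) := by
  unfold cut cutI
  rw [Finset.card_filter]
  push_cast
  rfl

theorem sum_twist_eq (φ : V → ℤ) (Y : Finset V) :
    ∑ v ∈ Y, twist ends φ v =
      ∑ e : E, (φ (ends e).2 - φ (ends e).1) *
        ((if (ends e).1 ∈ Y then 1 else 0) - (if (ends e).2 ∈ Y then 1 else 0)) := by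
  unfold twist
  rw [Finset.sum_comm]
  refine Finset.sum_congr rfl fun e _ => ?_
  rw [Finset.sum_add_distrib, Finset.sum_ite_eq, Finset.sum_ite_eq]
  split_ifs <;> ring

theorem sum_twist_univ (φ : V → ℤ) : ∑ v, twist ends φ v = 0 := by
  rw [sum_twist_eq]
  simp

/-- the additive function `Y ↦ K d_Y - D c(Y)` -/
def A (w : V → ℕ) (d : V → ℤ) (Y : Finset V) : ℤ :=
  canDeg ends w Finset.univ * (∑ v ∈ Y, d v) - (∑ v : V, d v) * canDeg ends w Y

theorem A_eq_sum (w : V → ℕ) (d : V → ℤ) (Y : Finset V) :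
    A ends w d Y = ∑ v ∈ Y, (canDeg ends w Finset.univ * d v -
      (∑ u : V, d u) * (2 * (w v : ℤ) - 2 + (endCount ends Finset.univ v : ℤ))) := by
  unfold A
  rw [Finset.sum_sub_distrib, ← Finset.mul_sum, ← Finset.mul_sum]
  rfl

theorem A_union_inter (w : V → ℕ) (d : V → ℤ) (Y Z : Finset V) :
    A ends w d (Y ∪ Z) + A ends w d (Y ∩ Z) = A ends w d Y + A ends w d Z := by
  simp only [A_eq_sum]
  exact Finset.sum_union_inter

theorem A_sdiff_inter (w : V → ℕ) (d : V → ℤ) (Y Z : Finset V) :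
    A ends w d (Y \ Z) + A ends w d (Y ∩ Z) = A ends w d Y := by
  simp only [A_eq_sum]
  rw [add_comm]
  exact Finset.sum_inter_add_sum_sdiff Y Z _

theorem satisfiesBI_iff (w : V → ℕ) (d : V → ℤ) :
    SatisfiesBI ends w d ↔ ∀ Y : Finset V,
      2 * |A ends w d Y| ≤ (cut ends Y : ℤ) * canDeg ends w Finset.univ := Iff.rfl

/-- adding a twist changes `A` by `K` times the twist sum -/
theorem A_add_twist (w : V → ℕ) (d φ : V → ℤ) (Y : Finset V) :
    A ends w (fun v => d v + twist ends φ v) Y =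
      A ends w d Y + canDeg ends w Finset.univ * ∑ v ∈ Y, twist ends φ v := by
  unfold A
  rw [Finset.sum_add_distrib, Finset.sum_add_distrib, sum_twist_univ]
  ring

theorem cutI_congr {p q p' q' : Prop} [Decidable p] [Decidable q] [Decidable p'] [Decidable q']
    (hp : p ↔ p') (hq : q ↔ q') : cutI p q = cutI p' q' := by
  unfold cutI
  by_cases h1 : p <;> by_cases h2 : q <;>
    simp [h1, h2, hp.mp, hq.mp, (not_congr hp).mp, (not_congr hq).mp]

theorem cutI_nonneg (p q : Prop) [Decidable p] [Decidable q] : 0 ≤ cutI p q := by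
  unfold cutI
  split_ifs <;> norm_num

theorem edge_upper (p1 p2 q1 q2 : Prop) [Decidable p1] [Decidable p2] [Decidable q1]
    [Decidable q2] :
    cutI (p1 ∨ q1) (p2 ∨ q2) + cutI (p1 ∧ q1) (p2 ∧ q2) - cutI q1 q2 +
      2 * (((if q2 then 1 else 0) - (if q1 then 1 else 0)) *
        ((if p1 then 1 else 0) - (if p2 then 1 else 0))) ≤ cutI p1 p2 := by
  unfold cutI
  by_cases h1 : p1 <;> by_cases h2 : p2 <;> by_cases h3 : q1 <;> by_cases h4 : q2 <;>
    simp [h1, h2, h3, h4]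

theorem edge_lower (p1 p2 q1 q2 : Prop) [Decidable p1] [Decidable p2] [Decidable q1]
    [Decidable q2] :
    0 ≤ cutI q1 q2 - cutI (q1 ∧ ¬p1) (q2 ∧ ¬p2) - cutI (p1 ∧ ¬q1) (p2 ∧ ¬q2) +
      2 * (((if q2 then 1 else 0) - (if q1 then 1 else 0)) *
        ((if p1 then 1 else 0) - (if p2 then 1 else 0))) + cutI p1 p2 := by
  unfold cutI
  by_cases h1 : p1 <;> by_cases h2 : p2 <;> by_cases h3 : q1 <;> by_cases h4 : q2 <;>
    simp [h1, h2, h3, h4]

/-- `cut (Y ∪ Z) + cut (Y ∩ Z) - cut Z + 2 z_Y ≤ cut Y` for `z = twist 1_Z` -/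
theorem cut_upper (Y Z : Finset V) :
    (cut ends (Y ∪ Z) : ℤ) + cut ends (Y ∩ Z) - cut ends Z +
      2 * ∑ v ∈ Y, twist ends (fun u => if u ∈ Z then 1 else 0) v ≤ cut ends Y := by
  rw [cut_eq_sum, cut_eq_sum, cut_eq_sum, cut_eq_sum, sum_twist_eq, Finset.mul_sum,
    ← Finset.sum_add_distrib, ← Finset.sum_sub_distrib, ← Finset.sum_add_distrib]
  refine Finset.sum_le_sum fun e _ => ?_
  rw [cutI_congr (p := (ends e).1 ∈ Y ∪ Z) (q := (ends e).2 ∈ Y ∪ Z) Finset.mem_union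
      Finset.mem_union,
    cutI_congr (p := (ends e).1 ∈ Y ∩ Z) (q := (ends e).2 ∈ Y ∩ Z) Finset.mem_inter
      Finset.mem_inter]
  exact edge_upper _ _ _ _

/-- `0 ≤ cut Z - cut (Z \ Y) - cut (Y \ Z) + 2 z_Y + cut Y` for `z = twist 1_Z` -/
theorem cut_lower (Y Z : Finset V) :
    0 ≤ (cut ends Z : ℤ) - cut ends (Z \ Y) - cut ends (Y \ Z) +
      2 * ∑ v ∈ Y, twist ends (fun u => if u ∈ Z then 1 else 0) v + cut ends Y := by
  rw [cut_eq_sum, cut_eq_sum, cut_eq_sum, cut_eq_sum, sum_twist_eq, Finset.mul_sum,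
    ← Finset.sum_sub_distrib, ← Finset.sum_sub_distrib, ← Finset.sum_add_distrib,
    ← Finset.sum_add_distrib]
  refine Finset.sum_nonneg fun e _ => ?_
  rw [cutI_congr (p := (ends e).1 ∈ Z \ Y) (q := (ends e).2 ∈ Z \ Y) Finset.mem_sdiff
      Finset.mem_sdiff,
    cutI_congr (p := (ends e).1 ∈ Y \ Z) (q := (ends e).2 ∈ Y \ Z) Finset.mem_sdiff
      Finset.mem_sdiff]
  exact edge_lower _ _ _ _

theorem two_mul_abs_le_iff (x c : ℤ) : 2 * |x| ≤ c ↔ -c ≤ 2 * x ∧ 2 * x ≤ c := by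
  have : 2 * |x| = |2 * x| := by rw [abs_mul, abs_two]
  rw [this, abs_le]

end Groth.Agent.Lib.LabGraphBI
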