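import Groth.Agent.Lib.LabGraphBI

/-!
# Basic Inequality combinatorics II: level sets of a twisting function
-/

set_option autoImplicit false
set_option linter.unusedSectionVars false
set_option linter.unusedSimpArgs false
universe u
open Finset LabGraph

namespace Groth.Agent.Lib.LabGraphBI

variable {V E : Type u} [Fintype V] [Fintype E] [DecidableEq V] [DecidableEq E]
variable (ends : E → V × V)

theorem edge_abs (a b j : ℤ) :
    -((b - a) * ((if j ≤ a then 1 else 0) - (if j ≤ b then 1 else 0))) =
      |b - a| * cutI (j ≤ a) (j ≤ b) := by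
  unfold cutI
  by_cases h1 : j ≤ a <;> by_cases h2 : j ≤ b
  · simp [h1, h2]
  · have : b - a < 0 := by omega
    simp [h1, h2, abs_of_neg this]
  · have : 0 < b - a := by omega
    simp [h1, h2, abs_of_pos this]
  · simp [h1, h2]

theorem edge_abs_sub_one_nonneg (a b j : ℤ) : 0 ≤ (|b - a| - 1) * cutI (j ≤ a) (j ≤ b) := by
  unfold cutI
  by_cases h1 : j ≤ a <;> by_cases h2 : j ≤ b
  · simp [h1, h2]
  · have : b - a < 0 := by omega
    simp only [h1, h2, not_true_eq_false, and_false, not_false_eq_true, and_true, true_or,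
      if_true, mul_one, abs_of_neg this]
    omega
  · have : 0 < b - a := by omega
    simp only [h1, h2, not_true_eq_false, and_false, not_false_eq_true, and_true, or_true,
      false_or, true_and, if_true, mul_one, abs_of_pos this]
    omega
  · simp [h1, h2]

/-- If `-(twist φ)_Y ≤ cut Y` for all `Y` then `φ` changes by at most one along every edge. -/
theorem abs_diff_le_one_of_twist_le_cut (φ : V → ℤ)
    (h : ∀ Y : Finset V, -(∑ v ∈ Y, twist ends φ v) ≤ cut ends Y) (e : E) :
    |φ (ends e).2 - φ (ends e).1| ≤ 1 := by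
  by_cases hab : φ (ends e).1 = φ (ends e).2
  · rw [hab, sub_self, abs_zero]
    norm_num
  set j := max (φ (ends e).1) (φ (ends e).2) with hj
  set Y : Finset V := univ.filter fun v => j ≤ φ v with hY
  have h1 := h Y
  rw [sum_twist_eq, cut_eq_sum, ← Finset.sum_neg_distrib] at h1
  have hmem : ∀ v, v ∈ Y ↔ j ≤ φ v := fun v => by
    simp only [hY, mem_filter, mem_univ, true_and]
  have h2 : ∀ e' : E, -((φ (ends e').2 - φ (ends e').1) *
      ((if (ends e').1 ∈ Y then 1 else 0) - (if (ends e').2 ∈ Y then 1 else 0))) =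
      |φ (ends e').2 - φ (ends e').1| * cutI (j ≤ φ (ends e').1) (j ≤ φ (ends e').2) := by
    intro e'
    rw [← edge_abs]
    simp only [hmem]
  have h3 : ∀ e' : E, cutI ((ends e').1 ∈ Y) ((ends e').2 ∈ Y) =
      cutI (j ≤ φ (ends e').1) (j ≤ φ (ends e').2) := fun e' =>
    cutI_congr (hmem _) (hmem _)
  simp only [h2, h3] at h1
  have h4 : ∑ e' : E, (|φ (ends e').2 - φ (ends e').1| - 1) *
      cutI (j ≤ φ (ends e').1) (j ≤ φ (ends e').2) ≤ 0 := by
    simp only [sub_mul, one_mul, Finset.sum_sub_distrib]
    linarith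
  have h5 := Finset.single_le_sum (f := fun e' : E => (|φ (ends e').2 - φ (ends e').1| - 1) *
      cutI (j ≤ φ (ends e').1) (j ≤ φ (ends e').2))
    (fun e' _ => edge_abs_sub_one_nonneg _ _ _) (Finset.mem_univ e)
  have h6 : cutI (j ≤ φ (ends e).1) (j ≤ φ (ends e).2) = 1 := by
    unfold cutI
    rw [if_pos]
    rcases lt_or_gt_of_ne hab with hlt | hgt
    · right
      rw [hj, max_eq_right hlt.le]
      exact ⟨by omega, le_rfl⟩
    · left
      rw [hj, max_eq_left hgt.le]
      exact ⟨le_rfl, by omega⟩
  rw [h6, mul_one] at h5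
  linarith

/-- the twist is invariant under adding a constant -/
theorem twist_sub_const (φ : V → ℤ) (c : ℤ) (v : V) :
    twist ends (fun u => φ u - c) v = twist ends φ v := by
  unfold twist
  refine Finset.sum_congr rfl fun e _ => ?_
  congr 1 <;> split_ifs <;> ring

end Groth.Agent.Lib.LabGraphBI
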