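import Groth.Agent.Lib.LabGraphCtr2

/-!
# The kernel of the matrix of a connected multigraph with multiplicity function

`α z = 0` forces all flows of `z` to vanish, hence `z` is proportional to `β` when the graph is
connected: `ker α = ℤ · (β / gcd β)`.
-/

set_option autoImplicit false
set_option linter.unusedSectionVars false
set_option linter.unusedSimpArgs false
universe u
open Finset

namespace Groth.Agent.Lib.LabGraphCtr

variable {V E : Type u} [Fintype V] [Fintype E] [DecidableEq V] [DecidableEq E]

theorem mulVec_beta (ends : E → V × V) (β : V → ℤ) (hβ : LabGraph.IsMultFn ends β) :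
    Matrix.mulVec (LabGraph.mfMatrix ends β) β = 0 := by
  funext v
  have hβv : β v ≠ 0 := (hβ v).1.ne'
  apply mul_left_cancel₀ hβv
  rw [mul_mfMatrix_mulVec ends β v (hβ v).2, Pi.zero_apply, mul_zero]
  refine Finset.sum_eq_zero fun e _ => ?_
  have : flow ends β β e = 0 := by
    simp only [flow]
    ring
  simp [this]

theorem flow_eq_zero_of_mulVec_eq_zero (ends : E → V × V) (β : V → ℤ)
    (hβ : LabGraph.IsMultFn ends β) (z : V → ℤ)
    (hz : Matrix.mulVec (LabGraph.mfMatrix ends β) z = 0) (e : E) : flow ends β z e = 0 := by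
  have hpos : ∀ v, (0 : ℚ) < (β v : ℚ) := fun v => by exact_mod_cast (hβ v).1
  have key : ∀ v, ∑ e : E, ((if (ends e).1 = v then (flow ends β z e : ℚ) else 0) -
      (if (ends e).2 = v then (flow ends β z e : ℚ) else 0)) = 0 := by
    intro v
    have h := mul_mfMatrix_mulVec ends β v (hβ v).2 z
    rw [hz, Pi.zero_apply, mul_zero] at h
    have h' : ((∑ e : E, ((if (ends e).1 = v then flow ends β z e else 0) -
        (if (ends e).2 = v then flow ends β z e else 0)) : ℤ) : ℚ) = 0 := by
      rw [← h]
      simp
    have h'' : ∑ e : E, ((if (ends e).1 = v then (flow ends β z e : ℚ) else 0) -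
        (if (ends e).2 = v then (flow ends β z e : ℚ) else 0)) =
        ((∑ e : E, ((if (ends e).1 = v then flow ends β z e else 0) -
          (if (ends e).2 = v then flow ends β z e else 0)) : ℤ) : ℚ) := by
      push_cast
      refine Finset.sum_congr rfl fun e _ => ?_
      split_ifs <;> simp
    rw [h'', h']
  have hsum : (0 : ℚ) = ∑ v, ((z v : ℚ) / (β v : ℚ)) *
      ∑ e : E, ((if (ends e).1 = v then (flow ends β z e : ℚ) else 0) -
        (if (ends e).2 = v then (flow ends β z e : ℚ) else 0)) := by
    symm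
    refine Finset.sum_eq_zero fun v _ => ?_
    rw [key v, mul_zero]
  simp only [Finset.mul_sum] at hsum
  rw [Finset.sum_comm] at hsum
  have hterm : ∀ e : E, (∑ v, ((z v : ℚ) / (β v : ℚ)) *
      ((if (ends e).1 = v then (flow ends β z e : ℚ) else 0) -
        (if (ends e).2 = v then (flow ends β z e : ℚ) else 0))) =
      -((flow ends β z e : ℚ) ^ 2 / ((β (ends e).1 : ℚ) * (β (ends e).2 : ℚ))) := by
    intro e
    simp only [mul_sub, Finset.sum_sub_distrib, mul_ite, mul_zero, Finset.sum_ite_eq,
      Finset.mem_univ, if_true]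
    have h1 := (hpos (ends e).1).ne'
    have h2 := (hpos (ends e).2).ne'
    simp only [flow]
    push_cast
    field_simp
    ring
  simp only [hterm, Finset.sum_neg_distrib] at hsum
  have hzero : ∑ e : E, (flow ends β z e : ℚ) ^ 2 / ((β (ends e).1 : ℚ) * (β (ends e).2 : ℚ)) = 0 := by
    linarith
  have hnonneg : ∀ e ∈ (univ : Finset E),
      0 ≤ (flow ends β z e : ℚ) ^ 2 / ((β (ends e).1 : ℚ) * (β (ends e).2 : ℚ)) := fun e _ =>
    div_nonneg (sq_nonneg _) (mul_pos (hpos _) (hpos _)).le
  have := (Finset.sum_eq_zero_iff_of_nonneg hnonneg).mp hzero e (Finset.mem_univ e)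
  rw [div_eq_zero_iff] at this
  rcases this with h | h
  · have : (flow ends β z e : ℚ) = 0 := by
      exact pow_eq_zero_iff (two_ne_zero) |>.mp h
    exact_mod_cast this
  · exact absurd h (mul_pos (hpos _) (hpos _)).ne'

theorem mul_eq_mul_of_connected (ends : E → V × V) (β : V → ℤ)
    (hβ : LabGraph.IsMultFn ends β) (hG : LabGraph.Connected ends) (z : V → ℤ)
    (hz : Matrix.mulVec (LabGraph.mfMatrix ends β) z = 0) (v w : V) :
    z v * β w = z w * β v := by
  have hflow := flow_eq_zero_of_mulVec_eq_zero ends β hβ z hz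
  have hadj : ∀ a b, LabGraph.Adj ends a b → z a * β b = z b * β a := by
    rintro a b ⟨e, he | he⟩
    · have := hflow e
      simp only [flow, he] at this
      linarith
    · have := hflow e
      simp only [flow, he] at this
      linarith
  have := hG.2 v w
  induction this with
  | refl => rfl
  | @tail b c _ hbc ih =>
    have h2 := hadj b c hbc
    have hb : β b ≠ 0 := (hβ b).1.ne'
    apply mul_left_cancel₀ hb
    calc β b * (z v * β c) = (z v * β b) * β c := by ring
      _ = (z b * β v) * β c := by rw [ih]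
      _ = (z b * β c) * β v := by ring
      _ = (z c * β b) * β v := by rw [h2]
      _ = β b * (z c * β v) := by ring

/-- For a connected graph the kernel of the matrix is spanned by `β / gcd β`. -/
theorem exists_smul_of_mulVec_eq_zero [Nonempty V] (ends : E → V × V) (β : V → ℤ)
    (hβ : LabGraph.IsMultFn ends β) (hG : LabGraph.Connected ends) (z : V → ℤ)
    (hz : Matrix.mulVec (LabGraph.mfMatrix ends β) z = 0) :
    ∃ s : ℤ, z = s • fun v => β v / univ.gcd β := by
  obtain ⟨v₀⟩ := ‹Nonempty V›
  set g := univ.gcd β with hg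
  have hg0 : g ≠ 0 := by
    intro h
    rw [hg, Finset.gcd_eq_zero_iff] at h
    exact (hβ v₀).1.ne' (h _ (Finset.mem_univ _))
  set w : V → ℤ := fun v => β v / g with hw
  have hgw : ∀ v, g * w v = β v := fun v =>
    Int.mul_ediv_cancel' (Finset.gcd_dvd (Finset.mem_univ v))
  obtain ⟨c, hc⟩ : ∃ c : V → ℤ, ∑ v, w v * c v = 1 := by
    obtain ⟨c, hc⟩ := Finset.gcd_eq_sum_mul (univ : Finset V) β
    refine ⟨c, ?_⟩
    apply mul_left_cancel₀ hg0
    have hc' : g = ∑ a, β a * c a := hc
    rw [mul_one, Finset.mul_sum]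
    conv_rhs => rw [hc']
    exact Finset.sum_congr rfl fun i _ => by rw [← mul_assoc, hgw]
  have hprop := mul_eq_mul_of_connected ends β hβ hG z hz
  have hprop' : ∀ v u, z v * w u = z u * w v := by
    intro v u
    apply mul_left_cancel₀ hg0
    have := hprop v u
    rw [← hgw u, ← hgw v] at this
    linarith
  refine ⟨∑ u, z u * c u, funext fun v => ?_⟩
  rw [Pi.smul_apply, smul_eq_mul, Finset.sum_mul]
  calc z v = z v * ∑ u, w u * c u := by rw [hc, mul_one]
    _ = ∑ u, (z v * w u) * c u := by rw [Finset.mul_sum]; exact Finset.sum_congr rfl fun u _ => by ring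
    _ = ∑ u, (z u * w v) * c u := Finset.sum_congr rfl fun u _ => by rw [hprop']
    _ = ∑ u, z u * c u * w v := Finset.sum_congr rfl fun u _ => by ring

end Groth.Agent.Lib.LabGraphCtr
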