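import Groth.Agent.Lib.LabGraphTree
import Groth.Agent.Lib.CauchyBinet
import Groth.Agent.Lib.CompLatIndexGen
import Groth.Agent.Lib.LabGraphKer

/-!
# Weighted Laplacian of a multigraph in the `LabGraph` encoding: the matrix-tree theorem and
# the index of its image in the lattice of vectors of sum zero
-/

set_option autoImplicit false
set_option linter.unusedSectionVars false
set_option linter.unusedSimpArgs false
universe u
open Finset Matrix

namespace Groth.Agent.Lib.LabGraphTree

open Groth.Agent.Lib.CompLatIndexGen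

variable {V E : Type u} [Fintype V] [Fintype E] [DecidableEq V] [DecidableEq E]

/-- The weighted Laplacian `B W Bᵀ`. -/
def lapW (ends : E → V × V) (w : E → ℤ) : Matrix V V ℤ :=
  incR ℤ ends * Matrix.diagonal w * (incR ℤ ends)ᵀ

theorem incR_transpose_mulVec (ends : E → V × V) (y : V → ℤ) (e : E) :
    (Matrix.mulVec (incR ℤ ends)ᵀ y) e = y (ends e).2 - y (ends e).1 := by
  simp only [Matrix.mulVec, dotProduct, Matrix.transpose_apply, incR, sub_mul, ite_mul, one_mul,
    zero_mul, Finset.sum_sub_distrib, Finset.sum_ite_eq, Finset.mem_univ, if_true]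

theorem lapW_mulVec (ends : E → V × V) (w : E → ℤ) (y : V → ℤ) :
    Matrix.mulVec (lapW ends w) y =
      Matrix.mulVec (incR ℤ ends) (fun e => w e * (y (ends e).2 - y (ends e).1)) := by
  rw [lapW, ← Matrix.mulVec_mulVec, ← Matrix.mulVec_mulVec]
  congr 1
  funext e
  rw [Matrix.mulVec_diagonal, incR_transpose_mulVec]

theorem sum_lapW_mulVec (ends : E → V × V) (w : E → ℤ) (y : V → ℤ) :
    ∑ v, (Matrix.mulVec (lapW ends w) y) v = 0 := by
  rw [lapW_mulVec]
  exact sum_incR_mulVec ℤ ends _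

theorem lapW_mulVec_const (ends : E → V × V) (w : E → ℤ) (c : ℤ) :
    Matrix.mulVec (lapW ends w) (fun _ => c) = 0 := by
  rw [lapW_mulVec]
  simp only [sub_self, mul_zero]
  exact Matrix.mulVec_zero _

/-- the matrix with row and column `v₀` deleted -/
abbrev red (L : Matrix V V ℤ) (v₀ : V) : Matrix {v : V // v ≠ v₀} {v : V // v ≠ v₀} ℤ :=
  L.submatrix (fun i => i.1) (fun i => i.1)

/-- **Matrix-tree theorem** (weighted, for multigraphs in the `LabGraph` encoding). -/
theorem matrix_tree (ends : E → V × V) (w : E → ℤ) (v₀ : V)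
    [DecidablePred fun T : Finset E => LabGraph.IsSpanningTree ends T] :
    (red (lapW ends w) v₀).det =
      ∑ T ∈ univ.powerset.filter (fun T : Finset E => LabGraph.IsSpanningTree ends T),
        ∏ e ∈ T, w e := by
  set A : Matrix {v : V // v ≠ v₀} E ℤ := (incR ℤ ends).submatrix (fun i => i.1) id with hA
  set B : Matrix E {v : V // v ≠ v₀} ℤ := Matrix.diagonal w * Aᵀ with hB
  have hAB : red (lapW ends w) v₀ = A * B := by
    ext i j
    have hL : red (lapW ends w) v₀ i j =
        ∑ e, incR ℤ ends i.1 e * (w e * incR ℤ ends j.1 e) := by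
      rw [red, Matrix.submatrix_apply, lapW, Matrix.mul_assoc, Matrix.mul_apply]
      refine Finset.sum_congr rfl fun e _ => ?_
      rw [Matrix.diagonal_mul, Matrix.transpose_apply]
    have hR : (A * B) i j = ∑ e, incR ℤ ends i.1 e * (w e * incR ℤ ends j.1 e) := by
      rw [Matrix.mul_apply]
      refine Finset.sum_congr rfl fun e _ => ?_
      rw [hB, Matrix.diagonal_mul, Matrix.transpose_apply, hA]
      rfl
    rw [hL, hR]
  rw [hAB, CauchyBinet.det_mul_eq_sum_powersetCard]
  have hS : ∀ S ∈ (univ : Finset E).powersetCard (Fintype.card {v : V // v ≠ v₀}),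
      (∑ p : {v : V // v ≠ v₀} → E with (Function.Injective p ∧ univ.image p = S),
        (A.submatrix id p).det * ∏ i, B (p i) i) =
      if LabGraph.IsSpanningTree ends S then ∏ e ∈ S, w e else 0 := by
    intro S hS
    rw [Finset.mem_powersetCard] at hS
    have hcard : Fintype.card {v : V // v ≠ v₀} = Fintype.card ↥S := by
      rw [Fintype.card_coe, hS.2]
    let q : {v : V // v ≠ v₀} ≃ ↥S := Fintype.equivOfCardEq hcard
    rw [CauchyBinet.sum_image_eq A B S q]
    have h1 : A.submatrix id (fun i => (q i : E)) =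
        redInc ℤ (fun e : ↥S => ends e.1) v₀ q := by
      ext i j
      rfl
    have h2 : B.submatrix (fun i => (q i : E)) id =
        Matrix.diagonal (fun i => w (q i)) * (redInc ℤ (fun e : ↥S => ends e.1) v₀ q)ᵀ := by
      ext i j
      simp only [hB, hA, Matrix.submatrix_apply, Matrix.diagonal_mul, Matrix.transpose_apply, id]
      rfl
    rw [h1, h2, Matrix.det_mul, Matrix.det_diagonal, Matrix.det_transpose]
    have h3 : ∏ i, w (q i) = ∏ e ∈ S, w e := by
      rw [← Finset.prod_coe_sort S w]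
      exact Equiv.prod_comp q (fun e : ↥S => w e)
    rw [h3]
    have h4 := det_redInc_sq ends S v₀ q
    split_ifs at h4 ⊢ with hT
    · linear_combination (∏ e ∈ S, w e) * h4
    · have h5 : (redInc ℤ (fun e : ↥S => ends e.1) v₀ q).det = 0 := by
        rwa [sq_eq_zero_iff] at h4
      rw [h5]
      ring
  rw [Finset.sum_congr rfl hS, ← Finset.sum_filter]
  congr 1
  ext T
  simp only [mem_filter, mem_powersetCard, mem_powerset, subset_univ, true_and]
  constructor
  · rintro ⟨_, hT⟩
    exact hT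
  · intro hT
    exact ⟨card_of_isSpanningTree ends T hT v₀, hT⟩

section Index

/-- index of the range of an injective endomorphism of `ℤ^ι` -/
theorem index_range_of_injective {ι : Type*} [Fintype ι] [DecidableEq ι]
    (f : (ι → ℤ) →ₗ[ℤ] (ι → ℤ)) (hinj : Function.Injective f) :
    (LinearMap.range f).toAddSubgroup.index = (LinearMap.det f).natAbs := by
  let e : (ι → ℤ) ≃ₗ[ℤ] LinearMap.range f := LinearEquiv.ofInjective f hinj
  have h := Submodule.natAbs_det_equiv (LinearMap.range f) e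
  have hcomp : (LinearMap.range f).subtype ∘ₗ
      AddMonoidHom.toIntLinearMap ((e : (ι → ℤ) →+ LinearMap.range f)) = f := by
    ext x i
    rfl
  rw [hcomp] at h
  rw [h]
  rfl

/-- extension of a vector on `V ∖ {v₀}` to a vector of sum zero on `V` -/
def ext0 (v₀ : V) : ({v : V // v ≠ v₀} → ℤ) →ₗ[ℤ] (V → ℤ) where
  toFun y v := if h : v = v₀ then -∑ i, y i else y ⟨v, h⟩
  map_add' y y' := by
    funext v
    by_cases h : v = v₀
    · simp only [h, dif_pos, Pi.add_apply, Finset.sum_add_distrib]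
      ring
    · simp only [h, dif_neg, not_false_eq_true, Pi.add_apply]
  map_smul' c y := by
    funext v
    by_cases h : v = v₀
    · simp only [h, dif_pos, Pi.smul_apply, smul_eq_mul, RingHom.id_apply, Finset.mul_sum, mul_neg]
    · simp only [h, dif_neg, not_false_eq_true, Pi.smul_apply, RingHom.id_apply]

/-- extension by zero -/
def extZ (v₀ : V) (y : {v : V // v ≠ v₀} → ℤ) : V → ℤ :=
  fun v => if h : v = v₀ then 0 else y ⟨v, h⟩

theorem ext0_apply_ne (v₀ : V) (y : {v : V // v ≠ v₀} → ℤ) (i : {v : V // v ≠ v₀}) :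
    ext0 v₀ y i.1 = y i := by
  simp [ext0, i.2]

theorem ext0_apply_self (v₀ : V) (y : {v : V // v ≠ v₀} → ℤ) :
    ext0 v₀ y v₀ = -∑ i, y i := by
  simp [ext0]

theorem extZ_apply_ne (v₀ : V) (y : {v : V // v ≠ v₀} → ℤ) (i : {v : V // v ≠ v₀}) :
    extZ v₀ y i.1 = y i := by
  simp [extZ, i.2]

theorem extZ_apply_self (v₀ : V) (y : {v : V // v ≠ v₀} → ℤ) : extZ v₀ y v₀ = 0 := by
  simp [extZ]

theorem ext0_injective (v₀ : V) : Function.Injective (ext0 v₀) := by
  intro y y' h
  funext i
  rw [← ext0_apply_ne v₀ y i, ← ext0_apply_ne v₀ y' i, h]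

theorem sum_ext0 (v₀ : V) (y : {v : V // v ≠ v₀} → ℤ) : ∑ v, ext0 v₀ y v = 0 := by
  rw [Fintype.sum_eq_add_sum_subtype_ne _ v₀, ext0_apply_self,
    Finset.sum_congr rfl fun i _ => ext0_apply_ne v₀ y i]
  ring

theorem eq_ext0_of_sum_eq_zero (v₀ : V) (x : V → ℤ) (hx : ∑ v, x v = 0) :
    x = ext0 v₀ (fun i => x i.1) := by
  funext v
  by_cases h : v = v₀
  · rw [h, ext0_apply_self]
    rw [Fintype.sum_eq_add_sum_subtype_ne _ v₀] at hx
    linarith
  · exact (ext0_apply_ne v₀ (fun i => x i.1) ⟨v, h⟩).symm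

theorem range_ext0 (v₀ : V) :
    (LinearMap.range (ext0 v₀)).toAddSubgroup = (LinearMap.ker (S V)).toAddSubgroup := by
  ext x
  constructor
  · rintro ⟨y, rfl⟩
    show S V (ext0 v₀ y) = 0
    rw [S_apply]
    exact sum_ext0 v₀ y
  · intro hx
    have hx' : S V x = 0 := hx
    rw [S_apply] at hx'
    exact ⟨fun i => x i.1, (eq_ext0_of_sum_eq_zero v₀ x hx').symm⟩

variable (L : Matrix V V ℤ) (v₀ : V)

/-- `ext0 (L₀ y) = L (extZ y)` when the columns of `L` sum to zero. -/
theorem ext0_submatrix_mulVec (hcol : ∀ y, ∑ v, (L.mulVec y) v = 0)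
    (y : {v : V // v ≠ v₀} → ℤ) :
    ext0 v₀ ((red L v₀).mulVec y) = L.mulVec (extZ v₀ y) := by
  have hne : ∀ i : {v : V // v ≠ v₀},
      ((red L v₀).mulVec y) i = (L.mulVec (extZ v₀ y)) i.1 := by
    intro i
    simp only [red, Matrix.mulVec, dotProduct, Matrix.submatrix_apply]
    rw [Fintype.sum_eq_add_sum_subtype_ne (fun u => L i.1 u * extZ v₀ y u) v₀, extZ_apply_self,
      mul_zero, zero_add]
    refine Finset.sum_congr rfl fun j _ => ?_
    rw [extZ_apply_ne]
  have hsum : ∑ v, (L.mulVec (extZ v₀ y)) v = 0 := hcol _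
  rw [eq_ext0_of_sum_eq_zero v₀ _ hsum]
  congr 1
  funext i
  exact hne i

theorem range_eq_map_ext0 (hrow : L.mulVec (fun _ => 1) = 0)
    (hcol : ∀ y, ∑ v, (L.mulVec y) v = 0) :
    (LinearMap.range L.mulVecLin).toAddSubgroup =
      ((LinearMap.range (red L v₀).mulVecLin).toAddSubgroup).map (ext0 v₀).toAddMonoidHom := by
  ext x
  constructor
  · rintro ⟨y, rfl⟩
    refine ⟨_, ⟨fun i => y i.1 - y v₀, rfl⟩, ?_⟩
    show ext0 v₀ ((red L v₀).mulVec _) = L.mulVec y
    rw [ext0_submatrix_mulVec L v₀ hcol]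
    have hy : extZ v₀ (fun i => y i.1 - y v₀) = y - y v₀ • (fun _ => (1 : ℤ)) := by
      funext v
      by_cases h : v = v₀
      · rw [h, extZ_apply_self]
        simp
      · rw [extZ_apply_ne v₀ _ ⟨v, h⟩]
        simp
    rw [hy, Matrix.mulVec_sub, Matrix.mulVec_smul, hrow, smul_zero, sub_zero]
  · rintro ⟨_, ⟨y, rfl⟩, rfl⟩
    refine ⟨extZ v₀ y, ?_⟩
    show L.mulVec (extZ v₀ y) = ext0 v₀ ((red L v₀).mulVec y)
    rw [ext0_submatrix_mulVec L v₀ hcol]

theorem relIndex_range_ker_S (hrow : L.mulVec (fun _ => 1) = 0)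
    (hcol : ∀ y, ∑ v, (L.mulVec y) v = 0)
    (hinj : Function.Injective (red L v₀).mulVec) :
    (LinearMap.range L.mulVecLin).toAddSubgroup.relIndex (LinearMap.ker (S V)).toAddSubgroup =
      ((red L v₀).det).natAbs := by
  have htop : (LinearMap.ker (S V)).toAddSubgroup =
      (⊤ : AddSubgroup ({v : V // v ≠ v₀} → ℤ)).map (ext0 v₀).toAddMonoidHom := by
    rw [← range_ext0 v₀]
    ext x
    constructor
    · rintro ⟨y, rfl⟩
      exact ⟨y, trivial, rfl⟩
    · rintro ⟨y, -, rfl⟩
      exact ⟨y, rfl⟩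
  rw [range_eq_map_ext0 L v₀ hrow hcol, htop,
    AddSubgroup.relIndex_map_map_of_injective _ _ (ext0_injective v₀),
    AddSubgroup.relIndex_top_right,
    index_range_of_injective _ (show Function.Injective (red L v₀).mulVecLin from hinj)]
  show (LinearMap.det (Matrix.toLin' (red L v₀))).natAbs = _
  rw [LinearMap.det_toLin']

end Index

section Beta

open Groth.Agent.Lib.LabGraphCtr

variable (ends : E → V × V) (β : V → ℤ)

/-- the edge weights `β(e.1) β(e.2)` -/
def wβ : E → ℤ := fun e => β (ends e).1 * β (ends e).2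

theorem D_mfMatrix_D (hβ : LabGraph.IsMultFn ends β) (y : V → ℤ) :
    D β ((LabGraph.mfMatrix ends β).mulVec (D β y)) = -(lapW ends (wβ ends β)).mulVec y := by
  funext v
  rw [D_apply, mul_mfMatrix_mulVec ends β v (hβ v).2, Pi.neg_apply, lapW_mulVec,
    incR_mulVec_apply, ← Finset.sum_neg_distrib]
  refine Finset.sum_congr rfl fun e _ => ?_
  have hflow : flow ends β (D β y) e = wβ ends β e * (y (ends e).2 - y (ends e).1) := by
    simp only [flow, D_apply, wβ]
    ring
  rw [hflow]
  ring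

theorem red_lapW_injective (hβ : LabGraph.IsMultFn ends β) (hG : LabGraph.Connected ends)
    (v₀ : V) : Function.Injective (red (lapW ends (wβ ends β)) v₀).mulVec := by
  intro y y' h
  have hsub : (red (lapW ends (wβ ends β)) v₀).mulVec (y - y') = 0 := by
    rw [Matrix.mulVec_sub, h, sub_self]
  suffices hz : y - y' = 0 from sub_eq_zero.1 hz
  generalize y - y' = z at hsub
  have h1 : (lapW ends (wβ ends β)).mulVec (extZ v₀ z) = 0 := by
    rw [← ext0_submatrix_mulVec _ v₀ (sum_lapW_mulVec ends _), hsub, map_zero]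
  have h2 : D β ((LabGraph.mfMatrix ends β).mulVec (D β (extZ v₀ z))) = 0 := by
    rw [D_mfMatrix_D ends β hβ, h1, neg_zero]
  have hβ0 : ∀ v, β v ≠ 0 := fun v => (hβ v).1.ne'
  have h3 : (LabGraph.mfMatrix ends β).mulVec (D β (extZ v₀ z)) = 0 :=
    D_injective β hβ0 (h2.trans (map_zero _).symm)
  have : Nonempty V := ⟨v₀⟩
  obtain ⟨s, hs⟩ := exists_smul_of_mulVec_eq_zero ends β hβ hG _ h3
  have h4 := congrFun hs v₀
  rw [D_apply, extZ_apply_self, mul_zero, Pi.smul_apply, smul_eq_mul] at h4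
  have hdiv : β v₀ / univ.gcd β ≠ 0 := by
    intro h0
    have hdvd : univ.gcd β ∣ β v₀ := Finset.gcd_dvd (mem_univ v₀)
    have := Int.ediv_mul_cancel hdvd
    rw [h0, zero_mul] at this
    exact hβ0 v₀ this.symm
  have hs0 : s = 0 := by
    rcases mul_eq_zero.1 h4.symm with h | h
    · exact h
    · exact absurd h hdiv
  rw [hs0, zero_smul] at hs
  funext i
  have := congrFun hs i.1
  rw [D_apply, extZ_apply_ne, Pi.zero_apply] at this
  exact (mul_eq_zero.1 this).resolve_left (hβ0 i.1)

theorem card_compGrp_mul (hβ : LabGraph.IsMultFn ends β) (hG : LabGraph.Connected ends)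
    (v₀ : V) :
    Nat.card (LabGraph.CompGrp ends β) * (∏ v, β v).natAbs * (∏ v, β v).natAbs =
      (univ.gcd β).natAbs * (univ.gcd β).natAbs *
        (red (lapW ends (wβ ends β)) v₀).det.natAbs := by
  have : Nonempty V := ⟨v₀⟩
  have hβ0 : ∀ v, β v ≠ 0 := fun v => (hβ v).1.ne'
  have hbeta : LabGraph.betaHom β = S V ∘ₗ D β := by
    apply LinearMap.ext
    intro x
    rw [betaHom_apply, LinearMap.comp_apply, S_apply]
    refine Finset.sum_congr rfl fun v _ => ?_
    rw [D_apply, mul_comm]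
  have hP : LinearMap.range (LabGraph.mfMatrix ends β).mulVecLin ≤
      LinearMap.ker (S V ∘ₗ D β) := by
    rintro _ ⟨x, rfl⟩
    rw [LinearMap.mem_ker, ← hbeta]
    exact betaHom_mulVec ends β hβ x
  have key := card_mul_eq_twisted β β hβ0 hβ0 (LabGraph.mfMatrix ends β) hP
    (mulVec_beta ends β hβ) (fun x hx => exists_smul_of_mulVec_eq_zero ends β hβ hG x hx)
  have hneg : D β ∘ₗ (LabGraph.mfMatrix ends β).mulVecLin ∘ₗ D β =
      -(lapW ends (wβ ends β)).mulVecLin := by
    apply LinearMap.ext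
    intro y
    exact D_mfMatrix_D ends β hβ y
  rw [hneg, LinearMap.range_neg, card_quot_comap, card_quot_comap,
    relIndex_range_ker_S _ v₀ (lapW_mulVec_const ends _ 1) (sum_lapW_mulVec ends _)
      (red_lapW_injective ends β hβ hG v₀)] at key
  have hcomp : Nat.card (LabGraph.CompGrp ends β) =
      (LinearMap.range (LabGraph.mfMatrix ends β).mulVecLin).toAddSubgroup.relIndex
        (LinearMap.ker (S V ∘ₗ D β)).toAddSubgroup := by
    rw [← hbeta]
    exact card_quot_comap _ _
  rw [hcomp]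
  exact key

end Beta

end Groth.Agent.Lib.LabGraphTree
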