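import Groth.Agent.Lib.LabGraphTree2
import Groth.Agent.Lib.LabGraphLap

/-!
# Cycle space of a multigraph over arbitrary fields; a local-global principle for lattices

* `eq_top_of_forall_prime`: a subgroup `N ≤ ℤ^ι` with `N + p ℤ^ι = ℤ^ι` for all primes `p` is `⊤`.
* `indepF_of_indep`: if an edge set supports no nonzero cycle mod 2 then it supports no nonzero
  cycle over any field.
* `exists_potential_of_indepF`: then every function on that edge set is a coboundary.
-/

set_option autoImplicit false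
set_option linter.unusedSectionVars false
set_option linter.unusedSimpArgs false
universe u
open Finset Matrix

namespace Groth.Agent.Lib.LabGraphTree

section LG

variable {ι : Type*} [Fintype ι] [DecidableEq ι]

theorem index_dvd_det_of_rows_mem (N : AddSubgroup (ι → ℤ)) (n : ι → (ι → ℤ))
    (hn : ∀ i, n i ∈ N) (hdet : (Matrix.of n).det ≠ 0) :
    N.index ∣ (Matrix.of n).det.natAbs := by
  set A : Matrix ι ι ℤ := Matrix.of n with hA
  have hinj : Function.Injective Aᵀ.mulVecLin := by
    apply Matrix.mulVec_injective_of_det_ne_zero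
    rwa [Matrix.det_transpose]
  have hidx := index_range_of_injective Aᵀ.mulVecLin hinj
  have hle : (LinearMap.range Aᵀ.mulVecLin).toAddSubgroup ≤ N := by
    rintro _ ⟨x, rfl⟩
    have : Aᵀ.mulVecLin x = ∑ i, x i • n i := by
      funext j
      simp only [Matrix.mulVecLin_apply, Matrix.mulVec, dotProduct, Matrix.transpose_apply, hA,
        Matrix.of_apply, Finset.sum_apply, Pi.smul_apply, smul_eq_mul]
      refine Finset.sum_congr rfl fun i _ => ?_
      ring
    rw [this]
    exact N.sum_mem fun i _ => N.zsmul_mem (hn i) _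
  have h1 := AddSubgroup.index_dvd_of_le hle
  rw [hidx] at h1
  have h2 : LinearMap.det Aᵀ.mulVecLin = A.det := by
    show LinearMap.det (Matrix.toLin' Aᵀ) = _
    rw [LinearMap.det_toLin', Matrix.det_transpose]
  rwa [h2] at h1

theorem eq_top_of_forall_prime (N : AddSubgroup (ι → ℤ))
    (h : ∀ p : ℕ, p.Prime → ∀ x : ι → ℤ, ∃ n ∈ N, ∃ z : ι → ℤ, x = n + (p : ℤ) • z) :
    N = ⊤ := by
  have key : ∀ p : ℕ, p.Prime → ∃ d : ℤ, d ≠ 0 ∧ ¬ (p : ℤ) ∣ d ∧ N.index ∣ d.natAbs := by
    intro p hp
    have := Fact.mk hp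
    choose n hn z hz using fun i : ι => h p hp (Pi.single i 1)
    have hcast : (Matrix.of n).map (Int.castRingHom (ZMod p)) = 1 := by
      ext i j
      have := congrFun (hz i) j
      simp only [Pi.add_apply, Pi.smul_apply, smul_eq_mul] at this
      have h2 : n i j = (Pi.single i 1 : ι → ℤ) j - (p : ℤ) * z i j := by linarith
      simp only [Matrix.map_apply, Matrix.of_apply, h2, Matrix.one_apply, Pi.single_apply,
        eq_intCast, Int.cast_sub, Int.cast_mul, Int.cast_natCast, ZMod.natCast_self, zero_mul,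
        sub_zero]
      by_cases hij : i = j
      · simp [hij]
      · simp [hij, Ne.symm hij]
    have hdet1 : ((Matrix.of n).det : ZMod p) = 1 := by
      have := RingHom.map_det (Int.castRingHom (ZMod p)) (Matrix.of n)
      rw [RingHom.mapMatrix_apply, hcast, Matrix.det_one] at this
      simpa using this
    have hndvd : ¬ (p : ℤ) ∣ (Matrix.of n).det := by
      intro hd
      rw [← ZMod.intCast_zmod_eq_zero_iff_dvd] at hd
      rw [hd] at hdet1
      exact zero_ne_one hdet1
    have hne : (Matrix.of n).det ≠ 0 := by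
      intro h0
      apply hndvd
      rw [h0]
      exact dvd_zero _
    exact ⟨_, hne, hndvd, index_dvd_det_of_rows_mem N n hn hne⟩
  rw [← AddSubgroup.index_eq_one]
  by_contra h1
  obtain ⟨d₂, hd₂, -, hdvd₂⟩ := key 2 Nat.prime_two
  have hidx0 : N.index ≠ 0 := by
    intro h0
    rw [h0, zero_dvd_iff, Int.natAbs_eq_zero] at hdvd₂
    exact hd₂ hdvd₂
  obtain ⟨p, hp, hpdvd⟩ := Nat.exists_prime_and_dvd h1
  obtain ⟨d, -, hnd, hdvd⟩ := key p hp
  apply hnd
  have := hpdvd.trans hdvd
  exact Int.natCast_dvd.2 this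

end LG

section FieldIndep

variable {V E : Type u} [Fintype V] [Fintype E] [DecidableEq V] [DecidableEq E]
variable (ends : E → V × V)

theorem incR_transpose_mulVec' (R : Type*) [CommRing R] (y : V → R) (e : E) :
    (Matrix.mulVec (incR R ends)ᵀ y) e = y (ends e).2 - y (ends e).1 := by
  simp only [Matrix.mulVec, dotProduct, Matrix.transpose_apply, incR, sub_mul, ite_mul, one_mul,
    zero_mul, Finset.sum_sub_distrib, Finset.sum_ite_eq, Finset.mem_univ, if_true]

/-- no nonzero cycle mod 2 on `T` ⟹ no nonzero cycle on `T` over any field -/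
theorem indepF_of_indep (F : Type*) [Field F] (T : Finset E) (hT : Indep ends T)
    (γ : E → F) (hγ : ∀ e, e ∉ T → γ e = 0) (h0 : Matrix.mulVec (incR F ends) γ = 0) :
    γ = 0 := by
  by_contra hne
  obtain ⟨e₀, he₀⟩ : ∃ e₀, γ e₀ ≠ 0 := by
    by_contra hall
    simp only [not_exists, not_not] at hall
    exact hne (funext hall)
  have he₀T : e₀ ∈ T := by
    by_contra h
    exact he₀ (hγ e₀ h)
  set γ' : E → F := (-(γ e₀)⁻¹) • (γ - γ e₀ • Pi.single e₀ 1) with hγ'
  have hγ'supp : ∀ e, e ∉ T.erase e₀ → γ' e = 0 := by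
    intro e he
    by_cases hee : e = e₀
    · rw [hee]
      simp [hγ']
    · have : e ∉ T := fun h => he (Finset.mem_erase.2 ⟨hee, h⟩)
      simp [hγ', hγ e this, Pi.single_eq_of_ne hee]
  have hγ'inc : Matrix.mulVec (incR F ends) γ' =
      Pi.single (ends e₀).2 1 - Pi.single (ends e₀).1 1 := by
    rw [hγ', Matrix.mulVec_smul, Matrix.mulVec_sub, h0, Matrix.mulVec_smul, incR_mulVec_single,
      zero_sub, smul_neg, neg_smul, neg_neg, smul_smul, inv_mul_cancel₀ he₀, one_smul]
  have hreach : Relation.ReflTransGen (LabGraph.Adj (fun e : ↥(T.erase e₀) => ends e.1))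
      (ends e₀).1 (ends e₀).2 := by
    apply reach_of_exists_mulVec F
    exact ⟨fun e' : ↥(T.erase e₀) => γ' e'.1, by
      rw [incR_sub_mulVec F ends (T.erase e₀) γ' hγ'supp, hγ'inc]⟩
  obtain ⟨γ₂', hγ₂'⟩ := exists_mulVec_eq_of_reach (ZMod 2) _ _ _ hreach
  set δ : E → ZMod 2 := extE (ZMod 2) (T.erase e₀) γ₂' + Pi.single e₀ 1 with hδ
  have hδsupp : ∀ e, e ∉ T → δ e = 0 := by
    intro e he
    have hee : e ≠ e₀ := fun h => he (h ▸ he₀T)
    have : e ∉ T.erase e₀ := fun h => he (Finset.mem_of_mem_erase h)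
    rw [hδ, Pi.add_apply, extE_apply_not_mem _ _ _ _ this, Pi.single_eq_of_ne hee, add_zero]
  have hδ0 : Matrix.mulVec (incR (ZMod 2) ends) δ = 0 := by
    rw [hδ, Matrix.mulVec_add, ← incR_sub_mulVec', hγ₂', incR_mulVec_single]
    funext u
    exact CharTwo.add_self_eq_zero
      ((Pi.single (ends e₀).2 (1 : ZMod 2) - Pi.single (ends e₀).1 1 : V → ZMod 2) u)
  have := congrFun (hT δ hδsupp hδ0) e₀
  rw [hδ, Pi.add_apply, extE_apply_not_mem _ _ _ _ (Finset.notMem_erase e₀ T), zero_add,
    Pi.single_eq_same] at this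
  exact one_ne_zero this

/-- on an edge set without cycles every edge function is a coboundary (over a field) -/
theorem exists_potential (F : Type*) [Field F] (T : Finset E) (hT : Indep ends T) (t : E → F) :
    ∃ φ : V → F, ∀ e ∈ T, φ (ends e).2 - φ (ends e).1 = t e := by
  set M : Matrix V ↥T F := incR F (fun e : ↥T => ends e.1) with hM
  have hinj : Function.Injective M.mulVecLin := by
    rw [← LinearMap.ker_eq_bot, LinearMap.ker_eq_bot']
    intro γ' hγ'
    have h1 := indepF_of_indep ends F T hT (extE F T γ') (extE_apply_not_mem F T γ')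
      (by rw [← incR_sub_mulVec']; exact hγ')
    funext e'
    rw [← extE_apply_mem F T γ' e', h1]
    rfl
  have hrank : M.rank = Fintype.card ↥T := by
    rw [Matrix.rank, LinearMap.finrank_range_of_inj hinj, Module.finrank_fintype_fun_eq_card]
  have hsurj : Function.Surjective Mᵀ.mulVecLin := by
    rw [← LinearMap.range_eq_top]
    apply Submodule.eq_top_of_finrank_eq
    rw [Module.finrank_fintype_fun_eq_card, ← hrank, ← Matrix.rank_transpose]
    rfl
  obtain ⟨φ, hφ⟩ := hsurj (fun e' : ↥T => t e'.1)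
  refine ⟨φ, fun e he => ?_⟩
  have := congrFun hφ ⟨e, he⟩
  rw [Matrix.mulVecLin_apply, hM, incR_transpose_mulVec'] at this
  exact this

/-- an edge set containing no circuit supports no nonzero cycle mod 2 -/
theorem indep_of_noCircuit (T : Finset E)
    (hT : ∀ C : Finset E, C ⊆ T → ¬ LabGraph.IsCircuit ends C) : Indep ends T := by
  intro γ hγ h0
  by_contra hne
  set C : Finset E := univ.filter fun e => γ e ≠ 0 with hC
  have hγC : γ = ind C := by
    funext e
    have h01 : ∀ a : ZMod 2, a = 0 ∨ a = 1 := by decide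
    simp only [ind, hC, mem_filter, mem_univ, true_and]
    rcases h01 (γ e) with h | h <;> simp [h]
  have hCne : C.Nonempty := by
    by_contra hempty
    rw [Finset.not_nonempty_iff_eq_empty] at hempty
    apply hne
    rw [hγC, hempty]
    funext e
    simp [ind]
  have hCT : C ⊆ T := by
    intro e he
    simp only [hC, mem_filter, mem_univ, true_and] at he
    by_contra h
    exact he (hγ e h)
  rw [hγC, mulVec_ind_eq_zero_iff] at h0
  obtain ⟨C', hC'sub, hC'⟩ := exists_isCircuit_subset_of_even ends C hCne h0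
  exact hT C' (hC'sub.trans hCT) hC'

end FieldIndep

section Decomp

variable {V E : Type u} [Fintype V] [Fintype E] [DecidableEq V] [DecidableEq E]
variable (ends : E → V × V)

theorem exists_int_decomp_mod_prime (p : ℕ) [Fact p.Prime] (a l : ℤ)
    (h : (l : ZMod p) ≠ 0 ∨ (a : ZMod p) = 0) : ∃ y z : ℤ, a = l * y + (p : ℤ) * z := by
  rcases h with h | h
  · obtain ⟨y, hy⟩ := ZMod.intCast_surjective ((a : ZMod p) / (l : ZMod p))
    have h0 : ((a - l * y : ℤ) : ZMod p) = 0 := by
      push_cast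
      rw [hy, mul_div_cancel₀ _ h, sub_self]
    rw [ZMod.intCast_zmod_eq_zero_iff_dvd] at h0
    obtain ⟨z, hz⟩ := h0
    exact ⟨y, z, by linarith⟩
  · rw [ZMod.intCast_zmod_eq_zero_iff_dvd] at h
    obtain ⟨z, hz⟩ := h
    exact ⟨0, z, by linarith⟩

/-- the map `(y, φ) ↦ l y + ∂ᵀ φ` -/
def cutMap (l : E → ℕ) : (E → ℤ) × (V → ℤ) →+ (E → ℤ) :=
  AddMonoidHom.mk' (fun yφ e => (l e : ℤ) * yφ.1 e + (yφ.2 (ends e).2 - yφ.2 (ends e).1))
    (fun a b => by
      funext e
      simp only [Prod.fst_add, Prod.snd_add, Pi.add_apply]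
      ring)

theorem cutMap_apply (l : E → ℕ) (y : E → ℤ) (φ : V → ℤ) (e : E) :
    cutMap ends l (y, φ) e = (l e : ℤ) * y e + (φ (ends e).2 - φ (ends e).1) := rfl

theorem cutMap_range_eq_top (l : E → ℕ) (hc : LabGraph.IsCircuitCoprime ends l) :
    (cutMap ends l).range = ⊤ := by
  apply eq_top_of_forall_prime
  intro p hp x
  have := Fact.mk hp
  set T : Finset E := univ.filter fun e => p ∣ l e with hT
  have hnoC : ∀ C : Finset E, C ⊆ T → ¬ LabGraph.IsCircuit ends C := by
    intro C hCT hC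
    have h1 := hc C hC
    have h2 : p ∣ C.gcd l := Finset.dvd_gcd fun e he => by
      have := hCT he
      simp only [hT, mem_filter, mem_univ, true_and] at this
      exact this
    rw [h1] at h2
    exact hp.one_lt.ne' (Nat.dvd_one.1 h2)
  have hI := indep_of_noCircuit ends T hnoC
  obtain ⟨φbar, hφbar⟩ := exists_potential ends (ZMod p) T hI (fun e => (x e : ZMod p))
  choose φ hφ using fun v => ZMod.intCast_surjective (φbar v)
  have hedge : ∀ e, ∃ y z : ℤ, x e - (φ (ends e).2 - φ (ends e).1) = (l e : ℤ) * y + (p : ℤ) * z := by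
    intro e
    apply exists_int_decomp_mod_prime
    by_cases he : e ∈ T
    · right
      push_cast
      rw [hφ, hφ, hφbar e he, sub_self]
    · left
      simp only [hT, mem_filter, mem_univ, true_and] at he
      rw [Int.cast_natCast]
      intro h0
      exact he ((ZMod.natCast_eq_zero_iff _ _).1 h0)
  choose y z hyz using hedge
  refine ⟨cutMap ends l (y, φ), ⟨(y, φ), rfl⟩, z, ?_⟩
  funext e
  rw [Pi.add_apply, cutMap_apply, Pi.smul_apply, smul_eq_mul]
  linarith [hyz e]

/-- circuit-coprime ⟹ `ℤ^E = l ℤ^E + im ∂ᵀ` -/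
theorem exists_decomp_of_isCircuitCoprime (l : E → ℕ) (hc : LabGraph.IsCircuitCoprime ends l)
    (x : E → ℤ) :
    ∃ (y : E → ℤ) (φ : V → ℤ), ∀ e, x e = (l e : ℤ) * y e + (φ (ends e).2 - φ (ends e).1) := by
  have hx : x ∈ (cutMap ends l).range := by
    rw [cutMap_range_eq_top ends l hc]
    trivial
  obtain ⟨⟨y, φ⟩, hyφ⟩ := hx
  exact ⟨y, φ, fun e => by rw [← hyφ, cutMap_apply]⟩

/-- adjointness: coboundaries are orthogonal to cycles -/
theorem sum_mul_coboundary (γ : E → ℤ) (φ : V → ℤ) :
    ∑ e, γ e * (φ (ends e).2 - φ (ends e).1) =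
      ∑ v, φ v * (Matrix.mulVec (incR ℤ ends) γ) v := by
  simp only [incR_mulVec_apply, Finset.mul_sum]
  rw [Finset.sum_comm]
  refine Finset.sum_congr rfl fun e _ => ?_
  simp only [mul_sub, mul_ite, mul_zero, Finset.sum_sub_distrib, Finset.sum_ite_eq,
    Finset.mem_univ, if_true]
  ring

/-- a circuit carries an integral cycle with coefficient `1` at a chosen edge -/
theorem exists_int_cycle_of_isCircuit (C : Finset E) (hC : LabGraph.IsCircuit ends C) (e₀ : E)
    (he₀ : e₀ ∈ C) :
    ∃ γ : E → ℤ, Matrix.mulVec (incR ℤ ends) γ = 0 ∧ γ e₀ = 1 ∧ ∀ e, e ∉ C → γ e = 0 := by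
  set C' := C.erase e₀ with hC'
  have hindC : ind C = ind C' + Pi.single e₀ 1 := by
    funext e
    rw [Pi.add_apply, ind_apply, ind_apply, Pi.single_apply]
    by_cases hee : e = e₀
    · rw [hee, if_pos he₀, if_neg (Finset.notMem_erase e₀ C)]
      simp
    · by_cases heC : e ∈ C
      · rw [if_pos heC, if_pos (Finset.mem_erase.2 ⟨hee, heC⟩), if_neg hee, add_zero]
      · rw [if_neg heC, if_neg (fun h => heC (Finset.mem_of_mem_erase h)), if_neg hee, add_zero]
  have h0 := (mulVec_ind_eq_zero_iff ends C).2 hC.2.1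
  rw [hindC, Matrix.mulVec_add, incR_mulVec_single] at h0
  have h1 : Matrix.mulVec (incR (ZMod 2) ends) (ind C') =
      Pi.single (ends e₀).2 1 - Pi.single (ends e₀).1 1 := by
    have h2 := eq_neg_of_add_eq_zero_left h0
    rw [h2]
    funext u
    exact ZMod.neg_eq_self_mod_two _
  have hreach : Relation.ReflTransGen (LabGraph.Adj (fun e : ↥C' => ends e.1))
      (ends e₀).1 (ends e₀).2 := by
    apply reach_of_exists_mulVec (ZMod 2)
    refine ⟨fun e' : ↥C' => ind C' e'.1, ?_⟩
    rw [incR_sub_mulVec (ZMod 2) ends C' (ind C') (fun e he => by rw [ind_apply, if_neg he]), h1]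
  obtain ⟨γ', hγ'⟩ := exists_mulVec_eq_of_reach ℤ _ _ _ hreach
  refine ⟨Pi.single e₀ 1 - extE ℤ C' γ', ?_, ?_, ?_⟩
  · rw [Matrix.mulVec_sub, incR_mulVec_single, ← incR_sub_mulVec', hγ', sub_self]
  · rw [Pi.sub_apply, Pi.single_eq_same, extE_apply_not_mem _ _ _ _ (Finset.notMem_erase e₀ C),
      sub_zero]
  · intro e he
    have hee : e ≠ e₀ := fun h => he (h ▸ he₀)
    rw [Pi.sub_apply, Pi.single_eq_of_ne hee,
      extE_apply_not_mem _ _ _ _ (fun h => he (Finset.mem_of_mem_erase h)), sub_zero]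

end Decomp

end Groth.Agent.Lib.LabGraphTree
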