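import Groth.Agent.Lib.LabGraphBI2
import Groth.Agent.Lib.LabGraphCycle

/-!
# Existence of a representative satisfying the Basic Inequality, by energy minimisation
-/

set_option autoImplicit false
set_option linter.unusedSectionVars false
set_option linter.unusedSimpArgs false
universe u
open Finset LabGraph

namespace Groth.Agent.Lib.LabGraphBI

open Groth.Agent.Lib.LabGraphTree

variable {V E : Type u} [Fintype V] [Fintype E] [DecidableEq V] [DecidableEq E]
variable (ends : E → V × V)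

/-- the energy -/
def energy (K : ℤ) (f : E → ℤ) (φ : V → ℤ) : ℤ :=
  ∑ e : E, (K * (φ (ends e).2 - φ (ends e).1) ^ 2 - (φ (ends e).2 - φ (ends e).1) * f e)

theorem energy_bdd (K : ℤ) (hK : 0 < K) (f : E → ℤ) (φ : V → ℤ) :
    -(∑ e : E, f e ^ 2) ≤ energy ends K f φ := by
  unfold energy
  rw [← Finset.sum_neg_distrib]
  refine Finset.sum_le_sum fun e _ => ?_
  nlinarith [sq_nonneg (φ (ends e).2 - φ (ends e).1 - f e),
    sq_nonneg (φ (ends e).2 - φ (ends e).1), sq_nonneg (f e)]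

theorem exists_energy_min (K : ℤ) (hK : 0 < K) (f : E → ℤ) :
    ∃ φ₀ : V → ℤ, ∀ φ : V → ℤ, energy ends K f φ₀ ≤ energy ends K f φ := by
  obtain ⟨z, ⟨φ₀, hφ₀⟩, hz⟩ := Int.exists_least_of_bdd
    (P := fun z => ∃ φ : V → ℤ, energy ends K f φ = z)
    ⟨-(∑ e : E, f e ^ 2), fun z ⟨φ, hφ⟩ => hφ ▸ energy_bdd ends K hK f φ⟩
    ⟨_, fun _ => 0, rfl⟩
  exact ⟨φ₀, fun φ => hφ₀ ▸ hz _ ⟨φ, rfl⟩⟩

theorem sigma_sq (p q : Prop) [Decidable p] [Decidable q] :
    (((if q then 1 else 0) - (if p then 1 else 0) : ℤ)) ^ 2 = cutI p q := by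
  unfold cutI
  by_cases h1 : p <;> by_cases h2 : q <;> simp [h1, h2]

/-- variation of the energy under `φ ↦ φ + s 1_Y`, `s = ±1` -/
theorem energy_add_indicator (K : ℤ) (f : E → ℤ) (φ : V → ℤ) (Y : Finset V) (s : ℤ)
    (hs : s ^ 2 = 1) :
    energy ends K f (fun v => φ v + s * (if v ∈ Y then 1 else 0)) - energy ends K f φ =
      K * (cut ends Y : ℤ) -
        s * (2 * K * (∑ v ∈ Y, twist ends φ v) +
          ∑ v ∈ Y, (Matrix.mulVec (incR ℤ ends) f) v) := by
  have h1 : ∑ v ∈ Y, (Matrix.mulVec (incR ℤ ends) f) v =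
      ∑ e : E, f e * ((if (ends e).2 ∈ Y then 1 else 0) - (if (ends e).1 ∈ Y then 1 else 0)) := by
    rw [sum_mul_coboundary ends f (fun v => if v ∈ Y then 1 else 0)]
    simp only [ite_mul, one_mul, zero_mul]
    rw [Finset.sum_ite_mem, Finset.univ_inter]
  rw [h1, sum_twist_eq, cut_eq_sum]
  unfold energy
  rw [← Finset.sum_sub_distrib]
  have hR : K * ∑ e : E, cutI ((ends e).1 ∈ Y) ((ends e).2 ∈ Y) -
      s * (2 * K * (∑ e : E, (φ (ends e).2 - φ (ends e).1) *
          ((if (ends e).1 ∈ Y then 1 else 0) - (if (ends e).2 ∈ Y then 1 else 0))) +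
        ∑ e : E, f e * ((if (ends e).2 ∈ Y then 1 else 0) - (if (ends e).1 ∈ Y then 1 else 0))) =
      ∑ e : E, (K * cutI ((ends e).1 ∈ Y) ((ends e).2 ∈ Y) -
        s * (2 * K * ((φ (ends e).2 - φ (ends e).1) *
          ((if (ends e).1 ∈ Y then 1 else 0) - (if (ends e).2 ∈ Y then 1 else 0))) +
        f e * ((if (ends e).2 ∈ Y then 1 else 0) - (if (ends e).1 ∈ Y then 1 else 0)))) := by
    simp only [mul_add, Finset.mul_sum, Finset.sum_add_distrib, Finset.sum_sub_distrib]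
  rw [hR]
  refine Finset.sum_congr rfl fun e _ => ?_
  simp only []
  rw [← sigma_sq]
  have hs' : s * s = 1 := by rw [← sq]; exact hs
  generalize (if (ends e).2 ∈ Y then (1 : ℤ) else 0) = a
  generalize (if (ends e).1 ∈ Y then (1 : ℤ) else 0) = b
  linear_combination (K * (a - b) ^ 2) * hs'

theorem exists_twist_satisfiesBI (w : V → ℕ) (hconn : Connected ends)
    (hK : 0 < canDeg ends w Finset.univ) (d : V → ℤ) :
    ∃ φ : V → ℤ, SatisfiesBI ends w (fun v => d v + twist ends φ v) := by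
  set K := canDeg ends w Finset.univ with hKdef
  -- ε = 2 × (summand of A)
  set ε : V → ℤ := fun v => 2 * (K * d v -
    (∑ u : V, d u) * (2 * (w v : ℤ) - 2 + (endCount ends Finset.univ v : ℤ))) with hε
  have hεsum : ∀ Y : Finset V, ∑ v ∈ Y, ε v = 2 * A ends w d Y := by
    intro Y
    rw [A_eq_sum, Finset.mul_sum]
  have hε0 : ∑ v, ε v = 0 := by
    rw [hεsum]
    unfold A
    ring
  obtain ⟨f, hf⟩ := exists_mulVec_eq_of_sum_eq_zero ℤ ends hconn ε hε0
  obtain ⟨φ₀, hmin⟩ := exists_energy_min ends K hK f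
  refine ⟨φ₀, fun Y => ?_⟩
  show 2 * |A ends w (fun v => d v + twist ends φ₀ v) Y| ≤ _
  rw [A_add_twist, two_mul_abs_le_iff]
  have hplus := energy_add_indicator ends K f φ₀ Y 1 (by norm_num)
  have hminus := energy_add_indicator ends K f φ₀ Y (-1) (by norm_num)
  rw [hf, hεsum] at hplus hminus
  have h1 := hmin (fun v => φ₀ v + 1 * (if v ∈ Y then 1 else 0))
  have h2 := hmin (fun v => φ₀ v + -1 * (if v ∈ Y then 1 else 0))
  constructor <;> nlinarith

end Groth.Agent.Lib.LabGraphBI
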