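import Groth.Agent.Lib.LabGraphCycle

/-!
# The total blow-up graph: the multidegree (Laplacian) along the inserted paths
-/

set_option autoImplicit false
set_option linter.unusedSectionVars false
set_option linter.unusedSimpArgs false
universe u
open Finset LabGraph

namespace Groth.Agent.Lib.LabGraphBlowup

section Seq

/-- solution of `t(k+2) - 2 t(k+1) + t(k) = b(k+1)` with `t 0 = t 1 = 0` -/
def tsol (b : ℕ → ℤ) : ℕ → ℤ
  | 0 => 0
  | 1 => 0
  | (k + 2) => 2 * tsol b (k + 1) - tsol b k + b (k + 1)

theorem tsol_zero (b : ℕ → ℤ) : tsol b 0 = 0 := rfl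
theorem tsol_one (b : ℕ → ℤ) : tsol b 1 = 0 := rfl
theorem tsol_add_two (b : ℕ → ℤ) (k : ℕ) :
    tsol b (k + 2) = 2 * tsol b (k + 1) - tsol b k + b (k + 1) := rfl

/-- a sequence with prescribed second differences on `1..n-1` is determined by `a 0`, `a 1` -/
theorem eq_tsol (a b : ℕ → ℤ) (n : ℕ)
    (h : ∀ k, k + 2 ≤ n → a (k + 2) - 2 * a (k + 1) + a k = b (k + 1)) :
    ∀ k, k ≤ n → a k = a 0 + k * (a 1 - a 0) + tsol b k := by
  intro k
  induction k using Nat.strong_induction_on with
  | _ k ih =>
    intro hk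
    match k, ih, hk with
    | 0, _, _ => simp [tsol_zero]
    | 1, _, _ => simp [tsol_one]
    | (k + 2), ih, hk =>
      have h1 := ih (k + 1) (by omega) (by omega)
      have h0 := ih k (by omega) (by omega)
      have h2 := h k hk
      rw [tsol_add_two]
      push_cast at h1 h0 ⊢
      linarith

theorem tsol_eq_zero_of_forall (b : ℕ → ℤ) (n : ℕ) (hb : ∀ k, k < n → b k = 0) :
    ∀ k, k ≤ n → tsol b k = 0 := by
  intro k
  induction k using Nat.strong_induction_on with
  | _ k ih =>
    intro hk
    match k, ih, hk with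
    | 0, _, _ => rfl
    | 1, _, _ => rfl
    | (k + 2), ih, hk =>
      rw [tsol_add_two, ih (k + 1) (by omega) (by omega), ih k (by omega) (by omega),
        hb (k + 1) (by omega)]
      ring

end Seq

section Graph

variable {V E : Type u} [Fintype V] [Fintype E] [DecidableEq V] [DecidableEq E]
variable (ends : E → V × V) (l : E → ℕ)

theorem pathVert_zero (e : E) : pathVert ends l e 0 = Sum.inl (ends e).1 := by
  simp [pathVert]

theorem pathVert_of_le (e : E) (k : ℕ) (hk0 : k ≠ 0) (hk : l e ≤ k) :
    pathVert ends l e k = Sum.inl (ends e).2 := by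
  simp [pathVert, hk0, not_lt.2 hk]

theorem pathVert_succ (e : E) (j : Fin (l e - 1)) :
    pathVert ends l e (j.val + 1) = Sum.inr ⟨e, j⟩ := by
  have hj := j.2
  have h1 : j.val + 1 < l e := by omega
  simp [pathVert, h1]

theorem pathVert_eq_inr_iff (e e₀ : E) (k : ℕ) (j : Fin (l e₀ - 1)) :
    pathVert ends l e k = Sum.inr ⟨e₀, j⟩ ↔ e = e₀ ∧ k = j.val + 1 := by
  constructor
  · intro h
    unfold pathVert at h
    split_ifs at h with h0 h1
    · simp only [Sum.inr.injEq, Sigma.mk.injEq] at h
      obtain ⟨rfl, h2⟩ := h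
      have h3 := eq_of_heq h2
      refine ⟨rfl, ?_⟩
      have := congrArg Fin.val h3
      simp only at this
      omega
  · rintro ⟨rfl, rfl⟩
    exact pathVert_succ ends l e j

theorem pathVert_eq_inl_iff (e : E) (k : ℕ) (v : V) :
    pathVert ends l e k = Sum.inl v ↔
      (k = 0 ∧ (ends e).1 = v) ∨ (k ≠ 0 ∧ l e ≤ k ∧ (ends e).2 = v) := by
  unfold pathVert
  split_ifs with h0 h1
  · simp [h0]
  · simp only [reduceCtorEq, false_iff, not_or, not_and]
    exact ⟨fun h => absurd h h0, fun _ h => absurd h (not_le.2 h1)⟩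
  · simp only [Sum.inl.injEq]
    constructor
    · intro h
      exact Or.inr ⟨h0, not_lt.1 h1, h⟩
    · rintro (⟨h, _⟩ | ⟨_, _, h⟩)
      · exact absurd h h0
      · exact h

/-- the multidegree on the blow-up as a double sum -/
theorem mdeg_bl (ψ : BlVert V E l → ℤ) (w : BlVert V E l) :
    mdeg (blEnds ends l) (fun _ => 1) ψ w =
      ∑ e : E, ∑ k ∈ Finset.range (l e),
        ((if pathVert ends l e k = w then
            ψ (pathVert ends l e (k + 1)) - ψ (pathVert ends l e k) else 0) +
         (if pathVert ends l e (k + 1) = w then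
            ψ (pathVert ends l e k) - ψ (pathVert ends l e (k + 1)) else 0)) := by
  simp only [mdeg, blEnds, Nat.cast_one, Int.ediv_one]
  rw [Fintype.sum_sigma]
  refine Finset.sum_congr rfl fun e _ => ?_
  exact Fin.sum_univ_eq_sum_range (fun k =>
    ((if pathVert ends l e k = w then
        ψ (pathVert ends l e (k + 1)) - ψ (pathVert ends l e k) else 0) +
     (if pathVert ends l e (k + 1) = w then
        ψ (pathVert ends l e k) - ψ (pathVert ends l e (k + 1)) else 0))) (l e)

/-- at a new vertex the multidegree is the second difference along the path -/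
theorem mdeg_bl_inr (ψ : BlVert V E l → ℤ) (e₀ : E) (j : Fin (l e₀ - 1)) :
    mdeg (blEnds ends l) (fun _ => 1) ψ (Sum.inr ⟨e₀, j⟩) =
      ψ (pathVert ends l e₀ (j.val + 2)) - 2 * ψ (pathVert ends l e₀ (j.val + 1)) +
        ψ (pathVert ends l e₀ j.val) := by
  rw [mdeg_bl]
  have hj := j.2
  rw [Finset.sum_eq_single e₀]
  · simp only [pathVert_eq_inr_iff, true_and, add_left_inj]
    rw [Finset.sum_add_distrib, Finset.sum_ite_eq', Finset.sum_ite_eq',
      if_pos (Finset.mem_range.2 (by omega)), if_pos (Finset.mem_range.2 (by omega))]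
    ring
  · intro e _ he
    refine Finset.sum_eq_zero fun k _ => ?_
    simp only [pathVert_eq_inr_iff, he, false_and, if_false, add_zero]
  · intro h
    exact absurd (Finset.mem_univ _) h

/-- at an old vertex -/
theorem mdeg_bl_inl (hl : ∀ e, 0 < l e) (ψ : BlVert V E l → ℤ) (v : V) :
    mdeg (blEnds ends l) (fun _ => 1) ψ (Sum.inl v) =
      ∑ e : E, ((if (ends e).1 = v then
          ψ (pathVert ends l e 1) - ψ (pathVert ends l e 0) else 0) +
        (if (ends e).2 = v then
          ψ (pathVert ends l e (l e - 1)) - ψ (pathVert ends l e (l e)) else 0)) := by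
  rw [mdeg_bl]
  refine Finset.sum_congr rfl fun e _ => ?_
  have hle := hl e
  rw [Finset.sum_add_distrib]
  congr 1
  · rw [Finset.sum_eq_single 0]
    · simp only [pathVert_eq_inl_iff, true_and, ne_eq, not_true_eq_false, false_and, or_false,
        zero_add]
    · intro k hk hk0
      rw [Finset.mem_range] at hk
      rw [if_neg]
      rw [pathVert_eq_inl_iff]
      rintro (⟨h, _⟩ | ⟨_, h, _⟩)
      · exact hk0 h
      · omega
    · intro h
      exact absurd (Finset.mem_range.2 hle) h
  · rw [Finset.sum_eq_single (l e - 1)]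
    · have h1 : l e - 1 + 1 = l e := by omega
      rw [h1]
      have h2 : l e ≠ 0 := by omega
      simp only [pathVert_eq_inl_iff, le_refl, true_and, h2, false_and,
        false_or, ne_eq, not_false_eq_true]
    · intro k hk hk0
      rw [Finset.mem_range] at hk
      rw [if_neg]
      rw [pathVert_eq_inl_iff]
      rintro (⟨h, _⟩ | ⟨_, h, _⟩)
      · omega
      · omega
    · intro h
      exact absurd (Finset.mem_range.2 (by omega)) h

end Graph

end Groth.Agent.Lib.LabGraphBlowup
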