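import Groth.Prelude.Def_W4c2conddiscmodels
import Mathlib

/-!
# Edge-sum ("flow") formulas for `LabGraph.mfMatrix` and contraction along a chain

Generic lemmas for the prelude's multigraph encoding `(V, E, ends)` with a vertex function `β`:
* `sum_edgeMult_mul`: `Σ_{w ≠ v} g w * edgeMult v w` as a sum over edges.
* `mul_mfMatrix_mulVec`: `β v * (α z) v = Σ_e ([e.1 = v] - [e.2 = v]) * (β e.1 * z e.2 - β e.2 * z e.1)`.
* contraction of a chain: description of the classes, `ctrFn`, `IsMultFn` of the contraction,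
  and the flow formula for the contracted matrix as a sum over the old edges.
-/

set_option autoImplicit false
set_option linter.unusedSectionVars false
set_option linter.unusedSimpArgs false
universe u
open Finset

namespace Groth.Agent.Lib.LabGraphCtr

section Generic

variable {V E : Type u} [Fintype V] [Fintype E] [DecidableEq V] [DecidableEq E]

/-- The "flow" of `z` along the (oriented) edge `e`, weighted by `β`. -/
def flow (ends : E → V × V) (β z : V → ℤ) (e : E) : ℤ :=
  β (ends e).1 * z (ends e).2 - β (ends e).2 * z (ends e).1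

theorem sum_edgeMult_mul (ends : E → V × V) (v : V) (g : V → ℤ) :
    ∑ w ∈ univ.erase v, g w * (LabGraph.edgeMult ends v w : ℤ) =
      ∑ e : E, ((if (ends e).1 = v ∧ (ends e).2 ≠ v then g (ends e).2 else 0) +
        (if (ends e).2 = v ∧ (ends e).1 ≠ v then g (ends e).1 else 0)) := by
  have h1 : ∀ w : V, (LabGraph.edgeMult ends v w : ℤ) =
      ∑ e : E, (if ends e = (v, w) ∨ ends e = (w, v) then (1 : ℤ) else 0) := by
    intro w
    simp only [LabGraph.edgeMult, Finset.card_filter, Nat.cast_sum, Nat.cast_ite, Nat.cast_one,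
      Nat.cast_zero]
  simp only [h1, Finset.mul_sum]
  rw [Finset.sum_comm]
  refine Finset.sum_congr rfl fun e _ => ?_
  obtain ⟨a, b, hab⟩ : ∃ a b, ends e = (a, b) := ⟨_, _, rfl⟩
  simp only [hab, Prod.mk.injEq]
  by_cases ha : a = v
  · by_cases hb : b = v
    · rw [ha, hb]
      simp only [ne_eq, not_true_eq_false, and_false, if_false, add_zero]
      refine Finset.sum_eq_zero fun w hw => ?_
      have hw' : w ≠ v := Finset.ne_of_mem_erase hw
      have hw'' : ¬ (v = w) := fun h => hw' h.symm
      simp [hw'']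
    · rw [ha]
      have hb' : b ∈ univ.erase v := Finset.mem_erase.mpr ⟨hb, Finset.mem_univ _⟩
      rw [Finset.sum_eq_single_of_mem b hb']
      · simp [hb]
      · intro w _ hwb
        have : ¬ (b = w) := fun h => hwb h.symm
        simp [this, hb]
  · by_cases hb : b = v
    · rw [hb]
      have ha' : a ∈ univ.erase v := Finset.mem_erase.mpr ⟨ha, Finset.mem_univ _⟩
      rw [Finset.sum_eq_single_of_mem a ha']
      · simp [ha]
      · intro w _ hwa
        have : ¬ (a = w) := fun h => hwa h.symm
        simp [this, ha]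
    · simp [ha, hb]

/-- The outer weight sum `S(v) = Σ_{w ≠ v} β w * edgeMult v w` as a sum over edges. -/
theorem outer_sum (ends : E → V × V) (β : V → ℤ) (v : V) :
    ∑ w ∈ univ.erase v, β w * (LabGraph.edgeMult ends v w : ℤ) =
      ∑ e : E, ((if (ends e).1 = v ∧ (ends e).2 ≠ v then β (ends e).2 else 0) +
        (if (ends e).2 = v ∧ (ends e).1 ≠ v then β (ends e).1 else 0)) :=
  sum_edgeMult_mul ends v β

theorem mul_mfMatrix_diag (ends : E → V × V) (β : V → ℤ) (v : V)
    (hdvd : β v ∣ ∑ w ∈ univ.erase v, β w * (LabGraph.edgeMult ends v w : ℤ)) :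
    β v * LabGraph.mfMatrix ends β v v =
      -(∑ w ∈ univ.erase v, β w * (LabGraph.edgeMult ends v w : ℤ)) := by
  simp only [LabGraph.mfMatrix, if_true]
  exact Int.mul_ediv_cancel' ((dvd_neg).mpr hdvd)

/-- **Flow formula** for the matrix of a multigraph with multiplicity function. -/
theorem mul_mfMatrix_mulVec (ends : E → V × V) (β : V → ℤ) (v : V)
    (hdvd : β v ∣ ∑ w ∈ univ.erase v, β w * (LabGraph.edgeMult ends v w : ℤ)) (z : V → ℤ) :
    β v * (Matrix.mulVec (LabGraph.mfMatrix ends β) z) v =
      ∑ e : E, ((if (ends e).1 = v then flow ends β z e else 0) -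
        (if (ends e).2 = v then flow ends β z e else 0)) := by
  have hsplit : (Matrix.mulVec (LabGraph.mfMatrix ends β) z) v =
      LabGraph.mfMatrix ends β v v * z v +
        ∑ w ∈ univ.erase v, z w * (LabGraph.edgeMult ends v w : ℤ) := by
    simp only [Matrix.mulVec, dotProduct]
    rw [← Finset.add_sum_erase _ _ (Finset.mem_univ v)]
    congr 1
    refine Finset.sum_congr rfl fun w hw => ?_
    have hw' : v ≠ w := fun h => (Finset.ne_of_mem_erase hw) h.symm
    simp only [LabGraph.mfMatrix, if_neg hw']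
    ring
  rw [hsplit, mul_add, ← mul_assoc, mul_mfMatrix_diag ends β v hdvd, outer_sum,
    sum_edgeMult_mul, neg_mul, Finset.sum_mul, Finset.mul_sum, ← sub_eq_neg_add,
    ← Finset.sum_sub_distrib]
  refine Finset.sum_congr rfl fun e _ => ?_
  simp only [flow]
  by_cases h1 : (ends e).1 = v <;> by_cases h2 : (ends e).2 = v <;>
    simp [h1, h2]

end Generic

section Contraction

variable {V E : Type u} [Fintype V] [Fintype E] [DecidableEq V] [DecidableEq E]

/-- The contraction along `D` has at most one non-trivial class, namely `L`. -/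
def OneClass (ends : E → V × V) (D : Finset E) (L : Finset V) : Prop :=
  ∀ v w, DualGr.ctrMk ends D v = DualGr.ctrMk ends D w ↔ v = w ∨ (v ∈ L ∧ w ∈ L)

theorem ctrMk_chain (ends : E → V × V) {k : ℕ} (f : Fin (k + 1) → V) (e : Fin k → E)
    (hC : LabGraph.IsChain ends f e) (i : Fin (k + 1)) :
    DualGr.ctrMk ends (univ.image e) (f i) = DualGr.ctrMk ends (univ.image e) (f 0) := by
  induction i using Fin.induction with
  | zero => rfl
  | succ i ih =>
    rw [← ih]
    have hmem : e i ∈ univ.image e := Finset.mem_image_of_mem _ (Finset.mem_univ _)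
    have := DualGr.ctrMk_fst_eq_ctrMk_snd ends (univ.image e) hmem
    rcases hC.2.2 i with h | h
    · rw [h] at this
      exact this.symm
    · rw [h] at this
      exact this

theorem oneClass_of_isChain (ends : E → V × V) {k : ℕ} (f : Fin (k + 1) → V) (e : Fin k → E)
    (hC : LabGraph.IsChain ends f e) : OneClass ends (univ.image e) (univ.image f) := by
  intro v w
  constructor
  · intro h
    have h' : Relation.EqvGen (DualGr.CtrRel ends (univ.image e)) v w := Quotient.exact h
    induction h' with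
    | rel x y hxy =>
      obtain ⟨e', he', hxy⟩ := hxy
      obtain ⟨i, -, rfl⟩ := Finset.mem_image.mp he'
      right
      rcases hC.2.2 i with h | h <;> rw [h] at hxy <;> simp only [Prod.mk.injEq] at hxy <;>
        obtain ⟨rfl, rfl⟩ := hxy <;>
        exact ⟨Finset.mem_image_of_mem _ (Finset.mem_univ _),
          Finset.mem_image_of_mem _ (Finset.mem_univ _)⟩
    | refl x => exact Or.inl rfl
    | symm x y _ ih =>
      rcases ih (Quotient.sound (by assumption)) with h | h
      · exact Or.inl h.symm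
      · exact Or.inr ⟨h.2, h.1⟩
    | trans x y z _ _ ih1 ih2 =>
      rcases ih1 (Quotient.sound (by assumption)) with h1 | h1
      · rcases ih2 (Quotient.sound (by assumption)) with h2 | h2
        · exact Or.inl (h1.trans h2)
        · exact Or.inr ⟨h1 ▸ h2.1, h2.2⟩
      · rcases ih2 (Quotient.sound (by assumption)) with h2 | h2
        · exact Or.inr ⟨h1.1, h2 ▸ h1.2⟩
        · exact Or.inr ⟨h1.1, h2.2⟩
  · rintro (rfl | ⟨hv, hw⟩)
    · rfl
    · obtain ⟨i, -, rfl⟩ := Finset.mem_image.mp hv
      obtain ⟨j, -, rfl⟩ := Finset.mem_image.mp hw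
      rw [ctrMk_chain ends f e hC i, ctrMk_chain ends f e hC j]

variable {ends : E → V × V} {D : Finset E} {L : Finset V}

theorem ctrFn_ctrMk (hO : OneClass ends D L) (β : V → ℤ)
    (hconst : ∀ v ∈ L, ∀ w ∈ L, β v = β w) (v : V) :
    LabGraph.ctrFn ends D β (DualGr.ctrMk ends D v) = β v := by
  unfold LabGraph.ctrFn
  have h : DualGr.ctrMk ends D (Quotient.out (s := DualGr.ctrSetoid ends D)
      (DualGr.ctrMk ends D v)) = DualGr.ctrMk ends D v := Quotient.out_eq _
  rcases (hO _ _).mp h with h | h
  · rw [h]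
  · exact hconst _ h.1 _ h.2

theorem sum_ctrEdge (D : Finset E) (F : E → ℤ) (hF : ∀ e ∈ D, F e = 0) :
    ∑ e' : DualGr.CtrEdge D, F e'.1 = ∑ e : E, F e := by
  have h1 : ∑ e : E, F e = ∑ e : E, (if e ∉ D then F e else 0) := by
    refine Finset.sum_congr rfl fun e _ => ?_
    by_cases he : e ∈ D
    · simp [he, hF e he]
    · simp [he]
  rw [h1, ← Finset.sum_filter,
    Finset.sum_subtype (Finset.univ.filter (fun e : E => e ∉ D)) (p := fun e => e ∉ D)
      (by intro e; simp)]

/-- The outer weight sum of the contraction, as a sum over the OLD edges. -/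
theorem outer_sum_ctr (hO : OneClass ends D L) (β : V → ℤ)
    (hconst : ∀ v ∈ L, ∀ w ∈ L, β v = β w) (v : V) :
    ∑ w' ∈ univ.erase (DualGr.ctrMk ends D v), LabGraph.ctrFn ends D β w' *
        (LabGraph.edgeMult (DualGr.ctrEnds ends D) (DualGr.ctrMk ends D v) w' : ℤ) =
      ∑ e : E, ((if DualGr.ctrMk ends D (ends e).1 = DualGr.ctrMk ends D v ∧
            DualGr.ctrMk ends D (ends e).2 ≠ DualGr.ctrMk ends D v then β (ends e).2 else 0) +
        (if DualGr.ctrMk ends D (ends e).2 = DualGr.ctrMk ends D v ∧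
            DualGr.ctrMk ends D (ends e).1 ≠ DualGr.ctrMk ends D v then β (ends e).1 else 0)) := by
  rw [outer_sum]
  simp only [DualGr.ctrEnds, ctrFn_ctrMk hO β hconst]
  refine sum_ctrEdge D (fun e => (if DualGr.ctrMk ends D (ends e).1 = DualGr.ctrMk ends D v ∧
            DualGr.ctrMk ends D (ends e).2 ≠ DualGr.ctrMk ends D v then β (ends e).2 else 0) +
        (if DualGr.ctrMk ends D (ends e).2 = DualGr.ctrMk ends D v ∧
            DualGr.ctrMk ends D (ends e).1 ≠ DualGr.ctrMk ends D v then β (ends e).1 else 0)) ?_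
  intro e he
  have := DualGr.ctrMk_fst_eq_ctrMk_snd ends D he
  by_cases h : DualGr.ctrMk ends D (ends e).1 = DualGr.ctrMk ends D v
  · have h2 : DualGr.ctrMk ends D (ends e).2 = DualGr.ctrMk ends D v := this ▸ h
    simp [h, h2]
  · have h2 : ¬ DualGr.ctrMk ends D (ends e).2 = DualGr.ctrMk ends D v := this ▸ h
    simp [h, h2]

theorem sum_outer_sum_finset (ends : E → V × V) (β : V → ℤ) (L : Finset V) :
    ∑ u ∈ L, ∑ w ∈ univ.erase u, β w * (LabGraph.edgeMult ends u w : ℤ) =
      ∑ e : E, ((if (ends e).1 ∈ L ∧ (ends e).2 ≠ (ends e).1 then β (ends e).2 else 0) +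
        (if (ends e).2 ∈ L ∧ (ends e).1 ≠ (ends e).2 then β (ends e).1 else 0)) := by
  simp only [outer_sum]
  rw [Finset.sum_comm]
  refine Finset.sum_congr rfl fun e _ => ?_
  rw [Finset.sum_add_distrib]
  congr 1
  · have : ∀ u : V, (if (ends e).1 = u ∧ (ends e).2 ≠ u then β (ends e).2 else 0) =
        (if (ends e).1 = u then (if (ends e).2 ≠ (ends e).1 then β (ends e).2 else 0) else 0) := by
      intro u
      by_cases h : (ends e).1 = u
      · subst h; simp
      · simp [h]
    simp only [this, Finset.sum_ite_eq]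
    by_cases h : (ends e).1 ∈ L <;> simp [h]
  · have : ∀ u : V, (if (ends e).2 = u ∧ (ends e).1 ≠ u then β (ends e).1 else 0) =
        (if (ends e).2 = u then (if (ends e).1 ≠ (ends e).2 then β (ends e).1 else 0) else 0) := by
      intro u
      by_cases h : (ends e).2 = u
      · subst h; simp
      · simp [h]
    simp only [this, Finset.sum_ite_eq]
    by_cases h : (ends e).2 ∈ L <;> simp [h]

/-- The contraction of a multigraph with multiplicity function along `D` (one nontrivial class
`L` on which `β` is constant) is again a multigraph with multiplicity function. -/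
theorem isMultFn_ctr (hO : OneClass ends D L) (β : V → ℤ) (hβ : LabGraph.IsMultFn ends β)
    (hconst : ∀ v ∈ L, ∀ w ∈ L, β v = β w) :
    LabGraph.IsMultFn (DualGr.ctrEnds ends D) (LabGraph.ctrFn ends D β) := by
  intro c
  obtain ⟨v, rfl⟩ := DualGr.ctrMk_surjective ends D c
  rw [ctrFn_ctrMk hO β hconst]
  refine ⟨(hβ v).1, ?_⟩
  rw [outer_sum_ctr hO β hconst v]
  by_cases hv : v ∈ L
  · have hmem : ∀ u, DualGr.ctrMk ends D u = DualGr.ctrMk ends D v ↔ u ∈ L := by
      intro u
      rw [hO]
      constructor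
      · rintro (h | h)
        · exact h ▸ hv
        · exact h.1
      · intro h
        exact Or.inr ⟨h, hv⟩
    simp only [ne_eq, hmem]
    have hU : β v ∣ ∑ u ∈ L, ∑ w ∈ univ.erase u, β w * (LabGraph.edgeMult ends u w : ℤ) := by
      refine Finset.dvd_sum fun u hu => ?_
      rw [hconst v hv u hu]
      exact (hβ u).2
    rw [sum_outer_sum_finset] at hU
    have hUT : β v ∣ ∑ e : E, (((if (ends e).1 ∈ L ∧ (ends e).2 ≠ (ends e).1 then β (ends e).2
          else 0) + (if (ends e).2 ∈ L ∧ (ends e).1 ≠ (ends e).2 then β (ends e).1 else 0)) -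
        ((if (ends e).1 ∈ L ∧ (ends e).2 ∉ L then β (ends e).2 else 0) +
          (if (ends e).2 ∈ L ∧ (ends e).1 ∉ L then β (ends e).1 else 0))) := by
      refine Finset.dvd_sum fun e _ => ?_
      by_cases h1 : (ends e).1 ∈ L <;> by_cases h2 : (ends e).2 ∈ L
      · by_cases h3 : (ends e).2 = (ends e).1
        · simp [h1, h2, h3]
        · have h3' : ¬ (ends e).1 = (ends e).2 := fun h => h3 h.symm
          simp only [h1, h2, h3, h3', ne_eq, not_false_eq_true, and_self, if_true, not_true_eq_false,
            and_false, if_false, add_zero, sub_zero]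
          rw [← hconst v hv _ h1, ← hconst v hv _ h2]
          exact dvd_add dvd_rfl dvd_rfl
      · have h3 : ¬ (ends e).2 = (ends e).1 := fun h => h2 (h ▸ h1)
        simp [h1, h2, h3]
      · have h3 : ¬ (ends e).1 = (ends e).2 := fun h => h1 (h ▸ h2)
        simp [h1, h2, h3]
      · simp [h1, h2]
    rw [Finset.sum_sub_distrib] at hUT
    have := dvd_sub hU hUT
    rwa [sub_sub_cancel] at this
  · have h1 : ∀ u, DualGr.ctrMk ends D u = DualGr.ctrMk ends D v ↔ u = v := by
      intro u
      rw [hO]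
      constructor
      · rintro (h | h)
        · exact h
        · exact absurd h.2 hv
      · intro h
        exact Or.inl h
    have := (hβ v).2
    rw [outer_sum] at this
    simpa only [ne_eq, h1] using this

/-- **Flow formula for the contracted matrix**, as a sum over the OLD edges. -/
theorem mul_ctr_mfMatrix_mulVec (hO : OneClass ends D L) (β : V → ℤ)
    (hβ : LabGraph.IsMultFn ends β) (hconst : ∀ v ∈ L, ∀ w ∈ L, β v = β w)
    (z' : DualGr.CtrVert ends D → ℤ) (v : V) :
    β v * (Matrix.mulVec (LabGraph.mfMatrix (DualGr.ctrEnds ends D) (LabGraph.ctrFn ends D β)) z')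
        (DualGr.ctrMk ends D v) =
      ∑ e : E, ((if DualGr.ctrMk ends D (ends e).1 = DualGr.ctrMk ends D v
            then flow ends β (fun u => z' (DualGr.ctrMk ends D u)) e else 0) -
        (if DualGr.ctrMk ends D (ends e).2 = DualGr.ctrMk ends D v
            then flow ends β (fun u => z' (DualGr.ctrMk ends D u)) e else 0)) := by
  have hM := isMultFn_ctr hO β hβ hconst
  have := mul_mfMatrix_mulVec (DualGr.ctrEnds ends D) (LabGraph.ctrFn ends D β)
    (DualGr.ctrMk ends D v) (hM _).2 z'
  rw [ctrFn_ctrMk hO β hconst] at this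
  rw [this]
  simp only [flow, DualGr.ctrEnds, ctrFn_ctrMk hO β hconst]
  refine sum_ctrEdge D (fun e => (if DualGr.ctrMk ends D (ends e).1 = DualGr.ctrMk ends D v
            then β (ends e).1 * z' (DualGr.ctrMk ends D (ends e).2) -
              β (ends e).2 * z' (DualGr.ctrMk ends D (ends e).1) else 0) -
        (if DualGr.ctrMk ends D (ends e).2 = DualGr.ctrMk ends D v
            then β (ends e).1 * z' (DualGr.ctrMk ends D (ends e).2) -
              β (ends e).2 * z' (DualGr.ctrMk ends D (ends e).1) else 0)) ?_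
  intro e he
  simp only [DualGr.ctrMk_fst_eq_ctrMk_snd ends D he, sub_self]

end Contraction




section Chain

variable {V E : Type u} [Fintype V] [Fintype E] [DecidableEq V] [DecidableEq E]

/-- the contribution of the edge `e'` to the outer sum at `v`. -/
def tterm (ends : E → V × V) (β : V → ℤ) (v : V) (e' : E) : ℤ :=
  (if (ends e').1 = v ∧ (ends e').2 ≠ v then β (ends e').2 else 0) +
    (if (ends e').2 = v ∧ (ends e').1 ≠ v then β (ends e').1 else 0)

theorem tterm_nonneg (ends : E → V × V) (β : V → ℤ) (hpos : ∀ v, 0 < β v) (v : V) (e' : E) :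
    0 ≤ tterm ends β v e' := by
  unfold tterm
  have := fun u => (hpos u).le
  split_ifs <;> simp [this, add_nonneg]

theorem tterm_of_joins (ends : E → V × V) (β : V → ℤ) {a b : V} (hab : a ≠ b) {e' : E}
    (h : ends e' = (a, b) ∨ ends e' = (b, a)) : tterm ends β a e' = β b := by
  unfold tterm
  have hba : b ≠ a := fun h => hab h.symm
  rcases h with h | h <;> simp [h, hab, hba]

theorem tterm_pos_of_touch (ends : E → V × V) (β : V → ℤ) (hpos : ∀ v, 0 < β v) (v : V) (e' : E)
    (h : ((ends e').1 = v ∧ (ends e').2 ≠ v) ∨ ((ends e').2 = v ∧ (ends e').1 ≠ v)) :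
    0 < tterm ends β v e' := by
  unfold tterm
  rcases h with h | h
  · have h2 : ¬ ((ends e').2 = v ∧ (ends e').1 ≠ v) := fun h' => h.2 h'.1
    simp [h, h2, hpos]
  · have h2 : ¬ ((ends e').1 = v ∧ (ends e').2 ≠ v) := fun h' => h.2 h'.1
    simp [h, h2, hpos]

/-- If the outer sum at `v` is exhausted by two distinct edges, every non-loop edge at `v` is one
of them. -/
theorem eq_or_eq_of_outer_sum (ends : E → V × V) (β : V → ℤ) (hpos : ∀ v, 0 < β v) (v : V)
    (e₁ e₂ : E) (hne : e₁ ≠ e₂)
    (hsum : ∑ w ∈ univ.erase v, β w * (LabGraph.edgeMult ends v w : ℤ) =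
      tterm ends β v e₁ + tterm ends β v e₂) (e' : E)
    (h : ((ends e').1 = v ∧ (ends e').2 ≠ v) ∨ ((ends e').2 = v ∧ (ends e').1 ≠ v)) :
    e' = e₁ ∨ e' = e₂ := by
  by_contra hcon
  simp only [not_or] at hcon
  rw [outer_sum] at hsum
  have hsub : ({e₁, e₂, e'} : Finset E) ⊆ univ := Finset.subset_univ _
  have hle := Finset.sum_le_sum_of_subset_of_nonneg (f := tterm ends β v) hsub
    (fun i _ _ => tterm_nonneg ends β hpos v i)
  have h1 : e₁ ∉ ({e₂, e'} : Finset E) := by
    simp only [Finset.mem_insert, Finset.mem_singleton, not_or]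
    exact ⟨hne, fun h => hcon.1 h.symm⟩
  have h2 : e₂ ∉ ({e'} : Finset E) := by
    simp only [Finset.mem_singleton]
    exact fun h => hcon.2 h.symm
  rw [Finset.sum_insert h1, Finset.sum_insert h2, Finset.sum_singleton] at hle
  have hpos' := tterm_pos_of_touch ends β hpos v e' h
  have : ∑ e : E, tterm ends β v e = tterm ends β v e₁ + tterm ends β v e₂ := hsum
  linarith

variable (ends : E → V × V) (β : V → ℤ) {m : ℕ} (f : Fin (m + 1) → V) (e : Fin m → E)

theorem castSucc_ne_succ_apply (hC : LabGraph.IsChain ends f e) (j : Fin m) :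
    f j.castSucc ≠ f j.succ := by
  intro h
  have := hC.1 h
  exact (Fin.castSucc_lt_succ (i := j)).ne this

theorem outer_eq_two_mul (hβ : LabGraph.IsMultFn ends β) (hβm : ∀ i, β (f i) = m)
    (hα : ∀ i, LabGraph.mfMatrix ends β (f i) (f i) = -2) (i : Fin (m + 1)) :
    ∑ w ∈ univ.erase (f i), β w * (LabGraph.edgeMult ends (f i) w : ℤ) = 2 * m := by
  have := mul_mfMatrix_diag ends β (f i) (hβ (f i)).2
  rw [hα i, hβm i] at this
  linarith

/-- Interior vertices of the chain: every non-loop edge at `f j.succ` (`j + 1 < m`) is one of the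
two chain edges. -/
theorem interior_edges (hβ : LabGraph.IsMultFn ends β) (hC : LabGraph.IsChain ends f e)
    (hβm : ∀ i, β (f i) = m) (hα : ∀ i, LabGraph.mfMatrix ends β (f i) (f i) = -2)
    (j : Fin m) (hj : j.val + 1 < m) (e' : E)
    (h : ((ends e').1 = f j.succ ∧ (ends e').2 ≠ f j.succ) ∨
      ((ends e').2 = f j.succ ∧ (ends e').1 ≠ f j.succ)) :
    e' = e j ∨ e' = e ⟨j.val + 1, hj⟩ := by
  have hne : e j ≠ e ⟨j.val + 1, hj⟩ := by
    intro h
    have := congrArg Fin.val (hC.2.1 h)
    simp at this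
  have hcs : (⟨j.val + 1, hj⟩ : Fin m).castSucc = j.succ := by
    ext; simp
  refine eq_or_eq_of_outer_sum ends β (fun v => (hβ v).1) (f j.succ) (e j) (e ⟨j.val + 1, hj⟩) hne
    ?_ e' h
  rw [outer_eq_two_mul ends β f hβ hβm hα]
  have h1 : tterm ends β (f j.succ) (e j) = β (f j.castSucc) :=
    tterm_of_joins ends β (castSucc_ne_succ_apply ends f e hC j).symm ((hC.2.2 j).symm)
  have h2 : tterm ends β (f j.succ) (e ⟨j.val + 1, hj⟩) = β (f (⟨j.val + 1, hj⟩ : Fin m).succ) := by
    have := castSucc_ne_succ_apply ends f e hC ⟨j.val + 1, hj⟩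
    have h3 := hC.2.2 ⟨j.val + 1, hj⟩
    rw [hcs] at this h3
    exact tterm_of_joins ends β this h3
  rw [h1, h2, hβm, hβm]
  ring

theorem flow_term_of_joins {a b : V} (hab : a ≠ b) {e' : E}
    (h : ends e' = (a, b) ∨ ends e' = (b, a)) (z : V → ℤ) :
    (if (ends e').1 = a then flow ends β z e' else 0) -
      (if (ends e').2 = a then flow ends β z e' else 0) = β a * z b - β b * z a := by
  have hba : b ≠ a := fun h => hab h.symm
  rcases h with h | h <;> simp [flow, h, hab, hba]

theorem flow_term_eq_zero_of_not_touch (v : V) (e' : E)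
    (h : ¬ (((ends e').1 = v ∧ (ends e').2 ≠ v) ∨ ((ends e').2 = v ∧ (ends e').1 ≠ v)))
    (z : V → ℤ) :
    (if (ends e').1 = v then flow ends β z e' else 0) -
      (if (ends e').2 = v then flow ends β z e' else 0) = 0 := by
  by_cases h1 : (ends e').1 = v <;> by_cases h2 : (ends e').2 = v
  · simp [h1, h2]
  · exact absurd (Or.inl ⟨h1, h2⟩) h
  · exact absurd (Or.inr ⟨h2, h1⟩) h
  · simp [h1, h2]

/-- The matrix acts on the interior of the chain by second differences. -/
theorem interior_mulVec (hβ : LabGraph.IsMultFn ends β) (hC : LabGraph.IsChain ends f e)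
    (hβm : ∀ i, β (f i) = m) (hα : ∀ i, LabGraph.mfMatrix ends β (f i) (f i) = -2)
    (j : Fin m) (hj : j.val + 1 < m) (z : V → ℤ) :
    (Matrix.mulVec (LabGraph.mfMatrix ends β) z) (f j.succ) =
      z (f j.castSucc) - 2 * z (f j.succ) + z (f (⟨j.val + 1, hj⟩ : Fin m).succ) := by
  have hm0 : (m : ℤ) ≠ 0 := by
    have := (hβ (f 0)).1
    rw [hβm] at this
    exact this.ne'
  apply mul_left_cancel₀ hm0
  have hne : e j ≠ e ⟨j.val + 1, hj⟩ := by
    intro h
    have := congrArg Fin.val (hC.2.1 h)
    simp at this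
  have hcs : (⟨j.val + 1, hj⟩ : Fin m).castSucc = j.succ := by
    ext; simp
  have key := mul_mfMatrix_mulVec ends β (f j.succ) (hβ _).2 z
  rw [hβm] at key
  rw [key, Finset.sum_eq_add_of_mem (e j) (e ⟨j.val + 1, hj⟩) (Finset.mem_univ _)
    (Finset.mem_univ _) hne]
  · rw [flow_term_of_joins ends β (castSucc_ne_succ_apply ends f e hC j).symm
      ((hC.2.2 j).symm) z]
    have h3 := hC.2.2 ⟨j.val + 1, hj⟩
    have h4 := castSucc_ne_succ_apply ends f e hC ⟨j.val + 1, hj⟩
    rw [hcs] at h3 h4
    rw [flow_term_of_joins ends β h4 h3 z, hβm, hβm, hβm]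
    ring
  · intro c _ hc
    apply flow_term_eq_zero_of_not_touch
    intro h
    rcases interior_edges ends β f e hβ hC hβm hα j hj c h with h | h
    · exact hc.1 h
    · exact hc.2 h

/-- Arithmetic progression along the chain. -/
theorem chain_arith (hβ : LabGraph.IsMultFn ends β) (hC : LabGraph.IsChain ends f e)
    (hβm : ∀ i, β (f i) = m) (hα : ∀ i, LabGraph.mfMatrix ends β (f i) (f i) = -2)
    (hm : 0 < m) (y : V → ℤ)
    (hy : ∀ i : Fin (m + 1), i ≠ 0 → i ≠ Fin.last m →
      (Matrix.mulVec (LabGraph.mfMatrix ends β) y) (f i) = 0) :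
    ∀ (n : ℕ) (hn : n < m + 1), y (f ⟨n, hn⟩) =
      y (f 0) + n * (y (f ⟨1, Nat.succ_lt_succ hm⟩) - y (f 0)) := by
  intro n
  induction n using Nat.strong_induction_on with
  | _ n ih =>
    intro hn
    match n, ih, hn with
    | 0, _, _ => simp
    | 1, _, _ => simp
    | (k + 2), ih, hn =>
      have hk : k < m := by omega
      have hk1 : k + 1 < m := by omega
      have h1 := ih k (by omega) (by omega)
      have h2 := ih (k + 1) (by omega) (by omega)
      have h3 := interior_mulVec ends β f e hβ hC hβm hα ⟨k, hk⟩ hk1 y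
      have h4 : (Matrix.mulVec (LabGraph.mfMatrix ends β) y) (f (⟨k, hk⟩ : Fin m).succ) = 0 := by
        apply hy
        · exact Fin.succ_ne_zero _
        · intro h
          have := congrArg Fin.val h
          simp at this
          omega
      rw [h4] at h3
      have e1 : (⟨k, hk⟩ : Fin m).castSucc = ⟨k, by omega⟩ := rfl
      have e2 : (⟨k, hk⟩ : Fin m).succ = ⟨k + 1, by omega⟩ := rfl
      have e3 : (⟨(⟨k, hk⟩ : Fin m).val + 1, hk1⟩ : Fin m).succ = ⟨k + 2, hn⟩ := rfl
      rw [e1, e2, e3, h1, h2] at h3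
      push_cast at h3 ⊢
      linear_combination (-1 : ℤ) * h3

theorem exists_cut (hm : 0 < m) (hconn : LabGraph.IsConnecting ends (e ⟨0, hm⟩)) :
    ∃ S : Finset V, f 0 ∈ S ∧
      ∀ e' : E, ((ends e').1 ∈ S ↔ (ends e').2 ∉ S) ↔ e' = e ⟨0, hm⟩ := by
  obtain ⟨S, hS⟩ := hconn
  by_cases h0 : f 0 ∈ S
  · exact ⟨S, h0, hS⟩
  · refine ⟨Sᶜ, Finset.mem_compl.mpr h0, fun e' => ?_⟩
    rw [← hS e']
    simp only [Finset.mem_compl]
    tauto

theorem not_mem_cut (hC : LabGraph.IsChain ends f e) (hm : 0 < m) (S : Finset V) (h0 : f 0 ∈ S)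
    (hS : ∀ e' : E, ((ends e').1 ∈ S ↔ (ends e').2 ∉ S) ↔ e' = e ⟨0, hm⟩) :
    ∀ (n : ℕ) (hn : n < m), f (⟨n, hn⟩ : Fin m).succ ∉ S := by
  intro n
  induction n with
  | zero =>
    intro hn
    have hcross := (hS (e ⟨0, hm⟩)).mpr rfl
    have hcs : (⟨0, hm⟩ : Fin m).castSucc = 0 := rfl
    rcases hC.2.2 ⟨0, hm⟩ with h | h
    · rw [h, hcs] at hcross
      simp only at hcross
      exact hcross.mp h0
    · rw [h, hcs] at hcross
      simp only at hcross
      intro h1
      exact (hcross.mp h1) h0
  | succ n ih =>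
    intro hn
    have hn' : n < m := by omega
    have ih' := ih hn'
    have hne : e ⟨n + 1, hn⟩ ≠ e ⟨0, hm⟩ := by
      intro h
      have := congrArg Fin.val (hC.2.1 h)
      simp at this
    have hnc := (not_congr (hS (e ⟨n + 1, hn⟩))).mpr hne
    have hcs : (⟨n + 1, hn⟩ : Fin m).castSucc = (⟨n, hn'⟩ : Fin m).succ := rfl
    rcases hC.2.2 ⟨n + 1, hn⟩ with h | h
    · rw [h, hcs] at hnc
      simp only at hnc
      tauto
    · rw [h, hcs] at hnc
      simp only at hnc
      tauto

theorem not_mem_cut' (hC : LabGraph.IsChain ends f e) (hm : 0 < m) (S : Finset V) (h0 : f 0 ∈ S)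
    (hS : ∀ e' : E, ((ends e').1 ∈ S ↔ (ends e').2 ∉ S) ↔ e' = e ⟨0, hm⟩)
    (i : Fin (m + 1)) (hi : i ≠ 0) : f i ∉ S := by
  obtain ⟨j, rfl⟩ := Fin.exists_succ_eq.mpr hi
  exact not_mem_cut ends f e hC hm S h0 hS j.val j.isLt

open Classical in
/-- The potential: index along the chain, `0` on the side of `f 0`, `β` on the other side. -/
noncomputable def pot (S : Finset V) (v : V) : ℤ :=
  if hv : ∃ i : Fin (m + 1), f i = v then ((hv.choose : Fin (m + 1)) : ℕ)
  else if v ∈ S then 0 else β v

theorem pot_chain (hinj : Function.Injective f) (S : Finset V) (i : Fin (m + 1)) :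
    pot β f S (f i) = (i : ℕ) := by
  have hv : ∃ i' : Fin (m + 1), f i' = f i := ⟨i, rfl⟩
  unfold pot
  rw [dif_pos hv]
  have := hinj hv.choose_spec
  rw [this]

theorem pot_of_not_chain (S : Finset V) (v : V) (hv : ¬ ∃ i : Fin (m + 1), f i = v) :
    pot β f S v = if v ∈ S then 0 else β v := by
  unfold pot
  rw [dif_neg hv]

/-- The flow of the potential vanishes on every edge outside the chain. -/
theorem flow_pot_eq_zero (hβ : LabGraph.IsMultFn ends β) (hC : LabGraph.IsChain ends f e)
    (hβm : ∀ i, β (f i) = m) (hα : ∀ i, LabGraph.mfMatrix ends β (f i) (f i) = -2)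
    (hm : 0 < m) (S : Finset V) (h0 : f 0 ∈ S)
    (hS : ∀ e' : E, ((ends e').1 ∈ S ↔ (ends e').2 ∉ S) ↔ e' = e ⟨0, hm⟩)
    (e' : E) (he' : e' ∉ univ.image e) : flow ends β (pot β f S) e' = 0 := by
  have hnotD : ∀ j : Fin m, e' ≠ e j := fun j h =>
    he' (h ▸ Finset.mem_image_of_mem _ (Finset.mem_univ _))
  by_cases hloop : (ends e').1 = (ends e').2
  · simp only [flow, hloop]
    ring
  -- values of the potential at an endpoint `u` of the non-loop edge `e'`
  have key : ∀ u : V, (((ends e').1 = u ∧ (ends e').2 ≠ u) ∨ ((ends e').2 = u ∧ (ends e').1 ≠ u)) →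
      pot β f S u = if u ∈ S then 0 else β u := by
    intro u hu
    by_cases hv : ∃ i : Fin (m + 1), f i = u
    · obtain ⟨i, rfl⟩ := hv
      rw [pot_chain β f hC.1]
      by_cases hi : i = 0
      · subst hi
        simp [h0]
      · rw [if_neg (not_mem_cut' ends f e hC hm S h0 hS i hi)]
        obtain ⟨j, rfl⟩ := Fin.exists_succ_eq.mpr hi
        by_cases hj : j.val + 1 < m
        · rcases interior_edges ends β f e hβ hC hβm hα j hj e' hu with h | h
          · exact absurd h (hnotD _)
          · exact absurd h (hnotD _)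
        · rw [hβm]
          have : j.val + 1 = m := by have := j.isLt; omega
          simp [this]
    · exact pot_of_not_chain β f S u hv
  have hne2 : (ends e').2 ≠ (ends e').1 := fun h => hloop h.symm
  have h1 := key (ends e').1 (Or.inl ⟨rfl, hne2⟩)
  have h2 := key (ends e').2 (Or.inr ⟨rfl, hloop⟩)
  have hnc := (not_congr (hS e')).mpr (hnotD ⟨0, hm⟩)
  simp only [flow, h1, h2]
  by_cases ha : (ends e').1 ∈ S <;> by_cases hb : (ends e').2 ∈ S
  · simp [ha, hb]
  · exact absurd (by tauto) hnc
  · exact absurd (by tauto) hnc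
  · simp [ha, hb]
    ring

theorem liftAt_chain (hC : LabGraph.IsChain ends f e)
    (x : DualGr.CtrVert ends (univ.image e) → ℤ) (i : Fin (m + 1)) :
    LabGraph.liftAt ends (univ.image e) (f 0) x (f i) =
      if i = 0 then x (DualGr.ctrMk ends (univ.image e) (f 0)) else 0 := by
  unfold LabGraph.liftAt
  by_cases hi : i = 0
  · subst hi
    simp
  · have h1 : f i ≠ f 0 := fun h => hi (hC.1 h)
    rw [if_pos ⟨ctrMk_chain ends f e hC i, h1⟩, if_neg hi]

theorem liftAt_not_chain (hC : LabGraph.IsChain ends f e)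
    (x : DualGr.CtrVert ends (univ.image e) → ℤ) (v : V) (hv : v ∉ univ.image f) :
    LabGraph.liftAt ends (univ.image e) (f 0) x v = x (DualGr.ctrMk ends (univ.image e) v) := by
  unfold LabGraph.liftAt
  rw [if_neg]
  rintro ⟨h, h'⟩
  rcases (oneClass_of_isChain ends f e hC v (f 0)).mp h with h | h
  · exact h' h
  · exact hv h.1

/-- **Injectivity statement for the contraction of a connecting chain** (only the first edge of
the chain needs to be connecting): if `liftAt x` is in the image of `α` then `x` is in the image of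
the contracted matrix `α'`. -/
theorem exists_ctr_preimage (hβ : LabGraph.IsMultFn ends β) (hC : LabGraph.IsChain ends f e)
    (hβm : ∀ i, β (f i) = m) (hα : ∀ i, LabGraph.mfMatrix ends β (f i) (f i) = -2)
    (hm : 0 < m) (hconn : LabGraph.IsConnecting ends (e ⟨0, hm⟩))
    (x : DualGr.CtrVert ends (univ.image e) → ℤ) (y : V → ℤ)
    (hy : Matrix.mulVec (LabGraph.mfMatrix ends β) y =
      LabGraph.liftAt ends (univ.image e) (f 0) x) :
    ∃ y' : DualGr.CtrVert ends (univ.image e) → ℤ,
      Matrix.mulVec (LabGraph.mfMatrix (DualGr.ctrEnds ends (univ.image e))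
        (LabGraph.ctrFn ends (univ.image e) β)) y' = x := by
  classical
  have hO := oneClass_of_isChain ends f e hC
  have hconst : ∀ v ∈ univ.image f, ∀ w ∈ univ.image f, β v = β w := by
    intro v hv w hw
    obtain ⟨i, -, rfl⟩ := Finset.mem_image.mp hv
    obtain ⟨j, -, rfl⟩ := Finset.mem_image.mp hw
    rw [hβm, hβm]
  obtain ⟨S, h0, hS⟩ := exists_cut ends f e hm hconn
  have hyi : ∀ i : Fin (m + 1), (Matrix.mulVec (LabGraph.mfMatrix ends β) y) (f i) =
      if i = 0 then x (DualGr.ctrMk ends (univ.image e) (f 0)) else 0 := by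
    intro i
    rw [hy, liftAt_chain ends f e hC]
  have hAP := chain_arith ends β f e hβ hC hβm hα hm y
    (fun i hi _ => by rw [hyi i, if_neg hi])
  set d : ℤ := y (f ⟨1, Nat.succ_lt_succ hm⟩) - y (f 0) with hd
  set Y : V → ℤ := fun v => y v - d * pot β f S v with hY
  have hYL : ∀ i : Fin (m + 1), Y (f i) = y (f 0) := by
    intro i
    have := hAP i.val i.isLt
    simp only [Fin.eta] at this
    simp only [hY, pot_chain β f hC.1, this]
    ring
  set y' : DualGr.CtrVert ends (univ.image e) → ℤ :=
    fun c => Y (Quotient.out (s := DualGr.ctrSetoid ends (univ.image e)) c) with hy'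
  have hy'π : ∀ v : V, y' (DualGr.ctrMk ends (univ.image e) v) = Y v := by
    intro v
    have h : DualGr.ctrMk ends (univ.image e) (Quotient.out (s := DualGr.ctrSetoid ends (univ.image e))
      (DualGr.ctrMk ends (univ.image e) v)) = DualGr.ctrMk ends (univ.image e) v := Quotient.out_eq _
    rcases (hO _ _).mp h with h | h
    · simp only [hy']
      rw [h]
    · obtain ⟨i, -, hi⟩ := Finset.mem_image.mp h.1
      obtain ⟨j, -, hj⟩ := Finset.mem_image.mp h.2
      simp only [hy']
      rw [← hi, ← hj, hYL, hYL]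
  refine ⟨y', funext fun c => ?_⟩
  obtain ⟨v, rfl⟩ := DualGr.ctrMk_surjective ends (univ.image e) c
  have hβv : β v ≠ 0 := (hβ v).1.ne'
  apply mul_left_cancel₀ hβv
  rw [mul_ctr_mfMatrix_mulVec hO β hβ hconst y' v]
  have hfun : (fun u => y' (DualGr.ctrMk ends (univ.image e) u)) = Y := funext hy'π
  rw [hfun]
  -- replace the flow of `Y` by the flow of `y`
  have hflow : ∀ e' : E,
      ((if DualGr.ctrMk ends (univ.image e) (ends e').1 = DualGr.ctrMk ends (univ.image e) v
          then flow ends β Y e' else 0) -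
        (if DualGr.ctrMk ends (univ.image e) (ends e').2 = DualGr.ctrMk ends (univ.image e) v
          then flow ends β Y e' else 0)) =
      ((if DualGr.ctrMk ends (univ.image e) (ends e').1 = DualGr.ctrMk ends (univ.image e) v
          then flow ends β y e' else 0) -
        (if DualGr.ctrMk ends (univ.image e) (ends e').2 = DualGr.ctrMk ends (univ.image e) v
          then flow ends β y e' else 0)) := by
    intro e'
    by_cases he' : e' ∈ univ.image e
    · simp only [DualGr.ctrMk_fst_eq_ctrMk_snd ends (univ.image e) he', sub_self]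
    · have h1 : flow ends β Y e' = flow ends β y e' - d * flow ends β (pot β f S) e' := by
        simp only [flow, hY]
        ring
      rw [h1, flow_pot_eq_zero ends β f e hβ hC hβm hα hm S h0 hS e' he', mul_zero, sub_zero]
  rw [Finset.sum_congr rfl fun e' _ => hflow e']
  by_cases hv : v ∈ univ.image f
  · -- the contracted vertex
    have hmem : ∀ u, DualGr.ctrMk ends (univ.image e) u = DualGr.ctrMk ends (univ.image e) v ↔
        u ∈ univ.image f := by
      intro u
      rw [hO]
      constructor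
      · rintro (h | h)
        · exact h ▸ hv
        · exact h.1
      · intro h
        exact Or.inr ⟨h, hv⟩
    simp only [hmem]
    have hsum : ∑ e' : E, ((if (ends e').1 ∈ univ.image f then flow ends β y e' else 0) -
        (if (ends e').2 ∈ univ.image f then flow ends β y e' else 0)) =
        ∑ u ∈ univ.image f, β u * (Matrix.mulVec (LabGraph.mfMatrix ends β) y) u := by
      rw [Finset.sum_congr rfl fun u _ => mul_mfMatrix_mulVec ends β u (hβ u).2 y,
        Finset.sum_comm]
      refine Finset.sum_congr rfl fun e' _ => ?_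
      rw [Finset.sum_sub_distrib, Finset.sum_ite_eq, Finset.sum_ite_eq]
    rw [hsum, Finset.sum_image (fun a _ b _ h => hC.1 h)]
    simp only [hyi, hβm, mul_ite, mul_zero, Finset.sum_ite_eq', Finset.mem_univ, if_true]
    obtain ⟨i, -, rfl⟩ := Finset.mem_image.mp hv
    rw [hβm, ctrMk_chain ends f e hC i]
  · have h1 : ∀ u, DualGr.ctrMk ends (univ.image e) u = DualGr.ctrMk ends (univ.image e) v ↔
        u = v := by
      intro u
      rw [hO]
      constructor
      · rintro (h | h)
        · exact h
        · exact absurd h.2 hv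
      · intro h
        exact Or.inl h
    simp only [h1]
    rw [← mul_mfMatrix_mulVec ends β v (hβ v).2 y, hy, liftAt_not_chain ends f e hC x v hv]

end Chain




end Groth.Agent.Lib.LabGraphCtr
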