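import Groth.Agent.Lib.LabGraphCtr

/-!
# Contraction of a connecting chain: the map on component groups (S14801)

Continuation of `Lib/LabGraphCtr`: further matrix identities for the contraction of a chain
`f 0, …, f m` (edges `e 0, …, e (m-1)`, `β = m` and `α = -2` on the chain), the induced map on
component groups and its surjectivity.
-/

set_option autoImplicit false
set_option linter.unusedSectionVars false
set_option linter.unusedSimpArgs false
universe u
open Finset

namespace Groth.Agent.Lib.LabGraphCtr

section Generic2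

variable {V E : Type u} [Fintype V] [Fintype E] [DecidableEq V] [DecidableEq E]

theorem betaHom_apply (β x : V → ℤ) : LabGraph.betaHom β x = ∑ v, x v * β v := by
  simp [LabGraph.betaHom, Fintype.linearCombination_apply]

/-- The image of the matrix lies in the kernel of `β`. -/
theorem betaHom_mulVec (ends : E → V × V) (β : V → ℤ) (hβ : LabGraph.IsMultFn ends β)
    (z : V → ℤ) : LabGraph.betaHom β (Matrix.mulVec (LabGraph.mfMatrix ends β) z) = 0 := by
  rw [betaHom_apply]
  have : ∀ v, (Matrix.mulVec (LabGraph.mfMatrix ends β) z) v * β v =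
      ∑ e : E, ((if (ends e).1 = v then flow ends β z e else 0) -
        (if (ends e).2 = v then flow ends β z e else 0)) := by
    intro v
    rw [mul_comm, mul_mfMatrix_mulVec ends β v (hβ v).2]
  simp only [this]
  rw [Finset.sum_comm]
  refine Finset.sum_eq_zero fun e' _ => ?_
  rw [Finset.sum_sub_distrib, Finset.sum_ite_eq, Finset.sum_ite_eq]
  simp

end Generic2

section Chain2

variable {V E : Type u} [Fintype V] [Fintype E] [DecidableEq V] [DecidableEq E]
variable (ends : E → V × V) (β : V → ℤ) {m : ℕ} (f : Fin (m + 1) → V) (e : Fin m → E)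

theorem hconst_of_hβm (hβm : ∀ i, β (f i) = m) :
    ∀ v ∈ univ.image f, ∀ w ∈ univ.image f, β v = β w := by
  intro v hv w hw
  obtain ⟨i, -, rfl⟩ := Finset.mem_image.mp hv
  obtain ⟨j, -, rfl⟩ := Finset.mem_image.mp hw
  rw [hβm, hβm]

/-- Off the chain the contracted matrix acts as the old one on pulled-back vectors. -/
theorem ctr_mulVec_of_not_chain (hβ : LabGraph.IsMultFn ends β) (hC : LabGraph.IsChain ends f e)
    (hβm : ∀ i, β (f i) = m) (z' : DualGr.CtrVert ends (univ.image e) → ℤ) (v : V)
    (hv : v ∉ univ.image f) :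
    (Matrix.mulVec (LabGraph.mfMatrix (DualGr.ctrEnds ends (univ.image e))
        (LabGraph.ctrFn ends (univ.image e) β)) z') (DualGr.ctrMk ends (univ.image e) v) =
      (Matrix.mulVec (LabGraph.mfMatrix ends β)
        (fun u => z' (DualGr.ctrMk ends (univ.image e) u))) v := by
  have hO := oneClass_of_isChain ends f e hC
  have hconst := hconst_of_hβm β f hβm
  have hβv : β v ≠ 0 := (hβ v).1.ne'
  apply mul_left_cancel₀ hβv
  rw [mul_ctr_mfMatrix_mulVec hO β hβ hconst z' v, mul_mfMatrix_mulVec ends β v (hβ v).2]
  have h1 : ∀ u, DualGr.ctrMk ends (univ.image e) u = DualGr.ctrMk ends (univ.image e) v ↔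
      u = v := by
    intro u
    rw [hO]
    constructor
    · rintro (h | h)
      · exact h
      · exact absurd h.2 hv
    · intro h
      exact Or.inl h
  simp only [h1]

/-- At the contracted vertex the contracted matrix is the sum over the chain of the old one. -/
theorem ctr_mulVec_chain (hβ : LabGraph.IsMultFn ends β) (hC : LabGraph.IsChain ends f e)
    (hβm : ∀ i, β (f i) = m) (z' : DualGr.CtrVert ends (univ.image e) → ℤ) :
    (Matrix.mulVec (LabGraph.mfMatrix (DualGr.ctrEnds ends (univ.image e))
        (LabGraph.ctrFn ends (univ.image e) β)) z') (DualGr.ctrMk ends (univ.image e) (f 0)) =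
      ∑ i : Fin (m + 1), (Matrix.mulVec (LabGraph.mfMatrix ends β)
        (fun u => z' (DualGr.ctrMk ends (univ.image e) u))) (f i) := by
  have hO := oneClass_of_isChain ends f e hC
  have hconst := hconst_of_hβm β f hβm
  have hβv : β (f 0) ≠ 0 := (hβ (f 0)).1.ne'
  apply mul_left_cancel₀ hβv
  rw [mul_ctr_mfMatrix_mulVec hO β hβ hconst z' (f 0)]
  have hv : f 0 ∈ univ.image f := Finset.mem_image_of_mem _ (Finset.mem_univ _)
  have hmem : ∀ u, DualGr.ctrMk ends (univ.image e) u = DualGr.ctrMk ends (univ.image e) (f 0) ↔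
      u ∈ univ.image f := by
    intro u
    rw [hO]
    constructor
    · rintro (h | h)
      · exact h ▸ hv
      · exact h.1
    · intro h
      exact Or.inr ⟨h, hv⟩
  simp only [hmem]
  set Z : V → ℤ := fun u => z' (DualGr.ctrMk ends (univ.image e) u)
  have hsum : ∑ e' : E, ((if (ends e').1 ∈ univ.image f then flow ends β Z e' else 0) -
      (if (ends e').2 ∈ univ.image f then flow ends β Z e' else 0)) =
      ∑ u ∈ univ.image f, β u * (Matrix.mulVec (LabGraph.mfMatrix ends β) Z) u := by
    rw [Finset.sum_congr rfl fun u _ => mul_mfMatrix_mulVec ends β u (hβ u).2 Z,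
      Finset.sum_comm]
    refine Finset.sum_congr rfl fun e' _ => ?_
    rw [Finset.sum_sub_distrib, Finset.sum_ite_eq, Finset.sum_ite_eq]
  rw [hsum, Finset.sum_image (fun a _ b _ h => hC.1 h), Finset.mul_sum]
  refine Finset.sum_congr rfl fun i _ => ?_
  rw [hβm, hβm]

/-- Chain edges have both ends on the chain. -/
theorem ends_chain_mem (hC : LabGraph.IsChain ends f e) (j : Fin m) :
    (ends (e j)).1 ∈ univ.image f ∧ (ends (e j)).2 ∈ univ.image f := by
  rcases hC.2.2 j with h | h <;> rw [h] <;>
    exact ⟨Finset.mem_image_of_mem _ (Finset.mem_univ _),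
      Finset.mem_image_of_mem _ (Finset.mem_univ _)⟩

variable (hβ : LabGraph.IsMultFn ends β) (hC : LabGraph.IsChain ends f e)
  (hβm : ∀ i, β (f i) = m) (hα : ∀ i, LabGraph.mfMatrix ends β (f i) (f i) = -2)
  (hm : 0 < m) (S : Finset V) (h0 : f 0 ∈ S)
  (hS : ∀ e' : E, ((ends e').1 ∈ S ↔ (ends e').2 ∉ S) ↔ e' = e ⟨0, hm⟩)

include hβ hC hβm hα h0 hS

theorem mulVec_pot_of_not_chain (v : V) (hv : v ∉ univ.image f) :
    (Matrix.mulVec (LabGraph.mfMatrix ends β) (pot β f S)) v = 0 := by
  have hβv : β v ≠ 0 := (hβ v).1.ne'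
  apply mul_left_cancel₀ hβv
  rw [mul_mfMatrix_mulVec ends β v (hβ v).2, mul_zero]
  refine Finset.sum_eq_zero fun e' _ => ?_
  by_cases he' : e' ∈ univ.image e
  · obtain ⟨j, -, rfl⟩ := Finset.mem_image.mp he'
    have := ends_chain_mem ends f e hC j
    have h1 : (ends (e j)).1 ≠ v := fun h => hv (h ▸ this.1)
    have h2 : (ends (e j)).2 ≠ v := fun h => hv (h ▸ this.2)
    simp [h1, h2]
  · rw [flow_pot_eq_zero ends β f e hβ hC hβm hα hm S h0 hS e' he']
    simp

theorem mulVec_pot_zero :
    (Matrix.mulVec (LabGraph.mfMatrix ends β) (pot β f S)) (f 0) = 1 := by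
  have hm0 : (m : ℤ) ≠ 0 := by exact_mod_cast hm.ne'
  apply mul_left_cancel₀ hm0
  have key := mul_mfMatrix_mulVec ends β (f 0) (hβ _).2 (pot β f S)
  rw [hβm] at key
  rw [key, Finset.sum_eq_single (e ⟨0, hm⟩)]
  · have hcs : (⟨0, hm⟩ : Fin m).castSucc = 0 := rfl
    have h3 := hC.2.2 ⟨0, hm⟩
    have h4 := castSucc_ne_succ_apply ends f e hC ⟨0, hm⟩
    rw [hcs] at h3 h4
    rw [flow_term_of_joins ends β h4 h3, pot_chain β f hC.1, pot_chain β f hC.1, hβm, hβm]
    simp
  · intro e' _ hne
    by_cases he' : e' ∈ univ.image e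
    · obtain ⟨j, -, rfl⟩ := Finset.mem_image.mp he'
      have hj : j ≠ ⟨0, hm⟩ := fun h => hne (h ▸ rfl)
      have hj' : j.val ≠ 0 := fun h => hj (Fin.ext h)
      have h1 : f j.castSucc ≠ f 0 := by
        intro h
        have := congrArg Fin.val (hC.1 h)
        simp at this
        exact hj' this
      have h2 : f j.succ ≠ f 0 := fun h => Fin.succ_ne_zero j (hC.1 h)
      rcases hC.2.2 j with h | h <;> simp [h, h1, h2]
    · rw [flow_pot_eq_zero ends β f e hβ hC hβm hα hm S h0 hS e' he']
      simp
  · intro h
    exact absurd (Finset.mem_univ _) h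

theorem mulVec_pot_last :
    (Matrix.mulVec (LabGraph.mfMatrix ends β) (pot β f S)) (f (Fin.last m)) = -1 := by
  have hm0 : (m : ℤ) ≠ 0 := by exact_mod_cast hm.ne'
  apply mul_left_cancel₀ hm0
  have key := mul_mfMatrix_mulVec ends β (f (Fin.last m)) (hβ _).2 (pot β f S)
  rw [hβm] at key
  have hm1 : m - 1 < m := by omega
  rw [key, Finset.sum_eq_single (e ⟨m - 1, hm1⟩)]
  · have hs : (⟨m - 1, hm1⟩ : Fin m).succ = Fin.last m := by
      ext
      simp
      omega
    have h3 := hC.2.2 ⟨m - 1, hm1⟩
    have h4 := castSucc_ne_succ_apply ends f e hC ⟨m - 1, hm1⟩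
    rw [hs] at h3 h4
    rw [flow_term_of_joins ends β h4.symm h3.symm, pot_chain β f hC.1, pot_chain β f hC.1,
      hβm, hβm]
    simp
    have : ((m - 1 : ℕ) : ℤ) = (m : ℤ) - 1 := by
      rw [Nat.cast_sub hm]
      simp
    rw [this]
    ring
  · intro e' _ hne
    by_cases he' : e' ∈ univ.image e
    · obtain ⟨j, -, rfl⟩ := Finset.mem_image.mp he'
      have hj : j ≠ ⟨m - 1, hm1⟩ := fun h => hne (h ▸ rfl)
      have hj' : j.val ≠ m - 1 := fun h => hj (Fin.ext h)
      have h1 : f j.castSucc ≠ f (Fin.last m) := by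
        intro h
        have := congrArg Fin.val (hC.1 h)
        simp at this
        have := j.isLt
        omega
      have h2 : f j.succ ≠ f (Fin.last m) := by
        intro h
        have := congrArg Fin.val (hC.1 h)
        simp at this
        omega
      rcases hC.2.2 j with h | h <;> simp [h, h1, h2]
    · rw [flow_pot_eq_zero ends β f e hβ hC hβm hα hm S h0 hS e' he']
      simp
  · intro h
    exact absurd (Finset.mem_univ _) h

omit h0 hS in
theorem mulVec_pot_interior (i : Fin (m + 1)) (hi0 : i ≠ 0) (hil : i ≠ Fin.last m) :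
    (Matrix.mulVec (LabGraph.mfMatrix ends β) (pot β f S)) (f i) = 0 := by
  obtain ⟨j, rfl⟩ := Fin.exists_succ_eq.mpr hi0
  have hj : j.val + 1 < m := by
    have h1 := j.isLt
    have h2 : j.val + 1 ≠ m := by
      intro h
      apply hil
      ext
      simp [h]
    omega
  rw [interior_mulVec ends β f e hβ hC hβm hα j hj, pot_chain β f hC.1, pot_chain β f hC.1,
    pot_chain β f hC.1]
  simp
  ring

/-- `liftAt` carries the image of the contracted matrix into the image of the matrix. -/
theorem exists_mulVec_eq_liftAt_ctr (z' : DualGr.CtrVert ends (univ.image e) → ℤ) :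
    ∃ z : V → ℤ, Matrix.mulVec (LabGraph.mfMatrix ends β) z =
      LabGraph.liftAt ends (univ.image e) (f 0)
        (Matrix.mulVec (LabGraph.mfMatrix (DualGr.ctrEnds ends (univ.image e))
          (LabGraph.ctrFn ends (univ.image e) β)) z') := by
  set Z : V → ℤ := fun u => z' (DualGr.ctrMk ends (univ.image e) u) with hZ
  set r : ℤ := (Matrix.mulVec (LabGraph.mfMatrix ends β) Z) (f (Fin.last m)) with hr
  have hZint : ∀ i : Fin (m + 1), i ≠ 0 → i ≠ Fin.last m →
      (Matrix.mulVec (LabGraph.mfMatrix ends β) Z) (f i) = 0 := by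
    intro i hi0 hil
    obtain ⟨j, rfl⟩ := Fin.exists_succ_eq.mpr hi0
    have hj : j.val + 1 < m := by
      have h1 := j.isLt
      have h2 : j.val + 1 ≠ m := by
        intro h
        apply hil
        ext
        simp [h]
      omega
    rw [interior_mulVec ends β f e hβ hC hβm hα j hj]
    simp only [hZ, ctrMk_chain ends f e hC]
    ring
  have h0l : (0 : Fin (m + 1)) ≠ Fin.last m := by
    intro h
    have := congrArg Fin.val h
    simp at this
    omega
  refine ⟨Z + r • pot β f S, funext fun v => ?_⟩
  rw [Matrix.mulVec_add, Matrix.mulVec_smul, Pi.add_apply, Pi.smul_apply, smul_eq_mul]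
  by_cases hv : v ∈ univ.image f
  · obtain ⟨i, -, rfl⟩ := Finset.mem_image.mp hv
    rw [liftAt_chain ends f e hC]
    by_cases hi0 : i = 0
    · subst hi0
      rw [if_pos rfl, mulVec_pot_zero ends β f e hβ hC hβm hα hm S h0 hS, mul_one,
        ctr_mulVec_chain ends β f e hβ hC hβm z',
        Finset.sum_eq_add_of_mem 0 (Fin.last m) (Finset.mem_univ _) (Finset.mem_univ _) h0l]
      intro c _ hc
      exact hZint c hc.1 hc.2
    · rw [if_neg hi0]
      by_cases hil : i = Fin.last m
      · subst hil
        rw [mulVec_pot_last ends β f e hβ hC hβm hα hm S h0 hS]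
        ring
      · rw [hZint i hi0 hil, mulVec_pot_interior ends β f e hβ hC hβm hα S i hi0 hil]
        ring
  · rw [liftAt_not_chain ends f e hC _ v hv, mulVec_pot_of_not_chain ends β f e hβ hC hβm hα hm S
      h0 hS v hv, mul_zero, add_zero, ctr_mulVec_of_not_chain ends β f e hβ hC hβm z' v hv]

omit hβ hα h0 hS in
/-- `β (liftAt x) = β' x`. -/
theorem betaHom_liftAt (x : DualGr.CtrVert ends (univ.image e) → ℤ) :
    LabGraph.betaHom β (LabGraph.liftAt ends (univ.image e) (f 0) x) =
      LabGraph.betaHom (LabGraph.ctrFn ends (univ.image e) β) x := by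
  classical
  have hO := oneClass_of_isChain ends f e hC
  have hconst := hconst_of_hβm β f hβm
  rw [betaHom_apply, betaHom_apply]
  rw [← Finset.sum_fiberwise (s := univ) (g := DualGr.ctrMk ends (univ.image e))]
  refine Finset.sum_congr rfl fun c _ => ?_
  obtain ⟨v, rfl⟩ := DualGr.ctrMk_surjective ends (univ.image e) c
  rw [ctrFn_ctrMk hO β hconst]
  by_cases hv : v ∈ univ.image f
  · obtain ⟨i, -, rfl⟩ := Finset.mem_image.mp hv
    rw [Finset.sum_eq_single (f 0)]
    · rw [liftAt_chain ends f e hC, if_pos rfl, ctrMk_chain ends f e hC i, hβm, hβm]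
    · intro w hw hw0
      have hw' : DualGr.ctrMk ends (univ.image e) w = DualGr.ctrMk ends (univ.image e) (f i) :=
        (Finset.mem_filter.mp hw).2
      have hwL : w ∈ univ.image f := by
        rcases (hO _ _).mp hw' with h | h
        · exact h ▸ hv
        · exact h.1
      obtain ⟨k, -, rfl⟩ := Finset.mem_image.mp hwL
      have hk : k ≠ 0 := fun h => hw0 (h ▸ rfl)
      rw [liftAt_chain ends f e hC, if_neg hk, zero_mul]
    · intro h
      exfalso
      apply h
      rw [Finset.mem_filter]
      exact ⟨Finset.mem_univ _, (ctrMk_chain ends f e hC i).symm⟩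
  · rw [Finset.sum_eq_single v]
    · rw [liftAt_not_chain ends f e hC x v hv]
    · intro w hw hwv
      have hw' : DualGr.ctrMk ends (univ.image e) w = DualGr.ctrMk ends (univ.image e) v :=
        (Finset.mem_filter.mp hw).2
      rcases (hO _ _).mp hw' with h | h
      · exact absurd h hwv
      · exact absurd h.2 hv
    · intro h
      exfalso
      apply h
      rw [Finset.mem_filter]
      exact ⟨Finset.mem_univ _, rfl⟩

/-- The last row of the matrix on a vector supported on the chain minus its last vertex. -/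
theorem last_mulVec_of_support (z : V → ℤ) (hz : ∀ v, v ∉ univ.image f → z v = 0)
    (hzl : z (f (Fin.last m)) = 0) :
    (Matrix.mulVec (LabGraph.mfMatrix ends β) z) (f (Fin.last m)) =
      z (f (⟨m - 1, by omega⟩ : Fin m).castSucc) := by
  have hm0 : (m : ℤ) ≠ 0 := by exact_mod_cast hm.ne'
  apply mul_left_cancel₀ hm0
  have key := mul_mfMatrix_mulVec ends β (f (Fin.last m)) (hβ _).2 z
  rw [hβm] at key
  have hm1 : m - 1 < m := by omega
  have hl0 : Fin.last m ≠ 0 := by
    intro h
    have := congrArg Fin.val h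
    simp at this
    omega
  rw [key, Finset.sum_eq_single (e ⟨m - 1, hm1⟩)]
  · have hs : (⟨m - 1, hm1⟩ : Fin m).succ = Fin.last m := by
      ext
      simp
      omega
    have h3 := hC.2.2 ⟨m - 1, hm1⟩
    have h4 := castSucc_ne_succ_apply ends f e hC ⟨m - 1, hm1⟩
    rw [hs] at h3 h4
    rw [flow_term_of_joins ends β h4.symm h3.symm, hzl, hβm, hβm]
    ring
  · intro e' _ hne
    by_cases he' : e' ∈ univ.image e
    · obtain ⟨j, -, rfl⟩ := Finset.mem_image.mp he'
      have hj : j ≠ ⟨m - 1, hm1⟩ := fun h => hne (h ▸ rfl)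
      have hj' : j.val ≠ m - 1 := fun h => hj (Fin.ext h)
      have h1 : f j.castSucc ≠ f (Fin.last m) := by
        intro h
        have := congrArg Fin.val (hC.1 h)
        simp at this
        have := j.isLt
        omega
      have h2 : f j.succ ≠ f (Fin.last m) := by
        intro h
        have := congrArg Fin.val (hC.1 h)
        simp at this
        omega
      rcases hC.2.2 j with h | h <;> simp [h, h1, h2]
    · have hnotD : ∀ j : Fin m, e' ≠ e j := fun j h =>
        he' (h ▸ Finset.mem_image_of_mem _ (Finset.mem_univ _))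
      by_cases htouch : (((ends e').1 = f (Fin.last m) ∧ (ends e').2 ≠ f (Fin.last m)) ∨
          ((ends e').2 = f (Fin.last m) ∧ (ends e').1 ≠ f (Fin.last m)))
      · -- the other end is off the chain
        have hlS : f (Fin.last m) ∉ S := not_mem_cut' ends f e hC hm S h0 hS _ hl0
        have hnc := (not_congr (hS e')).mpr (hnotD ⟨0, hm⟩)
        have hother : ∀ w : V, w ≠ f (Fin.last m) →
            (((ends e').1 = w ∧ (ends e').2 ≠ w) ∨ ((ends e').2 = w ∧ (ends e').1 ≠ w)) →
            ((ends e').1 = w ∧ (ends e').2 = f (Fin.last m) ∨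
              (ends e').2 = w ∧ (ends e').1 = f (Fin.last m)) → w ∉ univ.image f := by
          intro w hwl hwt hwe hw
          obtain ⟨i, -, rfl⟩ := Finset.mem_image.mp hw
          by_cases hi0 : i = 0
          · subst hi0
            rcases hwe with h | h
            · rw [h.1, h.2] at hnc
              tauto
            · rw [h.1, h.2] at hnc
              tauto
          · obtain ⟨j, rfl⟩ := Fin.exists_succ_eq.mpr hi0
            have hj : j.val + 1 < m := by
              have h1 := j.isLt
              have h2 : j.val + 1 ≠ m := by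
                intro h
                apply hwl
                congr 1
                ext
                simp [h]
              omega
            rcases interior_edges ends β f e hβ hC hβm hα j hj e' hwt with h | h
            · exact hnotD _ h
            · exact hnotD _ h
        have hflow : flow ends β z e' = 0 := by
          rcases htouch with h | h
          · have hw := hother (ends e').2 h.2 (Or.inr ⟨rfl, h.1 ▸ fun h' => h.2 h'.symm⟩)
              (Or.inr ⟨rfl, h.1⟩)
            simp only [flow, hz _ hw, h.1, hzl]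
            ring
          · have hw := hother (ends e').1 h.2 (Or.inl ⟨rfl, h.1 ▸ fun h' => h.2 h'.symm⟩)
              (Or.inl ⟨rfl, h.1⟩)
            simp only [flow, hz _ hw, h.1, hzl]
            ring
        simp [hflow]
      · exact flow_term_eq_zero_of_not_touch ends β _ e' htouch z
  · intro h
    exact absurd (Finset.mem_univ _) h

omit hβ hC hβm hα h0 hS in
theorem max_second_diff (a : ℤ) :
    max (a + 1) 0 - 2 * max a 0 + max (a - 1) 0 = if a = 0 then 1 else 0 := by
  split_ifs with h
  · subst h; simp
  · rcases lt_or_gt_of_ne h with h | h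
    · rw [max_eq_right (by omega), max_eq_right (by omega), max_eq_right (by omega)]
      ring
    · rw [max_eq_left (by omega), max_eq_left (by omega), max_eq_left (by omega)]
      ring

/-- Any vector can be corrected by an element of the image of the matrix so as to vanish on
`f 1, …, f m`. -/
theorem exists_mulVec_eq_on_chain (y : V → ℤ) :
    ∃ z : V → ℤ, ∀ i : Fin (m + 1), i ≠ 0 →
      (Matrix.mulVec (LabGraph.mfMatrix ends β) z) (f i) = y (f i) := by
  classical
  set t : ℕ → ℤ := fun i => ∑ k : Fin (m + 1), y (f k) * max (((k.val : ℕ) : ℤ) - (i : ℤ)) 0 with ht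
  set zs : V → ℤ := fun v => if hv : ∃ i : Fin (m + 1), f i = v then t (hv.choose.val) else 0
    with hzs
  have zs_chain : ∀ i : Fin (m + 1), zs (f i) = t i.val := by
    intro i
    have hv : ∃ i' : Fin (m + 1), f i' = f i := ⟨i, rfl⟩
    simp only [hzs]
    rw [dif_pos hv]
    have := hC.1 hv.choose_spec
    rw [this]
  have zs_not : ∀ v, v ∉ univ.image f → zs v = 0 := by
    intro v hv
    have hv' : ¬ ∃ i : Fin (m + 1), f i = v := by
      rintro ⟨i, rfl⟩
      exact hv (Finset.mem_image_of_mem _ (Finset.mem_univ _))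
    simp only [hzs]
    rw [dif_neg hv']
  have t_last : t m = 0 := by
    simp only [ht]
    refine Finset.sum_eq_zero fun k _ => ?_
    have := k.isLt
    rw [max_eq_right (by omega), mul_zero]
  refine ⟨zs, fun i hi0 => ?_⟩
  by_cases hil : i = Fin.last m
  · subst hil
    rw [last_mulVec_of_support ends β f e hβ hC hβm hα hm S h0 hS zs zs_not
      (by rw [zs_chain]; exact t_last), zs_chain]
    simp only [ht, Fin.val_castSucc]
    rw [Finset.sum_eq_single (Fin.last m)]
    · simp only [Fin.val_last]
      have : ((m : ℕ) : ℤ) - ((m - 1 : ℕ) : ℤ) = 1 := by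
        rw [Nat.cast_sub hm]
        simp
      rw [this]
      simp
    · intro k _ hk
      have hk' : k.val ≠ m := fun h => hk (Fin.ext (by simp [h]))
      have := k.isLt
      rw [max_eq_right (by omega), mul_zero]
    · intro h
      exact absurd (Finset.mem_univ _) h
  · obtain ⟨j, rfl⟩ := Fin.exists_succ_eq.mpr hi0
    have hj : j.val + 1 < m := by
      have h1 := j.isLt
      have h2 : j.val + 1 ≠ m := by
        intro h
        apply hil
        ext
        simp [h]
      omega
    rw [interior_mulVec ends β f e hβ hC hβm hα j hj, zs_chain, zs_chain, zs_chain]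
    simp only [ht, Fin.val_castSucc, Fin.val_succ]
    rw [Finset.mul_sum, ← Finset.sum_sub_distrib, ← Finset.sum_add_distrib]
    rw [Finset.sum_eq_single j.succ]
    · have := max_second_diff (((j.succ.val : ℕ) : ℤ) - ((j.val + 1 : ℕ) : ℤ))
      simp only [Fin.val_succ, Nat.cast_add, Nat.cast_one] at this ⊢
      have h3 : ((j.val : ℤ) + 1 - ((j.val : ℤ) + 1)) = 0 := by ring
      rw [h3] at this
      simp only [if_true] at this
      have e1 : ((j.val : ℤ) + 1 - (j.val : ℤ)) = 0 + 1 := by ring
      have e2 : ((j.val : ℤ) + 1 - ((j.val : ℤ) + 1 + 1)) = 0 - 1 := by ring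
      rw [e1, e2, h3]
      linear_combination y (f j.succ) * this
    · intro k _ hk
      have hk' : k.val ≠ j.val + 1 := fun h => hk (Fin.ext (by simp [h]))
      have := max_second_diff (((k.val : ℕ) : ℤ) - ((j.val + 1 : ℕ) : ℤ))
      have hne : ¬ (((k.val : ℕ) : ℤ) - ((j.val + 1 : ℕ) : ℤ) = 0) := by
        push_cast
        omega
      rw [if_neg hne] at this
      push_cast at this ⊢
      have e1 : ((k.val : ℤ) - (j.val : ℤ)) = (k.val : ℤ) - ((j.val : ℤ) + 1) + 1 := by ring
      have e2 : ((k.val : ℤ) - ((j.val : ℤ) + 1 + 1)) = (k.val : ℤ) - ((j.val : ℤ) + 1) - 1 := by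
        ring
      rw [e1, e2]
      linear_combination y (f k) * this
    · intro h
      exact absurd (Finset.mem_univ _) h

end Chain2






end Groth.Agent.Lib.LabGraphCtr
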