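import Groth.Prelude.Def_W4c2conddiscmodels
import Mathlib

/-!
# Trees in the `LabGraph` encoding, through the incidence matrix

`incR R ends : Matrix V E R` is the oriented incidence matrix.  For a connected multigraph its image
is the kernel of the sum of coordinates; forests are characterised by injectivity mod 2.
-/

set_option autoImplicit false
set_option linter.unusedSectionVars false
set_option linter.unusedSimpArgs false
universe u
open Finset

namespace Groth.Agent.Lib.LabGraphTree

variable {V E : Type u} [Fintype V] [Fintype E] [DecidableEq V] [DecidableEq E]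

/-- The oriented incidence matrix with coefficients in `R`. -/
def incR (R : Type*) [CommRing R] (ends : E → V × V) : Matrix V E R :=
  fun v e => (if (ends e).2 = v then 1 else 0) - (if (ends e).1 = v then 1 else 0)

section Ring

variable (R : Type*) [CommRing R] (ends : E → V × V)

theorem incR_mulVec_apply (γ : E → R) (v : V) :
    (Matrix.mulVec (incR R ends) γ) v =
      ∑ e, ((if (ends e).2 = v then γ e else 0) - (if (ends e).1 = v then γ e else 0)) := by
  simp only [Matrix.mulVec, dotProduct, incR]
  refine Finset.sum_congr rfl fun e _ => ?_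
  split_ifs <;> ring

theorem incR_mulVec_single (e : E) :
    Matrix.mulVec (incR R ends) (Pi.single e 1) =
      Pi.single (ends e).2 1 - Pi.single (ends e).1 1 := by
  funext v
  rw [Matrix.mulVec_single_one]
  simp only [Matrix.col_apply, incR, Pi.sub_apply, Pi.single_apply]
  congr 1 <;> simp only [eq_comm]

theorem sum_incR_mulVec (γ : E → R) : ∑ v, (Matrix.mulVec (incR R ends) γ) v = 0 := by
  simp only [incR_mulVec_apply]
  rw [Finset.sum_comm]
  refine Finset.sum_eq_zero fun e _ => ?_
  rw [Finset.sum_sub_distrib, Finset.sum_ite_eq, Finset.sum_ite_eq]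
  simp

theorem exists_mulVec_eq_of_connected (hG : LabGraph.Connected ends) (v w : V) :
    ∃ γ : E → R, Matrix.mulVec (incR R ends) γ = Pi.single w 1 - Pi.single v 1 := by
  have := hG.2 v w
  induction this with
  | refl => exact ⟨0, by simp⟩
  | @tail b c _ hbc ih =>
    obtain ⟨γ, hγ⟩ := ih
    obtain ⟨e, he | he⟩ := hbc
    · refine ⟨γ + Pi.single e 1, ?_⟩
      rw [Matrix.mulVec_add, hγ, incR_mulVec_single, he]
      abel
    · refine ⟨γ - Pi.single e 1, ?_⟩
      rw [Matrix.mulVec_sub, hγ, incR_mulVec_single, he]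
      abel

theorem exists_mulVec_eq_of_sum_eq_zero (hG : LabGraph.Connected ends) (x : V → R)
    (hx : ∑ v, x v = 0) : ∃ γ : E → R, Matrix.mulVec (incR R ends) γ = x := by
  obtain ⟨v₀⟩ := hG.1
  choose γ hγ using fun v => exists_mulVec_eq_of_connected R ends hG v₀ v
  refine ⟨∑ v, x v • γ v, ?_⟩
  rw [Matrix.mulVec_sum]
  simp only [Matrix.mulVec_smul, hγ]
  funext u
  simp only [Finset.sum_apply, Pi.smul_apply, Pi.sub_apply, Pi.single_apply, smul_eq_mul, mul_sub,
    Finset.sum_sub_distrib, mul_ite, mul_one, mul_zero]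
  rw [Finset.sum_ite_eq univ u x]
  simp only [Finset.mem_univ, if_true]
  by_cases hu : u = v₀
  · rw [hu]
    simp only [if_true, hx, sub_zero]
  · simp only [if_neg hu, Finset.sum_const_zero, sub_zero]

end Ring

section Mod2

variable (ends : E → V × V)

/-- indicator vector of an edge set, mod 2 -/
def ind (C : Finset E) : E → ZMod 2 := fun e => if e ∈ C then 1 else 0

theorem incR_mulVec_ind (C : Finset E) (v : V) :
    (Matrix.mulVec (incR (ZMod 2) ends) (ind C)) v = (LabGraph.endCount ends C v : ZMod 2) := by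
  have hsum : ∀ f : E → ZMod 2, ∑ e ∈ C, f e = ∑ e, if e ∈ C then f e else 0 := fun f => by
    rw [Finset.sum_ite_mem, Finset.univ_inter]
  rw [incR_mulVec_apply, LabGraph.endCount, Nat.cast_sum, hsum]
  refine Finset.sum_congr rfl fun e _ => ?_
  by_cases he : e ∈ C <;> by_cases h1 : (ends e).1 = v <;> by_cases h2 : (ends e).2 = v <;>
    simp [ind, he, h1, h2] <;> decide

theorem mulVec_ind_eq_zero_iff (C : Finset E) :
    Matrix.mulVec (incR (ZMod 2) ends) (ind C) = 0 ↔
      ∀ v, Even (LabGraph.endCount ends C v) := by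
  constructor
  · intro h v
    rw [← ZMod.natCast_eq_zero_iff_even, ← incR_mulVec_ind, h]
    rfl
  · intro h
    funext v
    rw [incR_mulVec_ind, Pi.zero_apply, ZMod.natCast_eq_zero_iff_even]
    exact h v

theorem exists_isCircuit_of_even (C : Finset E) (hne : C.Nonempty)
    (hev : ∀ v, Even (LabGraph.endCount ends C v)) :
    ∃ C' : Finset E, LabGraph.IsCircuit ends C' := by
  induction C using Finset.strongInduction with
  | H C ih =>
    by_contra hcon
    apply hcon
    refine ⟨C, hne, hev, fun C' hC' hne' => ?_⟩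
    by_contra hv
    have hev' : ∀ v, Even (LabGraph.endCount ends C' v) := fun v => by
      by_contra h
      exact hv ⟨v, h⟩
    exact hcon (ih C' hC' hne' hev')

theorem isForest_iff :
    DualGr.IsForest ends ↔
      ∀ γ : E → ZMod 2, Matrix.mulVec (incR (ZMod 2) ends) γ = 0 → γ = 0 := by
  constructor
  · intro hF γ hγ
    by_contra hne
    set C : Finset E := univ.filter fun e => γ e ≠ 0 with hC
    have hγC : γ = ind C := by
      funext e
      have h01 : ∀ a : ZMod 2, a = 0 ∨ a = 1 := by decide
      simp only [ind, hC, mem_filter, mem_univ, true_and]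
      rcases h01 (γ e) with h | h <;> simp [h]
    have hCne : C.Nonempty := by
      by_contra hempty
      rw [Finset.not_nonempty_iff_eq_empty] at hempty
      apply hne
      rw [hγC, hempty]
      funext e
      simp [ind]
    rw [hγC, mulVec_ind_eq_zero_iff] at hγ
    obtain ⟨C', hC'⟩ := exists_isCircuit_of_even ends C hCne hγ
    exact hF C' hC'
  · intro hinj C hC
    have h0 := hinj (ind C) ((mulVec_ind_eq_zero_iff ends C).2 hC.2.1)
    obtain ⟨e, he⟩ := hC.1
    have := congrFun h0 e
    simp [ind, he] at this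

theorem fst_ne_snd_of_isForest (hF : DualGr.IsForest ends) (e : E) :
    (ends e).1 ≠ (ends e).2 := by
  intro h
  have h0 := (isForest_iff ends).1 hF (Pi.single e 1) (by
    rw [incR_mulVec_single, h, sub_self])
  have := congrFun h0 e
  simp at this

theorem eq_of_parallel_of_isForest (hF : DualGr.IsForest ends) (e e' : E)
    (h : ends e' = ends e ∨ ends e' = ((ends e).2, (ends e).1)) : e = e' := by
  by_contra hne
  have h0 := (isForest_iff ends).1 hF (Pi.single e 1 + Pi.single e' 1) (by
    rw [Matrix.mulVec_add, incR_mulVec_single, incR_mulVec_single]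
    rcases h with h | h
    · rw [h]
      funext v
      exact CharTwo.add_self_eq_zero
        ((Pi.single (ends e).2 (1 : ZMod 2) - Pi.single (ends e).1 1 : V → ZMod 2) v)
    · rw [h]
      abel)
  have := congrFun h0 e
  simp [Pi.single_apply, hne] at this

theorem card_add_one_of_isTree (hT : DualGr.IsTree ends) :
    Fintype.card E + 1 = Fintype.card V := by
  obtain ⟨hG, hF⟩ := hT
  have : Nonempty V := hG.1
  let f : (E → ZMod 2) →ₗ[ZMod 2] (V → ZMod 2) := Matrix.mulVecLin (incR (ZMod 2) ends)
  let s : (V → ZMod 2) →ₗ[ZMod 2] ZMod 2 := ∑ v, LinearMap.proj v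
  have hs : ∀ x, s x = ∑ v, x v := fun x => by simp [s, LinearMap.sum_apply]
  have hinj : Function.Injective f := by
    rw [← LinearMap.ker_eq_bot, LinearMap.ker_eq_bot']
    intro γ hγ
    exact (isForest_iff ends).1 hF γ hγ
  have hrange : LinearMap.range f = LinearMap.ker s := by
    ext x
    constructor
    · rintro ⟨γ, rfl⟩
      rw [LinearMap.mem_ker, hs]
      exact sum_incR_mulVec _ ends γ
    · intro hx
      rw [LinearMap.mem_ker, hs] at hx
      obtain ⟨γ, hγ⟩ := exists_mulVec_eq_of_sum_eq_zero _ ends hG x hx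
      exact ⟨γ, hγ⟩
  have hsurj : Function.Surjective s := by
    intro z
    obtain ⟨v₀⟩ := hG.1
    exact ⟨Pi.single v₀ z, by rw [hs]; simp⟩
  have h1 := LinearMap.finrank_range_add_finrank_ker s
  have h2 := LinearMap.finrank_range_of_inj hinj
  rw [LinearMap.range_eq_top.2 hsurj, finrank_top, Module.finrank_self, ← hrange, h2,
    Module.finrank_fintype_fun_eq_card, Module.finrank_fintype_fun_eq_card] at h1
  omega

end Mod2

section Reduced

variable (R : Type*) [CommRing R] (ends : E → V × V)

/-- The reduced incidence matrix (row `v₀` deleted), made square through a map `q` from the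
remaining vertices to the edges. -/
def redInc (v₀ : V) (q : {v : V // v ≠ v₀} → E) :
    Matrix {v : V // v ≠ v₀} {v : V // v ≠ v₀} R :=
  (incR R ends).submatrix (fun i => i.1) q

theorem redInc_mulVec_comp (v₀ : V) (q : {v : V // v ≠ v₀} ≃ E) (γ : E → R)
    (i : {v : V // v ≠ v₀}) :
    (Matrix.mulVec (redInc R ends v₀ q) (γ ∘ q)) i = (Matrix.mulVec (incR R ends) γ) i.1 := by
  simp only [redInc, Matrix.mulVec, dotProduct, Matrix.submatrix_apply, Function.comp]
  exact Equiv.sum_comp q (fun e => incR R ends i.1 e * γ e)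

theorem redInc_mulVec_surjective (hG : LabGraph.Connected ends) (v₀ : V)
    (q : {v : V // v ≠ v₀} ≃ E) : Function.Surjective (Matrix.mulVec (redInc R ends v₀ q)) := by
  intro y
  let x : V → R := fun v => if h : v = v₀ then -∑ i, y i else y ⟨v, h⟩
  have hx : ∑ v, x v = 0 := by
    rw [Fintype.sum_eq_add_sum_subtype_ne _ v₀]
    have h1 : x v₀ = -∑ i, y i := by simp [x]
    have h2 : ∀ i : {v : V // v ≠ v₀}, x i.1 = y i := fun i => by simp [x, i.2]
    rw [h1, Finset.sum_congr rfl fun i _ => h2 i]
    ring
  obtain ⟨γ, hγ⟩ := exists_mulVec_eq_of_sum_eq_zero R ends hG x hx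
  refine ⟨γ ∘ q, ?_⟩
  funext i
  rw [redInc_mulVec_comp, hγ]
  simp [x, i.2]

theorem isUnit_det_redInc (hG : LabGraph.Connected ends) (v₀ : V)
    (q : {v : V // v ≠ v₀} ≃ E) : IsUnit (redInc R ends v₀ q).det :=
  (Matrix.isUnit_iff_isUnit_det _).1
    (Matrix.mulVec_surjective_iff_isUnit.1 (redInc_mulVec_surjective R ends hG v₀ q))

theorem isForest_of_connected_of_equiv (hG : LabGraph.Connected ends) (v₀ : V)
    (q : {v : V // v ≠ v₀} ≃ E) : DualGr.IsForest ends := by
  rw [isForest_iff]
  intro γ hγ
  have hunit := Matrix.mulVec_surjective_iff_isUnit.1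
    (redInc_mulVec_surjective (ZMod 2) ends hG v₀ q)
  have hinj := Matrix.mulVec_injective_iff_isUnit.2 hunit
  have h0 : Matrix.mulVec (redInc (ZMod 2) ends v₀ q) (γ ∘ q) = 0 := by
    funext i
    rw [redInc_mulVec_comp, hγ]
    rfl
  have h1 := hinj (h0.trans (Matrix.mulVec_zero _).symm)
  funext e
  have := congrFun h1 (q.symm e)
  simpa using this

theorem det_redInc_eq_zero_of_not_connected (hG : ¬ LabGraph.Connected ends) (v₀ : V)
    (q : {v : V // v ≠ v₀} → E) : (redInc ℤ ends v₀ q).det = 0 := by
  classical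
  rw [← Matrix.exists_vecMul_eq_zero_iff]
  have hex : ∃ u, ¬ Relation.ReflTransGen (LabGraph.Adj ends) v₀ u := by
    by_contra hall
    simp only [not_exists, not_not] at hall
    apply hG
    refine ⟨⟨v₀⟩, fun v w => ?_⟩
    have hsymm : ∀ a b, Relation.ReflTransGen (LabGraph.Adj ends) a b →
        Relation.ReflTransGen (LabGraph.Adj ends) b a := by
      intro a b h
      induction h with
      | refl => exact Relation.ReflTransGen.refl
      | @tail b c _ hbc ih =>
        obtain ⟨e, he⟩ := hbc
        exact Relation.ReflTransGen.head ⟨e, he.symm⟩ ih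
    exact (hsymm _ _ (hall v)).trans (hall w)
  obtain ⟨u, hu⟩ := hex
  have huv : u ≠ v₀ := by
    rintro rfl
    exact hu Relation.ReflTransGen.refl
  let c' : V → ℤ := fun v => if Relation.ReflTransGen (LabGraph.Adj ends) v₀ v then 0 else 1
  refine ⟨fun i => c' i.1, ?_, ?_⟩
  · intro h0
    have := congrFun h0 ⟨u, huv⟩
    simp [c', hu] at this
  · funext j
    simp only [Matrix.vecMul, dotProduct, redInc, Matrix.submatrix_apply, Pi.zero_apply]
    have h1 : ∑ i : {v : V // v ≠ v₀}, c' i.1 * incR ℤ ends i.1 (q j) =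
        ∑ v : V, c' v * incR ℤ ends v (q j) := by
      rw [Fintype.sum_eq_add_sum_subtype_ne (fun v => c' v * incR ℤ ends v (q j)) v₀]
      simp [c', Relation.ReflTransGen.refl]
    rw [h1]
    simp only [incR, mul_sub, mul_ite, mul_one, mul_zero, Finset.sum_sub_distrib,
      Finset.sum_ite_eq, Finset.mem_univ, if_true]
    have hiff : Relation.ReflTransGen (LabGraph.Adj ends) v₀ (ends (q j)).1 ↔
        Relation.ReflTransGen (LabGraph.Adj ends) v₀ (ends (q j)).2 :=
      ⟨fun h => h.tail ⟨q j, Or.inl rfl⟩, fun h => h.tail ⟨q j, Or.inr rfl⟩⟩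
    simp [c', hiff]

end Reduced

section Sub

variable (ends : E → V × V)

theorem card_ne_add_one (v₀ : V) : Fintype.card {v : V // v ≠ v₀} + 1 = Fintype.card V := by
  rw [← Fintype.card_option, Fintype.card_congr (Equiv.optionSubtypeNe v₀)]

theorem prod_mul_eq_prod_pow_endCount {M : Type*} [CommMonoid M] (b : V → M) (T : Finset E) :
    ∏ e ∈ T, (b (ends e).1 * b (ends e).2) = ∏ v, b v ^ LabGraph.endCount ends T v := by
  simp only [LabGraph.endCount, ← Finset.prod_pow_eq_pow_sum]
  rw [Finset.prod_comm]
  refine Finset.prod_congr rfl fun e _ => ?_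
  simp only [pow_add, Finset.prod_mul_distrib, pow_ite, pow_one, pow_zero, Finset.prod_ite_eq,
    Finset.mem_univ, if_true]

theorem endCount_eq_nbrCount (T : Finset E) (hF : DualGr.IsForest (fun e : T => ends e.1))
    (v : V) : LabGraph.endCount ends T v = LabGraph.nbrCount ends T v := by
  have hloop : ∀ e ∈ T, (ends e).1 ≠ (ends e).2 := fun e he =>
    fst_ne_snd_of_isForest _ hF ⟨e, he⟩
  have hpar : ∀ e ∈ T, ∀ e' ∈ T,
      (ends e' = ends e ∨ ends e' = ((ends e).2, (ends e).1)) → e = e' :=
    fun e he e' he' h =>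
      congrArg Subtype.val (eq_of_parallel_of_isForest _ hF ⟨e, he⟩ ⟨e', he'⟩ h)
  have h1 : LabGraph.endCount ends T v =
      (T.filter fun e => (ends e).1 = v ∨ (ends e).2 = v).card := by
    rw [Finset.card_filter, LabGraph.endCount]
    refine Finset.sum_congr rfl fun e he => ?_
    have := hloop e he
    by_cases h1 : (ends e).1 = v <;> by_cases h2 : (ends e).2 = v <;> simp [h1, h2]
    exact this (h1.trans h2.symm)
  rw [h1, LabGraph.nbrCount]
  let φ : E → V := fun e => if (ends e).1 = v then (ends e).2 else (ends e).1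
  have himg : (T.filter fun e => (ends e).1 = v ∨ (ends e).2 = v).image φ =
      univ.filter fun w : V => w ≠ v ∧ ∃ e ∈ T, ends e = (v, w) ∨ ends e = (w, v) := by
    ext w
    simp only [mem_image, mem_filter, mem_univ, true_and]
    constructor
    · rintro ⟨e, ⟨he, hinc⟩, rfl⟩
      by_cases h1 : (ends e).1 = v
      · simp only [φ, if_pos h1]
        refine ⟨fun h => hloop e he (h1.trans h.symm), e, he, Or.inl ?_⟩
        rw [← h1]
      · have h2 : (ends e).2 = v := hinc.resolve_left h1
        simp only [φ, if_neg h1]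
        refine ⟨h1, e, he, Or.inr ?_⟩
        rw [← h2]
    · rintro ⟨hwv, e, he, h | h⟩
      · refine ⟨e, ⟨he, Or.inl (by rw [h])⟩, ?_⟩
        simp [φ, h]
      · refine ⟨e, ⟨he, Or.inr (by rw [h])⟩, ?_⟩
        simp [φ, h, hwv]
  rw [← himg, Finset.card_image_of_injOn]
  intro e he e' he' hφ
  simp only [coe_filter, Set.mem_ofPred_eq] at he he'
  apply hpar e he.1 e' he'.1
  by_cases h1 : (ends e).1 = v <;> by_cases h1' : (ends e').1 = v
  · left
    simp only [φ, if_pos h1, if_pos h1'] at hφ
    exact Prod.ext (h1'.trans h1.symm) hφ.symm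
  · right
    have h2' : (ends e').2 = v := he'.2.resolve_left h1'
    simp only [φ, if_pos h1, if_neg h1'] at hφ
    exact Prod.ext hφ.symm (h2'.trans h1.symm)
  · right
    have h2 : (ends e).2 = v := he.2.resolve_left h1
    simp only [φ, if_neg h1, if_pos h1'] at hφ
    exact Prod.ext (h1'.trans h2.symm) hφ.symm
  · left
    have h2 : (ends e).2 = v := he.2.resolve_left h1
    have h2' : (ends e').2 = v := he'.2.resolve_left h1'
    simp only [φ, if_neg h1, if_neg h1'] at hφ
    exact Prod.ext hφ.symm (h2'.trans h2.symm)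

theorem det_redInc_sq (T : Finset E) [Decidable (LabGraph.IsSpanningTree ends T)] (v₀ : V)
    (q : {v : V // v ≠ v₀} ≃ ↥T) :
    (redInc ℤ (fun e : ↥T => ends e.1) v₀ q).det ^ 2 =
      if LabGraph.IsSpanningTree ends T then 1 else 0 := by
  by_cases hG : LabGraph.Connected (fun e : ↥T => ends e.1)
  · have hT : LabGraph.IsSpanningTree ends T :=
      ⟨hG, isForest_of_connected_of_equiv _ hG v₀ q⟩
    rw [if_pos hT]
    have hu := isUnit_det_redInc ℤ _ hG v₀ q
    rcases Int.isUnit_iff.1 hu with h | h <;> rw [h] <;> norm_num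
  · have hT : ¬ LabGraph.IsSpanningTree ends T := fun h => hG h.1
    rw [if_neg hT, det_redInc_eq_zero_of_not_connected _ hG v₀ q]
    norm_num

theorem card_of_isSpanningTree (T : Finset E) (hT : LabGraph.IsSpanningTree ends T) (v₀ : V) :
    T.card = Fintype.card {v : V // v ≠ v₀} := by
  have h1 := card_add_one_of_isTree _ hT
  rw [Fintype.card_coe] at h1
  have h2 := card_ne_add_one v₀
  omega

end Sub

end Groth.Agent.Lib.LabGraphTree
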