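import Groth.Agent.Lib.LabGraphTree

/-!
# Subgraphs on an edge set, connectivity criterion, existence of spanning trees avoiding an edge
-/

set_option autoImplicit false
set_option linter.unusedSectionVars false
set_option linter.unusedSimpArgs false
universe u
open Finset

namespace Groth.Agent.Lib.LabGraphTree

variable {V E : Type u} [Fintype V] [Fintype E] [DecidableEq V] [DecidableEq E]

section General

variable (R : Type*) [CommRing R] (ends : E → V × V)

/-- reachability version of `exists_mulVec_eq_of_connected` -/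
theorem exists_mulVec_eq_of_reach (v w : V)
    (h : Relation.ReflTransGen (LabGraph.Adj ends) v w) :
    ∃ γ : E → R, Matrix.mulVec (incR R ends) γ = Pi.single w 1 - Pi.single v 1 := by
  induction h with
  | refl => exact ⟨0, by simp⟩
  | @tail b c _ hbc ih =>
    obtain ⟨γ, hγ⟩ := ih
    obtain ⟨e, he | he⟩ := hbc
    · refine ⟨γ + Pi.single e 1, ?_⟩
      rw [Matrix.mulVec_add, hγ, incR_mulVec_single, he]
      abel
    · refine ⟨γ - Pi.single e 1, ?_⟩
      rw [Matrix.mulVec_sub, hγ, incR_mulVec_single, he]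
      abel

/-- the sum of `incR *ᵥ γ` over a set of vertices closed under adjacency vanishes -/
theorem sum_mulVec_of_closed (W : Finset V)
    (hW : ∀ e : E, (ends e).1 ∈ W ↔ (ends e).2 ∈ W) (γ : E → R) :
    ∑ v ∈ W, (Matrix.mulVec (incR R ends) γ) v = 0 := by
  simp only [incR_mulVec_apply]
  rw [Finset.sum_comm]
  refine Finset.sum_eq_zero fun e _ => ?_
  rw [Finset.sum_sub_distrib, Finset.sum_ite_eq, Finset.sum_ite_eq]
  by_cases h : (ends e).1 ∈ W
  · rw [if_pos h, if_pos ((hW e).1 h), sub_self]
  · rw [if_neg h, if_neg (fun h' => h ((hW e).2 h')), sub_self]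

theorem reach_symm (a b : V) (h : Relation.ReflTransGen (LabGraph.Adj ends) a b) :
    Relation.ReflTransGen (LabGraph.Adj ends) b a := by
  induction h with
  | refl => exact Relation.ReflTransGen.refl
  | @tail b c _ hbc ih =>
    obtain ⟨e, he⟩ := hbc
    exact Relation.ReflTransGen.head ⟨e, he.symm⟩ ih

/-- if `δ_w - δ_v` is in the range of the incidence matrix then `v`, `w` are joined -/
theorem reach_of_exists_mulVec [Nontrivial R] (v w : V)
    (h : ∃ γ : E → R, Matrix.mulVec (incR R ends) γ = Pi.single w 1 - Pi.single v 1) :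
    Relation.ReflTransGen (LabGraph.Adj ends) v w := by
  classical
  by_contra hvw
  obtain ⟨γ, hγ⟩ := h
  set W : Finset V := univ.filter fun u => Relation.ReflTransGen (LabGraph.Adj ends) v u with hW
  have hclosed : ∀ e : E, (ends e).1 ∈ W ↔ (ends e).2 ∈ W := by
    intro e
    simp only [hW, mem_filter, mem_univ, true_and]
    exact ⟨fun h => h.tail ⟨e, Or.inl rfl⟩, fun h => h.tail ⟨e, Or.inr rfl⟩⟩
  have h0 := sum_mulVec_of_closed R ends W hclosed γ
  rw [hγ] at h0
  have hvW : v ∈ W := by
    simp only [hW, mem_filter, mem_univ, true_and]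
    exact Relation.ReflTransGen.refl
  have hwW : w ∉ W := by
    simp only [hW, mem_filter, mem_univ, true_and]
    exact hvw
  simp only [Pi.sub_apply, Pi.single_apply, Finset.sum_sub_distrib, Finset.sum_ite_eq', hvW, hwW,
    if_true, if_false, zero_sub, neg_eq_zero] at h0
  exact one_ne_zero h0

theorem connected_of_forall_exists [Nontrivial R] (hne : Nonempty V)
    (h : ∀ x : V → R, ∑ v, x v = 0 → ∃ γ : E → R, Matrix.mulVec (incR R ends) γ = x) :
    LabGraph.Connected ends := by
  refine ⟨hne, fun v w => ?_⟩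
  apply reach_of_exists_mulVec R ends v w
  apply h
  by_cases hvw : v = w
  · simp [hvw]
  · simp [Finset.sum_sub_distrib, Pi.single_apply]

end General

section Sub2

variable (R : Type*) [CommRing R] (ends : E → V × V)

/-- Transfer: the incidence matrix of the subgraph on `T` applied to the restriction of a vector
supported on `T`. -/
theorem incR_sub_mulVec (T : Finset E) (γ : E → R) (hγ : ∀ e, e ∉ T → γ e = 0) :
    Matrix.mulVec (incR R (fun e : ↥T => ends e.1)) (fun e' : ↥T => γ e'.1) =
      Matrix.mulVec (incR R ends) γ := by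
  funext v
  simp only [Matrix.mulVec, dotProduct]
  rw [show (∑ e' : ↥T, incR R (fun e : ↥T => ends e.1) v e' * γ e'.1) =
    ∑ e' : ↥T, (fun e => incR R ends v e * γ e) e'.1 from rfl,
    Finset.sum_coe_sort T (fun e => incR R ends v e * γ e)]
  refine Finset.sum_subset (Finset.subset_univ _) fun e _ he => ?_
  rw [hγ e he, mul_zero]

/-- extension by zero of a vector on `T` -/
def extE (T : Finset E) (γ' : ↥T → R) : E → R := fun e => if h : e ∈ T then γ' ⟨e, h⟩ else 0

theorem extE_apply_mem (T : Finset E) (γ' : ↥T → R) (e' : ↥T) : extE R T γ' e'.1 = γ' e' := by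
  simp [extE, e'.2]

theorem extE_apply_not_mem (T : Finset E) (γ' : ↥T → R) (e : E) (he : e ∉ T) :
    extE R T γ' e = 0 := by
  simp [extE, he]

theorem incR_sub_mulVec' (T : Finset E) (γ' : ↥T → R) :
    Matrix.mulVec (incR R (fun e : ↥T => ends e.1)) γ' =
      Matrix.mulVec (incR R ends) (extE R T γ') := by
  rw [← incR_sub_mulVec R ends T (extE R T γ') (extE_apply_not_mem R T γ')]
  congr 1
  funext e'
  rw [extE_apply_mem]

end Sub2

section Span

variable (ends : E → V × V)

/-- `T` spans: every vector of sum zero mod 2 is the boundary of a vector supported on `T`. -/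
def Spans (T : Finset E) : Prop :=
  ∀ x : V → ZMod 2, ∑ v, x v = 0 →
    ∃ γ : E → ZMod 2, (∀ e, e ∉ T → γ e = 0) ∧ Matrix.mulVec (incR (ZMod 2) ends) γ = x

/-- `T` is independent: no nonzero cycle mod 2 supported on `T`. -/
def Indep (T : Finset E) : Prop :=
  ∀ γ : E → ZMod 2, (∀ e, e ∉ T → γ e = 0) → Matrix.mulVec (incR (ZMod 2) ends) γ = 0 → γ = 0

theorem isForest_sub_iff (T : Finset E) :
    DualGr.IsForest (fun e : ↥T => ends e.1) ↔ Indep ends T := by
  rw [isForest_iff]
  constructor
  · intro h γ hγ h0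
    have h1 := h (fun e' : ↥T => γ e'.1) (by rw [incR_sub_mulVec _ ends T γ hγ, h0])
    funext e
    by_cases he : e ∈ T
    · exact congrFun h1 ⟨e, he⟩
    · exact hγ e he
  · intro h γ' h0
    have h1 := h (extE (ZMod 2) T γ') (extE_apply_not_mem _ T γ')
      (by rw [← incR_sub_mulVec' _ ends T γ', h0])
    funext e'
    rw [← extE_apply_mem (ZMod 2) T γ' e', h1]
    rfl

theorem connected_sub_iff (T : Finset E) :
    LabGraph.Connected (fun e : ↥T => ends e.1) ↔ Nonempty V ∧ Spans ends T := by
  constructor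
  · intro hG
    refine ⟨hG.1, fun x hx => ?_⟩
    obtain ⟨γ', hγ'⟩ := exists_mulVec_eq_of_sum_eq_zero (ZMod 2) _ hG x hx
    exact ⟨extE (ZMod 2) T γ', extE_apply_not_mem _ T γ', by rw [← incR_sub_mulVec', hγ']⟩
  · rintro ⟨hne, hS⟩
    refine connected_of_forall_exists (ZMod 2) _ hne fun x hx => ?_
    obtain ⟨γ, hγ, hx'⟩ := hS x hx
    exact ⟨fun e' : ↥T => γ e'.1, by rw [incR_sub_mulVec _ ends T γ hγ, hx']⟩

theorem isSpanningTree_iff (T : Finset E) :
    LabGraph.IsSpanningTree ends T ↔ (Nonempty V ∧ Spans ends T) ∧ Indep ends T := by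
  rw [← connected_sub_iff, ← isForest_sub_iff]
  rfl

theorem ind_apply (C : Finset E) (e : E) : ind C e = if e ∈ C then 1 else 0 := rfl

theorem exists_isCircuit_subset_of_even (C : Finset E) (hne : C.Nonempty)
    (hev : ∀ v, Even (LabGraph.endCount ends C v)) :
    ∃ C' : Finset E, C' ⊆ C ∧ LabGraph.IsCircuit ends C' := by
  induction C using Finset.strongInduction with
  | H C ih =>
    by_contra hcon
    apply hcon
    refine ⟨C, Finset.Subset.refl _, hne, hev, fun C' hC' hne' => ?_⟩
    by_contra hv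
    have hev' : ∀ v, Even (LabGraph.endCount ends C' v) := fun v => by
      by_contra h
      exact hv ⟨v, h⟩
    obtain ⟨C'', hsub, hcirc⟩ := ih C' hC' hne' hev'
    exact hcon ⟨C'', hsub.trans hC'.1, hcirc⟩

/-- Removing from a spanning set an edge lying on a cycle supported in it keeps it spanning. -/
theorem spans_erase (T : Finset E) (hT : Spans ends T) (δ : E → ZMod 2)
    (hδ : ∀ e, e ∉ T → δ e = 0) (hδ0 : Matrix.mulVec (incR (ZMod 2) ends) δ = 0) (e₀ : E)
    (he₀ : δ e₀ = 1) : Spans ends (T.erase e₀) := by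
  intro x hx
  obtain ⟨γ, hγ, hγx⟩ := hT x hx
  refine ⟨γ + γ e₀ • δ, fun e he => ?_, ?_⟩
  · by_cases hee : e = e₀
    · rw [hee, Pi.add_apply, Pi.smul_apply, he₀, smul_eq_mul, mul_one]
      exact CharTwo.add_self_eq_zero _
    · have heT : e ∉ T := fun h => he (Finset.mem_erase.2 ⟨hee, h⟩)
      rw [Pi.add_apply, Pi.smul_apply, hγ e heT, hδ e heT, smul_zero, add_zero]
  · rw [Matrix.mulVec_add, Matrix.mulVec_smul, hδ0, smul_zero, add_zero, hγx]

/-- A spanning set contains a spanning tree. -/
theorem exists_isSpanningTree_subset (hne : Nonempty V) (T₀ : Finset E) (hT₀ : Spans ends T₀) :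
    ∃ T : Finset E, T ⊆ T₀ ∧ LabGraph.IsSpanningTree ends T := by
  induction T₀ using Finset.strongInduction with
  | H T₀ ih =>
    by_cases hI : Indep ends T₀
    · exact ⟨T₀, Finset.Subset.refl _, (isSpanningTree_iff ends T₀).2 ⟨⟨hne, hT₀⟩, hI⟩⟩
    · simp only [Indep, not_forall] at hI
      obtain ⟨δ, hδ, hδ0, hδne⟩ := hI
      have hex : ∃ e₀, δ e₀ = 1 := by
        by_contra hall
        apply hδne
        funext e
        have h01 : ∀ a : ZMod 2, a = 0 ∨ a = 1 := by decide
        rcases h01 (δ e) with h | h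
        · exact h
        · exact absurd ⟨e, h⟩ hall
      obtain ⟨e₀, he₀⟩ := hex
      have he₀T : e₀ ∈ T₀ := by
        by_contra h
        rw [hδ e₀ h] at he₀
        exact zero_ne_one he₀
      obtain ⟨T, hTsub, hT⟩ := ih (T₀.erase e₀) (Finset.erase_ssubset he₀T)
        (spans_erase ends T₀ hT₀ δ hδ hδ0 e₀ he₀)
      exact ⟨T, hTsub.trans (Finset.erase_subset _ _), hT⟩

end Span

end Groth.Agent.Lib.LabGraphTree
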