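import Groth.Agent.Lib.LabGraphCycle

/-!
# Fundamental circuits and tree potentials (over `ℤ`)
-/

set_option autoImplicit false
set_option linter.unusedSectionVars false
set_option linter.unusedSimpArgs false
universe u
open Finset Matrix

namespace Groth.Agent.Lib.LabGraphTree

variable {V E : Type u} [Fintype V] [Fintype E] [DecidableEq V] [DecidableEq E]
variable (ends : E → V × V)

/-- the fundamental circuit of an edge outside a spanning tree -/
theorem exists_fund_circuit (T : Finset E) (hT : LabGraph.IsSpanningTree ends T) (e : E)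
    (heT : e ∉ T) : ∃ C : Finset E, LabGraph.IsCircuit ends C ∧ e ∈ C ∧ C ⊆ insert e T := by
  obtain ⟨⟨_, hS⟩, hI⟩ := (isSpanningTree_iff ends T).1 hT
  obtain ⟨γ, hγ, hγx⟩ := hS (Matrix.mulVec (incR (ZMod 2) ends) (Pi.single e 1))
    (sum_incR_mulVec _ ends _)
  set δ : E → ZMod 2 := γ + Pi.single e 1 with hδ
  have hδ0 : Matrix.mulVec (incR (ZMod 2) ends) δ = 0 := by
    rw [hδ, Matrix.mulVec_add, hγx]
    funext u
    exact CharTwo.add_self_eq_zero _
  have hδe : δ e = 1 := by
    rw [hδ, Pi.add_apply, hγ e heT, zero_add, Pi.single_eq_same]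
  set C₀ : Finset E := univ.filter fun e' => δ e' ≠ 0 with hC₀
  have hδC : δ = ind C₀ := by
    funext e'
    have h01 : ∀ a : ZMod 2, a = 0 ∨ a = 1 := by decide
    simp only [ind, hC₀, mem_filter, mem_univ, true_and]
    rcases h01 (δ e') with h | h <;> simp [h]
  have hC₀ne : C₀.Nonempty := ⟨e, by
    simp only [hC₀, mem_filter, mem_univ, true_and, hδe]
    exact one_ne_zero⟩
  have hC₀ev : ∀ u, Even (LabGraph.endCount ends C₀ u) := by
    rw [← mulVec_ind_eq_zero_iff, ← hδC]
    exact hδ0
  have hC₀sub : C₀ ⊆ insert e T := by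
    intro e' he'
    simp only [hC₀, mem_filter, mem_univ, true_and] at he'
    rw [Finset.mem_insert]
    by_cases hee : e' = e
    · exact Or.inl hee
    · right
      by_contra h
      apply he'
      rw [hδ, Pi.add_apply, hγ e' h, zero_add, Pi.single_eq_of_ne hee]
  obtain ⟨C, hCsub, hC⟩ := exists_isCircuit_subset_of_even ends C₀ hC₀ne hC₀ev
  refine ⟨C, hC, ?_, hCsub.trans hC₀sub⟩
  by_contra heC
  have hCT : ∀ e', e' ∉ T → ind C e' = 0 := by
    intro e' he'
    rw [ind_apply]
    by_cases h : e' ∈ C
    · exfalso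
      have h1 := hC₀sub (hCsub h)
      rw [Finset.mem_insert] at h1
      rcases h1 with h1 | h1
      · exact heC (h1 ▸ h)
      · exact he' h1
    · rw [if_neg h]
  have h0 := hI (ind C) hCT ((mulVec_ind_eq_zero_iff ends C).2 hC.2.1)
  obtain ⟨e', he'⟩ := hC.1
  have := congrFun h0 e'
  rw [ind_apply, if_pos he'] at this
  exact one_ne_zero this

/-- potentials along a spanning tree, over `ℤ` -/
theorem exists_tree_potential (T : Finset E) (hT : LabGraph.IsSpanningTree ends T) (v₀ : V)
    (t : E → ℤ) :
    ∃ g : V → ℤ, g v₀ = 0 ∧ ∀ e ∈ T, g (ends e).2 - g (ends e).1 = t e := by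
  have hcard : Fintype.card {v : V // v ≠ v₀} = Fintype.card ↥T := by
    rw [Fintype.card_coe, card_of_isSpanningTree ends T hT v₀]
  let q : {v : V // v ≠ v₀} ≃ ↥T := Fintype.equivOfCardEq hcard
  have hunit : IsUnit (redInc ℤ (fun e : ↥T => ends e.1) v₀ q).det :=
    isUnit_det_redInc ℤ _ hT.1 v₀ q
  have hunitT : IsUnit (redInc ℤ (fun e : ↥T => ends e.1) v₀ q)ᵀ := by
    rw [Matrix.isUnit_iff_isUnit_det, Matrix.det_transpose]
    exact hunit
  obtain ⟨φ', hφ'⟩ := Matrix.mulVec_surjective_iff_isUnit.2 hunitT (fun i => t (q i).1)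
  refine ⟨extZ v₀ φ', extZ_apply_self v₀ φ', fun e he => ?_⟩
  have h1 := congrFun hφ' (q.symm ⟨e, he⟩)
  simp only [Equiv.apply_symm_apply] at h1
  rw [← h1, ← incR_transpose_mulVec' ends ℤ (extZ v₀ φ') e]
  simp only [Matrix.mulVec, dotProduct, Matrix.transpose_apply, redInc, Matrix.submatrix_apply,
    Equiv.apply_symm_apply]
  rw [Fintype.sum_eq_add_sum_subtype_ne (fun v => incR ℤ ends v e * extZ v₀ φ' v) v₀,
    extZ_apply_self, mul_zero, zero_add]
  refine Finset.sum_congr rfl fun j _ => ?_
  rw [extZ_apply_ne]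
  rfl

/-- if a potential has the prescribed differences along a spanning tree and the prescription is
orthogonal to all cycles carried by circuits, the differences are as prescribed everywhere -/
theorem coboundary_eq_of_tree (T : Finset E) (hT : LabGraph.IsSpanningTree ends T)
    (g : V → ℤ) (x : E → ℤ) (hg : ∀ e ∈ T, g (ends e).2 - g (ends e).1 = x e)
    (hx : ∀ C : Finset E, LabGraph.IsCircuit ends C → ∀ γ : E → ℤ,
      Matrix.mulVec (incR ℤ ends) γ = 0 → (∀ e, e ∉ C → γ e = 0) → ∑ e, γ e * x e = 0)
    (e : E) : g (ends e).2 - g (ends e).1 = x e := by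
  by_cases heT : e ∈ T
  · exact hg e heT
  obtain ⟨C, hC, heC, hCsub⟩ := exists_fund_circuit ends T hT e heT
  obtain ⟨γ, hγ0, hγe, hγC⟩ := exists_int_cycle_of_isCircuit ends C hC e heC
  have h1 := sum_mul_coboundary ends γ g
  rw [hγ0] at h1
  simp only [Pi.zero_apply, mul_zero, Finset.sum_const_zero] at h1
  have h2 := hx C hC γ hγ0 hγC
  have h3 : ∑ e', γ e' * ((g (ends e').2 - g (ends e').1) - x e') = 0 := by
    have h4 : ∀ e', γ e' * ((g (ends e').2 - g (ends e').1) - x e') =
        γ e' * (g (ends e').2 - g (ends e').1) - γ e' * x e' := fun e' => by ring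
    simp only [h4, Finset.sum_sub_distrib, h1, h2, sub_zero]
  rw [Finset.sum_eq_single e] at h3
  · rw [hγe, one_mul] at h3
    linarith
  · intro e' _ hee
    by_cases he'T : e' ∈ T
    · rw [hg e' he'T, sub_self, mul_zero]
    · have : e' ∉ C := fun h => by
        have := hCsub h
        rw [Finset.mem_insert] at this
        rcases this with h | h
        · exact hee h
        · exact he'T h
      rw [hγC e' this, zero_mul]
  · intro h
    exact absurd (Finset.mem_univ e) h

/-- on a connected graph a function with zero coboundary is constant -/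
theorem eq_of_coboundary_eq_zero (hG : LabGraph.Connected ends) (h : V → ℤ)
    (hh : ∀ e, h (ends e).2 = h (ends e).1) (v w : V) : h v = h w := by
  have := hG.2 v w
  induction this with
  | refl => rfl
  | @tail b c _ hbc ih =>
    obtain ⟨e, he | he⟩ := hbc
    · have := hh e
      rw [he] at this
      rw [ih, this]
    · have := hh e
      rw [he] at this
      rw [ih, ← this]

/-- a connected graph has a spanning tree -/
theorem exists_isSpanningTree (hG : LabGraph.Connected ends) :
    ∃ T : Finset E, LabGraph.IsSpanningTree ends T := by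
  have hspan_univ : Spans ends univ := by
    intro x hx
    obtain ⟨γ, hγ⟩ := exists_mulVec_eq_of_sum_eq_zero (ZMod 2) ends hG x hx
    exact ⟨γ, fun e he => absurd (Finset.mem_univ e) he, hγ⟩
  obtain ⟨T, -, hT⟩ := exists_isSpanningTree_subset ends hG.1 _ hspan_univ
  exact ⟨T, hT⟩

end Groth.Agent.Lib.LabGraphTree
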