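import Groth.Prelude.Def_LambdaRing
import Mathlib.RingTheory.PowerSeries.Substitution
import Mathlib.RingTheory.PowerSeries.WellKnown
import Mathlib.Data.Nat.Choose.Vandermonde
import Mathlib.Algebra.Polynomial.Reverse

/-!
# Basic theory of lambda rings with positive structure (helper library)

Power series identities for `lamSeries`, `adamsSeries`, and the gamma operations.
-/

set_option autoImplicit false
universe u

namespace Groth.Agent.Lib.LambdaRing

open _root_.LambdaRing PowerSeries Finset

variable {K : Type u} [CommRing K] [LambdaOps K]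

theorem coeff_lamSeries (x : K) (i : ℕ) : coeff i (lamSeries x) = LambdaOps.lam i x := by
  simp [lamSeries]

theorem constantCoeff_lamSeries (x : K) : constantCoeff (lamSeries x) = 1 := by
  rw [← coeff_zero_eq_constantCoeff_apply, coeff_lamSeries, LambdaOps.lam_zero]

theorem lamSeries_add (x y : K) : lamSeries (x + y) = lamSeries x * lamSeries y := by
  ext k
  rw [coeff_lamSeries, LambdaOps.lam_add, coeff_mul,
    Finset.Nat.sum_antidiagonal_eq_sum_range_succ
      (fun i j => coeff i (lamSeries x) * coeff j (lamSeries y))]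
  simp [coeff_lamSeries]

theorem lamSeries_zero : lamSeries (0 : K) = 1 := by
  have h := lamSeries_add (0 : K) 0
  rw [add_zero] at h
  have hu : IsUnit (lamSeries (0 : K)) := by
    rw [PowerSeries.isUnit_iff_constantCoeff, constantCoeff_lamSeries]
    exact isUnit_one
  exact hu.mul_eq_left.mp h.symm

/-- The series `lamSeries x` evaluated at `-t`. -/
noncomputable def negSeries (x : K) : PowerSeries K := rescale (-1 : K) (lamSeries x)

theorem negSeries_add (x y : K) : negSeries (x + y) = negSeries x * negSeries y := by
  simp [negSeries, lamSeries_add]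

theorem constantCoeff_negSeries (x : K) : constantCoeff (negSeries x) = 1 := by
  rw [← coeff_zero_eq_constantCoeff_apply, negSeries, coeff_rescale, pow_zero, one_mul,
    coeff_zero_eq_constantCoeff_apply, constantCoeff_lamSeries]

/-- The inverse of `negSeries x`. -/
noncomputable def invSeries (x : K) : PowerSeries K := (negSeries x).invOfUnit 1

theorem negSeries_mul_invSeries (x : K) : negSeries x * invSeries x = 1 :=
  mul_invOfUnit _ _ (by simp [constantCoeff_negSeries])

theorem invSeries_eq_of_mul_eq_one (x : K) (f : PowerSeries K) (h : negSeries x * f = 1) :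
    invSeries x = f := by
  have h2 := negSeries_mul_invSeries x
  calc invSeries x = invSeries x * (negSeries x * f) := by rw [h, mul_one]
    _ = (negSeries x * invSeries x) * f := by ring
    _ = f := by rw [h2, one_mul]

theorem invSeries_add (x y : K) : invSeries (x + y) = invSeries x * invSeries y := by
  apply invSeries_eq_of_mul_eq_one
  rw [negSeries_add]
  calc negSeries x * negSeries y * (invSeries x * invSeries y)
      = (negSeries x * invSeries x) * (negSeries y * invSeries y) := by ring
    _ = 1 := by rw [negSeries_mul_invSeries, negSeries_mul_invSeries, one_mul]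

theorem adamsSeries_eq (P : PosStructure K) (x : K) :
    adamsSeries P x = C (P.aug x : K) - X * (derivative K (negSeries x)) * invSeries x := rfl

theorem adamsSeries_add (P : PosStructure K) (x y : K) :
    adamsSeries P (x + y) = adamsSeries P x + adamsSeries P y := by
  rw [adamsSeries_eq, adamsSeries_eq, adamsSeries_eq, negSeries_add, invSeries_add,
    Derivation.leibniz, map_add, Int.cast_add, map_add]
  have hx := negSeries_mul_invSeries x
  have hy := negSeries_mul_invSeries y
  simp only [smul_eq_mul]
  have key : X * (negSeries x * (derivative K (negSeries y)) + negSeries y * (derivative K (negSeries x))) *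
      (invSeries x * invSeries y) =
      X * (derivative K (negSeries x)) * invSeries x * (negSeries y * invSeries y) +
      X * (derivative K (negSeries y)) * invSeries y * (negSeries x * invSeries x) := by ring
  rw [key, hx, hy]
  ring

theorem adams_add (P : PosStructure K) (j : ℕ) (x y : K) :
    adams P j (x + y) = adams P j x + adams P j y := by
  simp [adams, adamsSeries_add]

theorem adams_zero (P : PosStructure K) (j : ℕ) : adams P j (0 : K) = 0 := by
  have h := adams_add P j (0 : K) 0
  rw [add_zero] at h
  exact left_eq_add.mp h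

theorem adams_neg (P : PosStructure K) (j : ℕ) (x : K) : adams P j (-x) = - adams P j x := by
  have h := adams_add P j x (-x)
  rw [add_neg_cancel, adams_zero] at h
  exact (neg_eq_of_add_eq_zero_right h.symm).symm

theorem adams_sub (P : PosStructure K) (j : ℕ) (x y : K) :
    adams P j (x - y) = adams P j x - adams P j y := by
  rw [sub_eq_add_neg, adams_add, adams_neg, sub_eq_add_neg]

/-- The Adams operation as an additive map. -/
noncomputable def adamsAddHom (P : PosStructure K) (j : ℕ) : K →+ K where
  toFun := adams P j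
  map_zero' := adams_zero P j
  map_add' := adams_add P j

@[simp] theorem adamsAddHom_apply (P : PosStructure K) (j : ℕ) (x : K) :
    adamsAddHom P j x = adams P j x := rfl

/-! ### Line elements -/

theorem lamSeries_of_isLine (P : PosStructure K) {u : K} (hu : P.IsLine u) :
    lamSeries u = 1 + C u * X := by
  ext i
  rw [coeff_lamSeries]
  rcases i with _ | _ | i
  · simp [LambdaOps.lam_zero]
  · simp [LambdaOps.lam_one]
  · rw [P.lam_eq_zero u hu.1 (i + 2) (by rw [hu.2]; push_cast; omega)]
    simp [coeff_one]

theorem negSeries_of_isLine (P : PosStructure K) {u : K} (hu : P.IsLine u) :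
    negSeries u = 1 - C u * X := by
  rw [negSeries, lamSeries_of_isLine P hu]
  ext i
  rw [coeff_rescale]
  rcases i with _ | _ | i
  · simp
  · simp
  · simp [coeff_one]

theorem invSeries_of_isLine (P : PosStructure K) {u : K} (hu : P.IsLine u) :
    invSeries u = PowerSeries.mk fun n => u ^ n := by
  apply invSeries_eq_of_mul_eq_one
  rw [negSeries_of_isLine P hu]
  ext i
  rcases i with _ | i
  · simp
  · rw [sub_mul, one_mul, mul_comm (C u) X, mul_assoc, map_sub, coeff_succ_X_mul]
    simp [coeff_one, pow_succ, mul_comm]

theorem adamsSeries_of_isLine (P : PosStructure K) {u : K} (hu : P.IsLine u) :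
    adamsSeries P u = PowerSeries.mk fun n => u ^ n := by
  rw [adamsSeries_eq, negSeries_of_isLine P hu, invSeries_of_isLine P hu, hu.2]
  have hd : derivative K (1 - C u * X : PowerSeries K) = - C u := by
    rw [map_sub, Derivation.leibniz]
    simp
  rw [hd]
  ext i
  rcases i with _ | i
  · simp
  · rw [mul_neg, neg_mul, sub_neg_eq_add, mul_assoc, map_add, coeff_succ_X_mul]
    simp [pow_succ, mul_comm]

theorem adams_of_isLine (P : PosStructure K) {u : K} (hu : P.IsLine u) (j : ℕ) :
    adams P j u = u ^ j := by
  rw [adams, adamsSeries_of_isLine P hu, coeff_mk]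

/-! ### Lambda homomorphisms and extensions -/

section Hom

variable {K' : Type u} [CommRing K'] [LambdaOps K']

theorem map_lamSeries (f : K →+* K') (hf : IsLambdaHom f) (x : K) :
    PowerSeries.map f (lamSeries x) = lamSeries (f x) := by
  ext i
  rw [coeff_map, coeff_lamSeries, coeff_lamSeries, hf]

theorem map_negSeries (f : K →+* K') (hf : IsLambdaHom f) (x : K) :
    PowerSeries.map f (negSeries x) = negSeries (f x) := by
  ext i
  rw [coeff_map, negSeries, negSeries, coeff_rescale, coeff_rescale, coeff_lamSeries,
    coeff_lamSeries, map_mul, hf, map_pow, map_neg, map_one]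

theorem map_invSeries (f : K →+* K') (hf : IsLambdaHom f) (x : K) :
    PowerSeries.map f (invSeries x) = invSeries (f x) := by
  symm
  apply invSeries_eq_of_mul_eq_one
  rw [← map_negSeries f hf, ← map_mul, negSeries_mul_invSeries, map_one]

omit [LambdaOps K] [LambdaOps K'] in
theorem map_derivative (f : K →+* K') (g : PowerSeries K) :
    PowerSeries.map f (derivative K g) = derivative K' (PowerSeries.map f g) := by
  ext i
  simp [coeff_map, coeff_derivative]

theorem map_adamsSeries (P : PosStructure K) (P' : PosStructure K') (f : K →+* K')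
    (hf : IsLambdaHom f) (haug : ∀ x, P'.aug (f x) = P.aug x) (x : K) :
    PowerSeries.map f (adamsSeries P x) = adamsSeries P' (f x) := by
  rw [adamsSeries_eq, adamsSeries_eq, map_sub, map_mul, map_mul, map_invSeries f hf,
    map_derivative, map_negSeries f hf, PowerSeries.map_C, PowerSeries.map_X, haug, map_intCast]

theorem map_adams (P : PosStructure K) (P' : PosStructure K') (f : K →+* K')
    (hf : IsLambdaHom f) (haug : ∀ x, P'.aug (f x) = P.aug x) (j : ℕ) (x : K) :
    f (adams P j x) = adams P' j (f x) := by
  rw [adams, adams, ← map_adamsSeries P P' f hf haug, coeff_map]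

theorem isExtension_isLine {P : PosStructure K} {P' : PosStructure K'} {f : K →+* K'}
    (h : IsExtension P P' f) {u : K} (hu : P.IsLine u) : P'.IsLine (f u) :=
  ⟨h.pos_subset u hu.1, by rw [h.aug_comp, hu.2]⟩

theorem isExtension_map_adams {P : PosStructure K} {P' : PosStructure K'} {f : K →+* K'}
    (h : IsExtension P P' f) (j : ℕ) (x : K) : f (adams P j x) = adams P' j (f x) :=
  Groth.Agent.Lib.LambdaRing.map_adams P P' f h.isLambdaHom h.aug_comp j x

theorem isExtension_refl (P : PosStructure K) : IsExtension P P (RingHom.id K) where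
  isLambdaHom := fun _ _ => rfl
  injective := fun _ _ h => h
  aug_comp := fun _ => rfl
  pos_subset := fun _ he => he

theorem isExtension_comp {K'' : Type u} [CommRing K''] [LambdaOps K'']
    {P : PosStructure K} {P' : PosStructure K'} {P'' : PosStructure K''}
    {f : K →+* K'} {g : K' →+* K''} (hg : IsExtension P' P'' g) (hf : IsExtension P P' f) :
    IsExtension P P'' (g.comp f) where
  isLambdaHom := fun i x => by
    rw [RingHom.comp_apply, RingHom.comp_apply, hf.isLambdaHom, hg.isLambdaHom]
  injective := hg.injective.comp hf.injective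
  aug_comp := fun x => by rw [RingHom.comp_apply, hg.aug_comp, hf.aug_comp]
  pos_subset := fun e he => hg.pos_subset _ (hf.pos_subset e he)

end Hom

/-! ### Sums of line elements -/

/-- The additive submonoid generated by the line elements. -/
def lineSums (P : PosStructure K) : AddSubmonoid K := AddSubmonoid.closure {u | P.IsLine u}

theorem isLine_one (P : PosStructure K) : P.IsLine (1 : K) := by
  refine ⟨?_, map_one _⟩
  have := P.natCast_mem 1 Nat.one_pos
  simpa using this

theorem isLine_mul (P : PosStructure K) {u v : K} (hu : P.IsLine u) (hv : P.IsLine v) :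
    P.IsLine (u * v) :=
  ⟨P.mul_mem u v hu.1 hv.1, by rw [map_mul, hu.2, hv.2, mul_one]⟩

theorem isLine_pow (P : PosStructure K) {u : K} (hu : P.IsLine u) (n : ℕ) : P.IsLine (u ^ n) := by
  induction n with
  | zero => rw [pow_zero]; exact isLine_one P
  | succ n ih => rw [pow_succ]; exact isLine_mul P ih hu

theorem multiset_sum_mem_lineSums (P : PosStructure K) (s : Multiset K)
    (hs : ∀ u ∈ s, P.IsLine u) : s.sum ∈ lineSums P :=
  AddSubmonoid.multiset_sum_mem _ s fun u hu => AddSubmonoid.subset_closure (hs u hu)

section Hom2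

variable {K' : Type u} [CommRing K'] [LambdaOps K']

theorem isExtension_map_mem_lineSums {P : PosStructure K} {P' : PosStructure K'} {f : K →+* K'}
    (h : IsExtension P P' f) {z : K} (hz : z ∈ lineSums P) : f z ∈ lineSums P' := by
  induction hz using AddSubmonoid.closure_induction with
  | mem u hu => exact AddSubmonoid.subset_closure (isExtension_isLine h hu)
  | zero => rw [map_zero]; exact zero_mem _
  | add x y _ _ hx hy => rw [map_add]; exact add_mem hx hy

end Hom2

theorem adams_mul_of_mem_lineSums (P : PosStructure K) (j : ℕ) {z w : K}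
    (hz : z ∈ lineSums P) (hw : w ∈ lineSums P) :
    adams P j (z * w) = adams P j z * adams P j w := by
  induction hz using AddSubmonoid.closure_induction with
  | mem u hu =>
    induction hw using AddSubmonoid.closure_induction with
    | mem v hv =>
      rw [adams_of_isLine P (isLine_mul P hu hv), adams_of_isLine P hu, adams_of_isLine P hv,
        mul_pow]
    | zero => simp [adams_zero]
    | add x y _ _ hx hy => rw [mul_add, adams_add, adams_add, hx, hy, mul_add]
  | zero => simp [adams_zero]
  | add x y _ _ hx hy => rw [add_mul, adams_add, adams_add, hx, hy, add_mul]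

theorem adams_adams_of_mem_lineSums (P : PosStructure K) (i j : ℕ) {z : K}
    (hz : z ∈ lineSums P) : adams P i (adams P j z) = adams P (i * j) z := by
  induction hz using AddSubmonoid.closure_induction with
  | mem u hu =>
    rw [adams_of_isLine P hu, adams_of_isLine P (isLine_pow P hu j), adams_of_isLine P hu,
      ← pow_mul, mul_comm]
  | zero => simp [adams_zero]
  | add x y _ _ hx hy => rw [adams_add, adams_add, adams_add, hx, hy]

theorem aug_lam_of_mem_lineSums (P : PosStructure K) {z : K} (hz : z ∈ lineSums P) :
    ∃ n : ℕ, P.aug z = n ∧ ∀ i, P.aug (LambdaOps.lam i z) = (n.choose i : ℤ) := by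
  induction hz using AddSubmonoid.closure_induction with
  | mem u hu =>
    refine ⟨1, by simpa using hu.2, fun i => ?_⟩
    rcases i with _ | _ | i
    · simp [LambdaOps.lam_zero]
    · simpa [LambdaOps.lam_one] using hu.2
    · rw [P.lam_eq_zero u hu.1 (i + 2) (by rw [hu.2]; push_cast; omega), map_zero,
        Nat.choose_eq_zero_of_lt (by omega)]
      rfl
  | zero =>
    refine ⟨0, by simp, fun i => ?_⟩
    rw [← coeff_lamSeries, lamSeries_zero, coeff_one]
    rcases i with _ | i
    · simp
    · simp
  | add x y _ _ hx hy =>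
    obtain ⟨n₁, h₁, h₁'⟩ := hx
    obtain ⟨n₂, h₂, h₂'⟩ := hy
    refine ⟨n₁ + n₂, by rw [map_add, h₁, h₂]; push_cast; rfl, fun k => ?_⟩
    rw [LambdaOps.lam_add, map_sum, Nat.add_choose_eq,
      Finset.Nat.sum_antidiagonal_eq_sum_range_succ (fun i j => n₁.choose i * n₂.choose j)]
    push_cast
    refine Finset.sum_congr rfl fun i _ => ?_
    rw [map_mul, h₁', h₂']

/-! ### The splitting principle -/

theorem HasSplitting.exists_extension (P : PosStructure K) (hK : HasSplitting K P) (e : K)
    (he : e ∈ P.pos) :
    ∃ (L : PosLambdaRing.{u}) (f : K →+* L.carrier), HasSplitting L.carrier L.posStr ∧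
      IsExtension P L.posStr f ∧ f e ∈ lineSums L.posStr := by
  obtain ⟨C, hC, hsplit⟩ := hK
  obtain ⟨L', hL', f, hf, s, hs, hsum⟩ := hsplit ⟨K, P⟩ hC e he
  refine ⟨L', f, ⟨C, hL', hsplit⟩, hf, ?_⟩
  rw [← hsum]
  exact multiset_sum_mem_lineSums _ s hs

theorem HasSplitting.exists_extension₂ (P : PosStructure K) (hK : HasSplitting K P) (e e' : K)
    (he : e ∈ P.pos) (he' : e' ∈ P.pos) :
    ∃ (L : PosLambdaRing.{u}) (f : K →+* L.carrier), HasSplitting L.carrier L.posStr ∧
      IsExtension P L.posStr f ∧ f e ∈ lineSums L.posStr ∧ f e' ∈ lineSums L.posStr := by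
  obtain ⟨L₁, f₁, hL₁, hf₁, h₁⟩ := HasSplitting.exists_extension P hK e he
  obtain ⟨L₂, f₂, hL₂, hf₂, h₂⟩ :=
    HasSplitting.exists_extension L₁.posStr hL₁ (f₁ e') (hf₁.pos_subset e' he')
  exact ⟨L₂, f₂.comp f₁, hL₂, isExtension_comp hf₂ hf₁, isExtension_map_mem_lineSums hf₂ h₁, h₂⟩

theorem adams_mul_of_pos (P : PosStructure K) (hK : HasSplitting K P) (j : ℕ) {e e' : K}
    (he : e ∈ P.pos) (he' : e' ∈ P.pos) :
    adams P j (e * e') = adams P j e * adams P j e' := by
  obtain ⟨L, f, -, hf, h₁, h₂⟩ := HasSplitting.exists_extension₂ P hK e e' he he'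
  apply hf.injective
  rw [isExtension_map_adams hf, map_mul, map_mul, isExtension_map_adams hf,
    isExtension_map_adams hf, adams_mul_of_mem_lineSums L.posStr j h₁ h₂]

theorem adams_one (P : PosStructure K) (j : ℕ) : adams P j (1 : K) = 1 := by
  rw [adams_of_isLine P (isLine_one P), one_pow]

theorem adams_mul (P : PosStructure K) (hK : HasSplitting K P) (j : ℕ) (x y : K) :
    adams P j (x * y) = adams P j x * adams P j y := by
  obtain ⟨e, e', he, he', rfl⟩ := P.exists_sub x
  obtain ⟨g, g', hg, hg', rfl⟩ := P.exists_sub y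
  have h : (e - e') * (g - g') = e * g - e * g' - e' * g + e' * g' := by ring
  rw [h, adams_add, adams_sub, adams_sub, adams_mul_of_pos P hK j he hg,
    adams_mul_of_pos P hK j he hg', adams_mul_of_pos P hK j he' hg,
    adams_mul_of_pos P hK j he' hg', adams_sub, adams_sub]
  ring

/-- The Adams operation as a ring homomorphism, under the splitting property. -/
noncomputable def adamsRingHom (P : PosStructure K) (hK : HasSplitting K P) (j : ℕ) : K →+* K where
  toFun := adams P j
  map_one' := adams_one P j
  map_mul' := adams_mul P hK j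
  map_zero' := adams_zero P j
  map_add' := adams_add P j

theorem adams_adams_of_pos (P : PosStructure K) (hK : HasSplitting K P) (i j : ℕ) {e : K}
    (he : e ∈ P.pos) : adams P i (adams P j e) = adams P (i * j) e := by
  obtain ⟨L, f, -, hf, h₁⟩ := HasSplitting.exists_extension P hK e he
  apply hf.injective
  rw [isExtension_map_adams hf, isExtension_map_adams hf, isExtension_map_adams hf,
    adams_adams_of_mem_lineSums L.posStr i j h₁]

theorem adams_adams (P : PosStructure K) (hK : HasSplitting K P) (i j : ℕ) (x : K) :
    adams P i (adams P j x) = adams P (i * j) x := by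
  obtain ⟨e, e', he, he', rfl⟩ := P.exists_sub x
  rw [adams_sub, adams_sub, adams_sub, adams_adams_of_pos P hK i j he,
    adams_adams_of_pos P hK i j he']

theorem aug_lam_of_pos (P : PosStructure K) (hK : HasSplitting K P) {e : K} (he : e ∈ P.pos)
    (i : ℕ) : P.aug (LambdaOps.lam i e) = ((P.aug e).toNat.choose i : ℤ) := by
  obtain ⟨L, f, -, hf, h₁⟩ := HasSplitting.exists_extension P hK e he
  obtain ⟨n, hn, hn'⟩ := aug_lam_of_mem_lineSums L.posStr h₁
  rw [hf.aug_comp] at hn
  rw [← hf.aug_comp, hf.isLambdaHom, hn', hn, Int.toNat_natCast]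

/-! ### The gamma operations -/

/-- The power series `t / (1 - t)`. -/
noncomputable def tSeries (K : Type u) [CommRing K] : PowerSeries K :=
  X * PowerSeries.mk fun _ => (1 : K)

omit [LambdaOps K] in
theorem hasSubst_tSeries : HasSubst (tSeries K) :=
  HasSubst.of_constantCoeff_zero' (by simp [tSeries])

/-- The generating series of the gamma operations. -/
noncomputable def gammaSeries (x : K) : PowerSeries K := PowerSeries.mk fun k => gamma k x

theorem coeff_gammaSeries (x : K) (k : ℕ) : coeff k (gammaSeries x) = gamma k x := by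
  simp [gammaSeries]

omit [LambdaOps K] in
theorem mk_one_eq : (PowerSeries.mk fun _ => (1 : K)) = PowerSeries.mk (1 : ℕ → K) := rfl

omit [LambdaOps K] in
theorem coeff_tSeries_pow (d k : ℕ) :
    coeff k ((tSeries K) ^ d) =
      if d = 0 then (if k = 0 then 1 else 0)
      else (if d ≤ k then (((k - 1).choose (d - 1) : ℕ) : K) else 0) := by
  rcases d with _ | d
  · simp [coeff_one]
  · rw [if_neg (Nat.succ_ne_zero d), tSeries, mul_pow, mk_one_eq, mk_one_pow_eq_mk_choose_add,
      coeff_X_pow_mul']
    split_ifs with h
    · rw [coeff_mk]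
      congr 2
      omega
    · rfl

theorem gammaSeries_eq_subst (x : K) : gammaSeries x = (lamSeries x).subst (tSeries K) := by
  ext k
  rw [coeff_subst' hasSubst_tSeries, coeff_gammaSeries,
    finsum_eq_sum_of_support_subset (s := range (k + 1))]
  · simp only [coeff_lamSeries, coeff_tSeries_pow, smul_eq_mul]
    rcases k with _ | k
    · simp [gamma, LambdaOps.lam_zero]
    · rw [gamma, if_neg (Nat.succ_ne_zero k)]
      refine Finset.sum_congr rfl fun j hj => ?_
      have hj' : j ≤ k + 1 := by
        have := Finset.mem_range.mp hj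
        omega
      rcases j with _ | j
      · simp
      · simp [hj', mul_comm]
  · intro d hd
    rw [Function.mem_support] at hd
    rw [Finset.coe_range, Set.mem_Iio]
    by_contra hlt
    apply hd
    have h1 : d ≠ 0 := by omega
    have h2 : ¬ d ≤ k := by omega
    rw [coeff_tSeries_pow, if_neg h1, if_neg h2, smul_zero]

theorem gammaSeries_add (x y : K) : gammaSeries (x + y) = gammaSeries x * gammaSeries y := by
  rw [gammaSeries_eq_subst, gammaSeries_eq_subst, gammaSeries_eq_subst, lamSeries_add,
    subst_mul hasSubst_tSeries]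

theorem gamma_add (k : ℕ) (x y : K) :
    gamma k (x + y) = ∑ i ∈ range (k + 1), gamma i x * gamma (k - i) y := by
  rw [← coeff_gammaSeries, gammaSeries_add, coeff_mul,
    Finset.Nat.sum_antidiagonal_eq_sum_range_succ
      (fun i j => coeff i (gammaSeries x) * coeff j (gammaSeries y))]
  simp [coeff_gammaSeries]

/-! ### The gamma polynomial of a positive element -/

theorem lamSeries_one (P : PosStructure K) : lamSeries (1 : K) = 1 + X := by
  rw [lamSeries_of_isLine P (isLine_one P), map_one, one_mul]

theorem lamSeries_natCast (P : PosStructure K) (n : ℕ) : lamSeries (n : K) = (1 + X) ^ n := by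
  induction n with
  | zero => rw [Nat.cast_zero, lamSeries_zero, pow_zero]
  | succ n ih => rw [Nat.cast_succ, lamSeries_add, ih, lamSeries_one P, pow_succ]

omit [LambdaOps K] in
theorem subst_one_add_X :
    (1 + X : PowerSeries K).subst (tSeries K) = PowerSeries.mk (1 : ℕ → K) := by
  rw [subst_add hasSubst_tSeries, subst_X hasSubst_tSeries, ← coe_substAlgHom hasSubst_tSeries,
    map_one]
  have h := mk_one_mul_one_sub_eq_one K
  have h2 : (PowerSeries.mk (1 : ℕ → K)) = 1 + X * PowerSeries.mk (1 : ℕ → K) := by
    have : PowerSeries.mk (1 : ℕ → K) * (1 - X) =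
        PowerSeries.mk (1 : ℕ → K) - X * PowerSeries.mk (1 : ℕ → K) := by ring
    rw [this] at h
    rw [← h]
    ring
  rw [tSeries, mk_one_eq]
  exact h2.symm

omit [LambdaOps K] in
theorem tSeries_pow_mul (i m : ℕ) (h : i ≤ m) :
    (tSeries K) ^ i * (1 - X) ^ m = X ^ i * (1 - X) ^ (m - i) := by
  have h1 := mk_one_mul_one_sub_eq_one K
  obtain ⟨r, rfl⟩ := Nat.exists_eq_add_of_le h
  rw [Nat.add_sub_cancel_left, tSeries, mk_one_eq, mul_pow, pow_add]
  generalize (1 - X : PowerSeries K) = y at h1 ⊢
  calc X ^ i * PowerSeries.mk (1 : ℕ → K) ^ i * (y ^ i * y ^ r)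
      = X ^ i * (PowerSeries.mk (1 : ℕ → K) * y) ^ i * y ^ r := by rw [mul_pow]; ring
    _ = X ^ i * y ^ r := by rw [h1, one_pow, mul_one]

/-- The polynomial `Σ λ^i(e) X^i (1 - X)^(m - i)`. -/
noncomputable def gammaPoly (e : K) (m : ℕ) : Polynomial K :=
  ∑ i ∈ range (m + 1),
    Polynomial.C (LambdaOps.lam i e) * Polynomial.X ^ i * (1 - Polynomial.X) ^ (m - i)

theorem lamSeries_eq_coe (P : PosStructure K) {e : K} (he : e ∈ P.pos) (m : ℕ)
    (hm : P.aug e = m) :
    lamSeries e =
      ((∑ i ∈ range (m + 1), Polynomial.monomial i (LambdaOps.lam i e) : Polynomial K) :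
        PowerSeries K) := by
  ext k
  rw [coeff_lamSeries, Polynomial.coeff_coe, Polynomial.finsetSum_coeff]
  simp only [Polynomial.coeff_monomial]
  rw [Finset.sum_ite_eq' (range (m + 1)) k]
  split_ifs with h
  · rfl
  · apply P.lam_eq_zero e he
    rw [hm]
    have : ¬ k < m + 1 := by simpa using h
    exact_mod_cast (by omega : m < k)

theorem gammaSeries_sub_natCast (P : PosStructure K) {e : K} (he : e ∈ P.pos) (m : ℕ)
    (hm : P.aug e = m) :
    gammaSeries (e - (m : K)) = ((gammaPoly e m : Polynomial K) : PowerSeries K) := by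
  have h1 : lamSeries e = lamSeries (e - (m : K)) * (1 + X) ^ m := by
    rw [← lamSeries_natCast P, ← lamSeries_add, sub_add_cancel]
  have h2 : (lamSeries e).subst (tSeries K) =
      gammaSeries (e - (m : K)) * (PowerSeries.mk (1 : ℕ → K)) ^ m := by
    rw [h1, subst_mul hasSubst_tSeries, subst_pow hasSubst_tSeries, subst_one_add_X,
      ← gammaSeries_eq_subst]
  have h3 : gammaSeries (e - (m : K)) = (lamSeries e).subst (tSeries K) * (1 - X) ^ m := by
    rw [h2, mul_assoc, ← mul_pow, mk_one_mul_one_sub_eq_one, one_pow, mul_one]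
  rw [h3, lamSeries_eq_coe P he m hm, subst_coe hasSubst_tSeries, map_sum, Finset.sum_mul,
    gammaPoly, ← Polynomial.coeToPowerSeries.ringHom_apply, map_sum]
  refine Finset.sum_congr rfl fun i hi => ?_
  have hi' : i ≤ m := by
    have := Finset.mem_range.mp hi
    omega
  rw [Polynomial.aeval_monomial, mul_assoc, tSeries_pow_mul i m hi',
    Polynomial.coeToPowerSeries.ringHom_apply]
  simp [mul_assoc]

omit [LambdaOps K] in
theorem natDegree_one_sub_X_pow_le (n : ℕ) :
    ((1 - Polynomial.X : Polynomial K) ^ n).natDegree ≤ n := by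
  refine (Polynomial.natDegree_pow_le).trans ?_
  have : (1 - Polynomial.X : Polynomial K).natDegree ≤ 1 :=
    (Polynomial.natDegree_sub_le _ _).trans (max_le (by simp) Polynomial.natDegree_X_le)
  calc n * (1 - Polynomial.X : Polynomial K).natDegree ≤ n * 1 := Nat.mul_le_mul_left n this
    _ = n := mul_one n

theorem natDegree_gammaPoly_le (e : K) (m : ℕ) : (gammaPoly e m).natDegree ≤ m := by
  refine Polynomial.natDegree_sum_le_of_forall_le _ _ fun i hi => ?_
  have hi' : i ≤ m := by
    have := Finset.mem_range.mp hi
    omega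
  refine (Polynomial.natDegree_mul_le).trans ?_
  have h1 : (Polynomial.C (LambdaOps.lam i e) * Polynomial.X ^ i : Polynomial K).natDegree ≤ i :=
    Polynomial.natDegree_C_mul_X_pow_le _ _
  have h2 := natDegree_one_sub_X_pow_le (K := K) (m - i)
  omega

/-- `Polynomial.reflect` as an additive map. -/
noncomputable def reflectAddHom (N : ℕ) : Polynomial K →+ Polynomial K where
  toFun := Polynomial.reflect N
  map_zero' := Polynomial.reflect_zero
  map_add' := fun f g => Polynomial.reflect_add f g N

omit [LambdaOps K] in
theorem reflect_sum {ι : Type*} (s : Finset ι) (f : ι → Polynomial K) (N : ℕ) :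
    Polynomial.reflect N (∑ i ∈ s, f i) = ∑ i ∈ s, Polynomial.reflect N (f i) :=
  map_sum (reflectAddHom N) f s

omit [LambdaOps K] in
theorem reflect_one_sub_X_pow (n : ℕ) :
    Polynomial.reflect n ((1 - Polynomial.X : Polynomial K) ^ n) = (Polynomial.X - 1) ^ n := by
  induction n with
  | zero => simp [Polynomial.reflect_one]
  | succ n ih =>
    rw [pow_succ, Polynomial.reflect_mul _ _ (natDegree_one_sub_X_pow_le n)
      (show (1 - Polynomial.X : Polynomial K).natDegree ≤ 1 from
        (Polynomial.natDegree_sub_le _ _).trans (max_le (by simp) Polynomial.natDegree_X_le)),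
      ih, pow_succ,
      Polynomial.reflect_sub, Polynomial.reflect_one, Polynomial.reflect_one_X, pow_one]

theorem reflect_gammaPoly (e : K) (m : ℕ) :
    Polynomial.reflect m (gammaPoly e m) =
      ∑ i ∈ range (m + 1), Polynomial.C (LambdaOps.lam i e) * (Polynomial.X - 1) ^ (m - i) := by
  rw [gammaPoly, reflect_sum]
  refine Finset.sum_congr rfl fun i hi => ?_
  have hi' : i ≤ m := by
    have := Finset.mem_range.mp hi
    omega
  obtain ⟨r, rfl⟩ := Nat.exists_eq_add_of_le hi'
  rw [mul_assoc, Polynomial.reflect_C_mul, Nat.add_sub_cancel_left,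
    Polynomial.reflect_mul _ _ (Polynomial.natDegree_X_pow_le i)
    (natDegree_one_sub_X_pow_le r), Polynomial.reflect_monomial, reflect_one_sub_X_pow,
    Polynomial.revAt_le le_rfl, Nat.sub_self, pow_zero, one_mul]

omit [LambdaOps K] in
theorem reflect_eq_sum (G : Polynomial K) (m : ℕ) (hG : G.natDegree ≤ m) :
    Polynomial.reflect m G =
      ∑ i ∈ range (m + 1), Polynomial.C (G.coeff i) * Polynomial.X ^ (m - i) := by
  conv_lhs => rw [G.as_sum_range' (m + 1) (by omega)]
  rw [reflect_sum]
  refine Finset.sum_congr rfl fun i hi => ?_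
  have hi' : i ≤ m := by
    have := Finset.mem_range.mp hi
    omega
  rw [← Polynomial.C_mul_X_pow_eq_monomial, Polynomial.reflect_C_mul_X_pow,
    Polynomial.revAt_le hi']

theorem gamma_poly_identity (P : PosStructure K) {e : K} (he : e ∈ P.pos) :
    (∑ i ∈ range ((P.aug e).toNat + 1),
        Polynomial.C (gamma i (e - ((P.aug e).toNat : K))) *
          Polynomial.X ^ ((P.aug e).toNat - i)) =
      ∑ i ∈ range ((P.aug e).toNat + 1),
        Polynomial.C (LambdaOps.lam i e) * (Polynomial.X - 1) ^ ((P.aug e).toNat - i) := by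
  have hm : P.aug e = ((P.aug e).toNat : ℤ) := (Int.toNat_of_nonneg (P.aug_pos e he).le).symm
  generalize (P.aug e).toNat = m at hm ⊢
  rw [← reflect_gammaPoly, reflect_eq_sum _ m (natDegree_gammaPoly_le e m)]
  refine Finset.sum_congr rfl fun i _ => ?_
  rw [← coeff_gammaSeries, gammaSeries_sub_natCast P he m hm, Polynomial.coeff_coe]

end Groth.Agent.Lib.LambdaRing
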