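import Mathlib.RingTheory.MvPolynomial.Symmetric.FundamentalTheorem
import Mathlib.RingTheory.MvPolynomial.Ideal
import Mathlib.RingTheory.MvPolynomial.Homogeneous
import Mathlib.Tactic.Ring
import Mathlib.Tactic.Linarith
import Groth.Agent.Lib.LambdaRing
import Groth.Agent.S3291

set_option autoImplicit false
universe u

namespace Groth.Agent.Lib.LambdaGamma6

open MvPolynomial Finset

section SymmWeight

variable {R : Type*} [CommRing R] {m : ℕ}

/-- weight of an exponent vector: variable `k` has weight `k+1`. -/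
noncomputable def wt (d : Fin m →₀ ℕ) : ℕ := ∑ k ∈ d.support, (k.1 + 1) * d k

variable (R m) in
/-- evaluation at the elementary symmetric polynomials -/
noncomputable def E : MvPolynomial (Fin m) R →ₐ[R] MvPolynomial (Fin m) R :=
  aeval (fun k : Fin m => esymm (Fin m) R (k.1 + 1))

lemma E_eq (Q : MvPolynomial (Fin m) R) : E R m Q = (esymmAlgHom (Fin m) R m Q).val :=
  (esymmAlgHom_apply Q).symm

lemma E_injective : Function.Injective (E R m) := by
  intro a b h
  apply esymmAlgHom_fin_injective R (le_refl m)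
  apply Subtype.ext
  rw [← E_eq, ← E_eq, h]

lemma esymm_isHomogeneous' (σ : Type*) [Fintype σ] (n : ℕ) :
    (esymm σ R n).IsHomogeneous n := by
  rw [esymm]
  refine IsHomogeneous.sum _ _ _ fun t ht => ?_
  have h := IsHomogeneous.prod t (fun i => (X i : MvPolynomial σ R)) (fun _ => 1)
    (fun i _ => isHomogeneous_X R i)
  rw [Finset.sum_const, smul_eq_mul, mul_one, (Finset.mem_powersetCard.1 ht).2] at h
  exact h

lemma E_monomial_isHomogeneous (d : Fin m →₀ ℕ) (c : R) :
    (E R m (monomial d c)).IsHomogeneous (wt d) := by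
  rw [E, aeval_monomial, ← zero_add (wt d)]
  refine IsHomogeneous.mul (isHomogeneous_C _ _) ?_
  rw [Finsupp.prod, wt]
  exact IsHomogeneous.prod _ _ _ (fun k _ => (esymm_isHomogeneous' (R := R) (Fin m) (k.1 + 1)).pow _)

lemma mem_pow_of_isHomogeneous {σ : Type*} {p : MvPolynomial σ R} {a n : ℕ}
    (hp : p.IsHomogeneous a) (h : n ≤ a) : p ∈ idealOfVars σ R ^ n := by
  rw [mem_pow_idealOfVars_iff']
  intro x hx
  exact hp.coeff_eq_zero (by omega)

/-- key: if `E Q` lies in the `n`-th power of the ideal of variables then all monomials of `Q`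
have weight at least `n`. -/
lemma wt_ge_of_E_mem (Q : MvPolynomial (Fin m) R) (n : ℕ)
    (h : E R m Q ∈ idealOfVars (Fin m) R ^ n) : ∀ d ∈ Q.support, n ≤ wt d := by
  classical
  set lo : MvPolynomial (Fin m) R :=
    ∑ d ∈ Q.support.filter (fun d => wt d < n), monomial d (coeff d Q) with hlo
  set hi : MvPolynomial (Fin m) R :=
    ∑ d ∈ Q.support.filter (fun d => ¬ wt d < n), monomial d (coeff d Q) with hhi
  have hQ : Q = lo + hi := by
    rw [hlo, hhi, Finset.sum_filter_add_sum_filter_not]
    exact Q.as_sum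
  have hhi_mem : E R m hi ∈ idealOfVars (Fin m) R ^ n := by
    rw [hhi, map_sum]
    refine Ideal.sum_mem _ fun d hd => ?_
    exact mem_pow_of_isHomogeneous (E_monomial_isHomogeneous d _)
      (by simpa using (Finset.mem_filter.1 hd).2)
  have hlo_mem : E R m lo ∈ idealOfVars (Fin m) R ^ n := by
    have : E R m lo = E R m Q - E R m hi := by rw [hQ, map_add]; ring
    rw [this]
    exact Ideal.sub_mem _ h hhi_mem
  have hlo_zero : E R m lo = 0 := by
    ext x
    rw [coeff_zero]
    by_cases hx : x.degree < n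
    · exact (mem_pow_idealOfVars_iff' n _).1 hlo_mem x hx
    · rw [hlo, map_sum, coeff_sum]
      refine Finset.sum_eq_zero fun d hd => ?_
      have := (Finset.mem_filter.1 hd).2
      exact (E_monomial_isHomogeneous d (coeff d Q)).coeff_eq_zero (by omega)
  have hlo0 : lo = 0 := E_injective (by rw [hlo_zero, map_zero])
  intro d hd
  by_contra hlt
  push Not at hlt
  have hc : coeff d lo = coeff d Q := by
    rw [hlo, coeff_sum]
    simp only [coeff_monomial]
    rw [Finset.sum_ite_eq' _ d]
    rw [if_pos (Finset.mem_filter.2 ⟨hd, hlt⟩)]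
  rw [hlo0, coeff_zero] at hc
  exact (mem_support_iff.1 hd) hc.symm

/-- every symmetric polynomial in the `n`-th power of the ideal of variables is a polynomial in
the elementary symmetric polynomials with all monomials of weight `≥ n`. -/
lemma exists_of_isSymmetric_of_mem (p : MvPolynomial (Fin m) R) (hp : p.IsSymmetric) (n : ℕ)
    (h : p ∈ idealOfVars (Fin m) R ^ n) :
    ∃ Q : MvPolynomial (Fin m) R, E R m Q = p ∧ ∀ d ∈ Q.support, n ≤ wt d := by
  obtain ⟨Q, hQ⟩ := esymmAlgHom_fin_surjective R (le_refl m) ⟨p, hp⟩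
  have hE : E R m Q = p := by rw [E_eq, hQ]
  exact ⟨Q, hE, wt_ge_of_E_mem Q n (hE ▸ h)⟩

end SymmWeight

section Specific

variable {m : ℕ}

lemma exists_sq_mul (A : Type*) [CommRing A] (x : A) (j : ℕ) :
    ∃ c : A, (1 + x) ^ j - 1 - (j : A) * x = x ^ 2 * c := by
  induction j with
  | zero => exact ⟨0, by simp⟩
  | succ j ih =>
    obtain ⟨c, hc⟩ := ih
    refine ⟨(1 + x) * c + (j : A), ?_⟩
    have : (1 + x) ^ (j + 1) - 1 - ((j + 1 : ℕ) : A) * x =
        (1 + x) * ((1 + x) ^ j - 1 - (j : A) * x) + (j : A) * x ^ 2 := by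
      push_cast; ring
    rw [this, hc]; ring

lemma prod_sub_prod_mem {A ι : Type*} [CommRing A] [DecidableEq ι] (I : Ideal A) (a b : ι → A)
    (t : Finset ι) (ha : ∀ i ∈ t, a i ∈ I) (hb : ∀ i ∈ t, b i - a i ∈ I ^ 2) :
    (∏ i ∈ t, a i) ∈ I ^ t.card ∧ (∏ i ∈ t, b i) - (∏ i ∈ t, a i) ∈ I ^ (t.card + 1) := by
  induction t using Finset.induction_on with
  | empty => simp
  | insert k t hk ih =>
    obtain ⟨h1, h2⟩ := ih (fun i hi => ha i (Finset.mem_insert_of_mem hi))
      (fun i hi => hb i (Finset.mem_insert_of_mem hi))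
    have hak := ha k (Finset.mem_insert_self k t)
    have hbk := hb k (Finset.mem_insert_self k t)
    have hbk' : b k ∈ I := by
      have : b k = (b k - a k) + a k := by ring
      rw [this]
      exact I.add_mem (Ideal.pow_le_self (by norm_num) hbk) hak
    rw [Finset.prod_insert hk, Finset.prod_insert hk, Finset.card_insert_of_notMem hk]
    constructor
    · rw [pow_succ']
      exact Ideal.mul_mem_mul hak h1
    · have : b k * ∏ i ∈ t, b i - a k * ∏ i ∈ t, a i =
          b k * (∏ i ∈ t, b i - ∏ i ∈ t, a i) + (b k - a k) * ∏ i ∈ t, a i := by ring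
      rw [this]
      refine Ideal.add_mem _ ?_ ?_
      · rw [pow_succ' I (t.card + 1)]
        exact Ideal.mul_mem_mul hbk' h2
      · have : t.card + 1 + 1 = 2 + t.card := by omega
        rw [this, pow_add]
        exact Ideal.mul_mem_mul hbk h1

/-- `g_i = (1 + X_i)^j - 1` -/
noncomputable def gpoly (m j : ℕ) (i : Fin m) : MvPolynomial (Fin m) ℤ := (1 + X i) ^ j - 1

/-- `σ_r((1+X_i)^j - 1) - j^r σ_r(X)` -/
noncomputable def ppoly (m j r : ℕ) : MvPolynomial (Fin m) ℤ :=
  aeval (gpoly m j) (esymm (Fin m) ℤ r) - (j : MvPolynomial (Fin m) ℤ) ^ r * esymm (Fin m) ℤ r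

lemma ppoly_isSymmetric (m j r : ℕ) : (ppoly m j r).IsSymmetric := by
  intro e
  have h1 : rename e (aeval (gpoly m j) (esymm (Fin m) ℤ r)) =
      aeval (fun i => rename e (gpoly m j i)) (esymm (Fin m) ℤ r) := by
    rw [← AlgHom.comp_apply, comp_aeval]
  have h2 : (fun i => rename e (gpoly m j i)) = gpoly m j ∘ e := by
    funext i
    simp [gpoly]
  rw [ppoly, map_sub, map_mul, map_pow, map_natCast, (esymm_isSymmetric _ _ r) e, h1, h2,
    ← aeval_rename, (esymm_isSymmetric _ _ r) e]

lemma ppoly_mem (m j r : ℕ) : ppoly m j r ∈ idealOfVars (Fin m) ℤ ^ (r + 1) := by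
  classical
  have h1 : aeval (gpoly m j) (esymm (Fin m) ℤ r) =
      ∑ t ∈ Finset.powersetCard r (Finset.univ : Finset (Fin m)), ∏ i ∈ t, gpoly m j i := by
    rw [esymm, map_sum]
    refine Finset.sum_congr rfl fun t _ => ?_
    rw [map_prod]
    refine Finset.prod_congr rfl fun i _ => ?_
    rw [aeval_X]
  have h2 : (j : MvPolynomial (Fin m) ℤ) ^ r * esymm (Fin m) ℤ r =
      ∑ t ∈ Finset.powersetCard r (Finset.univ : Finset (Fin m)),
        ∏ i ∈ t, ((j : MvPolynomial (Fin m) ℤ) * X i) := by
    rw [esymm, Finset.mul_sum]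
    refine Finset.sum_congr rfl fun t ht => ?_
    rw [Finset.prod_mul_distrib, Finset.prod_const, (Finset.mem_powersetCard.1 ht).2]
  rw [ppoly, h1, h2, ← Finset.sum_sub_distrib]
  refine Ideal.sum_mem _ fun t ht => ?_
  have hX : ∀ i : Fin m, (X i : MvPolynomial (Fin m) ℤ) ∈ idealOfVars (Fin m) ℤ :=
    fun i => Ideal.subset_span ⟨i, rfl⟩
  have := (prod_sub_prod_mem (idealOfVars (Fin m) ℤ)
    (fun i => (j : MvPolynomial (Fin m) ℤ) * X i) (gpoly m j) t
    (fun i _ => Ideal.mul_mem_left _ _ (hX i))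
    (fun i _ => by
      obtain ⟨c, hc⟩ := exists_sq_mul (MvPolynomial (Fin m) ℤ) (X i) j
      rw [gpoly, hc]
      exact Ideal.mul_mem_right _ _ (Ideal.pow_mem_pow (hX i) 2))).2
  rwa [(Finset.mem_powersetCard.1 ht).2] at this

/-- the universal polynomial: `σ_r((1+X_i)^j - 1) - j^r σ_r(X) = Q(σ_1, …, σ_m)` with all
monomials of `Q` of weight `≥ r + 1`. -/
lemma exists_Q (m j r : ℕ) :
    ∃ Q : MvPolynomial (Fin m) ℤ, E ℤ m Q = ppoly m j r ∧ ∀ d ∈ Q.support, r + 1 ≤ wt d :=
  exists_of_isSymmetric_of_mem _ (ppoly_isSymmetric m j r) _ (ppoly_mem m j r)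

end Specific


/-! ## The γ-filtration -/

section Filtration

open _root_.LambdaRing Groth.Agent.Lib.LambdaRing

variable {K : Type u} [CommRing K] [LambdaOps K]

lemma gammaFiltration_zero (P : PosStructure K) : gammaFiltration P 0 = ⊤ := by
  simp [gammaFiltration]

lemma gammaFiltration_anti (P : PosStructure K) {n N : ℕ} (h : n ≤ N) :
    gammaFiltration P N ≤ gammaFiltration P n := by
  rcases Nat.eq_zero_or_pos n with rfl | hn
  · rw [gammaFiltration_zero]; exact le_top
  · unfold gammaFiltration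
    rw [if_neg (by omega), if_neg (by omega)]
    apply AddSubgroup.closure_mono
    rintro y ⟨l, hl, hs, rfl⟩
    exact ⟨l, hl, by omega, rfl⟩

lemma mul_mem_gF (P : PosStructure K) {a b : ℕ} {x y : K} (hx : x ∈ gammaFiltration P a)
    (hy : y ∈ gammaFiltration P b) : x * y ∈ gammaFiltration P (a + b) :=
  (Groth.Agent.S3291.result K P).2 a b x y hx hy

lemma smul_mem_gF (P : PosStructure K) {n : ℕ} (a : K) {x : K} (hx : x ∈ gammaFiltration P n) :
    a * x ∈ gammaFiltration P n :=
  (Groth.Agent.S3291.result K P).1 n a x hx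

lemma mem_gF_zero (P : PosStructure K) (x : K) : x ∈ gammaFiltration P 0 := by
  rw [gammaFiltration_zero]; trivial

lemma pow_mem_gF (P : PosStructure K) {a : ℕ} {x : K} (hx : x ∈ gammaFiltration P a) (e : ℕ) :
    x ^ e ∈ gammaFiltration P (a * e) := by
  induction e with
  | zero => rw [Nat.mul_zero]; exact mem_gF_zero P _
  | succ e ih =>
    rw [pow_succ, Nat.mul_succ]
    exact mul_mem_gF P ih hx

lemma prod_mem_gF (P : PosStructure K) {ι : Type*} (s : Finset ι) (f : ι → K) (n : ι → ℕ)
    (h : ∀ i ∈ s, f i ∈ gammaFiltration P (n i)) :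
    ∏ i ∈ s, f i ∈ gammaFiltration P (∑ i ∈ s, n i) := by
  classical
  induction s using Finset.induction_on with
  | empty => simp only [Finset.prod_empty, Finset.sum_empty]; exact mem_gF_zero P _
  | insert k s hk ih =>
    rw [Finset.prod_insert hk, Finset.sum_insert hk]
    exact mul_mem_gF P (h k (Finset.mem_insert_self k s))
      (ih fun i hi => h i (Finset.mem_insert_of_mem hi))

lemma gamma_mem_gF (P : PosStructure K) (k : ℕ) {x : K} (hx : P.aug x = 0) :
    gamma k x ∈ gammaFiltration P k := by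
  rcases Nat.eq_zero_or_pos k with rfl | hk
  · exact mem_gF_zero P _
  · unfold gammaFiltration
    rw [if_neg (by omega)]
    refine AddSubgroup.subset_closure ⟨[(k, x)], ?_, ?_, ?_⟩
    · intro p hp
      rw [List.mem_singleton] at hp
      rw [hp]; exact hx
    · simp
    · simp

lemma aeval_mem_gF (P : PosStructure K) {m : ℕ} (c : Fin m → K)
    (hc : ∀ k : Fin m, c k ∈ gammaFiltration P (k.1 + 1)) (Q : MvPolynomial (Fin m) ℤ) (n : ℕ)
    (hQ : ∀ d ∈ Q.support, n ≤ wt d) : MvPolynomial.aeval c Q ∈ gammaFiltration P n := by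
  have hsum : MvPolynomial.aeval c Q =
      ∑ d ∈ Q.support, MvPolynomial.aeval c (MvPolynomial.monomial d (MvPolynomial.coeff d Q)) := by
    conv_lhs => rw [Q.as_sum]
    rw [map_sum]
  rw [hsum]
  refine sum_mem fun d hd => ?_
  rw [MvPolynomial.aeval_monomial]
  refine smul_mem_gF P _ (gammaFiltration_anti P (hQ d hd) ?_)
  rw [Finsupp.prod, wt]
  exact prod_mem_gF P _ _ _ fun k _ => pow_mem_gF P (hc k) _

lemma map_gamma {K' : Type u} [CommRing K'] [LambdaOps K'] (f : K →+* K') (hf : IsLambdaHom f)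
    (k : ℕ) (x : K) : f (gamma k x) = gamma k (f x) := by
  unfold gamma
  split_ifs with h
  · exact map_one f
  · rw [map_sum]
    refine Finset.sum_congr rfl fun i _ => ?_
    rw [map_mul, map_natCast]
    split_ifs with hi
    · rw [map_zero]
    · rw [hf]

end Filtration

/-! ## γ of a sum of (line − 1) -/

section Lines

open _root_.LambdaRing Groth.Agent.Lib.LambdaRing

variable {K : Type u} [CommRing K] [LambdaOps K]

lemma gammaSeries_zero : gammaSeries (0 : K) = 1 := by
  rw [gammaSeries_eq_subst, lamSeries_zero, ← PowerSeries.coe_substAlgHom hasSubst_tSeries,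
    map_one]

lemma gammaSeries_sum {ι : Type*} (s : Finset ι) (f : ι → K) :
    gammaSeries (∑ i ∈ s, f i) = ∏ i ∈ s, gammaSeries (f i) := by
  classical
  induction s using Finset.induction_on with
  | empty => simp [gammaSeries_zero]
  | insert k s hk ih => rw [Finset.sum_insert hk, Finset.prod_insert hk, gammaSeries_add, ih]

lemma gammaSeries_line_sub_one (P : PosStructure K) {u : K} (hu : P.IsLine u) :
    gammaSeries (u - 1) = 1 + PowerSeries.C (u - 1) * PowerSeries.X := by
  have h := gammaSeries_sub_natCast P hu.1 1 (by rw [hu.2]; rfl)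
  rw [Nat.cast_one] at h
  rw [h, gammaPoly]
  simp [Finset.sum_range_succ, LambdaOps.lam_zero, LambdaOps.lam_one]
  ring

lemma gamma_sum_lines (P : PosStructure K) {m : ℕ} (u : Fin m → K) (hu : ∀ i, P.IsLine (u i))
    (k : ℕ) :
    gamma k (∑ i, (u i - 1)) =
      MvPolynomial.aeval (fun i => u i - 1) (MvPolynomial.esymm (Fin m) ℤ k) := by
  classical
  rw [← coeff_gammaSeries, gammaSeries_sum]
  have h1 : ∀ i ∈ (Finset.univ : Finset (Fin m)), gammaSeries (u i - 1) =
      1 + PowerSeries.C (u i - 1) * PowerSeries.X :=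
    fun i _ => gammaSeries_line_sub_one P (hu i)
  rw [Finset.prod_congr rfl h1, Finset.prod_one_add, map_sum]
  have h2 : ∀ t ∈ (Finset.univ : Finset (Fin m)).powerset,
      PowerSeries.coeff k (∏ i ∈ t, PowerSeries.C (u i - 1) * (PowerSeries.X : PowerSeries K)) =
        if t.card = k then ∏ i ∈ t, (u i - 1) else 0 := by
    intro t _
    rw [Finset.prod_mul_distrib, Finset.prod_const, ← map_prod, PowerSeries.coeff_C_mul,
      PowerSeries.coeff_X_pow]
    split_ifs with h1 h2 h2
    · rw [mul_one]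
    · exact absurd h1.symm h2
    · exact absurd h2.symm h1
    · rw [mul_zero]
  rw [Finset.sum_congr rfl h2, ← Finset.sum_filter, ← Finset.powersetCard_eq_filter,
    MvPolynomial.esymm, map_sum]
  refine Finset.sum_congr rfl fun t _ => ?_
  rw [map_prod]
  refine Finset.prod_congr rfl fun i _ => ?_
  rw [MvPolynomial.aeval_X]

lemma adams_line_sub_one (P : PosStructure K) {u : K} (hu : P.IsLine u) (j : ℕ) :
    adams P j (u - 1) = (1 + (u - 1)) ^ j - 1 := by
  rw [adams_sub, adams_of_isLine P hu, adams_one]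
  congr 2
  ring

end Lines


/-! ## The core congruence -/

section Core

open _root_.LambdaRing Groth.Agent.Lib.LambdaRing

variable {K : Type u} [CommRing K] [LambdaOps K]

/-- In a ring where `z = Σ (u_i - 1)` with the `u_i` line elements. -/
lemma core_in_split (P : PosStructure K) (hK : HasSplitting K P) {m : ℕ} (u : Fin m → K)
    (hu : ∀ i, P.IsLine (u i)) (j r : ℕ) (Q : MvPolynomial (Fin m) ℤ)
    (hQ : E ℤ m Q = ppoly m j r) :
    adams P j (gamma r (∑ i, (u i - 1))) - (j : K) ^ r * gamma r (∑ i, (u i - 1)) =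
      MvPolynomial.aeval (fun k : Fin m => gamma (k.1 + 1) (∑ i, (u i - 1))) Q := by
  set x : Fin m → K := fun i => u i - 1 with hx
  have hγ : ∀ k, gamma k (∑ i, (u i - 1)) =
      MvPolynomial.aeval x (MvPolynomial.esymm (Fin m) ℤ k) := gamma_sum_lines P u hu
  -- right-hand side
  have hR : MvPolynomial.aeval (fun k : Fin m => gamma (k.1 + 1) (∑ i, (u i - 1))) Q =
      MvPolynomial.aeval x (ppoly m j r) := by
    rw [← hQ, E, ← AlgHom.comp_apply, MvPolynomial.comp_aeval]
    congr 2
    funext k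
    exact hγ _
  rw [hR, ppoly, map_sub, map_mul, map_pow, map_natCast, ← hγ]
  congr 1
  -- `ψ^j (γ^r z) = ev (aeval g σ_r)`
  rw [hγ, ← AlgHom.comp_apply, MvPolynomial.comp_aeval]
  have h1 : adams P j (MvPolynomial.aeval x (MvPolynomial.esymm (Fin m) ℤ r)) =
      ((adamsRingHom P hK j).toIntAlgHom.comp (MvPolynomial.aeval x))
        (MvPolynomial.esymm (Fin m) ℤ r) := rfl
  rw [h1, MvPolynomial.comp_aeval]
  congr 2
  funext i
  change adams P j (u i - 1) = MvPolynomial.aeval x (gpoly m j i)
  rw [adams_line_sub_one P (hu i), gpoly, map_sub, map_pow, map_add, map_one,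
    MvPolynomial.aeval_X]

/-- The core congruence: for `e` positive of augmentation `m`,
`ψ^j γ^r(e - m) ≡ j^r γ^r(e - m)` modulo `F^{r+1}`. -/
lemma core (P : PosStructure K) (hK : HasSplitting K P) {e : K} (he : e ∈ P.pos) (j r : ℕ) :
    adams P j (gamma r (e - ((P.aug e).toNat : K))) -
      (j : K) ^ r * gamma r (e - ((P.aug e).toNat : K)) ∈ gammaFiltration P (r + 1) := by
  obtain ⟨C, hC, hsplit⟩ := hK
  obtain ⟨L', hL', f, hf, s, hs, hsum⟩ := hsplit ⟨K, P⟩ hC e he
  have hL : HasSplitting L'.carrier L'.posStr := ⟨C, hL', hsplit⟩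
  obtain ⟨l, rfl⟩ := Quot.exists_rep s
  change ∀ u ∈ (l : Multiset L'.carrier), L'.posStr.IsLine u at hs
  change (l : Multiset L'.carrier).sum = f e at hsum
  rw [Multiset.sum_coe] at hsum
  set m := l.length with hm
  set u : Fin m → L'.carrier := fun i => l.get i with hu_def
  have hu : ∀ i, L'.posStr.IsLine (u i) := fun i => hs _ (by
    rw [Multiset.mem_coe]; exact List.get_mem l i)
  have hsum' : ∑ i, u i = f e := by
    rw [← hsum, ← List.sum_ofFn, hu_def, List.ofFn_get]
  have haug : P.aug e = (m : ℤ) := by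
    rw [← hf.aug_comp, ← hsum', map_sum]
    simp only [(hu _).2, Finset.sum_const, Finset.card_univ, Fintype.card_fin, nsmul_eq_mul,
      mul_one]
  have htoNat : (P.aug e).toNat = m := by rw [haug, Int.toNat_natCast]
  rw [htoNat]
  have hfy : f (e - (m : K)) = ∑ i, (u i - 1) := by
    rw [map_sub, map_natCast, Finset.sum_sub_distrib, hsum']
    simp
  obtain ⟨Q, hQE, hQw⟩ := exists_Q (m := m) j r
  have hy0 : P.aug (e - (m : K)) = 0 := by
    rw [map_sub, map_natCast, haug, sub_self]
  have key : adams P j (gamma r (e - (m : K))) - (j : K) ^ r * gamma r (e - (m : K)) =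
      MvPolynomial.aeval (fun k : Fin m => gamma (k.1 + 1) (e - (m : K))) Q := by
    apply hf.injective
    have h2 : f (MvPolynomial.aeval (fun k : Fin m => gamma (k.1 + 1) (e - (m : K))) Q) =
        (f.toIntAlgHom.comp (MvPolynomial.aeval
          (fun k : Fin m => gamma (k.1 + 1) (e - (m : K))))) Q := rfl
    rw [h2, MvPolynomial.comp_aeval, map_sub, map_mul, map_pow, map_natCast,
      isExtension_map_adams hf, map_gamma f hf.isLambdaHom, hfy,
      core_in_split L'.posStr hL u hu j r Q hQE]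
    congr 2
    funext k
    change _ = f (gamma (k.1 + 1) (e - (m : K)))
    rw [map_gamma f hf.isLambdaHom, hfy]
  rw [key]
  exact aeval_mem_gF P _ (fun k => gamma_mem_gF P _ hy0) Q _ hQw

end Core


/-! ## The closure argument -/

section Final

open _root_.LambdaRing Groth.Agent.Lib.LambdaRing

variable {K : Type u} [CommRing K] [LambdaOps K]

/-- The set of `x ∈ F^n` with `ψ^j x - j^n x ∈ F^{n+1}`. -/
def S (P : PosStructure K) (j n : ℕ) : Set K :=
  {x | x ∈ gammaFiltration P n ∧ adams P j x - (j : K) ^ n * x ∈ gammaFiltration P (n + 1)}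

variable (P : PosStructure K) (j : ℕ)

lemma S_zero_mem (n : ℕ) : (0 : K) ∈ S P j n :=
  ⟨zero_mem _, by rw [adams_zero, mul_zero, sub_zero]; exact zero_mem _⟩

variable {P j}

lemma S_add {n : ℕ} {x y : K} (hx : x ∈ S P j n) (hy : y ∈ S P j n) : x + y ∈ S P j n := by
  refine ⟨add_mem hx.1 hy.1, ?_⟩
  have : adams P j (x + y) - (j : K) ^ n * (x + y) =
      (adams P j x - (j : K) ^ n * x) + (adams P j y - (j : K) ^ n * y) := by
    rw [adams_add]; ring
  rw [this]
  exact add_mem hx.2 hy.2

lemma S_neg {n : ℕ} {x : K} (hx : x ∈ S P j n) : -x ∈ S P j n := by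
  refine ⟨neg_mem hx.1, ?_⟩
  have : adams P j (-x) - (j : K) ^ n * (-x) = -(adams P j x - (j : K) ^ n * x) := by
    rw [adams_neg]; ring
  rw [this]
  exact neg_mem hx.2

lemma S_sum {ι : Type*} {n : ℕ} (s : Finset ι) (f : ι → K) (h : ∀ i ∈ s, f i ∈ S P j n) :
    ∑ i ∈ s, f i ∈ S P j n := by
  classical
  induction s using Finset.induction_on with
  | empty => rw [Finset.sum_empty]; exact S_zero_mem P j n
  | insert k s hk ih =>
    rw [Finset.sum_insert hk]
    exact S_add (h k (Finset.mem_insert_self k s)) (ih fun i hi => h i (Finset.mem_insert_of_mem hi))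

lemma S_mul (hK : HasSplitting K P) {p q : ℕ} {x y : K} (hx : x ∈ S P j p) (hy : y ∈ S P j q) :
    x * y ∈ S P j (p + q) := by
  refine ⟨mul_mem_gF P hx.1 hy.1, ?_⟩
  have hψy : adams P j y ∈ gammaFiltration P q := by
    have : adams P j y = (adams P j y - (j : K) ^ q * y) + (j : K) ^ q * y := by ring
    rw [this]
    exact add_mem (gammaFiltration_anti P (Nat.le_succ q) hy.2) (smul_mem_gF P _ hy.1)
  have : adams P j (x * y) - (j : K) ^ (p + q) * (x * y) =
      (adams P j x - (j : K) ^ p * x) * adams P j y +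
        ((j : K) ^ p * x) * (adams P j y - (j : K) ^ q * y) := by
    rw [adams_mul P hK]; ring
  rw [this]
  refine add_mem ?_ ?_
  · exact gammaFiltration_anti P (by omega) (mul_mem_gF P hx.2 hψy)
  · exact gammaFiltration_anti P (by omega) (mul_mem_gF P (smul_mem_gF P _ hx.1) hy.2)

lemma S_one : (1 : K) ∈ S P j 0 := by
  refine ⟨mem_gF_zero P _, ?_⟩
  rw [adams_one, pow_zero, mul_one, sub_self]
  exact zero_mem _

lemma S_mono {n N : ℕ} (h : n ≤ N) {x : K} (hx : x ∈ S P j N) : x ∈ S P j n := by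
  rcases Nat.eq_or_lt_of_le h with rfl | hlt
  · exact hx
  · refine ⟨gammaFiltration_anti P h hx.1, ?_⟩
    have : adams P j x - (j : K) ^ n * x =
        (adams P j x - (j : K) ^ N * x) + ((j : K) ^ N - (j : K) ^ n) * x := by ring
    rw [this]
    refine add_mem (gammaFiltration_anti P (by omega) hx.2) ?_
    exact gammaFiltration_anti P (by omega) (smul_mem_gF P _ hx.1)

/-- all `γ^i(w)` lie in `S i`. -/
def H (P : PosStructure K) (j : ℕ) (w : K) : Prop := ∀ i, gamma i w ∈ S P j i

lemma gamma_zero_eq (x : K) : gamma 0 x = 1 := by simp [gamma]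

lemma gamma_succ_zero (b : ℕ) : gamma (b + 1) (0 : K) = 0 := by
  rw [← coeff_gammaSeries, gammaSeries_zero, PowerSeries.coeff_one, if_neg (Nat.succ_ne_zero b)]

lemma gamma_one_eq (x : K) : gamma 1 x = x := Groth.Agent.S3291.gamma_one' x

lemma H_add (hK : HasSplitting K P) {w w' : K} (hw : H P j w) (hw' : H P j w') :
    H P j (w + w') := by
  intro k
  rw [gamma_add]
  refine S_sum _ _ fun i hi => ?_
  have hik : i + (k - i) = k := by
    have := Finset.mem_range.1 hi
    omega
  have := S_mul hK (hw i) (hw' (k - i))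
  rwa [hik] at this

lemma H_neg (hK : HasSplitting K P) {w : K} (hw : H P j w) : H P j (-w) := by
  intro b
  induction b using Nat.strong_induction_on with
  | _ b ih =>
    rcases b with _ | b
    · rw [gamma_zero_eq]; exact S_one
    · have h := gamma_add (b + 1) w (-w)
      rw [add_neg_cancel, gamma_succ_zero, Finset.sum_range_succ', gamma_zero_eq, one_mul,
        Nat.sub_zero] at h
      have h' : gamma (b + 1) (-w) =
          -∑ i ∈ Finset.range (b + 1), gamma (i + 1) w * gamma (b + 1 - (i + 1)) (-w) := by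
        rw [eq_neg_iff_add_eq_zero, add_comm]
        exact h.symm
      rw [h']
      refine S_neg (S_sum _ _ fun i hi => ?_)
      have hi' := Finset.mem_range.1 hi
      have := S_mul hK (hw (i + 1)) (ih (b + 1 - (i + 1)) (by omega))
      have hik : i + 1 + (b + 1 - (i + 1)) = b + 1 := by omega
      rwa [hik] at this

lemma H_pos (hK : HasSplitting K P) {e : K} (he : e ∈ P.pos) :
    H P j (e - ((P.aug e).toNat : K)) := by
  intro r
  have h0 : P.aug (e - ((P.aug e).toNat : K)) = 0 := by
    rw [map_sub, map_natCast, Int.toNat_of_nonneg (P.aug_pos e he).le, sub_self]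
  exact ⟨gamma_mem_gF P r h0, core P hK he j r⟩

lemma H_of_aug_eq_zero (hK : HasSplitting K P) {y : K} (hy : P.aug y = 0) : H P j y := by
  obtain ⟨e, f', he, hf', rfl⟩ := P.exists_sub y
  have haug : P.aug e = P.aug f' := by
    rw [map_sub] at hy
    exact sub_eq_zero.1 hy
  have : e - f' = (e - ((P.aug e).toNat : K)) + -(f' - ((P.aug f').toNat : K)) := by
    rw [haug]; ring
  rw [this]
  exact H_add hK (H_pos hK he) (H_neg hK (H_pos hK hf'))

lemma gen_mem_S (hK : HasSplitting K P) (l : List (ℕ × K)) (hl : ∀ p ∈ l, P.aug p.2 = 0) :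
    (l.map fun p => gamma p.1 p.2).prod ∈ S P j (l.map Prod.fst).sum := by
  induction l with
  | nil => simpa using S_one
  | cons a l ih =>
    simp only [List.map_cons, List.prod_cons, List.sum_cons]
    exact S_mul hK (H_of_aug_eq_zero hK (hl a (List.mem_cons_self)) a.1)
      (ih fun p hp => hl p (List.mem_cons_of_mem _ hp))

/-- `F^n ⊆ S n`. -/
theorem mem_S_of_mem_gammaFiltration (hK : HasSplitting K P) (n : ℕ) {x : K}
    (hx : x ∈ gammaFiltration P n) : x ∈ S P j n := by
  rcases Nat.eq_zero_or_pos n with rfl | hn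
  · refine ⟨hx, ?_⟩
    set a : ℤ := P.aug x with ha
    set x' : K := x - (a : K) with hx'
    have h0 : P.aug x' = 0 := by
      rw [hx', map_sub, map_intCast, ← ha]
      simp
    have h1 : x' ∈ S P j 1 := by
      have := H_of_aug_eq_zero (j := j) hK h0 1
      rwa [gamma_one_eq] at this
    have hψa : adams P j (a : K) = (a : K) := map_intCast (adamsRingHom P hK j) a
    have : adams P j x - (j : K) ^ 0 * x =
        (adams P j x' - (j : K) ^ 1 * x') + ((j : K) - 1) * x' := by
      have hxx : x = x' + (a : K) := by rw [hx']; ring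
      conv_lhs => rw [hxx, adams_add, hψa]
      ring
    rw [this]
    exact add_mem (gammaFiltration_anti P (by omega) h1.2) (smul_mem_gF P _ h1.1)
  · have hn' : n ≠ 0 := by omega
    unfold gammaFiltration at hx
    rw [if_neg hn'] at hx
    induction hx using AddSubgroup.closure_induction with
    | mem x hx =>
      obtain ⟨l, hl, hs, rfl⟩ := hx
      exact S_mono hs (gen_mem_S hK l hl)
    | zero => exact S_zero_mem P j n
    | add x y _ _ hx hy => exact S_add hx hy
    | neg x _ hx => exact S_neg hx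

/-- `ψ^j x - j^n x ∈ F^{n+1}` for `x ∈ F^n`. -/
theorem adams_sub_mem (hK : HasSplitting K P) (n : ℕ) {x : K}
    (hx : x ∈ gammaFiltration P n) :
    adams P j x - (j : K) ^ n * x ∈ gammaFiltration P (n + 1) :=
  (mem_S_of_mem_gammaFiltration hK n hx).2

end Final

end Groth.Agent.Lib.LambdaGamma6
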