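import Groth.Agent.Lib.SpecialLam6b
import Groth.Agent.S3792

/-!
# The universal divisibility `λ_{-1}(N) ∣ λ^b(λ_{-1}(N))`
-/

set_option autoImplicit false

namespace Groth.Agent.Lib.SpecialLam6d

open MvPolynomial Finset Groth.Agent.Lib.LambdaGamma6 Groth.Agent.Lib.SymmPoly6
  Groth.Agent.Lib.SpecialLam6 Groth.Agent.Lib.SpecialLam6b

/-! ## generalities on power series -/

section PS

variable {B : Type*} [CommRing B]

/-- coefficients of `∏ (1 + f i t)` are the elementary symmetric functions -/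
lemma coeff_prod_one_add {ι : Type*} [DecidableEq ι] (s : Finset ι) (f : ι → B) (k : ℕ) :
    PowerSeries.coeff k (∏ i ∈ s, (1 + PowerSeries.C (f i) * (PowerSeries.X : PowerSeries B))) =
      esymmOn s f k := by
  rw [Finset.prod_one_add, map_sum]
  have h2 : ∀ t ∈ s.powerset,
      PowerSeries.coeff k (∏ i ∈ t, PowerSeries.C (f i) * (PowerSeries.X : PowerSeries B)) =
        if t.card = k then ∏ i ∈ t, f i else 0 := by
    intro t _
    rw [Finset.prod_mul_distrib, Finset.prod_const, ← map_prod, PowerSeries.coeff_C_mul,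
      PowerSeries.coeff_X_pow]
    split_ifs with h1 h2 h2
    · rw [mul_one]
    · exact absurd h1.symm h2
    · exact absurd h2.symm h1
    · rw [mul_zero]
  rw [Finset.sum_congr rfl h2, ← Finset.sum_filter, ← Finset.powersetCard_eq_filter, esymmOn]

lemma exists_C_mul_of_forall_dvd (r : B) (F : PowerSeries B)
    (h : ∀ n, r ∣ PowerSeries.coeff n F) : ∃ Q : PowerSeries B, F = PowerSeries.C r * Q := by
  choose q hq using h
  refine ⟨PowerSeries.mk q, ?_⟩
  ext n
  rw [PowerSeries.coeff_C_mul, PowerSeries.coeff_mk, hq n]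

lemma rescale_C' (c r : B) : PowerSeries.rescale c (PowerSeries.C r) = PowerSeries.C r := by
  ext n
  rw [PowerSeries.coeff_rescale, PowerSeries.coeff_C]
  split_ifs with h
  · rw [h, pow_zero, one_mul]
  · rw [mul_zero]

/-- `G σ(H) - H σ(G)` is divisible by `1 - c`, where `σ` rescales the variable by `c`. -/
lemma cross_dvd (c : B) (G H : PowerSeries B) (n : ℕ) :
    (1 - c) ∣ PowerSeries.coeff n (G * PowerSeries.rescale c H - H * PowerSeries.rescale c G) := by
  rw [map_sub, PowerSeries.coeff_mul, PowerSeries.coeff_mul]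
  rw [← Finset.Nat.sum_antidiagonal_swap (n := n)
    (f := fun p => PowerSeries.coeff p.1 H * PowerSeries.coeff p.2 (PowerSeries.rescale c G))]
  rw [← Finset.sum_sub_distrib]
  refine Finset.dvd_sum fun ij _ => ?_
  simp only [Prod.fst_swap, Prod.snd_swap, PowerSeries.coeff_rescale]
  have h1 : PowerSeries.coeff ij.1 G * (c ^ ij.2 * PowerSeries.coeff ij.2 H) -
      PowerSeries.coeff ij.2 H * (c ^ ij.1 * PowerSeries.coeff ij.1 G) =
      PowerSeries.coeff ij.1 G * PowerSeries.coeff ij.2 H *
        ((1 - c ^ ij.1) - (1 - c ^ ij.2)) := by ring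
  rw [h1]
  refine Dvd.dvd.mul_left (dvd_sub ?_ ?_) _
  · have := sub_dvd_pow_sub_pow (1 : B) c ij.1
    rwa [one_pow] at this
  · have := sub_dvd_pow_sub_pow (1 : B) c ij.2
    rwa [one_pow] at this

end PS

/-! ## the universal divisibility -/

section Univ

variable {τ : Type*} [DecidableEq τ]

/-- the monomial `T_S` -/
noncomputable def mon (S : Finset τ) : MvPolynomial τ ℤ := ∏ a ∈ S, X a

/-- the factor `1 + T_S t` -/
noncomputable def fac (S : Finset τ) : PowerSeries (MvPolynomial τ ℤ) :=
  1 + PowerSeries.C (mon S) * PowerSeries.X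

/-- product over the even subsets of `D` -/
noncomputable def Aev (D : Finset τ) : PowerSeries (MvPolynomial τ ℤ) :=
  ∏ S ∈ D.powerset.filter (fun S => Even S.card), fac S

/-- product over the odd subsets of `D` -/
noncomputable def Bod (D : Finset τ) : PowerSeries (MvPolynomial τ ℤ) :=
  ∏ S ∈ D.powerset.filter (fun S => ¬ Even S.card), fac S

/-- `∏_{a ∈ D} (1 - T_a)` -/
noncomputable def piD (D : Finset τ) : MvPolynomial τ ℤ := ∏ a ∈ D, (1 - X a)

lemma fac_insert {a : τ} {S : Finset τ} (ha : a ∉ S) :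
    fac (insert a S) = PowerSeries.rescale (X a : MvPolynomial τ ℤ) (fac S) := by
  have h : mon (insert a S) = X a * mon S := by rw [mon, Finset.prod_insert ha, mon]
  rw [fac, fac, h, RingHom.map_add, RingHom.map_one, RingHom.map_mul (PowerSeries.rescale _),
    rescale_C', PowerSeries.rescale_X, RingHom.map_mul PowerSeries.C]
  ring

lemma insert_injOn {a : τ} {D : Finset τ} (ha : a ∉ D) :
    Set.InjOn (insert a : Finset τ → Finset τ) (D.powerset : Set (Finset τ)) := by
  intro S hS S' hS' h
  have hS1 : a ∉ S := fun h' => ha (Finset.mem_powerset.1 hS h')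
  have hS2 : a ∉ S' := fun h' => ha (Finset.mem_powerset.1 hS' h')
  have := congrArg (fun T => Finset.erase T a) h
  simpa [Finset.erase_insert hS1, Finset.erase_insert hS2] using this

lemma filter_insert_even {a : τ} {D : Finset τ} (ha : a ∉ D) :
    (insert a D).powerset.filter (fun S => Even S.card) =
      D.powerset.filter (fun S => Even S.card) ∪
        (D.powerset.filter (fun S => ¬ Even S.card)).image (insert a) := by
  rw [Finset.powerset_insert, Finset.filter_union]
  congr 1
  ext T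
  simp only [Finset.mem_filter, Finset.mem_image, Finset.mem_powerset]
  constructor
  · rintro ⟨⟨S, hS, rfl⟩, hev⟩
    have hS1 : a ∉ S := fun h' => ha (hS h')
    rw [Finset.card_insert_of_notMem hS1, Nat.even_add_one] at hev
    exact ⟨S, ⟨hS, hev⟩, rfl⟩
  · rintro ⟨S, ⟨hS, hod⟩, rfl⟩
    have hS1 : a ∉ S := fun h' => ha (hS h')
    refine ⟨⟨S, hS, rfl⟩, ?_⟩
    rw [Finset.card_insert_of_notMem hS1, Nat.even_add_one]
    exact hod

lemma filter_insert_odd {a : τ} {D : Finset τ} (ha : a ∉ D) :
    (insert a D).powerset.filter (fun S => ¬ Even S.card) =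
      D.powerset.filter (fun S => ¬ Even S.card) ∪
        (D.powerset.filter (fun S => Even S.card)).image (insert a) := by
  rw [Finset.powerset_insert, Finset.filter_union]
  congr 1
  ext T
  simp only [Finset.mem_filter, Finset.mem_image, Finset.mem_powerset]
  constructor
  · rintro ⟨⟨S, hS, rfl⟩, hod⟩
    have hS1 : a ∉ S := fun h' => ha (hS h')
    rw [Finset.card_insert_of_notMem hS1, Nat.even_add_one, not_not] at hod
    exact ⟨S, ⟨hS, hod⟩, rfl⟩
  · rintro ⟨S, ⟨hS, hev⟩, rfl⟩
    have hS1 : a ∉ S := fun h' => ha (hS h')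
    refine ⟨⟨S, hS, rfl⟩, ?_⟩
    rw [Finset.card_insert_of_notMem hS1, Nat.even_add_one, not_not]
    exact hev

lemma disjoint_image_insert {a : τ} {D : Finset τ} (ha : a ∉ D) (s t : Finset (Finset τ))
    (hs : s ⊆ D.powerset) :
    Disjoint s (t.image (insert a)) := by
  rw [Finset.disjoint_left]
  intro S hS hS'
  obtain ⟨S', _, rfl⟩ := Finset.mem_image.1 hS'
  exact ha (Finset.mem_powerset.1 (hs hS) (Finset.mem_insert_self a S'))

lemma Aev_insert {a : τ} {D : Finset τ} (ha : a ∉ D) :
    Aev (insert a D) = Aev D * PowerSeries.rescale (X a : MvPolynomial τ ℤ) (Bod D) := by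
  rw [Aev, filter_insert_even ha,
    Finset.prod_union (disjoint_image_insert ha _ _ (Finset.filter_subset _ _)),
    Finset.prod_image (fun S hS S' hS' h => insert_injOn ha
      (Finset.mem_coe.2 (Finset.mem_filter.1 hS).1) (Finset.mem_coe.2 (Finset.mem_filter.1 hS').1) h),
    Aev, Bod, map_prod]
  congr 1
  refine Finset.prod_congr rfl fun S hS => ?_
  exact fac_insert (fun h' => ha (Finset.mem_powerset.1 (Finset.mem_filter.1 hS).1 h'))

lemma Bod_insert {a : τ} {D : Finset τ} (ha : a ∉ D) :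
    Bod (insert a D) = Bod D * PowerSeries.rescale (X a : MvPolynomial τ ℤ) (Aev D) := by
  rw [Bod, filter_insert_odd ha,
    Finset.prod_union (disjoint_image_insert ha _ _ (Finset.filter_subset _ _)),
    Finset.prod_image (fun S hS S' hS' h => insert_injOn ha
      (Finset.mem_coe.2 (Finset.mem_filter.1 hS).1) (Finset.mem_coe.2 (Finset.mem_filter.1 hS').1) h),
    Aev, Bod, map_prod]
  congr 1
  refine Finset.prod_congr rfl fun S hS => ?_
  exact fac_insert (fun h' => ha (Finset.mem_powerset.1 (Finset.mem_filter.1 hS).1 h'))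

/-- **Universal divisibility**: every coefficient of
`∏_{S even} (1 + T_S t) - ∏_{S odd} (1 + T_S t)` is divisible by `∏ (1 - T_a)`. -/
theorem piD_dvd_coeff (D : Finset τ) (n : ℕ) :
    piD D ∣ PowerSeries.coeff n (Aev D - Bod D) := by
  induction D using Finset.induction_on generalizing n with
  | empty =>
    rw [piD, Finset.prod_empty]
    exact one_dvd _
  | insert a D ha ih =>
    obtain ⟨C₀, hC₀⟩ := exists_C_mul_of_forall_dvd (piD D) (Aev D - Bod D) ih
    have hA : Aev D = Bod D + PowerSeries.C (piD D) * C₀ := by rw [← hC₀]; ring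
    have h1 : Aev (insert a D) - Bod (insert a D) =
        PowerSeries.C (piD D) *
          (C₀ * PowerSeries.rescale (X a : MvPolynomial τ ℤ) (Bod D) -
            Bod D * PowerSeries.rescale (X a : MvPolynomial τ ℤ) C₀) := by
      rw [Aev_insert ha, Bod_insert ha, hA, map_add, map_mul, rescale_C']
      ring
    rw [h1, PowerSeries.coeff_C_mul, piD, Finset.prod_insert ha, mul_comm (1 - X a)]
    exact mul_dvd_mul_left _ (cross_dvd (X a) C₀ (Bod D) n)

end Univ

/-! ## specialisation to `Fin d` and descent to the elementary symmetric functions -/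

section FinD

variable (d : ℕ)

lemma coeff_prod_fac (i j : ℕ) :
    PowerSeries.coeff j (∏ S ∈ (univ : Finset (Fin d)).powersetCard i, fac S) =
      LambdaRing.compGen d i j := by
  rw [compGen_eq_esymmOn]
  exact coeff_prod_one_add _ (fun S : Finset (Fin d) => mon S) j

lemma Aev_univ : Aev (univ : Finset (Fin d)) =
    ∏ i ∈ (range (d + 1)).filter (fun i => Even i),
      ∏ S ∈ (univ : Finset (Fin d)).powersetCard i, fac S := by
  rw [Aev, ← Finset.prod_fiberwise_of_maps_to (g := Finset.card)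
    (t := (range (d + 1)).filter (fun i => Even i))]
  · refine Finset.prod_congr rfl fun i hi => ?_
    have hi' := (Finset.mem_filter.1 hi).2
    congr 1
    ext S
    simp only [Finset.mem_filter, Finset.mem_powerset, Finset.mem_powersetCard]
    constructor
    · rintro ⟨⟨hS, _⟩, hc⟩
      exact ⟨hS, hc⟩
    · rintro ⟨hS, hc⟩
      exact ⟨⟨hS, hc ▸ hi'⟩, hc⟩
  · intro S hS
    rw [Finset.mem_filter] at hS ⊢
    refine ⟨Finset.mem_range.2 ?_, hS.2⟩
    have := Finset.card_le_univ S
    rw [Fintype.card_fin] at this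
    omega

lemma Bod_univ : Bod (univ : Finset (Fin d)) =
    ∏ i ∈ (range (d + 1)).filter (fun i => ¬ Even i),
      ∏ S ∈ (univ : Finset (Fin d)).powersetCard i, fac S := by
  rw [Bod, ← Finset.prod_fiberwise_of_maps_to (g := Finset.card)
    (t := (range (d + 1)).filter (fun i => ¬ Even i))]
  · refine Finset.prod_congr rfl fun i hi => ?_
    have hi' := (Finset.mem_filter.1 hi).2
    congr 1
    ext S
    simp only [Finset.mem_filter, Finset.mem_powerset, Finset.mem_powersetCard]
    constructor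
    · rintro ⟨⟨hS, _⟩, hc⟩
      exact ⟨hS, hc⟩
    · rintro ⟨hS, hc⟩
      exact ⟨⟨hS, hc ▸ hi'⟩, hc⟩
  · intro S hS
    rw [Finset.mem_filter] at hS ⊢
    refine ⟨Finset.mem_range.2 ?_, hS.2⟩
    have := Finset.card_le_univ S
    rw [Fintype.card_fin] at this
    omega

lemma esymm_eq_zero_of_lt (n : ℕ) (h : d < n) : esymm (Fin d) ℤ n = 0 := by
  rw [esymm]
  have : (univ : Finset (Fin d)).powersetCard n = ∅ := by
    rw [Finset.powersetCard_eq_empty, Finset.card_univ, Fintype.card_fin]
    exact h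
  rw [this, Finset.sum_empty]

/-- `E` commutes with killing the variables of index `≥ d`. -/
lemma E_κ₁ {M : ℕ} (h : d ≤ M) (F : MvPolynomial (Fin M) ℤ) :
    E ℤ d (κ₁ (n := d) F) = κ₁ (n := d) (E ℤ M F) := by
  have : (E ℤ d).comp (κ₁ (n := d) (M := M)) = (κ₁ (n := d) (M := M)).comp (E ℤ M) := by
    apply MvPolynomial.algHom_ext
    intro c
    change E ℤ d (κ₁ (X c)) = κ₁ (E ℤ M (X c))
    have h2 : E ℤ M (X c) = esymm (Fin M) ℤ (c.1 + 1) := by rw [E, aeval_X]
    rw [h2, κ₁_esymm h, κ₁_X]
    by_cases hc : c.1 < d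
    · rw [dif_pos hc, E, aeval_X]
    · rw [dif_neg hc, map_zero, esymm_eq_zero_of_lt d (c.1 + 1) (by omega)]
  exact AlgHom.congr_fun this F

/-- the polynomial `Q_{i,j}` at level `d` (all higher variables killed) -/
noncomputable def θd (i j : ℕ) : MvPolynomial (Fin d) ℤ :=
  κ₁ (n := d) (θ (d + i * j) i j)

lemma E_θd (i j : ℕ) : E ℤ d (θd d i j) = LambdaRing.compGen d i j := by
  rw [θd, E_κ₁ d (Nat.le_add_right d (i * j)), E_θ _ i j (Nat.le_add_left _ _),
    κ₁_compGen (Nat.le_add_right d (i * j))]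

/-- the series `Σ_j Q_{i,j} t^j` -/
noncomputable def Θ (i : ℕ) : PowerSeries (MvPolynomial (Fin d) ℤ) :=
  PowerSeries.mk (fun j => θd d i j)

lemma map_E_Θ (i : ℕ) :
    PowerSeries.map (E ℤ d).toRingHom (Θ d i) =
      ∏ S ∈ (univ : Finset (Fin d)).powersetCard i, fac S := by
  refine PowerSeries.ext fun j => ?_
  rw [PowerSeries.coeff_map, Θ, PowerSeries.coeff_mk, coeff_prod_fac]
  exact E_θd d i j

/-- universal even part -/
noncomputable def AU : PowerSeries (MvPolynomial (Fin d) ℤ) :=
  ∏ i ∈ (range (d + 1)).filter (fun i => Even i), Θ d i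

/-- universal odd part -/
noncomputable def BU : PowerSeries (MvPolynomial (Fin d) ℤ) :=
  ∏ i ∈ (range (d + 1)).filter (fun i => ¬ Even i), Θ d i

lemma map_E_AU : PowerSeries.map (E ℤ d).toRingHom (AU d) = Aev (univ : Finset (Fin d)) := by
  rw [AU, map_prod, Aev_univ]
  exact Finset.prod_congr rfl fun i _ => map_E_Θ d i

lemma map_E_BU : PowerSeries.map (E ℤ d).toRingHom (BU d) = Bod (univ : Finset (Fin d)) := by
  rw [BU, map_prod, Bod_univ]
  exact Finset.prod_congr rfl fun i _ => map_E_Θ d i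

/-- the universal `λ_{-1}` -/
noncomputable def zU : MvPolynomial (Fin d) ℤ :=
  ∑ i ∈ range (d + 1), (-1) ^ i * ξ₁ d i

lemma E_zU : E ℤ d (zU d) = piD (univ : Finset (Fin d)) := by
  rw [zU, map_sum, piD]
  have h := Groth.Agent.S3792.alt_sum_esymm (K := MvPolynomial (Fin d) ℤ) (m := d)
    (fun a => (X a : MvPolynomial (Fin d) ℤ))
  rw [← h]
  refine Finset.sum_congr rfl fun i hi => ?_
  rw [map_mul, map_pow, map_neg, map_one, E_ξ₁ d i (Nat.lt_succ_iff.1 (Finset.mem_range.1 hi))]
  congr 1
  exact (aeval_X_left_apply _).symm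

lemma E_isSymmetric (F : MvPolynomial (Fin d) ℤ) : (E ℤ d F).IsSymmetric := by
  rw [E_eq]
  exact (esymmAlgHom (Fin d) ℤ d F).2

lemma piD_univ_ne_zero : piD (univ : Finset (Fin d)) ≠ 0 := by
  rw [piD, Finset.prod_ne_zero_iff]
  intro a _ h
  have h1 := congrArg (MvPolynomial.eval (fun _ => (0 : ℤ))) h
  simp at h1

/-- **Universal divisibility in the elementary symmetric functions**. -/
theorem exists_zU_mul (b : ℕ) :
    ∃ C : MvPolynomial (Fin d) ℤ, PowerSeries.coeff b (AU d - BU d) = zU d * C := by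
  obtain ⟨c, hc⟩ := piD_dvd_coeff (univ : Finset (Fin d)) b
  have hE : E ℤ d (PowerSeries.coeff b (AU d - BU d)) =
      PowerSeries.coeff b (Aev (univ : Finset (Fin d)) - Bod univ) := by
    rw [← map_E_AU, ← map_E_BU, ← map_sub, PowerSeries.coeff_map]
    rfl
  have hsymm : c.IsSymmetric := by
    intro σ
    have h1 : rename σ (piD (univ : Finset (Fin d)) * c) = piD univ * c := by
      rw [← hc, ← hE]
      exact E_isSymmetric d _ σ
    have h2 : rename σ (piD (univ : Finset (Fin d))) = piD univ := by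
      rw [← E_zU]
      exact E_isSymmetric d _ σ
    rw [map_mul, h2] at h1
    exact mul_left_cancel₀ (piD_univ_ne_zero d) h1
  obtain ⟨C, hC⟩ := esymmAlgHom_fin_surjective ℤ (le_refl d) ⟨c, hsymm⟩
  have hEC : E ℤ d C = c := by rw [E_eq, hC]
  refine ⟨C, ?_⟩
  apply E_injective (R := ℤ) (m := d)
  rw [hE, hc, map_mul, E_zU, hEC]

end FinD

/-! ## transport to a special λ-ring -/

section KSide

open _root_.LambdaRing

variable {K : Type*} [CommRing K] [LambdaOps K] (hK : IsSpecial K) (d : ℕ) (N : K)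
  (hN : ∀ i : ℕ, d < i → LambdaOps.lam i N = 0)

/-- evaluation at `λ^1 N, …, λ^d N` -/
noncomputable def evN : MvPolynomial (Fin d) ℤ →ₐ[ℤ] K :=
  aeval (fun c : Fin d => LambdaOps.lam (c.1 + 1) N)

include hN in
lemma evN_κ₁ {M : ℕ} (F : MvPolynomial (Fin M) ℤ) :
    evN d N (κ₁ (n := d) F) = aeval (fun c : Fin M => LambdaOps.lam (c.1 + 1) N) F := by
  have : (evN d N).comp (κ₁ (n := d) (M := M)) =
      aeval (fun c : Fin M => LambdaOps.lam (c.1 + 1) N) := by
    apply MvPolynomial.algHom_ext
    intro c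
    change evN d N (κ₁ (X c)) = aeval (fun c : Fin M => LambdaOps.lam (c.1 + 1) N) (X c)
    rw [κ₁_X, aeval_X]
    by_cases hc : c.1 < d
    · rw [dif_pos hc, evN, aeval_X]
    · rw [dif_neg hc, map_zero, hN (c.1 + 1) (by omega)]
  exact AlgHom.congr_fun this F

include hK hN in
lemma evN_θd (i j : ℕ) :
    evN d N (θd d i j) = LambdaOps.lam j (LambdaOps.lam i N) := by
  have hij : i * j ≤ d + i * j := Nat.le_add_left _ _
  rw [θd, evN_κ₁ d N hN, θ, dif_pos hij,
    hK.lam_lam i j (Qst (d + i * j) i j hij) (Qst_isCompPoly (d + i * j) i j hij) N]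
  change aeval _ (rename _ (Qst (d + i * j) i j hij)) = _
  rw [aeval_rename]
  rfl

lemma evN_ξ₁ (i : ℕ) (hi : i ≤ d) : evN d N (ξ₁ d i) = LambdaOps.lam i N := by
  rcases i with _ | j
  · rw [ξ₁, map_one, LambdaOps.lam_zero]
  · rw [ξ₁, dif_pos (by omega)]
    exact aeval_X _ _

lemma evN_zU :
    evN d N (zU d) = ∑ i ∈ range (d + 1), (-1 : K) ^ i * LambdaOps.lam i N := by
  rw [zU, map_sum]
  refine Finset.sum_congr rfl fun i hi => ?_
  rw [map_mul, map_pow, map_neg, map_one, evN_ξ₁ d N i (Nat.lt_succ_iff.1 (Finset.mem_range.1 hi))]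

include hK hN in
lemma lamSeries_lam (i : ℕ) :
    lamSeries (LambdaOps.lam i N) = PowerSeries.map (evN d N).toRingHom (Θ d i) := by
  refine PowerSeries.ext fun j => ?_
  rw [coeff_lamSeries', PowerSeries.coeff_map, Θ, PowerSeries.coeff_mk]
  exact (evN_θd hK d N hN i j).symm

include hK hN in
/-- In a special λ-ring, `λ_{-1}(N)` divides `λ^b(λ_{-1}(N))` for `b ≥ 1`, when `λ^i N = 0` for
`i > d`. -/
theorem lamAlt_dvd_lam (b : ℕ) (hb : 1 ≤ b) :
    (∑ i ∈ range (d + 1), (-1 : K) ^ i * LambdaOps.lam i N) ∣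
      LambdaOps.lam b (∑ i ∈ range (d + 1), (-1 : K) ^ i * LambdaOps.lam i N) := by
  set z := ∑ i ∈ range (d + 1), (-1 : K) ^ i * LambdaOps.lam i N with hz
  set u := ∑ i ∈ (range (d + 1)).filter (fun i => Even i), LambdaOps.lam i N with hu
  set v := ∑ i ∈ (range (d + 1)).filter (fun i => ¬ Even i), LambdaOps.lam i N with hv
  have huv : u = z + v := by
    rw [hz, ← Finset.sum_filter_add_sum_filter_not (range (d + 1)) (fun i => Even i), hu, hv]
    have h1 : ∑ i ∈ (range (d + 1)).filter (fun i => Even i), (-1 : K) ^ i * LambdaOps.lam i N =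
        ∑ i ∈ (range (d + 1)).filter (fun i => Even i), LambdaOps.lam i N :=
      Finset.sum_congr rfl fun i hi => by
        rw [(Finset.mem_filter.1 hi).2.neg_one_pow, one_mul]
    have h2 : ∑ i ∈ (range (d + 1)).filter (fun i => ¬ Even i), (-1 : K) ^ i * LambdaOps.lam i N =
        -∑ i ∈ (range (d + 1)).filter (fun i => ¬ Even i), LambdaOps.lam i N := by
      rw [← Finset.sum_neg_distrib]
      refine Finset.sum_congr rfl fun i hi => ?_
      rw [(Nat.not_even_iff_odd.1 (Finset.mem_filter.1 hi).2).neg_one_pow, neg_one_mul]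
    rw [h1, h2]
    ring
  have hU : lamSeries u = PowerSeries.map (evN d N).toRingHom (AU d) := by
    rw [hu, Groth.Agent.S3792.lamSeries_sum, AU, map_prod]
    exact Finset.prod_congr rfl fun i _ => lamSeries_lam hK d N hN i
  have hV : lamSeries v = PowerSeries.map (evN d N).toRingHom (BU d) := by
    rw [hv, Groth.Agent.S3792.lamSeries_sum, BU, map_prod]
    exact Finset.prod_congr rfl fun i _ => lamSeries_lam hK d N hN i
  have hmul : lamSeries u = lamSeries z * lamSeries v := by rw [huv, lamSeries_add']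
  have key : ∀ b, 1 ≤ b → z ∣ LambdaOps.lam b z := by
    intro b
    induction b using Nat.strong_induction_on with
    | _ b ih =>
      intro hb
      obtain ⟨b', rfl⟩ : ∃ b', b = b' + 1 := ⟨b - 1, by omega⟩
      obtain ⟨C, hC⟩ := exists_zU_mul d (b' + 1)
      have h1 : PowerSeries.coeff (b' + 1) (lamSeries u) - PowerSeries.coeff (b' + 1) (lamSeries v) =
          z * evN d N C := by
        rw [hU, hV, PowerSeries.coeff_map, PowerSeries.coeff_map, ← map_sub, ← map_sub, hC]
        change evN d N (zU d * C) = _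
        rw [map_mul, evN_zU]
      rw [hmul, PowerSeries.coeff_mul, Finset.Nat.sum_antidiagonal_eq_sum_range_succ_mk,
        Finset.sum_range_succ, Finset.sum_range_succ'] at h1
      simp only [coeff_lamSeries', LambdaOps.lam_zero, Nat.sub_zero, Nat.sub_self, one_mul,
        mul_one] at h1
      have h2 : LambdaOps.lam (b' + 1) z = z * evN d N C -
          ∑ a ∈ range b', LambdaOps.lam (a + 1) z * LambdaOps.lam (b' + 1 - (a + 1)) v := by
        rw [← h1]; ring
      rw [h2]
      refine dvd_sub (dvd_mul_right _ _) (Finset.dvd_sum fun a ha => ?_)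
      have ha' := Finset.mem_range.1 ha
      exact Dvd.dvd.mul_right (ih (a + 1) (by omega) (by omega)) _
  exact key b hb

end KSide

end Groth.Agent.Lib.SpecialLam6d
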