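import Groth.Agent.Lib.LamModel99k
import Groth.Agent.S8691
import Groth.Agent.S3792

/-!
# The truncated free λ-ring on one generator, as a special λ-ring (helper99)

`Ud d K = K[Y_1, …, Y_d]` with the λ-structure transported from the symmetric polynomials in the
split model `K[x_1, …, x_d]` along `Y_j ↦ e_j(x - 1)`.
-/

set_option autoImplicit false

namespace Groth.Agent.Lib.LamModel99

open MvPolynomial Finset _root_.LambdaRing Groth.Agent.Lib.LambdaRing
  Groth.Agent.Lib.LambdaGamma Groth.Agent.Lib.LambdaGamma6 Groth.Agent.Lib.LamFil99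

universe u v w

/-! ## transport of specialness along an injective λ-map -/

section Transport

variable {K : Type u} [CommRing K] [LambdaOps K]
  {B : Type v} [CommRing B] [LambdaOps B] [Algebra K B]
  {M : Type w} [CommRing M] [LambdaOps M] [Algebra K M]
  (φ : B →ₐ[K] M) (hφ : Function.Injective φ) (hc : ∀ b, Comm φ b)

include hφ hc in
theorem isSpecial_of_injective_comm (hM : IsSpecial M) : IsSpecial B where
  lam_one_eq_zero n hn := by
    apply hφ
    rw [hc 1 n, map_one, hM.lam_one_eq_zero n hn, map_zero]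
  lam_mul n P hP x y := by
    apply hφ
    rw [hc (x * y) n, map_mul, hM.lam_mul n P hP, map_aeval_int]
    congr 2
    funext s
    rcases s with k | k
    · exact (hc x _).symm
    · exact (hc y _).symm
  lam_lam i j Q hQ x := by
    apply hφ
    rw [hc _ j, hc x i, hM.lam_lam i j Q hQ, map_aeval_int]
    congr 2
    funext s
    exact (hc x _).symm

include hφ hc in
theorem isLambdaAlg_of_injective_comm (hKM : IsLambdaAlg K M) : IsLambdaAlg K B := by
  intro n κ
  apply hφ
  rw [hc _ n, AlgHom.commutes, AlgHom.commutes, hKM]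

end Transport

/-! ## permutations of the variables of the split model -/

section Perm

variable {τ : Type v} {K : Type u} [CommRing K] [LambdaOps K] [BinomialRing K]

attribute [local instance] modelOps

lemma rename_comm {τ' : Type v} (σ : τ → τ') (f : MvPolynomial τ K) :
    Comm (rename σ : MvPolynomial τ K →ₐ[K] MvPolynomial τ' K) f := by
  induction f using MvPolynomial.induction_on' with
  | monomial β κ =>
    intro k
    rw [lam_monomial, rename_monomial, rename_monomial, lam_monomial, Finsupp.mapDomain_smul]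
  | add p q hp hq => exact Comm_add hp hq

end Perm

/-! ## shifting back -/

section Unshift

variable {τ : Type v} {K : Type u} [CommRing K]

/-- the inverse shift `x_a ↦ x_a - 1` -/
noncomputable def unshift : MvPolynomial τ K →ₐ[K] MvPolynomial τ K := aeval (fun a => X a - 1)

lemma shift_unshift (f : MvPolynomial τ K) : shift (unshift f) = f := by
  have : (shift (τ := τ) (K := K)).comp unshift = AlgHom.id K _ := by
    apply MvPolynomial.algHom_ext
    intro a
    simp [shift, unshift]
  exact AlgHom.congr_fun this f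

lemma unshift_shift (f : MvPolynomial τ K) : unshift (shift f) = f := by
  have : (unshift (τ := τ) (K := K)).comp shift = AlgHom.id K _ := by
    apply MvPolynomial.algHom_ext
    intro a
    simp [shift, unshift]
  exact AlgHom.congr_fun this f

lemma shift_injective : Function.Injective (shift (τ := τ) (K := K)) :=
  Function.LeftInverse.injective unshift_shift

lemma rename_shift (σ : τ → τ) (f : MvPolynomial τ K) :
    rename σ (shift f) = shift (rename σ f) := by
  have : (rename σ : MvPolynomial τ K →ₐ[K] MvPolynomial τ K).comp shift =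
      (shift (τ := τ) (K := K)).comp (rename σ) := by
    apply MvPolynomial.algHom_ext
    intro a
    simp [shift]
  exact AlgHom.congr_fun this f

end Unshift

/-! ## the ring `Ud` -/

section UdDef

variable (d : ℕ) (K : Type u) [CommRing K]

/-- the truncated free λ-ring on one generator, as a type synonym of `K[Y_1, …, Y_d]` -/
def Ud : Type u := MvPolynomial (Fin d) K

noncomputable instance : CommRing (Ud d K) := inferInstanceAs (CommRing (MvPolynomial (Fin d) K))

noncomputable instance : Algebra K (Ud d K) :=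
  inferInstanceAs (Algebra K (MvPolynomial (Fin d) K))

variable {d K}

/-- the underlying polynomial -/
def Ud.toPoly (q : Ud d K) : MvPolynomial (Fin d) K := q

/-- the embedding into the split model: `Y_j ↦ e_j(x - 1)` -/
noncomputable def Ud.emb : Ud d K →ₐ[K] MvPolynomial (Fin d) K :=
  (unshift (τ := Fin d) (K := K)).comp (E K d)

lemma Ud.shift_emb (q : Ud d K) : shift (Ud.emb q) = E K d q := by
  rw [Ud.emb, AlgHom.comp_apply, shift_unshift]
  rfl

lemma Ud.emb_injective : Function.Injective (Ud.emb (d := d) (K := K)) := by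
  intro q q' h
  have := congrArg shift h
  rw [Ud.shift_emb, Ud.shift_emb] at this
  exact E_injective this

lemma Ud.emb_isSymmetric (q : Ud d K) : (Ud.emb q).IsSymmetric := by
  intro σ
  apply shift_injective
  rw [← rename_shift, Ud.shift_emb, E_eq]
  exact (esymmAlgHom (Fin d) K d q).2 σ

lemma Ud.exists_emb_eq (f : MvPolynomial (Fin d) K) (hf : f.IsSymmetric) :
    ∃ q : Ud d K, Ud.emb q = f := by
  have hs : (shift f).IsSymmetric := by
    intro σ
    rw [rename_shift, hf σ]
  obtain ⟨q, hq⟩ := esymmAlgHom_fin_surjective K (le_refl d) ⟨shift f, hs⟩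
  refine ⟨q, ?_⟩
  apply shift_injective
  rw [Ud.shift_emb, E_eq, hq]

end UdDef

section UdLam

variable {d : ℕ} {K : Type u} [CommRing K] [LambdaOps K] [BinomialRing K]

attribute [local instance] modelOps

lemma Ud.exists_emb_eq_lam (k : ℕ) (q : Ud d K) :
    ∃ q' : Ud d K, Ud.emb q' = LambdaOps.lam k (Ud.emb q) := by
  refine Ud.exists_emb_eq _ fun σ => ?_
  rw [rename_comm (σ : Fin d → Fin d) (Ud.emb q) k, Ud.emb_isSymmetric q σ]

/-- the transported λ-operations -/
noncomputable def Ud.lamU (k : ℕ) (q : Ud d K) : Ud d K :=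
  Classical.choose (Ud.exists_emb_eq_lam k q)

lemma Ud.emb_lamU (k : ℕ) (q : Ud d K) :
    Ud.emb (Ud.lamU k q) = LambdaOps.lam k (Ud.emb q) :=
  Classical.choose_spec (Ud.exists_emb_eq_lam k q)

noncomputable instance Ud.instLambdaOps : LambdaOps (Ud d K) where
  lam := Ud.lamU
  lam_zero q := Ud.emb_injective (by rw [Ud.emb_lamU, LambdaOps.lam_zero, map_one])
  lam_one q := Ud.emb_injective (by rw [Ud.emb_lamU, LambdaOps.lam_one])
  lam_add k q q' := Ud.emb_injective (by
    rw [Ud.emb_lamU, map_add, LambdaOps.lam_add, map_sum]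
    refine Finset.sum_congr rfl fun i _ => ?_
    rw [map_mul, Ud.emb_lamU, Ud.emb_lamU])

lemma Ud.emb_comm (q : Ud d K) : Comm (Ud.emb (d := d) (K := K)) q :=
  fun k => Ud.emb_lamU k q

theorem Ud.isSpecial : IsSpecial (Ud d K) :=
  isSpecial_of_injective_comm Ud.emb Ud.emb_injective Ud.emb_comm model_isSpecial

theorem Ud.isLambdaAlg (hKb : IsBinomial K) : IsLambdaAlg K (Ud d K) :=
  isLambdaAlg_of_injective_comm Ud.emb Ud.emb_injective Ud.emb_comm (model_isLambdaAlg hKb)

/-- the generators `Y_{j+1}` -/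
noncomputable def Ud.Y (j : Fin d) : Ud d K := (X j : MvPolynomial (Fin d) K)

lemma Ud.emb_Y (j : Fin d) :
    Ud.emb (Ud.Y j : Ud d K) =
      aeval (fun a : Fin d => (X a : MvPolynomial (Fin d) K) - 1) (esymm (Fin d) K ((j : ℕ) + 1)) := by
  rw [Ud.emb, AlgHom.comp_apply, Ud.Y]
  change unshift (E K d (X j)) = _
  rw [E, aeval_X]
  rfl

lemma Ud.emb_gamma_Y0 (hd : 1 ≤ d) (k : ℕ) :
    Ud.emb (gamma k (Ud.Y ⟨0, hd⟩ : Ud d K)) =
      aeval (fun a : Fin d => (X a : MvPolynomial (Fin d) K) - 1) (esymm (Fin d) K k) := by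
  have h1 : Ud.emb (Ud.Y ⟨0, hd⟩ : Ud d K) = zN (K := K) d := by
    rw [Ud.emb_Y]
    change aeval (fun a : Fin d => (X a : MvPolynomial (Fin d) K) - 1) (esymm (Fin d) K 1) = zN d
    rw [esymm_one, map_sum, zN]
    refine Finset.sum_congr rfl fun a _ => ?_
    rw [aeval_X]
  rw [map_gamma_of_Comm (Ud.emb_comm _) k, h1, gamma_zN]

lemma Ud.gamma_Y0 (hd : 1 ≤ d) (k : ℕ) (hk : 1 ≤ k) (hkd : k ≤ d) :
    gamma k (Ud.Y ⟨0, hd⟩ : Ud d K) = Ud.Y ⟨k - 1, by omega⟩ := by
  apply Ud.emb_injective
  rw [Ud.emb_gamma_Y0, Ud.emb_Y]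
  congr 2
  change k = k - 1 + 1
  omega

lemma Ud.gamma_Y0_eq_zero (hd : 1 ≤ d) (k : ℕ) (hk : d < k) :
    gamma k (Ud.Y ⟨0, hd⟩ : Ud d K) = 0 := by
  apply Ud.emb_injective
  rw [Ud.emb_gamma_Y0, esymm_eq_zero_of_card_lt _ _ (by simpa using hk), map_zero, map_zero]

end UdLam

section Omega

variable {d : ℕ} {K : Type u} [CommRing K] [LambdaOps K] [BinomialRing K]
  {A : Type v} [CommRing A] [LambdaOps A] [Algebra K A]
  (hKb : IsBinomial K) (hA : IsSpecial A) (hKA : IsLambdaAlg K A)
  (hP : ∀ n : ℕ, ∃ P : MvPolynomial (Fin n ⊕ Fin n) ℤ, IsMulPoly n P)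
  (hQ : ∀ i j : ℕ, ∃ Q : MvPolynomial (Fin (i * j)) ℤ, IsCompPoly i j Q)
  (hd : 1 ≤ d) (u : A) (hu : ∀ k : ℕ, d < k → gamma k u = 0)

/-- the classifying map `Ud → A`, `Y_j ↦ γ^j u` -/
noncomputable def Ud.Om : Ud d K →ₐ[K] A :=
  aeval (R := K) (fun j : Fin d => gamma ((j : ℕ) + 1) u)

lemma Ud.Om_Y (j : Fin d) : Ud.Om u (Ud.Y j : Ud d K) = gamma ((j : ℕ) + 1) u := by
  rw [Ud.Om, Ud.Y]
  exact aeval_X _ _

include hd hu in
lemma Ud.Om_gamma_Y0 (k : ℕ) :
    Ud.Om u (gamma k (Ud.Y ⟨0, hd⟩ : Ud d K)) = gamma k u := by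
  rcases Nat.eq_zero_or_pos k with rfl | hk
  · rw [gamma_zero_eq, gamma_zero_eq, map_one]
  · rcases Nat.lt_or_ge d k with hlt | hle
    · rw [Ud.gamma_Y0_eq_zero hd k hlt, map_zero, hu k hlt]
    · rw [Ud.gamma_Y0 hd k hk hle, Ud.Om_Y]
      congr 1
      change k - 1 + 1 = k
      omega

include hKb hA hKA hP hQ hd hu in
/-- **the classifying map commutes with the λ-operations** -/
theorem Ud.Om_comm (q : Ud d K) : Comm (Ud.Om (d := d) (K := K) u) q := by
  have hU : IsSpecial (Ud d K) := Ud.isSpecial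
  have hKU : IsLambdaAlg K (Ud d K) := Ud.isLambdaAlg hKb
  have h0 : Ud.Om u (Ud.Y ⟨0, hd⟩ : Ud d K) = u := by
    have := Ud.Om_gamma_Y0 (K := K) hd u hu 1
    rwa [gamma_one_eq, gamma_one_eq] at this
  have hc0 : Comm (Ud.Om (d := d) (K := K) u) (Ud.Y ⟨0, hd⟩) := by
    refine Comm_of_gamma hU hA hKU hKA fun k => ?_
    rw [h0, Ud.Om_gamma_Y0 (K := K) hd u hu]
  refine Comm_of_adjoin hU hA hKU hKA hP (Set.range (Ud.Y (d := d) (K := K))) ?_ ?_ q
  · rintro _ ⟨j, rfl⟩
    have := Comm_gamma hU hA hKU hKA hQ hc0 ((j : ℕ) + 1)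
    rwa [Ud.gamma_Y0 hd _ (by omega) (by have := j.2; omega)] at this
  · exact MvPolynomial.adjoin_range_X

end Omega

end Groth.Agent.Lib.LamModel99
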