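import Groth.Agent.Lib.LamDiv99a

/-!
# Elements of finite rank, divisibility by `γ^d(u)`, and maps of augmented λ-rings (helper99)
-/

set_option autoImplicit false

namespace Groth.Agent.Lib.LamModel99

open MvPolynomial Finset _root_.LambdaRing Groth.Agent.Lib.LambdaRing
  Groth.Agent.Lib.LambdaGamma Groth.Agent.Lib.LambdaGamma6 Groth.Agent.Lib.LamFil99

universe u v w

section Rank

lemma gamma_pos_eq {A : Type*} [CommRing A] [LambdaOps A] (a : ℕ) (ha : 1 ≤ a) (z : A) :
    gamma a z = ∑ j ∈ range (a + 1), ((a - 1).choose (j - 1) : A) *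
      (if j = 0 then 0 else LambdaOps.lam j z) := by
  rw [gamma, if_neg (by omega)]

variable {A : Type*} [CommRing A] [LambdaOps A]
  (h1 : ∀ k : ℕ, 2 ≤ k → LambdaOps.lam k (1 : A) = 0)

include h1 in
/-- if `λ^j N = 0` for `j > d` then `γ^k(N - d) = 0` for `k > d` -/
lemma gamma_sub_natCast_eq_zero (d : ℕ) (N : A) (hN : ∀ k : ℕ, d < k → LambdaOps.lam k N = 0)
    (k : ℕ) (hk : d < k) : gamma k (N - (d : A)) = 0 := by
  obtain ⟨m, rfl⟩ : ∃ m, k = m + 1 + d := ⟨k - 1 - d, by omega⟩
  rw [gamma_eq_lam h1]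
  have e : N - (d : A) + ((m + 1 + d : ℕ) : A) - 1 = N + (m : A) := by
    push_cast
    ring
  rw [e, LambdaOps.lam_add]
  refine Finset.sum_eq_zero fun j hj => ?_
  rcases Nat.lt_or_ge d j with hlt | hle
  · rw [hN j hlt, zero_mul]
  · rw [lam_natCast h1, Nat.choose_eq_zero_of_lt (by omega), Nat.cast_zero, mul_zero]

include h1 in
/-- `γ^d(N - d) = (-1)^d λ_{-1}(N)` -/
lemma gamma_sub_natCast_eq (d : ℕ) (hd : 1 ≤ d) (N : A) :
    gamma d (N - (d : A)) =
      (-1 : A) ^ d * ∑ j ∈ range (d + 1), (-1 : A) ^ j * LambdaOps.lam j N := by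
  rw [gamma_eq_lam h1]
  have e : N - (d : A) + (d : A) - 1 = N + (-1) := by ring
  rw [e, LambdaOps.lam_add, Finset.mul_sum]
  refine Finset.sum_congr rfl fun j hj => ?_
  have hj' : j ≤ d := by have := Finset.mem_range.1 hj; omega
  rw [lam_neg_one h1]
  have : (-1 : A) ^ (d - j) = (-1) ^ d * (-1) ^ j := by
    have h2 : (-1 : A) ^ d = (-1) ^ (d - j) * (-1) ^ j := by rw [← pow_add, Nat.sub_add_cancel hj']
    rw [h2, mul_assoc, ← pow_add, ← two_mul, pow_mul]
    simp
  rw [this]
  ring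

include h1 in
/-- if `γ^j u = 0` for `j > d` then `λ^k(u + d) = 0` for `k > d` -/
lemma lam_add_natCast_eq_zero (d : ℕ) (u : A) (hu : ∀ k : ℕ, d < k → gamma k u = 0)
    (k : ℕ) (hk : d < k) : LambdaOps.lam k (u + (d : A)) = 0 := by
  obtain ⟨m, rfl⟩ : ∃ m, k = m + 1 + d := ⟨k - 1 - d, by omega⟩
  have e : LambdaOps.lam (m + 1 + d) (u + (d : A)) = gamma (m + 1 + d) (u + -(m : A)) := by
    rw [gamma_eq_lam h1]
    congr 1
    push_cast
    ring
  rw [e, gamma_add]
  refine Finset.sum_eq_zero fun j hj => ?_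
  rcases Nat.lt_or_ge d j with hlt | hle
  · rw [hu j hlt, zero_mul]
  · rw [gamma_neg_natCast h1, Nat.choose_eq_zero_of_lt (by omega), Nat.cast_zero, mul_zero,
      mul_zero]

end Rank

section Dvd

variable {B : Type u} [CommRing B] [LambdaOps B] (hB : IsSpecial B)
  (hP : ∀ n : ℕ, ∃ P : MvPolynomial (Fin n ⊕ Fin n) ℤ, IsMulPoly n P)
  (hQ : ∀ i j : ℕ, ∃ Q : MvPolynomial (Fin (i * j)) ℤ, IsCompPoly i j Q)

include hB hP hQ in
/-- **`γ^d(u)` divides `γ^a(x γ^d(u))`** when `γ^k(u) = 0` for `k > d`. -/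
theorem gamma_dvd (d : ℕ) (hd : 1 ≤ d) (u : B) (hu : ∀ k : ℕ, d < k → gamma k u = 0)
    (a : ℕ) (ha : 1 ≤ a) (x : B) : gamma d u ∣ gamma a (x * gamma d u) := by
  have h1 := hB.lam_one_eq_zero
  set N : B := u + (d : B) with hNdef
  have hN : ∀ k : ℕ, d < k → LambdaOps.lam k N = 0 := lam_add_natCast_eq_zero h1 d u hu
  have hc : gamma d u = (-1 : B) ^ d * ∑ j ∈ range (d + 1), (-1 : B) ^ j * LambdaOps.lam j N := by
    rw [← gamma_sub_natCast_eq h1 d hd N, hNdef, add_sub_cancel_right]
  set L : B := ∑ j ∈ range (d + 1), (-1 : B) ^ j * LambdaOps.lam j N with hL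
  have hsq : (-1 : B) ^ d * (-1 : B) ^ d = 1 := by
    rw [← pow_add, ← two_mul, pow_mul]; simp
  have hLc : L = (-1 : B) ^ d * gamma d u := by rw [hc, ← mul_assoc, hsq, one_mul]
  have key : ∀ p : ℕ, 1 ≤ p → gamma d u ∣ LambdaOps.lam p (x * gamma d u) := by
    intro p hp
    have h := Groth.Agent.S8691.result B hB hP hQ d N hN p hp ((-1 : B) ^ d * x)
    rw [← hL] at h
    have e : (-1 : B) ^ d * x * L = x * gamma d u := by
      rw [hLc]
      calc (-1 : B) ^ d * x * ((-1) ^ d * gamma d u)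
          = ((-1 : B) ^ d * (-1) ^ d) * (x * gamma d u) := by ring
        _ = x * gamma d u := by rw [hsq, one_mul]
    rw [e] at h
    refine Dvd.dvd.trans ?_ h
    exact Dvd.intro_left ((-1 : B) ^ d) hLc.symm
  rw [gamma_pos_eq a ha]
  apply Finset.dvd_sum
  intro j _
  split_ifs with hj
  · rw [mul_zero]; exact dvd_zero _
  · exact Dvd.dvd.mul_left (key j (by omega)) _

end Dvd

section MapFil

variable {K : Type u} [CommRing K]
  {B : Type v} [CommRing B] [LambdaOps B] {M : Type w} [CommRing M] [LambdaOps M]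
  (φ : B →+* M) (εB : B →+* K) (εM : M →+* K) (hε : ∀ b, εM (φ b) = εB b)
  (hγ : ∀ (i : ℕ) (b : B), φ (gamma i b) = gamma i (φ b))

include hε hγ in
/-- a ring map commuting with the `γ`-operations and the augmentations preserves the
`γ`-filtrations -/
theorem map_mem_gammaFil {k : ℕ} {b : B} (hb : b ∈ gammaFil εB k) : φ b ∈ gammaFil εM k := by
  have h : Ideal.map φ (gammaFil εB k) ≤ gammaFil εM k := by
    rw [gammaFil, Ideal.map_span]
    refine Ideal.span_le.2 ?_
    rintro _ ⟨_, ⟨l, hl, hk, rfl⟩, rfl⟩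
    refine Ideal.subset_span ⟨l.map (fun p => (p.1, φ p.2)), ?_, ?_, ?_⟩
    · intro p hp
      obtain ⟨q, hq, rfl⟩ := List.mem_map.1 hp
      change εM (φ q.2) = 0
      rw [hε, hl q hq]
    · rw [List.map_map]
      exact hk
    · rw [map_list_prod, List.map_map, List.map_map]
      congr 1
      refine List.map_congr_left fun p _ => ?_
      exact hγ p.1 p.2
  exact h (Ideal.mem_map_of_mem _ hb)

end MapFil

section AugZero

variable {K : Type u} [CommRing K] [LambdaOps K] [BinomialRing K]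
  {A : Type v} [CommRing A] [LambdaOps A] [Algebra K A] (ε : A →ₐ[K] K)
  (hε : IsAugLambdaAlg K A ε)

include hε in
lemma aug_gamma_zero {z : A} (hz : ε z = 0) (k : ℕ) (hk : 1 ≤ k) : ε (gamma k z) = 0 :=
  aug_gamma_eq_zero ε hε z hz k hk

include hε in
/-- the augmentation vanishes on `Fil 1` -/
theorem aug_eq_zero_of_mem {z : A} (hz : z ∈ gammaFil (ε : A →+* K) 1) : ε z = 0 := by
  have h : gammaFil (ε : A →+* K) 1 ≤ RingHom.ker (ε : A →+* K) := by
    rw [gammaFil]
    refine Ideal.span_le.2 ?_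
    rintro _ ⟨l, hl, hk, rfl⟩
    change (ε : A →+* K) _ = 0
    rw [map_list_prod, List.map_map]
    have : ∃ p ∈ l, 1 ≤ p.1 := by
      by_contra hcon
      push Not at hcon
      have : (l.map Prod.fst).sum = 0 := by
        refine List.sum_eq_zero ?_
        intro a ha
        obtain ⟨p, hp, rfl⟩ := List.mem_map.1 ha
        have := hcon p hp
        omega
      omega
    obtain ⟨p, hp, hp1⟩ := this
    refine List.prod_eq_zero (List.mem_map.2 ⟨p, hp, ?_⟩)
    exact aug_gamma_eq_zero ε hε p.2 (hl p hp) p.1 hp1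
  exact h hz

end AugZero

section ModelAug

variable {τ : Type v} {K : Type u} [CommRing K] [LambdaOps K] [BinomialRing K]
  (hKb : IsBinomial K)

attribute [local instance] modelOps

include hKb in
lemma aug1_comm (f : MvPolynomial τ K) :
    Comm (aug1 : MvPolynomial τ K →ₐ[K] K) f := by
  induction f using MvPolynomial.induction_on' with
  | monomial β κ =>
    intro k
    rw [lam_monomial, aug1, aeval_monomial, aeval_monomial, hKb]
    simp
  | add p q hp hq => exact Comm_add hp hq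

include hKb in
/-- the split model is an augmented `K`-λ-algebra -/
theorem model_isAug : IsAugLambdaAlg K (MvPolynomial τ K) aug1 where
  isLambdaAlg := model_isLambdaAlg hKb
  map_lam n a := aug1_comm hKb a n

/-- in the split model the `γ`-filtration is contained in the adic one -/
theorem gammaFil_le_Jf (k : ℕ) :
    gammaFil ((aug1 : MvPolynomial τ K →ₐ[K] K) : MvPolynomial τ K →+* K) k ≤ Jf k := by
  rw [gammaFil]
  refine Ideal.span_le.2 ?_
  rintro _ ⟨l, hl, hk, rfl⟩
  have key : ∀ l : List (ℕ × MvPolynomial τ K), (∀ p ∈ l, aug1 p.2 = 0) →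
      (l.map fun p => gamma p.1 p.2).prod ∈ Jf (τ := τ) (K := K) (l.map Prod.fst).sum := by
    intro l
    induction l with
    | nil =>
      intro _
      simp only [List.map_nil, List.prod_nil, List.sum_nil]
      rw [Jf_zero]; trivial
    | cons p l ih =>
      intro h
      simp only [List.map_cons, List.prod_cons, List.sum_cons]
      exact Jf_mul (model_TF p.2 (h p List.mem_cons_self) p.1)
        (ih fun q hq => h q (List.mem_cons_of_mem _ hq))
  have h2 := key l hl
  change _ ∈ Jf k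
  rw [mem_Jf] at h2 ⊢
  exact Ideal.pow_le_pow_right hk h2

end ModelAug

end Groth.Agent.Lib.LamModel99
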