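import Groth.Agent.Lib.LamFil99h
import Mathlib.Algebra.Group.ForwardDiff

/-!
# `γ^m z ≡ (-1)^(m-1) (m-1)! z` modulo `Fil (m+1)` for `z ∈ Fil m` (helper99)

* `Lq_gen`: the generating monomials of weight exactly `d ≥ 1` satisfy `Lq`;
* `Lq_of_mem`: for `d ≥ 1`, `z ∈ Fil d`, `n ≥ 1`:
  `λ^n z - (-1)^(n+1) n^(d-1) z ∈ Fil (d+1)`;
* `alt_sum_choose_pow`: `Σ_{k ≤ N} (-1)^k C(N,k) (k+1)^N = (-1)^N N!`;
* `gamma_sub_factorial_mem`: for `m ≥ 1`, `z ∈ Fil m`:
  `γ^m z - (-1)^(m-1) (m-1)! z ∈ Fil (m+1)`.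
-/

set_option autoImplicit false

namespace Groth.Agent.Lib.LamFil99

open MvPolynomial Finset _root_.LambdaRing Groth.Agent.Lib.LambdaRing
  Groth.Agent.Lib.LambdaGamma Groth.Agent.Lib.LambdaGamma6 Groth.Agent.Lib.SpecialLam6
  Groth.Agent.Lib.SpecialLam6b Groth.Agent.Lib.SpecialLam6c

universe u v

/-- `Σ_{k ≤ N} (-1)^k C(N,k) (k+1)^N = (-1)^N N!` -/
lemma alt_sum_choose_pow (N : ℕ) :
    ∑ k ∈ range (N + 1), (-1 : ℤ) ^ k * (N.choose k : ℤ) * ((k : ℤ) + 1) ^ N =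
      (-1) ^ N * (N.factorial : ℤ) := by
  have h := fwdDiff_iter_eq_sum_shift (1 : ℤ) (fun r : ℤ => r ^ N) N 1
  rw [fwdDiff_iter_eq_factorial] at h
  have h' : ((N.factorial : ℕ) : ℤ) =
      ∑ k ∈ range (N + 1), ((-1 : ℤ) ^ (N - k) * (N.choose k : ℤ)) * ((k : ℤ) + 1) ^ N := by
    have h2 : ((N.factorial : ℕ) : ℤ → ℤ) 1 = ((N.factorial : ℕ) : ℤ) := rfl
    rw [← h2, h]
    refine Finset.sum_congr rfl fun k _ => ?_
    simp only [smul_eq_mul, nsmul_eq_mul, mul_one]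
    rw [add_comm (1 : ℤ)]
  rw [h', Finset.mul_sum]
  refine Finset.sum_congr rfl fun k hk => ?_
  have hk' : k ≤ N := by have := Finset.mem_range.1 hk; omega
  have e : (-1 : ℤ) ^ N * (-1) ^ (N - k) = (-1) ^ k := by
    rw [← pow_add]
    have : N + (N - k) = 2 * (N - k) + k := by omega
    rw [this, pow_add, pow_mul]
    simp
  rw [← e]
  ring

section Lq

variable {K : Type u} [CommRing K] [LambdaOps K] [BinomialRing K]
  {A : Type v} [CommRing A] [LambdaOps A] [Algebra K A] {ε : A →ₐ[K] K}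

variable (hKb : LambdaRing.IsBinomial K) (hA : LambdaRing.IsSpecial A)
  (hP : ∀ n : ℕ, ∃ P : MvPolynomial (Fin n ⊕ Fin n) ℤ, LambdaRing.IsMulPoly n P)
  (hQ : ∀ i j : ℕ, ∃ Q : MvPolynomial (Fin (i * j)) ℤ, LambdaRing.IsCompPoly i j Q)
  (hε : LambdaRing.IsAugLambdaAlg K A ε)

include hA hP hQ in
lemma Lq_gen (l : List (ℕ × A)) (hl : ∀ p ∈ l, (ε : A →+* K) p.2 = 0) :
    ((l.map Prod.fst).sum = 0 ∧ (l.map fun p => gamma p.1 p.2).prod = 1) ∨
    (1 ≤ (l.map Prod.fst).sum ∧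
      Lq ε (l.map Prod.fst).sum (l.map fun p => gamma p.1 p.2).prod) := by
  induction l with
  | nil => left; simp
  | cons p l ih =>
    have hp : (ε : A →+* K) p.2 = 0 := hl p (List.mem_cons_self ..)
    have hl' : ∀ q ∈ l, (ε : A →+* K) q.2 = 0 := fun q hq => hl q (List.mem_cons_of_mem _ hq)
    simp only [List.map_cons, List.sum_cons, List.prod_cons]
    rcases Nat.eq_zero_or_pos p.1 with h0 | hpos
    · rw [h0, gamma_zero_eq, zero_add, one_mul]
      exact ih hl'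
    · right
      have hgp : Lq ε p.1 (gamma p.1 p.2) :=
        fun n hn => lam_gamma_sub_mem hA hQ hp p.1 n hpos hn
      rcases ih hl' with ⟨hs, hpr⟩ | ⟨hs, hL⟩
      · rw [hs, hpr, add_zero, mul_one]
        exact ⟨hpos, hgp⟩
      · refine ⟨by omega, Lq_mul hA hP hQ hpos hs (gamma_mem_gammaFil _ hp _) ?_ hgp hL⟩
        exact Ideal.subset_span ⟨l, hl', le_rfl, rfl⟩

include hKb hA hP hQ hε in
/-- **first-order behaviour of `λ^n` on `Fil d`** -/
theorem Lq_of_mem {d : ℕ} (hd : 1 ≤ d) {z : A} (hz : z ∈ gammaFil (ε : A →+* K) d) :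
    Lq ε d z := by
  have key : z ∈ gammaFil (ε : A →+* K) d ∧ Lq ε d z := by
    have hz' := hz
    rw [gammaFil_eq_span] at hz'
    refine Submodule.span_induction
      (p := fun z _ => z ∈ gammaFil (ε : A →+* K) d ∧ Lq ε d z) ?_ ?_ ?_ ?_ hz'
    · rintro y ⟨l, hl, hn, rfl⟩
      refine ⟨Ideal.subset_span ⟨l, hl, hn, rfl⟩, ?_⟩
      rcases Nat.lt_or_ge d (l.map Prod.fst).sum with hlt | hge
      · exact Lq_of_mem_succ hA hP hQ (Ideal.subset_span ⟨l, hl, hlt, rfl⟩)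
      · have heq : (l.map Prod.fst).sum = d := le_antisymm hge hn
        rcases Lq_gen hA hP hQ l hl with ⟨hs, _⟩ | ⟨_, hL⟩
        · omega
        · rwa [heq] at hL
    · refine ⟨Ideal.zero_mem _, fun n hn => ?_⟩
      rw [lam_zero_right hn, mul_zero, sub_zero]
      exact Ideal.zero_mem _
    · rintro x y _ _ ⟨hx, hLx⟩ ⟨hy, hLy⟩
      exact ⟨Ideal.add_mem _ hx hy, Lq_add hA hP hQ hd hx hy hLx hLy⟩
    · rintro a x _ ⟨hx, hLx⟩
      refine ⟨Ideal.mul_mem_left _ _ hx, ?_⟩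
      have hb : (ε : A →+* K) (a - algebraMap K A (ε a)) = 0 := by
        change ε (a - algebraMap K A (ε a)) = 0
        rw [map_sub, AlgHom.commutes, Algebra.algebraMap_self_apply, sub_self]
      have hb1 : (a - algebraMap K A (ε a)) * x ∈ gammaFil (ε : A →+* K) (d + 1) := by
        have := mul_mem_gammaFil _ (mem_gammaFil_one _ hb) hx
        rwa [Nat.add_comm] at this
      have e : a • x = algebraMap K A (ε a) * x + (a - algebraMap K A (ε a)) * x := by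
        rw [smul_eq_mul]; ring
      rw [e]
      exact Lq_add hA hP hQ hd (Ideal.mul_mem_left _ _ hx)
        (gammaFil_anti _ (Nat.le_succ d) hb1)
        (Lq_algebraMap_mul hKb hA hP hQ hε hd hx hLx _) (Lq_of_mem_succ hA hP hQ hb1)
  exact key.2

include hKb hA hP hQ hε in
/-- **`γ^m z ≡ (-1)^(m-1) (m-1)! z` modulo `Fil (m+1)` for `z ∈ Fil m`.** -/
theorem gamma_sub_factorial_mem {m : ℕ} (hm : 1 ≤ m) {z : A}
    (hz : z ∈ gammaFil (ε : A →+* K) m) :
    gamma m z - (-1 : A) ^ (m - 1) * ((m - 1).factorial : A) * z ∈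
      gammaFil (ε : A →+* K) (m + 1) := by
  obtain ⟨N, rfl⟩ : ∃ N, m = N + 1 := ⟨m - 1, by omega⟩
  have hL := Lq_of_mem hKb hA hP hQ hε hm hz
  rw [gamma, if_neg (by omega), Finset.sum_range_succ', Nat.add_sub_cancel, if_pos rfl, mul_zero,
    add_zero]
  have e1 : ∀ t : ℕ, ((N.choose (t + 1 - 1) : ℕ) : A) *
      (if t + 1 = 0 then (0 : A) else LambdaOps.lam (t + 1) z) =
      (N.choose t : A) * LambdaOps.lam (t + 1) z := by
    intro t
    rw [if_neg (by omega), Nat.add_sub_cancel]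
  rw [Finset.sum_congr rfl fun t _ => e1 t]
  have hid : ∑ t ∈ range (N + 1), (N.choose t : A) *
      ((-1) ^ (t + 1 + 1) * ((t + 1 : ℕ) : A) ^ N) = (-1) ^ N * (N.factorial : A) := by
    have := congrArg (Int.cast : ℤ → A) (alt_sum_choose_pow N)
    push_cast at this
    rw [← this]
    refine Finset.sum_congr rfl fun t _ => ?_
    push_cast
    rw [pow_add, pow_add]
    ring
  have e2 : ∑ t ∈ range (N + 1), (N.choose t : A) * LambdaOps.lam (t + 1) z -
      (-1) ^ N * (N.factorial : A) * z =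
      ∑ t ∈ range (N + 1), (N.choose t : A) * (LambdaOps.lam (t + 1) z -
        (-1) ^ (t + 1 + 1) * ((t + 1 : ℕ) : A) ^ N * z) := by
    rw [← hid, Finset.sum_mul, ← Finset.sum_sub_distrib]
    refine Finset.sum_congr rfl fun t _ => ?_
    ring
  rw [e2]
  refine Ideal.sum_mem _ fun t _ => Ideal.mul_mem_left _ _ ?_
  have := hL (t + 1) (by omega)
  rwa [Nat.add_sub_cancel] at this

end Lq

end Groth.Agent.Lib.LamFil99
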