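import Groth.Agent.Lib.LamDiv99b
import Groth.Agent.Lib.LamFil99i

/-!
# `γ^a` kills `Gr^i` for `a > i` (helper99)
-/

set_option autoImplicit false

namespace Groth.Agent.Lib.LamModel99

open MvPolynomial Finset _root_.LambdaRing Groth.Agent.Lib.LambdaRing
  Groth.Agent.Lib.LambdaGamma Groth.Agent.Lib.LambdaGamma6 Groth.Agent.Lib.LamFil99

universe u v

/-- `Σ_{k ≤ N} (-1)^k C(N,k) (k+1)^m = 0` for `m < N` -/
lemma alt_sum_choose_pow_eq_zero (N m : ℕ) (hm : m < N) :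
    ∑ k ∈ range (N + 1), (-1 : ℤ) ^ k * (N.choose k : ℤ) * ((k : ℤ) + 1) ^ m = 0 := by
  have h := fwdDiff_iter_eq_sum_shift (1 : ℤ) (fun r : ℤ => r ^ m) N 1
  rw [fwdDiff_iter_pow_eq_zero_of_lt hm] at h
  have h' : (0 : ℤ) =
      ∑ k ∈ range (N + 1), ((-1 : ℤ) ^ (N - k) * (N.choose k : ℤ)) * ((k : ℤ) + 1) ^ m := by
    have h2 : (0 : ℤ → ℤ) 1 = (0 : ℤ) := rfl
    rw [← h2, h]
    refine Finset.sum_congr rfl fun k _ => ?_
    simp only [smul_eq_mul, nsmul_eq_mul, mul_one]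
    rw [add_comm (1 : ℤ)]
  have h3 : (-1 : ℤ) ^ N * 0 = 0 := mul_zero _
  rw [← h3, h', Finset.mul_sum]
  refine Finset.sum_congr rfl fun k hk => ?_
  have hk' : k ≤ N := by have := Finset.mem_range.1 hk; omega
  have e : (-1 : ℤ) ^ N * (-1) ^ (N - k) = (-1) ^ k := by
    rw [← pow_add]
    have : N + (N - k) = 2 * (N - k) + k := by omega
    rw [this, pow_add, pow_mul]
    simp
  rw [← e]
  ring

section GrKill

variable {K : Type u} [CommRing K] [LambdaOps K] [BinomialRing K]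
  {A : Type v} [CommRing A] [LambdaOps A] [Algebra K A] {ε : A →ₐ[K] K}

variable (hKb : LambdaRing.IsBinomial K) (hA : LambdaRing.IsSpecial A)
  (hP : ∀ n : ℕ, ∃ P : MvPolynomial (Fin n ⊕ Fin n) ℤ, LambdaRing.IsMulPoly n P)
  (hQ : ∀ i j : ℕ, ∃ Q : MvPolynomial (Fin (i * j)) ℤ, LambdaRing.IsCompPoly i j Q)
  (hε : LambdaRing.IsAugLambdaAlg K A ε)

include hKb hA hP hQ hε in
/-- **`γ^a z ∈ Fil (i+1)` for `z ∈ Fil i` and `a > i ≥ 1`.** -/
theorem gamma_mem_succ_of_lt {i a : ℕ} (hi : 1 ≤ i) (ha : i < a) {z : A}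
    (hz : z ∈ gammaFil (ε : A →+* K) i) :
    gamma a z ∈ gammaFil (ε : A →+* K) (i + 1) := by
  obtain ⟨N, rfl⟩ : ∃ N, a = N + 1 := ⟨a - 1, by omega⟩
  have hL := Lq_of_mem hKb hA hP hQ hε hi hz
  rw [gamma, if_neg (by omega), Finset.sum_range_succ', Nat.add_sub_cancel, if_pos rfl, mul_zero,
    add_zero]
  have e1 : ∀ t : ℕ, ((N.choose (t + 1 - 1) : ℕ) : A) *
      (if t + 1 = 0 then (0 : A) else LambdaOps.lam (t + 1) z) =
      (N.choose t : A) * LambdaOps.lam (t + 1) z := by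
    intro t
    rw [if_neg (by omega), Nat.add_sub_cancel]
  rw [Finset.sum_congr rfl fun t _ => e1 t]
  have hid : ∑ t ∈ range (N + 1), (N.choose t : A) *
      ((-1) ^ (t + 1 + 1) * ((t + 1 : ℕ) : A) ^ (i - 1)) = 0 := by
    have := congrArg (Int.cast : ℤ → A) (alt_sum_choose_pow_eq_zero N (i - 1) (by omega))
    push_cast at this
    rw [← this]
    refine Finset.sum_congr rfl fun t _ => ?_
    push_cast
    rw [pow_add, pow_add]
    ring
  have e2 : ∑ t ∈ range (N + 1), (N.choose t : A) * LambdaOps.lam (t + 1) z =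
      ∑ t ∈ range (N + 1), (N.choose t : A) * (LambdaOps.lam (t + 1) z -
        (-1) ^ (t + 1 + 1) * ((t + 1 : ℕ) : A) ^ (i - 1) * z) := by
    have h0 : ∑ t ∈ range (N + 1), (N.choose t : A) * LambdaOps.lam (t + 1) z =
        ∑ t ∈ range (N + 1), (N.choose t : A) * LambdaOps.lam (t + 1) z - 0 * z := by ring
    rw [h0, ← hid, Finset.sum_mul, ← Finset.sum_sub_distrib]
    refine Finset.sum_congr rfl fun t _ => ?_
    ring
  rw [e2]
  refine Ideal.sum_mem _ fun t _ => Ideal.mul_mem_left _ _ ?_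
  exact hL (t + 1) (by omega)

end GrKill

end Groth.Agent.Lib.LamModel99
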