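import Groth.Agent.Lib.LamDiv99c

/-!
# The γ-filtration of `Ud`, and division by `Y_d` (helper99)
-/

set_option autoImplicit false

namespace Groth.Agent.Lib.LamModel99

open MvPolynomial Finset _root_.LambdaRing Groth.Agent.Lib.LambdaRing
  Groth.Agent.Lib.LambdaGamma Groth.Agent.Lib.LambdaGamma6 Groth.Agent.Lib.LamFil99

universe u v w

section Wt

variable {m : ℕ}

lemma wt_eq_sum_univ (e : Fin m →₀ ℕ) : wt e = ∑ j : Fin m, ((j : ℕ) + 1) * e j := by
  rw [wt]
  exact Finset.sum_subset (Finset.subset_univ _) fun k _ hk => by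
    rw [Finsupp.notMem_support_iff.1 hk, Nat.mul_zero]

lemma wt_add (e e' : Fin m →₀ ℕ) : wt (e + e') = wt e + wt e' := by
  rw [wt_eq_sum_univ, wt_eq_sum_univ, wt_eq_sum_univ, ← Finset.sum_add_distrib]
  refine Finset.sum_congr rfl fun j _ => ?_
  rw [Finsupp.add_apply, Nat.mul_add]

lemma wt_single (j : Fin m) (n : ℕ) : wt (Finsupp.single j n) = ((j : ℕ) + 1) * n := by
  rw [wt_eq_sum_univ, Finset.sum_eq_single j]
  · rw [Finsupp.single_eq_same]
  · intro b _ hb
    rw [Finsupp.single_eq_of_ne hb, Nat.mul_zero]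
  · intro h
    exact absurd (Finset.mem_univ j) h

lemma wt_eq_finsupp_sum (e : Fin m →₀ ℕ) :
    wt e = e.sum fun j k => k * ((j : ℕ) + 1) := by
  rw [wt, Finsupp.sum]
  refine Finset.sum_congr rfl fun j _ => ?_
  rw [Nat.mul_comm]

end Wt

section AevalK

variable {K : Type u} [CommRing K] {A : Type v} [CommRing A] [LambdaOps A] [Algebra K A]
  (ε : A →+* K)

/-- evaluation lemma with coefficients in `K` -/
lemma aeval_mem_fil_K {σ : Type*} (f : σ → A) (w : σ → ℕ) (hf : ∀ i, f i ∈ gammaFil ε (w i))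
    (p : MvPolynomial σ K) (n : ℕ) (hp : ∀ d ∈ p.support, n ≤ d.sum fun i k => k * w i) :
    aeval f p ∈ gammaFil ε n := by
  rw [p.as_sum, map_sum]
  refine Ideal.sum_mem _ fun d hd => ?_
  rw [aeval_monomial]
  exact Ideal.mul_mem_left _ _ (gammaFil_anti ε (hp d hd) (monomial_mem_fil ε f w hf d))

end AevalK

section UdAug

variable {d : ℕ} {K : Type u} [CommRing K] [LambdaOps K] [BinomialRing K]

attribute [local instance] modelOps

/-- the augmentation `Y_j ↦ 0` of `Ud` -/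
noncomputable def Ud.aug : Ud d K →ₐ[K] K := aeval (R := K) (fun _ : Fin d => (0 : K))

lemma Ud.aug_Y (j : Fin d) : Ud.aug (Ud.Y j : Ud d K) = 0 := by
  rw [Ud.aug, Ud.Y]
  exact aeval_X _ _

lemma Ud.aug1_emb (q : Ud d K) : aug1 (Ud.emb q) = Ud.aug q := by
  have : (aug1 (τ := Fin d) (K := K)).comp Ud.emb = Ud.aug := by
    apply MvPolynomial.algHom_ext
    intro j
    change aug1 (Ud.emb (Ud.Y j)) = Ud.aug (Ud.Y j)
    rw [Ud.aug_Y, Ud.emb_Y, aug1]
    have h := comp_aeval (R := K) (fun a : Fin d => (X a : MvPolynomial (Fin d) K) - 1)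
      (aeval (R := K) (fun _ : Fin d => (1 : K)))
    have h2 := AlgHom.congr_fun h (esymm (Fin d) K ((j : ℕ) + 1))
    rw [AlgHom.comp_apply] at h2
    rw [h2]
    have h3 : (fun i : Fin d => (aeval (R := K) (fun _ : Fin d => (1 : K)))
        ((X i : MvPolynomial (Fin d) K) - 1)) = fun _ => (0 : K) := by
      funext i
      rw [map_sub, aeval_X, map_one, sub_self]
    rw [h3, esymm, map_sum]
    refine Finset.sum_eq_zero fun t ht => ?_
    rw [map_prod]
    have hc : t.card = (j : ℕ) + 1 := (Finset.mem_powersetCard.1 ht).2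
    obtain ⟨i, hi⟩ : t.Nonempty := by
      rw [← Finset.card_pos]; omega
    exact Finset.prod_eq_zero hi (aeval_X _ _)
  exact AlgHom.congr_fun this q

variable (hKb : IsBinomial K)

include hKb in
theorem Ud.isAug : IsAugLambdaAlg K (Ud d K) Ud.aug where
  isLambdaAlg := Ud.isLambdaAlg hKb
  map_lam n q := by
    rw [← Ud.aug1_emb, Ud.emb_comm q n, aug1_comm hKb _ n, Ud.aug1_emb]

end UdAug

section UdFil

variable {d : ℕ} {K : Type u} [CommRing K] [LambdaOps K] [BinomialRing K]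
  (hd : 1 ≤ d)

attribute [local instance] modelOps

include hd in
lemma Ud.Y_mem (j : Fin d) :
    (Ud.Y j : Ud d K) ∈ gammaFil ((Ud.aug : Ud d K →ₐ[K] K) : Ud d K →+* K) ((j : ℕ) + 1) := by
  have h := Ud.gamma_Y0 (K := K) hd ((j : ℕ) + 1) (by omega) (by have := j.2; omega)
  have e : (⟨(j : ℕ) + 1 - 1, by have := j.2; omega⟩ : Fin d) = j := by
    apply Fin.ext
    simp
  rw [e] at h
  rw [← h]
  exact gamma_mem_gammaFil _ (Ud.aug_Y _) _

lemma Ud.aeval_Y (q : Ud d K) : aeval (R := K) (Ud.Y (d := d) (K := K)) (Ud.toPoly q) = q := by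
  change aeval (R := K) (X : Fin d → MvPolynomial (Fin d) K) q = q
  rw [aeval_X_left]
  rfl

include hd in
/-- **the γ-filtration of `Ud` is the weight filtration** -/
theorem Ud.mem_gammaFil_iff (k : ℕ) (q : Ud d K) :
    q ∈ gammaFil ((Ud.aug : Ud d K →ₐ[K] K) : Ud d K →+* K) k ↔
      ∀ m ∈ (Ud.toPoly q).support, k ≤ wt m := by
  constructor
  · intro hq
    have h1 : Ud.emb q ∈ gammaFil ((aug1 : MvPolynomial (Fin d) K →ₐ[K] K) :
        MvPolynomial (Fin d) K →+* K) k :=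
      map_mem_gammaFil
        (φ := ((Ud.emb : Ud d K →ₐ[K] MvPolynomial (Fin d) K) : Ud d K →+* _))
        (εB := ((Ud.aug : Ud d K →ₐ[K] K) : Ud d K →+* K))
        (εM := ((aug1 : MvPolynomial (Fin d) K →ₐ[K] K) : MvPolynomial (Fin d) K →+* K))
        (fun b => Ud.aug1_emb b)
        (fun i b => map_gamma_of_Comm (Ud.emb_comm b) i) hq
    have h2 := gammaFil_le_Jf k h1
    rw [mem_Jf, Ud.shift_emb] at h2
    exact wt_ge_of_E_mem (Ud.toPoly q) k h2
  · intro h
    rw [← Ud.aeval_Y q]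
    refine aeval_mem_fil_K _ Ud.Y (fun j : Fin d => (j : ℕ) + 1) (Ud.Y_mem hd) _ k ?_
    intro m hm
    rw [← wt_eq_finsupp_sum]
    exact h m hm

include hd in
/-- **`Y_d` is regular on the graded ring**: division by `Y_d` lowers the filtration by `d`. -/
theorem Ud.mem_of_Y_mul_mem (k : ℕ) (g : Ud d K)
    (h : Ud.Y ⟨d - 1, by omega⟩ * g ∈ gammaFil ((Ud.aug : Ud d K →ₐ[K] K) : Ud d K →+* K) k) :
    g ∈ gammaFil ((Ud.aug : Ud d K →ₐ[K] K) : Ud d K →+* K) (k - d) := by
  rw [Ud.mem_gammaFil_iff hd] at h ⊢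
  intro m hm
  have hm' : Finsupp.single (⟨d - 1, by omega⟩ : Fin d) 1 + m ∈
      (Ud.toPoly (Ud.Y ⟨d - 1, by omega⟩ * g)).support := by
    rw [mem_support_iff] at hm ⊢
    change coeff _ ((X ⟨d - 1, by omega⟩ : MvPolynomial (Fin d) K) * Ud.toPoly g) ≠ 0
    rw [coeff_X_mul]
    exact hm
  have := h _ hm'
  rw [wt_add, wt_single] at this
  simp only at this
  omega

end UdFil

end Groth.Agent.Lib.LamModel99
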