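import Groth.Agent.Lib.LamDiv99d

/-!
# Lemma A: `γ^a(κ γ^d(u)) = γ^d(u) · G` with `G ∈ Fil (a - d)` (helper99)
-/

set_option autoImplicit false

namespace Groth.Agent.Lib.LamModel99

open MvPolynomial Finset _root_.LambdaRing Groth.Agent.Lib.LambdaRing
  Groth.Agent.Lib.LambdaGamma Groth.Agent.Lib.LambdaGamma6 Groth.Agent.Lib.LamFil99

universe u v w

section LemmaAU

variable {d : ℕ} {K : Type u} [CommRing K] [LambdaOps K] [BinomialRing K]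
  (hKb : IsBinomial K) (hd : 1 ≤ d)
  (hP : ∀ n : ℕ, ∃ P : MvPolynomial (Fin n ⊕ Fin n) ℤ, IsMulPoly n P)
  (hQ : ∀ i j : ℕ, ∃ Q : MvPolynomial (Fin (i * j)) ℤ, IsCompPoly i j Q)

include hKb hd hP hQ in
/-- Lemma A in the universal ring `Ud` -/
theorem Ud.lemmaA (κ : K) (a : ℕ) (ha : 1 ≤ a) :
    ∃ g : Ud d K, g ∈ gammaFil ((Ud.aug : Ud d K →ₐ[K] K) : Ud d K →+* K) (a - d) ∧
      gamma a (algebraMap K (Ud d K) κ * Ud.Y ⟨d - 1, by omega⟩) = Ud.Y ⟨d - 1, by omega⟩ * g ∧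
      (a = d → g - (-1 : Ud d K) ^ (d - 1) * ((d - 1).factorial : Ud d K) *
        algebraMap K (Ud d K) κ ∈ gammaFil ((Ud.aug : Ud d K →ₐ[K] K) : Ud d K →+* K) 1) := by
  have hU : IsSpecial (Ud d K) := Ud.isSpecial
  have hUaug : IsAugLambdaAlg K (Ud d K) Ud.aug := Ud.isAug hKb
  have hYd : gamma d (Ud.Y ⟨0, hd⟩ : Ud d K) = Ud.Y ⟨d - 1, by omega⟩ :=
    Ud.gamma_Y0 hd d hd le_rfl
  have hdvd := gamma_dvd hU hP hQ d hd (Ud.Y ⟨0, hd⟩ : Ud d K) (Ud.gamma_Y0_eq_zero hd) a ha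
    (algebraMap K (Ud d K) κ)
  rw [hYd] at hdvd
  obtain ⟨g, hg⟩ := hdvd
  have haug : ((Ud.aug : Ud d K →ₐ[K] K) : Ud d K →+* K)
      (algebraMap K (Ud d K) κ * Ud.Y ⟨d - 1, by omega⟩) = 0 := by
    change Ud.aug (algebraMap K (Ud d K) κ * Ud.Y ⟨d - 1, by omega⟩) = 0
    rw [map_mul, Ud.aug_Y, mul_zero]
  have hmem : gamma a (algebraMap K (Ud d K) κ * Ud.Y ⟨d - 1, by omega⟩) ∈
      gammaFil ((Ud.aug : Ud d K →ₐ[K] K) : Ud d K →+* K) a := gamma_mem_gammaFil _ haug a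
  refine ⟨g, ?_, hg, ?_⟩
  · rw [hg] at hmem
    exact Ud.mem_of_Y_mul_mem hd a g hmem
  · intro had
    subst had
    have hz : algebraMap K (Ud a K) κ * Ud.Y ⟨a - 1, by omega⟩ ∈
        gammaFil ((Ud.aug : Ud a K →ₐ[K] K) : Ud a K →+* K) a := by
      refine Ideal.mul_mem_left _ _ ?_
      have := Ud.Y_mem (K := K) hd ⟨a - 1, by omega⟩
      have e : a - 1 + 1 = a := by omega
      simp only [e] at this
      exact this
    have h := gamma_sub_factorial_mem hKb hU hP hQ hUaug hd hz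
    rw [hg] at h
    have e : Ud.Y ⟨a - 1, by omega⟩ * g - (-1 : Ud a K) ^ (a - 1) * ((a - 1).factorial : Ud a K) *
        (algebraMap K (Ud a K) κ * Ud.Y ⟨a - 1, by omega⟩) =
        Ud.Y ⟨a - 1, by omega⟩ * (g - (-1 : Ud a K) ^ (a - 1) * ((a - 1).factorial : Ud a K) *
          algebraMap K (Ud a K) κ) := by ring
    rw [e] at h
    have := Ud.mem_of_Y_mul_mem hd (a + 1) _ h
    rwa [Nat.add_sub_cancel_left] at this

end LemmaAU

section LemmaA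

variable {K : Type u} [CommRing K] [LambdaOps K] [BinomialRing K]
  {A : Type v} [CommRing A] [LambdaOps A] [Algebra K A]
  (hKb : IsBinomial K) (hA : IsSpecial A)
  (hP : ∀ n : ℕ, ∃ P : MvPolynomial (Fin n ⊕ Fin n) ℤ, IsMulPoly n P)
  (hQ : ∀ i j : ℕ, ∃ Q : MvPolynomial (Fin (i * j)) ℤ, IsCompPoly i j Q)
  (ε : A →ₐ[K] K) (hε : IsAugLambdaAlg K A ε)
  (d : ℕ) (hd : 1 ≤ d) (u : A) (hεu : ε u = 0) (hu : ∀ k : ℕ, d < k → gamma k u = 0)

include hε hεu in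
lemma Ud.aug_Om (q : Ud d K) : ε (Ud.Om u q) = Ud.aug q := by
  have : (ε : A →ₐ[K] K).comp (Ud.Om (d := d) (K := K) u) = Ud.aug := by
    apply MvPolynomial.algHom_ext
    intro j
    change ε (Ud.Om u (Ud.Y j)) = Ud.aug (Ud.Y j)
    rw [Ud.Om_Y, Ud.aug_Y, aug_gamma_zero ε hε hεu _ (by omega)]
  exact AlgHom.congr_fun this q

include hKb hA hP hQ hε hd hεu hu in
/-- **Lemma A**: `γ^a(κ γ^d(u)) = γ^d(u) · G` with `G ∈ Fil (a - d)`, and `G ≡ (-1)^(d-1) (d-1)! κ`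
modulo `Fil 1` when `a = d`. -/
theorem lemmaA (κ : K) (a : ℕ) (ha : 1 ≤ a) :
    ∃ G : A, G ∈ gammaFil (ε : A →+* K) (a - d) ∧
      gamma a (algebraMap K A κ * gamma d u) = gamma d u * G ∧
      (a = d → G - (-1 : A) ^ (d - 1) * ((d - 1).factorial : A) * algebraMap K A κ ∈
        gammaFil (ε : A →+* K) 1) := by
  obtain ⟨g, hg1, hg2, hg3⟩ := Ud.lemmaA hKb hd hP hQ κ a ha
  have hOm := Ud.Om_comm (d := d) hKb hA hε.isLambdaAlg hP hQ hd u hu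
  have hOmY : Ud.Om u (Ud.Y ⟨d - 1, by omega⟩ : Ud d K) = gamma d u := by
    rw [Ud.Om_Y]
    congr 1
    change d - 1 + 1 = d
    omega
  have hmap : ∀ {k : ℕ} {q : Ud d K},
      q ∈ gammaFil ((Ud.aug : Ud d K →ₐ[K] K) : Ud d K →+* K) k →
      Ud.Om u q ∈ gammaFil (ε : A →+* K) k := fun {k q} hq =>
    map_mem_gammaFil (φ := ((Ud.Om u : Ud d K →ₐ[K] A) : Ud d K →+* A))
      (εB := ((Ud.aug : Ud d K →ₐ[K] K) : Ud d K →+* K)) (εM := (ε : A →+* K))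
      (fun b => Ud.aug_Om ε hε d u hεu b)
      (fun i b => map_gamma_of_Comm (hOm b) i) hq
  refine ⟨Ud.Om u g, hmap hg1, ?_, ?_⟩
  · have := congrArg (Ud.Om (d := d) (K := K) u) hg2
    rw [map_gamma_of_Comm (hOm _) a, map_mul, map_mul, AlgHom.commutes, hOmY] at this
    exact this
  · intro had
    have := hmap (hg3 had)
    rw [map_sub, map_mul, map_mul, map_pow, map_neg, map_one, map_natCast, AlgHom.commutes] at this
    exact this

end LemmaA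

end Groth.Agent.Lib.LamModel99
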