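import Groth.Agent.Lib.LamDiv99e

/-!
# Monomials of the universal polynomial `Pγ` contain variables of both kinds (helper99)
-/

set_option autoImplicit false

namespace Groth.Agent.Lib.LamModel99

open MvPolynomial Finset _root_.LambdaRing Groth.Agent.Lib.LambdaRing
  Groth.Agent.Lib.LambdaGamma Groth.Agent.Lib.LambdaGamma6 Groth.Agent.Lib.LamFil99
  Groth.Agent.Lib.MulPoly6 Groth.Agent.Lib.SpecialLam6 Groth.Agent.S8687

universe u v

section Both

variable (N : ℕ)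

lemma π_mem_idX (b : ℕ) (hb : 1 ≤ b) : π N b ∈ idX N := by
  rw [π]
  split_ifs with h
  · have h1 : Pst N b h ∈ Ideal.span (X '' Set.range Sum.inl :
        Set (MvPolynomial (Fin b ⊕ Fin b) ℤ)) := by
      rw [mem_ideal_span_X_image]
      intro d hd
      obtain ⟨⟨j, hj⟩, _⟩ := exists_inl_inr_of_isMulPoly hb (Pst_isMulPoly N b h) hd
      exact ⟨Sum.inl j, ⟨j, rfl⟩, hj⟩
    refine ringHom_mem_of_mem_span_X (idX N) (ι h).toRingHom _ ?_ h1
    rintro _ ⟨j, rfl⟩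
    change ι h (X (Sum.inl j)) ∈ idX N
    rw [ι, rename_X]
    exact Ideal.subset_span ⟨_, ⟨Fin.castLE h j, rfl⟩, rfl⟩
  · exact Ideal.zero_mem _

lemma LX_mem_idX (a : ℕ) (ha : 1 ≤ a) : LX N a ∈ idX N := by
  rw [LX]
  refine Ideal.sum_mem _ fun r _ => ?_
  rcases Nat.eq_zero_or_pos r with rfl | hr
  · rw [Nat.sub_zero, Nat.choose_eq_zero_of_lt (by omega)]
    simp
  · exact Ideal.mul_mem_left _ _ (ξ_mem N r hr)

lemma LY_mem_idY (a : ℕ) (ha : 1 ≤ a) : LY N a ∈ idY N := by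
  rw [LY]
  refine Ideal.sum_mem _ fun r _ => ?_
  rcases Nat.eq_zero_or_pos r with rfl | hr
  · rw [Nat.sub_zero, Nat.choose_eq_zero_of_lt (by omega)]
    simp
  · exact Ideal.mul_mem_left _ _ (η_mem N r hr)

lemma subγ_mem_idX {p : MvPolynomial (Fin N ⊕ Fin N) ℤ} (hp : p ∈ idX N) : subγ N p ∈ idX N := by
  refine ringHom_mem_of_mem_span_X (idX N) (subγ N).toRingHom _ ?_ hp
  rintro _ ⟨j, rfl⟩
  change subγ N (X (Sum.inl j)) ∈ idX N
  rw [subγ, aeval_X, Sum.elim_inl]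
  exact LX_mem_idX N _ (by omega)

lemma subγ_mem_idY {p : MvPolynomial (Fin N ⊕ Fin N) ℤ} (hp : p ∈ idY N) : subγ N p ∈ idY N := by
  refine ringHom_mem_of_mem_span_X (idY N) (subγ N).toRingHom _ ?_ hp
  rintro _ ⟨j, rfl⟩
  change subγ N (X (Sum.inr j)) ∈ idY N
  rw [subγ, aeval_X, Sum.elim_inr]
  exact LY_mem_idY N _ (by omega)

lemma Pγ_mem_idX (i : ℕ) : Pγ N i ∈ idX N := by
  rw [Pγ]
  refine Ideal.sum_mem _ fun j _ => Ideal.mul_mem_left _ _ ?_
  split_ifs with h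
  · exact Ideal.zero_mem _
  · exact subγ_mem_idX N (π_mem_idX N j (by omega))

lemma Pγ_mem_idY (i : ℕ) : Pγ N i ∈ idY N := by
  rw [Pγ]
  refine Ideal.sum_mem _ fun j _ => Ideal.mul_mem_left _ _ ?_
  split_ifs with h
  · exact Ideal.zero_mem _
  · exact subγ_mem_idY N (π_mem_idY N j (by omega))

/-- **every monomial of `Pγ N i` contains an `X`-variable and a `Y`-variable** -/
theorem Pγ_exists_inl_inr (i : ℕ) {m : Fin N ⊕ Fin N →₀ ℕ} (hm : m ∈ (Pγ N i).support) :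
    (∃ j : Fin N, m (Sum.inl j) ≠ 0) ∧ (∃ j : Fin N, m (Sum.inr j) ≠ 0) := by
  constructor
  · have h := Pγ_mem_idX N i
    rw [idX, mem_ideal_span_X_image] at h
    obtain ⟨_, ⟨j, rfl⟩, hj⟩ := h m hm
    exact ⟨j, hj⟩
  · have h := Pγ_mem_idY N i
    rw [idY, mem_ideal_span_X_image] at h
    obtain ⟨_, ⟨j, rfl⟩, hj⟩ := h m hm
    exact ⟨j, hj⟩

end Both

end Groth.Agent.Lib.LamModel99
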