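import Groth.Agent.Lib.LamDiv99f

/-!
# Lemma B: `γ^b(z γ^d(u)) = γ^d(u) · Y` with control of `Y` in the γ-filtration (helper99)
-/

set_option autoImplicit false

namespace Groth.Agent.Lib.LamModel99

open MvPolynomial Finset _root_.LambdaRing Groth.Agent.Lib.LambdaRing
  Groth.Agent.Lib.LambdaGamma Groth.Agent.Lib.LambdaGamma6 Groth.Agent.Lib.LamFil99
  Groth.Agent.Lib.MulPoly6 Groth.Agent.Lib.SpecialLam6 Groth.Agent.S8687

universe u v

section Split

variable {σ : Type*} {A : Type*} [CommRing A]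

lemma prod_split (f : σ → A) (m : σ →₀ ℕ) (s : σ) (hs : m s ≠ 0) :
    (m.prod fun i k => f i ^ k) = ((m - Finsupp.single s 1).prod fun i k => f i ^ k) * f s := by
  classical
  conv_lhs => rw [← Finsupp.sub_add_single_one_cancel hs]
  rw [Finsupp.prod_add_index' (fun _ => pow_zero _) (fun _ _ _ => pow_add _ _ _),
    Finsupp.prod_single_index (h := fun i k => f i ^ k) (pow_zero _), pow_one]

lemma sum_split (W : σ → ℕ) (m : σ →₀ ℕ) (s : σ) (hs : m s ≠ 0) :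
    (m.sum fun i k => k * W i) = ((m - Finsupp.single s 1).sum fun i k => k * W i) + W s := by
  classical
  conv_lhs => rw [← Finsupp.sub_add_single_one_cancel hs]
  rw [Finsupp.sum_add_index' (h := fun i k => k * W i) (fun _ => Nat.zero_mul _)
      (fun _ _ _ => Nat.add_mul _ _ _),
    Finsupp.sum_single_index (h := fun i k => k * W i) (Nat.zero_mul _), Nat.one_mul]

/-- a polynomial all of whose monomials evaluate to multiples `c · T`, `T ∈ J`, evaluates to a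
multiple of `c` with quotient in `J` -/
lemma aeval_eq_mul_of_monomials (f : σ → A) (c : A) (J : Ideal A) (P : MvPolynomial σ ℤ)
    (h : ∀ m ∈ P.support, ∃ T ∈ J, (m.prod fun i k => f i ^ k) = c * T) :
    ∃ Y ∈ J, aeval f P = c * Y := by
  classical
  choose! T hTJ hTeq using h
  refine ⟨∑ m ∈ P.support, algebraMap ℤ A (coeff m P) * T m, ?_, ?_⟩
  · exact Ideal.sum_mem _ fun m hm => Ideal.mul_mem_left _ _ (hTJ m hm)
  · conv_lhs => rw [P.as_sum]
    rw [map_sum, Finset.mul_sum]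
    refine Finset.sum_congr rfl fun m hm => ?_
    rw [aeval_monomial, hTeq m hm]
    ring

end Split

/-- the total weight function on the variables of `Pγ` -/
def Wv (b : ℕ) (s : Fin b ⊕ Fin b) : ℕ := (w b s).1 + (w b s).2

lemma Wv_inl (b : ℕ) (k : Fin b) : Wv b (Sum.inl k) = (k : ℕ) + 1 := by simp [Wv, w]

lemma Wv_inr (b : ℕ) (k : Fin b) : Wv b (Sum.inr k) = (k : ℕ) + 1 := by simp [Wv, w]

lemma wt2_eq (b : ℕ) (m : Fin b ⊕ Fin b →₀ ℕ) : wt2 b m = m.sum fun s k => k * Wv b s := by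
  rw [wt2, fst_add_snd_weight]
  rfl

section LemmaB

variable {K : Type u} [CommRing K] [LambdaOps K] [BinomialRing K]
  {A : Type v} [CommRing A] [LambdaOps A] [Algebra K A]
  (hKb : IsBinomial K) (hA : IsSpecial A)
  (hP : ∀ n : ℕ, ∃ P : MvPolynomial (Fin n ⊕ Fin n) ℤ, IsMulPoly n P)
  (hQ : ∀ i j : ℕ, ∃ Q : MvPolynomial (Fin (i * j)) ℤ, IsCompPoly i j Q)
  (ε : A →ₐ[K] K) (hε : IsAugLambdaAlg K A ε)
  (d : ℕ) (hd : 1 ≤ d) (u : A) (hεu : ε u = 0) (hu : ∀ k : ℕ, d < k → gamma k u = 0)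

include hKb hA hP hQ hε hd hεu hu in
/-- the quotients `γ^j(c) / c` for `c = γ^d(u)` -/
theorem exists_Yc : ∃ Yc : ℕ → A,
    (∀ j, 1 ≤ j → gamma j (gamma d u) = gamma d u * Yc j) ∧
    (∀ j, 1 ≤ j → Yc j ∈ gammaFil (ε : A →+* K) (j - d)) ∧
    Yc d - (-1 : A) ^ (d - 1) * ((d - 1).factorial : A) ∈ gammaFil (ε : A →+* K) 1 := by
  have h : ∀ (j : ℕ), ∃ G : A, 1 ≤ j → (G ∈ gammaFil (ε : A →+* K) (j - d) ∧
      gamma j (gamma d u) = gamma d u * G ∧
      (j = d → G - (-1 : A) ^ (d - 1) * ((d - 1).factorial : A) ∈ gammaFil (ε : A →+* K) 1)) := by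
    intro j
    by_cases hj : 1 ≤ j
    · obtain ⟨G, h1, h2, h3⟩ := lemmaA hKb hA hP hQ ε hε d hd u hεu hu 1 j hj
      rw [map_one, one_mul] at h2
      rw [map_one, mul_one] at h3
      exact ⟨G, fun _ => ⟨h1, h2, h3⟩⟩
    · exact ⟨0, fun h => absurd h hj⟩
  choose Yc hYc using h
  exact ⟨Yc, fun j hj => (hYc j hj).2.1, fun j hj => (hYc j hj).1, (hYc d hd).2.2 rfl⟩

variable (z : A) (hz : ε z = 0) (b : ℕ)

include hKb hA hP hQ hε hd hεu hz in
/-- the basic division step on one monomial of `Pγ` -/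
theorem monomial_div (Yc : ℕ → A)
    (hYc1 : ∀ j, 1 ≤ j → gamma j (gamma d u) = gamma d u * Yc j)
    (hYc2 : ∀ j, 1 ≤ j → Yc j ∈ gammaFil (ε : A →+* K) (j - d))
    (m : Fin b ⊕ Fin b →₀ ℕ) (k₁ k₀ : Fin b) (h₁ : m (Sum.inl k₁) ≠ 0)
    (h₀ : m (Sum.inr k₀) ≠ 0) :
    ∃ T : A, (m.prod fun s k => gv b z (gamma d u) s ^ k) = gamma d u * T ∧
      T ∈ gammaFil (ε : A →+* K) (wt2 b m - d) ∧ T ∈ gammaFil (ε : A →+* K) 1 ∧
      (∀ i, 1 ≤ i → z ∈ gammaFil (ε : A →+* K) i →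
        (m ≠ Finsupp.single (Sum.inl k₁) 1 + Finsupp.single (Sum.inr k₀) 1 ∨
          i < (k₁ : ℕ) + 1 ∨ d < (k₀ : ℕ) + 1) →
        T ∈ gammaFil (ε : A →+* K) (i + 1)) := by
  classical
  set c : A := gamma d u with hc
  set f : Fin b ⊕ Fin b → A := gv b z c with hf
  have hεc : ε c = 0 := aug_gamma_zero ε hε hεu d hd
  have hfm : ∀ s, f s ∈ gammaFil (ε : A →+* K) (Wv b s) := by
    rintro (k | k)
    · rw [Wv_inl]
      exact gamma_mem_gammaFil _ hz _
    · rw [Wv_inr]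
      exact gamma_mem_gammaFil _ hεc _
  set m₁ : Fin b ⊕ Fin b →₀ ℕ := m - Finsupp.single (Sum.inl k₁) 1 with hm₁
  have h₀' : m₁ (Sum.inr k₀) ≠ 0 := by
    rw [hm₁, Finsupp.coe_tsub, Pi.sub_apply, Finsupp.single_eq_of_ne Sum.inr_ne_inl, Nat.sub_zero]
    exact h₀
  set m₂ : Fin b ⊕ Fin b →₀ ℕ := m₁ - Finsupp.single (Sum.inr k₀) 1 with hm₂
  have e1 := prod_split f m (Sum.inl k₁) h₁
  have e2 := prod_split f m₁ (Sum.inr k₀) h₀'
  have w1 := sum_split (Wv b) m (Sum.inl k₁) h₁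
  have w2 := sum_split (Wv b) m₁ (Sum.inr k₀) h₀'
  rw [← hm₁] at e1 w1
  rw [← hm₂] at e2 w2
  rw [Wv_inl] at w1
  rw [Wv_inr] at w2
  have hfl : f (Sum.inl k₁) = gamma ((k₁ : ℕ) + 1) z := rfl
  have hfr : f (Sum.inr k₀) = c * Yc ((k₀ : ℕ) + 1) := by
    rw [← hYc1 _ (by omega)]
    rfl
  have hM := monomial_mem_fil (ε : A →+* K) f (Wv b) hfm m₂
  have hγz : gamma ((k₁ : ℕ) + 1) z ∈ gammaFil (ε : A →+* K) ((k₁ : ℕ) + 1) :=
    gamma_mem_gammaFil _ hz _
  have hY := hYc2 ((k₀ : ℕ) + 1) (by omega)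
  refine ⟨(m₂.prod fun s k => f s ^ k) * gamma ((k₁ : ℕ) + 1) z * Yc ((k₀ : ℕ) + 1), ?_, ?_, ?_, ?_⟩
  · rw [e1, e2, hfl, hfr]
    ring
  · have := mul_mem_gammaFil _ (mul_mem_gammaFil _ hM hγz) hY
    refine gammaFil_anti _ ?_ this
    rw [wt2_eq, w1, w2]
    omega
  · exact Ideal.mul_mem_right _ _ (Ideal.mul_mem_left _ _ (gammaFil_anti _ (by omega) hγz))
  · intro i hi hzi hcase
    have hγzi : gamma ((k₁ : ℕ) + 1) z ∈ gammaFil (ε : A →+* K) i :=
      gamma_mem_gammaFil_of_mem hA hP hQ (by omega) hzi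
    rcases hcase with hne | hlt | hlt
    · have hm₂0 : m₂ ≠ 0 := by
        intro h0
        apply hne
        have a1 : m₂ + Finsupp.single (Sum.inr k₀) 1 = m₁ :=
          Finsupp.sub_add_single_one_cancel h₀'
        have a2 : m₁ + Finsupp.single (Sum.inl k₁) 1 = m :=
          Finsupp.sub_add_single_one_cancel h₁
        rw [← a2, ← a1, h0, zero_add, add_comm]
      obtain ⟨s, hs⟩ : ∃ s, m₂ s ≠ 0 := by
        by_contra hcon
        push Not at hcon
        exact hm₂0 (Finsupp.ext hcon)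
      have h1 : 1 ≤ m₂.sum fun s k => k * Wv b s := by
        refine le_trans ?_ (le_sum_of_one m₂ (Wv b) hs)
        rcases s with k | k
        · rw [Wv_inl]; omega
        · rw [Wv_inr]; omega
      have hM1 := gammaFil_anti _ h1 hM
      have := mul_mem_gammaFil _ hM1 hγzi
      rw [Nat.add_comm] at this
      exact Ideal.mul_mem_right _ _ this
    · have := gamma_mem_succ_of_lt hKb hA hP hQ hε hi hlt hzi
      exact Ideal.mul_mem_right _ _ (Ideal.mul_mem_left _ _ this)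
    · have hY1 : Yc ((k₀ : ℕ) + 1) ∈ gammaFil (ε : A →+* K) 1 :=
        gammaFil_anti _ (by omega) hY
      exact mul_mem_gammaFil _ (Ideal.mul_mem_left _ _ hγzi) hY1

end LemmaB

end Groth.Agent.Lib.LamModel99
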