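import Groth.Agent.Lib.LamDiv99g

/-!
# Lemma B, assembled (helper99)
-/

set_option autoImplicit false

namespace Groth.Agent.Lib.LamModel99

open MvPolynomial Finset _root_.LambdaRing Groth.Agent.Lib.LambdaRing
  Groth.Agent.Lib.LambdaGamma Groth.Agent.Lib.LambdaGamma6 Groth.Agent.Lib.LamFil99
  Groth.Agent.Lib.MulPoly6 Groth.Agent.Lib.SpecialLam6 Groth.Agent.S8687

universe u v

/-- the exponent of the monomial `X_i Y_d` -/
noncomputable def m0 (d i : ℕ) (hd : 1 ≤ d) (hi : 1 ≤ i) : Fin (d + i) ⊕ Fin (d + i) →₀ ℕ :=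
  Finsupp.single (Sum.inl ⟨i - 1, by omega⟩) 1 + Finsupp.single (Sum.inr ⟨d - 1, by omega⟩) 1

/-- the coefficient of `X_i Y_d` in `Pγ_{d+i}` -/
noncomputable def rho (d i : ℕ) (hd : 1 ≤ d) (hi : 1 ≤ i) : ℤ :=
  coeff (m0 d i hd hi) (Pγ (d + i) (d + i))

section LemmaB

variable {K : Type u} [CommRing K] [LambdaOps K] [BinomialRing K]
  {A : Type v} [CommRing A] [LambdaOps A] [Algebra K A]
  (hKb : IsBinomial K) (hA : IsSpecial A)
  (hP : ∀ n : ℕ, ∃ P : MvPolynomial (Fin n ⊕ Fin n) ℤ, IsMulPoly n P)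
  (hQ : ∀ i j : ℕ, ∃ Q : MvPolynomial (Fin (i * j)) ℤ, IsCompPoly i j Q)
  (ε : A →ₐ[K] K) (hε : IsAugLambdaAlg K A ε)
  (d : ℕ) (hd : 1 ≤ d) (u : A) (hεu : ε u = 0) (hu : ∀ k : ℕ, d < k → gamma k u = 0)
  (z : A)

include hKb hA hP hQ hε hd hεu hu in
/-- **Lemma B (basic form)** -/
theorem lemmaB (hz : ε z = 0) (b : ℕ) (hb : 1 ≤ b) :
    ∃ Y : A, gamma b (z * gamma d u) = gamma d u * Y ∧
      Y ∈ gammaFil (ε : A →+* K) (b - d) ∧ Y ∈ gammaFil (ε : A →+* K) 1 := by
  obtain ⟨Yc, hYc1, hYc2, _⟩ := exists_Yc hKb hA hP hQ ε hε d hd u hεu hu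
  rw [gamma_mul_eq hA b z (gamma d u) b hb le_rfl]
  obtain ⟨Y, hY, hYe⟩ := aeval_eq_mul_of_monomials (gv b z (gamma d u)) (gamma d u)
    (gammaFil (ε : A →+* K) (b - d) ⊓ gammaFil (ε : A →+* K) 1) (Pγ b b) (by
      intro m hm
      obtain ⟨⟨k₁, h₁⟩, ⟨k₀, h₀⟩⟩ := Pγ_exists_inl_inr b b hm
      obtain ⟨T, e, t1, t2, _⟩ := monomial_div hKb hA hP hQ ε hε d hd u hεu z hz b Yc hYc1 hYc2
        m k₁ k₀ h₁ h₀
      have hw := Pγ_weight b b hb le_rfl m hm
      exact ⟨T, ⟨gammaFil_anti _ (by omega) t1, t2⟩, e⟩)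
  exact ⟨Y, hYe, hY.1, hY.2⟩

include hKb hA hP hQ hε hd hεu hu in
/-- **Lemma B (refined form)**: for `z ∈ Fil i`, `i ≥ 1`, the quotient `γ^{d+i}(z c) / c` is
congruent to `ρ θ_i θ_d z` modulo `Fil (i+1)`. -/
theorem lemmaB_refined (i : ℕ) (hi : 1 ≤ i) (hzi : z ∈ gammaFil (ε : A →+* K) i) :
    ∃ Y : A, gamma (d + i) (z * gamma d u) = gamma d u * Y ∧
      Y - ((rho d i hd hi : ℤ) : A) * ((-1 : A) ^ (i - 1) * ((i - 1).factorial : A)) *
        ((-1 : A) ^ (d - 1) * ((d - 1).factorial : A)) * z ∈ gammaFil (ε : A →+* K) (i + 1) := by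
  classical
  obtain ⟨Yc, hYc1, hYc2, hYc3⟩ := exists_Yc hKb hA hP hQ ε hε d hd u hεu hu
  have hz : ε z = 0 := aug_eq_zero_of_mem ε hε (gammaFil_anti _ hi hzi)
  set n := d + i with hn
  set c : A := gamma d u with hc
  set f : Fin n ⊕ Fin n → A := gv n z c with hf
  set ρ : ℤ := rho d i hd hi with hρ
  set P' : MvPolynomial (Fin n ⊕ Fin n) ℤ := Pγ n n - monomial (m0 d i hd hi) ρ with hP'
  have hsplit : Pγ n n = P' + monomial (m0 d i hd hi) ρ := by rw [hP']; ring
  -- the monomials of `P'`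
  have hsupp : ∀ m ∈ P'.support, m ∈ (Pγ n n).support ∧ m ≠ m0 d i hd hi := by
    intro m hm
    rw [mem_support_iff, hP', coeff_sub, coeff_monomial] at hm
    by_cases h : m0 d i hd hi = m
    · exfalso
      apply hm
      rw [if_pos h, hρ, rho, h, sub_self]
    · rw [if_neg h, sub_zero] at hm
      exact ⟨mem_support_iff.2 hm, fun h' => h h'.symm⟩
  obtain ⟨Y', hY', hYe'⟩ := aeval_eq_mul_of_monomials f c
    (gammaFil (ε : A →+* K) (i + 1)) P' (by
      intro m hm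
      obtain ⟨hmP, hne⟩ := hsupp m hm
      obtain ⟨⟨k₁, h₁⟩, ⟨k₀, h₀⟩⟩ := Pγ_exists_inl_inr n n hmP
      obtain ⟨T, e, _, _, t3⟩ := monomial_div hKb hA hP hQ ε hε d hd u hεu z hz n Yc hYc1 hYc2
        m k₁ k₀ h₁ h₀
      refine ⟨T, t3 i hi hzi ?_, e⟩
      by_cases hm2 : m = Finsupp.single (Sum.inl k₁) 1 + Finsupp.single (Sum.inr k₀) 1
      · have hw := Pγ_weight n n (by omega) le_rfl m hmP
        rw [wt2_eq, hm2, Finsupp.sum_add_index' (h := fun s k => k * Wv n s)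
            (fun _ => Nat.zero_mul _) (fun _ _ _ => Nat.add_mul _ _ _),
          Finsupp.sum_single_index (h := fun s k => k * Wv n s) (Nat.zero_mul _),
          Finsupp.sum_single_index (h := fun s k => k * Wv n s) (Nat.zero_mul _),
          Wv_inl, Wv_inr] at hw
        by_cases hc1 : i < (k₁ : ℕ) + 1
        · exact Or.inr (Or.inl hc1)
        · by_cases hc2 : d < (k₀ : ℕ) + 1
          · exact Or.inr (Or.inr hc2)
          · exfalso
            apply hne
            have hb1 : i - 1 < n := by omega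
            have hb0 : d - 1 < n := by omega
            have e1 : k₁ = ⟨i - 1, hb1⟩ := Fin.ext (by simp only; omega)
            have e0 : k₀ = ⟨d - 1, hb0⟩ := Fin.ext (by simp only; omega)
            rw [hm2]
            subst e1
            subst e0
            rfl
      · exact Or.inl hm2)
  -- the monomial `X_i Y_d`
  have hmono : aeval f (monomial (m0 d i hd hi) ρ) =
      c * ((ρ : A) * (gamma i z * Yc d)) := by
    rw [aeval_monomial, m0, Finsupp.prod_add_index' (fun _ => pow_zero _)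
        (fun _ _ _ => pow_add _ _ _),
      Finsupp.prod_single_index (h := fun s k => f s ^ k) (pow_zero _),
      Finsupp.prod_single_index (h := fun s k => f s ^ k) (pow_zero _), pow_one, pow_one]
    have hfl : f (Sum.inl ⟨i - 1, by omega⟩) = gamma i z := by
      change gamma (i - 1 + 1) z = gamma i z
      rw [Nat.sub_add_cancel hi]
    have hfr : f (Sum.inr ⟨d - 1, by omega⟩) = c * Yc d := by
      rw [← hYc1 d hd]
      change gamma (d - 1 + 1) c = gamma d c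
      rw [Nat.sub_add_cancel hd]
    rw [hfl, hfr]
    simp only [eq_intCast]
    ring
  refine ⟨Y' + (ρ : A) * (gamma i z * Yc d), ?_, ?_⟩
  · rw [gamma_mul_eq hA n z c n (by omega) le_rfl, hsplit, map_add, hYe', hmono]
    ring
  · have h1 := gamma_sub_factorial_mem hKb hA hP hQ hε hi hzi
    have h2 : z * (Yc d - (-1 : A) ^ (d - 1) * ((d - 1).factorial : A)) ∈
        gammaFil (ε : A →+* K) (i + 1) := mul_mem_gammaFil _ hzi hYc3
    have e : Y' + (ρ : A) * (gamma i z * Yc d) -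
        (ρ : A) * ((-1 : A) ^ (i - 1) * ((i - 1).factorial : A)) *
          ((-1 : A) ^ (d - 1) * ((d - 1).factorial : A)) * z =
        Y' + (ρ : A) * Yc d * (gamma i z - (-1 : A) ^ (i - 1) * ((i - 1).factorial : A) * z) +
          (ρ : A) * ((-1 : A) ^ (i - 1) * ((i - 1).factorial : A)) *
            (z * (Yc d - (-1 : A) ^ (d - 1) * ((d - 1).factorial : A))) := by ring
    rw [e]
    exact Ideal.add_mem _ (Ideal.add_mem _ hY' (Ideal.mul_mem_left _ _ h1))
      (Ideal.mul_mem_left _ _ h2)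

end LemmaB

end Groth.Agent.Lib.LamModel99
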