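import Groth.Agent.Lib.LamDiv99h

/-!
# The integer identity `ρ θ_i θ_d = θ_{d+i}`, via an example in the split model (helper99)
-/

set_option autoImplicit false

namespace Groth.Agent.Lib.LamModel99

open MvPolynomial Finset _root_.LambdaRing Groth.Agent.Lib.LambdaRing
  Groth.Agent.Lib.LambdaGamma Groth.Agent.Lib.LambdaGamma6 Groth.Agent.Lib.LamFil99
  Groth.Agent.Lib.MulPoly6 Groth.Agent.Lib.SpecialLam6 Groth.Agent.S8687

universe u v

section Example

variable {K : Type u} [CommRing K] [LambdaOps K] [BinomialRing K] (hKb : IsBinomial K)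
  (hP : ∀ n : ℕ, ∃ P : MvPolynomial (Fin n ⊕ Fin n) ℤ, IsMulPoly n P)
  (hQ : ∀ i j : ℕ, ∃ Q : MvPolynomial (Fin (i * j)) ℤ, IsCompPoly i j Q)

attribute [local instance] modelOps

include hKb hP hQ in
/-- **the identity `ρ θ_i θ_d = θ_{d+i}`** (in `K`) -/
theorem rho_identity (d i : ℕ) (hd : 1 ≤ d) (hi : 1 ≤ i) :
    ((rho d i hd hi : ℤ) : K) * ((-1 : K) ^ (i - 1) * ((i - 1).factorial : K)) *
        ((-1 : K) ^ (d - 1) * ((d - 1).factorial : K)) =
      (-1 : K) ^ (d + i - 1) * ((d + i - 1).factorial : K) := by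
  classical
  have hM : IsSpecial (MvPolynomial Unit K) := model_isSpecial
  have h1 := hM.lam_one_eq_zero
  have hε : IsAugLambdaAlg K (MvPolynomial Unit K) aug1 := model_isAug hKb
  set x : MvPolynomial Unit K := X () with hx
  set t : MvPolynomial Unit K := x - 1 with ht
  have haug : aug1 t = 0 := by
    rw [ht, hx, map_sub, map_one, aug1, aeval_X, sub_self]
  set uu : MvPolynomial Unit K := ∑ a : Fin d, ((fun _ : Fin d => x) a - 1) with huu
  have hγ : ∀ k, gamma k uu =
      ∑ s ∈ (Finset.univ : Finset (Fin d)).powersetCard k, ∏ a ∈ s, ((fun _ : Fin d => x) a - 1) :=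
    fun k => gamma_sum_line_sub_one h1 (fun _ : Fin d => x) (fun _ => lam_X_eq_zero ()) k
  have hu0 : ∀ k : ℕ, d < k → gamma k uu = 0 := by
    intro k hk
    rw [hγ, Finset.powersetCard_eq_empty.2 (by simpa using hk), Finset.sum_empty]
  have hc : gamma d uu = t ^ d := by
    rw [hγ]
    have : (Finset.univ : Finset (Fin d)).powersetCard d = {Finset.univ} := by
      have h := Finset.powersetCard_self (Finset.univ : Finset (Fin d))
      rwa [Finset.card_univ, Fintype.card_fin] at h
    rw [this, Finset.sum_singleton, Finset.prod_const, Finset.card_univ, Fintype.card_fin]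
  have hεu : aug1 uu = 0 := by
    rw [huu, map_sum]
    exact Finset.sum_eq_zero fun a _ => haug
  have ht1 : t ∈ gammaFil ((aug1 : MvPolynomial Unit K →ₐ[K] K) : MvPolynomial Unit K →+* K) 1 :=
    mem_gammaFil_one _ haug
  have hz : t ^ i ∈ gammaFil ((aug1 : MvPolynomial Unit K →ₐ[K] K) :
      MvPolynomial Unit K →+* K) i := by
    have := pow_mem_gammaFil _ ht1 i
    rwa [Nat.mul_one] at this
  have hcm : t ^ d ∈ gammaFil ((aug1 : MvPolynomial Unit K →ₐ[K] K) :
      MvPolynomial Unit K →+* K) d := by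
    have := pow_mem_gammaFil _ ht1 d
    rwa [Nat.mul_one] at this
  obtain ⟨Y, hY1, hY2⟩ := lemmaB_refined hKb hM hP hQ aug1 hε d hd uu hεu hu0 (t ^ i) i hi hz
  rw [hc] at hY1
  have hzc : t ^ i * t ^ d ∈ gammaFil ((aug1 : MvPolynomial Unit K →ₐ[K] K) :
      MvPolynomial Unit K →+* K) (d + i) := by
    have := mul_mem_gammaFil _ hz hcm
    rwa [Nat.add_comm] at this
  have h2 := gamma_sub_factorial_mem hKb hM hP hQ hε (m := d + i) (by omega) hzc
  rw [hY1] at h2
  have h3 := mul_mem_gammaFil _ hcm hY2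
  have e : d + (i + 1) = d + i + 1 := by omega
  rw [e] at h3
  -- the constant
  set δ : K := ((rho d i hd hi : ℤ) : K) * ((-1 : K) ^ (i - 1) * ((i - 1).factorial : K)) *
        ((-1 : K) ^ (d - 1) * ((d - 1).factorial : K)) -
      (-1 : K) ^ (d + i - 1) * ((d + i - 1).factorial : K) with hδ
  have hΔ : C δ * (t ^ i * t ^ d) ∈ gammaFil ((aug1 : MvPolynomial Unit K →ₐ[K] K) :
      MvPolynomial Unit K →+* K) (d + i + 1) := by
    have e2 : C δ * (t ^ i * t ^ d) =
        (t ^ d * Y - (-1 : MvPolynomial Unit K) ^ (d + i - 1) *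
          ((d + i - 1).factorial : MvPolynomial Unit K) * (t ^ i * t ^ d)) -
        t ^ d * (Y - ((rho d i hd hi : ℤ) : MvPolynomial Unit K) *
          ((-1 : MvPolynomial Unit K) ^ (i - 1) * ((i - 1).factorial : MvPolynomial Unit K)) *
          ((-1 : MvPolynomial Unit K) ^ (d - 1) * ((d - 1).factorial : MvPolynomial Unit K)) *
          t ^ i) := by
      rw [hδ]
      simp only [map_sub, map_mul, map_pow, map_neg, map_one, map_natCast, map_intCast]
      ring
    rw [e2]
    exact Ideal.sub_mem _ h2 h3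
  have hJ := gammaFil_le_Jf (d + i + 1) hΔ
  rw [mem_Jf] at hJ
  have hsh : shift (C δ * (t ^ i * t ^ d)) = monomial (Finsupp.single () (i + d)) δ := by
    have hst : shift t = X () := by
      rw [ht, hx, map_sub, map_one, shift, aeval_X, add_sub_cancel_right]
    have hsC : shift (C δ : MvPolynomial Unit K) = C δ := AlgHom.commutes _ _
    rw [map_mul, map_mul, map_pow, map_pow, hst, ← pow_add, X_pow_eq_monomial, hsC, C_mul_monomial,
      mul_one]
  rw [hsh] at hJ
  have hδ0 : δ = 0 := by
    by_contra hne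
    have := (monomial_mem_pow_idealOfVars_iff (d + i + 1) _ hne).1 hJ
    rw [Finsupp.degree_single] at this
    omega
  rw [hδ] at hδ0
  exact sub_eq_zero.1 hδ0

end Example

end Groth.Agent.Lib.LamModel99
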