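import Groth.Agent.Lib.LamDiv99i

/-!
# `γ^p(x λ_{-1}(N)) / λ_{-1}(N)` and the γ-filtration (helper99)

The main theorems behind S8695 and S8696.
-/

set_option autoImplicit false

namespace Groth.Agent.Lib.LamModel99

open MvPolynomial Finset _root_.LambdaRing Groth.Agent.Lib.LambdaRing
  Groth.Agent.Lib.LambdaGamma Groth.Agent.Lib.LambdaGamma6 Groth.Agent.Lib.LamFil99

open scoped nonZeroDivisors

universe u v

lemma sum_eq_mul_of_terms {A : Type*} [CommRing A] {ι : Type*} (s : Finset ι) (f : ι → A) (c : A)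
    (J : Ideal A) (h : ∀ j ∈ s, ∃ Y ∈ J, f j = c * Y) : ∃ Y ∈ J, ∑ j ∈ s, f j = c * Y := by
  classical
  choose! T hTJ hTeq using h
  refine ⟨∑ j ∈ s, T j, Ideal.sum_mem _ hTJ, ?_⟩
  rw [Finset.mul_sum]
  exact Finset.sum_congr rfl hTeq

section Main

variable {K : Type u} [CommRing K] [LambdaOps K] [BinomialRing K]
  {A : Type v} [CommRing A] [LambdaOps A] [Algebra K A]
  (hKb : IsBinomial K) (hA : IsSpecial A)
  (hP : ∀ n : ℕ, ∃ P : MvPolynomial (Fin n ⊕ Fin n) ℤ, IsMulPoly n P)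
  (hQ : ∀ i j : ℕ, ∃ Q : MvPolynomial (Fin (i * j)) ℤ, IsCompPoly i j Q)
  (ε : A →ₐ[K] K) (hε : IsAugLambdaAlg K A ε)
  (d : ℕ) (hd : 1 ≤ d) (u : A) (hεu : ε u = 0) (hu : ∀ k : ℕ, d < k → gamma k u = 0)

include hKb hA hP hQ hε hd hεu hu in
/-- the terms `γ^j(κ c) γ^{p-j}(x' c)`, `j < p` -/
lemma term_div (κ : K) (x' : A) (hx' : ε x' = 0) (p j : ℕ) (hj : j < p) :
    ∃ Y : A, (Y ∈ gammaFil (ε : A →+* K) (p - d) ∧ Y ∈ gammaFil (ε : A →+* K) 1) ∧
      gamma j (algebraMap K A κ * gamma d u) * gamma (p - j) (x' * gamma d u) = gamma d u * Y := by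
  obtain ⟨Y, hY1, hY2, hY3⟩ := lemmaB hKb hA hP hQ ε hε d hd u hεu hu x' hx' (p - j) (by omega)
  have hεκc : (ε : A →+* K) (algebraMap K A κ * gamma d u) = 0 := by
    change ε (algebraMap K A κ * gamma d u) = 0
    rw [map_mul, aug_gamma_zero ε hε hεu d hd, mul_zero]
  have hg := gamma_mem_gammaFil (ε : A →+* K) hεκc j
  refine ⟨gamma j (algebraMap K A κ * gamma d u) * Y, ⟨?_, Ideal.mul_mem_left _ _ hY3⟩, ?_⟩
  · exact gammaFil_anti _ (by omega) (mul_mem_gammaFil _ hg hY2)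
  · rw [hY1]; ring

include hKb hA hP hQ hε hd hεu hu in
/-- **Main theorem A**: `γ^p(x c) = c · Y` with `Y ∈ Fil (p - d)`, for `c = γ^d(u)`. -/
theorem mainA (p : ℕ) (hp : 1 ≤ p) (x : A) :
    ∃ Y : A, Y ∈ gammaFil (ε : A →+* K) (p - d) ∧ gamma p (x * gamma d u) = gamma d u * Y := by
  set κ : K := ε x with hκ
  set x' : A := x - algebraMap K A κ with hx'def
  have hx' : ε x' = 0 := by
    rw [hx'def, map_sub, AlgHom.commutes, Algebra.algebraMap_self_apply, sub_self]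
  have hsplit : x * gamma d u = algebraMap K A κ * gamma d u + x' * gamma d u := by
    rw [hx'def]; ring
  rw [hsplit, gamma_add, Finset.sum_range_succ, Nat.sub_self, gamma_zero_eq, mul_one]
  obtain ⟨Y1, hY1, hY1e⟩ := sum_eq_mul_of_terms (range p)
    (fun j => gamma j (algebraMap K A κ * gamma d u) * gamma (p - j) (x' * gamma d u))
    (gamma d u) (gammaFil (ε : A →+* K) (p - d)) (by
      intro j hj
      obtain ⟨Y, ⟨h1, _⟩, h2⟩ := term_div hKb hA hP hQ ε hε d hd u hεu hu κ x' hx' p j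
        (Finset.mem_range.1 hj)
      exact ⟨Y, h1, h2⟩)
  obtain ⟨G, hG1, hG2, _⟩ := lemmaA hKb hA hP hQ ε hε d hd u hεu hu κ p hp
  refine ⟨Y1 + G, Ideal.add_mem _ hY1 hG1, ?_⟩
  rw [hY1e, hG2]; ring

include hKb hA hP hQ hε hd hεu hu in
/-- **Main theorem B**: for `x ∈ Fil i`, `γ^{d+i}(x c) = c · Y` with
`Y ≡ (-1)^(d+i-1) (d+i-1)! x` modulo `Fil (i+1)`. -/
theorem mainB (i : ℕ) (x : A) (hx : x ∈ gammaFil (ε : A →+* K) i) :
    ∃ Y : A, gamma (d + i) (x * gamma d u) = gamma d u * Y ∧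
      Y - (-1 : A) ^ (d + i - 1) * ((d + i - 1).factorial : A) * x ∈
        gammaFil (ε : A →+* K) (i + 1) := by
  rcases Nat.eq_zero_or_pos i with rfl | hi
  · -- the case `i = 0`
    set κ : K := ε x with hκ
    set x' : A := x - algebraMap K A κ with hx'def
    have hx' : ε x' = 0 := by
      rw [hx'def, map_sub, AlgHom.commutes, Algebra.algebraMap_self_apply, sub_self]
    have hsplit : x * gamma d u = algebraMap K A κ * gamma d u + x' * gamma d u := by
      rw [hx'def]; ring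
    rw [Nat.add_zero, Nat.zero_add, hsplit, gamma_add, Finset.sum_range_succ, Nat.sub_self,
      gamma_zero_eq, mul_one]
    obtain ⟨Y1, hY1, hY1e⟩ := sum_eq_mul_of_terms (range d)
      (fun j => gamma j (algebraMap K A κ * gamma d u) * gamma (d - j) (x' * gamma d u))
      (gamma d u) (gammaFil (ε : A →+* K) 1) (by
        intro j hj
        obtain ⟨Y, ⟨_, h1⟩, h2⟩ := term_div hKb hA hP hQ ε hε d hd u hεu hu κ x' hx' d j
          (Finset.mem_range.1 hj)
        exact ⟨Y, h1, h2⟩)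
    obtain ⟨G, _, hG2, hG3⟩ := lemmaA hKb hA hP hQ ε hε d hd u hεu hu κ d hd
    refine ⟨Y1 + G, by rw [hY1e, hG2]; ring, ?_⟩
    have hx'1 : x' ∈ gammaFil (ε : A →+* K) 1 := mem_gammaFil_one _ hx'
    have e : Y1 + G - (-1 : A) ^ (d - 1) * ((d - 1).factorial : A) * x =
        Y1 + (G - (-1 : A) ^ (d - 1) * ((d - 1).factorial : A) * algebraMap K A κ) -
          (-1 : A) ^ (d - 1) * ((d - 1).factorial : A) * x' := by
      rw [hx'def]; ring
    rw [e]
    exact Ideal.sub_mem _ (Ideal.add_mem _ hY1 (hG3 rfl)) (Ideal.mul_mem_left _ _ hx'1)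
  · -- the case `i ≥ 1`
    obtain ⟨Y, hY1, hY2⟩ := lemmaB_refined hKb hA hP hQ ε hε d hd u hεu hu x i hi hx
    refine ⟨Y, hY1, ?_⟩
    have hid := congrArg (algebraMap K A) (rho_identity (K := K) hKb hP hQ d i hd hi)
    simp only [map_mul, map_pow, map_neg, map_one, map_natCast, map_intCast] at hid
    rw [← hid]
    exact hY2

end Main

end Groth.Agent.Lib.LamModel99
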