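import Groth.Agent.Lib.LamDiv99j

/-!
# The statements S8695 and S8696 in terms of an element `N` of rank `d` (helper99)
-/

set_option autoImplicit false

namespace Groth.Agent.Lib.LamModel99

open MvPolynomial Finset _root_.LambdaRing Groth.Agent.Lib.LambdaRing
  Groth.Agent.Lib.LambdaGamma Groth.Agent.Lib.LambdaGamma6 Groth.Agent.Lib.LamFil99

open scoped nonZeroDivisors

universe u v

section Final

variable {K : Type u} [CommRing K] [LambdaOps K] [BinomialRing K]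
  {A : Type v} [CommRing A] [LambdaOps A] [Algebra K A]
  (hKb : IsBinomial K) (hA : IsSpecial A)
  (hP : ∀ n : ℕ, ∃ P : MvPolynomial (Fin n ⊕ Fin n) ℤ, IsMulPoly n P)
  (hQ : ∀ i j : ℕ, ∃ Q : MvPolynomial (Fin (i * j)) ℤ, IsCompPoly i j Q)
  (ε : A →ₐ[K] K) (hε : IsAugLambdaAlg K A ε)
  (d : ℕ) (hd : 1 ≤ d) (N : A) (hN : ∀ k : ℕ, d < k → LambdaOps.lam k N = 0)
  (hNε : ε N = (d : K))

include hA hd hN hNε in
/-- passing from `N` to `u = N - d` -/
lemma exists_u : ∃ u : A, ε u = 0 ∧ (∀ k : ℕ, d < k → gamma k u = 0) ∧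
    (∑ j ∈ range (d + 1), (-1 : A) ^ j * LambdaOps.lam j N) = (-1 : A) ^ d * gamma d u := by
  have h1 := hA.lam_one_eq_zero
  refine ⟨N - (d : A), ?_, gamma_sub_natCast_eq_zero h1 d N hN, ?_⟩
  · rw [map_sub, hNε, map_natCast, sub_self]
  · rw [gamma_sub_natCast_eq h1 d hd N, ← mul_assoc]
    have hsq : (-1 : A) ^ d * (-1 : A) ^ d = 1 := by
      rw [← pow_add, ← two_mul, pow_mul]; simp
    rw [hsq, one_mul]

include hKb hA hP hQ hε hd hN hNε in
/-- **S8695** -/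
theorem mem_gammaFil_of_mul_lamAlt_eq_gamma
    (hnzd : (∑ j ∈ range (d + 1), (-1 : A) ^ j * LambdaOps.lam j N) ∈ A⁰)
    (p : ℕ) (hp : 1 ≤ p) (x y : A)
    (hy : y * (∑ j ∈ range (d + 1), (-1 : A) ^ j * LambdaOps.lam j N) =
      gamma p (x * (∑ j ∈ range (d + 1), (-1 : A) ^ j * LambdaOps.lam j N))) :
    y ∈ gammaFil (ε : A →+* K) (p - d) := by
  obtain ⟨u, hεu, hu, hL⟩ := exists_u hA ε d hd N hN hNε
  set L : A := ∑ j ∈ range (d + 1), (-1 : A) ^ j * LambdaOps.lam j N with hLdef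
  obtain ⟨Y, hY, hYe⟩ := mainA hKb hA hP hQ ε hε d hd u hεu hu p hp ((-1 : A) ^ d * x)
  have hsq : (-1 : A) ^ d * (-1 : A) ^ d = 1 := by
    rw [← pow_add, ← two_mul, pow_mul]; simp
  have hc : gamma d u = (-1 : A) ^ d * L := by rw [hL, ← mul_assoc, hsq, one_mul]
  have e1 : (-1 : A) ^ d * x * gamma d u = x * L := by
    rw [hc]
    calc (-1 : A) ^ d * x * ((-1) ^ d * L) = ((-1 : A) ^ d * (-1) ^ d) * (x * L) := by ring
      _ = x * L := by rw [hsq, one_mul]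
  rw [e1, ← hy, hc] at hYe
  have h0 : (y - (-1 : A) ^ d * Y) * L = 0 := by
    rw [sub_mul, hYe]; ring
  have := (mem_nonZeroDivisors_iff.1 hnzd).2 _ h0
  rw [sub_eq_zero.1 this]
  exact Ideal.mul_mem_left _ _ hY

include hKb hA hP hQ hε hd hN hNε in
/-- **S8696** -/
theorem sub_factorial_mul_mem_gammaFil_of_mul_lamAlt_eq_gamma
    (hnzd : (∑ j ∈ range (d + 1), (-1 : A) ^ j * LambdaOps.lam j N) ∈ A⁰)
    (i : ℕ) (x : A) (hx : x ∈ gammaFil (ε : A →+* K) i) (y : A)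
    (hy : y * (∑ j ∈ range (d + 1), (-1 : A) ^ j * LambdaOps.lam j N) =
      gamma (d + i) (x * (∑ j ∈ range (d + 1), (-1 : A) ^ j * LambdaOps.lam j N))) :
    y - (-1 : A) ^ (d + i - 1) * ((d + i - 1).factorial : A) * x ∈
      gammaFil (ε : A →+* K) (i + 1) := by
  obtain ⟨u, hεu, hu, hL⟩ := exists_u hA ε d hd N hN hNε
  set L : A := ∑ j ∈ range (d + 1), (-1 : A) ^ j * LambdaOps.lam j N with hLdef
  obtain ⟨Y, hYe, hY⟩ := mainB hKb hA hP hQ ε hε d hd u hεu hu i ((-1 : A) ^ d * x)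
    (Ideal.mul_mem_left _ _ hx)
  have hsq : (-1 : A) ^ d * (-1 : A) ^ d = 1 := by
    rw [← pow_add, ← two_mul, pow_mul]; simp
  have hc : gamma d u = (-1 : A) ^ d * L := by rw [hL, ← mul_assoc, hsq, one_mul]
  have e1 : (-1 : A) ^ d * x * gamma d u = x * L := by
    rw [hc]
    calc (-1 : A) ^ d * x * ((-1) ^ d * L) = ((-1 : A) ^ d * (-1) ^ d) * (x * L) := by ring
      _ = x * L := by rw [hsq, one_mul]
  rw [e1, ← hy, hc] at hYe
  have h0 : (y - (-1 : A) ^ d * Y) * L = 0 := by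
    rw [sub_mul, hYe]; ring
  have := (mem_nonZeroDivisors_iff.1 hnzd).2 _ h0
  rw [sub_eq_zero.1 this]
  have e2 : (-1 : A) ^ d * Y - (-1 : A) ^ (d + i - 1) * ((d + i - 1).factorial : A) * x =
      (-1 : A) ^ d * (Y - (-1 : A) ^ (d + i - 1) * ((d + i - 1).factorial : A) *
        ((-1 : A) ^ d * x)) := by
    calc (-1 : A) ^ d * Y - (-1 : A) ^ (d + i - 1) * ((d + i - 1).factorial : A) * x
        = (-1 : A) ^ d * Y - ((-1 : A) ^ d * (-1 : A) ^ d) *
            ((-1 : A) ^ (d + i - 1) * ((d + i - 1).factorial : A) * x) := by rw [hsq, one_mul]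
      _ = _ := by ring
  rw [e2]
  exact Ideal.mul_mem_left _ _ hY

end Final

end Groth.Agent.Lib.LamModel99
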