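import Groth.Agent.Lib.LambdaRing

/-!
# γ-operations in a pre-λ-ring with `λ_t(1) = 1 + t` (helper library)
-/

set_option autoImplicit false
universe u

namespace Groth.Agent.Lib.LambdaGamma

open _root_.LambdaRing PowerSeries Finset Groth.Agent.Lib.LambdaRing

variable {K : Type u} [CommRing K] [LambdaOps K]

theorem lamSeries_one' (h1 : ∀ k : ℕ, 2 ≤ k → LambdaOps.lam k (1 : K) = 0) :
    lamSeries (1 : K) = 1 + X := by
  ext i
  rw [coeff_lamSeries]
  rcases i with _ | _ | i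
  · simp [LambdaOps.lam_zero]
  · simp [LambdaOps.lam_one]
  · rw [h1 (i + 2) (by omega)]
    simp [coeff_one, coeff_X]

theorem lamSeries_natCast' (h1 : ∀ k : ℕ, 2 ≤ k → LambdaOps.lam k (1 : K) = 0) (n : ℕ) :
    lamSeries (n : K) = (1 + X) ^ n := by
  induction n with
  | zero => rw [Nat.cast_zero, lamSeries_zero, pow_zero]
  | succ n ih => rw [Nat.cast_succ, lamSeries_add, ih, lamSeries_one' h1, pow_succ]

omit [LambdaOps K] in
theorem coeff_one_add_X_pow (n k : ℕ) :
    coeff k ((1 + X : PowerSeries K) ^ n) = (n.choose k : K) := by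
  have h : ((1 + X : PowerSeries K) ^ n) =
      (((1 + Polynomial.X : Polynomial K) ^ n : Polynomial K) : PowerSeries K) := by
    simp
  rw [h, Polynomial.coeff_coe, Polynomial.coeff_one_add_X_pow]

theorem lam_natCast (h1 : ∀ k : ℕ, 2 ≤ k → LambdaOps.lam k (1 : K) = 0) (k n : ℕ) :
    LambdaOps.lam k (n : K) = (n.choose k : K) := by
  rw [← coeff_lamSeries, lamSeries_natCast' h1, coeff_one_add_X_pow]

theorem lamSeries_neg_one (h1 : ∀ k : ℕ, 2 ≤ k → LambdaOps.lam k (1 : K) = 0) :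
    lamSeries (-1 : K) = PowerSeries.mk fun j => (-1 : K) ^ j := by
  have h : lamSeries (-1 : K) * (1 + X) = 1 := by
    rw [← lamSeries_one' h1, ← lamSeries_add, neg_add_cancel, lamSeries_zero]
  have h' : (1 + X) * (PowerSeries.mk fun j => (-1 : K) ^ j) = 1 := by
    ext i
    rcases i with _ | i
    · simp
    · rw [add_mul, one_mul, map_add, coeff_succ_X_mul]
      simp [coeff_one, pow_succ]
  calc lamSeries (-1 : K)
      = lamSeries (-1 : K) * ((1 + X) * (PowerSeries.mk fun j => (-1 : K) ^ j)) := by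
        rw [h', mul_one]
    _ = (lamSeries (-1 : K) * (1 + X)) * (PowerSeries.mk fun j => (-1 : K) ^ j) := by ring
    _ = PowerSeries.mk fun j => (-1 : K) ^ j := by rw [h, one_mul]

theorem lam_neg_one (h1 : ∀ k : ℕ, 2 ≤ k → LambdaOps.lam k (1 : K) = 0) (j : ℕ) :
    LambdaOps.lam j (-1 : K) = (-1 : K) ^ j := by
  rw [← coeff_lamSeries, lamSeries_neg_one h1, coeff_mk]

/-- `γ^n(x) = λ^n(x + n - 1)`. -/
theorem gamma_eq_lam (h1 : ∀ k : ℕ, 2 ≤ k → LambdaOps.lam k (1 : K) = 0) (n : ℕ) (x : K) :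
    gamma n x = LambdaOps.lam n (x + (n : K) - 1) := by
  rcases n with _ | m
  · simp [gamma, LambdaOps.lam_zero]
  · have hx : x + ((m + 1 : ℕ) : K) - 1 = x + (m : K) := by push_cast; ring
    rw [hx, LambdaOps.lam_add, gamma, if_neg (Nat.succ_ne_zero m)]
    refine Finset.sum_congr rfl fun i hi => ?_
    have hi' : i ≤ m + 1 := by
      have := Finset.mem_range.mp hi
      omega
    rw [lam_natCast h1]
    rcases i with _ | i
    · simp
    · have e1 : m + 1 - 1 = m := rfl
      have e2 : i + 1 - 1 = i := rfl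
      have e3 : m + 1 - (i + 1) = m - i := by omega
      rw [if_neg (Nat.succ_ne_zero i), e1, e2, e3, Nat.choose_symm (by omega), mul_comm]

/-- `λ^n(x + n - 1) = (-1)^n Σ (-1)^i λ^i(x + n)`. -/
theorem lam_eq_alt_sum (h1 : ∀ k : ℕ, 2 ≤ k → LambdaOps.lam k (1 : K) = 0) (n : ℕ) (x : K) :
    LambdaOps.lam n (x + (n : K) - 1) =
      (-1 : K) ^ n * ∑ i ∈ range (n + 1), (-1 : K) ^ i * LambdaOps.lam i (x + (n : K)) := by
  rw [sub_eq_add_neg, LambdaOps.lam_add, Finset.mul_sum]
  refine Finset.sum_congr rfl fun i hi => ?_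
  have hi' : i ≤ n := by
    have := Finset.mem_range.mp hi
    omega
  obtain ⟨r, rfl⟩ := Nat.exists_eq_add_of_le hi'
  rw [lam_neg_one h1, Nat.add_sub_cancel_left, pow_add]
  have hsq : ((-1 : K) ^ i) * ((-1 : K) ^ i) = 1 := by
    rw [← mul_pow]; simp
  calc LambdaOps.lam i (x + ((i + r : ℕ) : K)) * (-1 : K) ^ r
      = (((-1 : K) ^ i) * ((-1 : K) ^ i)) * (LambdaOps.lam i (x + ((i + r : ℕ) : K)) * (-1 : K) ^ r) := by
        rw [hsq, one_mul]
    _ = _ := by ring

theorem gammaSeries_zero : gammaSeries (0 : K) = 1 := by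
  have h := gammaSeries_add (0 : K) 0
  rw [add_zero] at h
  have hu : IsUnit (gammaSeries (0 : K)) := by
    rw [PowerSeries.isUnit_iff_constantCoeff, ← coeff_zero_eq_constantCoeff_apply,
      coeff_gammaSeries]
    simp [gamma]
  exact hu.mul_eq_left.mp h.symm

theorem gammaSeries_sum {ι : Type*} (s : Finset ι) (f : ι → K) :
    gammaSeries (∑ i ∈ s, f i) = ∏ i ∈ s, gammaSeries (f i) := by
  classical
  induction s using Finset.induction_on with
  | empty => simp [gammaSeries_zero]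
  | insert a s ha ih => rw [Finset.sum_insert ha, Finset.prod_insert ha, gammaSeries_add, ih]

theorem gamma_one_apply (z : K) : gamma 1 z = z := by
  simp [gamma, Finset.sum_range_succ, LambdaOps.lam_one]

/-- If `λ^j(y) = 0` for `j ≥ 2` then `γ^k(y - 1) = 0` for `k ≥ 2`. -/
theorem gamma_sub_one_eq_zero (h1 : ∀ k : ℕ, 2 ≤ k → LambdaOps.lam k (1 : K) = 0) (y : K)
    (hy : ∀ j : ℕ, 2 ≤ j → LambdaOps.lam j y = 0) (k : ℕ) (hk : 2 ≤ k) :
    gamma k (y - 1) = 0 := by
  obtain ⟨m, rfl⟩ := Nat.exists_eq_add_of_le hk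
  have hx : y - 1 + ((2 + m : ℕ) : K) - 1 = y + (m : K) := by push_cast; ring
  rw [gamma_eq_lam h1, hx, LambdaOps.lam_add]
  refine Finset.sum_eq_zero fun i hi => ?_
  have hi' : i ≤ 2 + m := by
    have := Finset.mem_range.mp hi
    omega
  rcases i with _ | _ | i
  · rw [lam_natCast h1, Nat.choose_eq_zero_of_lt (by omega)]
    simp
  · rw [lam_natCast h1, Nat.choose_eq_zero_of_lt (by omega)]
    simp
  · rw [hy (i + 2) (by omega), zero_mul]

theorem gammaSeries_sub_one (h1 : ∀ k : ℕ, 2 ≤ k → LambdaOps.lam k (1 : K) = 0) (y : K)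
    (hy : ∀ j : ℕ, 2 ≤ j → LambdaOps.lam j y = 0) :
    gammaSeries (y - 1) = 1 + C (y - 1) * X := by
  ext k
  rw [coeff_gammaSeries]
  rcases k with _ | _ | k
  · simp [gamma]
  · rw [gamma_one_apply]
    simp
  · rw [gamma_sub_one_eq_zero h1 y hy (k + 2) (by omega)]
    simp [coeff_one]

omit [LambdaOps K] in
/-- Coefficients of `∏ (1 + a_i X)` are the elementary symmetric functions. -/
theorem coeff_prod_one_add {ι : Type*} [DecidableEq ι] (s : Finset ι) (a : ι → K) (k : ℕ) :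
    coeff k (∏ i ∈ s, (1 + C (a i) * X : PowerSeries K)) =
      ∑ t ∈ s.powersetCard k, ∏ i ∈ t, a i := by
  rw [Finset.prod_one_add, map_sum, Finset.powersetCard_eq_filter, Finset.sum_filter]
  refine Finset.sum_congr rfl fun t _ => ?_
  rw [Finset.prod_mul_distrib, Finset.prod_const, ← map_prod, coeff_C_mul_X_pow]
  split_ifs with h1 h2 h2
  · rfl
  · exact absurd h1.symm h2
  · exact absurd h2.symm h1
  · rfl

end Groth.Agent.Lib.LambdaGamma
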