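import Groth.Agent.Lib.SpecialLam6c
import Groth.Agent.Lib.LambdaGamma

/-!
# The γ-filtration of an augmented special λ-ring is stable under the λ-operations (helper99)

For a pre-λ-ring `A` with an augmentation `ε : A →+* K` we study the ideals
`Fil n = LambdaRing.gammaFil ε n`.  Main results:

* `gammaFil_anti`, `gammaFil_zero`, `mul_mem_gammaFil`, `gamma_mem_gammaFil`: the basic calculus;
* `aeval_mem_fil`: a polynomial all of whose monomials have weight `≥ n` takes values in `Fil n`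
  when evaluated at elements `f i ∈ Fil (w i)`;
* `compPoly_mem_span`: the universal polynomial `Q_{i,j}` (`j ≥ 1`) lies in the ideal generated by the
  variables `X_k`, `k ≥ i` (variable `k : Fin (i*j)` stands for `λ^{k+1}`);
* `HL`: the predicate `∀ k ≥ 1, λ^k x ∈ Fil a`, closed under `+`, `-`, `*` (weights add) and
  satisfied by `γ^i x` (`ε x = 0`) with `a = i`;
* `lam_mem_gammaFil`, `gamma_mem_gammaFil_of_mem`: `λ^k (Fil n) ⊆ Fil n`, `γ^k (Fil n) ⊆ Fil n`, `k ≥ 1`.
-/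

set_option autoImplicit false

namespace Groth.Agent.Lib.LamFil99

open MvPolynomial Finset _root_.LambdaRing Groth.Agent.Lib.LambdaRing
  Groth.Agent.Lib.LambdaGamma Groth.Agent.Lib.LambdaGamma6 Groth.Agent.Lib.SpecialLam6
  Groth.Agent.Lib.SpecialLam6b

universe u v

section Basic

variable {K : Type u} [CommRing K] {A : Type v} [CommRing A] [LambdaOps A] (ε : A →+* K)

/-- the generating monomials of weight `≥ n` -/
def gens (n : ℕ) : Set A :=
  {y | ∃ l : List (ℕ × A), (∀ p ∈ l, ε p.2 = 0) ∧ n ≤ (l.map Prod.fst).sum ∧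
    y = (l.map fun p => gamma p.1 p.2).prod}

lemma gammaFil_eq_span (n : ℕ) : gammaFil ε n = Ideal.span (gens ε n) := rfl

lemma gens_anti {n N : ℕ} (h : n ≤ N) : gens ε N ⊆ gens ε n := by
  rintro y ⟨l, hl, hN, rfl⟩
  exact ⟨l, hl, le_trans h hN, rfl⟩

lemma gammaFil_anti {n N : ℕ} (h : n ≤ N) : gammaFil ε N ≤ gammaFil ε n :=
  Ideal.span_mono (gens_anti ε h)

lemma gammaFil_zero : gammaFil ε 0 = ⊤ := by
  rw [Ideal.eq_top_iff_one]
  exact Ideal.subset_span ⟨[], by simp, by simp, by simp⟩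

lemma gammaFil_mul_le (a b : ℕ) : gammaFil ε a * gammaFil ε b ≤ gammaFil ε (a + b) := by
  rw [gammaFil_eq_span, gammaFil_eq_span, Ideal.span_mul_span']
  refine Ideal.span_le.2 ?_
  rintro _ ⟨x, ⟨l, hl, ha, rfl⟩, y, ⟨l', hl', hb, rfl⟩, rfl⟩
  refine Ideal.subset_span ⟨l ++ l', ?_, ?_, ?_⟩
  · intro p hp
    rcases List.mem_append.1 hp with h | h
    · exact hl p h
    · exact hl' p h
  · rw [List.map_append, List.sum_append]
    exact Nat.add_le_add ha hb
  · rw [List.map_append, List.prod_append]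

lemma mul_mem_gammaFil {a b : ℕ} {x y : A} (hx : x ∈ gammaFil ε a) (hy : y ∈ gammaFil ε b) :
    x * y ∈ gammaFil ε (a + b) :=
  gammaFil_mul_le ε a b (Ideal.mul_mem_mul hx hy)

lemma gamma_mem_gammaFil {x : A} (hx : ε x = 0) (i : ℕ) : gamma i x ∈ gammaFil ε i :=
  Ideal.subset_span ⟨[(i, x)], by simpa using hx, by simp, by simp⟩

lemma mem_gammaFil_one {x : A} (hx : ε x = 0) : x ∈ gammaFil ε 1 := by
  have := gamma_mem_gammaFil ε hx 1
  rwa [gamma_one_eq] at this

lemma pow_mem_gammaFil {a : ℕ} {x : A} (hx : x ∈ gammaFil ε a) (e : ℕ) :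
    x ^ e ∈ gammaFil ε (e * a) := by
  induction e with
  | zero => rw [pow_zero, Nat.zero_mul, gammaFil_zero]; trivial
  | succ e ih =>
    rw [pow_succ, Nat.succ_mul]
    exact mul_mem_gammaFil ε ih hx

/-- a monomial in elements `f i ∈ Fil (w i)` lies in `Fil` of its weight. -/
lemma monomial_mem_fil {σ : Type*} (f : σ → A) (w : σ → ℕ) (hf : ∀ i, f i ∈ gammaFil ε (w i))
    (d : σ →₀ ℕ) :
    (d.prod fun i k => f i ^ k) ∈ gammaFil ε (d.sum fun i k => k * w i) := by
  classical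
  induction d using Finsupp.induction with
  | zero =>
    rw [Finsupp.prod_zero_index, Finsupp.sum_zero_index, gammaFil_zero]; trivial
  | single_add i k d hi hk ih =>
    rw [Finsupp.prod_add_index' (fun _ => pow_zero _) (fun _ _ _ => pow_add _ _ _),
      Finsupp.sum_add_index' (h := fun i k => k * w i) (fun _ => Nat.zero_mul _)
        (fun _ _ _ => Nat.add_mul _ _ _),
      Finsupp.prod_single_index (h := fun i k => f i ^ k) (pow_zero _),
      Finsupp.sum_single_index (h := fun i k => k * w i) (Nat.zero_mul _)]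
    exact mul_mem_gammaFil ε (pow_mem_gammaFil ε (hf i) k) ih

/-- **Evaluation lemma**: a polynomial all of whose monomials have weight `≥ n` takes values in
`Fil n` at a point `f` with `f i ∈ Fil (w i)`. -/
lemma aeval_mem_fil {σ : Type*} (f : σ → A) (w : σ → ℕ) (hf : ∀ i, f i ∈ gammaFil ε (w i))
    (p : MvPolynomial σ ℤ) (n : ℕ) (hp : ∀ d ∈ p.support, n ≤ d.sum fun i k => k * w i) :
    aeval f p ∈ gammaFil ε n := by
  rw [p.as_sum, map_sum]
  refine Ideal.sum_mem _ fun d hd => ?_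
  rw [aeval_monomial]
  exact Ideal.mul_mem_left _ _ (gammaFil_anti ε (hp d hd) (monomial_mem_fil ε f w hf d))

end Basic

/-! ## The universal polynomial `Q_{i,j}` lies in the ideal of the variables of index `≥ i` -/

section UQ0

/-- two algebra maps which agree modulo `J` on the variables agree modulo `J`. -/
lemma sub_mem_of_forall_X {σ τ : Type*} (J : Ideal (MvPolynomial τ ℤ))
    (f g : MvPolynomial σ ℤ →ₐ[ℤ] MvPolynomial τ ℤ) (h : ∀ i, f (X i) - g (X i) ∈ J)
    (p : MvPolynomial σ ℤ) : f p - g p ∈ J := by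
  have : (Ideal.Quotient.mkₐ ℤ J).comp f = (Ideal.Quotient.mkₐ ℤ J).comp g := by
    apply MvPolynomial.algHom_ext
    intro i
    exact (Ideal.Quotient.eq).2 (h i)
  exact (Ideal.Quotient.eq).1 (AlgHom.congr_fun this p)

lemma esymm_eq_zero_of_card_lt (σ : Type*) [Fintype σ] (R : Type*) [CommSemiring R] {k : ℕ}
    (h : Fintype.card σ < k) : esymm σ R k = 0 := by
  rw [esymm, Finset.powersetCard_eq_empty.2 (by simpa using h), Finset.sum_empty]

lemma compGen_eq_zero_of_lt {n i j : ℕ} (hn : n < i) (hj : 1 ≤ j) :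
    LambdaRing.compGen n i j = 0 := by
  have h0 : (Finset.univ : Finset (Fin n)).powersetCard i = ∅ :=
    Finset.powersetCard_eq_empty.2 (by simpa using hn)
  have h1 : (∅ : Finset (Finset (Fin n))).powersetCard j = ∅ :=
    Finset.powersetCard_eq_empty.2 (by simp; omega)
  rw [compGen_eq, h0, h1, Finset.sum_empty]

/-- **`Q_{i,j}` lies in the ideal generated by the `X_k` with `k + 1 ≥ i`** (`j ≥ 1`). -/
theorem compPoly_mem_span (i j : ℕ) (hi : 1 ≤ i) (hj : 1 ≤ j) (Q : MvPolynomial (Fin (i * j)) ℤ)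
    (hQ : LambdaRing.IsCompPoly i j Q) :
    Q ∈ Ideal.span (X '' {k : Fin (i * j) | i ≤ k.1 + 1} : Set (MvPolynomial (Fin (i * j)) ℤ)) := by
  obtain ⟨M, hM⟩ : ∃ M, M = i * j := ⟨_, rfl⟩
  obtain ⟨n, hn⟩ : ∃ n, n = i - 1 := ⟨_, rfl⟩
  subst hM
  have h : n ≤ i * j := by
    have : i ≤ i * j := Nat.le_mul_of_pos_right i hj
    omega
  have hE : E ℤ (i * j) Q = LambdaRing.compGen (i * j) i j := hQ.1
  have h1 : κ₁ (n := n) (E ℤ (i * j) Q) = 0 := by
    rw [hE, κ₁_compGen h, compGen_eq_zero_of_lt (by omega) hj]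
  have h2 : κ₁ (n := n) (E ℤ (i * j) Q) = E ℤ n (κ₁ (n := n) Q) := by
    have : (κ₁ (n := n) (M := i * j)).comp (E ℤ (i * j)) =
        (E ℤ n).comp (κ₁ (n := n) (M := i * j)) := by
      apply MvPolynomial.algHom_ext
      intro a
      change κ₁ (E ℤ (i * j) (X a)) = E ℤ n (κ₁ (X a))
      rw [E, aeval_X, κ₁_esymm h, κ₁_X]
      by_cases ha : a.1 < n
      · rw [dif_pos ha, E, aeval_X]
      · rw [dif_neg ha, map_zero]
        exact esymm_eq_zero_of_card_lt _ _ (by simp; omega)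
    exact AlgHom.congr_fun this Q
  have h3 : κ₁ (n := n) Q = 0 := by
    apply E_injective (R := ℤ) (m := n)
    rw [← h2, h1, map_zero]
  have h4 := sub_mem_of_forall_X
    (Ideal.span (X '' {k : Fin (i * j) | i ≤ k.1 + 1} : Set (MvPolynomial (Fin (i * j)) ℤ)))
    (AlgHom.id ℤ _) ((ι₁ h).comp (κ₁ (n := n) (M := i * j))) (fun a => ?_) Q
  · rw [AlgHom.comp_apply, h3, map_zero, sub_zero] at h4
    exact h4
  · rw [AlgHom.comp_apply, κ₁_X]
    by_cases ha : a.1 < n
    · rw [dif_pos ha, ι₁, rename_X]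
      have : Fin.castLE h ⟨a.1, ha⟩ = a := by ext; rfl
      rw [this, AlgHom.id_apply, sub_self]
      exact Ideal.zero_mem _
    · rw [dif_neg ha, map_zero, sub_zero, AlgHom.id_apply]
      exact Ideal.subset_span ⟨a, by change i ≤ a.1 + 1; omega, rfl⟩

end UQ0

/-! ## Monomials of the universal polynomial `P_k` -/

section UP

lemma exists_inl_inr_of_isMulPoly {k : ℕ} (hk : 1 ≤ k) {P : MvPolynomial (Fin k ⊕ Fin k) ℤ}
    (hP : LambdaRing.IsMulPoly k P) {d : Fin k ⊕ Fin k →₀ ℕ} (hd : d ∈ P.support) :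
    (∃ j : Fin k, d (Sum.inl j) ≠ 0) ∧ (∃ j : Fin k, d (Sum.inr j) ≠ 0) := by
  have hwt := hP.2 (mem_support_iff.1 hd)
  rw [Finsupp.weight_apply, Finsupp.sum] at hwt
  constructor
  · by_contra hcon
    push Not at hcon
    have h1 := congrArg Prod.fst hwt
    rw [Prod.fst_sum] at h1
    have : ∑ c ∈ d.support, (d c • (Sum.elim (fun k_1 : Fin k => (((k_1 : ℕ) + 1, 0) : ℕ × ℕ))
        (fun k_1 : Fin k => ((0, (k_1 : ℕ) + 1) : ℕ × ℕ)) c)).1 = 0 := by
      refine Finset.sum_eq_zero fun c _ => ?_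
      rcases c with j | j
      · simp [hcon j]
      · simp
    rw [this] at h1
    simp only at h1
    omega
  · by_contra hcon
    push Not at hcon
    have h1 := congrArg Prod.snd hwt
    rw [Prod.snd_sum] at h1
    have : ∑ c ∈ d.support, (d c • (Sum.elim (fun k_1 : Fin k => (((k_1 : ℕ) + 1, 0) : ℕ × ℕ))
        (fun k_1 : Fin k => ((0, (k_1 : ℕ) + 1) : ℕ × ℕ)) c)).2 = 0 := by
      refine Finset.sum_eq_zero fun c _ => ?_
      rcases c with j | j
      · simp
      · simp [hcon j]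
    rw [this] at h1
    simp only at h1
    omega

/-- lower bound for a weighted degree from two distinct variables occurring in a monomial -/
lemma le_sum_of_two {σ : Type*} (d : σ →₀ ℕ) (w : σ → ℕ) {i j : σ} (hij : i ≠ j)
    (hi : d i ≠ 0) (hj : d j ≠ 0) : w i + w j ≤ d.sum fun i k => k * w i := by
  classical
  rw [Finsupp.sum]
  have hsub : ({i, j} : Finset σ) ⊆ d.support := by
    intro c hc
    rcases Finset.mem_insert.1 hc with rfl | hc
    · exact Finsupp.mem_support_iff.2 hi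
    · rw [Finset.mem_singleton.1 hc]; exact Finsupp.mem_support_iff.2 hj
  calc w i + w j ≤ d i * w i + d j * w j :=
        Nat.add_le_add (Nat.le_mul_of_pos_left _ (Nat.pos_of_ne_zero hi))
          (Nat.le_mul_of_pos_left _ (Nat.pos_of_ne_zero hj))
    _ = ∑ c ∈ ({i, j} : Finset σ), d c * w c :=
      (Finset.sum_pair (f := fun c => d c * w c) hij).symm
    _ ≤ ∑ c ∈ d.support, d c * w c := Finset.sum_le_sum_of_subset hsub

lemma le_sum_of_one {σ : Type*} (d : σ →₀ ℕ) (w : σ → ℕ) {i : σ}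
    (hi : d i ≠ 0) : w i ≤ d.sum fun i k => k * w i := by
  classical
  rw [Finsupp.sum]
  calc w i ≤ d i * w i := Nat.le_mul_of_pos_left _ (Nat.pos_of_ne_zero hi)
    _ ≤ ∑ c ∈ d.support, d c * w c :=
      Finset.single_le_sum (f := fun c => d c * w c) (fun _ _ => Nat.zero_le _)
        (Finsupp.mem_support_iff.2 hi)

end UP

section Gen

lemma aeval_mem_of_mem_span_X {B : Type*} [CommRing B] {σ : Type*} (J : Ideal B) (f : σ → B)
    (s : Set σ) (hf : ∀ i ∈ s, f i ∈ J) {p : MvPolynomial σ ℤ}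
    (hp : p ∈ Ideal.span (X '' s : Set (MvPolynomial σ ℤ))) : aeval f p ∈ J := by
  have h : Ideal.map (aeval f : MvPolynomial σ ℤ →ₐ[ℤ] B) (Ideal.span (X '' s)) ≤ J := by
    rw [Ideal.map_span]
    refine Ideal.span_le.2 ?_
    rintro _ ⟨_, ⟨i, hi, rfl⟩, rfl⟩
    rw [aeval_X]
    exact hf i hi
  exact h (Ideal.mem_map_of_mem _ hp)

lemma ringHom_mem_of_mem_span_X {B : Type*} [CommRing B] {σ : Type*} (J : Ideal B)
    (g : MvPolynomial σ ℤ →+* B) (s : Set σ) (hg : ∀ i ∈ s, g (X i) ∈ J)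
    {p : MvPolynomial σ ℤ}
    (hp : p ∈ Ideal.span (X '' s : Set (MvPolynomial σ ℤ))) : g p ∈ J := by
  have h : Ideal.map g (Ideal.span (X '' s)) ≤ J := by
    rw [Ideal.map_span]
    refine Ideal.span_le.2 ?_
    rintro _ ⟨_, ⟨i, hi, rfl⟩, rfl⟩
    exact hg i hi
  exact h (Ideal.mem_map_of_mem _ hp)

end Gen

/-! ## The `HL` calculus -/

section HL

variable {K : Type u} [CommRing K] {A : Type v} [CommRing A] [LambdaOps A] (ε : A →+* K)

/-- all `λ^k x`, `k ≥ 1`, lie in `Fil a`. -/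
def HL (a : ℕ) (x : A) : Prop := ∀ k, 1 ≤ k → LambdaOps.lam k x ∈ gammaFil ε a

lemma HL_level_zero (x : A) : HL ε 0 x := fun k _ => by rw [gammaFil_zero]; trivial

variable {ε}

lemma HL_mono {a b : ℕ} (h : a ≤ b) {x : A} (hx : HL ε b x) : HL ε a x :=
  fun k hk => gammaFil_anti ε h (hx k hk)

lemma lam_zero_right {k : ℕ} (hk : 1 ≤ k) : LambdaOps.lam k (0 : A) = 0 := by
  rw [← coeff_lamSeries, lamSeries_zero, PowerSeries.coeff_one, if_neg (by omega)]

lemma HL_zero (a : ℕ) : HL ε a (0 : A) := fun k hk => by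
  rw [lam_zero_right hk]; exact Ideal.zero_mem _

lemma HL_add {a : ℕ} {x y : A} (hx : HL ε a x) (hy : HL ε a y) : HL ε a (x + y) := by
  intro k hk
  rw [LambdaOps.lam_add]
  refine Ideal.sum_mem _ fun i hi => ?_
  rcases Nat.eq_zero_or_pos i with rfl | hi0
  · exact Ideal.mul_mem_left _ _ (hy _ (by omega))
  · exact Ideal.mul_mem_right _ _ (hx _ hi0)

lemma HL_neg {a : ℕ} {x : A} (hx : HL ε a x) : HL ε a (-x) := by
  intro k hk
  have h := LambdaOps.lam_add k x (-x)
  rw [add_neg_cancel, lam_zero_right hk, Finset.sum_range_succ', LambdaOps.lam_zero, one_mul,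
    Nat.sub_zero] at h
  have h' : LambdaOps.lam k (-x) =
      -∑ i ∈ Finset.range k, LambdaOps.lam (i + 1) x * LambdaOps.lam (k - (i + 1)) (-x) := by
    rw [eq_neg_iff_add_eq_zero, add_comm]
    exact h.symm
  rw [h']
  exact Ideal.neg_mem_iff _ |>.2 (Ideal.sum_mem _ fun i _ =>
    Ideal.mul_mem_right _ _ (hx _ (by omega)))

lemma HL_sub {a : ℕ} {x y : A} (hx : HL ε a x) (hy : HL ε a y) : HL ε a (x - y) := by
  rw [sub_eq_add_neg]; exact HL_add hx (HL_neg hy)

lemma HL_mul (hA : LambdaRing.IsSpecial A)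
    (hP : ∀ n : ℕ, ∃ P : MvPolynomial (Fin n ⊕ Fin n) ℤ, LambdaRing.IsMulPoly n P)
    {a b : ℕ} {x y : A} (hx : HL ε a x) (hy : HL ε b y) : HL ε (a + b) (x * y) := by
  intro k hk
  obtain ⟨P, hPk⟩ := hP k
  rw [hA.lam_mul k P hPk x y]
  refine aeval_mem_fil ε _ (Sum.elim (fun _ => a) (fun _ => b)) ?_ P (a + b) ?_
  · rintro (j | j)
    · exact hx _ (by omega)
    · exact hy _ (by omega)
  · intro d hd
    obtain ⟨⟨j, hj⟩, ⟨j', hj'⟩⟩ := exists_inl_inr_of_isMulPoly hk hPk hd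
    exact le_sum_of_two d (Sum.elim (fun _ => a) (fun _ => b)) (i := Sum.inl j) (j := Sum.inr j')
      (by simp) hj hj'

/-- for `ε x = 0` and `y = x + i - 1` (so that `γ^i x = λ^i y`), `λ^k y ∈ Fil i` for `k ≥ i`. -/
lemma lam_shift_mem (hA : LambdaRing.IsSpecial A) {x : A} (hx : ε x = 0) (i : ℕ) :
    ∀ k, i ≤ k → LambdaOps.lam k (x + (i : A) - 1) ∈ gammaFil ε i := by
  intro k
  induction k using Nat.strong_induction_on with
  | _ k ih =>
    intro hik
    have h1 := hA.lam_one_eq_zero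
    have hg := gamma_eq_lam h1 k x
    have hxy : x + (k : A) - 1 = (x + (i : A) - 1) + ((k - i : ℕ) : A) := by
      rw [Nat.cast_sub hik]; ring
    rw [hxy, LambdaOps.lam_add, Finset.sum_range_succ, Nat.sub_self, LambdaOps.lam_zero,
      mul_one] at hg
    have hk : LambdaOps.lam k (x + (i : A) - 1) = gamma k x -
        ∑ r ∈ Finset.range k, LambdaOps.lam r (x + (i : A) - 1) *
          LambdaOps.lam (k - r) ((k - i : ℕ) : A) := by
      rw [hg]; ring
    rw [hk]
    refine Ideal.sub_mem _ (gammaFil_anti ε hik (gamma_mem_gammaFil ε hx k))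
      (Ideal.sum_mem _ fun r hr => ?_)
    have hr' := Finset.mem_range.1 hr
    by_cases hri : i ≤ r
    · exact Ideal.mul_mem_right _ _ (ih r hr' hri)
    · rw [lam_natCast h1, Nat.choose_eq_zero_of_lt (by omega), Nat.cast_zero, mul_zero]
      exact Ideal.zero_mem _

/-- **`γ^i x` has all its `λ^j`, `j ≥ 1`, in `Fil i`** (`ε x = 0`). -/
theorem HL_gamma (hA : LambdaRing.IsSpecial A)
    (hQ : ∀ i j : ℕ, ∃ Q : MvPolynomial (Fin (i * j)) ℤ, LambdaRing.IsCompPoly i j Q)
    {x : A} (hx : ε x = 0) (i : ℕ) : HL ε i (gamma i x) := by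
  rcases Nat.eq_zero_or_pos i with rfl | hi
  · exact HL_level_zero ε _
  intro j hj
  obtain ⟨Q, hQij⟩ := hQ i j
  rw [gamma_eq_lam hA.lam_one_eq_zero i x, hA.lam_lam i j Q hQij]
  refine aeval_mem_of_mem_span_X _ _ _ ?_ (compPoly_mem_span i j hi hj Q hQij)
  intro k hk
  exact lam_shift_mem hA hx i _ hk

section C1

variable (hA : LambdaRing.IsSpecial A)
  (hP : ∀ n : ℕ, ∃ P : MvPolynomial (Fin n ⊕ Fin n) ℤ, LambdaRing.IsMulPoly n P)
  (hQ : ∀ i j : ℕ, ∃ Q : MvPolynomial (Fin (i * j)) ℤ, LambdaRing.IsCompPoly i j Q)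

include hA hP hQ

lemma HL_gen (l : List (ℕ × A)) (hl : ∀ p ∈ l, ε p.2 = 0) :
    HL ε (l.map Prod.fst).sum (l.map fun p => gamma p.1 p.2).prod := by
  induction l with
  | nil => simpa using HL_level_zero ε (1 : A)
  | cons p l ih =>
    simp only [List.map_cons, List.prod_cons, List.sum_cons]
    exact HL_mul hA hP (HL_gamma hA hQ (hl p List.mem_cons_self) p.1)
      (ih fun q hq => hl q (List.mem_cons_of_mem _ hq))

/-- **`Fil n` is stable under the `λ^k`, `k ≥ 1`.** -/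
theorem HL_of_mem {n : ℕ} {z : A} (hz : z ∈ gammaFil ε n) : HL ε n z := by
  rw [gammaFil_eq_span] at hz
  induction hz using Submodule.span_induction with
  | mem y hy =>
    obtain ⟨l, hl, hn, rfl⟩ := hy
    exact HL_mono hn (HL_gen hA hP hQ l hl)
  | zero => exact HL_zero n
  | add y z _ _ hy hz => exact HL_add hy hz
  | smul a y _ hy =>
    have := HL_mul hA hP (HL_level_zero ε a) hy
    rwa [Nat.zero_add] at this

theorem lam_mem_gammaFil {n k : ℕ} (hk : 1 ≤ k) {z : A} (hz : z ∈ gammaFil ε n) :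
    LambdaOps.lam k z ∈ gammaFil ε n :=
  HL_of_mem hA hP hQ hz k hk

omit hA hP hQ in
lemma gamma_mem_of_HL {n k : ℕ} (hk : 1 ≤ k) {z : A} (hz : HL ε n z) :
    gamma k z ∈ gammaFil ε n := by
  rw [gamma, if_neg (by omega)]
  refine Ideal.sum_mem _ fun j _ => ?_
  by_cases hj : j = 0
  · rw [if_pos hj, mul_zero]; exact Ideal.zero_mem _
  · rw [if_neg hj]
    exact Ideal.mul_mem_left _ _ (hz j (by omega))

/-- **`Fil n` is stable under the `γ^k`, `k ≥ 1`.** -/
theorem gamma_mem_gammaFil_of_mem {n k : ℕ} (hk : 1 ≤ k) {z : A} (hz : z ∈ gammaFil ε n) :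
    gamma k z ∈ gammaFil ε n :=
  gamma_mem_of_HL hk (HL_of_mem hA hP hQ hz)

end C1

end HL

end Groth.Agent.Lib.LamFil99
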