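import Groth.Agent.Lib.LamFil99a

/-!
# First-order behaviour of `λ^n (x y)` in a special λ-ring (helper99)

* `mulPoly_first_order`: at level `N`, `P_{m+1} - ν_{m+1}(X) · Y_{m+1}` lies in the monomial ideal
  generated by the `X_i Y_j Y_k` (`ν` = Newton polynomial): the part of `P_n` linear in the `Y`'s is
  `ν_n(X) Y_n`.
* `lam_mul_sub_mem`: for `HL a x`, `HL b y`: `λ^n(xy) - ψ^n(x) λ^n(y) ∈ Fil (a + b + b)`.
* `adamsOp_mem`, `adamsOp_sub_mem`: for `HL a z`: `ψ^n z ∈ Fil a` and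
  `ψ^n z - (-1)^(n+1) n λ^n z ∈ Fil (a + a)`.
-/

set_option autoImplicit false

namespace Groth.Agent.Lib.LamFil99

open MvPolynomial Finset _root_.LambdaRing Groth.Agent.Lib.LambdaRing
  Groth.Agent.Lib.LambdaGamma Groth.Agent.Lib.LambdaGamma6 Groth.Agent.Lib.SpecialLam6
  Groth.Agent.Lib.SpecialLam6b Groth.Agent.Lib.SpecialLam6c Groth.Agent.Lib.MulPoly6
  Groth.Agent.S8687

universe u v

/-! ## Newton polynomials and ideals -/

section NewtonIdeal

variable {B : Type*} [CommRing B]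

lemma newton_mem (I : Ideal B) (e : ℕ → B) (he : ∀ c, 1 ≤ c → e c ∈ I) (c : ℕ) :
    aeval e (newton c) ∈ I := by
  induction c using Nat.strong_induction_on with
  | _ c ih =>
    rcases c with _ | m
    · rw [newton, map_zero]; exact Ideal.zero_mem _
    · rw [aeval_newton_succ]
      refine Ideal.mul_mem_left _ _ (Ideal.sub_mem _ (Ideal.mul_mem_left _ _ (he _ (by omega)))
        (Ideal.sum_mem _ fun a ha => ?_))
      exact Ideal.mul_mem_left _ _ (he _ (by have := Finset.mem_range.1 ha; omega))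

lemma newton_sub_mem (I : Ideal B) (e : ℕ → B) (he : ∀ c, 1 ≤ c → e c ∈ I) (m : ℕ) :
    (-1) ^ m * aeval e (newton (m + 1)) - ((m + 1 : ℕ) : B) * e (m + 1) ∈ I * I := by
  rw [aeval_newton_succ, ← mul_assoc, ← pow_add, ← two_mul, pow_mul, neg_one_sq, one_pow, one_mul,
    sub_sub_cancel_left]
  refine Ideal.neg_mem_iff _ |>.2 (Ideal.sum_mem _ fun a ha => ?_)
  have ha' := Finset.mem_range.1 ha
  rw [mul_assoc]
  exact Ideal.mul_mem_left _ _
    (Ideal.mul_mem_mul (newton_mem I e he _) (he _ (by omega)))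

end NewtonIdeal

/-! ## The universal statement -/

section U1

variable (N : ℕ)

/-- the ideal generated by the `X`-variables -/
noncomputable def idX : Ideal (MvPolynomial (Fin N ⊕ Fin N) ℤ) :=
  Ideal.span (X '' Set.range Sum.inl)

/-- the ideal generated by the `Y`-variables -/
noncomputable def idY : Ideal (MvPolynomial (Fin N ⊕ Fin N) ℤ) :=
  Ideal.span (X '' Set.range Sum.inr)

/-- exponents of the monomials `X_i Y_j Y_k` -/
def expXYY : Set (Fin N ⊕ Fin N →₀ ℕ) :=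
  {s | ∃ i j k : Fin N, s = Finsupp.single (Sum.inl i) 1 + Finsupp.single (Sum.inr j) 1 +
    Finsupp.single (Sum.inr k) 1}

/-- the monomial ideal generated by the `X_i Y_j Y_k` -/
noncomputable def idXYY : Ideal (MvPolynomial (Fin N ⊕ Fin N) ℤ) :=
  Ideal.span ((fun s => monomial s (1 : ℤ)) '' expXYY N)

lemma idX_mul_idY_mul_idY_le : idX N * idY N * idY N ≤ idXYY N := by
  rw [idX, idY, Ideal.span_mul_span', Ideal.span_mul_span']
  refine Ideal.span_le.2 ?_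
  rintro _ ⟨_, ⟨_, ⟨_, ⟨i, rfl⟩, rfl⟩, _, ⟨_, ⟨j, rfl⟩, rfl⟩, rfl⟩, _, ⟨_, ⟨k, rfl⟩, rfl⟩, rfl⟩
  refine Ideal.subset_span ⟨_, ⟨i, j, k, rfl⟩, ?_⟩
  simp only [X, monomial_mul, one_mul]

lemma mem_of_natCast_mul_mem {σ : Type*} (S : Set (σ →₀ ℕ)) (c : ℕ) (hc : c ≠ 0)
    (p : MvPolynomial σ ℤ)
    (h : (c : MvPolynomial σ ℤ) * p ∈ Ideal.span ((fun s => monomial s (1 : ℤ)) '' S)) :
    p ∈ Ideal.span ((fun s => monomial s (1 : ℤ)) '' S) := by
  rw [mem_ideal_span_monomial_image] at h ⊢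
  intro d hd
  refine h d ?_
  rw [mem_support_iff] at hd ⊢
  have : (c : MvPolynomial σ ℤ) = C (c : ℤ) := by simp
  rw [this, coeff_C_mul]
  exact mul_ne_zero (by exact_mod_cast hc) hd

lemma ξ_mem (c : ℕ) (hc : 1 ≤ c) : ξ N c ∈ idX N := by
  obtain ⟨j, rfl⟩ : ∃ j, c = j + 1 := ⟨c - 1, by omega⟩
  rw [ξ]
  split_ifs with h
  · exact Ideal.subset_span ⟨_, ⟨⟨j, h⟩, rfl⟩, rfl⟩
  · exact Ideal.zero_mem _

lemma η_mem (c : ℕ) (hc : 1 ≤ c) : η N c ∈ idY N := by
  obtain ⟨j, rfl⟩ : ∃ j, c = j + 1 := ⟨c - 1, by omega⟩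
  rw [η]
  split_ifs with h
  · exact Ideal.subset_span ⟨_, ⟨⟨j, h⟩, rfl⟩, rfl⟩
  · exact Ideal.zero_mem _

lemma π_zero : π N 0 = 1 := by
  apply Φ_injective N
  rw [Φ_π N 0 (Nat.zero_le _), map_one, mulGen_eq, Finset.powersetCard_zero, Finset.sum_singleton,
    Finset.prod_empty]

lemma π_mem_idY (b : ℕ) (hb : 1 ≤ b) : π N b ∈ idY N := by
  rw [π]
  split_ifs with h
  · have h1 : Pst N b h ∈ Ideal.span (X '' Set.range Sum.inr :
        Set (MvPolynomial (Fin b ⊕ Fin b) ℤ)) := by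
      rw [mem_ideal_span_X_image]
      intro d hd
      obtain ⟨_, ⟨j, hj⟩⟩ := exists_inl_inr_of_isMulPoly hb (Pst_isMulPoly N b h) hd
      exact ⟨Sum.inr j, ⟨j, rfl⟩, hj⟩
    refine ringHom_mem_of_mem_span_X (idY N) (ι h).toRingHom _ ?_ h1
    rintro _ ⟨j, rfl⟩
    change ι h (X (Sum.inr j)) ∈ idY N
    rw [ι, rename_X]
    exact Ideal.subset_span ⟨_, ⟨Fin.castLE h j, rfl⟩, rfl⟩
  · exact Ideal.zero_mem _

/-- **The part of `P_{m+1}` linear in the `Y`'s is `ν_{m+1}(X) · Y_{m+1}`.** -/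
theorem mulPoly_first_order (m : ℕ) (hm : m < N) :
    π N (m + 1) - aeval (ξ N) (newton (m + 1)) * η N (m + 1) ∈ idXYY N := by
  refine mem_of_natCast_mul_mem _ (m + 1) (by omega) _ ?_
  refine idX_mul_idY_mul_idY_le N ?_
  have hu := universal_mul_newton N m hm
  rw [Finset.Nat.sum_antidiagonal_eq_sum_range_succ_mk, Finset.sum_range_succ, Nat.sub_self,
    π_zero, mul_one] at hu
  have e : ((m + 1 : ℕ) : MvPolynomial (Fin N ⊕ Fin N) ℤ) *
      (π N (m + 1) - aeval (ξ N) (newton (m + 1)) * η N (m + 1)) =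
      ∑ a ∈ range m, (-1) ^ a *
          (aeval (ξ N) (newton (a + 1)) * aeval (η N) (newton (a + 1))) * π N (m - a) +
        aeval (ξ N) (newton (m + 1)) *
          ((-1) ^ m * aeval (η N) (newton (m + 1)) -
            ((m + 1 : ℕ) : MvPolynomial (Fin N ⊕ Fin N) ℤ) * η N (m + 1)) := by
    generalize ((m + 1 : ℕ) : MvPolynomial (Fin N ⊕ Fin N) ℤ) = c at hu ⊢
    generalize π N (m + 1) = p at hu ⊢
    generalize aeval (ξ N) (newton (m + 1)) = a1 at hu ⊢
    generalize aeval (η N) (newton (m + 1)) = b1 at hu ⊢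
    generalize η N (m + 1) = y at hu ⊢
    generalize (∑ a ∈ range m, (-1) ^ a *
          (aeval (ξ N) (newton (a + 1)) * aeval (η N) (newton (a + 1))) * π N (m - a)) = S at hu ⊢
    linear_combination hu
  rw [e]
  refine Ideal.add_mem _ (Ideal.sum_mem _ fun a ha => ?_) ?_
  · have ha' := Finset.mem_range.1 ha
    have h1 : aeval (ξ N) (newton (a + 1)) ∈ idX N := newton_mem _ _ (ξ_mem N) _
    have h2 : aeval (η N) (newton (a + 1)) ∈ idY N := newton_mem _ _ (η_mem N) _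
    have h3 : π N (m - a) ∈ idY N := π_mem_idY N _ (by omega)
    have h4 : aeval (ξ N) (newton (a + 1)) * aeval (η N) (newton (a + 1)) * π N (m - a) ∈
        idX N * idY N * idY N := Ideal.mul_mem_mul (Ideal.mul_mem_mul h1 h2) h3
    rw [mul_assoc ((-1 : MvPolynomial (Fin N ⊕ Fin N) ℤ) ^ a)]
    exact Ideal.mul_mem_left (idX N * idY N * idY N) _ h4
  · have h1 : aeval (ξ N) (newton (m + 1)) ∈ idX N := newton_mem _ _ (ξ_mem N) _
    have h2 : (-1) ^ m * aeval (η N) (newton (m + 1)) -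
        ((m + 1 : ℕ) : MvPolynomial (Fin N ⊕ Fin N) ℤ) * η N (m + 1) ∈ idY N * idY N :=
      newton_sub_mem _ _ (η_mem N) m
    rw [mul_assoc (idX N)]
    exact Ideal.mul_mem_mul h1 h2

end U1

/-! ## Consequences in an augmented special λ-ring -/

section ASide

variable {K : Type u} [CommRing K] {A : Type v} [CommRing A] [LambdaOps A] {ε : A →+* K}

/-- `ψ^n z ∈ Fil a` if all `λ^k z`, `k ≥ 1`, are. -/
lemma adamsOp_mem {a : ℕ} {z : A} (hz : HL ε a z) (n : ℕ) (hn : 1 ≤ n) :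
    adamsOp n z ∈ gammaFil ε a := by
  obtain ⟨m, rfl⟩ : ∃ m, n = m + 1 := ⟨n - 1, by omega⟩
  rw [adamsOp_eq_aeval_newton]
  exact newton_mem _ _ hz _

/-- `ψ^n z ≡ (-1)^(n+1) n λ^n z` modulo `Fil (a + a)`. -/
lemma adamsOp_sub_mem {a : ℕ} {z : A} (hz : HL ε a z) (n : ℕ) (hn : 1 ≤ n) :
    adamsOp n z - (-1) ^ (n + 1) * (n : A) * LambdaOps.lam n z ∈ gammaFil ε (a + a) := by
  obtain ⟨m, rfl⟩ : ∃ m, n = m + 1 := ⟨n - 1, by omega⟩
  have h := gammaFil_mul_le ε a a (newton_sub_mem (gammaFil ε a)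
    (fun i => LambdaOps.lam i z) hz m)
  rw [← adamsOp_eq_aeval_newton] at h
  have e : adamsOp (m + 1) z - (-1) ^ (m + 1 + 1) * ((m + 1 : ℕ) : A) * LambdaOps.lam (m + 1) z =
      (-1) ^ m * ((-1) ^ m * adamsOp (m + 1) z - ((m + 1 : ℕ) : A) * LambdaOps.lam (m + 1) z) := by
    have hsq : ((-1 : A) ^ m) * ((-1 : A) ^ m) = 1 := by
      rw [← mul_pow]; simp
    rw [pow_succ, pow_succ]
    linear_combination (-adamsOp (m + 1) z) * hsq
  rw [e]
  exact Ideal.mul_mem_left _ _ h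

/-- **First-order product formula**: `λ^n(xy) ≡ ψ^n(x) λ^n(y)` modulo `Fil (a + b + b)` when all
`λ^k x ∈ Fil a` and all `λ^k y ∈ Fil b` (`k ≥ 1`). -/
theorem lam_mul_sub_mem (hA : LambdaRing.IsSpecial A) {a b : ℕ} {x y : A} (hx : HL ε a x)
    (hy : HL ε b y) (n : ℕ) (hn : 1 ≤ n) :
    LambdaOps.lam n (x * y) - adamsOp n x * LambdaOps.lam n y ∈ gammaFil ε (a + b + b) := by
  obtain ⟨m, rfl⟩ : ∃ m, n = m + 1 := ⟨n - 1, by omega⟩
  set N := m + 1 with hN
  let ev : MvPolynomial (Fin N ⊕ Fin N) ℤ →ₐ[ℤ] A :=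
    aeval (Sum.elim (fun a : Fin N => LambdaOps.lam ((a : ℕ) + 1) x)
      (fun b : Fin N => LambdaOps.lam ((b : ℕ) + 1) y))
  have hξ : ∀ i, i ≤ N → ev (ξ N i) = LambdaOps.lam i x := by
    intro i hi
    rcases i with _ | j
    · rw [ξ, map_one, LambdaOps.lam_zero]
    · rw [ξ, dif_pos (by omega)]
      exact aeval_X _ _
  have hη : ∀ i, i ≤ N → ev (η N i) = LambdaOps.lam i y := by
    intro i hi
    rcases i with _ | j
    · rw [η, map_one, LambdaOps.lam_zero]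
    · rw [η, dif_pos (by omega)]
      exact aeval_X _ _
  have hπ : ∀ i, i ≤ N → ev (π N i) = LambdaOps.lam i (x * y) := by
    intro i hi
    rw [π, dif_pos hi, hA.lam_mul i (Pst N i hi) (Pst_isMulPoly N i hi) x y]
    change aeval _ (rename _ (Pst N i hi)) = _
    rw [aeval_rename]
    congr 2
    funext v
    rcases v with a | a <;> rfl
  have hν : ev (aeval (ξ N) (newton (m + 1))) = adamsOp (m + 1) x := by
    rw [adamsOp_eq_aeval_newton,
      ← newton_congr (fun i => ev (ξ N i)) _ (m + 1) (fun i hi => hξ i (by omega)),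
      ← comp_aeval, AlgHom.comp_apply]
  have hev : LambdaOps.lam (m + 1) (x * y) - adamsOp (m + 1) x * LambdaOps.lam (m + 1) y =
      ev (π N (m + 1) - aeval (ξ N) (newton (m + 1)) * η N (m + 1)) := by
    rw [map_sub, map_mul, hπ _ le_rfl, hν, hη _ le_rfl]
  rw [hev]
  have hmap : Ideal.map ev (idXYY N) ≤ gammaFil ε (a + b + b) := by
    rw [idXYY, Ideal.map_span]
    refine Ideal.span_le.2 ?_
    rintro _ ⟨_, ⟨_, ⟨i, j, k, rfl⟩, rfl⟩, rfl⟩
    have e1 : (monomial (Finsupp.single (Sum.inl i) 1 + Finsupp.single (Sum.inr j) 1 +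
        Finsupp.single (Sum.inr k) 1) (1 : ℤ) : MvPolynomial (Fin N ⊕ Fin N) ℤ) =
        X (Sum.inl i) * X (Sum.inr j) * X (Sum.inr k) := by
      simp only [X, monomial_mul, one_mul]
    change ev (monomial (Finsupp.single (Sum.inl i) 1 + Finsupp.single (Sum.inr j) 1 +
        Finsupp.single (Sum.inr k) 1) (1 : ℤ)) ∈ gammaFil ε (a + b + b)
    rw [e1, map_mul, map_mul]
    have h1 : ev (X (Sum.inl i)) = LambdaOps.lam ((i : ℕ) + 1) x := aeval_X _ _
    have h2 : ev (X (Sum.inr j)) = LambdaOps.lam ((j : ℕ) + 1) y := aeval_X _ _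
    have h3 : ev (X (Sum.inr k)) = LambdaOps.lam ((k : ℕ) + 1) y := aeval_X _ _
    rw [h1, h2, h3]
    exact mul_mem_gammaFil ε (mul_mem_gammaFil ε (hx _ (by omega)) (hy _ (by omega)))
      (hy _ (by omega))
  exact hmap (Ideal.mem_map_of_mem _ (mulPoly_first_order N m (by omega)))

end ASide

end Groth.Agent.Lib.LamFil99
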