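import Groth.Agent.Lib.LamFil99b

/-!
# The power series `(1 + L t)^i / (1 + t)` (helper99)

Generating-function facts used to evaluate the universal polynomials `Q_{i,n}` at the point
"`i` times a line element `L`, minus `1`":

* `LogD E P : d/dt E = P * E` with its calculus (`LogD.mul`, `LogD.pow`, `LogD.of_mul_eq_one`);
* `geom a = Σ (-a)^k t^k`, the inverse of `1 + a t`;
* `EL i L = (1 + L t)^i * geom 1`, `LogD (EL i L) (PL i L)` with
  `coeff a (PL i L) = (-1)^a (i L^(a+1) - 1)`;
* `coeff_EL_of_le`: for `k ≥ i`, `coeff k (EL i L) = (L - 1)^i (-1)^(k - i)`;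
* `coeff_EL_sub_mem`: `coeff k (EL i L) - C(i-1,k) ∈ (L - 1)` (for `i ≥ 1`);
* `newton_rel_EL`: Newton's relations between `eL i L k = coeff k (EL i L)` and
  `pL i L k = i L^k - 1`.
-/

set_option autoImplicit false

namespace Groth.Agent.Lib.LamFil99

open PowerSeries Finset

section Series

variable {R : Type*} [CommRing R]

/-- `d/dt E = P * E` -/
def LogD (E P : PowerSeries R) : Prop := PowerSeries.derivative R E = P * E

lemma LogD.mul {E₁ P₁ E₂ P₂ : PowerSeries R} (h₁ : LogD E₁ P₁) (h₂ : LogD E₂ P₂) :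
    LogD (E₁ * E₂) (P₁ + P₂) := by
  unfold LogD at *
  rw [Derivation.leibniz, h₁, h₂, smul_eq_mul, smul_eq_mul]
  ring

lemma LogD.one : LogD (1 : PowerSeries R) 0 := by
  unfold LogD
  rw [PowerSeries.derivative_one, zero_mul]

lemma LogD.pow {E P : PowerSeries R} (h : LogD E P) (n : ℕ) : LogD (E ^ n) (n • P) := by
  induction n with
  | zero => rw [pow_zero, zero_smul]; exact LogD.one
  | succ n ih =>
    rw [pow_succ, succ_nsmul]
    exact ih.mul h

lemma LogD.of_mul_eq_one {E P U : PowerSeries R} (h : LogD E P) (hU : E * U = 1) :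
    LogD U (-P) := by
  unfold LogD at *
  have h0 : PowerSeries.derivative R (E * U) = 0 := by rw [hU, PowerSeries.derivative_one]
  rw [Derivation.leibniz, h, smul_eq_mul, smul_eq_mul] at h0
  have h1 : E * PowerSeries.derivative R U = -P := by
    have : U * (P * E) = P * (E * U) := by ring
    rw [this, hU, mul_one] at h0
    exact eq_neg_of_add_eq_zero_left h0
  calc PowerSeries.derivative R U = (E * U) * PowerSeries.derivative R U := by rw [hU, one_mul]
    _ = U * (E * PowerSeries.derivative R U) := by ring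
    _ = -P * U := by rw [h1]; ring

/-- Newton-type recursion from a logarithmic derivative. -/
lemma newton_rel_of_logD {E P : PowerSeries R} (h : LogD E P) (m : ℕ) :
    ((m + 1 : ℕ) : R) * coeff (m + 1) E =
      ∑ ab ∈ antidiagonal m, coeff ab.1 P * coeff ab.2 E := by
  have h' := congrArg (coeff m) h
  rw [PowerSeries.coeff_derivative, PowerSeries.coeff_mul] at h'
  rw [← h']
  push_cast
  ring

/-- the geometric series `Σ (-a)^k t^k` -/
noncomputable def geom (a : R) : PowerSeries R := PowerSeries.mk fun k => (-a) ^ k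

lemma one_add_mul_geom (a : R) : (1 + C a * X) * geom a = 1 := by
  ext k
  rcases k with _ | k
  · simp [geom]
  · rw [add_mul, one_mul, map_add, mul_assoc, coeff_C_mul, coeff_succ_X_mul, geom, coeff_mk,
      coeff_mk, coeff_one, if_neg (Nat.succ_ne_zero k), pow_succ]
    ring

lemma logD_one_add (a : R) : LogD (1 + C a * X) (C a * geom a) := by
  unfold LogD
  rw [map_add, PowerSeries.derivative_one, zero_add, Derivation.leibniz, PowerSeries.derivative_C,
    PowerSeries.derivative_X, smul_zero, add_zero, smul_eq_mul, mul_one, mul_assoc,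
    mul_comm (geom a), one_add_mul_geom, mul_one]

/-- the series `(1 + L t)^i / (1 + t)` -/
noncomputable def EL (i : ℕ) (L : R) : PowerSeries R := (1 + C L * X) ^ i * geom 1

/-- its logarithmic derivative -/
noncomputable def PL (i : ℕ) (L : R) : PowerSeries R := i • (C L * geom L) + -(C 1 * geom 1)

lemma logD_EL (i : ℕ) (L : R) : LogD (EL i L) (PL i L) :=
  ((logD_one_add L).pow i).mul ((logD_one_add (1 : R)).of_mul_eq_one (one_add_mul_geom 1))

lemma coeff_PL (i : ℕ) (L : R) (a : ℕ) :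
    coeff a (PL i L) = (-1) ^ a * ((i : R) * L ^ (a + 1) - 1) := by
  rw [PL, map_add, map_neg, map_nsmul, coeff_C_mul, coeff_C_mul, geom, geom, coeff_mk, coeff_mk,
    nsmul_eq_mul, neg_pow L a, pow_succ]
  ring

lemma constantCoeff_EL (i : ℕ) (L : R) : coeff 0 (EL i L) = 1 := by
  rw [coeff_zero_eq_constantCoeff_apply, EL, map_mul, map_pow, map_add, map_mul]
  simp [geom]

/-- the coefficients of `EL` -/
noncomputable def eL (i : ℕ) (L : R) (k : ℕ) : R := coeff k (EL i L)

/-- the "power sums" of `EL` -/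
def pL (i : ℕ) (L : R) (k : ℕ) : R := (i : R) * L ^ k - 1

lemma eL_zero (i : ℕ) (L : R) : eL i L 0 = 1 := constantCoeff_EL i L

/-- Newton's relations for `eL`, `pL`. -/
lemma newton_rel_EL (i : ℕ) (L : R) (m : ℕ) :
    ((m + 1 : ℕ) : R) * eL i L (m + 1) =
      ∑ ab ∈ antidiagonal m, (-1) ^ ab.1 * pL i L (ab.1 + 1) * eL i L ab.2 := by
  rw [eL, newton_rel_of_logD (logD_EL i L) m]
  refine Finset.sum_congr rfl fun ab _ => ?_
  rw [coeff_PL, pL, eL]

/-! ### The coefficients of `EL` -/

lemma one_add_X_mul_geom_one : (1 + X : PowerSeries R) * geom 1 = 1 := by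
  have := one_add_mul_geom (1 : R)
  rwa [map_one, one_mul] at this

omit [CommRing R] in
lemma coeff_one_add_X_pow' [CommRing R] (n k : ℕ) :
    coeff k ((1 + X : PowerSeries R) ^ n) = (n.choose k : R) := by
  have h : ((1 + X : PowerSeries R) ^ n) =
      (((1 + Polynomial.X : Polynomial R) ^ n : Polynomial R) : PowerSeries R) := by
    simp
  rw [h, Polynomial.coeff_coe, Polynomial.coeff_one_add_X_pow]

/-- decomposition of `EL i L` according to the powers of `w = L - 1` -/
lemma EL_eq (i : ℕ) (L : R) :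
    EL i L = ∑ s ∈ range i, C ((L - 1) ^ s * (i.choose s : R)) *
        (X ^ s * (1 + X : PowerSeries R) ^ (i - 1 - s)) +
      C ((L - 1) ^ i) * (X ^ i * geom 1) := by
  have h1 : (1 + C L * X : PowerSeries R) = C (L - 1) * X + (1 + X) := by
    rw [map_sub, map_one]; ring
  rw [EL, h1, add_pow, Finset.sum_mul, Finset.sum_range_succ, Nat.sub_self, pow_zero, mul_one,
    Nat.choose_self, Nat.cast_one, mul_one, mul_pow, ← map_pow, mul_assoc]
  congr 1
  refine Finset.sum_congr rfl fun s hs => ?_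
  have hs' := Finset.mem_range.1 hs
  have e : i - s = (i - 1 - s) + 1 := by omega
  rw [e, pow_succ, mul_pow, ← map_pow]
  have hc : ((i.choose s : ℕ) : PowerSeries R) = C ((i.choose s : ℕ) : R) := by
    rw [map_natCast]
  rw [hc, map_mul]
  calc C ((L - 1) ^ s) * X ^ s * ((1 + X) ^ (i - 1 - s) * (1 + X)) * C ((i.choose s : ℕ) : R) *
        geom 1
      = C ((L - 1) ^ s) * C ((i.choose s : ℕ) : R) * (X ^ s * (1 + X) ^ (i - 1 - s)) *
          ((1 + X) * geom 1) := by ring
    _ = _ := by rw [one_add_X_mul_geom_one, mul_one]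

lemma coeff_X_pow_mul_one_add_X_pow (s j k : ℕ) :
    coeff k (X ^ s * (1 + X : PowerSeries R) ^ j) =
      if s ≤ k then ((j.choose (k - s) : ℕ) : R) else 0 := by
  rw [coeff_X_pow_mul']
  split_ifs
  · rw [coeff_one_add_X_pow']
  · rfl

/-- for `k ≥ i`: `coeff k (EL i L) = (L - 1)^i (-1)^(k - i)`. -/
lemma coeff_EL_of_le (i : ℕ) (L : R) {k : ℕ} (hk : i ≤ k) :
    eL i L k = (L - 1) ^ i * (-1) ^ (k - i) := by
  rw [eL, EL_eq, map_add, map_sum, Finset.sum_eq_zero, zero_add, coeff_C_mul, coeff_X_pow_mul',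
    if_pos hk, geom, coeff_mk]
  intro s hs
  have hs' := Finset.mem_range.1 hs
  rw [coeff_C_mul, coeff_X_pow_mul_one_add_X_pow, if_pos (by omega),
    Nat.choose_eq_zero_of_lt (show i - 1 - s < k - s by omega), Nat.cast_zero, mul_zero]

/-- for `i ≥ 1`: `coeff k (EL i L) ≡ C(i-1, k)` modulo `L - 1`. -/
lemma coeff_EL_sub_mem (i : ℕ) (hi : 1 ≤ i) (L : R) (k : ℕ) :
    eL i L k - (((i - 1).choose k : ℕ) : R) ∈ Ideal.span {L - 1} := by
  have hmem : ∀ s, 1 ≤ s → ∀ r : R, (L - 1) ^ s * r ∈ Ideal.span {L - 1} := by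
    intro s hs r
    obtain ⟨t, rfl⟩ : ∃ t, s = t + 1 := ⟨s - 1, by omega⟩
    rw [pow_succ, mul_assoc, mul_comm ((L - 1) ^ t), mul_assoc]
    exact Ideal.mul_mem_right _ _ (Ideal.subset_span rfl)
  obtain ⟨j, rfl⟩ : ∃ j, i = j + 1 := ⟨i - 1, by omega⟩
  rw [eL, EL_eq, map_add, map_sum, Finset.sum_range_succ']
  simp only [pow_zero, one_mul, Nat.choose_zero_right, Nat.cast_one, map_one, Nat.sub_zero,
    Nat.add_sub_cancel]
  rw [coeff_one_add_X_pow']
  have e : ∀ a b c : R, a + c + b - c = a + b := fun a b c => by ring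
  rw [e]
  refine Ideal.add_mem _ (Ideal.sum_mem _ fun s _ => ?_) ?_
  · rw [coeff_C_mul, mul_assoc]
    exact hmem _ (by omega) _
  · rw [coeff_C_mul]
    exact hmem _ (by omega) _

end Series

end Groth.Agent.Lib.LamFil99
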