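import Groth.Agent.Lib.LamFil99c
import Mathlib.Algebra.DualNumber

/-!
# First-order evaluation of polynomials (helper99)

`FO_level2`: let `R` be a ring with ideals `𝔥 ≤ 𝔫`, `g ∈ 𝔫` with `𝔫 g ⊆ 𝔥`, and `Λ : σ → R` a point
such that `Λ k ≡ C k` mod `𝔫` for the "low" variables and `Λ k ≡ s k * g` mod `𝔥` for the "high"
variables (`C k, s k ∈ ℤ`).  Then for every polynomial `p` in the ideal generated by the high
variables, `p(Λ) ≡ c * g` mod `𝔥`, where the integer `c` is the `ε`-coefficient of the value of `p`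
at the dual-number point `k ↦ C k` (low), `k ↦ s k ε` (high) – in particular `c` only depends on
`p, C, s`, not on `R`.
-/

set_option autoImplicit false

namespace Groth.Agent.Lib.LamFil99

open MvPolynomial

section Gen2

lemma ringHom_sub_mem_of_forall_X {R : Type*} [CommRing R] {σ : Type*} (J : Ideal R)
    (f g : MvPolynomial σ ℤ →+* R) (h : ∀ i, f (X i) - g (X i) ∈ J)
    (p : MvPolynomial σ ℤ) : f p - g p ∈ J := by
  have : (Ideal.Quotient.mk J).comp f = (Ideal.Quotient.mk J).comp g := by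
    apply MvPolynomial.ringHom_ext
    · intro r
      have hf : ((Ideal.Quotient.mk J).comp f).comp (C : ℤ →+* MvPolynomial σ ℤ) =
          ((Ideal.Quotient.mk J).comp g).comp C := RingHom.ext_int _ _
      exact RingHom.congr_fun hf r
    · intro i
      exact (Ideal.Quotient.eq).2 (h i)
  exact (Ideal.Quotient.eq).1 (RingHom.congr_fun this p)

end Gen2

section FO

variable {σ : Type*} (High : Set σ) [DecidablePred (· ∈ High)] (Cc s : σ → ℤ)

/-- the dual-number point -/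
noncomputable def φFO : MvPolynomial σ ℤ →ₐ[ℤ] DualNumber ℤ :=
  aeval (fun k => if k ∈ High then (TrivSqZeroExt.inr (s k) : DualNumber ℤ)
    else TrivSqZeroExt.inl (Cc k))

/-- the first-order coefficient of `p` -/
noncomputable def foCoeff (p : MvPolynomial σ ℤ) : ℤ := (φFO High Cc s p).snd

lemma φFO_X (k : σ) : φFO High Cc s (X k) =
    if k ∈ High then (TrivSqZeroExt.inr (s k) : DualNumber ℤ) else TrivSqZeroExt.inl (Cc k) := by
  rw [φFO, aeval_X]

variable {R : Type*} [CommRing R] (𝔫 𝔥 : Ideal R) (h𝔥𝔫 : 𝔥 ≤ 𝔫) (g : R) (hg : g ∈ 𝔫)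
  (hng : ∀ ν ∈ 𝔫, ν * g ∈ 𝔥) (Λ : σ → R)
  (hlow : ∀ k, k ∉ High → Λ k - (Cc k : R) ∈ 𝔫)
  (hhigh : ∀ k, k ∈ High → Λ k - (s k : R) * g ∈ 𝔥)

include h𝔥𝔫 hg hlow hhigh in
lemma FO_level1 (q : MvPolynomial σ ℤ) :
    aeval Λ q - (((φFO High Cc s q).fst : ℤ) : R) ∈ 𝔫 := by
  have := ringHom_sub_mem_of_forall_X 𝔫 (aeval Λ : MvPolynomial σ ℤ →ₐ[ℤ] R).toRingHom
    ((Int.castRingHom R).comp ((TrivSqZeroExt.fstHom ℤ ℤ ℤ).toRingHom.comp
      (φFO High Cc s).toRingHom)) (fun k => ?_) q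
  · exact this
  · change aeval Λ (X k) - (((φFO High Cc s (X k)).fst : ℤ) : R) ∈ 𝔫
    rw [aeval_X, φFO_X]
    by_cases hk : k ∈ High
    · rw [if_pos hk, TrivSqZeroExt.fst_inr, Int.cast_zero, sub_zero]
      have h1 := h𝔥𝔫 (hhigh k hk)
      have h2 : (s k : R) * g ∈ 𝔫 := Ideal.mul_mem_left _ _ hg
      have := Ideal.add_mem _ h1 h2
      rwa [sub_add_cancel] at this
    · rw [if_neg hk, TrivSqZeroExt.fst_inl]
      exact hlow k hk

include h𝔥𝔫 hg hng hlow hhigh in
/-- **First-order evaluation.** -/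
theorem FO_level2 (p : MvPolynomial σ ℤ)
    (hp : p ∈ Ideal.span (X '' High : Set (MvPolynomial σ ℤ))) :
    (φFO High Cc s p).fst = 0 ∧ aeval Λ p - ((foCoeff High Cc s p : ℤ) : R) * g ∈ 𝔥 := by
  unfold foCoeff
  induction hp using Submodule.span_induction with
  | mem y hy =>
    obtain ⟨k, hk, rfl⟩ := hy
    rw [φFO_X, if_pos hk, aeval_X, TrivSqZeroExt.fst_inr, TrivSqZeroExt.snd_inr]
    exact ⟨rfl, hhigh k hk⟩
  | zero => simp
  | add y z _ _ hy hz =>
    refine ⟨by rw [map_add, TrivSqZeroExt.fst_add, hy.1, hz.1, add_zero], ?_⟩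
    rw [map_add, map_add, TrivSqZeroExt.snd_add, Int.cast_add]
    have := Ideal.add_mem _ hy.2 hz.2
    convert this using 1
    ring
  | smul q y _ hy =>
    rw [smul_eq_mul, map_mul, map_mul]
    refine ⟨by rw [TrivSqZeroExt.fst_mul, hy.1, mul_zero], ?_⟩
    have h1 := FO_level1 High Cc s 𝔫 𝔥 h𝔥𝔫 g hg Λ hlow hhigh q
    have hsnd : (φFO High Cc s q * φFO High Cc s y).snd =
        (φFO High Cc s q).fst * (φFO High Cc s y).snd := by
      rw [TrivSqZeroExt.snd_mul, hy.1]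
      simp
    rw [hsnd, Int.cast_mul]
    set a : R := (((φFO High Cc s q).fst : ℤ) : R) with ha
    set b : R := (((φFO High Cc s y).snd : ℤ) : R) with hb
    set ν : R := aeval Λ q - a with hν
    set h : R := aeval Λ y - b * g with hh
    have e : aeval Λ q * aeval Λ y - a * b * g = a * h + b * (ν * g) + ν * h := by
      rw [hν, hh]; ring
    rw [e]
    exact Ideal.add_mem _ (Ideal.add_mem _ (Ideal.mul_mem_left _ _ hy.2)
      (Ideal.mul_mem_left _ _ (hng ν h1))) (Ideal.mul_mem_left _ _ hy.2)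

end FO

end Groth.Agent.Lib.LamFil99
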