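import Groth.Agent.Lib.LamFil99d

/-!
# Evaluation of the universal polynomials `Q_{i,m}` at the point `i·[1+u] - 1` (helper99)

Let `B` be a commutative ring without ℤ-torsion and `u : B`.
`evB u i n : ℤ[X_1..X_{in}] → B` sends `X_k` to the coefficient of `t^k` in
`(1 + (1+u) t)^i / (1 + t)`.  Main result `evB_θ_sub_mem`:
`evB (θ (i n) i m) ≡ (-1)^(m+1) m^(i-1) u^i` modulo `u^(i+1)` for `1 ≤ m ≤ n`, provided
`B / (u^(i+1))` has no ℤ-torsion.  (Everything is stated for a generic ring `B` so that the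
`ℤ`-algebra structure used by `aeval` is the canonical one; the application is `B = ℤ[u]`.)
-/

set_option autoImplicit false

namespace Groth.Agent.Lib.LamFil99

section PolyFacts

variable {B : Type*} [CommRing B] (u : B)

/-- `(1+u)^c - 1 - c u ∈ (u^2)` -/
lemma one_add_pow_sub_mem (c : ℕ) :
    (1 + u) ^ c - 1 - (c : B) * u ∈ Ideal.span {u ^ 2} := by
  induction c with
  | zero => simp
  | succ c ih =>
    have e : (1 + u) ^ (c + 1) - 1 - ((c + 1 : ℕ) : B) * u =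
        (1 + u) * ((1 + u) ^ c - 1 - (c : B) * u) + (c : B) * u ^ 2 := by
      push_cast; ring
    rw [e]
    exact Ideal.add_mem _ (Ideal.mul_mem_left _ _ ih)
      (Ideal.mul_mem_left _ _ (Ideal.subset_span rfl))

lemma one_add_pow_sub_one_eq (c : ℕ) : ∃ r : B, (1 + u) ^ c - 1 = u * ((c : B) + u * r) := by
  obtain ⟨r, hr⟩ := Ideal.mem_span_singleton.1 (one_add_pow_sub_mem u c)
  refine ⟨r, ?_⟩
  have : (1 + u) ^ c - 1 = (c : B) * u + u ^ 2 * r := by rw [← hr]; ring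
  rw [this]; ring

/-- `((1+u)^c - 1)^i ≡ c^i u^i` modulo `u^(i+1)`. -/
lemma pow_sub_one_pow_sub_mem (c i : ℕ) :
    ((1 + u) ^ c - 1) ^ i - (c : B) ^ i * u ^ i ∈ Ideal.span {u ^ (i + 1)} := by
  obtain ⟨r, h1⟩ := one_add_pow_sub_one_eq u c
  obtain ⟨q, hq⟩ := sub_dvd_pow_sub_pow ((c : B) + u * r) (c : B) i
  rw [h1, mul_pow, Ideal.mem_span_singleton]
  refine ⟨r * q, ?_⟩
  have : u ^ i * ((c : B) + u * r) ^ i - (c : B) ^ i * u ^ i =
      u ^ i * (((c : B) + u * r) ^ i - (c : B) ^ i) := by ring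
  rw [this, hq]
  ring

lemma pow_sub_one_pow_mem (c i : ℕ) : ((1 + u) ^ c - 1) ^ i ∈ Ideal.span {u ^ i} := by
  obtain ⟨r, h1⟩ := one_add_pow_sub_one_eq u c
  rw [h1, mul_pow]
  exact Ideal.mul_mem_right _ _ (Ideal.subset_span rfl)

end PolyFacts

open MvPolynomial Finset Groth.Agent.Lib.LambdaGamma6 Groth.Agent.Lib.SpecialLam6
  Groth.Agent.Lib.SpecialLam6b Groth.Agent.Lib.SpecialLam6c

section EvB

variable {B : Type*} [CommRing B] (u : B) (i n : ℕ)

/-- evaluation at the point with `λ_t = (1 + (1+u) t)^i / (1 + t)` -/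
noncomputable def evB : MvPolynomial (Fin (i * n)) ℤ →ₐ[ℤ] B :=
  aeval (fun k : Fin (i * n) => eL i (1 + u) ((k : ℕ) + 1))

lemma evB_X (k : Fin (i * n)) : evB u i n (X k) = eL i (1 + u) ((k : ℕ) + 1) := by
  rw [evB, aeval_X]

lemma evB_ξ₁ (j : ℕ) (hj : j ≤ i * n) : evB u i n (ξ₁ (i * n) j) = eL i (1 + u) j := by
  rcases j with _ | j
  · rw [ξ₁, map_one, eL_zero]
  · rw [ξ₁, dif_pos (by omega), evB, aeval_X]

lemma aeval_eL_newton (L : B) (k : ℕ) (hk : 1 ≤ k) :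
    aeval (eL i L) (newton k) = pL i L k := by
  obtain ⟨m, rfl⟩ : ∃ m, k = m + 1 := ⟨k - 1, by omega⟩
  exact (newton_spec (eL i L) (pL i L) (eL_zero i L) (newton_rel_EL i L) m).symm

lemma evB_newton (k : ℕ) (hk : 1 ≤ k) (hkM : k ≤ i * n) :
    evB u i n (aeval (ξ₁ (i * n)) (newton k)) = pL i (1 + u) k := by
  have e : evB u i n (aeval (ξ₁ (i * n)) (newton k)) =
      aeval (fun j => evB u i n (ξ₁ (i * n) j)) (newton k) := by
    rw [← AlgHom.comp_apply, comp_aeval]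
  rw [e, newton_congr _ (eL i (1 + u)) k (fun j hj => evB_ξ₁ u i n j (by omega)),
    aeval_eL_newton i (1 + u) k hk]

variable (htf : ∀ (c : ℕ) (x : B), 0 < c → (c : B) * x = 0 → x = 0)

include htf in
/-- `evB (Ψ c m)` is the `m`-th coefficient for the line element `(1+u)^c`. -/
lemma evB_Ψ (c : ℕ) (hc : 1 ≤ c) (m : ℕ) (hm : c * m ≤ i * n) :
    evB u i n (Ψ (i * n) c m) = eL i ((1 + u) ^ c) m := by
  refine newton_unique htf m (fun m => evB u i n (Ψ (i * n) c m)) (eL i ((1 + u) ^ c))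
    (pL i ((1 + u) ^ c)) (pL i ((1 + u) ^ c)) ?_ (fun _ _ _ => rfl) ?_ ?_ m le_rfl
  · rw [Ψ_zero_right (i * n) c hc, map_one, eL_zero]
  · intro m' hm'
    have hle : c * (m' + 1) ≤ i * n := le_trans (Nat.mul_le_mul_left c hm') hm
    have h := congrArg (evB u i n) (universal_Ψ_newton (i * n) c hc m' hle)
    rw [map_mul, map_natCast, map_sum] at h
    rw [h]
    refine Finset.sum_congr rfl fun ab hab => ?_
    have hab' := Finset.mem_antidiagonal.1 hab
    have h1 : c * (ab.1 + 1) ≤ i * n := le_trans (Nat.mul_le_mul_left c (by omega)) hle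
    rw [map_mul, map_mul, map_pow, map_neg, map_one,
      evB_newton u i n _ (Nat.mul_pos hc (by omega)) h1, pL, pL, ← pow_mul]
  · intro m' _
    exact newton_rel_EL i ((1 + u) ^ c) m'

include htf in
lemma evB_Ψ_self (c : ℕ) (hc : 1 ≤ c) (hcn : c ≤ n) :
    evB u i n (Ψ (i * n) c i) = ((1 + u) ^ c - 1) ^ i := by
  rw [evB_Ψ u i n htf c hc i (by rw [mul_comm]; exact Nat.mul_le_mul_left i hcn),
    coeff_EL_of_le i _ le_rfl, Nat.sub_self, pow_zero, mul_one]

variable (hcancel : ∀ (c : ℕ) (f : B), c ≠ 0 → (c : B) * f ∈ Ideal.span {u ^ (i + 1)} →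
  f ∈ Ideal.span {u ^ (i + 1)})

include htf hcancel in
/-- **`evB (Q_{i,m}) ≡ (-1)^(m+1) m^(i-1) u^i` modulo `u^(i+1)`.** -/
theorem evB_θ_sub_mem (hi : 1 ≤ i) : ∀ m, 1 ≤ m → m ≤ n →
    evB u i n (θ (i * n) i m) - (-1) ^ (m + 1) * (m : B) ^ (i - 1) * u ^ i ∈
      Ideal.span {u ^ (i + 1)} := by
  have hJ0J0 : ∀ x y : B, x ∈ Ideal.span {u ^ i} → y ∈ Ideal.span {u ^ i} →
      x * y ∈ Ideal.span {u ^ (i + 1)} := by
    intro x y hx hy
    obtain ⟨a, rfl⟩ := Ideal.mem_span_singleton.1 hx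
    obtain ⟨b, rfl⟩ := Ideal.mem_span_singleton.1 hy
    rw [Ideal.mem_span_singleton]
    refine ⟨u ^ (i - 1) * a * b, ?_⟩
    have : u ^ (i + 1) * (u ^ (i - 1) * a * b) = u ^ (i + 1 + (i - 1)) * a * b := by
      rw [pow_add]; ring
    rw [this, show i + 1 + (i - 1) = i + i by omega, pow_add]
    ring
  have hJJ0 : ∀ x : B, x ∈ Ideal.span {u ^ (i + 1)} → x ∈ Ideal.span {u ^ i} := by
    intro x hx
    obtain ⟨a, rfl⟩ := Ideal.mem_span_singleton.1 hx
    rw [pow_succ, mul_assoc]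
    exact Ideal.mul_mem_right _ _ (Ideal.subset_span rfl)
  intro m
  induction m using Nat.strong_induction_on with
  | _ m ih =>
    intro hm1 hmn
    obtain ⟨m', rfl⟩ : ∃ m', m = m' + 1 := ⟨m - 1, by omega⟩
    have hle : i * (m' + 1) ≤ i * n := Nat.mul_le_mul_left i hmn
    have hT0 : evB u i n (θ (i * n) i 0) = 1 := by rw [θ_zero_right, map_one]
    have hTmem : ∀ b, 1 ≤ b → b ≤ m' → evB u i n (θ (i * n) i b) ∈ Ideal.span {u ^ i} := by
      intro b hb1 hb
      have h1 := hJJ0 _ (ih b (by omega) hb1 (by omega))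
      have h2 : (-1) ^ (b + 1) * (b : B) ^ (i - 1) * u ^ i ∈ Ideal.span {u ^ i} :=
        Ideal.mul_mem_left _ _ (Ideal.subset_span rfl)
      have := Ideal.add_mem _ h1 h2
      rwa [sub_add_cancel] at this
    have h := congrArg (evB u i n) (universal_θ_newton (i * n) i m' hle)
    rw [map_mul, map_natCast, map_sum, Finset.Nat.sum_antidiagonal_eq_sum_range_succ_mk,
      Finset.sum_range_succ, Nat.sub_self] at h
    simp only [map_mul, map_pow, map_neg, map_one] at h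
    rw [hT0, mul_one, evB_Ψ_self u i n htf (m' + 1) (by omega) hmn] at h
    refine hcancel (m' + 1) _ (by omega) ?_
    have e : ((m' + 1 : ℕ) : B) * (evB u i n (θ (i * n) i (m' + 1)) -
        (-1) ^ (m' + 1 + 1) * ((m' + 1 : ℕ) : B) ^ (i - 1) * u ^ i) =
        ∑ x ∈ range m', (-1) ^ x * evB u i n (Ψ (i * n) (x + 1) i) *
          evB u i n (θ (i * n) i (m' - x)) +
        (-1) ^ m' * (((1 + u) ^ (m' + 1) - 1) ^ i - ((m' + 1 : ℕ) : B) ^ i * u ^ i) := by
      rw [mul_sub, h]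
      have hp : ((m' + 1 : ℕ) : B) ^ i = ((m' + 1 : ℕ) : B) * ((m' + 1 : ℕ) : B) ^ (i - 1) := by
        rw [← pow_succ', show i - 1 + 1 = i by omega]
      rw [hp, pow_succ, pow_succ]
      ring
    rw [e]
    refine Ideal.add_mem _ (Ideal.sum_mem _ fun x hx => ?_)
      (Ideal.mul_mem_left _ _ (pow_sub_one_pow_sub_mem u (m' + 1) i))
    have hx' := Finset.mem_range.1 hx
    rw [mul_assoc]
    refine Ideal.mul_mem_left _ _ (hJ0J0 _ _ ?_ (hTmem _ (by omega) (by omega)))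
    rw [evB_Ψ_self u i n htf (x + 1) (by omega) (by omega)]
    exact pow_sub_one_pow_mem u (x + 1) i

end EvB

end Groth.Agent.Lib.LamFil99
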