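import Groth.Agent.Lib.LamFil99e

/-!
# `λ^n (γ^i x) ≡ (-1)^(n+1) n^(i-1) γ^i x` modulo `Fil (i+1)` (helper99)
-/

set_option autoImplicit false

namespace Groth.Agent.Lib.LamFil99

open MvPolynomial Finset _root_.LambdaRing Groth.Agent.Lib.LambdaRing
  Groth.Agent.Lib.LambdaGamma Groth.Agent.Lib.LambdaGamma6 Groth.Agent.Lib.SpecialLam6
  Groth.Agent.Lib.SpecialLam6b Groth.Agent.Lib.SpecialLam6c

universe u v

section Data

variable (i n : ℕ)

/-- the high variables: `X_k` with `k + 1 ≥ i` -/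
def HighV : Set (Fin (i * n)) := {k | i ≤ k.1 + 1}

instance : DecidablePred (· ∈ HighV i n) := fun k => by unfold HighV; exact Nat.decLe _ _

/-- zeroth-order values of the low variables -/
def CcV (k : Fin (i * n)) : ℤ := ((i - 1).choose (k.1 + 1) : ℕ)

/-- first-order values of the high variables -/
def sV (k : Fin (i * n)) : ℤ := (-1) ^ (k.1 + 1 - i)

/-- the polynomial `Q_{i,n} - (-1)^(n+1) n^(i-1) X_i` at level `i n` -/
noncomputable def GV : MvPolynomial (Fin (i * n)) ℤ :=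
  θ (i * n) i n - C ((-1) ^ (n + 1) * (n : ℤ) ^ (i - 1)) * ξ₁ (i * n) i

lemma ξ₁_mem_span (hi : 1 ≤ i) (hn : 1 ≤ n) :
    ξ₁ (i * n) i ∈ Ideal.span (X '' HighV i n : Set (MvPolynomial (Fin (i * n)) ℤ)) := by
  obtain ⟨j, rfl⟩ : ∃ j, i = j + 1 := ⟨i - 1, by omega⟩
  have hlt : j < (j + 1) * n := by
    have : j + 1 ≤ (j + 1) * n := Nat.le_mul_of_pos_right _ hn
    omega
  rw [ξ₁, dif_pos hlt]
  exact Ideal.subset_span ⟨_, by change j + 1 ≤ j + 1; omega, rfl⟩

lemma θ_mem_span (hi : 1 ≤ i) (hn : 1 ≤ n) :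
    θ (i * n) i n ∈ Ideal.span (X '' HighV i n : Set (MvPolynomial (Fin (i * n)) ℤ)) := by
  rw [θ, dif_pos le_rfl]
  have h1 := compPoly_mem_span i n hi hn (Qst (i * n) i n le_rfl) (Qst_isCompPoly (i * n) i n le_rfl)
  refine ringHom_mem_of_mem_span_X _ (ι₁ (le_refl (i * n))).toRingHom _ ?_ h1
  intro k hk
  change ι₁ (le_refl (i * n)) (X k) ∈ _
  rw [ι₁, rename_X]
  exact Ideal.subset_span ⟨_, by change i ≤ (Fin.castLE _ k).1 + 1; simpa using hk, rfl⟩

lemma GV_mem_span (hi : 1 ≤ i) (hn : 1 ≤ n) :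
    GV i n ∈ Ideal.span (X '' HighV i n : Set (MvPolynomial (Fin (i * n)) ℤ)) :=
  Ideal.sub_mem _ (θ_mem_span i n hi hn) (Ideal.mul_mem_left _ _ (ξ₁_mem_span i n hi hn))

end Data

/-! ## The first-order coefficient of `GV` vanishes -/

section BSide

variable {B : Type*} [CommRing B] (u : B) (i n : ℕ)
  (htf : ∀ (c : ℕ) (x : B), 0 < c → (c : B) * x = 0 → x = 0)
  (hcancel : ∀ (c : ℕ) (f : B), c ≠ 0 → (c : B) * f ∈ Ideal.span {u ^ (i + 1)} →
    f ∈ Ideal.span {u ^ (i + 1)})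

include htf hcancel in
lemma foCoeff_mul_mem (hi : 1 ≤ i) (hn : 1 ≤ n) :
    ((foCoeff (HighV i n) (CcV i n) (sV i n) (GV i n) : ℤ) : B) * u ^ i ∈
      Ideal.span {u ^ (i + 1)} := by
  have hu1 : (1 + u) - 1 = u := by ring
  have hFO := (FO_level2 (HighV i n) (CcV i n) (sV i n) (Ideal.span {u}) (Ideal.span {u ^ (i + 1)})
    (by
      rw [Ideal.span_singleton_le_iff_mem, pow_succ]
      exact Ideal.mul_mem_left _ _ (Ideal.subset_span rfl))
    (u ^ i)
    (by
      obtain ⟨j, rfl⟩ : ∃ j, i = j + 1 := ⟨i - 1, by omega⟩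
      rw [pow_succ]
      exact Ideal.mul_mem_left _ _ (Ideal.subset_span rfl))
    (by
      intro ν hν
      obtain ⟨a, rfl⟩ := Ideal.mem_span_singleton.1 hν
      rw [Ideal.mem_span_singleton]
      exact ⟨a, by rw [pow_succ]; ring⟩)
    (fun k : Fin (i * n) => eL i (1 + u) (k.1 + 1))
    (by
      intro k hk
      have := coeff_EL_sub_mem i hi (1 + u) (k.1 + 1)
      rw [hu1] at this
      simpa [CcV] using this)
    (by
      intro k hk
      have hk' : i ≤ k.1 + 1 := hk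
      rw [coeff_EL_of_le i (1 + u) hk', hu1, sV]
      have : u ^ i * (-1) ^ (k.1 + 1 - i) - (((-1 : ℤ) ^ (k.1 + 1 - i) : ℤ) : B) * u ^ i = 0 := by
        push_cast; ring
      rw [this]
      exact Ideal.zero_mem _)
    (GV i n) (GV_mem_span i n hi hn)).2
  have hev : aeval (fun k : Fin (i * n) => eL i (1 + u) (k.1 + 1)) (GV i n) =
      evB u i n (θ (i * n) i n) - (-1) ^ (n + 1) * (n : B) ^ (i - 1) * u ^ i := by
    change evB u i n (GV i n) = _
    rw [GV, map_sub, map_mul, evB_ξ₁ u i n i (Nat.le_mul_of_pos_right i hn),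
      coeff_EL_of_le i (1 + u) le_rfl, hu1, Nat.sub_self, pow_zero, mul_one]
    congr 1
    have : evB u i n (C ((-1) ^ (n + 1) * (n : ℤ) ^ (i - 1))) =
        (-1) ^ (n + 1) * (n : B) ^ (i - 1) := by
      rw [evB, aeval_C]
      simp
    rw [this]
  rw [hev] at hFO
  have h2 := evB_θ_sub_mem u i n htf hcancel hi n hn le_rfl
  have := Ideal.sub_mem _ h2 hFO
  rwa [sub_sub_cancel] at this

end BSide

/-- **The first-order coefficient of `Q_{i,n} - (-1)^(n+1) n^(i-1) X_i` vanishes.** -/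
theorem foCoeff_GV (i n : ℕ) (hi : 1 ≤ i) (hn : 1 ≤ n) :
    foCoeff (HighV i n) (CcV i n) (sV i n) (GV i n) = 0 := by
  have h := foCoeff_mul_mem (B := Polynomial ℤ) Polynomial.X i n
    (by
      intro c x hc h
      rcases mul_eq_zero.1 h with h | h
      · exact absurd (Nat.cast_eq_zero.1 h) (by omega)
      · exact h)
    (by
      intro c f hc h
      rw [Ideal.mem_span_singleton, Polynomial.X_pow_dvd_iff] at h ⊢
      intro d hd
      have := h d hd
      have hc' : (c : Polynomial ℤ) = Polynomial.C (c : ℤ) := by simp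
      rw [hc', Polynomial.coeff_C_mul] at this
      rcases mul_eq_zero.1 this with h0 | h0
      · exact absurd (by exact_mod_cast h0) hc
      · exact h0)
    hi hn
  rw [Ideal.mem_span_singleton, Polynomial.X_pow_dvd_iff] at h
  have := h i (by omega)
  have hc' : ((foCoeff (HighV i n) (CcV i n) (sV i n) (GV i n) : ℤ) : Polynomial ℤ) =
      Polynomial.C (foCoeff (HighV i n) (CcV i n) (sV i n) (GV i n)) := by simp
  rw [hc', Polynomial.coeff_C_mul, Polynomial.coeff_X_pow, if_pos rfl, mul_one] at this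
  exact this

end Groth.Agent.Lib.LamFil99
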