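import Groth.Agent.Lib.LamFil99f

/-!
# First-order behaviour of the λ-operations on the γ-filtration (helper99)

* `lam_gamma_sub_mem`: for `ε x = 0`, `i, n ≥ 1`:
  `λ^n (γ^i x) - (-1)^(n+1) n^(i-1) γ^i x ∈ Fil (i+1)`.
-/

set_option autoImplicit false

namespace Groth.Agent.Lib.LamFil99

open MvPolynomial Finset _root_.LambdaRing Groth.Agent.Lib.LambdaRing
  Groth.Agent.Lib.LambdaGamma Groth.Agent.Lib.LambdaGamma6 Groth.Agent.Lib.SpecialLam6
  Groth.Agent.Lib.SpecialLam6b Groth.Agent.Lib.SpecialLam6c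

universe u v

section LGamma

variable {K : Type u} [CommRing K] {A : Type v} [CommRing A] [LambdaOps A] {ε : A →+* K}
  (hA : LambdaRing.IsSpecial A)
  (hQ : ∀ i j : ℕ, ∃ Q : MvPolynomial (Fin (i * j)) ℤ, LambdaRing.IsCompPoly i j Q)

include hA hQ in
/-- `λ^k(x + i - 1) ≡ C(i-1,k)` modulo `Fil 1` (`i ≥ 1`). -/
lemma lam_shift_sub_mem_one {x : A} (hx : ε x = 0) (i : ℕ) (hi : 1 ≤ i) (k : ℕ) :
    LambdaOps.lam k (x + (i : A) - 1) - (((i - 1).choose k : ℕ) : A) ∈ gammaFil ε 1 := by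
  have hxy : x + (i : A) - 1 = ((i - 1 : ℕ) : A) + x := by
    rw [Nat.cast_sub hi]; push_cast; ring
  have hHL : HL ε 1 x := by
    have := HL_gamma hA hQ hx 1
    rwa [gamma_one_eq] at this
  rw [hxy, LambdaOps.lam_add, Finset.sum_range_succ, Nat.sub_self, LambdaOps.lam_zero, mul_one,
    lam_natCast hA.lam_one_eq_zero, add_sub_cancel_right]
  refine Ideal.sum_mem _ fun r hr => ?_
  exact Ideal.mul_mem_left _ _ (hHL _ (by have := Finset.mem_range.1 hr; omega))

include hA in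
/-- `λ^k(x + i - 1) ≡ (-1)^(k-i) γ^i x` modulo `Fil (i+1)` for `k ≥ i`. -/
lemma lam_shift_sub_mem_succ {x : A} (hx : ε x = 0) (i : ℕ) :
    ∀ k, i ≤ k → LambdaOps.lam k (x + (i : A) - 1) - (-1) ^ (k - i) * gamma i x ∈
      gammaFil ε (i + 1) := by
  intro k hk
  induction k, hk using Nat.le_induction with
  | base =>
    rw [Nat.sub_self, pow_zero, one_mul, gamma_eq_lam hA.lam_one_eq_zero, sub_self]
    exact Ideal.zero_mem _
  | succ k hk ih =>
    have h1 := hA.lam_one_eq_zero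
    have hy : x + ((i + 1 : ℕ) : A) - 1 = 1 + (x + (i : A) - 1) := by push_cast; ring
    have hmem := lam_shift_mem hA hx (i + 1) (k + 1) (by omega)
    rw [hy, LambdaOps.lam_add, Finset.sum_range_succ', Finset.sum_range_succ',
      LambdaOps.lam_zero, LambdaOps.lam_one, one_mul, one_mul, Finset.sum_eq_zero, zero_add,
      Nat.sub_zero, Nat.add_sub_cancel] at hmem
    · have e : LambdaOps.lam (k + 1) (x + (i : A) - 1) - (-1) ^ (k + 1 - i) * gamma i x =
          (LambdaOps.lam k (x + (i : A) - 1) + LambdaOps.lam (k + 1) (x + (i : A) - 1)) -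
            (LambdaOps.lam k (x + (i : A) - 1) - (-1) ^ (k - i) * gamma i x) := by
        rw [show k + 1 - i = (k - i) + 1 by omega, pow_succ]; ring
      rw [e]
      exact Ideal.sub_mem _ hmem ih
    · intro r _
      rw [h1 (r + 1 + 1) (by omega), zero_mul]

include hA hQ in
/-- **`λ^n (γ^i x) ≡ (-1)^(n+1) n^(i-1) γ^i x` modulo `Fil (i+1)`.** -/
theorem lam_gamma_sub_mem {x : A} (hx : ε x = 0) (i n : ℕ) (hi : 1 ≤ i) (hn : 1 ≤ n) :
    LambdaOps.lam n (gamma i x) - (-1) ^ (n + 1) * (n : A) ^ (i - 1) * gamma i x ∈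
      gammaFil ε (i + 1) := by
  set y : A := x + (i : A) - 1 with hy
  have hg : gamma i x = LambdaOps.lam i y := gamma_eq_lam hA.lam_one_eq_zero i x
  have hgmem : gamma i x ∈ gammaFil ε i := gamma_mem_gammaFil ε hx i
  let ev : MvPolynomial (Fin (i * n)) ℤ →ₐ[ℤ] A :=
    aeval (fun c : Fin (i * n) => LambdaOps.lam ((c : ℕ) + 1) y)
  have hθ : ev (θ (i * n) i n) = LambdaOps.lam n (LambdaOps.lam i y) := by
    rw [θ, dif_pos le_rfl,
      hA.lam_lam i n (Qst (i * n) i n le_rfl) (Qst_isCompPoly (i * n) i n le_rfl) y]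
    change aeval _ (rename _ (Qst (i * n) i n le_rfl)) = _
    rw [aeval_rename]
    rfl
  have hξ : ev (ξ₁ (i * n) i) = LambdaOps.lam i y := by
    obtain ⟨j, rfl⟩ : ∃ j, i = j + 1 := ⟨i - 1, by omega⟩
    have hlt : j < (j + 1) * n := by
      have : j + 1 ≤ (j + 1) * n := Nat.le_mul_of_pos_right _ hn
      omega
    rw [ξ₁, dif_pos hlt]
    exact aeval_X _ _
  have hFO := (FO_level2 (HighV i n) (CcV i n) (sV i n) (gammaFil ε 1) (gammaFil ε (i + 1))
    (gammaFil_anti ε (by omega)) (gamma i x) (gammaFil_anti ε hi hgmem)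
    (by
      intro ν hν
      have := mul_mem_gammaFil ε hν hgmem
      rwa [Nat.add_comm] at this)
    (fun c : Fin (i * n) => LambdaOps.lam ((c : ℕ) + 1) y)
    (by
      intro k _
      have := lam_shift_sub_mem_one hA hQ hx i hi (k.1 + 1)
      simpa [CcV] using this)
    (by
      intro k hk
      have hk' : i ≤ k.1 + 1 := hk
      have := lam_shift_sub_mem_succ hA hx i (k.1 + 1) hk'
      simpa [sV] using this)
    (GV i n) (GV_mem_span i n hi hn)).2
  rw [foCoeff_GV i n hi hn, Int.cast_zero, zero_mul, sub_zero] at hFO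
  have hev : aeval (fun c : Fin (i * n) => LambdaOps.lam ((c : ℕ) + 1) y) (GV i n) =
      LambdaOps.lam n (gamma i x) - (-1) ^ (n + 1) * (n : A) ^ (i - 1) * gamma i x := by
    change ev (GV i n) = _
    rw [GV, map_sub, map_mul, hθ, hξ, ← hg]
    congr 2
    change aeval _ (C ((-1) ^ (n + 1) * (n : ℤ) ^ (i - 1))) = _
    rw [aeval_C]
    simp
  rwa [hev] at hFO

end LGamma

end Groth.Agent.Lib.LamFil99
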