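import Groth.Agent.Lib.MulPoly6
import Mathlib.RingTheory.MvPolynomial.Symmetric.NewtonIdentities

/-!
# Universal polynomials for special λ-rings: stability and verification
-/

set_option autoImplicit false

namespace Groth.Agent.Lib.SpecialLam6

open MvPolynomial Finset Groth.Agent.Lib.LambdaGamma6 Groth.Agent.Lib.SymmPoly6
  Groth.Agent.Lib.MulPoly6

/-! ## Existence at level `N` for `mulGen N k` -/

section GenExistence

variable (n : ℕ)

/-- existence of some `P₀` with `Φ P₀ = mulGen n k`. -/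
theorem exists_P₀_gen (k : ℕ) :
    ∃ P₀ : MvPolynomial (Fin n ⊕ Fin n) ℤ, Φ n P₀ = LambdaRing.mulGen n k := by
  classical
  set G := ψ n (LambdaRing.mulGen n k) with hG
  have hGsymm : G.IsSymmetric := by
    intro σ
    have h := rename_mulGen n k σ (Equiv.refl _)
    rw [Equiv.coe_refl] at h
    rw [hG, rename_ψ, h]
  obtain ⟨Q₁', hQ₁'⟩ := esymmAlgHom_fin_surjective (MvPolynomial (Fin n) ℤ) (le_refl n) ⟨G, hGsymm⟩
  have hQ₁ : E (MvPolynomial (Fin n) ℤ) n Q₁' = G := by rw [E_eq, hQ₁']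
  have hcoeff : ∀ d, (coeff d Q₁').IsSymmetric := by
    intro d τ
    have h1 : map (rename τ : MvPolynomial (Fin n) ℤ →ₐ[ℤ] MvPolynomial (Fin n) ℤ).toRingHom
        Q₁' = Q₁' := by
      apply E_injective (R := MvPolynomial (Fin n) ℤ) (m := n)
      have h := rename_mulGen n k (Equiv.refl _) τ
      rw [Equiv.coe_refl] at h
      rw [← map_E, hQ₁, hG, map_rename_ψ, h]
    have := congrArg (coeff d) h1
    rwa [coeff_map] at this
  have hex : ∀ d, ∃ q : MvPolynomial (Fin n) ℤ, E ℤ n q = coeff d Q₁' := by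
    intro d
    obtain ⟨q, hq⟩ := esymmAlgHom_fin_surjective ℤ (le_refl n) ⟨coeff d Q₁', hcoeff d⟩
    exact ⟨q, by rw [E_eq, hq]⟩
  choose q hq using hex
  set Q₂ : MvPolynomial (Fin n) (MvPolynomial (Fin n) ℤ) :=
    ∑ d ∈ Q₁'.support, monomial d (q d) with hQ₂
  have hmap : map (E ℤ n).toRingHom Q₂ = Q₁' := by
    rw [hQ₂, map_sum]
    conv_rhs => rw [Q₁'.as_sum]
    refine Finset.sum_congr rfl fun d _ => ?_
    rw [map_monomial]
    congr 1
    exact hq d
  refine ⟨(ψ n).symm Q₂, ?_⟩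
  apply (ψ n).injective
  rw [ψ_Φ, AlgEquiv.apply_symm_apply, hmap, hQ₁]

lemma mulGen_isWH_gen (k : ℕ) :
    IsWeightedHomogeneous (ω n) (LambdaRing.mulGen n k) ((k, k) : ℕ × ℕ) := by
  rw [mulGen_eq]
  refine IsWeightedHomogeneous.sum _ _ _ fun t ht => ?_
  have h := IsWeightedHomogeneous.prod (w := ω n) t
    (fun ab : Fin n × Fin n =>
      (X (Sum.inl ab.1) * X (Sum.inr ab.2) : MvPolynomial (Fin n ⊕ Fin n) ℤ))
    (fun _ => ((1, 1) : ℕ × ℕ)) (fun ab _ => by
      have := (isWeightedHomogeneous_X ℤ (ω n) (Sum.inl ab.1)).mul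
        (isWeightedHomogeneous_X ℤ (ω n) (Sum.inr ab.2))
      simpa [ω] using this)
  rw [Finset.sum_const, (Finset.mem_powersetCard.1 ht).2] at h
  simpa using h

/-- existence of a bi-isobaric `P` of weight `(k,k)` with `Φ P = mulGen n k`. -/
theorem exists_isWH_gen (k : ℕ) :
    ∃ P : MvPolynomial (Fin n ⊕ Fin n) ℤ, Φ n P = LambdaRing.mulGen n k ∧
      IsWeightedHomogeneous (w n) P ((k, k) : ℕ × ℕ) := by
  classical
  obtain ⟨P₀, hP₀⟩ := exists_P₀_gen n k
  set P : MvPolynomial (Fin n ⊕ Fin n) ℤ :=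
    ∑ d ∈ P₀.support.filter (fun d => Finsupp.weight (w n) d = ((k, k) : ℕ × ℕ)),
      monomial d (coeff d P₀) with hP
  set rest : MvPolynomial (Fin n ⊕ Fin n) ℤ :=
    ∑ d ∈ P₀.support.filter (fun d => ¬ Finsupp.weight (w n) d = ((k, k) : ℕ × ℕ)),
      monomial d (coeff d P₀) with hrest
  have hsum : P₀ = P + rest := by
    rw [hP, hrest, Finset.sum_filter_add_sum_filter_not]
    exact P₀.as_sum
  have hΦP : IsWeightedHomogeneous (ω n) (Φ n P) ((k, k) : ℕ × ℕ) := by
    rw [hP, map_sum]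
    refine IsWeightedHomogeneous.sum _ _ _ fun d hd => ?_
    have := Φ_monomial_isWH n d (coeff d P₀)
    rwa [(Finset.mem_filter.1 hd).2] at this
  have hΦrest : IsWeightedHomogeneous (ω n) (Φ n rest) ((k, k) : ℕ × ℕ) := by
    have : Φ n rest = Φ n P₀ - Φ n P := by rw [hsum, map_add]; ring
    rw [this, hP₀]
    exact (mulGen_isWH_gen n k).sub hΦP
  have hzero : Φ n rest = 0 := by
    ext x
    rw [coeff_zero]
    by_cases hx : Finsupp.weight (ω n) x = ((k, k) : ℕ × ℕ)
    · rw [hrest, map_sum, coeff_sum]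
      refine Finset.sum_eq_zero fun d hd => ?_
      refine (Φ_monomial_isWH n d (coeff d P₀)).coeff_eq_zero x ?_
      rw [hx]
      exact fun h => (Finset.mem_filter.1 hd).2 h.symm
    · exact hΦrest.coeff_eq_zero x hx
  refine ⟨P, ?_, ?_⟩
  · have : Φ n P = Φ n P₀ := by rw [hsum, map_add, hzero, add_zero]
    rw [this, hP₀]
  · intro d hd
    by_contra hne
    apply hd
    rw [hP, coeff_sum]
    refine Finset.sum_eq_zero fun d' hd' => ?_
    rw [coeff_monomial, if_neg]
    rintro rfl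
    exact hne (Finset.mem_filter.1 hd').2

/-- `Φ` is injective. -/
lemma Φ_injective : Function.Injective (Φ n) := by
  intro a b hab
  have h1 : ψ n (Φ n a) = ψ n (Φ n b) := by rw [hab]
  rw [ψ_Φ, ψ_Φ] at h1
  have h2 := E_injective (R := MvPolynomial (Fin n) ℤ) (m := n) h1
  have h3 : Function.Injective (map (E ℤ n).toRingHom :
      MvPolynomial (Fin n) (MvPolynomial (Fin n) ℤ) → _) :=
    map_injective _ (E_injective (R := ℤ) (m := n))
  exact (ψ n).injective (h3 h2)

end GenExistence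


/-! ## Elementary symmetric functions of finite families and killing variables -/

section Fam

variable {B : Type*} [CommRing B]

/-- the `k`-th elementary symmetric function of a finite family -/
def esymmFam {ι : Type*} [Fintype ι] (f : ι → B) (k : ℕ) : B :=
  ∑ t ∈ powersetCard k (univ : Finset ι), ∏ i ∈ t, f i

lemma map_esymmFam {B' : Type*} [CommRing B'] {F : Type*} [FunLike F B B'] [RingHomClass F B B']
    (φ : F) {ι : Type*} [Fintype ι] (f : ι → B)
    (k : ℕ) : φ (esymmFam f k) = esymmFam (fun i => φ (f i)) k := by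
  rw [esymmFam, map_sum]
  refine Finset.sum_congr rfl fun t _ => ?_
  rw [map_prod]

lemma esymmFam_comp_embedding {ι ι' : Type*} [Fintype ι] [Fintype ι'] [DecidableEq ι]
    (e : ι' ↪ ι) (g : ι → B) (hg : ∀ s, s ∉ Set.range e → g s = 0) (k : ℕ) :
    esymmFam g k = esymmFam (fun i => g (e i)) k := by
  classical
  rw [esymmFam, esymmFam]
  have h1 : ∑ t ∈ powersetCard k (univ : Finset ι'), ∏ i ∈ t, g (e i) =
      ∑ t ∈ (powersetCard k (univ : Finset ι')).map (Finset.mapEmbedding e).toEmbedding,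
        ∏ i ∈ t, g i := by
    rw [Finset.sum_map]
    refine Finset.sum_congr rfl fun t _ => ?_
    change _ = ∏ i ∈ t.map e, g i
    rw [Finset.prod_map]
  rw [h1, ← Finset.powersetCard_map]
  symm
  apply Finset.sum_subset
  · exact Finset.powersetCard_mono (Finset.subset_univ _)
  · intro t ht hnt
    rw [Finset.mem_powersetCard] at ht hnt
    have : ¬ t ⊆ (univ : Finset ι').map e := fun h => hnt ⟨h, ht.2⟩
    rw [Finset.not_subset] at this
    obtain ⟨s, hs, hs'⟩ := this
    refine Finset.prod_eq_zero hs (hg s ?_)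
    rintro ⟨s', rfl⟩
    exact hs' (Finset.mem_map_of_mem e (Finset.mem_univ s'))

end Fam

lemma mulGen_eq_esymmFam (N k : ℕ) :
    LambdaRing.mulGen N k = esymmFam (fun ab : Fin N × Fin N =>
      (X (Sum.inl ab.1) * X (Sum.inr ab.2) : MvPolynomial (Fin N ⊕ Fin N) ℤ)) k :=
  mulGen_eq N k

lemma rename_inl_esymm (N k : ℕ) :
    (rename Sum.inl (esymm (Fin N) ℤ k) : MvPolynomial (Fin N ⊕ Fin N) ℤ) =
      esymmFam (fun a : Fin N => (X (Sum.inl a) : MvPolynomial (Fin N ⊕ Fin N) ℤ)) k := by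
  rw [esymm, map_sum, esymmFam]
  refine Finset.sum_congr rfl fun t _ => ?_
  rw [map_prod]
  refine Finset.prod_congr rfl fun a _ => ?_
  rw [rename_X]

lemma rename_inr_esymm (N k : ℕ) :
    (rename Sum.inr (esymm (Fin N) ℤ k) : MvPolynomial (Fin N ⊕ Fin N) ℤ) =
      esymmFam (fun a : Fin N => (X (Sum.inr a) : MvPolynomial (Fin N ⊕ Fin N) ℤ)) k := by
  rw [esymm, map_sum, esymmFam]
  refine Finset.sum_congr rfl fun t _ => ?_
  rw [map_prod]
  refine Finset.prod_congr rfl fun a _ => ?_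
  rw [rename_X]

section Kill

variable {i N : ℕ} (h : i ≤ N)

/-- kill the variables of index `≥ i` -/
noncomputable def κ : MvPolynomial (Fin N ⊕ Fin N) ℤ →ₐ[ℤ] MvPolynomial (Fin i ⊕ Fin i) ℤ :=
  aeval (Sum.elim (fun a : Fin N => if ha : a.1 < i then X (Sum.inl ⟨a.1, ha⟩) else 0)
    (fun b : Fin N => if hb : b.1 < i then X (Sum.inr ⟨b.1, hb⟩) else 0))

/-- the inclusion of variables -/
noncomputable def ι : MvPolynomial (Fin i ⊕ Fin i) ℤ →ₐ[ℤ] MvPolynomial (Fin N ⊕ Fin N) ℤ :=
  rename (Sum.map (Fin.castLE h) (Fin.castLE h))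

lemma κ_X_inl (a : Fin N) : κ (i := i) (X (Sum.inl a) : MvPolynomial (Fin N ⊕ Fin N) ℤ) =
    if ha : a.1 < i then X (Sum.inl ⟨a.1, ha⟩) else 0 := by
  rw [κ, aeval_X, Sum.elim_inl]

lemma κ_X_inr (a : Fin N) : κ (i := i) (X (Sum.inr a) : MvPolynomial (Fin N ⊕ Fin N) ℤ) =
    if ha : a.1 < i then X (Sum.inr ⟨a.1, ha⟩) else 0 := by
  rw [κ, aeval_X, Sum.elim_inr]

lemma κ_X_inl_castLE (a : Fin i) :
    κ (i := i) (X (Sum.inl (Fin.castLE h a)) : MvPolynomial (Fin N ⊕ Fin N) ℤ) = X (Sum.inl a) := by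
  rw [κ_X_inl, dif_pos (by simp)]
  rfl

lemma κ_X_inr_castLE (a : Fin i) :
    κ (i := i) (X (Sum.inr (Fin.castLE h a)) : MvPolynomial (Fin N ⊕ Fin N) ℤ) = X (Sum.inr a) := by
  rw [κ_X_inr, dif_pos (by simp)]
  rfl

lemma κ_X_inl_of_not_range (a : Fin N) (ha : a ∉ Set.range (Fin.castLE h)) :
    κ (i := i) (X (Sum.inl a) : MvPolynomial (Fin N ⊕ Fin N) ℤ) = 0 := by
  rw [κ_X_inl, dif_neg]
  intro hlt
  exact ha ⟨⟨a.1, hlt⟩, by ext; rfl⟩

lemma κ_X_inr_of_not_range (a : Fin N) (ha : a ∉ Set.range (Fin.castLE h)) :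
    κ (i := i) (X (Sum.inr a) : MvPolynomial (Fin N ⊕ Fin N) ℤ) = 0 := by
  rw [κ_X_inr, dif_neg]
  intro hlt
  exact ha ⟨⟨a.1, hlt⟩, by ext; rfl⟩

include h in
lemma κ_rename_inl_esymm (k : ℕ) :
    κ (i := i) (rename Sum.inl (esymm (Fin N) ℤ k) : MvPolynomial (Fin N ⊕ Fin N) ℤ) =
      rename Sum.inl (esymm (Fin i) ℤ k) := by
  classical
  rw [rename_inl_esymm, rename_inl_esymm]
  rw [map_esymmFam (κ (i := i) (N := N)), esymmFam_comp_embedding ⟨Fin.castLE h, Fin.castLE_injective h⟩ _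
    (fun s hs => κ_X_inl_of_not_range h s hs)]
  congr 1
  funext a
  exact κ_X_inl_castLE h a

include h in
lemma κ_rename_inr_esymm (k : ℕ) :
    κ (i := i) (rename Sum.inr (esymm (Fin N) ℤ k) : MvPolynomial (Fin N ⊕ Fin N) ℤ) =
      rename Sum.inr (esymm (Fin i) ℤ k) := by
  classical
  rw [rename_inr_esymm, rename_inr_esymm]
  rw [map_esymmFam (κ (i := i) (N := N)), esymmFam_comp_embedding ⟨Fin.castLE h, Fin.castLE_injective h⟩ _
    (fun s hs => κ_X_inr_of_not_range h s hs)]
  congr 1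
  funext a
  exact κ_X_inr_castLE h a

include h in
lemma κ_mulGen (k : ℕ) : κ (i := i) (LambdaRing.mulGen N k) = LambdaRing.mulGen i k := by
  classical
  rw [mulGen_eq_esymmFam, mulGen_eq_esymmFam]
  rw [map_esymmFam (κ (i := i) (N := N))]
  let e : Fin i × Fin i ↪ Fin N × Fin N :=
    ⟨Prod.map (Fin.castLE h) (Fin.castLE h),
      (Fin.castLE_injective h).prodMap (Fin.castLE_injective h)⟩
  rw [esymmFam_comp_embedding e]
  · congr 1
    funext ab
    change (κ (i := i) (N := N)) (X (Sum.inl (Fin.castLE h ab.1)) * X (Sum.inr (Fin.castLE h ab.2))) = _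
    rw [map_mul, κ_X_inl_castLE, κ_X_inr_castLE]
  · rintro ⟨a, b⟩ hs
    change (κ (i := i) (N := N)) (X (Sum.inl a) * X (Sum.inr b)) = 0
    rw [map_mul]
    by_cases ha : a ∈ Set.range (Fin.castLE h)
    · by_cases hb : b ∈ Set.range (Fin.castLE h)
      · exfalso
        obtain ⟨a', rfl⟩ := ha
        obtain ⟨b', rfl⟩ := hb
        exact hs ⟨(a', b'), rfl⟩
      · rw [κ_X_inr_of_not_range h b hb, mul_zero]
    · rw [κ_X_inl_of_not_range h a ha, zero_mul]

/-- `κ ∘ Φ_N ∘ ι = Φ_i` -/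
lemma κ_Φ_ι (P : MvPolynomial (Fin i ⊕ Fin i) ℤ) : κ (i := i) (Φ N (ι h P)) = Φ i P := by
  have : ((κ (i := i) (N := N)).comp ((Φ N).comp (ι h))) = Φ i := by
    apply MvPolynomial.algHom_ext
    rintro (a | a)
    · change κ (Φ N (ι h (X (Sum.inl a)))) = Φ i (X (Sum.inl a))
      rw [ι, rename_X, Sum.map_inl, Φ, aeval_X, Sum.elim_inl, Φ, aeval_X, Sum.elim_inl,
        κ_rename_inl_esymm h]
      rfl
    · change κ (Φ N (ι h (X (Sum.inr a)))) = Φ i (X (Sum.inr a))
      rw [ι, rename_X, Sum.map_inr, Φ, aeval_X, Sum.elim_inr, Φ, aeval_X, Sum.elim_inr,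
        κ_rename_inr_esymm h]
      rfl
  exact AlgHom.congr_fun this P

end Kill


/-! ## Restriction of variables and stability -/

section Stab

variable {i N : ℕ} (h : i ≤ N)

lemma w_comp_castLE : (w N) ∘ (Sum.map (Fin.castLE h) (Fin.castLE h)) = w i := by
  funext v
  rcases v with a | a <;> simp [w]

lemma weight_mapDomain (d : Fin i ⊕ Fin i →₀ ℕ) :
    Finsupp.weight (w N) (d.mapDomain (Sum.map (Fin.castLE h) (Fin.castLE h))) =
      Finsupp.weight (w i) d := by
  rw [Finsupp.weight_apply, Finsupp.weight_apply, Finsupp.sum_mapDomain_index]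
  · rw [← w_comp_castLE h]
    rfl
  · intro b; exact zero_smul _ _
  · intro b m₁ m₂; exact add_smul _ _ _

lemma castLE_sum_injective :
    Function.Injective (Sum.map (Fin.castLE h) (Fin.castLE h)) :=
  (Fin.castLE_injective h).sumMap (Fin.castLE_injective h)

/-- a polynomial of biweight `(i,i)` only involves the first `i` variables of each family. -/
lemma exists_restrict (P' : MvPolynomial (Fin N ⊕ Fin N) ℤ)
    (hP' : IsWeightedHomogeneous (w N) P' ((i, i) : ℕ × ℕ)) :
    ∃ P'' : MvPolynomial (Fin i ⊕ Fin i) ℤ, ι h P'' = P' ∧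
      IsWeightedHomogeneous (w i) P'' ((i, i) : ℕ × ℕ) := by
  classical
  have hvars : (↑P'.vars : Set (Fin N ⊕ Fin N)) ⊆
      Set.range (Sum.map (Fin.castLE h) (Fin.castLE h)) := by
    intro v hv
    rw [Finset.mem_coe, mem_vars_iff_mem_support] at hv
    obtain ⟨d, hd, hvd⟩ := hv
    have hwt := hP' (mem_support_iff.1 hd)
    rw [Finsupp.weight_apply, Finsupp.sum] at hwt
    have hdv : 1 ≤ d v := Nat.one_le_iff_ne_zero.2 (Finsupp.mem_support_iff.1 hvd)
    rcases v with a | a
    · by_cases ha : a.1 < i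
      · exact ⟨Sum.inl ⟨a.1, ha⟩, by simp [Fin.castLE]⟩
      · exfalso
        have h1 := congrArg Prod.fst hwt
        rw [Prod.fst_sum] at h1
        have h2 := Finset.single_le_sum (f := fun x => (d x • w N x).1)
          (fun x _ => Nat.zero_le _) hvd
        rw [h1] at h2
        simp only [w, Sum.elim_inl, Prod.smul_fst, smul_eq_mul] at h2
        nlinarith
    · by_cases ha : a.1 < i
      · exact ⟨Sum.inr ⟨a.1, ha⟩, by simp [Fin.castLE]⟩
      · exfalso
        have h1 := congrArg Prod.snd hwt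
        rw [Prod.snd_sum] at h1
        have h2 := Finset.single_le_sum (f := fun x => (d x • w N x).2)
          (fun x _ => Nat.zero_le _) hvd
        rw [h1] at h2
        simp only [w, Sum.elim_inr, Prod.smul_snd, smul_eq_mul] at h2
        nlinarith
  obtain ⟨P'', hP''⟩ := exists_rename_eq_of_vars_subset_range P' _ (castLE_sum_injective h) hvars
  refine ⟨P'', hP'', ?_⟩
  intro d hd
  have h1 : coeff (d.mapDomain (Sum.map (Fin.castLE h) (Fin.castLE h))) P' = coeff d P'' := by
    rw [← hP'']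
    exact coeff_rename_mapDomain _ (castLE_sum_injective h) P'' d
  have := hP' (by rw [h1]; exact hd)
  rwa [weight_mapDomain] at this

/-- **Stability**: for `i ≤ N` there is `P` with `IsMulPoly i P` whose image at level `N`
computes `mulGen N i`. -/
theorem exists_isMulPoly_stable :
    ∃ P : MvPolynomial (Fin i ⊕ Fin i) ℤ, LambdaRing.IsMulPoly i P ∧
      Φ N (ι h P) = LambdaRing.mulGen N i := by
  obtain ⟨P', hP'1, hP'2⟩ := exists_isWH_gen N i
  obtain ⟨P'', hP''1, hP''2⟩ := exists_restrict h P' hP'2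
  refine ⟨P'', ⟨?_, hP''2⟩, by rw [hP''1, hP'1]⟩
  change Φ i P'' = _
  rw [← κ_Φ_ι h, hP''1, hP'1, κ_mulGen h]

end Stab


/-! ## Newton polynomials -/

section Newton

/-- the Newton polynomials `ν_k ∈ ℤ[Z_0, Z_1, …]`: `p_k = ν_k(e_0, e_1, …)`. -/
noncomputable def newton : ℕ → MvPolynomial ℕ ℤ
  | 0 => 0
  | (m + 1) => (-1) ^ m * (((m + 1 : ℕ) : MvPolynomial ℕ ℤ) * X (m + 1) -
      ∑ a : Fin m, (-1) ^ a.1 * newton (a.1 + 1) * X (m - a.1))
termination_by k => k
decreasing_by omega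

lemma newton_succ (m : ℕ) :
    newton (m + 1) = (-1) ^ m * (((m + 1 : ℕ) : MvPolynomial ℕ ℤ) * X (m + 1) -
      ∑ a ∈ range m, (-1) ^ a * newton (a + 1) * X (m - a)) := by
  rw [newton]
  congr 2
  exact Fin.sum_univ_eq_sum_range (fun a => (-1 : MvPolynomial ℕ ℤ) ^ a * newton (a + 1) * X (m - a)) m

variable {B : Type*} [CommRing B]

lemma aeval_newton_succ (e : ℕ → B) (m : ℕ) :
    aeval e (newton (m + 1)) = (-1) ^ m * (((m + 1 : ℕ) : B) * e (m + 1) -
      ∑ a ∈ range m, (-1) ^ a * aeval e (newton (a + 1)) * e (m - a)) := by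
  rw [newton_succ, map_mul, map_pow, map_neg, map_one, map_sub, map_mul, map_natCast, aeval_X,
    map_sum]
  congr 2
  refine Finset.sum_congr rfl fun a _ => ?_
  rw [map_mul, map_mul, map_pow, map_neg, map_one, aeval_X]

/-- Newton's identities determine the power sums from the elementary symmetric functions. -/
theorem newton_spec (e p : ℕ → B) (he : e 0 = 1)
    (hR : ∀ m, ((m + 1 : ℕ) : B) * e (m + 1) =
      ∑ ab ∈ antidiagonal m, (-1) ^ ab.1 * p (ab.1 + 1) * e ab.2) :
    ∀ m, p (m + 1) = aeval e (newton (m + 1)) := by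
  intro m
  induction m using Nat.strong_induction_on with
  | _ m ih =>
    rw [aeval_newton_succ, hR m, Finset.Nat.sum_antidiagonal_eq_sum_range_succ_mk,
      Finset.sum_range_succ, Nat.sub_self, he, mul_one]
    have : ∑ a ∈ range m, (-1 : B) ^ a * aeval e (newton (a + 1)) * e (m - a) =
        ∑ a ∈ range m, (-1 : B) ^ a * p (a + 1) * e (m - a) := by
      refine Finset.sum_congr rfl fun a ha => ?_
      rw [ih a (Finset.mem_range.1 ha)]
    rw [this, add_sub_cancel_left, ← mul_assoc, ← pow_add, ← two_mul, pow_mul, neg_one_sq,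
      one_pow, one_mul]

theorem newton_congr (e e' : ℕ → B) :
    ∀ k, (∀ i, i ≤ k → e i = e' i) → aeval e (newton k) = aeval e' (newton k) := by
  intro k
  induction k using Nat.strong_induction_on with
  | _ k ih =>
    intro hk
    rcases k with _ | m
    · rw [newton, map_zero, map_zero]
    · rw [aeval_newton_succ, aeval_newton_succ, hk (m + 1) le_rfl]
      congr 2
      refine Finset.sum_congr rfl fun a ha => ?_
      have ha' := Finset.mem_range.1 ha
      rw [ih (a + 1) (by omega) (fun i hi => hk i (by omega)), hk (m - a) (by omega)]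

/-- Newton's identities in the polynomial ring: `p_k = ν_k(e_0, e_1, …)`. -/
theorem psum_eq_aeval_newton (σ : Type*) [Fintype σ] [DecidableEq σ] (m : ℕ) :
    psum σ ℤ (m + 1) = aeval (fun i => esymm σ ℤ i) (newton (m + 1)) := by
  refine newton_spec (fun i => esymm σ ℤ i) (fun i => psum σ ℤ i) (esymm_zero σ ℤ) ?_ m
  intro k
  have h := mul_esymm_eq_sum σ ℤ (k + 1)
  push_cast at h ⊢
  rw [h, Finset.mul_sum]
  symm
  refine Finset.sum_bij' (fun ab _ => (ab.2, ab.1 + 1)) (fun x _ => (x.2 - 1, x.1)) ?_ ?_ ?_ ?_ ?_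
  · rintro ⟨a, b⟩ hab
    rw [Finset.mem_antidiagonal] at hab
    simp only [Finset.mem_filter, Finset.mem_antidiagonal]
    constructor <;> omega
  · rintro ⟨a, b⟩ hx
    simp only [Finset.mem_filter, Finset.mem_antidiagonal] at hx
    rw [Finset.mem_antidiagonal]
    simp only
    omega
  · rintro ⟨a, b⟩ _
    simp
  · rintro ⟨a, b⟩ hx
    simp only [Finset.mem_filter, Finset.mem_antidiagonal] at hx
    simp only [Prod.mk.injEq, true_and]
    omega
  · rintro ⟨a, b⟩ hab
    rw [Finset.mem_antidiagonal] at hab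
    simp only
    have : (-1 : MvPolynomial σ ℤ) ^ (k + 1 + 1) * (-1) ^ b = (-1) ^ a := by
      rw [← pow_add, ← hab]
      have : a + b + 1 + 1 + b = a + 2 * (b + 1) := by ring
      rw [this, pow_add, pow_mul, neg_one_sq, one_pow, mul_one]
    rw [← this]
    ring

end Newton


/-! ## Adams operations as Newton polynomials in the `λ^i` -/

section Adams

open _root_.LambdaRing

variable {K : Type*} [CommRing K] [LambdaOps K]

lemma coeff_lamSeries' (x : K) (i : ℕ) :
    PowerSeries.coeff i (lamSeries x) = LambdaOps.lam i x := by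
  rw [lamSeries, PowerSeries.coeff_mk]

lemma logDerivSeries_mul (z : K) :
    logDerivSeries z * lamSeries z = PowerSeries.derivative K (lamSeries z) := by
  rw [logDerivSeries, mul_assoc, PowerSeries.invOfUnit_mul, mul_one]
  rw [← PowerSeries.coeff_zero_eq_constantCoeff_apply, coeff_lamSeries', LambdaOps.lam_zero]
  rfl

lemma coeff_logDerivSeries (z : K) (a : ℕ) :
    PowerSeries.coeff a (logDerivSeries z) = (-1) ^ a * adamsOp (a + 1) z := by
  rw [adamsOp, ← mul_assoc, ← pow_add, ← two_mul, pow_mul, neg_one_sq, one_pow, one_mul]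

/-- the Adams operations are the Newton polynomials in the `λ^i`. -/
theorem adamsOp_eq_aeval_newton (z : K) (m : ℕ) :
    adamsOp (m + 1) z = aeval (fun i => LambdaOps.lam i z) (newton (m + 1)) := by
  refine newton_spec (fun i => LambdaOps.lam i z) (fun i => adamsOp i z)
    (LambdaOps.lam_zero z) ?_ m
  intro k
  have h := congrArg (PowerSeries.coeff k) (logDerivSeries_mul z)
  rw [PowerSeries.coeff_derivative, PowerSeries.coeff_mul, coeff_lamSeries'] at h
  push_cast
  rw [mul_comm, ← h]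
  refine Finset.sum_congr rfl fun ab _ => ?_
  rw [coeff_logDerivSeries, coeff_lamSeries']

end Adams

end Groth.Agent.Lib.SpecialLam6
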