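import Groth.Agent.Lib.SpecialLam6b
import Groth.Agent.S8687

/-!
# Torsion-free pre-λ-rings whose Adams operations are compatible ring maps are special
-/

set_option autoImplicit false

namespace Groth.Agent.Lib.SpecialLam6c

open MvPolynomial Finset Groth.Agent.Lib.LambdaGamma6 Groth.Agent.Lib.SymmPoly6
  Groth.Agent.Lib.MulPoly6 Groth.Agent.Lib.SpecialLam6 Groth.Agent.Lib.SpecialLam6b

/-! ## Newton relations -/

section NewtonRel

/-- Newton's relations in the polynomial ring. -/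
lemma newton_rel_esymm (σ : Type*) [Fintype σ] [DecidableEq σ] (k : ℕ) :
    ((k + 1 : ℕ) : MvPolynomial σ ℤ) * esymm σ ℤ (k + 1) =
      ∑ ab ∈ antidiagonal k, (-1) ^ ab.1 * psum σ ℤ (ab.1 + 1) * esymm σ ℤ ab.2 := by
  have h := mul_esymm_eq_sum σ ℤ (k + 1)
  push_cast at h ⊢
  rw [h, Finset.mul_sum]
  symm
  refine Finset.sum_bij' (fun ab _ => (ab.2, ab.1 + 1)) (fun x _ => (x.2 - 1, x.1)) ?_ ?_ ?_ ?_ ?_
  · rintro ⟨a, b⟩ hab
    rw [Finset.mem_antidiagonal] at hab
    simp only [Finset.mem_filter, Finset.mem_antidiagonal]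
    constructor <;> omega
  · rintro ⟨a, b⟩ hx
    simp only [Finset.mem_filter, Finset.mem_antidiagonal] at hx
    rw [Finset.mem_antidiagonal]
    simp only
    omega
  · rintro ⟨a, b⟩ _
    simp
  · rintro ⟨a, b⟩ hx
    simp only [Finset.mem_filter, Finset.mem_antidiagonal] at hx
    simp only [Prod.mk.injEq, true_and]
    omega
  · rintro ⟨a, b⟩ hab
    rw [Finset.mem_antidiagonal] at hab
    simp only
    have : (-1 : MvPolynomial σ ℤ) ^ (k + 1 + 1) * (-1) ^ b = (-1) ^ a := by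
      rw [← pow_add, ← hab]
      have : a + b + 1 + 1 + b = a + 2 * (b + 1) := by ring
      rw [this, pow_add, pow_mul, neg_one_sq, one_pow, mul_one]
    rw [← this]
    ring

/-- Newton's relations for a finite family in a commutative ring. -/
lemma newton_rel_fam {B : Type*} [CommRing B] [Algebra ℤ B] {σ : Type*} [Fintype σ]
    [DecidableEq σ]
    (f : σ → B) (k : ℕ) :
    ((k + 1 : ℕ) : B) * aeval f (esymm σ ℤ (k + 1)) =
      ∑ ab ∈ antidiagonal k,
        (-1) ^ ab.1 * (∑ s, f s ^ (ab.1 + 1)) * aeval f (esymm σ ℤ ab.2) := by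
  have h := congrArg (aeval f) (newton_rel_esymm σ k)
  rw [map_mul, map_natCast, map_sum] at h
  rw [h]
  refine Finset.sum_congr rfl fun ab _ => ?_
  rw [map_mul, map_mul, map_pow, map_neg, map_one, psum, map_sum]
  congr 2
  refine Finset.sum_congr rfl fun s _ => ?_
  rw [map_pow, aeval_X]

open _root_.LambdaRing in
/-- Newton's relations between the `λ^i` and the Adams operations in a pre-λ-ring. -/
lemma newton_rel_lam {K : Type*} [CommRing K] [LambdaOps K] (z : K) (k : ℕ) :
    ((k + 1 : ℕ) : K) * LambdaOps.lam (k + 1) z =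
      ∑ ab ∈ antidiagonal k, (-1) ^ ab.1 * adamsOp (ab.1 + 1) z * LambdaOps.lam ab.2 z := by
  have h := congrArg (PowerSeries.coeff k) (logDerivSeries_mul z)
  rw [PowerSeries.coeff_derivative, PowerSeries.coeff_mul, coeff_lamSeries'] at h
  push_cast
  rw [mul_comm, ← h]
  refine Finset.sum_congr rfl fun ab _ => ?_
  rw [coeff_logDerivSeries, coeff_lamSeries']

/-- bounded uniqueness of solutions of Newton's relations in a torsion-free ring. -/
lemma newton_unique {K : Type*} [CommRing K]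
    (htf : ∀ (n : ℕ) (x : K), 0 < n → (n : K) * x = 0 → x = 0)
    (N : ℕ) (e e' p p' : ℕ → K) (h0 : e 0 = e' 0)
    (hp : ∀ k, 1 ≤ k → k ≤ N → p k = p' k)
    (he : ∀ m, m < N → ((m + 1 : ℕ) : K) * e (m + 1) =
      ∑ ab ∈ antidiagonal m, (-1) ^ ab.1 * p (ab.1 + 1) * e ab.2)
    (he' : ∀ m, m < N → ((m + 1 : ℕ) : K) * e' (m + 1) =
      ∑ ab ∈ antidiagonal m, (-1) ^ ab.1 * p' (ab.1 + 1) * e' ab.2) :
    ∀ m, m ≤ N → e m = e' m := by
  intro m
  induction m using Nat.strong_induction_on with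
  | _ m ih =>
    intro hm
    rcases m with _ | m
    · exact h0
    · have h1 : ((m + 1 : ℕ) : K) * (e (m + 1) - e' (m + 1)) = 0 := by
        rw [mul_sub, he m (by omega), he' m (by omega), sub_eq_zero]
        refine Finset.sum_congr rfl fun ab hab => ?_
        have hab' := Finset.mem_antidiagonal.1 hab
        rw [hp (ab.1 + 1) (by omega) (by omega), ih ab.2 (by omega) (by omega)]
      exact sub_eq_zero.1 (htf (m + 1) _ (by omega) h1)

end NewtonRel

/-! ## the universal Newton relations for the `P_n` -/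

section U2

open Groth.Agent.S8687

variable (N : ℕ)

lemma aeval_esymm_mulGen (i : ℕ) :
    aeval (fun ab : Fin N × Fin N =>
        (X (Sum.inl ab.1) * X (Sum.inr ab.2) : MvPolynomial (Fin N ⊕ Fin N) ℤ))
      (esymm (Fin N × Fin N) ℤ i) = LambdaRing.mulGen N i := by
  rw [mulGen_eq, esymm, map_sum]
  refine Finset.sum_congr rfl fun t _ => ?_
  rw [map_prod]
  refine Finset.prod_congr rfl fun ab _ => ?_
  exact aeval_X _ _

lemma Φ_aeval_ξ_newton (k : ℕ) (hk : 0 < k) (hkN : k ≤ N) :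
    Φ N (aeval (ξ N) (newton k)) =
      ∑ a : Fin N, (X (Sum.inl a) : MvPolynomial (Fin N ⊕ Fin N) ℤ) ^ k := by
  obtain ⟨m, rfl⟩ : ∃ m, k = m + 1 := ⟨k - 1, by omega⟩
  have e2 : Φ N (aeval (ξ N) (newton (m + 1))) =
      aeval (fun i => Φ N (ξ N i)) (newton (m + 1)) := by
    rw [← AlgHom.comp_apply, comp_aeval]
  have c2 : aeval (fun i => Φ N (ξ N i)) (newton (m + 1)) =
      aeval (fun i => (rename Sum.inl (esymm (Fin N) ℤ i) : MvPolynomial (Fin N ⊕ Fin N) ℤ))
        (newton (m + 1)) :=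
    newton_congr _ _ (m + 1) (fun i hi => Φ_ξ N i (by omega))
  rw [e2, c2, aeval_inl_newton]

lemma Φ_aeval_η_newton (k : ℕ) (hk : 0 < k) (hkN : k ≤ N) :
    Φ N (aeval (η N) (newton k)) =
      ∑ a : Fin N, (X (Sum.inr a) : MvPolynomial (Fin N ⊕ Fin N) ℤ) ^ k := by
  obtain ⟨m, rfl⟩ : ∃ m, k = m + 1 := ⟨k - 1, by omega⟩
  have e2 : Φ N (aeval (η N) (newton (m + 1))) =
      aeval (fun i => Φ N (η N i)) (newton (m + 1)) := by
    rw [← AlgHom.comp_apply, comp_aeval]
  have c2 : aeval (fun i => Φ N (η N i)) (newton (m + 1)) =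
      aeval (fun i => (rename Sum.inr (esymm (Fin N) ℤ i) : MvPolynomial (Fin N ⊕ Fin N) ℤ))
        (newton (m + 1)) :=
    newton_congr _ _ (m + 1) (fun i hi => Φ_η N i (by omega))
  rw [e2, c2, aeval_inr_newton]

/-- Newton's relations for the universal polynomials `P_m` at level `N`. -/
theorem universal_mul_newton (m : ℕ) (hm : m < N) :
    ((m + 1 : ℕ) : MvPolynomial (Fin N ⊕ Fin N) ℤ) * π N (m + 1) =
      ∑ ab ∈ antidiagonal m, (-1) ^ ab.1 *
        (aeval (ξ N) (newton (ab.1 + 1)) * aeval (η N) (newton (ab.1 + 1))) * π N ab.2 := by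
  classical
  apply Φ_injective N
  have h := newton_rel_fam (fun ab : Fin N × Fin N =>
        (X (Sum.inl ab.1) * X (Sum.inr ab.2) : MvPolynomial (Fin N ⊕ Fin N) ℤ)) m
  rw [aeval_esymm_mulGen] at h
  rw [map_mul, map_natCast, map_sum, Φ_π N (m + 1) (by omega), h]
  refine Finset.sum_congr rfl fun ab hab => ?_
  have hab' := Finset.mem_antidiagonal.1 hab
  rw [map_mul, map_mul, map_pow, map_neg, map_one, map_mul,
    Φ_aeval_ξ_newton N (ab.1 + 1) (by omega) (by omega),
    Φ_aeval_η_newton N (ab.1 + 1) (by omega) (by omega), Φ_π N ab.2 (by omega),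
    aeval_esymm_mulGen]
  congr 2
  rw [Fintype.sum_prod_type, Finset.sum_mul_sum]
  refine Finset.sum_congr rfl fun a _ => Finset.sum_congr rfl fun b _ => ?_
  rw [mul_pow]

end U2


/-! ## the universal Newton relations for the `Q_{i,j}` -/

section U3

variable (M : ℕ)

/-- the polynomial expressing `ψ^c ∘ λ^m` at level `M` -/
noncomputable def Ψ (c m : ℕ) : MvPolynomial (Fin M) ℤ := aeval (fun j => θ M m j) (newton c)

lemma E_Ψ (c m : ℕ) (hc : 0 < c) (h : m * c ≤ M) :
    E ℤ M (Ψ M c m) =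
      aeval (fun a : Fin M => (X a : MvPolynomial (Fin M) ℤ) ^ c) (esymm (Fin M) ℤ m) := by
  have e2 : E ℤ M (aeval (fun j => θ M m j) (newton c)) =
      aeval (fun j => E ℤ M (θ M m j)) (newton c) := by
    rw [← AlgHom.comp_apply, comp_aeval]
  rw [Ψ, e2, ← aeval_compGen_newton M m c hc]
  refine newton_congr _ _ c (fun j hj => E_θ M m j ?_)
  exact le_trans (Nat.mul_le_mul_left m hj) h

lemma E_aeval_ξ₁_newton (k : ℕ) (hk : 0 < k) (hkM : k ≤ M) :
    E ℤ M (aeval (ξ₁ M) (newton k)) = psum (Fin M) ℤ k := by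
  classical
  have e3 : E ℤ M (aeval (ξ₁ M) (newton k)) = aeval (fun i => E ℤ M (ξ₁ M i)) (newton k) := by
    rw [← AlgHom.comp_apply, comp_aeval]
  have c3 : aeval (fun i => E ℤ M (ξ₁ M i)) (newton k) =
      aeval (fun i => esymm (Fin M) ℤ i) (newton k) :=
    newton_congr _ _ k (fun i hi => E_ξ₁ M i (by omega))
  rw [e3, c3, ← psum_eq_aeval_newton' (Fin M) k hk]

lemma sum_subsets_pow (i k : ℕ) :
    ∑ s : ↥((Finset.univ : Finset (Fin M)).powersetCard i),
        (∏ a ∈ s.1, (X a : MvPolynomial (Fin M) ℤ)) ^ k =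
      aeval (fun a : Fin M => (X a : MvPolynomial (Fin M) ℤ) ^ k) (esymm (Fin M) ℤ i) := by
  rw [esymm, map_sum,
    Finset.sum_coe_sort ((Finset.univ : Finset (Fin M)).powersetCard i)
      (fun s => (∏ a ∈ s, (X a : MvPolynomial (Fin M) ℤ)) ^ k)]
  refine Finset.sum_congr rfl fun s _ => ?_
  rw [map_prod, ← Finset.prod_pow]
  refine Finset.prod_congr rfl fun a _ => ?_
  rw [aeval_X]

/-- Newton's relations for the `Ψ_{c,m}` (`m` varying). -/
theorem universal_Ψ_newton (c : ℕ) (hc : 0 < c) (m : ℕ) (hm : c * (m + 1) ≤ M) :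
    ((m + 1 : ℕ) : MvPolynomial (Fin M) ℤ) * Ψ M c (m + 1) =
      ∑ ab ∈ antidiagonal m,
        (-1) ^ ab.1 * aeval (ξ₁ M) (newton (c * (ab.1 + 1))) * Ψ M c ab.2 := by
  classical
  apply E_injective (R := ℤ) (m := M)
  have h := newton_rel_fam (fun a : Fin M => (X a : MvPolynomial (Fin M) ℤ) ^ c) m
  rw [map_mul, map_natCast, map_sum, E_Ψ M c (m + 1) hc (by rw [mul_comm]; exact hm), h]
  refine Finset.sum_congr rfl fun ab hab => ?_
  have hab' := Finset.mem_antidiagonal.1 hab
  have h1 : c * (ab.1 + 1) ≤ M := le_trans (Nat.mul_le_mul_left c (by omega)) hm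
  have h2 : ab.2 * c ≤ M := by
    rw [mul_comm]
    exact le_trans (Nat.mul_le_mul_left c (by omega)) hm
  rw [map_mul, map_mul, map_pow, map_neg, map_one,
    E_aeval_ξ₁_newton M (c * (ab.1 + 1)) (Nat.mul_pos hc (by omega)) h1, E_Ψ M c ab.2 hc h2]
  congr 2
  rw [psum]
  refine Finset.sum_congr rfl fun a _ => ?_
  rw [← pow_mul]

/-- Newton's relations for the `Q_{i,m}` (`m` varying). -/
theorem universal_θ_newton (i m : ℕ) (hm : i * (m + 1) ≤ M) :
    ((m + 1 : ℕ) : MvPolynomial (Fin M) ℤ) * θ M i (m + 1) =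
      ∑ ab ∈ antidiagonal m, (-1) ^ ab.1 * Ψ M (ab.1 + 1) i * θ M i ab.2 := by
  classical
  apply E_injective (R := ℤ) (m := M)
  have h := newton_rel_fam (fun s : ↥((Finset.univ : Finset (Fin M)).powersetCard i) =>
          ∏ a ∈ s.1, (X a : MvPolynomial (Fin M) ℤ)) m
  rw [map_mul, map_natCast, map_sum, E_θ M i (m + 1) hm, compGen_eq_aeval, h]
  refine Finset.sum_congr rfl fun ab hab => ?_
  have hab' := Finset.mem_antidiagonal.1 hab
  have h1 : i * (ab.1 + 1) ≤ M := le_trans (Nat.mul_le_mul_left i (by omega)) hm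
  have h2 : i * ab.2 ≤ M := le_trans (Nat.mul_le_mul_left i (by omega)) hm
  rw [map_mul, map_mul, map_pow, map_neg, map_one, E_Ψ M (ab.1 + 1) i (by omega) h1,
    E_θ M i ab.2 h2, compGen_eq_aeval, sum_subsets_pow]

lemma θ_zero_right (i : ℕ) : θ M i 0 = 1 := by
  apply E_injective (R := ℤ) (m := M)
  rw [E_θ M i 0 (by omega), map_one, compGen_eq]
  simp

lemma Ψ_zero_right (c : ℕ) (hc : 0 < c) : Ψ M c 0 = 1 := by
  apply E_injective (R := ℤ) (m := M)
  rw [E_Ψ M c 0 hc (by omega), map_one, esymm_zero, map_one]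

end U3

/-! ## the theorem -/

section Wilkerson

open _root_.LambdaRing Groth.Agent.S8687

variable {K : Type*} [CommRing K] [LambdaOps K]
  (htf : ∀ (n : ℕ) (x : K), 0 < n → (n : K) * x = 0 → x = 0)
  (h1 : ∀ k : ℕ, 1 ≤ k → adamsOp k (1 : K) = 1)
  (hmul : ∀ k : ℕ, 1 ≤ k → ∀ x y : K, adamsOp k (x * y) = adamsOp k x * adamsOp k y)
  (hcomp : ∀ k k' : ℕ, 1 ≤ k → 1 ≤ k' → ∀ x : K,
    adamsOp k (adamsOp k' x) = adamsOp (k * k') x)

include htf h1 in
lemma lam_one_eq_zero_of_adams (n : ℕ) (hn : 2 ≤ n) : LambdaOps.lam n (1 : K) = 0 := by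
  have key := newton_unique htf n (fun m => LambdaOps.lam m (1 : K))
    (fun m => if m ≤ 1 then 1 else 0) (fun k => adamsOp k (1 : K)) (fun _ => 1)
    (by simp [LambdaOps.lam_zero]) (fun k hk _ => h1 k hk) (fun m _ => newton_rel_lam 1 m) ?_ n le_rfl
  · simpa [show ¬ n ≤ 1 by omega] using key
  · intro m _
    rcases m with _ | m
    · simp
    · rw [if_neg (by omega), mul_zero, Finset.Nat.sum_antidiagonal_eq_sum_range_succ_mk,
        Finset.sum_range_succ, Finset.sum_range_succ]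
      have h0 : ∑ a ∈ range m, ((-1 : K) ^ (a, m + 1 - a).1 * 1 *
          if (a, m + 1 - a).2 ≤ 1 then 1 else 0) = 0 := by
        refine Finset.sum_eq_zero fun a ha => ?_
        have := Finset.mem_range.1 ha
        rw [if_neg (by simp only; omega), mul_zero]
      rw [h0]
      simp only [Nat.add_sub_cancel_left, Nat.sub_self]
      rw [if_pos le_rfl, if_pos (by omega), pow_succ]
      ring

include htf hmul in
lemma lam_mul_of_adams (n : ℕ) (P : MvPolynomial (Fin n ⊕ Fin n) ℤ) (hP : IsMulPoly n P)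
    (x y : K) :
    LambdaOps.lam n (x * y) =
      aeval (Sum.elim (fun k : Fin n => LambdaOps.lam ((k : ℕ) + 1) x)
        (fun k : Fin n => LambdaOps.lam ((k : ℕ) + 1) y)) P := by
  let ev : MvPolynomial (Fin n ⊕ Fin n) ℤ →ₐ[ℤ] K :=
    aeval (Sum.elim (fun a : Fin n => LambdaOps.lam ((a : ℕ) + 1) x)
      (fun b : Fin n => LambdaOps.lam ((b : ℕ) + 1) y))
  have hξ : ∀ i, i ≤ n → ev (ξ n i) = LambdaOps.lam i x := by
    intro i hi
    rcases i with _ | j
    · rw [ξ, map_one, LambdaOps.lam_zero]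
    · rw [ξ, dif_pos (by omega)]
      exact aeval_X _ _
  have hη : ∀ i, i ≤ n → ev (η n i) = LambdaOps.lam i y := by
    intro i hi
    rcases i with _ | j
    · rw [η, map_one, LambdaOps.lam_zero]
    · rw [η, dif_pos (by omega)]
      exact aeval_X _ _
  have hPπ : π n n = P := by
    rw [π, dif_pos le_rfl]
    apply Φ_injective n
    rw [Φ_ι_Pst]
    exact hP.1.symm
  have hπ0 : π n 0 = 1 := by
    apply Φ_injective n
    rw [Φ_π n 0 (by omega), map_one, mulGen_eq]
    simp
  have hξν : ∀ k, 0 < k → k ≤ n → ev (aeval (ξ n) (newton k)) = adamsOp k x := by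
    intro k hk hkn
    rw [adamsOp_eq_aeval_newton' x k hk, ← AlgHom.comp_apply, comp_aeval]
    exact newton_congr _ _ k (fun i hi => hξ i (by omega))
  have hην : ∀ k, 0 < k → k ≤ n → ev (aeval (η n) (newton k)) = adamsOp k y := by
    intro k hk hkn
    rw [adamsOp_eq_aeval_newton' y k hk, ← AlgHom.comp_apply, comp_aeval]
    exact newton_congr _ _ k (fun i hi => hη i (by omega))
  have key := newton_unique htf n (fun m => LambdaOps.lam m (x * y)) (fun m => ev (π n m))
    (fun k => adamsOp k (x * y))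
    (fun k => ev (aeval (ξ n) (newton k) * aeval (η n) (newton k))) ?_ ?_ ?_ ?_ n le_rfl
  · rw [key, hPπ]
  · rw [LambdaOps.lam_zero, hπ0, map_one]
  · intro k hk hkn
    rw [map_mul, hξν k hk hkn, hην k hk hkn, hmul k hk]
  · intro m _
    exact newton_rel_lam (x * y) m
  · intro m hm
    have h := congrArg ev (universal_mul_newton n m hm)
    rw [map_mul, map_natCast, map_sum] at h
    refine h.trans (Finset.sum_congr rfl fun ab _ => ?_)
    rw [map_mul, map_mul, map_pow, map_neg, map_one]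

include htf h1 hmul hcomp in
lemma lam_lam_of_adams (i j : ℕ) (Q : MvPolynomial (Fin (i * j)) ℤ) (hQ : IsCompPoly i j Q)
    (x : K) :
    LambdaOps.lam j (LambdaOps.lam i x) =
      aeval (fun k : Fin (i * j) => LambdaOps.lam ((k : ℕ) + 1) x) Q := by
  let ev : MvPolynomial (Fin (i * j)) ℤ →ₐ[ℤ] K :=
    aeval (fun c : Fin (i * j) => LambdaOps.lam ((c : ℕ) + 1) x)
  have hξ : ∀ a, a ≤ i * j → ev (ξ₁ (i * j) a) = LambdaOps.lam a x := by
    intro a ha
    rcases a with _ | a
    · rw [ξ₁, map_one, LambdaOps.lam_zero]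
    · rw [ξ₁, dif_pos (by omega)]
      exact aeval_X _ _
  have hξν : ∀ k, 0 < k → k ≤ i * j → ev (aeval (ξ₁ (i * j)) (newton k)) = adamsOp k x := by
    intro k hk hkn
    rw [adamsOp_eq_aeval_newton' x k hk, ← AlgHom.comp_apply, comp_aeval]
    exact newton_congr _ _ k (fun a ha => hξ a (by omega))
  have hQθ : θ (i * j) i j = Q := by
    rw [θ, dif_pos le_rfl]
    apply E_injective (R := ℤ) (m := i * j)
    rw [E_ι₁_Qst]
    exact hQ.1.symm
  have stepA : ∀ c, 0 < c → ∀ m, c * m ≤ i * j →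
      adamsOp c (LambdaOps.lam m x) = ev (Ψ (i * j) c m) := by
    intro c hc m hm
    refine newton_unique htf m (fun m' => adamsOp c (LambdaOps.lam m' x))
      (fun m' => ev (Ψ (i * j) c m')) (fun k => adamsOp (c * k) x)
      (fun k => ev (aeval (ξ₁ (i * j)) (newton (c * k)))) ?_ ?_ ?_ ?_ m le_rfl
    · rw [LambdaOps.lam_zero, h1 c hc, Ψ_zero_right (i * j) c hc, map_one]
    · intro k hk hkm
      exact (hξν (c * k) (Nat.mul_pos hc hk) (le_trans (Nat.mul_le_mul_left c hkm) hm)).symm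
    · intro m' hm'
      have h := congrArg (adamsHom c (h1 c hc) (hmul c hc)) (newton_rel_lam x m')
      rw [map_mul, map_natCast, map_sum] at h
      refine h.trans (Finset.sum_congr rfl fun ab _ => ?_)
      rw [map_mul, map_mul, map_pow, map_neg, map_one]
      change _ * adamsOp c (adamsOp (ab.1 + 1) x) * adamsOp c (LambdaOps.lam ab.2 x) = _
      rw [hcomp c (ab.1 + 1) hc (by omega)]
    · intro m' hm'
      have h := congrArg ev (universal_Ψ_newton (i * j) c hc m'
        (le_trans (Nat.mul_le_mul_left c hm') hm))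
      rw [map_mul, map_natCast, map_sum] at h
      refine h.trans (Finset.sum_congr rfl fun ab _ => ?_)
      rw [map_mul, map_mul, map_pow, map_neg, map_one]
  have key := newton_unique htf j (fun m => LambdaOps.lam m (LambdaOps.lam i x))
    (fun m => ev (θ (i * j) i m)) (fun k => adamsOp k (LambdaOps.lam i x))
    (fun k => ev (Ψ (i * j) k i)) ?_ ?_ ?_ ?_ j le_rfl
  · rw [key, hQθ]
  · rw [LambdaOps.lam_zero, θ_zero_right, map_one]
  · intro k hk hkj
    exact stepA k hk i (by rw [mul_comm]; exact Nat.mul_le_mul_left i hkj)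
  · intro m _
    exact newton_rel_lam (LambdaOps.lam i x) m
  · intro m hm
    have h := congrArg ev (universal_θ_newton (i * j) i m (Nat.mul_le_mul_left i hm))
    rw [map_mul, map_natCast, map_sum] at h
    refine h.trans (Finset.sum_congr rfl fun ab _ => ?_)
    rw [map_mul, map_mul, map_pow, map_neg, map_one]

include htf h1 hmul hcomp in
/-- **Wilkerson-type criterion**: a pre-λ-ring without additive torsion whose Adams operations are
unital, multiplicative and satisfy `ψ^k ∘ ψ^{k'} = ψ^{kk'}` is a special λ-ring. -/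
theorem isSpecial_of_adams : IsSpecial K :=
  ⟨lam_one_eq_zero_of_adams htf h1, lam_mul_of_adams htf hmul,
    lam_lam_of_adams htf h1 hmul hcomp⟩

end Wilkerson

end Groth.Agent.Lib.SpecialLam6c
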