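import Groth.Agent.Lib.LamFil99g
import Groth.Agent.S8699

/-!
# `λ^n z ≡ (-1)^(n+1) n^(d-1) z` modulo `Fil (d+1)` for `z ∈ Fil d` (helper99)

Setting: `K` a binomial ring with its binomial λ-structure, `A` a special λ-ring which is an
augmented `K`-λ-algebra, `Fil` the γ-filtration.

* `Lq_of_mem`: for `d ≥ 1`, `z ∈ Fil d`, `n ≥ 1`:
  `λ^n z - (-1)^(n+1) n^(d-1) z ∈ Fil (d+1)`.
* `gamma_sub_factorial_mem`: for `m ≥ 1`, `z ∈ Fil m`:
  `γ^m z - (-1)^(m-1) (m-1)! z ∈ Fil (m+1)`.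
-/

set_option autoImplicit false

namespace Groth.Agent.Lib.LamFil99

open MvPolynomial Finset _root_.LambdaRing Groth.Agent.Lib.LambdaRing
  Groth.Agent.Lib.LambdaGamma Groth.Agent.Lib.LambdaGamma6 Groth.Agent.Lib.SpecialLam6
  Groth.Agent.Lib.SpecialLam6b Groth.Agent.Lib.SpecialLam6c

universe u v

/-! ## Adams operations of scalars -/

section Scalars

variable {K : Type u} [CommRing K] [LambdaOps K] [BinomialRing K]

lemma adamsOp_binomial (hKb : LambdaRing.IsBinomial K) (k : ℕ) (hk : 1 ≤ k) (x : K) :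
    adamsOp k x = x := by
  obtain ⟨m, rfl⟩ : ∃ m, k = m + 1 := ⟨k - 1, by omega⟩
  rw [adamsOp_eq_aeval_newton]
  refine (newton_spec (fun i => LambdaOps.lam i x) (fun _ => x) (LambdaOps.lam_zero x) ?_ m).symm
  intro m'
  rw [hKb, Groth.Agent.S8699.succ_mul_choose, ← Groth.Agent.S8699.alt_sum_choose, Finset.mul_sum]
  refine Finset.sum_congr rfl fun ab _ => ?_
  rw [hKb]
  ring

variable {A : Type v} [CommRing A] [LambdaOps A] [Algebra K A]

lemma adamsOp_algebraMap (hKb : LambdaRing.IsBinomial K) (hKA : LambdaRing.IsLambdaAlg K A)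
    (k : ℕ) (hk : 1 ≤ k) (κ : K) :
    adamsOp k (algebraMap K A κ) = algebraMap K A κ := by
  obtain ⟨m, rfl⟩ : ∃ m, k = m + 1 := ⟨k - 1, by omega⟩
  conv_rhs => rw [← adamsOp_binomial hKb (m + 1) (by omega) κ]
  rw [adamsOp_eq_aeval_newton, adamsOp_eq_aeval_newton]
  have e : algebraMap K A (aeval (fun i => LambdaOps.lam i κ) (newton (m + 1))) =
      aeval (fun i => algebraMap K A (LambdaOps.lam i κ)) (newton (m + 1)) := by
    have := comp_aeval (R := ℤ) (fun i => LambdaOps.lam i κ) ((algebraMap K A).toIntAlgHom)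
    exact (AlgHom.congr_fun this (newton (m + 1)))
  rw [e]
  refine newton_congr _ _ _ fun i _ => ?_
  exact (hKA i κ).symm

end Scalars

/-! ## The predicate `Lq` -/

section Lq

variable {K : Type u} [CommRing K] [LambdaOps K] [BinomialRing K]
  {A : Type v} [CommRing A] [LambdaOps A] [Algebra K A] (ε : A →ₐ[K] K)

/-- `λ^n z ≡ (-1)^(n+1) n^(d-1) z` modulo `Fil (d+1)`, for all `n ≥ 1`. -/
def Lq (d : ℕ) (z : A) : Prop :=
  ∀ n, 1 ≤ n → LambdaOps.lam n z - (-1) ^ (n + 1) * (n : A) ^ (d - 1) * z ∈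
    gammaFil (ε : A →+* K) (d + 1)

variable (hKb : LambdaRing.IsBinomial K) (hA : LambdaRing.IsSpecial A)
  (hP : ∀ n : ℕ, ∃ P : MvPolynomial (Fin n ⊕ Fin n) ℤ, LambdaRing.IsMulPoly n P)
  (hQ : ∀ i j : ℕ, ∃ Q : MvPolynomial (Fin (i * j)) ℤ, LambdaRing.IsCompPoly i j Q)
  (hε : LambdaRing.IsAugLambdaAlg K A ε)

variable {ε}

include hA hP hQ in
lemma Lq_of_mem_succ {d : ℕ} {z : A} (hz : z ∈ gammaFil (ε : A →+* K) (d + 1)) : Lq ε d z := by
  intro n hn
  exact Ideal.sub_mem _ (lam_mem_gammaFil hA hP hQ hn hz) (Ideal.mul_mem_left _ _ hz)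

include hA hP hQ in
lemma Lq_add {d : ℕ} (hd : 1 ≤ d) {z z' : A} (hz : z ∈ gammaFil (ε : A →+* K) d)
    (hz' : z' ∈ gammaFil (ε : A →+* K) d) (h : Lq ε d z) (h' : Lq ε d z') : Lq ε d (z + z') := by
  intro n hn
  obtain ⟨m, rfl⟩ : ∃ m, n = m + 1 := ⟨n - 1, by omega⟩
  rw [LambdaOps.lam_add, Finset.sum_range_succ, Finset.sum_range_succ', Nat.sub_self,
    LambdaOps.lam_zero, LambdaOps.lam_zero, Nat.sub_zero, one_mul, mul_one]
  have e : ∑ k ∈ range m, LambdaOps.lam (k + 1) z * LambdaOps.lam (m + 1 - (k + 1)) z' +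
        LambdaOps.lam (m + 1) z' + LambdaOps.lam (m + 1) z -
        (-1) ^ (m + 1 + 1) * ((m + 1 : ℕ) : A) ^ (d - 1) * (z + z') =
      ∑ k ∈ range m, LambdaOps.lam (k + 1) z * LambdaOps.lam (m + 1 - (k + 1)) z' +
        (LambdaOps.lam (m + 1) z' - (-1) ^ (m + 1 + 1) * ((m + 1 : ℕ) : A) ^ (d - 1) * z') +
        (LambdaOps.lam (m + 1) z - (-1) ^ (m + 1 + 1) * ((m + 1 : ℕ) : A) ^ (d - 1) * z) := by
    ring
  rw [e]
  refine Ideal.add_mem _ (Ideal.add_mem _ (Ideal.sum_mem _ fun k hk => ?_) (h' _ hn)) (h _ hn)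
  have hk' := Finset.mem_range.1 hk
  exact gammaFil_anti _ (by omega) (mul_mem_gammaFil _ (lam_mem_gammaFil hA hP hQ (by omega) hz)
    (lam_mem_gammaFil hA hP hQ (by omega) hz'))

include hA hP hQ in
/-- multiplicativity of the first-order behaviour -/
lemma Lq_mul {d e : ℕ} (hd : 1 ≤ d) (he : 1 ≤ e) {z z' : A}
    (hz : z ∈ gammaFil (ε : A →+* K) d) (hz' : z' ∈ gammaFil (ε : A →+* K) e)
    (h : Lq ε d z) (h' : Lq ε e z') : Lq ε (d + e) (z * z') := by
  intro n hn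
  have hHL := HL_of_mem hA hP hQ hz
  have hHL' := HL_of_mem hA hP hQ hz'
  have h1 := lam_mul_sub_mem hA hHL hHL' n hn
  have h2 := adamsOp_sub_mem hHL n hn
  have h3 := h n hn
  have h4 := h' n hn
  have hl' : LambdaOps.lam n z' ∈ gammaFil (ε : A →+* K) e := hHL' n hn
  set s : A := (-1) ^ (n + 1) with hs
  have hss : s * s = 1 := by rw [hs, ← mul_pow]; simp
  have hpow : (n : A) * (n : A) ^ (d - 1) * (n : A) ^ (e - 1) = (n : A) ^ (d + e - 1) := by
    rw [← pow_succ', ← pow_add]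
    congr 1
    omega
  have key : LambdaOps.lam n (z * z') - s * (n : A) ^ (d + e - 1) * (z * z') =
      (LambdaOps.lam n (z * z') - adamsOp n z * LambdaOps.lam n z') +
      (adamsOp n z - s * (n : A) * LambdaOps.lam n z) * LambdaOps.lam n z' +
      s * (n : A) * ((LambdaOps.lam n z - s * (n : A) ^ (d - 1) * z) * LambdaOps.lam n z') +
      s * (n : A) * (s * (n : A) ^ (d - 1)) * (z * (LambdaOps.lam n z' - s * (n : A) ^ (e - 1) * z')) := by
    rw [← hpow]
    linear_combination (s * (n : A) * (n : A) ^ (d - 1) * (n : A) ^ (e - 1) * z * z') * hss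
  rw [key]
  refine Ideal.add_mem _ (Ideal.add_mem _ (Ideal.add_mem _ ?_ ?_) ?_) ?_
  · exact gammaFil_anti _ (by omega) h1
  · exact gammaFil_anti _ (by omega) (mul_mem_gammaFil _ h2 hl')
  · exact Ideal.mul_mem_left _ _ (gammaFil_anti _ (by omega) (mul_mem_gammaFil _ h3 hl'))
  · exact Ideal.mul_mem_left _ _ (gammaFil_anti _ (by omega) (mul_mem_gammaFil _ hz h4))

include hKb hA hP hQ hε in
/-- scalars from `K` -/
lemma Lq_algebraMap_mul {d : ℕ} (hd : 1 ≤ d) {z : A} (hz : z ∈ gammaFil (ε : A →+* K) d)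
    (h : Lq ε d z) (κ : K) : Lq ε d (algebraMap K A κ * z) := by
  intro n hn
  have hHL := HL_of_mem hA hP hQ hz
  have h1 := lam_mul_sub_mem hA (HL_level_zero (ε : A →+* K) (algebraMap K A κ)) hHL n hn
  rw [adamsOp_algebraMap hKb hε.isLambdaAlg n hn κ] at h1
  have key : LambdaOps.lam n (algebraMap K A κ * z) -
      (-1) ^ (n + 1) * (n : A) ^ (d - 1) * (algebraMap K A κ * z) =
      (LambdaOps.lam n (algebraMap K A κ * z) - algebraMap K A κ * LambdaOps.lam n z) +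
      algebraMap K A κ * (LambdaOps.lam n z - (-1) ^ (n + 1) * (n : A) ^ (d - 1) * z) := by ring
  rw [key]
  exact Ideal.add_mem _ (gammaFil_anti _ (by omega) h1) (Ideal.mul_mem_left _ _ (h n hn))

end Lq

end Groth.Agent.Lib.LamFil99
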