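import Groth.Agent.Lib.LamFil99i
import Mathlib.RingTheory.PowerSeries.Binomial
import Mathlib.Algebra.MvPolynomial.Expand

/-!
# The split model: `K[x_a]` with line elements the monomials (helper99)

For a binomial ring `K` we equip `MvPolynomial τ K` with the pre-λ-structure
`λ_t(Σ κ_β x^β) = ∏_β (1 + x^β t)^{κ_β}`.
-/

set_option autoImplicit false

namespace Groth.Agent.Lib.LamModel99

open MvPolynomial Finset _root_.LambdaRing

universe u v

section Def

variable {τ : Type v} {K : Type u} [CommRing K] [BinomialRing K]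

/-- `(1 + a t)^κ` -/
noncomputable def bpow (a : MvPolynomial τ K) (κ : K) : PowerSeries (MvPolynomial τ K) :=
  PowerSeries.rescale a (PowerSeries.binomialSeries (MvPolynomial τ K) κ)

lemma coeff_bpow (a : MvPolynomial τ K) (κ : K) (n : ℕ) :
    PowerSeries.coeff n (bpow a κ) = C (Ring.choose κ n) * a ^ n := by
  rw [bpow, PowerSeries.coeff_rescale, PowerSeries.binomialSeries_coeff, Algebra.smul_def, mul_one,
    mul_comm]
  rfl

lemma bpow_zero (a : MvPolynomial τ K) : bpow a (0 : K) = 1 := by
  rw [bpow, PowerSeries.binomialSeries_zero, map_one]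

lemma bpow_add (a : MvPolynomial τ K) (κ κ' : K) : bpow a (κ + κ') = bpow a κ * bpow a κ' := by
  rw [bpow, PowerSeries.binomialSeries_add, map_mul]
  rfl

/-- `κ ↦ (1 + x^β t)^κ` as an additive map -/
noncomputable def monoHom (β : τ →₀ ℕ) : K →+ Additive (PowerSeries (MvPolynomial τ K)) where
  toFun κ := Additive.ofMul (bpow (monomial β 1) κ)
  map_zero' := by rw [bpow_zero]; rfl
  map_add' κ κ' := by rw [bpow_add]; rfl

/-- the λ-series of the model as an additive map to the multiplicative monoid of power series -/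
noncomputable def Lam : MvPolynomial τ K →+ Additive (PowerSeries (MvPolynomial τ K)) :=
  (Finsupp.liftAddHom monoHom).comp AddMonoidAlgebra.coeffAddEquiv.toAddMonoidHom

/-- the λ-series of the model -/
noncomputable def lamS (f : MvPolynomial τ K) : PowerSeries (MvPolynomial τ K) := (Lam f).toMul

lemma lamS_add (f g : MvPolynomial τ K) : lamS (f + g) = lamS f * lamS g := by
  rw [lamS, map_add]; rfl

lemma lamS_zero : lamS (0 : MvPolynomial τ K) = 1 := by
  rw [lamS, map_zero]; rfl

lemma lamS_monomial (β : τ →₀ ℕ) (κ : K) : lamS (monomial β κ) = bpow (monomial β 1) κ := by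
  rw [lamS, Lam]
  change ((Finsupp.liftAddHom monoHom) (AddMonoidAlgebra.coeff (monomial β κ))).toMul = _
  have : AddMonoidAlgebra.coeff (monomial β κ) = Finsupp.single β κ := by
    rfl
  rw [this, Finsupp.liftAddHom_apply_single]
  rfl

lemma constantCoeff_lamS (f : MvPolynomial τ K) : PowerSeries.constantCoeff (lamS f) = 1 := by
  induction f using MvPolynomial.induction_on' with
  | monomial β κ =>
    rw [lamS_monomial, ← PowerSeries.coeff_zero_eq_constantCoeff_apply, coeff_bpow,
      Ring.choose_zero_right, pow_zero, mul_one, map_one]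
  | add p q hp hq => rw [lamS_add, map_mul, hp, hq, mul_one]

lemma coeff_one_lamS (f : MvPolynomial τ K) : PowerSeries.coeff 1 (lamS f) = f := by
  induction f using MvPolynomial.induction_on' with
  | monomial β κ =>
    rw [lamS_monomial, coeff_bpow, Ring.choose_one_right, pow_one, C_mul_monomial, mul_one]
  | add p q hp hq =>
    rw [lamS_add, PowerSeries.coeff_one_mul, hp, hq, constantCoeff_lamS, constantCoeff_lamS,
      mul_one, mul_one]

/-- **the split pre-λ-structure on `K[x_a]`** (a definition, to be used as a local instance). -/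
@[reducible] noncomputable def modelOps : LambdaOps (MvPolynomial τ K) where
  lam n f := PowerSeries.coeff n (lamS f)
  lam_zero f := by
    rw [PowerSeries.coeff_zero_eq_constantCoeff_apply, constantCoeff_lamS]
  lam_one f := coeff_one_lamS f
  lam_add k f g := by
    rw [lamS_add, PowerSeries.coeff_mul, Finset.Nat.sum_antidiagonal_eq_sum_range_succ_mk]

end Def

section Ops

variable {τ : Type v} {K : Type u} [CommRing K] [BinomialRing K]

attribute [local instance] modelOps

lemma lam_def (n : ℕ) (f : MvPolynomial τ K) :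
    LambdaOps.lam n f = PowerSeries.coeff n (lamS f) := rfl

lemma lamSeries_eq (f : MvPolynomial τ K) : lamSeries f = lamS f := by
  ext n
  rw [lamSeries, PowerSeries.coeff_mk, lam_def]

lemma lam_monomial (n : ℕ) (β : τ →₀ ℕ) (κ : K) :
    LambdaOps.lam n (monomial β κ) = monomial (n • β) (Ring.choose κ n) := by
  rw [lam_def, lamS_monomial, coeff_bpow, monomial_pow, one_pow, C_mul_monomial, mul_one]

lemma lam_C (n : ℕ) (κ : K) :
    LambdaOps.lam n (C κ : MvPolynomial τ K) = C (Ring.choose κ n) := by
  rw [← monomial_zero', lam_monomial, smul_zero]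

/-- Adams operations of a monomial -/
lemma adamsOp_monomial (k : ℕ) (hk : 1 ≤ k) (β : τ →₀ ℕ) (κ : K) :
    adamsOp k (monomial β κ) = monomial (k • β) κ := by
  obtain ⟨m, rfl⟩ : ∃ m, k = m + 1 := ⟨k - 1, by omega⟩
  rw [Groth.Agent.Lib.SpecialLam6.adamsOp_eq_aeval_newton]
  refine (Groth.Agent.Lib.SpecialLam6.newton_spec (fun i => LambdaOps.lam i (monomial β κ))
    (fun i => monomial (i • β) κ) (LambdaOps.lam_zero _) ?_ m).symm
  intro m'
  simp only [lam_monomial]
  have e : ∀ ab ∈ antidiagonal m', (-1 : MvPolynomial τ K) ^ ab.1 * monomial ((ab.1 + 1) • β) κ *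
      monomial (ab.2 • β) (Ring.choose κ ab.2) =
      monomial ((m' + 1) • β) ((-1) ^ ab.1 * Ring.choose κ ab.2 * κ) := by
    intro ab hab
    have h1 : (-1 : MvPolynomial τ K) ^ ab.1 = C ((-1 : K) ^ ab.1) := by
      rw [map_pow, map_neg, map_one]
    rw [h1, C_mul_monomial, monomial_mul, ← add_smul]
    have : ab.1 + 1 + ab.2 = m' + 1 := by
      have := Finset.mem_antidiagonal.1 hab; omega
    rw [this]
    congr 1
    ring
  rw [Finset.sum_congr rfl e, ← map_sum (monomial ((m' + 1) • β)), ← Finset.sum_mul,
    Groth.Agent.S8699.alt_sum_choose]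
  have h2 : (((m' + 1 : ℕ) : MvPolynomial τ K)) = C ((m' + 1 : ℕ) : K) := by
    rw [map_natCast]
  rw [h2, C_mul_monomial, Groth.Agent.S8699.succ_mul_choose, mul_comm]

lemma adamsOp_eq_expand (k : ℕ) (hk : 1 ≤ k) (f : MvPolynomial τ K) :
    adamsOp k f = expand k f := by
  induction f using MvPolynomial.induction_on' with
  | monomial β κ => rw [adamsOp_monomial k hk, expand_monomial]
  | add p q hp hq =>
    rw [Groth.Agent.Lib.SpecialLam6b.adamsOp_add, hp, hq, map_add]

/-- **the split model is a special λ-ring** -/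
theorem model_isSpecial : IsSpecial (MvPolynomial τ K) := by
  refine Groth.Agent.Lib.SpecialLam6c.isSpecial_of_adams ?_ ?_ ?_ ?_
  · intro n f hn h
    ext d
    have := congrArg (coeff d) h
    rw [← map_natCast (C : K →+* MvPolynomial τ K), coeff_C_mul, coeff_zero] at this
    rw [coeff_zero]
    have h3 : (n : K) * coeff d f = n • coeff d f := by rw [nsmul_eq_mul]
    rw [h3] at this
    have htf : IsAddTorsionFree K := BinomialRing.toIsAddTorsionFree
    exact (nsmul_eq_zero_iff_right (by omega : n ≠ 0)).1 this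
  · intro k hk
    rw [adamsOp_eq_expand k hk, map_one]
  · intro k hk x y
    rw [adamsOp_eq_expand k hk, adamsOp_eq_expand k hk, adamsOp_eq_expand k hk, map_mul]
  · intro k k' hk hk' x
    rw [adamsOp_eq_expand k hk, adamsOp_eq_expand k' hk',
      adamsOp_eq_expand (k * k') (Nat.mul_pos hk hk'), expand_mul]

end Ops

end Groth.Agent.Lib.LamModel99
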