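import Groth.Agent.Lib.LamModel99a

/-!
# The γ-filtration of the split model is contained in the adic filtration (helper99)

In `K[x_a]` with the split λ-structure, let `ρ` be the automorphism `x_a ↦ x_a + 1` and
`Jf i = ρ⁻¹((x_a)^i)` (the `i`-th power of the ideal generated by the `x_a - 1`).
Then `γ^i(f) ∈ Jf i` for every `f` with `f(1) = 0`.
-/

set_option autoImplicit false

namespace Groth.Agent.Lib.LamModel99

open MvPolynomial Finset _root_.LambdaRing Groth.Agent.Lib.LambdaRing
  Groth.Agent.Lib.LambdaGamma Groth.Agent.Lib.LambdaGamma6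

universe u v

/-! ## generalities on `γ`-bounded elements for a multiplicative filtration -/

section TF

variable {A : Type*} [CommRing A] [LambdaOps A] (F : ℕ → Ideal A)

/-- `γ^i z ∈ F i` for all `i`. -/
def TF (z : A) : Prop := ∀ i, gamma i z ∈ F i

variable {F}

lemma TF_zero (h0 : F 0 = ⊤) : TF F (0 : A) := by
  intro i
  rcases i with _ | i
  · rw [h0]; trivial
  · rw [gamma_succ_zero]; exact Ideal.zero_mem _

lemma TF_add (hmul : ∀ a b : ℕ, ∀ x ∈ F a, ∀ y ∈ F b, x * y ∈ F (a + b)) {z z' : A}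
    (hz : TF F z) (hz' : TF F z') : TF F (z + z') := by
  intro i
  rw [gamma_add]
  refine Ideal.sum_mem _ fun a ha => ?_
  have ha' : a ≤ i := by have := Finset.mem_range.1 ha; omega
  have := hmul a (i - a) _ (hz a) _ (hz' (i - a))
  rwa [Nat.add_sub_cancel' ha'] at this

lemma TF_sum (h0 : F 0 = ⊤) (hmul : ∀ a b : ℕ, ∀ x ∈ F a, ∀ y ∈ F b, x * y ∈ F (a + b))
    {ι : Type*} (s : Finset ι) (f : ι → A) (h : ∀ j ∈ s, TF F (f j)) : TF F (∑ j ∈ s, f j) := by
  classical
  induction s using Finset.induction_on with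
  | empty => rw [Finset.sum_empty]; exact TF_zero h0
  | insert a s ha ih =>
    rw [Finset.sum_insert ha]
    exact TF_add hmul (h a (Finset.mem_insert_self a s))
      (ih fun j hj => h j (Finset.mem_insert_of_mem hj))

end TF

section Model

variable {τ : Type v} {K : Type u} [CommRing K] [BinomialRing K]

attribute [local instance] modelOps

lemma model_isLambdaAlg [LambdaOps K] (hKb : IsBinomial K) :
    IsLambdaAlg K (MvPolynomial τ K) := by
  intro n κ
  change C (LambdaOps.lam n κ) = LambdaOps.lam n (C κ)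
  rw [lam_C, hKb]

lemma choose_mul_choose_shift (κ : K) {a i : ℕ} (h : a ≤ i) :
    Ring.choose κ a * Ring.choose ((i : K) - 1 - κ) (i - a) =
      (-1) ^ (i - a) * (i.choose a : K) * Ring.choose κ i := by
  have h1 : (i : K) - 1 - κ = -(κ - i + 1) := by ring
  have h2 : κ - (i : K) + 1 + ((i - a : ℕ) : K) - 1 = κ - a := by rw [Nat.cast_sub h]; ring
  have h3 := Ring.choose_smul_choose κ h
  rw [h1, Ring.choose_neg, h2, Units.smul_def, zsmul_eq_mul, Int.cast_negOnePow_natCast,
    mul_left_comm, ← h3, nsmul_eq_mul]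
  ring

/-- `γ_t(κ (ℓ - 1)) = (1 + (ℓ - 1) t)^κ` for the line element `ℓ = x^β`. -/
lemma gamma_monomial_sub (i : ℕ) (β : τ →₀ ℕ) (κ : K) :
    gamma i (monomial β κ - C κ) = C (Ring.choose κ i) * (monomial β 1 - 1) ^ i := by
  have h1 := (model_isSpecial (τ := τ) (K := K)).lam_one_eq_zero
  rw [gamma_eq_lam h1]
  have e : monomial β κ - C κ + (i : MvPolynomial τ K) - 1 =
      monomial β κ + C ((i : K) - 1 - κ) := by
    rw [map_sub, map_sub, map_natCast, map_one]; ring
  rw [e, LambdaOps.lam_add]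
  simp only [lam_monomial, lam_C]
  rw [sub_eq_add_neg (monomial β 1) 1, add_pow, Finset.mul_sum]
  refine Finset.sum_congr rfl fun a ha => ?_
  have ha' : a ≤ i := by have := Finset.mem_range.1 ha; omega
  rw [monomial_pow, one_pow]
  have e1 : (monomial (a • β) (Ring.choose κ a) : MvPolynomial τ K) *
      C (Ring.choose ((i : K) - 1 - κ) (i - a)) =
      monomial (a • β) (Ring.choose κ a * Ring.choose ((i : K) - 1 - κ) (i - a)) := by
    rw [mul_comm, C_mul_monomial, mul_comm]
  have h2 : ((-1 : MvPolynomial τ K)) ^ (i - a) = C ((-1 : K) ^ (i - a)) := by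
    rw [map_pow, map_neg, map_one]
  have h3 : ((i.choose a : ℕ) : MvPolynomial τ K) = C ((i.choose a : ℕ) : K) := by
    rw [map_natCast]
  rw [e1, choose_mul_choose_shift κ ha', h2, h3, mul_assoc (monomial (a • β) 1), ← C_mul,
    mul_comm (monomial (a • β) 1), C_mul_monomial, C_mul_monomial]
  congr 1
  ring

/-- evaluation at `x = 1` -/
noncomputable def aug1 : MvPolynomial τ K →ₐ[K] K := aeval (fun _ => (1 : K))

/-- the shift `x_a ↦ x_a + 1` -/
noncomputable def shift : MvPolynomial τ K →ₐ[K] MvPolynomial τ K := aeval (fun a => X a + 1)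

/-- the adic filtration with respect to the ideal `(x_a - 1)`, in shifted coordinates -/
noncomputable def Jf (i : ℕ) : Ideal (MvPolynomial τ K) :=
  Ideal.comap (shift (τ := τ) (K := K)) (idealOfVars τ K ^ i)

omit [BinomialRing K] in
lemma mem_Jf {i : ℕ} {f : MvPolynomial τ K} : f ∈ Jf i ↔ shift f ∈ idealOfVars τ K ^ i := Iff.rfl

omit [BinomialRing K] in
lemma Jf_zero : Jf (τ := τ) (K := K) 0 = ⊤ := by
  rw [Jf, pow_zero, Ideal.one_eq_top, Ideal.comap_top]

omit [BinomialRing K] in
lemma Jf_mul {a b : ℕ} {x y : MvPolynomial τ K} (hx : x ∈ Jf a) (hy : y ∈ Jf b) :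
    x * y ∈ Jf (a + b) := by
  rw [mem_Jf, map_mul, pow_add]
  exact Ideal.mul_mem_mul hx hy

omit [BinomialRing K] in
lemma pow_mem_Jf {x : MvPolynomial τ K} (hx : x ∈ Jf 1) (i : ℕ) : x ^ i ∈ Jf i := by
  rw [mem_Jf, map_pow]
  have := Ideal.pow_mem_pow (mem_Jf.1 hx) i
  rwa [pow_one] at this

omit [BinomialRing K] in
lemma constantCoeff_shift (f : MvPolynomial τ K) : constantCoeff (shift f) = aug1 f := by
  have : (constantCoeff (σ := τ) (R := K)).comp (shift (τ := τ) (K := K)).toRingHom =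
      (aug1 (τ := τ) (K := K)).toRingHom := by
    apply MvPolynomial.ringHom_ext
    · intro r
      simp [shift, aug1]
    · intro a
      simp [shift, aug1]
  exact RingHom.congr_fun this f

omit [BinomialRing K] in
lemma mem_Jf_one {f : MvPolynomial τ K} : f ∈ Jf 1 ↔ aug1 f = 0 := by
  rw [mem_Jf, mem_pow_idealOfVars_iff', ← constantCoeff_shift, constantCoeff_eq]
  constructor
  · intro h
    exact h 0 (by simp)
  · intro h x hx
    have : x = 0 := by
      rw [← Finsupp.degree_eq_zero_iff]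
      omega
    rw [this, h]

omit [BinomialRing K] in
lemma aug1_eq_sum (f : MvPolynomial τ K) : aug1 f = ∑ β ∈ f.support, coeff β f := by
  conv_lhs => rw [f.as_sum]
  rw [map_sum]
  refine Finset.sum_congr rfl fun β _ => ?_
  simp [aug1, aeval_monomial]

/-- **In the split model, `γ^i(f) ∈ (x_a - 1)^i` whenever `f(1) = 0`.** -/
theorem model_TF (f : MvPolynomial τ K) (hf : aug1 f = 0) : TF Jf f := by
  have hdec : f = ∑ β ∈ f.support, (monomial β (coeff β f) - C (coeff β f)) := by
    rw [Finset.sum_sub_distrib, ← f.as_sum, ← map_sum, ← aug1_eq_sum, hf, map_zero, sub_zero]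
  rw [hdec]
  refine TF_sum Jf_zero (fun a b x hx y hy => Jf_mul hx hy) _ _ fun β _ => ?_
  intro i
  rw [gamma_monomial_sub]
  refine Ideal.mul_mem_left _ _ (pow_mem_Jf ?_ i)
  rw [mem_Jf_one, map_sub, aug1, aeval_monomial, map_one (aeval _)]
  simp

lemma lam_X_eq_zero (a : τ) (j : ℕ) (hj : 2 ≤ j) :
    LambdaOps.lam j (X a : MvPolynomial τ K) = 0 := by
  rw [X, lam_monomial]
  have : Ring.choose (1 : K) j = 0 := by
    have h := Ring.choose_natCast (R := K) 1 j
    rw [Nat.cast_one] at h
    rw [h, Nat.choose_eq_zero_of_lt (by omega), Nat.cast_zero]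
  rw [this, monomial_zero]

/-- `γ^k(Σ_a (x_a - 1)) = e_k(x - 1)`. -/
theorem gamma_sum_X_sub_one [Fintype τ] (k : ℕ) :
    gamma k (∑ a : τ, ((X a : MvPolynomial τ K) - 1)) =
      aeval (fun a : τ => (X a : MvPolynomial τ K) - 1) (esymm τ K k) := by
  classical
  have h1 := (model_isSpecial (τ := τ) (K := K)).lam_one_eq_zero
  rw [← coeff_gammaSeries, Groth.Agent.Lib.LambdaGamma.gammaSeries_sum]
  have : ∀ a ∈ (Finset.univ : Finset τ), gammaSeries ((X a : MvPolynomial τ K) - 1) =
      1 + PowerSeries.C ((X a : MvPolynomial τ K) - 1) * PowerSeries.X := fun a _ =>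
    gammaSeries_sub_one h1 (X a) (lam_X_eq_zero a)
  rw [Finset.prod_congr rfl this, coeff_prod_one_add, esymm, map_sum]
  refine Finset.sum_congr rfl fun t _ => ?_
  rw [map_prod]
  refine Finset.prod_congr rfl fun a _ => ?_
  rw [aeval_X]

end Model

end Groth.Agent.Lib.LamModel99
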