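import Groth.Agent.Lib.LamModel99b

/-!
# Algebra maps commuting with the λ-operations (helper99)

For a `K`-algebra map `φ : B → M` between special `K`-λ-algebras, the set of `b` with
`φ (λ^k b) = λ^k (φ b)` for all `k` is a `K`-subalgebra stable under the `λ^j` and `γ^j`;
and it contains `x` as soon as `φ (γ^k x) = γ^k (φ x)` for all `k`.
-/

set_option autoImplicit false

namespace Groth.Agent.Lib.LamModel99

open MvPolynomial Finset _root_.LambdaRing Groth.Agent.Lib.LambdaRing
  Groth.Agent.Lib.LambdaGamma Groth.Agent.Lib.LambdaGamma6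

universe u v w

section Comm

variable {K : Type u} [CommRing K] [LambdaOps K]
  {B : Type v} [CommRing B] [LambdaOps B] [Algebra K B]
  {M : Type w} [CommRing M] [LambdaOps M] [Algebra K M]
  (φ : B →ₐ[K] M)

/-- `φ` commutes with all `λ^k` at `b`. -/
def Comm (b : B) : Prop := ∀ k, φ (LambdaOps.lam k b) = LambdaOps.lam k (φ b)

variable {φ}

lemma Comm_algebraMap (hKB : IsLambdaAlg K B) (hKM : IsLambdaAlg K M) (κ : K) :
    Comm φ (algebraMap K B κ) := by
  intro k
  rw [← hKB, AlgHom.commutes, AlgHom.commutes, hKM]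

lemma Comm_natCast (hKB : IsLambdaAlg K B) (hKM : IsLambdaAlg K M) (n : ℕ) :
    Comm φ (n : B) := by
  have := Comm_algebraMap (φ := φ) hKB hKM (n : K)
  rwa [map_natCast] at this

lemma Comm_add {b b' : B} (hb : Comm φ b) (hb' : Comm φ b') : Comm φ (b + b') := by
  intro k
  rw [LambdaOps.lam_add, map_add, LambdaOps.lam_add, map_sum]
  refine Finset.sum_congr rfl fun i _ => ?_
  rw [map_mul, hb, hb']

lemma map_aeval_int {σ : Type*} (f : σ → B) (P : MvPolynomial σ ℤ) :
    φ (aeval f P) = aeval (fun s => φ (f s)) P := by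
  have := comp_aeval (R := ℤ) f ((φ : B →+* M).toIntAlgHom)
  exact AlgHom.congr_fun this P

lemma Comm_mul (hB : IsSpecial B) (hM : IsSpecial M)
    (hP : ∀ n : ℕ, ∃ P : MvPolynomial (Fin n ⊕ Fin n) ℤ, IsMulPoly n P)
    {b b' : B} (hb : Comm φ b) (hb' : Comm φ b') : Comm φ (b * b') := by
  intro k
  obtain ⟨P, hPk⟩ := hP k
  rw [hB.lam_mul k P hPk, map_mul, hM.lam_mul k P hPk, map_aeval_int]
  congr 2
  funext s
  rcases s with s | s
  · exact hb _
  · exact hb' _

lemma Comm_lam (hB : IsSpecial B) (hM : IsSpecial M)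
    (hQ : ∀ i j : ℕ, ∃ Q : MvPolynomial (Fin (i * j)) ℤ, IsCompPoly i j Q)
    {b : B} (hb : Comm φ b) (j : ℕ) : Comm φ (LambdaOps.lam j b) := by
  intro k
  obtain ⟨Q, hQk⟩ := hQ j k
  rw [hB.lam_lam j k Q hQk, hb j, hM.lam_lam j k Q hQk, map_aeval_int]
  congr 2
  funext s
  exact hb _

lemma map_gamma_of_Comm {b : B} (hb : Comm φ b) (i : ℕ) : φ (gamma i b) = gamma i (φ b) := by
  rw [gamma, gamma]
  split_ifs with h
  · rw [map_one]
  · rw [map_sum]
    refine Finset.sum_congr rfl fun j _ => ?_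
    rw [map_mul, map_natCast]
    split_ifs with hj
    · rw [map_zero]
    · rw [hb j]

lemma Comm_gamma (hB : IsSpecial B) (hM : IsSpecial M) (hKB : IsLambdaAlg K B)
    (hKM : IsLambdaAlg K M)
    (hQ : ∀ i j : ℕ, ∃ Q : MvPolynomial (Fin (i * j)) ℤ, IsCompPoly i j Q)
    {b : B} (hb : Comm φ b) (j : ℕ) : Comm φ (gamma j b) := by
  rcases j with _ | j
  · rw [gamma_zero_eq]
    have := Comm_natCast (φ := φ) hKB hKM 1
    rwa [Nat.cast_one] at this
  · rw [gamma_eq_lam hB.lam_one_eq_zero]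
    have e : b + ((j + 1 : ℕ) : B) - 1 = b + (j : B) := by push_cast; ring
    rw [e]
    exact Comm_lam hB hM hQ (Comm_add hb (Comm_natCast hKB hKM j)) _

/-- if `φ` commutes with the `γ^k` at `x`, it commutes with the `λ^k` at `x`. -/
lemma Comm_of_gamma (hB : IsSpecial B) (hM : IsSpecial M) (hKB : IsLambdaAlg K B)
    (hKM : IsLambdaAlg K M) {x : B} (hx : ∀ k, φ (gamma k x) = gamma k (φ x)) : Comm φ x := by
  intro k
  set c : K := -((k : K) - 1) with hc
  have hcB : Comm φ (algebraMap K B c) := Comm_algebraMap hKB hKM c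
  have e1 : LambdaOps.lam k x = gamma k (x + algebraMap K B c) := by
    rw [gamma_eq_lam hB.lam_one_eq_zero]
    congr 1
    rw [hc, map_neg, map_sub, map_natCast, map_one]; ring
  have e2 : LambdaOps.lam k (φ x) = gamma k (φ x + algebraMap K M c) := by
    rw [gamma_eq_lam hM.lam_one_eq_zero]
    congr 1
    rw [hc, map_neg, map_sub, map_natCast, map_one]; ring
  rw [e1, e2, gamma_add, gamma_add, map_sum]
  refine Finset.sum_congr rfl fun i _ => ?_
  rw [map_mul, hx, map_gamma_of_Comm hcB, AlgHom.commutes]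

/-- `φ` commutes with the λ-operations everywhere as soon as it does on algebra generators. -/
theorem Comm_of_adjoin (hB : IsSpecial B) (hM : IsSpecial M) (hKB : IsLambdaAlg K B)
    (hKM : IsLambdaAlg K M)
    (hP : ∀ n : ℕ, ∃ P : MvPolynomial (Fin n ⊕ Fin n) ℤ, IsMulPoly n P)
    (S : Set B) (hS : ∀ s ∈ S, Comm φ s) (hgen : Algebra.adjoin K S = ⊤) (b : B) : Comm φ b := by
  have hb : b ∈ Algebra.adjoin K S := by rw [hgen]; trivial
  induction hb using Algebra.adjoin_induction with
  | mem s hs => exact hS s hs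
  | algebraMap κ => exact Comm_algebraMap hKB hKM κ
  | add b b' _ _ hb hb' => exact Comm_add hb hb'
  | mul b b' _ _ hb hb' => exact Comm_mul hB hM hP hb hb'

end Comm

end Groth.Agent.Lib.LamModel99
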