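import Groth.Agent.Lib.LamModel99c
import Mathlib.RingTheory.AlgebraicIndependent.Basic

/-!
# The γ-filtration of `K[γ^1 x, …, γ^n x]` is the weight filtration (helper99)
-/

set_option autoImplicit false

namespace Groth.Agent.Lib.LamModel99

open MvPolynomial Finset _root_.LambdaRing Groth.Agent.Lib.LambdaRing
  Groth.Agent.Lib.LambdaGamma Groth.Agent.Lib.LambdaGamma6 Groth.Agent.Lib.LamFil99

universe u v

section Free

variable {K : Type u} [CommRing K] [LambdaOps K] [BinomialRing K]
  {B : Type v} [CommRing B] [LambdaOps B] [Algebra K B]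

attribute [local instance] modelOps

/-- the weight filtration of `B` with respect to the elements `γ^{j+1} x`, `j < n` -/
def Wf (n : ℕ) (x : B) (k : ℕ) : Ideal B :=
  Ideal.span {m : B | ∃ e : Fin n → ℕ, k ≤ ∑ j : Fin n, ((j : ℕ) + 1) * e j ∧
    m = ∏ j : Fin n, gamma ((j : ℕ) + 1) x ^ e j}

lemma Wf_zero (n : ℕ) (x : B) : Wf n x 0 = ⊤ := by
  rw [Ideal.eq_top_iff_one]
  exact Ideal.subset_span ⟨fun _ => 0, Nat.zero_le _, by simp⟩

lemma Wf_anti (n : ℕ) (x : B) {k k' : ℕ} (h : k ≤ k') : Wf n x k' ≤ Wf n x k := by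
  refine Ideal.span_mono ?_
  rintro m ⟨e, he, rfl⟩
  exact ⟨e, le_trans h he, rfl⟩

lemma Wf_mul (n : ℕ) (x : B) {a b : ℕ} {y y' : B} (hy : y ∈ Wf n x a) (hy' : y' ∈ Wf n x b) :
    y * y' ∈ Wf n x (a + b) := by
  have h : Wf n x a * Wf n x b ≤ Wf n x (a + b) := by
    rw [Wf, Wf, Ideal.span_mul_span']
    refine Ideal.span_le.2 ?_
    rintro _ ⟨_, ⟨e, he, rfl⟩, _, ⟨e', he', rfl⟩, rfl⟩
    refine Ideal.subset_span ⟨fun j => e j + e' j, ?_, ?_⟩
    · simp only [Nat.mul_add, Finset.sum_add_distrib]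
      exact Nat.add_le_add he he'
    · change (∏ j, gamma (↑j + 1) x ^ e j) * (∏ j, gamma (↑j + 1) x ^ e' j) = _
      rw [← Finset.prod_mul_distrib]
      refine Finset.prod_congr rfl fun j _ => ?_
      rw [pow_add]
  exact h (Ideal.mul_mem_mul hy hy')

/-- a polynomial in the `γ^{j+1} x` all of whose monomials have weight `≥ i` lies in `Wf i`. -/
lemma aeval_mem_Wf (n : ℕ) (x : B) (q : MvPolynomial (Fin n) K) (i : ℕ)
    (hq : ∀ d ∈ q.support, i ≤ wt d) :
    aeval (fun j : Fin n => gamma ((j : ℕ) + 1) x) q ∈ Wf n x i := by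
  rw [q.as_sum, map_sum]
  refine Ideal.sum_mem _ fun d hd => ?_
  rw [aeval_monomial]
  refine Ideal.mul_mem_left _ _ (Ideal.subset_span ⟨fun j => d j, ?_, ?_⟩)
  · refine le_trans (hq d hd) (le_of_eq ?_)
    rw [wt]
    exact Finset.sum_subset (Finset.subset_univ _) fun k _ hk => by
      rw [Finsupp.notMem_support_iff.1 hk, Nat.mul_zero]
  · rw [Finsupp.prod_fintype]
    intro j
    rw [pow_zero]

variable (hKb : IsBinomial K) (hB : IsSpecial B)
  (hP : ∀ n : ℕ, ∃ P : MvPolynomial (Fin n ⊕ Fin n) ℤ, IsMulPoly n P)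
  (hQ : ∀ i j : ℕ, ∃ Q : MvPolynomial (Fin (i * j)) ℤ, IsCompPoly i j Q)
  (ε : B →ₐ[K] K) (hε : IsAugLambdaAlg K B ε)
  (n : ℕ) (x : B) (hx : ε x = 0) (hγ : ∀ k : ℕ, n < k → gamma k x = 0)
  (hind : AlgebraicIndependent K (fun j : Fin n => gamma ((j : ℕ) + 1) x))
  (hgen : Algebra.adjoin K (Set.range fun j : Fin n => gamma ((j : ℕ) + 1) x) = ⊤)

include hε hx in
lemma aug_gamma_eq_zero (k : ℕ) (hk : 1 ≤ k) : ε (gamma k x) = 0 := by
  rw [gamma, if_neg (by omega), map_sum]
  refine Finset.sum_eq_zero fun j _ => ?_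
  rw [map_mul]
  split_ifs with hj
  · rw [map_zero, mul_zero]
  · rw [hε.map_lam, hx, lam_zero_right (by omega), mul_zero]

/-- the sum of the `x_a - 1` in the model -/
noncomputable def zN (n : ℕ) : MvPolynomial (Fin n) K := ∑ a : Fin n, ((X a : MvPolynomial (Fin n) K) - 1)

/-- the images of the generators in the model -/
noncomputable def gN (n : ℕ) (j : Fin n) : MvPolynomial (Fin n) K :=
  aeval (fun a : Fin n => (X a : MvPolynomial (Fin n) K) - 1) (esymm (Fin n) K ((j : ℕ) + 1))

include hind hgen in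
lemma aeval_bijective :
    Function.Bijective (aeval (R := K) (fun j : Fin n => gamma ((j : ℕ) + 1) x)) := by
  refine ⟨hind, ?_⟩
  rw [← AlgHom.range_eq_top, ← Algebra.adjoin_range_eq_range_aeval, hgen]

/-- the coordinate isomorphism `K[Y_1, …, Y_n] ≃ B` -/
noncomputable def psi : MvPolynomial (Fin n) K ≃ₐ[K] B :=
  AlgEquiv.ofBijective (aeval (R := K) (fun j : Fin n => gamma ((j : ℕ) + 1) x))
    (aeval_bijective n x hind hgen)

/-- the comparison map to the split model -/
noncomputable def phi : B →ₐ[K] MvPolynomial (Fin n) K :=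
  (aeval (R := K) (gN (K := K) n)).comp (psi n x hind hgen).symm.toAlgHom

lemma psi_apply (q : MvPolynomial (Fin n) K) :
    psi n x hind hgen q = aeval (fun j : Fin n => gamma ((j : ℕ) + 1) x) q := rfl

lemma phi_psi (q : MvPolynomial (Fin n) K) :
    phi n x hind hgen (psi n x hind hgen q) = aeval (gN (K := K) n) q := by
  rw [phi, AlgHom.comp_apply]
  congr 1
  exact (psi n x hind hgen).symm_apply_apply q

omit [LambdaOps K] in
lemma aug1_zN : aug1 (zN (K := K) n) = 0 := by
  rw [zN, map_sum]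
  refine Finset.sum_eq_zero fun a _ => ?_
  simp [aug1]

omit [LambdaOps K] in
lemma gamma_zN (k : ℕ) :
    gamma k (zN (K := K) n) =
      aeval (fun a : Fin n => (X a : MvPolynomial (Fin n) K) - 1) (esymm (Fin n) K k) :=
  gamma_sum_X_sub_one k

include hγ in
lemma phi_gamma (k : ℕ) : phi n x hind hgen (gamma k x) = gamma k (zN (K := K) n) := by
  rcases Nat.eq_zero_or_pos k with rfl | hk
  · rw [gamma_zero_eq, gamma_zero_eq, map_one]
  · rcases Nat.lt_or_ge n k with hlt | hle
    · rw [hγ k hlt, map_zero, gamma_zN, esymm_eq_zero_of_card_lt _ _ (by simpa using hlt),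
        map_zero]
    · have e : gamma k x = psi n x hind hgen (X ⟨k - 1, by omega⟩) := by
        rw [psi_apply, aeval_X]
        congr 1
        change k = k - 1 + 1
        omega
      rw [e, phi_psi, aeval_X, gN, gamma_zN]
      congr 2
      change k - 1 + 1 = k
      omega

include hγ in
lemma phi_x : phi n x hind hgen x = zN (K := K) n := by
  have := phi_gamma n x hγ hind hgen 1
  rwa [gamma_one_eq, gamma_one_eq] at this

include hKb hB hP hQ hε hγ in
lemma phi_comm (b : B) : Comm (phi n x hind hgen) b := by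
  have hM : IsSpecial (MvPolynomial (Fin n) K) := model_isSpecial
  have hKM : IsLambdaAlg K (MvPolynomial (Fin n) K) := model_isLambdaAlg hKb
  have hcx : Comm (phi n x hind hgen) x := by
    refine Comm_of_gamma hB hM hε.isLambdaAlg hKM fun k => ?_
    rw [phi_x n x hγ hind hgen, phi_gamma n x hγ hind hgen]
  refine Comm_of_adjoin hB hM hε.isLambdaAlg hKM hP _ ?_ hgen b
  rintro _ ⟨j, rfl⟩
  exact Comm_gamma hB hM hε.isLambdaAlg hKM hQ hcx _

include hε hx in
lemma aug1_phi (z : B) : aug1 (phi n x hind hgen z) = ε z := by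
  obtain ⟨q, rfl⟩ := (psi n x hind hgen).surjective z
  rw [phi_psi]
  have h : (aug1 (τ := Fin n) (K := K)).comp (aeval (R := K) (gN (K := K) n)) =
      ε.comp (psi n x hind hgen).toAlgHom := by
    apply MvPolynomial.algHom_ext
    intro j
    rw [AlgHom.comp_apply, AlgHom.comp_apply, aeval_X]
    change _ = ε (psi n x hind hgen (X j))
    rw [psi_apply, aeval_X, aug_gamma_eq_zero ε hε x hx _ (by omega), gN, ← gamma_zN]
    have hT := model_TF (zN (K := K) n) (aug1_zN n) ((j : ℕ) + 1)
    have h1 : Jf (τ := Fin n) (K := K) ((j : ℕ) + 1) ≤ Jf 1 :=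
      Ideal.comap_mono (Ideal.pow_le_pow_right (by omega))
    exact mem_Jf_one.1 (h1 hT)
  exact AlgHom.congr_fun h q

omit [LambdaOps K] [BinomialRing K] in
lemma shift_gN (j : Fin n) : shift (gN (K := K) n j) = esymm (Fin n) K ((j : ℕ) + 1) := by
  rw [gN, shift]
  have := comp_aeval (R := K) (fun a : Fin n => (X a : MvPolynomial (Fin n) K) - 1)
    (aeval (R := K) (fun a : Fin n => (X a : MvPolynomial (Fin n) K) + 1))
  have h2 := AlgHom.congr_fun this (esymm (Fin n) K ((j : ℕ) + 1))
  rw [AlgHom.comp_apply] at h2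
  rw [h2]
  have h3 : (fun a : Fin n => (aeval (R := K) fun a : Fin n => (X a : MvPolynomial (Fin n) K) + 1)
      ((X a : MvPolynomial (Fin n) K) - 1)) = X := by
    funext a
    rw [map_sub, aeval_X, map_one, add_sub_cancel_right]
  rw [h3, aeval_X_left, AlgHom.id_apply]

omit [LambdaOps K] [BinomialRing K] in
lemma shift_aeval_gN (q : MvPolynomial (Fin n) K) :
    shift (aeval (R := K) (gN (K := K) n) q) = E K n q := by
  have := comp_aeval (R := K) (gN (K := K) n) (shift (τ := Fin n) (K := K))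
  have h2 := AlgHom.congr_fun this q
  rw [AlgHom.comp_apply] at h2
  rw [h2, E]
  congr 2
  funext j
  exact shift_gN n j

include hKb hB hP hQ hε hx hγ hind hgen in
/-- **key**: `γ^i z` has weight `≥ i` for `ε z = 0`. -/
theorem gamma_mem_Wf (z : B) (hz : ε z = 0) (i : ℕ) : gamma i z ∈ Wf n x i := by
  obtain ⟨q, hq⟩ := (psi n x hind hgen).surjective (gamma i z)
  have h1 : phi n x hind hgen (gamma i z) = gamma i (phi n x hind hgen z) :=
    map_gamma_of_Comm (phi_comm hKb hB hP hQ ε hε n x hγ hind hgen z) i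
  have h2 : gamma i (phi n x hind hgen z) ∈ Jf (τ := Fin n) (K := K) i :=
    model_TF _ (by rw [aug1_phi ε hε n x hx hind hgen, hz]) i
  rw [← h1, ← hq, phi_psi, mem_Jf, shift_aeval_gN] at h2
  rw [← hq, psi_apply]
  exact aeval_mem_Wf n x q i (wt_ge_of_E_mem q i h2)

omit [LambdaOps K] [BinomialRing K] [Algebra K B] in
lemma prod_mem_gammaFil (ε' : B →+* K) {ι : Type*} (s : Finset ι) (f : ι → B) (w : ι → ℕ)
    (h : ∀ i ∈ s, f i ∈ gammaFil ε' (w i)) : ∏ i ∈ s, f i ∈ gammaFil ε' (∑ i ∈ s, w i) := by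
  classical
  induction s using Finset.induction_on with
  | empty => rw [Finset.prod_empty, Finset.sum_empty, gammaFil_zero]; trivial
  | insert a s ha ih =>
    rw [Finset.prod_insert ha, Finset.sum_insert ha]
    exact mul_mem_gammaFil ε' (h a (Finset.mem_insert_self a s))
      (ih fun i hi => h i (Finset.mem_insert_of_mem hi))

include hKb hB hP hQ hε hx hγ hind hgen in
/-- **The γ-filtration of `K[γ^1 x, …, γ^n x]` is the weight filtration.** -/
theorem gammaFil_eq_Wf (k : ℕ) : gammaFil (ε : B →+* K) k = Wf n x k := by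
  apply le_antisymm
  · rw [gammaFil_eq_span]
    refine Ideal.span_le.2 ?_
    rintro y ⟨l, hl, hk, rfl⟩
    have key : ∀ l : List (ℕ × B), (∀ p ∈ l, (ε : B →+* K) p.2 = 0) →
        (l.map fun p => gamma p.1 p.2).prod ∈ Wf n x (l.map Prod.fst).sum := by
      intro l
      induction l with
      | nil =>
        intro _
        rw [List.map_nil, List.map_nil, List.prod_nil, List.sum_nil, Wf_zero]
        trivial
      | cons p l ih =>
        intro hl
        simp only [List.map_cons, List.prod_cons, List.sum_cons]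
        exact Wf_mul n x
          (gamma_mem_Wf hKb hB hP hQ ε hε n x hx hγ hind hgen p.2
            (hl p (List.mem_cons_self ..)) p.1)
          (ih fun q hq => hl q (List.mem_cons_of_mem _ hq))
    exact Wf_anti n x hk (key l hl)
  · refine Ideal.span_le.2 ?_
    rintro m ⟨e, he, rfl⟩
    refine gammaFil_anti _ he ?_
    refine prod_mem_gammaFil _ _ _ _ fun j _ => ?_
    rw [Nat.mul_comm]
    exact pow_mem_gammaFil _ (gamma_mem_gammaFil _ hx _) _

end Free

end Groth.Agent.Lib.LamModel99
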