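import Groth.Agent.Lib.LamModel99d

/-!
# `λ` in terms of `γ`, and multiplicative filtrations (helper99)

* `lam_eq_sum_gamma`: `λ^a z = Σ_r (-1)^(a-r) C(a-1, a-r) γ^r z` for `a ≥ 1`;
* `aeval_mem_filt`: evaluation lemma for an abstract multiplicative filtration.
-/

set_option autoImplicit false

namespace Groth.Agent.Lib.LamModel99

open MvPolynomial Finset _root_.LambdaRing Groth.Agent.Lib.LambdaRing
  Groth.Agent.Lib.LambdaGamma Groth.Agent.Lib.LambdaGamma6 Groth.Agent.Lib.LamFil99

universe u v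

section LamGamma

variable {A : Type*} [CommRing A] [LambdaOps A]
  (h1 : ∀ k : ℕ, 2 ≤ k → LambdaOps.lam k (1 : A) = 0)

include h1 in
lemma gammaSeries_one : gammaSeries (1 : A) = PowerSeries.mk 1 := by
  ext k
  rw [coeff_gammaSeries, gamma_eq_lam h1, PowerSeries.coeff_mk]
  have : (1 : A) + (k : A) - 1 = (k : A) := by ring
  rw [this, lam_natCast h1, Nat.choose_self, Nat.cast_one]
  rfl

include h1 in
lemma gammaSeries_neg_one : gammaSeries (-1 : A) = 1 - PowerSeries.X := by
  have h := gammaSeries_add (1 : A) (-1)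
  rw [add_neg_cancel, Groth.Agent.Lib.LambdaGamma.gammaSeries_zero, gammaSeries_one h1] at h
  calc gammaSeries (-1 : A) = gammaSeries (-1 : A) * (PowerSeries.mk 1 * (1 - PowerSeries.X)) := by
        rw [PowerSeries.mk_one_mul_one_sub_eq_one, mul_one]
    _ = (PowerSeries.mk 1 * gammaSeries (-1 : A)) * (1 - PowerSeries.X) := by ring
    _ = 1 - PowerSeries.X := by rw [← h, one_mul]

include h1 in
lemma gammaSeries_neg_natCast (m : ℕ) :
    gammaSeries (-(m : A)) = (1 - PowerSeries.X) ^ m := by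
  induction m with
  | zero => rw [Nat.cast_zero, neg_zero, Groth.Agent.Lib.LambdaGamma.gammaSeries_zero, pow_zero]
  | succ m ih =>
    have : -((m + 1 : ℕ) : A) = -(m : A) + -1 := by push_cast; ring
    rw [this, gammaSeries_add, ih, gammaSeries_neg_one h1, pow_succ]

include h1 in
lemma gamma_neg_natCast (s m : ℕ) :
    gamma s (-(m : A)) = (-1) ^ s * (m.choose s : A) := by
  rw [← coeff_gammaSeries, gammaSeries_neg_natCast h1]
  have : (1 - PowerSeries.X : PowerSeries A) ^ m =
      PowerSeries.rescale (-1 : A) ((1 + PowerSeries.X) ^ m) := by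
    rw [map_pow, map_add, map_one, PowerSeries.rescale_neg_one_X, sub_eq_add_neg]
  rw [this, PowerSeries.coeff_rescale, coeff_one_add_X_pow]

include h1 in
/-- **`λ^a` in terms of the `γ^r`** -/
theorem lam_eq_sum_gamma (a : ℕ) (ha : 1 ≤ a) (z : A) :
    LambdaOps.lam a z =
      ∑ r ∈ range (a + 1), ((-1 : A) ^ (a - r) * ((a - 1).choose (a - r) : A)) * gamma r z := by
  have e : LambdaOps.lam a z = gamma a (z + -((a - 1 : ℕ) : A)) := by
    rw [gamma_eq_lam h1]
    congr 1
    rw [Nat.cast_sub ha]; push_cast; ring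
  rw [e, gamma_add]
  refine Finset.sum_congr rfl fun r _ => ?_
  rw [gamma_neg_natCast h1, mul_comm]

end LamGamma

/-! ## abstract multiplicative filtrations -/

section Filt

variable {B : Type*} [CommRing B] (F : ℕ → Ideal B)

/-- a decreasing multiplicative filtration by ideals with `F 0 = ⊤` -/
structure IsMulFilt : Prop where
  zero : F 0 = ⊤
  anti : ∀ {a b : ℕ}, a ≤ b → F b ≤ F a
  mul : ∀ (a b : ℕ) (x : B), x ∈ F a → ∀ y ∈ F b, x * y ∈ F (a + b)

variable {F}

lemma IsMulFilt.pow_mem (hF : IsMulFilt F) {a : ℕ} {x : B} (hx : x ∈ F a) (e : ℕ) :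
    x ^ e ∈ F (e * a) := by
  induction e with
  | zero => rw [pow_zero, Nat.zero_mul, hF.zero]; trivial
  | succ e ih =>
    rw [pow_succ, Nat.succ_mul]
    exact hF.mul _ _ _ ih _ hx

lemma IsMulFilt.monomial_mem (hF : IsMulFilt F) {σ : Type*} (f : σ → B) (w : σ → ℕ)
    (hf : ∀ i, f i ∈ F (w i)) (d : σ →₀ ℕ) :
    (d.prod fun i k => f i ^ k) ∈ F (d.sum fun i k => k * w i) := by
  classical
  induction d using Finsupp.induction with
  | zero =>
    rw [Finsupp.prod_zero_index, Finsupp.sum_zero_index, hF.zero]; trivial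
  | single_add i k d hi hk ih =>
    rw [Finsupp.prod_add_index' (fun _ => pow_zero _) (fun _ _ _ => pow_add _ _ _),
      Finsupp.sum_add_index' (h := fun i k => k * w i) (fun _ => Nat.zero_mul _)
        (fun _ _ _ => Nat.add_mul _ _ _),
      Finsupp.prod_single_index (h := fun i k => f i ^ k) (pow_zero _),
      Finsupp.sum_single_index (h := fun i k => k * w i) (Nat.zero_mul _)]
    exact hF.mul _ _ _ (hF.pow_mem (hf i) k) _ ih

/-- **Evaluation lemma** for an abstract multiplicative filtration. -/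
lemma IsMulFilt.aeval_mem (hF : IsMulFilt F) {σ : Type*} (f : σ → B) (w : σ → ℕ)
    (hf : ∀ i, f i ∈ F (w i)) (p : MvPolynomial σ ℤ) (n : ℕ)
    (hp : ∀ d ∈ p.support, n ≤ d.sum fun i k => k * w i) :
    aeval f p ∈ F n := by
  rw [p.as_sum, map_sum]
  refine Ideal.sum_mem _ fun d hd => ?_
  rw [aeval_monomial]
  exact Ideal.mul_mem_left _ _ (hF.anti (hp d hd) (hF.monomial_mem f w hf d))

end Filt

end Groth.Agent.Lib.LamModel99
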